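import Cfsg.Statements.S1546
import Mathlib

set_option autoImplicit false
open Cfsg

namespace Cfsg.Agent.S1546

/-- Let p and q be odd primes and N = (p ^ q − 1) / (p − 1) = 1 + p + ⋯ + p^(q−1). Then N is odd; if p ≡ 1 (mod q) then q ∣ N; and if p is not ≡ 1 (mod q) then N is coprime to p − 1 and every divisor of N is ≡ 1 (mod q). -/
theorem result (p q : ℕ) (hp : p.Prime) (hq : q.Prime) (hp2 : p ≠ 2) (hq2 : q ≠ 2) : Odd ((p ^ q - 1) / (p - 1)) ∧ (p % q = 1 → q ∣ (p ^ q - 1) / (p - 1)) ∧ (p % q ≠ 1 → Nat.Coprime ((p ^ q - 1) / (p - 1)) (p - 1) ∧ ∀ x : ℕ, x ∣ (p ^ q - 1) / (p - 1) → x % q = 1) := by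
  haveI := Fact.mk hq
  have hp2' : 2 ≤ p := hp.two_le
  set N := (p ^ q - 1) / (p - 1) with hN
  have hsum : N = ∑ i ∈ Finset.range q, p ^ i := (Nat.geomSum_eq hp2' q).symm
  have hmul : N * (p - 1) = p ^ q - 1 :=
    Nat.div_mul_cancel (by simpa using Nat.sub_dvd_pow_sub_pow p 1 q)
  have hodd : Odd p := hp.odd_of_ne_two hp2
  have hN1 : N ≡ q [MOD (p - 1)] := by
    rw [hsum]
    have : ∀ k : ℕ, (∑ i ∈ Finset.range k, p ^ i) ≡ k [MOD (p - 1)] := by
      intro k
      induction k with
      | zero => rfl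
      | succ k ih =>
        rw [Finset.sum_range_succ]
        refine Nat.ModEq.add ih ?_
        have h1 : p ≡ 1 [MOD (p - 1)] := ((Nat.modEq_iff_dvd' (by omega)).2 dvd_rfl).symm
        simpa using h1.pow k
    exact this q
  refine ⟨?_, ?_, ?_⟩
  · rw [hsum, Finset.odd_sum_iff_odd_card_odd]
    have : (Finset.range q).filter (fun i => Odd (p ^ i)) = Finset.range q :=
      Finset.filter_true_of_mem fun i _ => hodd.pow
    rw [this, Finset.card_range]
    exact hq.odd_of_ne_two hq2
  · intro h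
    have h' : q ∣ p - 1 := by
      have := Nat.div_add_mod p q
      exact ⟨p / q, by omega⟩
    exact ((hN1.of_dvd h').dvd_iff dvd_rfl).2 dvd_rfl
  · intro h
    have hnd : ¬ q ∣ p - 1 := by
      rintro ⟨k, hk⟩
      apply h
      rw [show p = 1 + q * k by omega, Nat.add_mul_mod_self_left,
        Nat.mod_eq_of_lt hq.one_lt]
    have hcop : Nat.Coprime N (p - 1) := by
      refine Nat.coprime_of_dvd fun r hr hrN hrp => ?_
      have : r ∣ q := ((hN1.of_dvd hrp).dvd_iff dvd_rfl).1 hrN
      rw [(Nat.prime_dvd_prime_iff_eq hr hq).1 this] at hrp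
      exact hnd hrp
    refine ⟨hcop, fun x => ?_⟩
    have hprime : ∀ r : ℕ, r.Prime → r ∣ N → r % q = 1 := by
      intro r hr hrN
      haveI := Fact.mk hr
      have hpq : (p : ZMod r) ^ q = 1 := by
        have hle : 1 ≤ p ^ q := Nat.one_le_pow _ _ (by omega)
        have h0 : ((p ^ q - 1 : ℕ) : ZMod r) = 0 := by
          rw [ZMod.natCast_eq_zero_iff]
          exact hrN.trans ⟨p - 1, hmul.symm⟩
        rw [Nat.cast_sub hle, sub_eq_zero] at h0
        simpa using h0
      have hp1 : (p : ZMod r) ≠ 1 := by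
        intro he
        have : r ∣ p - 1 := by
          rw [← ZMod.natCast_eq_zero_iff, Nat.cast_sub (by omega), he]; simp
        exact hr.one_lt.ne' (Nat.eq_one_of_dvd_coprimes hcop hrN this)
      have hord : orderOf (p : ZMod r) = q := orderOf_eq_prime hpq hp1
      have hp0 : (p : ZMod r) ≠ 0 := by
        intro he; rw [he, zero_pow hq.ne_zero] at hpq; exact zero_ne_one hpq
      have hdvd : q ∣ r - 1 := hord ▸ ZMod.orderOf_dvd_card_sub_one hp0
      obtain ⟨k, hk⟩ := hdvd
      rw [show r = 1 + q * k by have := hr.two_le; omega, Nat.add_mul_mod_self_left,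
        Nat.mod_eq_of_lt hq.one_lt]
    induction x using Nat.recOnMul with
    | zero =>
      intro h0
      have : 0 < N := by
        rw [hsum]
        exact Finset.sum_pos (fun i _ => pow_pos (by omega) i) ⟨0, Finset.mem_range.2 hq.pos⟩
      rw [zero_dvd_iff] at h0
      omega
    | one => intro _; exact Nat.mod_eq_of_lt hq.one_lt
    | prime r hr => exact hprime r hr
    | mul a b iha ihb =>
      intro hab
      rw [Nat.mul_mod, iha (dvd_trans (dvd_mul_right a b) hab),
        ihb (dvd_trans (dvd_mul_left b a) hab), one_mul, Nat.mod_eq_of_lt hq.one_lt]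

end Cfsg.Agent.S1546
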