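import Cfsg.Statements.S1455
import Cfsg.Agent.Lib.OddLocal.NarrowCases
import Cfsg.Agent.Lib.OddLocal.Supplement

set_option autoImplicit false
open Cfsg

namespace Cfsg.Agent.S1455

/-- Let G be a solvable group of odd order, p a prime dividing its order, and S a Sylow p-subgroup of G that is narrow; if S has an elementary abelian subgroup of order p ^ 3 assume also G = O_{p',p,p'}(G). Then every prime dividing the index of O_{p'}(G) is at most p; if p = 3 or p is the smallest prime divisor of #G then G has a normal p-complement; G' has a normal p-complement; every subgroup of G' of order coprime to p lies in O_{p'}(G'); and G' ≤ O_{p',p}(G) with the index of O_{p',p}(G) coprime to p. -/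
theorem result {G : Type*} [Group G] [Finite G] [Group.IsSolvable G] (hodd : Odd (Nat.card G)) (p : ℕ) [Fact p.Prime] (hpG : p ∣ Nat.card G) (S : Sylow p G) (hS : Cfsg.IsNarrow p ↥(S : Subgroup G))
    (hpl : ¬ Cfsg.PRankLE p 2 ↥(S : Subgroup G) → Cfsg.PLengthLE p 1 G) :
    (∀ q : ℕ, q.Prime → q ∣ (Cfsg.pPrimeCore p G).index → q ≤ p) ∧
      ((p = 3 ∨ ∀ q : ℕ, q.Prime → q ∣ Nat.card G → p ≤ q) → Cfsg.HasNormalPComplement p G) ∧
      Cfsg.HasNormalPComplement p ↥(commutator G) ∧
      (∀ L : Subgroup ↥(commutator G), (Nat.card L).Coprime p → L ≤ Cfsg.pPrimeCore p ↥(commutator G)) ∧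
      commutator G ≤ Cfsg.pPrimePCore p G ∧ ((Cfsg.pPrimePCore p G).index).Coprime p := by
  by_cases hr : Cfsg.PRankLE p 2 (S : Subgroup G)
  · refine CfsgLib.OddLocal.RankTwoAut.rankTwo_solvable hodd hpG fun E hE hEe => ?_
    have hEp : IsPGroup p E := fun e => ⟨1, Subtype.ext (by rw [pow_one]; exact hEe e e.2)⟩
    obtain ⟨T, hT⟩ := hEp.exists_le_sylow
    obtain ⟨g, hg⟩ := MulAction.exists_smul_eq G T S
    rw [← Nat.card_congr (Subgroup.subgroupOfEquivOfLe hT).toEquiv]
    refine CfsgLib.PGroups.prankLE_of_injective hr (f := (T.equiv S).toMonoidHom) (T.equiv S).injective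
      (E.subgroupOf (T : Subgroup G)) inferInstance fun x hx => Subtype.ext (hEe _ hx)
  have hp2 : p ≠ 2 := by
    rintro rfl
    obtain ⟨w, hw⟩ := hodd
    omega
  set O := Cfsg.pPrimeCore p G with hO
  set π := QuotientGroup.mk' O
  let T : Sylow p (G ⧸ O) := S.mapSurjective (QuotientGroup.mk'_surjective O)
  have hTn : (T : Subgroup (G ⧸ O)).Normal := by
    have h1 := (CfsgLib.OddLocal.pLengthOne_sylow (hpl hr) S).1.map π (QuotientGroup.mk'_surjective O)
    rwa [Subgroup.map_sup, QuotientGroup.map_mk'_self, bot_sup_eq] at h1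
  set R := Cfsg.pCore p (G ⧸ O) with hR
  have hTR : (T : Subgroup (G ⧸ O)) = R :=
    le_antisymm (CfsgLib.Core.le_pCore T.isPGroup') (CfsgLib.Core.pCore_le_sylow T)
  have hinj : Function.Injective (π.comp (S : Subgroup G).subtype) := by
    refine (injective_iff_map_eq_one _).2 fun x hx => ?_
    have hxO : (x : G) ∈ O := (QuotientGroup.eq_one_iff _).1 hx
    refine CfsgLib.OddLocal.RankTwoAut.eq_one_of_isPGroup S.isPGroup' ?_
    refine (CfsgLib.Core.coprime_card_pPrimeCore p G).coprime_dvd_left ?_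
    rw [← Subgroup.orderOf_coe]
    exact O.orderOf_dvd_natCard hxO
  let e : (S : Subgroup G) ≃* R := (MonoidHom.ofInjective hinj).trans (MulEquiv.subgroupCongr (by
    rw [MonoidHom.range_comp, Subgroup.range_subtype]; exact hTR))
  obtain ⟨B, hB, hBr⟩ := CfsgLib.OddLocal.NarrowCases.exists_of_equiv e
    (CfsgLib.OddLocal.NarrowCases.exists_of_isNarrow hS)
  have hr' : ¬ Cfsg.PRankLE p 2 R := fun h => hr ((CfsgLib.PGroups.prankLE_congr e).2 h)
  have hRp : IsPGroup p R := CfsgLib.Core.isPGroup_pCore p _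
  let ψ : G ⧸ O →* MulAut R := MulAut.conjNormal
  have hψ : ∀ a, ψ a = 1 → (orderOf a).Coprime p → a = 1 := fun a ha hco => by
    have hmem : a ∈ Subgroup.centralizer (R : Set (G ⧸ O)) := Subgroup.mem_centralizer_iff.2 fun r hr => by
      have h := congrArg (fun φ : MulAut R => ((φ ⟨r, hr⟩ : R) : G ⧸ O)) ha
      simp only [ψ, MulAut.conjNormal_apply, MulAut.one_apply] at h
      exact (mul_inv_eq_iff_eq_mul.1 h).symm
    have hC := CfsgLib.Core.centralizer_pCore_le_of_pPrimeCore_eq_bot (p := p)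
      (CfsgLib.Core.pPrimeCore_quotient_pPrimeCore p G)
    have := CfsgLib.OddLocal.RankTwoAut.eq_one_of_isPGroup hRp (x := (⟨a, hC hmem⟩ : R)) (by rwa [Subgroup.orderOf_mk])
    exact congrArg Subtype.val this
  have hodd' : Odd (Nat.card (G ⧸ O)) := hodd.of_dvd_nat (Subgroup.card_quotient_dvd_card O)
  obtain ⟨h1, h2⟩ := CfsgLib.OddLocal.NarrowCases.pCore_of_derived
    (CfsgLib.OddLocal.NarrowAut.derived_isPGroup hodd' hp2 hRp hB hBr ψ hψ)
  refine CfsgLib.OddLocal.RankTwoAut.wrap_up hodd h1 ((Fact.out : p.Prime).coprime_iff_not_dvd.1 h2.symm)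
    fun q hq hqd => ?_
  rcases eq_or_ne q p with rfl | hqp
  · exact le_rfl
  obtain ⟨a, ha⟩ := exists_prime_orderOf_dvd_card' (G := G ⧸ O) (hp := ⟨hq⟩) q hqd
  have hco : (orderOf a).Coprime p := ha ▸ (Nat.coprime_primes hq Fact.out).2 hqp
  have h3 := CfsgLib.OddLocal.NarrowCases.orderOf_dvd hp2 hRp hr' hB hBr ψ hψ a hco
  have := (Fact.out : p.Prime).two_le
  have := Nat.le_of_dvd (by omega) (ha ▸ h3)
  omega

end Cfsg.Agent.S1455
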