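import Cfsg.Statements.S1474
import Cfsg.Agent.Lib.OddLocal.CNGroup
import Cfsg.Agent.Lib.Core.FPFComplement
import Cfsg.Agent.Lib.Core.Basic
import Mathlib.GroupTheory.SchurZassenhaus
-- import your own Cfsg.Agent.* helpers here

set_option autoImplicit false
open Cfsg

namespace Cfsg.Agent.S1474

/-- Let G be a finite group in which every non-identity element has nilpotent centralizer, not itself nilpotent, and having a nontrivial normal Sylow p-subgroup for some prime p. Let H be the largest normal nilpotent Hall subgroup of G. Then H is a nontrivial proper normal subgroup with a complement E that is a Frobenius complement in G (no non-identity element of E centralizes a non-identity element of H), and G/H is nilpotent. -/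
theorem result {G : Type*} [Group G] [Finite G] (hCN : Cfsg.IsCNGroup G) (hnn : ¬ Group.IsNilpotent G) (p : ℕ) [Fact p.Prime] (P : Sylow p G)
    (hP1 : (P : Subgroup G) ≠ ⊥) (hPn : (P : Subgroup G).Normal) :
    Cfsg.fittingHall G ≠ ⊥ ∧ Cfsg.fittingHall G ≠ ⊤ ∧
      (∃ E : Subgroup G, Subgroup.IsComplement' (Cfsg.fittingHall G) E ∧ Cfsg.IsFrobeniusComplement E ∧
        ∀ e ∈ E, e ≠ 1 → Cfsg.fittingHall G ⊓ Subgroup.centralizer ({e} : Set G) = ⊥) ∧
      Group.IsNilpotent (G ⧸ Cfsg.fittingHall G) := by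
  classical

  set H := Cfsg.fittingHall G with hHdef
  obtain ⟨hHn, hHc⟩ := CfsgLib.OddLocal.fittingHall_spec G
  have := hPn
  have hPH : (P : Subgroup G) ≤ H :=
    CfsgLib.OddLocal.le_fittingHall hPn P.isPGroup'.isNilpotent P.card_coprime_index
  have hHb : H ≠ ⊥ := fun h => hP1 (le_bot_iff.mp (h ▸ hPH))
  have hHt : H ≠ ⊤ := by
    intro h
    apply hnn
    rw [← hHdef, h] at hHn
    exact Group.nilpotent_of_mulEquiv Subgroup.topEquiv
  obtain ⟨E, hE⟩ := Subgroup.exists_right_complement'_of_coprime hHc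
  have hmem : ∀ g : G, ∃ h ∈ H, ∃ e ∈ E, g = h * e := fun g => by
    obtain ⟨⟨h, e⟩, hhe⟩ := hE.surjective g
    exact ⟨h, h.2, e, e.2, hhe.symm⟩
  have hdis : ∀ g, g ∈ H → g ∈ E → g = 1 := fun g h1 h2 =>
    Subgroup.mem_bot.mp (hE.disjoint.le_bot ⟨h1, h2⟩)
  -- no element outside `H` centralises a non-identity element of `H`
  have hfree : ∀ e ∈ E, e ≠ 1 → H ⊓ Subgroup.centralizer ({e} : Set G) = ⊥ := by
    intro e he he1
    rw [eq_bot_iff]
    rintro h ⟨hh, hhe⟩
    rw [Subgroup.mem_bot]
    by_contra hh1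
    replace hhe : h * e = e * h := Subgroup.mem_centralizer_singleton_iff.mp hhe
    obtain ⟨q, hq, hqd⟩ := Nat.exists_prime_and_dvd (n := orderOf e)
      fun h => he1 (orderOf_eq_one_iff.mp h)
    have := Fact.mk hq
    set e' := e ^ (orderOf e / q) with he'def
    have he'o : orderOf e' = q := orderOf_pow_orderOf_div (orderOf_pos e).ne' hqd
    have he'1 : e' ≠ 1 := fun h => hq.ne_one (by rw [← he'o, h, orderOf_one])
    have he'h : e' * h = h * e' := (Commute.pow_left (show Commute e h from hhe.symm) _).eq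
    have hqH : ¬ q ∣ Nat.card H := by
      intro hd
      have h2 : q ∣ H.index := by
        rw [hE.symm.index_eq_card]
        exact hqd.trans (E.orderOf_dvd_natCard he)
      exact hq.ne_one (Nat.eq_one_of_dvd_coprimes hHc hd h2)
    have hcopH : ∀ w ∈ H, (orderOf e').Coprime (orderOf w) := fun w hw => by
      rw [he'o]
      exact hq.coprime_iff_not_dvd.mpr fun hd => hqH (hd.trans (H.orderOf_dvd_natCard hw))
    -- `e'` centralises a central element of `H`, hence all of `H`
    obtain ⟨r, hr, hrd⟩ := Nat.exists_prime_and_dvd (n := Nat.card H)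
      fun h => hHb (Subgroup.card_eq_one.mp h)
    have := Fact.mk hr
    obtain ⟨z, hz, hzo, hzc⟩ := CfsgLib.OddLocal.CN.exists_central_orderOf hHn hrd
    have hz1 : z ≠ 1 := fun h => hr.ne_one (by rw [← hzo, h, orderOf_one])
    have he'z : e' * z = z * e' :=
      CfsgLib.OddLocal.CN.commute_cn hCN hh1 he'h (hzc h hh).symm (hcopH z hz)
    have he'C : e' ∈ Subgroup.centralizer (H : Set G) := Subgroup.mem_centralizer_iff.mpr fun w hw =>
      (CfsgLib.OddLocal.CN.commute_cn hCN hz1 he'z (hzc w hw) (hcopH w hw)).symm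
    -- the `q`-part of `C(H)` is normal in `G`
    have hCn : Group.IsNilpotent (Subgroup.centralizer (H : Set G)) := by
      have := hCN z hz1
      exact CfsgLib.Core.isNilpotent_of_le (H := Subgroup.centralizer (H : Set G))
        (K := Subgroup.centralizer ({z} : Set G)) fun w hw =>
          Subgroup.mem_centralizer_singleton_iff.mpr (Subgroup.mem_centralizer_iff.mp hw z hz).symm
    set C := Subgroup.centralizer (H : Set G) with hC
    have hCnorm : C.Normal := inferInstance
    obtain ⟨Q0⟩ : Nonempty (Sylow q C) := inferInstance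
    have hQ0n : (Q0 : Subgroup C).Normal := inferInstance
    have hQ0c : (Q0 : Subgroup C).Characteristic := Q0.characteristic_of_normal hQ0n
    have hQ0G : ((Q0 : Subgroup C).map C.subtype).Normal := inferInstance
    obtain ⟨Q⟩ : Nonempty (Sylow q G) := inferInstance
    have hQ0le : (Q0 : Subgroup C).map C.subtype ≤ Q := (Q0.isPGroup'.map C.subtype).le_sylow_of_normal Q
    have hQ0ne : (Q0 : Subgroup C) ≠ ⊥ := Q0.ne_bot_of_dvd_card (he'o ▸ C.orderOf_dvd_natCard he'C)
    have : Group.IsNilpotent (Q : Subgroup G) := Q.isPGroup'.isNilpotent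
    have hinf := CfsgLib.Core.inf_center_ne_bot_of_isNilpotent
      (((Q0 : Subgroup C).map C.subtype).subgroupOf (Q : Subgroup G)) (fun hb => hQ0ne (by
        rw [Subgroup.subgroupOf_eq_bot, disjoint_iff, inf_eq_left.mpr hQ0le] at hb
        exact (Subgroup.map_eq_bot_iff_of_injective _ C.subtype_injective).mp hb))
    obtain ⟨⟨c, hc0, hcc⟩, hc1⟩ := Subgroup.ne_bot_iff_exists_ne_one.mp hinf
    have hc1' : (c : G) ≠ 1 := fun h => hc1 (Subtype.ext (Subtype.ext h))
    have hcC : (c : G) ∈ C := Subgroup.map_subtype_le _ (Subgroup.mem_subgroupOf.mp hc0)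
    have hQC : (Q : Subgroup G) ≤ C := fun a ha => Subgroup.mem_centralizer_iff.mpr fun w hw => by
      refine CfsgLib.OddLocal.CN.commute_cn hCN hc1' (Subgroup.mem_centralizer_iff.mp hcC w hw)
        (congrArg Subtype.val (Subgroup.mem_center_iff.mp hcc ⟨a, ha⟩)) ?_
      obtain ⟨k, hk⟩ := IsPGroup.iff_orderOf.mp Q.isPGroup' ⟨a, ha⟩
      rw [Subgroup.orderOf_mk] at hk
      rw [hk]
      exact Nat.Coprime.pow_right _ (hq.coprime_iff_not_dvd.mpr fun hd =>
        hqH (hd.trans (H.orderOf_dvd_natCard hw))).symm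
    have hQeq : (Q : Subgroup G) = (Q0 : Subgroup C).map C.subtype := by
      refine le_antisymm (fun a ha => ?_) hQ0le
      have hpg : IsPGroup q ((Q : Subgroup G).subgroupOf C) := Q.isPGroup'.comap_subtype
      obtain ⟨R, hR⟩ := hpg.exists_le_sylow
      have := Q0.unique_of_normal hQ0n
      rw [Subsingleton.elim R Q0] at hR
      exact ⟨⟨a, hQC ha⟩, hR (Subgroup.mem_subgroupOf.mpr ha), rfl⟩
    have hQn : (Q : Subgroup G).Normal := hQeq ▸ hQ0G
    refine hqH ?_
    have hQH : (Q : Subgroup G) ≤ H :=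
      CfsgLib.OddLocal.le_fittingHall hQn Q.isPGroup'.isNilpotent Q.card_coprime_index
    have hQd : q ∣ Nat.card (Q : Subgroup G) := by
      apply Q.dvd_card_of_dvd_card
      exact he'o ▸ orderOf_dvd_natCard e'
    exact hQd.trans (Subgroup.card_dvd_of_le hQH)
  have hEb : E ≠ ⊥ := fun h => hHt (Subgroup.isComplement'_bot_right.mp (h ▸ hE))
  have hEt : E ≠ ⊤ := fun h => hHb (Subgroup.isComplement'_top_right.mp (h ▸ hE))
  refine ⟨hHb, hHt, ⟨E, hE, ⟨hEb, hEt, fun g hg => ?_⟩, hfree⟩, ?_⟩
  · rw [eq_bot_iff]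
    rintro x ⟨hxE, hxg⟩
    replace hxg : g⁻¹ * x * g ∈ E := CfsgLib.Core.mem_conj_smul_iff.mp hxg
    rw [Subgroup.mem_bot]
    by_contra hx1
    obtain ⟨h, hh, e, he, rfl⟩ := hmem g
    apply hg
    have hy : h⁻¹ * x * h ∈ E := by
      have := E.mul_mem (E.mul_mem he hxg) (E.inv_mem he)
      simpa [mul_assoc] using this
    have hxy : h⁻¹ * x * h * x⁻¹ = 1 := by
      refine hdis _ ?_ (E.mul_mem hy (E.inv_mem hxE))
      have h3 := H.mul_mem (H.inv_mem hh) ((inferInstance : H.Normal).conj_mem h hh x)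
      simpa [mul_assoc] using h3
    have hc : h * x = x * h := by
      have := congrArg (fun w => h * w * x) hxy
      simpa [mul_assoc] using this.symm
    have := (hfree x hxE hx1).le ⟨hh, Subgroup.mem_centralizer_singleton_iff.mpr hc⟩
    rw [Subgroup.mem_bot] at this
    rw [this, one_mul]
    exact he
  · have hEfix : E ≤ Subgroup.normalizer (H : Set G) := by
      rw [Subgroup.normalizer_eq_top]; exact le_top
    have hZ := CfsgLib.Core.FPF.center_ne_bot hEfix hfree hHb hEb
    obtain ⟨⟨z, hzc⟩, hz1⟩ := Subgroup.ne_bot_iff_exists_ne_one.mp hZ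
    have hEn : Group.IsNilpotent E := by
      have := hCN (z : G) fun h => hz1 (Subtype.ext (Subtype.ext h))
      exact CfsgLib.Core.isNilpotent_of_le (H := E) (K := Subgroup.centralizer ({(z : G)} : Set G))
        fun e he => Subgroup.mem_centralizer_singleton_iff.mpr
          (congrArg Subtype.val (Subgroup.mem_center_iff.mp hzc ⟨e, he⟩))
    let f := (QuotientGroup.mk' H).comp E.subtype
    have hsurj : Function.Surjective f := fun w => by
      obtain ⟨g, rfl⟩ := QuotientGroup.mk'_surjective H w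
      obtain ⟨h, hh, e, he, rfl⟩ := hmem g
      refine ⟨⟨e, he⟩, ?_⟩
      show QuotientGroup.mk' H e = QuotientGroup.mk' H (h * e)
      rw [map_mul, show QuotientGroup.mk' H h = 1 from (QuotientGroup.eq_one_iff _).mpr hh, one_mul]
    exact Group.nilpotent_of_surjective f hsurj

end Cfsg.Agent.S1474
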