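import Cfsg.Statements.S1476
import Cfsg.Agent.S1474
import Cfsg.Agent.Lib.OddLocal.CNSolvable
-- import your own Cfsg.Agent.* helpers here

set_option autoImplicit false
open Cfsg
open scoped Pointwise

namespace Cfsg.Agent.S1476

/-- Let G be a finite solvable group in which every non-identity element has nilpotent centralizer. Then either G is nilpotent; or G has a normal subgroup K with a Frobenius complement E (K E = G, K ∩ E = 1, E meets its conjugates by outside elements trivially) such that E is cyclic or E is generated by two elementwise-commuting subgroups, one cyclic of odd order and one isomorphic to a generalized quaternion group; or G is a three-step group with respect to some prime p. -/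
theorem result {G : Type*} [Group G] [Finite G] [Group.IsSolvable G] (hCN : Cfsg.IsCNGroup G) :
    Group.IsNilpotent G ∨
      (∃ K E : Subgroup G, K.Normal ∧ Subgroup.IsComplement' K E ∧ Cfsg.IsFrobeniusComplement E ∧
        (IsCyclic E ∨ ∃ C Q : Subgroup G, C ⊔ Q = E ∧ (∀ a ∈ C, ∀ b ∈ Q, a * b = b * a) ∧ IsCyclic C ∧ Odd (Nat.card C) ∧
          ∃ n : ℕ, Nonempty (↥Q ≃* QuaternionGroup (2 ^ n)))) ∨
      ∃ p : ℕ, p.Prime ∧ Cfsg.IsThreeStepGroup p G := by
  classical
  by_cases hnil : Group.IsNilpotent G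
  · exact Or.inl hnil
  refine Or.inr ?_
  -- the case of a normal Sylow subgroup
  have key : ∀ (r : ℕ) (_ : Fact r.Prime) (P : Sylow r G), (P : Subgroup G).Normal →
      (P : Subgroup G) ≠ ⊥ → (∃ K E : Subgroup G, K.Normal ∧ Subgroup.IsComplement' K E ∧ Cfsg.IsFrobeniusComplement E ∧
        (IsCyclic E ∨ ∃ C Q : Subgroup G, C ⊔ Q = E ∧ (∀ a ∈ C, ∀ b ∈ Q, a * b = b * a) ∧ IsCyclic C ∧ Odd (Nat.card C) ∧
          ∃ n : ℕ, Nonempty (↥Q ≃* QuaternionGroup (2 ^ n)))) := by
    intro r hr P hPn hPb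
    obtain ⟨hHb, -, ⟨E, hE, hEF, hfree⟩, hq⟩ :=
      Cfsg.Agent.S1474.result hCN hnil r P hPb hPn
    refine ⟨_, E, inferInstance, hE, hEF, ?_⟩
    have := hq
    refine CfsgLib.OddLocal.CN.nilpotent_fpf_structure (by rw [Subgroup.normalizer_eq_top]; exact le_top)
      hfree hHb ?_
    exact Group.nilpotent_of_mulEquiv (hE.symm.QuotientMulEquiv)
  have : Nontrivial G := by
    by_contra h
    rw [not_nontrivial_iff_subsingleton] at h
    exact hnil inferInstance
  set Φ := Cfsg.fittingSubgroup G with hΦ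
  obtain ⟨p, hp, hpc⟩ := CfsgLib.Core.exists_pCore_ne_bot (G := G)
  have := Fact.mk hp
  set F := Cfsg.pCore p G with hF
  have hFp : IsPGroup p F := CfsgLib.Core.isPGroup_pCore p G
  have hFΦ : F ≤ Φ := CfsgLib.Core.pCore_le_fittingSubgroup p
  have hpΦ : p ∣ Nat.card Φ := by
    rcases hFp.card_eq_or_dvd with h | h
    · exact absurd (Subgroup.card_eq_one.mp h) hpc
    · exact h.trans (Subgroup.card_dvd_of_le hFΦ)
  by_cases htwo : ∃ q : ℕ, q.Prime ∧ q ≠ p ∧ q ∣ Nat.card Φ
  · obtain ⟨q, hq, hne, hqd⟩ := htwo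
    have := Fact.mk hq
    obtain ⟨P, hP1, hP2⟩ :=
      CfsgLib.OddLocal.CN.exists_normal_sylow_of_two_primes hCN hne.symm hpΦ hqd
    exact Or.inl (key p ⟨hp⟩ P hP1 hP2)
  push Not at htwo
  have hΦn : Group.IsNilpotent Φ := CfsgLib.Core.isNilpotent_fittingSubgroup G
  have hΦp : IsPGroup p Φ := IsPGroup.of_card (n := (Nat.card Φ).factorization p) (by
    refine Nat.eq_pow_of_factorization_eq_single Nat.card_pos.ne' ?_
    ext r
    rcases eq_or_ne r p with rfl | hr
    · simp
    · rw [Finsupp.single_apply, if_neg (Ne.symm hr)]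
      by_cases hrp : r.Prime
      · exact Nat.factorization_eq_zero_of_not_dvd fun h => htwo r hrp hr h
      · exact Nat.factorization_eq_zero_of_not_prime _ hrp)
  have hΦF : Φ = F := le_antisymm (CfsgLib.Core.le_pCore hΦp) hFΦ
  have hCF : Subgroup.centralizer (F : Set G) ≤ F :=
    hΦF ▸ CfsgLib.Components.centralizer_fitting_le_of_isSolvable
  -- the preimage of the Fitting subgroup of the quotient
  set π := QuotientGroup.mk' F with hπ
  set A := (Cfsg.fittingSubgroup (G ⧸ F)).comap π with hA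
  have hFA : F ≤ A := fun f hf => by
    show π f ∈ Cfsg.fittingSubgroup (G ⧸ F)
    rw [hπ, show QuotientGroup.mk' F f = 1 from (QuotientGroup.eq_one_iff f).mpr hf]
    exact one_mem _
  have hbn : Group.IsNilpotent (Cfsg.fittingSubgroup (G ⧸ F)) :=
    CfsgLib.Core.isNilpotent_fittingSubgroup _
  have hbp : ¬ p ∣ Nat.card (Cfsg.fittingSubgroup (G ⧸ F)) := by
    intro hd
    obtain ⟨z, hz, hzo, -⟩ := CfsgLib.OddLocal.CN.exists_central_orderOf hbn hd
    obtain ⟨S⟩ : Nonempty (Sylow p (Cfsg.fittingSubgroup (G ⧸ F))) := inferInstance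
    have hSn : (S : Subgroup (Cfsg.fittingSubgroup (G ⧸ F))).Normal := inferInstance
    have hSc := S.characteristic_of_normal hSn
    have hSG : ((S : Subgroup (Cfsg.fittingSubgroup (G ⧸ F))).map (Subgroup.subtype _)).Normal := inferInstance
    have hle := CfsgLib.Core.le_pCore (p := p) (S.isPGroup'.map (Cfsg.fittingSubgroup (G ⧸ F)).subtype)
    have hb : Cfsg.pCore p (G ⧸ F) = ⊥ := CfsgLib.Core.pCore_quotient_pCore p G
    rw [hb, le_bot_iff,
      Subgroup.map_eq_bot_iff_of_injective _ (Subgroup.subtype_injective _)] at hle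
    exact S.ne_bot_of_dvd_card hd hle
  let φ := π.subgroupComap (Cfsg.fittingSubgroup (G ⧸ F))
  have hφ : Function.Surjective φ :=
    MonoidHom.subgroupComap_surjective_of_surjective _ _ (QuotientGroup.mk'_surjective F)
  have hker : φ.ker = F.subgroupOf A := by
    ext x
    rw [MonoidHom.mem_ker, Subgroup.mem_subgroupOf, ← QuotientGroup.eq_one_iff, Subtype.ext_iff]
    rfl
  let eA : A ⧸ F.subgroupOf A ≃* Cfsg.fittingSubgroup (G ⧸ F) :=
    (QuotientGroup.quotientMulEquivOfEq hker.symm).trans (QuotientGroup.quotientKerEquivOfSurjective φ hφ)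
  have hidx : (F.subgroupOf A).index = Nat.card (Cfsg.fittingSubgroup (G ⧸ F)) :=
    Nat.card_congr eA.toEquiv
  obtain ⟨a, ha⟩ := hFp.exists_card_eq
  have hcopF : (Nat.card (F.subgroupOf A)).Coprime (F.subgroupOf A).index := by
    rw [Nat.card_congr (Subgroup.subgroupOfEquivOfLe hFA).toEquiv, ha, hidx]
    exact Nat.Coprime.pow_left _ (hp.coprime_iff_not_dvd.mpr hbp)
  obtain ⟨B, hB⟩ := Subgroup.exists_right_complement'_of_coprime hcopF
  have hBn : Group.IsNilpotent B :=
    Group.nilpotent_of_mulEquiv ((hB.symm.QuotientMulEquiv).symm.trans eA).symm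
  set A0 := B.map A.subtype with hA0
  have hA0A : A0 ≤ A := Subgroup.map_subtype_le B
  have hA0n : Group.IsNilpotent A0 := CfsgLib.Core.isNilpotent_map _ _
  have hA0c : Nat.card A0 = Nat.card B :=
    (Nat.card_congr (Subgroup.equivMapOfInjective _ _ A.subtype_injective).toEquiv).symm
  have hpA0 : ¬ p ∣ Nat.card A0 := by
    rw [hA0c, ← hB.symm.index_eq_card, hidx]; exact hbp
  have hcop0 : ∀ {x : G}, x ∈ A0 → (orderOf x).Coprime p := fun {x} hx =>
    (hp.coprime_iff_not_dvd.mpr fun h => hpA0 (h.trans (A0.orderOf_dvd_natCard hx))).symm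
  have hordF : ∀ {x : G}, x ∈ F → ∃ k, orderOf x = p ^ k := fun {x} hx => by
    obtain ⟨k, hk⟩ := IsPGroup.iff_orderOf.mp hFp ⟨x, hx⟩
    exact ⟨k, by rwa [Subgroup.orderOf_mk] at hk⟩
  have hcopx : ∀ {x y : G}, x ∈ A0 → y ∈ F → (orderOf x).Coprime (orderOf y) := fun {x y} hx hy => by
    obtain ⟨k, hk⟩ := hordF hy
    rw [hk]; exact (hcop0 hx).pow_right k
  have hdisj : ∀ g, g ∈ F → g ∈ A0 → g = 1 := fun g h1 h2 =>
    CfsgLib.OddLocal.eq_one_of_pow_eq_one_coprime (pow_orderOf_eq_one g) (pow_orderOf_eq_one g)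
      (hcopx h2 h1)
  have hmemA : ∀ g ∈ A, ∃ f ∈ F, ∃ b ∈ A0, g = f * b := fun g hg => by
    obtain ⟨⟨⟨f, hf⟩, ⟨b, hb⟩⟩, hfb⟩ := hB.surjective ⟨g, hg⟩
    exact ⟨f, Subgroup.mem_subgroupOf.mp hf, b, ⟨b, hb, rfl⟩, (congrArg Subtype.val hfb).symm⟩
  have hA0F : A0 ≤ Subgroup.normalizer (F : Set G) := by
    rw [Subgroup.normalizer_eq_top]; exact le_top
  have hA0b : A0 ≠ ⊥ := by
    intro hb
    have hAF : A ≤ F := fun g hg => by
      obtain ⟨f, hf, b, hb', rfl⟩ := hmemA g hg
      rw [hb, Subgroup.mem_bot] at hb'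
      rw [hb', mul_one]; exact hf
    have : Nontrivial (G ⧸ F) := by
      refine QuotientGroup.nontrivial_iff.mpr fun ht => hnil ?_
      have h2 : Group.IsNilpotent (⊤ : Subgroup G) := ht ▸ hFp.isNilpotent
      exact Group.nilpotent_of_mulEquiv Subgroup.topEquiv
    obtain ⟨r, hr, hrc⟩ := CfsgLib.Core.exists_pCore_ne_bot (G := G ⧸ F)
    have := Fact.mk hr
    apply hrc
    rw [eq_bot_iff]
    intro w hw
    obtain ⟨g, rfl⟩ := QuotientGroup.mk'_surjective F w
    rw [Subgroup.mem_bot]
    exact (QuotientGroup.eq_one_iff g).mpr (hAF (CfsgLib.Core.pCore_le_fittingSubgroup r hw))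
  -- `A0` acts fixed point freely on `F`
  have hfree : ∀ b ∈ A0, b ≠ 1 → F ⊓ Subgroup.centralizer ({b} : Set G) = ⊥ := by
    intro b hb hb1
    rw [eq_bot_iff]
    rintro x ⟨hxF, hxb⟩
    rw [Subgroup.mem_bot]
    by_contra hx1
    replace hxb : x * b = b * x := Subgroup.mem_centralizer_singleton_iff.mp hxb
    obtain ⟨r, hr, hrd⟩ := Nat.exists_prime_and_dvd (n := Nat.card A0)
      fun h => hA0b (Subgroup.card_eq_one.mp h)
    have := Fact.mk hr
    obtain ⟨y, hy, hyo, hyc⟩ := CfsgLib.OddLocal.CN.exists_central_orderOf hA0n hrd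
    have hy1 : y ≠ 1 := fun h => hr.ne_one (by rw [← hyo, h, orderOf_one])
    have hxy : x * y = y * x :=
      CfsgLib.OddLocal.CN.commute_cn hCN hb1 hxb (hyc b hb).symm (hcopx hy hxF).symm
    have hxC : x ∈ F ⊓ Subgroup.centralizer (A0 : Set G) := ⟨hxF, Subgroup.mem_centralizer_iff.mpr
      fun w hw => CfsgLib.OddLocal.CN.commute_cn hCN hy1 (hyc w hw) hxy (hcopx hw hxF)⟩
    have hcent := CfsgLib.OddLocal.CN.centralizes_or_fixes_none hCN hFp.isNilpotent hA0F
      (by rw [ha]; exact (hp.coprime_iff_not_dvd.mpr hpA0).symm.pow_right a) hxC hx1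
    exact hA0b (le_bot_iff.mp fun w hw => Subgroup.mem_bot.mpr (hdisj w (hCF (hcent hw)) hw))
  have hFb : F ≠ ⊥ := hpc
  by_cases hAtop : A = ⊤
  · -- a Frobenius group
    left
    have hcomp : Subgroup.IsComplement' F A0 := by
      apply Subgroup.isComplement'_of_disjoint_and_mul_eq_univ
      · rw [disjoint_iff, eq_bot_iff]
        exact fun g hg => Subgroup.mem_bot.mpr (hdisj g hg.1 hg.2)
      · rw [Set.eq_univ_iff_forall]
        intro g
        obtain ⟨f, hf, b, hb, rfl⟩ := hmemA g (hAtop ▸ Subgroup.mem_top g)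
        exact ⟨f, hf, b, hb, rfl⟩
    have hA0t : A0 ≠ ⊤ := fun h => hFb (Subgroup.isComplement'_top_right.mp (h ▸ hcomp))
    exact ⟨F, A0, inferInstance, hcomp,
      CfsgLib.OddLocal.CN.isFrobeniusComplement_of_fpf hcomp hA0b hA0t hfree,
      CfsgLib.OddLocal.CN.nilpotent_fpf_structure hA0F hfree hFb hA0n⟩
  right
  set N := Subgroup.normalizer (A0 : Set G) with hN
  have hFN : ∀ w, w ∈ F → w ∈ N → w = 1 := fun w hwF hwN => by
    have hd : A0 ⊓ F = ⊥ := eq_bot_iff.mpr fun g hg => Subgroup.mem_bot.mpr (hdisj g hg.2 hg.1)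
    have hc := CfsgLib.Core.mem_centralizer_of_normalizes hA0F hd hwF hwN
    obtain ⟨⟨b, hb⟩, hb1⟩ := Subgroup.ne_bot_iff_exists_ne_one.mp hA0b
    have h2 := (hfree b hb fun h => hb1 (Subtype.ext h)).le
      ⟨hwF, Subgroup.mem_centralizer_singleton_iff.mpr (Subgroup.mem_centralizer_iff.mp hc b hb).symm⟩
    exact Subgroup.mem_bot.mp h2
  have hAn : A.Normal := inferInstance
  have hsupA : A0 ⊔ F = A := le_antisymm (sup_le hA0A hFA) fun g hg => by
    obtain ⟨f, hf, b, hb, rfl⟩ := hmemA g hg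
    exact mul_mem (Subgroup.mem_sup_right hf) (Subgroup.mem_sup_left hb)
  have hmemG : ∀ g : G, ∃ f ∈ F, ∃ n ∈ N, g = f * n := by
    intro g
    have hle : MulAut.conj g • A0 ≤ A0 ⊔ F := by
      rw [hsupA]
      intro w hw
      rw [CfsgLib.Core.mem_conj_smul_iff] at hw
      have := hAn.conj_mem _ (hA0A hw) g
      simpa [mul_assoc] using this
    have : Group.IsSolvable F := by
      have := hFp.isNilpotent; infer_instance
    obtain ⟨f, hf, hfg⟩ := CfsgLib.Core.exists_conj_eq_of_coprime hA0F hle (CfsgLib.Core.card_conj_smul _ A0)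
      (by rw [ha]; exact (hp.coprime_iff_not_dvd.mpr hpA0).symm.pow_right a) (Or.inl this)
    refine ⟨f, hf, f⁻¹ * g, ?_, by group⟩
    rw [hN, CfsgLib.Core.mem_normalizer_iff_conj_smul_eq, ← CfsgLib.Core.conj_smul_conj_smul, ← hfg,
      CfsgLib.Core.conj_smul_conj_smul, inv_mul_cancel, CfsgLib.Core.conj_one_smul]
  have hA0N : A0 ≤ N := Subgroup.le_normalizer
  have hAN : ∀ w, w ∈ A → w ∈ N → w ∈ A0 := fun w hw hwN => by
    obtain ⟨f, hf, b, hb, rfl⟩ := hmemA w hw
    have := hFN f hf (by simpa using mul_mem hwN (inv_mem (hA0N hb)))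
    rw [this, one_mul]; exact hb
  -- subgroups of `N` with nilpotent normal image lie in `A0`
  have hnormnil : ∀ M : Subgroup G, M ≤ N → (∀ n ∈ N, ∀ m ∈ M, n * m * n⁻¹ ∈ M) → Group.IsNilpotent M →
      M ≤ A0 := by
    intro M hMN hMn hMnil
    have hMG : (M.map π).Normal := ⟨by
      rintro _ ⟨m, hm, rfl⟩ w
      obtain ⟨g, rfl⟩ := QuotientGroup.mk'_surjective F w
      obtain ⟨f, hf, n, hn, rfl⟩ := hmemG g
      refine ⟨n * m * n⁻¹, hMn n hn m hm, ?_⟩
      rw [hπ, map_mul, map_mul, map_mul, show QuotientGroup.mk' F f = 1 from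
        (QuotientGroup.eq_one_iff f).mpr hf, one_mul, map_inv]⟩
    intro m hm
    exact hAN m (CfsgLib.Core.le_fittingSubgroup (N := M.map π) (CfsgLib.Core.isNilpotent_map π M)
      ⟨m, hm, rfl⟩) (hMN hm)
  have hA0lt : ¬ N ≤ A0 := fun h => hAtop (eq_top_iff.mpr fun g _ => by
    obtain ⟨f, hf, n, hn, rfl⟩ := hmemG g
    exact mul_mem (hFA hf) (hA0A (h hn)))
  have hodd : ¬ 2 ∣ Nat.card A0 := by
    intro h2
    obtain ⟨⟨s, hs, hs2, huniq, -⟩, -⟩ := CfsgLib.Core.FPF.exists_unique_involution hA0F hfree hFb h2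
    have hs1 : s ≠ 1 := fun h => by rw [h, orderOf_one] at hs2; omega
    refine hA0lt (hnormnil N le_rfl (fun n hn m hm => mul_mem (mul_mem hn hm) (inv_mem hn)) ?_)
    have := hCN s hs1
    refine CfsgLib.Core.isNilpotent_of_le (H := N) (K := Subgroup.centralizer ({s} : Set G)) fun n hn => ?_
    refine Subgroup.mem_centralizer_singleton_iff.mpr (mul_inv_eq_iff_eq_mul.mp ?_)
    refine huniq _ ((Subgroup.mem_normalizer_iff.mp hn s).mp hs) ?_
    rw [← hs2]
    exact (MulAut.conj n).orderOf_eq s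
  have : IsZGroup A0 := CfsgLib.Core.FPF.isZGroup_of_odd hA0F hfree hFb hodd
  have hcyc : IsCyclic A0 := inferInstance
  -- `N` acts freely on `A0` modulo `A0`
  have hfree2 : ∀ n ∈ N, ∀ b ∈ A0, b ≠ 1 → n * b = b * n → n ∈ A0 := by
    intro n hn b hb hb1 hnb
    refine hnormnil (N ⊓ Subgroup.centralizer ({b} : Set G)) inf_le_left ?_ ?_
      ⟨hn, Subgroup.mem_centralizer_singleton_iff.mpr hnb⟩
    · rintro m hm w ⟨hw, hwb⟩
      refine ⟨N.mul_mem (N.mul_mem hm hw) (N.inv_mem hm), ?_⟩
      replace hwb : w * b = b * w := Subgroup.mem_centralizer_singleton_iff.mp hwb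
      obtain ⟨i, hi⟩ : ∃ i : ℤ, m⁻¹ * b * m = b ^ i := by
        let σ : A0 →* A0 :=
          { toFun := fun v => ⟨m⁻¹ * v * m, by
              have := (Subgroup.mem_normalizer_iff.mp (inv_mem hm) v).mp v.2
              simpa using this⟩
            map_one' := Subtype.ext (by simp)
            map_mul' := fun u v => Subtype.ext (by simp only [Subgroup.coe_mul]; group) }
        obtain ⟨i, hi⟩ := MonoidHom.map_cyclic σ
        exact ⟨i, congrArg Subtype.val (hi ⟨b, hb⟩)⟩
      refine Subgroup.mem_centralizer_singleton_iff.mpr ?_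
      have hc : Commute w (m⁻¹ * b * m) := hi ▸ (show Commute w b from hwb).zpow_right i
      have := congrArg (fun v => m * v * m⁻¹) hc.eq
      simpa [mul_assoc] using this
    · have := hCN b hb1
      exact CfsgLib.Core.isNilpotent_of_le (H := N ⊓ Subgroup.centralizer ({b} : Set G))
        (K := Subgroup.centralizer ({b} : Set G)) inf_le_right
  refine ⟨p, hp, hpc, A0, hA0b, hcyc, ?_, ?_, ?_, ?_, ?_, hfree, ?_⟩
  · rw [Nat.odd_iff]; omega
  · exact (hp.coprime_iff_not_dvd.mpr hpA0).symm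
  · rw [← hF, sup_comm, hsupA]; exact hAn
  · rw [← hF, sup_comm, hsupA]; exact hAtop
  · -- the index is a power of `p`
    rw [← hF, sup_comm, hsupA]
    suffices ∀ r : ℕ, r.Prime → r ∣ A.index → r = p by
      refine ⟨A.index.primeFactorsList.length, Nat.eq_prime_pow_of_unique_prime_dvd
        Subgroup.index_ne_zero_of_finite fun {r} hr hd => this r hr hd⟩
    intro r hr hrd
    by_contra hrp
    have := Fact.mk hr
    obtain ⟨R⟩ : Nonempty (Sylow r N) := inferInstance
    have hRle : (R : Subgroup N).map N.subtype ≤ N := Subgroup.map_subtype_le _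
    have hRp : IsPGroup r ((R : Subgroup N).map N.subtype) := R.isPGroup'.map _
    obtain ⟨d, hdN, hdA, hdo⟩ : ∃ d ∈ N, d ∉ A0 ∧ orderOf d = r := by
      by_contra! hall
      -- then the Sylow subgroup of `N` lies in `A0`
      have hRA : (R : Subgroup N).map N.subtype ≤ A0 := by
        intro b hb
        by_contra hbA
        have hRn := hRp.isNilpotent
        have hRd : r ∣ Nat.card ↥((R : Subgroup N).map N.subtype) := by
          rcases hRp.card_eq_or_dvd with h | h
          · exact absurd (Subgroup.mem_bot.mp (Subgroup.card_eq_one.mp h ▸ hb)) fun h1 => hbA (by rw [h1]; exact one_mem _)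
          · exact h
        obtain ⟨c, hc, hco, hcc⟩ := CfsgLib.OddLocal.CN.exists_central_orderOf hRn hRd
        have hcA : c ∈ A0 := by
          by_contra hcA
          exact hall c (hRle hc) hcA hco
        exact hbA (hfree2 b (hRle hb) c hcA (fun h => hr.ne_one (by rw [← hco, h, orderOf_one]))
          (hcc b hb))
      have hidxN : A.index ∣ (A0.subgroupOf N).index := by
        let g := (QuotientGroup.mk' A).comp N.subtype
        have hg : Function.Surjective g := fun w => by
          obtain ⟨v, rfl⟩ := QuotientGroup.mk'_surjective A w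
          obtain ⟨f, hf, n, hn, rfl⟩ := hmemG v
          refine ⟨⟨n, hn⟩, ?_⟩
          show QuotientGroup.mk' A n = QuotientGroup.mk' A (f * n)
          rw [map_mul, show QuotientGroup.mk' A f = 1 from (QuotientGroup.eq_one_iff f).mpr (hFA hf),
            one_mul]
        have hk : g.ker = A0.subgroupOf N := by
          ext w
          rw [MonoidHom.mem_ker, Subgroup.mem_subgroupOf]
          exact ⟨fun h => hAN w ((QuotientGroup.eq_one_iff _).mp h) w.2,
            fun h => (QuotientGroup.eq_one_iff _).mpr (hA0A h)⟩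
        rw [← hk]
        exact dvd_of_eq (Nat.card_congr (QuotientGroup.quotientKerEquivOfSurjective g hg).toEquiv).symm
      refine R.not_dvd_index ((hrd.trans hidxN).trans (Subgroup.index_dvd_of_le fun w hw => ?_))
      exact Subgroup.mem_subgroupOf.mpr (hRA ⟨w, hw, rfl⟩)
    have hd1 : d ≠ 1 := fun h => hdA (h ▸ one_mem _)
    set D := Subgroup.zpowers d
    have hDn : D ≤ Subgroup.normalizer (F : Set G) := by
      rw [Subgroup.normalizer_eq_top]; exact le_top
    have hcopD : (Nat.card D).Coprime (Nat.card F) := by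
      rw [Nat.card_zpowers, hdo, ha]
      exact Nat.Coprime.pow_right _ ((Nat.coprime_primes hr hp).mpr hrp)
    -- `d` fixes a non-identity element of `F`
    obtain ⟨x, hx, hx1⟩ : ∃ x ∈ F ⊓ Subgroup.centralizer (D : Set G), x ≠ 1 := by
      by_contra! hnone
      set E := A0 ⊔ D
      have hDN : D ≤ Subgroup.normalizer (A0 : Set G) := Subgroup.zpowers_le.mpr hdN
      have hEN : E ≤ Subgroup.normalizer (F : Set G) := sup_le hA0F hDn
      have hdfix : ∀ w ∈ A0, w * d = d * w → w = 1 := fun w hw hwd => by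
        by_contra hw1
        exact hdA (hfree2 d hdN w hw hw1 hwd.symm)
      have hfreeE : ∀ e ∈ E, e ≠ 1 → F ⊓ Subgroup.centralizer ({e} : Set G) = ⊥ := by
        intro e he he1
        obtain ⟨b, hb, t, ht, rfl⟩ := (CfsgLib.Core.mem_sup_iff_mul' hDN).mp
          (show e ∈ D ⊔ A0 from sup_comm A0 D ▸ he)
        obtain ⟨i, rfl⟩ := Subgroup.mem_zpowers_iff.mp ht
        by_cases hi : d ^ i = 1
        · rw [hi, mul_one] at he1 ⊢
          exact hfree b hb he1
        have hgen : Subgroup.zpowers (d ^ i) = D := by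
          refine Subgroup.eq_of_le_of_card_ge (Subgroup.zpowers_le.mpr ht) ?_
          rw [Nat.card_zpowers, Nat.card_zpowers, hdo]
          rcases (Nat.dvd_prime hr).mp (((Subgroup.zpowers d).orderOf_dvd_natCard ht).trans
            (dvd_of_eq ((Nat.card_zpowers d).trans hdo))) with h | h
          · exact absurd (orderOf_eq_one_iff.mp h) hi
          · exact h.ge
        have hdfix' : ∀ w ∈ A0, w * d ^ i = d ^ i * w → w = 1 := fun w hw hwd => by
          refine hdfix w hw ?_
          obtain ⟨j, hj⟩ := Subgroup.mem_zpowers_iff.mp (hgen ▸ Subgroup.mem_zpowers d : d ∈ Subgroup.zpowers (d ^ i))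
          rw [← hj]
          exact ((show Commute w (d ^ i) from hwd).zpow_right j).eq
        have hdiN : d ^ i ∈ N := zpow_mem hdN i
        let θ : A0 → A0 := fun c => ⟨c * (d ^ i * (c : G)⁻¹ * (d ^ i)⁻¹),
          mul_mem c.2 ((Subgroup.mem_normalizer_iff.mp hdiN _).mp (inv_mem c.2))⟩
        have hθ : Function.Injective θ := fun c c' h => by
          have h1 : (c : G) * (d ^ i * (c : G)⁻¹ * (d ^ i)⁻¹) = c' * (d ^ i * (c' : G)⁻¹ * (d ^ i)⁻¹) :=
            congrArg Subtype.val h
          have h2 : (c' : G)⁻¹ * c * d ^ i = d ^ i * ((c' : G)⁻¹ * c) := by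
            have := congrArg (fun v => (c' : G)⁻¹ * v * d ^ i * c) h1
            simpa [mul_assoc] using this
          exact Subtype.ext (inv_mul_eq_one.mp (hdfix' _ (mul_mem (inv_mem c'.2) c.2) h2)).symm
        obtain ⟨c, hc⟩ := Finite.surjective_of_injective hθ ⟨b, hb⟩
        have hc' : (c : G) * (d ^ i * (c : G)⁻¹ * (d ^ i)⁻¹) = b := congrArg Subtype.val hc
        have he : b * d ^ i = c * d ^ i * (c : G)⁻¹ := by rw [← hc']; group
        rw [eq_bot_iff]
        rintro v ⟨hvF, hv⟩
        replace hv : v * (b * d ^ i) = b * d ^ i * v := Subgroup.mem_centralizer_singleton_iff.mp hv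
        rw [he] at hv
        have hv' : (c : G)⁻¹ * v * c ∈ F := by
          have := (inferInstance : F.Normal).conj_mem v hvF (c : G)⁻¹
          simpa using this
        have hv2 : Commute ((c : G)⁻¹ * v * c) (d ^ i) := by
          have := congrArg (fun w => (c : G)⁻¹ * w * c) hv
          show _ = _
          simpa [mul_assoc] using this
        have := hnone _ ⟨hv', by
          rw [← hgen]
          refine Subgroup.mem_centralizer_iff.mpr fun w hw => ?_
          obtain ⟨j, rfl⟩ := Subgroup.mem_zpowers_iff.mp hw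
          exact ((hv2.zpow_right j).eq).symm⟩
        rw [Subgroup.mem_bot]
        have h3 := congrArg (fun w => (c : G) * w * (c : G)⁻¹) this
        simpa [mul_assoc] using h3
      have : Group.IsSolvable A0 := inferInstance
      refine CfsgLib.Core.FPF.no_frobenius hEN hfreeE hFb (E := A0) (d := d) le_sup_left
        (Subgroup.mem_sup_right (Subgroup.mem_zpowers d)) (hdo ▸ hr) hA0b this hdN ?_
      rw [eq_bot_iff]
      rintro w ⟨hw, hwd⟩
      exact Subgroup.mem_bot.mpr (hdfix w hw (Subgroup.mem_centralizer_singleton_iff.mp hwd))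
    have hcent := CfsgLib.OddLocal.CN.centralizes_or_fixes_none hCN hFp.isNilpotent hDn hcopD hx hx1
    exact hd1 (hFN d (hCF (hcent (Subgroup.mem_zpowers d))) hdN)
  · intro x hx b hb hb1 hmem
    rw [← hF, sup_comm, hsupA] at hx
    rw [← hF] at hmem
    obtain ⟨f, hf, n, hn, rfl⟩ := hmemG x
    apply hx
    refine mul_mem (hFA hf) (hA0A (hfree2 n hn b hb hb1 ?_))
    have hnb : n * b * n⁻¹ * b⁻¹ ∈ F := by
      have h1 : f⁻¹ * (f * n * b * (f * n)⁻¹ * b⁻¹) * (b * f * b⁻¹) ∈ F :=
        mul_mem (mul_mem (inv_mem hf) hmem) ((inferInstance : F.Normal).conj_mem f hf b)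
      simpa [mul_assoc] using h1
    have := hdisj _ hnb (mul_mem ((Subgroup.mem_normalizer_iff.mp hn b).mp hb) (inv_mem hb))
    rw [mul_inv_eq_one, mul_inv_eq_iff_eq_mul] at this
    exact this

end Cfsg.Agent.S1476
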