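import Cfsg.Statements.S1374
import Cfsg.Agent.Lib.TwoGroups.Transitive
-- import your own Cfsg.Agent.* helpers here

set_option autoImplicit false
open Cfsg

namespace Cfsg.Agent.S1374

/-- Let G be a minimal simple group of odd order, M a maximal subgroup and x a non-identity element of M_σ. Then C_M(x) has order coprime to its index in C_G(x), and C_G(x) has a normal subgroup R complementing C_M(x) such that for every conjugate gMg⁻¹ containing x there is exactly one r ∈ R with rMr⁻¹ = gMg⁻¹. -/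
theorem result {G : Type*} [Group G] [Finite G] (hG : Cfsg.IsMinSimpleOddOrder G)
    (M : Subgroup G) (hM : IsCoatom M) (x : G) (hx : x ∈ Cfsg.sigmaCore M) (hx1 : x ≠ 1) :
    (Nat.card ↥(M ⊓ Subgroup.centralizer ({x} : Set G))).Coprime ((M ⊓ Subgroup.centralizer ({x} : Set G)).relIndex (Subgroup.centralizer ({x} : Set G))) ∧
      ∃ R : Subgroup G, Subgroup.centralizer ({x} : Set G) ≤ Subgroup.normalizer (R : Set G) ∧ Cfsg.IsComplIn (M ⊓ Subgroup.centralizer ({x} : Set G)) R (Subgroup.centralizer ({x} : Set G)) ∧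
        ∀ g : G, x ∈ M.map (MulAut.conj g).toMonoidHom → ∃! r : G, r ∈ R ∧ M.map (MulAut.conj r).toMonoidHom = M.map (MulAut.conj g).toMonoidHom := by
  classical
  have hxM : x ∈ M := CfsgLib.TwoGroups.TauTwo.sigmaCore_le M hx
  set C := Subgroup.centralizer ({x} : Set G) with hC
  by_cases hle : C ≤ M
  · have hMC : M ⊓ C = C := inf_eq_right.mpr hle
    rw [hMC]
    refine ⟨by rw [Subgroup.relIndex_self]; exact Nat.coprime_one_right _, ⊥, ?_, ?_, fun g hg => ?_⟩
    · rw [Subgroup.normalizer_eq_top]; exact le_top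
    · exact ⟨le_rfl, bot_le, inf_bot_eq _, fun m hm => ⟨m, hm, 1, one_mem _, (mul_one m).symm⟩⟩
    · obtain ⟨c, hc, e⟩ := CfsgLib.TwoGroups.Transitive.exists_centralizer_conj hG hM hx hx1 hg
      refine ⟨1, ⟨one_mem _, ?_⟩, fun y hy => Subgroup.mem_bot.mp hy.1⟩
      rw [← e, CfsgLib.TwoGroups.Transitive.map_conj_of_mem (one_mem M),
        CfsgLib.TwoGroups.Transitive.map_conj_of_mem (hle hc)]
  obtain ⟨H, o⟩ := CfsgLib.OddLocal.Support.exists_overgroup hG hM hx hx1 hle
  set R := Cfsg.sigmaCore H ⊓ C with hR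
  refine ⟨?_, R, o.centralizer_le_normalizer, o.factor, fun g hg => ?_⟩
  · rw [CfsgLib.OddLocal.IsComplIn_relIndex_left o.factor]
    exact ((CfsgLib.OddLocal.FixedTauOne.coprime_complement hG o.max o.compl).coprime_dvd_left
      (Subgroup.card_dvd_of_le (inf_le_inf_left M o.le))).coprime_dvd_right (Subgroup.card_dvd_of_le inf_le_left)
  obtain ⟨c, hc, e⟩ := CfsgLib.TwoGroups.Transitive.exists_centralizer_conj hG hM hx hx1 hg
  obtain ⟨k, hk, r, hr, e'⟩ := o.factor.2.2.2 c hc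
  have hmem : k * r * k⁻¹ ∈ R :=
    (Subgroup.mem_normalizer_iff.mp (o.centralizer_le_normalizer hk.2) r).mp hr
  have hmap : M.map (MulAut.conj (k * r * k⁻¹)).toMonoidHom = M.map (MulAut.conj g).toMonoidHom := by
    rw [← e, e', show k * r = k * r * k⁻¹ * k by group, CfsgLib.TwoGroups.Transitive.map_conj_mul _ k,
      CfsgLib.TwoGroups.Transitive.map_conj_of_mem hk.1, show k * r * k⁻¹ * k * k⁻¹ = k * r * k⁻¹ by group]
  refine ⟨k * r * k⁻¹, ⟨hmem, hmap⟩, fun y hy => ?_⟩
  have h1 : M.map (MulAut.conj ((k * r * k⁻¹)⁻¹ * y)).toMonoidHom = M := by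
    rw [CfsgLib.TwoGroups.Transitive.map_conj_mul, hy.2, ← hmap, ← CfsgLib.TwoGroups.Transitive.map_conj_mul,
      inv_mul_cancel, CfsgLib.TwoGroups.Transitive.map_conj_of_mem (one_mem M)]
  have h2 : (k * r * k⁻¹)⁻¹ * y ∈ Cfsg.sigmaCore H ⊓ M :=
    ⟨Subgroup.mul_mem _ (Subgroup.inv_mem _ hmem.1) hy.1.1,
      CfsgLib.TwoGroups.NonSigma.mem_normalizer_self hG hM (CfsgLib.TwoGroups.ProperPLength.maximal_ne_bot hG hM) h1⟩
  rw [o.inf_eq, Subgroup.mem_bot, inv_mul_eq_one] at h2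
  exact h2.symm

end Cfsg.Agent.S1374
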