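import Cfsg.Statements.S1378
import Cfsg.Agent.Lib.OddLocal.SigmaDisjoint
-- import your own Cfsg.Agent.* helpers here

set_option autoImplicit false
open Cfsg

namespace Cfsg.Agent.S1378

/-- Let G be a minimal simple group of odd order. Then every prime dividing the order of G belongs to σ(M) for some maximal subgroup M, and if σ(M) and σ(N) have a prime in common for maximal subgroups M, N then N is conjugate to M; so the sets σ(M_i) over representatives of the conjugacy classes of maximal subgroups partition the prime divisors of #G. -/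
theorem result {G : Type*} [Group G] [Finite G] (hG : Cfsg.IsMinSimpleOddOrder G) :
    (∀ p : ℕ, p.Prime → p ∣ Nat.card G → ∃ M : Subgroup G, IsCoatom M ∧ p ∈ Cfsg.sigma M) ∧
      ∀ M N : Subgroup G, IsCoatom M → IsCoatom N → (Cfsg.sigma M ∩ Cfsg.sigma N).Nonempty → ∃ g : G, N = M.map (MulAut.conj g).toMonoidHom := by
  refine ⟨fun p hp hd => ?_, fun M N hM hN hne => ?_⟩
  · have := Fact.mk hp
    obtain ⟨S⟩ : Nonempty (Sylow p G) := inferInstance
    have hSb : (S : Subgroup G) ≠ ⊥ := fun e => by
      have := S.not_dvd_index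
      rw [e, Subgroup.index_bot] at this
      exact this hd
    obtain ⟨M, hM, hNS⟩ := (eq_top_or_exists_le_coatom _).resolve_left
      (CfsgLib.TwoGroups.TransitivityHyp.normalizer_ne_top hG hSb
        (CfsgLib.TwoGroups.Uniqueness.ne_top_of_pGroup hG S.2))
    have hSM : (S : Subgroup G) ≤ M := Subgroup.le_normalizer.trans hNS
    obtain ⟨v, V, hv, hV, hVS⟩ := CfsgLib.OddLocal.FixedTauOne.exists_prime_sub hSb
    refine ⟨M, hM, hp, ?_, S.subtype hSM, ?_⟩
    · obtain ⟨k, hk⟩ := IsPGroup.iff_card.mp S.2
      have hk0 : k ≠ 0 := by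
        rintro rfl
        exact hSb (Subgroup.eq_bot_of_card_eq _ (hk.trans (pow_zero p)))
      exact ((dvd_pow_self p hk0).trans hk.symm.dvd).trans (Subgroup.card_dvd_of_le hSM)
    · rwa [Sylow.coe_subtype, Subgroup.map_subgroupOf_eq_of_le hSM]
  · obtain ⟨q, hqM, hqN⟩ := hne
    have := Fact.mk hqM.1
    exact CfsgLib.OddLocal.SigmaDisjoint.sigma_disjoint hG hM hN hqM hqN

end Cfsg.Agent.S1378
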