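import Cfsg.Statements.S1417
import Cfsg.Agent.Lib.TwoGroups.TauTwoComplement


set_option autoImplicit false
open Cfsg

namespace Cfsg.Agent.S1417

/-- Let G be a minimal simple group of odd order, M a maximal subgroup, p ∈ τ₂(M) and A ≤ M elementary abelian of order p ^ 2. Then (a) M_σ is nilpotent; (b) every Sylow p-subgroup P of M is abelian, and if A ≤ P then the elements of P of order dividing p are exactly those of A and N_G(P) is not contained in M; (c) M normalizes M_σA; (d) M_σ ∩ C_G(A) = 1; (e) M_σ ∩ M* = 1 for every maximal subgroup M* ≠ M containing A; (f) M_σ ∩ C_G(A₁) = 1 for some subgroup A₁ ≤ A of order p. -/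
theorem result {G : Type*} [Group G] [Finite G] (hG : Cfsg.IsMinSimpleOddOrder G)
    (M : Subgroup G) (hM : IsCoatom M) (p : ℕ) [Fact p.Prime] (hp : p ∈ Cfsg.tau2 M) (A : Subgroup G) (hA : (A ≤ M ∧ Cfsg.IsElementaryAbelian p A ∧ Nat.card A = p ^ 2)) :
    Group.IsNilpotent (Cfsg.sigmaCore M) ∧
      (∀ P : Sylow p M, IsMulCommutative (P : Subgroup M) ∧
        (A ≤ (P : Subgroup M).map M.subtype →
          (∀ x ∈ (P : Subgroup M).map M.subtype, x ^ p = 1 ↔ x ∈ A) ∧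
          ¬ Subgroup.normalizer ((((P : Subgroup M).map M.subtype : Subgroup G)) : Set G) ≤ M)) ∧
      M ≤ Subgroup.normalizer ((Cfsg.sigmaCore M ⊔ A : Subgroup G) : Set G) ∧
      Cfsg.sigmaCore M ⊓ Subgroup.centralizer (A : Set G) = ⊥ ∧
      (∀ Mstar : Subgroup G, IsCoatom Mstar → Mstar ≠ M → A ≤ Mstar → Cfsg.sigmaCore M ⊓ Mstar = ⊥) ∧
      ∃ A₁ : Subgroup G, A₁ ≤ A ∧ Nat.card A₁ = p ∧ Cfsg.sigmaCore M ⊓ Subgroup.centralizer (A₁ : Set G) = ⊥ := by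
  obtain ⟨hAM, hAe, hA2⟩ := hA
  have hA' : CfsgLib.TwoGroups.TauTwo.IsPair p A := ⟨hAe, hA2⟩
  have hpσ := hp.2.1
  have hd := CfsgLib.TwoGroups.TauTwo.sigma_inf_centralizer hG hM hA' hAM hpσ
  refine ⟨CfsgLib.TwoGroups.TauTwo.isNilpotent_sigmaCore hG hM hA' hAM hpσ, fun P => ?_, ?_, hd,
    fun L hL hne hAL => CfsgLib.TwoGroups.TauTwo.sigmaCore_inf_eq_bot hG hM hA' hAM hpσ hL hne hAL,
    CfsgLib.TwoGroups.TauTwo.exists_fpf_line hG hM hA' hAM hpσ⟩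
  · obtain ⟨hc, hΩ⟩ := CfsgLib.TwoGroups.TauTwo.sylow_abelian hG hM hA' hAM hpσ P
    refine ⟨hc, fun hAP => ⟨hΩ hAP, fun hle => ?_⟩⟩
    exact hpσ ⟨Fact.out, hA'.dvd_card.trans (Subgroup.card_dvd_of_le hAM), P, hle⟩
  · obtain ⟨E, hE, hAE⟩ := CfsgLib.TwoGroups.TauTwo.exists_complement_ge hG hM hAM fun r hr hd => by
      obtain ⟨k, hk⟩ := IsPGroup.iff_card.mp hA'.isPGroup
      rwa [(Nat.prime_dvd_prime_iff_eq hr Fact.out).mp (hr.dvd_of_dvd_pow (hk ▸ hd))]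
    have hEA := (CfsgLib.TwoGroups.TauTwo.le_normalizer_pair hG hM hA' hpσ hE hAE).1
    intro x hx
    obtain ⟨e, he, s, hs, rfl⟩ := hE.2.2.2 x hx
    refine Subgroup.mul_mem _ ?_ (Subgroup.le_normalizer (Subgroup.mem_sup_left hs))
    refine CfsgLib.Transfer.map_conj_eq_self_iff.mp ?_
    rw [Subgroup.map_sup, CfsgLib.Transfer.map_conj_eq_self_iff.mpr (hEA he),
      CfsgLib.Transfer.map_conj_eq_self_iff.mpr
        (CfsgLib.TwoGroups.TauTwo.le_normalizer_sigmaCore M (hE.1 he))]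

end Cfsg.Agent.S1417
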