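import Cfsg.Statements.S1443
import Cfsg.Agent.Lib.OddLocal.Coprime

set_option autoImplicit false
open Cfsg

namespace Cfsg.Agent.S1443

/-- Let G be a finite group, p an odd prime, H a p-subgroup, E an elementary abelian subgroup of H, and A a subgroup of order coprime to p normalizing H. If A centralizes every element of order p in H ∩ C_G(E), then A centralizes H. -/
theorem result {G : Type*} [Group G] [Finite G] (p : ℕ) [Fact p.Prime] (hp : p ≠ 2) (H E A : Subgroup G) (hH : IsPGroup p H) (hE : E ≤ H) (hEe : Cfsg.IsElementaryAbelian p E)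
    (hA : (A ≤ Subgroup.normalizer (H : Set G))) (hcop : (Nat.card A).Coprime p)
    (hfix : ∀ x ∈ (H ⊓ Subgroup.centralizer (E : Set G)), orderOf x = p → A ≤ Subgroup.centralizer ({x} : Set G)) :
    A ≤ Subgroup.centralizer (H : Set G) := by
  have hcop' : (Nat.card A).Coprime (Nat.card H) := by
    obtain ⟨k, hk⟩ := IsPGroup.iff_card.mp hH
    rw [hk]; exact hcop.pow_right k
  refine CfsgLib.OddLocal.centralizes_of_selfcentralizing_fixed hH.isNilpotent hA hcop' ?_
  have hEA : E ≤ Subgroup.centralizer (A : Set G) := by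
    intro e he
    rw [Subgroup.mem_centralizer_iff]
    intro a ha
    by_cases he1 : e = 1
    · simp [he1]
    · have hmem : e ∈ H ⊓ Subgroup.centralizer (E : Set G) := by
        refine Subgroup.mem_inf.mpr ⟨hE he, Subgroup.mem_centralizer_iff.mpr fun y hy => ?_⟩
        have := hEe.1
        exact congrArg Subtype.val (mul_comm' (⟨y, hy⟩ : E) ⟨e, he⟩)
      exact (Subgroup.mem_centralizer_iff.mp (hfix e hmem (orderOf_eq_prime (hEe.2 e he) he1) ha) e rfl).symm
  have hEC : E ≤ H ⊓ Subgroup.centralizer (A : Set G) := le_inf hE hEA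
  have hAL : A ≤ Subgroup.centralizer ((H ⊓ Subgroup.centralizer (E : Set G) : Subgroup G) : Set G) := by
    intro a ha
    refine CfsgLib.OddLocal.centralizes_of_fixes_order_p hp (CfsgLib.OddLocal.pow_card_eq_one_of_mem ha)
      hcop (hH.to_le inf_le_left) ?_ fun x hx hxo =>
        (Subgroup.mem_centralizer_iff.mp (hfix x hx hxo ha) x rfl).symm
    have haE : a ∈ Subgroup.centralizer (E : Set G) := Subgroup.le_centralizer_iff.mp hEA ha
    rw [Subgroup.mem_normalizer_iff]
    intro x
    simp only [Subgroup.mem_inf]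
    refine and_congr (Subgroup.mem_normalizer_iff.mp (hA ha) x) ⟨fun hx => ?_, fun hx => ?_⟩
    · exact mul_mem (mul_mem haE hx) (inv_mem haE)
    · simpa [mul_assoc] using mul_mem (mul_mem (inv_mem haE) hx) haE
  refine le_inf inf_le_left ?_
  calc H ⊓ Subgroup.centralizer ((H ⊓ Subgroup.centralizer (A : Set G) : Subgroup G) : Set G)
      ≤ H ⊓ Subgroup.centralizer (E : Set G) :=
        inf_le_inf_left _ (Subgroup.centralizer_le hEC)
    _ ≤ Subgroup.centralizer (A : Set G) := Subgroup.le_centralizer_iff.mp hAL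

end Cfsg.Agent.S1443
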