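import Cfsg.Statements.S1432
import Cfsg.Agent.Lib.OddLocal.KappaNormal
-- import your own Cfsg.Agent.* helpers here

set_option autoImplicit false
open Cfsg

namespace Cfsg.Agent.S1432

/-- Let G be a minimal simple group of odd order, M a maximal subgroup, x a non-identity element of M_σ and x' a non-identity element of C_M(x) no prime divisor of whose order lies in σ(M). Then either all prime divisors of the order of x' lie in κ(M) and C_G(x) ≤ M; or all of them lie in τ₂(M), they all lie in σ(L) for a single maximal subgroup L, and C_G(x') ≤ M with M the unique maximal subgroup containing C_G(x'). -/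
theorem result {G : Type*} [Group G] [Finite G] (hG : Cfsg.IsMinSimpleOddOrder G)
    (M : Subgroup G) (hM : IsCoatom M) (x : G) (hx : x ∈ Cfsg.sigmaCore M) (hx1 : x ≠ 1) (x' : G) (hx' : x' ∈ M ⊓ Subgroup.centralizer ({x} : Set G)) (hx'1 : x' ≠ 1)
    (hσ : ∀ p : ℕ, p.Prime → p ∣ orderOf x' → p ∉ Cfsg.sigma M) :
    ((∀ p : ℕ, p.Prime → p ∣ orderOf x' → p ∈ Cfsg.kappa M) ∧ Subgroup.centralizer ({x} : Set G) ≤ M) ∨
      ((∀ p : ℕ, p.Prime → p ∣ orderOf x' → p ∈ Cfsg.tau2 M) ∧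
        (∃ L : Subgroup G, IsCoatom L ∧ ∀ p : ℕ, p.Prime → p ∣ orderOf x' → p ∈ Cfsg.sigma L) ∧
        (Subgroup.centralizer ({x'} : Set G) ≤ M ∧ ∀ L : Subgroup G, IsCoatom L → Subgroup.centralizer ({x'} : Set G) ≤ L → L = M)) := by
  obtain ⟨hx'M, hx'C⟩ := hx'
  obtain ⟨E, hE, hx'E'⟩ := CfsgLib.TwoGroups.TauTwo.exists_complement_ge hG hM
    (Subgroup.zpowers_le.mpr hx'M) fun r hr hd => hσ r hr (by rwa [Nat.card_zpowers] at hd)
  have hx'E : x' ∈ E := hx'E' (Subgroup.mem_zpowers x')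
  have hcomm : x' * x = x * x' := Subgroup.mem_centralizer_singleton_iff.mp hx'C
  -- a line for each prime of `x'`
  have hline : ∀ p : ℕ, p.Prime → p ∣ orderOf x' → ∃ X : Subgroup G, Nat.card X = p ∧ X ≤ E ∧
      X ≤ Subgroup.zpowers x' ∧ x ∈ Cfsg.sigmaCore M ⊓ Subgroup.centralizer (X : Set G) := by
    intro p hp hd
    have := Fact.mk hp
    obtain ⟨z, hz⟩ := exists_prime_orderOf_dvd_card' (G := Subgroup.zpowers x') p (by rwa [Nat.card_zpowers])
    have hzle : Subgroup.zpowers (z : G) ≤ Subgroup.zpowers x' := Subgroup.zpowers_le.mpr z.2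
    refine ⟨Subgroup.zpowers (z : G), by rw [Nat.card_zpowers, Subgroup.orderOf_coe, hz], hzle.trans hx'E', hzle,
      hx, Subgroup.mem_centralizer_iff.mpr ?_⟩
    intro w hw
    obtain ⟨n, rfl⟩ := Subgroup.mem_zpowers_iff.mp (hzle hw)
    exact ((show Commute x' x from hcomm).zpow_left n).eq
  have hne : ∀ X : Subgroup G, x ∈ Cfsg.sigmaCore M ⊓ Subgroup.centralizer (X : Set G) →
      Cfsg.sigmaCore M ⊓ Subgroup.centralizer (X : Set G) ≠ ⊥ := fun X h e =>
    hx1 (Subgroup.mem_bot.mp (e ▸ h))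
  have hcl : ∀ p : ℕ, p.Prime → p ∣ orderOf x' → p ∈ Cfsg.kappa M ∨ p ∈ Cfsg.tau2 M := by
    intro p hp hd
    have := Fact.mk hp
    obtain ⟨X, hX, hXE, -, hxX⟩ := hline p hp hd
    by_cases h1 : Cfsg.PRankLE p 1 M
    · exact Or.inl (CfsgLib.OddLocal.Kappa.mem_kappa hG (hσ p hp hd) h1 hX (hXE.trans hE.1) (hne X hxX))
    · exact Or.inr ⟨hp, hσ p hp hd, not_not.mp fun h => hσ p hp hd
        (CfsgLib.TwoGroups.SigmaTrans.alpha_subset_sigma hG hM ⟨hp, h⟩), h1⟩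
  have hx'o : orderOf x' ≠ 1 := fun h => hx'1 (orderOf_eq_one_iff.mp h)
  by_cases hk : ∃ p : ℕ, p.Prime ∧ p ∣ orderOf x' ∧ p ∈ Cfsg.kappa M
  · obtain ⟨s, hs, hsd, hsk⟩ := hk
    have := Fact.mk hs
    obtain ⟨X, hX, hXE, hXx, hxX⟩ := hline s hs hsd
    have hr1 := CfsgLib.OddLocal.Kappa.rank_one_of_kappa hsk
    refine Or.inl ⟨fun p hp hd => (hcl p hp hd).resolve_right fun hτ => ?_, ?_⟩
    · have := Fact.mk hp
      obtain ⟨R, hR, hRE, hRx, -⟩ := hline p hp hd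
      rcases CfsgLib.OddLocal.Kappa.tau_of_kappa hsk with hs1 | hs3
      · refine CfsgLib.OddLocal.Kappa.not_tau2_of_commute hG hM hE hs1 hX hXE (hne X hxX) hR
          (le_inf hRE fun a ha => Subgroup.mem_centralizer_iff.mpr fun b hb => ?_) hτ
        obtain ⟨m, rfl⟩ := Subgroup.mem_zpowers_iff.mp (hRx ha)
        obtain ⟨n, rfl⟩ := Subgroup.mem_zpowers_iff.mp (hXx hb)
        exact ((Commute.refl x').zpow_zpow n m).eq
      · obtain ⟨L, c⟩ := CfsgLib.OddLocal.TauThree.exists_cfg hG hM hE hs3 hX hXE (hne X hxX)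
        exact hτ.2.2.2 (c.rank_one hG (hR ▸ Subgroup.card_dvd_of_le hRE))
    · obtain ⟨v, V, hv, hV, hVx⟩ := CfsgLib.OddLocal.FixedTauOne.exists_prime_sub
        (fun e => hx1 (Subgroup.zpowers_eq_bot.mp e) : Subgroup.zpowers x ≠ ⊥)
      have honly := ((CfsgLib.OddLocal.TauThree.pack_of_rank_one hG hM hX (hXE.trans hE.1) (hσ s hs hsd) hr1
        (hne X hxX) (CfsgLib.OddLocal.TauThree.rigid hG s)).1 v V hv hV
        (hVx.trans (Subgroup.zpowers_le.mpr hxX))).1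
      refine le_trans ?_ honly.1
      rw [CfsgLib.OddLocal.SylowUnique.centralizer_singleton_eq]
      exact Subgroup.centralizer_le hVx
  · push Not at hk
    have hτ : ∀ p : ℕ, p.Prime → p ∣ orderOf x' → p ∈ Cfsg.tau2 M := fun p hp hd =>
      (hcl p hp hd).resolve_left (hk p hp hd)
    refine Or.inr ⟨hτ, ?_, CfsgLib.TwoGroups.TauTwo.centralizer_tau2_element hG hM hx'M hx'1 hτ
      ⟨hx'M, x, hx, hx1, hcomm⟩⟩
    obtain ⟨p, hp, hpd⟩ := Nat.exists_prime_and_dvd hx'o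
    have := Fact.mk hp
    obtain ⟨A, hA, hAE⟩ := CfsgLib.TwoGroups.TauTwo.exists_pair_complement hG hM hE (hτ p hp hpd)
    have hAM : A ≤ M := hAE.trans hE.1
    obtain ⟨H, hH, hNH⟩ := (eq_top_or_exists_le_coatom _).resolve_left
      (CfsgLib.TwoGroups.TransitivityHyp.normalizer_ne_top hG hA.ne_bot
        (CfsgLib.TwoGroups.Uniqueness.ne_top_of_pGroup hG hA.isPGroup))
    have hpH : p ∈ Cfsg.sigma H := by
      by_contra h
      exact CfsgLib.TwoGroups.TauTwo.not_normalizer_le hG hH hA (Subgroup.le_normalizer.trans hNH) h hNH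
    have hneH : H ≠ M := fun e => (hσ p hp hpd) (e ▸ hpH)
    refine ⟨H, hH, fun r hr hrd => ?_⟩
    have := Fact.mk hr
    by_contra hrH
    have hrp : r ≠ p := fun e => hrH (e ▸ hpH)
    obtain ⟨B, hB, hBE⟩ := CfsgLib.TwoGroups.TauTwo.exists_pair_complement hG hM hE (hτ r hr hrd)
    obtain ⟨hEA, -, -⟩ := CfsgLib.TwoGroups.TauTwo.le_normalizer_pair hG hM hA (hσ p hp hpd) hE hAE
    have hBH : B ≤ H := (hBE.trans hEA).trans hNH
    have hbot := CfsgLib.TwoGroups.TauTwo.sigmaCore_inf_eq_bot hG hH hB hBH hrH hM hneH.symm (hBE.trans hE.1)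
    exact hA.ne_bot (le_bot_iff.mp (hbot ▸ le_inf
      (CfsgLib.OddLocal.SigmaOrderP.le_sigmaCore hG hH hpH hA.isPGroup (Subgroup.le_normalizer.trans hNH)) hAM))

end Cfsg.Agent.S1432
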