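import Cfsg.Statements.S1431
import Cfsg.Agent.Lib.OddLocal.KappaNormal
-- import your own Cfsg.Agent.* helpers here

set_option autoImplicit false
open Cfsg

namespace Cfsg.Agent.S1431

/-- Let G be a minimal simple group of odd order, M a maximal subgroup, K ≠ 1 a Hall κ(M)-subgroup of M and K* = M_σ ∩ C_G(K). Then K* ∩ gMg⁻¹ = 1 for g ∉ M; K ∩ gKg⁻¹ = 1 for g ∈ M outside K K*; for every prime p dividing the order of K* and every Sylow p-subgroup S of M_σ, M is the unique maximal subgroup containing S, and S is not contained in K*; and every subgroup Y of G whose prime divisors lie in σ(M) and with Y ∩ K* ≠ 1 is contained in M_σ. -/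
theorem result {G : Type*} [Group G] [Finite G] (hG : Cfsg.IsMinSimpleOddOrder G)
    (M : Subgroup G) (hM : IsCoatom M) (K : Subgroup G) (hK : Cfsg.IsPiHallOf (Cfsg.kappa M) K M) (hK1 : K ≠ ⊥) :
    (∀ g : G, g ∉ M → (Cfsg.sigmaCore M ⊓ Subgroup.centralizer (K : Set G)) ⊓ M.map (MulAut.conj g).toMonoidHom = ⊥) ∧
      (∀ g ∈ M, g ∉ K ⊔ (Cfsg.sigmaCore M ⊓ Subgroup.centralizer (K : Set G)) → K ⊓ K.map (MulAut.conj g).toMonoidHom = ⊥) ∧
      (∀ (p : ℕ), p.Prime → p ∣ Nat.card ↥(Cfsg.sigmaCore M ⊓ Subgroup.centralizer (K : Set G)) → ∀ S : Sylow p ↥(Cfsg.sigmaCore M),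
        Cfsg.InUniqueMaximal ((S : Subgroup ↥(Cfsg.sigmaCore M)).map (Cfsg.sigmaCore M).subtype) ∧
        (S : Subgroup ↥(Cfsg.sigmaCore M)).map (Cfsg.sigmaCore M).subtype ≤ M ∧
        ¬ (S : Subgroup ↥(Cfsg.sigmaCore M)).map (Cfsg.sigmaCore M).subtype ≤ (Cfsg.sigmaCore M ⊓ Subgroup.centralizer (K : Set G))) ∧
      ∀ Y : Subgroup G, (∀ p : ℕ, p.Prime → p ∣ Nat.card Y → p ∈ Cfsg.sigma M) → Y ⊓ (Cfsg.sigmaCore M ⊓ Subgroup.centralizer (K : Set G)) ≠ ⊥ → Y ≤ Cfsg.sigmaCore M := by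
  obtain ⟨E, d⟩ := CfsgLib.OddLocal.Kappa.exists_data hG hM hK hK1
  set W := Cfsg.sigmaCore M ⊓ Subgroup.centralizer (K : Set G) with hW
  have hWM : W ≤ M := inf_le_left.trans (CfsgLib.OddLocal.SigmaOrderP.sigmaCore_le M)
  have key : ∀ (t : ℕ) (V : Subgroup G), t.Prime → Nat.card V = t → V ≤ W → ∀ g : G,
      V ≤ M.map (MulAut.conj g).toMonoidHom → g ∈ M := by
    intro t V ht hV hVW g hg
    have := Fact.mk ht
    exact CfsgLib.OddLocal.SigmaIntersection.mem_of_only hG hM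
      (CfsgLib.TwoGroups.TauTwo.mem_sigma_of_dvd ht (hV ▸ Subgroup.card_dvd_of_le (hVW.trans inf_le_left)) hG hM)
      (CfsgLib.OddLocal.FixedTauOne.isPGroup_of_card_eq hV) (CfsgLib.OddLocal.FixedTauOne.ne_bot_of_card_eq hV)
      (hVW.trans hWM) (d.only_fixed hG hV hVW).1 hg
  refine ⟨fun g hg => ?_, fun g hgM hg => ?_, fun p hp hpd S => ?_, fun Y hY hne => ?_⟩
  · by_contra h
    obtain ⟨t, V, ht, hV, hVle⟩ := CfsgLib.OddLocal.FixedTauOne.exists_prime_sub h
    exact hg (key t V ht hV (hVle.trans inf_le_left) g (hVle.trans inf_le_right))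
  · by_contra h
    obtain ⟨t, X, ht, hX, hXle⟩ := CfsgLib.OddLocal.FixedTauOne.exists_prime_sub h
    have := Fact.mk ht
    have hXK : X ≤ K := hXle.trans inf_le_left
    set X' := X.map (MulAut.conj g⁻¹).toMonoidHom with hX'
    have hX'K : X' ≤ K := by
      have h1 : X' ≤ (K.map (MulAut.conj g).toMonoidHom).map (MulAut.conj g⁻¹).toMonoidHom :=
        Subgroup.map_mono (hXle.trans inf_le_right)
      rwa [CfsgLib.OddLocal.PrimeActionTools.map_conj_inv] at h1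
    have hX'c : Nat.card X' = t := by
      rw [hX', Subgroup.card_map_of_injective (MulAut.conj g⁻¹).injective, hX]
    have he := d.eq_line hG hX'c hX'K hX hXK
    have hmem : g ∈ M ⊓ Subgroup.normalizer (X : Set G) :=
      ⟨hgM, (Subgroup.normalizer (X : Set G)).inv_mem_iff.mp (CfsgLib.Transfer.map_conj_eq_self_iff.mp he)⟩
    exact hg ((d.normalizer_eq hG (hX.symm ▸ ht) hXK).le hmem)
  · have := Fact.mk hp
    obtain ⟨y, hy⟩ := exists_prime_orderOf_dvd_card' p hpd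
    have hV : Nat.card (Subgroup.zpowers (y : G)) = p := by rw [Nat.card_zpowers, Subgroup.orderOf_coe, hy]
    have hVW : Subgroup.zpowers (y : G) ≤ W := Subgroup.zpowers_le.mpr y.2
    obtain ⟨s, X, hs, hX, hXK⟩ := d.tau1_line
    have := Fact.mk hs.1
    have hpσ : p ∈ Cfsg.sigma M :=
      CfsgLib.TwoGroups.TauTwo.mem_sigma_of_dvd hp (hpd.trans (Subgroup.card_dvd_of_le inf_le_left)) hG hM
    have hor : p ∈ Cfsg.beta M ∨ Subgroup.zpowers (y : G) ≤ ⁅Cfsg.sigmaCore M, Cfsg.sigmaCore M⁆ := by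
      by_cases hb : p ∈ Cfsg.beta M
      · exact Or.inl hb
      · exact Or.inr (CfsgLib.OddLocal.FixedTauOne.le_derived_core hG hM hs hX (hXK.trans d.hall.1)
          (CfsgLib.OddLocal.FixedTauOne.isPGroup_of_card_eq hV)
          (hVW.trans (inf_le_inf_left _ (Subgroup.centralizer_le hXK))) hb)
    obtain ⟨-, huniq, hSM⟩ := CfsgLib.OddLocal.SigmaOrderP.centralizer_only
      (CfsgLib.OddLocal.TauTwoFacts.rankTwo hG) hG hM hpσ (hVW.trans hWM) hV S hor
    refine ⟨huniq, hSM, fun hle => ?_⟩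
    obtain ⟨H, hH, hNH⟩ := (eq_top_or_exists_le_coatom _).resolve_left
      (CfsgLib.TwoGroups.TransitivityHyp.normalizer_ne_top hG (CfsgLib.OddLocal.FixedTauOne.ne_bot_of_card_eq hX)
        (CfsgLib.TwoGroups.Uniqueness.ne_top_of_pGroup hG (CfsgLib.OddLocal.FixedTauOne.isPGroup_of_card_eq hX)))
    have hSH : (S : Subgroup ↥(Cfsg.sigmaCore M)).map (Cfsg.sigmaCore M).subtype ≤ H :=
      ((hle.trans inf_le_right).trans ((Subgroup.centralizer_le hXK).trans
        (Subgroup.centralizer_le_normalizer _))).trans hNH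
    have he : H = M := huniq.unique ⟨hH, hSH⟩ ⟨hM, hSM⟩
    exact hs.2.1 (he ▸ CfsgLib.OddLocal.KappaSigma.sigma_of_normalizer hG hM hs.2.1 hs.2.2.2.2 hX
      (hXK.trans d.hall.1) (d.nonregular X (hX.symm ▸ hs.1) hXK) hH hNH)
  · obtain ⟨t, V, ht, hV, hVle⟩ := CfsgLib.OddLocal.FixedTauOne.exists_prime_sub hne
    obtain ⟨g, hg⟩ := CfsgLib.OddLocal.SigmaEmbedding.conj_into (CfsgLib.OddLocal.TauTwoFacts.structure_tau2 hG)
      hG hM (fun e => hne (by rw [e, bot_inf_eq])) hY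
    have hVg : V ≤ M.map (MulAut.conj g⁻¹).toMonoidHom := by
      intro v hv
      refine CfsgLib.Transfer.mem_map_conj.mpr ?_
      have := CfsgLib.OddLocal.SigmaOrderP.sigmaCore_le M (hg ⟨v, (hVle hv).1, rfl⟩)
      simpa [mul_assoc] using this
    have hgM : g ∈ M := inv_mem_iff.mp (key t V ht hV (hVle.trans inf_le_right) g⁻¹ hVg)
    intro y hy
    exact (Subgroup.mem_normalizer_iff.mp (CfsgLib.OddLocal.SigmaOrderP.le_normalizer_sigmaCore M hgM) y).mpr
      (hg ⟨y, hy, rfl⟩)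

end Cfsg.Agent.S1431
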