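import Cfsg.Statements.S1370
import Cfsg.Agent.Lib.OddLocal.KappaPartner
-- import your own Cfsg.Agent.* helpers here

set_option autoImplicit false
open Cfsg

namespace Cfsg.Agent.S1370

/-- Let G be a minimal simple group of odd order, M a maximal subgroup with standard factorisation M = K U M_σ, K ≠ 1, K* = M_σ ∩ C_G(K) and Z the subgroup generated by K and K*. Then the set of elements of Z lying in neither K nor K* is a TI-subset of G, and its set-normalizer in G is exactly Z. -/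
theorem result {G : Type*} [Group G] [Finite G] (hG : Cfsg.IsMinSimpleOddOrder G)
    (M : Subgroup G) (hM : IsCoatom M) (K U : Subgroup G) (hKU : Cfsg.IsSigmaDecomposition M K U) (hK1 : K ≠ ⊥) :
    Cfsg.IsTISubset ((↑(K ⊔ (Cfsg.sigmaCore M ⊓ Subgroup.centralizer (K : Set G))) : Set G) \ ((K : Set G) ∪ ↑(Cfsg.sigmaCore M ⊓ Subgroup.centralizer (K : Set G)))) ∧ Subgroup.normalizer ((↑(K ⊔ (Cfsg.sigmaCore M ⊓ Subgroup.centralizer (K : Set G))) : Set G) \ ((K : Set G) ∪ ↑(Cfsg.sigmaCore M ⊓ Subgroup.centralizer (K : Set G)))) = K ⊔ (Cfsg.sigmaCore M ⊓ Subgroup.centralizer (K : Set G)) := by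
  obtain ⟨E, d⟩ := CfsgLib.OddLocal.Kappa.exists_data hG hM hKU.hall hK1
  obtain ⟨H, p⟩ := d.exists_pair hG
  rw [← p.zhat_eq d hG]
  obtain ⟨a, ha, ha1⟩ := K.bot_or_exists_ne_one.resolve_left hK1
  obtain ⟨b, hb, hb1⟩ := (CfsgLib.OddLocal.Kappa.Kstar M K).bot_or_exists_ne_one.resolve_left d.star_ne_bot
  have hz := p.mul_mem_zhat d hG ha ha1 hb hb1
  have hN : Subgroup.normalizer (CfsgLib.OddLocal.Kappa.Zhat (CfsgLib.OddLocal.Kappa.ZK M K)) =
      CfsgLib.OddLocal.Kappa.ZK M K := by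
    refine le_antisymm (fun g hg => CfsgLib.OddLocal.Kappa.Zhat.mem_of_conj d.member hG hz
      ((Subgroup.mem_set_normalizer_iff.mp hg _).mp hz)) (fun g hg => Subgroup.mem_set_normalizer_iff.mpr fun w => ?_)
    refine ⟨CfsgLib.OddLocal.Kappa.Zhat.conj_mem hg, fun h => ?_⟩
    simpa [mul_assoc] using CfsgLib.OddLocal.Kappa.Zhat.conj_mem (inv_mem hg) h
  exact ⟨fun g hg w hw hw' => absurd (hN.ge (CfsgLib.OddLocal.Kappa.Zhat.mem_of_conj d.member hG hw hw')) hg, hN⟩

end Cfsg.Agent.S1370
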