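import Cfsg.Statements.S1363
import Cfsg.Agent.Lib.OddLocal.P2SignalizerMain
-- import your own Cfsg.Agent.* helpers here

set_option autoImplicit false
open Cfsg

namespace Cfsg.Agent.S1363

/-- Let G be a minimal simple group of odd order and M a maximal subgroup with standard factorisation M = K U M_σ and K ≠ 1. Then U is abelian and the normalizer of U in G is not contained in M. -/
theorem result {G : Type*} [Group G] [Finite G] (hG : Cfsg.IsMinSimpleOddOrder G)
    (M : Subgroup G) (hM : IsCoatom M) (K U : Subgroup G) (hKU : Cfsg.IsSigmaDecomposition M K U) (hK1 : K ≠ ⊥) :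
    IsMulCommutative U ∧ ¬ Subgroup.normalizer (U : Set G) ≤ M := by
  refine ⟨CfsgLib.TwoGroups.SigmaFactor.commutative_of_ne_bot hG hM hKU hK1, fun hN => ?_⟩
  by_cases hU : U = ⊥
  · subst hU
    rw [Subgroup.normalizer_eq_top] at hN
    exact hM.1 (top_le_iff.mp hN)
  obtain ⟨E, d⟩ := CfsgLib.OddLocal.Kappa.exists_data hG hM hKU.hall hK1
  obtain ⟨L, P⟩ := d.exists_pair hG
  obtain ⟨r, hr, hrd⟩ := Nat.exists_prime_and_dvd (fun e : Nat.card U = 1 => hU (Subgroup.eq_bot_of_card_eq _ e))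
  have := Fact.mk hr
  obtain ⟨R⟩ : Nonempty (Sylow r U) := inferInstance
  obtain ⟨hRp, hR1, -⟩ := CfsgLib.OddLocal.Kappa.Signal.sylow_sub hG hM hKU hK1 hrd R
  obtain ⟨H, hH, hNH⟩ := (eq_top_or_exists_le_coatom _).resolve_left
    (CfsgLib.TwoGroups.TransitivityHyp.normalizer_ne_top hG hR1
      (CfsgLib.TwoGroups.Uniqueness.ne_top_of_pGroup hG hRp))
  exact (CfsgLib.OddLocal.Kappa.signalizer hG d hKU hU P hrd R hH hNH).2.2.2.1 (inf_le_right.trans hN)


end Cfsg.Agent.S1363
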