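import Cfsg.Statements.S1495
import Mathlib

set_option autoImplicit false
open Cfsg

namespace Cfsg.Agent.S1495

/-- Let p be a prime, ε = exp(2πi/p), and n an integer such that n = (1 − ε) * ω for some algebraic integer ω. Then p divides n. -/
theorem result (p : ℕ) (hp : p.Prime) (n : ℤ) (ω : ℂ) (hω : IsIntegral ℤ ω) (h : (n : ℂ) = (1 - Complex.exp (2 * Real.pi * Complex.I / p)) * ω) : (p : ℤ) ∣ n := by
  classical
  set ζ : ℂ := Complex.exp (2 * Real.pi * Complex.I / p) with hζdef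
  have hζ : IsPrimitiveRoot ζ p := Complex.isPrimitiveRoot_exp p hp.ne_zero
  haveI := Fact.mk hp
  haveI : NeZero p := ⟨hp.ne_zero⟩
  have hint : ∀ μ ∈ primitiveRoots p ℂ, IsIntegral ℤ μ := fun μ hμ =>
    ((mem_primitiveRoots hp.pos).1 hμ).isIntegral hp.pos
  have hdiv : ∀ μ ∈ primitiveRoots p ℂ, ∃ r : ℂ, IsIntegral ℤ r ∧ (1 - μ) * r = 1 - ζ := by
    intro μ hμ
    obtain ⟨m, -, hm⟩ := ((mem_primitiveRoots hp.pos).1 hμ).eq_pow_of_pow_eq_one hζ.pow_eq_one
    exact ⟨∑ i ∈ Finset.range m, μ ^ i, IsIntegral.sum _ (fun i _ => (hint μ hμ).pow i),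
      by rw [mul_neg_geom_sum, hm]⟩
  choose! r hr hrμ using hdiv
  have hprod : (∏ μ ∈ primitiveRoots p ℂ, (1 - μ)) = (p : ℂ) := by
    rw [← Polynomial.eval_one_cyclotomic_prime (R := ℂ) (p := p),
      Polynomial.cyclotomic_eq_prod_X_sub_primitiveRoots hζ, Polynomial.eval_prod]
    simp
  have key : ((n : ℂ)) ^ (primitiveRoots p ℂ).card
      = (p : ℂ) * ∏ μ ∈ primitiveRoots p ℂ, r μ * ω := by
    rw [← hprod, ← Finset.prod_mul_distrib, ← Finset.prod_const]
    refine Finset.prod_congr rfl fun μ hμ => ?_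
    rw [h, ← hrμ μ hμ, mul_assoc]
  set q : ℚ := (n : ℚ) ^ (primitiveRoots p ℂ).card / p
  have hq : IsIntegral ℤ (algebraMap ℚ ℂ q) := by
    have he : algebraMap ℚ ℂ q = ∏ μ ∈ primitiveRoots p ℂ, r μ * ω := by
      have hp0 : (p : ℂ) ≠ 0 := Nat.cast_ne_zero.2 hp.ne_zero
      simp only [q, map_div₀, map_pow, map_intCast, map_natCast]
      rw [key, mul_div_cancel_left₀ _ hp0]
    rw [he]
    exact IsIntegral.prod _ (fun μ hμ => (hr μ hμ).mul hω)
  rw [isIntegral_algebraMap_iff (algebraMap ℚ ℂ).injective,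
    IsIntegrallyClosed.isIntegral_iff] at hq
  obtain ⟨z, hz⟩ := hq
  have hnz : n ^ (primitiveRoots p ℂ).card = z * p := by
    have : ((n : ℚ)) ^ (primitiveRoots p ℂ).card = (z : ℚ) * p := by
      have h2 : (z : ℚ) = q := by simpa using hz
      rw [h2]; simp only [q]
      field_simp [hp.ne_zero]
    exact_mod_cast this
  exact Int.Prime.dvd_pow' hp ⟨z, by rw [hnz, mul_comm]⟩

end Cfsg.Agent.S1495
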