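import Cfsg.Statements.S1387
import Cfsg.Agent.Lib.OddLocal.TypeP

set_option autoImplicit false
open Cfsg

namespace Cfsg.Agent.S1387

/-- Let M be a subgroup of a finite group G with type-P data (W₁, U, W₂) and H = M_F. Then the Fitting subgroup F(M) is generated by H and the centralizer of H in U. -/
theorem result {G : Type*} [Group G] [Finite G] (M W₁ U W₂ : Subgroup G) (hP : Cfsg.IsTypePWith M W₁ U W₂) :
    Cfsg.fittingOf M = Cfsg.fittingHallOf M ⊔ (U ⊓ Subgroup.centralizer (Cfsg.fittingHallOf M : Set G)) := by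
  apply le_antisymm
  · intro f hf
    have hc := hP.U_compl
    obtain ⟨h, hh, u, hu, rfl⟩ := hc.2.2.2 f (hP.fitting_le hf)
    refine mul_mem (Subgroup.mem_sup_left hh) (Subgroup.mem_sup_right ⟨hu, ?_⟩)
    apply CfsgLib.OddLocal.TypeP.U_inf_fitting_le hP
    refine ⟨hu, ?_⟩
    have hh' : h ∈ Cfsg.fittingOf M := hP.fitting_eq ▸ Subgroup.mem_sup_left hh
    simpa using mul_mem (inv_mem hh') hf
  · refine (sup_le_sup_left (inf_le_inf_right _ ?_) _).trans hP.fitting_eq.le
    exact hP.U_compl.2.1.trans (CfsgLib.OddLocal.TypeP.derived_le hP)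

end Cfsg.Agent.S1387
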