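import Cfsg.Statements.S0945


set_option autoImplicit false
open Cfsg

namespace Cfsg.Agent.S0945

/-- Let P be a Sylow 2-subgroup of the finite group G isomorphic to Z/2^m × Z/2^m with m ≥ 1. Then (i) the index of C_G(P) in N_G(P) is 1 or 3, and (ii) if it is not 1, then for every z ≠ 1 in P, C_G(z) ∩ N_G(P) = C_G(P). -/
theorem result {G : Type*} [Group G] [Finite G] (P : Sylow 2 G) (m : ℕ) (hm : 1 ≤ m) (e : (P : Subgroup G) ≃* Multiplicative (ZMod (2 ^ m) × ZMod (2 ^ m))) : ((Subgroup.centralizer (P : Set G)).relIndex (Subgroup.normalizer (P : Set G)) = 1 ∨ (Subgroup.centralizer (P : Set G)).relIndex (Subgroup.normalizer (P : Set G)) = 3) ∧ ((Subgroup.centralizer (P : Set G)).relIndex (Subgroup.normalizer (P : Set G)) ≠ 1 → ∀ z ∈ (P : Subgroup G), z ≠ 1 → Subgroup.centralizer ({z} : Set G) ⊓ Subgroup.normalizer (P : Set G) = Subgroup.centralizer (P : Set G)) := by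
  classical
  have := Fintype.ofFinite G
  set N : Subgroup G := Subgroup.normalizer ((P : Subgroup G) : Set G) with hN
  let f : N →* MulAut (P : Subgroup G) := (P : Subgroup G).normalizerMonoidHom
  have hker : f.ker = (Subgroup.centralizer ((P : Subgroup G) : Set G)).subgroupOf N :=
    Subgroup.normalizerMonoidHom_ker _
  have hidx : (Subgroup.centralizer ((P : Subgroup G) : Set G)).relIndex N = Nat.card f.range := by
    rw [← Subgroup.index_ker, hker]; rfl
  have hcomm : ∀ a b : (P : Subgroup G), a * b = b * a := fun a b =>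
    e.injective (by rw [map_mul, map_mul, mul_comm])
  have hPC : (P : Subgroup G).subgroupOf N ≤ f.ker := fun x hx => by
    rw [hker, Subgroup.mem_subgroupOf, Subgroup.mem_centralizer_iff]
    exact fun y hy => congrArg Subtype.val (hcomm ⟨y, hy⟩ ⟨x, hx⟩)
  have hodd : ¬ 2 ∣ Nat.card f.range := by
    rw [← Subgroup.index_ker]
    intro h2
    have h3 : ((P : Subgroup G).subgroupOf N).index ∣ (P : Subgroup G).index :=
      Dvd.intro _ (Subgroup.relIndex_mul_index Subgroup.le_normalizer)
    exact P.not_dvd_index ((h2.trans (Subgroup.index_dvd_of_le hPC)).trans h3)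
  have hfix : ∀ σ ∈ f.range, ∀ y, (∀ t : (P : Subgroup G), t ^ 2 = 1 → σ t = t) → σ y = y := by
    intro σ hσ y ht
    have hr : ¬ 2 ∣ orderOf σ := fun h => hodd (h.trans (by
      rw [← Subgroup.orderOf_mk σ hσ]; exact orderOf_dvd_natCard _))
    obtain ⟨k, hk⟩ : ∃ k, orderOf y = 2 ^ k := IsPGroup.iff_orderOf.1 P.2 y
    replace hk : y ^ 2 ^ k = 1 := hk ▸ pow_orderOf_eq_one y
    induction k generalizing y with
    | zero => rw [pow_zero, pow_one] at hk; rw [hk, map_one]
    | succ k ih =>
      have h2 : σ (y ^ 2) = y ^ 2 := ih (y ^ 2) (by rwa [← pow_mul, ← pow_succ'])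
      have hd : (y⁻¹ * σ y) ^ 2 = 1 := by
        rw [(show Commute y⁻¹ (σ y) from hcomm _ _).mul_pow, ← map_pow, h2, inv_pow,
          inv_mul_cancel]
      have hn : ∀ n : ℕ, (σ ^ n) y = y * (y⁻¹ * σ y) ^ n := by
        intro n
        induction n with
        | zero => simp
        | succ n ihn =>
          rw [pow_succ', MulAut.mul_apply, ihn, map_mul, map_pow, ht _ hd, pow_succ', ← mul_assoc,
            mul_inv_cancel_left]
      have h3 := hn (orderOf σ)
      rw [pow_orderOf_eq_one, MulAut.one_apply, left_eq_mul] at h3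
      have h4 := pow_gcd_eq_one.mpr ⟨h3, hd⟩
      rw [((Nat.prime_two.coprime_iff_not_dvd).2 hr).symm.gcd_eq_one, pow_one] at h4
      exact (inv_mul_eq_one.1 h4).symm
  let I := {t : (P : Subgroup G) // t ≠ 1 ∧ t ^ 2 = 1}
  let J := {t : (P : Subgroup G) // t ^ 2 = 1}
  haveI : NeZero (2 ^ m) := ⟨by positivity⟩
  let K : Finset (ZMod (2 ^ m)) := {a | 2 • a = 0}
  have hJ : Nat.card J ≤ 4 := by
    let j : J → K ×ˢ K := fun t => ⟨Multiplicative.toAdd (e t.1), by
      have h := congrArg (fun z => Multiplicative.toAdd (e z)) t.2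
      simp only [map_pow, map_one, toAdd_pow, toAdd_one, Prod.ext_iff, Prod.smul_fst,
        Prod.smul_snd, Prod.fst_zero, Prod.snd_zero] at h
      simp only [K, Finset.mem_product, Finset.mem_filter, Finset.mem_univ, true_and]
      exact h⟩
    have hj : Function.Injective j := fun a b hab => Subtype.ext (e.injective
      (Multiplicative.toAdd.injective (congrArg Subtype.val hab)))
    refine (Nat.card_le_card_of_injective j hj).trans ?_
    rw [Nat.card_eq_fintype_card, Fintype.card_coe, Finset.card_product]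
    have hK : K.card ≤ 2 := IsAddCyclic.card_nsmul_eq_zero_le two_pos
    exact Nat.mul_le_mul hK hK
  have hI : Nat.card I ≤ 3 := by
    have hlt : Nat.card (Option I) ≤ Nat.card J :=
      Nat.card_le_card_of_injective (fun o : Option I => (o.elim ⟨1, one_pow 2⟩ fun t => ⟨t.1, t.2.2⟩ : J))
        (fun a b h => by
          have h' := congrArg Subtype.val h
          rcases a with _ | a <;> rcases b with _ | b
          · rfl
          · exact absurd h'.symm b.2.1
          · exact absurd h' a.2.1
          · exact congrArg some (Subtype.ext h'))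
    rw [Finite.card_option] at hlt
    omega
  let rI : f.range →* Equiv.Perm I :=
  { toFun := fun σ => (MulEquiv.toEquiv (σ : MulAut (P : Subgroup G))).subtypeEquiv fun t => by
      show _ ↔ (σ : MulAut (P : Subgroup G)) t ≠ 1 ∧ ((σ : MulAut (P : Subgroup G)) t) ^ 2 = 1
      exact and_congr (by simp) (by rw [← map_pow, MulEquiv.map_eq_one_iff])
    map_one' := by ext; rfl
    map_mul' := fun σ τ => by ext; rfl }
  have hrI : Function.Injective rI := fun σ τ h => by
    have h1 : rI (τ⁻¹ * σ) = 1 := by rw [map_mul, map_inv, h, inv_mul_cancel]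
    refine (inv_mul_eq_one.1 (Subtype.ext (MulEquiv.ext fun y => ?_))).symm
    refine hfix _ (τ⁻¹ * σ).2 y fun t ht => ?_
    by_cases h0 : t = 1
    · rw [h0, map_one]
    · exact congrArg Subtype.val (DFunLike.congr_fun h1 ⟨t, h0, ht⟩)
  have := Fintype.ofFinite I
  have h6 : Nat.card f.range ∣ 6 := by
    refine (Subgroup.card_dvd_of_injective rI hrI).trans ?_
    rw [Nat.card_eq_fintype_card, Fintype.card_perm, ← Nat.card_eq_fintype_card]
    exact (Nat.factorial_dvd_factorial hI).trans (by decide)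
  have h13 : Nat.card f.range = 1 ∨ Nat.card f.range = 3 := by
    have h7 := Nat.le_of_dvd (by norm_num) h6
    have h8 : 0 < Nat.card f.range := Nat.card_pos
    interval_cases Nat.card f.range <;> omega
  refine ⟨hidx ▸ h13, fun hne z hz hz1 => le_antisymm ?_ (le_inf (Subgroup.centralizer_le
    (Set.singleton_subset_iff.2 hz)) (fun x hx => by
      show x ∈ Subgroup.normalizer ((P : Subgroup G) : Set G)
      rw [Subgroup.mem_normalizer_iff]
      have hc := Subgroup.mem_centralizer_iff.1 hx
      intro y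
      constructor
      · intro hy
        rwa [← hc y hy, mul_inv_cancel_right]
      · intro hy
        have := hc _ hy
        have e1 : x * y * x⁻¹ = y := by
          have h9 := congrArg (fun w => x⁻¹ * w) this
          simpa [mul_assoc] using h9.symm
        rwa [e1] at hy))⟩
  rintro x ⟨hxz, hxN⟩
  have h3 : Nat.card f.range = 3 := h13.resolve_left (hidx ▸ hne)
  let σ : f.range := ⟨f ⟨x, hxN⟩, _, rfl⟩
  have hσz : (σ : MulAut (P : Subgroup G)) ⟨z, hz⟩ = ⟨z, hz⟩ := Subtype.ext (by
    show x * z * x⁻¹ = z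
    rw [Subgroup.mem_centralizer_singleton_iff.1 hxz, mul_inv_cancel_right])
  suffices σ = 1 by
    have : (⟨x, hxN⟩ : N) ∈ f.ker := congrArg Subtype.val this
    rwa [hker] at this
  apply hrI
  rw [map_one]
  obtain ⟨t, ht1, ht2, htσ⟩ : ∃ t : (P : Subgroup G), t ≠ 1 ∧ t ^ 2 = 1 ∧
      (σ : MulAut (P : Subgroup G)) t = t := by
    obtain ⟨k, hk⟩ : ∃ k, orderOf (⟨z, hz⟩ : (P : Subgroup G)) = 2 ^ k := IsPGroup.iff_orderOf.1 P.2 _
    rcases k with _ | k
    · rw [pow_zero, orderOf_eq_one_iff] at hk
      exact absurd (congrArg Subtype.val hk) hz1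
    · refine ⟨(⟨z, hz⟩ : (P : Subgroup G)) ^ 2 ^ k, pow_ne_one_of_lt_orderOf (by positivity)
        (by rw [hk]; exact Nat.pow_lt_pow_right (by norm_num) (Nat.lt_succ_self k)), ?_, by rw [map_pow, hσz]⟩
      rw [← pow_mul, ← pow_succ, ← hk, pow_orderOf_eq_one]
  have key : ∀ n ≤ 3, ∀ π : Equiv.Perm (Fin n), π ^ 3 = 1 → ∀ i, π i = i → π = 1 := by
    intro n hn
    interval_cases n <;> decide
  let q : I ≃ Fin (Nat.card I) := Finite.equivFin I
  have hπ := key _ hI (q.permCongrHom (rI σ))
    (by rw [← map_pow, ← map_pow, show σ ^ 3 = 1 from h3 ▸ pow_card_eq_one', map_one, map_one])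
    (q ⟨t, ht1, ht2⟩) (by
      show q (rI σ (q.symm (q _))) = _
      rw [Equiv.symm_apply_apply]
      exact congrArg q (Subtype.ext htσ))
  exact q.permCongrHom.injective (hπ.trans (map_one _).symm)

end Cfsg.Agent.S0945
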