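import Cfsg.Statements.S0946
import Cfsg.Agent.S0945
import Cfsg.Agent.Lib.Transfer.Fusion

set_option autoImplicit false
open Cfsg

namespace Cfsg.Agent.S0946

/-- Let P be a Sylow 2-subgroup of the finite group G isomorphic to Z/2^m × Z/2^m with m ≥ 1. Then either P has a normal complement in G, or all involutions of G are conjugate. -/
theorem result {G : Type*} [Group G] [Finite G] (P : Sylow 2 G) (m : ℕ) (hm : 1 ≤ m) (e : (P : Subgroup G) ≃* Multiplicative (ZMod (2 ^ m) × ZMod (2 ^ m))) : (∃ N : Subgroup G, N.Normal ∧ Subgroup.IsComplement' N (P : Subgroup G)) ∨ ∀ s t : G, orderOf s = 2 → orderOf t = 2 → IsConj s t := by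
  classical
  have := Fintype.ofFinite G
  have hcomm : ∀ a b : (P : Subgroup G), a * b = b * a := fun a b =>
    e.injective (by rw [map_mul, map_mul, mul_comm])
  obtain ⟨h13, hfix⟩ := Cfsg.Agent.S0945.result P m hm e
  rcases h13 with h1 | h3
  · left
    have hNC : Subgroup.normalizer ((P : Subgroup G) : Set G) ≤
        Subgroup.centralizer ((P : Subgroup G) : Set G) := Subgroup.relIndex_eq_one.1 h1
    exact ⟨_, inferInstance, MonoidHom.ker_transferSylow_isComplement' P hNC⟩
  right
  have hne : (Subgroup.centralizer (P : Set G)).relIndex (Subgroup.normalizer (P : Set G)) ≠ 1 := by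
    rw [h3]; norm_num
  let N : Subgroup G := Subgroup.normalizer ((P : Subgroup G) : Set G)
  let I := {t : (P : Subgroup G) // t ≠ 1 ∧ t ^ 2 = 1}
  haveI : NeZero (2 ^ m) := ⟨by positivity⟩
  let K : Finset (ZMod (2 ^ m)) := {a | 2 • a = 0}
  have hI : Nat.card I ≤ 3 := by
    let j : Option I → K ×ˢ K := fun o => ⟨Multiplicative.toAdd (e ((o.elim 1 fun t => t.1))), by
      have h2 : (o.elim (1 : (P : Subgroup G)) fun t => t.1) ^ 2 = 1 := by
        rcases o with _ | t
        · exact one_pow 2
        · exact t.2.2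
      have h := congrArg (fun z => Multiplicative.toAdd (e z)) h2
      simp only [map_pow, map_one, toAdd_pow, toAdd_one, Prod.ext_iff, Prod.smul_fst,
        Prod.smul_snd, Prod.fst_zero, Prod.snd_zero] at h
      simp only [K, Finset.mem_product, Finset.mem_filter, Finset.mem_univ, true_and]
      exact h⟩
    have hj : Function.Injective j := fun a b hab => by
      have h := e.injective (Multiplicative.toAdd.injective (congrArg Subtype.val hab))
      rcases a with _ | a <;> rcases b with _ | b
      · rfl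
      · exact absurd h.symm b.2.1
      · exact absurd h a.2.1
      · exact congrArg some (Subtype.ext h)
    have h4 := Nat.card_le_card_of_injective j hj
    rw [Finite.card_option, Nat.card_eq_fintype_card (α := ↥(K ×ˢ K)), Fintype.card_coe,
      Finset.card_product] at h4
    have hK : K.card ≤ 2 := IsAddCyclic.card_nsmul_eq_zero_le two_pos
    have := Nat.mul_le_mul hK hK
    omega
  have htrans : ∀ s t : G, s ∈ (P : Subgroup G) → t ∈ (P : Subgroup G) → orderOf s = 2 →
      orderOf t = 2 → IsConj s t := by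
    intro s t hs ht hos hot
    have hs1 : s ≠ 1 := fun h => by rw [h, orderOf_one] at hos; omega
    let F : N → I := fun n => ⟨⟨(n : G) * s * (n : G)⁻¹,
        (Subgroup.mem_normalizer_iff.1 n.2 s).1 hs⟩, fun h => hs1
          (conj_eq_one_iff.1 (congrArg Subtype.val h)), Subtype.ext (by
          show ((n : G) * s * (n : G)⁻¹) ^ 2 = 1
          rw [conj_pow, show s ^ 2 = 1 by rw [← hos]; exact pow_orderOf_eq_one s]; group)⟩
    have hval : ∀ n : N, ((F n).1 : G) = (n : G) * s * (n : G)⁻¹ := fun n => rfl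
    have hiff : ∀ n n' : N, F n = F n' ↔ (n : G)⁻¹ * n' ∈
        Subgroup.centralizer (P : Set G) := by
      intro n n'
      rw [← hfix hne s hs hs1, Subgroup.mem_inf, Subgroup.mem_centralizer_singleton_iff]
      constructor
      · intro h
        refine ⟨?_, mul_mem (inv_mem n.2) n'.2⟩
        have h2 : (n : G) * s * (n : G)⁻¹ = (n' : G) * s * (n' : G)⁻¹ :=
          congrArg (fun i : I => (i.1 : G)) h
        calc (n : G)⁻¹ * n' * s = (n : G)⁻¹ * ((n' : G) * s * (n' : G)⁻¹) * n' := by group
          _ = s * ((n : G)⁻¹ * n') := by rw [← h2]; group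
      · rintro ⟨h, -⟩
        refine Subtype.ext (Subtype.ext ?_)
        rw [hval, hval]
        calc (n : G) * s * (n : G)⁻¹ = (n : G) * (s * ((n : G)⁻¹ * n')) * (n' : G)⁻¹ := by group
          _ = (n' : G) * s * (n' : G)⁻¹ := by rw [← h]; group
    let C : Subgroup N := (Subgroup.centralizer (P : Set G)).subgroupOf N
    let F' : N ⧸ C → I := fun c => F c.out
    have hF' : Function.Injective F' := fun c d h => by
      rw [← Quotient.out_eq c, ← Quotient.out_eq d]
      exact QuotientGroup.eq.2 (Subgroup.mem_subgroupOf.2 ((hiff _ _).1 h))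
    have hC3 : Nat.card (N ⧸ C) = 3 := h3
    have hsurj : Function.Surjective F' := by
      have := Fintype.ofFinite I
      have := Fintype.ofFinite (N ⧸ C)
      refine ((Fintype.bijective_iff_injective_and_card F').2 ⟨hF', ?_⟩).2
      have h5 := Nat.card_le_card_of_injective F' hF'
      rw [← Nat.card_eq_fintype_card, ← Nat.card_eq_fintype_card]
      omega
    have ht1 : t ≠ 1 := fun h => by rw [h, orderOf_one] at hot; omega
    obtain ⟨c, hc⟩ := hsurj ⟨⟨t, ht⟩, fun h => ht1 (congrArg Subtype.val h), Subtype.ext (by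
      show t ^ 2 = 1
      rw [← hot]; exact pow_orderOf_eq_one t)⟩
    exact isConj_iff.2 ⟨(c.out : G), congrArg (fun i : I => (i.1 : G)) hc⟩
  intro s t hs ht
  have key : ∀ s : G, orderOf s = 2 → ∃ s' ∈ (P : Subgroup G), IsConj s s' := by
    intro s hs
    obtain ⟨Q, hQ⟩ := (IsPGroup.of_card (n := 1) (by rw [Nat.card_zpowers, hs, pow_one]) :
      IsPGroup 2 (Subgroup.zpowers s)).exists_le_sylow
    obtain ⟨x, hx⟩ := MulAction.exists_smul_eq G Q P
    refine ⟨x * s * x⁻¹, ?_, isConj_iff.2 ⟨x, rfl⟩⟩
    rw [← hx]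
    exact ⟨s, hQ (Subgroup.mem_zpowers s), rfl⟩
  obtain ⟨s', hs', hcs⟩ := key s hs
  obtain ⟨t', ht', hct⟩ := key t ht
  have ho : ∀ a b : G, IsConj a b → orderOf b = orderOf a := fun a b h => by
    obtain ⟨c, rfl⟩ := isConj_iff.1 h
    exact MulEquiv.orderOf_eq (MulAut.conj c) a
  exact hcs.trans ((htrans s' t' hs' ht' ((ho _ _ hcs).trans hs) ((ho _ _ hct).trans ht)).trans
    hct.symm)

end Cfsg.Agent.S0946
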