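import Cfsg.Statements.S1215
import Cfsg.Agent.Lib.ZStar.FusionCenter
import Cfsg.Agent.Lib.TwoGroups.Closed

set_option autoImplicit false
open Cfsg

namespace Cfsg.Agent.S1215

/-- Let H be a finite group with quasi-dihedral or wreathed Sylow 2-subgroup S such that H has a normal subgroup K of index a power of 2 with no subgroup of index 2 and with generalized quaternion Sylow 2-subgroups, and such that every subgroup of Z(S) is weakly closed in S with respect to H. Then H = O(H) C_H(Z(S)): every element of H is the product of an element of the largest normal odd-order subgroup and an element centralizing Z(S). -/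
theorem result {H : Type*} [Group H] [Finite H] (S : Sylow 2 H) (hS : Cfsg.IsQuasiDihedral (S : Subgroup H) ∨ Cfsg.IsWreathed (S : Subgroup H)) (hQ : (∃ K : Subgroup H, K.Normal ∧ (∃ a : ℕ, K.index = 2 ^ a) ∧ (∀ M : Subgroup ↥K, M.index ≠ 2) ∧ (∀ P : Sylow 2 ↥K, ∃ m : ℕ, 1 ≤ m ∧ Nonempty ((P : Subgroup ↥K) ≃* QuaternionGroup (2 ^ m)))) ∧ (∀ Z₀ : Subgroup H, Z₀ ≤ ((Subgroup.center (S : Subgroup H)).map (S : Subgroup H).subtype) → Cfsg.IsWeaklyClosed Z₀ (S : Subgroup H))) (h : H) : ∃ o ∈ Cfsg.oddCore H, ∃ c ∈ Subgroup.centralizer (((Subgroup.center (S : Subgroup H)).map (S : Subgroup H).subtype : Subgroup H) : Set H), h = o * c := by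
  haveI : Fact (Nat.Prime 2) := ⟨Nat.prime_two⟩
  set Q : Subgroup H := (Subgroup.center (S : Subgroup H)).map (S : Subgroup H).subtype with hQdef
  have hQS : Q ≤ (S : Subgroup H) := Subgroup.map_subtype_le _
  have hSc : ∀ z ∈ Q, ∀ s ∈ (S : Subgroup H), s * z = z * s := by
    rintro _ ⟨z, hz, rfl⟩ s hs
    exact congrArg Subtype.val (Subgroup.mem_center_iff.1 hz ⟨s, hs⟩)
  -- an element normalising `⟨z⟩` centralises `z`
  have hNC : ∀ z ∈ Q, ∀ g ∈ Subgroup.normalizer ((Subgroup.zpowers z : Subgroup H) : Set H),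
      g * z * g⁻¹ = z := by
    intro z hz
    set Z := Subgroup.zpowers z with hZ
    set N := Subgroup.normalizer (Z : Set H) with hN
    haveI : Finite (MulAut Z) := Finite.of_injective (fun e : MulAut Z => (e : Z → Z))
      DFunLike.coe_injective
    let f := Subgroup.normalizerMonoidHom Z
    have hSN : (S : Subgroup H) ≤ N := fun s hs => by
      rw [← CfsgLib.TwoGroups.map_conj_eq_iff_mem_normalizer, hZ, MonoidHom.map_zpowers]
      congr 1
      show s * z * s⁻¹ = z
      rw [hSc z hz s hs, mul_inv_cancel_right]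
    have hSker : (S : Subgroup H).subgroupOf N ≤ f.ker := fun s hs => by
      rw [MonoidHom.mem_ker]
      refine MulEquiv.ext fun y => Subtype.ext ?_
      obtain ⟨j, hj⟩ := Subgroup.mem_zpowers_iff.1 y.2
      show (s : H) * y * (s : H)⁻¹ = y
      have hc : Commute (s : H) z := hSc z hz s hs
      rw [← hj, (hc.zpow_right j).eq, mul_inv_cancel_right]
    have hodd : ¬ 2 ∣ Nat.card f.range := fun h2 => S.not_dvd_index (h2.trans (by
      rw [← Subgroup.index_ker]
      exact (Subgroup.index_dvd_of_le hSker).trans (Subgroup.relIndex_dvd_index_of_le hSN)))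
    have hone : Nat.card f.range = 1 := by
      obtain ⟨k, hk⟩ := S.2 ⟨z, hQS hz⟩
      obtain ⟨e, -, he⟩ := (Nat.dvd_prime_pow Nat.prime_two).1
        (orderOf_dvd_of_pow_eq_one (show z ^ 2 ^ k = 1 from congrArg Subtype.val hk))
      haveI : IsCyclic Z := inferInstance
      have hd : Nat.card f.range ∣ 2 ^ e := by
        refine (Subgroup.card_subgroup_dvd_card f.range).trans ?_
        rw [IsCyclic.card_mulAut, Nat.card_zpowers, he]
        rcases Nat.eq_zero_or_pos e with h0 | h0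
        · simp [h0]
        · rw [Nat.totient_prime_pow Nat.prime_two h0]
          simpa using pow_dvd_pow 2 (Nat.sub_le e 1)
      exact Nat.eq_one_of_dvd_coprimes
        (((Nat.prime_two.coprime_iff_not_dvd).2 hodd).pow_left e) hd dvd_rfl
    intro g hg
    have h1 : f ⟨g, hg⟩ = 1 :=
      Subgroup.mem_bot.1 ((Subgroup.card_eq_one.1 hone) ▸ (⟨⟨g, hg⟩, rfl⟩ : f ⟨g, hg⟩ ∈ f.range))
    exact congrArg (fun e : MulAut Z => ((e ⟨z, Subgroup.mem_zpowers z⟩ : Z) : H)) h1
  -- `Z(S)` is central modulo the odd core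
  have hQ' : ∀ q ∈ Q, ∀ g : H, q * g * q⁻¹ * g⁻¹ ∈ Cfsg.oddCore H := by
    intro q hq g
    refine CfsgLib.ZStar.commutator_mem_oddCore_of_fixed S ⟨hQS hq, fun x k hxk => ?_⟩ g
    have hw := hQ.2 (Subgroup.zpowers (q ^ k)) (Subgroup.zpowers_le.2 (pow_mem hq k))
    refine hNC _ (pow_mem hq k) x ?_
    rw [← CfsgLib.TwoGroups.map_conj_eq_iff_mem_normalizer]
    refine hw.2 x ?_
    rw [MonoidHom.map_zpowers, Subgroup.zpowers_le]
    exact hxk
  set O := Cfsg.oddCore H
  haveI hOn : O.Normal := inferInstance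
  have hOodd := CfsgLib.ZStar.odd_card_oddCore H
  have hdisj : ∀ z ∈ (S : Subgroup H), z ∈ O → z = 1 := fun z hz hzO => by
    obtain ⟨j, hj⟩ := S.2 ⟨z, hz⟩
    exact orderOf_eq_one_iff.1 (Nat.eq_one_of_dvd_coprimes
      ((Nat.coprime_two_left.2 hOodd).pow_left j)
      (orderOf_dvd_of_pow_eq_one (congrArg Subtype.val hj))
      (Subgroup.orderOf_dvd_natCard _ hzO))
  set K := Q ⊔ O with hK
  haveI hKn : K.Normal := ⟨fun k hk x => by
    obtain ⟨q, hq, o, ho, rfl⟩ := Subgroup.mem_sup_of_normal_right.1 hk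
    have e : x * (q * o) * x⁻¹ = (q * x * q⁻¹ * x⁻¹)⁻¹ * q * (x * o * x⁻¹) := by group
    rw [e]
    exact mul_mem (mul_mem (Subgroup.mem_sup_right (inv_mem (hQ' q hq x))) (Subgroup.mem_sup_left hq))
      (Subgroup.mem_sup_right (hOn.conj_mem o ho x))⟩
  have hidx : ¬ 2 ∣ (Q.subgroupOf K).index := fun h2 => Nat.not_even_iff_odd.2 hOodd
    (even_iff_two_dvd.2 (h2.trans (CfsgLib.ZStar.relIndex_sup_dvd_card Q O)))
  set QS : Sylow 2 K := ((S.2.to_le hQS).comap_of_injective K.subtype K.subtype_injective).toSylow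
    hidx with hQSdef
  have hfr := Sylow.normalizer_sup_eq_top QS
  have hmapQ : ((QS : Subgroup K).map K.subtype) = Q := by
    show (Q.subgroupOf K).map K.subtype = Q
    rw [Subgroup.subgroupOf_map_subtype, inf_eq_left.2 le_sup_left]
  rw [hmapQ] at hfr
  obtain ⟨k, hk, m, hm, hkm⟩ := Subgroup.mem_sup_of_normal_right.1
    (show h ∈ Subgroup.normalizer (Q : Set H) ⊔ K from hfr ▸ Subgroup.mem_top h)
  obtain ⟨q₀, hq₀, o, ho, rfl⟩ := Subgroup.mem_sup_of_normal_right.1 hm
  refine ⟨k * q₀ * o * (k * q₀)⁻¹, hOn.conj_mem o ho _, k * q₀,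
    Subgroup.mem_centralizer_iff.2 fun q hq => ?_, by rw [← hkm]; group⟩
  have hkq : k * q * k⁻¹ ∈ Q := (Subgroup.mem_normalizer_iff.1 hk q).1 hq
  have h1 : q * (k * q * k⁻¹)⁻¹ = q * k * q⁻¹ * k⁻¹ := by group
  have h2 := hdisj _ (mul_mem (hQS hq) (inv_mem (hQS hkq))) (h1 ▸ hQ' q hq k)
  rw [mul_inv_eq_one, eq_mul_inv_iff_mul_eq] at h2
  rw [← mul_assoc, h2, mul_assoc, mul_assoc, hSc q hq q₀ (hQS hq₀)]

end Cfsg.Agent.S1215
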