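import Cfsg.Statements.S2086
import Cfsg.Agent.Lib.Known.SLn.Multiplier

set_option autoImplicit false
open Cfsg

namespace Cfsg.Agent.S2086

/-- Schur multipliers of the linear groups: for n ≥ 2 and a field F with q elements (q ≥ 4 when n = 2), apart from the five exceptional pairs (n, q) = (2, 4), (2, 9), (3, 2), (3, 4), (4, 2), the Schur multiplier of PSL_n(F) is cyclic of order gcd(n, q − 1); here the Schur multiplier is described through stem extensions, as in the definitions. -/
theorem result {F : Type*} [Field F] [Fintype F] {q : ℕ} (hF : Fintype.card F = q) (n : ℕ) (hn : 2 ≤ n) (h2 : n = 2 → 4 ≤ q) (hexc : (n, q) ∉ ({(2, 4), (2, 9), (3, 2), (3, 4), (4, 2)} : Set (ℕ × ℕ))) : Cfsg.HasCyclicSchurMultiplier (Matrix.ProjectiveSpecialLinearGroup (Fin n) F) (Nat.gcd n (q - 1)) := by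
  classical
  subst hF
  have hcq : Nat.card F = Fintype.card F := Nat.card_eq_fintype_card
  have : Nonempty (Fin n) := ⟨⟨0, by omega⟩⟩
  have hperf : commutator (Matrix.SpecialLinearGroup (Fin n) F) = ⊤ := by
    rcases (show n = 2 ∨ 3 ≤ n by omega) with rfl | hn3
    · obtain ⟨a, ha, ha2⟩ := CfsgLib.Known.SLn.exists_pow_ne_one (F := F) 2 fun hd => by
        have := h2 rfl
        have := Nat.le_of_dvd (by norm_num) hd
        omega
      exact Matrix.SL2.commutator_eq_top ha ha2
    · exact CfsgLib.Classical.commutator_SL_eq_top hn3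
  refine CfsgLib.Known.SLn.hasSchurMultiplier_of_cover hperf ?_
    (QuotientGroup.mk' (Subgroup.center (Matrix.SpecialLinearGroup (Fin n) F)))
    (QuotientGroup.mk'_surjective _) (le_of_eq (QuotientGroup.ker_mk' _)) ?_
  · intro Γ _ _ σ hσ
    rcases (show n = 2 ∨ 3 ≤ n by omega) with rfl | hn3
    · obtain ⟨π, hπ⟩ := (CfsgLib.Known.SL2Mult.hasCyclicSchurMultiplier_SL_two (F := F)
        (fun h => hexc (by simp [h])) (fun h => hexc (by simp [h]))).2 Γ σ hσ
      refine (Subgroup.eq_bot_iff_forall _).2 fun z hz => ?_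
      obtain ⟨x, hx⟩ := hπ ⟨z, hz⟩
      rw [Subsingleton.elim x 1, map_one] at hx
      exact (congrArg Subtype.val hx).symm
    · refine CfsgLib.Known.SLn.ker_eq_bot_of_stem hn3 (CfsgLib.Known.SLn.fieldOk_of n ?_ ?_) σ hσ
      · exact fun hn' => ⟨fun h => hexc (by rw [hn', ← hcq, h]; simp), fun h => hexc (by rw [hn', ← hcq, h]; simp)⟩
      · exact fun hn' h => hexc (by rw [hn', ← hcq, h]; simp)
  · have hcyc : IsCyclic (Subgroup.center (Matrix.SpecialLinearGroup (Fin n) F)) :=
      isCyclic_of_surjective _ (Matrix.SpecialLinearGroup.center_equiv_rootsOfUnity'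
        (R := F) (Classical.arbitrary (Fin n))).symm.surjective
    refine (MulEquiv.subgroupCongr (QuotientGroup.ker_mk' _)).trans (mulEquivOfCyclicCardEq ?_)
    rw [CfsgLib.Classical.card_center_SL, Fintype.card_fin]
    exact (Nat.card_zmod _).symm

end Cfsg.Agent.S2086
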