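import Cfsg.Statements.S0201
import Cfsg.Agent.Lib.ZStar.Apps

set_option autoImplicit false
open Cfsg

namespace Cfsg.Agent.S0201

/-- Brauer–Suzuki Theorem: if a Sylow 2-subgroup of a finite group is generalized quaternion (of order at least 8) and the group has no nontrivial normal subgroup of odd order, then its centre has order 2. -/
theorem result {G : Type*} [Group G] [Finite G] (S : Sylow 2 G) (n : ℕ) (e : (S : Subgroup G) ≃* QuaternionGroup (2 ^ (n + 1))) (hO : ∀ N : Subgroup G, N.Normal → Odd (Nat.card N) → N = ⊥) : Nat.card (Subgroup.center G) = 2 := by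
  set m : ℕ := 2 ^ (n + 1) with hm
  have hm2 : 2 ≤ m := Nat.le_self_pow (by omega) 2
  have : NeZero m := ⟨by omega⟩
  have : Fact (Nat.Prime 2) := ⟨Nat.prime_two⟩
  set u : G := ((e.symm (.a (m : ZMod (2 * m))) : (S : Subgroup G)) : G) with hudef
  have huq : orderOf (QuaternionGroup.a (m : ZMod (2 * m))) = 2 := by
    rw [← QuaternionGroup.a_one_pow, orderOf_pow' _ (by omega), QuaternionGroup.orderOf_a_one,
      Nat.gcd_eq_right (Dvd.intro_left 2 rfl), Nat.mul_div_cancel _ (by omega)]
  have hu : orderOf u = 2 := by rw [hudef, Subgroup.orderOf_coe, MulEquiv.orderOf_eq, huq]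
  have huniq : ∀ x ∈ S, orderOf x = 2 → x = u := fun x hx hx2 => by
    have ho : orderOf (e ⟨x, hx⟩) = 2 := by
      rw [MulEquiv.orderOf_eq, ← Subgroup.orderOf_coe]; exact hx2
    have key : e ⟨x, hx⟩ = .a (m : ZMod (2 * m)) := by
      rcases hz : e ⟨x, hx⟩ with i | i
      · rw [hz] at ho
        have h0 : (QuaternionGroup.a i : QuaternionGroup m) ^ 2 = 1 := by
          rw [← ho, pow_orderOf_eq_one]
        rw [← ZMod.natCast_zmod_val i, ← QuaternionGroup.a_one_pow, ← pow_mul,
          ← orderOf_dvd_iff_pow_eq_one, QuaternionGroup.orderOf_a_one] at h0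
        obtain ⟨c, hc⟩ := h0
        have hlt := ZMod.val_lt i
        have hc' : i.val = m * c := by
          have : i.val * 2 = 2 * (m * c) := by rw [hc, mul_assoc]
          omega
        rcases c with _ | _ | c
        · rw [← ZMod.natCast_zmod_val i, hc'] at ho
          simp [← QuaternionGroup.one_def] at ho
        · rw [← ZMod.natCast_zmod_val i, hc']; simp
        · exfalso; nlinarith
      · rw [hz, QuaternionGroup.orderOf_xa] at ho
        norm_num at ho
    rw [hudef, ← key, e.symm_apply_apply]
  have hO' : oddCore G = ⊥ :=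
    hO _ inferInstance (CfsgLib.ZStar.odd_card_oddCore G)
  have huS : u ∈ (S : Subgroup G) := Subtype.coe_prop _
  have hucent : u ∈ Subgroup.center G := Subgroup.mem_center_iff.2 fun g => by
    have h := CfsgLib.ZStar.mem_oddCore_of_unique S hu huS huniq g
    rw [hO', Subgroup.mem_bot, mul_inv_eq_one, mul_inv_eq_iff_eq_mul] at h
    exact h.symm
  have hp : IsPGroup 2 (Subgroup.center G) := IsPGroup.iff_orderOf.2 fun z => by
    obtain ⟨k, o, ho, hzo⟩ := Nat.exists_eq_pow_mul_and_not_dvd (orderOf_pos z).ne' 2 (by norm_num)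
    have hw : orderOf ((z : G) ^ 2 ^ k) = o := by
      rw [orderOf_pow_of_dvd (by positivity) (by rw [Subgroup.orderOf_coe, hzo]; exact dvd_mul_right ..),
        Subgroup.orderOf_coe, hzo, Nat.mul_div_cancel_left _ (by positivity)]
    have hnormal : (Subgroup.zpowers ((z : G) ^ 2 ^ k)).Normal := ⟨fun a ha g => by
      have hac : a ∈ Subgroup.center G :=
        (Subgroup.zpowers_le.2 (Subgroup.pow_mem _ z.2 _)) ha
      rw [Subgroup.mem_center_iff.1 hac g, mul_inv_cancel_right]; exact ha⟩
    have h1 := hO _ hnormal (by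
      rw [Nat.card_zpowers, hw, Nat.odd_iff]
      omega)
    rw [Subgroup.zpowers_eq_bot] at h1
    refine ⟨k, ?_⟩
    rw [h1, orderOf_one] at hw
    rw [hzo, ← hw, mul_one]
  have hcS : Subgroup.center G ≤ (S : Subgroup G) :=
    (CfsgLib.Core.le_pCore hp).trans (CfsgLib.Core.pCore_le_sylow S)
  have hle : Subgroup.center G ≤ Subgroup.zpowers u := fun z hz => by
    rcases CfsgLib.ZStar.quaternion_center hm2 (z := e ⟨z, hcS hz⟩) (fun w => by
      obtain ⟨w, rfl⟩ := e.surjective w
      rw [← map_mul, ← map_mul]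
      exact congrArg e (Subtype.ext (Subgroup.mem_center_iff.1 hz w))) with h | h
    · have : (⟨z, hcS hz⟩ : (S : Subgroup G)) = 1 := e.injective (h.trans (map_one e).symm)
      rw [show z = 1 from congrArg Subtype.val this]
      exact one_mem _
    · have : (⟨z, hcS hz⟩ : (S : Subgroup G)) = e.symm (.a (m : ZMod (2 * m))) := by
        rw [← h, e.symm_apply_apply]
      rw [show z = u from congrArg Subtype.val this]
      exact Subgroup.mem_zpowers u
  rw [le_antisymm hle (Subgroup.zpowers_le.2 hucent), Nat.card_zpowers, hu]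

end Cfsg.Agent.S0201
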