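import Cfsg.Statements.S1200
import Cfsg.Agent.Lib.TwoGroups.WreathedSubgroups
import Cfsg.Agent.Lib.TwoGroups.MapEquiv

set_option autoImplicit false
open Cfsg

namespace Cfsg.Agent.S1200

/-- Let S be a wreathed 2-group of order 2^(2n+1) and Ω the subgroup generated by its involutions. Then Ω has order 2^(n+2) and S/Ω is cyclic: some s ∈ S together with Ω generates S. -/
theorem result {S : Type*} [Group S] [Finite S] (hS : Cfsg.IsWreathed S) (n : ℕ) (hn : Nat.card S = 2 ^ (2 * n + 1)) : Nat.card (Subgroup.closure {x : S | orderOf x = 2}) = 2 ^ (n + 2) ∧ ∃ s : S, Subgroup.closure {x : S | orderOf x = 2} ⊔ Subgroup.zpowers s = ⊤ := by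
  open CfsgLib.TwoGroups CfsgLib.TwoGroups.WreathTwo in
  obtain ⟨m, hcard, ⟨e⟩⟩ := of_isWreathed hS
  obtain rfl : n = m + 2 := by
    have := Nat.pow_right_injective (le_refl 2) (hn.symm.trans hcard)
    omega
  open CfsgLib.TwoGroups CfsgLib.TwoGroups.WreathTwo in
  have hcl : (Subgroup.closure {x : S | orderOf x = 2}).map e.toMonoidHom = omega m := by
    rw [MonoidHom.map_closure, ← closure_involutions]
    congr 1
    ext g
    constructor
    · rintro ⟨x, hx, rfl⟩
      show orderOf (e x) = 2
      rw [e.orderOf_eq]; exact hx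
    · intro hg
      exact ⟨e.symm g, by show orderOf (e.symm g) = 2; rw [e.symm.orderOf_eq]; exact hg,
        e.apply_symm_apply g⟩
  open CfsgLib.TwoGroups CfsgLib.TwoGroups.WreathTwo in
  refine ⟨?_, e.symm (u 1 0), (equiv_map_inj e).1 ?_⟩
  · rw [← Subgroup.card_map_of_injective (f := e.toMonoidHom) e.injective, hcl, natCard_omega]
  · rw [Subgroup.map_sup, hcl, MonoidHom.map_zpowers,
      Subgroup.map_top_of_surjective e.toMonoidHom e.surjective]
    simpa using omega_sup

end Cfsg.Agent.S1200
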