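import Cfsg.Statements.S0127
import Cfsg.Agent.Lib.Transfer.SmallClass
import Cfsg.Agent.Lib.PGroups.MaxAbelian

set_option autoImplicit false
open Cfsg

namespace Cfsg.Agent.S0127

/-- For odd p, in a non-cyclic p-group with a cyclic subgroup of index p, the elements of order dividing p generate an elementary abelian subgroup of order p^2. -/
theorem result {R : Type*} [Group R] [Finite R] {p : ℕ} [Fact p.Prime] (hp : p ≠ 2) (hR : IsPGroup p R) (hnc : ¬ IsCyclic R) (C : Subgroup R) (hC : IsCyclic C) (hCi : C.index = p) : Cfsg.IsElementaryAbelian p (Subgroup.closure {x : R | x ^ p = 1}) ∧ Nat.card (Subgroup.closure {x : R | x ^ p = 1}) = p ^ 2 := by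
  classical
  have hp' : p.Prime := Fact.out
  have : Nontrivial R := by
    by_contra hn
    rw [not_nontrivial_iff_subsingleton] at hn
    exact hnc isCyclic_of_subsingleton
  have hCn : C.Normal := CfsgLib.PGroups.normal_of_isCoatom' hR (by
    refine ⟨fun h => ?_, fun M hM => ?_⟩
    · rw [h, Subgroup.index_top] at hCi; exact hp'.ne_one hCi.symm
    · by_contra hne
      have h1 := ((Nat.dvd_prime hp').mp (hCi ▸ Subgroup.index_dvd_of_le hM.le)).resolve_left
        (fun h => hne (Subgroup.index_eq_one.mp h))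
      have h2 := Subgroup.relIndex_mul_index hM.le
      rw [hCi, h1] at h2
      exact not_le_of_gt hM (Subgroup.relIndex_eq_one.mp
        (Nat.eq_of_mul_eq_mul_right hp'.pos (h2.trans (one_mul p).symm))))
  have hpow : ∀ x : R, x ^ p ∈ C := fun x => hCi ▸ C.pow_index_mem x
  obtain ⟨c₀, hc₀⟩ := hC.exists_generator
  obtain ⟨g, hg⟩ : ∃ g : R, g ∉ C := by
    by_contra hcon
    push Not at hcon
    have hCtop : C = ⊤ := eq_top_iff.mpr fun x _ => hcon x
    rw [hCtop, Subgroup.index_top] at hCi
    exact hp'.ne_one hCi.symm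
  have hcomm : ∀ a ∈ C, ∀ b ∈ C, a * b = b * a := fun a ha b hb =>
    congrArg Subtype.val ((@IsCyclic.commGroup _ _ hC).mul_comm ⟨a, ha⟩ ⟨b, hb⟩)
  have hcp : p ∣ orderOf (c₀ : R) := by
    refine hR.dvd_orderOf fun h1 => hnc ?_
    have hb : C = ⊥ := eq_bot_iff.mpr fun x hx => by
      obtain ⟨k, hk⟩ := Subgroup.mem_zpowers_iff.mp (hc₀ ⟨x, hx⟩)
      simpa [h1] using (congrArg Subtype.val hk).symm
    refine isCyclic_of_prime_card (p := p) ?_
    rw [← C.card_mul_index, hb, Subgroup.card_bot, ← hb, hCi, one_mul]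
  obtain ⟨r, hr⟩ := Subgroup.mem_zpowers_iff.mp (hc₀ ⟨g * c₀ * g⁻¹, hCn.conj_mem _ c₀.2 g⟩)
  have hr' : g * c₀ * g⁻¹ = (c₀ : R) ^ r := by
    simpa using (congrArg Subtype.val hr).symm
  have hiter : ∀ n : ℕ, g ^ n * c₀ * (g ^ n)⁻¹ = (c₀ : R) ^ (r ^ n) := by
    intro n
    induction n with
    | zero => simp
    | succ n ih =>
        calc g ^ (n + 1) * c₀ * (g ^ (n + 1))⁻¹ = g * (g ^ n * c₀ * (g ^ n)⁻¹) * g⁻¹ := by
              rw [pow_succ']; group
          _ = (g * c₀ * g⁻¹) ^ (r ^ n) := by rw [ih, conj_zpow]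
          _ = _ := by rw [hr', ← zpow_mul, pow_succ' r n]
  have hrp : ((orderOf (c₀ : R) : ℕ) : ℤ) ∣ r ^ p - 1 := by
    rw [orderOf_dvd_iff_zpow_eq_one, zpow_sub, zpow_one, ← hiter p,
      hcomm _ (hpow g) _ c₀.2, mul_inv_cancel_right, mul_inv_cancel]
  obtain ⟨s, hs⟩ : ∃ s : ℤ, r = 1 + s := ⟨r - 1, by ring⟩
  have hsp : (p : ℤ) ∣ s := by
    have h1 : ((r ^ p - 1 : ℤ) : ZMod p) = 0 :=
      (ZMod.intCast_zmod_eq_zero_iff_dvd _ p).mpr ((Int.natCast_dvd_natCast.mpr hcp).trans hrp)
    push_cast at h1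
    rw [ZMod.pow_card, hs] at h1
    push_cast at h1
    rw [add_sub_cancel_left] at h1
    exact (ZMod.intCast_zmod_eq_zero_iff_dvd _ p).mp h1
  have hexp : ∀ n : ℕ, ∃ k : ℤ,
      (1 + s) ^ n = 1 + n * s + (n.choose 2 : ℕ) * s ^ 2 + k * s ^ 3 := by
    intro n
    induction n with
    | zero => exact ⟨0, by simp⟩
    | succ n ih =>
        obtain ⟨k, hk⟩ := ih
        refine ⟨k + (n.choose 2 : ℕ) + k * s, ?_⟩
        rw [pow_succ, hk, Nat.choose_succ_succ n 1, Nat.choose_one_right]
        push_cast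
        ring
  have hds : ((orderOf (c₀ : R) : ℕ) : ℤ) ∣ p * s := by
    obtain ⟨k, hk⟩ := hexp p
    obtain ⟨t, ht⟩ := hp'.dvd_choose_self (k := 2) (by norm_num) (by have := hp'.two_le; omega)
    obtain ⟨u, hu⟩ := hsp
    have h1 : r ^ p - 1 = p * s * (1 + p * (t * u + k * u * u)) := by
      rw [hs, hk, ht, hu]; push_cast; ring
    rw [h1] at hrp
    obtain ⟨j, hj⟩ := IsPGroup.iff_orderOf.mp hR (c₀ : R)
    rw [hj, Nat.cast_pow] at hrp ⊢
    refine IsCoprime.dvd_of_dvd_mul_right (IsCoprime.pow_left ?_) hrp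
    exact ⟨-(t * u + k * u * u), 1, by ring⟩
  set d : R := (c₀ : R) ^ s with hd
  have hgd : g * c₀ * g⁻¹ = c₀ * d := by rw [hr', hs, zpow_add, zpow_one]
  have hdp : d ^ p = 1 := by
    rw [hd, ← zpow_natCast, ← zpow_mul, mul_comm]
    exact orderOf_dvd_iff_zpow_eq_one.mp hds
  have hdC : d ∈ C := zpow_mem c₀.2 s
  have hgdg : g * d * g⁻¹ = d := by
    obtain ⟨u, hu⟩ := hsp
    rw [hd, ← conj_zpow, hgd, (show Commute (c₀ : R) d from hcomm _ c₀.2 _ hdC).mul_zpow]
    rw [show d ^ s = 1 by rw [hu, zpow_mul, zpow_natCast, hdp, one_zpow], mul_one]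
  have hgen : ∀ x : R, x ∈ C ⊔ Subgroup.zpowers g := by
    intro x
    suffices h : C ⊔ Subgroup.zpowers g = ⊤ from h ▸ Subgroup.mem_top x
    rw [← Subgroup.index_eq_one]
    refine ((Nat.dvd_prime hp').mp (hCi ▸ Subgroup.index_dvd_of_le le_sup_left)).resolve_right
      fun h => hg ?_
    have h2 := Subgroup.relIndex_mul_index (le_sup_left : C ≤ C ⊔ Subgroup.zpowers g)
    rw [hCi, h] at h2
    exact Subgroup.relIndex_eq_one.mp (Nat.eq_of_mul_eq_mul_right hp'.pos
      (h2.trans (one_mul p).symm)) (Subgroup.mem_sup_right (Subgroup.mem_zpowers g))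
  have hdc : Subgroup.zpowers d ≤ Subgroup.center R := by
    rw [Subgroup.zpowers_le, Subgroup.mem_center_iff]
    intro x
    have hle : C ⊔ Subgroup.zpowers g ≤ Subgroup.centralizer {d} := by
      refine sup_le (fun a ha => ?_) ?_
      · rw [Subgroup.mem_centralizer_singleton_iff]; exact hcomm a ha d hdC
      · rw [Subgroup.zpowers_le, Subgroup.mem_centralizer_singleton_iff]
        exact mul_inv_eq_iff_eq_mul.mp hgdg
    exact Subgroup.mem_centralizer_singleton_iff.mp (hle (hgen x))
  have hDn : (Subgroup.zpowers d).Normal := ⟨fun a ha x => by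
    rw [Subgroup.mem_center_iff.mp (hdc ha) x, mul_inv_cancel_right]; exact ha⟩
  have hder : _root_.commutator R ≤ Subgroup.zpowers d := by
    refine Subgroup.Normal.quotient_commutative_iff_commutator_le.mp ⟨⟨?_⟩⟩
    set π := QuotientGroup.mk' (Subgroup.zpowers d)
    have hπg : ∀ a ∈ C, Commute (π g) (π a) := by
      intro a ha
      obtain ⟨k, hk⟩ := Subgroup.mem_zpowers_iff.mp (hc₀ ⟨a, ha⟩)
      rw [show a = (c₀ : R) ^ k by simpa using (congrArg Subtype.val hk).symm, map_zpow]
      refine Commute.zpow_right ?_ k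
      show π g * π c₀ = π c₀ * π g
      rw [← map_mul, ← map_mul, mul_inv_eq_iff_eq_mul.mp hgd, map_mul, map_mul,
        show π d = 1 from (QuotientGroup.eq_one_iff d).mpr (Subgroup.mem_zpowers d), mul_one,
        map_mul]
    have hπ : ∀ x y : R, Commute (π x) (π y) := by
      intro x y
      have hCle : ∀ a ∈ C, Commute (π a) (π y) := by
        intro a ha
        have hle : C ⊔ Subgroup.zpowers g ≤ (Subgroup.centralizer {π a}).comap π := by
          refine sup_le (fun b hb => ?_) ?_
          · rw [Subgroup.mem_comap, Subgroup.mem_centralizer_singleton_iff]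
            exact ((show Commute b a from hcomm b hb a ha).map π).eq
          · rw [Subgroup.zpowers_le, Subgroup.mem_comap, Subgroup.mem_centralizer_singleton_iff]
            exact (hπg a ha).eq
        exact (Subgroup.mem_centralizer_singleton_iff.mp (hle (hgen y))).symm
      have hgy : Commute (π g) (π y) := by
        have hle : C ⊔ Subgroup.zpowers g ≤ (Subgroup.centralizer {π g}).comap π := by
          refine sup_le (fun b hb => ?_) ?_
          · rw [Subgroup.mem_comap, Subgroup.mem_centralizer_singleton_iff]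
            exact (hπg b hb).symm.eq
          · rw [Subgroup.zpowers_le, Subgroup.mem_comap, Subgroup.mem_centralizer_singleton_iff]
        exact (Subgroup.mem_centralizer_singleton_iff.mp (hle (hgen y))).symm
      have hle : C ⊔ Subgroup.zpowers g ≤ (Subgroup.centralizer {π y}).comap π := by
        refine sup_le (fun b hb => ?_) ?_
        · rw [Subgroup.mem_comap, Subgroup.mem_centralizer_singleton_iff]
          exact (hCle b hb).eq
        · rw [Subgroup.zpowers_le, Subgroup.mem_comap, Subgroup.mem_centralizer_singleton_iff]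
          exact hgy.eq
      exact Subgroup.mem_centralizer_singleton_iff.mp (hle (hgen x))
    intro u v
    obtain ⟨x, rfl⟩ := QuotientGroup.mk_surjective u
    obtain ⟨y, rfl⟩ := QuotientGroup.mk_surjective v
    exact (hπ x y).eq
  have hsc : CfsgLib.Transfer.SmallClass p R := by
    refine Or.inl ⟨hp, eq_bot_iff.mpr (Subgroup.commutator_le.mpr fun a ha b _ => ?_)⟩
    rw [Subgroup.mem_bot, commutatorElement_eq_one_iff_mul_comm]
    exact (Subgroup.mem_center_iff.mp (hdc (hder ha)) b).symm
  have hder' : _root_.commutator R ≤ Subgroup.closure {x : R | x ^ p = 1} :=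
    hder.trans (Subgroup.zpowers_le.mpr (Subgroup.subset_closure hdp))
  let f : R →* R :=
    { toFun := fun x => x ^ p, map_one' := one_pow p,
      map_mul' := hsc.mul_pow_of_commutator_le hR hder' }
  have hW : Subgroup.closure {x : R | x ^ p = 1} = f.ker :=
    le_antisymm ((Subgroup.closure_le _).mpr fun x hx => hx) fun x hx => Subgroup.subset_closure hx
  rw [hW]
  have hlt : f.range < C := by
    refine lt_of_le_of_ne (by rintro _ ⟨x, rfl⟩; exact hpow x) fun he => hnc ?_
    obtain ⟨x, hx⟩ : (c₀ : R) ∈ f.range := he ▸ c₀.2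
    have hx' : x ^ p = c₀ := hx
    refine isCyclic_of_orderOf_eq_card x ?_
    have hcard : orderOf (c₀ : R) = Nat.card C := by
      rw [Subgroup.orderOf_coe]; exact orderOf_eq_card_of_forall_mem_zpowers hc₀
    have hne : x ≠ 1 := fun h => by
      rw [h, one_pow] at hx'
      rw [← hx', orderOf_one] at hcp
      exact hp'.not_dvd_one hcp
    rw [← C.card_mul_index, hCi, ← hcard, ← hx', orderOf_pow,
      Nat.gcd_eq_right (hR.dvd_orderOf hne)]
    exact (Nat.div_mul_cancel (hR.dvd_orderOf hne)).symm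
  have h1 : p * Nat.card f.range ≤ Nat.card C :=
    CfsgLib.PGroups.mul_card_le_of_lt (hR.to_subgroup C) hlt
  have hge : p ^ 2 ≤ Nat.card f.ker := by
    have h2 := f.ker.card_mul_index
    rw [Subgroup.index_ker] at h2
    have h3 := C.card_mul_index
    rw [hCi] at h3
    have hpos : 0 < Nat.card f.range := Nat.card_pos
    by_contra hc
    push Not at hc
    nlinarith
  have hle : Nat.card f.ker ≤ p ^ 2 := by
    have : Fintype C := Fintype.ofFinite _
    have h2 : Nat.card (C.subgroupOf f.ker) ≤ p := by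
      refine le_trans (Nat.card_le_card_of_injective
        (fun a : C.subgroupOf f.ker => (⟨⟨((a : f.ker) : R), Subgroup.mem_subgroupOf.mp a.2⟩,
          Subtype.ext (a : f.ker).2⟩ : {b : C // b ^ p = 1})) fun a b hab => ?_) ?_
      · exact Subtype.ext (Subtype.ext (congrArg (fun z => ((z : {b : C // b ^ p = 1}) : C).1) hab))
      · rw [Nat.card_eq_fintype_card, Fintype.card_subtype]
        exact IsCyclic.card_pow_eq_one_le hp'.pos
    have h3 : (C.subgroupOf f.ker).index ≤ p := by
      rw [← Subgroup.relIndex, ← hCi]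
      exact Nat.le_of_dvd (Nat.pos_of_ne_zero Subgroup.index_ne_zero_of_finite)
        (Subgroup.relIndex_dvd_index_of_normal C f.ker)
    rw [← (C.subgroupOf f.ker).card_mul_index, pow_two]
    exact Nat.mul_le_mul h2 h3
  have heq : Nat.card f.ker = p ^ 2 := le_antisymm hle hge
  exact ⟨⟨IsPGroup.isMulCommutative_of_card_eq_prime_sq heq, fun a ha => ha⟩, heq⟩

end Cfsg.Agent.S0127
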