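import Cfsg.Statements.S1134
import Cfsg.Agent.Lib.Lie.RankOneNilpotent

set_option autoImplicit false
set_option maxHeartbeats 400000
open Cfsg

namespace Cfsg.Agent.S1134

/-- In the rank-one set-up (`G` finite and doubly transitive on `Ω`, `t` an involution moving `a`, `Q` normal in `G_a` with `G_a = Q D`, `Q ⊓ D = 1` for the two-point stabiliser `D = G_a ⊓ G_{t • a}`, `|Q|` even, `|D|` odd), with the action faithful and `G` containing two distinct commuting involutions, with `V = C_D(t)`: subsets of `V` conjugate in `G` are conjugate in `V`. -/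
theorem result {G Ω : Type*} [Group G] [Finite G] [MulAction G Ω] [FaithfulSMul G Ω] {a : Ω} {t : G} {Q : Subgroup G}
    (hS : Cfsg.IsRankOneSetup G Ω a t Q)
    (h2 : ∃ x y : G, x ≠ 1 ∧ y ≠ 1 ∧ x ≠ y ∧ x * x = 1 ∧ y * y = 1 ∧ x * y = y * x)
    (X : Set G) (hX : X ⊆ (((MulAction.stabilizer G a ⊓ MulAction.stabilizer G (t • a)) ⊓ Subgroup.centralizer {t} : Subgroup G) : Set G)) (g : G)
    (hY : (fun x => g * x * g⁻¹) '' X ⊆ (((MulAction.stabilizer G a ⊓ MulAction.stabilizer G (t • a)) ⊓ Subgroup.centralizer {t} : Subgroup G) : Set G)) :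
    ∃ v ∈ (MulAction.stabilizer G a ⊓ MulAction.stabilizer G (t • a)) ⊓ Subgroup.centralizer {t}, (fun x => v * x * v⁻¹) '' X = (fun x => g * x * g⁻¹) '' X := by
  open CfsgLib.Lie.RankOne in
  have hXV : ∀ x ∈ X, x ∈ MulAction.stabilizer G a ⊓ MulAction.stabilizer G (t • a) ∧ x * t = t * x :=
    fun x hx => ⟨(Subgroup.mem_inf.1 (hX hx)).1,
      Subgroup.mem_centralizer_singleton_iff.1 (Subgroup.mem_inf.1 (hX hx)).2⟩
  have hYV : ∀ y ∈ (fun x => g * x * g⁻¹) '' X,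
      y ∈ MulAction.stabilizer G a ⊓ MulAction.stabilizer G (t • a) ∧ y * t = t * y :=
    fun y hy => ⟨(Subgroup.mem_inf.1 (hY hy)).1,
      Subgroup.mem_centralizer_singleton_iff.1 (Subgroup.mem_inf.1 (hY hy)).2⟩
  set Y := (fun x => g * x * g⁻¹) '' X with hYdef
  have hfix : ∀ c : Ω, (∀ x ∈ X, x • c = c) → ∀ y ∈ Y, y • (g • c) = g • c := by
    rintro c hc _ ⟨x, hx, rfl⟩
    rw [mul_smul, inv_smul_smul, mul_smul, hc x hx]
  obtain ⟨h, hh, hha, hhb⟩ := CfsgLib.Lie.RankOne.centralizer_two_transitive hS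
    (X := Y) (fun y hy => (hYV y hy).1)
    (CfsgLib.Lie.RankOne.third_of_centralizes hS fun y hy => (hYV y hy).2)
    (c₁ := g • a) (c₂ := g • (t • a))
    (hfix a fun x hx => (CfsgLib.Lie.RankOne.mem_D.1 (hXV x hx).1).1)
    (hfix (t • a) fun x hx => (CfsgLib.Lie.RankOne.mem_D.1 (hXV x hx).1).2)
    (fun e => CfsgLib.Lie.RankOne.t_smul_ne hS (smul_left_cancel g e).symm)
  have hd : h⁻¹ * g ∈ MulAction.stabilizer G a ⊓ MulAction.stabilizer G (t • a) :=
    CfsgLib.Lie.RankOne.mem_D.2 ⟨by rw [mul_smul, ← hha, inv_smul_smul],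
      by rw [mul_smul, ← hhb, inv_smul_smul]⟩
  obtain ⟨v, k, hv, hvt, hk, hde⟩ := CfsgLib.Lie.RankOne.D_split hS hd
  refine ⟨v, Subgroup.mem_inf.2 ⟨hv, Subgroup.mem_centralizer_singleton_iff.2 hvt⟩, ?_⟩
  refine Set.image_congr fun x hx => ?_
  have hy : g * x * g⁻¹ ∈ Y := ⟨x, hx, rfl⟩
  have hxx : v * (k * x * k⁻¹) * v⁻¹ = g * x * g⁻¹ := by
    have h1 := Subgroup.mem_centralizer_iff.1 hh _ hy
    calc v * (k * x * k⁻¹) * v⁻¹ = (v * k) * x * (v * k)⁻¹ := by group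
      _ = h⁻¹ * (g * x * g⁻¹ * h) := by rw [← hde]; group
      _ = g * x * g⁻¹ := by rw [h1, inv_mul_cancel_left]
  set y := k * x * k⁻¹ with hyd
  have hyt : y * t = t * y := by
    have h1 := (hYV _ hy).2
    rw [← hxx] at h1
    refine mul_left_cancel (a := v) (mul_right_cancel (b := v⁻¹) ?_)
    calc v * (y * t) * v⁻¹ = (v * y * v⁻¹) * (v * t * v⁻¹) := by group
      _ = (v * y * v⁻¹) * t := by rw [hvt, mul_inv_cancel_right]
      _ = t * (v * y * v⁻¹) := h1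
      _ = (v * t * v⁻¹) * (v * y * v⁻¹) := by rw [hvt, mul_inv_cancel_right]
      _ = v * (t * y) * v⁻¹ := by group
  have h2' : k⁻¹ * x * k = k * x * k⁻¹ := by
    have hxt : t * x * t⁻¹ = x := by rw [← (hXV x hx).2, mul_inv_cancel_right]
    calc k⁻¹ * x * k = (t * k * t⁻¹) * (t * x * t⁻¹) * (t * k * t⁻¹)⁻¹ := by
          rw [hk.2, hxt, inv_inv]
      _ = t * y * t⁻¹ := by rw [hyd]; group
      _ = k * x * k⁻¹ := by rw [← hyt, mul_inv_cancel_right]
  have hc2 : Commute (k ^ 2) x := by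
    refine mul_inv_eq_iff_eq_mul.mp ?_
    calc k ^ 2 * x * (k ^ 2)⁻¹ = k * (k * x * k⁻¹) * k⁻¹ := by simp [sq, mul_assoc]
      _ = x := by rw [← h2']; group
  obtain ⟨j, hj⟩ := CfsgLib.Lie.RankOne.D_odd hS hk.1
  have hkk : (k ^ 2) ^ (j + 1) = k := by
    rw [← pow_mul, show 2 * (j + 1) = orderOf k + 1 by omega, pow_succ, pow_orderOf_eq_one, one_mul]
  have hc1 : Commute k x := hkk ▸ hc2.pow_left (j + 1)
  show v * x * v⁻¹ = g * x * g⁻¹
  rw [← hxx, hyd, hc1.eq, mul_inv_cancel_right]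

end Cfsg.Agent.S1134
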