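import Cfsg.Statements.S1124
import Mathlib.GroupTheory.OrderOfElement
import Mathlib.Algebra.Group.Subgroup.Pointwise

set_option autoImplicit false
open scoped Pointwise
open Cfsg

namespace Cfsg.Agent.S1124

/-- Let `t` be an element of order 2 of a finite group normalising a subgroup `X` of odd order, `Y = C_X(t)` and `Z` the set of elements of `X` inverted by `t`. Then `(y, z) ↦ y z` is a bijection `Y × Z → X`, so `|X| = |Y| |Z|`, and the subgroup generated by `Z` is normal in `X`. -/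
theorem result {M : Type*} [Group M] [Finite M]
    (t : M) (ht : orderOf t = 2) (X : Subgroup M) (hodd : Odd (Nat.card X))
    (hnorm : ∀ x ∈ X, t * x * t⁻¹ ∈ X) :
    (∀ x ∈ X, ∃! p : M × M, p.1 ∈ X ⊓ Subgroup.centralizer {t} ∧ p.2 ∈ Cfsg.invertedBy X t ∧ x = p.1 * p.2) ∧
      Nat.card X = Nat.card ↥(X ⊓ Subgroup.centralizer {t}) * Nat.card (Cfsg.invertedBy X t) ∧
      ∀ x ∈ X, MulAut.conj x • Subgroup.closure (Cfsg.invertedBy X t) = Subgroup.closure (Cfsg.invertedBy X t) := by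

  classical
  have tt : t * t = 1 := by rw [← sq, ← ht]; exact pow_orderOf_eq_one t
  have ti : t⁻¹ = t := inv_eq_of_mul_eq_one_right tt
  obtain ⟨k, hk⟩ := hodd
  have hpow : ∀ w ∈ X, (w ^ (k + 1)) * (w ^ (k + 1)) = w := by
    intro w hw
    have h1 : (⟨w, hw⟩ : X) ^ Nat.card X = 1 := pow_card_eq_one'
    rw [← pow_add, show k + 1 + (k + 1) = Nat.card X + 1 by omega, pow_succ]
    have h2 : w ^ Nat.card X = 1 := congrArg Subtype.val h1
    rw [h2, one_mul]
  have huniq : ∀ i ∈ X, ∀ j ∈ X, i * i = j * j → i = j := by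
    intro i hi j hj e
    rw [← hpow i hi, ← hpow j hj, ← (Commute.refl i).mul_pow, ← (Commute.refl j).mul_pow, e]
  have key : ∀ x ∈ X, ∃! p : M × M, p.1 ∈ X ⊓ Subgroup.centralizer {t} ∧ p.2 ∈ Cfsg.invertedBy X t ∧ x = p.1 * p.2 := by
    intro x hx
    have hφ : t * x * t⁻¹ ∈ X := hnorm x hx
    have hw : (t * x * t⁻¹)⁻¹ * x ∈ X := mul_mem (inv_mem hφ) hx
    have hwinv : t * ((t * x * t⁻¹)⁻¹ * x) * t⁻¹ = ((t * x * t⁻¹)⁻¹ * x)⁻¹ := by
      have : ∀ z : M, t * (t * z) = z := fun z => by rw [← mul_assoc, tt, one_mul]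
      simp [ti, mul_assoc, this, tt]
    generalize hwdef : (t * x * t⁻¹)⁻¹ * x = w at hw hwinv
    have hi : w ^ (k + 1) ∈ X := pow_mem hw _
    have hiinv : t * w ^ (k + 1) * t⁻¹ = (w ^ (k + 1))⁻¹ := by rw [← conj_pow, hwinv, inv_pow]
    refine ⟨(x * (w ^ (k + 1))⁻¹, w ^ (k + 1)), ⟨Subgroup.mem_inf.2 ⟨mul_mem hx (inv_mem hi), ?_⟩, ⟨hi, hiinv⟩,
      by simp⟩, ?_⟩
    · rw [Subgroup.mem_centralizer_singleton_iff]
      have h2 : t * (x * (w ^ (k + 1))⁻¹) * t⁻¹ = x * (w ^ (k + 1))⁻¹ := by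
        rw [show t * (x * (w ^ (k + 1))⁻¹) * t⁻¹ = (t * x * t⁻¹) * (t * w ^ (k + 1) * t⁻¹)⁻¹ by group, hiinv, inv_inv,
          show t * x * t⁻¹ = x * w⁻¹ by rw [← hwdef]; group]
        conv_lhs => rw [show w⁻¹ = (w ^ (k + 1) * w ^ (k + 1))⁻¹ by rw [hpow w hw]]
        group
      first
        | exact (mul_inv_eq_iff_eq_mul.1 h2).symm
        | exact mul_inv_eq_iff_eq_mul.1 h2
    · rintro ⟨c, i⟩ ⟨hc, ⟨hiX, hiI⟩, e⟩
      obtain ⟨hcX, hct⟩ := Subgroup.mem_inf.1 hc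
      rw [Subgroup.mem_centralizer_singleton_iff] at hct
      dsimp only at e hct hcX hiX hiI
      have hc2 : t * c * t⁻¹ = c := by
        first
          | rw [hct, mul_inv_cancel_right]
          | rw [← hct, mul_inv_cancel_right]
      have h3 : w = i * i := by
        rw [← hwdef, e, show t * (c * i) * t⁻¹ = (t * c * t⁻¹) * (t * i * t⁻¹) by group, hiI, hc2]
        group
      have h4 : i = w ^ (k + 1) := huniq i hiX _ hi (by rw [hpow w hw, h3])
      refine Prod.ext ?_ h4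
      show c = x * (w ^ (k + 1))⁻¹
      rw [← h4, e, mul_inv_cancel_right]
  refine ⟨key, ?_, fun x hx => ?_⟩
  · rw [← Nat.card_prod]
    refine (Nat.card_eq_of_bijective
      (fun p : ↥(X ⊓ Subgroup.centralizer {t}) × Cfsg.invertedBy X t =>
        (⟨(p.1 : M) * p.2, mul_mem (Subgroup.mem_inf.1 p.1.2).1 p.2.2.1⟩ : X)) ⟨fun p p' e => ?_, fun x => ?_⟩).symm
    · have h5 := (key _ (mul_mem (Subgroup.mem_inf.1 p.1.2).1 p.2.2.1)).unique
        (y₁ := ((p.1 : M), (p.2 : M))) (y₂ := ((p'.1 : M), (p'.2 : M))) ⟨p.1.2, p.2.2, rfl⟩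
        ⟨p'.1.2, p'.2.2, congrArg Subtype.val e⟩
      exact Prod.ext (Subtype.ext (Prod.ext_iff.1 h5).1) (Subtype.ext (Prod.ext_iff.1 h5).2)
    · obtain ⟨⟨c, i⟩, ⟨hc, hi, e⟩, _⟩ := key x x.2
      exact ⟨(⟨c, hc⟩, ⟨i, hi⟩), Subtype.ext e.symm⟩
  · have hle : X ≤ Subgroup.normalizer ((Subgroup.closure (Cfsg.invertedBy X t) : Subgroup M) : Set M) := by
      intro z hz
      obtain ⟨⟨c, i⟩, ⟨hc, hi, e⟩, _⟩ := key z hz
      dsimp only at e
      rw [e]
      refine mul_mem ?_ (Subgroup.le_normalizer (Subgroup.subset_closure hi))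
      obtain ⟨hcX, hct⟩ := Subgroup.mem_inf.1 hc
      have fwd : ∀ d : M, d ∈ X → t * d * t⁻¹ = d → ∀ g ∈ Subgroup.closure (Cfsg.invertedBy X t),
          d * g * d⁻¹ ∈ Subgroup.closure (Cfsg.invertedBy X t) := by
        intro d hd hdt g hg
        induction hg using Subgroup.closure_induction with
        | mem y hy =>
          refine Subgroup.subset_closure ⟨mul_mem (mul_mem hd hy.1) (inv_mem hd), ?_⟩
          rw [show t * (d * y * d⁻¹) * t⁻¹ = (t * d * t⁻¹) * (t * y * t⁻¹) * (t * d * t⁻¹)⁻¹ by group, hdt, hy.2]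
          group
        | one => simp
        | mul y z _ _ h1 h2 => simpa [mul_assoc] using mul_mem h1 h2
        | inv y _ h1 => simpa [mul_assoc] using inv_mem h1
      rw [Subgroup.mem_centralizer_singleton_iff] at hct
      have hc2 : t * c * t⁻¹ = c := by
        first
          | rw [hct, mul_inv_cancel_right]
          | rw [← hct, mul_inv_cancel_right]
      have hc3 : t * c⁻¹ * t⁻¹ = c⁻¹ := (conj_inv).symm.trans (congrArg (·⁻¹) hc2)
      rw [Subgroup.mem_normalizer_iff]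
      intro g
      refine ⟨fwd c hcX hc2 g, fun hg => ?_⟩
      have := fwd c⁻¹ (inv_mem hcX) hc3 _ hg
      simpa [mul_assoc] using this
    ext g
    rw [Subgroup.mem_pointwise_smul_iff_inv_smul_mem]
    have h6 := Subgroup.mem_normalizer_iff.1 (inv_mem (hle hx)) g
    rw [inv_inv] at h6
    refine Iff.trans ?_ h6.symm
    rw [← map_inv, MulAut.smul_def, MulAut.conj_apply, inv_inv]

end Cfsg.Agent.S1124
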