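import Cfsg.Statements.S1127
import Cfsg.Agent.Lib.Lie.RankOneInvolutions

set_option autoImplicit false
set_option maxHeartbeats 400000
open Cfsg

namespace Cfsg.Agent.S1127

/-- In the rank-one set-up (`G` finite and doubly transitive on `Ω`, `t` an involution moving `a`, `Q` normal in `G_a` with `G_a = Q D`, `Q ⊓ D = 1` for the two-point stabiliser `D = G_a ⊓ G_{t • a}`, `|Q|` even, `|D|` odd): if `s` is an involution of `G_a` and `r ∈ Q` satisfy `t s t = r⁻¹ t r`, then `C_D(t) = C_D(s)`; moreover `C_D(t) ⊓ C_D(K) = C_D(I ∩ G_a)`, where `K` is the set of elements of `D` inverted by `t` and `I ∩ G_a` the set of involutions of `G_a`. -/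
theorem result {G Ω : Type*} [Group G] [Finite G] [MulAction G Ω] {a : Ω} {t : G} {Q : Subgroup G}
    (hS : Cfsg.IsRankOneSetup G Ω a t Q) :
    (∀ s r : G, s ∈ Cfsg.involutionsIn (MulAction.stabilizer G a : Set G) → r ∈ Q → t * s * t = r⁻¹ * t * r →
        (MulAction.stabilizer G a ⊓ MulAction.stabilizer G (t • a)) ⊓ Subgroup.centralizer {t} = (MulAction.stabilizer G a ⊓ MulAction.stabilizer G (t • a)) ⊓ Subgroup.centralizer {s}) ∧
      (MulAction.stabilizer G a ⊓ MulAction.stabilizer G (t • a)) ⊓ Subgroup.centralizer {t} ⊓ Subgroup.centralizer (Cfsg.invertedBy (MulAction.stabilizer G a ⊓ MulAction.stabilizer G (t • a)) t) =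
        (MulAction.stabilizer G a ⊓ MulAction.stabilizer G (t • a)) ⊓ Subgroup.centralizer (Cfsg.involutionsIn (MulAction.stabilizer G a : Set G)) := by
  open CfsgLib.Lie.RankOne in
  have first : ∀ s r : G, s ∈ Cfsg.involutionsIn (MulAction.stabilizer G a : Set G) → r ∈ Q →
      t * s * t = r⁻¹ * t * r → ∀ d ∈ (MulAction.stabilizer G a ⊓ MulAction.stabilizer G (t • a)),
        (d * t = t * d ↔ d * s = s * d) :=
    fun s r hs hr he d hd => centralizer_distinguished hS hs hr he hd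
  refine ⟨fun s r hs hr he => ?_, ?_⟩
  · ext d
    simp only [Subgroup.mem_inf (p := MulAction.stabilizer G a ⊓ MulAction.stabilizer G (t • a)),
      Subgroup.mem_centralizer_singleton_iff]
    exact ⟨fun ⟨hd, h⟩ => ⟨hd, (first s r hs hr he d hd).1 h⟩,
      fun ⟨hd, h⟩ => ⟨hd, (first s r hs hr he d hd).2 h⟩⟩
  obtain ⟨⟨s, r⟩, ⟨hs, hr, he⟩, -⟩ := CfsgLib.Lie.RankOne.structure_equation hS
  dsimp only at hs hr he
  ext d
  simp only [Subgroup.mem_inf (p := MulAction.stabilizer G a ⊓ MulAction.stabilizer G (t • a) ⊓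
    Subgroup.centralizer {t}), Subgroup.mem_inf (p := MulAction.stabilizer G a ⊓
    MulAction.stabilizer G (t • a)), Subgroup.mem_centralizer_singleton_iff]
  simp only [Subgroup.mem_centralizer_iff]
  constructor
  · rintro ⟨⟨hd, hdt⟩, hdK⟩
    refine ⟨hd, fun z hz => ?_⟩
    obtain ⟨k, ⟨hk, rfl⟩, -⟩ := CfsgLib.Lie.RankOne.exists_unique_K hS hs hz
    have h1 : Commute d k := (hdK k hk).symm
    exact ((h1.inv_right.mul_right ((first s r hs hr he d hd).1 hdt)).mul_right h1).symm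
  · rintro ⟨hd, hI⟩
    have hds : d * s = s * d := (hI s hs).symm
    have hdt := (first s r hs hr he d hd).2 hds
    refine ⟨⟨hd, hdt⟩, fun k hk => ?_⟩
    have hz : k⁻¹ * s * k ∈ Cfsg.involutionsIn (MulAction.stabilizer G a : Set G) := by
      have := CfsgLib.Lie.RankOne.conj_mem_J hS hs (inv_mem (CfsgLib.Lie.RankOne.mem_D.1 hk.1).1)
      rwa [inv_inv] at this
    have hk' : d * k * d⁻¹ ∈ Cfsg.invertedBy (MulAction.stabilizer G a ⊓ MulAction.stabilizer G (t • a)) t := by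
      refine ⟨mul_mem (mul_mem hd hk.1) (inv_mem hd), ?_⟩
      have h2 : t * d * t⁻¹ = d := by rw [← hdt, mul_inv_cancel_right]
      calc t * (d * k * d⁻¹) * t⁻¹ = (t * d * t⁻¹) * (t * k * t⁻¹) * (t * d * t⁻¹)⁻¹ := by group
        _ = (d * k * d⁻¹)⁻¹ := by rw [h2, hk.2]; group
    have h3 := (CfsgLib.Lie.RankOne.exists_unique_K hS hs hz).unique ⟨hk', ?_⟩ ⟨hk, rfl⟩
    · exact (mul_inv_eq_iff_eq_mul.mp h3).symm
    calc (d * k * d⁻¹)⁻¹ * s * (d * k * d⁻¹) = d * (k⁻¹ * (d⁻¹ * (s * d)) * k) * d⁻¹ := by group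
      _ = d * (k⁻¹ * s * k) * d⁻¹ := by rw [← hds, inv_mul_cancel_left]
      _ = k⁻¹ * s * k := by rw [← hI _ hz, mul_inv_cancel_right]

end Cfsg.Agent.S1127
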