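import Cfsg.Statements.S1132
import Cfsg.Agent.Lib.ClassSizes.OddTransitive.RankOne

set_option autoImplicit false
open Cfsg

namespace Cfsg.Agent.S1132

/-- In the rank-one set-up (`G` finite and doubly transitive on `Ω`, `t` an involution moving `a`, `Q` normal in `G_a` with `G_a = Q D`, `Q ⊓ D = 1` for the two-point stabiliser `D = G_a ⊓ G_{t • a}`, `|Q|` even, `|D|` odd), with the action faithful and `G` containing two distinct commuting involutions: a Sylow 2-subgroup of `Q` is abelian or a Suzuki 2-group. -/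
theorem result {G Ω : Type*} [Group G] [Finite G] [MulAction G Ω] [FaithfulSMul G Ω] {a : Ω} {t : G} {Q : Subgroup G}
    (hS : Cfsg.IsRankOneSetup G Ω a t Q)
    (h2 : ∃ x y : G, x ≠ 1 ∧ y ≠ 1 ∧ x ≠ y ∧ x * x = 1 ∧ y * y = 1 ∧ x * y = y * x)
    (S : Sylow 2 ↥Q) : IsMulCommutative (S : Subgroup ↥Q) ∨ Cfsg.IsSuzukiTwoGroup ↥(S : Subgroup ↥Q) := by
  classical
  open CfsgLib.Lie.RankOne in
  by_cases hab : ∀ x y : (S : Subgroup ↥Q), x * y = y * x
  · exact Or.inl ⟨⟨hab⟩⟩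
  push Not at hab
  right
  obtain ⟨C, hC, hcyc, hn⟩ := CfsgLib.OddTransitive.RankOne.exists_cyclic hS h2
  haveI := hcyc
  haveI := CfsgLib.Lie.RankOne.Q_nilpotent hS h2
  have hSn : (S : Subgroup ↥Q).Normal :=
    S.normal_of_normalizerCondition Group.normalizerCondition_of_isNilpotent
  have hSchar : (S : Subgroup ↥Q).Characteristic := S.characteristic_of_normal hSn
  -- the two-elements of `Q` lie in `S`
  have hmem : ∀ q : ↥Q, q * q = 1 → q ∈ (S : Subgroup ↥Q) := by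
    intro q hq
    have hp : IsPGroup 2 (Subgroup.zpowers q) := fun z => by
      obtain ⟨i, hi⟩ := z.2
      refine ⟨1, Subtype.ext ?_⟩
      show (z : ↥Q) ^ 2 ^ 1 = 1
      have h1 : q ^ i = (z : ↥Q) := hi
      rw [← h1, pow_one, pow_two, ← (Commute.refl q).mul_zpow, hq, one_zpow]
    obtain ⟨T, hT⟩ := hp.exists_le_sylow
    have := Sylow.unique_of_normal S hSn
    rw [Subsingleton.elim S T]
    exact hT (Subgroup.mem_zpowers q)
  have hCD : ∀ c ∈ C, c ∈ MulAction.stabilizer G a ⊓ MulAction.stabilizer G (t • a) :=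
    fun c hc => ((Set.ext_iff.1 hC c).1 hc).1
  have hQconj : ∀ c ∈ C, ∀ q ∈ Q, c * q * c⁻¹ ∈ Q := fun c hc q hq =>
    hS.conj_mem c (Subgroup.mem_inf.1 (hCD c hc)).1 q hq
  let ψ : ↥C → MulAut ↥Q := fun c =>
    { toFun := fun q => ⟨c * q * c⁻¹, hQconj c c.2 q q.2⟩
      invFun := fun q => ⟨(c : G)⁻¹ * q * c, by
        simpa using hQconj _ (inv_mem c.2) q q.2⟩
      left_inv := fun q => Subtype.ext (by simp [mul_assoc])
      right_inv := fun q => Subtype.ext (by simp [mul_assoc])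
      map_mul' := fun q q' => Subtype.ext (by simp [mul_assoc]) }
  have hψS : ∀ c : ↥C, ∀ q : ↥Q, q ∈ (S : Subgroup ↥Q) → ψ c q ∈ (S : Subgroup ↥Q) := by
    intro c q hq
    rw [← Subgroup.characteristic_iff_map_eq.1 hSchar (ψ c)]
    exact ⟨q, hq, rfl⟩
  have hψi : ∀ c : ↥C, ∀ q : ↥Q, q ∈ (S : Subgroup ↥Q) → (ψ c).symm q ∈ (S : Subgroup ↥Q) := by
    intro c q hq
    rw [← Subgroup.characteristic_iff_map_eq.1 hSchar (ψ c).symm]
    exact ⟨q, hq, rfl⟩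
  let act : ↥C →* MulAut ↥(S : Subgroup ↥Q) :=
    { toFun := fun c =>
        { toFun := fun x => ⟨ψ c (x : ↥Q), hψS c (x : ↥Q) x.2⟩
          invFun := fun x => ⟨(ψ c).symm (x : ↥Q), hψi c (x : ↥Q) x.2⟩
          left_inv := fun x => Subtype.ext ((ψ c).symm_apply_apply (x : ↥Q))
          right_inv := fun x => Subtype.ext ((ψ c).apply_symm_apply (x : ↥Q))
          map_mul' := fun x y => Subtype.ext (map_mul (ψ c) (x : ↥Q) (y : ↥Q)) }
      map_one' := MulEquiv.ext fun x => Subtype.ext (Subtype.ext (by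
        show ((1 : ↥C) : G) * _ * ((1 : ↥C) : G)⁻¹ = _
        simp))
      map_mul' := fun c d => MulEquiv.ext fun x => Subtype.ext (Subtype.ext (by
        show ((c : G) * d) * ((x : ↥Q) : G) * ((c : G) * d)⁻¹ =
          (c : G) * ((d : G) * ((x : ↥Q) : G) * (d : G)⁻¹) * (c : G)⁻¹
        simp [mul_assoc])) }
  have hinv : ∀ x : (S : Subgroup ↥Q), x ≠ 1 → x * x = 1 →
      ((x : ↥Q) : G) ∈ Cfsg.involutionsIn (MulAction.stabilizer G a : Set G) := by
    intro x hx1 hx2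
    exact ⟨hS.le (x : ↥Q).2, fun h => hx1 (Subtype.ext (Subtype.ext h)),
      congrArg (fun z : (S : Subgroup ↥Q) => ((z : ↥Q) : G)) hx2⟩
  have hcr : IsCyclic act.range := isCyclic_of_surjective act.rangeRestrict act.rangeRestrict_surjective
  refine ⟨inferInstance, S.isPGroup', hab, ?_, act.range, hcr, ?_⟩
  · obtain ⟨s, s', hs, hs', hne, -⟩ := CfsgLib.Lie.RankOne.exists_J_pair hS h2
    have lift : ∀ s, s ∈ Cfsg.involutionsIn (MulAction.stabilizer G a : Set G) →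
        ∃ x : (S : Subgroup ↥Q), ((x : ↥Q) : G) = s ∧ x ≠ 1 ∧ x * x = 1 := by
      intro s hs
      refine ⟨⟨⟨s, CfsgLib.Lie.RankOne.J_mem_Q hS hs⟩, hmem _ (Subtype.ext hs.2.2)⟩, rfl,
        fun h => hs.2.1 ?_, Subtype.ext (Subtype.ext hs.2.2)⟩
      exact congrArg (fun z : (S : Subgroup ↥Q) => ((z : ↥Q) : G)) h
    obtain ⟨x, hx, hx1, hx2⟩ := lift s hs
    obtain ⟨y, hy, hy1, hy2⟩ := lift s' hs'
    exact ⟨x, y, fun h => hne (by rw [← hx, ← hy, h]), hx1, hx2, hy1, hy2⟩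
  · intro x y hx1 hx2 hy1 hy2
    obtain ⟨k, ⟨hk, hke⟩, hku⟩ :=
      CfsgLib.Lie.RankOne.exists_unique_K hS (hinv x hx1 hx2) (hinv y hy1 hy2)
    have hkC : k⁻¹ ∈ C := inv_mem ((Set.ext_iff.1 hC k).2 hk)
    refine ⟨⟨act ⟨k⁻¹, hkC⟩, ⟨_, rfl⟩⟩, Subtype.ext (Subtype.ext ?_), ?_⟩
    · show k⁻¹ * ((x : ↥Q) : G) * k⁻¹⁻¹ = _
      rw [inv_inv, hke]
    rintro ⟨_, ⟨c, hc⟩, rfl⟩ he
    have h1 : (⟨c, hc⟩ : ↥C) = ⟨k⁻¹, hkC⟩ := by
      refine Subtype.ext ?_
      have h3 : c * ((x : ↥Q) : G) * c⁻¹ = ((y : ↥Q) : G) :=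
        congrArg (fun z : (S : Subgroup ↥Q) => ((z : ↥Q) : G)) he
      have h4 := hku c⁻¹ ⟨(Set.ext_iff.1 hC _).1 (inv_mem hc), by rw [inv_inv]; exact h3⟩
      show c = k⁻¹
      rw [← h4, inv_inv]
    exact Subtype.ext (congrArg act h1)

end Cfsg.Agent.S1132
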