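import Cfsg.Statements.S3773
import Mathlib
import Cfsg.Agent.Lib.PGroups.QuadraticCount
import Cfsg.Agent.Lib.PGroups.Basic
import Cfsg.Agent.Lib.PGroups.ClassTwo

set_option autoImplicit false
open Cfsg

namespace Cfsg.Agent.S3773

set_option linter.style.haveILetI false
open scoped commutatorElement
open CfsgLib.PGroups CfsgLib.PGroups.QuadraticCount

variable {G : Type*} [Group G]

theorem sq_mul_of_mem {Z : Subgroup G} (hZc : Z ≤ Subgroup.center G) (hZ2 : ∀ z ∈ Z, z ^ 2 = 1) {g z : G}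
    (hz : z ∈ Z) : (g * z) ^ 2 = g ^ 2 := by
  have hc : Commute g z := Subgroup.mem_center_iff.mp (hZc hz) g
  rw [hc.mul_pow, hZ2 z hz, mul_one]

theorem comm_mul_of_mem {g h z : G} (hz : z ∈ Subgroup.center G) : ⁅g * z, h⁆ = ⁅g, h⁆ ∧ ⁅h, g * z⁆ = ⁅h, g⁆ := by
  have hc : ∀ k : G, k * z = z * k := fun k => Subgroup.mem_center_iff.mp hz k
  have h1 : ⁅z, h⁆ = 1 := commutatorElement_eq_one_iff_commute.mpr (hc h).symm
  have h2 : ⁅h, z⁆ = 1 := commutatorElement_eq_one_iff_commute.mpr (hc h)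
  constructor
  · rw [comm_mul_left_of_central (h1 ▸ one_mem _), h1, mul_one]
  · rw [comm_mul_right_of_central (h2 ▸ one_mem _), h2, mul_one]

theorem exists_compl {V : Type*} [Group V] [Finite V] (hV : ∀ x : V, x * x = 1) (U : Subgroup V) :
    ∃ W : Subgroup V, W ⊓ U = ⊥ ∧ W ⊔ U = ⊤ := by
  obtain ⟨W, hW⟩ := Set.Finite.exists_maximal {W : Subgroup V | W ⊓ U = ⊥}.toFinite ⟨⊥, bot_inf_eq U⟩
  refine ⟨W, hW.prop, eq_top_iff.mpr fun x _ => ?_⟩
  by_contra hx
  haveI : W.Normal := ⟨fun n hn g => by rwa [comm_of_sq hV g n, mul_inv_cancel_right]⟩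
  have hne : ¬ (W ⊔ Subgroup.zpowers x) ⊓ U = ⊥ := fun h => hx (Subgroup.mem_sup_left
    (hW.le_of_ge h le_sup_left (Subgroup.mem_sup_right (Subgroup.mem_zpowers x))))
  obtain ⟨y, hy, hy1⟩ := (Subgroup.ne_bot_iff_exists_ne_one).mp hne |>.imp fun a ha => (⟨a.2, ha⟩ : _ ∧ _)
  obtain ⟨w, hw, z, hz, hwz⟩ := Subgroup.mem_sup_of_normal_left.mp hy.1
  obtain ⟨k, rfl⟩ := Subgroup.mem_zpowers_iff.mp hz
  rcases Int.even_or_odd k with ⟨j, rfl⟩ | ⟨j, rfl⟩
  · rw [← two_mul, zpow_mul, zpow_two, hV, one_zpow, mul_one] at hwz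
    have : (y : V) ∈ W ⊓ U := ⟨hwz ▸ hw, hy.2⟩
    rw [hW.prop, Subgroup.mem_bot] at this
    exact hy1 (Subtype.ext this)
  · rw [zpow_add, zpow_mul, zpow_two, hV, one_zpow, one_mul, zpow_one] at hwz
    refine hx ?_
    have : x = w * y := by rw [← hwz, ← mul_assoc, hV, one_mul]
    rw [this]
    exact mul_mem (Subgroup.mem_sup_left hw) (Subgroup.mem_sup_right hy.2)

/-- The counting bound for a normal subgroup `U` containing all `g` with `g ^ 2 ∈ B`. -/
theorem bound [Finite G] (Z B U : Subgroup G) [Z.Normal] [U.Normal] (hZc : Z ≤ Subgroup.center G)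
    (hZ2 : ∀ z ∈ Z, z ^ 2 = 1) (hsq : ∀ g : G, g ^ 2 ∈ Z) (hcom : commutator G ≤ Z) (hZU : Z ≤ U)
    (hU : ∀ g : G, g ^ 2 ∈ B → g ∈ U) :
    U.index * (B.subgroupOf Z ⊔ (commutator G).subgroupOf Z).index ≤ (B.subgroupOf Z).index ^ 2 := by
  have hbar : ∀ x : G ⧸ Z, x * x = 1 := by
    intro x
    induction x using QuotientGroup.induction_on with
    | _ g => rw [← QuotientGroup.mk_mul, QuotientGroup.eq_one_iff, ← pow_two]; exact hsq g
  obtain ⟨W, hWd, hWt⟩ := exists_compl hbar (U.map (QuotientGroup.mk' Z))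
  haveI : (U.map (QuotientGroup.mk' Z)).Normal := Subgroup.Normal.map inferInstance _ (QuotientGroup.mk'_surjective Z)
  have hidx : U.index = Nat.card W := by
    rw [← Subgroup.index_map_eq U (QuotientGroup.mk'_surjective Z) (by rwa [QuotientGroup.ker_mk']),
      ← Subgroup.relIndex_top_right, ← hWt, Subgroup.relIndex_sup_right, ← Subgroup.inf_relIndex_right,
      inf_comm, hWd, Subgroup.relIndex_bot_left]
  rw [hidx]
  have hcomm : ∀ a b : G, ⁅a, b⁆ ∈ Z := fun a b =>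
    hcom (Subgroup.commutator_mem_commutator (Subgroup.mem_top a) (Subgroup.mem_top b))
  have hout : ∀ g : G, ∃ z ∈ Z, g = (g : G ⧸ Z).out * z := fun g =>
    ⟨(g : G ⧸ Z).out⁻¹ * g, QuotientGroup.eq.mp (Quotient.out_eq' _), (mul_inv_cancel_left _ _).symm⟩
  let qb : G ⧸ Z → Z := fun x => ⟨x.out ^ 2, hsq _⟩
  let cb : G ⧸ Z → G ⧸ Z → Z := fun x y => ⟨⁅y.out, x.out⁆, hcomm _ _⟩
  have hq0 : ∀ g : G, g ^ 2 = ((g : G ⧸ Z).out) ^ 2 := fun g => by
    obtain ⟨z, hz, hg⟩ := hout g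
    conv_lhs => rw [hg]
    exact sq_mul_of_mem hZc hZ2 hz
  have hc0 : ∀ g h : G, ⁅g, h⁆ = ⁅(g : G ⧸ Z).out, (h : G ⧸ Z).out⁆ := fun g h => by
    obtain ⟨z, hz, hg⟩ := hout g
    obtain ⟨z', hz', hh⟩ := hout h
    conv_lhs => rw [hg, hh]
    rw [(comm_mul_of_mem (hZc hz)).1, (comm_mul_of_mem (hZc hz')).2]
  refine card_mul_index_le (q := fun w : W => qb w) (c := fun v w : W => cb v w)
    (fun x => Subtype.ext (hbar x)) (fun z => Subtype.ext (by simpa [pow_two] using hZ2 z z.2)) ?_ ?_ _ ?_ _ ?_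
  · rintro ⟨x, hx⟩ ⟨y, hy⟩
    obtain ⟨a, rfl⟩ := QuotientGroup.mk_surjective x
    obtain ⟨b, rfl⟩ := QuotientGroup.mk_surjective y
    apply Subtype.ext
    show ((a : G ⧸ Z) * b).out ^ 2 = (a : G ⧸ Z).out ^ 2 * (b : G ⧸ Z).out ^ 2 * ⁅(b : G ⧸ Z).out, (a : G ⧸ Z).out⁆
    rw [← QuotientGroup.mk_mul, ← hq0, ← hq0, ← hq0, ← hc0, sq_mul_of_central (hZc (hcomm b a))]
  · rintro ⟨x, hx⟩ ⟨y, hy⟩ ⟨w, hw⟩
    obtain ⟨a, rfl⟩ := QuotientGroup.mk_surjective x
    obtain ⟨b, rfl⟩ := QuotientGroup.mk_surjective y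
    obtain ⟨d, rfl⟩ := QuotientGroup.mk_surjective w
    apply Subtype.ext
    show ⁅(d : G ⧸ Z).out, ((a : G ⧸ Z) * b).out⁆ =
      ⁅(d : G ⧸ Z).out, (a : G ⧸ Z).out⁆ * ⁅(d : G ⧸ Z).out, (b : G ⧸ Z).out⁆
    rw [← QuotientGroup.mk_mul, ← hc0, ← hc0, ← hc0, comm_mul_right_of_central (hZc (hcomm d b))]
  · exact fun x y => Subgroup.commutator_mem_commutator (Subgroup.mem_top _) (Subgroup.mem_top _)
  · rintro ⟨x, hx⟩
    obtain ⟨g, rfl⟩ := QuotientGroup.mk_surjective x
    show (g : G ⧸ Z).out ^ 2 ∈ B ↔ _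
    rw [← hq0]
    constructor
    · intro hg
      have : (g : G ⧸ Z) ∈ W ⊓ U.map (QuotientGroup.mk' Z) := ⟨hx, ⟨g, hU g hg, rfl⟩⟩
      rw [hWd, Subgroup.mem_bot] at this
      exact Subtype.ext this
    · intro hg
      rw [hZ2 g ((QuotientGroup.eq_one_iff g).mp (congrArg Subtype.val hg))]
      exact one_mem B

/-- Let G be a finite 2-group of nilpotency class at most 2 and exponent dividing 4 in which the elements x with x² = 1 form a subgroup N. Then |G| ≤ |N|³, and |G| < |N|³ unless G is special. -/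
theorem result {G : Type*} [Group G] [Finite G] (hG : IsPGroup 2 G) (hcl : (⊤ : Subgroup G).lowerCentralSeries 2 = ⊥) (hexp : ∀ x : G, x ^ 4 = 1) (hN : ∀ x y : G, x ^ 2 = 1 → y ^ 2 = 1 → (x * y) ^ 2 = 1) : Nat.card G ≤ Nat.card {x : G // x ^ 2 = 1} ^ 3 ∧ (¬ Cfsg.IsSpecial 2 G → Nat.card G < Nat.card {x : G // x ^ 2 = 1} ^ 3) := by
  classical
  let N : Subgroup G :=
    { carrier := {x | x ^ 2 = 1}
      one_mem' := one_pow 2
      mul_mem' := fun {a b} => hN a b
      inv_mem' := fun {a} (h : a ^ 2 = 1) => (show a⁻¹ ^ 2 = 1 by rw [inv_pow, h, inv_one]) }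
  have hNm : ∀ x, x ∈ N ↔ x ^ 2 = 1 := fun x => Iff.rfl
  haveI hNn : N.Normal := ⟨fun n hn g => by
    rw [hNm] at hn ⊢; rw [conj_pow, hn, mul_one, mul_inv_cancel]⟩
  have hsqN : ∀ x : G, x ^ 2 ∈ N := fun x => by rw [hNm, ← pow_mul]; exact hexp x
  have hcN : commutator G ≤ N := by
    rw [commutator_def, Subgroup.commutator_le]
    intro a _ b _
    rw [← QuotientGroup.eq_one_iff, ← QuotientGroup.mk'_apply, map_commutatorElement,
      commutatorElement_eq_one_iff_commute]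
    have hq : ∀ x : G ⧸ N, x * x = 1 := by
      intro x
      induction x using QuotientGroup.induction_on with
      | _ g => rw [← QuotientGroup.mk_mul, QuotientGroup.eq_one_iff, ← pow_two]; exact hsqN g
    exact CfsgLib.PGroups.QuadraticCount.comm_of_sq hq _ _
  have hccen : commutator G ≤ Subgroup.center G := by
    rw [← Subgroup.centralizer_univ, ← Subgroup.coe_top, ← Subgroup.commutator_eq_bot_iff_le_centralizer]
    exact hcl
  have hcm : ∀ a b : G, ⁅a, b⁆ ∈ commutator G := fun a b =>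
    Subgroup.commutator_mem_commutator (Subgroup.mem_top a) (Subgroup.mem_top b)
  have hsqc : ∀ x : G, x ^ 2 ∈ Subgroup.center G := fun x => Subgroup.mem_center_iff.mpr fun y => by
    refine (commutatorElement_eq_one_iff_commute.mp ?_ : Commute (x ^ 2) y).symm
    rw [comm_pow_left_of_central (hccen (hcm x y))]
    exact hcN (hcm x y)
  set Z := N ⊓ Subgroup.center G with hZ
  have hZ2 : ∀ z ∈ Z, z ^ 2 = 1 := fun z hz => hz.1
  have hsq : ∀ g : G, g ^ 2 ∈ Z := fun g => ⟨hsqN g, hsqc g⟩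
  have hcom : commutator G ≤ Z := le_inf hcN hccen
  haveI : Z.Normal := Subgroup.normal_inf_normal _ _
  have hcardN : Nat.card {x : G // x ^ 2 = 1} = Nat.card N := rfl
  rw [hcardN]
  have hB0 : ((⊥ : Subgroup G).subgroupOf Z).index = Nat.card Z := by
    rw [Subgroup.bot_subgroupOf, Subgroup.index_bot]
  have h0 := bound Z ⊥ N inf_le_right hZ2 hsq hcom inf_le_left (fun g hg => Subgroup.mem_bot.mp hg)
  rw [hB0, Subgroup.bot_subgroupOf, bot_sup_eq] at h0
  set D := ((commutator G).subgroupOf Z).index with hD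
  have hDpos : 0 < D := Nat.pos_of_ne_zero Subgroup.index_ne_zero_of_finite
  have hZN : Nat.card Z ≤ Nat.card N := Subgroup.card_le_of_le inf_le_left
  have hGN := N.index_mul_card
  have h1 : N.index ≤ Nat.card N ^ 2 :=
    (Nat.le_mul_of_pos_right _ hDpos).trans (h0.trans (Nat.pow_le_pow_left hZN 2))
  refine ⟨by rw [← hGN, pow_succ]; exact Nat.mul_le_mul_right _ h1, fun hns => ?_⟩
  refine lt_of_le_of_ne (by rw [← hGN, pow_succ]; exact Nat.mul_le_mul_right _ h1) fun heq => hns ?_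
  have hidx : N.index = Nat.card N ^ 2 := by
    rw [← hGN, pow_succ] at heq; exact Nat.eq_of_mul_eq_mul_right Nat.card_pos heq
  have hsq_le : Nat.card N ^ 2 * D ≤ Nat.card Z ^ 2 := hidx ▸ h0
  have hpos : 0 < Nat.card N ^ 2 := pow_pos Nat.card_pos 2
  have hle2 : Nat.card Z ^ 2 ≤ Nat.card N ^ 2 := Nat.pow_le_pow_left hZN 2
  have hD1 : D = 1 := by nlinarith
  have hZeq : Z = N := by
    refine Subgroup.eq_of_le_of_card_ge inf_le_left ?_
    rw [hD1, mul_one] at hsq_le
    exact (Nat.pow_le_pow_iff_left two_ne_zero).mp hsq_le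
  have hGZ : commutator G = N := by
    refine le_antisymm hcN ?_
    rw [← hZeq]
    exact Subgroup.subgroupOf_eq_top.mp (Subgroup.index_eq_one.mp hD1)
  haveI := Fact.mk Nat.prime_two
  have hfr : frattini G = N := le_antisymm (frattini_le_of_elementary hcN hsqN)
    (hGZ ▸ commutator_le_frattini' hG)
  have hcen : Subgroup.center G = N := by
    refine le_antisymm (fun x hx => ?_) (hZeq ▸ inf_le_right)
    by_contra hxN
    have hx2 : x ^ 2 ≠ 1 := hxN
    haveI : (N ⊔ Subgroup.zpowers x).Normal :=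
      @Subgroup.sup_normal _ _ N (Subgroup.zpowers x) hNn
        ⟨fun n hn g => by
          have hn' : n ∈ Subgroup.center G := (Subgroup.zpowers_le.mpr hx) hn
          rwa [Subgroup.mem_center_iff.mp hn' g, mul_inv_cancel_right]⟩
    have hb := bound Z (Subgroup.zpowers (x ^ 2)) (N ⊔ Subgroup.zpowers x) inf_le_right hZ2 hsq hcom
      (inf_le_left.trans le_sup_left) (fun g hg => by
        obtain ⟨k, hk⟩ := Subgroup.mem_zpowers_iff.mp hg
        have hx4 : (x ^ 2) ^ (2 : ℤ) = 1 := by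
          rw [show (2 : ℤ) = ((2 : ℕ) : ℤ) from rfl, zpow_natCast, ← pow_mul]; exact hexp x
        rcases Int.even_or_odd k with ⟨j, rfl⟩ | ⟨j, rfl⟩
        · rw [← two_mul, zpow_mul, hx4, one_zpow] at hk
          exact Subgroup.mem_sup_left hk.symm
        · rw [zpow_add, zpow_mul, hx4, one_zpow, one_mul, zpow_one] at hk
          have hmem : g * x ∈ N := by
            show (g * x) ^ 2 = 1
            rw [(show Commute g x from Subgroup.mem_center_iff.mp hx g).mul_pow, ← hk, ← pow_add]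
            exact hexp x
          have hmem' := mul_mem (Subgroup.mem_sup_left (T := Subgroup.zpowers x) hmem)
            (Subgroup.mem_sup_right (S := N) (inv_mem (Subgroup.mem_zpowers x)))
          rwa [mul_inv_cancel_right] at hmem')
    set U := N ⊔ Subgroup.zpowers x with hUdef
    have hlt : N < U := lt_of_le_of_ne le_sup_left fun he =>
      hxN (he ▸ Subgroup.mem_sup_right (Subgroup.mem_zpowers x))
    have hUrel : N.relIndex U ≤ 2 := by
      rw [hUdef, Subgroup.relIndex_sup_left]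
      refine Nat.le_of_dvd two_pos ?_
      have h := Subgroup.relIndex_ker (QuotientGroup.mk' N) (K := Subgroup.zpowers x)
      rw [QuotientGroup.ker_mk', MonoidHom.map_zpowers, Nat.card_zpowers, QuotientGroup.mk'_apply] at h
      rw [h]
      exact orderOf_dvd_of_pow_eq_one (by rw [← QuotientGroup.mk_pow, QuotientGroup.eq_one_iff]; exact hsqN x)
    have hU2 : N.index ≤ 2 * U.index := by
      rw [← Subgroup.relIndex_mul_index hlt.le]; exact Nat.mul_le_mul_right _ hUrel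
    have hsup : (Subgroup.zpowers (x ^ 2)).subgroupOf Z ⊔ (commutator G).subgroupOf Z = ⊤ := by
      rw [Subgroup.index_eq_one.mp hD1, sup_top_eq]
    rw [hsup, Subgroup.index_top, mul_one] at hb
    have hB : ((Subgroup.zpowers (x ^ 2)).subgroupOf Z).index * 2 = Nat.card N := by
      have hle : Subgroup.zpowers (x ^ 2) ≤ Z := Subgroup.zpowers_le.mpr (hsq x)
      have h := Subgroup.index_mul_card ((Subgroup.zpowers (x ^ 2)).subgroupOf Z)
      rw [Nat.card_congr (Subgroup.subgroupOfEquivOfLe hle).toEquiv, Nat.card_zpowers,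
        orderOf_eq_prime (p := 2) (by rw [← pow_mul]; exact hexp x) hx2] at h
      rw [h, hZeq]
    rw [hidx, ← hB] at hU2
    have hBpos : 0 < ((Subgroup.zpowers (x ^ 2)).subgroupOf Z).index :=
      Nat.pos_of_ne_zero Subgroup.index_ne_zero_of_finite
    nlinarith
  exact ⟨hG, by rw [hfr, hcen], by rw [hGZ, hcen]⟩

end Cfsg.Agent.S3773
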