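import Cfsg.Statements.S3774
import Mathlib

set_option autoImplicit false
open Cfsg

namespace Cfsg.Agent.S3774

set_option linter.style.haveILetI false
open scoped Classical

theorem main_dvd {G : Type*} [Group G] [Finite G] (hG : IsPGroup 2 G)
    (htrans : ∀ x y : G, x ≠ 1 → x ^ 2 = 1 → y ≠ 1 → y ^ 2 = 1 → ∃ a : MulAut G, a x = y)
    (r e : ℕ) [Fact r.Prime] (he : r ^ e ∣ Nat.card {z : G // z ^ 2 = 1} - 1) :
    (r ^ e : ℕ) ∣ Nat.card G - 1 := by
  haveI : Finite (MulAut G) := Finite.of_injective (fun a => a.toEquiv) MulEquiv.toEquiv_injective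
  set A := MulAut G with hA
  obtain ⟨R⟩ := (inferInstance : Nonempty (Sylow r A))
  haveI := Fintype.ofFinite G
  set R' := (R : Subgroup A)
  have horb : ∀ z : G, z ≠ 1 → z ^ 2 = 1 → r ^ e ∣ (MulAction.stabilizer A z).index := by
    intro z hz1 hz2
    refine he.trans (dvd_of_eq ?_)
    rw [MulAction.index_stabilizer]
    have horbit : MulAction.orbit A z = {w : G | w ^ 2 = 1} \ {1} := by
      ext w
      constructor
      · rintro ⟨a, rfl⟩
        refine ⟨?_, fun h => hz1 ((MulEquiv.map_eq_one_iff a).mp h)⟩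
        show (a z) ^ 2 = 1
        rw [← map_pow, hz2, map_one]
      · rintro ⟨h2, h1⟩
        obtain ⟨a, ha⟩ := htrans z w hz1 hz2 h1 h2
        exact ⟨a, ha⟩
    rw [horbit, Set.ncard_sdiff_singleton_of_mem (show (1 : G) ∈ {w : G | w ^ 2 = 1} from one_pow 2)]
    rfl
  have hstab : ∀ x : G, x ≠ 1 → r ^ e ∣ (MulAction.stabilizer R' x).index := by
    intro x hx
    obtain ⟨k, hk⟩ := IsPGroup.iff_orderOf.mp hG x
    have hk0 : k ≠ 0 := fun h => hx (orderOf_eq_one_iff.mp (by rw [hk, h, pow_zero]))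
    set z := x ^ 2 ^ (k - 1) with hz
    have hz2 : z ^ 2 = 1 := by
      rw [hz, ← pow_mul, ← pow_succ, Nat.sub_add_cancel (Nat.one_le_iff_ne_zero.mpr hk0), ← hk, pow_orderOf_eq_one]
    have hz1 : z ≠ 1 := pow_ne_one_of_lt_orderOf (pow_ne_zero _ two_ne_zero)
      (by rw [hk]; exact Nat.pow_lt_pow_right one_lt_two (by omega))
    have hle : MulAction.stabilizer R' x ≤ (MulAction.stabilizer A z).subgroupOf R' := by
      intro a ha
      have ha' : (a : A) x = x := ha
      show (a : A) z = z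
      rw [hz, map_pow, ha']
    refine dvd_trans ?_ (Subgroup.index_dvd_of_le hle)
    have h := (horb z hz1 hz2).trans (Subgroup.index_dvd_of_le (inf_le_left : MulAction.stabilizer A z ⊓ R' ≤ _))
    rw [← Subgroup.relIndex_mul_index (inf_le_right : MulAction.stabilizer A z ⊓ R' ≤ R'),
      Subgroup.inf_relIndex_right] at h
    exact (Nat.Coprime.pow_left e ((Nat.Prime.coprime_iff_not_dvd Fact.out).mpr
      (Sylow.not_dvd_index R))).dvd_of_dvd_mul_right h
  rw [← Nat.modEq_iff_dvd' Finite.card_pos]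
  refine Nat.ModEq.symm ?_
  rw [Nat.card_congr (MulAction.selfEquivSigmaOrbits R' G), Nat.card_sigma,
    ← Finset.add_sum_erase _ _ (Finset.mem_univ (Quotient.mk'' (1 : G) : MulAction.orbitRel.Quotient R' G))]
  have hone : Nat.card (MulAction.orbit R'
      (Quotient.out (Quotient.mk'' (1 : G) : MulAction.orbitRel.Quotient R' G))) = 1 := by
    have h1 : Quotient.out (Quotient.mk'' (1 : G) : MulAction.orbitRel.Quotient R' G) = 1 := by
      obtain ⟨a, ha⟩ := Quotient.exact' (Quotient.out_eq (Quotient.mk'' (1 : G) : MulAction.orbitRel.Quotient R' G))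
      rw [← ha]; exact map_one (a : A)
    rw [h1, Nat.card_eq_one_iff_unique]
    refine ⟨⟨?_⟩, ⟨⟨1, MulAction.mem_orbit_self _⟩⟩⟩
    rintro ⟨_, a, rfl⟩ ⟨_, b, rfl⟩
    exact Subtype.ext ((map_one (a : A)).trans (map_one (b : A)).symm)
  rw [hone]
  refine Nat.ModEq.trans (Nat.ModEq.add_left 1 (Nat.modEq_zero_iff_dvd.mpr (Finset.dvd_sum fun ω hω => ?_))) rfl
  rw [Nat.card_coe_set_eq, ← MulAction.index_stabilizer]
  refine hstab _ fun h => Finset.ne_of_mem_erase hω ?_
  rw [← Quotient.out_eq' ω, h]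

/-- Let G be a nontrivial finite 2-group whose automorphism group permutes the involutions of G transitively. Then every involution of G is central, so that the involutions together with 1 form the subgroup Ω₁(Z(G)), and if this subgroup has order q then |G| is a power of q. -/
theorem result {G : Type*} [Group G] [Finite G] [Nontrivial G] (hG : IsPGroup 2 G) (htrans : ∀ x y : G, x ≠ 1 → x ^ 2 = 1 → y ≠ 1 → y ^ 2 = 1 → ∃ a : MulAut G, a x = y) : (∀ x : G, x ^ 2 = 1 → x ∈ Subgroup.center G) ∧ ∃ m : ℕ, Nat.card G = Nat.card {z : G // z ^ 2 = 1} ^ m := by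
  classical
  haveI := Fact.mk Nat.prime_two
  haveI : Nontrivial (Subgroup.center G) := hG.center_nontrivial
  obtain ⟨k, hk⟩ := IsPGroup.iff_card.mp (hG.to_subgroup (Subgroup.center G))
  have hk0 : k ≠ 0 := fun h => (Finite.one_lt_card (α := Subgroup.center G)).ne' (by rw [hk, h, pow_zero])
  obtain ⟨c, hc⟩ := exists_prime_orderOf_dvd_card' (G := Subgroup.center G) 2 (hk ▸ dvd_pow_self 2 hk0)
  rw [← Subgroup.orderOf_coe] at hc
  have hc2 : (c : G) ^ 2 = 1 := by rw [← hc]; exact pow_orderOf_eq_one _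
  have hc1 : (c : G) ≠ 1 := fun h => by rw [h, orderOf_one] at hc; omega
  have hcentral : ∀ x : G, x ^ 2 = 1 → x ∈ Subgroup.center G := by
    intro x hx
    rcases eq_or_ne x 1 with rfl | hx1
    · exact one_mem _
    obtain ⟨a, ha⟩ := htrans c x hc1 hc2 hx1 hx
    rw [← ha]
    refine Subgroup.mem_center_iff.mpr fun g => a.symm.injective ?_
    rw [map_mul, map_mul, a.symm_apply_apply]
    exact Subgroup.mem_center_iff.mp c.2 _
  refine ⟨hcentral, ?_⟩
  let N : Subgroup G :=
    { carrier := {z | z ^ 2 = 1}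
      one_mem' := one_pow 2
      mul_mem' := fun {a b} (ha : a ^ 2 = 1) (hb : b ^ 2 = 1) => show (a * b) ^ 2 = 1 by
        rw [(show Commute a b from Subgroup.mem_center_iff.mp (hcentral b hb) a).mul_pow, ha, hb, mul_one]
      inv_mem' := fun {a} (h : a ^ 2 = 1) => (show a⁻¹ ^ 2 = 1 by rw [inv_pow, h, inv_one]) }
  have hN : Nat.card {z : G // z ^ 2 = 1} = Nat.card N := rfl
  obtain ⟨n, hn⟩ := IsPGroup.iff_card.mp (hG.to_subgroup N)
  obtain ⟨m, hm⟩ := IsPGroup.iff_card.mp hG
  have hn0 : n ≠ 0 := fun h => by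
    rw [h, pow_zero, Subgroup.card_eq_one] at hn
    exact hc1 (Subgroup.mem_bot.mp (hn ▸ (hc2 : (c : G) ∈ N)))
  have hdvd : (2 ^ n - 1) ∣ (2 ^ m - 1) := by
    rw [← hn, ← hm, ← hN]
    refine (Nat.dvd_iff_prime_pow_dvd_dvd _ _).mpr fun r e hr he => ?_
    haveI := Fact.mk hr
    exact main_dvd hG htrans r e he
  rw [hN, hn, hm]
  have hgcd := Nat.pow_sub_one_gcd_pow_sub_one 2 n m
  rw [Nat.gcd_eq_left hdvd] at hgcd
  have hnm : n = Nat.gcd n m := Nat.pow_right_injective le_rfl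
    (show (2 : ℕ) ^ n = 2 ^ Nat.gcd n m by
      have h1 := Nat.one_le_pow n 2 two_pos
      have h2 := Nat.one_le_pow (Nat.gcd n m) 2 two_pos
      omega)
  obtain ⟨j, hj⟩ : n ∣ m := hnm ▸ Nat.gcd_dvd_right n m
  exact ⟨j, by rw [hj, pow_mul]⟩

end Cfsg.Agent.S3774
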