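import Cfsg.Statements.S1138
import Mathlib
import Cfsg.Agent.Lib.PGroups.Suzuki.Basic

set_option autoImplicit false
open Cfsg

namespace Cfsg.Agent.S1138

/-- Let `P` be a Suzuki 2-group with `|Z(P)| = q`. Then every square lies in `Z(P)` and `P/Z(P)` is abelian (so elementary abelian), `|P| = q²` or `|P| = q³`, and `P` has exponent 4. -/
theorem result {P : Type*} [Group P] (hP : Cfsg.IsSuzukiTwoGroup P) :
    (∀ x : P, x * x ∈ Subgroup.center P) ∧ (∀ x y : P, x⁻¹ * y⁻¹ * x * y ∈ Subgroup.center P) ∧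
      (Nat.card P = Nat.card (Subgroup.center P) ^ 2 ∨ Nat.card P = Nat.card (Subgroup.center P) ^ 3) ∧
      Monoid.exponent P = 4 := by
  haveI := hP.1
  obtain ⟨n, D, hna⟩ := CfsgLib.PGroups.Suzuki.exists_data hP
  have hc := CfsgLib.PGroups.Suzuki.center_eq D hna
  have hsq := CfsgLib.PGroups.Suzuki.higman D hna
  refine ⟨fun x => ?_, fun x y => ?_, ?_, ?_⟩
  · rw [hc, ← pow_two]; exact hsq x
  · rw [hc]
    have h := D.commutator_mem_of_sq hsq x⁻¹ y⁻¹
    rwa [commutatorElement_def, inv_inv, inv_inv] at h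
  · rw [hc, D.card_ω]
    exact CfsgLib.PGroups.Suzuki.card_options D hna
  · have h4 : ∀ x : P, x ^ 4 = 1 := fun x => by
      rw [show (4 : ℕ) = 2 * 2 from rfl, pow_mul]; exact hsq x
    obtain ⟨j, hj, he⟩ := (Nat.dvd_prime_pow Nat.prime_two).mp
      (show Monoid.exponent P ∣ 2 ^ 2 from Monoid.exponent_dvd_of_forall_pow_eq_one h4)
    rcases (show j ≤ 1 ∨ j = 2 by omega) with h | h
    · exfalso
      refine hna ⟨⟨fun a b => ?_⟩⟩
      refine Subgroup.mem_center_iff.mp (D.ω_le_center (D.mem_ω.mpr ?_)) a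
      exact Monoid.exponent_dvd_iff_forall_pow_eq_one.mp
        (he.symm ▸ (pow_one 2 ▸ pow_dvd_pow 2 h)) b
    · rw [he, h]; rfl

end Cfsg.Agent.S1138
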