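import Cfsg.Statements.S0696
import Cfsg.Agent.Lib.Perm.RegularNormal
import Mathlib.Tactic

set_option autoImplicit false
open Cfsg

namespace Cfsg.Agent.S0696

/-- A triply primitive group of degree at least 3 having a regular normal subgroup has degree 3 or 4. -/
theorem result {G : Type*} [Group G] {X : Type*} [Fintype X] [MulAction G X] (hX : 3 ≤ Fintype.card X) (h3 : MulAction.IsMultiplyPreprimitive G X 3) (N : Subgroup G) [N.Normal] (htrans : MulAction.IsPretransitive N X) (hreg : ∀ x : X, MulAction.stabilizer N x = ⊥) : Fintype.card X = 3 ∨ Fintype.card X = 4 := by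
  classical
  have h2 : MulAction.IsMultiplyPreprimitive G X 2 :=
    MulAction.isMultiplyPreprimitive_of_le G X h3 (by norm_num) (by
      rw [ENat.card_eq_coe_fintype_card]; exact_mod_cast hX)
  rcases CfsgLib.Perm.regular_normal_two_primitive N h2 (by omega) htrans hreg with h | ⟨hsq, -⟩
  · exact Or.inl h
  by_contra hne
  push Not at hne
  have h5 : 5 ≤ Fintype.card X := by omega
  obtain ⟨x⟩ : Nonempty X := Fintype.card_pos_iff.1 (by omega)
  have hfree : ∀ n : N, n • x = x → n = 1 := by
    intro n hn
    have : n ∈ MulAction.stabilizer N x := hn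
    rwa [hreg x, Subgroup.mem_bot] at this
  have hinj : ∀ k l : N, k • x = l • x → k = l := by
    intro k l hkl
    exact (inv_mul_eq_one.1 (hfree (l⁻¹ * k) (by rw [mul_smul, hkl, inv_smul_smul]))).symm
  have hpick : ∀ t : Finset X, t.card < Fintype.card X → ∃ y, y ∉ t := by
    intro t ht
    by_contra hcon
    push Not at hcon
    rw [Finset.eq_univ_of_forall hcon, Finset.card_univ] at ht
    omega
  obtain ⟨a, ha⟩ := hpick {x} (by rw [Finset.card_singleton]; omega)
  rw [Finset.mem_singleton] at ha
  obtain ⟨n, rfl⟩ := MulAction.exists_smul_eq N x a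
  obtain ⟨b, hb⟩ := hpick {x, n • x} (by
    have := Finset.card_le_two (a := x) (b := n • x); omega)
  simp only [Finset.mem_insert, Finset.mem_singleton, not_or] at hb
  obtain ⟨m, rfl⟩ := MulAction.exists_smul_eq N x b
  have hn1 : n ≠ 1 := fun h => ha (by rw [h, one_smul])
  have hm1 : m ≠ 1 := fun h => hb.1 (by rw [h, one_smul])
  have hc1 : (n * m) • x ≠ x := fun h => by
    have h1 := mul_eq_one_iff_eq_inv.1 (hfree _ h)
    have hmi : m⁻¹ = m := inv_eq_of_mul_eq_one_right (by
      rw [← pow_two]; exact Subtype.ext (hsq m m.2))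
    exact hb.2 (by rw [h1, hmi])
  have hc2 : (n * m) • x ≠ n • x := fun h => hm1 (by simpa using hinj _ _ h)
  have hpair : MulAction.IsPreprimitive (fixingSubgroup G ({x, n • x} : Set X))
      (SubMulAction.ofFixingSubgroup G ({x, n • x} : Set X)) :=
    MulAction.IsMultiplyPreprimitive.isPreprimitive_ofFixingSubgroup G 3 (by rw [Set.encard_pair (Ne.symm ha)]; rfl)
  have hkey := CfsgLib.Perm.pair_block_trivial (G := G) (u := m • x) (v := (n * m) • x) ({x, n • x} : Set X)
    (by simp [hb]) (by simp [hc1, hc2]) (fun g hg w hw hgw => by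
      rw [mem_fixingSubgroup_iff] at hg
      let φ : N → N := fun k => ⟨g * k * g⁻¹, (inferInstance : N.Normal).conj_mem _ k.2 g⟩
      have hconj : ∀ k : N, g • (k • x) = φ k • x := by
        intro k
        show g • (k : G) • x = (g * k * g⁻¹) • x
        rw [mul_smul, mul_smul, inv_smul_eq_iff.2 (hg x (by simp)).symm]
      have hφn : φ n = n := hinj _ _ (by rw [← hconj]; exact hg _ (by simp))
      have hφmul : ∀ k l, φ (k * l) = φ k * φ l := fun k l => by
        apply Subtype.ext; simp [φ, mul_assoc]
      have hnn : n * n = 1 := by rw [← pow_two]; exact Subtype.ext (hsq n n.2)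
      have hcases : φ m = m ∨ φ m = n * m := by
        rcases hw with rfl | rfl <;> rw [hconj] at hgw <;> rcases hgw with h | h
        · exact Or.inl (hinj _ _ h)
        · exact Or.inr (hinj _ _ h)
        · right
          have h' := hinj _ _ h
          rw [hφmul, hφn] at h'
          calc φ m = n * (n * φ m) := by rw [← mul_assoc, hnn, one_mul]
            _ = n * m := by rw [h']
        · left
          have h' := hinj _ _ h
          rw [hφmul, hφn] at h'
          exact mul_left_cancel h'
      rw [hconj, hconj, hφmul, hφn]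
      rcases hcases with h | h <;> rw [h] <;> simp [← mul_assoc, hnn])
  rcases hkey with h | h
  · exact hn1 (by simpa using (hinj _ _ h).symm)
  · obtain ⟨z, hz⟩ := hpick {x, n • x, m • x, (n * m) • x} (by
      have h4 := Finset.card_le_four (a := x) (b := n • x) (c := m • x) (d := (n * m) • x); omega)
    simp only [Finset.mem_insert, Finset.mem_singleton, not_or] at hz
    rcases h z (by simp [hz.1, hz.2.1]) with h' | h'
    · exact hz.2.2.1 h'
    · exact hz.2.2.2 h' 

end Cfsg.Agent.S0696
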