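import Cfsg.Statements.S0739
import Cfsg.Agent.Lib.Perm.ZassenhausTorus
import Cfsg.Agent.Lib.Char.Exceptional.ZassenhausCount

set_option autoImplicit false
open Cfsg

namespace Cfsg.Agent.S0739

universe u

open CfsgLib.Char.Exceptional in
theorem hom_trivial {G : Type u} {Ω : Type*} [Group G] [Finite G] [MulAction G Ω] [Fintype Ω]
    (hZ : Cfsg.IsZassenhausGroup G Ω) {a b : Ω} (hab : a ≠ b)
    (hodd : Odd (Nat.card ↥(MulAction.stabilizer G a ⊓ MulAction.stabilizer G b : Subgroup G)))
    (hnil : ∀ q : ℕ, q.Prime →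
      q ∣ Nat.card ↥(MulAction.stabilizer G a ⊓ MulAction.stabilizer G b : Subgroup G) →
      ¬ ∃ N : Subgroup G, N.Normal ∧ N.index = q ^ (Nat.card G).factorization q)
    (A : Type u) [CommGroup A] (φ : G →* A) :
    ∀ x ∈ (MulAction.stabilizer G a ⊓ MulAction.stabilizer G b : Subgroup G), φ x = 1 := by
  classical
  obtain ⟨H, hHa, hHcard, hHfix, -⟩ := zass_exists_kernel hZ hab
  set E := (MulAction.stabilizer G a ⊓ MulAction.stabilizer G b : Subgroup G) with hE
  have h3 := zass_three_le hZ
  have hHne : H ≠ ⊥ := by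
    rintro rfl
    rw [Subgroup.card_bot] at hHcard
    omega
  have hEH : E ≤ Subgroup.normalizer (H : Set G) := by
    rw [zass_kernel_normalizer hZ hHa hHcard hHfix]
    exact inf_le_left
  have hfpf : ∀ x ∈ E, x ≠ 1 → H ⊓ Subgroup.centralizer {x} = ⊥ := by
    intro x hx hx1
    rw [Subgroup.eq_bot_iff_forall]
    rintro u ⟨hu, hc⟩
    by_contra hu1
    have hc' : u * x = x * u := Subgroup.mem_centralizer_singleton_iff.1 hc
    have h : x • (u • b) = u • b := by
      rw [smul_smul, ← hc', mul_smul, show x • b = b from hx.2]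
    rcases zass_fix_two hZ hx1 hab hx.1 hx.2 h with h' | h'
    · exact hab.symm (MulAction.injective u (h'.trans (hHa hu : u • a = a).symm))
    · exact hab (hHfix u hu hu1 b h').symm
  haveI hz : IsZGroup E := CfsgLib.Core.FPF.isZGroup_of_odd hEH hfpf hHne
    (fun h => (Nat.not_even_iff_odd.2 hodd) (even_iff_two_dvd.2 h))
  have hker : E ≤ φ.ker := by
    intro x hx
    have htop : (φ.ker.subgroupOf E) = ⊤ := by
      refine Subgroup.eq_top_of_card_eq _ (Nat.dvd_antisymm (Subgroup.card_subgroup_dvd_card _) ?_)
      rw [Nat.dvd_iff_prime_pow_dvd_dvd]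
      intro q k hq hqk
      rcases Nat.eq_zero_or_pos k with rfl | hk
      · simp
      haveI := Fact.mk hq
      have hqE : q ∣ Nat.card E := (dvd_pow_self q hk.ne').trans hqk
      let Q : Sylow q E := default
      have hq2 : q ≠ 2 := fun h => (Nat.not_even_iff_odd.2 hodd) (even_iff_two_dvd.2 (h ▸ hqE))
      -- `q` does not divide `n (n - 1)`
      obtain ⟨y, hy⟩ := exists_prime_orderOf_dvd_card' (G := E) q hqE
      have hy1 : (y : G) ≠ 1 := fun h => hq.ne_one (by
        rw [← hy, ← Subgroup.orderOf_coe, h, orderOf_one])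
      have hmod : Fintype.card Ω ≡ 2 [MOD q] := by
        have hp : IsPGroup q (Subgroup.zpowers (y : G)) :=
          IsPGroup.of_card (n := 1) (by rw [pow_one, Nat.card_zpowers, Subgroup.orderOf_coe, hy])
        have h := hp.card_modEq_card_fixedPoints Ω
        rw [Nat.card_eq_fintype_card] at h
        refine h.trans ?_
        rw [Nat.card_coe_set_eq, show MulAction.fixedPoints (Subgroup.zpowers (y : G)) Ω = {a, b} from ?_,
          Set.ncard_pair hab]
        ext c
        constructor
        · intro hc
          exact zass_fix_two hZ hy1 hab y.2.1 y.2.2 (hc ⟨y, Subgroup.mem_zpowers _⟩)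
        · rintro hc ⟨u, hu⟩
          have hyc : (y : G) • c = c := by
            rcases hc with rfl | rfl
            exacts [y.2.1, y.2.2]
          exact (Subgroup.zpowers_le.2 (show (y : G) ∈ MulAction.stabilizer G c from hyc)) hu
      have hn : ¬ q ∣ Fintype.card Ω * (Fintype.card Ω - 1) := by
        intro h
        have hlt := hq.two_le
        rcases hq.dvd_mul.1 h with h1 | h1
        · have := (Nat.ModEq.dvd_iff hmod dvd_rfl).1 h1
          exact hq2 (Nat.le_antisymm (Nat.le_of_dvd (by norm_num) this) hlt)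
        · have h2 : (Fintype.card Ω - 1) + 1 ≡ 0 + 1 [MOD q] := (Nat.modEq_zero_iff_dvd.2 h1).add_right 1
          rw [show Fintype.card Ω - 1 + 1 = Fintype.card Ω by omega] at h2
          have h4 := (hmod.symm.trans h2)
          have := (Nat.modEq_iff_dvd' (by norm_num)).1 h4.symm
          exact hq.not_dvd_one this
      have hQcard : Nat.card (Q.1.map E.subtype) = q ^ (Nat.card G).factorization q := by
        have hG : Nat.card G = Fintype.card Ω * (Fintype.card Ω - 1) * Nat.card E := by rw [mul_assoc]; exact zass_card hZ hab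
        rw [Subgroup.card_map_of_injective E.subtype_injective, Q.card_eq_multiplicity, hG,
          Nat.factorization_mul (fun h0 => hn (by rw [h0]; exact dvd_zero q)) Nat.card_pos.ne',
          Finsupp.add_apply, Nat.factorization_eq_zero_of_not_dvd hn, zero_add]
      let P : Sylow q G := Sylow.ofCard (Q.1.map E.subtype) hQcard
      haveI : IsCyclic Q := inferInstance
      haveI : IsCyclic P := isCyclic_of_surjective _
        (Subgroup.equivMapOfInjective Q.1 E.subtype E.subtype_injective).surjective
      rcases Sylow.normalizer_le_centralizer_or_le_commutator P with h | h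
      · exfalso
        refine hnil q hq hqE ⟨(MonoidHom.transferSylow P h).ker, inferInstance, ?_⟩
        rw [(MonoidHom.ker_transferSylow_isComplement' P h).symm.index_eq_card]
        exact hQcard
      · have hle : Q.1 ≤ φ.ker.subgroupOf E := fun z hz =>
          Abelianization.commutator_subset_ker φ (h (Subgroup.mem_map_of_mem E.subtype hz))
        refine dvd_trans ?_ (Subgroup.card_dvd_of_le hle)
        rw [Q.card_eq_multiplicity]
        exact Nat.pow_dvd_pow q ((hq.pow_dvd_iff_le_factorization Nat.card_pos.ne').1 hqk)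
    exact Subgroup.subgroupOf_eq_top.1 htop hx
  exact fun x hx => hker hx

/-- In a finite Zassenhaus group whose two-point stabiliser `H = G_{a,b}` has odd order `d`, and which has no normal `q`-complement for any prime `q ∣ d`, `H` is cyclic, `C_G(H) = H`, and every element swapping `a` and `b` inverts each element of `H`. -/
theorem result {G Ω : Type*} [Group G] [Finite G] [MulAction G Ω] [Fintype Ω] (hZ : Cfsg.IsZassenhausGroup G Ω) {a b : Ω} (hab : a ≠ b) (hodd : Odd (Nat.card ↥(MulAction.stabilizer G a ⊓ MulAction.stabilizer G b))) (hnil : ∀ q : ℕ, q.Prime → q ∣ Nat.card ↥(MulAction.stabilizer G a ⊓ MulAction.stabilizer G b) → ¬ ∃ N : Subgroup G, N.Normal ∧ N.index = q ^ (Nat.card G).factorization q) : IsCyclic ↥(MulAction.stabilizer G a ⊓ MulAction.stabilizer G b) ∧ Subgroup.centralizer ((MulAction.stabilizer G a ⊓ MulAction.stabilizer G b : Subgroup G) : Set G) = MulAction.stabilizer G a ⊓ MulAction.stabilizer G b ∧ ∀ s : G, s • a = b → s • b = a → ∀ h ∈ MulAction.stabilizer G a ⊓ MulAction.stabilizer G b, s * h *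 s⁻¹ = h⁻¹ := by

  classical
  open CfsgLib.Char.Exceptional in
  set E := (MulAction.stabilizer G a ⊓ MulAction.stabilizer G b : Subgroup G) with hE
  have hhom := hom_trivial hZ hab hodd hnil
  obtain ⟨w, hwa, hwb⟩ := CfsgLib.Char.Exceptional.zass_pre hZ hab hab.symm
  obtain ⟨hz, hcomm, hinv⟩ := CfsgLib.Perm.zass_two_stab_inverted_of_hom_trivial hZ hab hodd
    (fun A _ φ => hhom A φ) hwa hwb
  haveI := hz
  haveI := hcomm
  haveI : Group.IsNilpotent E := by
    open scoped IsMulCommutative in infer_instance
  refine ⟨inferInstance, le_antisymm ?_ (fun x hx => ?_), fun s hsa hsb h hh => ?_⟩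
  · intro c hc
    obtain ⟨x, hx1, hxa, hxb⟩ := CfsgLib.Char.Exceptional.zass_two_stab_ne_bot hZ hab
    have hx : x ∈ E := ⟨hxa, hxb⟩
    have hcx : x * c = c * x := Subgroup.mem_centralizer_iff.1 hc x hx
    have key : ∀ d : Ω, x • d = d → x • c • d = c • d := fun d hd => by
      rw [← mul_smul, hcx, mul_smul, hd]
    rcases CfsgLib.Char.Exceptional.zass_fix_two hZ hx1 hab hxa hxb (key a hxa) with h1 | h1
    · rcases CfsgLib.Char.Exceptional.zass_fix_two hZ hx1 hab hxa hxb (key b hxb) with h2 | h2
      · exact absurd (MulAction.injective c (h2.trans h1.symm)) hab.symm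
      · exact ⟨h1, h2⟩
    · rcases CfsgLib.Char.Exceptional.zass_fix_two hZ hx1 hab hxa hxb (key b hxb) with h2 | h2
      · exfalso
        have h := (CfsgLib.Perm.zass_two_stab_inverted_of_hom_trivial hZ hab hodd
          (fun A _ φ => hhom A φ) h1 h2).2.2 x hx
        rw [mul_assoc, hcx, inv_mul_cancel_left] at h
        refine hx1 (orderOf_eq_one_iff.1 ?_)
        have hdvd : orderOf x ∣ 2 := orderOf_dvd_of_pow_eq_one (by
          rw [pow_two]; nth_rewrite 2 [h]; exact mul_inv_cancel x)
        exact Nat.eq_one_of_dvd_coprimes hodd.coprime_two_right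
          (Subgroup.orderOf_dvd_natCard E hx) hdvd
      · exact absurd (MulAction.injective c (h2.trans h1.symm)) hab.symm
  · rw [Subgroup.mem_centralizer_iff]
    intro y hy
    exact congrArg Subtype.val (hcomm.is_comm.comm ⟨y, hy⟩ ⟨x, hx⟩)
  · have h' := (CfsgLib.Perm.zass_two_stab_inverted_of_hom_trivial hZ hab hodd
      (fun A _ φ => hhom A φ) (w := s⁻¹) (inv_smul_eq_iff.2 hsb.symm) (inv_smul_eq_iff.2 hsa.symm)).2.2 h hh
    rwa [inv_inv] at h'

end Cfsg.Agent.S0739
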