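import Cfsg.Statements.S0738
import Cfsg.Agent.Lib.Char.Exceptional.ZassenhausClasses

set_option autoImplicit false
open Cfsg

namespace Cfsg.Agent.S0738

/-- Let a finite Zassenhaus group of degree `n + 1` have two-point stabilisers of order `d` with `2d ≥ n - 1`. Then a normal subgroup of a point stabiliser acting regularly on the remaining points is elementary abelian, and the degree is a prime power plus one. -/
theorem result {G Ω : Type*} [Group G] [Finite G] [MulAction G Ω] [Fintype Ω] (hZ : Cfsg.IsZassenhausGroup G Ω) {a b : Ω} (hab : a ≠ b) (hd : Fintype.card Ω - 2 ≤ 2 * Nat.card ↥(MulAction.stabilizer G a ⊓ MulAction.stabilizer G b)) (F : Subgroup G) (hFle : F ≤ MulAction.stabilizer G a) (hFn : (F.subgroupOf (MulAction.stabilizer G a)).Normal) (hreg : ∀ y z : Ω, y ≠ a → z ≠ a → ∃! u : F, (u : G) • y = z) : IsMulCommutative F ∧ ∃ p f : ℕ, p.Prime ∧ (∀ u ∈ F, u ^ p = 1) ∧ Fintype.card Ω = p ^ f + 1 := by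

  classical
  open CfsgLib.Char.Exceptional in
  set N := MulAction.stabilizer G a with hN
  set E := (MulAction.stabilizer G a ⊓ MulAction.stabilizer G b : Subgroup G) with hE
  have h3 := CfsgLib.Char.Exceptional.zass_three_le hZ
  have huniq : ∀ y : Ω, y ≠ a → ∀ u v : F, (u : G) • y = (v : G) • y → u = v := by
    intro y hy u v h
    have hne : (u : G) • y ≠ a := fun h' => hy (MulAction.injective (u : G)
      (h'.trans (hFle u.2 : (u : G) • a = a).symm))
    exact (hreg y _ hy hne).unique rfl h.symm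
  have hFfix : ∀ u ∈ F, u ≠ 1 → ∀ c : Ω, u • c = c → c = a := by
    intro u hu hu1 c hc
    by_contra hca
    exact hu1 (congrArg Subtype.val (huniq c hca ⟨u, hu⟩ 1 (hc.trans (one_smul G c).symm)))
  have hFcard : Nat.card F + 1 = Fintype.card Ω := by
    have hbij : Function.Bijective (fun u : F => (⟨(u : G) • b, fun h' => hab (MulAction.injective (u : G)
        ((hFle u.2 : (u : G) • a = a).trans h'.symm))⟩ : {c : Ω // c ≠ a})) := by
      refine ⟨fun u v h => huniq b hab.symm u v (congrArg Subtype.val h), fun c => ?_⟩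
      obtain ⟨u, hu, -⟩ := hreg b c hab.symm c.2
      exact ⟨u, Subtype.ext hu⟩
    rw [Nat.card_congr (Equiv.ofBijective _ hbij), Nat.card_eq_fintype_card, Fintype.card_subtype_compl,
      Fintype.card_subtype_eq]
    omega
  haveI hnil : Group.IsNilpotent F := CfsgLib.Char.Exceptional.zass_kernel_nilpotent hZ hab hFle hFcard hFfix
  have hEN : E ≤ Subgroup.normalizer (F : Set G) :=
    (inf_le_left : E ≤ N).trans ((Subgroup.normal_subgroupOf_iff_le_normalizer hFle).1 hFn)
  -- a set closed under automorphisms is big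
  have hbig : ∀ (S : Set F), (∀ φ : F ≃* F, ∀ u ∈ S, φ u ∈ S) → (1 : F) ∉ S → S.Nonempty →
      Nat.card E ≤ S.ncard := by
    intro S hS h1 ⟨u, hu⟩
    have hu1 : (u : G) ≠ 1 := fun h => h1 (by rwa [show u = 1 from Subtype.ext h] at hu)
    have hmem : ∀ t : E, (t : G) * u * (t : G)⁻¹ ∈ F := fun t =>
      (Subgroup.mem_normalizer_iff.1 (hEN t.2) _).1 u.2
    have hconj : ∀ t : E, (⟨_, hmem t⟩ : F) ∈ S := fun t => by
      let φ : F ≃* F :=
        { toFun := fun v => ⟨(t : G) * v * (t : G)⁻¹, (Subgroup.mem_normalizer_iff.1 (hEN t.2) _).1 v.2⟩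
          invFun := fun v => ⟨(t : G)⁻¹ * v * ((t : G)⁻¹)⁻¹,
            (Subgroup.mem_normalizer_iff.1 (inv_mem (hEN t.2)) _).1 v.2⟩
          left_inv := fun v => Subtype.ext (by group)
          right_inv := fun v => Subtype.ext (by group)
          map_mul' := fun v w => Subtype.ext (by simp only [Subgroup.coe_mul]; group) }
      exact hS φ u hu
    rw [← Nat.card_coe_set_eq]
    refine Nat.card_le_card_of_injective (fun t : E => (⟨_, hconj t⟩ : S)) fun t t' h => ?_
    have h' : (t : G) * u * (t : G)⁻¹ = (t' : G) * u * (t' : G)⁻¹ := congrArg Subtype.val (congrArg Subtype.val h)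
    by_contra htt
    set x := (t' : G)⁻¹ * t with hx
    have hxE : x ∈ E := mul_mem (inv_mem t'.2) t.2
    have hx1 : x ≠ 1 := fun h => htt (Subtype.ext (inv_mul_eq_one.1 h).symm)
    have hcomm : x * u = u * x := by
      rw [hx]
      calc (t' : G)⁻¹ * t * u = (t' : G)⁻¹ * ((t : G) * u * (t : G)⁻¹) * t := by group
        _ = (t' : G)⁻¹ * ((t' : G) * u * (t' : G)⁻¹) * t := by rw [h']
        _ = u * ((t' : G)⁻¹ * t) := by group
    have hfix : x • ((u : G) • b) = (u : G) • b := by
      rw [← mul_smul, hcomm, mul_smul, show x • b = b from hxE.2]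
    rcases CfsgLib.Char.Exceptional.zass_fix_two hZ hx1 hab hxE.1 hxE.2 hfix with h | h
    · exact hab.symm (MulAction.injective (u : G) (h.trans (hFle u.2 : (u : G) • a = a).symm))
    · exact hab (hFfix u u.2 hu1 b h).symm
  have htot : ∀ (l : List (Set F)), (∀ S ∈ l, (∀ φ : F ≃* F, ∀ u ∈ S, φ u ∈ S) ∧ (1 : F) ∉ S ∧ S.Nonempty) →
      l.Pairwise Disjoint → l.length ≤ 2 := by
    intro l hl hd'
    by_contra hlen
    push Not at hlen
    match l, hl, hd', hlen with
    | A :: B :: C :: r, hl, hd', _ =>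
      have hA := hl A (by simp)
      have hB := hl B (by simp)
      have hC := hl C (by simp)
      simp only [List.pairwise_cons, List.mem_cons] at hd'
      have hAB : Disjoint A B := hd'.1 B (Or.inl rfl)
      have hAC : Disjoint A C := hd'.1 C (Or.inr (Or.inl rfl))
      have hBC : Disjoint B C := hd'.2.1 C (Or.inl rfl)
      have hsub : A ∪ B ∪ C ⊆ ({1}ᶜ : Set F) := by
        intro x hx (hx1 : x = 1)
        subst hx1
        rcases hx with (hx | hx) | hx
        exacts [hA.2.1 hx, hB.2.1 hx, hC.2.1 hx]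
      have h1 := Set.ncard_le_ncard hsub (Set.toFinite _)
      rw [Set.ncard_union_eq (Set.disjoint_union_left.2 ⟨hAC, hBC⟩), Set.ncard_union_eq hAB,
        Set.ncard_compl, Set.ncard_singleton] at h1
      have := hbig A hA.1 hA.2.1 hA.2.2
      have := hbig B hB.1 hB.2.1 hB.2.2
      have := hbig C hC.1 hC.2.1 hC.2.2
      have := Nat.card_pos (α := E)
      omega
  -- the kernel is a `p`-group
  obtain ⟨p, hp, hpF⟩ := Nat.exists_prime_and_dvd (n := Nat.card F) (by omega)
  haveI := Fact.mk hp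
  have hord : ∀ k : ℕ, 1 < k → (∀ φ : F ≃* F, ∀ u ∈ {v : F | orderOf v = k}, φ u ∈ {v : F | orderOf v = k})
      ∧ (1 : F) ∉ {v : F | orderOf v = k} := by
    refine fun k hk => ⟨fun φ u hu => ?_, fun h => ?_⟩
    · exact (orderOf_injective φ.toMonoidHom φ.injective u).trans hu
    · rw [Set.mem_setOf_eq, orderOf_one] at h
      omega
  have hpg : IsPGroup p F := by
    refine IsPGroup.of_card (n := (Nat.card F).primeFactorsList.length)
      (Nat.eq_prime_pow_of_unique_prime_dvd Nat.card_pos.ne' fun {q} hq hqF => ?_)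
    by_contra hqp
    haveI := Fact.mk hq
    obtain ⟨u, hu⟩ := exists_prime_orderOf_dvd_card' (G := F) p hpF
    obtain ⟨v, hv⟩ := exists_prime_orderOf_dvd_card' (G := F) q hqF
    have hcomm : Commute u v := by
      obtain ⟨P, hP⟩ := (IsPGroup.of_card (n := 1) (by rw [pow_one, Nat.card_zpowers, hu]) :
        IsPGroup p (Subgroup.zpowers u)).exists_le_sylow
      obtain ⟨Q, hQ⟩ := (IsPGroup.of_card (n := 1) (by rw [pow_one, Nat.card_zpowers, hv]) :
        IsPGroup q (Subgroup.zpowers v)).exists_le_sylow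
      exact Subgroup.commute_of_normal_of_disjoint _ _ inferInstance inferInstance
        (IsPGroup.disjoint_of_ne p q (Ne.symm hqp) _ _ P.2 Q.2) u v
        (hP (Subgroup.mem_zpowers u)) (hQ (Subgroup.mem_zpowers v))
    have huv : orderOf (u * v) = p * q := by
      rw [hcomm.orderOf_mul_eq_mul_orderOf_of_coprime, hu, hv]
      rw [hu, hv]
      exact (Nat.coprime_primes hp hq).2 (Ne.symm hqp)
    have hpq : p ≠ p * q := fun h => hq.ne_one (by
      have := Nat.eq_of_mul_eq_mul_left hp.pos (show p * 1 = p * q by omega)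
      omega)
    have hqq : q ≠ p * q := fun h => hp.ne_one (by
      have := Nat.eq_of_mul_eq_mul_right hq.pos (show 1 * q = p * q by omega)
      omega)
    have hdisj : ∀ i j : ℕ, i ≠ j → Disjoint {w : F | orderOf w = i} {w : F | orderOf w = j} :=
      fun i j h => Set.disjoint_left.2 fun w h1 h2 => h (h1.symm.trans h2)
    have hlen := htot [{w : F | orderOf w = p}, {w : F | orderOf w = q}, {w : F | orderOf w = p * q}]
      (by
        intro S hS
        simp only [List.mem_cons, List.not_mem_nil, or_false] at hS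
        rcases hS with rfl | rfl | rfl
        · exact ⟨(hord p hp.one_lt).1, (hord p hp.one_lt).2, u, hu⟩
        · exact ⟨(hord q hq.one_lt).1, (hord q hq.one_lt).2, v, hv⟩
        · exact ⟨(hord _ (Nat.one_lt_mul_iff.2 ⟨hp.pos, hq.pos, Or.inl hp.one_lt⟩)).1,
            (hord _ (Nat.one_lt_mul_iff.2 ⟨hp.pos, hq.pos, Or.inl hp.one_lt⟩)).2, u * v, huv⟩)
      (by simp [hdisj p q (Ne.symm hqp), hdisj p _ hpq, hdisj q _ hqq])
    simp at hlen
  obtain ⟨f, hf⟩ := hpg.exists_card_eq
  -- no proper characteristic subgroup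
  have hchar : ∀ K : Subgroup F, (∀ φ : F ≃* F, ∀ u ∈ K, φ u ∈ K) → K ≠ ⊥ → K = ⊤ := by
    intro K hK hbot
    by_contra htop
    have hinv : ∀ φ : F ≃* F, ∀ u, u ∉ K → φ u ∉ K := fun φ u hu h => hu (by
      have := hK φ.symm _ h
      rwa [MulEquiv.symm_apply_apply] at this)
    have hA := hbig ((K : Set F) \ {1}) (fun φ u hu => ⟨hK φ u hu.1, fun h => hu.2 (φ.map_eq_one_iff.1 h)⟩)
      (fun h => h.2 rfl) ((K.bot_or_exists_ne_one.resolve_left hbot).imp fun u hu => hu)
    have hB := hbig ((K : Set F)ᶜ) (fun φ u hu => hinv φ u hu) (fun h => h K.one_mem)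
      (Set.nonempty_compl.2 fun h => htop (SetLike.coe_injective (h.trans Subgroup.coe_top.symm)))
    rw [Set.ncard_diff_singleton_of_mem K.one_mem, ← Nat.card_coe_set_eq] at hA
    rw [Set.ncard_compl, ← Nat.card_coe_set_eq] at hB
    simp only [SetLike.coe_sort_coe] at hA hB
    have hKF := Subgroup.card_subgroup_dvd_card K
    have hKne : Nat.card K ≠ 1 := fun h => hbot (Subgroup.card_eq_one.1 h)
    have hKlt : Nat.card K < Nat.card F := lt_of_le_of_ne (Nat.le_of_dvd Nat.card_pos hKF)
      fun h => htop (Subgroup.eq_top_of_card_eq K h)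
    have hpK : p ∣ Nat.card K := by
      rw [hf] at hKF
      obtain ⟨j, -, hj⟩ := (Nat.dvd_prime_pow hp).1 hKF
      rw [hj] at hKne ⊢
      exact dvd_pow_self p (fun h => hKne (by rw [h, pow_zero]))
    have h2 : 2 * Nat.card K = Nat.card F + 1 := by omega
    exact hp.not_dvd_one ((Nat.dvd_add_right hpF).1 (h2 ▸ hpK.mul_left 2))
  haveI : Nontrivial F := Finite.one_lt_card_iff_nontrivial.1 (by omega)
  have hZtop : Subgroup.center F = ⊤ := by
    refine hchar _ (fun φ u hu => ?_) ?_
    · rw [Subgroup.mem_center_iff] at hu ⊢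
      intro v
      rw [← φ.apply_symm_apply v, ← map_mul, hu, map_mul]
    · haveI := hpg.center_nontrivial
      exact (Subgroup.nontrivial_iff_ne_bot _).1 ‹_›
  have hcomm : ∀ u v : F, u * v = v * u := fun u v =>
    (Subgroup.mem_center_iff.1 (hZtop ▸ Subgroup.mem_top v) u)
  refine ⟨⟨⟨hcomm⟩⟩, p, f, hp, ?_, ?_⟩
  · let K : Subgroup F :=
      { carrier := {u | u ^ p = 1}
        one_mem' := one_pow _
        mul_mem' := fun {u v} (hu : u ^ p = 1) (hv : v ^ p = 1) =>
          show (u * v) ^ p = 1 by rw [Commute.mul_pow (hcomm u v), hu, hv, one_mul]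
        inv_mem' := fun {u} (hu : u ^ p = 1) => show u⁻¹ ^ p = 1 by rw [inv_pow, hu, inv_one] }
    have hK : K = ⊤ := by
      refine hchar K (fun φ u (hu : u ^ p = 1) => show φ u ^ p = 1 by rw [← map_pow, hu, map_one]) ?_
      obtain ⟨u, hu⟩ := exists_prime_orderOf_dvd_card' (G := F) p hpF
      intro h
      have hu' : u ∈ K := show u ^ p = 1 by rw [← hu, pow_orderOf_eq_one]
      rw [h, Subgroup.mem_bot] at hu'
      rw [hu', orderOf_one] at hu
      exact hp.ne_one hu.symm
    intro u hu
    have hm : (⟨u, hu⟩ : F) ∈ K := by rw [hK]; exact Subgroup.mem_top _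
    have : (⟨u, hu⟩ : F) ^ p = 1 := hm
    exact congrArg Subtype.val this
  · omega

end Cfsg.Agent.S0738
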