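import Cfsg.Statements.S0183
import Cfsg.Agent.Lib.OddLocal.CNPartition
import Cfsg.Agent.Lib.OddLocal.CNQuotient
import Cfsg.Agent.Lib.Char.CNTheorem

set_option autoImplicit false
open Cfsg

namespace Cfsg.Agent.S0183

open CfsgLib.OddLocal

universe u

private theorem false_of_minSimple {G : Type u} [Group G] [Finite G]
    (hG : Cfsg.IsMinSimpleOddOrder G) (hCN : Cfsg.IsCNGroup G) : False := by
  classical
  have := Fintype.ofFinite G
  have := hG.2.1
  let X := {H : Subgroup G // Group.IsNilpotent H ∧
    ∀ L : Subgroup G, Group.IsNilpotent L → H ≤ L → L = H}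
  let s : Setoid X :=
    { r := fun H K => ∃ g : G, K.1 = H.1.map (MulAut.conj g).toMonoidHom
      iseqv :=
        { refl := fun H => ⟨1, by ext; simp⟩
          symm := fun {H K} ⟨g, hg⟩ => ⟨g⁻¹, by
            rw [hg, Subgroup.map_map]; ext; simp [mul_assoc]⟩
          trans := fun {H K L} ⟨g, hg⟩ ⟨g', hg'⟩ => ⟨g' * g, by
            rw [hg', hg, Subgroup.map_map]; ext; simp [mul_assoc]⟩ } }
  have : Nonempty X := by
    obtain ⟨H, -, hH, hm⟩ := CNSimple.exists_maximal_nilpotent_ge
      (K := (⊥ : Subgroup G)) inferInstance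
    exact ⟨⟨H, hH, hm⟩⟩
  have := Fintype.ofFinite (Quotient s)
  have hne : Nonempty (Quotient s) := ⟨Quotient.mk s (Classical.arbitrary X)⟩
  have hco : ∀ l m : Quotient s, l ≠ m →
      (Nat.card l.out.1).Coprime (Nat.card m.out.1) := fun l m hlm =>
    (CNSimple.conj_or_coprime hG hCN l.out.2.1 l.out.2.2 m.out.2.1 m.out.2.2).resolve_left
      fun h => hlm (l.out_eq.symm.trans ((Quotient.sound h).trans m.out_eq))
  refine CfsgLib.CNTI.false_of_partition (G := G)
    { A := fun q : Quotient s => q.out.1
      tik := fun q => ⟨fun x hx hx1 => CN.centralizer_le_of_ti hCN q.out.2.1 q.out.2.2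
          (CNSimple.ti' hG hCN q.out.2.1 q.out.2.2) hx hx1,
        CNSimple.ti' hG hCN q.out.2.1 q.out.2.2⟩
      nilpotent := fun q => q.out.2.1
      derived := fun q => ?_
      cover := fun y hy => ?_
      disj := fun l m a ha ha1 g hg => ?_
      coprime := hco
      relIndex_ne_one := fun q => ?_
      normalizer_ne_top := fun q =>
        (CNSimple.nilpotent_structure hG hCN q.out.2.1 q.out.2.2).1.1 } hG.1
  · have := q.out.2.1
    have hnb := CNSimple.exists_ne_one_of_maximal_nilpotent hG q.out.2.2
    have : Nontrivial q.out.1 := (Subgroup.nontrivial_iff_ne_bot _).2 hnb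
    exact (IsSolvable.commutator_lt_top_of_nontrivial _).ne
  · obtain ⟨H, hle, hH, hm⟩ := CNSimple.exists_maximal_nilpotent_ge
      (show Group.IsNilpotent (Subgroup.zpowers y) by
        let : CommGroup (Subgroup.zpowers y) := IsCyclic.commGroup
        exact CommGroup.isNilpotent)
    obtain ⟨g, hg⟩ := Quotient.exact (Quotient.out_eq (Quotient.mk s ⟨H, hH, hm⟩))
    obtain ⟨a, ha, hay⟩ : y ∈ (Quotient.mk s ⟨H, hH, hm⟩).out.1.map (MulAut.conj g).toMonoidHom :=
      hg ▸ hle (Subgroup.mem_zpowers y)
    exact ⟨_, g, a, ha, by simpa using hay⟩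
  · by_contra hlm
    refine ha1 (orderOf_eq_one_iff.1 (Nat.eq_one_of_dvd_coprimes (hco l m hlm)
      (Subgroup.orderOf_dvd_natCard _ ha) ?_))
    have h := Subgroup.orderOf_dvd_natCard _ hg
    rwa [← MulAut.conj_apply, MulEquiv.orderOf_eq] at h
  · intro h
    refine CNSimple.not_nilpotent_coatom hG hCN
      (CNSimple.nilpotent_structure hG hCN q.out.2.1 q.out.2.2).1 ?_
    rw [le_antisymm (Subgroup.relIndex_eq_one.1 h) Subgroup.le_normalizer]
    exact q.out.2.1

private theorem solvable_aux (n : ℕ) : ∀ (G : Type u) [Group G] [Finite G], Nat.card G = n →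
    Odd (Nat.card G) → Cfsg.IsCNGroup G → Group.IsSolvable G := by
  induction n using Nat.strong_induction_on with
  | _ n ih =>
    intro G _ _ hn hodd hCN
    by_contra hns
    have hsub : ∀ H : Subgroup G, H ≠ ⊤ → Group.IsSolvable H := fun H hH =>
      ih _ (hn ▸ lt_of_le_of_ne (Subgroup.card_le_card_group H)
        fun e => hH (Subgroup.eq_top_of_card_eq H e)) H rfl
        (hodd.of_dvd_nat H.card_subgroup_dvd_card) (CN.cn_subgroup hCN H)
    have : Nontrivial G := not_subsingleton_iff_nontrivial.1 fun h => hns inferInstance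
    have hsimple : IsSimpleGroup G := ⟨fun N hN => by
      by_contra h
      push Not at h
      have := hsub N h.2
      have hlt : Nat.card (G ⧸ N) < n := hn ▸ by
        rw [← Subgroup.index_mul_card N, ← Subgroup.index_eq_card]
        exact lt_mul_of_one_lt_right (Nat.pos_of_ne_zero Subgroup.index_ne_zero_of_finite)
          (N.one_lt_card_iff_ne_bot.2 h.1)
      have := ih _ hlt (G ⧸ N) rfl (hodd.of_dvd_nat N.card_quotient_dvd_card)
        (CN.cn_quotient hCN N inferInstance)
      exact hns (Group.isSolvable_of_ker_le_range N.subtype (QuotientGroup.mk' N) (by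
        rw [QuotientGroup.ker_mk', Subgroup.range_subtype]))⟩
    refine false_of_minSimple ⟨hodd, hsimple, fun hc => hns ?_, hsub⟩ hCN
    have := hc
    exact Group.isSolvable_of_comm hc.is_comm.comm

/-- The CN-Theorem for odd order: a finite group of odd order in which every non-identity element has a nilpotent centralizer (a CN-group) is solvable. -/
theorem result {G : Type*} [Group G] [Finite G] (hodd : Odd (Nat.card G)) (hCN : Cfsg.IsCNGroup G) : Group.IsSolvable G :=
  solvable_aux _ G rfl hodd hCN

end Cfsg.Agent.S0183
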