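import Cfsg.Statements.S1477
import Cfsg.Agent.Lib.OddLocal.CNGroup
-- import your own Cfsg.Agent.* helpers here

set_option autoImplicit false
open Cfsg

namespace Cfsg.Agent.S1477

/-- Let G be a finite group in which every non-identity element has nilpotent centralizer, and H a nilpotent subgroup not properly contained in any nilpotent subgroup. Then the order of H is coprime to its index; if the order of H is not a prime power then H ∩ gHg⁻¹ = 1 whenever gHg⁻¹ ≠ H; and if H ∩ gHg⁻¹ = 1 whenever gHg⁻¹ ≠ H, then C_G(x) ≤ H for every non-identity x ∈ H. -/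
theorem result {G : Type*} [Group G] [Finite G] (hCN : Cfsg.IsCNGroup G) (H : Subgroup G) (hH : Group.IsNilpotent H)
    (hmax : ∀ L : Subgroup G, Group.IsNilpotent L → H ≤ L → L = H) :
    (Nat.card H).Coprime H.index ∧
      (¬ IsPrimePow (Nat.card H) → Nat.card H ≠ 1 → ∀ g : G, H.map (MulAut.conj g).toMonoidHom ≠ H → H ⊓ H.map (MulAut.conj g).toMonoidHom = ⊥) ∧
      ((∀ g : G, H.map (MulAut.conj g).toMonoidHom ≠ H → H ⊓ H.map (MulAut.conj g).toMonoidHom = ⊥) → ∀ x ∈ H, x ≠ 1 → Subgroup.centralizer ({x} : Set G) ≤ H) := by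
  classical
  refine ⟨CfsgLib.OddLocal.CN.coprime_index hCN hH hmax, ?_, ?_⟩
  · intro hnp h1 g hne
    have hn1 := Nat.exists_prime_and_dvd (n := Nat.card H) h1
    obtain ⟨p, hp, hpd⟩ := hn1
    obtain ⟨q, hq, hqd, hpq⟩ : ∃ q : ℕ, q.Prime ∧ q ∣ Nat.card H ∧ p ≠ q := by
      by_contra! hc
      apply hnp
      rw [isPrimePow_iff_unique_prime_dvd]
      exact ⟨p, ⟨hp, hpd⟩, fun r hr => (hc r hr.1 hr.2).symm⟩
    have := Fact.mk hp
    have := Fact.mk hq
    by_contra hb
    obtain ⟨⟨x, hxH, hxL⟩, hx1⟩ := Subgroup.ne_bot_iff_exists_ne_one.mp hb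
    have hx1' : x ≠ 1 := fun h => hx1 (Subtype.ext h)
    set L := H.map (MulAut.conj g).toMonoidHom with hL
    have hLn : Group.IsNilpotent L := CfsgLib.Core.isNilpotent_map _ _
    have hcard : Nat.card L = Nat.card H :=
      (Nat.card_congr (Subgroup.equivMapOfInjective H _ (MulAut.conj g).injective).toEquiv).symm
    have hLmax : ∀ K : Subgroup G, Group.IsNilpotent K → L ≤ K → K = L := by
      intro K hK hLK
      have h2 := hmax _ (CfsgLib.Core.isNilpotent_map (MulAut.conj g⁻¹).toMonoidHom K) fun h hh =>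
        ⟨g * h * g⁻¹, hLK ⟨h, hh, by simp⟩, by simp [mul_assoc]⟩
      rw [hL, ← h2, Subgroup.map_map]
      ext k
      simp [mul_assoc]
    have hLc : ∀ a ∈ H ⊓ L, a ≠ 1 → Subgroup.centralizer ({a} : Set G) ≤ L := fun a ha ha1 =>
      CfsgLib.OddLocal.CN.centralizer_le_of_two_primes hCN hLn hLmax hpq
        (hcard ▸ hpd) (hcard ▸ hqd) ha.2 ha1
    have hle := CfsgLib.OddLocal.CN.eq_of_mem_two_primes hCN hH hmax hpq hpd hqd hLn hLc hxH hxL hx1'
    exact hne (Subgroup.eq_of_le_of_card_ge hle hcard.ge)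
  · intro hti x hx hx1
    refine CfsgLib.OddLocal.CN.centralizer_le_of_ti hCN hH hmax ?_ hx hx1
    intro g hg y hy hgy
    by_contra hy1
    refine hg ?_
    have heq : H.map (MulAut.conj g).toMonoidHom = H := by
      by_contra hne
      have := hti g hne
      have h2 : g * y * g⁻¹ ∈ H ⊓ H.map (MulAut.conj g).toMonoidHom := ⟨hgy, y, hy, by simp⟩
      rw [this, Subgroup.mem_bot] at h2
      apply hy1
      have := congrArg (fun w => g⁻¹ * w * g) h2
      simpa [mul_assoc] using this
    rw [Subgroup.mem_normalizer_iff]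
    intro k
    constructor
    · intro hk
      rw [← heq]
      exact ⟨k, hk, by simp⟩
    · intro hk
      rw [← heq] at hk
      obtain ⟨m, hm, hmk⟩ := hk
      have : m = k := (MulAut.conj g).injective (by simpa using hmk)
      exact this ▸ hm

end Cfsg.Agent.S1477
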