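import Cfsg.Statements.S0327
import Cfsg.Agent.Lib.Lie.Suzuki.Structure

set_option autoImplicit false
open Cfsg
open CfsgLib.Lie.Suzuki

namespace Cfsg.Agent.S0327

/-- The Suzuki group (`m ≥ 1`) is a Zassenhaus group on the `q² + 1` points of the Suzuki–Tits ovoid. -/
theorem result {F : Type*} [Field F] [Fintype F] {m : ℕ} (hm : 1 ≤ m)
    (hF : Fintype.card F = 2 ^ (2 * m + 1)) :
    Cfsg.IsZassenhausGroup (Cfsg.Sz F m) (Cfsg.suzukiOvoid F m) := by
  haveI := CfsgLib.Lie.Suzuki.charTwo_of_card hF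
  haveI := isSimple hF hm
  refine ⟨faithful hF hm, two_pretransitive hF,
    fun g a b c hab hbc hac ha hb hc => eq_one_of_fix hF hm hab hbc hac ha hb hc, ?_, fun N hN htr => ?_⟩
  · obtain ⟨c, hc0, hc1⟩ := exists_ne hm hF
    refine ⟨tS hF (Units.mk0 c hc0), fun h => hc1 ?_, _, _, ?_, tS_none hF _, tS_zero hF _⟩
    · have h' := (uS_tS_inj hF (a := 0) (b := 0) (a' := 0) (b' := 0) (t := Units.mk0 c hc0) (t' := 1)
        (by rw [h, map_one])).2.2
      exact congrArg Units.val h'
    · simp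
  · refine ⟨pt F m none, fun h => ?_⟩
    rcases Subgroup.Normal.eq_bot_or_eq_top hN with hb | ht
    · obtain ⟨n, hn⟩ := MulAction.exists_smul_eq N (pt F m none) (pt F m (some ((0 : F), (0 : F))))
      have : (n : Cfsg.Sz F m) = 1 := Subgroup.mem_bot.1 (hb ▸ n.2)
      rw [Subgroup.smul_def, this, one_smul] at hn
      simp at hn
    · have hmem : uS hF 0 1 ∈ N := ht ▸ Subgroup.mem_top _
      have h1 : (⟨_, hmem⟩ : N) ∈ MulAction.stabilizer N (pt F m none) := uS_none hF 0 1
      rw [h, Subgroup.mem_bot] at h1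
      exact one_ne_zero (uS_inj hF ((congrArg Subtype.val h1).trans (uS_one hF).symm)).2

end Cfsg.Agent.S0327
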