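import Cfsg.Statements.S0190
import Mathlib.GroupTheory.GroupAction.Quotient

set_option autoImplicit false
open Cfsg

namespace Cfsg.Agent.S0190

/-- For a transitive action of a finite group on X, the permutation character g ↦ (number of fixed points of g) is the function induced from the principal character of the stabilizer of any point. -/
theorem result {G : Type*} [Group G] [Fintype G] (X : Type*) [MulAction G X] [Finite X] [MulAction.IsPretransitive G X] (x : X) : (fun g : G => (Nat.card (MulAction.fixedBy X g) : ℂ)) = Cfsg.indFun (MulAction.stabilizer G x) (fun _ => 1) := by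
  classical
  funext g
  have := Fintype.ofFinite X
  rw [Cfsg.indFun]
  have hval : ∀ y : G, Cfsg.extendByZero (MulAction.stabilizer G x) (fun _ => (1 : ℂ)) (y⁻¹ * g * y) =
      if g • y • x = y • x then 1 else 0 := by
    intro y
    have hiff : y⁻¹ * g * y ∈ MulAction.stabilizer G x ↔ g • y • x = y • x := by
      rw [MulAction.mem_stabilizer_iff, mul_smul, mul_smul, inv_smul_eq_iff]
    split_ifs with h
    · exact Subtype.val_injective.extend_apply _ _ ⟨_, hiff.mpr h⟩
    · unfold Cfsg.extendByZero
      rw [Function.extend_apply']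
      · rfl
      · rintro ⟨⟨a, ha⟩, rfl⟩
        exact h (hiff.mp ha)
  simp only [hval]
  have hfib : ∀ z : X, ((Finset.univ : Finset G).filter fun y => y • x = z).card =
      Nat.card (MulAction.stabilizer G x) := by
    intro z
    obtain ⟨c, rfl⟩ := MulAction.exists_smul_eq G x z
    rw [← Fintype.card_subtype, ← Nat.card_eq_fintype_card]
    refine Nat.card_congr ⟨fun y => ⟨c⁻¹ * (y : G), ?_⟩, fun a => ⟨c * (a : G), ?_⟩, ?_, ?_⟩
    · rw [MulAction.mem_stabilizer_iff, mul_smul, y.2, inv_smul_smul]
    · rw [mul_smul, MulAction.mem_stabilizer_iff.mp a.2]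
    · intro y; simp
    · intro a; simp
  rw [← Finset.sum_fiberwise (Finset.univ : Finset G) (fun y => y • x),
    Finset.sum_congr rfl (g := fun z => (Nat.card (MulAction.stabilizer G x) : ℂ) *
      if g • z = z then (1 : ℂ) else 0), ← Finset.mul_sum, ← mul_assoc,
    inv_mul_cancel₀ (Nat.cast_ne_zero.mpr Nat.card_pos.ne'), one_mul, Finset.sum_boole,
    ← Fintype.card_subtype, ← Nat.card_eq_fintype_card]
  · rfl
  · intro z _
    rw [Finset.sum_congr rfl (g := fun _ => if g • z = z then (1 : ℂ) else 0), Finset.sum_const,
      hfib, nsmul_eq_mul]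
    intro y hy
    rw [(Finset.mem_filter.mp hy).2]

end Cfsg.Agent.S0190
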