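import Cfsg.Statements.S4675
import Cfsg.Agent.Lib.CharAction.Rank
import Cfsg.Agent.Lib.Blocks.DefectNumber
import Mathlib.RingTheory.PrincipalIdealDomain
import Mathlib.Tactic.LinearCombination
-- import your own Cfsg.Agent.* helpers here

set_option autoImplicit false
open Cfsg CfsgLib.Char CfsgLib.Blocks CfsgLib.CharAction

namespace Cfsg.Agent.S4675

/-- Fix a prime p and a maximal ideal M of the algebraic integers containing p. Let B be a p-block of the finite group G with defect group P and p-regular rank one (a single irreducible Brauer character). Then there are a function φ on G that is, on the p-regular elements, an integer combination of the members of B, and natural numbers d_χ (χ ∈ B), such that every χ ∈ B agrees with d_χ·φ on the p-regular elements and Σ_{χ ∈ B} d_χ² equals the order of P (the single Cartan invariant of B is the order of P). -/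
theorem result {G : Type*} [Group G] [Fintype G] (p : ℕ) [Fact p.Prime] (M : Ideal Cfsg.AlgInt) (hM : Cfsg.IsPModular p M) (B : Set (Cfsg.IrrCharacter G)) (hB : Cfsg.IsPBlock M B) (P : Subgroup G) (hP : Cfsg.IsDefectGroup p M B P) (hl : Cfsg.blockRank p B = 1) : ∃ φ : G → ℂ, ∃ d : Cfsg.IrrCharacter G → ℕ, (∃ n : Cfsg.IrrCharacter G → ℤ, ∀ x : G, Cfsg.IsPRegular p x → φ x = ∑ᶠ ψ ∈ B, (n ψ : ℂ) * (ψ : G → ℂ) x) ∧ (∀ χ ∈ B, ∀ x : G, Cfsg.IsPRegular p x → (χ : G → ℂ) x = (d χ : ℂ) * φ x) ∧ ∑ᶠ χ ∈ B, d χ ^ 2 = Nat.card P := by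
  classical
  have := hM.2.1.isPrime
  have hp : p.Prime := Fact.out
  set A := (Set.toFinite B).toFinset with hA
  have hmemA : ∀ χ, χ ∈ A ↔ χ ∈ B := fun χ => by simp [hA]
  obtain ⟨χ₀, hχ₀⟩ := IsPBlock.nonempty hB
  have hord1 : ¬ p ∣ orderOf (1 : G) := by simp [hp.ne_one]
  -- proportionality
  have hprop : ∀ χ ∈ B, ∀ x : G, ¬ p ∣ orderOf x →
      (χ : G → ℂ) x * (χ₀ : G → ℂ) 1 = (χ : G → ℂ) 1 * (χ₀ : G → ℂ) x := by
    intro χ hχ x hx
    obtain ⟨v, -, hv⟩ := finrank_eq_one_iff'.1 hl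
    obtain ⟨a, ha⟩ := hv ⟨_, Submodule.subset_span ⟨χ, hχ, rfl⟩⟩
    obtain ⟨b, hb⟩ := hv ⟨_, Submodule.subset_span ⟨χ₀, hχ₀, rfl⟩⟩
    have hat := fun y (hy : ¬ p ∣ orderOf y) => congrFun (congrArg Subtype.val ha) y
    have hbt := fun y (hy : ¬ p ∣ orderOf y) => congrFun (congrArg Subtype.val hb) y
    simp only [pRegularPart_eq_regCut, Submodule.coe_smul, Pi.smul_apply, smul_eq_mul, regCut]
      at hat hbt
    have e1 := hat x hx; have e2 := hat 1 hord1; have e3 := hbt x hx; have e4 := hbt 1 hord1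
    rw [if_neg hx] at e1 e3
    rw [if_neg hord1] at e2 e4
    rw [← e1, ← e2, ← e3, ← e4]
    ring
  -- the gcd of the degrees
  obtain ⟨g, n, hgdvd, hgn⟩ : ∃ (g : ℕ) (n : IrrCharacter G → ℤ),
      (∀ χ ∈ A, g ∣ charDegree (χ : G → ℂ)) ∧
        (g : ℤ) = ∑ χ ∈ A, n χ * charDegree (χ : G → ℂ) := by
    obtain ⟨w, hw⟩ := Finset.gcd_eq_sum_mul A fun χ => (charDegree (χ : G → ℂ) : ℤ)
    set gZ := A.gcd fun χ => (charDegree (χ : G → ℂ) : ℤ) with hgZ
    refine ⟨gZ.natAbs, fun χ => gZ.sign * w χ, fun χ hχ => ?_, ?_⟩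
    · exact Int.natCast_dvd_natCast.1 (Int.natAbs_dvd.2 (Finset.gcd_dvd hχ))
    · rw [← Int.sign_mul_self_eq_natAbs, hw, Finset.mul_sum]
      exact Finset.sum_congr rfl fun χ _ => by ring
  have hg0 : g ≠ 0 := by
    rintro rfl
    exact (charDegree_pos χ₀).ne' (Nat.eq_zero_of_zero_dvd (hgdvd χ₀ ((hmemA _).2 hχ₀)))
  have hgC : (g : ℂ) ≠ 0 := Nat.cast_ne_zero.2 hg0
  have h01 : (χ₀ : G → ℂ) 1 ≠ 0 := IsIrr.apply_one_ne_zero χ₀.2
  set φ : G → ℂ := fun x => ∑ χ ∈ A, (n χ : ℂ) * (χ : G → ℂ) x with hφ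
  set d : IrrCharacter G → ℕ := fun χ => charDegree (χ : G → ℂ) / g with hd
  have hdg : ∀ χ ∈ A, d χ * g = charDegree (χ : G → ℂ) := fun χ hχ =>
    Nat.div_mul_cancel (hgdvd χ hχ)
  have hφx : ∀ x : G, ¬ p ∣ orderOf x →
      φ x * (χ₀ : G → ℂ) 1 = (g : ℂ) * (χ₀ : G → ℂ) x := by
    intro x hx
    rw [show (g : ℂ) = ((g : ℤ) : ℂ) from by simp, hgn, hφ]
    push_cast
    rw [Finset.sum_mul, Finset.sum_mul]
    refine Finset.sum_congr rfl fun χ hχ => ?_
    rw [mul_assoc, hprop χ ((hmemA _).1 hχ) x hx, apply_one_eq_charDegree χ]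
    ring
  have hval : ∀ χ ∈ A, ∀ x : G, ¬ p ∣ orderOf x → (χ : G → ℂ) x = (d χ : ℂ) * φ x := by
    intro χ hχ x hx
    refine mul_right_cancel₀ h01 ?_
    rw [hprop χ ((hmemA _).1 hχ) x hx, mul_assoc, hφx x hx, apply_one_eq_charDegree χ, ← mul_assoc,
      ← Nat.cast_mul, hdg χ hχ]
  refine ⟨φ, d, ⟨n, fun x _ => ?_⟩, fun χ hχ x hx => hval χ ((hmemA _).2 hχ) x hx, ?_⟩
  · rw [finsum_mem_eq_finite_toFinset_sum _ (Set.toFinite B)]
  rw [finsum_mem_eq_finite_toFinset_sum _ (Set.toFinite B), ← hA]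
  -- the invariant
  set c := classInner (regCut p φ) φ with hc
  have hinner : ∀ χ ∈ A, ∀ ξ ∈ A,
      classInner (regCut p (χ : G → ℂ)) (ξ : G → ℂ) = (d χ : ℂ) * d ξ * c := by
    intro χ hχ ξ hξ
    simp only [hc, classInner, Finset.mul_sum]
    refine Finset.sum_congr rfl fun x _ => ?_
    simp only [regCut]
    split
    · simp
    next hx =>
      rw [hval χ hχ x hx, hval ξ hξ x hx, map_mul, Complex.conj_natCast]
      ring
  set S := ∑ χ ∈ A, d χ ^ 2 with hS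
  have hSc : (S : ℂ) * c = 1 := by
    have := blockRank_eq_sum (M := M) hM hB
    rw [hl, Nat.cast_one, ← hA] at this
    rw [this, hS, Nat.cast_sum, Finset.sum_mul]
    exact Finset.sum_congr rfl fun χ hχ => by rw [hinner χ hχ χ hχ]; push_cast; ring
  set a := (Nat.card G).factorization p with ha
  have hR : ∀ χ ∈ A, ∀ ξ ∈ A,
      (S : ℤ) * regNum p (χ : G → ℂ) (ξ : G → ℂ) = (p : ℤ) ^ a * (d χ * d ξ) := by
    intro χ hχ ξ hξ
    have h : ((S : ℂ)) * (regNum p (χ : G → ℂ) (ξ : G → ℂ) : ℂ) =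
        (p : ℂ) ^ a * ((d χ : ℂ) * d ξ) := by
      rw [← regNum_eq, hinner χ hχ ξ hξ, ha]
      push_cast
      linear_combination ((p : ℂ) ^ (Nat.card G).factorization p * d χ * d ξ) * hSc
    exact_mod_cast h
  have hsumd : ∑ χ ∈ A, n χ * (d χ : ℤ) = 1 := by
    refine mul_right_cancel₀ (Int.natCast_ne_zero.2 hg0) ?_
    rw [Finset.sum_mul, one_mul]
    conv_rhs => rw [hgn]
    exact Finset.sum_congr rfl fun χ hχ => by rw [mul_assoc, ← Nat.cast_mul, hdg χ hχ]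
  have hSdvd : S ∣ p ^ a := by
    refine Int.natCast_dvd_natCast.1
      ⟨∑ χ ∈ A, ∑ ξ ∈ A, n χ * n ξ * regNum p (χ : G → ℂ) (ξ : G → ℂ), ?_⟩
    calc ((p ^ a : ℕ) : ℤ)
        = (p : ℤ) ^ a * ((∑ χ ∈ A, n χ * (d χ : ℤ)) * ∑ ξ ∈ A, n ξ * (d ξ : ℤ)) := by
          rw [hsumd, mul_one, mul_one]; push_cast; rfl
      _ = _ := by
          rw [Finset.sum_mul_sum, Finset.mul_sum, Finset.mul_sum]
          refine Finset.sum_congr rfl fun χ hχ => ?_
          rw [Finset.mul_sum, Finset.mul_sum]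
          refine Finset.sum_congr rfl fun ξ hξ => ?_
          linear_combination -(n χ * n ξ) * hR χ hχ ξ hξ
  obtain ⟨s, hsa, hs⟩ := (Nat.dvd_prime_pow hp).1 hSdvd
  obtain ⟨χ, hχ, hmin⟩ := exists_minDeg p (IsPBlock.nonempty hB)
  have h0 : blockHeight p B (χ : G → ℂ) = 0 := by rw [blockHeight_eq_sub, hmin, Nat.sub_self]
  have hn := (not_pow_succ_dvd_regNum_iff hM hB hχ hχ).2 h0
  have hle := pow_dvd_regNum_left (p := p) χ χ
  have hχA := (hmemA χ).2 hχ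
  have hpd : ¬ p ∣ d χ := by
    intro hd'
    have hgp : p ^ degVal p (χ : G → ℂ) ∣ g := by
      refine Int.natCast_dvd_natCast.1 ?_
      rw [hgn]
      refine Finset.dvd_sum fun ξ hξ => Dvd.dvd.mul_left (Int.natCast_dvd_natCast.2 ?_) _
      exact (pow_dvd_pow p (hmin ▸ minDeg_le ((hmemA _).1 hξ))).trans (Nat.ordProj_dvd _ _)
    refine Nat.pow_succ_factorization_not_dvd (charDegree_pos χ).ne' hp ?_
    rw [pow_succ']
    exact (mul_dvd_mul hd' hgp).trans (dvd_of_eq (hdg χ hχA))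
  have hN : regNum p (χ : G → ℂ) (χ : G → ℂ) = (p : ℤ) ^ (a - s) * (d χ * d χ) := by
    have hps : (p : ℤ) ^ s ≠ 0 := pow_ne_zero _ (Int.natCast_ne_zero.2 hp.ne_zero)
    refine mul_left_cancel₀ hps ?_
    have h := hR χ hχA χ hχA
    rw [hs] at h
    push_cast at h
    rw [h, ← mul_assoc ((p : ℤ) ^ s), ← pow_add, Nat.add_sub_cancel' hsa]
  have hpd2 : ¬ (p : ℤ) ∣ (d χ : ℤ) * d χ := by
    rw [← Nat.cast_mul, Int.natCast_dvd_natCast]
    exact fun h => hpd ((hp.dvd_mul.1 h).elim id id)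
  have hval_eq : degVal p (χ : G → ℂ) = a - s := by
    have hp0 : (p : ℤ) ≠ 0 := Int.natCast_ne_zero.2 hp.ne_zero
    rw [hN] at hn hle
    rcases Nat.lt_trichotomy (degVal p (χ : G → ℂ)) (a - s) with h | h | h
    · exact absurd (Dvd.dvd.mul_right (pow_dvd_pow _ h) _) hn
    · exact h
    · refine absurd ?_ hpd2
      have := (pow_dvd_pow (p : ℤ) h).trans hle
      rw [pow_succ] at this
      exact (mul_dvd_mul_iff_left (pow_ne_zero _ hp0)).1 this
  rw [hs, CfsgLib.Blocks.IsDefectGroup.card_eq hM hB hP, blockDefect_eq_sub, ← hmin, hval_eq, ← ha,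
    Nat.sub_sub_self hsa]

end Cfsg.Agent.S4675
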