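import Cfsg.Statements.S0963
import Cfsg.Agent.Lib.Blocks.IndCentral

set_option autoImplicit false
open Cfsg

namespace Cfsg.Agent.S0963

/-- Let N be a normal subgroup of the finite group G, χ an irreducible character of G and θ an irreducible character of N. Then θ occurs in the restriction of χ to N if and only if, for every n ∈ N, the central character of χ at n (class size in G times χ n over χ 1) equals the sum of θ m / θ 1 over the elements m of N conjugate in G to n. -/
theorem result {G : Type*} [Group G] [Fintype G] (N : Subgroup G) [N.Normal] [Fintype N] (χ : Cfsg.IrrCharacter G) (θ : Cfsg.IrrCharacter N) : Cfsg.classInner (fun n : N => (χ : G → ℂ) n) (θ : N → ℂ) ≠ 0 ↔ ∀ n : N, Cfsg.centralChar (χ : G → ℂ) (n : G) = Cfsg.inducedCentralChar N (θ : N → ℂ) (n : G) := by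
  classical
  have hθ1 := CfsgLib.Char.IsIrr.apply_one_ne_zero θ.2
  have hχ1 := CfsgLib.Char.IsIrr.apply_one_ne_zero χ.2
  have hI : ∀ g : G, ((Subgroup.centralizer ({g} : Set G)).index : ℂ) ≠ 0 := fun g =>
    Nat.cast_ne_zero.2 Subgroup.index_ne_zero_of_finite
  have hiff : ∀ n : N, centralChar (χ : G → ℂ) (n : G) = inducedCentralChar N (θ : N → ℂ) (n : G) ↔
      (χ : G → ℂ) n / (χ : G → ℂ) 1
        = indFun N (θ : N → ℂ) (n : G) / indFun N (θ : N → ℂ) 1 := fun n => by
    rw [← CfsgLib.Blocks.centralChar_indFun N hθ1, centralChar, centralChar, mul_div_assoc,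
      mul_div_assoc]
    exact ⟨fun h => mul_left_cancel₀ (hI _) h, fun h => by rw [h]⟩
  have hi1 : indFun N (θ : N → ℂ) 1 ≠ 0 := by
    rw [CfsgLib.Char.indFun_apply_one]
    exact mul_ne_zero (Nat.cast_ne_zero.2 Subgroup.index_ne_zero_of_finite) hθ1
  simp only [hiff]
  constructor
  · intro h n
    have hc := CfsgLib.Clifford.restrict_eq_smul_orbit_sum (N := N) inferInstance χ.2 θ.2 h
    set e := classInner (fun n : N => (χ : G → ℂ) n) (θ : N → ℂ)
    set O := ∑ ψ ∈ Finset.univ.image (CfsgLib.Clifford.conjFn (N := N) inferInstance (θ : N → ℂ)), ψ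
    obtain ⟨k, hk⟩ : ∃ k : ℕ,
        ∑ g : G, CfsgLib.Clifford.conjFn (N := N) inferInstance (θ : N → ℂ) g = k • O := by
      refine ⟨(Finset.univ.filter fun g : G =>
        CfsgLib.Clifford.conjFn (N := N) inferInstance (θ : N → ℂ) g = (θ : N → ℂ)).card, ?_⟩
      rw [Finset.smul_sum, Finset.sum_comp (fun ψ => ψ)]
      refine Finset.sum_congr rfl fun ψ hψ => ?_
      obtain ⟨h₀, -, rfl⟩ := Finset.mem_image.1 hψ
      congr 1
      refine (Finset.card_equiv (Equiv.mulRight h₀) fun g => ?_).symm
      simp only [Finset.mem_filter, Finset.mem_univ, true_and, Equiv.coe_mulRight]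
      rw [CfsgLib.Clifford.conjFn_mul]
      constructor
      · intro e'; rw [e']
      · intro e'
        have := congrArg (fun f => CfsgLib.Clifford.conjFn (N := N) inferInstance f h₀⁻¹) e'
        simpa only [← CfsgLib.Clifford.conjFn_mul, mul_inv_cancel, mul_inv_cancel_right,
          CfsgLib.Clifford.conjFn_one] using this
    have hval : ∀ m : N, indFun N (θ : N → ℂ) (m : G)
        = (Nat.card N : ℂ)⁻¹ * ((k : ℂ) * O m) := fun m => by
      rw [CfsgLib.Clifford.indFun_coe_normal inferInstance, ← Finset.sum_apply, hk, Pi.smul_apply,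
        nsmul_eq_mul]
    have hχv : ∀ m : N, (χ : G → ℂ) m = e * O m := fun m => congrFun hc m
    have h2 : indFun N (θ : N → ℂ) 1 = (Nat.card N : ℂ)⁻¹ * ((k : ℂ) * O 1) := hval 1
    have h3 : (χ : G → ℂ) 1 = e * O 1 := hχv 1
    have hk0 : ((k : ℂ) * O 1) ≠ 0 := fun h0 => hi1 (by rw [h2, h0, mul_zero])
    rw [h2, h3, hχv, hval, mul_div_mul_left _ _ h,
      mul_div_mul_left _ _ (inv_ne_zero (Nat.cast_ne_zero.2 Nat.card_pos.ne')),
      mul_div_mul_left _ _ (left_ne_zero_of_mul hk0)]
  · intro h h0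
    have hchar := CfsgLib.Char.isCharacter_indFun N (CfsgLib.Char.IsIrr.isCharacter θ.2)
    have hval : (fun n : N => indFun N (θ : N → ℂ) (n : G))
        = (indFun N (θ : N → ℂ) 1 / (χ : G → ℂ) 1) • fun n : N => (χ : G → ℂ) n := by
      funext n
      rw [Pi.smul_apply, smul_eq_mul]
      have := h n
      field_simp at this ⊢
      linear_combination -this
    have h1 : classInner (fun n : N => indFun N (θ : N → ℂ) (n : G)) (θ : N → ℂ) = 0 := by
      rw [hval, CfsgLib.Char.classInner_smul_left, h0, mul_zero]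
    rw [← CfsgLib.Char.classInner_conj_symm, map_eq_zero,
      ← CfsgLib.Char.frobenius_reciprocity N _ (CfsgLib.Char.isClassFunction_indFun N _)] at h1
    exact hi1 (congrFun (CfsgLib.Char.IsChar.eq_zero_of_classInner_self hchar h1) 1)

end Cfsg.Agent.S0963
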