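import Cfsg.Statements.S0886
import Cfsg.Agent.Lib.Char.CliffordRestrict
import Cfsg.Agent.Lib.Char.Equiv
import Mathlib.LinearAlgebra.Eigenspace.Triangularizable

set_option autoImplicit false
open Cfsg
open CfsgLib.Char

namespace Cfsg.Agent.S0886

/-- Let N be a normal subgroup of the finite group G with G / N cyclic, and ϑ an irreducible character of N invariant under conjugation by G. Then ϑ is the restriction of some irreducible character of G. -/
theorem result {G : Type*} [Group G] [Finite G] (N : Subgroup G) [hN : N.Normal] (hcyc : IsCyclic (G ⧸ N)) (ϑ : N → ℂ) (hϑ : Cfsg.IsIrrCharacter N ϑ) (hinv : ∀ (g : G) (n : N), ϑ ⟨g * n * g⁻¹, hN.conj_mem (n : G) n.2 g⟩ = ϑ n) : ∃ χ : G → ℂ, Cfsg.IsIrrCharacter G χ ∧ ∀ n : N, χ n = ϑ n := by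
  classical
  have := Fintype.ofFinite G
  have := Fintype.ofFinite N
  have := Fintype.ofFinite (Cfsg.IrrCharacter G)
  obtain ⟨t, ht⟩ := hcyc.exists_generator
  obtain ⟨g, rfl⟩ := QuotientGroup.mk_surjective t
  obtain ⟨m, σ, hσ, hσϑ⟩ := hϑ
  let cg : N ≃* N := MulAut.conjNormal g
  have hcg : ∀ n : N, (cg n : G) = g * n * g⁻¹ := fun n => MulAut.conjNormal_apply g n
  -- the conjugate representation is equivalent to the original one
  let σg : Representation ℂ N (Fin m → ℂ) := σ.comp cg.toMonoidHom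
  have hchar : σg.character = σ.character := by
    funext n
    show σ.character (cg n) = σ.character n
    rw [hσϑ, show cg n = ⟨g * n * g⁻¹, hN.conj_mem (n : G) n.2 g⟩ from Subtype.ext (hcg n)]
    exact hinv g n
  obtain ⟨T⟩ := nonempty_equiv_of_character_eq σg σ hchar
  -- an irreducible character above `ϑ`
  have hex : ∃ χ : Cfsg.IrrCharacter G, Cfsg.classInner (fun n : N => (χ : G → ℂ) n) ϑ ≠ 0 := by
    by_contra hno
    push Not at hno
    have hall : ∀ χ : Cfsg.IrrCharacter G,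
        Cfsg.classInner (Cfsg.indFun N ϑ) (χ : G → ℂ) = 0 := fun χ => by
      rw [frobenius_reciprocity N ϑ (IsIrr.isClassFunction χ.2), ← classInner_conj_symm, hno,
        map_zero]
    have h0 := congrFun (eq_zero_of_classInner_eq_zero (isClassFunction_indFun N ϑ) hall) 1
    rw [indFun_apply_one, Pi.zero_apply] at h0
    rcases mul_eq_zero.mp h0 with h | h
    · exact Subgroup.index_ne_zero_of_finite (Nat.cast_eq_zero.mp h)
    · exact IsIrr.apply_one_ne_zero ⟨m, σ, hσ, hσϑ⟩ h
  obtain ⟨⟨χ, hχ⟩, hne⟩ := hex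
  obtain ⟨k, ρ, hρ, hρχ⟩ := hχ
  let ρN : Representation ℂ N (Fin k → ℂ) := ρ.comp N.subtype
  have hρN : ρN.character = fun n : N => χ n := funext fun n => by rw [← hρχ]; rfl
  have hfin := classInner_eq_finrank σ ρN
  rw [hρN, hσϑ] at hfin
  rw [hfin, Nat.cast_ne_zero] at hne
  -- linear maps commuting with `N`
  let M : Submodule ℂ ((Fin m → ℂ) →ₗ[ℂ] (Fin k → ℂ)) :=
    { carrier := {f | ∀ n : N, f ∘ₗ σ n = ρN n ∘ₗ f}
      add_mem' := fun {a b} ha hb n => by rw [LinearMap.add_comp, LinearMap.comp_add, ha n, hb n]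
      zero_mem' := fun n => by rw [LinearMap.zero_comp, LinearMap.comp_zero]
      smul_mem' := fun c {a} ha n => by rw [LinearMap.smul_comp, LinearMap.comp_smul, ha n] }
  have hMne : Nontrivial M := by
    have : Nontrivial (σ.IntertwiningMap ρN) :=
      Module.nontrivial_of_finrank_pos (R := ℂ) (Nat.pos_of_ne_zero hne)
    obtain ⟨f, hf⟩ := exists_ne (0 : σ.IntertwiningMap ρN)
    refine ⟨⟨⟨f.toLinearMap, f.isIntertwining'⟩, 0, fun e => hf ?_⟩⟩
    exact Representation.IntertwiningMap.ext (congrArg Subtype.val e)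
  let Ts : (Fin m → ℂ) →ₗ[ℂ] (Fin m → ℂ) := T.toLinearEquiv.symm.toLinearMap
  have hT : ∀ (n : N) (v : Fin m → ℂ), T.toLinearEquiv (σ (cg n) v) = σ n (T.toLinearEquiv v) :=
    fun n v => LinearMap.congr_fun (T.toIntertwiningMap.isIntertwining' n) v
  let S : Module.End ℂ M :=
    { toFun := fun f => ⟨ρ g ∘ₗ f.1 ∘ₗ T.toLinearEquiv.toLinearMap, fun n => by
        refine LinearMap.ext fun v => ?_
        have hf := LinearMap.congr_fun (f.2 (cg.symm n)) (T.toLinearEquiv v)
        simp only [LinearMap.coe_comp, Function.comp_apply, LinearEquiv.coe_coe] at hf ⊢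
        have hTv := hT (cg.symm n) v
        rw [MulEquiv.apply_symm_apply] at hTv
        refine (congrArg (fun w => ρ g (f.1 w)) hTv).trans ((congrArg (ρ g) hf).trans ?_)
        show ρ g (ρ (cg.symm n : G) _) = ρ (n : G) (ρ g _)
        rw [← Module.End.mul_apply, ← map_mul, ← Module.End.mul_apply, ← map_mul]
        congr 2
        have := hcg (cg.symm n)
        rw [MulEquiv.apply_symm_apply] at this
        rw [this, inv_mul_cancel_right]⟩
      map_add' := fun a b => Subtype.ext (by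
        simp [LinearMap.add_comp, LinearMap.comp_add])
      map_smul' := fun c a => Subtype.ext (by
        simp [LinearMap.smul_comp, LinearMap.comp_smul]) }
  obtain ⟨μ, hμ⟩ := Module.End.exists_eigenvalue (K := ℂ) (V := M) S
  obtain ⟨⟨f, hf⟩, hfμ, hf0⟩ := hμ.exists_hasEigenvector
  have hSf : ρ g ∘ₗ f ∘ₗ T.toLinearEquiv.toLinearMap = μ • f :=
    congrArg Subtype.val (Module.End.mem_eigenspace_iff.mp hfμ)
  have hf1 : f ≠ 0 := fun e => hf0 (Subtype.ext e)
  -- the range of `f` is invariant under `G`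
  have hgr : ∀ v ∈ LinearMap.range f, ρ g v ∈ LinearMap.range f := by
    rintro _ ⟨v, rfl⟩
    refine ⟨μ • T.toLinearEquiv.symm v, ?_⟩
    have := LinearMap.congr_fun hSf (T.toLinearEquiv.symm v)
    rw [map_smul]
    refine Eq.trans ?_ (congrArg (fun w => ρ g (f w)) (T.toLinearEquiv.apply_symm_apply v))
    exact this.symm
  have hnr : ∀ n : N, ∀ v ∈ LinearMap.range f, ρ n v ∈ LinearMap.range f := by
    rintro n _ ⟨v, rfl⟩
    exact ⟨σ n v, LinearMap.congr_fun (hf n) v⟩
  have hgpow : ∀ j : ℕ, ∀ v ∈ LinearMap.range f, ρ (g ^ j) v ∈ LinearMap.range f := by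
    intro j
    induction j with
    | zero => intro v hv; rw [pow_zero, map_one]; exact hv
    | succ j ih => intro v hv; rw [pow_succ', map_mul]; exact hgr _ (ih v hv)
  have hGr : ∀ x : G, ∀ v ∈ LinearMap.range f, ρ x v ∈ LinearMap.range f := by
    intro x v hv
    obtain ⟨j, hj⟩ : ∃ j : ℕ, (g : G ⧸ N) ^ j = (x : G ⧸ N) :=
      Submonoid.mem_powers_iff _ _ |>.mp (mem_powers_iff_mem_zpowers.mpr (ht _))
    obtain ⟨n, hn, rfl⟩ : ∃ n ∈ N, g ^ j * n = x :=
      ⟨(g ^ j)⁻¹ * x, QuotientGroup.eq.mp (by rw [← hj]; rfl), by group⟩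
    rw [map_mul]
    exact hgpow j _ (hnr ⟨n, hn⟩ v hv)
  have htop : LinearMap.range f = ⊤ := by
    have : IsSimpleOrder (Subrepresentation ρ) := hρ
    rcases eq_bot_or_eq_top (⟨LinearMap.range f, hGr⟩ : Subrepresentation ρ) with h | h
    · exact absurd (LinearMap.range_eq_bot.mp (congrArg Subrepresentation.toSubmodule h)) hf1
    · exact congrArg Subrepresentation.toSubmodule h
  have hinj : LinearMap.ker f = ⊥ := by
    have : IsSimpleOrder (Subrepresentation σ) := hσ
    rcases eq_bot_or_eq_top (⟨LinearMap.ker f, fun n v hv => by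
        rw [LinearMap.mem_ker] at hv ⊢
        exact (LinearMap.congr_fun (hf n) v).trans (by simp [hv])⟩ : Subrepresentation σ) with h | h
    · exact congrArg Subrepresentation.toSubmodule h
    · exact absurd (LinearMap.ker_eq_top.mp (congrArg Subrepresentation.toSubmodule h)) hf1
  let F := LinearEquiv.ofBijective f ⟨LinearMap.ker_eq_bot.mp hinj, LinearMap.range_eq_top.mp htop⟩
  refine ⟨χ, ⟨k, ρ, hρ, hρχ⟩, fun n => ?_⟩
  rw [← hσϑ, ← hρχ]
  show LinearMap.trace ℂ _ (ρ (n : G)) = LinearMap.trace ℂ _ (σ n)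
  rw [show ρ (n : G) = F.conj (σ n) from LinearMap.ext fun v => ?_, LinearMap.trace_conj']
  obtain ⟨w, rfl⟩ := F.surjective v
  rw [LinearEquiv.conj_apply_apply, LinearEquiv.symm_apply_apply]
  exact (LinearMap.congr_fun (hf n) w).symm

end Cfsg.Agent.S0886
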