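import Cfsg.Statements.S3279
import Cfsg.Agent.Lib.ZStar.Main
import Cfsg.Agent.Lib.Signalizer.Involutions

set_option autoImplicit false
open Cfsg

namespace Cfsg.Agent.S3279

/-- Let G be a finite simple group and x an involution of G whose centralizer contains at most three involutions. Then C_G(x) contains a Sylow 2-subgroup of G, and all involutions of G are conjugate. -/
theorem result {G : Type*} [Group G] [Finite G] [IsSimpleGroup G] (x : G) (hx : orderOf x = 2)
    (h3 : Nat.card {u : ↥(Subgroup.centralizer ({x} : Set G)) // orderOf u = 2} ≤ 3) :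
    (∃ S : Sylow 2 G, (S : Subgroup G) ≤ Subgroup.centralizer ({x} : Set G)) ∧
      ∀ u v : G, orderOf u = 2 → orderOf v = 2 → IsConj u v := by
  classical
  have : Fact (Nat.Prime 2) := ⟨Nat.prime_two⟩
  open CfsgLib.Signalizer in
  by_cases hG : IsMulCommutative G
  · have hcomm : ∀ a b : G, a * b = b * a := fun a b => hG.is_comm.comm a b
    have hp := @IsSimpleGroup.prime_card G
      { (inferInstance : Group G) with mul_comm := hcomm } _
    have h2 : Nat.card G = 2 :=
      ((Nat.prime_dvd_prime_iff_eq Nat.prime_two hp).1 (hx ▸ orderOf_dvd_natCard x)).symm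
    refine ⟨⟨default, fun s _ => Subgroup.mem_centralizer_singleton_iff.2 (hcomm s x)⟩,
      fun u v hu hv => ?_⟩
    obtain ⟨y, hy⟩ : ∃ y : G, ∀ g : G, g ≠ 1 → g = y := by
      obtain ⟨y, -, hy⟩ := (Nat.card_eq_two_iff' (1 : G)).1 h2
      exact ⟨y, fun g hg => hy g hg⟩
    rw [hy u (involution_ne_one hu), hy v (involution_ne_one hv)]
  have hcen : Subgroup.center G = ⊥ := by
    refine (Subgroup.Normal.eq_bot_or_eq_top inferInstance).resolve_right fun e => hG ⟨⟨fun a b => ?_⟩⟩
    exact (Subgroup.mem_center_iff.1 (e ▸ Subgroup.mem_top b : b ∈ Subgroup.center G) a)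
  -- a conjugate of `x` commuting with `x`
  obtain ⟨a, hax, haconj, hxa⟩ : ∃ a : G, a ≠ x ∧ IsConj x a ∧ Commute x a := by
    by_contra hcon
    push Not at hcon
    have hiso : Cfsg.IsIsolatedInvolution x := ⟨hx, fun g hg => by
      by_contra hne
      exact hcon _ hne (isConj_iff.2 ⟨g, rfl⟩) hg⟩
    have hO : Cfsg.oddCore G = ⊥ := by
      refine (Subgroup.Normal.eq_bot_or_eq_top (CfsgLib.Core.normal_pPrimeCore 2 G)).resolve_right
        fun h => ?_
      have h1 := CfsgLib.ZStar.odd_card_oddCore G
      rw [show Cfsg.oddCore G = ⊤ from h, Subgroup.card_top] at h1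
      exact Nat.not_even_iff_odd.2 h1 (even_iff_two_dvd.2 (hx ▸ orderOf_dvd_natCard x))
    have : x ∈ Subgroup.center G := Subgroup.mem_center_iff.2 fun g => by
      have h := CfsgLib.ZStar.mem_oddCore_of_isolated hiso g
      rw [hO, Subgroup.mem_bot, mul_inv_eq_one, mul_inv_eq_iff_eq_mul] at h
      exact h.symm
    rw [hcen, Subgroup.mem_bot] at this
    exact involution_ne_one hx this
  obtain ⟨g₀, hg₀⟩ := isConj_iff.1 haconj
  have ha : orderOf a = 2 := by rw [← hg₀, orderOf_conj, hx]
  have hxx := involution_sq hx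
  have haa := involution_sq ha
  set b := x * a with hb
  have hbx : Commute x b := (Commute.refl x).mul_right hxa
  have hba : Commute a b := hxa.symm.mul_right (Commute.refl a)
  have hb1 : b ≠ 1 := fun h => hax (by
    rw [← eq_inv_of_mul_eq_one_right h |>.trans (involution_inv hx)])
  have hbne : b ≠ x ∧ b ≠ a := by
    refine ⟨fun h => involution_ne_one ha ?_, fun h => involution_ne_one hx ?_⟩
    · exact mul_eq_left.1 h
    · exact mul_eq_right.1 h
  have hb2 : orderOf b = 2 := orderOf_eq_prime (by
    rw [pow_two, hb, show x * a * (x * a) = x * (a * x) * a by group, ← hxa.eq,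
      show x * (x * a) * a = (x * x) * (a * a) by group, hxx, haa, one_mul]) hb1
  -- the involutions of `C(x)` and of `C(a)`
  have hCx : ∀ u : G, orderOf u = 2 → Commute x u → u = x ∨ u = a ∨ u = b := by
    intro u hu hxu
    by_contra hne
    push Not at hne
    let f : Fin 4 → {u : ↥(Subgroup.centralizer ({x} : Set G)) // orderOf u = 2} := fun i =>
      match i with
      | 0 => ⟨⟨x, Subgroup.mem_centralizer_singleton_iff.2 rfl⟩, by rw [← Subgroup.orderOf_coe]; exact hx⟩
      | 1 => ⟨⟨a, Subgroup.mem_centralizer_singleton_iff.2 hxa.symm⟩, by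
          rw [← Subgroup.orderOf_coe]; exact ha⟩
      | 2 => ⟨⟨b, Subgroup.mem_centralizer_singleton_iff.2 hbx.symm⟩, by
          rw [← Subgroup.orderOf_coe]; exact hb2⟩
      | 3 => ⟨⟨u, Subgroup.mem_centralizer_singleton_iff.2 hxu.symm⟩, by
          rw [← Subgroup.orderOf_coe]; exact hu⟩
    have hf : Function.Injective f := by
      intro i j hij
      have h' : ((f i).1 : G) = ((f j).1 : G) := by rw [hij]
      fin_cases i <;> fin_cases j <;> simp [f] at h' ⊢ <;>
        first
          | exact hax h'
          | exact hax h'.symm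
          | exact hbne.1 h'
          | exact hbne.1 h'.symm
          | exact hbne.2 h'
          | exact hbne.2 h'.symm
          | exact hne.1 h'
          | exact hne.1 h'.symm
          | exact hne.2.1 h'
          | exact hne.2.1 h'.symm
          | exact hne.2.2 h'
          | exact hne.2.2 h'.symm
    have := Nat.card_le_card_of_injective f hf
    rw [Nat.card_fin] at this
    omega
  have hCa : ∀ u : G, orderOf u = 2 → Commute a u → u = x ∨ u = a ∨ u = b := by
    intro u hu hau
    have key : ∀ v : G, Commute a v → Commute x (g₀⁻¹ * v * g₀) := fun v hv => by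
      show x * (g₀⁻¹ * v * g₀) = g₀⁻¹ * v * g₀ * x
      have hv' : a * v = v * a := hv
      rw [← hg₀] at hv'
      calc x * (g₀⁻¹ * v * g₀) = g₀⁻¹ * (g₀ * x * g₀⁻¹ * v) * g₀ := by group
        _ = g₀⁻¹ * (v * (g₀ * x * g₀⁻¹)) * g₀ := by rw [hv']
        _ = _ := by group
    have hord : ∀ v : G, orderOf v = 2 → orderOf (g₀⁻¹ * v * g₀) = 2 := fun v hv => by
      have := orderOf_conj g₀⁻¹ v
      rw [inv_inv] at this
      rw [this, hv]
    have inj : ∀ v w : G, g₀⁻¹ * v * g₀ = g₀⁻¹ * w * g₀ → v = w := fun v w h =>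
      mul_left_cancel (mul_right_cancel h)
    -- `u, x, a, b` cannot be four distinct involutions of `C(x)` after conjugation
    have hu' := hCx _ (hord u hu) (key u hau)
    have hx' := hCx _ (hord x hx) (key x hxa.symm)
    have ha' := hCx _ (hord a ha) (key a (Commute.refl a))
    have hb' := hCx _ (hord b hb2) (key b hba)
    have nxa := fun h => hax (inj x a h).symm
    have nxb := fun h => hbne.1 (inj x b h).symm
    have nab := fun h => hbne.2 (inj a b h).symm
    by_contra hne
    push Not at hne
    have n1 := fun h => hne.1 (inj u x h)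
    have n2 := fun h => hne.2.1 (inj u a h)
    have n3 := fun h => hne.2.2 (inj u b h)
    rcases hu' with h | h | h <;> rcases hx' with h' | h' | h' <;> rcases ha' with h'' | h'' | h'' <;>
      rcases hb' with h''' | h''' | h''' <;>
      first
        | exact n1 (h.trans h'.symm)
        | exact n2 (h.trans h''.symm)
        | exact n3 (h.trans h'''.symm)
        | exact nxa (h'.trans h''.symm)
        | exact nxb (h'.trans h'''.symm)
        | exact nab (h''.trans h'''.symm)
  -- involutions not conjugate to `x` commute with `b`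
  have hev : ∀ u : G, orderOf u = 2 → ¬ IsConj x u → Even (orderOf (x * u)) := by
    intro u hu hnc
    by_contra hodd
    rw [Nat.not_even_iff_odd] at hodd
    obtain ⟨m, hm⟩ := hodd
    obtain ⟨d, -, hd⟩ := exists_conj_pair_zpow hx hu (m : ℤ)
    refine hnc (isConj_iff.2 ⟨d, hd.trans ?_⟩)
    have hp : (x * u) ^ ((2 * m + 1 : ℕ) : ℤ) = 1 := by rw [zpow_natCast, ← hm, pow_orderOf_eq_one]
    have hpm : (x * u) ^ (2 * (m : ℤ)) = (x * u)⁻¹ := by
      refine eq_inv_of_mul_eq_one_left ?_
      rw [← zpow_add_one]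
      simpa using hp
    rw [hpm, mul_inv_rev, involution_inv hu, involution_inv hx, mul_assoc, hxx, mul_one]
  have hnot : ∀ u : G, orderOf u = 2 → ¬ IsConj x u → Commute b u := by
    intro u hu hnc
    obtain ⟨ht2, htx, htu⟩ := central_involution hx hu (hev u hu hnc)
    rcases hCx _ ht2 htx.symm with h | h | h
    · rw [h] at htu
      rcases hCx u hu htu with rfl | rfl | rfl
      · exact hbx.symm
      · exact hba.symm
      · exact Commute.refl _
    · rw [h] at htu
      rcases hCa u hu htu with rfl | rfl | rfl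
      · exact hbx.symm
      · exact hba.symm
      · exact Commute.refl _
    · rwa [h] at htu
  have hbconj : IsConj x b := by
    by_contra hnb
    have hall : ∀ g : G, Commute b (g * b * g⁻¹) := fun g =>
      hnot _ (by rw [orderOf_conj, hb2]) fun h => hnb (h.trans (isConj_iff.2 ⟨g⁻¹, by group⟩))
    have hcomm : ∀ y ∈ Group.conjugatesOfSet ({b} : Set G), ∀ z ∈ Group.conjugatesOfSet ({b} : Set G),
        Commute y z := by
      intro y hy z hz
      rw [Group.mem_conjugatesOfSet_iff] at hy hz
      obtain ⟨_, rfl, hy⟩ := hy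
      obtain ⟨_, rfl, hz⟩ := hz
      obtain ⟨g, rfl⟩ := isConj_iff.1 hy
      obtain ⟨g', rfl⟩ := isConj_iff.1 hz
      have h := hall (g⁻¹ * g')
      show g * b * g⁻¹ * (g' * b * g'⁻¹) = g' * b * g'⁻¹ * (g * b * g⁻¹)
      calc g * b * g⁻¹ * (g' * b * g'⁻¹)
          = g * (b * (g⁻¹ * g' * b * (g⁻¹ * g')⁻¹)) * g⁻¹ := by group
        _ = g * ((g⁻¹ * g' * b * (g⁻¹ * g')⁻¹) * b) * g⁻¹ := by rw [h.eq]
        _ = _ := by group
    have htop : Subgroup.normalClosure ({b} : Set G) = ⊤ :=
      (Subgroup.Normal.eq_bot_or_eq_top inferInstance).resolve_left fun h => hb1 (by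
        have := Subgroup.subset_normalClosure (s := ({b} : Set G)) rfl
        rwa [h, SetLike.mem_coe, Subgroup.mem_bot] at this)
    refine hG ⟨⟨fun y z => ?_⟩⟩
    have hle : Subgroup.normalClosure ({b} : Set G) ≤ Subgroup.centralizer (Subgroup.normalClosure ({b} : Set G) : Set G) := by
      rw [Subgroup.normalClosure, Subgroup.closure_le]
      intro y hy
      rw [SetLike.mem_coe, Subgroup.centralizer_closure, Subgroup.mem_centralizer_iff]
      exact fun z hz => (hcomm z hz y hy).eq
    exact (Subgroup.mem_centralizer_iff.1 (hle (htop ▸ Subgroup.mem_top y)) z (htop ▸ Subgroup.mem_top z)).symm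
  -- one class
  have hone : ∀ u : G, orderOf u = 2 → IsConj x u := by
    intro u hu
    by_contra hnc
    have hbu := hnot u hu hnc
    -- the same argument inside `C(b)`
    obtain ⟨g₁, hg₁⟩ := isConj_iff.1 hbconj
    have hxb' : ∀ v : G, orderOf v = 2 → Commute b v → v = x ∨ v = a ∨ v = b := by
      intro v hv hbv
      have key : ∀ v : G, Commute b v → Commute x (g₁⁻¹ * v * g₁) := fun v hv => by
        show x * (g₁⁻¹ * v * g₁) = g₁⁻¹ * v * g₁ * x
        have hv' : b * v = v * b := hv
        rw [← hg₁] at hv'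
        calc x * (g₁⁻¹ * v * g₁) = g₁⁻¹ * (g₁ * x * g₁⁻¹ * v) * g₁ := by group
          _ = g₁⁻¹ * (v * (g₁ * x * g₁⁻¹)) * g₁ := by rw [hv']
          _ = _ := by group
      have hord : ∀ v : G, orderOf v = 2 → orderOf (g₁⁻¹ * v * g₁) = 2 := fun v hv => by
        have := orderOf_conj g₁⁻¹ v
        rw [inv_inv] at this
        rw [this, hv]
      have inj : ∀ v w : G, g₁⁻¹ * v * g₁ = g₁⁻¹ * w * g₁ → v = w := fun v w h =>
        mul_left_cancel (mul_right_cancel h)
      have hu' := hCx _ (hord v hv) (key v hbv)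
      have hx' := hCx _ (hord x hx) (key x hbx.symm)
      have ha' := hCx _ (hord a ha) (key a hba.symm)
      have hb' := hCx _ (hord b hb2) (key b (Commute.refl b))
      have nxa := fun h => hax (inj x a h).symm
      have nxb := fun h => hbne.1 (inj x b h).symm
      have nab := fun h => hbne.2 (inj a b h).symm
      by_contra hne
      push Not at hne
      have n1 := fun h => hne.1 (inj v x h)
      have n2 := fun h => hne.2.1 (inj v a h)
      have n3 := fun h => hne.2.2 (inj v b h)
      rcases hu' with h | h | h <;> rcases hx' with h' | h' | h' <;> rcases ha' with h'' | h'' | h'' <;>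
        rcases hb' with h''' | h''' | h''' <;>
        first
          | exact n1 (h.trans h'.symm)
          | exact n2 (h.trans h''.symm)
          | exact n3 (h.trans h'''.symm)
          | exact nxa (h'.trans h''.symm)
          | exact nxb (h'.trans h'''.symm)
          | exact nab (h''.trans h'''.symm)
    rcases hxb' u hu hbu with rfl | rfl | rfl
    · exact hnc (IsConj.refl _)
    · exact hnc haconj
    · exact hnc hbconj
  refine ⟨?_, fun u v hu hv => (hone u hu).symm.trans (hone v hv)⟩
  obtain ⟨S⟩ : Nonempty (Sylow 2 G) := inferInstance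
  have hnt : Nontrivial (S : Subgroup G) := by
    rw [Subgroup.nontrivial_iff_ne_bot]
    intro h
    exact S.not_dvd_index (by rw [h, Subgroup.index_bot]; exact hx ▸ orderOf_dvd_natCard x)
  haveI := S.isPGroup'.center_nontrivial
  obtain ⟨z, hz⟩ := exists_prime_orderOf_dvd_card' (G := Subgroup.center (S : Subgroup G)) 2 (by
    obtain ⟨k, hk, hk'⟩ := (S.isPGroup'.to_subgroup (Subgroup.center (S : Subgroup G))).nontrivial_iff_card.1
      inferInstance
    rw [hk']; exact dvd_pow_self 2 (by omega))
  have hzo : orderOf ((z : (S : Subgroup G)) : G) = 2 := by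
    rw [Subgroup.orderOf_coe, Subgroup.orderOf_coe, hz]
  obtain ⟨c, hc⟩ := isConj_iff.1 (hone _ hzo)
  refine ⟨c⁻¹ • S, fun s hs => ?_⟩
  have hs' : c * s * c⁻¹ ∈ (S : Subgroup G) := by
    rw [Sylow.coe_subgroup_smul, Subgroup.mem_pointwise_smul_iff_inv_smul_mem] at hs
    simpa using hs
  rw [Subgroup.mem_centralizer_singleton_iff]
  have h1 : c * s * c⁻¹ * ((z : (S : Subgroup G)) : G) = ((z : (S : Subgroup G)) : G) * (c * s * c⁻¹) :=
    congrArg Subtype.val (Subgroup.mem_center_iff.1 z.2 ⟨_, hs'⟩)
  rw [← hc] at h1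
  calc s * x = c⁻¹ * (c * s * c⁻¹ * (c * x * c⁻¹)) * c := by group
    _ = c⁻¹ * (c * x * c⁻¹ * (c * s * c⁻¹)) * c := by rw [h1]
    _ = _ := by group

end Cfsg.Agent.S3279
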