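import Cfsg.Statements.S3278
import Cfsg.Agent.S3279
import Cfsg.Agent.Lib.Blocks.KleinOrder
import Cfsg.Agent.Lib.Recog.SimpleSixty
import Cfsg.Agent.Lib.TwoGroups.KleinSylow
import Cfsg.Agent.Lib.CharDegree.IndicatorVal
import Cfsg.Agent.Lib.ZStar.Main

set_option autoImplicit false
open Cfsg
open scoped commutatorElement

namespace Cfsg.Agent.S3278

/-- Let G be a finite simple group with an involution x such that a Sylow 2-subgroup of C_G(x) is a Klein four-group which is normal in C_G(x). Then G is isomorphic to the alternating group of degree 5 (that is, to PSL(2, 5)). -/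
theorem result {G : Type*} [Group G] [Finite G] [IsSimpleGroup G] (x : G) (hx : orderOf x = 2)
    (S₀ : Subgroup G) (hle : S₀ ≤ Subgroup.centralizer ({x} : Set G)) (hK : IsKleinFour ↥S₀)
    (hodd : ¬ 2 ∣ S₀.relIndex (Subgroup.centralizer ({x} : Set G))) (hn : (S₀.subgroupOf (Subgroup.centralizer ({x} : Set G))).Normal) :
    Nonempty (G ≃* ↥(alternatingGroup (Fin 5))) := by
  classical
  haveI := Fintype.ofFinite G
  have : Fact (Nat.Prime 2) := ⟨Nat.prime_two⟩
  have hS2 : IsPGroup 2 S₀ := IsPGroup.of_card (n := 2) (by rw [hK.card_four]; norm_num)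
  have hSle : ∀ u : ↥(Subgroup.centralizer ({x} : Set G)), orderOf u = 2 → (u : G) ∈ S₀ := by
    intro u hu
    obtain ⟨R, hR⟩ := (IsPGroup.of_card (n := 1) (by rw [Nat.card_zpowers, hu, pow_one]) :
      IsPGroup 2 (Subgroup.zpowers u)).exists_le_sylow
    let T : Sylow 2 ↥(Subgroup.centralizer ({x} : Set G)) :=
      (hS2.comap_of_injective _ (Subgroup.subtype_injective _) :
        IsPGroup 2 (S₀.subgroupOf (Subgroup.centralizer ({x} : Set G)))).toSylow hodd
    haveI : (T : Subgroup ↥(Subgroup.centralizer ({x} : Set G))).Normal := hn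
    obtain ⟨c, hc⟩ := MulAction.exists_smul_eq (↥(Subgroup.centralizer ({x} : Set G))) T R
    have h1 : u ∈ (R : Subgroup ↥(Subgroup.centralizer ({x} : Set G))) := hR (Subgroup.mem_zpowers u)
    rw [← hc, Sylow.smul_eq_of_normal] at h1
    exact h1
  -- one class of involutions and `S₀` is a Sylow subgroup
  have h3 : Nat.card {u : ↥(Subgroup.centralizer ({x} : Set G)) // orderOf u = 2} ≤ 3 := by
    have h4 : Nat.card {v : ↥S₀ // v ≠ 1} = 3 := by
      have := Fintype.ofFinite S₀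
      rw [Nat.card_eq_fintype_card, Fintype.card_subtype_compl, Fintype.card_subtype_eq,
        ← Nat.card_eq_fintype_card, hK.card_four]
    rw [← h4]
    refine Nat.card_le_card_of_injective (fun u => ⟨⟨(u.1 : G), hSle u.1 u.2⟩, fun h => ?_⟩) ?_
    · have h' : (u.1 : G) = 1 := congrArg Subtype.val h
      have h2 := u.2
      rw [← Subgroup.orderOf_coe, h', orderOf_one] at h2
      omega
    · intro u v huv
      exact Subtype.ext (Subtype.ext (congrArg (fun w : {v : ↥S₀ // v ≠ 1} => ((w.1 : G))) huv))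
  obtain ⟨⟨R, hR⟩, hone⟩ := Cfsg.Agent.S3279.result x hx h3
  have hRidx : ¬ 2 ∣ S₀.index := by
    intro h
    rw [← Subgroup.relIndex_mul_index hle] at h
    rcases (Nat.Prime.dvd_mul Nat.prime_two).1 h with h | h
    · exact hodd h
    · exact R.not_dvd_index (h.trans (Subgroup.index_dvd_of_le hR))
  let P : Sylow 2 G := hS2.toSylow hRidx
  have hP : IsKleinFour (P : Subgroup G) := hK
  have hxP : x ∈ (P : Subgroup G) := hSle ⟨x, Subgroup.mem_centralizer_singleton_iff.2 rfl⟩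
    (by rw [← Subgroup.orderOf_coe]; exact hx)
  have hx1 : x ≠ 1 := fun e => by rw [e, orderOf_one] at hx; omega
  have hcomm : ∀ a ∈ (P : Subgroup G), ∀ b ∈ (P : Subgroup G), a * b = b * a := fun a ha b hb =>
    CfsgLib.Blocks.commute_of_mem_klein P hP ha hb
  have hCN : Subgroup.centralizer ({x} : Set G) ≤ Subgroup.normalizer ((P : Subgroup G) : Set G) := by
    have h := Subgroup.normal_subgroupOf_iff_le_normalizer hle |>.1 hn
    exact h
  have hCP : Subgroup.centralizer ((P : Subgroup G) : Set G) = Subgroup.centralizer ({x} : Set G) := by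
    refine le_antisymm (Subgroup.centralizer_le (Set.singleton_subset_iff.2 hxP)) fun g hg => ?_
    exact CfsgLib.TwoGroups.mem_centralizer_of_klein_fix P hP hxP hx1 (hCN hg)
      (by rw [Subgroup.mem_centralizer_singleton_iff.1 hg, mul_inv_cancel_right])
  -- the normaliser of the four-group
  set M := Subgroup.normalizer ((P : Subgroup G) : Set G) with hM
  have hM3 : Nat.card M = 3 * Nat.card ↥(Subgroup.centralizer ({x} : Set G)) := by
    have hinv : ∀ a ∈ (P : Subgroup G), a ≠ 1 → ∃ g ∈ M, g * x * g⁻¹ = a := by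
      intro a ha ha1
      obtain ⟨g, hg⟩ := isConj_iff.1
        (hone x a hx (CfsgLib.Blocks.orderOf_eq_two_of_mem_klein P hP ha ha1))
      have hc : ∀ b ∈ (P : Subgroup G), b ∈ Subgroup.centralizer ((P : Subgroup G) : Set G) :=
        fun b hb => Subgroup.mem_centralizer_iff.2 fun c hc => hcomm c hc b hb
      obtain ⟨n, hn', he⟩ := Sylow.conj_eq_normalizer_conj_of_mem_centralizer P x g⁻¹ (hc _ hxP)
        (hc _ (by rw [inv_inv, hg]; exact ha))
      refine ⟨n⁻¹, inv_mem hn', ?_⟩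
      rw [inv_inv]
      rw [inv_inv, hg] at he
      exact he.symm
    let f : M → {a : ↥(P : Subgroup G) // a ≠ 1} := fun g =>
      ⟨⟨(g : G) * x * (g : G)⁻¹, (Subgroup.mem_normalizer_iff.1 g.2 x).1 hxP⟩, fun h => hx1 (by
        have h' : (g : G) * x * (g : G)⁻¹ = 1 := congrArg Subtype.val h
        rwa [mul_inv_eq_one, mul_eq_left] at h')⟩
    let _ : MulAction M {a : ↥(P : Subgroup G) // a ≠ 1} :=
      { smul := fun g a => ⟨⟨(g : G) * a.1 * (g : G)⁻¹, (Subgroup.mem_normalizer_iff.1 g.2 _).1 a.1.2⟩,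
          fun h => a.2 (Subtype.ext (by
            have h' : (g : G) * (a.1 : G) * (g : G)⁻¹ = 1 := congrArg Subtype.val h
            rwa [mul_inv_eq_one, mul_eq_left] at h'))⟩
        one_smul := fun a => Subtype.ext (Subtype.ext (by show (1 : G) * a.1 * 1⁻¹ = a.1; group))
        mul_smul := fun g h a => Subtype.ext (Subtype.ext (by
          show ((g : G) * h) * a.1 * ((g : G) * h)⁻¹ = (g : G) * ((h : G) * a.1 * (h : G)⁻¹) * (g : G)⁻¹
          group)) }
    let x' : {a : ↥(P : Subgroup G) // a ≠ 1} := ⟨⟨x, hxP⟩, fun h => hx1 (congrArg Subtype.val h)⟩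
    have horb : MulAction.orbit M x' = Set.univ := Set.eq_univ_of_forall fun a => by
      obtain ⟨g, hg, he⟩ := hinv a.1 a.1.2 (fun h => a.2 (Subtype.ext h))
      exact ⟨⟨g, hg⟩, Subtype.ext (Subtype.ext he)⟩
    have h4 : Nat.card {a : ↥(P : Subgroup G) // a ≠ 1} = 3 := by
      have := Fintype.ofFinite (P : Subgroup G)
      rw [Nat.card_eq_fintype_card, Fintype.card_subtype_compl, Fintype.card_subtype_eq,
        ← Nat.card_eq_fintype_card, hP.card_four]
    have hstab : MulAction.stabilizer M x' = (Subgroup.centralizer ({x} : Set G)).subgroupOf M := by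
      ext g
      rw [MulAction.mem_stabilizer_iff, Subgroup.mem_subgroupOf, Subgroup.mem_centralizer_singleton_iff]
      constructor
      · intro h
        have h' : (g : G) * x * (g : G)⁻¹ = x :=
          congrArg (fun a : {a : ↥(P : Subgroup G) // a ≠ 1} => ((a.1 : G))) h
        exact mul_inv_eq_iff_eq_mul.1 h'
      · intro h
        exact Subtype.ext (Subtype.ext (mul_inv_eq_iff_eq_mul.2 h))
    rw [← (MulAction.stabilizer M x').card_mul_index, MulAction.index_stabilizer, horb,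
      Set.ncard_univ, h4, hstab, Nat.card_congr (Subgroup.subgroupOfEquivOfLe hCN).toEquiv, mul_comm]
  -- the order formula
  haveI := Fintype.ofFinite (Cfsg.IrrCharacter G)
  obtain ⟨J, hJ⟩ := CfsgLib.ZStar.exists_isPModular Nat.prime_two
  haveI : J.IsPrime := hJ.2.1.isPrime
  have hformula := CfsgLib.Blocks.order_formula (G := G) P hP hone hJ (J := x) hxP hx
  obtain ⟨hk4, hsign⟩ := CfsgLib.Blocks.principal_signs P hP hone hJ (z := x) hxP hx
  set B := (Set.toFinite (Cfsg.principalBlock J G)).toFinset with hB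
  have hmemB : ∀ χ, χ ∈ B ↔ χ ∈ Cfsg.principalBlock J G := fun χ => Set.Finite.mem_toFinset _
  choose! ε hε1 hε2 hε3 using hsign
  set t := CfsgLib.Char.trivChar G with ht
  have htriv : t ∈ B := (hmemB _).2 CfsgLib.Blocks.trivChar_mem_principalBlock
  have hB4 : B.card = 4 := by
    rw [← hk4, Nat.card_coe_set_eq, Set.ncard_eq_toFinset_card _ (Set.toFinite _)]
  obtain ⟨χ₁, χ₂, χ₃, h12, h13, h23, hrest⟩ := Finset.card_eq_three.1
    (show (B.erase t).card = 3 by rw [Finset.card_erase_of_mem htriv, hB4])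
  have hBeq : B = {t, χ₁, χ₂, χ₃} := by rw [← hrest, Finset.insert_erase htriv]
  have hmem' : ∀ χ ∈ ({χ₁, χ₂, χ₃} : Finset (Cfsg.IrrCharacter G)), χ ∈ B ∧ χ ≠ t := fun χ hχ => by
    rw [← hrest] at hχ
    exact ⟨Finset.mem_of_mem_erase hχ, Finset.ne_of_mem_erase hχ⟩
  obtain ⟨m₁, n₁⟩ := hmem' χ₁ (by simp)
  obtain ⟨m₂, n₂⟩ := hmem' χ₂ (by simp)
  obtain ⟨m₃, n₃⟩ := hmem' χ₃ (by simp)
  have hsum : ∀ F : Cfsg.IrrCharacter G → ℂ,
      ∑ᶠ χ ∈ Cfsg.principalBlock J G, F χ = F t + F χ₁ + F χ₂ + F χ₃ := by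
    intro F
    rw [finsum_mem_eq_finite_toFinset_sum _ (Set.toFinite _), ← hB, hBeq,
      Finset.sum_insert (by simp [Ne.symm n₁, Ne.symm n₂, Ne.symm n₃]),
      Finset.sum_insert (by simp [h12, h13]), Finset.sum_pair h23]
    ring
  set d : Cfsg.IrrCharacter G → ℕ := fun χ => Cfsg.charDegree (χ : G → ℂ) with hd
  have hGna : ¬ IsMulCommutative G := by
    intro hc
    have h1 := @IsSimpleGroup.prime_card G
      { (inferInstance : Group G) with mul_comm := hc.is_comm.comm } _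
    have h2 : 4 ∣ Nat.card G := hP.card_four ▸ Subgroup.card_subgroup_dvd_card _
    rcases (Nat.dvd_prime h1).1 h2 with h | h
    · norm_num at h
    · rw [← h] at h1; norm_num at h1
  have htop : commutator G = ⊤ := by
    refine (Subgroup.Normal.eq_bot_or_eq_top inferInstance).resolve_left fun h => hGna ⟨⟨fun a b => ?_⟩⟩
    have hm : ⁅a, b⁆ ∈ commutator G :=
      Subgroup.commutator_mem_commutator (Subgroup.mem_top a) (Subgroup.mem_top b)
    rw [h, Subgroup.mem_bot] at hm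
    exact commutatorElement_eq_one_iff_commute.1 hm
  have hd3 : ∀ χ, χ ∈ B → χ ≠ t → 3 ≤ d χ := by
    intro χ hχ hne
    have hp : 0 < d χ := CfsgLib.Blocks.charDegree_pos χ
    have h4 := hε3 χ ((hmemB χ).1 hχ)
    have h1 : d χ ≠ 1 := fun h1 => by
      have h2 := (CfsgLib.CharDegree.charDegree_eq_one_iff_commutator χ).1 h1
      refine hne (Subtype.ext (funext fun g => ?_))
      rw [h2 g (htop ▸ Subgroup.mem_top g), CfsgLib.Blocks.apply_one_eq_charDegree, ht,
        CfsgLib.Char.trivChar_apply]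
      show ((d χ : ℕ) : ℂ) = 1
      rw [h1, Nat.cast_one]
    obtain ⟨e, he⟩ := h4
    have he' : (d χ : ℤ) - ε χ = 4 * e := he
    rcases hε1 χ ((hmemB χ).1 hχ) with h | h <;> rw [h] at he' <;> omega
  have horth : 1 + ε χ₁ * (d χ₁ : ℤ) + ε χ₂ * (d χ₂ : ℤ) + ε χ₃ * (d χ₃ : ℤ) = 0 := by
    have h := CfsgLib.Blocks.sum_block_regular_singular hJ
      (CfsgLib.Blocks.isPBlock_principalBlock (M := J) (G := G)) (x := (1 : G)) (y := x)
      (by simp) (by rw [hx])
    rw [hsum, ht, CfsgLib.Char.trivChar_apply, CfsgLib.Char.trivChar_apply,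
      CfsgLib.Blocks.apply_one_eq_charDegree, CfsgLib.Blocks.apply_one_eq_charDegree,
      CfsgLib.Blocks.apply_one_eq_charDegree, hε2 _ ((hmemB _).1 m₁), hε2 _ ((hmemB _).1 m₂),
      hε2 _ ((hmemB _).1 m₃)] at h
    have h' : ((1 + ε χ₁ * (d χ₁ : ℤ) + ε χ₂ * (d χ₂ : ℤ) + ε χ₃ * (d χ₃ : ℤ) : ℤ) : ℂ) =
        ((0 : ℤ) : ℂ) := by
      push_cast
      linear_combination h
    exact_mod_cast h'
  -- `3 n S = 8`
  set c := Nat.card ↥(Subgroup.centralizer ({x} : Set G)) with hc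
  have hcpos : 0 < c := Nat.card_pos
  set n := M.index with hndef
  have hGn : Nat.card G = 3 * c * n := by rw [← M.card_mul_index, hM3]
  have hmain : (8 : ℝ) = 3 * (n : ℝ) *
      (1 + (ε χ₁ : ℝ) / (d χ₁ : ℝ) + (ε χ₂ : ℝ) / (d χ₂ : ℝ) + (ε χ₃ : ℝ) / (d χ₃ : ℝ)) := by
    rw [hsum, hCP, hGn] at hformula
    have hone' : ∀ χ, χ ∈ B → (χ : G → ℂ) x ^ 3 / (χ : G → ℂ) 1 = (ε χ : ℂ) / (d χ : ℂ) := by
      intro χ hχ
      rw [hε2 χ ((hmemB χ).1 hχ), CfsgLib.Blocks.apply_one_eq_charDegree]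
      rcases hε1 χ ((hmemB χ).1 hχ) with e | e <;> rw [e] <;> norm_num [hd]
    rw [hone' _ m₁, hone' _ m₂, hone' _ m₃, ht, CfsgLib.Char.trivChar_apply,
      CfsgLib.Char.trivChar_apply, ← hc] at hformula
    have hc0 : (c : ℂ) ≠ 0 := Nat.cast_ne_zero.2 hcpos.ne'
    have h1 : (8 : ℂ) = 3 * (n : ℂ) *
        (1 + (ε χ₁ : ℂ) / (d χ₁ : ℂ) + (ε χ₂ : ℂ) / (d χ₂ : ℂ) + (ε χ₃ : ℂ) / (d χ₃ : ℂ)) := by
      refine mul_left_cancel₀ (pow_ne_zero 3 hc0) ?_
      push_cast at hformula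
      linear_combination hformula
    have h2 := congrArg Complex.re h1
    exact_mod_cast h1
  have hn5 : n ≤ 5 := by
    have a₁ : (3 : ℝ) ≤ d χ₁ := by exact_mod_cast hd3 _ m₁ n₁
    have a₂ : (3 : ℝ) ≤ d χ₂ := by exact_mod_cast hd3 _ m₂ n₂
    have a₃ : (3 : ℝ) ≤ d χ₃ := by exact_mod_cast hd3 _ m₃ n₃
    have horth' : 1 + (ε χ₁ : ℝ) * (d χ₁ : ℝ) + (ε χ₂ : ℝ) * (d χ₂ : ℝ) + (ε χ₃ : ℝ) * (d χ₃ : ℝ) = 0 := by
      exact_mod_cast horth
    have inv3 : ∀ a : ℝ, 3 ≤ a → 0 < 1 / a ∧ 1 / a ≤ 1 / 3 := fun a ha =>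
      ⟨by positivity, one_div_le_one_div_of_le (by norm_num) ha⟩
    obtain ⟨p₁, q₁⟩ := inv3 _ a₁
    obtain ⟨p₂, q₂⟩ := inv3 _ a₂
    obtain ⟨p₃, q₃⟩ := inv3 _ a₃
    have two : ∀ a b c : ℝ, 3 ≤ a → 3 ≤ b → c = a + b - 1 →
        1 / a + 1 / b - 1 / c ≤ 7 / 15 := by
      intro a b c ha hb hc
      subst hc
      have h0 : (0 : ℝ) < a + b - 1 := by linarith
      rw [div_add_div _ _ (by linarith) (by linarith), div_sub_div _ _ (by positivity) h0.ne',
        div_le_div_iff₀ (by positivity) (by norm_num)]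
      nlinarith [mul_nonneg (sub_nonneg.2 ha) (sub_nonneg.2 hb),
        mul_nonneg (mul_nonneg (sub_nonneg.2 ha) (sub_nonneg.2 hb)) (sub_nonneg.2 ha),
        mul_nonneg (mul_nonneg (sub_nonneg.2 ha) (sub_nonneg.2 hb)) (sub_nonneg.2 hb),
        mul_nonneg (sub_nonneg.2 ha) (sub_nonneg.2 ha), mul_nonneg (sub_nonneg.2 hb) (sub_nonneg.2 hb)]
    have hlow : (8 : ℝ) / 15 ≤
        1 + (ε χ₁ : ℝ) / (d χ₁ : ℝ) + (ε χ₂ : ℝ) / (d χ₂ : ℝ) + (ε χ₃ : ℝ) / (d χ₃ : ℝ) := by
      rcases hε1 _ ((hmemB _).1 m₁) with e₁ | e₁ <;> rcases hε1 _ ((hmemB _).1 m₂) with e₂ | e₂ <;>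
        rcases hε1 _ ((hmemB _).1 m₃) with e₃ | e₃ <;>
        rw [e₁, e₂, e₃] at horth' ⊢ <;> push_cast at horth' ⊢ <;> (try simp only [neg_div]) <;>
        first
          | linarith
          | linarith [two _ _ _ a₁ a₂ (show (d χ₃ : ℝ) = d χ₁ + d χ₂ - 1 by linarith)]
          | linarith [two _ _ _ a₁ a₃ (show (d χ₂ : ℝ) = d χ₁ + d χ₃ - 1 by linarith)]
          | linarith [two _ _ _ a₂ a₃ (show (d χ₁ : ℝ) = d χ₂ + d χ₃ - 1 by linarith)]
    have h1 : (n : ℝ) ≤ 5 := by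
      have hn0 : (0 : ℝ) ≤ n := Nat.cast_nonneg n
      nlinarith
    exact_mod_cast h1
  have hn1 : n ≠ 1 := by
    intro h
    rw [hndef, Subgroup.index_eq_one, hM, Subgroup.normalizer_eq_top_iff] at h
    rcases Subgroup.Normal.eq_bot_or_eq_top h with h' | h'
    · exact hx1 (Subgroup.mem_bot.1 (h' ▸ hxP))
    · exact hGna ⟨⟨fun a b => hcomm a (h' ▸ Subgroup.mem_top a) b (h' ▸ Subgroup.mem_top b)⟩⟩
  have hnodd : ¬ 2 ∣ n := fun h => P.not_dvd_index (h.trans (Subgroup.index_dvd_of_le Subgroup.le_normalizer))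
  have hn0 : n ≠ 0 := fun h => hnodd (h ▸ dvd_zero 2)
  have hker : M.normalCore = ⊥ := by
    refine (Subgroup.Normal.eq_bot_or_eq_top inferInstance).resolve_right fun h => hn1 ?_
    rw [hndef, Subgroup.index_eq_one, eq_top_iff, ← h]
    exact M.normalCore_le
  have hdvd : Nat.card G ∣ n.factorial := by
    have hinj : Function.Injective (MulAction.toPermHom G (G ⧸ M)) := by
      rw [← MonoidHom.ker_eq_bot_iff, ← Subgroup.normalCore_eq_ker, hker]
    have := Subgroup.card_dvd_of_injective _ hinj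
    rwa [Nat.card_perm, ← Subgroup.index_eq_card, ← hndef] at this
  have h4c : 4 ∣ c := hK.card_four ▸ Subgroup.card_dvd_of_le hle
  obtain ⟨k, hk⟩ := h4c
  have h60 : Nat.card G = 60 := by
    have h8 : ¬ 8 ∣ Nat.card G := by
      intro h
      rw [← (P : Subgroup G).card_mul_index, hP.card_four] at h
      have : 2 ∣ (P : Subgroup G).index := by omega
      exact P.not_dvd_index this
    rw [hGn, hk] at hdvd h8 ⊢
    have hk0 : 0 < k := by
      rcases Nat.eq_zero_or_pos k with e | e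
      · rw [e, mul_zero] at hk; omega
      · exact e
    interval_cases n
    all_goals first
      | omega
      | (have := Nat.le_of_dvd (by norm_num [Nat.factorial]) hdvd
         norm_num [Nat.factorial] at this
         omega)
  exact CfsgLib.Recog.Sixty.iso_alt_five h60

end Cfsg.Agent.S3278
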