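import Cfsg.Statements.S3277
import Cfsg.Agent.Lib.ZStar.Main
import Cfsg.Agent.S3278

set_option autoImplicit false
open Cfsg

namespace Cfsg.Agent.S3277

/-- Let G be a finite group containing an involution whose centralizer is elementary abelian of order 4. If G has no normal 2-complement and no normal elementary abelian 2-subgroup of order 2 or 4, then G is isomorphic to the alternating group of degree 5 (that is, to PSL(2, 5)). -/
theorem result {G : Type*} [Group G] [Finite G] (x : G) (hx : orderOf x = 2)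
    (hC4 : Nat.card ↥(Subgroup.centralizer ({x} : Set G)) = 4) (hCe : ∀ c ∈ Subgroup.centralizer ({x} : Set G), c ^ 2 = 1)
    (hnc : ¬ Cfsg.HasNormalPComplement 2 G)
    (hne : ∀ E : Subgroup G, E.Normal → Cfsg.IsElementaryAbelian 2 E → Nat.card ↥E ≠ 2 ∧ Nat.card ↥E ≠ 4) :
    Nonempty (G ≃* ↥(alternatingGroup (Fin 5))) := by
  classical
  have : Fact (Nat.Prime 2) := ⟨Nat.prime_two⟩
  open CfsgLib.Signalizer in
  set C := Subgroup.centralizer ({x} : Set G) with hCdef
  have hxC : x ∈ C := Subgroup.mem_centralizer_singleton_iff.2 rfl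
  have hxx := involution_sq hx
  have hCcomm : ∀ u ∈ C, ∀ v ∈ C, Commute u v := by
    have key : ∀ c ∈ C, c⁻¹ = c := fun c hc =>
      inv_eq_of_mul_eq_one_right (by rw [← pow_two]; exact hCe c hc)
    intro u hu v hv
    have h := key _ (mul_mem hu hv)
    rw [mul_inv_rev, key u hu, key v hv] at h
    exact h.symm
  -- `x` is not isolated
  obtain ⟨a, hax, haconj, hxa⟩ : ∃ a : G, a ≠ x ∧ IsConj x a ∧ Commute x a := by
    by_contra hcon
    push Not at hcon
    have hiso : Cfsg.IsIsolatedInvolution x := ⟨hx, fun g hg => by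
      by_contra hne
      exact hcon _ hne (isConj_iff.2 ⟨g, rfl⟩) hg⟩
    set O := Cfsg.oddCore G with hO
    have hodd : Odd (Nat.card O) := CfsgLib.ZStar.odd_card_oddCore G
    haveI hOn : O.Normal := CfsgLib.Core.normal_pPrimeCore 2 G
    have hsurj : Function.Surjective ((QuotientGroup.mk' O).comp C.subtype) := by
      intro q
      obtain ⟨g, rfl⟩ := QuotientGroup.mk'_surjective O q
      set w := g * x * g⁻¹ with hwdef
      have hw : orderOf w = 2 := by rw [hwdef, orderOf_conj, hx]
      have hp : x * w ∈ O := by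
        have h := CfsgLib.ZStar.mem_oddCore_of_isolated hiso g
        rwa [involution_inv hx, mul_assoc x g x, mul_assoc x (g * x) g⁻¹] at h
      obtain ⟨m, hm⟩ : Odd (orderOf (x * w)) := by
        refine CfsgLib.ZStar.odd_of_dvd (Subgroup.orderOf_dvd_natCard O hp) hodd
      have hd : (x * w) ^ (m : ℤ) * x * ((x * w) ^ (m : ℤ))⁻¹ = w := by
        rw [← zpow_neg, mul_assoc, mul_pair_zpow hx hw, neg_neg, ← mul_assoc, ← zpow_add]
        have h1 : (x * w) ^ ((m : ℤ) + m) = (x * w)⁻¹ := by
          refine eq_inv_of_mul_eq_one_left ?_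
          rw [← zpow_add_one, show ((m : ℤ) + m + 1) = ((2 * m + 1 : ℕ) : ℤ) by push_cast; ring,
            zpow_natCast, ← hm, pow_orderOf_eq_one]
        rw [h1, mul_inv_rev, involution_inv hw, involution_inv hx, mul_assoc, hxx, mul_one]
      refine ⟨⟨((x * w) ^ (m : ℤ))⁻¹ * g, ?_⟩, ?_⟩
      · rw [hCdef, Subgroup.mem_centralizer_singleton_iff]
        have e : g * x = w * g := by rw [hwdef]; group
        calc ((x * w) ^ (m : ℤ))⁻¹ * g * x = ((x * w) ^ (m : ℤ))⁻¹ * (g * x) := mul_assoc _ _ _
          _ = ((x * w) ^ (m : ℤ))⁻¹ * (((x * w) ^ (m : ℤ) * x * ((x * w) ^ (m : ℤ))⁻¹) * g) := by rw [hd, e]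
          _ = x * (((x * w) ^ (m : ℤ))⁻¹ * g) := by group
      · show QuotientGroup.mk' O (((x * w) ^ (m : ℤ))⁻¹ * g) = QuotientGroup.mk' O g
        rw [map_mul, map_inv, QuotientGroup.mk'_apply, (QuotientGroup.eq_one_iff _).2 (O.zpow_mem hp _),
          inv_one, one_mul]
    have hidx : O.index ∣ 2 ^ 2 := by
      rw [Subgroup.index_eq_card, show 2 ^ 2 = Nat.card C by rw [hC4]; norm_num]
      exact Subgroup.card_dvd_of_surjective _ hsurj
    obtain ⟨P⟩ : Nonempty (Sylow 2 G) := inferInstance
    refine hnc ⟨P, O, hOn, ?_⟩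
    obtain ⟨k, hk⟩ := P.isPGroup'.exists_card_eq
    have hco : Nat.Coprime (Nat.card O) (Nat.card (P : Subgroup G)) := by
      rw [hk]
      exact Nat.Coprime.pow_right k (Nat.coprime_two_right.2 hodd)
    refine Subgroup.isComplement'_of_coprime ?_ hco
    obtain ⟨j, -, hj⟩ := (Nat.dvd_prime_pow Nat.prime_two).1 hidx
    have h1 := O.card_mul_index
    have h2 := (P : Subgroup G).card_mul_index
    have hPodd : Nat.Coprime (Nat.card (P : Subgroup G)) (P : Subgroup G).index := by
      rw [hk]
      exact Nat.Coprime.pow_left k ((Nat.Prime.coprime_iff_not_dvd Nat.prime_two).2 P.not_dvd_index)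
    have hOidx : Nat.Coprime O.index (P : Subgroup G).index := by
      rw [hj]
      exact Nat.Coprime.pow_left j ((Nat.Prime.coprime_iff_not_dvd Nat.prime_two).2 P.not_dvd_index)
    have d1 : O.index ∣ Nat.card (P : Subgroup G) :=
      hOidx.dvd_of_dvd_mul_right (by rw [h2, ← h1]; exact dvd_mul_left _ _)
    have d2 : Nat.card (P : Subgroup G) ∣ O.index :=
      hco.symm.dvd_of_dvd_mul_left (by rw [h1, ← h2]; exact dvd_mul_right _ _)
    rw [← Nat.dvd_antisymm d1 d2, h1]
  have haC : a ∈ C := Subgroup.mem_centralizer_singleton_iff.2 hxa.symm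
  obtain ⟨g₀, hg₀⟩ := isConj_iff.1 haconj
  have ha : orderOf a = 2 := by rw [← hg₀, orderOf_conj, hx]
  set b := x * a with hb
  have hbC : b ∈ C := mul_mem hxC haC
  have hbx : b ≠ x := fun h => involution_ne_one ha (mul_eq_left.1 h)
  have hba : b ≠ a := fun h => involution_ne_one hx (mul_eq_right.1 h)
  have hb1 : b ≠ 1 := fun h => hax (by
    rw [← eq_inv_of_mul_eq_one_right h |>.trans (involution_inv hx)])
  have hb2 : orderOf b = 2 := orderOf_eq_prime (hCe b hbC) hb1
  have hV : ∀ u ∈ C, u = 1 ∨ u = x ∨ u = a ∨ u = b := by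
    intro u hu
    by_contra hne
    push Not at hne
    let f : Fin 5 → C := ![⟨1, one_mem _⟩, ⟨x, hxC⟩, ⟨a, haC⟩, ⟨b, hbC⟩, ⟨u, hu⟩]
    have hf : Function.Injective f := by
      intro i j hij
      have h' := congrArg (fun c : C => (c : G)) hij
      have n1 := involution_ne_one hx
      have n2 := involution_ne_one ha
      fin_cases i <;> fin_cases j <;> simp [f] at h' ⊢ <;>
        first
          | exact n1 h'
          | exact n1 h'.symm
          | exact n2 h'
          | exact n2 h'.symm
          | exact hb1 h'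
          | exact hb1 h'.symm
          | exact hax h'
          | exact hax h'.symm
          | exact hbx h'
          | exact hbx h'.symm
          | exact hba h'
          | exact hba h'.symm
          | exact hne.1 h'
          | exact hne.1 h'.symm
          | exact hne.2.1 h'
          | exact hne.2.1 h'.symm
          | exact hne.2.2.1 h'
          | exact hne.2.2.1 h'.symm
          | exact hne.2.2.2 h'
          | exact hne.2.2.2 h'.symm
    have h5 := Nat.card_le_card_of_injective f hf
    rw [Nat.card_fin, hC4] at h5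
    omega
  have hVa : ∀ u : G, Commute a u → u ∈ C := by
    intro u hau
    have hcard : Nat.card (Subgroup.centralizer ({a} : Set G)) = 4 := by
      rw [← hC4]
      refine Nat.card_congr
        { toFun := fun v => ⟨g₀⁻¹ * (v : G) * g₀, ?_⟩
          invFun := fun v => ⟨g₀ * (v : G) * g₀⁻¹, ?_⟩
          left_inv := fun v => Subtype.ext (by
            show g₀ * (g₀⁻¹ * (v : G) * g₀) * g₀⁻¹ = (v : G)
            group)
          right_inv := fun v => Subtype.ext (by
            show g₀⁻¹ * (g₀ * (v : G) * g₀⁻¹) * g₀ = (v : G)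
            group) }
      · have hv : (v : G) * (g₀ * x * g₀⁻¹) = g₀ * x * g₀⁻¹ * (v : G) := by
          rw [hg₀]; exact Subgroup.mem_centralizer_singleton_iff.1 v.2
        rw [hCdef, Subgroup.mem_centralizer_singleton_iff]
        calc g₀⁻¹ * (v : G) * g₀ * x = g₀⁻¹ * ((v : G) * (g₀ * x * g₀⁻¹)) * g₀ := by group
          _ = g₀⁻¹ * (g₀ * x * g₀⁻¹ * (v : G)) * g₀ := by rw [hv]
          _ = _ := by group
      · have hv := Subgroup.mem_centralizer_singleton_iff.1 v.2
        rw [Subgroup.mem_centralizer_singleton_iff, ← hg₀]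
        calc g₀ * (v : G) * g₀⁻¹ * (g₀ * x * g₀⁻¹) = g₀ * ((v : G) * x) * g₀⁻¹ := by group
          _ = g₀ * (x * (v : G)) * g₀⁻¹ := by rw [hv]
          _ = _ := by group
    have hle : C ≤ Subgroup.centralizer ({a} : Set G) := fun c hc =>
      Subgroup.mem_centralizer_singleton_iff.2 (hCcomm c hc a haC).eq
    rw [Subgroup.eq_of_le_of_card_ge hle (by rw [hcard, hC4])]
    exact Subgroup.mem_centralizer_singleton_iff.2 hau.symm.eq
  -- involutions not conjugate to `x` commute with `b`
  have hnot : ∀ u : G, orderOf u = 2 → ¬ IsConj x u → Commute b u := by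
    intro u hu hnc'
    have hev : Even (orderOf (x * u)) := by
      rw [← Nat.not_odd_iff_even]
      intro hodd
      obtain ⟨d, -, hd⟩ := exists_conj_of_odd hx hu hodd
      exact hnc' (isConj_iff.2 ⟨d, hd⟩)
    obtain ⟨ht2, htx, htu⟩ := central_involution hx hu hev
    rcases hV _ (Subgroup.mem_centralizer_singleton_iff.2 htx.eq) with h | h | h | h
    · exact absurd h (involution_ne_one ht2)
    · rw [h] at htu
      exact hCcomm b hbC u (Subgroup.mem_centralizer_singleton_iff.2 htu.symm.eq)
    · rw [h] at htu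
      exact hCcomm b hbC u (hVa u htu)
    · rwa [h] at htu
  have hbconj : IsConj x b := by
    by_contra hnb
    have hall : ∀ g : G, Commute b (g * b * g⁻¹) := fun g =>
      hnot _ (by rw [orderOf_conj, hb2]) fun h => hnb (h.trans (isConj_iff.2 ⟨g⁻¹, by group⟩))
    have hcomm : ∀ y ∈ Group.conjugatesOfSet ({b} : Set G), ∀ z ∈ Group.conjugatesOfSet ({b} : Set G),
        Commute y z := by
      intro y hy z hz
      rw [Group.mem_conjugatesOfSet_iff] at hy hz
      obtain ⟨_, rfl, hy⟩ := hy
      obtain ⟨_, rfl, hz⟩ := hz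
      obtain ⟨g, rfl⟩ := isConj_iff.1 hy
      obtain ⟨g', rfl⟩ := isConj_iff.1 hz
      have h := hall (g⁻¹ * g')
      show g * b * g⁻¹ * (g' * b * g'⁻¹) = g' * b * g'⁻¹ * (g * b * g⁻¹)
      calc g * b * g⁻¹ * (g' * b * g'⁻¹)
          = g * (b * (g⁻¹ * g' * b * (g⁻¹ * g')⁻¹)) * g⁻¹ := by group
        _ = g * ((g⁻¹ * g' * b * (g⁻¹ * g')⁻¹) * b) * g⁻¹ := by rw [h.eq]
        _ = _ := by group
    set N := Subgroup.normalClosure ({b} : Set G) with hNdef
    haveI hNn : N.Normal := Subgroup.normalClosure_normal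
    have hbN : b ∈ N := Subgroup.subset_normalClosure rfl
    have hle : N ≤ Subgroup.centralizer (N : Set G) := by
      rw [hNdef, Subgroup.normalClosure, Subgroup.closure_le]
      intro y hy
      rw [SetLike.mem_coe, Subgroup.centralizer_closure, Subgroup.mem_centralizer_iff]
      exact fun z hz => (hcomm z hz y hy).eq
    have hNc : ∀ u ∈ N, ∀ v ∈ N, u * v = v * u := fun u hu v hv =>
      (Subgroup.mem_centralizer_iff.1 (hle hu) v hv).symm
    have hN2 : ∀ u ∈ N, u ^ 2 = 1 := by
      intro u hu
      induction hu using Subgroup.closure_induction with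
      | mem y hy =>
        rw [Group.mem_conjugatesOfSet_iff] at hy
        obtain ⟨_, rfl, hy⟩ := hy
        obtain ⟨g, rfl⟩ := isConj_iff.1 hy
        rw [conj_pow, hCe b hbC, mul_one, mul_inv_cancel]
      | one => rw [one_pow]
      | mul u v hu hv hu2 hv2 =>
        rw [(show Commute u v from hNc u hu v hv).mul_pow, hu2, hv2, one_mul]
      | inv u hu hu2 => rw [inv_pow, hu2, inv_one]
    have hxN : x ∉ N := fun h => hnb (by
      exfalso
      have hle' : N ≤ C := fun u hu => Subgroup.mem_centralizer_singleton_iff.2 (hNc u hu x h)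
      have hNV : N = C := le_antisymm hle' fun c hc => by
        rcases hV c hc with e | e | e | e <;> rw [e]
        · exact one_mem _
        · exact h
        · rw [show a = x * b by rw [hb, ← mul_assoc, hxx, one_mul]]; exact mul_mem h hbN
        · exact hbN
      exact (hne N hNn ⟨⟨⟨fun u v => Subtype.ext (hNc u u.2 v v.2)⟩⟩, hN2⟩).2 (hNV ▸ hC4))
    have hKle : ∀ u ∈ N, u ∈ C → u = 1 ∨ u = b := by
      intro u hu huC
      rcases hV u huC with rfl | rfl | rfl | rfl
      · exact Or.inl rfl
      · exact absurd hu hxN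
      · refine absurd ?_ hxN
        have : x = b * u := by rw [hb, mul_assoc, involution_sq ha, mul_one]
        rw [this]; exact mul_mem hbN hu
      · exact Or.inr rfl
    let f : N →* N :=
      { toFun := fun u => u * ⟨x * (u : G) * x⁻¹, hNn.conj_mem _ u.2 x⟩
        map_one' := Subtype.ext (by simp)
        map_mul' := fun u v => Subtype.ext (by
          show (u : G) * v * (x * ((u : G) * v) * x⁻¹) = (u : G) * (x * u * x⁻¹) * ((v : G) * (x * v * x⁻¹))
          rw [show x * ((u : G) * v) * x⁻¹ = (x * u * x⁻¹) * (x * v * x⁻¹) by group,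
            mul_assoc (u : G) (v : G), ← mul_assoc (v : G) (x * u * x⁻¹),
            hNc v v.2 _ (hNn.conj_mem _ u.2 x), mul_assoc (x * (u : G) * x⁻¹) (v : G), ← mul_assoc]) }
    have hsmall : ∀ K : Subgroup N, (∀ u ∈ K, (u : G) ∈ C) → Nat.card K ≤ 2 := by
      intro K hK
      let i : K → Fin 2 := fun u => if ((u : N) : G) = 1 then 0 else 1
      have hi : Function.Injective i := by
        intro u v huv
        refine Subtype.ext (Subtype.ext ?_)
        simp only [i] at huv
        rcases hKle _ (u : N).2 (hK _ u.2) with h | h <;> rcases hKle _ (v : N).2 (hK _ v.2) with h' | h'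
        · rw [h, h']
        · rw [if_pos h, if_neg (h' ▸ hb1)] at huv; exact absurd huv (by decide)
        · rw [if_neg (h ▸ hb1), if_pos h'] at huv; exact absurd huv (by decide)
        · rw [h, h']
      simpa using Nat.card_le_card_of_injective i hi
    have hker : Nat.card f.ker ≤ 2 := hsmall _ fun u hu => by
      have h : (u : G) * (x * u * x⁻¹) = 1 := congrArg Subtype.val (MonoidHom.mem_ker.1 hu)
      rw [hCdef, Subgroup.mem_centralizer_singleton_iff]
      have h' := (eq_inv_of_mul_eq_one_right h).trans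
        (inv_eq_of_mul_eq_one_right (by rw [← pow_two]; exact hN2 _ u.2))
      exact (mul_inv_eq_iff_eq_mul.1 h').symm
    have hran : Nat.card f.range ≤ 2 := hsmall _ fun v hv => by
      obtain ⟨u, rfl⟩ := hv
      show (u : G) * (x * u * x⁻¹) ∈ C
      rw [hCdef, Subgroup.mem_centralizer_singleton_iff]
      calc (u : G) * (x * u * x⁻¹) * x = (x * u * x⁻¹) * u * x := by
            rw [hNc u u.2 _ (hNn.conj_mem _ u.2 x)]
        _ = x * u * x * u * x := by rw [involution_inv hx]
        _ = x * ((u : G) * (x * u * x⁻¹)) := by rw [involution_inv hx]; group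
    have hmul := f.ker.card_mul_index
    rw [Subgroup.index_ker] at hmul
    have hN4 : Nat.card N ≤ 4 := by rw [← hmul]; exact Nat.mul_le_mul hker hran
    obtain ⟨k, hk⟩ := (IsPGroup.iff_card.1 (fun u : N => ⟨1, Subtype.ext (by
      show (u : G) ^ (2 ^ 1) = 1
      rw [pow_one]; exact hN2 _ u.2)⟩ : IsPGroup 2 N))
    have hk0 : k ≠ 0 := fun h => by
      rw [h, pow_zero] at hk
      exact hb1 (Subgroup.mem_bot.1 ((Subgroup.card_eq_one.1 hk) ▸ hbN))
    have hk2 : k ≤ 2 := by
      by_contra hk3
      have : 2 ^ 3 ≤ 2 ^ k := Nat.pow_le_pow_right two_pos (by omega)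
      omega
    have := hne N hNn ⟨⟨⟨fun u v => Subtype.ext (hNc u u.2 v v.2)⟩⟩, hN2⟩
    interval_cases k <;> omega
  -- one class of involutions
  have hone : ∀ u : G, orderOf u = 2 → IsConj x u := by
    intro u hu
    by_contra hnc'
    obtain ⟨g₁, hg₁⟩ := isConj_iff.1 hbconj
    have hbu : Commute b u := hnot u hu hnc'
    have hcard : ∀ v : G, Commute b v → Commute x (g₁⁻¹ * v * g₁) := fun v hv => by
      show x * (g₁⁻¹ * v * g₁) = g₁⁻¹ * v * g₁ * x
      have hv' : b * v = v * b := hv
      rw [← hg₁] at hv'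
      calc x * (g₁⁻¹ * v * g₁) = g₁⁻¹ * (g₁ * x * g₁⁻¹ * v) * g₁ := by group
        _ = g₁⁻¹ * (v * (g₁ * x * g₁⁻¹)) * g₁ := by rw [hv']
        _ = _ := by group
    have hle : C ≤ Subgroup.centralizer ({b} : Set G) := fun c hc =>
      Subgroup.mem_centralizer_singleton_iff.2 (hCcomm c hc b hbC).eq
    have hinj : Function.Injective (fun v : Subgroup.centralizer ({b} : Set G) =>
        (⟨g₁⁻¹ * (v : G) * g₁, Subgroup.mem_centralizer_singleton_iff.2
          (hcard _ (Subgroup.mem_centralizer_singleton_iff.1 v.2).symm).eq.symm⟩ : C)) := fun v w h =>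
      Subtype.ext (mul_left_cancel (mul_right_cancel (congrArg Subtype.val h)))
    have heq : C = Subgroup.centralizer ({b} : Set G) :=
      Subgroup.eq_of_le_of_card_ge hle (Nat.card_le_card_of_injective _ hinj)
    rcases hV u (heq ▸ Subgroup.mem_centralizer_singleton_iff.2 hbu.symm.eq) with h | h | h | h
    · exact involution_ne_one hu h
    · exact hnc' (h ▸ IsConj.refl _)
    · exact hnc' (h ▸ haconj)
    · exact hnc' (h ▸ hbconj)
  -- `C` is a Sylow subgroup
  have hC2 : IsPGroup 2 C := IsPGroup.of_card (n := 2) (by rw [hC4]; norm_num)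
  obtain ⟨S, hS⟩ := hC2.exists_le_sylow
  have hSC : (S : Subgroup G) = C := by
    refine le_antisymm ?_ hS
    have hnt : Nontrivial (S : Subgroup G) :=
      (Subgroup.nontrivial_iff_ne_bot _).2 fun h => involution_ne_one hx (Subgroup.mem_bot.1 (h ▸ hS hxC))
    haveI := S.isPGroup'.center_nontrivial
    obtain ⟨z, hz⟩ := exists_prime_orderOf_dvd_card' (G := Subgroup.center (S : Subgroup G)) 2 (by
      obtain ⟨k, hk, hk'⟩ := (S.isPGroup'.to_subgroup (Subgroup.center (S : Subgroup G))).nontrivial_iff_card.1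
        inferInstance
      rw [hk']; exact dvd_pow_self 2 (by omega))
    have hzc : ∀ s ∈ (S : Subgroup G), s * ((z : (S : Subgroup G)) : G) = ((z : (S : Subgroup G)) : G) * s :=
      fun s hs => congrArg Subtype.val (Subgroup.mem_center_iff.1 z.2 ⟨s, hs⟩)
    set z' := ((z : (S : Subgroup G)) : G) with hz'
    have hz2 : orderOf z' = 2 := by rw [hz', Subgroup.orderOf_coe, Subgroup.orderOf_coe, hz]
    obtain ⟨g, hg⟩ := isConj_iff.1 (hone z' hz2)
    have hinj : Function.Injective (fun s : (S : Subgroup G) =>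
        (⟨g⁻¹ * (s : G) * g, Subgroup.mem_centralizer_singleton_iff.2 (by
          have h := hzc s s.2
          rw [← hg] at h
          calc g⁻¹ * (s : G) * g * x = g⁻¹ * ((s : G) * (g * x * g⁻¹)) * g := by group
            _ = g⁻¹ * (g * x * g⁻¹ * (s : G)) * g := by rw [h]
            _ = _ := by group)⟩ : C)) := fun v w h =>
      Subtype.ext (mul_left_cancel (mul_right_cancel (congrArg Subtype.val h)))
    exact (Subgroup.eq_of_le_of_card_ge hS (Nat.card_le_card_of_injective _ hinj)).symm.le
  -- simplicity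
  have hsimple : IsSimpleGroup G := by
    haveI : Nontrivial G := ⟨⟨x, 1, involution_ne_one hx⟩⟩
    refine ⟨fun N hN => ?_⟩
    haveI := hN
    by_contra hcon
    push Not at hcon
    obtain ⟨hN1, hNtop⟩ := hcon
    have hoddbot : ∀ M : Subgroup G, M.Normal → Odd (Nat.card M) → M = ⊥ := by
      intro M hM hMo
      haveI := hM
      have hfix : ∀ e : G, IsConj x e → ∀ m ∈ M, e * m = m * e → m = 1 := by
        intro e he m hm hem
        obtain ⟨g, hg⟩ := isConj_iff.1 he
        have hmem : g⁻¹ * m * g ∈ C := Subgroup.mem_centralizer_singleton_iff.2 (by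
          rw [← hg] at hem
          calc g⁻¹ * m * g * x = g⁻¹ * (m * (g * x * g⁻¹)) * g := by group
            _ = g⁻¹ * (g * x * g⁻¹ * m) * g := by rw [hem]
            _ = _ := by group)
        have h2 := hCe _ hmem
        have h3 : g⁻¹ * m * g ∈ M := by
          have := hM.conj_mem m hm g⁻¹
          rwa [inv_inv] at this
        have h4 := CfsgLib.ZStar.eq_one_of_odd_of_sq (CfsgLib.ZStar.odd_of_dvd
          (Subgroup.orderOf_dvd_natCard M h3) hMo) h2
        calc m = g * (g⁻¹ * m * g) * g⁻¹ := by group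
          _ = 1 := by rw [h4]; group
      -- an involution without fixed points inverts
      have hinv : ∀ e : G, IsConj x e → orderOf e = 2 → ∀ m ∈ M, e * m * e⁻¹ = m⁻¹ := by
        intro e he he2 m hm
        let φ : M → M := fun u => ⟨(u : G)⁻¹ * (e * u * e⁻¹), mul_mem (inv_mem u.2) (hM.conj_mem _ u.2 e)⟩
        have hφ : Function.Injective φ := by
          intro u v huv
          have h : (u : G)⁻¹ * (e * u * e⁻¹) = (v : G)⁻¹ * (e * v * e⁻¹) := congrArg Subtype.val huv
          refine Subtype.ext (mul_inv_eq_one.1 (hfix e he ((u : G) * (v : G)⁻¹) (mul_mem u.2 (inv_mem v.2)) ?_))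
          calc e * ((u : G) * (v : G)⁻¹) = (u : G) * ((u : G)⁻¹ * (e * u * e⁻¹)) * ((v : G)⁻¹ * (e * v * e⁻¹))⁻¹ * (v : G)⁻¹ * e := by group
            _ = (u : G) * (v : G)⁻¹ * e := by rw [h]; group
        obtain ⟨u, hu⟩ := (Finite.injective_iff_surjective.1 hφ) ⟨m, hm⟩
        have hu' : (u : G)⁻¹ * (e * u * e⁻¹) = m := congrArg Subtype.val hu
        rw [← hu']
        calc e * ((u : G)⁻¹ * (e * u * e⁻¹)) * e⁻¹ = (e * u * e⁻¹)⁻¹ * ((e * e) * u * (e * e)⁻¹) := by group
          _ = _ := by rw [involution_sq he2]; group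
      refine (Subgroup.eq_bot_iff_forall _).2 fun m hm => hfix b hbconj m hm ?_
      have e1 := hinv a haconj ha m hm
      have e2 : b * m * b⁻¹ = m := by
        rw [hb, show x * a * m * (x * a)⁻¹ = x * (a * m * a⁻¹) * x⁻¹ by group, e1,
          hinv x (IsConj.refl x) hx _ (inv_mem hm), inv_inv]
      exact mul_inv_eq_iff_eq_mul.1 e2
    have hev : 2 ∣ Nat.card N := by
      by_contra h
      exact hN1 (hoddbot N hN (Nat.not_even_iff_odd.1 fun he => h he.two_dvd))
    obtain ⟨w, hw⟩ := exists_prime_orderOf_dvd_card' (G := N) 2 hev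
    have hall : ∀ u : G, orderOf u = 2 → u ∈ N := by
      intro u hu
      obtain ⟨g, hg⟩ := isConj_iff.1 ((hone (w : G) (by rw [Subgroup.orderOf_coe, hw])).symm.trans (hone u hu))
      rw [← hg]
      exact hN.conj_mem _ w.2 g
    have hCN : C ≤ N := fun c hc => by
      by_cases h1 : c = 1
      · rw [h1]; exact one_mem _
      · exact hall c (orderOf_eq_prime (hCe c hc) h1)
    have hSN : (S : Subgroup G) ≤ N := hSC ▸ hCN
    -- the normaliser acts on the three involutions, and `N` centralises its Sylow subgroup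
    let T : Sylow 2 N := S.subtype hSN
    have hfrat : Subgroup.normalizer ((S : Subgroup G) : Set G) ⊔ N = ⊤ := by
      have h := Sylow.normalizer_sup_eq_top T
      have e : (T : Subgroup N).map N.subtype = (S : Subgroup G) := by
        rw [Sylow.coe_subtype, Subgroup.subgroupOf_map_subtype, inf_eq_left.2 hSN]
      rwa [e] at h
    by_cases hmov : ∀ n ∈ N, n ∈ Subgroup.normalizer ((S : Subgroup G) : Set G) → n * x * n⁻¹ = x
    · -- normal 2-complement in `N`
      have hNT : Subgroup.normalizer ((T : Subgroup N) : Set N) ≤ Subgroup.centralizer ((T : Subgroup N) : Set N) := by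
        intro n hn
        have hnS : (n : G) ∈ Subgroup.normalizer ((S : Subgroup G) : Set G) := by
          rw [Subgroup.mem_normalizer_iff]
          intro y
          constructor
          · intro hy
            exact (Subgroup.mem_normalizer_iff.1 hn ⟨y, hSN hy⟩).1 hy
          · intro hy
            have hyN : y ∈ N := by
              have h1 := mul_mem (mul_mem (inv_mem n.2) (hSN hy)) n.2
              rwa [show (n : G)⁻¹ * (n * y * (n : G)⁻¹) * n = y by group] at h1
            exact (Subgroup.mem_normalizer_iff.1 hn ⟨y, hyN⟩).2 hy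
        have hnC : (n : G) ∈ C :=
          Subgroup.mem_centralizer_singleton_iff.2 (mul_inv_eq_iff_eq_mul.1 (hmov n n.2 hnS))
        rw [Subgroup.mem_centralizer_iff]
        intro y hy
        exact Subtype.ext (hCcomm (y : G) (hSC ▸ (hy : (y : G) ∈ (S : Subgroup G))) (n : G) hnC).eq
      haveI : (MonoidHom.transferSylow T hNT).ker.Normal := inferInstance
      have hcompl := MonoidHom.ker_transferSylow_isComplement' T hNT
      set K := (MonoidHom.transferSylow T hNT).ker with hK
      have hKodd : Odd (Nat.card K) := by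
        rw [← hcompl.index_eq_card, ← Nat.not_even_iff_odd, even_iff_two_dvd]
        exact T.not_dvd_index
      have hKle : K ≤ Cfsg.oddCore N := CfsgLib.ZStar.le_oddCore inferInstance hKodd
      have hcore : (Cfsg.oddCore N).map N.subtype = ⊥ := by
        haveI : (Cfsg.oddCore N).Characteristic := inferInstance
        refine hoddbot _ inferInstance ?_
        rw [Subgroup.card_map_of_injective N.subtype_injective]
        exact CfsgLib.ZStar.odd_card_oddCore N
      have hKbot : K = ⊥ := by
        rw [Subgroup.map_eq_bot_iff_of_injective _ N.subtype_injective] at hcore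
        exact le_bot_iff.1 (hcore ▸ hKle)
      have hN4 : Nat.card N = 4 := by
        have h := hcompl.card_mul
        rw [hKbot, Subgroup.card_bot, one_mul, Sylow.coe_subtype,
          Nat.card_congr (Subgroup.subgroupOfEquivOfLe hSN).toEquiv, hSC, hC4] at h
        exact h.symm
      have hNC : N = C := (Subgroup.eq_of_le_of_card_ge hCN (by rw [hN4, hC4])).symm
      exact (hne N hN ⟨⟨⟨fun u v => Subtype.ext (hCcomm _ (hNC ▸ u.2) _ (hNC ▸ v.2)).eq⟩⟩,
        fun u hu => hCe u (hNC ▸ hu)⟩).2 hN4
    · push Not at hmov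
      obtain ⟨n, hnN, hnS, hnx⟩ := hmov
      refine hNtop (top_unique (hfrat ▸ sup_le ?_ le_rfl))
      -- every element of the normaliser is in `N`
      intro g hg
      have hperm : ∀ g ∈ Subgroup.normalizer ((S : Subgroup G) : Set G), g * x * g⁻¹ = x ∨ g * x * g⁻¹ = a ∨ g * x * g⁻¹ = b := by
        intro g hg
        have h1 : g * x * g⁻¹ ∈ C := hSC ▸ (Subgroup.mem_normalizer_iff.1 hg x).1 (hSC ▸ hxC)
        rcases hV _ h1 with h | h
        · exact absurd (conj_eq_one_iff.1 h) (involution_ne_one hx)
        · exact h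
      have hpow : ∀ u ∈ Subgroup.normalizer ((S : Subgroup G) : Set G), u * x * u⁻¹ ≠ x → u * (u * x * u⁻¹) * u⁻¹ ≠ u * x * u⁻¹ ∧ u * (u * x * u⁻¹) * u⁻¹ ≠ x := by
        intro u hu hux
        refine ⟨fun h => hux (mul_left_cancel (mul_right_cancel h)), fun h => ?_⟩
        have hu2 : u ^ 2 ∈ C := Subgroup.mem_centralizer_singleton_iff.2 (by
          rw [pow_two]
          exact mul_inv_eq_iff_eq_mul.1 (by rw [mul_inv_rev]; calc u * u * x * (u⁻¹ * u⁻¹) = u * (u * x * u⁻¹) * u⁻¹ := by group
            _ = x := h))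
        have hu4 : orderOf u ∣ 2 ^ 2 := orderOf_dvd_of_pow_eq_one (by
          rw [show (2 : ℕ) ^ 2 = 2 * 2 by norm_num, pow_mul]; exact hCe _ hu2)
        have hpg : IsPGroup 2 (Subgroup.zpowers u) := by
          obtain ⟨k, -, hk⟩ := (Nat.dvd_prime_pow Nat.prime_two).1 hu4
          exact IsPGroup.of_card (by rw [Nat.card_zpowers, hk])
        have hsup : IsPGroup 2 ((S : Subgroup G) ⊔ Subgroup.zpowers u : Subgroup G) :=
          S.isPGroup'.to_sup_of_normal_left' hpg (Subgroup.zpowers_le.2 hu)
        have huS : u ∈ (S : Subgroup G) :=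
          (S.is_maximal' hsup le_sup_left) ▸ Subgroup.mem_sup_right (Subgroup.mem_zpowers u)
        exact hux (mul_inv_eq_iff_eq_mul.2 (Subgroup.mem_centralizer_singleton_iff.1 (hSC ▸ huS : u ∈ C)))
      have hg' : g * x * g⁻¹ = x ∨ g * x * g⁻¹ = n * x * n⁻¹ ∨ g * x * g⁻¹ = n * (n * x * n⁻¹) * n⁻¹ := by
        obtain ⟨h1, h2⟩ := hpow n hnS hnx
        have hn2 : n * n ∈ Subgroup.normalizer ((S : Subgroup G) : Set G) := mul_mem hnS hnS
        have h3 := hperm _ hn2
        rw [show n * n * x * (n * n)⁻¹ = n * (n * x * n⁻¹) * n⁻¹ by group] at h3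
        rcases hperm g hg with e | e | e <;> rcases hperm n hnS with f | f | f <;>
          rcases h3 with k | k | k <;>
          first
            | exact Or.inl e
            | exact Or.inr (Or.inl (e.trans f.symm))
            | exact Or.inr (Or.inr (e.trans k.symm))
            | exact absurd f hnx
            | exact absurd k h2
            | exact absurd (k.trans f.symm) h1
      have hmem : ∀ m ∈ N, g * x * g⁻¹ = m * x * m⁻¹ → g ∈ N := by
        intro m hm h
        have : m⁻¹ * g ∈ C := Subgroup.mem_centralizer_singleton_iff.2 (by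
          calc m⁻¹ * g * x = m⁻¹ * (g * x * g⁻¹) * g := by group
            _ = x * (m⁻¹ * g) := by rw [h]; group)
        have h' := mul_mem hm (hCN this)
        rwa [mul_inv_cancel_left] at h'
      rcases hg' with e | e | e
      · exact hmem 1 (one_mem _) (by rw [e]; group)
      · exact hmem n hnN e
      · exact hmem (n * n) (mul_mem hnN hnN) (by rw [e]; group)
  refine Cfsg.Agent.S3278.result x hx C le_rfl ⟨hC4, ?_⟩ (by rw [Subgroup.relIndex_self]; norm_num)
    (by rw [Subgroup.subgroupOf_self]; infer_instance)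
  refine le_antisymm ?_ ?_
  · exact Nat.le_of_dvd two_pos (Monoid.exponent_dvd_of_forall_pow_eq_one fun c => Subtype.ext (hCe c c.2))
  · rcases Nat.lt_or_ge (Monoid.exponent C) 2 with h | h
    · exfalso
      have h1 : Monoid.exponent C = 1 := by
        have := Monoid.exponent_ne_zero_of_finite (G := C); omega
      have h2 := Monoid.pow_exponent_eq_one (⟨x, hxC⟩ : C)
      rw [h1, pow_one] at h2
      exact involution_ne_one hx (congrArg Subtype.val h2)
    · exact h

end Cfsg.Agent.S3277
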