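import Cfsg.Statements.S4633
import Cfsg.Agent.Lib.Pairs.AbelianLocal
import Cfsg.Agent.Lib.Pairs.MaximalCriterion
import Mathlib.NumberTheory.Basic

set_option autoImplicit false
open Cfsg

namespace Cfsg.Agent.S4633

open CfsgLib.Blocks CfsgLib.Pairs

/-- Let B be a block of the finite group G relative to a maximal ideal M of the algebraic integers containing the prime p, with a nontrivial cyclic defect group P. Let c be a block of C_G(P) inducing B and T the stabilizer of c in N_G(P) (the elements of N_G(P) conjugating c to itself); T contains C_G(P). Then T/C_G(P) is cyclic of order dividing p − 1, and it acts freely on the non-identity elements of P: an element of T fixing some non-identity element of P under conjugation lies in C_G(P). -/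
theorem result {G : Type*} [Group G] [Finite G] (p : ℕ) [Fact p.Prime] (M : Ideal Cfsg.AlgInt) (hM : Cfsg.IsPModular p M) (B : Set (Cfsg.IrrCharacter G)) (hB : Cfsg.IsPBlock M B) (P : Subgroup G) (hPD : Cfsg.IsDefectGroup p M B P) (hP1 : P ≠ ⊥) (hcyc : IsCyclic P) (c : Set (Cfsg.IrrCharacter (Subgroup.centralizer (P : Set G)))) (hc : Cfsg.IsInducedBlock M (Subgroup.centralizer (P : Set G)) c B) (T : Subgroup G) (hT : ∀ g : G, g ∈ T ↔ (g ∈ Subgroup.normalizer (P : Set G) ∧ Cfsg.StabilizesBlock (Subgroup.centralizer (P : Set G)) c g)) [hn : ((Subgroup.centralizer (P : Set G)).subgroupOf T).Normal] : IsCyclic (T ⧸ (Subgroup.centralizer (P : Set G)).subgroupOf T) ∧ (Subgroup.centralizer (P : Set G)).relIndex T ∣ p - 1 ∧ ∀ g ∈ T, ∀ x ∈ P, x ≠ 1 → g * x * g⁻¹ = x → g ∈ Subgroup.centralizer (P : Set G) := by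
  classical
  have := Fintype.ofFinite G
  have := hM.2.1.isPrime
  have hPp : IsPGroup p P := IsDefectGroup.isPGroup hPD
  have hab : ∀ x ∈ P, ∀ y ∈ P, x * y = y * x := by
    intro x hx y hy
    let := IsCyclic.commGroup (α := P)
    exact congrArg Subtype.val (mul_comm (⟨x, hx⟩ : P) ⟨y, hy⟩)
  have hPC : P ≤ Subgroup.centralizer (P : Set G) := fun x hx =>
    Subgroup.mem_centralizer_iff.2 fun y hy => hab y hy x hx
  have hmax := isMaximal_of_isDefectGroup hM
    ((inducedFromCent_iff hM hPp hPC (isInducedBlock_iff.1 hc).1 B).1 hc) hPD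
  set C := Subgroup.centralizer (P : Set G) with hC
  -- `p'`-index
  have hp' : ∀ g ∈ T, ∀ k : ℕ, g ^ p ^ k ∈ C → g ∈ C := by
    intro g hg k hk
    obtain ⟨a, b, hb, hord⟩ := Nat.exists_eq_pow_mul_and_not_dvd (orderOf_pos g).ne' p
      (Nat.Prime.one_lt Fact.out).ne'
    have hT' := (hT _).1 (pow_mem hg b)
    have hgb : g ^ b ∈ C := by
      have h := mem_sup_of_maximal hM hmax.1.1 hmax hT'.1 hT'.2 ⟨a, by
        rw [orderOf_pow' g (by rintro rfl; exact hb (dvd_zero p)), hord, Nat.gcd_mul_left_left,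
          Nat.mul_div_cancel _ (Nat.pos_of_ne_zero (by rintro rfl; exact hb (dvd_zero p)))]⟩
      rwa [sup_eq_right.2 hPC] at h
    have hcop : (p ^ k).Coprime b :=
      ((Fact.out : p.Prime).coprime_iff_not_dvd.2 hb).pow_left k
    have h1 : g ^ (Nat.gcd (p ^ k) b : ℤ) ∈ C := by
      rw [Nat.gcd_eq_gcd_ab, zpow_add, zpow_mul, zpow_mul, zpow_natCast, zpow_natCast]
      exact mul_mem (zpow_mem hk _) (zpow_mem hgb _)
    rwa [Nat.Coprime.gcd_eq_one hcop, Nat.cast_one, zpow_one] at h1
  -- free action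
  have hfree : ∀ g ∈ T, ∀ x ∈ P, x ≠ 1 → g * x * g⁻¹ = x → g ∈ C := by
    intro g hg x hx hx1 hgx
    obtain ⟨n, hn⟩ := hPp.exists_card_eq
    have hgN := Subgroup.mem_normalizer_iff.1 ((hT g).1 hg).1
    let σ : P →* P :=
      { toFun := fun u => ⟨g * u * g⁻¹, (hgN u).1 u.2⟩
        map_one' := Subtype.ext (by simp)
        map_mul' := fun u v => Subtype.ext (by simp [mul_assoc]) }
    obtain ⟨r, hr⟩ := MonoidHom.map_cyclic σ
    have hr' : ∀ u ∈ P, g * u * g⁻¹ = u ^ r := fun u hu =>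
      congrArg Subtype.val (hr ⟨u, hu⟩)
    have hm : ∀ (m : ℕ), ∀ u ∈ P, g ^ m * u * (g ^ m)⁻¹ = u ^ (r ^ m) := by
      intro m
      induction m with
      | zero => intro u hu; simp
      | succ m ih =>
        intro u hu
        calc g ^ (m + 1) * u * (g ^ (m + 1))⁻¹ = g * (g ^ m * u * (g ^ m)⁻¹) * g⁻¹ := by
              rw [pow_succ']; group
          _ = g * u ^ (r ^ m) * g⁻¹ := by rw [ih u hu]
          _ = (g * u * g⁻¹) ^ (r ^ m) := (conj_zpow).symm
          _ = u ^ (r ^ (m + 1)) := by rw [hr' u hu, ← zpow_mul, pow_succ']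
    refine hp' g hg n (Subgroup.mem_centralizer_iff.2 fun u hu => ?_)
    have hxr : x ^ r = x := (hr' x hx).symm.trans hgx
    have hd : (orderOf x : ℤ) ∣ r - 1 := by
      rw [orderOf_dvd_iff_zpow_eq_one, zpow_sub, hxr, zpow_one, mul_inv_cancel]
    have hpx : p ∣ orderOf x := by
      obtain ⟨k, hk⟩ := IsPGroup.iff_orderOf.1 hPp ⟨x, hx⟩
      rw [Subgroup.orderOf_mk] at hk
      rw [hk]
      exact dvd_pow_self p fun h => hx1 (orderOf_eq_one_iff.1 (by rw [hk, h, pow_zero]))
    have h1 : (p : ℤ) ∣ r - 1 := (Int.natCast_dvd_natCast.2 hpx).trans hd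
    have h2 : ((p ^ n : ℕ) : ℤ) ∣ r ^ p ^ n - 1 := by
      have := dvd_sub_pow_of_dvd_sub h1 n
      rw [one_pow] at this
      push_cast
      exact dvd_trans (pow_dvd_pow _ n.le_succ) this
    have h3 : u ^ (r ^ p ^ n - 1) = 1 := by
      rw [← orderOf_dvd_iff_zpow_eq_one]
      refine (Int.natCast_dvd_natCast.2 ?_).trans h2
      rw [← hn]
      exact Subgroup.orderOf_dvd_natCard _ hu
    have h4 : g ^ p ^ n * u * (g ^ p ^ n)⁻¹ = u := by
      rw [hm _ u hu, ← mul_inv_eq_one]
      rwa [zpow_sub, zpow_one] at h3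
    exact (mul_inv_eq_iff_eq_mul.1 h4).symm
  -- the action on the subgroup of order `p`
  obtain ⟨y, hy, hyo⟩ : ∃ y ∈ P, orderOf y = p := by
    obtain ⟨n, hn⟩ := hPp.exists_card_eq
    have hn0 : n ≠ 0 := fun h => hP1 (Subgroup.card_eq_one.1 (by rw [hn, h, pow_zero]))
    obtain ⟨y, hy⟩ := exists_prime_orderOf_dvd_card' (G := P) p (hn ▸ dvd_pow_self p hn0)
    exact ⟨y, y.2, (Subgroup.orderOf_coe y).trans hy⟩
  have hy1 : y ≠ 1 := fun h => (Fact.out : p.Prime).ne_one (by rw [← hyo, h, orderOf_one])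
  have hTy : T ≤ Subgroup.normalizer (Subgroup.zpowers y : Set G) := by
    have key : ∀ g ∈ T, ∀ u ∈ Subgroup.zpowers y, g * u * g⁻¹ ∈ Subgroup.zpowers y := by
      rintro g hg u ⟨i, rfl⟩
      have hgN := Subgroup.mem_normalizer_iff.1 ((hT g).1 hg).1
      let σ : P →* P :=
        { toFun := fun u => ⟨g * u * g⁻¹, (hgN u).1 u.2⟩
          map_one' := Subtype.ext (by simp)
          map_mul' := fun u v => Subtype.ext (by simp [mul_assoc]) }
      obtain ⟨r, hr⟩ := MonoidHom.map_cyclic σ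
      have : g * y * g⁻¹ = y ^ r := congrArg Subtype.val (hr ⟨y, hy⟩)
      show g * y ^ i * g⁻¹ ∈ _
      rw [← conj_zpow, this, ← zpow_mul]
      exact Subgroup.zpow_mem_zpowers y _
    intro g hg
    refine Subgroup.mem_normalizer_iff.2 fun u => ⟨key g hg u, fun h => ?_⟩
    simpa [mul_assoc] using key g⁻¹ (inv_mem hg) _ h
  let Θ : T →* MulAut (Subgroup.zpowers y) :=
    (Subgroup.zpowers y).normalizerMonoidHom.comp (Subgroup.inclusion hTy)
  have hker : Θ.ker = C.subgroupOf T := by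
    rw [← MonoidHom.comap_ker, Subgroup.normalizerMonoidHom_ker]
    ext g
    simp only [Subgroup.mem_comap, Subgroup.mem_subgroupOf, Subgroup.coe_inclusion]
    constructor
    · intro h
      refine hfree g g.2 y hy hy1 ?_
      rw [mul_inv_eq_iff_eq_mul]
      exact (Subgroup.mem_centralizer_iff.1 h y (Subgroup.mem_zpowers y)).symm
    · exact fun h => Subgroup.centralizer_le (SetLike.coe_subset_coe.2
        (Subgroup.zpowers_le.2 hy)) h
  have hZ : IsCyclic (MulAut (Subgroup.zpowers y)) ∧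
      Nat.card (MulAut (Subgroup.zpowers y)) = p - 1 := by
    have hcard : Nat.card (Subgroup.zpowers y) = p := (Nat.card_zpowers y).trans hyo
    refine ⟨?_, by rw [IsCyclic.card_mulAut, hcard, Nat.totient_prime Fact.out]⟩
    have e := IsCyclic.mulAutMulEquiv (Subgroup.zpowers y)
    rw [hcard] at e
    exact isCyclic_of_injective e.toMonoidHom e.injective
  have := hZ.1
  let e : T ⧸ C.subgroupOf T ≃* Θ.range :=
    (QuotientGroup.quotientMulEquivOfEq hker.symm).trans (QuotientGroup.quotientKerEquivRange Θ)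
  refine ⟨isCyclic_of_injective (Θ.range.subtype.comp e.toMonoidHom)
    (Subtype.val_injective.comp e.injective), ?_, hfree⟩
  rw [Subgroup.relIndex, Subgroup.index_eq_card, Nat.card_congr e.toEquiv, ← hZ.2]
  exact Subgroup.card_subgroup_dvd_card _

end Cfsg.Agent.S4633
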