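import Cfsg.Statements.S4682
import Cfsg.Agent.Lib.Pairs.Nilpotent
-- import your own Cfsg.Agent.* helpers here

set_option autoImplicit false
open Cfsg

namespace Cfsg.Agent.S4682

/-- Fix a prime p and a maximal ideal M of the algebraic integers containing p, a p-block B of the finite group G with maximal Brauer pair (P, e), P abelian, and a Brauer pair (Q, f) ≤ (P, e). Let T_Q be the stabilizer of f in N_G(Q) and T_P the stabilizer of e in N_G(P). Then every element of T_Q is a product of an element of T_P and an element of C_G(Q); and the index of C_G(Q) in T_Q equals the index of T_P ∩ C_G(Q) in T_P ∩ N_G(Q). -/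
theorem result {G : Type*} [Group G] [Fintype G] (p : ℕ) [Fact p.Prime] (M : Ideal Cfsg.AlgInt) (hM : Cfsg.IsPModular p M) (B : Set (Cfsg.IrrCharacter G)) (P : Subgroup G) (e : Set (Cfsg.IrrCharacter (Subgroup.centralizer (P : Set G)))) (hmax : Cfsg.IsMaximalBrauerPair p M B P e) (hab : ∀ x ∈ P, ∀ y ∈ P, x * y = y * x) (Q : Subgroup G) (f : Set (Cfsg.IrrCharacter (Subgroup.centralizer (Q : Set G)))) (hQP : Q ≤ P) (hf : Cfsg.IsPBlock M f) (hle : Cfsg.SubpairLE p M Q f P e) (TQ : Subgroup G) (hTQ : ∀ y : G, y ∈ TQ ↔ y ∈ Subgroup.normalizer (Q : Set G) ∧ Cfsg.StabilizesBlock (Subgroup.centralizer (Q : Set G)) f y) (TP : Subgroup G) (hTP : ∀ y : G, y ∈ TP ↔ y ∈ Subgroup.normalizer (P : Set G) ∧ Cfsg.StabilizesBlock (Subgroup.centralizer (P : Set G)) e y) : (∀ x ∈ TQ, ∃ y ∈ TP, ∃ c ∈ Subgroup.centralizer (Q : Set G), x = y * c) ∧ ((Subgroup.centralizer (Q : Set G)).subgroupOf TQ).index = ((TP ⊓ Subgroup.centralizer (Q : Set G)).subgroupOf (TP ⊓ Subgroup.normalizer (Q : Set G))).index :=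 by
  have := hM.2.1.isPrime
  obtain rfl := CfsgLib.Pairs.eq_pairStab hTQ
  obtain rfl := CfsgLib.Pairs.eq_pairStab hTP
  set TQ := CfsgLib.Pairs.pairStab Q f
  set TP := CfsgLib.Pairs.pairStab P e
  have hF := CfsgLib.Pairs.isBlockFusionSystemOn_blockFusion hM hmax
  have hfac : ∀ x ∈ TQ, ∃ y ∈ TP ⊓ Subgroup.normalizer (Q : Set G),
      ∃ c ∈ Subgroup.centralizer (Q : Set G), x = y * c := fun x hx =>
    CfsgLib.Pairs.exists_factor_of_abelian hF hM hab hle hx
  refine ⟨fun x hx => ?_, ?_⟩
  · obtain ⟨y, hy, c, hc, h⟩ := hfac x hx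
    exact ⟨y, hy.1, c, hc, h⟩
  · set A := TP ⊓ Subgroup.normalizer (Q : Set G) with hA
    have hAT : A ≤ TQ := CfsgLib.Pairs.inf_normalizer_le_pairStab hF hM hle
    have hCT : (Subgroup.centralizer (Q : Set G)) ≤ TQ := CfsgLib.Pairs.centralizer_le_pairStab Q f
    have hAC : A ≤ Subgroup.normalizer ((Subgroup.centralizer (Q : Set G)) : Set G) :=
      inf_le_right.trans (CfsgLib.Pairs.normalizer_le_normalizer_centralizer Q)
    have hsup : A ⊔ (Subgroup.centralizer (Q : Set G)) = TQ := by
      refine le_antisymm (sup_le hAT hCT) fun x hx => ?_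
      obtain ⟨y, hy, c, hc, rfl⟩ := hfac x hx
      exact mul_mem (Subgroup.mem_sup_left hy) (Subgroup.mem_sup_right hc)
    have hinf : TP ⊓ (Subgroup.centralizer (Q : Set G)) = (Subgroup.centralizer (Q : Set G)) ⊓ A := by
      rw [hA]
      refine le_antisymm (le_inf inf_le_right (le_inf inf_le_left (inf_le_right.trans
        (Subgroup.centralizer_le_normalizer _)))) (le_inf (inf_le_right.trans inf_le_left) inf_le_left)
    rw [← hsup, hinf, Subgroup.inf_subgroupOf_right]
    set D := Subgroup.centralizer (Q : Set G) with hD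
    show (D.subgroupOf (A ⊔ D)).index = D.relIndex A
    have : (D.subgroupOf (A ⊔ D)).Normal :=
      (Subgroup.normal_subgroupOf_iff_le_normalizer le_sup_right).2
        (sup_le hAC Subgroup.le_normalizer)
    rw [← Subgroup.relIndex_top_right, ← Subgroup.subgroupOf_self (A ⊔ D),
      Subgroup.subgroupOf_sup le_sup_left le_sup_right, Subgroup.relIndex_sup_right,
      Subgroup.relIndex_subgroupOf le_sup_left]

end Cfsg.Agent.S4682
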