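import Cfsg.Statements.S4689
import Cfsg.Agent.Lib.Blocks.Star.Nilpotent

set_option autoImplicit false
open Cfsg CfsgLib.Blocks

namespace Cfsg.Agent.S4689

/-- Fix a prime p and a maximal ideal M of the algebraic integers containing p, and a nilpotent p-block B of the finite group G. Then B has p-regular rank one (a single irreducible Brauer character), and some χ₀ ∈ B restricts to that Brauer character: every χ ∈ B agrees on the p-regular elements with a natural-number multiple of χ₀. -/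
theorem result {G : Type*} [Group G] [Fintype G] (p : ℕ) [Fact p.Prime] (M : Ideal Cfsg.AlgInt) (hM : Cfsg.IsPModular p M) (B : Set (Cfsg.IrrCharacter G)) (hnil : Cfsg.IsNilpotentBlock p M B) : Cfsg.blockRank p B = 1 ∧ ∃ χ₀ ∈ B, ∀ χ ∈ B, ∃ d : ℕ, ∀ x : G, Cfsg.pRegularPart p (χ : G → ℂ) x = (d : ℂ) * Cfsg.pRegularPart p (χ₀ : G → ℂ) x := by
  have := hM.2.1.isPrime
  have hB := hnil.1
  obtain ⟨P, hP⟩ := exists_isDefectGroup (p := p) (M := M) hB
  obtain ⟨χ, hχ, Φ, -, hΦ⟩ := CfsgLib.Star.exists_param_of_nilpotent hM hnil hP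
  have hreg : ∀ ψ ∈ B, ∃ d : ℕ, ∀ x : G,
      pRegularPart p (ψ : G → ℂ) x = (d : ℂ) * pRegularPart p (χ : G → ℂ) x := by
    intro ψ hψ
    obtain ⟨η, hη⟩ := Φ.surjective ⟨ψ, hψ⟩
    obtain ⟨n, -, hn⟩ := CfsgLib.Char.IsIrr.exists_degree η.2
    refine ⟨n, fun x => ?_⟩
    unfold pRegularPart IsPRegular
    by_cases hx : p ∣ orderOf x
    · simp only [hx, not_true_eq_false, if_false, mul_zero]
    · have h := hΦ η x hx
      rw [hη, hn] at h
      simpa only [hx, not_false_eq_true, if_true] using h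
  refine ⟨?_, χ, hχ, hreg⟩
  have hspan : Submodule.span ℂ ((fun ψ : IrrCharacter G => pRegularPart p (ψ : G → ℂ)) '' B) =
      Submodule.span ℂ {pRegularPart p (χ : G → ℂ)} := by
    refine le_antisymm (Submodule.span_le.2 ?_) (Submodule.span_mono (by
      rintro _ rfl
      exact ⟨χ, hχ, rfl⟩))
    rintro _ ⟨ψ, hψ, rfl⟩
    obtain ⟨d, hd⟩ := hreg ψ hψ
    exact Submodule.mem_span_singleton.2 ⟨(d : ℂ), funext fun x => (hd x).symm⟩
  rw [blockRank, hspan, finrank_span_singleton]
  intro h0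
  have h1 := congrFun h0 1
  unfold pRegularPart IsPRegular at h1
  rw [if_pos (by simpa using hM.1.ne_one)] at h1
  exact CfsgLib.Char.IsIrr.apply_one_ne_zero χ.2 h1

end Cfsg.Agent.S4689
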