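import Cfsg.Statements.S4645
import Cfsg.Agent.Lib.Blocks.Cyclic.Setup
import Cfsg.Agent.S4650
import Cfsg.Agent.S4682
import Cfsg.Agent.S4689
-- import your own Cfsg.Agent.* helpers here

set_option autoImplicit false
open Cfsg

namespace Cfsg.Agent.S4645

/-- Let B be a block of the finite group G relative to a maximal ideal M of the algebraic integers containing the prime p, with a nontrivial cyclic defect group P; let c be a block of C_G(P) inducing B and T the stabilizer of c in N_G(P). Let Q be a nontrivial subgroup of P (so C_G(P) ≤ C_G(Q)), f the block of C_G(Q) induced by c inside C_G(Q), and T' the stabilizer of f in N_G(Q). Then T' = T·C_G(Q), the index of C_G(Q) in T' equals the index of C_G(P) in T, f has p-regular rank 1, and f is a nilpotent block of C_G(Q). -/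
theorem result {G : Type*} [Group G] [Finite G] (p : ℕ) [Fact p.Prime] (M : Ideal Cfsg.AlgInt) (hM : Cfsg.IsPModular p M) (B : Set (Cfsg.IrrCharacter G)) (hB : Cfsg.IsPBlock M B) (P : Subgroup G) (hPD : Cfsg.IsDefectGroup p M B P) (hP1 : P ≠ ⊥) (hcyc : IsCyclic P) (c : Set (Cfsg.IrrCharacter (Subgroup.centralizer (P : Set G)))) (hc : Cfsg.IsInducedBlock M (Subgroup.centralizer (P : Set G)) c B) (T : Subgroup G) (hT : ∀ g : G, g ∈ T ↔ (g ∈ Subgroup.normalizer (P : Set G) ∧ Cfsg.StabilizesBlock (Subgroup.centralizer (P : Set G)) c g)) (Q : Subgroup G) (hQP : Q ≤ P) (hQ1 : Q ≠ ⊥) (f : Set (Cfsg.IrrCharacter (Subgroup.centralizer (Q : Set G)))) (hf : Cfsg.IsInducedBlockIn M (Subgroup.centralizer (Q : Set G)) (Subgroup.centralizer (P : Set G)) c f) (T' : Subgroup G) (hT' : ∀ g : G, g ∈ T' ↔ (g ∈ Subgroup.normalizer (Q : Set G) ∧ Cfsg.StabilizesBlock (Subgroup.centralizer (Q : Set G)) f g)) : T' = T ⊔ Subgroup.centralizer (Q : Set G) ∧ (Subgroup.centralizer (Q : Set G)).relIndex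 T' = (Subgroup.centralizer (P : Set G)).relIndex T ∧ Cfsg.blockRank p f = 1 ∧ Cfsg.IsNilpotentBlock p M f := by
  have := hM.2.1.isPrime
  have : Fintype G := Fintype.ofFinite G
  classical
  have h : CfsgLib.Blocks.Cyclic.Setup p M B P c := ⟨hM, hB, hPD, hP1, hcyc, hc⟩
  obtain ⟨hfB, hle⟩ := h.subpairLE_of_inducedIn hQP hf
  have hmax := h.isMaximal
  obtain ⟨hfac, hidx⟩ := S4682.result p M hM B P c hmax h.comm Q f hQP hfB hle T' hT' T hT
  have hnil : IsNilpotentBlock p M f := (S4650.result p M hM B hB P hPD h.comm hP1 c hc T hT).1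
    (fun g hg x hx hx1 hgx => h.free.2 g (by rw [← CfsgLib.Pairs.eq_pairStab hT]; exact hg) x hx hx1
      hgx) Q hQP hQ1 f hf
  obtain rfl := CfsgLib.Pairs.eq_pairStab hT
  obtain rfl := CfsgLib.Pairs.eq_pairStab hT'
  have hTN : CfsgLib.Pairs.pairStab P c ≤ Subgroup.normalizer (Q : Set G) :=
    (CfsgLib.Pairs.pairStab_le_normalizer P c).trans (h.normalizer_le hQP)
  have hT1 : CfsgLib.Pairs.pairStab P c ≤ CfsgLib.Pairs.pairStab Q f := fun x hx =>
    CfsgLib.Pairs.inf_normalizer_le_pairStab (CfsgLib.Pairs.isBlockFusionSystemOn_blockFusion hM hmax)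
      hM hle ⟨hx, hTN hx⟩
  have hC : CfsgLib.Pairs.pairStab P c ⊓ Subgroup.centralizer (Q : Set G) =
      Subgroup.centralizer (P : Set G) := by
    refine le_antisymm (fun g hg => ?_) (le_inf (CfsgLib.Pairs.centralizer_le_pairStab P c)
      (Subgroup.centralizer_le hQP))
    obtain ⟨x, hx, hx1⟩ := Q.bot_or_exists_ne_one.resolve_left hQ1
    refine h.free.2 g hg.1 x (hQP hx) hx1 ?_
    rw [← Subgroup.mem_centralizer_iff.1 hg.2 x hx, mul_inv_cancel_right]
  rw [inf_eq_left.2 hTN, hC] at hidx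
  refine ⟨le_antisymm (fun x hx => ?_) (sup_le hT1 (CfsgLib.Pairs.centralizer_le_pairStab Q f)),
    hidx, (S4689.result p M hM f hnil).1, hnil⟩
  obtain ⟨y, hy, z, hz, rfl⟩ := hfac x hx
  exact mul_mem (Subgroup.mem_sup_left hy) (Subgroup.mem_sup_right hz)

end Cfsg.Agent.S4645
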