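import Cfsg.Statements.S0956
import Cfsg.Agent.Lib.Blocks.Green

set_option autoImplicit false
open Cfsg

namespace Cfsg.Agent.S0956

/-- Let D be a defect group of a block of the finite group G (relative to a maximal ideal M of the algebraic integers containing the prime p) and P a Sylow p-subgroup containing D. Then there is an element x of order prime to p such that D is a Sylow p-subgroup of the centralizer of x and D = P ∩ x P x⁻¹. -/
theorem result {G : Type*} [Group G] [Finite G] (p : ℕ) [Fact p.Prime] (M : Ideal Cfsg.AlgInt) (hM : Cfsg.IsPModular p M) (B : Set (Cfsg.IrrCharacter G)) (hB : Cfsg.IsPBlock M B) (D : Subgroup G) (hD : Cfsg.IsDefectGroup p M B D) (P : Sylow p G) (hDP : D ≤ P) : ∃ x : G, ¬ p ∣ orderOf x ∧ (∃ S : Sylow p (Subgroup.centralizer ({x} : Set G)), (S : Subgroup (Subgroup.centralizer ({x} : Set G))).map (Subgroup.centralizer ({x} : Set G)).subtype = D) ∧ (P : Subgroup G) ⊓ (P : Subgroup G).map (MulAut.conj x).toMonoidHom = D := by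
  classical
  haveI := hM.2.1.isPrime
  have := Fintype.ofFinite G
  obtain ⟨y, hyC, hy, hI⟩ := CfsgLib.Blocks.exists_sylow_intersection hM hB hD P.isPGroup' hDP
  have hle := CfsgLib.Blocks.mem_centralizer_iff_le.1 hyC
  refine ⟨y, ?_, ?_, hI⟩
  · intro hd
    refine hy ?_
    rw [CfsgLib.Blocks.coeff_blockIdemBar_eq_zero_iff hB, blockCoeff,
      finsum_mem_eq_finite_toFinset_sum _ (Set.toFinite B),
      Finset.sum_congr rfl fun χ _ => by rw [← CfsgLib.Char.IsIrr.map_inv χ.2],
      ← finsum_mem_eq_finite_toFinset_sum _ (Set.toFinite B),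
      CfsgLib.Blocks.sum_block_regular_singular hM hB (by simp [hM.1.ne_one])
        (by rwa [orderOf_inv]), mul_zero]
    exact ⟨0, 1, M.zero_mem, CfsgLib.Blocks.one_notMem, by simp⟩
  · obtain ⟨T, hDT, hT, hTp, hTs⟩ := CfsgLib.Fusion.exists_isSylowIn_ge hle
      (CfsgLib.Blocks.IsDefectGroup.isPGroup hD)
    obtain ⟨S, hS⟩ := hTs
    refine ⟨S, ?_⟩
    rw [hS, Subgroup.map_subgroupOf_eq_of_le hT]
    exact (Subgroup.eq_of_le_of_card_ge hDT (Nat.le_of_dvd Nat.card_pos
      (CfsgLib.Blocks.IsDefectGroup.defLE_of_coeff_ne_zero hM hB hD hy T hTp hT).card_dvd)).symm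

end Cfsg.Agent.S0956
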