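import Cfsg.Statements.S4428
import Cfsg.Agent.Lib.Blocks.HeightZero
import Cfsg.Agent.Lib.Blocks.SubsectionNorms

set_option autoImplicit false
open Cfsg CfsgLib.Blocks
open scoped Classical

namespace Cfsg.Agent.S4428

/-- Let χ be an irreducible character of height zero in the p-block B of the finite group G (relative to a maximal ideal M of the algebraic integers containing p). Let x be a p-element of G with centralizer C, and let b be a block of C that induces B. Form the class function ϑ(c) = χ(x c) on C and its b-part (the sum over ψ ∈ b of the inner product of ϑ with ψ, times ψ). Then the b-part of ϑ does not vanish identically on the p-regular elements of C. (Compare the second main Theorem, which gives vanishing when b does not induce B.) -/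
theorem result {G : Type*} [Group G] [Finite G] (p : ℕ) [Fact p.Prime] (M : Ideal Cfsg.AlgInt) (hM : Cfsg.IsPModular p M) (B : Set (Cfsg.IrrCharacter G)) (hB : Cfsg.IsPBlock M B) (χ : Cfsg.IrrCharacter G) (hχ : χ ∈ B) (h0 : Cfsg.blockHeight p B (χ : G → ℂ) = 0) (x : G) (hx : ∃ k : ℕ, orderOf x = p ^ k) (b : Set (Cfsg.IrrCharacter (Subgroup.centralizer ({x} : Set G)))) (hb : Cfsg.IsInducedBlock M (Subgroup.centralizer ({x} : Set G)) b B) : ∃ y : Subgroup.centralizer ({x} : Set G), ¬ p ∣ orderOf y ∧ Cfsg.blockPart b (fun c : Subgroup.centralizer ({x} : Set G) => (χ : G → ℂ) (x * (c : G))) y ≠ 0 := by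
  haveI : M.IsPrime := hM.2.1.isPrime
  have := Fintype.ofFinite G
  obtain ⟨hbb, -, hall⟩ := isInducedBlock_iff.1 hb
  obtain ⟨ξ, hξ, hξ0⟩ := exists_height_zero (p := p) (IsPBlock.nonempty hbb)
  obtain ⟨c, hc⟩ := exists_blockEval_regElt hM hbb hξ
  have hc0 : c ≠ 0 := by
    obtain ⟨z, hz, hres⟩ := hc _ (CfsgLib.Char.IsIrr.isClassFunction ξ.2)
      (CfsgLib.Char.IsChar.isIntegral (CfsgLib.Char.IsIrr.isCharacter ξ.2))
    rw [finsum_classInner_irr hξ] at hz
    intro e
    exact residue_ne_zero_of_height_zero hM hξ hξ0 hz (by rw [hres, e, zero_mul])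
  have hi := fun w => CfsgLib.Char.IsChar.isIntegral (CfsgLib.Char.IsIrr.isCharacter χ.2) w
  have hθ := isClassFunction_apply_mul (x := x) (CfsgLib.Char.IsIrr.isClassFunction χ.2)
  obtain ⟨z, hz, hres⟩ := hc (fun w => (χ : G → ℂ) (x * (w : G))) hθ fun w => hi _
  refine ⟨1, by simp [hM.1.ne_one], ?_⟩
  rw [blockPart_eq]
  intro hv
  rw [hv, mul_eq_zero, or_iff_left (pow_ne_zero _ (Nat.cast_ne_zero.2 hM.1.ne_zero))] at hz
  have hz0 : z = 0 := Subtype.ext hz
  have heq : red M (regElt (p := p) (fun w : Subgroup.centralizer ({x} : Set G) =>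
      (χ : G → ℂ) (x * (w : G))) fun w => hi _) =
      resElt (Subgroup.centralizer ({x} : Set G)) (red M (regElt (p := p) (χ : G → ℂ) hi)) := by
    rw [resElt_red_regElt]
    refine MonoidAlgebra.ext (Finsupp.ext fun w => ?_)
    rw [coeff_red, coeff_red]
    refine residue_eq_iff.2 ?_
    rw [coeff_regElt, coeff_regElt]
    split_ifs
    · rw [sub_self]
      exact ⟨0, 1, M.zero_mem, one_notMem, by simp⟩
    · exact apply_mul_congr hM χ (mem_centralizer_singleton.1 (inv_mem w.2)).symm hx
  rw [hz0, map_zero, heq, hall ξ hξ χ hχ _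
    (isCentralElt_red (isCentralElt_regElt (CfsgLib.Char.IsIrr.isClassFunction χ.2) hi))] at hres
  exact mul_ne_zero hc0 (omegaBar_regElt_ne_zero hM hB hχ h0) hres.symm

end Cfsg.Agent.S4428
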