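import Cfsg.Statements.S4511
import Cfsg.Agent.Lib.Blocks.SubsectionNorms

set_option autoImplicit false
open Cfsg CfsgLib.Blocks
open scoped ComplexConjugate Classical

namespace Cfsg.Agent.S4511

/-- Brauer's count of the irreducible characters in a block by subsections. Let M be a maximal ideal of the algebraic integers containing the prime p, B a p-block of the finite group G, and X a set of representatives of the conjugacy classes of p-elements of G (elements of p-power order, the identity included: every p-element is conjugate to exactly one member of X). Then the number of irreducible characters in B is the sum, over x ∈ X and over the blocks b of C_G(x) that induce B, of the p-regular rank of b (the number of irreducible Brauer characters of b, here the dimension of the span of the restrictions of the members of b to the p-regular elements of C_G(x)). -/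
theorem result {G : Type*} [Group G] [Finite G] (p : ℕ) (M : Ideal Cfsg.AlgInt) (hM : Cfsg.IsPModular p M)
    (B : Set (Cfsg.IrrCharacter G)) (hB : Cfsg.IsPBlock M B) (X : Finset G)
    (hX : ∀ x ∈ X, ∃ k : ℕ, orderOf x = p ^ k)
    (hXrep : ∀ g : G, (∃ k : ℕ, orderOf g = p ^ k) → ∃! x, x ∈ X ∧ IsConj g x) :
    Nat.card B = ∑ x ∈ X, ∑ᶠ b ∈ {b : Set (Cfsg.IrrCharacter ↥(Subgroup.centralizer ({x} : Set G))) | Cfsg.IsInducedBlock M (Subgroup.centralizer ({x} : Set G)) b B},
      Cfsg.blockRank p b := by
  haveI : M.IsPrime := hM.2.1.isPrime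
  haveI : Fact p.Prime := ⟨hM.1⟩
  have := Fintype.ofFinite G
  have hp := hM.1
  let f : G → ℂ := fun g => ∑ χ ∈ (Set.toFinite B).toFinset, (χ : G → ℂ) g * conj ((χ : G → ℂ) g)
  have hf : IsClassFunction G f := fun g h => Finset.sum_congr rfl fun χ _ => by
    rw [CfsgLib.Char.IsIrr.isClassFunction χ.2 g h]
  have htot : ∑ g, f g = (Nat.card G : ℂ) * (Nat.card B : ℂ) := by
    rw [Finset.sum_comm]
    have h1 : ∀ χ : IrrCharacter G, ∑ g, (χ : G → ℂ) g * conj ((χ : G → ℂ) g) = (Nat.card G : ℂ) := by
      intro χ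
      have h := CfsgLib.Char.classInner_irr_self χ
      rw [classInner, inv_mul_eq_one₀ (Nat.cast_ne_zero.2 Nat.card_pos.ne')] at h
      exact h.symm
    rw [Finset.sum_congr rfl fun χ _ => h1 χ, Finset.sum_const, nsmul_eq_mul, mul_comm,
      Nat.card_coe_set_eq, Set.ncard_eq_toFinset_card B (Set.toFinite B)]
  have hsplit : ∑ g, f g = ∑ x ∈ X,
      ∑ g ∈ Finset.univ.filter (fun g : G => ∃ u, IsPPart p g u ∧ IsConj u x), f g := by
    rw [← Finset.sum_biUnion]
    · refine (Finset.sum_congr ?_ fun _ _ => rfl).symm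
      ext g
      simp only [Finset.mem_biUnion, Finset.mem_filter, Finset.mem_univ, true_and, iff_true]
      obtain ⟨u, hu⟩ := exists_pPart hp g
      obtain ⟨m, hm, hgm, hk⟩ := IsPPart.exists_exponent hp hu
      obtain ⟨x, ⟨hxX, hux⟩, -⟩ := hXrep u hk
      exact ⟨x, hxX, u, hu, hux⟩
    · intro x hx x' hx' hne
      refine Finset.disjoint_left.2 fun g hg hg' => hne ?_
      obtain ⟨u, hu, hux⟩ := (Finset.mem_filter.1 hg).2
      obtain ⟨u', hu', hux'⟩ := (Finset.mem_filter.1 hg').2
      have he : u = u' := by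
        have := conj_pPart_eq hp hu hu' (x := 1) (j := 1) (by simpa using hp.ne_one) (by simp)
        simpa using this
      subst he
      obtain ⟨m, hm, hgm, hk⟩ := IsPPart.exists_exponent hp hu
      exact (hXrep u hk).unique ⟨hx, hux⟩ ⟨hx', hux'⟩
  have hsec : ∀ x ∈ X, ∑ g ∈ Finset.univ.filter (fun g : G => ∃ u, IsPPart p g u ∧ IsConj u x), f g =
      (Nat.card G : ℂ) * ((∑ᶠ b ∈ {b : Set (Cfsg.IrrCharacter ↥(Subgroup.centralizer ({x} : Set G))) |
        Cfsg.IsInducedBlock M (Subgroup.centralizer ({x} : Set G)) b B}, blockRank p b : ℕ) : ℂ) := by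
    intro x hxX
    have hx := hX x hxX
    have := Fintype.ofFinite (IrrCharacter ↥(Subgroup.centralizer ({x} : Set G)))
    refine mul_left_cancel₀ (Nat.cast_ne_zero.2 (Nat.card_pos (α := Subgroup.centralizer ({x} : Set G))).ne')
      ((sum_section hx hf).trans ?_)
    rw [mul_left_comm (Nat.card (Subgroup.centralizer ({x} : Set G)) : ℂ)]
    congr 1
    set S := ((Finset.univ.image
      fun ψ : IrrCharacter ↥(Subgroup.centralizer ({x} : Set G)) =>
        blockOf M (ψ : Subgroup.centralizer ({x} : Set G) → ℂ)).filter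
          fun b => IsInducedBlock M (Subgroup.centralizer ({x} : Set G)) b B) with hS
    have hSmem : ∀ b, b ∈ S ↔ IsInducedBlock M (Subgroup.centralizer ({x} : Set G)) b B := by
      intro b
      simp only [hS, Finset.mem_filter, Finset.mem_image, Finset.mem_univ, true_and, and_iff_right_iff_imp]
      intro hb
      obtain ⟨ψ, hψ⟩ := (isInducedBlock_iff.1 hb).1
      exact ⟨ψ, hψ.symm⟩
    rw [finsum_mem_eq_sum_of_inter_support_eq _ (t := S) (by ext b; simp [hSmem]), Nat.cast_sum,
      Finset.mul_sum]
    simp only [f]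
    rw [Finset.sum_comm]
    have hexp : ∀ χ ∈ (Set.toFinite B).toFinset,
        ∑ y ∈ Finset.univ.filter (fun y : Subgroup.centralizer ({x} : Set G) => ¬ p ∣ orderOf y),
          (χ : G → ℂ) (x * (y : G)) * conj ((χ : G → ℂ) (x * (y : G))) =
        ∑ b ∈ S, ∑ y ∈ Finset.univ.filter (fun y : Subgroup.centralizer ({x} : Set G) => ¬ p ∣ orderOf y),
          blockPart b (fun c : Subgroup.centralizer ({x} : Set G) => (χ : G → ℂ) (x * (c : G))) y *
          conj (blockPart b
            (fun c : Subgroup.centralizer ({x} : Set G) => (χ : G → ℂ) (x * (c : G))) y) := by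
      intro χ hχ
      rw [Finset.sum_congr rfl fun y hy => by
        rw [apply_mul_eq_sum_blockPart hM hx hB ((Set.Finite.mem_toFinset _).1 hχ)
          (Finset.mem_filter.1 hy).2, ← hS, map_sum, Finset.sum_mul_sum], Finset.sum_comm]
      refine Finset.sum_congr rfl fun b hb => ?_
      rw [Finset.sum_comm, Finset.sum_eq_single b (fun b' hb' hne =>
        sum_regular_blockPart_mul_eq_zero hM (isInducedBlock_iff.1 ((hSmem b).1 hb)).1
          (isInducedBlock_iff.1 ((hSmem b').1 hb')).1 hne.symm _ _) (fun h => absurd hb h)]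
    rw [Finset.sum_congr rfl hexp, Finset.sum_comm]
    refine Finset.sum_congr rfl fun b hb => ?_
    rw [← finsum_mem_eq_finite_toFinset_sum _ (Set.toFinite B)]
    exact sum_block_blockPart_norm hM hx ((hSmem b).1 hb)
  have h := hsplit.symm.trans htot
  rw [Finset.sum_congr rfl hsec, ← Finset.mul_sum] at h
  exact_mod_cast (mul_left_cancel₀ (Nat.cast_ne_zero.2 Nat.card_pos.ne') h).symm

end Cfsg.Agent.S4511
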