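import Cfsg.Statements.S0887
import Cfsg.Agent.Lib.Char.DegreeRatio

set_option autoImplicit false
open Cfsg

namespace Cfsg.Agent.S0887

/-- Let N be a normal subgroup of the finite group G, χ an irreducible character of G and ϑ an irreducible character of N having nonzero inner product with the restriction of χ. If χ 1 = c and ϑ 1 = d as natural numbers, then d divides c and c / d divides the index of N. -/
theorem result {G : Type*} [Group G] [Fintype G] (N : Subgroup G) [N.Normal] [Fintype N] (χ : G → ℂ) (hχ : Cfsg.IsIrrCharacter G χ) (ϑ : N → ℂ) (hϑ : Cfsg.IsIrrCharacter N ϑ) (hcon : Cfsg.classInner (fun n : N => χ n) ϑ ≠ 0) (c d : ℕ) (hc : χ 1 = c) (hd : ϑ 1 = d) : d ∣ c ∧ c / d ∣ N.index := by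
  classical
  have hN : N.Normal := inferInstance
  set T := CfsgLib.Clifford.inertia hN ϑ with hTdef
  have hT : ∀ g, g ∈ T ↔ CfsgLib.Clifford.conjFn hN ϑ g = ϑ := fun g =>
    CfsgLib.Clifford.mem_inertia
  have hle : N ≤ T := CfsgLib.Clifford.le_inertia hN (CfsgLib.Char.IsIrr.isClassFunction hϑ)
  obtain ⟨ψ, hψ, hψc, -, hind⟩ :=
    CfsgLib.Clifford.exists_over_inertia hN hϑ hT hle ⟨χ, hχ⟩ hcon
  have hres := CfsgLib.Clifford.resTo_eq_smul hN hle hϑ (fun t ht => (hT t).mp ht) hψ hψc
  let M := N.subgroupOf T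
  have hM : M.Normal := hN.subgroupOf T
  have := Fintype.ofFinite M
  let f : M ≃* N := Subgroup.subgroupOfEquivOfLe hle
  obtain ⟨m, σ, hσirr, hσ⟩ := CfsgLib.Char.IsIrr.comp_surjective f.toMonoidHom f.surjective hϑ
  obtain ⟨k, ρ, hρirr, hρ⟩ := hψ
  subst hρ
  have := hσirr
  have := hρirr
  set e := Module.finrank ℂ (Representation.IntertwiningMap σ (ρ.comp M.subtype)) with he
  have he' : Cfsg.classInner (CfsgLib.Clifford.resTo hle ρ.character) ϑ = (e : ℂ) := by
    rw [he, ← CfsgLib.Char.classInner_eq_finrank σ (ρ.comp M.subtype), hσ]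
    exact (CfsgLib.Clifford.classInner_comp_equiv f _ _).symm
  rw [he'] at hψc hres
  have hdvd : e ∣ M.index := by
    refine CfsgLib.CharExt.finrank_intertwining_dvd_index ρ σ (fun g n => ?_) e ?_ (fun n => ?_)
    · rw [hσ]
      exact congrFun ((hT g).mp g.2) (f n)
    · exact_mod_cast hψc
    · rw [hσ]
      exact congrFun hres (f n)
  have h1 : χ 1 = (T.index : ℂ) * ρ.character 1 := by
    have h := congrFun hind 1
    rw [CfsgLib.Char.indFun_apply_one] at h
    exact h.symm
  have h2 : ρ.character 1 = (e : ℂ) * ϑ 1 := congrFun hres 1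
  have hc' : c = T.index * e * d := by
    apply Nat.cast_injective (R := ℂ)
    rw [← hc, h1, h2, hd]
    push_cast
    ring
  have hd0 : 0 < d := by
    obtain ⟨j, hj, hj'⟩ := CfsgLib.Char.IsIrr.exists_degree hϑ
    have : d = j := by exact_mod_cast hd.symm.trans hj'
    omega
  refine ⟨⟨T.index * e, by rw [hc', mul_comm]⟩, ?_⟩
  rw [hc', Nat.mul_div_cancel _ hd0, ← Subgroup.relIndex_mul_index hle,
    mul_comm (N.relIndex T)]
  exact Nat.mul_dvd_mul_left _ hdvd

end Cfsg.Agent.S0887
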