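import Cfsg.Statements.S4436
import Cfsg.Agent.Lib.Blocks.FongReynolds
import Cfsg.Agent.Lib.CharDegree.Basic
-- import your own Cfsg.Agent.* helpers here

set_option autoImplicit false
open Cfsg

namespace Cfsg.Agent.S4436

open CfsgLib.Blocks CfsgLib.Char

/-- Let N be a normal subgroup of the finite group G, b a block of N (relative to a maximal ideal M of the algebraic integers containing p), T the stabilizer of b in G, N ≤ T, and B′ a block of T covering b (some member of B′ has a constituent in b on restriction to N) that induces the block B of G. Then every defect group of B′ is a defect group of B, and for every ψ ∈ B′ the induced character ψ^G is an irreducible character of G lying in B with the same height as ψ. -/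
theorem result {G : Type*} [Group G] [Fintype G] (p : ℕ) [Fact p.Prime] (M : Ideal Cfsg.AlgInt) (hM : Cfsg.IsPModular p M) (N : Subgroup G) [hN : N.Normal] [Fintype N] (b : Set (Cfsg.IrrCharacter N)) (hb : Cfsg.IsPBlock M b) (T : Subgroup G) [Fintype T] (hT : ∀ g : G, g ∈ T ↔ ∀ θ ∈ b, ∀ θ' : Cfsg.IrrCharacter N, (∀ n : N, (θ' : N → ℂ) n = (θ : N → ℂ) ⟨g * n * g⁻¹, hN.conj_mem n n.2 g⟩) → θ' ∈ b) (hNT : N ≤ T) (B' : Set (Cfsg.IrrCharacter T)) (hB' : Cfsg.IsPBlock M B') (hcov : (∃ ψ ∈ B', ∃ θ ∈ b, Cfsg.classInner (fun n : N => (ψ : T → ℂ) ⟨(n : G), hNT n.2⟩) (θ : N → ℂ) ≠ 0)) (B : Set (Cfsg.IrrCharacter G)) (hind : Cfsg.IsInducedBlock M T B' B) : (∀ D : Subgroup T, Cfsg.IsDefectGroup p M B' D → Cfsg.IsDefectGroup p M B (D.map T.subtype)) ∧ ∀ ψ ∈ B', ∃ χ ∈ B, (χ : G → ℂ) = Cfsg.indFun T (ψ : T → ℂ) ∧ Cfsg.blockHeight p B (χ : G → ℂ) = Cfsg.blockHeight p B' (ψ : T → ℂ) := by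
  classical
  have : Fact p.Prime := ⟨hM.1⟩
  have := hM.2.1.isPrime
  have hT' : ∀ g : G, g ∈ T ↔ ∀ θ ∈ b, CfsgLib.Blocks.conjIrr N g θ ∈ b := fun g =>
    (hT g).trans ⟨fun h θ hθ => h θ hθ _ fun n => CfsgLib.Blocks.conjIrr_apply N g θ n,
      fun h θ hθ θ' he => by
        rw [show θ' = CfsgLib.Blocks.conjIrr N g θ from Subtype.ext (funext fun n => by rw [he n, CfsgLib.Blocks.conjIrr_apply])]
        exact h θ hθ⟩
  obtain ⟨ψ₀, hψ₀, hl⟩ := hcov
  have hB := (isInducedBlock_iff.1 hind).2.1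
  have himg : ∀ ψ ∈ B', ∃ χ ∈ B, (χ : G → ℂ) = Cfsg.indFun T (ψ : T → ℂ) := by
    intro ψ hψ
    obtain ⟨χ, hχ, -⟩ :=
      indFun_of_liesOver N hNT hb hT' (liesOver_of_mem N hNT hb hT' hB' hψ₀ hl hψ)
    refine ⟨χ, ?_, hχ.symm⟩
    have h := isInducedBlock_of_liesOver (M := M) hχ
    rw [← IsPBlock.eq_blockOf hB' hψ] at h
    rw [IsInducedBlock.eq hind h]
    exact mem_blockOf_self χ
  have hsurj : ∀ χ ∈ B, ∃ ψ ∈ B', (χ : G → ℂ) = Cfsg.indFun T (ψ : T → ℂ) := by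
    intro χ hχ
    obtain ⟨χ₀, hχ₀, -, θ₀, hθ₀, h₀⟩ := indFun_of_liesOver N hNT hb hT' (ψ := ψ₀) hl
    have hχ₀B : χ₀ ∈ B := by
      have h := isInducedBlock_of_liesOver (M := M) hχ₀
      rw [← IsPBlock.eq_blockOf hB' hψ₀] at h
      rw [IsInducedBlock.eq hind h]
      exact mem_blockOf_self χ₀
    obtain ⟨ψ, hψ, hψχ, hi⟩ := exists_liesOver_of_mem N hNT hb hT' hB hχ₀B hθ₀ h₀ hχ
    refine ⟨ψ, ?_, hψχ.symm⟩
    rw [eq_of_isInducedBlock N hNT hb hT' hψ₀ (mem_blockOf_self ψ) hl hψ hind hi]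
    exact mem_blockOf_self ψ
  have hdeg : ∀ (χ : Cfsg.IrrCharacter G) (ψ : Cfsg.IrrCharacter T),
      (χ : G → ℂ) = Cfsg.indFun T (ψ : T → ℂ) →
      (Cfsg.charDegree (χ : G → ℂ)).factorization p =
        T.index.factorization p + (Cfsg.charDegree (ψ : T → ℂ)).factorization p := by
    intro χ ψ h
    have h1 : Cfsg.charDegree (χ : G → ℂ) = T.index * Cfsg.charDegree (ψ : T → ℂ) := by
      refine Nat.cast_injective (R := ℂ) ?_
      rw [Nat.cast_mul, CfsgLib.CharDegree.cast_irrDegree, CfsgLib.CharDegree.cast_irrDegree, h,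
        indFun_apply_one]
    rw [h1, Nat.factorization_mul Subgroup.index_ne_zero_of_finite
      (CfsgLib.CharDegree.charDegree_pos ψ).ne', Finsupp.add_apply]
  set SB := sInf ((fun χ : Cfsg.IrrCharacter G => (Cfsg.charDegree (χ : G → ℂ)).factorization p) '' B)
  set SB' := sInf ((fun χ : Cfsg.IrrCharacter T => (Cfsg.charDegree (χ : T → ℂ)).factorization p) '' B')
  have hinf : SB = T.index.factorization p + SB' := by
    refine le_antisymm ?_ ?_
    · obtain ⟨ψ, hψ, hψd⟩ := Nat.sInf_mem ((IsPBlock.nonempty hB').image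
        fun χ : Cfsg.IrrCharacter T => (Cfsg.charDegree (χ : T → ℂ)).factorization p)
      obtain ⟨χ, hχ, hχψ⟩ := himg ψ hψ
      rw [show SB' = _ from hψd.symm, ← hdeg χ ψ hχψ]
      exact Nat.sInf_le ⟨χ, hχ, rfl⟩
    · refine le_csInf ((IsPBlock.nonempty hB).image _) ?_
      rintro _ ⟨χ, hχ, rfl⟩
      obtain ⟨ψ, hψ, hχψ⟩ := hsurj χ hχ
      show _ ≤ (Cfsg.charDegree (χ : G → ℂ)).factorization p
      rw [hdeg χ ψ hχψ]
      exact Nat.add_le_add_left (Nat.sInf_le ⟨ψ, hψ, rfl⟩ : SB' ≤ _) _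
  refine ⟨fun D hD => ?_, fun ψ hψ => ?_⟩
  · obtain ⟨E, hE, hDE⟩ := IsInducedBlock.defectGroup_le hM hind hD
    have hd : Cfsg.blockDefect p B = Cfsg.blockDefect p B' := by
      show (Nat.card G).factorization p - SB = (Nat.card T).factorization p - SB'
      rw [hinf, factorization_card_eq_index_add hM T]
      omega
    have heq : D.map T.subtype = E := Subgroup.eq_of_le_of_card_ge hDE (le_of_eq (by
      rw [Subgroup.card_map_of_injective T.subtype_injective, IsDefectGroup.card_eq hM hB hE, hd,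
        IsDefectGroup.card_eq hM hB' hD]))
    rw [heq]
    exact hE
  · obtain ⟨χ, hχ, hχψ⟩ := himg ψ hψ
    refine ⟨χ, hχ, hχψ, ?_⟩
    show (Cfsg.charDegree (χ : G → ℂ)).factorization p - SB =
      (Cfsg.charDegree (ψ : T → ℂ)).factorization p - SB'
    rw [hdeg χ ψ hχψ, hinf]
    omega

end Cfsg.Agent.S4436
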