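import Cfsg.Statements.S0948
import Cfsg.Agent.Lib.Blocks.KleinBlock

set_option autoImplicit false
open Cfsg CfsgLib.Blocks
open scoped Classical

namespace Cfsg.Agent.S0948

/-- Let the finite group G have a Sylow 2-subgroup P that is a Klein four-group, suppose all involutions of G are conjugate, and fix a maximal ideal M of the algebraic integers containing 2. Then the principal block consists of exactly four irreducible characters, the principal character and ζ₂, ζ₃, ζ₄, and there is a sign ε such that for every involution z: ζ₂ z = 1, ζ₃ z = ε, ζ₄ z = -1; moreover ζ₂ 1 ≡ 1, ζ₃ 1 ≡ ε, ζ₄ 1 ≡ -1 (mod 4), and 1 + ζ₂ y + ε ζ₃ y - ζ₄ y = 0 for every y of odd order. -/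
theorem result {G : Type*} [Group G] [Finite G] (M : Ideal Cfsg.AlgInt) (hM : Cfsg.IsPModular 2 M) (P : Sylow 2 G) (hP : IsKleinFour (P : Subgroup G)) (hone : ∀ s t : G, orderOf s = 2 → orderOf t = 2 → IsConj s t) : ∃ ζ₂ ζ₃ ζ₄ : Cfsg.IrrCharacter G, ∃ ε : ℤ, (ε = 1 ∨ ε = -1) ∧ (ζ₂ : G → ℂ) ≠ (fun _ => 1) ∧ (ζ₃ : G → ℂ) ≠ (fun _ => 1) ∧ ζ₂ ≠ ζ₃ ∧ ζ₂ ≠ ζ₄ ∧ ζ₃ ≠ ζ₄ ∧ Cfsg.principalBlock M G = {χ : Cfsg.IrrCharacter G | (χ : G → ℂ) = (fun _ => 1) ∨ χ = ζ₂ ∨ χ = ζ₃ ∨ χ = ζ₄} ∧ (∀ z : G, orderOf z = 2 → (ζ₂ : G → ℂ) z = 1 ∧ (ζ₃ : G → ℂ) z = (ε : ℂ) ∧ (ζ₄ : G → ℂ) z = -1) ∧ (4 : ℤ) ∣ (Cfsg.charDegree (ζ₂ : G → ℂ) : ℤ) - 1 ∧ (4 : ℤ) ∣ (Cfsg.charDegree (ζ₃ : G → ℂ) : ℤ) - ε ∧ (4 : ℤ) ∣ (Cfsg.charDegree (ζ₄ : G → ℂ) : ℤ) + 1 ∧ ∀ y : G, Odd (orderOf y) → 1 + (ζ₂ : G → ℂ) y + (ε : ℂ) * (ζ₃ : G → ℂ) y - (ζ₄ : G → ℂ) y = 0 := by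
  haveI : M.IsPrime := hM.2.1.isPrime
  haveI : Fact (Nat.Prime 2) := ⟨Nat.prime_two⟩
  have := Fintype.ofFinite G
  obtain ⟨z₀, hz₀P, hz₀⟩ := exists_mem_klein_ne_one P hP
  obtain ⟨hcard, hsign⟩ := principal_signs P hP hone hM hz₀P hz₀
  have ht : CfsgLib.Char.trivChar G ∈ principalBlock M G := trivChar_mem_principalBlock
  set A := (Set.toFinite (principalBlock M G)).toFinset with hA
  have hmem : ∀ χ, χ ∈ A ↔ χ ∈ principalBlock M G := fun χ => Set.Finite.mem_toFinset _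
  have hA4 : A.card = 4 := by
    rw [← hcard, Nat.card_coe_set_eq, Set.ncard_eq_toFinset_card _ (Set.toFinite _)]
  set t := CfsgLib.Char.trivChar G with htdef
  have hA3 : (A.erase t).card = 3 := by rw [Finset.card_erase_of_mem ((hmem _).2 ht), hA4]
  choose e he using hsign
  let ε : IrrCharacter G → ℤ := fun χ => if h : χ ∈ principalBlock M G then e χ h else 0
  have hε : ∀ χ ∈ A, (ε χ = 1 ∨ ε χ = -1) ∧ (χ : G → ℂ) z₀ = (ε χ : ℂ) ∧
      (4 : ℤ) ∣ (charDegree (χ : G → ℂ) : ℤ) - ε χ := fun χ hχ => by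
    simp only [ε, dif_pos ((hmem χ).1 hχ)]
    exact he χ _
  have hεt : ε t = 1 := by
    have h := (hε t ((hmem _).2 ht)).2.1
    rw [htdef, CfsgLib.Char.trivChar_apply] at h
    exact_mod_cast h.symm
  have horth : ∀ y : G, ¬ 2 ∣ orderOf y →
      ∑ χ ∈ A, (χ : G → ℂ) y * (ε χ : ℂ) = 0 := by
    intro y hy
    have h := sum_block_regular_singular hM isPBlock_principalBlock hy
      (show 2 ∣ orderOf z₀ by rw [hz₀])
    rw [finsum_mem_eq_finite_toFinset_sum _ (Set.toFinite _), ← hA] at h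
    rw [← h]
    exact Finset.sum_congr rfl fun χ hχ => by rw [(hε χ hχ).2.1]
  have hdeg : ∑ χ ∈ A, (charDegree (χ : G → ℂ) : ℤ) * ε χ = 0 := by
    have h := horth 1 (by simp)
    simp only [apply_one_eq_charDegree] at h
    exact_mod_cast h
  have hdt : charDegree (t : G → ℂ) = 1 := by
    have h := apply_one_eq_charDegree t
    rw [htdef, CfsgLib.Char.trivChar_apply] at h
    exact_mod_cast h.symm
  rw [← Finset.add_sum_erase A _ ((hmem _).2 ht), hdt, hεt] at hdeg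
  have hneg : ∃ c ∈ A.erase t, ε c = -1 := by
    by_contra hcon
    push Not at hcon
    have : 0 ≤ ∑ χ ∈ A.erase t, (charDegree (χ : G → ℂ) : ℤ) * ε χ := Finset.sum_nonneg fun χ hχ => by
      rw [((hε χ (Finset.mem_of_mem_erase hχ)).1.resolve_right (hcon χ hχ)), mul_one]
      exact Int.natCast_nonneg _
    push_cast at hdeg
    omega
  have hpos : ∃ a ∈ A.erase t, ε a = 1 := by
    by_contra hcon
    push Not at hcon
    have : ∑ χ ∈ A.erase t, (charDegree (χ : G → ℂ) : ℤ) * ε χ ≤ -3 := by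
      have h1 : ∀ χ ∈ A.erase t, (charDegree (χ : G → ℂ) : ℤ) * ε χ ≤ -1 := fun χ hχ => by
        rw [((hε χ (Finset.mem_of_mem_erase hχ)).1.resolve_left (hcon χ hχ))]
        have := charDegree_pos χ
        omega
      have h2 := Finset.sum_le_card_nsmul _ _ _ h1
      rw [hA3] at h2
      simpa using h2
    push_cast at hdeg
    omega
  obtain ⟨c, hc, hεc⟩ := hneg
  obtain ⟨a, ha, hεa⟩ := hpos
  have hac : a ≠ c := fun e => by rw [e, hεc] at hεa; omega
  have hrest : (((A.erase t).erase a).erase c).card = 1 := by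
    rw [Finset.card_erase_of_mem (Finset.mem_erase.2 ⟨hac.symm, hc⟩), Finset.card_erase_of_mem ha, hA3]
  obtain ⟨b, hb⟩ := Finset.card_eq_one.1 hrest
  have hbm : b ∈ ((A.erase t).erase a).erase c := by rw [hb]; exact Finset.mem_singleton_self b
  simp only [Finset.mem_erase] at hbm ha hc
  obtain ⟨hbc, hba, hbt, hbA⟩ := hbm
  have hAeq : A = {t, a, b, c} := by
    ext χ
    simp only [Finset.mem_insert, Finset.mem_singleton]
    constructor
    · intro hχ
      by_cases h1 : χ = t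
      · exact Or.inl h1
      by_cases h2 : χ = a
      · exact Or.inr (Or.inl h2)
      by_cases h3 : χ = c
      · exact Or.inr (Or.inr (Or.inr h3))
      have : χ ∈ ((A.erase t).erase a).erase c := by
        simp only [Finset.mem_erase]; exact ⟨h3, h2, h1, hχ⟩
      rw [hb, Finset.mem_singleton] at this
      exact Or.inr (Or.inr (Or.inl this))
    · rintro (rfl | rfl | rfl | rfl)
      · exact (hmem _).2 ht
      · exact ha.2
      · exact hbA
      · exact hc.2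
  have htfun : ∀ χ : IrrCharacter G, ((χ : G → ℂ) = fun _ => 1) ↔ χ = t := fun χ =>
    ⟨fun h => Subtype.ext h, fun h => by rw [h, htdef]; rfl⟩
  refine ⟨a, b, c, ε b, (hε b hbA).1, fun h => ha.1 ((htfun a).1 h),
    fun h => hbt ((htfun b).1 h), Ne.symm hba, hac, hbc, ?_, ?_, ?_, (hε b hbA).2.2, ?_, ?_⟩
  · ext χ
    rw [Set.mem_setOf_eq, ← hmem, hAeq, htfun]
    simp only [Finset.mem_insert, Finset.mem_singleton]
  · intro z hz
    obtain ⟨g, hg⟩ := isConj_iff.1 (hone z₀ z hz₀ hz)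
    have hv : ∀ χ ∈ A, (χ : G → ℂ) z = (ε χ : ℂ) := fun χ hχ => by
      rw [← hg, CfsgLib.Char.IsIrr.isClassFunction χ.2, (hε χ hχ).2.1]
    refine ⟨?_, hv b hbA, ?_⟩
    · rw [hv a ha.2, hεa, Int.cast_one]
    · rw [hv c hc.2, hεc, Int.cast_neg, Int.cast_one]
  · have h := (hε a ha.2).2.2
    rwa [hεa] at h
  · have h := (hε c hc.2).2.2
    rwa [hεc, sub_neg_eq_add] at h
  · intro y hy
    have h := horth y (Nat.two_dvd_ne_zero.2 (Nat.odd_iff.1 hy))
    rw [hAeq, Finset.sum_insert (by simp [Ne.symm ha.1, Ne.symm hbt, Ne.symm hc.1]),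
      Finset.sum_insert (by simp [Ne.symm hba, hac]), Finset.sum_pair hbc, hεt, hεa, hεc,
      htdef, CfsgLib.Char.trivChar_apply] at h
    push_cast at h
    linear_combination h

end Cfsg.Agent.S0948
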