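import Cfsg.Statements.S4479
import Cfsg.Agent.Lib.Blocks.KleinOrder

set_option autoImplicit false
open Cfsg CfsgLib.Blocks
open scoped Classical

namespace Cfsg.Agent.S4479

/-- An order formula from the principal 2-block. Let G be a finite group of order 4·g₀ with g₀ odd having no normal 2-complement (no normal subgroup of order g₀); let P be a Sylow 2-subgroup, J an involution of P, and fix a maximal ideal M of the algebraic integers containing 2. Suppose the principal 2-block consists of the principal character and three further distinct characters χ₁, χ₂, χ₃ of degrees x₁, x₂, x₃, with χ_i(J) = ε_i = ±1. Then, writing c(J) and c(P) for the orders of the centralizers of J and of P, the order of G equals 8·α·c(J)³/c(P)² with α = x₁x₂x₃ / ((x₁ + ε₁)(x₂ + ε₂)(x₃ + ε₃)). -/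
theorem result {G : Type*} [Group G] [Finite G] (M : Ideal Cfsg.AlgInt) (hM : Cfsg.IsPModular 2 M) (g₀ : ℕ) (hg₀ : Odd g₀) (hG : Nat.card G = 4 * g₀) (hnc : ¬ ∃ N : Subgroup G, N.Normal ∧ Nat.card N = g₀) (P : Sylow 2 G) (J : G) (hJ : J ∈ (P : Subgroup G)) (hJ2 : orderOf J = 2) (χ₁ χ₂ χ₃ : Cfsg.IrrCharacter G) (ε₁ ε₂ ε₃ : ℤ) (hB : Cfsg.principalBlock M G = {χ : Cfsg.IrrCharacter G | (χ : G → ℂ) = (fun _ => 1) ∨ χ = χ₁ ∨ χ = χ₂ ∨ χ = χ₃}) (hdist : (χ₁ : G → ℂ) ≠ (fun _ => 1) ∧ (χ₂ : G → ℂ) ≠ (fun _ => 1) ∧ (χ₃ : G → ℂ) ≠ (fun _ => 1) ∧ χ₁ ≠ χ₂ ∧ χ₁ ≠ χ₃ ∧ χ₂ ≠ χ₃) (hε : (ε₁ = 1 ∨ ε₁ = -1) ∧ (ε₂ = 1 ∨ ε₂ = -1) ∧ (ε₃ = 1 ∨ ε₃ = -1)) (hval : (χ₁ : G → ℂ) J = ε₁ ∧ (χ₂ : G → ℂ) J = ε₂ ∧ (χ₃ : G → ℂ) J = ε₃) : (Nat.card G : ℚ) = 8 * (((Cfsg.charDegree (χ₁ : G → ℂ) : ℚ) * Cfsg.charDegree (χ₂ : G → ℂ) * Cfsg.charDegree (χ₃ : G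 → ℂ)) / ((Cfsg.charDegree (χ₁ : G → ℂ) + ε₁) * (Cfsg.charDegree (χ₂ : G → ℂ) + ε₂) * (Cfsg.charDegree (χ₃ : G → ℂ) + ε₃))) * (Nat.card (Subgroup.centralizer ({J} : Set G)) : ℚ) ^ 3 / (Nat.card (Subgroup.centralizer ((P : Subgroup G) : Set G)) : ℚ) ^ 2 := by
  haveI : M.IsPrime := hM.2.1.isPrime
  haveI : Fact (Nat.Prime 2) := ⟨Nat.prime_two⟩
  have := Fintype.ofFinite G
  have := Fintype.ofFinite (IrrCharacter G)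
  obtain ⟨hPK, hone⟩ := klein_of_no_complement hg₀ hG hnc P
  obtain ⟨h1t, h2t, h3t, h12, h13, h23⟩ := hdist
  obtain ⟨hJ₁, hJ₂, hJ₃⟩ := hval
  set t := CfsgLib.Char.trivChar G with ht
  have htf : ∀ χ : IrrCharacter G, ((χ : G → ℂ) = fun _ => 1) ↔ χ = t := fun χ =>
    ⟨fun h => Subtype.ext h, fun h => by rw [h, ht]; rfl⟩
  rw [ne_eq, htf] at h1t h2t h3t
  have hA : (Set.toFinite (principalBlock M G)).toFinset = {t, χ₁, χ₂, χ₃} := by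
    ext χ
    rw [Set.Finite.mem_toFinset, hB, Set.mem_setOf_eq, htf]
    simp only [Finset.mem_insert, Finset.mem_singleton]
  have hsum : ∀ F : IrrCharacter G → ℂ, ∑ᶠ χ ∈ principalBlock M G, F χ = F t + F χ₁ + F χ₂ + F χ₃ := by
    intro F
    rw [finsum_mem_eq_finite_toFinset_sum _ (Set.toFinite _), hA,
      Finset.sum_insert (by simp [Ne.symm h1t, Ne.symm h2t, Ne.symm h3t]),
      Finset.sum_insert (by simp [h12, h13]), Finset.sum_pair h23]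
    ring
  set x₁ := charDegree (χ₁ : G → ℂ) with hx₁
  set x₂ := charDegree (χ₂ : G → ℂ) with hx₂
  set x₃ := charDegree (χ₃ : G → ℂ) with hx₃
  have hp₁ : 0 < x₁ := charDegree_pos χ₁
  have hp₂ : 0 < x₂ := charDegree_pos χ₂
  have hp₃ : 0 < x₃ := charDegree_pos χ₃
  have horth : 1 + ε₁ * (x₁ : ℤ) + ε₂ * (x₂ : ℤ) + ε₃ * (x₃ : ℤ) = 0 := by
    have h := sum_block_regular_singular hM (isPBlock_principalBlock (M := M) (G := G)) (x := (1 : G))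
      (y := J) (by simp) (by rw [hJ2])
    rw [hsum, ht, CfsgLib.Char.trivChar_apply, CfsgLib.Char.trivChar_apply, apply_one_eq_charDegree,
      apply_one_eq_charDegree, apply_one_eq_charDegree, hJ₁, hJ₂, hJ₃, ← hx₁, ← hx₂, ← hx₃] at h
    have h' : ((1 + ε₁ * (x₁ : ℤ) + ε₂ * (x₂ : ℤ) + ε₃ * (x₃ : ℤ) : ℤ) : ℂ) = ((0 : ℤ) : ℂ) := by
      push_cast
      linear_combination h
    exact_mod_cast h'
  set c := Nat.card (Subgroup.centralizer ({J} : Set G)) with hc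
  set cP := Nat.card (Subgroup.centralizer ((P : Subgroup G) : Set G)) with hcP
  have hsq : ∀ ε : ℤ, (ε = 1 ∨ ε = -1) → ε * ε = 1 := by rintro ε (rfl | rfl) <;> norm_num
  have hmain : (8 : ℤ) * (c : ℤ) ^ 3 * ((x₁ : ℤ) * x₂ * x₃) =
      (cP : ℤ) ^ 2 * (Nat.card G : ℤ) * (((x₁ : ℤ) + ε₁) * ((x₂ : ℤ) + ε₂) * ((x₃ : ℤ) + ε₃)) := by
    have h := order_formula P hPK hone hM hJ hJ2
    rw [hsum, ht, CfsgLib.Char.trivChar_apply, CfsgLib.Char.trivChar_apply, apply_one_eq_charDegree,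
      apply_one_eq_charDegree, apply_one_eq_charDegree, hJ₁, hJ₂, hJ₃, ← hx₁, ← hx₂, ← hx₃, ← hc,
      ← hcP] at h
    have hnum : ((x₁ : ℤ) + ε₁) * ((x₂ : ℤ) + ε₂) * ((x₃ : ℤ) + ε₃) =
        (x₁ : ℤ) * x₂ * x₃ + ε₁ ^ 3 * (x₂ * x₃) + ε₂ ^ 3 * (x₁ * x₃) + ε₃ ^ 3 * (x₁ * x₂) := by
      linear_combination (ε₁ * ε₂ * ε₃) * horth
        - ((x₁ : ℤ) * ε₂ * ε₃ + ε₁ * (x₂ * x₃)) * hsq ε₁ hε.1
        - ((x₂ : ℤ) * ε₁ * ε₃ + ε₂ * (x₁ * x₃)) * hsq ε₂ hε.2.1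
        - ((x₃ : ℤ) * ε₁ * ε₂ + ε₃ * (x₁ * x₂)) * hsq ε₃ hε.2.2
    rw [hnum]
    have e₁ : (x₁ : ℂ) ≠ 0 := Nat.cast_ne_zero.2 hp₁.ne'
    have e₂ : (x₂ : ℂ) ≠ 0 := Nat.cast_ne_zero.2 hp₂.ne'
    have e₃ : (x₃ : ℂ) ≠ 0 := Nat.cast_ne_zero.2 hp₃.ne'
    have h' : (8 : ℂ) * (c : ℂ) ^ 3 * ((x₁ : ℂ) * x₂ * x₃) =
        (cP : ℂ) ^ 2 * (Nat.card G : ℂ) * ((x₁ : ℂ) * x₂ * x₃ + (ε₁ : ℂ) ^ 3 * (x₂ * x₃) +
          (ε₂ : ℂ) ^ 3 * (x₁ * x₃) + (ε₃ : ℂ) ^ 3 * (x₁ * x₂)) := by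
      field_simp at h
      linear_combination h
    exact_mod_cast h'
  have hne : ((x₁ : ℤ) + ε₁) * ((x₂ : ℤ) + ε₂) * ((x₃ : ℤ) + ε₃) ≠ 0 := by
    intro e
    rw [e, mul_zero] at hmain
    have hc0 : 0 < c := Nat.card_pos
    simp only [mul_eq_zero, pow_eq_zero_iff', Nat.cast_eq_zero] at hmain
    omega
  simp only [mul_ne_zero_iff] at hne
  obtain ⟨⟨n₁, n₂⟩, n₃⟩ := hne
  have q₁ : (x₁ : ℚ) + (ε₁ : ℚ) ≠ 0 := by exact_mod_cast n₁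
  have q₂ : (x₂ : ℚ) + (ε₂ : ℚ) ≠ 0 := by exact_mod_cast n₂
  have q₃ : (x₃ : ℚ) + (ε₃ : ℚ) ≠ 0 := by exact_mod_cast n₃
  have hP0 : (cP : ℚ) ≠ 0 := Nat.cast_ne_zero.2 Nat.card_pos.ne'
  have hQ : (8 : ℚ) * (c : ℚ) ^ 3 * ((x₁ : ℚ) * x₂ * x₃) =
      (cP : ℚ) ^ 2 * (Nat.card G : ℚ) * (((x₁ : ℚ) + ε₁) * ((x₂ : ℚ) + ε₂) * ((x₃ : ℚ) + ε₃)) := by
    exact_mod_cast hmain
  field_simp
  linear_combination -hQ

end Cfsg.Agent.S4479
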