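import Cfsg.Statements.S4480
import Cfsg.Agent.Lib.Blocks.KleinOrder

set_option autoImplicit false
open Cfsg CfsgLib.Blocks
open scoped Classical

namespace Cfsg.Agent.S4480

/-- Same setting as the Klein-four order formula: G of order 4·g₀ (g₀ odd) with no normal 2-complement, P a Sylow 2-subgroup, J an involution of P, M over 2, principal 2-block {1, χ₁, χ₂, χ₃} with χ_i(J) = ε_i = ±1. Suppose ε₁ε₂ε₃ = −1 and ε₃ = −1, and put q = x₃ = χ₃(1). Then there is a natural number m with 4·c(J) = m·c(P)·(q + 1), and the order of G equals (m³·c(P)/4)·(q³ − q)/2, that is 8·#G = m³·c(P)·(q³ − q). -/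
theorem result {G : Type*} [Group G] [Finite G] (M : Ideal Cfsg.AlgInt) (hM : Cfsg.IsPModular 2 M) (g₀ : ℕ) (hg₀ : Odd g₀) (hG : Nat.card G = 4 * g₀) (hnc : ¬ ∃ N : Subgroup G, N.Normal ∧ Nat.card N = g₀) (P : Sylow 2 G) (J : G) (hJ : J ∈ (P : Subgroup G)) (hJ2 : orderOf J = 2) (χ₁ χ₂ χ₃ : Cfsg.IrrCharacter G) (ε₁ ε₂ ε₃ : ℤ) (hB : Cfsg.principalBlock M G = {χ : Cfsg.IrrCharacter G | (χ : G → ℂ) = (fun _ => 1) ∨ χ = χ₁ ∨ χ = χ₂ ∨ χ = χ₃}) (hdist : (χ₁ : G → ℂ) ≠ (fun _ => 1) ∧ (χ₂ : G → ℂ) ≠ (fun _ => 1) ∧ (χ₃ : G → ℂ) ≠ (fun _ => 1) ∧ χ₁ ≠ χ₂ ∧ χ₁ ≠ χ₃ ∧ χ₂ ≠ χ₃) (hε : (ε₁ = 1 ∨ ε₁ = -1) ∧ (ε₂ = 1 ∨ ε₂ = -1) ∧ (ε₃ = 1 ∨ ε₃ = -1)) (hval : (χ₁ : G → ℂ) J = ε₁ ∧ (χ₂ : G → ℂ) J = ε₂ ∧ (χ₃ : G → ℂ) J = ε₃) (hprod : ε₁ * ε₂ * ε₃ = -1) (hε₃ : ε₃ = -1) : ∃ m : ℕ, 4 * Nat.card (Subgroup.centralizer ({J} : Set G)) = m * Nat.card (Subgroup.centralizer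 ((P : Subgroup G) : Set G)) * (Cfsg.charDegree (χ₃ : G → ℂ) + 1) ∧ 8 * Nat.card G = m ^ 3 * Nat.card (Subgroup.centralizer ((P : Subgroup G) : Set G)) * (Cfsg.charDegree (χ₃ : G → ℂ) ^ 3 - Cfsg.charDegree (χ₃ : G → ℂ)) := by
  haveI : M.IsPrime := hM.2.1.isPrime
  haveI : Fact (Nat.Prime 2) := ⟨Nat.prime_two⟩
  have := Fintype.ofFinite G
  have := Fintype.ofFinite (IrrCharacter G)
  obtain ⟨hPK, hone⟩ := klein_of_no_complement hg₀ hG hnc P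
  obtain ⟨h1t, h2t, h3t, h12, h13, h23⟩ := hdist
  obtain ⟨hJ₁, hJ₂, hJ₃⟩ := hval
  set t := CfsgLib.Char.trivChar G with ht
  have htf : ∀ χ : IrrCharacter G, ((χ : G → ℂ) = fun _ => 1) ↔ χ = t := fun χ =>
    ⟨fun h => Subtype.ext h, fun h => by rw [h, ht]; rfl⟩
  rw [ne_eq, htf] at h1t h2t h3t
  have hA : (Set.toFinite (principalBlock M G)).toFinset = {t, χ₁, χ₂, χ₃} := by
    ext χ
    rw [Set.Finite.mem_toFinset, hB, Set.mem_setOf_eq, htf]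
    simp only [Finset.mem_insert, Finset.mem_singleton]
  have hsum : ∀ F : IrrCharacter G → ℂ, ∑ᶠ χ ∈ principalBlock M G, F χ = F t + F χ₁ + F χ₂ + F χ₃ := by
    intro F
    rw [finsum_mem_eq_finite_toFinset_sum _ (Set.toFinite _), hA,
      Finset.sum_insert (by simp [Ne.symm h1t, Ne.symm h2t, Ne.symm h3t]),
      Finset.sum_insert (by simp [h12, h13]), Finset.sum_pair h23]
    ring
  set x₁ := charDegree (χ₁ : G → ℂ) with hx₁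
  set x₂ := charDegree (χ₂ : G → ℂ) with hx₂
  set x₃ := charDegree (χ₃ : G → ℂ) with hx₃
  have hp₁ : 0 < x₁ := charDegree_pos χ₁
  have hp₂ : 0 < x₂ := charDegree_pos χ₂
  have hp₃ : 0 < x₃ := charDegree_pos χ₃
  have horth : 1 + ε₁ * (x₁ : ℤ) + ε₂ * (x₂ : ℤ) + ε₃ * (x₃ : ℤ) = 0 := by
    have h := sum_block_regular_singular hM (isPBlock_principalBlock (M := M) (G := G)) (x := (1 : G))
      (y := J) (by simp) (by rw [hJ2])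
    rw [hsum, ht, CfsgLib.Char.trivChar_apply, CfsgLib.Char.trivChar_apply, apply_one_eq_charDegree,
      apply_one_eq_charDegree, apply_one_eq_charDegree, hJ₁, hJ₂, hJ₃, ← hx₁, ← hx₂, ← hx₃] at h
    have h' : ((1 + ε₁ * (x₁ : ℤ) + ε₂ * (x₂ : ℤ) + ε₃ * (x₃ : ℤ) : ℤ) : ℂ) = ((0 : ℤ) : ℂ) := by
      push_cast
      linear_combination h
    exact_mod_cast h'
  set c := Nat.card (Subgroup.centralizer ({J} : Set G)) with hc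
  set cP := Nat.card (Subgroup.centralizer ((P : Subgroup G) : Set G)) with hcP
  have hsq : ∀ ε : ℤ, (ε = 1 ∨ ε = -1) → ε * ε = 1 := by rintro ε (rfl | rfl) <;> norm_num
  have hmain : (8 : ℤ) * (c : ℤ) ^ 3 * ((x₁ : ℤ) * x₂ * x₃) =
      (cP : ℤ) ^ 2 * (Nat.card G : ℤ) * (((x₁ : ℤ) + ε₁) * ((x₂ : ℤ) + ε₂) * ((x₃ : ℤ) + ε₃)) := by
    have h := order_formula P hPK hone hM hJ hJ2
    rw [hsum, ht, CfsgLib.Char.trivChar_apply, CfsgLib.Char.trivChar_apply, apply_one_eq_charDegree,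
      apply_one_eq_charDegree, apply_one_eq_charDegree, hJ₁, hJ₂, hJ₃, ← hx₁, ← hx₂, ← hx₃, ← hc,
      ← hcP] at h
    have hnum : ((x₁ : ℤ) + ε₁) * ((x₂ : ℤ) + ε₂) * ((x₃ : ℤ) + ε₃) =
        (x₁ : ℤ) * x₂ * x₃ + ε₁ ^ 3 * (x₂ * x₃) + ε₂ ^ 3 * (x₁ * x₃) + ε₃ ^ 3 * (x₁ * x₂) := by
      linear_combination (ε₁ * ε₂ * ε₃) * horth
        - ((x₁ : ℤ) * ε₂ * ε₃ + ε₁ * (x₂ * x₃)) * hsq ε₁ hε.1
        - ((x₂ : ℤ) * ε₁ * ε₃ + ε₂ * (x₁ * x₃)) * hsq ε₂ hε.2.1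
        - ((x₃ : ℤ) * ε₁ * ε₂ + ε₃ * (x₁ * x₂)) * hsq ε₃ hε.2.2
    rw [hnum]
    have e₁ : (x₁ : ℂ) ≠ 0 := Nat.cast_ne_zero.2 hp₁.ne'
    have e₂ : (x₂ : ℂ) ≠ 0 := Nat.cast_ne_zero.2 hp₂.ne'
    have e₃ : (x₃ : ℂ) ≠ 0 := Nat.cast_ne_zero.2 hp₃.ne'
    have h' : (8 : ℂ) * (c : ℂ) ^ 3 * ((x₁ : ℂ) * x₂ * x₃) =
        (cP : ℂ) ^ 2 * (Nat.card G : ℂ) * ((x₁ : ℂ) * x₂ * x₃ + (ε₁ : ℂ) ^ 3 * (x₂ * x₃) +
          (ε₂ : ℂ) ^ 3 * (x₁ * x₃) + (ε₃ : ℂ) ^ 3 * (x₁ * x₂)) := by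
      field_simp at h
      linear_combination h
    exact_mod_cast h'
  have hprod' : ε₁ * ε₂ = 1 := by rw [hε₃] at hprod; linarith
  obtain ⟨he₁, he₂⟩ : ε₁ = 1 ∧ ε₂ = 1 := by
    rcases hε.1 with e | e <;> rcases hε.2.1 with e' | e' <;> subst e e' hε₃ <;> omega
  subst he₁ he₂ hε₃
  have hodd : ∀ (χ : IrrCharacter G) (k : ℤ), (k = 1 ∨ k = -1) → (χ : G → ℂ) J = (k : ℂ) →
      ¬ 2 ∣ charDegree (χ : G → ℂ) := fun χ k hk hv => by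
    obtain ⟨d, hd⟩ := four_dvd_sub_apply P hPK hone χ hJ2 hv
    rcases hk with rfl | rfl <;> omega
  have hν : ∀ (χ : IrrCharacter G) (k : ℤ), (k = 1 ∨ k = -1) → (χ : G → ℂ) J = (k : ℂ) →
      CfsgLib.Char.fsInd (χ : G → ℂ) = 0 ∨ CfsgLib.Char.fsInd (χ : G → ℂ) = 1 := fun χ k hk hv => by
    rcases CfsgLib.CharDegree.fsInd_cases χ with h | h | h
    · exact Or.inl h
    · exact Or.inr h
    · exact absurd (even_degree_of_fsInd_eq_neg_one χ h) (hodd χ k hk hv)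
  have hfs0 : ∀ χ : IrrCharacter G, CfsgLib.Char.fsInd (χ : G → ℂ) = 0 →
      CfsgLib.Char.conjIrr χ ≠ χ := by
    intro χ h he
    obtain ⟨n, ρ, hρ, hχρ, -⟩ := CfsgLib.CharDegree.exists_rep χ
    rw [← hχρ] at h
    obtain ⟨g, hg⟩ := (CfsgLib.Char.fsInd_trichotomy ρ).2.1 h
    rw [hχρ] at hg
    exact hg ((CfsgLib.Char.conjIrr_eq_iff χ).1 he g)
  have hconjval : ∀ (χ : IrrCharacter G) (k : ℤ), (χ : G → ℂ) J = (k : ℂ) →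
      (CfsgLib.Char.conjIrr χ : G → ℂ) J = (k : ℂ) := fun χ k h => by
    rw [CfsgLib.Char.conjIrr_apply, h, map_intCast]
  have hmemB : ∀ χ : IrrCharacter G, χ ∈ principalBlock M G ↔ χ = t ∨ χ = χ₁ ∨ χ = χ₂ ∨ χ = χ₃ :=
    fun χ => by rw [hB, Set.mem_setOf_eq, htf]
  have hconjt : CfsgLib.Char.conjIrr t = t :=
    (CfsgLib.Char.conjIrr_eq_iff _).2 fun g => by rw [ht, CfsgLib.Char.trivChar_apply]; simp
  have hreal₃ : CfsgLib.Char.fsInd (χ₃ : G → ℂ) = 1 := by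
    refine (hν χ₃ (-1) (Or.inr rfl) hJ₃).resolve_left fun h => hfs0 χ₃ h ?_
    have hv := hconjval χ₃ (-1) hJ₃
    rcases (hmemB _).1 (conjIrr_mem_principalBlock (M := M) ((hmemB χ₃).2 (by simp))) with e | e | e | e
    · rw [e, ht, CfsgLib.Char.trivChar_apply] at hv; push_cast at hv; norm_num at hv
    · rw [e, hJ₁] at hv; push_cast at hv; norm_num at hv
    · rw [e, hJ₂] at hv; push_cast at hv; norm_num at hv
    · exact e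
  have hfs := sum_fsInd_eq_zero P hPK hone hM hJ hJ2
  rw [hsum, ht, CfsgLib.CharDegree.fsInd_trivChar, CfsgLib.Char.trivChar_apply, hJ₁, hJ₂, hJ₃,
    hreal₃] at hfs
  have h₁ : CfsgLib.Char.fsInd (χ₁ : G → ℂ) = 0 := by
    rcases hν χ₁ 1 (Or.inl rfl) hJ₁ with e | e
    · exact e
    · rcases hν χ₂ 1 (Or.inl rfl) hJ₂ with e' | e' <;> rw [e, e'] at hfs <;> push_cast at hfs <;>
        norm_num at hfs
  have hswap : CfsgLib.Char.conjIrr χ₁ = χ₂ := by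
    have hv := hconjval χ₁ 1 hJ₁
    rcases (hmemB _).1 (conjIrr_mem_principalBlock (M := M) ((hmemB χ₁).2 (by simp))) with e | e | e | e
    · exact absurd (by rw [← CfsgLib.Char.conjIrr_conjIrr χ₁, e, hconjt]) h1t
    · exact absurd e (hfs0 χ₁ h₁)
    · exact e
    · rw [e, hJ₃] at hv; push_cast at hv; norm_num at hv
  have hx12 : x₂ = x₁ := by
    have h := apply_one_eq_charDegree χ₂
    rw [← hswap, CfsgLib.Char.conjIrr_apply, apply_one_eq_charDegree χ₁, map_natCast, hswap,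
      ← hx₁, ← hx₂] at h
    exact_mod_cast h.symm
  rw [hx12] at horth hmain
  have hx3 : x₃ = 2 * x₁ + 1 := by omega
  rw [hx3] at hmain
  push_cast at hmain
  obtain ⟨r, hr⟩ : cP ∣ c := Subgroup.card_dvd_of_le fun g hg =>
    mem_centralizer_singleton.2 (Subgroup.mem_centralizer_iff.1 hg J hJ).symm
  obtain ⟨i, hi⟩ : c ∣ Nat.card G := (Subgroup.centralizer ({J} : Set G)).card_subgroup_dvd_card
  have hP0 : (cP : ℤ) ≠ 0 := Nat.cast_ne_zero.2 Nat.card_pos.ne'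
  have hr0 : (r : ℤ) ≠ 0 := Nat.cast_ne_zero.2 fun e => by
    have : 0 < c := Nat.card_pos
    rw [hr, e] at this
    omega
  have hkey : (i : ℤ) * ((x₁ : ℤ) + 1) ^ 2 = 4 * (r : ℤ) ^ 2 * ((x₁ : ℤ) * (2 * x₁ + 1)) := by
    rw [hi, hr] at hmain
    push_cast at hmain
    refine mul_left_cancel₀ (mul_ne_zero (mul_ne_zero (mul_ne_zero two_ne_zero (pow_ne_zero 3 hP0)) hr0)
      (Nat.cast_ne_zero.2 hp₁.ne') : (2 : ℤ) * (cP : ℤ) ^ 3 * (r : ℤ) * (x₁ : ℤ) ≠ 0) ?_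
    linear_combination -hmain
  have hkeyN : i * (x₁ + 1) ^ 2 = 4 * r ^ 2 * (x₁ * (2 * x₁ + 1)) := by exact_mod_cast hkey
  have hcop : ((x₁ + 1) ^ 2).Coprime (x₁ * (2 * x₁ + 1)) := by
    refine Nat.Coprime.pow_left 2 (Nat.Coprime.mul_right ?_ ?_)
    · simp
    · rw [show 2 * x₁ + 1 = x₁ + (x₁ + 1) by ring, Nat.coprime_add_self_right]
      simp
  have hdvd : (x₁ + 1) ^ 2 ∣ (2 * r) ^ 2 := by
    refine hcop.dvd_of_dvd_mul_right ⟨i, ?_⟩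
    rw [mul_comm ((x₁ + 1) ^ 2) i, hkeyN]
    ring
  obtain ⟨m, hm⟩ := (Nat.pow_dvd_pow_iff two_ne_zero).1 hdvd
  refine ⟨m, ?_, ?_⟩
  · rw [hr, hx3]
    calc 4 * (cP * r) = cP * 2 * (2 * r) := by ring
      _ = _ := by rw [hm]; ring
  · rw [hx3, show (2 * x₁ + 1) ^ 3 - (2 * x₁ + 1) = 4 * x₁ * (2 * x₁ + 1) * (x₁ + 1) from
      Nat.sub_eq_of_eq_add (by ring), hi, hr]
    refine Nat.eq_of_mul_eq_mul_right (pow_pos (show 0 < x₁ + 1 by omega) 2) ?_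
    calc 8 * (cP * r * i) * (x₁ + 1) ^ 2 = cP * 4 * (2 * r) * (i * (x₁ + 1) ^ 2) := by ring
      _ = cP * 4 * (x₁ * (2 * x₁ + 1)) * (2 * r) ^ 3 := by rw [hkeyN]; ring
      _ = _ := by rw [hm]; ring

end Cfsg.Agent.S4480
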