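import Cfsg.Statements.S2490
import Cfsg.Agent.Lib.Blocks.Order7920.GraphMain

set_option autoImplicit false
open Cfsg

namespace Cfsg.Agent.S2490

/-- Let G be a finite group of order 7920 = 2⁴·3²·5·11 (the order of the smallest Mathieu group) and suppose its prime graph (vertices the prime divisors of the order, distinct p, q joined when there is an element of order pq) is disconnected: the prime divisors split into two non-empty parts with no element of order pq for p in one part and q in the other. Then G is simple. -/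
theorem result {G : Type*} [Group G] [Finite G] (hord : Nat.card G = 7920)
    (hdisc : (∃ A : Set ℕ, (∃ a ∈ A, a.Prime ∧ a ∣ Nat.card G) ∧ (∃ b ∉ A, b.Prime ∧ b ∣ Nat.card G) ∧
      ∀ a ∈ A, ∀ b ∉ A, a.Prime → b.Prime → a ∣ Nat.card G → b ∣ Nat.card G → ¬ ∃ g : G, orderOf g = a * b)) :
    IsSimpleGroup G := by
  classical
  obtain ⟨A, ⟨a, haA, hap, had⟩, ⟨b, hbA, hbp, hbd⟩, hsep⟩ := hdisc
  have : Nontrivial G := Finite.one_lt_card_iff_nontrivial.1 (by rw [hord]; norm_num)
  refine ⟨fun N hN => ?_⟩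
  by_contra hcon
  push Not at hcon
  have := hN
  obtain ⟨h3, h5, h11⟩ := CfsgLib.Order7920Graph.linked hord hsep N hcon.1 hcon.2
  have hp : ∀ p : ℕ, p.Prime → p ∣ Nat.card G → (p ∈ A ↔ 2 ∈ A) := by
    intro p hp hd
    rw [hord] at hd
    have h : p ∈ (7920 : ℕ).primeFactors := Nat.mem_primeFactors.2 ⟨hp, hd, by norm_num⟩
    have hl : p = 2 ∨ p = 3 ∨ p = 5 ∨ p = 11 := by
      have hd' : p ∣ 2 ^ 4 * (3 ^ 2 * (5 * 11)) := by norm_num; exact hd
      rcases hp.dvd_mul.1 hd' with h | h
      · exact Or.inl ((Nat.prime_dvd_prime_iff_eq hp Nat.prime_two).1 (hp.dvd_of_dvd_pow h))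
      rcases hp.dvd_mul.1 h with h | h
      · exact Or.inr (Or.inl ((Nat.prime_dvd_prime_iff_eq hp Nat.prime_three).1 (hp.dvd_of_dvd_pow h)))
      rcases hp.dvd_mul.1 h with h | h
      · exact Or.inr (Or.inr (Or.inl ((Nat.prime_dvd_prime_iff_eq hp Nat.prime_five).1 h)))
      · exact Or.inr (Or.inr (Or.inr ((Nat.prime_dvd_prime_iff_eq hp (by norm_num)).1 h)))
    rcases hl with rfl | rfl | rfl | rfl
    exacts [Iff.rfl, h3.symm, h5.symm, h11.symm]
  exact hbA ((hp b hbp hbd).2 ((hp a hap had).1 haA))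

end Cfsg.Agent.S2490
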