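import Cfsg.Statements.S4429
import Cfsg.Agent.Lib.Blocks.Order7920.Main

set_option autoImplicit false
open Cfsg

namespace Cfsg.Agent.S4429

/-- Let G be a simple group of order 7920. Then G has exactly ten irreducible complex characters, and their degrees, listed with multiplicity, are 1, 10, 10, 10, 11, 16, 16, 44, 45, 55: for every natural number n, the number of irreducible characters of degree n is 1 if n ∈ {1, 11, 44, 45, 55}, 3 if n = 10, 2 if n = 16, and 0 otherwise. -/
theorem result {G : Type*} [Group G] [Finite G] [IsSimpleGroup G] (hG : Nat.card G = 7920) : Nat.card (Cfsg.IrrCharacter G) = 10 ∧ ∀ n : ℕ, Nat.card {χ : Cfsg.IrrCharacter G // Cfsg.charDegree (χ : G → ℂ) = n} = (if n = 1 ∨ n = 11 ∨ n = 44 ∨ n = 45 ∨ n = 55 then 1 else if n = 10 then 3 else if n = 16 then 2 else 0) := by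
  classical
  haveI := Fintype.ofFinite G
  haveI := Fintype.ofFinite (Cfsg.IrrCharacter G)
  haveI : Fact (Nat.Prime 11) := ⟨by norm_num⟩
  obtain ⟨P⟩ : Nonempty (Sylow 11 G) := inferInstance
  obtain ⟨-, X, Y, hdisj, hiff, hXd, hX1, ⟨χ₁, -, hd₁⟩, hXc, hYc, y, hy, hsol⟩ :=
    CfsgLib.Blocks.Order7920.eleven hG P
  obtain ⟨hfive, S, hS, hSiff⟩ := CfsgLib.Blocks.Order7920.five hG hd₁
  let m : ℕ → ℕ := fun n => (Finset.univ.filter fun χ : Cfsg.IrrCharacter G =>
    Cfsg.charDegree (χ : G → ℂ) = n).card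
  have hno12 : (X.filter fun χ : Cfsg.IrrCharacter G => Cfsg.charDegree (χ : G → ℂ) = 12).card = 0 :=
    Finset.card_eq_zero.2 (Finset.filter_eq_empty_iff.2 fun χ _ h => by
      have := hfive χ (by show ¬ 5 ∣ Cfsg.charDegree (χ : G → ℂ); rw [h]; norm_num)
      simp only [CfsgLib.Blocks.Order7920.deg, h] at this
      omega)
  obtain ⟨hy16, h10, h45⟩ := hsol hno12
  -- degrees prime to eleven
  have hsplit : ∀ n : ℕ, ¬ 11 ∣ n → m n = (X.filter fun χ : Cfsg.IrrCharacter G => Cfsg.charDegree (χ : G → ℂ) = n).card +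
      (Y.filter fun χ : Cfsg.IrrCharacter G => Cfsg.charDegree (χ : G → ℂ) = n).card := fun n hn => by
    rw [← Finset.card_union_of_disjoint (hdisj.mono (Finset.filter_subset _ _) (Finset.filter_subset _ _)),
      ← Finset.filter_union]
    refine congrArg Finset.card (Finset.ext fun χ => ?_)
    simp only [Finset.mem_filter, Finset.mem_univ, true_and]
    exact ⟨fun h => ⟨(hiff χ).1 (by rw [show CfsgLib.Blocks.Order7920.deg χ = n from h]; exact hn), h⟩, fun h => h.2⟩
  have hYfil : ∀ n : ℕ, (Y.filter fun χ : Cfsg.IrrCharacter G => Cfsg.charDegree (χ : G → ℂ) = n).card = if n = 16 then 2 else 0 := by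
    intro n
    split_ifs with h
    · rw [Finset.filter_true_of_mem fun χ hχ => by rw [h, ← hy16]; exact hy χ hχ, hYc]
    · rw [Finset.filter_false_of_mem fun χ hχ e => h (by rw [← e, ← hy16]; exact hy χ hχ),
        Finset.card_empty]
  have hX16 : (X.filter fun χ : Cfsg.IrrCharacter G => Cfsg.charDegree (χ : G → ℂ) = 16).card = 0 :=
    Finset.card_eq_zero.2 (Finset.filter_eq_empty_iff.2 fun χ hχ h => by
      have := hXd χ hχ
      simp only [CfsgLib.Blocks.Order7920.deg, h] at this
      omega)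
  have h1 : m 1 = 1 := by rw [hsplit 1 (by norm_num), hYfil]; simpa using hX1
  have h10' : m 10 = 3 := by rw [hsplit 10 (by norm_num), hYfil]; simpa using h10
  have h45' : m 45 = 1 := by rw [hsplit 45 (by norm_num), hYfil]; simpa using h45
  have h16' : m 16 = 2 := by rw [hsplit 16 (by norm_num), hYfil]; simpa using hX16
  have hD : ∀ χ : Cfsg.IrrCharacter G, Cfsg.charDegree (χ : G → ℂ) ∈
      ({1, 10, 11, 16, 44, 45, 55, 66} : Finset ℕ) := fun χ => by
    obtain ⟨hd, hlt, hpos⟩ := CfsgLib.Blocks.Order7920.deg_facts hG χ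
    by_cases h11 : 11 ∣ Cfsg.charDegree (χ : G → ℂ)
    · obtain ⟨k, hk⟩ := h11
      have hl : ∀ k < 9, 11 * k ∣ 7920 → (¬ 5 ∣ 11 * k → 11 * k % 5 = 1 ∨ 11 * k % 5 = 4) →
          11 * k ∈ ({1, 10, 11, 16, 44, 45, 55, 66} : Finset ℕ) := by decide
      have h5 := hfive χ
      simp only [CfsgLib.Blocks.Order7920.deg, hk] at hd hlt h5
      rw [hk]
      exact hl k (by omega) hd h5
    · have hmem := (hiff χ).1 h11
      rcases Finset.mem_union.1 hmem with h | h
      · have h12 : Cfsg.charDegree (χ : G → ℂ) ≠ 12 := fun e =>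
          Finset.filter_eq_empty_iff.1 (Finset.card_eq_zero.1 hno12) h e
        rcases hXd χ h with e | e | e | e <;> simp only [CfsgLib.Blocks.Order7920.deg] at e <;> simp_all
      · have := hy χ h
        simp only [CfsgLib.Blocks.Order7920.deg] at this
        simp [this, hy16]
  -- the five degrees prime to five
  have hfiveCount : m 1 + m 11 + m 16 + m 44 + m 66 = 5 := by
    have hmap : ∀ χ ∈ S, Cfsg.charDegree (χ : G → ℂ) ∈ ({1, 11, 16, 44, 66} : Finset ℕ) := fun χ hχ => by
      have h1 := (hSiff χ).2 hχ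
      have h2 := hD χ
      simp only [Finset.mem_insert, Finset.mem_singleton, CfsgLib.Blocks.Order7920.deg] at h1 h2 ⊢
      omega
    have hc := Finset.card_eq_sum_card_fiberwise hmap
    have hfib : ∀ n ∈ ({1, 11, 16, 44, 66} : Finset ℕ),
        (S.filter fun χ : Cfsg.IrrCharacter G => Cfsg.charDegree (χ : G → ℂ) = n).card = m n := fun n hn => by
      refine congrArg Finset.card (Finset.ext fun χ => ?_)
      simp only [Finset.mem_filter, Finset.mem_univ, true_and, and_iff_right_iff_imp]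
      intro e
      refine (hSiff χ).1 ?_
      simp only [Finset.mem_insert, Finset.mem_singleton, CfsgLib.Blocks.Order7920.deg] at hn ⊢
      omega
    rw [Finset.sum_congr rfl hfib, hS] at hc
    simp only [Finset.sum_insert, Finset.sum_singleton, Finset.mem_insert, Finset.mem_singleton,
      or_false, or_self, not_false_eq_true, OfNat.one_ne_ofNat, OfNat.ofNat_eq_ofNat, Nat.reduceEqDiff] at hc
    omega
  have hsq : ∑ χ : Cfsg.IrrCharacter G, Cfsg.charDegree (χ : G → ℂ) ^ 2 = 7920 := by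
    have h := CfsgLib.Char.sum_sq_degree (G := G)
    rw [hG] at h
    simp only [CfsgLib.Blocks.apply_one_eq_charDegree] at h
    exact_mod_cast h
  rw [← Finset.sum_fiberwise_of_maps_to (g := fun χ : Cfsg.IrrCharacter G =>
    Cfsg.charDegree (χ : G → ℂ)) fun χ _ => hD χ] at hsq
  rw [Finset.sum_congr rfl fun n _ => Finset.sum_congr rfl fun (χ : Cfsg.IrrCharacter G) hχ =>
    show Cfsg.charDegree (χ : G → ℂ) ^ 2 = n ^ 2 by rw [(Finset.mem_filter.1 hχ).2]] at hsq
  simp only [Finset.sum_const, smul_eq_mul, Finset.sum_insert, Finset.sum_singleton,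
    Finset.mem_insert, Finset.mem_singleton, or_false, or_self, not_false_eq_true,
    OfNat.one_ne_ofNat, OfNat.ofNat_eq_ofNat, Nat.reduceEqDiff] at hsq
  change m 1 * 1 ^ 2 + (m 10 * 10 ^ 2 + (m 11 * 11 ^ 2 + (m 16 * 16 ^ 2 + (m 44 * 44 ^ 2 +
    (m 45 * 45 ^ 2 + (m 55 * 55 ^ 2 + m 66 * 66 ^ 2)))))) = 7920 at hsq
  rw [h1, h10', h45', h16'] at hsq
  rw [h1, h16'] at hfiveCount
  have h11 : m 11 = 1 := by omega
  have h44 : m 44 = 1 := by omega
  have h55 : m 55 = 1 := by omega
  have h66 : m 66 = 0 := by omega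
  have hcard : ∀ n : ℕ, Nat.card {χ : Cfsg.IrrCharacter G // Cfsg.charDegree (χ : G → ℂ) = n} = m n :=
    fun n => by rw [Nat.card_eq_fintype_card, Fintype.card_subtype]
  refine ⟨?_, fun n => ?_⟩
  · rw [Nat.card_eq_fintype_card, ← Finset.card_univ,
      Finset.card_eq_sum_card_fiberwise (f := fun χ : Cfsg.IrrCharacter G =>
        Cfsg.charDegree (χ : G → ℂ)) fun χ _ => hD χ]
    simp only [Finset.sum_insert, Finset.sum_singleton, Finset.mem_insert, Finset.mem_singleton,
      or_false, or_self, not_false_eq_true, OfNat.one_ne_ofNat, OfNat.ofNat_eq_ofNat, Nat.reduceEqDiff]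
    change m 1 + (m 10 + (m 11 + (m 16 + (m 44 + (m 45 + (m 55 + m 66)))))) = 10
    omega
  · rw [hcard n]
    by_cases hn : n ∈ ({1, 10, 11, 16, 44, 45, 55, 66} : Finset ℕ)
    · simp only [Finset.mem_insert, Finset.mem_singleton] at hn
      rcases hn with rfl | rfl | rfl | rfl | rfl | rfl | rfl | rfl <;> simp [*]
    · have h0 : m n = 0 := Finset.card_eq_zero.2
        (Finset.filter_eq_empty_iff.2 fun χ _ e => hn (e ▸ hD χ))
      rw [h0]
      simp only [Finset.mem_insert, Finset.mem_singleton, not_or] at hn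
      simp [hn]

end Cfsg.Agent.S4429
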