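import Cfsg.Statements.S3571
import Cfsg.Statements.S3571
import Cfsg.Agent.Lib.Perm.AltDerange.Main

set_option autoImplicit false
open Cfsg

namespace Cfsg.Agent.S3571

open Equiv MulAction CfsgLib.Perm.AltDerange

theorem no_order_fifteen (σ : Perm (Fin 6)) : orderOf σ ≠ 15 := by
  intro h
  rw [← Perm.lcm_cycleType] at h
  have hs : σ.cycleType.sum ≤ 6 := by
    rw [Perm.sum_cycleType]
    exact (Finset.card_le_univ _).trans (by simp)
  have key : ∀ p : ℕ, p.Prime → p ∣ 15 → ∃ a ∈ σ.cycleType, p ∣ a := by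
    intro p hp hd
    rw [← h] at hd
    clear h hs
    generalize σ.cycleType = M at hd
    induction M using Multiset.induction with
    | empty => simp at hd; exact absurd hd hp.ne_one
    | cons a s ih =>
      rw [Multiset.lcm_cons] at hd
      rcases hp.dvd_mul.1 (hd.trans (lcm_dvd (dvd_mul_right a s.lcm) (dvd_mul_left s.lcm a))) with h | h
      · exact ⟨a, Multiset.mem_cons_self _ _, h⟩
      · obtain ⟨b, hb, hpb⟩ := ih h
        exact ⟨b, Multiset.mem_cons_of_mem hb, hpb⟩
  obtain ⟨a, ha, h3⟩ := key 3 (by norm_num) (by norm_num)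
  obtain ⟨b, hb, h5⟩ := key 5 (by norm_num) (by norm_num)
  obtain ⟨t, ht⟩ := Multiset.exists_cons_of_mem ha
  have ha2 := Perm.two_le_of_mem_cycleType ha
  have hb2 := Perm.two_le_of_mem_cycleType hb
  rw [ht, Multiset.sum_cons] at hs
  rw [ht, Multiset.mem_cons] at hb
  rcases hb with rfl | hb
  · omega
  · have := Multiset.le_sum_of_mem hb
    omega

theorem exists_order_fifteen {A : Type*} [Group A] [Finite A] (h : Nat.card A = 15 ∨ Nat.card A = 45) :
    ∃ z : A, orderOf z = 15 := by
  haveI := Fact.mk (show Nat.Prime 3 by norm_num)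
  haveI := Fact.mk (show Nat.Prime 5 by norm_num)
  have h3 : 3 ∣ Nat.card A := by rcases h with h | h <;> norm_num [h]
  obtain ⟨x, hx⟩ := exists_prime_orderOf_dvd_card' 3 h3
  let P : Sylow 5 A := default
  have hP : Nat.card (P : Subgroup A) = 5 := by
    rw [P.card_eq_multiplicity]
    rcases h with h | h <;> rw [h]
    · have e : (15 : ℕ) = 5 ^ 1 * 3 := by norm_num
      rw [e, Nat.factorization_mul (by norm_num) (by norm_num)]
      simp [Nat.Prime.factorization (show Nat.Prime 5 by norm_num), Nat.Prime.factorization (show Nat.Prime 3 by norm_num)]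
    · have e : (45 : ℕ) = 5 ^ 1 * 3 ^ 2 := by norm_num
      rw [e, Nat.factorization_mul (by norm_num) (by norm_num), Nat.factorization_pow, Nat.factorization_pow]
      simp [Nat.Prime.factorization (show Nat.Prime 5 by norm_num), Nat.Prime.factorization (show Nat.Prime 3 by norm_num)]
  have hs := card_sylow_modEq_one 5 A
  have hdvd := P.card_dvd_index
  have hi := (P : Subgroup A).card_mul_index
  have h1 : Nat.card (Sylow 5 A) = 1 := by
    have hpos : 0 < (P : Subgroup A).index := Nat.pos_of_ne_zero Subgroup.index_ne_zero_of_finite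
    have hle := Nat.le_of_dvd hpos hdvd
    have hmod : Nat.card (Sylow 5 A) % 5 = 1 := hs
    rw [hP] at hi
    rcases h with h | h <;> rw [h] at hi
    · omega
    · have hi9 : (P : Subgroup A).index = 9 := by omega
      rw [hi9] at hdvd hle
      generalize hg : Nat.card (Sylow 5 A) = n at *
      interval_cases n <;> revert hdvd hmod <;> decide
  haveI : Subsingleton (Sylow 5 A) := (Nat.card_eq_one_iff_unique.1 h1).1
  haveI : (P : Subgroup A).Normal := Sylow.normal_of_subsingleton P
  haveI : IsCyclic (P : Subgroup A) := isCyclic_of_prime_card hP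
  have h4 : Nat.card (MulAut (P : Subgroup A)) = 4 := by rw [IsCyclic.card_mulAut, hP]; decide
  let f : A →* MulAut (P : Subgroup A) := MulAut.conjNormal
  have hfx : f x = 1 := by
    rw [← orderOf_eq_one_iff]
    have a1 := orderOf_map_dvd f x
    have a2 := orderOf_dvd_natCard (f x)
    rw [hx] at a1
    rw [h4] at a2
    exact Nat.eq_one_of_dvd_coprimes (by norm_num : Nat.Coprime 3 4) a1 a2
  obtain ⟨y, hy⟩ := exists_prime_orderOf_dvd_card' (G := (P : Subgroup A)) 5 (by rw [hP])
  have hc : Commute x (y : A) := by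
    have := congrArg Subtype.val (DFunLike.congr_fun hfx y)
    rw [MulAut.conjNormal_apply, MulAut.one_apply, mul_inv_eq_iff_eq_mul] at this
    exact this
  refine ⟨x * y, ?_⟩
  rw [hc.orderOf_mul_eq_mul_orderOf_of_coprime] <;> rw [hx, Subgroup.orderOf_coe, hy]
  norm_num

theorem six {G Ω : Type*} [Group G] [Finite G] [MulAction G Ω] [FaithfulSMul G Ω] [Finite Ω]
    [IsPreprimitive G Ω] (T : Subgroup G) [T.Normal] (eT : ↥T ≃* ↥(alternatingGroup (Fin 6)))
    (hG : Nat.card G ∣ 1440) (hΩ : 2 ≤ Nat.card Ω) (r : ℕ) (hr : r.Prime) (hrd : r ∣ Nat.card Ω)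
    (hmax : ∀ s : ℕ, s.Prime → s ∣ Nat.card Ω → s ≤ r) :
    ∃ g : G, orderOf g = r ∧ ∀ ω : Ω, g • ω ≠ ω := by
  classical
  haveI : Fintype Ω := Fintype.ofFinite Ω
  haveI : Nontrivial Ω := Finite.one_lt_card_iff_nontrivial.1 (by omega)
  obtain ⟨ω₀⟩ := (inferInstance : Nonempty Ω)
  haveI := IsPreprimitive.toIsPretransitive (G := G) (X := Ω)
  have hidx : (stabilizer G ω₀).index = Nat.card Ω := index_stabilizer_of_transitive _ ω₀
  have hrG : r ∣ Nat.card G := hrd.trans (hidx ▸ Subgroup.index_dvd_card _)
  have hT : Nat.card T = 360 := by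
    rw [Nat.card_congr eT.toEquiv]
    have h2 : 2 * Nat.card (alternatingGroup (Fin 6)) = Nat.card (Perm (Fin 6)) := by
      simp only [Nat.card_eq_fintype_card]
      exact two_mul_card_alternatingGroup
    rw [Nat.card_perm, Nat.card_fin, show Nat.factorial 6 = 2 * 360 from rfl] at h2
    exact Nat.eq_of_mul_eq_mul_left two_pos h2
  have hTi : T.index ∣ 4 := by
    have := T.card_mul_index
    rw [hT] at this
    rw [← this, show 1440 = 360 * 4 from rfl] at hG
    exact Nat.dvd_of_mul_dvd_mul_left (by norm_num) hG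
  by_cases hd : r ∣ Nat.card (stabilizer G ω₀)
  swap
  · exact derangement_of_not_dvd ω₀ hr hrG hd
  have hTne : T ≠ ⊥ := by
    intro e
    rw [e, Subgroup.card_bot] at hT
    omega
  haveI := CfsgLib.Perm.Jordan.isPretransitive_of_normal (X := Ω) (N := T) hTne
  let H := (stabilizer T ω₀).map eT.toMonoidHom
  have hHc : Nat.card H = Nat.card (stabilizer T ω₀) := Subgroup.card_map_of_injective eT.injective
  have hHn : Nat.card H * Nat.card Ω = 360 := by
    rw [hHc, ← index_stabilizer_of_transitive T ω₀, Subgroup.card_mul_index, hT]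
  have hprod : Nat.card (stabilizer G ω₀) * Nat.card Ω = Nat.card G := by
    rw [← hidx, Subgroup.card_mul_index]
  -- odd prime powers of the point stabilisers agree
  have hodd : ∀ p : ℕ, p.Prime → p ≠ 2 → p ∣ Nat.card (stabilizer G ω₀) → p ∣ Nat.card H := by
    intro p hp hp2 hpd
    have e := T.card_mul_index
    rw [hT, ← hprod, ← hHn, mul_right_comm] at e
    have e' := Nat.eq_of_mul_eq_mul_right (by omega : 0 < Nat.card Ω) e
    rw [← e'] at hpd
    refine (hp.dvd_mul.1 hpd).resolve_right fun h => hp2 ?_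
    have h4 := hp.dvd_of_dvd_pow (m := 2) (n := 2) (h.trans hTi)
    exact ((Nat.prime_dvd_prime_iff_eq hp Nat.prime_two).1 h4)
  have hr5 : r ≠ 5 := by
    rintro rfl
    have := Nat.mul_dvd_mul hd hrd
    rw [hprod] at this
    have := this.trans hG
    norm_num at this
  have hr6 : r ≤ 6 := by
    have h1 : r ∣ 360 := hHn ▸ hrd.mul_left _
    rcases hr.dvd_mul.1 (show r ∣ 8 * 45 by simpa using h1) with h | h
    · have := Nat.le_of_dvd (by norm_num) h
      interval_cases r <;> first | omega | exact absurd hr (by decide) | (revert h; decide)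
    · rcases hr.dvd_mul.1 (show r ∣ 9 * 5 by simpa using h) with h | h
      · have := Nat.le_of_dvd (by norm_num) h
        interval_cases r <;> first | omega | exact absurd hr (by decide) | (revert h; decide)
      · have := Nat.le_of_dvd (by norm_num) h
        omega
  have hr3 : r ≤ 3 := by
    interval_cases r <;> first | omega | exact absurd hr (by decide)
  have hn5 : ¬ 5 ∣ Nat.card Ω := fun h => by
    have := hmax 5 (by norm_num) h
    omega
  have h5 : 5 ∣ Nat.card H := ((show Nat.Prime 5 by norm_num).dvd_mul.1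
    (show 5 ∣ Nat.card H * Nat.card Ω by rw [hHn]; norm_num)).resolve_right hn5
  have h3 : 3 ∣ Nat.card H := by
    have hr2 := hr.two_le
    interval_cases r
    · have hn3 : ¬ 3 ∣ Nat.card Ω := fun h => by
        have := hmax 3 (by norm_num) h
        omega
      exact (Nat.prime_three.dvd_mul.1 (show 3 ∣ Nat.card H * Nat.card Ω by rw [hHn]; norm_num)).resolve_right hn3
    · exact hodd 3 Nat.prime_three (by norm_num) hd
  have h15 : 15 ∣ Nat.card H := Nat.Coprime.mul_dvd_of_dvd_of_dvd (by norm_num : Nat.Coprime 3 5) h3 h5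
  haveI := alternatingGroup.isSimpleGroup (α := Fin 6) (by simp)
  have hHi : H.index = Nat.card Ω := by
    have := H.card_mul_index
    rw [← Nat.card_congr eT.toEquiv, hT, ← hHn] at this
    exact Nat.eq_of_mul_eq_mul_left Nat.card_pos this
  have hH : H ≠ ⊤ := fun e => by
    rw [e, Subgroup.index_top] at hHi
    omega
  have hdiv := card_dvd_factorial_index hH
  rw [← Nat.card_congr eT.toEquiv, hT, hHi] at hdiv
  have hn6 : 6 ≤ Nat.card Ω := by
    by_contra hcon
    have := hdiv.trans (Nat.factorial_dvd_factorial (show Nat.card Ω ≤ 5 by omega))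
    norm_num [Nat.factorial] at this
  obtain ⟨c, hc⟩ := h15
  have hcn : c * Nat.card Ω = 24 := by
    rw [hc, mul_assoc] at hHn
    omega
  have hc4 : c ≤ 4 := by
    by_contra hcon
    have := Nat.mul_le_mul (show 5 ≤ c by omega) hn6
    omega
  have hno : ∀ (A : Subgroup H), ¬ (Nat.card A = 15 ∨ Nat.card A = 45) := by
    intro A hA
    obtain ⟨z, hz⟩ := exists_order_fifteen hA
    refine no_order_fifteen (((z : H) : alternatingGroup (Fin 6)) : Perm (Fin 6)) ?_
    rw [Subgroup.orderOf_coe, Subgroup.orderOf_coe, Subgroup.orderOf_coe, hz]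
  have hc' : c = 4 := by
    interval_cases c
    · omega
    · exact absurd (Or.inl (by rw [Nat.card_congr Subgroup.topEquiv.toEquiv, hc])) (hno ⊤)
    · obtain ⟨A, -, hA⟩ := exists_index_two (A := H) (u := 15) ⟨7, rfl⟩ (by rw [hc])
      exact absurd (Or.inl hA) (hno A)
    · exact absurd (Or.inr (by rw [Nat.card_congr Subgroup.topEquiv.toEquiv, hc])) (hno ⊤)
    · rfl
  subst hc'
  have hn : Nat.card Ω = 6 := by omega
  have hr3' : r = 3 := by
    have := hmax 3 Nat.prime_three (by rw [hn]; norm_num)
    omega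
  subst hr3'
  let ρ : T →* Perm Ω := MulAction.toPermHom T Ω
  have hρ : Function.Injective ρ := MulAction.toPerm_injective
  have hρi : ρ.range.index = 2 := by
    have := ρ.range.card_mul_index
    rw [Nat.card_congr (MonoidHom.ofInjective hρ).symm.toEquiv, hT, Nat.card_perm, hn,
      show Nat.factorial 6 = 360 * 2 from rfl] at this
    omega
  have hA := Perm.eq_alternatingGroup_of_index_eq_two hρi
  have hcard : Fintype.card Ω = 6 := by rw [← Nat.card_eq_fintype_card, hn]
  obtain ⟨σ, hσ⟩ := (Perm.exists_with_cycleType_iff (α := Ω) (m := Multiset.replicate 2 3)).2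
    ⟨by simp [hcard], fun a ha => by rw [Multiset.eq_of_mem_replicate ha]; norm_num⟩
  have hσA : σ ∈ alternatingGroup Ω := by
    rw [Perm.mem_alternatingGroup, Perm.sign_of_cycleType, hσ]
    decide
  rw [← hA] at hσA
  obtain ⟨g, rfl⟩ := hσA
  refine ⟨g, ?_, fun ω hω => ?_⟩
  · rw [Subgroup.orderOf_coe, ← orderOf_injective ρ hρ, ← Perm.lcm_cycleType, hσ]
    decide
  · have hsupp : (ρ g).support = Finset.univ := by
      refine Finset.eq_univ_of_card _ ?_
      rw [← Perm.sum_cycleType, hσ, hcard]
      rfl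
    exact Perm.mem_support.1 (hsupp ▸ Finset.mem_univ ω) hω

/-- Let G be an almost simple group whose socle is an alternating group of degree m ≥ 5 (G has a normal subgroup T isomorphic to that alternating group with trivial centralizer), acting faithfully and primitively on a finite set Ω with at least two points, and let r be the largest prime divisor of the number of points. Then G contains an element of order r fixing no point. -/
theorem result {G Ω : Type*} [Group G] [Finite G] [MulAction G Ω] [FaithfulSMul G Ω] [Finite Ω]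
    (T : Subgroup G) (hT : T.Normal) (hTc : Subgroup.centralizer (T : Set G) = ⊥) (m : ℕ) (hm : 5 ≤ m)
    (eT : ↥T ≃* ↥(alternatingGroup (Fin m))) (hprim : MulAction.IsPreprimitive G Ω) (hΩ : 2 ≤ Nat.card Ω)
    (r : ℕ) (hr : r.Prime) (hrd : r ∣ Nat.card Ω) (hmax : ∀ s : ℕ, s.Prime → s ∣ Nat.card Ω → s ≤ r) :
    ∃ g : G, orderOf g = r ∧ ∀ ω : Ω, g • ω ≠ ω := by
  haveI := hT
  haveI := hprim
  have hinj : Function.Injective (MulAut.conjNormal : G →* MulAut T) := by
    rw [injective_iff_map_eq_one]
    intro g hg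
    have hgc : g ∈ Subgroup.centralizer (T : Set G) := by
      rw [Subgroup.mem_centralizer_iff]
      intro t ht
      have := congrArg Subtype.val (DFunLike.congr_fun hg ⟨t, ht⟩)
      rw [MulAut.conjNormal_apply, MulAut.one_apply, mul_inv_eq_iff_eq_mul] at this
      exact this.symm
    rwa [hTc, Subgroup.mem_bot] at hgc
  rcases eq_or_ne m 6 with rfl | h6
  · refine six T eT ?_ hΩ r hr hrd hmax
    refine (Subgroup.card_dvd_of_injective _ hinj).trans ?_
    rw [Nat.card_congr (MulAut.congr eT).toEquiv]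
    exact CfsgLib.ClassSizes.AlternatingAut.card_mulAut_six (α := Fin 6) (Fintype.card_fin 6)
  have hbij := CfsgLib.ClassSizes.AlternatingAut.conjNormal_bijective (α := Fin m)
    (by simp; omega) (by simpa using h6)
  let e := MulEquiv.ofBijective _ hbij
  let φ : G →* Perm (Fin m) := (e.symm.toMonoidHom.comp (MulAut.congr eT).toMonoidHom).comp MulAut.conjNormal
  have hφ : Function.Injective φ :=
    e.symm.injective.comp ((MulAut.congr eT).injective.comp hinj)
  refine main hm h6 φ hφ (fun σ hσ => ?_) hΩ hr hrd hmax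
  obtain ⟨t, ht⟩ : ∃ t : T, eT t = ⟨σ, hσ⟩ := ⟨eT.symm ⟨σ, hσ⟩, eT.apply_symm_apply _⟩
  refine ⟨(t : G), ?_⟩
  apply e.injective
  change e (e.symm (MulAut.congr eT (MulAut.conjNormal (t : G)))) = MulAut.conjNormal σ
  rw [MulEquiv.apply_symm_apply]
  refine MulEquiv.ext fun a => Subtype.ext ?_
  rw [MulAut.conjNormal_val, MulAut.conjNormal_apply]
  show ((eT (t * eT.symm a * t⁻¹) : alternatingGroup (Fin m)) : Perm (Fin m)) = _
  rw [map_mul, map_mul, map_inv, eT.apply_symm_apply, ht]
  rfl

end Cfsg.Agent.S3571
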