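import Cfsg.Statements.S4444
import Cfsg.Agent.Lib.CharAction.PGroup
import Cfsg.Agent.Lib.CharAction.Conj

set_option autoImplicit false
open Cfsg

namespace Cfsg.Agent.S4444

/-- The Glauberman correspondence for a p-group of operators. Inside a finite group Γ let S normalise G with the orders of G and S coprime, S a p-group, and let C = G ⊓ C(S) be the fixed points. Call an irreducible character χ of G S-invariant when χ(s g s⁻¹) = χ(g) for s ∈ S, g ∈ G. Then: (i) for every S-invariant χ there is exactly one irreducible character β of C whose multiplicity [χ_C, β] in the restriction of χ is not divisible by p; (ii) that multiplicity is ≡ 1 or ≡ −1 (mod p); (iii) distinct S-invariant χ give distinct β; (iv) every irreducible character of C arises in this way. So χ ↦ β is a bijection from the S-invariant irreducible characters of G onto the irreducible characters of C. -/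
theorem result {Γ : Type*} [Group Γ] [Fintype Γ] (G S : Subgroup Γ) [Fintype G] (hnorm : ∀ s ∈ S, ∀ g ∈ G, s * g * s⁻¹ ∈ G) (hcop : (Nat.card G).Coprime (Nat.card S)) (p : ℕ) (hp : p.Prime) (hS : IsPGroup p S) (C : Subgroup Γ) [Fintype C] (hC : C = G ⊓ Subgroup.centralizer (S : Set Γ)) (hCG : C ≤ G) : (∀ χ : Cfsg.IrrCharacter G, (∀ s ∈ S, ∀ g g' : G, (g' : Γ) = s * g * s⁻¹ → (χ : G → ℂ) g' = (χ : G → ℂ) g) → ∃! β : Cfsg.IrrCharacter C, ∃ m : ℕ, Cfsg.classInner (fun c : C => (χ : G → ℂ) ⟨c, hCG c.2⟩) (β : C → ℂ) = (m : ℂ) ∧ ¬ p ∣ m) ∧ (∀ χ : Cfsg.IrrCharacter G, (∀ s ∈ S, ∀ g g' : G, (g' : Γ) = s * g * s⁻¹ → (χ : G → ℂ) g' = (χ : G → ℂ) g) → ∀ β : Cfsg.IrrCharacter C, ∀ m : ℕ, Cfsg.classInner (fun c : C => (χ : G → ℂ) ⟨c, hCG c.2⟩) (β : C → ℂ) = (m : ℂ) → ¬ p ∣ m → ((m : ℤ) ≡ 1 [ZMOD p] ∨ (m : ℤ) ≡ -1 [ZMOD p])) ∧ (∀ χ χ' : Cfsg.IrrCharacter G, (∀ s ∈ S, ∀ g g' : G, (g' : Γ) = s * g * s⁻¹ → (χ : G → ℂ) g' = (χ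 : G → ℂ) g) → (∀ s ∈ S, ∀ g g' : G, (g' : Γ) = s * g * s⁻¹ → (χ' : G → ℂ) g' = (χ' : G → ℂ) g) → ∀ β : Cfsg.IrrCharacter C, ∀ m m' : ℕ, Cfsg.classInner (fun c : C => (χ : G → ℂ) ⟨c, hCG c.2⟩) (β : C → ℂ) = (m : ℂ) → ¬ p ∣ m → Cfsg.classInner (fun c : C => (χ' : G → ℂ) ⟨c, hCG c.2⟩) (β : C → ℂ) = (m' : ℂ) → ¬ p ∣ m' → χ = χ') ∧ (∀ β : Cfsg.IrrCharacter C, ∃ χ : Cfsg.IrrCharacter G, (∀ s ∈ S, ∀ g g' : G, (g' : Γ) = s * g * s⁻¹ → (χ : G → ℂ) g' = (χ : G → ℂ) g) ∧ ∃ m : ℕ, Cfsg.classInner (fun c : C => (χ : G → ℂ) ⟨c, hCG c.2⟩) (β : C → ℂ) = (m : ℂ) ∧ ¬ p ∣ m) := by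
  classical
  haveI : Fact p.Prime := ⟨hp⟩
  letI : MulDistribMulAction S G := CfsgLib.CharAction.conjAction G S hnorm
  let ι : C →* G := Subgroup.inclusion hCG
  have hι : Function.Injective ι := Subgroup.inclusion_injective hCG
  have hfix : ∀ g : G, g ∈ ι.range ↔ ∀ a : S, a • g = g :=
    CfsgLib.CharAction.mem_range_inclusion_iff G S C hnorm hC hCG
  have hmult : ∀ (χ : Cfsg.IrrCharacter G) (β : Cfsg.IrrCharacter C) (m : ℕ),
      Cfsg.classInner (fun c : C => (χ : G → ℂ) ⟨c, hCG c.2⟩) (β : C → ℂ) = (m : ℂ) →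
      m = CfsgLib.CharAction.mult ι χ β := fun χ β m h =>
    Nat.cast_injective (R := ℂ) (h.symm.trans (CfsgLib.CharAction.classInner_eq_mult ι χ β))
  have hmult' : ∀ (χ : Cfsg.IrrCharacter G) (β : Cfsg.IrrCharacter C),
      Cfsg.classInner (fun c : C => (χ : G → ℂ) ⟨c, hCG c.2⟩) (β : C → ℂ) =
        (CfsgLib.CharAction.mult ι χ β : ℂ) := fun χ β =>
    CfsgLib.CharAction.classInner_eq_mult ι χ β
  have hinv : ∀ χ : Cfsg.IrrCharacter G,
      (∀ s ∈ S, ∀ g g' : G, (g' : Γ) = s * g * s⁻¹ → (χ : G → ℂ) g' = (χ : G → ℂ) g) ↔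
      CfsgLib.CharAction.IsInv S (χ : G → ℂ) := fun χ =>
    ⟨fun h a g => h a a.2 g (a • g) rfl, fun h s hs g g' hg => by
      rw [show g' = (⟨s, hs⟩ : S) • g from Subtype.ext hg]; exact h _ _⟩
  -- the two cases
  have main : (∀ χ : Cfsg.IrrCharacter G, CfsgLib.CharAction.IsInv S (χ : G → ℂ) →
        ∃ β, (∀ γ, γ ≠ β → p ∣ CfsgLib.CharAction.mult ι χ γ) ∧
          ((CfsgLib.CharAction.mult ι χ β : ℤ) ≡ 1 [ZMOD p] ∨
            (CfsgLib.CharAction.mult ι χ β : ℤ) ≡ -1 [ZMOD p])) ∧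
      (∀ χ χ' : Cfsg.IrrCharacter G, CfsgLib.CharAction.IsInv S (χ : G → ℂ) →
        CfsgLib.CharAction.IsInv S (χ' : G → ℂ) → ∀ β, ¬ p ∣ CfsgLib.CharAction.mult ι χ β →
          ¬ p ∣ CfsgLib.CharAction.mult ι χ' β → χ = χ') ∧
      (∀ β, ∃ χ : Cfsg.IrrCharacter G, CfsgLib.CharAction.IsInv S (χ : G → ℂ) ∧
        ¬ p ∣ CfsgLib.CharAction.mult ι χ β) := by
    by_cases hpG : p ∣ Nat.card G
    · -- then `S` is trivial
      have hS1 : S = ⊥ := by
        by_contra hne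
        haveI : Nontrivial S := (Subgroup.nontrivial_iff_ne_bot S).mpr hne
        obtain ⟨n, hn, hcard⟩ := hS.nontrivial_iff_card.mp inferInstance
        exact hp.ne_one (Nat.eq_one_of_dvd_coprimes hcop hpG (hcard ▸ dvd_pow_self p (by omega)))
      have htriv : ∀ (a : S) (g : G), a • g = g := fun a g => by
        have ha : (a : Γ) = 1 := by
          exact Subgroup.mem_bot.mp (hS1.le a.2)
        apply Subtype.ext
        show (a : Γ) * g * (a : Γ)⁻¹ = g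
        rw [ha]; group
      have hbij : Function.Bijective ι := ⟨hι, fun g => (hfix g).mpr fun a => htriv a g⟩
      refine ⟨fun χ _ => ?_, fun χ χ' _ _ β h h' => ?_, fun β => ?_⟩
      · obtain ⟨β, -, h1, h0⟩ := CfsgLib.CharAction.mult_of_bijective ι hbij χ
        exact ⟨β, fun γ hγ => by rw [h0 γ hγ]; exact dvd_zero p, Or.inl (by rw [h1]; simp)⟩
      · obtain ⟨b, hb, -, h0⟩ := CfsgLib.CharAction.mult_of_bijective ι hbij χ
        obtain ⟨b', hb', -, h0'⟩ := CfsgLib.CharAction.mult_of_bijective ι hbij χ'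
        have e : β = b := by
          by_contra hne; exact h (by rw [h0 β hne]; exact dvd_zero p)
        have e' : β = b' := by
          by_contra hne; exact h' (by rw [h0' β hne]; exact dvd_zero p)
        apply Subtype.ext
        funext g
        obtain ⟨c, rfl⟩ := hbij.2 g
        have := congrArg (fun f : Cfsg.IrrCharacter C => (f : C → ℂ) c) (e.symm.trans e')
        simpa [hb, hb'] using this
      · let e : C ≃* G := MulEquiv.ofBijective ι hbij
        let χ : Cfsg.IrrCharacter G := ⟨fun g => (β : C → ℂ) (e.symm g),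
          CfsgLib.Char.IsIrr.comp_surjective e.symm.toMonoidHom e.symm.surjective β.2⟩
        refine ⟨χ, fun a g => congrArg (χ : G → ℂ) (htriv a g), ?_⟩
        obtain ⟨b, hb, h1, -⟩ := CfsgLib.CharAction.mult_of_bijective ι hbij χ
        have e2 : b = β := Subtype.ext (by
          rw [hb]; funext c
          exact congrArg (β : C → ℂ) (e.symm_apply_apply c))
        rw [← e2, h1]; exact hp.not_dvd_one
    · exact ⟨fun χ h => CfsgLib.CharAction.exists_correspondent hS ι hι hfix hpG h,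
        fun χ χ' h h' β hb hb' =>
          CfsgLib.CharAction.correspondent_injective hS ι hι hfix hpG h h' hb hb',
        fun β => CfsgLib.CharAction.correspondent_surjective hS ι hι hfix hpG β⟩
  obtain ⟨hex, hinj, hsurj⟩ := main
  have hnd : ∀ k : ℤ, (k = 1 ∨ k = -1) → ¬ (p : ℤ) ∣ k := by
    rintro k (rfl | rfl) h
    · exact (Nat.prime_iff_prime_int.mp hp).not_dvd_one h
    · exact (Nat.prime_iff_prime_int.mp hp).not_dvd_one (dvd_neg.mp h)
  have hmod : ∀ m : ℕ, ((m : ℤ) ≡ 1 [ZMOD p] ∨ (m : ℤ) ≡ -1 [ZMOD p]) → ¬ p ∣ m := by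
    intro m h hd
    have hd' : (p : ℤ) ∣ (m : ℤ) := Int.natCast_dvd_natCast.mpr hd
    rcases h with h | h
    · exact hnd 1 (Or.inl rfl) (by simpa using dvd_add (Int.ModEq.dvd h) hd')
    · exact hnd (-1) (Or.inr rfl) (by simpa using dvd_add (Int.ModEq.dvd h) hd')
  refine ⟨fun χ hχ => ?_, fun χ hχ β m hm hpm => ?_,
    fun χ χ' hχ hχ' β m m' hm hpm hm' hpm' => ?_, fun β => ?_⟩
  · obtain ⟨β, hu, hs⟩ := hex χ ((hinv χ).mp hχ)
    refine ⟨β, ⟨_, hmult' χ β, hmod _ hs⟩, ?_⟩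
    rintro γ ⟨m, hm, hpm⟩
    by_contra hne
    exact hpm (hmult χ γ m hm ▸ hu γ hne)
  · obtain ⟨b, hu, hs⟩ := hex χ ((hinv χ).mp hχ)
    have e : β = b := by
      by_contra hne; exact hpm (hmult χ β m hm ▸ hu β hne)
    subst e
    rw [hmult χ β m hm]; exact hs
  · exact hinj χ χ' ((hinv χ).mp hχ) ((hinv χ').mp hχ') β
      (hmult χ β m hm ▸ hpm) (hmult χ' β m' hm' ▸ hpm')
  · obtain ⟨χ, h1, h2⟩ := hsurj β
    exact ⟨χ, (hinv χ).mpr h1, _, hmult' χ β, h2⟩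

end Cfsg.Agent.S4444
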