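import Cfsg.Statements.S4669
import Cfsg.Agent.Lib.Blocks.CentralizerProduct
-- import your own Cfsg.Agent.* helpers here

set_option autoImplicit false
open Cfsg

namespace Cfsg.Agent.S4669

/-- Fix a prime p and a maximal ideal M of the algebraic integers containing p. If the p-block B of the finite group G has a defect group P contained in the centre of G, then B has p-regular rank one (a single irreducible Brauer character). -/
theorem result {G : Type*} [Group G] [Fintype G] (p : ℕ) [Fact p.Prime] (M : Ideal Cfsg.AlgInt) (hM : Cfsg.IsPModular p M) (B : Set (Cfsg.IrrCharacter G)) (hB : Cfsg.IsPBlock M B) (P : Subgroup G) (hD : Cfsg.IsDefectGroup p M B P) (hPZ : P ≤ Subgroup.center G) : Cfsg.blockRank p B = 1 := by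
  classical
  have := hM.2.1.isPrime
  have hPp := CfsgLib.Blocks.IsDefectGroup.isPGroup hD
  have hG : P ⊔ Subgroup.centralizer (P : Set G) = ⊤ := by
    refine eq_top_iff.2 fun x _ => Subgroup.mem_sup_right (Subgroup.mem_centralizer_iff.2 fun y hy => ?_)
    exact (Subgroup.mem_center_iff.1 (hPZ hy) x).symm
  obtain ⟨θ, hθ, hθP, -⟩ := CfsgLib.Blocks.exists_canonical hG hPp hM hB hD
  have hθ1 := CfsgLib.Char.IsIrr.apply_one_ne_zero θ.2
  have hne : Cfsg.pRegularPart p (θ : G → ℂ) ≠ 0 := fun h => by
    have := congrFun h 1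
    simp [Cfsg.pRegularPart, Cfsg.IsPRegular, (Fact.out : p.Prime).ne_one, hθ1] at this
  have hspan : Submodule.span ℂ
      ((fun χ : Cfsg.IrrCharacter G => Cfsg.pRegularPart p (χ : G → ℂ)) '' B) =
      ℂ ∙ Cfsg.pRegularPart p (θ : G → ℂ) := by
    refine le_antisymm (Submodule.span_le.2 ?_) (Submodule.span_mono ?_)
    · rintro _ ⟨χ, hχ, rfl⟩
      refine Submodule.mem_span_singleton.2 ⟨(χ : G → ℂ) 1 / (θ : G → ℂ) 1, funext fun y => ?_⟩
      simp only [Pi.smul_apply, smul_eq_mul, Cfsg.pRegularPart]
      split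
      next hy =>
        have h1 := CfsgLib.Blocks.apply_regular_of_span hG hPp hM hB hD hθ hθP
          (CfsgLib.Char.IsIrr.isClassFunction χ.2) (fun ψ hψ => by
            refine CfsgLib.Char.classInner_irr_of_ne (χ := χ) (ψ := ψ) ?_
            rintro rfl
            exact hψ hχ) hy
        field_simp
        rw [← h1]; ring
      next => rw [mul_zero]
    · exact Set.singleton_subset_iff.2 ⟨θ, hθ, rfl⟩
  rw [Cfsg.blockRank, hspan, finrank_span_singleton hne]

end Cfsg.Agent.S4669
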