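import Cfsg.Statements.S4528
import Cfsg.Agent.Lib.Blocks.DihedralDefect.Exclusion

set_option autoImplicit false
open Cfsg CfsgLib.Blocks CfsgLib.Blocks.DihedralDefect

namespace Cfsg.Agent.S4528

/-- Let B be a 2-block of the finite group G (relative to a maximal ideal M of the algebraic integers containing 2) whose defect group D is dihedral of order 2 ^ n with n ≥ 3. Then B contains exactly 2 ^ (n - 2) + 3 irreducible characters, its 2-regular rank (the number of irreducible Brauer characters) is between 1 and 3, exactly four of its members have height zero, and every member has height at most one. -/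
theorem result {G : Type*} [Group G] [Finite G] (M : Ideal Cfsg.AlgInt) (hM : Cfsg.IsPModular 2 M) (B : Set (Cfsg.IrrCharacter G)) (hB : Cfsg.IsPBlock M B) (D : Subgroup G) (hD : Cfsg.IsDefectGroup 2 M B D) (n : ℕ) (hn : 3 ≤ n) (hdih : Nonempty (D ≃* DihedralGroup (2 ^ (n - 1)))) : Nat.card B = 2 ^ (n - 2) + 3 ∧ 1 ≤ Cfsg.blockRank 2 B ∧ Cfsg.blockRank 2 B ≤ 3 ∧ Nat.card {χ : Cfsg.IrrCharacter G // χ ∈ B ∧ Cfsg.blockHeight 2 B (χ : G → ℂ) = 0} = 4 ∧ ∀ χ ∈ B, Cfsg.blockHeight 2 B (χ : G → ℂ) ≤ 1 := by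
  classical
  have := Fintype.ofFinite G
  have : Fact (Nat.Prime 2) := ⟨Nat.prime_two⟩
  have := hM.2.1.isPrime
  obtain ⟨m, rfl⟩ : ∃ m, n = m + 3 := ⟨n - 3, by omega⟩
  obtain ⟨eP⟩ := hdih
  rw [show m + 3 - 1 = m + 2 by omega,
    show 2 ^ (m + 2) = 2 * 2 ^ (m + 1) by rw [pow_succ']] at eP
  rw [show m + 3 - 2 = m + 1 by omega]
  have hr : 2 ≤ 2 ^ (m + 1) :=
    le_trans (by norm_num) (Nat.pow_le_pow_right (by norm_num) (Nat.le_add_left 1 m))
  obtain ⟨H, b, D', σ, τ, l, e, F, ξ₀, Φ, C⟩ := exists_ctx hM hB hD hr ⟨m + 1, rfl⟩ eP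
  have := Fintype.ofFinite (IrrCharacter D')
  rcases C.table.dichotomy with h | ⟨hq, N, hex, h⟩
  · exact C.invariants_of_regular h
  · exact (C.not_exceptional hq hex h).elim

end Cfsg.Agent.S4528
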