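import Cfsg.Statements.S4529
import Cfsg.Agent.Lib.Blocks.SemiDefect.RemBound

set_option autoImplicit false
open Cfsg CfsgLib.Blocks CfsgLib.Pairs CfsgLib.Blocks.QuaternionDefect CfsgLib.Blocks.SemiDefect

namespace Cfsg.Agent.S4529

/-- Let B be a 2-block of the finite group G (relative to a maximal ideal M of the algebraic integers containing 2) whose defect group D is semidihedral (quasi-dihedral) of order 2 ^ n, n ≥ 4. Then the number of irreducible characters in B is 2 ^ (n - 2) + 3 or 2 ^ (n - 2) + 4, its 2-regular rank l is between 1 and 3, with l = 3 forcing 2 ^ (n - 2) + 4 characters and l = 1 forcing 2 ^ (n - 2) + 3; exactly four members have height zero, exactly 2 ^ (n - 2) - 1 have height one, and every other member has height n - 2. -/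
theorem result {G : Type*} [Group G] [Finite G] (M : Ideal Cfsg.AlgInt) (hM : Cfsg.IsPModular 2 M) (B : Set (Cfsg.IrrCharacter G)) (hB : Cfsg.IsPBlock M B) (D : Subgroup G) (hD : Cfsg.IsDefectGroup 2 M B D) (n : ℕ) (hn : 4 ≤ n) (hcard : Nat.card D = 2 ^ n) (hsd : Cfsg.IsQuasiDihedral D) : (Nat.card B = 2 ^ (n - 2) + 3 ∨ Nat.card B = 2 ^ (n - 2) + 4) ∧ 1 ≤ Cfsg.blockRank 2 B ∧ Cfsg.blockRank 2 B ≤ 3 ∧ (Cfsg.blockRank 2 B = 3 → Nat.card B = 2 ^ (n - 2) + 4) ∧ (Cfsg.blockRank 2 B = 1 → Nat.card B = 2 ^ (n - 2) + 3) ∧ Nat.card {χ : Cfsg.IrrCharacter G // χ ∈ B ∧ Cfsg.blockHeight 2 B (χ : G → ℂ) = 0} = 4 ∧ Nat.card {χ : Cfsg.IrrCharacter G // χ ∈ B ∧ Cfsg.blockHeight 2 B (χ : G → ℂ) = 1} = 2 ^ (n - 2) - 1 ∧ ∀ χ ∈ B, Cfsg.blockHeight 2 B (χ : G → ℂ) = 0 ∨ Cfsg.blockHeight 2 B (χ : G → ℂ) = 1 ∨ Cfsg.blockHeight 2 B (χ : G → ℂ) = n - 2 := by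
  classical
  have := Fintype.ofFinite G
  have : Fact (Nat.Prime 2) := ⟨Nat.prime_two⟩
  have := hM.2.1.isPrime
  obtain ⟨σ, τ, l, h⟩ := exists_semi D hn hcard hsd
  obtain ⟨c, hc⟩ := exists_pairOf_of_isDefectGroup hM hB hD
  have hmax := isMaximal_of_isDefectGroup hM hc hD
  have hkl := SemiDefect.blockRank_add_le_card hM hmax h
  obtain ⟨K, b, D', σ', τ', l', e, F, ξ₀, Φ, C, -⟩ := SemiDefect.exists_ctx hM hB hD h
  have := Fintype.ofFinite (IrrCharacter D')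
  have hrem : (rem (mems B) C.X C.Y (2 ^ (n - 3))).card ≤ 1 := by
    obtain ⟨fτ, -, hle⟩ := exists_below hM (Nat.card D) (Nat.sub_le _ _) hmax.1.1
      (Subgroup.zpowers_le.2 h.memτ)
    have hfB := (subpairLE_pairOf_iff hM (a := ⟨Subgroup.zpowers τ, fτ⟩) hle B).1 hmax.1
    by_cases hf : ∃ g : G, Relation.ReflTransGen (NormalSubpairRel 2 M)
        (conjPair g ⟨Subgroup.zpowers τ, fτ⟩) ⟨D, c⟩ ∧ g * τ * g⁻¹ = σ ^ (2 * 2 ^ (n - 3))
    · obtain ⟨g, hg, hgτ⟩ := hf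
      obtain ⟨bz, -, -, hind, hd, -⟩ := exists_local_pair hM hmax h
      exact C.rem_le_one_of_major hkl (card_le_of_fused hM hmax h hle hg hgτ) h.z_ord hind hd
    · obtain ⟨h4, heq⟩ := klein_of_unfused hM hmax h hle fun g hg e => hf ⟨g, hg, e⟩
      exact C.rem_le_one_of_klein h.τ_ord hfB.1.2 h4 heq
        (CfsgLib.Star.isInducedBlock_of_pairOf hM hfB)
  obtain ⟨h1, h2, h3, h4, h5, h6, h7, h8⟩ := C.invariants hkl hrem
  have hpow : 2 ^ (n - 2) = 2 * 2 ^ (n - 3) := by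
    rw [show n - 2 = n - 3 + 1 by omega, pow_succ']
  have hd : blockDefect 2 B = n := by
    refine Nat.pow_right_injective le_rfl ?_
    show 2 ^ blockDefect 2 B = 2 ^ n
    obtain ⟨k, rfl⟩ : ∃ k, n = k + 3 := ⟨n - 3, by omega⟩
    rw [C.pow, show k + 3 - 3 = k by omega, pow_add]
    ring
  rw [hpow]
  refine ⟨h1, h2, h3, h4, h5, h6, h7, fun χ hχ => ?_⟩
  rcases h8 χ hχ with e' | e' | e'
  · exact Or.inl e'
  · exact Or.inr (Or.inl e')
  · exact Or.inr (Or.inr (by omega))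

end Cfsg.Agent.S4529
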