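import Cfsg.Statements.S4437
import Cfsg.Agent.Lib.Blocks.InertialDefect
import Cfsg.Agent.Lib.Char.Exceptional.NormalInd
-- import your own Cfsg.Agent.* helpers here

set_option autoImplicit false
open Cfsg CfsgLib.Blocks CfsgLib.Fusion
open scoped ComplexConjugate

namespace Cfsg.Agent.S4437

/-- Let P be a p-subgroup of the finite group G, H = P·C_G(P), and b a block of H (relative to a maximal ideal M of the algebraic integers containing p) having P as a defect group; let B be the block of G induced by b. Let T be the stabilizer of b in N_G(P): the elements g of N_G(P) such that the g-conjugate of every member of b is again a member of b. Then B has defect group P if and only if p does not divide the index of H in T. -/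
theorem result {G : Type*} [Group G] [Fintype G] (p : ℕ) [Fact p.Prime] (M : Ideal Cfsg.AlgInt) (hM : Cfsg.IsPModular p M) (P : Subgroup G) (hP : IsPGroup p P) (H : Subgroup G) [Fintype H] (hH : H = P ⊔ Subgroup.centralizer (P : Set G)) (b : Set (Cfsg.IrrCharacter H)) (hb : Cfsg.IsPBlock M b) (hbP : Cfsg.IsDefectGroup p M b (P.subgroupOf H)) (B : Set (Cfsg.IrrCharacter G)) (hind : Cfsg.IsInducedBlock M H b B) (T : Subgroup G) (hT : ∀ g : G, g ∈ T ↔ (g ∈ Subgroup.normalizer (P : Set G) ∧ ∀ θ ∈ b, ∀ θ' : Cfsg.IrrCharacter H, (∀ h h' : H, (h' : G) = g * h * g⁻¹ → (θ' : H → ℂ) h' = (θ : H → ℂ) h) → θ' ∈ b)) : Cfsg.IsDefectGroup p M B P ↔ ¬ p ∣ H.relIndex T := by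
  classical
  have := hM.2.1.isPrime
  have hp : p.Prime := Fact.out
  have := Fintype.ofFinite (Subgroup.normalizer (P : Set G))
  have hPN : P ≤ Subgroup.normalizer (P : Set G) := Subgroup.le_normalizer
  have hCN := centralizer_le_normalizer' P
  have hPH : P ≤ H := hH ▸ le_sup_left
  have hCH : Subgroup.centralizer (P : Set G) ≤ H := hH ▸ le_sup_right
  have hHN : H ≤ Subgroup.normalizer (P : Set G) := hH ▸ sup_le hPN hCN
  have hnormH : ∀ g ∈ Subgroup.normalizer (P : Set G), ∀ x ∈ H, g * x * g⁻¹ ∈ H := by
    intro g hg x hx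
    have hle : H ≤ H.comap (MulAut.conj g).toMonoidHom := by
      rw [hH]
      refine sup_le (fun a ha => ?_) fun a ha => ?_
      · exact Subgroup.mem_sup_left ((Subgroup.mem_normalizer_iff.1 hg a).1 ha)
      · refine Subgroup.mem_sup_right (Subgroup.mem_centralizer_iff.2 fun y hy => ?_)
        have hy' : g⁻¹ * y * g ∈ P := by
          have h := (Subgroup.mem_normalizer_iff.1 (inv_mem hg) y).1 hy
          rwa [inv_inv] at h
        have h1 := Subgroup.mem_centralizer_iff.1 ha _ hy'
        show y * (g * a * g⁻¹) = g * a * g⁻¹ * y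
        calc y * (g * a * g⁻¹) = g * ((g⁻¹ * y * g) * a) * g⁻¹ := by group
          _ = g * (a * (g⁻¹ * y * g)) * g⁻¹ := by rw [h1]
          _ = g * a * g⁻¹ * y := by group
    exact hle hx
  have hn : (H.subgroupOf (Subgroup.normalizer (P : Set G))).Normal :=
    ⟨fun n hn g => hnormH g g.2 n hn⟩
  have hPn : (P.subgroupOf (Subgroup.normalizer (P : Set G))).Normal :=
    normal_subgroupOf_normalizer P
  have := Fintype.ofFinite (H.subgroupOf (Subgroup.normalizer (P : Set G)))
  have hP' : IsPGroup p (P.subgroupOf H) := isPGroup_subgroupOf hPH hP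
  have hG' : P.subgroupOf H ⊔ Subgroup.centralizer ((P.subgroupOf H : Subgroup H) : Set H) = ⊤ := by
    rw [eq_top_iff]
    intro x _
    have hx : (x : G) ∈ P ⊔ Subgroup.centralizer (P : Set G) := hH ▸ x.2
    have : (P.subgroupOf H).Normal := (Subgroup.normal_subgroupOf_iff_le_normalizer hPH).2 hHN
    obtain ⟨v, hv, c, hc, hvc⟩ := Subgroup.mem_sup_of_normal_left.1
      (show x ∈ P.subgroupOf H ⊔ (Subgroup.centralizer (P : Set G)).subgroupOf H by
        rw [← Subgroup.subgroupOf_sup hPH hCH]; exact hx)
    rw [← hvc]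
    exact Subgroup.mul_mem_sup hv (Subgroup.mem_centralizer_iff.2 fun y hy =>
      Subtype.ext (Subgroup.mem_centralizer_iff.1 hc (y : G) hy))
  obtain ⟨θ, hθ, hθP, hθdeg⟩ := exists_canonical hG' hP' hM hb hbP
  set e := Subgroup.subgroupOfEquivOfLe hHN with he
  set θ' := pullEquiv e θ with hθ'
  have huniq : ∀ η ∈ b, (∀ u ∈ P.subgroupOf H, (η : H → ℂ) u = (η : H → ℂ) 1) → η = θ :=
    fun η hη hηP => eq_of_trivial_on hG' hP' hM hb hbP hη hθ hηP hθP
  -- the stabilizer
  have hfix : ∀ g : Subgroup.normalizer (P : Set G),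
      CfsgLib.Clifford.conjFn hn θ'.1 g = θ'.1 ↔ (g : G) ∈ T := by
    intro g
    constructor
    · intro hg
      refine (hT _).2 ⟨g.2, fun η hη η' hη' => ?_⟩
      let c : H ≃* H := (e.symm.trans (MulAut.conjNormal g)).trans e
      have hc : ∀ h : H, ((c h : H) : G) = (g : G) * h * (g : G)⁻¹ := fun h => by
        show ((MulAut.conjNormal g (e.symm h) : Subgroup.normalizer (P : Set G)) : G) = _
        rw [MulAut.conjNormal_apply]
        rfl
      have h1 : pullEquiv c η' = η := Subtype.ext (funext fun h => hη' h (c h) (hc h))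
      have h2 : pullEquiv c θ = θ := Subtype.ext (funext fun h => by
        have := congrFun hg (e.symm h)
        rw [CfsgLib.Clifford.conjFn_apply] at this
        rw [pullEquiv_apply]
        refine Eq.trans ?_ (this.trans ?_)
        · exact congrArg _ (Subtype.ext (hc h))
        · rw [hθ', pullEquiv_apply, e.apply_symm_apply])
      have h3 : pullEquiv c '' blockOf M (η' : H → ℂ) = pullEquiv c '' blockOf M (θ : H → ℂ) := by
        rw [image_pullEquiv_blockOf, image_pullEquiv_blockOf, h1, h2, ← IsPBlock.eq_blockOf hb hη,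
          ← IsPBlock.eq_blockOf hb hθ]
      rw [IsPBlock.eq_blockOf hb hθ, ← (pullEquiv c).injective.image_injective h3]
      exact mem_blockOf_self η'
    · intro hg
      let η' : IrrCharacter H := pullEquiv e.symm
        ⟨_, CfsgLib.Clifford.isIrrCharacter_conjFn hn θ'.2 g⁻¹⟩
      have hη'v : ∀ h : H, (η' : H → ℂ) h = (θ : H → ℂ)
          ⟨(g : G)⁻¹ * h * g, by
            have := hnormH _ (inv_mem g.2) h h.2
            rwa [inv_inv] at this⟩ := fun h => by
        show (θ : H → ℂ) (e ⟨g⁻¹ * _ * g⁻¹⁻¹, _⟩) = _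
        refine congrArg _ (Subtype.ext ?_)
        show ((g⁻¹ * _ * g⁻¹⁻¹ : Subgroup.normalizer (P : Set G)) : G) = _
        rw [inv_inv]
        rfl
      have hη' : η' ∈ b := ((hT _).1 hg).2 θ hθ η' fun h h' hh => by
        rw [hη'v]
        exact congrArg _ (Subtype.ext (show (g : G)⁻¹ * (h' : G) * g = h by rw [hh]; group))
      have hη'P : ∀ u ∈ P.subgroupOf H, (η' : H → ℂ) u = (η' : H → ℂ) 1 := fun u hu => by
        have hu' : (g : G)⁻¹ * u * g ∈ P := by
          have := (Subgroup.mem_normalizer_iff.1 (inv_mem g.2) (u : G)).1 hu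
          rwa [inv_inv] at this
        rw [hη'v, hη'v, hθP ⟨_, hPH hu'⟩ hu']
        exact congrArg _ (Subtype.ext (by simp))
      have h0 := congrArg (fun η : IrrCharacter H => (pullEquiv e η).1)
        (huniq η' hη' hη'P)
      have h1 : CfsgLib.Clifford.conjFn hn θ'.1 g⁻¹ = θ'.1 := by
        refine Eq.trans ?_ h0
        funext n
        simp only [η', pullEquiv_apply, MulEquiv.symm_apply_apply]
      conv_lhs => rw [← h1]
      rw [← CfsgLib.Clifford.conjFn_mul, inv_mul_cancel, CfsgLib.Clifford.conjFn_one]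
  have hHT : H ≤ T := fun h hh => by
    refine (hfix ⟨h, hHN hh⟩).1 (funext fun n => ?_)
    rw [CfsgLib.Clifford.conjFn_apply]
    exact CfsgLib.Char.IsIrr.isClassFunction θ'.2 n
      ⟨⟨h, hHN hh⟩, hh⟩
  obtain ⟨m, o, t, hm, hdeg, hot, hsum, hstab⟩ :=
    exists_clifford_degrees (H.subgroupOf (Subgroup.normalizer (P : Set G))) θ'
  have ht : H.relIndex T = t := by
    have hcard : Nat.card {g : Subgroup.normalizer (P : Set G) //
        CfsgLib.Clifford.conjFn hn θ'.1 g = θ'.1} = Nat.card T :=
      Nat.card_congr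
        { toFun := fun g => ⟨(g.1 : G), (hfix g.1).1 g.2⟩
          invFun := fun g => ⟨⟨g.1, ((hT _).1 g.2).1⟩, (hfix _).2 g.2⟩
          left_inv := fun g => rfl
          right_inv := fun g => rfl }
    rw [hcard, card_subgroupOf_eq hHN, ← Subgroup.card_mul_index (H.subgroupOf T),
      card_subgroupOf_eq hHT] at hstab
    exact (Nat.eq_of_mul_eq_mul_left Nat.card_pos hstab).symm
  have := Fintype.ofFinite (IrrCharacter (Subgroup.normalizer (P : Set G)))
  have hP'' : IsPGroup p (P.subgroupOf (Subgroup.normalizer (P : Set G))) :=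
    isPGroup_subgroupOf hPN hP
  have ho0 : o ≠ 0 := fun h => Subgroup.index_ne_zero_of_finite (by rw [← hot, h, zero_mul])
  have ht0 : t ≠ 0 := fun h => Subgroup.index_ne_zero_of_finite (by rw [← hot, h, mul_zero])
  have hθ'1 : charDegree θ'.1 = charDegree (θ : H → ℂ) :=
    charDegree_eq (χ := θ') (by rw [hθ', pullEquiv_apply, map_one, apply_one_eq_charDegree])
  have hidx : (P.subgroupOf (Subgroup.normalizer (P : Set G))).index.factorization p =
      o.factorization p + t.factorization p + (charDegree (θ : H → ℂ)).factorization p := by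
    rw [hθdeg, ← Finsupp.add_apply, ← Nat.factorization_mul ho0 ht0, hot]
    have h1 := Subgroup.relIndex_mul_relIndex P H (Subgroup.normalizer (P : Set G)) hPH hHN
    rw [show (P.subgroupOf (Subgroup.normalizer (P : Set G))).index =
        P.relIndex H * H.relIndex (Subgroup.normalizer (P : Set G)) from h1.symm,
      Subgroup.relIndex, Subgroup.relIndex,
      Nat.factorization_mul Subgroup.index_ne_zero_of_finite Subgroup.index_ne_zero_of_finite,
      Finsupp.add_apply, add_comm]
  have hdeg' : ∀ χ : IrrCharacter (Subgroup.normalizer (P : Set G)), m χ ≠ 0 →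
      (charDegree χ.1).factorization p = (m χ).factorization p + o.factorization p +
        (charDegree (θ : H → ℂ)).factorization p := fun χ hχ => by
    rw [hdeg χ hχ, hθ'1, Nat.factorization_mul hχ (mul_ne_zero ho0 (charDegree_pos θ).ne'),
      Nat.factorization_mul ho0 (charDegree_pos θ).ne', Finsupp.add_apply, Finsupp.add_apply,
      add_assoc]
  have hover : ∀ χ : IrrCharacter (Subgroup.normalizer (P : Set G)), m χ ≠ 0 →
      IsInducedBlock M (Subgroup.normalizer (P : Set G)) (blockOf M χ.1) B := fun χ hχ =>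
    isInducedBlock_of_over hM hP hPH hCH hHN hind hθ (by rw [hm]; exact Nat.cast_ne_zero.2 hχ)
  rw [ht]
  constructor
  · intro hB hpt
    obtain ⟨χ, hχ, hlow⟩ : ∃ χ, m χ ≠ 0 ∧ (m χ).factorization p < t.factorization p := by
      by_contra hcon
      push Not at hcon
      have hd : p ^ (2 * t.factorization p) ∣ t := by
        conv_rhs => rw [← hsum]
        refine Finset.dvd_sum fun χ _ => ?_
        by_cases h0 : m χ = 0
        · simp [h0]
        · rw [mul_comm, pow_mul]
          exact pow_dvd_pow_of_dvd ((pow_dvd_pow p (hcon χ h0)).trans (Nat.ordProj_dvd _ _)) 2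
      have h2 := (hp.pow_dvd_iff_le_factorization ht0).1 hd
      have h3 := hp.factorization_pos_of_dvd ht0 hpt
      omega
    have hβ := isDefectGroup_normalizer_of_induced hM hP (hover χ hχ) hB
    have hc := IsDefectGroup.card_eq hM (isPBlock_blockOf χ) hβ
    obtain ⟨j, hj⟩ := IsPGroup.iff_card.1 hP''
    rw [hj] at hc
    have hj' := Nat.pow_right_injective hp.two_le hc
    have h1 := minExp_le (p := p) (mem_blockOf_self (M := M) χ)
    have h2 : blockDefect p (blockOf M χ.1) =
        (Nat.card (Subgroup.normalizer (P : Set G))).factorization p -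
          minExp p (blockOf M χ.1) := rfl
    have h3 := factorization_card_eq_index_add (p := p) hM
      (P.subgroupOf (Subgroup.normalizer (P : Set G)))
    rw [hj, hp.factorization_pow, Finsupp.single_eq_same] at h3
    rw [hdeg' χ hχ] at h1
    omega
  · intro hpt
    obtain ⟨χ, hχ⟩ : ∃ χ, m χ ≠ 0 := by
      by_contra hcon
      push Not at hcon
      apply ht0
      rw [← hsum]
      exact Finset.sum_eq_zero fun χ _ => by simp [hcon χ]
    set β := blockOf M χ.1 with hβdef
    have hβ : IsPBlock M β := isPBlock_blockOf χ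
    refine isDefectGroup_of_induced_normalizer hM hP (hover χ hχ) ?_
    have := Fintype.ofFinite
      (Subgroup.normalizer (P : Set G) ⧸ P.subgroupOf (Subgroup.normalizer (P : Set G)))
    have hfull : ∀ η : IrrCharacter
        (Subgroup.normalizer (P : Set G) ⧸ P.subgroupOf (Subgroup.normalizer (P : Set G))),
        inflate (P.subgroupOf (Subgroup.normalizer (P : Set G))) η ∈ β →
        (P.subgroupOf (Subgroup.normalizer (P : Set G))).index.factorization p ≤
          (charDegree η.1).factorization p := by
      intro η hη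
      set ψ := inflate (P.subgroupOf (Subgroup.normalizer (P : Set G))) η with hψdef
      have := Fintype.ofFinite (IrrCharacter (H.subgroupOf (Subgroup.normalizer (P : Set G))))
      obtain ⟨θ₂, hθ₂⟩ := exists_constituent (H.subgroupOf (Subgroup.normalizer (P : Set G))) ψ
      obtain ⟨g, hg⟩ := exists_conj_of_sameBlock _ (IsPBlock.sameBlock hβ (mem_blockOf_self χ) hη)
        (θ := θ') (by rw [hm]; exact Nat.cast_ne_zero.2 hχ) hθ₂
      -- move the constituent back into the block of `θ'`
      set θ₃ := (conjIrr (H.subgroupOf (Subgroup.normalizer (P : Set G))) g).symm θ₂ with hθ₃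
      have hθ₃b : θ₃ ∈ blockOf M θ'.1 := by
        have h := image_pullEquiv_blockOf M (MulAut.conjNormal (H := H.subgroupOf
          (Subgroup.normalizer (P : Set G))) g) θ'
        change conjIrr _ g '' blockOf M θ'.1 = blockOf M (conjIrr _ g θ' : _ → ℂ) at h
        rw [← h] at hg
        obtain ⟨x, hx, hx'⟩ := hg
        rwa [hθ₃, ← hx', Equiv.symm_apply_apply]
      have hθ₃c : classInner (fun n : H.subgroupOf (Subgroup.normalizer (P : Set G)) =>
          ψ.1 n) θ₃.1 ≠ 0 := by
        rwa [← classInner_conjIrr _ g, hθ₃, Equiv.apply_symm_apply]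
      have hθ₃b' : (pullEquiv e).symm θ₃ ∈ b := by
        rw [IsPBlock.eq_blockOf hb hθ]
        have h := image_pullEquiv_blockOf M e θ
        rw [← hθ'] at h
        rw [← h] at hθ₃b
        obtain ⟨x, hx, hx'⟩ := hθ₃b
        rwa [← hx', Equiv.symm_apply_apply]
      have hker : ∀ n : H.subgroupOf (Subgroup.normalizer (P : Set G)), (n : G) ∈ P →
          θ₃.1 n = θ₃.1 1 := by
        intro n hnP
        have hcl := CfsgLib.Char.IsChar.isClassFunction
          (CfsgLib.Char.IsChar.restrict (H.subgroupOf (Subgroup.normalizer (P : Set G)))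
            (CfsgLib.Char.IsIrr.isCharacter ψ.2))
        have hme : ∀ φ : IrrCharacter (H.subgroupOf (Subgroup.normalizer (P : Set G))), ∃ k : ℕ,
            classInner (fun n : H.subgroupOf (Subgroup.normalizer (P : Set G)) => ψ.1 n)
              φ.1 = (k : ℂ) := fun φ =>
          CfsgLib.Char.IsChar.classInner_eq_natCast
            (CfsgLib.Char.IsChar.restrict _ (CfsgLib.Char.IsIrr.isCharacter ψ.2))
            (CfsgLib.Char.IsIrr.isCharacter φ.2)
        choose k hk using hme
        have hres := CfsgLib.Char.classFunction_eq_sum hcl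
        simp only [hk] at hres
        refine CfsgLib.Char.Exceptional.ker_of_constituent (m := k) ?_ (fun h0 => hθ₃c ?_)
        · rw [← hres]
          exact inflate_apply_of_mem _ η (n := (n : Subgroup.normalizer (P : Set G))) hnP
        · rw [hk, h0, Nat.cast_zero]
      have hθ₃eq : θ₃ = θ' := by
        rw [hθ', ← huniq _ hθ₃b' fun u hu => ?_, Equiv.apply_symm_apply]
        show θ₃.1 (e.symm u) = θ₃.1 (e.symm 1)
        rw [map_one]
        exact hker _ hu
      have hmψ : m ψ ≠ 0 := fun h0 => hθ₃c (by rw [hθ₃eq, hm, h0, Nat.cast_zero])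
      have hd := hdeg' ψ hmψ
      rw [hψdef, charDegree_eq (χ := inflate _ η) (n := charDegree η.1)
        (by rw [inflate_apply, QuotientGroup.mk_one, apply_one_eq_charDegree])] at hd
      rw [hidx, Nat.factorization_eq_zero_of_not_dvd hpt]
      omega
    obtain ⟨E, hE⟩ := exists_isDefectGroup (p := p) hβ
    have hle := IsDefectGroup.normal_le hM hβ hE hP''
    refine (Subgroup.eq_of_le_of_card_ge hle ?_) ▸ hE
    obtain ⟨j, hj⟩ := IsPGroup.iff_card.1 hP''
    rw [IsDefectGroup.card_eq hM hβ hE, hj]
    refine Nat.pow_le_pow_right hp.pos ?_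
    obtain ⟨ξ, hξ, hξ0⟩ := exists_height_zero (p := p) (IsPBlock.nonempty hβ)
    have h1 := pow_dvd_charDegree_of_inflate hM (P.subgroupOf (Subgroup.normalizer (P : Set G)))
      hP'' hβ hfull hξ
    rw [(blockHeight_eq_zero_iff_minExp hξ).1 hξ0] at h1
    have h2 : blockDefect p β =
        (Nat.card (Subgroup.normalizer (P : Set G))).factorization p - minExp p β := rfl
    have h3 := factorization_card_eq_index_add (p := p) hM
      (P.subgroupOf (Subgroup.normalizer (P : Set G)))
    rw [hj, hp.factorization_pow, Finsupp.single_eq_same] at h3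
    omega

end Cfsg.Agent.S4437
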