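import Cfsg.Statements.S4648
import Cfsg.Agent.Lib.Blocks.RankOneOrderThree
import Cfsg.Agent.Lib.Blocks.Brauer.DefectBound
import Cfsg.Agent.Lib.Blocks.KleinDefect
import Cfsg.Agent.S4633

set_option autoImplicit false
open Cfsg

namespace Cfsg.Agent.S4648

/-- Let B be a block of the finite group G relative to a maximal ideal M of the algebraic integers containing the prime p, with a nontrivial defect group D. If B has p-regular rank 1 and at most four irreducible characters, then B is nilpotent, D has exactly as many elements as B has irreducible characters, and p is 2 or 3. -/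
theorem result {G : Type*} [Group G] [Finite G] (p : ℕ) [Fact p.Prime] (M : Ideal Cfsg.AlgInt) (hM : Cfsg.IsPModular p M) (B : Set (Cfsg.IrrCharacter G)) (hB : Cfsg.IsPBlock M B) (D : Subgroup G) (hD : Cfsg.IsDefectGroup p M B D) (hD1 : D ≠ ⊥) (hl : Cfsg.blockRank p B = 1) (hk : Nat.card B ≤ 4) : Cfsg.IsNilpotentBlock p M B ∧ Nat.card D = Nat.card B ∧ (p = 2 ∨ p = 3) := by
  classical
  have := Fintype.ofFinite G
  have := hM.2.1.isPrime
  have hp := (Fact.out : p.Prime)
  have hDk := CfsgLib.IBr.card_defect_eq_card hM hB hD hl (Or.inl hk)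
  obtain ⟨d, hd⟩ := (CfsgLib.Blocks.IsDefectGroup.isPGroup hD).exists_card_eq
  have hd0 : d ≠ 0 := fun h => hD1 (Subgroup.eq_bot_of_card_eq _ (by rw [hd, h, pow_zero]))
  have hp4 : p ≤ 4 := (Nat.le_self_pow hd0 p).trans (by omega)
  have hp23 : p = 2 ∨ p = 3 := by
    have h2 := hp.two_le
    rcases (by omega : p = 2 ∨ p = 3 ∨ p = 4) with h | h | h
    · exact Or.inl h
    · exact Or.inr h
    · exact absurd hp (by rw [h]; norm_num)
  refine ⟨?_, hDk, hp23⟩
  rcases hp23 with rfl | rfl
  · -- the even prime
    obtain ⟨c, hc⟩ := CfsgLib.Pairs.exists_pairOf_of_isDefectGroup hM hB hD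
    have hmax := CfsgLib.Pairs.isMaximal_of_isDefectGroup hM hc hD
    have hd2 : d ≤ 2 := by
      by_contra h
      have : 2 ^ 3 ≤ 2 ^ d := Nat.pow_le_pow_right (by norm_num) (by omega)
      omega
    have hab : ∀ x ∈ D, ∀ y ∈ D, x * y = y * x := by
      intro x hx y hy
      have key : ∀ a b : D, a * b = b * a := by
        rcases (by omega : d = 1 ∨ d = 2) with h | h
        · rw [h, pow_one] at hd
          have := isCyclic_of_prime_card (α := D) hd
          obtain ⟨g, hg⟩ := IsCyclic.exists_generator (α := D)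
          intro a b
          obtain ⟨i, rfl⟩ := Subgroup.mem_zpowers_iff.1 (hg a)
          obtain ⟨j, rfl⟩ := Subgroup.mem_zpowers_iff.1 (hg b)
          rw [← zpow_add, ← zpow_add, add_comm]
        · exact IsPGroup.commutative_of_card_eq_prime_sq (h ▸ hd)
      exact congrArg Subtype.val (key ⟨x, hx⟩ ⟨y, hy⟩)
    refine (CfsgLib.Pairs.nilpotent_iff_inertial_trivial
      (CfsgLib.Pairs.isBlockFusionSystemOn_blockFusion hM hmax) hM hab).2 ?_
    have hidx : (Subgroup.centralizer (D : Set G)).relIndex (CfsgLib.Pairs.pairStab D c) = 1 := by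
      have hPC : D ≤ Subgroup.centralizer (D : Set G) := fun x hx =>
        Subgroup.mem_centralizer_iff.2 fun y hy => hab y hy x hx
      by_cases hcyc : IsCyclic D
      · have hn : ((Subgroup.centralizer (D : Set G)).subgroupOf
            (CfsgLib.Pairs.pairStab D c)).Normal := by
          refine ⟨fun x hx g => ?_⟩
          rw [Subgroup.mem_subgroupOf, Subgroup.mem_centralizer_iff] at hx ⊢
          intro v hv
          have hg := (CfsgLib.Pairs.pairStab_le_normalizer D c) g.2
          have hv' : (g : G)⁻¹ * v * g ∈ D := by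
            simpa using (Subgroup.mem_normalizer_iff.1 (inv_mem hg) v).1 hv
          have h := hx _ hv'
          show v * ((g : G) * x * (g : G)⁻¹) = (g : G) * x * (g : G)⁻¹ * v
          calc v * ((g : G) * x * (g : G)⁻¹) = g * ((g : G)⁻¹ * v * g * x) * (g : G)⁻¹ := by group
            _ = g * ((x : G) * ((g : G)⁻¹ * v * g)) * (g : G)⁻¹ := by rw [h]
            _ = _ := by group
        have h := Cfsg.Agent.S4633.result 2 M hM B hB D hD hD1 hcyc c
          ((CfsgLib.Pairs.inducedFromCent_iff hM hc.1.1 hPC hc.1.2 B).2 hc)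
          (CfsgLib.Pairs.pairStab D c) (fun g => Iff.rfl) (hn := hn)
        exact Nat.dvd_one.1 h.2.1
      · have hd2' : d = 2 := by
          rcases (by omega : d = 1 ∨ d = 2) with h | h
          · exact absurd (isCyclic_of_prime_card (α := D) (p := 2) (by rw [hd, h, pow_one])) hcyc
          · exact h
        have hV : IsKleinFour D := ⟨by rw [hd, hd2']; norm_num,
          (not_isCyclic_iff_exponent_eq_prime Nat.prime_two (by rw [hd, hd2'])).1 hcyc⟩
        rw [← CfsgLib.Blocks.blockRank_eq_relIndex hM hV hmax, hl]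
    exact fun x hx => Subgroup.relIndex_eq_one.1 hidx hx
  · have hd1 : d = 1 := by
      by_contra h
      have : 3 ^ 2 ≤ 3 ^ d := Nat.pow_le_pow_right (by norm_num) (by omega)
      omega
    exact CfsgLib.Blocks.isNilpotentBlock_of_rank_one_order_three hM hB hD (by rw [hd, hd1]; norm_num)
      hl (by rw [← hDk, hd, hd1]; norm_num)

end Cfsg.Agent.S4648
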