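import Cfsg.Statements.S4733
import Cfsg.Agent.Lib.Blocks.Union
import Mathlib.LinearAlgebra.Dimension.OrzechProperty

set_option autoImplicit false
open Cfsg CfsgLib.Blocks

namespace Cfsg.Agent.S4733

/-- Let p be a prime and B a p-block of irreducible characters of the finite group G, with k(B) = #B members and rank l(B) (the dimension of the span of their restrictions to the p-regular elements). Then l(B) ≤ k(B), and the following are equivalent: B has defect zero; k(B) = l(B) = 1; k(B) = l(B). -/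
theorem result {G : Type*} [Group G] [Finite G] (p : ℕ) [Fact p.Prime] (M : Ideal Cfsg.AlgInt) (hM : Cfsg.IsPModular p M) (B : Set (Cfsg.IrrCharacter G)) (hB : Cfsg.IsPBlock M B) : Cfsg.blockRank p B ≤ Nat.card B ∧ (Cfsg.blockDefect p B = 0 ↔ (Nat.card B = 1 ∧ Cfsg.blockRank p B = 1)) ∧ (Cfsg.blockDefect p B = 0 ↔ Nat.card B = Cfsg.blockRank p B) := by
  classical
  have : M.IsPrime := hM.2.1.isPrime
  have := Fintype.ofFinite G
  have := Fintype.ofFinite (Cfsg.IrrCharacter G)
  have hp : p.Prime := hM.1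
  let r : B → G → ℂ := fun χ => pRegularPart p ((χ.1 : Cfsg.IrrCharacter G) : G → ℂ)
  have hrange : Set.range r =
      (fun χ : Cfsg.IrrCharacter G => pRegularPart p (χ : G → ℂ)) '' B := by
    ext f
    simp [r]
  have hrank : Cfsg.blockRank p B = Module.finrank ℂ ↥(Submodule.span ℂ (Set.range r)) := by
    rw [hrange]; rfl
  have hle : Cfsg.blockRank p B ≤ Nat.card B := by
    rw [hrank, Nat.card_eq_fintype_card]
    exact finrank_range_le_card r
  have hfull : ∀ χ : Cfsg.IrrCharacter G,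
      ¬ p ∣ Nat.card G / charDegree (χ : G → ℂ) ↔
        (Nat.card G).factorization p ≤ (charDegree (χ : G → ℂ)).factorization p := fun χ => by
    have hne : Nat.card G / charDegree (χ : G → ℂ) ≠ 0 :=
      (Nat.div_pos (Nat.le_of_dvd Nat.card_pos (charDegree_dvd_card χ)) (charDegree_pos χ)).ne'
    rw [← not_iff_not, not_not, not_le, hp.dvd_iff_one_le_factorization hne,
      Nat.factorization_div (charDegree_dvd_card χ), Finsupp.tsub_apply]
    omega
  have hdz : Cfsg.blockDefect p B = 0 → Nat.card B = 1 := fun h => by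
    obtain ⟨χ, hχ⟩ := IsPBlock.nonempty hB
    have hnd : ¬ p ∣ Nat.card G / charDegree (χ : G → ℂ) := by
      rw [hfull]
      exact le_trans (Nat.sub_eq_zero_iff_le.mp h) (Nat.sInf_le ⟨χ, hχ, rfl⟩)
    rw [IsPBlock.eq_blockOf hB hχ, blockOf_eq_singleton hM χ hnd, Nat.card_unique]
  have hsing : ∀ χ, B = {χ} → Cfsg.blockDefect p B = 0 := fun χ h => by
    have hχ : χ ∈ B := h ▸ Set.mem_singleton χ
    have hnd := not_dvd_div_of_singleton hM χ ((IsPBlock.eq_blockOf hB hχ).symm.trans h)
    rw [Cfsg.blockDefect, h, Set.image_singleton, csInf_singleton]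
    exact Nat.sub_eq_zero_iff_le.mpr ((hfull χ).mp hnd)
  have hcard1 : Nat.card B = 1 → Cfsg.blockDefect p B = 0 ∧ Cfsg.blockRank p B = 1 := fun h => by
    obtain ⟨χ, hχ⟩ := IsPBlock.nonempty hB
    have hsub := (Nat.card_eq_one_iff_unique.mp h).1
    have hBeq : B = {χ} := Set.eq_singleton_iff_unique_mem.mpr
      ⟨hχ, fun ψ hψ => congrArg Subtype.val (Subsingleton.elim (⟨ψ, hψ⟩ : B) ⟨χ, hχ⟩)⟩
    refine ⟨hsing χ hBeq, ?_⟩
    rw [Cfsg.blockRank, hBeq, Set.image_singleton]
    refine finrank_span_singleton fun h0 => ?_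
    have h1 := congrFun h0 1
    rw [pRegularPart, if_pos (by simp [IsPRegular, hp.ne_one])] at h1
    exact CfsgLib.Char.IsIrr.apply_one_ne_zero χ.2 h1
  refine ⟨hle, ⟨fun h => ⟨hdz h, (hcard1 (hdz h)).2⟩, fun h => (hcard1 h.1).1⟩,
    ⟨fun h => by rw [hdz h, (hcard1 (hdz h)).2], fun h => ?_⟩⟩
  -- independence on the regular elements
  have hind : LinearIndependent ℂ r := by
    rw [linearIndependent_iff_card_eq_finrank_span, Set.finrank, ← Nat.card_eq_fintype_card, h,
      hrank]
  have hvan : ∀ χ : B, ∀ y : G, p ∣ orderOf y → ((χ.1 : Cfsg.IrrCharacter G) : G → ℂ) y = 0 := by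
    intro χ y hy
    refine Fintype.linearIndependent_iff.mp hind
      (fun ψ : B => ((ψ.1 : Cfsg.IrrCharacter G) : G → ℂ) y) ?_ χ
    funext x
    simp only [Finset.sum_apply, Pi.smul_apply, smul_eq_mul, Pi.zero_apply, r, pRegularPart]
    by_cases hx : IsPRegular p x
    · simp only [if_pos hx]
      have h1 := sum_block_regular_singular hM hB (x := x) (y := y) hx hy
      rw [finsum_mem_eq_toFinset_sum] at h1
      rw [← h1, ← Finset.sum_subtype B.toFinset (fun a => Set.mem_toFinset)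
        (fun ψ : Cfsg.IrrCharacter G => (ψ : G → ℂ) y * (ψ : G → ℂ) x)]
      exact Finset.sum_congr rfl fun ψ _ => mul_comm _ _
    · simp [if_neg hx]
  obtain ⟨χ, hχ⟩ := IsPBlock.nonempty hB
  refine hsing χ ?_
  rw [IsPBlock.eq_blockOf hB hχ]
  refine Set.eq_singleton_iff_unique_mem.mpr ⟨mem_blockOf_self χ, fun ψ hψ => ?_⟩
  refine mem_of_sameBlock_of_blockCoeff_mem (A := {χ}) (fun g => ?_) rfl hψ
  refine blockCoeff_mem_of_orth hM {χ} (fun x y _ hy => ?_) g
  rw [finsum_mem_singleton, hvan ⟨χ, hχ⟩ y hy, mul_zero]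

end Cfsg.Agent.S4733
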