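import Cfsg.Statements.S3771
import Mathlib
import Cfsg.Agent.Lib.PGroups.MaxAbelian
import Cfsg.Agent.Lib.PGroups.ClassTwo

set_option autoImplicit false
open Cfsg

namespace Cfsg.Agent.S3771

open CfsgLib.PGroups
open scoped commutatorElement


/-- Let p be a prime and R a finite p-group of p-rank at most 2 (no elementary abelian subgroup of order p³) in which every element has order dividing p. Then R has order at most p³. -/
theorem result {R : Type*} [Group R] [Finite R] {p : ℕ} [Fact p.Prime] (hR : IsPGroup p R) (hrank : Cfsg.PRankLE p 2 R) (hexp : ∀ x : R, x ^ p = 1) : Nat.card R ≤ p ^ 3 := by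
  obtain ⟨A, hAn, hAc, hCA⟩ := exists_selfCentralizing' hR
  have hA2 : Nat.card A ≤ p ^ 2 := hrank A hAc (fun a _ => hexp a)
  obtain ⟨i, hi⟩ := IsPGroup.iff_card.mp (hR.to_subgroup A)
  have hp := (Fact.out : p.Prime)
  have hi2 : i ≤ 2 := (Nat.pow_le_pow_iff_right hp.one_lt).mp (hi ▸ hA2)
  rcases Nat.lt_or_ge i 2 with hlt | hge
  · -- `A` is central, so `R = A`
    have hcen : A ≤ Subgroup.center R := by
      interval_cases i
      · rw [pow_zero, Subgroup.card_eq_one] at hi; rw [hi]; exact bot_le
      · exact le_center_of_card_prime hR (by simpa using hi)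
    have : A = ⊤ := top_le_iff.mp (by rw [← hCA, Subgroup.le_centralizer_iff, Subgroup.coe_top, Subgroup.centralizer_univ]; exact hcen)
    rw [← Subgroup.card_top (G := R), ← this, hi]
    exact Nat.pow_le_pow_right hp.pos (by omega)
  have hi' : i = 2 := by omega
  subst hi'
  have hne : A ≠ ⊥ := by
    rintro rfl
    rw [Subgroup.card_bot] at hi
    exact absurd hi.symm (Nat.one_lt_pow (by norm_num) hp.one_lt).ne'
  obtain ⟨z, hz, hz1⟩ : ∃ z ∈ A ⊓ Subgroup.center R, z ≠ 1 := by
    have := inf_center_ne_bot hR hne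
    rw [Ne, Subgroup.eq_bot_iff_forall] at this
    push Not at this
    exact this
  have hord : orderOf z = p := orderOf_eq_prime (hexp z) hz1
  set Z := Subgroup.zpowers z with hZ
  have hZc : Nat.card Z = p := by rw [hZ, Nat.card_zpowers, hord]
  have hZle : Z ≤ Subgroup.center R := Subgroup.zpowers_le.mpr hz.2
  have hZA : Z ≤ A := Subgroup.zpowers_le.mpr hz.1
  haveI : Z.Normal := ⟨fun n hn g => by
    rw [Subgroup.mem_center_iff.mp (hZle hn) g, mul_inv_cancel_right]; exact hn⟩
  obtain ⟨a, ha, haZ⟩ : ∃ a ∈ A, a ∉ Z := by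
    refine SetLike.not_le_iff_exists.mp fun h => ?_
    have := Subgroup.card_le_of_le h
    rw [hi, hZc] at this
    nlinarith [hp.two_le]
  have hsup : Z ⊔ Subgroup.zpowers a = A := by
    refine Subgroup.eq_of_le_of_card_ge (sup_le hZA (Subgroup.zpowers_le.mpr ha)) ?_
    have h := mul_card_le_of_lt (hR.to_subgroup _) (p := p)
      (lt_of_le_of_ne (le_sup_left : Z ≤ Z ⊔ Subgroup.zpowers a)
        (fun h => haZ (h ▸ Subgroup.mem_sup_right (Subgroup.mem_zpowers a))))
    rw [hi, sq]; rwa [hZc] at h
  have hmem : ∀ g : R, ⁅g, a⁆ ∈ Z := by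
    intro g
    have hmc : A.map (QuotientGroup.mk' Z) ≤ Subgroup.center (R ⧸ Z) := by
      haveI := hAn.map (QuotientGroup.mk' Z) (QuotientGroup.mk'_surjective Z)
      refine le_center_of_card_prime (hR.to_quotient Z) ?_
      have h := Subgroup.relIndex_ker (K := A) (QuotientGroup.mk' Z)
      rw [QuotientGroup.ker_mk'] at h
      have h2 := Subgroup.relIndex_mul_relIndex ⊥ Z A bot_le hZA
      rw [Subgroup.relIndex_bot_left, Subgroup.relIndex_bot_left, hi, hZc, h, sq] at h2
      exact Nat.eq_of_mul_eq_mul_left hp.pos h2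
    have h := Subgroup.mem_center_iff.mp (hmc ⟨a, ha, rfl⟩) (QuotientGroup.mk' Z g)
    rw [← QuotientGroup.eq_one_iff, ← QuotientGroup.mk'_apply, commutatorElement_def, map_mul,
      map_mul, map_mul, map_inv, map_inv, h]
    group
  let φ : R →* R :=
    { toFun := fun g => ⁅g, a⁆
      map_one' := commutatorElement_one_left a
      map_mul' := fun g h => comm_mul_left_of_central (hZle (hmem h)) }
  have hker : φ.ker ≤ A := by
    intro g hg
    rw [← hCA, Subgroup.mem_centralizer_iff]
    intro b hb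
    have hga : Commute g a := commutatorElement_eq_one_iff_commute.mp hg
    rw [SetLike.mem_coe, ← hsup, Subgroup.mem_sup_of_normal_left] at hb
    obtain ⟨u, hu, v, hv, rfl⟩ := hb
    obtain ⟨k, rfl⟩ := Subgroup.mem_zpowers_iff.mp hv
    exact ((Commute.mul_right (Subgroup.mem_center_iff.mp (hZle hu) g : g * u = u * g)
      (hga.zpow_right k))).eq.symm
  have hidx : A.index ≤ p := by
    refine le_trans (Nat.le_of_dvd (Nat.pos_of_ne_zero Subgroup.index_ne_zero_of_finite)
      (Subgroup.index_dvd_of_le hker)) ?_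
    rw [Subgroup.index_ker, ← hZc]
    exact Subgroup.card_le_of_le (by rintro _ ⟨g, rfl⟩; exact hmem g)
  rw [← A.card_mul_index, hi, pow_succ p 2]
  exact Nat.mul_le_mul_left _ hidx

end Cfsg.Agent.S3771
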