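import Cfsg.Statements.S0220
import Cfsg.Agent.Lib.Signalizer.Count
import Cfsg.Agent.Lib.Transfer.Conj

set_option autoImplicit false
open Cfsg

namespace Cfsg.Agent.S0220

/-- If x is an involution of a finite group G and a Sylow 2-subgroup of the centralizer of x is cyclic, then G has a subgroup of index 2; in particular G is not simple unless it has order 2. -/
theorem result {G : Type*} [Group G] [Finite G] (x : G) (hx : orderOf x = 2) (S : Sylow 2 ↥(Subgroup.centralizer ({x} : Set G))) (hS : IsCyclic (S : Subgroup ↥(Subgroup.centralizer ({x} : Set G)))) : ∃ H : Subgroup G, H.index = 2 := by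
  have hxC : x ∈ (Subgroup.centralizer ({x} : Set G)) := Subgroup.mem_centralizer_singleton_iff.mpr rfl
  have heven : Even (Nat.card G) := even_iff_two_dvd.mpr (hx ▸ orderOf_dvd_natCard x)
  set R := (S : Subgroup (Subgroup.centralizer ({x} : Set G))).map (Subgroup.centralizer ({x} : Set G)).subtype with hR
  have hRp : IsPGroup 2 R := S.2.map _
  haveI : IsCyclic (S : Subgroup (Subgroup.centralizer ({x} : Set G))) := hS
  have hRc : IsCyclic R :=
    isCyclic_of_surjective _ ((S : Subgroup (Subgroup.centralizer ({x} : Set G))).equivMapOfInjective (Subgroup.centralizer ({x} : Set G)).subtype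
      (Subgroup.centralizer ({x} : Set G)).subtype_injective).surjective
  have hxR : x ∈ R := by
    have hz : Subgroup.zpowers (⟨x, hxC⟩ : (Subgroup.centralizer ({x} : Set G))) ≤ (S : Subgroup (Subgroup.centralizer ({x} : Set G))) := by
      haveI : (Subgroup.zpowers (⟨x, hxC⟩ : (Subgroup.centralizer ({x} : Set G)))).Normal := by
        rw [← Subgroup.normalizer_eq_top_iff, eq_top_iff]
        refine le_trans ?_ (Subgroup.centralizer_le_normalizer _)
        intro c _
        rw [Subgroup.mem_centralizer_iff]
        intro y hy
        obtain ⟨k, rfl⟩ := Subgroup.mem_zpowers_iff.mp hy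
        have hxc : Commute (⟨x, hxC⟩ : (Subgroup.centralizer ({x} : Set G))) c :=
          Subtype.ext (Subgroup.mem_centralizer_singleton_iff.mp c.2).symm
        exact hxc.zpow_left k
      refine IsPGroup.le_sylow_of_normal ?_ S
      exact IsPGroup.of_card (n := 1) (by rw [Nat.card_zpowers, Subgroup.orderOf_mk, hx, pow_one])
    exact ⟨_, hz (Subgroup.mem_zpowers _), rfl⟩
  obtain ⟨P, hP⟩ := hRp.exists_le_sylow
  have hRP : R = (P : Subgroup G) := by
    by_contra hne
    have hlt := CfsgLib.Transfer.lt_inf_normalizer P.2 (lt_of_le_of_ne hP hne)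
    have hle : (P : Subgroup G) ⊓ Subgroup.normalizer (R : Set G) ≤ (Subgroup.centralizer ({x} : Set G)) := by
      intro g hg
      have hgx : g * x * g⁻¹ ∈ R := (Subgroup.mem_normalizer_iff.mp hg.2 x).mp hxR
      have hu : ∀ a ∈ R, orderOf a = 2 → a = x := by
        intro a ha hao
        classical
        haveI := hRc
        haveI := Fintype.ofFinite R
        by_contra hne
        have hcnt := IsCyclic.card_pow_eq_one_le (α := R) (n := 2) (by norm_num)
        have hsub : ({1, ⟨a, ha⟩, ⟨x, hxR⟩} : Finset R) ⊆ Finset.univ.filter (fun r => r ^ 2 = 1) := by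
          intro r hr
          simp only [Finset.mem_insert, Finset.mem_singleton] at hr
          simp only [Finset.mem_filter, Finset.mem_univ, true_and]
          rcases hr with rfl | rfl | rfl
          · exact one_pow 2
          · exact Subtype.ext ((sq a).trans (CfsgLib.Signalizer.involution_sq hao))
          · exact Subtype.ext ((sq x).trans (CfsgLib.Signalizer.involution_sq hx))
        have h3 := (Finset.card_le_card hsub).trans hcnt
        rw [Finset.card_eq_three.mpr ⟨_, _, _,
          fun h => CfsgLib.Signalizer.involution_ne_one hao (congrArg Subtype.val h).symm,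
          fun h => CfsgLib.Signalizer.involution_ne_one hx (congrArg Subtype.val h).symm,
          fun h => hne (congrArg Subtype.val h), rfl⟩] at h3
        omega
      have := hu _ hgx ((CfsgLib.Signalizer.orderOf_conj g x).trans hx)
      exact Subgroup.mem_centralizer_singleton_iff.mpr (mul_inv_eq_iff_eq_mul.mp this)
    have hmax := S.3 (Q := ((P : Subgroup G) ⊓ Subgroup.normalizer (R : Set G)).comap (Subgroup.centralizer ({x} : Set G)).subtype)
      ((P.2.to_le inf_le_left).comap_subtype) (fun s hs => (le_of_lt hlt) ⟨s, hs, rfl⟩)
    refine hlt.ne ?_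
    rw [← Subgroup.map_comap_eq_self (hle.trans (Subgroup.range_subtype _).ge), hmax]
  haveI := hRc
  exact CfsgLib.Signalizer.index_two_of_cyclic_sylow heven P
    (isCyclic_of_surjective _ (MulEquiv.subgroupCongr hRP).surjective)

end Cfsg.Agent.S0220
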