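import Cfsg.Statements.S5626
import Cfsg.Agent.Lib.ThreeTrans.PlaneFour
-- import your own Cfsg.Agent.* helpers here

set_option autoImplicit false
open Cfsg

namespace Cfsg.Agent.S5626

/-- Uniqueness of the projective plane of order 4: any two Steiner systems S(2, 5, 21) (21 points, lines of 5 points, two points on exactly one line) are isomorphic. -/
theorem result {α β : Type*} [Fintype α] [DecidableEq α] [Fintype β] [DecidableEq β] (hα : Fintype.card α = 21) (hβ : Fintype.card β = 21) {L : Set (Finset α)} {L' : Set (Finset β)} (hL : Cfsg.IsSteinerSystem 2 5 L) (hL' : Cfsg.IsSteinerSystem 2 5 L') : Cfsg.SetSystemIso L L' := by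
  obtain ⟨C⟩ := CfsgLib.ThreeTrans.PlaneFour.exists_chart hα hL
  obtain ⟨D⟩ := CfsgLib.ThreeTrans.PlaneFour.exists_chart hβ hL'
  choose f hf using fun x => D.surj _ (C.img x)
  have hinj : Function.Injective f := fun x y e => C.inj (by rw [← hf x, ← hf y, e])
  refine ⟨Equiv.ofBijective f ((Fintype.bijective_iff_injective_and_card f).2 ⟨hinj, by rw [hα, hβ]⟩), ?_⟩
  have hkey : ∀ a : Finset α, (a.image f).image D.e = a.image C.e := fun a => by
    rw [Finset.image_image]
    exact Finset.image_congr fun x _ => hf x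
  ext b
  constructor
  · rintro ⟨a, ha, rfl⟩
    show a.image f ∈ L'
    rw [D.lines, hkey, ← C.lines]
    exact ha
  · intro hb
    have hsurj : Function.Surjective f :=
      ((Fintype.bijective_iff_injective_and_card f).2 ⟨hinj, by rw [hα, hβ]⟩).2
    obtain ⟨a, -, rfl⟩ := Finset.subset_image_iff.1 (show b ⊆ Finset.univ.image f from fun x _ => Finset.mem_image.2 ((hsurj x).imp fun _ h => ⟨Finset.mem_univ _, h⟩))
    exact ⟨a, by rw [C.lines, ← hkey, ← D.lines]; exact hb, rfl⟩

end Cfsg.Agent.S5626
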