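import Cfsg.Statements.S0198
import Cfsg.Agent.Lib.Char.Exceptional.Virtual

set_option autoImplicit false
open Cfsg

namespace Cfsg.Agent.S0198

/-- The isometry lemma behind exceptional characters. Let τ be a family of generalized characters of a finite group G indexed by Fin n, with τ i₀ = 0, every τ i vanishing at the identity, and inner products ⟨τ i, τ j⟩ = 2 if i = j and 1 otherwise for i, j ≠ i₀. Then there are a sign ε and pairwise distinct irreducible characters μ i with τ i = ε (μ i − μ i₀) for all i. -/
theorem result {G : Type*} [Group G] [Fintype G] (n : ℕ) (i₀ : Fin n) (τ : Fin n → (G → ℂ)) (h0 : τ i₀ = 0) (hgen : ∀ i, Cfsg.IsGeneralizedCharacter G (τ i)) (hone : ∀ i, τ i 1 = 0) (hgram : ∀ i j, i ≠ i₀ → j ≠ i₀ → Cfsg.classInner (τ i) (τ j) = if i = j then 2 else 1) : ∃ ε : ℂ, (ε = 1 ∨ ε = -1) ∧ ∃ μ : Fin n → (G → ℂ), (∀ i, Cfsg.IsIrrCharacter G (μ i)) ∧ Function.Injective μ ∧ ∀ i, τ i = ε • (μ i - μ i₀) := by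
  classical
  have hex : ∀ i, i ≠ i₀ → ∃ a b : G → ℂ, Cfsg.IsIrrCharacter G a ∧ Cfsg.IsIrrCharacter G b ∧
      a ≠ b ∧ τ i = a - b := fun i hi =>
    CfsgLib.Char.Exceptional.IsGen.norm_two (hgen i) (by rw [hgram i i hi hi, if_pos rfl]) (hone i)
  choose a b ha hb hab hτ using hex
  have hval : ∀ (i j : Fin n) (hi : i ≠ i₀) (hj : j ≠ i₀), i ≠ j →
      ((if a i hi = a j hj then (1 : ℂ) else 0) - (if a i hi = b j hj then 1 else 0)) -
        ((if b i hi = a j hj then 1 else 0) - (if b i hi = b j hj then 1 else 0)) = 1 := by
    intro i j hi hj hij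
    have h := hgram i j hi hj
    rw [hτ i hi, hτ j hj, if_neg hij, CfsgLib.Char.classInner_sub_left,
      CfsgLib.Char.classInner_sub_right, CfsgLib.Char.classInner_sub_right,
      CfsgLib.Char.Exceptional.classInner_of_irr (ha i hi) (ha j hj),
      CfsgLib.Char.Exceptional.classInner_of_irr (ha i hi) (hb j hj),
      CfsgLib.Char.Exceptional.classInner_of_irr (hb i hi) (ha j hj),
      CfsgLib.Char.Exceptional.classInner_of_irr (hb i hi) (hb j hj)] at h
    exact h
  -- two distinct `τ`s share exactly one constituent, with the same sign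
  have hshare : ∀ (i j : Fin n) (hi : i ≠ i₀) (hj : j ≠ i₀), i ≠ j →
      (a i hi = a j hj ∧ b i hi ≠ b j hj) ∨ (b i hi = b j hj ∧ a i hi ≠ a j hj) := by
    intro i j hi hj hij
    have h := hval i j hi hj hij
    by_cases e1 : a i hi = a j hj
    · refine Or.inl ⟨e1, fun e2 => ?_⟩
      rw [if_pos e1, if_pos e2, if_neg (fun e => hab j hj (e1.symm.trans e)),
        if_neg (fun e => hab j hj (e.symm.trans e2))] at h
      norm_num at h
    · refine Or.inr ⟨?_, e1⟩
      by_contra e2
      rw [if_neg e1, if_neg e2] at h
      split_ifs at h <;> norm_num at h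
  by_cases hA : ∀ (i j : Fin n) (hi : i ≠ i₀) (hj : j ≠ i₀), i ≠ j → b i hi = b j hj
  · -- common negative constituent
    by_cases hsingle : ∃ i, i ≠ i₀
    · obtain ⟨i₁, hi₁⟩ := hsingle
      refine ⟨1, Or.inl rfl, fun i => if h : i = i₀ then b i₁ hi₁ else a i h, ?_, ?_, ?_⟩
      · intro i
        by_cases h : i = i₀
        · simp only [dif_pos h]; exact hb i₁ hi₁
        · simp only [dif_neg h]; exact ha i h
      · intro i j e
        by_cases h : i = i₀ <;> by_cases h' : j = i₀
        · rw [h, h']
        · simp only [dif_pos h, dif_neg h'] at e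
          exfalso
          by_cases hj : i₁ = j
          · subst hj; exact hab _ hi₁ e.symm
          · exact hab j h' (e.symm.trans (hA i₁ j hi₁ h' hj))
        · simp only [dif_neg h, dif_pos h'] at e
          exfalso
          by_cases hj : i₁ = i
          · subst hj; exact hab _ hi₁ e
          · exact hab i h (e.trans (hA i₁ i hi₁ h hj))
        · simp only [dif_neg h, dif_neg h'] at e
          by_contra hij
          exact ((hshare i j h h' hij).resolve_left fun hh => hh.2 (hA i j h h' hij)).2 e
      · intro i
        by_cases h : i = i₀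
        · subst h; simp [h0]
        · dsimp only
          rw [one_smul, dif_neg h, dif_pos rfl, hτ i h]
          by_cases hj : i₁ = i
          · subst hj; rfl
          · rw [hA i₁ i hi₁ h hj]
    · push Not at hsingle
      refine ⟨1, Or.inl rfl, fun _ => fun _ => 1, fun _ => CfsgLib.Char.isIrrCharacter_one, ?_, ?_⟩
      · intro i j _; rw [hsingle i, hsingle j]
      · intro i; rw [hsingle i, h0, sub_self, smul_zero]
  · push Not at hA
    obtain ⟨i, j, hi, hj, hij, hbne⟩ := hA
    have haij : a i hi = a j hj := ((hshare i j hi hj hij).resolve_right fun h => hbne h.1).1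
    have hall : ∀ (k : Fin n) (hk : k ≠ i₀), a k hk = a i hi := by
      intro k hk
      by_cases hki : k = i
      · subst hki; rfl
      by_cases hkj : k = j
      · subst hkj; exact haij.symm
      by_contra hne
      have h1 := (hshare k i hk hi hki).resolve_left fun h => hne h.1
      have h2 := (hshare k j hk hj hkj).resolve_left fun h => hne (h.1.trans haij.symm)
      exact hbne (h1.1.symm.trans h2.1)
    refine ⟨-1, Or.inr rfl, fun k => if h : k = i₀ then a i hi else b k h, ?_, ?_, ?_⟩
    · intro k
      by_cases h : k = i₀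
      · simp only [dif_pos h]; exact ha i hi
      · simp only [dif_neg h]; exact hb k h
    · intro k l e
      by_cases h : k = i₀ <;> by_cases h' : l = i₀
      · rw [h, h']
      · simp only [dif_pos h, dif_neg h'] at e
        exact absurd ((hall l h').trans e) (hab l h')
      · simp only [dif_neg h, dif_pos h'] at e
        exact absurd ((hall k h).trans e.symm) (hab k h)
      · simp only [dif_neg h, dif_neg h'] at e
        by_contra hkl
        exact ((hshare k l h h' hkl).resolve_right fun hh =>
          hh.2 ((hall k h).trans (hall l h').symm)).2 e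
    · intro k
      by_cases h : k = i₀
      · subst h; simp [h0]
      · dsimp only
        rw [dif_neg h, dif_pos rfl, neg_one_smul, neg_sub, hτ k h, hall k h]

end Cfsg.Agent.S0198
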