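import Cfsg.Statements.S0857
import Mathlib
import Cfsg.Agent.Lib.Char.Exceptional.ChiefRestrict

set_option autoImplicit false
open Cfsg

namespace Cfsg.Agent.S0857

/-- Let L < K be normal subgroups of the finite group G with no normal subgroup of G strictly between them and with K / L abelian (the commutator subgroup of K lies in L). Let ϑ be an irreducible character of K invariant under conjugation by G. Then the restriction of ϑ to L is irreducible; or it equals e times an irreducible character of L with e ^ 2 equal to the index of L in K; or it is the sum of a family of pairwise distinct irreducible characters of L indexed by a set whose size is the index of L in K. -/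
theorem result {G : Type*} [Group G] [Fintype G] (K L : Subgroup G) [hK : K.Normal] [L.Normal] (hLK : L < K) (hchief : ∀ M : Subgroup G, M.Normal → L ≤ M → M ≤ K → M = L ∨ M = K) (hab : ⁅K, K⁆ ≤ L) (ϑ : K → ℂ) (hϑ : Cfsg.IsIrrCharacter K ϑ) (hinv : ∀ (g : G) (n : K), ϑ ⟨g * n * g⁻¹, hK.conj_mem (n : G) n.2 g⟩ = ϑ n) : Cfsg.IsIrrCharacter L (fun x : L => ϑ ⟨(x : G), hLK.le x.2⟩) ∨ (∃ (φ : L → ℂ) (e : ℕ), Cfsg.IsIrrCharacter L φ ∧ (fun x : L => ϑ ⟨(x : G), hLK.le x.2⟩) = (e : ℂ) • φ ∧ e ^ 2 = L.relIndex K) ∨ (∃ F : Finset (L → ℂ), (∀ φ ∈ F, Cfsg.IsIrrCharacter L φ) ∧ F.card = L.relIndex K ∧ (fun x : L => ϑ ⟨(x : G), hLK.le x.2⟩) = ∑ φ ∈ F, φ) := by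
  classical
  have hle := hLK.le
  set M := L.subgroupOf K with hMdef
  haveI hMn : M.Normal := (inferInstance : L.Normal).subgroupOf K
  have := Fintype.ofFinite K
  have := Fintype.ofFinite M
  let eM : M ≃* L := Subgroup.subgroupOfEquivOfLe hle
  have hindex : M.index = L.relIndex K := rfl
  have habK : ∀ x y : K, x * y * x⁻¹ * y⁻¹ ∈ M := fun x y =>
    hab (Subgroup.commutator_mem_commutator x.2 y.2)
  let cK : G → K → K := fun g n => ⟨g * n * g⁻¹, hK.conj_mem (n : G) n.2 g⟩
  have hcKmem : ∀ g : G, ∀ n : K, n ∈ M → cK g n ∈ M := fun g n hn =>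
    (inferInstance : L.Normal).conj_mem (n : G) hn g
  have hchief' : ∀ U : Subgroup K, M ≤ U → (∀ g n, n ∈ U → cK g n ∈ U) → U = M ∨ U = ⊤ := by
    intro U hMU hinvU
    have hn : (U.map K.subtype).Normal := by
      refine ⟨?_⟩
      rintro _ ⟨n, hn, rfl⟩ g
      exact ⟨cK g n, hinvU g n hn, rfl⟩
    rcases hchief (U.map K.subtype) hn (fun x hx => ⟨⟨x, hle hx⟩, hMU hx, rfl⟩)
      (Subgroup.map_subtype_le U) with h | h
    · left
      refine le_antisymm (fun x hx => ?_) hMU
      show (x : G) ∈ L
      exact h ▸ ⟨x, hx, rfl⟩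
    · right
      refine (Subgroup.eq_top_iff' U).2 fun x => ?_
      obtain ⟨y, hy, hyx⟩ : (x : G) ∈ U.map K.subtype := h.symm ▸ x.2
      exact Subtype.ext hyx ▸ hy
  have hresfun : ∀ F : M → ℂ, (fun m : M => ϑ m) = F →
      (fun x : L => ϑ ⟨(x : G), hle x.2⟩) = fun x => F (eM.symm x) := fun F hF =>
    funext fun x => congrFun hF (eM.symm x)
  have hirrL : ∀ F : M → ℂ, Cfsg.IsIrrCharacter M F → Cfsg.IsIrrCharacter L (fun x => F (eM.symm x)) :=
    fun F hF => CfsgLib.Char.IsIrr.comp_surjective eM.symm.toMonoidHom eM.symm.surjective hF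
  set U := Subgroup.closure ((M : Set K) ∪ {x : K | ϑ x ≠ 0}) with hU
  have hUinv : ∀ g n, n ∈ U → cK g n ∈ U := by
    intro g n hn
    let f : K →* K :=
      { toFun := cK g
        map_one' := Subtype.ext (by simp [cK])
        map_mul' := fun a b => Subtype.ext (by simp [cK, mul_assoc]) }
    have h : U ≤ U.comap f := by
      rw [hU, Subgroup.closure_le]
      rintro x (hx | hx)
      · exact Subgroup.subset_closure (Or.inl (hcKmem g x hx))
      · exact Subgroup.subset_closure (Or.inr (show ϑ (cK g x) ≠ 0 by rw [show ϑ (cK g x) = ϑ x from hinv g x]; exact hx))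
    exact h hn
  rcases hchief' U (fun x hx => Subgroup.subset_closure (Or.inl hx)) hUinv with h | h
  · -- `ϑ` vanishes off `L`
    have hvan : ∀ x, x ∉ M → ϑ x = 0 := fun x hx => by
      by_contra hne
      exact hx (h ▸ Subgroup.subset_closure (Or.inr hne))
    obtain ⟨φ, c, F, hφ, hc, hφne, hF, hcard, hres, hnorm, hFmem, hForb⟩ :=
      CfsgLib.Char.Exceptional.classInner_restrict_clifford (M := M) hϑ
    rw [CfsgLib.Char.Exceptional.classInner_restrict_of_vanish hϑ hvan] at hnorm
    have hn : M.index = c ^ 2 * F.card := Nat.cast_injective hnorm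
    have hT : CfsgLib.Clifford.inertia hMn φ = M ∨ CfsgLib.Clifford.inertia hMn φ = ⊤ := by
      refine hchief' _ (CfsgLib.Clifford.le_inertia hMn (CfsgLib.Char.IsIrr.isClassFunction hφ)) ?_
      intro g n hn
      -- the `g`-conjugate of `φ` is a constituent, hence a `K`-conjugate
      let σ : M ≃* M :=
        { toFun := fun m => ⟨cK g m, hcKmem g m m.2⟩
          invFun := fun m => ⟨cK g⁻¹ m, hcKmem g⁻¹ m m.2⟩
          left_inv := fun m => Subtype.ext (Subtype.ext (by simp [cK, mul_assoc]))
          right_inv := fun m => Subtype.ext (Subtype.ext (by simp [cK, mul_assoc]))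
          map_mul' := fun a b => Subtype.ext (Subtype.ext (by simp [cK, mul_assoc])) }
      have hirr : Cfsg.IsIrrCharacter M (fun m => φ (σ.symm m)) :=
        CfsgLib.Char.IsIrr.comp_surjective σ.symm.toMonoidHom σ.symm.surjective hφ
      have hψ : (fun m => φ (σ.symm m)) ∈ F := by
        by_contra hnot
        refine hφne ?_
        have h0 : Cfsg.classInner (fun m : M => ϑ m) (fun m => φ (σ.symm m)) = 0 := by
          rw [hres, CfsgLib.Char.classInner_smul_left, CfsgLib.Char.classInner_sum_left,
            Finset.sum_eq_zero, mul_zero]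
          intro ψ hψ
          exact CfsgLib.Char.classInner_irr_of_ne (χ := ⟨ψ, hF ψ hψ⟩) (ψ := ⟨_, hirr⟩)
            fun e => hnot (by
              have h2 : ψ = fun m => φ (σ.symm m) := congrArg Subtype.val e
              rw [← h2]; exact hψ)
        rw [← h0, ← CfsgLib.Clifford.classInner_comp_equiv σ (fun m : M => ϑ m) (fun m => φ (σ.symm m))]
        congr 1
        · funext m; exact (hinv g m).symm
        · funext m; simp
      obtain ⟨k, hk⟩ := hForb _ hψ
      rw [CfsgLib.Clifford.mem_inertia] at hn ⊢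
      have habel : ∀ t k : K, t ∈ CfsgLib.Clifford.inertia hMn φ →
          k * t * k⁻¹ ∈ CfsgLib.Clifford.inertia hMn φ := by
        intro t k ht
        rw [show k * t * k⁻¹ = (k * t * k⁻¹ * t⁻¹) * t by group]
        exact mul_mem (CfsgLib.Clifford.le_inertia hMn (CfsgLib.Char.IsIrr.isClassFunction hφ)
          (habK k t)) ht
      have hfix : CfsgLib.Clifford.conjFn hMn (CfsgLib.Clifford.conjFn hMn φ k) (cK g n) =
          CfsgLib.Clifford.conjFn hMn φ k := by
        rw [hk]
        funext m
        have := congrFun hn (σ.symm m)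
        simp only [CfsgLib.Clifford.conjFn_apply] at this ⊢
        refine Eq.trans ?_ this
        refine congrArg φ (Subtype.ext (Subtype.ext ?_))
        show g⁻¹ * ((g * (n : G) * g⁻¹) * ((m : K) : G) * (g * (n : G) * g⁻¹)⁻¹) * g⁻¹⁻¹ =
          (n : G) * (g⁻¹ * ((m : K) : G) * g⁻¹⁻¹) * (n : G)⁻¹
        group
      have hmem : k * cK g n * k⁻¹ ∈ CfsgLib.Clifford.inertia hMn φ := by
        rw [CfsgLib.Clifford.mem_inertia, CfsgLib.Clifford.conjFn_mul, CfsgLib.Clifford.conjFn_mul, hfix,
          ← CfsgLib.Clifford.conjFn_mul, mul_inv_cancel, CfsgLib.Clifford.conjFn_one]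
      have h2 := habel _ k⁻¹ hmem
      rw [show k⁻¹ * (k * cK g n * k⁻¹) * k⁻¹⁻¹ = cK g n by group] at h2
      exact h2
    right
    rcases hT with hT | hT
    · right
      rw [hT] at hcard
      have hc1 : c = 1 := by
        rw [hcard] at hn
        have h1 : c ^ 2 = 1 := Nat.eq_of_mul_eq_mul_right
          (Nat.pos_of_ne_zero Subgroup.index_ne_zero_of_finite) (hn.symm.trans (one_mul _).symm)
        exact (Nat.pow_eq_one.1 h1).resolve_right (by norm_num)
      refine ⟨F.image fun ψ => fun x => ψ (eM.symm x), ?_, ?_, ?_⟩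
      · intro ψ hψ
        obtain ⟨ψ', hψ', rfl⟩ := Finset.mem_image.1 hψ
        exact hirrL ψ' (hF ψ' hψ')
      · rw [Finset.card_image_of_injective _ (fun a b hab => funext fun m => by
          simpa using congrFun hab (eM m)), hcard, hindex]
      · rw [hresfun _ hres, Finset.sum_image (fun a _ b _ hab => funext fun m => by
          simpa using congrFun hab (eM m))]
        funext x
        simp [hc1]
    · left
      rw [hT, Subgroup.index_top] at hcard
      obtain ⟨ψ, rfl⟩ := Finset.card_eq_one.1 hcard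
      refine ⟨fun x => ψ (eM.symm x), c, hirrL ψ (hF ψ (Finset.mem_singleton_self _)), ?_, ?_⟩
      · rw [hresfun _ hres]; funext x; simp
      · rw [← hindex, hn, hcard, mul_one]
  · left
    rw [hresfun _ rfl]
    exact hirrL _ (CfsgLib.Char.Exceptional.restrict_irr_of_support habK hϑ h)

end Cfsg.Agent.S0857
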