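import Cfsg.Statements.S2566
-- import your own Cfsg.Agent.* helpers here

set_option autoImplicit false
open Cfsg

namespace Cfsg.Agent.S2566

open Matrix Kronecker

abbrev I4 := Fin 2 ⊕ Fin 2

abbrev Q4 : (I4 → ZMod 2) → ZMod 2 := Cfsg.quadFormPlus 2 (ZMod 2)

abbrev O4 := ↥(Cfsg.isometryGroup (ZMod 2) (Cfsg.quadFormPlus 2 (ZMod 2)))

/-- the four coordinates as a 2 x 2 square -/
def idx : I4 ≃ Fin 2 × Fin 2 where
  toFun := Sum.elim (fun i => (0, i)) (fun i => (1, if i = 0 then 1 else 0))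
  invFun x := if x.1 = 0 then Sum.inl x.2 else Sum.inr (if x.2 = 1 then 0 else 1)
  left_inv := by decide
  right_inv := by decide

/-- the two-dimensional representation of the symmetric group of degree three -/
def R3 (σ : Equiv.Perm (Fin 3)) : Matrix (Fin 2) (Fin 2) (ZMod 2) :=
  Matrix.of fun i j => if (if i = 0 then (0 : Fin 3) else 2) = σ j.castSucc ∨
    (if i = 0 then (0 : Fin 3) else 2) = σ j.succ then 1 else 0

lemma R3_mul : ∀ σ τ : Equiv.Perm (Fin 3), R3 (σ * τ) = R3 σ * R3 τ := by decide +kernel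

lemma R3_one : R3 1 = 1 := by decide +kernel

/-- Kronecker product on the four coordinates -/
def KM (x : Equiv.Perm (Fin 3) × Equiv.Perm (Fin 3)) : Matrix I4 I4 (ZMod 2) :=
  (R3 x.1 ⊗ₖ R3 x.2).submatrix idx idx

lemma KM_mul (x y : Equiv.Perm (Fin 3) × Equiv.Perm (Fin 3)) : KM (x * y) = KM x * KM y := by
  simp only [KM, Prod.fst_mul, Prod.snd_mul, R3_mul, Matrix.mul_kronecker_mul,
    Matrix.submatrix_mul_equiv]

lemma KM_one : KM 1 = 1 := by
  simp [KM, R3_one, Matrix.one_kronecker_one]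

lemma KM_left_isometry : ∀ σ : Equiv.Perm (Fin 3), ∀ v : I4 → ZMod 2,
    Q4 (KM (σ, 1) *ᵥ v) = Q4 v := by decide +kernel

lemma KM_right_isometry : ∀ σ : Equiv.Perm (Fin 3), ∀ v : I4 → ZMod 2,
    Q4 (KM (1, σ) *ᵥ v) = Q4 v := by decide +kernel

/-- Kronecker product as a unit -/
def KU : Equiv.Perm (Fin 3) × Equiv.Perm (Fin 3) →* GL I4 (ZMod 2) :=
  ({ toFun := KM, map_one' := KM_one, map_mul' := KM_mul } :
    Equiv.Perm (Fin 3) × Equiv.Perm (Fin 3) →* Matrix I4 I4 (ZMod 2)).toHomUnits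

lemma mem_O4 (u : GL I4 (ZMod 2)) :
    u ∈ Cfsg.isometryGroup (ZMod 2) (Cfsg.quadFormPlus 2 (ZMod 2)) ↔
      ∀ v, Q4 ((u : Matrix I4 I4 (ZMod 2)) *ᵥ v) = Q4 v := by
  constructor
  · intro h v; exact h v 0
  · intro h v _; exact h v

lemma KU_mem (x : Equiv.Perm (Fin 3) × Equiv.Perm (Fin 3)) :
    KU x ∈ Cfsg.isometryGroup (ZMod 2) (Cfsg.quadFormPlus 2 (ZMod 2)) := by
  rw [mem_O4]
  intro v
  have : x = (x.1, 1) * (1, x.2) := by simp
  show Q4 (KM x *ᵥ v) = Q4 v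
  rw [this, KM_mul, ← Matrix.mulVec_mulVec, KM_left_isometry, KM_right_isometry]

/-- the direct product of the two factors -/
def KO : Equiv.Perm (Fin 3) × Equiv.Perm (Fin 3) →* O4 := KU.codRestrict _ KU_mem

lemma KM_inj : ∀ σ τ : Equiv.Perm (Fin 3), KM (σ, τ) = 1 → σ = 1 ∧ τ = 1 := by decide +kernel

lemma KO_inj : Function.Injective KO := by
  rw [injective_iff_map_eq_one]
  intro x hx
  have h : KM x = 1 := congrArg (fun z : O4 => ((z : GL I4 (ZMod 2)) : Matrix I4 I4 (ZMod 2))) hx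
  obtain ⟨h1, h2⟩ := KM_inj x.1 x.2 h
  exact Prod.ext h1 h2

/-- the transposition -/
def TM : Matrix I4 I4 (ZMod 2) :=
  Matrix.of fun i j => if idx j = (idx i).swap then 1 else 0

lemma TM_mul : TM * TM = 1 := by decide +kernel

lemma TM_isometry : ∀ v : I4 → ZMod 2, Q4 (TM *ᵥ v) = Q4 v := by decide +kernel

lemma TM_ne : ∀ σ τ : Equiv.Perm (Fin 3), KM (σ, τ) ≠ TM := by decide +kernel

lemma TM_conj : ∀ σ : Equiv.Perm (Fin 3), TM * KM (σ, 1) * TM = KM (1, σ) := by decide +kernel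

/-- the transposition as an isometry -/
def TO : O4 := ⟨⟨TM, TM, TM_mul, TM_mul⟩, (mem_O4 _).2 TM_isometry⟩

/-- hyperbolic frames -/
def frames : Finset (Σ _ : I4 → ZMod 2, Σ _ : I4 → ZMod 2, Σ _ : I4 → ZMod 2, I4 → ZMod 2) :=
  (Finset.univ.filter fun a : I4 → ZMod 2 => a ≠ 0 ∧ Q4 a = 0).sigma fun a =>
    (Finset.univ.filter fun b : I4 → ZMod 2 => Q4 b = 0 ∧ Q4 (a + b) = 1).sigma fun b =>
      (Finset.univ.filter fun c : I4 → ZMod 2 =>
          c ≠ 0 ∧ Q4 c = 0 ∧ Q4 (a + c) = 0 ∧ Q4 (b + c) = 0).sigma fun c =>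
        Finset.univ.filter fun d : I4 → ZMod 2 =>
          Q4 d = 0 ∧ Q4 (a + d) = 0 ∧ Q4 (b + d) = 0 ∧ Q4 (c + d) = 1

lemma card_frames : frames.card = 72 := by decide +kernel

/-- the frame of an isometry -/
def toFrame (u : O4) : Σ _ : I4 → ZMod 2, Σ _ : I4 → ZMod 2, Σ _ : I4 → ZMod 2, I4 → ZMod 2 :=
  let M := ((u : GL I4 (ZMod 2)) : Matrix I4 I4 (ZMod 2))
  ⟨M *ᵥ Pi.single (.inl 0) 1, M *ᵥ Pi.single (.inr 0) 1, M *ᵥ Pi.single (.inl 1) 1,
    M *ᵥ Pi.single (.inr 1) 1⟩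

lemma toFrame_mem (u : O4) : toFrame u ∈ frames := by
  have h := (mem_O4 _).1 u.2
  have hne : ∀ i : I4, ((u : GL I4 (ZMod 2)) : Matrix I4 I4 (ZMod 2)) *ᵥ Pi.single i 1 ≠ 0 := by
    intro i h0
    have hi := congrArg (fun x => ((u : GL I4 (ZMod 2))⁻¹ : Matrix I4 I4 (ZMod 2)) *ᵥ x) h0
    simp only [Matrix.mulVec_mulVec, Matrix.mulVec_zero] at hi
    rw [← Matrix.coe_units_inv] at hi
    rw [Units.inv_mul, Matrix.one_mulVec] at hi
    have := congrFun hi i
    simp at this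
  simp only [frames, toFrame, Finset.mem_sigma, Finset.mem_filter, Finset.mem_univ, true_and]
  refine ⟨⟨hne _, ?_⟩, ⟨?_, ?_⟩, ⟨hne _, ?_, ?_, ?_⟩, ?_, ?_, ?_, ?_⟩
  all_goals
    try rw [← Matrix.mulVec_add]
    rw [h]
    decide +kernel

lemma toFrame_inj : Function.Injective toFrame := by
  intro u w huw
  apply Subtype.ext
  apply Units.ext
  refine Matrix.ext_of_mulVec_single fun i => ?_
  simp only [toFrame, Sigma.mk.injEq, heq_eq_eq] at huw
  obtain ⟨h1, h2, h3, h4⟩ := huw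
  rcases i with i | i <;> fin_cases i
  exacts [h1, h3, h2, h4]


/-- The full orthogonal group of the plus-type form x₁y₁ + x₂y₂ in dimension 4 over the field of two elements has order 72 and is isomorphic to the wreath product of the symmetric group of degree 3 by a group of order 2: it has a normal subgroup isomorphic to the direct product of two symmetric groups of degree 3, of index 2, whose two direct factors are interchanged by conjugation by some element. -/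
theorem result :
    Nat.card ↥(Cfsg.isometryGroup (ZMod 2) (Cfsg.quadFormPlus 2 (ZMod 2))) = 72 ∧
    ∃ (A B : Subgroup ↥(Cfsg.isometryGroup (ZMod 2) (Cfsg.quadFormPlus 2 (ZMod 2)))),
      Nonempty (↥A ≃* Equiv.Perm (Fin 3)) ∧ Nonempty (↥B ≃* Equiv.Perm (Fin 3)) ∧ A ⊓ B = ⊥ ∧ (∀ a ∈ A, ∀ b ∈ B, a * b = b * a) ∧
      (A ⊔ B).index = 2 ∧ ∃ g : ↥(Cfsg.isometryGroup (ZMod 2) (Cfsg.quadFormPlus 2 (ZMod 2))), A.map (MulAut.conj g).toMonoidHom = B := by
  have hle : Nat.card O4 ≤ 72 := by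
    have := Nat.card_le_card_of_injective (fun u => (⟨toFrame u, toFrame_mem u⟩ : ↥frames))
      (fun u w h => toFrame_inj (Subtype.ext_iff.1 h))
    rwa [Nat.card_eq_finsetCard, card_frames] at this
  let A : Subgroup O4 := (KO.comp (MonoidHom.inl _ _)).range
  let B : Subgroup O4 := (KO.comp (MonoidHom.inr _ _)).range
  have hAB : A ⊔ B = KO.range := by
    simp only [A, B, MonoidHom.range_comp, ← Subgroup.map_sup]
    rw [MonoidHom.range_eq_map KO]
    congr 1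
    rw [eq_top_iff]
    rintro ⟨a, b⟩ -
    have : ((a, b) : Equiv.Perm (Fin 3) × Equiv.Perm (Fin 3)) = (a, 1) * (1, b) := by simp
    rw [this]
    exact mul_mem (Subgroup.mem_sup_left ⟨a, rfl⟩) (Subgroup.mem_sup_right ⟨b, rfl⟩)
  have hcard : Nat.card KO.range = 36 := by
    rw [Nat.card_congr (MonoidHom.ofInjective KO_inj).toEquiv.symm, Nat.card_prod, Nat.card_perm,
      Nat.card_fin]
    rfl
  have hne : KO.range ≠ ⊤ := by
    intro h
    obtain ⟨x, hx⟩ : TO ∈ KO.range := h ▸ Subgroup.mem_top _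
    exact TM_ne x.1 x.2 (congrArg (fun z : O4 => ((z : GL I4 (ZMod 2)) : Matrix I4 I4 (ZMod 2))) hx)
  have hidx := KO.range.card_mul_index
  rw [hcard] at hidx
  have h2 : KO.range.index = 2 := by
    have h1 : KO.range.index ≠ 1 := fun h => hne (Subgroup.index_eq_one.1 h)
    have h0 : KO.range.index ≠ 0 := Subgroup.index_ne_zero_of_finite
    omega
  rw [h2] at hidx
  refine ⟨hidx.symm, A, B, ?_, ?_, ?_, ?_, by rw [hAB, h2], TO, ?_⟩
  · exact ⟨(MonoidHom.ofInjective (f := KO.comp (MonoidHom.inl _ _))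
      (KO_inj.comp (fun a b h => (Prod.ext_iff.1 h).1))).symm⟩
  · exact ⟨(MonoidHom.ofInjective (f := KO.comp (MonoidHom.inr _ _))
      (KO_inj.comp (fun a b h => (Prod.ext_iff.1 h).2))).symm⟩
  · rw [eq_bot_iff]
    rintro _ ⟨⟨a, rfl⟩, ⟨b, hb⟩⟩
    have h := (Prod.ext_iff.1 (KO_inj hb)).1
    rw [Subgroup.mem_bot, MonoidHom.comp_apply, show a = 1 from h.symm, map_one, map_one]
  · rintro _ ⟨a, rfl⟩ _ ⟨b, rfl⟩
    simp only [MonoidHom.comp_apply, ← map_mul]
    congr 1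
  · simp only [A, B, MonoidHom.map_range]
    congr 1
    refine MonoidHom.ext fun a => ?_
    apply Subtype.ext
    apply Units.ext
    exact TM_conj a

end Cfsg.Agent.S2566
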