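import Cfsg.Statements.S4503
import Cfsg.Agent.Lib.Blocks.PrimeSylow.SmallDegree
import Cfsg.Agent.Lib.ZStar.PrincipalBlock

set_option autoImplicit false
open Cfsg

namespace Cfsg.Agent.S4503

/-- Let G be a finite group whose order is divisible by the prime p exactly once and which has no normal subgroup of order p. Then every faithful character χ of G has degree at least (p − 1)/2: 2·χ(1) + 1 ≥ p. -/
theorem result {G : Type*} [Group G] [Finite G] (p : ℕ) (hp : p.Prime) (hdiv : p ∣ Nat.card G) (hsq : ¬ p ^ 2 ∣ Nat.card G) (hnn : ∀ H : Subgroup G, H.Normal → Nat.card H ≠ p) (χ : G → ℂ) (hχ : Cfsg.IsCharacter G χ) (hfaith : ∀ g : G, χ g = χ 1 → g = 1) : p ≤ 2 * Cfsg.charDegree χ + 1 := by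
  classical
  by_contra hlt
  push Not at hlt
  haveI := Fintype.ofFinite G
  haveI : Fact p.Prime := ⟨hp⟩
  have hfac : (Nat.card G).factorization p = 1 := by
    refine le_antisymm ?_ (hp.factorization_pos_of_dvd Nat.card_pos.ne' hdiv)
    by_contra h2
    exact hsq ((pow_dvd_pow p (by omega)).trans (Nat.ordProj_dvd _ _))
  let S : Sylow p G := default
  have hS : Nat.card (S : Subgroup G) = p := by rw [S.card_eq_multiplicity, hfac, pow_one]
  set K : Subgroup G := Subgroup.normalClosure ((S : Subgroup G) : Set G) with hK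
  have hSK : (S : Subgroup G) ≤ K := Subgroup.le_normalClosure
  set Q : Subgroup K := (S : Subgroup G).subgroupOf K with hQ
  haveI := Fintype.ofFinite K
  have hQc : Nat.card Q = p := by
    rw [hQ, Nat.card_congr (Subgroup.subgroupOfEquivOfLe hSK).toEquiv, hS]
  have hQi : ¬ p ∣ Q.index := fun hd =>
    S.not_dvd_index (hd.trans (Subgroup.relIndex_dvd_index_of_le hSK))
  obtain ⟨V, hV⟩ := CfsgLib.Blocks.PrimeSylow.exists_setup hQc hQi
  obtain ⟨M, hM⟩ := CfsgLib.ZStar.exists_isPModular hp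
  haveI : M.IsPrime := hM.2.1.isPrime
  -- conjugates of elements of `S` are conjugate in `K` into `S`
  have hconj : ∀ (g : G) (x : G), x ∈ (S : Subgroup G) → ∀ hz : g * x * g⁻¹ ∈ K,
      ∃ y : K, (y : G) ∈ (S : Subgroup G) ∧ IsConj (⟨g * x * g⁻¹, hz⟩ : K) y := by
    intro g x hx hz
    by_cases hx1 : x = 1
    · exact ⟨1, by simp, by
        rw [show (⟨g * x * g⁻¹, hz⟩ : K) = 1 from Subtype.ext (by simp [hx1])]⟩
    have hord : orderOf (⟨g * x * g⁻¹, hz⟩ : K) = p := by
      refine orderOf_eq_prime (Subtype.ext ?_) fun e => hx1 (conj_eq_one_iff.1 (congrArg Subtype.val e))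
      have h1 : (⟨x, hx⟩ : (S : Subgroup G)) ^ Nat.card (S : Subgroup G) = 1 := pow_card_eq_one'
      rw [hS] at h1
      have h2 : x ^ p = 1 := by simpa using congrArg Subtype.val h1
      rw [Subgroup.coe_pow, Subgroup.coe_one, conj_pow, h2]
      simp
    obtain ⟨y, hy, hy1, v, hv, hc⟩ := hV.exists_singular (g := (⟨g * x * g⁻¹, hz⟩ : K)) (by rw [hord])
    have hv1 : v = 1 := by
      obtain ⟨c, hc'⟩ := isConj_iff.1 hc
      have h3 : (y * v) ^ p = 1 := by
        rw [← hc', conj_pow, ← hord, pow_orderOf_eq_one]; simp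
      rw [(hV.commute hy hv).mul_pow, hV.pow_eq_one hy, one_mul] at h3
      by_contra hne
      exact hV.not_dvd_orderOf hv (by rw [orderOf_eq_prime h3 hne])
    rw [hv1, mul_one] at hc
    exact ⟨y, Subgroup.mem_subgroupOf.1 hy, hc⟩
  have hgen : ∀ H : Subgroup K, H.Normal → Q ≤ H → H = ⊤ := by
    intro H hH hQH
    rw [Subgroup.eq_top_iff']
    intro k
    have hle : K ≤ H.map K.subtype := by
      show Subgroup.closure (Group.conjugatesOfSet ((S : Subgroup G) : Set G)) ≤ _
      rw [Subgroup.closure_le]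
      intro z hz
      obtain ⟨x, hx, hxz⟩ := Group.mem_conjugatesOfSet_iff.1 hz
      obtain ⟨g, rfl⟩ := isConj_iff.1 hxz
      have hzK : g * x * g⁻¹ ∈ K := Subgroup.normalClosure_normal.conj_mem x (hSK hx) g
      obtain ⟨y, hy, hc⟩ := hconj g x hx hzK
      obtain ⟨c, hc'⟩ := isConj_iff.1 hc.symm
      exact ⟨_, hH.conj_mem y (hQH (Subgroup.mem_subgroupOf.2 hy)) c, by rw [hc']; rfl⟩
    obtain ⟨k', hk', e⟩ := hle k.2
    exact (Subtype.ext e : k' = k) ▸ hk'
  haveI := Fintype.ofFinite (Cfsg.IrrCharacter K)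
  obtain ⟨m, hm⟩ := CfsgLib.Char.IsChar.exists_sum (CfsgLib.Char.IsChar.restrict K hχ)
  have hmv : ∀ k : K, χ k = ∑ ξ : Cfsg.IrrCharacter K, (m ξ : ℂ) * (ξ : K → ℂ) k := fun k => by
    have := congrFun hm k
    simpa [Finset.sum_apply] using this
  obtain ⟨n, hn⟩ := CfsgLib.Char.IsChar.exists_degree hχ
  have hdeg : Cfsg.charDegree χ = n := CfsgLib.CharDegree.charDegree_eq_of_apply_one hn
  have hsmall : ∀ ξ : Cfsg.IrrCharacter K, m ξ ≠ 0 →
      2 * Cfsg.charDegree (ξ : K → ℂ) + 1 < p := by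
    intro ξ hξ
    have h1 := hmv 1
    simp only [Subgroup.coe_one, hn, CfsgLib.Blocks.apply_one_eq_charDegree, ← Nat.cast_mul,
      ← Nat.cast_sum, Nat.cast_inj] at h1
    have h2 : Cfsg.charDegree (ξ : K → ℂ) ≤ n := by
      rw [h1]
      exact (Nat.le_mul_of_pos_left _ (Nat.pos_of_ne_zero hξ)).trans
        (Finset.single_le_sum (f := fun ξ => m ξ * Cfsg.charDegree (ξ : K → ℂ))
          (fun _ _ => Nat.zero_le _) (Finset.mem_univ ξ))
    omega
  have hcent : ∀ x : K, x ∈ Q → ∀ k : K, k * x * k⁻¹ = x := by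
    intro x hx k
    have hker : χ ((k * x * k⁻¹ * x⁻¹ : K) : G) = χ 1 := by
      rw [hmv, show (1 : G) = ((1 : K) : G) from rfl, hmv]
      refine Finset.sum_congr rfl fun ξ _ => ?_
      by_cases hξ : m ξ = 0
      · simp [hξ]
      congr 1
      obtain ⟨d, ρ, -, hρ, hd⟩ := CfsgLib.CharDegree.exists_rep ξ
      have h1 := hV.norm_eq_of_small hM hgen ξ (hsmall ξ hξ) hx
      rw [← hd, ← hρ] at h1
      obtain ⟨ω, hω⟩ := CfsgLib.CharIntegral.exists_scalar_of_norm_character_eq ρ x (by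
        rw [h1, Module.finrank_fin_fun])
      have hone : ρ (k * x * k⁻¹ * x⁻¹) = ρ 1 := by
        rw [map_mul, map_mul, map_mul, hω, mul_smul_comm, ← Module.End.one_eq_id, mul_one,
          smul_mul_assoc, ← map_mul, mul_inv_cancel, map_one]
        rw [smul_mul_assoc, one_mul]
        have h3 : ρ x * ρ x⁻¹ = 1 := by rw [← map_mul, mul_inv_cancel, map_one]
        rw [hω, smul_mul_assoc, ← Module.End.one_eq_id, one_mul] at h3
        exact h3
      rw [← hρ]
      exact congrArg (LinearMap.trace ℂ _) hone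
    have h2 := hfaith _ hker
    exact mul_inv_eq_one.1 (Subtype.ext h2)
  refine hnn (S : Subgroup G) ⟨fun x hx g => ?_⟩ hS
  have hzK : g * x * g⁻¹ ∈ K := Subgroup.normalClosure_normal.conj_mem x (hSK hx) g
  obtain ⟨y, hy, hc⟩ := hconj g x hx hzK
  obtain ⟨c, hc'⟩ := isConj_iff.1 hc.symm
  rw [hcent y (Subgroup.mem_subgroupOf.2 hy) c] at hc'
  rw [hc'] at hy
  exact hy

end Cfsg.Agent.S4503
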