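import Cfsg.Statements.S0813
import Cfsg.Agent.Lib.Known.AutPSL.Structure

set_option autoImplicit false
open Cfsg

namespace Cfsg.Agent.S0813

/-- |Aut(PSL_n(q))|, q = p^f: for n ≥ 3 it is 2 f |PGL_n(q)|, and for n = 2 (q ≥ 4) it is f |PGL_2(q)|. -/
theorem result {F : Type*} [Field F] [Fintype F] (p f : ℕ) [Fact p.Prime] (hf : 1 ≤ f) (hF : Fintype.card F = p ^ f) (n : ℕ) (hn : 2 ≤ n) (h2 : n = 2 → 4 ≤ p ^ f) : Nat.card (MulAut (Matrix.ProjectiveSpecialLinearGroup (Fin n) F)) = (if n = 2 then 1 else 2) * f * Nat.card (Matrix.ProjGenLinGroup (Fin n) F) := by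
  classical
  haveI : Nonempty (Fin n) := ⟨⟨0, by omega⟩⟩
  obtain ⟨φ, h1, h2', h3, h4⟩ := CfsgLib.Known.AutPSL.exists_out_hom (n := n) (F := F) hn hF hf
  haveI : NeZero f := ⟨by omega⟩
  have hrange : Nat.card φ.range = f * (if n = 2 then 1 else 2) := by
    by_cases h : n = 2
    · have hr : φ.range = (⊤ : Subgroup (Multiplicative (ZMod f))).prod ⊥ := by
        ext ⟨a, b⟩
        simp only [Subgroup.mem_prod, Subgroup.mem_top, true_and, Subgroup.mem_bot]
        exact ⟨fun ⟨x, hx⟩ => (congrArg Prod.snd hx).symm.trans (h2' h x), fun hb => h1 a b fun _ => hb⟩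
      rw [hr, Nat.card_congr (Subgroup.prodEquiv _ _).toEquiv, Nat.card_prod, Subgroup.card_top,
        Subgroup.card_bot, if_pos h, Nat.card_congr Multiplicative.toAdd, Nat.card_zmod]
    · have hr : φ.range = ⊤ := eq_top_iff.2 fun x _ => h1 x.1 x.2 (fun h' => absurd h' h)
      rw [hr, Subgroup.card_top, Nat.card_prod, if_neg h, Nat.card_congr Multiplicative.toAdd,
        Nat.card_congr Multiplicative.toAdd, Nat.card_zmod, Nat.card_zmod]
  have hout : Nat.card (Cfsg.Out (Matrix.ProjectiveSpecialLinearGroup (Fin n) F)) =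
      Nat.card φ.ker * Nat.card φ.range := by
    rw [← Subgroup.index_ker, Subgroup.card_mul_index]
  have hinn : Nat.card (Cfsg.Inn (Matrix.ProjectiveSpecialLinearGroup (Fin n) F)) =
      Nat.card (Matrix.ProjectiveSpecialLinearGroup (Fin n) F) := by
    refine (Nat.card_congr (MonoidHom.ofInjective ?_).toEquiv).symm
    rw [injective_iff_map_eq_one]
    intro x hx
    obtain ⟨s, rfl⟩ := CfsgLib.Known.AutPSL.proj_surjective x
    rw [CfsgLib.Known.AutPSL.conj_eq_semilin, CfsgLib.Known.AutPSL.semilin_eq_one_iff hn] at hx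
    obtain ⟨-, c, hc⟩ := hx
    rw [← map_one (CfsgLib.Known.AutPSL.proj n F), CfsgLib.Known.AutPSL.proj_eq_iff]
    have hc0 : c ≠ 0 := by
      rintro rfl
      rw [zero_smul] at hc
      exact (Matrix.SpecialLinearGroup.toGL s).ne_zero hc
    refine ⟨c⁻¹, inv_ne_zero hc0, ?_⟩
    rw [Matrix.SpecialLinearGroup.coe_one]
    rw [show (s : Matrix (Fin n) (Fin n) F) = c • 1 from hc, smul_smul, inv_mul_cancel₀ hc0, one_smul]
  rw [Subgroup.card_eq_card_quotient_mul_card_subgroup (Cfsg.Inn (Matrix.ProjectiveSpecialLinearGroup (Fin n) F)),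
    hinn, show Nat.card (MulAut (Matrix.ProjectiveSpecialLinearGroup (Fin n) F) ⧸ _) = _ from hout,
    hrange, h4, CfsgLib.Classical.card_PGL_eq_card_SL,
    CfsgLib.Classical.card_SL_eq_gcd_mul_card_PSL, Fintype.card_fin, hF]
  ring

end Cfsg.Agent.S0813
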