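import Cfsg.Statements.S1011
import Cfsg.Agent.Lib.Perm.SylowFixed
import Cfsg.Agent.Lib.Perm.DihedralNormalizer
import Cfsg.Agent.Lib.Perm.ElemCentRecog
import Mathlib.Tactic

set_option autoImplicit false
open Cfsg

namespace Cfsg.Agent.S1011

open CfsgLib.Perm in
/-- Disjoint families of non-identity elements, one from each Sylow subgroup. -/
theorem card_sylow_mul_le {G : Type*} [Group G] [Fintype G] [DecidableEq G] {p : ℕ} [Fact p.Prime] {q : ℕ}
    (hq : ∀ R : Sylow p G, Nat.card (R : Subgroup G) = q) (S : Finset G)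
    (hS : ∀ R : Sylow p G, ∀ x ∈ (R : Subgroup G), x ≠ 1 → x ∈ S)
    (huniq : ∀ R R' : Sylow p G, ∀ x : G, x ≠ 1 → x ∈ (R : Subgroup G) → x ∈ (R' : Subgroup G) → R = R') :
    Nat.card (Sylow p G) * (q - 1) ≤ S.card := by
  classical
  let _ := Fintype.ofFinite (Sylow p G)
  let f : (Σ R : Sylow p G, {x : (R : Subgroup G) // x ≠ 1}) → S := fun s =>
    ⟨(s.2.1 : G), hS s.1 _ s.2.1.2 (fun e => s.2.2 (Subtype.ext e))⟩
  have hf : Function.Injective f := by
    rintro ⟨R, x, hx⟩ ⟨R', x', hx'⟩ e
    have e' : (x : G) = (x' : G) := congrArg Subtype.val e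
    obtain rfl : R = R' := huniq R R' x (fun h => hx (Subtype.ext h)) x.2 (e' ▸ x'.2)
    obtain rfl : x = x' := Subtype.ext e'
    rfl
  have h1 := Nat.card_le_card_of_injective f hf
  rw [Nat.card_eq_fintype_card (α := S), Fintype.card_coe, Nat.card_sigma,
    Finset.sum_congr rfl (g := fun _ => q - 1) (fun R _ => ?_), Finset.sum_const, Finset.card_univ,
    smul_eq_mul, ← Nat.card_eq_fintype_card] at h1
  · exact h1
  · let _ := Fintype.ofFinite (R : Subgroup G)
    rw [Nat.card_eq_fintype_card, Fintype.card_subtype_compl, Fintype.card_subtype_eq,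
      ← Nat.card_eq_fintype_card, hq]

/-- An involution inverting an element of order seven is odd on seven points. -/
theorem odd_of_inverts {α : Type*} [Fintype α] [DecidableEq α] (hα : Fintype.card α = 7)
    {c σ : Equiv.Perm α} (hc : c.IsCycle) (hc7 : c.support.card = 7) (hσ : σ ^ 2 = 1) (hσ1 : σ ≠ 1)
    (hinv : σ * c = c⁻¹ * σ) : Equiv.Perm.sign σ = -1 := by
  obtain ⟨hs, hev⟩ := CfsgLib.Perm.sign_of_sq_eq_one hσ
  have hsupp : c.support = Finset.univ := Finset.eq_univ_of_card _ (by rw [hc7, hα])
  have hpow : ∀ (n : ℕ) (w : α), σ ((c ^ n) w) = ((c⁻¹) ^ n) (σ w) := by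
    intro n
    induction n with
    | zero => simp
    | succ n ih =>
      intro w
      rw [pow_succ', pow_succ', Equiv.Perm.mul_apply, Equiv.Perm.mul_apply, ← ih,
        ← Equiv.Perm.mul_apply, hinv, Equiv.Perm.mul_apply]
  have huniq : ∀ w w' : α, σ w = w → σ w' = w' → w = w' := by
    intro w w' hw hw'
    obtain ⟨n, hn⟩ := hc.exists_pow_eq (Equiv.Perm.mem_support.1 (hsupp ▸ Finset.mem_univ w : w ∈ c.support))
      (Equiv.Perm.mem_support.1 (hsupp ▸ Finset.mem_univ w' : w' ∈ c.support))
    have h1 := hpow n w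
    rw [hn, hw', hw] at h1
    have h2 : (c ^ (2 * n)) w = w := by
      rw [two_mul, pow_add, Equiv.Perm.mul_apply, hn, h1, inv_pow]
      exact (c ^ n).apply_symm_apply w
    have h3 : orderOf c ∣ 2 * n := by
      rw [orderOf_dvd_iff_pow_eq_one]
      exact hc.pow_eq_one_iff.2 ⟨w, Equiv.Perm.mem_support.1 (hsupp ▸ Finset.mem_univ w : w ∈ c.support), h2⟩
    rw [hc.orderOf, hc7] at h3
    have h7 : (7 : ℕ) ∣ n := (Nat.Coprime.dvd_mul_left (by norm_num)).1 h3
    obtain ⟨j, rfl⟩ := h7
    rw [pow_mul, ← hc7, ← hc.orderOf, pow_orderOf_eq_one, one_pow] at hn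
    exact hn
  have hfix : σ.supportᶜ.card ≤ 1 := Finset.card_le_one.2 fun a ha b hb => by
    simp only [Finset.mem_compl, Equiv.Perm.mem_support, not_not] at ha hb
    exact huniq a b ha hb
  rw [Finset.card_compl, hα] at hfix
  have h7 : σ.support.card ≤ 7 := (Finset.card_le_univ _).trans hα.le
  obtain ⟨k, hk⟩ := hev
  rw [hs, hk, Nat.mul_div_cancel_left _ two_pos, show k = 3 by omega]
  decide

/-- A simple group of order 504 is isomorphic to the projective special linear group of dimension 2 over the field with 8 elements. -/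
theorem result {G : Type*} [Group G] [Finite G] [IsSimpleGroup G] (h : Nat.card G = 504) {F : Type*} [Field F] [Fintype F] (hF : Fintype.card F = 8) : Nonempty (G ≃* Matrix.ProjectiveSpecialLinearGroup (Fin 2) F) := by
  classical
  let _ := Fintype.ofFinite G
  have : Fact (Nat.Prime 7) := ⟨by norm_num⟩
  have : Fact (Nat.Prime 3) := ⟨Nat.prime_three⟩
  have : Fact (Nat.Prime 2) := ⟨Nat.prime_two⟩
  have h' : Nat.card G = 7 ^ 1 * 72 := by rw [h]; norm_num
  have h3' : Nat.card G = 3 ^ 2 * 56 := by rw [h]; norm_num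
  have h2' : Nat.card G = 2 ^ 3 * 63 := by rw [h]; norm_num
  have hG : ¬ IsMulCommutative G := CfsgLib.Perm.not_comm_of_not_prime (by rw [h]; norm_num)
  have hne : ¬ IsPGroup 7 G :=
    CfsgLib.Perm.not_isPGroup_of_dvd Nat.prime_two (by norm_num) (by rw [h]; norm_num)
  obtain ⟨h1, h2, h3⟩ := CfsgLib.Perm.card_sylow_mem (q := 2) h' one_ne_zero Nat.prime_two
    (by norm_num) (by norm_num)
  have hall : ∀ R : Sylow 7 G, Nat.card (R : Subgroup G) = 7 := fun R => by
    rw [CfsgLib.Perm.sylow_card_eq R h' (by norm_num), pow_one]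
  have hn : Nat.card (Sylow 7 G) = 8 ∨ Nat.card (Sylow 7 G) = 36 := by
    have hmem := Nat.mem_divisors.2 ⟨h1, by norm_num⟩
    rw [show (72 : ℕ).divisors = ({1, 2, 3, 4, 6, 8, 9, 12, 18, 24, 36, 72} : Finset ℕ) from by decide +kernel] at hmem
    simp only [Finset.mem_insert, Finset.mem_singleton] at hmem
    omega
  obtain ⟨P⟩ := (inferInstance : Nonempty (Sylow 7 G))
  have hN := CfsgLib.Perm.card_normalizer_mul_card_sylow P
  set N := Subgroup.normalizer ((P : Subgroup G) : Set G) with hNdef
  set C := Subgroup.centralizer ((P : Subgroup G) : Set G) with hCdef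
  have hCN : C ≤ N := Subgroup.centralizer_le_normalizer _
  have hCcard : ∀ {a : ℕ}, Nat.card N = 7 * a → ∃ r, r ∣ a ∧ r ∣ 6 ∧ r ≠ 1 ∧ r * Nat.card C = 7 * a := by
    intro a ha
    refine ⟨C.relIndex N, CfsgLib.Perm.relIndex_centralizer_dvd_div _ (hall P) ha,
      CfsgLib.Perm.relIndex_centralizer_dvd_sub_one _ (hall P), fun e => ?_, ?_⟩
    · rw [Subgroup.relIndex_eq_one] at e
      exact CfsgLib.Perm.not_normalizer_le_centralizer P (by rw [h]; norm_num) hne e
    · have h := Subgroup.index_mul_card (C.subgroupOf N)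
      rw [Nat.card_congr (Subgroup.subgroupOfEquivOfLe hCN).toEquiv, ha] at h
      exact h
  obtain ⟨y, hy⟩ := exists_prime_orderOf_dvd_card' (G := (P : Subgroup G)) 7 (by rw [hall])
  have hn36 : Nat.card (Sylow 7 G) = 36 := by
    refine hn.resolve_left fun hn => ?_
    rw [hn, h] at hN
    obtain ⟨r, hr1, hr2, hr3, hr⟩ := hCcard (a := 9) (by omega)
    have hr6 : r ≤ 6 := Nat.le_of_dvd (by norm_num) hr2
    have hC : Nat.card C = 21 := by interval_cases r <;> omega
    have hidx : N.index = 8 := by
      have := Subgroup.card_mul_index N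
      rw [h, show Nat.card N = 63 by omega] at this
      omega
    obtain ⟨-, hdvd⟩ := CfsgLib.Perm.card_centralizer_dvd_of_small_index N
      (fun e => by rw [e, Subgroup.index_top] at hidx; omega) (p := 7) (by omega)
      (y := (y : G)) (by rw [Subgroup.orderOf_coe, hy])
    have hle : C ≤ Subgroup.centralizer ({(y : G)} : Set G) := fun x hx => by
      rw [Subgroup.mem_centralizer_singleton_iff]
      exact ((Subgroup.mem_centralizer_iff.1 hx) y y.2).symm
    have h21 := (Subgroup.card_dvd_of_le hle).trans hdvd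
    rw [hC, hidx] at h21
    norm_num [Nat.factorial] at h21
  rw [hn36, h] at hN
  obtain ⟨x, v, u, hu, hx1, hx2, hd1, hd2, hm, heq, hv, hconj⟩ :=
    CfsgLib.Perm.exists_degree_of_card_normalizer_two_mul' (by norm_num) P (hall P) hne
      (by rw [← hNdef]; omega)
  rw [h] at hd1 hd2 heq
  have hx : x = 8 := by
    have key : ∀ d ∈ (504 : ℕ).divisors, (d % 7 = 1 → d = 1 ∨ d = 8 ∨ (¬(d + 1 ∣ 504))) ∧
        (d % 7 = 6 → d = 1 ∨ (¬(d - 1 ∣ 504))) := by decide +kernel
    obtain ⟨k1, k2⟩ := key x.natAbs (Nat.mem_divisors.2 ⟨hd1, by norm_num⟩)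
    rcases Int.natAbs_eq x with e | e
    · rcases k1 (by omega) with hh | hh | hh
      · omega
      · omega
      · exact absurd (by rwa [show x.natAbs + 1 = (x + 1).natAbs by omega]) hh
    · rcases k2 (by omega) with hh | hh
      · omega
      · exact absurd (by rwa [show x.natAbs - 1 = (x + 1).natAbs by omega]) hh
  subst hx
  have hC8 : Nat.card (Subgroup.centralizer ({u} : Set G)) = 8 := by
    have h8 := CfsgLib.Perm.two_part_dvd_card_centralizer (k := 3) (by norm_num) h2' (by norm_num) hconj
    have hle : Nat.card (Subgroup.centralizer ({u} : Set G)) ≤ 16 := by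
      have h16 : (Nat.card (Subgroup.centralizer ({u} : Set G)) : ℤ) ^ 2 ≤ 16 ^ 2 := by
        have hv1 : (8 - v) ^ 2 ≤ 16 ^ 2 := by
          apply sq_le_sq'
          · omega
          · omega
        push_cast at heq
        linarith
      have := abs_le_of_sq_le_sq h16 (by norm_num)
      rw [abs_of_nonneg (by positivity)] at this
      exact_mod_cast this
    have hdvd : Nat.card (Subgroup.centralizer ({u} : Set G)) ∣ 504 :=
      h ▸ Subgroup.card_subgroup_dvd_card _
    obtain ⟨j, hj⟩ := h8
    have hj0 : 0 < 2 ^ 3 * j := hj ▸ Nat.card_pos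
    have hj2 : j = 1 ∨ j = 2 := by omega
    rcases hj2 with rfl | rfl
    · omega
    · rw [hj] at hdvd; norm_num at hdvd
  have hC : ∀ t : G, orderOf t = 2 → Nat.card (Subgroup.centralizer ({t} : Set G)) = 2 ^ 3 := by
    intro t ht
    obtain ⟨c, rfl⟩ := isConj_iff.1 (hconj t ht)
    rw [show (2 : ℕ) ^ 3 = 8 by norm_num, ← hC8]
    refine Nat.card_congr
      { toFun := fun x => ⟨c⁻¹ * x * c, ?_⟩
        invFun := fun x => ⟨c * x * c⁻¹, ?_⟩
        left_inv := fun x => Subtype.ext (by show c * (c⁻¹ * x * c) * c⁻¹ = x; group)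
        right_inv := fun x => Subtype.ext (by show c⁻¹ * (c * x * c⁻¹) * c = x; group) }
    · have h := Subgroup.mem_centralizer_singleton_iff.1 x.2
      rw [Subgroup.mem_centralizer_singleton_iff]
      calc c⁻¹ * x.1 * c * u = c⁻¹ * (x.1 * (c * u * c⁻¹)) * c := by group
        _ = c⁻¹ * (c * u * c⁻¹ * x.1) * c := by rw [h]
        _ = u * (c⁻¹ * x.1 * c) := by group
    · have h := Subgroup.mem_centralizer_singleton_iff.1 x.2
      rw [Subgroup.mem_centralizer_singleton_iff]
      calc c * x.1 * c⁻¹ * (c * u * c⁻¹) = c * (x.1 * u) * c⁻¹ := by group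
        _ = c * (u * x.1) * c⁻¹ := by rw [h]
        _ = c * u * c⁻¹ * (c * x.1 * c⁻¹) := by group
  -- centralisers of elements of order three
  have hC7 : Nat.card C = 7 := by
    obtain ⟨r, hr1, hr2, hr3, hr⟩ := hCcard (a := 2) (by omega)
    have := Nat.le_of_dvd two_pos hr1
    interval_cases r <;> omega
  have hC3 : ∀ t : G, orderOf t = 3 → Nat.card (Subgroup.centralizer ({t} : Set G)) ∣ 9 := by
    intro t ht
    set K := Subgroup.centralizer ({t} : Set G) with hK
    have hd : Nat.card K ∣ 504 := h ▸ Subgroup.card_subgroup_dvd_card _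
    have hn2 : ¬ 2 ∣ Nat.card K := by
      intro h2K
      obtain ⟨w, hw⟩ := exists_prime_orderOf_dvd_card' (G := K) 2 h2K
      have h3w := Subgroup.orderOf_dvd_natCard (Subgroup.centralizer ({(w : G)} : Set G)) (x := t)
        (Subgroup.mem_centralizer_singleton_iff.2 (Subgroup.mem_centralizer_singleton_iff.1 w.2).symm)
      rw [ht, hC w (by rw [Subgroup.orderOf_coe, hw])] at h3w
      norm_num at h3w
    have hn7 : ¬ 7 ∣ Nat.card K := by
      intro h7K
      obtain ⟨w, hw⟩ := exists_prime_orderOf_dvd_card' (G := K) 7 h7K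
      have hwo : orderOf (w : G) = 7 := by rw [Subgroup.orderOf_coe, hw]
      obtain ⟨R, hR⟩ := (IsPGroup.of_card (p := 7) (n := 1) (G := Subgroup.zpowers (w : G)) (by
        rw [Nat.card_zpowers, hwo, pow_one])).exists_le_sylow
      obtain ⟨g, hg⟩ := MulAction.exists_smul_eq G P R
      have hReq : Subgroup.zpowers (w : G) = (R : Subgroup G) :=
        Subgroup.eq_of_le_of_card_ge hR (by rw [hall, Nat.card_zpowers, hwo])
      have htC : g⁻¹ * t * g ∈ C := by
        rw [hCdef, Subgroup.mem_centralizer_iff]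
        intro a ha
        have haR : g * a * g⁻¹ ∈ (R : Subgroup G) := by
          rw [← hg, Sylow.coe_subgroup_smul, Subgroup.mem_smul_pointwise_iff_exists]
          exact ⟨a, ha, rfl⟩
        rw [← hReq] at haR
        obtain ⟨k, hk⟩ := haR
        have hwt : Commute t (g * a * g⁻¹) := hk ▸ Commute.zpow_right
          (Subgroup.mem_centralizer_singleton_iff.1 w.2).symm k
        calc a * (g⁻¹ * t * g) = g⁻¹ * ((g * a * g⁻¹) * t) * g := by group
          _ = g⁻¹ * (t * (g * a * g⁻¹)) * g := by rw [hwt.eq]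
          _ = g⁻¹ * t * g * a := by group
      have := Subgroup.orderOf_dvd_natCard C htC
      rw [hC7, show orderOf (g⁻¹ * t * g) = orderOf t from by
        rw [show g⁻¹ * t * g = MulAut.conj g⁻¹ t by simp, MulEquiv.orderOf_eq], ht] at this
      norm_num at this
    have hmem := Nat.mem_divisors.2 ⟨hd, by norm_num⟩
    rw [show (504 : ℕ).divisors = ({1, 2, 3, 4, 6, 7, 8, 9, 12, 14, 18, 21, 24, 28, 36, 42, 56, 63, 72, 84, 126, 168, 252, 504} : Finset ℕ) from by decide +kernel] at hmem
    simp only [Finset.mem_insert, Finset.mem_singleton] at hmem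
    have : Nat.card K = 1 ∨ Nat.card K = 3 ∨ Nat.card K = 9 := by omega
    rcases this with e | e | e <;> rw [e] <;> norm_num
  have hall3 : ∀ R : Sylow 3 G, Nat.card (R : Subgroup G) = 3 ^ 2 := fun R =>
    CfsgLib.Perm.sylow_card_eq R h3' (by norm_num)
  have hn3 : 28 ≤ Nat.card (Sylow 3 G) := by
    obtain ⟨g1, g2, g3⟩ := CfsgLib.Perm.card_sylow_mem (p := 3) (q := 2) h3' (by norm_num) Nat.prime_two
      (by norm_num) (by norm_num)
    have hmem := Nat.mem_divisors.2 ⟨g1, by norm_num⟩
    rw [show (56 : ℕ).divisors = ({1, 2, 4, 7, 8, 14, 28, 56} : Finset ℕ) from by decide +kernel] at hmem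
    simp only [Finset.mem_insert, Finset.mem_singleton] at hmem
    by_contra hlt
    have h47 : Nat.card (Sylow 3 G) = 4 ∨ Nat.card (Sylow 3 G) = 7 := by omega
    obtain ⟨R⟩ := (inferInstance : Nonempty (Sylow 3 G))
    set H := Subgroup.normalizer ((R : Subgroup G) : Set G) with hH
    have hidx : H.index = Nat.card (Sylow 3 G) := R.card_eq_index_normalizer.symm
    have hHtop : H ≠ ⊤ := fun e => by rw [e, Subgroup.index_top] at hidx; omega
    obtain ⟨h7le, -⟩ := CfsgLib.Perm.card_centralizer_dvd_of_small_index H hHtop (p := 7)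
      (by omega) (y := (y : G)) (by rw [Subgroup.orderOf_coe, hy])
    have h7 : H.index = 7 := by omega
    -- an involution inverting an element of order seven would be odd
    obtain ⟨z, hz⟩ := exists_prime_orderOf_dvd_card' (G := N) 2 ⟨7, by omega⟩
    have hzC : (z : G) ∉ C := fun hzC => by
      have := Subgroup.orderOf_dvd_natCard C hzC
      rw [Subgroup.orderOf_coe, hz, hC7] at this
      norm_num at this
    have hy1 : (y : G) ≠ 1 := fun e => by
      have : orderOf (y : G) = 1 := by rw [e, orderOf_one]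
      rw [Subgroup.orderOf_coe, hy] at this
      omega
    have hzinv : (z : G) * y = (y : G)⁻¹ * z := by
      have hmem : (z : G) * y * (z : G)⁻¹ ∈ (P : Subgroup G) :=
        (Subgroup.mem_normalizer_iff.1 z.2 y).1 y.2
      have hgen := Subgroup.eq_of_le_of_card_ge (Subgroup.zpowers_le.2 y.2)
        (by rw [hall, Nat.card_zpowers, Subgroup.orderOf_coe, hy])
      obtain ⟨k, hk⟩ := hgen.ge hmem
      have hk' : (y : G) ^ k = (z : G) * y * (z : G)⁻¹ := hk
      have hz2 : (z : G) * z = 1 := by
        rw [← pow_two, ← hz, ← SubgroupClass.coe_pow, pow_orderOf_eq_one]; rfl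
      have hzi : (z : G)⁻¹ = z := inv_eq_of_mul_eq_one_right hz2
      have hkk : (y : G) ^ (k * k) = y := by
        rw [zpow_mul, hk']
        calc ((z : G) * y * (z : G)⁻¹) ^ k = (z : G) * (y : G) ^ k * (z : G)⁻¹ := conj_zpow
          _ = ((z : G) * z) * y * ((z : G) * z)⁻¹ := by rw [hk']; group
          _ = y := by rw [hz2]; group
      have hyo : orderOf (y : G) = 7 := by rw [Subgroup.orderOf_coe, hy]
      have hk7 : (7 : ℤ) ∣ (k - 1) * (k + 1) := by
        have : (y : G) ^ ((k - 1) * (k + 1)) = 1 := by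
          rw [show (k - 1) * (k + 1) = k * k - 1 by ring, zpow_sub, hkk, zpow_one, mul_inv_cancel]
        have := orderOf_dvd_iff_zpow_eq_one.2 this
        rwa [hyo] at this
      rcases (Int.prime_iff_natAbs_prime.2 (by norm_num : Nat.Prime (7 : ℤ).natAbs)).dvd_or_dvd hk7 with e | e
      · exfalso
        refine hzC (Subgroup.mem_centralizer_iff.2 fun a ha => ?_)
        have hzy : (z : G) * y = y * z := by
          have h1 : (y : G) ^ k = y := by
            have := orderOf_dvd_iff_zpow_eq_one.1 (hyo.symm ▸ e : (orderOf (y : G) : ℤ) ∣ k - 1)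
            rw [zpow_sub, zpow_one, mul_inv_eq_one] at this
            exact this
          rw [hk'] at h1
          exact mul_inv_eq_iff_eq_mul.1 h1
        obtain ⟨j, rfl⟩ := hgen.ge ha
        exact ((show Commute (y : G) z from hzy.symm).zpow_left j).eq
      · have h1 : (y : G) ^ k = (y : G)⁻¹ := by
          have := orderOf_dvd_iff_zpow_eq_one.1 (hyo.symm ▸ e : (orderOf (y : G) : ℤ) ∣ k + 1)
          rw [zpow_add_one] at this
          exact eq_inv_of_mul_eq_one_left this
        rw [hk'] at h1
        exact mul_inv_eq_iff_eq_mul.1 h1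
    let _ := Fintype.ofFinite (G ⧸ H)
    set φ := MulAction.toPermHom G (G ⧸ H)
    have hinj := CfsgLib.Perm.toPermHom_quotient_injective H hHtop
    have hα : Fintype.card (G ⧸ H) = 7 := by
      rw [← Nat.card_eq_fintype_card, ← Subgroup.index_eq_card, h7]
    have hco : orderOf (φ (y : G)) = 7 := by rw [orderOf_injective φ hinj, Subgroup.orderOf_coe, hy]
    have hcyc : (φ (y : G)).IsCycle := Equiv.Perm.isCycle_of_prime_order (by rw [hco]; norm_num) (by
      rw [hco]
      exact lt_of_le_of_lt ((Finset.card_le_univ _).trans hα.le) (by norm_num))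
    have hs := odd_of_inverts hα hcyc (by rw [← hcyc.orderOf, hco]) (σ := φ (z : G))
      (by rw [← map_pow, ← hz, ← SubgroupClass.coe_pow, pow_orderOf_eq_one, OneMemClass.coe_one, map_one])
      (fun e => by
        have := hinj (e.trans (map_one φ).symm)
        rw [OneMemClass.coe_eq_one] at this
        rw [this, orderOf_one] at hz
        omega)
      (by rw [← map_mul, hzinv, map_mul, map_inv])
    have hone := CfsgLib.Perm.hom_comm_trivial hG (Equiv.Perm.sign.comp φ) (z : G)
    rw [MonoidHom.comp_apply, hs] at hone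
    exact absurd hone (by decide)
  -- counting excludes elements of order four
  have h4 : ∀ g : G, orderOf g ≠ 4 := by
    intro g hg
    let S7 : Finset G := Finset.univ.filter fun a => orderOf a = 7
    let S3 : Finset G := Finset.univ.filter fun a => orderOf a = 3 ∨ orderOf a = 9
    let S2 : Finset G := Finset.univ.filter fun a => orderOf a = 2
    let S4 : Finset G := {1, g}
    have hc7 : 216 ≤ S7.card := by
      have := card_sylow_mul_le (q := 7) hall S7 (fun R a ha ha1 => by
        simp only [S7, Finset.mem_filter, Finset.mem_univ, true_and]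
        have := Subgroup.orderOf_dvd_natCard _ ha
        rw [hall] at this
        exact ((Nat.dvd_prime (by norm_num)).1 this).resolve_left (fun e => ha1 (orderOf_eq_one_iff.1 e)))
        (fun R R' a ha ha1 ha2 => (CfsgLib.Perm.eq_of_smul_eq R' (hall R') ha2 ha
          (CfsgLib.Perm.smul_eq_of_mem ha1)))
      rw [hn36] at this
      exact this
    have hc3 : 224 ≤ S3.card := by
      have hone : ∀ R R' : Sylow 3 G, ∀ a : G, a ≠ 1 → a ∈ (R : Subgroup G) → a ∈ (R' : Subgroup G) →
          R = R' := by
        intro R R' a ha haR haR'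
        have hd := Subgroup.orderOf_dvd_natCard _ haR
        rw [hall3] at hd
        obtain ⟨i, hi, hai⟩ := (Nat.dvd_prime_pow Nat.prime_three).1 hd
        obtain ⟨t, ht, htR, htR'⟩ : ∃ t, orderOf t = 3 ∧ t ∈ (R : Subgroup G) ∧ t ∈ (R' : Subgroup G) := by
          interval_cases i
          · exact absurd (orderOf_eq_one_iff.1 (by simpa using hai)) ha
          · exact ⟨a, by simpa using hai, haR, haR'⟩
          · refine ⟨a ^ 3, ?_, Subgroup.pow_mem _ haR 3, Subgroup.pow_mem _ haR' 3⟩
            rw [orderOf_pow_of_dvd (by norm_num) (by rw [hai]; norm_num), hai]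
            norm_num
        have hK := Nat.le_of_dvd (by norm_num) (hC3 t ht)
        have hle : ∀ T : Sylow 3 G, t ∈ (T : Subgroup G) →
            (T : Subgroup G) = Subgroup.centralizer ({t} : Set G) := by
          intro T hT
          refine Subgroup.eq_of_le_of_card_ge (fun s hs => ?_) (by rw [hall3]; exact hK)
          rw [Subgroup.mem_centralizer_singleton_iff]
          exact congrArg Subtype.val (IsPGroup.commutative_of_card_eq_prime_sq (hall3 T) ⟨s, hs⟩ ⟨t, hT⟩)
        exact Sylow.ext ((hle R htR).trans (hle R' htR').symm)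
      have := card_sylow_mul_le (q := 9) hall3 S3 (fun R a ha ha1 => by
        simp only [S3, Finset.mem_filter, Finset.mem_univ, true_and]
        have hd := Subgroup.orderOf_dvd_natCard _ ha
        rw [hall3] at hd
        obtain ⟨i, hi, hai⟩ := (Nat.dvd_prime_pow Nat.prime_three).1 hd
        interval_cases i
        · exact absurd (orderOf_eq_one_iff.1 (by simpa using hai)) ha1
        · exact Or.inl (by simpa using hai)
        · exact Or.inr (by simpa using hai))
        hone
      omega
    have hc2 : 63 ≤ S2.card := by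
      have hcl : Nat.card {a : G // IsConj u a} * 8 = 504 := by
        have h1 := Subgroup.card_mul_index (Subgroup.centralizer ({u} : Set G))
        rw [hC8, h] at h1
        have h2 : Nat.card {a : G // IsConj u a} = (Subgroup.centralizer ({u} : Set G)).index := by
          have h3 := MulAction.index_stabilizer (ConjAct G) u
          rw [ConjAct.stabilizer_eq_centralizer] at h3
          rw [Nat.card_congr (Equiv.subtypeEquivRight fun a => ?_), Nat.card_coe_set_eq]
          · exact h3.symm
          · rw [ConjAct.mem_orbit_conjAct, isConj_comm]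
        rw [h2]; omega
      have hle := Nat.card_le_card_of_injective (fun a : {a : G // IsConj u a} => (⟨a.1, by
        simp only [S2, Finset.mem_filter, Finset.mem_univ, true_and]
        obtain ⟨c, hc⟩ := isConj_iff.1 a.2
        rw [← hc, ← MulAut.conj_apply, MulEquiv.orderOf_eq, hu]⟩ : S2))
        (fun a b e => Subtype.ext (congrArg Subtype.val e :))
      rw [Nat.card_eq_fintype_card (α := S2), Fintype.card_coe] at hle
      omega
    have hc1 : S4.card = 2 := Finset.card_pair (fun e => by rw [← e, orderOf_one] at hg; omega)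
    have hsum : (S7 ∪ S3 ∪ S2 ∪ S4).card = S7.card + S3.card + S2.card + S4.card := by
      rw [Finset.card_union_of_disjoint, Finset.card_union_of_disjoint, Finset.card_union_of_disjoint]
      · rw [Finset.disjoint_left]
        intro a ha hb
        simp only [S7, S3, Finset.mem_filter, Finset.mem_univ, true_and] at ha hb
        omega
      · rw [Finset.disjoint_left]
        intro a ha hb
        simp only [S7, S3, S2, Finset.mem_union, Finset.mem_filter, Finset.mem_univ, true_and] at ha hb
        omega
      · rw [Finset.disjoint_left]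
        intro a ha hb
        simp only [S7, S3, S2, S4, Finset.mem_union, Finset.mem_filter, Finset.mem_univ, true_and,
          Finset.mem_insert, Finset.mem_singleton] at ha hb
        rcases hb with rfl | rfl
        · rw [orderOf_one] at ha; omega
        · omega
    have hle := Finset.card_le_univ (S7 ∪ S3 ∪ S2 ∪ S4)
    rw [hsum, ← Nat.card_eq_fintype_card, h] at hle
    omega
  exact CfsgLib.Perm.nonempty_iso_psl_of_no_four hG (k := 3) (by norm_num) h2' (by norm_num) hC h4
    (by rw [hF]; norm_num)

end Cfsg.Agent.S1011
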