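import Cfsg.Statements.S0448
import Cfsg.Agent.Lib.Recog.J1Order.Exclude

set_option autoImplicit false
open Cfsg

namespace Cfsg.Agent.S0448

/-- Janko's first group: a finite simple group with a 2-central involution whose centraliser is isomorphic to (cyclic of order 2) × (alternating group of degree 5) has order 175560. -/
theorem result {G : Type*} [Group G] [Finite G] [IsSimpleGroup G] (t : G) (ht : Cfsg.IsTwoCentralInvolution t) (e : Subgroup.centralizer ({t} : Set G) ≃* Multiplicative (ZMod 2) × alternatingGroup (Fin 5)) : Cfsg.IsJ1 G := by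
  classical
  obtain ⟨hto, P, htP, hPc⟩ := ht
  have hG := Fintype.ofFinite G
  have hI := Fintype.ofFinite (Cfsg.IrrCharacter G)
  obtain ⟨D, hvt, hd, ho, hrow⟩ :=
    CfsgLib.Recog.J1Order.exists_data t hto ⟨P, htP, hPc⟩ e
  rcases D.result with h | ⟨hg, cfg⟩
  · exact ⟨inferInstance, h⟩
  · exact (CfsgLib.Recog.J1Order.no_189000 t hto
      (CfsgLib.Recog.J1Order.fusion t hto ⟨P, htP, hPc⟩ e).2.1
      ((Nat.card_congr e.toEquiv).trans CfsgLib.Recog.J1Order.card_model) D rfl hg hvt hd ho hrow cfg).elim

end Cfsg.Agent.S0448
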