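import Cfsg.Statements.S3216
import Cfsg.Agent.Lib.Core.TwoTimesPSL.CaseElementary
import Cfsg.Agent.Lib.Core.TwoTimesPSL.DihSmall
import Cfsg.Agent.Lib.Core.TwoTimesPSL.DihEight

set_option autoImplicit false
open Cfsg

namespace Cfsg.Agent.S3216

/-- Let G be a finite non-abelian simple group and t an involution of G; write C = C_G(t) and C̄ = C/O(C). If the subgroup of C̄ generated by its 2-elements (the smallest normal subgroup of C̄ of odd index) is isomorphic to Z₂ × PSL₂(q) for some prime power q > 3, then the Sylow 2-subgroups of G are elementary abelian of order 8. -/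
theorem result {G : Type*} [Group G] [Finite G] [IsSimpleGroup G]
    (hG : ¬ IsMulCommutative G) (t : G) (ht : orderOf t = 2) {F : Type*} [Field F] [Fintype F] (hF : 3 < Fintype.card F)
    (hL : Nonempty (↥(Subgroup.closure {x : (↥(Subgroup.centralizer ({t} : Set G)) ⧸ Cfsg.oddCore ↥(Subgroup.centralizer ({t} : Set G))) | ∃ k : ℕ, orderOf x = 2 ^ k}) ≃*
      (Multiplicative (ZMod 2) × Matrix.ProjectiveSpecialLinearGroup (Fin 2) F))) (S : Sylow 2 G) :
    Nat.card ↥(S : Subgroup G) = 8 ∧ ∀ x ∈ (S : Subgroup G), x ^ 2 = 1 := by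
  classical
  obtain ⟨Δ⟩ := CfsgLib.Core.TwoTimesPSL.exists_centData ht hF hL
  have hP := CfsgLib.Core.TwoTimesPSL.psl_two_hom_eq_one (F := F) hF
  obtain ⟨T, D, Q, h⟩ := Δ.exists_sylowData
  rcases CfsgLib.Core.TwoTimesPSL.psl_two_sylow_cases (F := F) hF with hc | hc
  · obtain ⟨n, hn⟩ := hc Q
    obtain ⟨σ, -, -⟩ := h.setting hP hn
    exact σ.card_eq_eight hG S
  · obtain ⟨k, hk, ⟨e⟩⟩ := hc Q
    obtain ⟨σ⟩ := h.dihSetting hk e fun H hH => by
      let ψ : Matrix.ProjectiveSpecialLinearGroup (Fin 2) F →* Multiplicative (ZMod 2) :=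
        MonoidHom.mk' (fun x => if x ∈ H then 1 else CfsgLib.Core.TwoTimesPSL.flag) fun a b => by
          have h' := Subgroup.mul_mem_iff_of_index_two hH (a := a) (b := b)
          by_cases ha : a ∈ H <;> by_cases hb : b ∈ H <;>
            simp [h', ha, hb, CfsgLib.Core.TwoTimesPSL.flag_mul]
      have htop : H = ⊤ := (Subgroup.eq_top_iff' _).2 fun x => by
        by_contra hx
        have hx1 : ψ x = 1 := by rw [hP ψ]; rfl
        refine CfsgLib.Core.TwoTimesPSL.flag_ne ?_
        simpa [ψ, hx] using hx1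
      rw [htop, Subgroup.index_top] at hH
      omega
    obtain ⟨S', hTS⟩ := σ.two.exists_le_sylow
    by_cases hS2 : Nat.card (S' : Subgroup G) = 2 * Nat.card σ.T
    · exact (σ.small_false hG S' hTS hS2).elim
    · exact (σ.eight_false hG S' hTS hS2).elim

end Cfsg.Agent.S3216
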