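import Cfsg.Statements.S0343
import Cfsg.Agent.Lib.Recog.JankoThompson.SmallQ
import Cfsg.Agent.Lib.Recog.JankoThompson.SylowTwo
import Cfsg.Agent.Lib.Recog.JankoThompson.Pattern
import Cfsg.Agent.Lib.Recog.JankoThompson.Chars
import Cfsg.Agent.Lib.Recog.JankoThompson.Tori

set_option autoImplicit false
open Cfsg

namespace Cfsg.Agent.S0343

open CfsgLib.Recog.JankoThompson in
theorem conclusion_nat {ι L J : Type*} [Fintype ι] [Fintype L] [Fintype J] (K : Cols ι L J) {q N : ℕ}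
    (hq : K.q = q) (hN : K.N = N) :
    ∃ m : ℕ, 1 ≤ m ∧ q = 3 ^ (2 * m + 1) ∧
      N = (3 ^ (2 * m + 1)) ^ 3 * ((3 ^ (2 * m + 1)) ^ 3 + 1) * (3 ^ (2 * m + 1) - 1) := by
  classical
  obtain ⟨-, ⟨m, hm, hpm⟩, hN'⟩ := K.conclusion
  have h3 : q = 3 ^ (2 * m + 1) := by
    rw [← hpm]
    exact_mod_cast hq.symm.trans K.q_eq
  refine ⟨m, hm, h3, ?_⟩
  rw [← h3]
  have h1 : 1 ≤ q := h3 ▸ Nat.one_le_pow _ _ (by norm_num)
  rw [hN, hq] at hN'
  zify [h1]
  exact hN'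

/-- If a finite simple group has abelian Sylow `2`-subgroups and an involution whose centraliser is isomorphic to
`Z₂ × PSL₂(F)` with `|F| = q ≥ 3`, then either `q = 3^(2m+1)` with `m ≥ 1` and the group has the small-Ree order
`q³(q³+1)(q-1)`, or `q = 4` or `q = 5` and the group is simple of the order of the smallest Janko group. -/
theorem result {G : Type*} [Group G] [Finite G]
    [IsSimpleGroup G] (hab : ∀ P : Sylow 2 G, ∀ a b : P, a * b = b * a)
    {F : Type*} [Field F] [Fintype F] (hq : 3 ≤ Fintype.card F) (t : G) (ht : orderOf t = 2)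
    (hC : Nonempty (Subgroup.centralizer ({t} : Set G) ≃* Multiplicative (ZMod 2) × Matrix.ProjectiveSpecialLinearGroup (Fin 2) F)) :
    (∃ m : ℕ, 1 ≤ m ∧ Fintype.card F = 3 ^ (2 * m + 1) ∧
        Nat.card G = (3 ^ (2 * m + 1)) ^ 3 * ((3 ^ (2 * m + 1)) ^ 3 + 1) * (3 ^ (2 * m + 1) - 1)) ∨
      ((Fintype.card F = 4 ∨ Fintype.card F = 5) ∧ Cfsg.IsJ1 G) := by
  classical
  obtain ⟨e⟩ := hC
  rcases CfsgLib.Recog.JankoThompson.reduction hab ht e hq with h | ⟨hbig, hmod⟩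
  · exact Or.inr h
  obtain ⟨c⟩ := CfsgLib.Recog.JankoThompson.exists_ctx hab ht e hmod hbig
  obtain ⟨p, ⟨T⟩⟩ := CfsgLib.Recog.JankoThompson.nonempty_tori c
  let _ := Fintype.ofFinite G
  let _ := Fintype.ofFinite (Cfsg.IrrCharacter G)
  obtain ⟨L, J, _, _, K, hKq, hKN⟩ := c.exists_cols T
  exact Or.inl (conclusion_nat K hKq hKN)

end Cfsg.Agent.S0343
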