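import Cfsg.Statements.S0992
import Cfsg.Agent.Lib.Perm.SylowNormalizer
import Mathlib.GroupTheory.SpecificGroups.KleinFour
import Mathlib.Tactic

set_option autoImplicit false
open Cfsg

namespace Cfsg.Agent.S0992

/-- Let G be a non-abelian finite simple group of even order not divisible by 8, and T a Sylow 2-subgroup. Then T is a Klein four-group and the centralizer of T has index 3 in the normalizer of T. -/
theorem result {G : Type*} [Group G] [Finite G] [IsSimpleGroup G] (hG : ¬ IsMulCommutative G) (h2 : Even (Nat.card G)) (h8 : ¬ 8 ∣ Nat.card G) (T : Sylow 2 G) : IsKleinFour ↥(T : Subgroup G) ∧ (Subgroup.centralizer ((T : Subgroup G) : Set G)).relIndex (Subgroup.normalizer ((T : Subgroup G) : Set G)) = 3 := by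
  classical
  have : Fact (Nat.Prime 2) := ⟨Nat.prime_two⟩
  have h2' : 2 ∣ Nat.card G := even_iff_two_dvd.1 h2
  have hne : ¬ IsPGroup 2 G := by
    intro hp
    apply hG
    have : Nontrivial G := IsSimpleGroup.toNontrivial
    have : Nontrivial (Subgroup.center G) := hp.center_nontrivial
    rcases (Subgroup.instNormalCenter : (Subgroup.center G).Normal).eq_bot_or_eq_top with hb | ht
    · exact absurd hb ((Subgroup.nontrivial_iff_ne_bot _).1 this)
    · exact ⟨⟨fun a b => (Subgroup.mem_center_iff.1 (ht ▸ Subgroup.mem_top b) a)⟩⟩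
  have hBurn := CfsgLib.Perm.not_normalizer_le_centralizer T h2' hne
  have hmin : (Nat.card G).minFac = 2 :=
    le_antisymm (Nat.minFac_le_of_dvd le_rfl h2') (Nat.minFac_prime (by omega)).two_le
  have hncyc : ¬ IsCyclic (T : Subgroup G) := fun hc =>
    hBurn (IsCyclic.normalizer_le_centralizer hmin hc)
  obtain ⟨k, hk⟩ := IsPGroup.iff_card.1 T.isPGroup'
  have hk2 : k ≤ 2 := by
    by_contra hlt
    push Not at hlt
    apply h8
    calc 8 = 2 ^ 3 := rfl
      _ ∣ 2 ^ k := pow_dvd_pow 2 hlt
      _ ∣ Nat.card G := hk ▸ Subgroup.card_subgroup_dvd_card _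
  have hk' : k = 2 := by
    interval_cases k
    · exact absurd (Subgroup.card_eq_one.1 (by simpa using hk)) (T.ne_bot_of_dvd_card h2')
    · exact absurd (isCyclic_of_prime_card (p := 2) (by simpa using hk)) hncyc
    · rfl
  subst hk'
  have hcard : Nat.card (T : Subgroup G) = 4 := hk
  have hsq : ∀ t : (T : Subgroup G), t ^ 2 = 1 := by
    intro t
    have hd : orderOf t ∣ 2 ^ 2 := by
      rw [show (2 : ℕ) ^ 2 = 4 from rfl, ← hcard]; exact orderOf_dvd_natCard t
    obtain ⟨j, hj, hj'⟩ := (Nat.dvd_prime_pow Nat.prime_two).1 hd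
    interval_cases j
    · have h1 : t = 1 := orderOf_eq_one_iff.1 (by simpa using hj')
      rw [h1, one_pow]
    · exact orderOf_dvd_iff_pow_eq_one.1 (by simp [hj'])
    · exact absurd (isCyclic_of_orderOf_eq_card t (by rw [hj', hcard]; rfl)) hncyc
  have hklein : IsKleinFour (T : Subgroup G) := by
    refine ⟨hcard, ?_⟩
    have : Nontrivial (T : Subgroup G) := by
      rw [← Finite.one_lt_card_iff_nontrivial, hcard]; norm_num
    exact (Monoid.exponent_eq_prime_iff Nat.prime_two).2 fun t ht =>
      orderOf_eq_prime (hsq t) ht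
  refine ⟨hklein, ?_⟩
  have key := Subgroup.card_dvd_of_injective _
    (QuotientGroup.kerLift_injective (T : Subgroup G).normalizerMonoidHom)
  rw [Subgroup.normalizerMonoidHom_ker, ← Subgroup.index, ← Subgroup.relIndex] at key
  -- the automorphisms of T permute the three involutions
  let X := {t : (T : Subgroup G) // t ≠ 1}
  let f : MulAut (T : Subgroup G) →* Equiv.Perm X :=
  { toFun := fun φ => φ.toEquiv.subtypeEquiv fun t => by simp
    map_one' := by ext; rfl
    map_mul' := fun φ ψ => by ext; rfl }
  have hf : Function.Injective f := by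
    intro φ ψ hφψ
    apply MulEquiv.ext
    intro t
    by_cases ht : t = 1
    · subst ht; simp
    · exact congrArg Subtype.val (Equiv.ext_iff.1 hφψ ⟨t, ht⟩)
  have hX : Nat.card X = 3 := by
    let _ := Fintype.ofFinite (T : Subgroup G)
    rw [Nat.card_eq_fintype_card, Fintype.card_subtype_compl, Fintype.card_subtype_eq,
      ← Nat.card_eq_fintype_card, hcard]
  have h6 : (Subgroup.centralizer ((T : Subgroup G) : Set G)).relIndex
      (Subgroup.normalizer ((T : Subgroup G) : Set G)) ∣ 6 := by
    refine key.trans ?_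
    have := Subgroup.card_dvd_of_injective f hf
    rwa [Nat.card_perm, hX] at this
  have hodd : ¬ 2 ∣ (Subgroup.centralizer ((T : Subgroup G) : Set G)).relIndex
      (Subgroup.normalizer ((T : Subgroup G) : Set G)) := by
    intro hd
    have hcomm : IsMulCommutative (T : Subgroup G) := IsKleinFour.isMulCommutative
    have h1 := Subgroup.relIndex_dvd_of_le_left (Subgroup.normalizer ((T : Subgroup G) : Set G))
      (Subgroup.le_centralizer (T : Subgroup G))
    have h3 := Subgroup.relIndex_dvd_index_of_le (Subgroup.le_normalizer : (T : Subgroup G) ≤ _)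
    exact T.not_dvd_index (hd.trans (h1.trans h3))
  have hone : (Subgroup.centralizer ((T : Subgroup G) : Set G)).relIndex
      (Subgroup.normalizer ((T : Subgroup G) : Set G)) ≠ 1 := by
    rw [Ne, Subgroup.relIndex_eq_one]
    exact hBurn
  generalize (Subgroup.centralizer ((T : Subgroup G) : Set G)).relIndex
      (Subgroup.normalizer ((T : Subgroup G) : Set G)) = r at *
  have := Nat.le_of_dvd (by norm_num) h6
  interval_cases r <;> omega

end Cfsg.Agent.S0992
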