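import Cfsg.Statements.S0977
import Cfsg.Agent.Lib.Perm.ThreePrimeOrder.Order4320

open CfsgLib.Perm.ThreePrimeOrder Subgroup

set_option autoImplicit false
open Cfsg

namespace Cfsg.Agent.S0977

/-- No finite simple group has order 4320 = 2^5 * 3^3 * 5. -/
theorem result {G : Type*} [Group G] [Finite G] [IsSimpleGroup G] : Nat.card G ≠ 4320 := by
  by_contra! hcard
  haveI := Fintype.ofFinite G
  haveI : Fact (Nat.Prime 5) := ⟨by norm_num⟩
  have h5 : Nat.Prime 5 := by norm_num
  have hnc : ¬ IsMulCommutative G :=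
    CfsgLib.Perm.not_comm_of_not_prime (by rw [hcard]; norm_num)
  have hsq : ¬ 5 * 5 ∣ Nat.card G := by rw [hcard]; norm_num
  have hdeg : ∀ d, d ∣ Nat.card G → ¬ 2 ∣ d → ¬ 5 ∣ d → d ≠ 1 → d = 3 ∨ d = 9 ∨ d = 27 := by
    intro d hd h2 hd5 h1
    have h135 : d ∣ 5 * 27 :=
      Nat.Coprime.dvd_of_dvd_mul_left (m := 2 ^ 5)
        ((Nat.prime_two.coprime_iff_not_dvd.2 h2).symm.pow_right 5) (by rw [hcard] at hd; exact hd)
    have h27 : d ∣ 3 ^ 3 :=
      Nat.Coprime.dvd_of_dvd_mul_left (m := 5) ((h5.coprime_iff_not_dvd.2 hd5).symm) h135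
    obtain ⟨i, hi, rfl⟩ := (Nat.dvd_prime_pow Nat.prime_three).1 h27
    interval_cases i <;> first | (norm_num at h1; done) | norm_num
  obtain ⟨P⟩ := (inferInstance : Nonempty (Sylow 5 G))
  have hP : Nat.card (P : Subgroup G) = 5 := by
    simpa using CfsgLib.Perm.sylow_card_eq P (k := 1) (m := 864) (by rw [hcard]; norm_num)
      (by norm_num)
  obtain ⟨y0, hy0⟩ := exists_prime_orderOf_dvd_card' (G := (P : Subgroup G)) 5 (by rw [hP])
  set y : G := (y0 : G) with hydef
  have hy : orderOf y = 5 := by rw [hydef, Subgroup.orderOf_coe, hy0]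
  have hPy : (P : Subgroup G) = zpowers y :=
    (eq_of_le_of_card_ge (zpowers_le.2 y0.2) (by rw [hP, Nat.card_zpowers, hy])).symm
  have hCy : centralizer ((P : Subgroup G) : Set G) = centralizer ({y} : Set G) := by
    rw [hPy, zpowers_eq_closure, centralizer_closure]
  have hodd : ¬ 2 ∣ Nat.card (centralizer ({y} : Set G)) :=
    centralizer_five_odd hnc hsq (by rw [hcard]; norm_num) hdeg hy
  rw [← hCy] at hodd
  set C := centralizer ((P : Subgroup G) : Set G) with hC
  have hPC : (P : Subgroup G) ≤ C := by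
    rw [hCy, hPy, zpowers_le]
    exact mem_centralizer_singleton_iff.2 rfl
  obtain ⟨j, hj⟩ : 5 ∣ Nat.card C := hP ▸ card_dvd_of_le hPC
  have hj27 : j ∣ 3 ^ 3 := by
    have h := card_subgroup_dvd_card C
    rw [hcard, hj, show 4320 = 5 * (2 ^ 5 * 3 ^ 3) by norm_num] at h
    refine Nat.Coprime.dvd_of_dvd_mul_left (m := 2 ^ 5) ?_
      ((Nat.mul_dvd_mul_iff_left (by norm_num : 0 < 5)).1 h)
    exact (Nat.prime_two.coprime_iff_not_dvd.2 fun h2 => hodd
      (hj ▸ dvd_mul_of_dvd_right h2 5)).symm.pow_right 5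
  obtain ⟨i, hi, rfl⟩ := (Nat.dvd_prime_pow Nat.prime_three).1 hj27
  have he4 := CfsgLib.Perm.relIndex_centralizer_dvd_sub_one (P : Subgroup G) hP
  have he1 : C.relIndex (normalizer ((P : Subgroup G) : Set G)) ≠ 1 := by
    intro h
    rw [relIndex_eq_one] at h
    refine CfsgLib.Perm.not_normalizer_le_centralizer P (by rw [hcard]; norm_num) (fun hp => ?_) h
    obtain ⟨k, hk⟩ := hp.exists_card_eq
    have h2 : 2 ∣ 5 ^ k := by rw [← hk, hcard]; norm_num
    have := Nat.prime_two.dvd_of_dvd_pow h2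
    omega
  have hN : C.relIndex (normalizer ((P : Subgroup G) : Set G)) * Nat.card C =
      Nat.card (normalizer ((P : Subgroup G) : Set G)) := by
    have h := index_mul_card (C.subgroupOf (normalizer ((P : Subgroup G) : Set G)))
    rwa [Nat.card_congr (subgroupOfEquivOfLe (centralizer_le_normalizer _)).toEquiv] at h
  have hn := CfsgLib.Perm.card_normalizer_mul_card_sylow P
  rw [← hN, hj, hcard] at hn
  have hmod : Nat.card (Sylow 5 G) % 5 = 1 := by
    have h := card_sylow_modEq_one 5 G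
    rwa [Nat.ModEq, Nat.one_mod] at h
  have hcases : (i = 3 ∧ Nat.card (Sylow 5 G) = 16) ∨
      (i = 0 ∧ Nat.card (Sylow 5 G) = 216) := by
    have := Nat.le_of_dvd (by norm_num) he4
    generalize C.relIndex (normalizer ((P : Subgroup G) : Set G)) = e at hn he4 he1 this
    generalize Nat.card (Sylow 5 G) = n at hn hmod ⊢
    interval_cases e <;> interval_cases i <;> omega
  rcases hcases with ⟨rfl, hn16⟩ | ⟨rfl, hn216⟩
  · exact sixteen_false P hP hn16 (by rw [hj]; norm_num)
  · have hCP : C = (P : Subgroup G) :=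
      (eq_of_le_of_card_ge hPC (by rw [hj, hP, pow_zero, mul_one])).symm
    obtain ⟨a, e, t, n, F⟩ := CfsgLib.Perm.FewSylow.exists_frame P hP hCP (perfect_of_nc hnc)
    have hs := F.syl
    have h1 := F.cardG
    have h2 := F.et
    rw [hn216] at hs
    rw [hcard, ← hs] at h1
    obtain rfl : e = 4 := by omega
    obtain rfl : t = 1 := by omega
    exact frame_false hcard F

end Cfsg.Agent.S0977
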