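import Cfsg.Statements.S0978
import Cfsg.Agent.Lib.Perm.ThreePrimeOrder.Order5040

open CfsgLib.Perm.ThreePrimeOrder Subgroup

set_option autoImplicit false
open Cfsg

namespace Cfsg.Agent.S0978

/-- No finite simple group has order 5040 = 2^4 * 3^2 * 5 * 7. -/
theorem result {G : Type*} [Group G] [Finite G] [IsSimpleGroup G] : Nat.card G ≠ 5040 := by
  by_contra! h
  haveI := Fintype.ofFinite G
  haveI : Fact (Nat.Prime 7) := ⟨by norm_num⟩
  haveI : Fact (Nat.Prime 2) := ⟨Nat.prime_two⟩
  haveI : Fact (Nat.Prime 3) := ⟨Nat.prime_three⟩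
  have hnc : ¬ IsMulCommutative G :=
    CfsgLib.Perm.not_comm_of_not_prime (by rw [h]; norm_num)
  have h' : Nat.card G = 7 ^ 1 * 720 := by rw [h]; norm_num
  have hne : ¬ IsPGroup 7 G :=
    CfsgLib.Perm.not_isPGroup_of_dvd Nat.prime_two (by norm_num) (by rw [h]; norm_num)
  obtain ⟨P⟩ := (inferInstance : Nonempty (Sylow 7 G))
  have hP : Nat.card (P : Subgroup G) = 7 := by
    rw [CfsgLib.Perm.sylow_card_eq P h' (by norm_num), pow_one]
  obtain ⟨y0, hy0⟩ := exists_prime_orderOf_dvd_card' (G := (P : Subgroup G)) 7 (by rw [hP])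
  set y : G := (y0 : G) with hydef
  have hy : orderOf y = 7 := by rw [hydef, Subgroup.orderOf_coe, hy0]
  have hPy : (P : Subgroup G) = zpowers y :=
    (eq_of_le_of_card_ge (zpowers_le.2 y0.2) (by rw [hP, Nat.card_zpowers, hy])).symm
  have hCy : centralizer ((P : Subgroup G) : Set G) = centralizer ({y} : Set G) := by
    rw [hPy, zpowers_eq_closure, centralizer_closure]
  set N := normalizer ((P : Subgroup G) : Set G) with hNdef
  set C := centralizer ((P : Subgroup G) : Set G) with hCdef
  have hCN : C ≤ N := centralizer_le_normalizer _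
  have hPC : (P : Subgroup G) ≤ C := by
    rw [hCy, hPy, zpowers_le]
    exact mem_centralizer_singleton_iff.2 rfl
  have he6 := CfsgLib.Perm.relIndex_centralizer_dvd_sub_one (P : Subgroup G) hP
  have he1 : C.relIndex N ≠ 1 := by
    intro e
    rw [relIndex_eq_one] at e
    exact CfsgLib.Perm.not_normalizer_le_centralizer P (by rw [h]; norm_num) hne e
  have hN : C.relIndex N * Nat.card C = Nat.card N := by
    have h0 := index_mul_card (C.subgroupOf N)
    rwa [Nat.card_congr (subgroupOfEquivOfLe hCN).toEquiv] at h0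
  have he6le := Nat.le_of_dvd (by norm_num) he6
  have hn := CfsgLib.Perm.card_normalizer_mul_card_sylow P
  rw [← hNdef, h] at hn
  have hmod : Nat.card (Sylow 7 G) % 7 = 1 := by
    have h0 := card_sylow_modEq_one 7 G
    rwa [Nat.ModEq, Nat.one_mod] at h0
  have hn1 : Nat.card (Sylow 7 G) ≠ 1 :=
    CfsgLib.Perm.card_sylow_ne_one (by rw [h]; norm_num) hne
  have hcases : Nat.card (Sylow 7 G) = 8 ∨ Nat.card (Sylow 7 G) = 15 ∨
      Nat.card (Sylow 7 G) = 36 ∨ Nat.card (Sylow 7 G) = 120 := by
    have h1 := Nat.mem_divisors.2 ⟨CfsgLib.Perm.card_sylow_dvd_of_card_eq h', by norm_num⟩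
    rw [show (720 : ℕ).divisors = ({1, 2, 3, 4, 5, 6, 8, 9, 10, 12, 15, 16, 18, 20, 24, 30, 36,
      40, 45, 48, 60, 72, 80, 90, 120, 144, 180, 240, 360, 720} : Finset ℕ) from by decide +kernel]
      at h1
    simp only [Finset.mem_insert, Finset.mem_singleton] at h1
    omega
  -- an involution centralising `P`
  have hinv : 2 ∣ Nat.card C → ∃ z : G, orderOf z = 2 ∧ z ∈ C ∧
      (centralizer ({z} : Set G)).index = 15 ∧
      ∃ s, s % 7 = 1 ∧ Nat.card ↥(N ⊓ centralizer ({z} : Set G)) * s = 336 := by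
    intro h2
    obtain ⟨z, hz⟩ := exists_prime_orderOf_dvd_card' (G := C) 2 h2
    have hz' : orderOf (z : G) = 2 := by rw [Subgroup.orderOf_coe, hz]
    have hc := card_centralizer_involution h hy hz' (hCy ▸ z.2)
    refine ⟨z, hz', z.2, ?_, ?_⟩
    · have h0 := card_mul_index (centralizer ({(z : G)} : Set G))
      rw [hc, h] at h0
      omega
    · obtain ⟨s, hs1, hs2⟩ := exists_count_in_subgroup P (centralizer ({(z : G)} : Set G))
        (fun x hx => mem_centralizer_singleton_iff.2 ((mem_centralizer_iff.1 z.2) x hx))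
      exact ⟨s, hs1, hs2.trans hc⟩
  rcases hcases with hn8 | hn15 | hn36 | hn120
  · -- eight Sylow subgroups
    rw [hn8] at hn
    have hidx : N.index = 8 := by
      have h0 := card_mul_index N
      rw [h] at h0
      rw [show Nat.card N = 630 by omega] at h0
      omega
    obtain ⟨-, hd⟩ := CfsgLib.Perm.card_centralizer_dvd_of_small_index N
      (fun e => by rw [e, index_top] at hidx; omega) (by omega) hy
    rw [← hCy, hidx] at hd
    norm_num [Nat.factorial] at hd
    have := Nat.le_of_dvd (by norm_num) hd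
    generalize C.relIndex N = e at he6 he1 hN he6le
    interval_cases e <;> omega
  · -- fifteen Sylow subgroups
    rw [hn15] at hn
    have h2C : 2 ∣ Nat.card C := by
      generalize C.relIndex N = e at he6 he1 hN he6le
      interval_cases e <;> omega
    obtain ⟨z0, hz0⟩ := exists_prime_orderOf_dvd_card' (G := C) 2 h2C
    have hz : orderOf (z0 : G) = 2 := by rw [Subgroup.orderOf_coe, hz0]
    obtain ⟨h4, hle⟩ := CfsgLib.Perm.card_fixedSylows_four (p := 7) hnc
      (z := (z0 : G)) (by rw [← pow_two, ← hz, pow_orderOf_eq_one])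
    have hF := CfsgLib.Perm.card_fixedSylows_modEq P hP z0.2
    have hF15 : Nat.card (CfsgLib.Perm.fixedSylows 7 (z0 : G)) = Nat.card (Sylow 7 G) := by omega
    have hall : ∀ S : Sylow 7 G, (z0 : G) • S = S := fun S => by
      obtain ⟨T, rfl⟩ := ((Nat.bijective_iff_injective_and_card
        (Subtype.val : CfsgLib.Perm.fixedSylows 7 (z0 : G) → Sylow 7 G)).2
          ⟨Subtype.val_injective, hF15⟩).2 S
      exact T.2
    have hmem : (z0 : G) ∈ (MulAction.toPermHom G (Sylow 7 G)).ker := by
      rw [MonoidHom.mem_ker]; exact Equiv.ext hall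
    rcases (MonoidHom.normal_ker (MulAction.toPermHom G (Sylow 7 G))).eq_bot_or_eq_top with hb | ht
    · rw [hb, mem_bot] at hmem
      rw [hmem, orderOf_one] at hz
      omega
    · haveI : Nontrivial (Sylow 7 G) := Finite.one_lt_card_iff_nontrivial.1 (by omega)
      obtain ⟨R, hR⟩ := exists_ne P
      obtain ⟨g, hg⟩ := MulAction.exists_smul_eq G P R
      have hgk : g ∈ (MulAction.toPermHom G (Sylow 7 G)).ker := ht ▸ mem_top g
      exact hR (hg.symm.trans
        (congrArg (fun f : Equiv.Perm (Sylow 7 G) => f P) (MonoidHom.mem_ker.1 hgk)))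
  · -- thirty-six Sylow subgroups
    rw [hn36] at hn
    have h2C : 2 ∣ Nat.card C := by
      generalize C.relIndex N = e at he6 he1 hN he6le
      interval_cases e <;> omega
    obtain ⟨z, -, -, -, s, hs, hmul⟩ := hinv h2C
    have hd := card_dvd_of_le (inf_le_left : N ⊓ centralizer ({z} : Set G) ≤ N)
    rw [show Nat.card N = 140 by omega] at hd
    have hs336 : s ∈ (336 : ℕ).divisors :=
      Nat.mem_divisors.2 ⟨Dvd.intro_left _ hmul, by norm_num⟩
    have key : ∀ t ∈ (336 : ℕ).divisors, t % 7 = 1 → t = 1 ∨ t = 8 := by decide +kernel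
    generalize Nat.card ↥(N ⊓ centralizer ({z} : Set G)) = m at hd hmul
    rcases key s hs336 hs with rfl | rfl
    · have := Nat.le_of_dvd (by norm_num) hd
      omega
    · obtain rfl : m = 42 := by omega
      norm_num at hd
  · -- one hundred and twenty Sylow subgroups
    rw [hn120] at hn
    have hN42 : Nat.card N = 42 := by omega
    by_cases h2C : 2 ∣ Nat.card C
    · obtain ⟨z, hz, hzC, hidx, s, hs, hmul⟩ := hinv h2C
      have hle := Nat.le_of_dvd (by norm_num : 0 < 42)
        (hN42 ▸ card_dvd_of_le (inf_le_left : N ⊓ centralizer ({z} : Set G) ≤ N))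
      have hge : 42 ≤ Nat.card ↥(N ⊓ centralizer ({z} : Set G)) := by
        have hs336 : s ∈ (336 : ℕ).divisors :=
          Nat.mem_divisors.2 ⟨Dvd.intro_left _ hmul, by norm_num⟩
        have key : ∀ t ∈ (336 : ℕ).divisors, t % 7 = 1 → t = 1 ∨ t = 8 := by decide +kernel
        rcases key s hs336 hs with rfl | rfl <;> omega
      exact index_fifteen_false hnc P hP hz hzC hidx
        (inf_eq_left.1 (eq_of_le_of_card_ge inf_le_left (by rw [hN42]; exact hge)))
    by_cases h3C : 3 ∣ Nat.card C
    · obtain ⟨v, hv⟩ := exists_prime_orderOf_dvd_card' (G := C) 3 h3C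
      have hv' : orderOf (v : G) = 3 := by rw [Subgroup.orderOf_coe, hv]
      obtain ⟨h63, h1008⟩ := card_centralizer_three h hy hv' (hCy ▸ v.2)
      set H := centralizer ({(v : G)} : Set G) with hH
      have hPH : (P : Subgroup G) ≤ H := fun x hx =>
        mem_centralizer_singleton_iff.2 ((mem_centralizer_iff.1 v.2) x hx)
      obtain ⟨s, hs, hmul⟩ := exists_count_in_subgroup P H hPH
      have hd42 := card_dvd_of_le (inf_le_left : N ⊓ H ≤ N)
      rw [hN42] at hd42
      have h21 : 21 ∣ Nat.card ↥(N ⊓ H) := by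
        refine Nat.Coprime.mul_dvd_of_dvd_of_dvd (show Nat.Coprime 7 3 by norm_num) ?_ ?_
        · rw [← hP]; exact card_dvd_of_le (le_inf le_normalizer hPH)
        · rw [← hv']
          exact Subgroup.orderOf_dvd_natCard _
            (mem_inf.2 ⟨hCN v.2, by rw [hH, mem_centralizer_singleton_iff]⟩)
      obtain ⟨j, hj⟩ := h21
      rw [hj] at hd42 hmul
      have hj2 : j ∣ 2 := (Nat.mul_dvd_mul_iff_left (by norm_num : 0 < 21)).1 hd42
      have hjle := Nat.le_of_dvd (by norm_num) hj2
      obtain ⟨i, hi⟩ := h63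
      rw [hi] at h1008
      have hi16 : i ∣ 16 := (Nat.mul_dvd_mul_iff_left (by norm_num : 0 < 63)).1 h1008
      have hile := Nat.le_of_dvd (by norm_num) hi16
      rw [hi] at hmul
      interval_cases j <;> interval_cases i <;> omega
    have hCcard : Nat.card C = 7 := by
      obtain ⟨j, hj⟩ := hP ▸ card_dvd_of_le hPC
      rw [hj] at hN h2C h3C
      rw [hN42] at hN
      rw [hj]
      generalize C.relIndex N = e at he6 he1 hN he6le
      interval_cases e <;> omega
    have hCP : C = (P : Subgroup G) := (eq_of_le_of_card_ge hPC (by rw [hCcard, hP])).symm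
    obtain ⟨a, e, t, n, F⟩ := CfsgLib.Perm.FewSylow.exists_frame P hP hCP (perfect_of_nc hnc)
    have h1 := F.cardN
    rw [← hNdef, hN42] at h1
    have h2 := F.et
    obtain rfl : e = 6 := by omega
    obtain rfl : t = 1 := by omega
    exact signed_false h F

end Cfsg.Agent.S0978
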