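import Cfsg.Statements.S0979
import Cfsg.Agent.Lib.Perm.SelfCentDegreeThree
import Mathlib.Tactic

set_option autoImplicit false
open Cfsg

namespace Cfsg.Agent.S0979

/-- No finite simple group has order 5472 = 2^5 * 3^2 * 19. -/
theorem result {G : Type*} [Group G] [Finite G] [IsSimpleGroup G] : Nat.card G ≠ 5472 := by
  intro h
  have : Fact (Nat.Prime 19) := ⟨by norm_num⟩
  have h' : Nat.card G = 19 ^ 1 * 288 := by rw [h]; norm_num
  have hG : ¬ IsMulCommutative G := CfsgLib.Perm.not_comm_of_not_prime (by rw [h]; norm_num)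
  obtain ⟨h1, h2, h3⟩ := CfsgLib.Perm.card_sylow_mem (q := 2) h' one_ne_zero Nat.prime_two
    (by norm_num) (by norm_num)
  have hn : Nat.card (Sylow 19 G) = 96 := by
    have hmem := Nat.mem_divisors.2 ⟨h1, by norm_num⟩
    rw [show (288 : ℕ).divisors = ({1, 2, 3, 4, 6, 8, 9, 12, 16, 18, 24, 32, 36, 48, 72, 96, 144, 288} : Finset ℕ) from by decide +kernel] at hmem
    simp only [Finset.mem_insert, Finset.mem_singleton] at hmem
    omega
  obtain ⟨P⟩ := (inferInstance : Nonempty (Sylow 19 G))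
  have hP : Nat.card (P : Subgroup G) = 19 := by
    rw [CfsgLib.Perm.sylow_card_eq P h' (by norm_num), pow_one]
  have hN := CfsgLib.Perm.card_normalizer_mul_card_sylow P
  rw [hn, h] at hN
  obtain ⟨x₁, x₂, y, hd1, hd2, hd3, hne1, hne2, hm1, hm2, heq⟩ :=
    CfsgLib.Perm.exists_degree_of_card_normalizer_three_mul (by norm_num) P hP
      (CfsgLib.Perm.not_isPGroup_of_dvd Nat.prime_two (by norm_num) (by rw [h]; norm_num)) hG (by omega)
  rw [h] at hd1 hd2 hd3
  have key : ∀ d ∈ (5472 : ℕ).divisors, (d % 19 = 1 → d = 1 ∨ d = 96) ∧ (d % 19 = 18 → d = 18) := by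
    decide +kernel
  have hx : ∀ x : ℤ, x.natAbs ∣ 5472 → x.natAbs ≠ 1 → (19 : ℤ) ∣ x - 1 → x = 96 ∨ x = -18 := by
    intro x hd hne hm
    obtain ⟨k1, k2⟩ := key x.natAbs (Nat.mem_divisors.2 ⟨hd, by norm_num⟩)
    rcases Int.natAbs_eq x with e | e
    · rcases k1 (by omega) with hh | hh
      · exact absurd hh hne
      · left; omega
    · right
      have := k2 (by omega)
      omega
  rcases hx x₁ hd1 hne1 hm1 with rfl | rfl <;> rcases hx x₂ hd2 hne2 hm2 with rfl | rfl <;>
    (rw [← heq] at hd3; norm_num at hd3)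

end Cfsg.Agent.S0979
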