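import Cfsg.Statements.S0980
import Cfsg.Agent.Lib.Perm.ThreePrimeOrder.Five
import Cfsg.Agent.Lib.Perm.DihedralNormalizer
import Cfsg.Agent.Lib.Perm.FewSylowFrame

open CfsgLib.Perm.ThreePrimeOrder Subgroup

set_option autoImplicit false
open Cfsg

namespace Cfsg.Agent.S0980

set_option maxHeartbeats 1000000 in
/-- No finite simple group has order 5760 = 2^7 * 3^2 * 5. -/
theorem result {G : Type*} [Group G] [Finite G] [IsSimpleGroup G] : Nat.card G ≠ 5760 := by
  by_contra! hcard
  haveI := Fintype.ofFinite G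
  haveI : Fact (Nat.Prime 5) := ⟨by norm_num⟩
  have h5 : Nat.Prime 5 := by norm_num
  have hnc : ¬ IsMulCommutative G :=
    CfsgLib.Perm.not_comm_of_not_prime (by rw [hcard]; norm_num)
  have hsq : ¬ 5 * 5 ∣ Nat.card G := by rw [hcard]; norm_num
  have hdeg : ∀ d, d ∣ Nat.card G → ¬ 2 ∣ d → ¬ 5 ∣ d → d ≠ 1 → d = 3 ∨ d = 9 := by
    intro d hd h2 hd5 h1
    have h45 : d ∣ 45 := by
      refine Nat.Coprime.dvd_of_dvd_mul_left (m := 2 ^ 7) ?_ (by rw [hcard] at hd; exact hd)
      exact ((Nat.prime_two.coprime_iff_not_dvd.2 h2).symm).pow_right 7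
    have h9 : d ∣ 9 :=
      Nat.Coprime.dvd_of_dvd_mul_left (m := 5) ((h5.coprime_iff_not_dvd.2 hd5).symm) h45
    have := Nat.le_of_dvd (by norm_num) h9
    interval_cases d <;> omega
  obtain ⟨P⟩ := (inferInstance : Nonempty (Sylow 5 G))
  have hP : Nat.card (P : Subgroup G) = 5 := by
    simpa using CfsgLib.Perm.sylow_card_eq P (k := 1) (m := 1152) (by rw [hcard]; norm_num)
      (by norm_num)
  obtain ⟨y0, hy0⟩ := exists_prime_orderOf_dvd_card' (G := (P : Subgroup G)) 5 (by rw [hP])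
  set y : G := (y0 : G) with hydef
  have hy : orderOf y = 5 := by rw [hydef, Subgroup.orderOf_coe, hy0]
  set C := centralizer ({y} : Set G) with hC
  have hodd : ¬ 2 ∣ Nat.card C :=
    centralizer_five_odd hnc hsq (by rw [hcard]; norm_num)
      (fun d a b c e => (hdeg d a b c e).imp id Or.inl) hy
  have hno3 : ¬ 3 ∣ Nat.card C := by
    intro h3
    haveI : Fact (Nat.Prime 3) := ⟨Nat.prime_three⟩
    obtain ⟨v0, hv0⟩ := exists_prime_orderOf_dvd_card' 3 h3
    have hv : orderOf (v0 : G) = 3 := by rw [Subgroup.orderOf_coe, hv0]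
    obtain ⟨M, hM⟩ := CfsgLib.ZStar.exists_isPModular h5
    haveI := hM.2.1.isPrime
    obtain ⟨χ, hB, h1, hq, hp, hne⟩ :=
      exists_nonvanishing (perfect_of_nc hnc) h5 hsq Nat.prime_two hM hy
    have hval : ∀ i, i < 5 → i ≠ 0 →
        (χ : G → ℂ) (y ^ i * v0) = (χ : G → ℂ) (y ^ i) := fun i hi hi0 =>
      apply_pow_mul_eq h5 hsq hM hB hy v0.2 (by rw [hv]; norm_num) hi hi0
    rcases hdeg _ (CfsgLib.CharDegree.charDegree_dvd_card χ) hq hp h1 with hd | hd
    · have h := eq_one_of_apply_eq h1 (apply_eq_of_deg_lt χ h5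
        (by rw [← hy, pow_orderOf_eq_one]) (by rw [hd]; norm_num) hval)
      rw [h, orderOf_one] at hv
      omega
    · refine hne ?_
      rw [← pow_one y, ← hval 1 (by norm_num) one_ne_zero]
      refine vanish_of_full Nat.prime_three (by rw [hcard, hd]; norm_num) ?_
      rw [pow_one, Commute.orderOf_mul_eq_mul_orderOf_of_coprime
        (mem_centralizer_singleton_iff.1 v0.2).symm (by rw [hy, hv]; norm_num), hy, hv]
      norm_num
  have hPy : (P : Subgroup G) = zpowers y :=
    (eq_of_le_of_card_ge (zpowers_le.2 y0.2) (by rw [hP, Nat.card_zpowers, hy])).symm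
  have hPC : centralizer ((P : Subgroup G) : Set G) = (P : Subgroup G) := by
    rw [show centralizer ((P : Subgroup G) : Set G) = C by
      rw [hC, hPy, zpowers_eq_closure, centralizer_closure]]
    refine (eq_of_le_of_card_ge ?_ ?_).symm
    · rw [hPy, zpowers_le]
      exact mem_centralizer_singleton_iff.2 rfl
    · rw [hP]
      have hd : Nat.card C ∣ 5 := by
        have h := card_subgroup_dvd_card C
        rw [hcard, show 5760 = 2 ^ 7 * (3 ^ 2 * 5) by norm_num] at h
        exact Nat.Coprime.dvd_of_dvd_mul_left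
          (((Nat.prime_three).coprime_iff_not_dvd.2 hno3).symm.pow_right 2)
          (Nat.Coprime.dvd_of_dvd_mul_left
            ((Nat.prime_two.coprime_iff_not_dvd.2 hodd).symm.pow_right 7) h)
      exact Nat.le_of_dvd (by norm_num) hd
  obtain ⟨a, e, t, n, F⟩ := CfsgLib.Perm.FewSylow.exists_frame P hP hPC (perfect_of_nc hnc)
  have he : e = 2 := by
    have h1 := F.cardG
    have h2 := F.et
    have h3 := F.two
    have he4 : e ≤ 4 := by
      have h4 : e ∣ 4 := ⟨t, by omega⟩
      exact Nat.le_of_dvd (by norm_num) h4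
    rw [hcard] at h1
    interval_cases e <;> omega
  obtain ⟨x, v, u, -, hx1, hx2, hd1, hd2, hmod, heq, hv, hall⟩ :=
    CfsgLib.Perm.exists_degree_of_card_normalizer_two_mul' le_rfl P hP
      (fun h => by
        obtain ⟨k, hk⟩ := h.exists_card_eq
        rw [hcard] at hk
        have h2 : 2 ∣ 5 ^ k := by rw [← hk]; norm_num
        have := Nat.prime_two.dvd_of_dvd_pow h2
        omega)
      (by rw [F.cardN, he])
  have hc128 := CfsgLib.Perm.two_part_dvd_card_centralizer (k := 7) (m := 45) (by norm_num)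
    (by rw [hcard]; norm_num) (by norm_num) hall
  have hcpos : 0 < Nat.card (centralizer ({u} : Set G)) := Nat.card_pos
  generalize Nat.card (centralizer ({u} : Set G)) = c at heq hc128 hcpos
  have hx : x = -4 ∨ x = -9 := by
    rw [hcard] at hd1 hd2
    have hd1152 : x.natAbs ∣ 2 ^ 7 * 3 ^ 2 := by
      refine Nat.Coprime.dvd_of_dvd_mul_right (n := 5) ?_ hd1
      refine (h5.coprime_iff_not_dvd.2 fun h => ?_).symm
      omega
    obtain ⟨k1, k2, hk1, hk2, hk⟩ := exists_dvd_and_dvd_of_dvd_mul hd1152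
    obtain ⟨i, hi, rfl⟩ := (Nat.dvd_prime_pow Nat.prime_two).1 hk1
    obtain ⟨j, hj, rfl⟩ := (Nat.dvd_prime_pow Nat.prime_three).1 hk2
    clear heq hv hall hc128 hodd hno3
    rcases Int.natAbs_eq x with hx | hx <;> rw [hk] at hx <;> subst hx <;>
      interval_cases i <;> interval_cases j <;> first | omega | (norm_num at hd2) | (norm_num at hd2; omega)
  have hc1 : (128 : ℤ) ≤ c := by exact_mod_cast Nat.le_of_dvd hcpos (by simpa using hc128)
  have hc2 : (128 : ℤ) * 128 ≤ (c : ℤ) ^ 2 := by nlinarith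
  have hv' : |v| ≤ |x| := by
    rw [Int.abs_eq_natAbs, Int.abs_eq_natAbs]; exact_mod_cast hv
  rw [hcard] at heq
  rcases hx with rfl | rfl <;> obtain ⟨hv1, hv2⟩ := abs_le.1 hv' <;> norm_num at hv1 hv2 heq <;>
    nlinarith

end Cfsg.Agent.S0980
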