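import Cfsg.Statements.S0983
import Cfsg.Agent.Lib.Perm.SimpleOrders.Range
import Cfsg.Agent.Lib.Perm.SimpleOrders.Special
import Cfsg.Agent.S0977
import Cfsg.Agent.S0978
import Cfsg.Agent.S0979
import Cfsg.Agent.S0980

set_option autoImplicit false
open Cfsg

namespace Cfsg.Agent.S0983

/-- A non-abelian finite simple group of order greater than 3640 and at most 6232 has order 4080, 5616, 6048 or 6072. -/
theorem result {G : Type*} [Group G] [Finite G] [IsSimpleGroup G] (hG : ¬ IsMulCommutative G) (h1 : 3640 < Nat.card G) (h2 : Nat.card G ≤ 6232) : Nat.card G = 4080 ∨ Nat.card G = 5616 ∨ Nat.card G = 6048 ∨ Nat.card G = 6072 := by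
  have h := CfsgLib.Perm.SimpleOrders.settled_of_range h1 h2
  simp only [CfsgLib.Perm.SimpleOrders.settled, Bool.or_eq_true, beq_iff_eq, List.any_eq_true,
    CfsgLib.Perm.SimpleOrders.openOrders, List.contains_eq_mem, decide_eq_true_eq, List.mem_cons,
    List.not_mem_nil, or_false] at h
  rcases h with ((h | h) | ⟨p, -, hp⟩) | h
  · exact (CfsgLib.TwoGroups.SmallOrders.false_of_two_mod_four hG h).elim
  · exact (CfsgLib.Perm.SimpleOrders.false_of_twoPrimesB hG h).elim
  · exact (CfsgLib.Perm.SimpleOrders.false_of_killPrime hG rfl hp).elim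
  rcases h with h | h | h | h | h | h | h | h | h | h | h | h | h | h | h | h | h | h
  · exact (CfsgLib.Perm.SimpleOrders.false_3780 hG h).elim
  · exact Or.inl h
  · exact absurd h Cfsg.Agent.S0977.result
  · exact (CfsgLib.Perm.SimpleOrders.false_4500_6000 hG (Or.inl h)).elim
  · exact (CfsgLib.Perm.SimpleOrders.false_4725_5292 hG (Or.inl h)).elim
  · exact (CfsgLib.Perm.SimpleOrders.false_4800 hG h).elim
  · exact (CfsgLib.Perm.SimpleOrders.false_4960 hG h).elim
  · exact absurd h Cfsg.Agent.S0978.result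
  · exact (CfsgLib.Perm.SimpleOrders.false_4725_5292 hG (Or.inr h)).elim
  · exact (CfsgLib.Perm.SimpleOrders.false_5400 hG h).elim
  · exact (CfsgLib.Perm.SimpleOrders.false_5460 hG h).elim
  · exact absurd h Cfsg.Agent.S0979.result
  · exact Or.inr (Or.inl h)
  · exact absurd h Cfsg.Agent.S0980.result
  · exact (CfsgLib.Perm.SimpleOrders.false_5880 hG h).elim
  · exact (CfsgLib.Perm.SimpleOrders.false_4500_6000 hG (Or.inr h)).elim
  · exact Or.inr (Or.inr (Or.inl h))
  · exact Or.inr (Or.inr (Or.inr h))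

end Cfsg.Agent.S0983
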