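import Cfsg.Statements.S1015
import Cfsg.Agent.Lib.Perm.SylowNormalizer
import Mathlib.GroupTheory.PGroup
import Mathlib.Tactic

set_option autoImplicit false
open Cfsg

namespace Cfsg.Agent.S1015

/-- No finite simple group has order 1200 = 2^4 * 3 * 5^2. -/
theorem result {G : Type*} [Group G] [Finite G] [IsSimpleGroup G] : Nat.card G ≠ 1200 := by
  intro h
  classical
  have : Fact (Nat.Prime 5) := ⟨by norm_num⟩
  have h' : Nat.card G = 5 ^ 2 * 48 := by rw [h]; norm_num
  obtain ⟨h1, h2, h3⟩ := CfsgLib.Perm.card_sylow_mem (q := 2) h' two_ne_zero Nat.prime_two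
    (by norm_num) (by norm_num)
  have hG : ¬ IsMulCommutative G :=
    CfsgLib.Perm.not_comm_of_not_prime (by rw [h]; norm_num)
  have hsmall : ∀ H : Subgroup G, H ≠ ⊤ → ¬ H.index ≤ 9 := by
    intro H hH hle
    have := CfsgLib.Perm.two_mul_card_dvd_factorial_of_index_le hG H hH hle
    rw [h] at this
    revert this
    decide
  obtain ⟨P₀⟩ := (inferInstance : Nonempty (Sylow 5 G))
  have hn : Nat.card (Sylow 5 G) = 16 := by
    have h6 : Nat.card (Sylow 5 G) ≠ 6 := by
      intro h6
      have hidx : (Subgroup.normalizer ((P₀ : Subgroup G) : Set G)).index = 6 :=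
        P₀.card_eq_index_normalizer.symm.trans h6
      refine hsmall (Subgroup.normalizer ((P₀ : Subgroup G) : Set G)) ?_ (by omega)
      intro ht
      rw [ht, Subgroup.index_top] at hidx
      omega
    have hle := Nat.le_of_dvd (by norm_num) h1
    generalize Nat.card (Sylow 5 G) = n at *
    interval_cases n <;> omega
  obtain ⟨P, R, hPR, hidx⟩ := CfsgLib.Perm.exists_sylow_pair_index_le (G := G) 5 2
    (by rw [hn]; decide)
  have hc : ∀ S : Sylow 5 G, Nat.card (S : Subgroup G) = 5 ^ 2 := fun S =>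
    CfsgLib.Perm.sylow_card_eq S h' (by norm_num)
  have hcomm : ∀ S : Sylow 5 G, ∀ a b : (S : Subgroup G), a * b = b * a := fun S =>
    (IsPGroup.isMulCommutative_of_card_eq_prime_sq (hc S)).is_comm.comm
  set D := (P : Subgroup G) ⊓ (R : Subgroup G) with hD
  have hDne : D ≠ ⊥ := by
    intro hb
    have : (R : Subgroup G).subgroupOf (P : Subgroup G) = ⊥ := by
      rw [← Subgroup.inf_subgroupOf_left, ← hD, hb, Subgroup.bot_subgroupOf]
    rw [this, Subgroup.index_bot, hc P] at hidx
    norm_num at hidx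
  set M := Subgroup.normalizer (D : Set G) with hM
  have hSM : ∀ S : Sylow 5 G, D ≤ (S : Subgroup G) → (S : Subgroup G) ≤ M := by
    intro S hS
    rw [hM, Subgroup.le_normalizer_iff]
    intro s hs d hd
    have := congrArg Subtype.val (hcomm S ⟨s, hs⟩ ⟨d, hS hd⟩)
    simp only [Subgroup.coe_mul] at this
    rw [this, mul_inv_cancel_right]
    exact hd
  have hPM := hSM P inf_le_left
  have hRM := hSM R inf_le_right
  have hMtop : M ≠ ⊤ := by
    intro ht
    rcases (Subgroup.normalizer_eq_top_iff.1 ht).eq_bot_or_eq_top with hb | htp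
    · exact hDne hb
    · have : (P : Subgroup G) = ⊤ := top_le_iff.1 (htp ▸ inf_le_left)
      have := hc P
      rw [‹(P : Subgroup G) = ⊤›, Subgroup.card_top, h] at this
      omega
  have hn6 : 6 ≤ Nat.card (Sylow 5 M) := by
    have hne : Nat.card (Sylow 5 M) ≠ 1 := by
      intro h1'
      have := (Nat.card_eq_one_iff_unique.1 h1').1
      exact hPR (Sylow.subtype_injective (hP := hPM) (hQ := hRM) (Subsingleton.elim _ _))
    have hmod := card_sylow_modEq_one 5 M
    have hpos : 0 < Nat.card (Sylow 5 M) := Nat.card_pos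
    rw [Nat.ModEq] at hmod
    omega
  have h25 : 5 ^ 2 ∣ Nat.card M := hc P ▸ Subgroup.card_dvd_of_le hPM
  obtain ⟨t, ht⟩ := h25
  have ht6 : 6 ≤ t := by
    have := Nat.le_of_dvd (by
      rcases Nat.eq_zero_or_pos t with h0 | h0
      · rw [h0, mul_zero] at ht; exact absurd ht Nat.card_pos.ne'
      · exact h0) (CfsgLib.Perm.card_sylow_dvd_of_card_eq ht)
    omega
  have hmul := Subgroup.card_mul_index M
  rw [ht, h] at hmul
  apply hsmall M hMtop
  by_contra hlt
  push Not at hlt
  have : 5 ^ 2 * 6 * 10 ≤ 5 ^ 2 * t * M.index := Nat.mul_le_mul (by omega) (by omega)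
  omega

end Cfsg.Agent.S1015
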