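import Cfsg.Statements.S1016
import Cfsg.Agent.Lib.Perm.SylowFixed
import Mathlib.GroupTheory.PGroup
import Mathlib.Tactic

set_option autoImplicit false
open Cfsg

namespace Cfsg.Agent.S1016

/-- No finite simple group has order 1440 = 2^5 * 3^2 * 5. -/
theorem result {G : Type*} [Group G] [Finite G] [IsSimpleGroup G] : Nat.card G ≠ 1440 := by
  intro h
  classical
  have : Fact (Nat.Prime 5) := ⟨by norm_num⟩
  have : Fact (Nat.Prime 3) := ⟨Nat.prime_three⟩
  have : Fact (Nat.Prime 2) := ⟨Nat.prime_two⟩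
  have h' : Nat.card G = 5 ^ 1 * 288 := by rw [h]; norm_num
  have h3' : Nat.card G = 3 ^ 2 * 160 := by rw [h]; norm_num
  have hG : ¬ IsMulCommutative G := CfsgLib.Perm.not_comm_of_not_prime (by rw [h]; norm_num)
  have hne : ¬ IsPGroup 5 G :=
    CfsgLib.Perm.not_isPGroup_of_dvd Nat.prime_two (by norm_num) (by rw [h]; norm_num)
  obtain ⟨h1, h2, h3⟩ := CfsgLib.Perm.card_sylow_mem (q := 2) h' one_ne_zero Nat.prime_two
    (by norm_num) (by norm_num)
  have hall : ∀ R : Sylow 5 G, Nat.card (R : Subgroup G) = 5 := fun R => by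
    rw [CfsgLib.Perm.sylow_card_eq R h' (by norm_num), pow_one]
  have hall3 : ∀ R : Sylow 3 G, Nat.card (R : Subgroup G) = 3 ^ 2 := fun R =>
    CfsgLib.Perm.sylow_card_eq R h3' (by norm_num)
  -- no proper subgroup of small index
  have hbig : ∀ H : Subgroup G, H ≠ ⊤ → 8 ≤ H.index := by
    intro H hH
    by_contra hlt
    have h7 := CfsgLib.Perm.two_mul_card_dvd_factorial_of_index_le hG H hH (m := 7) (by omega)
    rw [h] at h7
    norm_num [Nat.factorial] at h7
  have hn : Nat.card (Sylow 5 G) = 6 ∨ Nat.card (Sylow 5 G) = 16 ∨ Nat.card (Sylow 5 G) = 36 ∨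
      Nat.card (Sylow 5 G) = 96 := by
    have hmem := Nat.mem_divisors.2 ⟨h1, by norm_num⟩
    rw [show (288 : ℕ).divisors = ({1, 2, 3, 4, 6, 8, 9, 12, 16, 18, 24, 32, 36, 48, 72, 96, 144, 288} : Finset ℕ) from by decide +kernel] at hmem
    simp only [Finset.mem_insert, Finset.mem_singleton] at hmem
    omega
  obtain ⟨P⟩ := (inferInstance : Nonempty (Sylow 5 G))
  have hN := CfsgLib.Perm.card_normalizer_mul_card_sylow P
  set N := Subgroup.normalizer ((P : Subgroup G) : Set G) with hNdef
  set C := Subgroup.centralizer ((P : Subgroup G) : Set G) with hCdef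
  have hCN : C ≤ N := Subgroup.centralizer_le_normalizer _
  have hPC : (P : Subgroup G) ≤ C := by
    have hcyc : IsCyclic (P : Subgroup G) := isCyclic_of_prime_card (hall P)
    intro x hx
    rw [hCdef, Subgroup.mem_centralizer_iff]
    intro y hy
    exact congrArg Subtype.val
      ((IsCyclic.commGroup (α := (P : Subgroup G))).mul_comm ⟨y, hy⟩ ⟨x, hx⟩)
  have hCcard : ∀ {a : ℕ}, Nat.card N = 5 * a → ∃ r, r ∣ a ∧ r ∣ 4 ∧ r ≠ 1 ∧ r * Nat.card C = 5 * a := by
    intro a ha
    refine ⟨C.relIndex N, CfsgLib.Perm.relIndex_centralizer_dvd_div _ (hall P) ha,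
      CfsgLib.Perm.relIndex_centralizer_dvd_sub_one _ (hall P), fun e => ?_, ?_⟩
    · rw [Subgroup.relIndex_eq_one] at e
      exact CfsgLib.Perm.not_normalizer_le_centralizer P (by rw [h]; norm_num) hne e
    · have h := Subgroup.index_mul_card (C.subgroupOf N)
      rw [Nat.card_congr (Subgroup.subgroupOfEquivOfLe hCN).toEquiv, ha] at h
      exact h
  rcases hn with hn | hn | hn | hn <;> rw [hn, h] at hN
  · have hidx : N.index = 6 := by
      have := Subgroup.card_mul_index N
      rw [h, show Nat.card N = 240 by omega] at this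
      omega
    have := hbig N (fun e => by rw [e, Subgroup.index_top] at hidx; omega)
    omega
  · -- the centraliser of `P` contains a Sylow 3-subgroup
    obtain ⟨r, hr1, hr2, hr3, hr⟩ := hCcard (a := 18) (by omega)
    have hr4 : r ≤ 4 := Nat.le_of_dvd (by norm_num) hr2
    have hC : Nat.card C = 45 := by interval_cases r <;> omega
    obtain ⟨R'⟩ := (inferInstance : Nonempty (Sylow 3 C))
    have hR' : Nat.card ((R' : Subgroup C).map C.subtype) = 3 ^ 2 := by
      rw [← Nat.card_congr ((R' : Subgroup C).equivMapOfInjective C.subtype C.subtype_injective).toEquiv]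
      exact CfsgLib.Perm.sylow_card_eq R' (m := 5) (by rw [hC]; norm_num) (by norm_num)
    let R₀ : Sylow 3 G := Sylow.ofCard ((R' : Subgroup C).map C.subtype) (by
      rw [hR', h]
      congr 1
      rw [show (1440 : ℕ) = 3 ^ 2 * 160 by norm_num, Nat.factorization_mul (by norm_num) (by norm_num), Finsupp.add_apply,
        Nat.Prime.factorization_pow Nat.prime_three, Finsupp.single_eq_same,
        Nat.factorization_eq_zero_of_not_dvd (by norm_num : ¬ 3 ∣ 160)])
    obtain ⟨y₀, hy₀⟩ := exists_prime_orderOf_dvd_card' (G := (P : Subgroup G)) 5 (by rw [hall])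
    have hy₀R : ∀ x ∈ (R₀ : Subgroup G), x * (y₀ : G) = (y₀ : G) * x := by
      rintro _ ⟨x, -, rfl⟩
      exact ((Subgroup.mem_centralizer_iff.1 x.2) y₀ y₀.2).symm
    -- every Sylow 3-subgroup is centralised by an element of order five
    have hcen : ∀ R : Sylow 3 G, ∃ y, orderOf y = 5 ∧ ∀ x ∈ (R : Subgroup G), x * y = y * x := by
      intro R
      obtain ⟨g, hg⟩ := MulAction.exists_smul_eq G R₀ R
      refine ⟨g * y₀ * g⁻¹, by rw [← MulAut.conj_apply, MulEquiv.orderOf_eq,
        Subgroup.orderOf_coe, hy₀], fun x hx => ?_⟩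
      rw [← hg, Sylow.coe_subgroup_smul, Subgroup.mem_smul_pointwise_iff_exists] at hx
      obtain ⟨w, hw, rfl⟩ := hx
      show g * w * g⁻¹ * (g * y₀ * g⁻¹) = g * y₀ * g⁻¹ * (g * w * g⁻¹)
      calc g * w * g⁻¹ * (g * y₀ * g⁻¹) = g * (w * y₀) * g⁻¹ := by group
        _ = g * (y₀ * w) * g⁻¹ := by rw [hy₀R w hw]
        _ = _ := by group
    obtain ⟨g1, g2, g3⟩ := CfsgLib.Perm.card_sylow_mem (p := 3) (q := 2) h3' (by norm_num) Nat.prime_two
      (by norm_num) (by norm_num)
    have hn3 : Nat.card (Sylow 3 G) = 4 ∨ Nat.card (Sylow 3 G) = 10 ∨ Nat.card (Sylow 3 G) = 16 ∨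
        Nat.card (Sylow 3 G) = 40 ∨ Nat.card (Sylow 3 G) = 160 := by
      have hmem := Nat.mem_divisors.2 ⟨g1, by norm_num⟩
      rw [show (160 : ℕ).divisors = ({1, 2, 4, 5, 8, 10, 16, 20, 32, 40, 80, 160} : Finset ℕ) from by decide +kernel] at hmem
      simp only [Finset.mem_insert, Finset.mem_singleton] at hmem
      omega
    have hN3 : 45 ∣ Nat.card (Subgroup.normalizer ((R₀ : Subgroup G) : Set G)) := by
      refine Nat.Coprime.mul_dvd_of_dvd_of_dvd (m := 9) (n := 5) (by norm_num) ?_ ?_
      · have := Subgroup.card_dvd_of_le (Subgroup.le_normalizer (H := (R₀ : Subgroup G)))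
        rwa [hall3] at this
      · have hy₀N : (y₀ : G) ∈ Subgroup.normalizer ((R₀ : Subgroup G) : Set G) :=
          Subgroup.centralizer_le_normalizer _ (Subgroup.mem_centralizer_iff.2 fun x hx => hy₀R x hx)
        have := Subgroup.orderOf_dvd_natCard _ hy₀N
        rwa [Subgroup.orderOf_coe, hy₀] at this
    have hne9 : ¬ Nat.card (Sylow 3 G) ≡ 1 [MOD 3 ^ 2] := by
      have := CfsgLib.Perm.card_normalizer_mul_card_sylow R₀
      rw [h] at this
      obtain ⟨j, hj⟩ := hN3
      rw [hj] at this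
      unfold Nat.ModEq
      rcases hn3 with e | e | e | e | e <;> rw [e] at this ⊢ <;> omega
    obtain ⟨R, S, d, hRS, hd, hdR, hdS⟩ := CfsgLib.Perm.exists_mem_two_sylows hall3 hne9
    set K := Subgroup.centralizer ({d} : Set G) with hKdef
    have hab : ∀ (T : Sylow 3 G), d ∈ (T : Subgroup G) → (T : Subgroup G) ≤ K := by
      intro T hdT x hx
      rw [hKdef, Subgroup.mem_centralizer_singleton_iff]
      exact congrArg Subtype.val (IsPGroup.commutative_of_card_eq_prime_sq (hall3 T) ⟨x, hx⟩ ⟨d, hdT⟩)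
    obtain ⟨y, hy, hyR⟩ := hcen R
    have hyK : y ∈ K := by
      rw [hKdef, Subgroup.mem_centralizer_singleton_iff]; exact (hyR d hdR).symm
    let R1 : Sylow 3 K := R.subtype (hab R hdR)
    have hn1 : 1 < Nat.card (Sylow 3 K) := Finite.one_lt_card_iff_nontrivial.2
      ⟨R1, S.subtype (hab S hdS), fun e => hRS (Sylow.subtype_injective e)⟩
    have hmod := card_sylow_modEq_one 3 K
    have hK45 : 45 ∣ Nat.card (Subgroup.normalizer ((R1 : Subgroup K) : Set K)) := by
      refine Nat.Coprime.mul_dvd_of_dvd_of_dvd (m := 9) (n := 5) (by norm_num) ?_ ?_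
      · have := Subgroup.card_dvd_of_le (Subgroup.le_normalizer (H := (R1 : Subgroup K)))
        rwa [show Nat.card (R1 : Subgroup K) = 9 from
          (Nat.card_congr (Subgroup.subgroupOfEquivOfLe (hab R hdR)).toEquiv).trans (hall3 R)] at this
      · have hyN : (⟨y, hyK⟩ : K) ∈ Subgroup.normalizer ((R1 : Subgroup K) : Set K) :=
          Subgroup.centralizer_le_normalizer _ (Subgroup.mem_centralizer_iff.2 fun x hx =>
            Subtype.ext (hyR (x : G) (show (x : G) ∈ (R : Subgroup G) from hx)))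
        have := Subgroup.orderOf_dvd_natCard _ hyN
        rwa [Subgroup.orderOf_mk, hy] at this
    have hKcard := CfsgLib.Perm.card_normalizer_mul_card_sylow R1
    have h180 : 180 ≤ Nat.card K := by
      obtain ⟨j, hj⟩ := hK45
      rw [← hKcard, hj]
      unfold Nat.ModEq at hmod
      have h4 : 4 ≤ Nat.card (Sylow 3 K) := by omega
      have hj0 : 0 < 45 * j := hj ▸ Nat.card_pos
      calc 180 = 45 * 4 := by norm_num
        _ ≤ 45 * j * Nat.card (Sylow 3 K) := Nat.mul_le_mul (by omega) h4
    have hKtop : K ≠ ⊤ := fun e => by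
      have hdc : d ∈ Subgroup.center G := by
        rw [Subgroup.mem_center_iff]
        intro g
        have hg : g ∈ K := e ▸ Subgroup.mem_top g
        exact Subgroup.mem_centralizer_singleton_iff.1 (hKdef ▸ hg)
      rcases (inferInstance : (Subgroup.center G).Normal).eq_bot_or_eq_top with hc | hc
      · rw [hc, Subgroup.mem_bot] at hdc
        rw [hdc, orderOf_one] at hd
        omega
      · exact hG ⟨⟨fun a b => (Subgroup.mem_center_iff.1 (hc ▸ Subgroup.mem_top b : b ∈ Subgroup.center G)) a⟩⟩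
    have hKi : K.index = 8 := by
      have := Subgroup.card_mul_index K
      rw [h] at this
      have := hbig K hKtop
      have : 180 * K.index ≤ 1440 := by
        calc 180 * K.index ≤ Nat.card K * K.index := Nat.mul_le_mul_right _ h180
          _ = 1440 := by omega
      omega
    obtain ⟨-, hdvd⟩ := CfsgLib.Perm.card_centralizer_dvd_of_small_index K hKtop (by omega) hy
    have h9 : 9 ∣ Nat.card (Subgroup.centralizer ({y} : Set G)) := by
      have hle : (R : Subgroup G) ≤ Subgroup.centralizer ({y} : Set G) := fun x hx => by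
        rw [Subgroup.mem_centralizer_singleton_iff]; exact hyR x hx
      have := Subgroup.card_dvd_of_le hle
      rwa [hall3] at this
    have h30 := h9.trans hdvd
    rw [hKi] at h30
    norm_num [Nat.factorial] at h30
  · obtain ⟨r, hr1, hr2, hr3, hr⟩ := hCcard (a := 8) (by omega)
    have hr4 : r ≤ 4 := Nat.le_of_dvd (by norm_num) hr2
    have hC : Nat.card C = 20 ∨ Nat.card C = 10 := by interval_cases r <;> omega
    have h2C : 2 ∣ Nat.card C := by omega
    obtain ⟨z, hz⟩ := exists_prime_orderOf_dvd_card' (G := C) 2 h2C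
    set z' : G := (z : G) with hz'def
    have hzo : orderOf z' = 2 := by rw [hz'def, Subgroup.orderOf_coe, hz]
    have hd5 : 5 ∣ Nat.card ↥(C ⊓ Subgroup.centralizer ({z'} : Set G)) := by
      refine hall P ▸ Subgroup.card_dvd_of_le (le_inf hPC fun x hx => ?_)
      rw [Subgroup.mem_centralizer_singleton_iff]
      exact (Subgroup.mem_centralizer_iff.1 z.2) x hx
    have hd2 : 2 ∣ Nat.card ↥(C ⊓ Subgroup.centralizer ({z'} : Set G)) := by
      have := Subgroup.orderOf_dvd_natCard (C ⊓ Subgroup.centralizer ({z'} : Set G)) (x := z')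
        ⟨z.2, Subgroup.mem_centralizer_singleton_iff.2 rfl⟩
      rwa [hzo] at this
    exact CfsgLib.Perm.false_of_involution_centralizing hG (by norm_num : (5 : ℕ) ≠ 2) P (hall P) hall hzo
      z.2 (b := 16) (c := 10)
      (fun F hF1 hF2 hF3 => by rw [hn] at hF1 hF3 ⊢; omega)
      (Nat.Coprime.mul_dvd_of_dvd_of_dvd (m := 5) (n := 2) (by norm_num) hd5 hd2)
      (fun m hm => by rw [h] at hm; omega)
  · exact CfsgLib.Perm.false_of_normalizer_coprime P (hall P) hne (a := 3)
      (by rw [← hNdef]; omega) (by norm_num)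

end Cfsg.Agent.S1016
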