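import Cfsg.Statements.S0421
import Cfsg.Agent.Lib.Blocks.Order95040.Recognize
import Cfsg.Agent.Lib.Sporadic.Simple

set_option autoImplicit false
open scoped Pointwise
open Cfsg

namespace Cfsg.Agent.S0421

/-- Simple groups of order 95040 are all isomorphic to the concrete Mathieu group of degree 12. -/
theorem result {G : Type*} [Group G] [Finite G] (hG : Cfsg.IsM12 G) (d : Finset Cfsg.GolayPt) (hd : d ∈ Cfsg.dodecads) : Nonempty (G ≃* ↥(MulAction.stabilizer Cfsg.M24 d)) := by
  have := hG.1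
  have := Fintype.ofFinite G
  have := CfsgLib.Sporadic.M12_isSimple hd
  have := Fintype.ofFinite ↥(MulAction.stabilizer Cfsg.M24 d)
  obtain ⟨e1⟩ := CfsgLib.Blocks.Order95040.nonempty_mulEquiv_std (G := G) hG.2
  obtain ⟨e2⟩ := CfsgLib.Blocks.Order95040.nonempty_mulEquiv_std
    (G := ↥(MulAction.stabilizer Cfsg.M24 d)) (CfsgLib.Sporadic.card_stab_dodecad hd)
  exact ⟨e1.trans e2.symm⟩

end Cfsg.Agent.S0421
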