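import Cfsg.Statements.S4966
-- import your own Cfsg.Agent.* helpers here

set_option autoImplicit false
open Cfsg

namespace Cfsg.Agent.S4966

section
variable {F : Type*} [Field F] {G : Type*} [Group G] {V : Type*} [AddCommGroup V] [Module F V]
  (ρ : Representation F G V)

/-- Invariant subspaces. -/
def Stable (U : Submodule F V) : Prop := ∀ g : G, ∀ u ∈ U, ρ g u ∈ U

/-- A form invariant on a subspace. -/
def InvOn (U : Submodule F V) (A : LinearMap.BilinForm F V) : Prop :=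
  ∀ g : G, ∀ x ∈ U, ∀ y ∈ U, A (ρ g x) (ρ g y) = A x y

/-- A subspace with an invariant nondegenerate alternating form. -/
def AltOn (U : Submodule F V) : Prop :=
  ∃ A : LinearMap.BilinForm F V, (∀ x, A x x = 0) ∧ InvOn ρ U A ∧
    ∀ x ∈ U, (∀ y ∈ U, A x y = 0) → x = 0

/-- A subspace with an invariant nondegenerate symmetric form. -/
def SymOn (p : ℕ) (U : Submodule F V) : Prop :=
  (∃ S : LinearMap.BilinForm F V, (∀ x y, S x y = S y x) ∧ InvOn ρ U S ∧
    ∀ x ∈ U, (∀ y ∈ U, S x y = 0) → x = 0) ∧ (p = 2 → ∀ g : G, ∀ w ∈ U, ρ g w = w)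

/-- The conclusion for a subspace. -/
def Good (p : ℕ) (X : Submodule F V) : Prop :=
  ∃ U W, Disjoint U W ∧ U ⊔ W = X ∧ Stable ρ U ∧ Stable ρ W ∧ AltOn ρ U ∧ SymOn ρ p W

theorem Stable.sup {U W : Submodule F V} (h : Stable ρ U) (k : Stable ρ W) : Stable ρ (U ⊔ W) := by
  intro g x hx
  obtain ⟨u, hu, w, hw, rfl⟩ := Submodule.mem_sup.mp hx
  rw [map_add]
  exact Submodule.add_mem_sup (h g u hu) (k g w hw)

theorem Stable.inf {U W : Submodule F V} (h : Stable ρ U) (k : Stable ρ W) : Stable ρ (U ⊓ W) :=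
  fun g x hx => ⟨h g x hx.1, k g x hx.2⟩

theorem stable_bot : Stable ρ ⊥ := fun g x hx => by simp [(Submodule.mem_bot F).mp hx]

theorem exists_proj {U U' : Submodule F V} (h : Disjoint U U') :
    ∃ P : V →ₗ[F] V, (∀ u ∈ U, P u = u) ∧ ∀ w ∈ U', P w = 0 := by
  obtain ⟨C, hC⟩ := Submodule.exists_isCompl (U ⊔ U')
  have h' : IsCompl U (U' ⊔ C) := IsCompl.of_eq (disjoint_iff.mp (h.disjoint_sup_right_of_disjoint_sup_left hC.disjoint))
    (by rw [← sup_assoc]; exact hC.sup_eq_top)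
  exact ⟨U.projection (U' ⊔ C) h', fun u hu => Submodule.projection_apply_left h' ⟨u, hu⟩,
    fun w hw => Submodule.projection_apply_right h' ⟨w, Submodule.mem_sup_left hw⟩⟩

theorem combine {U U' : Submodule F V} (h : Disjoint U U') (hU : Stable ρ U) (hU' : Stable ρ U')
    {A A' : LinearMap.BilinForm F V} (hA : InvOn ρ U A) (hA' : InvOn ρ U' A')
    (hn : ∀ x ∈ U, (∀ y ∈ U, A x y = 0) → x = 0) (hn' : ∀ x ∈ U', (∀ y ∈ U', A' x y = 0) → x = 0) :
    ∃ P Q : V →ₗ[F] V, InvOn ρ (U ⊔ U') (A.compl₁₂ P P + A'.compl₁₂ Q Q) ∧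
      ∀ x ∈ U ⊔ U', (∀ y ∈ U ⊔ U', (A.compl₁₂ P P + A'.compl₁₂ Q Q) x y = 0) → x = 0 := by
  obtain ⟨P, hP, hP'⟩ := exists_proj h
  obtain ⟨Q, hQ, hQ'⟩ := exists_proj h.symm
  refine ⟨P, Q, fun g x hx y hy => ?_, fun x hx hxy => ?_⟩
  · obtain ⟨u, hu, w, hw, rfl⟩ := Submodule.mem_sup.mp hx
    obtain ⟨u', hu', w', hw', rfl⟩ := Submodule.mem_sup.mp hy
    simp [hP _ hu, hP _ hu', hP' _ hw, hP' _ hw', hQ _ hw, hQ _ hw', hQ' _ hu, hQ' _ hu',
      hP _ (hU g u hu), hP _ (hU g u' hu'), hP' _ (hU' g w hw), hP' _ (hU' g w' hw'),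
      hQ _ (hU' g w hw), hQ _ (hU' g w' hw'), hQ' _ (hU g u hu), hQ' _ (hU g u' hu'),
      hA g u hu u' hu', hA' g w hw w' hw']
  · obtain ⟨u, hu, w, hw, rfl⟩ := Submodule.mem_sup.mp hx
    have h1 : u = 0 := hn u hu fun y hy => by
      have := hxy y (Submodule.mem_sup_left hy)
      simpa [hP _ hu, hP _ hy, hP' _ hw, hQ' _ hy] using this
    have h2 : w = 0 := hn' w hw fun y hy => by
      have := hxy y (Submodule.mem_sup_right hy)
      simpa [hQ _ hw, hQ _ hy, hQ' _ hu, hP' _ hy] using this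
    rw [h1, h2, add_zero]

theorem Good.sup {p : ℕ} {X Z : Submodule F V} (hd : Disjoint X Z) (hX : Good ρ p X)
    (hZ : Good ρ p Z) : Good ρ p (X ⊔ Z) := by
  obtain ⟨U, W, hUW, rfl, hU, hW, ⟨A, hA0, hA, hAn⟩, ⟨S, hS0, hS, hSn⟩, htr⟩ := hX
  obtain ⟨U', W', hUW', rfl, hU', hW', ⟨A', hA0', hA', hAn'⟩, ⟨S', hS0', hS', hSn'⟩, htr'⟩ := hZ
  have dU : Disjoint U U' := hd.mono le_sup_left le_sup_left
  have dW : Disjoint W W' := hd.mono le_sup_right le_sup_right
  refine ⟨U ⊔ U', W ⊔ W', ?_, sup_sup_sup_comm U U' W W', hU.sup ρ hU', hW.sup ρ hW', ?_, ?_, ?_⟩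
  · rw [Submodule.disjoint_def]
    intro x hx hy
    obtain ⟨u, hu, u', hu', rfl⟩ := Submodule.mem_sup.mp hx
    obtain ⟨w, hw, w', hw', he⟩ := Submodule.mem_sup.mp hy
    have h0 : u - w = w' - u' := by rw [sub_eq_sub_iff_add_eq_add, ← he]; abel
    have h1 : u - w = 0 := Submodule.disjoint_def.mp hd _
      (Submodule.sub_mem _ (Submodule.mem_sup_left hu) (Submodule.mem_sup_right hw))
      (h0 ▸ Submodule.sub_mem _ (Submodule.mem_sup_right hw') (Submodule.mem_sup_left hu'))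
    have h2 := Submodule.disjoint_def.mp hUW u hu (sub_eq_zero.mp h1 ▸ hw)
    have h3 := Submodule.disjoint_def.mp hUW' u' hu' (sub_eq_zero.mp (h0.symm.trans h1) ▸ hw')
    rw [h2, h3, add_zero]
  · obtain ⟨P, Q, h1, h2⟩ := combine ρ dU hU hU' hA hA' hAn hAn'
    exact ⟨_, fun x => by simp [hA0, hA0'], h1, h2⟩
  · obtain ⟨P, Q, h1, h2⟩ := combine ρ dW hW hW' hS hS' hSn hSn'
    exact ⟨_, fun x y => by simp [hS0 (P x), hS0' (Q x)], h1, h2⟩
  · intro h g x hx
    obtain ⟨a, ha, b, hb, rfl⟩ := Submodule.mem_sup.mp hx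
    rw [map_add, htr h g a ha, htr' h g b hb]

variable [FiniteDimensional F V] {B : LinearMap.BilinForm F V}

/-- Every functional on `K` comes from `T` when `T` separates `K`. -/
theorem exists_rep {K T : Submodule F V} (h : ∀ k ∈ K, (∀ t ∈ T, B t k = 0) → k = 0)
    (φ : V →ₗ[F] F) : ∃ t ∈ T, ∀ k ∈ K, B t k = φ k := by
  let f : T →ₗ[F] Module.Dual F K := B.compl₁₂ T.subtype K.subtype
  have hf : Function.Injective f.flip := fun a b hab => by
    refine Subtype.ext (sub_eq_zero.mp (h _ (K.sub_mem a.2 b.2) fun t ht => ?_))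
    have := LinearMap.congr_fun hab ⟨t, ht⟩
    rw [map_sub, sub_eq_zero]
    exact this
  have hs : Function.Surjective f := LinearMap.flip_injective_iff₁.mp hf
  obtain ⟨t, ht⟩ := hs (φ.comp K.subtype)
  exact ⟨t, t.2, fun k hk => LinearMap.congr_fun ht ⟨k, hk⟩⟩

variable (hinv : ∀ g : G, ∀ x y : V, B (ρ g x) (ρ g y) = B x y)
include hinv

theorem perp_stable {K : Submodule F V} (hK : Stable ρ K) {g : G} {y : V}
    (hy : ∀ k ∈ K, B k y = 0) : ∀ k ∈ K, B k (ρ g y) = 0 := fun k hk => by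
  rw [← hinv g⁻¹, ← Module.End.mul_apply (ρ g⁻¹) (ρ g), ← map_mul, inv_mul_cancel, map_one]
  exact hy _ (hK g⁻¹ k hk)

theorem perp_stable' {K : Submodule F V} (hK : Stable ρ K) {g : G} {y : V}
    (hy : ∀ k ∈ K, B y k = 0) : ∀ k ∈ K, B (ρ g y) k = 0 := fun k hk => by
  rw [← hinv g⁻¹, ← Module.End.mul_apply (ρ g⁻¹) (ρ g), ← map_mul, inv_mul_cancel, map_one]
  exact hy _ (hK g⁻¹ k hk)

/-- Nondegeneracy on both sides. -/
def ND (B : LinearMap.BilinForm F V) (X : Submodule F V) : Prop :=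
  (∀ y ∈ X, (∀ x ∈ X, B x y = 0) → y = 0) ∧ ∀ x ∈ X, (∀ y ∈ X, B x y = 0) → x = 0

omit hinv in
theorem ND.flip {X : Submodule F V} (h : ND B X) : ND B.flip X :=
  ⟨fun y hy h' => h.2 y hy h', fun x hx h' => h.1 x hx h'⟩

theorem split {K X : Submodule F V} (hKX : K ≤ X) (hK : Stable ρ K) (hX : Stable ρ X) (hKn : ND B K)
    (hXn : ND B X) : ∃ Z, Stable ρ Z ∧ Disjoint K Z ∧ K ⊔ Z = X ∧ ND B Z := by
  let Z : Submodule F V :=
    { carrier := {z | z ∈ X ∧ ∀ k ∈ K, B k z = 0}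
      add_mem' := fun ha hb => ⟨X.add_mem ha.1 hb.1, fun k hk => by simp [ha.2 k hk, hb.2 k hk]⟩
      zero_mem' := ⟨X.zero_mem, fun k _ => by simp⟩
      smul_mem' := fun c a ha => ⟨X.smul_mem c ha.1, fun k hk => by simp [ha.2 k hk]⟩ }
  have hdec : ∀ x ∈ X, ∃ k ∈ K, x - k ∈ Z := fun x hx => by
    obtain ⟨k, hk, hk'⟩ := exists_rep (B := B.flip) (K := K) (T := K) (fun a ha h' => hKn.2 a ha h')
      (B.flip x)
    exact ⟨k, hk, X.sub_mem hx (hKX hk), fun a ha => by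
      rw [map_sub, sub_eq_zero]
      exact (hk' a ha).symm⟩
  refine ⟨Z, fun g z hz => ⟨hX g z hz.1, perp_stable ρ hinv hK hz.2⟩, Submodule.disjoint_def.mpr
    fun k hk hk' => hKn.1 k hk hk'.2, le_antisymm (sup_le hKX fun z hz => hz.1) (fun x hx => ?_), ?_, ?_⟩
  · obtain ⟨k, hk, hz⟩ := hdec x hx
    exact Submodule.mem_sup.mpr ⟨k, hk, _, hz, add_sub_cancel k x⟩
  · intro y hy h
    refine hXn.1 y hy.1 fun x hx => ?_
    obtain ⟨k, hk, hz⟩ := hdec x hx
    have := h _ hz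
    rwa [map_sub, LinearMap.sub_apply, hy.2 k hk, sub_zero] at this
  · intro z hz h
    obtain ⟨k₀, hk₀, hk₀'⟩ := exists_rep (B := B) (K := K) (T := K) (fun a ha h' => hKn.1 a ha h') (B z)
    have h0 : z - k₀ = 0 := hXn.2 _ (X.sub_mem hz.1 (hKX hk₀)) fun y hy => by
      obtain ⟨k, hk, hz'⟩ := hdec y hy
      rw [← add_sub_cancel k y, map_add, map_sub B, LinearMap.sub_apply, LinearMap.sub_apply,
        hk₀' k hk, sub_self, zero_add, h _ hz', hz'.2 k₀ hk₀, sub_zero]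
    rw [sub_eq_zero] at h0
    subst h0
    exact hKn.1 z hk₀ hz.2

/-- A simple subspace that is nondegenerate. -/
theorem good_simple {p : ℕ} [CharP F p] {S : Submodule F V} (hS : Stable ρ S)
    (hsimp : ∀ K ≤ S, Stable ρ K → K = ⊥ ∨ K = S) (hSn : ND B S) : Good ρ p S := by
  have good_alt : ∀ A : LinearMap.BilinForm F V, (∀ x, A x x = 0) → InvOn ρ S A →
      (∀ x ∈ S, (∀ y ∈ S, A x y = 0) → x = 0) → Good ρ p S := fun A h0 h1 h2 =>
    ⟨S, ⊥, disjoint_bot_right, sup_bot_eq S, hS, stable_bot ρ, ⟨A, h0, h1, h2⟩,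
      ⟨0, fun _ _ => rfl, fun _ _ _ _ _ => rfl, fun x hx _ => (Submodule.mem_bot F).mp hx⟩,
      fun _ g w hw => by simp [(Submodule.mem_bot F).mp hw]⟩
  have good_sym : ∀ A : LinearMap.BilinForm F V, (∀ x y, A x y = A y x) → InvOn ρ S A →
      (∀ x ∈ S, (∀ y ∈ S, A x y = 0) → x = 0) → (p = 2 → ∀ g : G, ∀ w ∈ S, ρ g w = w) → Good ρ p S :=
    fun A h0 h1 h2 h3 =>
      ⟨⊥, S, disjoint_bot_left, bot_sup_eq S, stable_bot ρ, hS,
        ⟨0, fun _ => rfl, fun _ _ _ _ _ => rfl, fun x hx _ => (Submodule.mem_bot F).mp hx⟩,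
        ⟨A, h0, h1, h2⟩, h3⟩
  -- symmetric forms in characteristic two
  have two : p = 2 → ∀ A : LinearMap.BilinForm F V, (∀ x ∈ S, ∀ y ∈ S, A x y = A y x) →
      InvOn ρ S A → (∀ x ∈ S, A x x = 0) ∨ ∀ g : G, ∀ w ∈ S, ρ g w = w := by
    intro hp A hA hAi
    have h2 : ∀ a : F, a + a = 0 := fun a => by
      have : ((2 : ℕ) : F) = 0 := by subst hp; exact CharP.cast_eq_zero F 2
      rw [← two_mul]; simp_all
    let K : Submodule F V :=
      { carrier := {x | x ∈ S ∧ A x x = 0}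
        add_mem' := fun {a b} ha hb => ⟨S.add_mem ha.1 hb.1, by
          simp [ha.2, hb.2, hA b hb.1 a ha.1, h2]⟩
        zero_mem' := ⟨S.zero_mem, by simp⟩
        smul_mem' := fun c a ha => ⟨S.smul_mem c ha.1, by simp [ha.2]⟩ }
    rcases hsimp K (fun x hx => hx.1) fun g x hx => ⟨hS g x hx.1, by rw [hAi g x hx.1 x hx.1, hx.2]⟩
      with h | h
    · refine Or.inr fun g w hw => sub_eq_zero.mp ?_
      have hm : ρ g w - w ∈ K := ⟨S.sub_mem (hS g w hw) hw, by
        simp [hA w hw _ (hS g w hw), hAi g w hw w hw]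
        linear_combination h2 (A w w) - h2 (A (ρ g w) w)⟩
      rw [h] at hm
      exact (Submodule.mem_bot F).mp hm
    · exact Or.inl fun x hx => ((h ▸ hx : x ∈ K)).2
  have hnd : ∀ A : LinearMap.BilinForm F V, InvOn ρ S A → (∃ x ∈ S, ∃ y ∈ S, A x y ≠ 0) →
      ∀ x ∈ S, (∀ y ∈ S, A x y = 0) → x = 0 := by
    intro A hAi ⟨a, ha, b, hb, hab⟩
    let K : Submodule F V :=
      { carrier := {x | x ∈ S ∧ ∀ y ∈ S, A x y = 0}
        add_mem' := fun ha hb => ⟨S.add_mem ha.1 hb.1, fun y hy => by simp [ha.2 y hy, hb.2 y hy]⟩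
        zero_mem' := ⟨S.zero_mem, by simp⟩
        smul_mem' := fun c a ha => ⟨S.smul_mem c ha.1, fun y hy => by simp [ha.2 y hy]⟩ }
    rcases hsimp K (fun x hx => hx.1) fun g x hx => ⟨hS g x hx.1, fun y hy => by
        have h1 := hAi g x hx.1 _ (hS g⁻¹ y hy)
        rw [← Module.End.mul_apply (ρ g) (ρ g⁻¹), ← map_mul, mul_inv_cancel, map_one] at h1
        exact h1.trans (hx.2 _ (hS g⁻¹ y hy))⟩ with h | h
    · intro x hx hx'
      have : x ∈ K := ⟨hx, hx'⟩
      rwa [h, Submodule.mem_bot] at this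
    · exact absurd ((h ▸ ha : a ∈ K).2 b hb) hab
  have hBi : InvOn ρ S B := fun g x _ y _ => hinv g x y
  set C : LinearMap.BilinForm F V := B + B.flip with hC
  have hCs : ∀ x y, C x y = C y x := fun x y => by simp [hC, add_comm]
  have hCi : InvOn ρ S C := fun g x _ y _ => by simp [hC, hinv]
  by_cases hC0 : ∃ x ∈ S, ∃ y ∈ S, C x y ≠ 0
  · by_cases hp : p = 2
    · refine good_alt C (fun x => ?_) hCi (hnd C hCi hC0)
      have : ((2 : ℕ) : F) = 0 := by subst hp; exact CharP.cast_eq_zero F 2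
      show B x x + B x x = 0
      rw [← two_mul]; simp_all
    · exact good_sym C hCs hCi (hnd C hCi hC0) fun h => absurd h hp
  · push Not at hC0
    -- `B` is antisymmetric on `S`
    have hanti : ∀ x ∈ S, ∀ y ∈ S, B y x = - B x y := fun x hx y hy => by
      have := hC0 x hx y hy
      simp [hC] at this
      linear_combination this
    obtain ⟨P, hP, -⟩ := exists_proj (disjoint_bot_right (a := S))
    obtain ⟨P', hP', hP''⟩ : ∃ P' : V →ₗ[F] V, (∀ u ∈ S, P' u = u) ∧ ∀ x, P' x ∈ S := by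
      obtain ⟨T, hT⟩ := Submodule.exists_isCompl S
      exact ⟨S.projection T hT, fun u hu => Submodule.projection_apply_left hT ⟨u, hu⟩,
        fun x => Submodule.projection_apply_mem hT x⟩
    set A : LinearMap.BilinForm F V := B.compl₁₂ P' P'
    have hAv : ∀ x ∈ S, ∀ y ∈ S, A x y = B x y := fun x hx y hy => by simp [A, hP' x hx, hP' y hy]
    have hAi : InvOn ρ S A := fun g x hx y hy => by
      rw [hAv _ (hS g x hx) _ (hS g y hy), hAv x hx y hy, hinv]
    have hAn : ∀ x ∈ S, (∀ y ∈ S, A x y = 0) → x = 0 := fun x hx h =>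
      hSn.2 x hx fun y hy => (hAv x hx y hy).symm.trans (h y hy)
    by_cases hp : p = 2
    · have hsym : ∀ x y, A x y = A y x := fun x y => by
        show B (P' x) (P' y) = B (P' y) (P' x)
        rw [hanti _ (hP'' x) _ (hP'' y)]
        subst hp
        exact (CharTwo.neg_eq _).symm
      rcases two hp A (fun x _ y _ => hsym x y) hAi with h | h
      · refine good_alt A (fun x => ?_) hAi hAn
        have := h (P' x) (hP'' x)
        rwa [hAv _ (hP'' x) _ (hP'' x)] at this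
      · exact good_sym A hsym hAi hAn fun _ => h
    · refine good_alt A (fun x => ?_) hAi hAn
      have h1 : A x x + A x x = 0 := by
        show B (P' x) (P' x) + B (P' x) (P' x) = 0
        linear_combination hanti (P' x) (hP'' x) (P' x) (hP'' x)
      rw [← two_mul] at h1
      refine (mul_eq_zero.mp h1).resolve_left fun h2 => ?_
      have h3 : ((2 : ℕ) : F) = 0 := by exact_mod_cast h2
      rw [CharP.cast_eq_zero_iff F p, Nat.dvd_prime Nat.prime_two] at h3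
      rcases h3 with h3 | h3
      · exact CharP.ringChar_ne_one (R := F) (by rw [ringChar.eq F p, h3])
      · exact hp h3

variable [Finite G] (hcop : (Nat.card G : F) ≠ 0)
include hcop

omit hinv [FiniteDimensional F V] in
/-- Maschke. -/
theorem exists_compl {K : Submodule F V} (hK : Stable ρ K) :
    ∃ Q, Stable ρ Q ∧ Disjoint K Q ∧ K ⊔ Q = ⊤ := by
  have := Fintype.ofFinite G
  obtain ⟨T, hT⟩ := Submodule.exists_isCompl K
  let P : V →ₗ[F] V := (Nat.card G : F)⁻¹ • ∑ g : G, ρ g ∘ₗ K.projection T hT ∘ₗ ρ g⁻¹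
  have hPK : ∀ x, P x ∈ K := fun x => by
    simp only [P, LinearMap.smul_apply, LinearMap.sum_apply]
    exact K.smul_mem _ (K.sum_mem fun g _ => hK g _ (by simp))
  have hPid : ∀ k ∈ K, P k = k := fun k hk => by
    simp only [P, LinearMap.smul_apply, LinearMap.sum_apply]
    rw [Finset.sum_congr rfl (g := fun _ => k) fun g _ => by
      show ρ g (K.projection T hT (ρ g⁻¹ k)) = k
      rw [Submodule.projection_apply_left hT ⟨_, hK g⁻¹ k hk⟩, ← Module.End.mul_apply, ← map_mul,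
        mul_inv_cancel, map_one]
      rfl, Finset.sum_const, Finset.card_univ,
      ← Nat.card_eq_fintype_card, ← Nat.cast_smul_eq_nsmul F, smul_smul, inv_mul_cancel₀ hcop, one_smul]
  have hcomm : ∀ (h : G) x, P (ρ h x) = ρ h (P x) := fun h x => by
    simp only [P, LinearMap.smul_apply, LinearMap.sum_apply, map_smul, map_sum]
    congr 1
    refine Fintype.sum_equiv (Equiv.mulLeft h⁻¹) _ _ fun g => ?_
    show ρ g (K.projection T hT (ρ g⁻¹ (ρ h x))) = ρ h (ρ (h⁻¹ * g) (K.projection T hT (ρ (h⁻¹ * g)⁻¹ x)))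
    simp only [mul_inv_rev, inv_inv, map_mul, Module.End.mul_apply]
    rw [← Module.End.mul_apply (ρ h) (ρ h⁻¹), ← map_mul, mul_inv_cancel, map_one, Module.End.one_apply]
  refine ⟨LinearMap.ker P, fun g x hx => by simp [hcomm, LinearMap.mem_ker.mp hx],
    Submodule.disjoint_def.mpr fun x hx hx' => (hPid x hx).symm.trans hx', eq_top_iff.mpr fun x _ => ?_⟩
  exact Submodule.mem_sup.mpr ⟨P x, hPK x, x - P x, by simp [hPid _ (hPK x)], add_sub_cancel _ _⟩

omit hinv [FiniteDimensional F V] in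
theorem exists_compl_in {K X : Submodule F V} (hK : Stable ρ K) (hX : Stable ρ X) (hKX : K ≤ X) :
    ∃ Q ≤ X, Stable ρ Q ∧ Disjoint K Q ∧ K ⊔ Q = X := by
  obtain ⟨Q, hQ, hd, hs⟩ := exists_compl ρ hcop hK
  exact ⟨Q ⊓ X, inf_le_right, hQ.inf ρ hX, hd.mono_right inf_le_left, by
    rw [← sup_inf_assoc_of_le Q hKX, hs, top_inf_eq]⟩

theorem good {p : ℕ} [CharP F p] : ∀ X : Submodule F V, Stable ρ X → ND B X → Good ρ p X := by
  classical
  intro X
  induction hd : Module.finrank F X using Nat.strong_induction_on generalizing X with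
  | _ n ih =>
  intro hX hXn
  subst hd
  by_cases hX0 : X = ⊥
  · subst hX0
    exact ⟨⊥, ⊥, disjoint_bot_left, bot_sup_eq _, stable_bot ρ, stable_bot ρ,
      ⟨0, fun _ => rfl, fun _ _ _ _ _ => rfl, fun x hx _ => (Submodule.mem_bot F).mp hx⟩,
      ⟨0, fun _ _ => rfl, fun _ _ _ _ _ => rfl, fun x hx _ => (Submodule.mem_bot F).mp hx⟩,
      fun _ g w hw => by simp [(Submodule.mem_bot F).mp hw]⟩
  -- a minimal invariant subspace
  obtain ⟨S, ⟨hSX, hS, hS0⟩, hmin⟩ := (InvImage.wf (fun K : Submodule F V => Module.finrank F K) wellFounded_lt).has_min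
    {K | K ≤ X ∧ Stable ρ K ∧ K ≠ ⊥} ⟨X, le_rfl, hX, hX0⟩
  have hsimp : ∀ K ≤ S, Stable ρ K → K = ⊥ ∨ K = S := fun K hK hK' => by
    by_contra! h
    exact hmin K ⟨hK.trans hSX, hK', h.1⟩ (Submodule.finrank_lt_finrank_of_lt (lt_of_le_of_ne hK h.2))
  have step : ∀ K ≤ X, Stable ρ K → K ≠ ⊥ → ND B K → Good ρ p K → Good ρ p X := by
    intro K hKX hK hK0 hKn hg
    obtain ⟨Z, hZ, hdKZ, hs, hZn⟩ := split ρ hinv hKX hK hX hKn hXn
    have hlt : Module.finrank F Z < Module.finrank F X := Submodule.finrank_lt_finrank_of_lt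
      (lt_of_le_of_ne (hs ▸ le_sup_right) fun e => hK0 (hdKZ.eq_bot_of_le (e ▸ hs ▸ le_sup_left)))
    exact hs ▸ hg.sup ρ hdKZ (ih _ hlt Z rfl hZ hZn)
  by_cases hB0 : ∃ a ∈ S, ∃ b ∈ S, B a b ≠ 0
  · obtain ⟨a, ha, b, hb, hab⟩ := hB0
    have hSn : ND B S := by
      constructor
      · let K : Submodule F V :=
          { carrier := {y | y ∈ S ∧ ∀ x ∈ S, B x y = 0}
            add_mem' := fun ha hb => ⟨S.add_mem ha.1 hb.1, fun y hy => by simp [ha.2 y hy, hb.2 y hy]⟩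
            zero_mem' := ⟨S.zero_mem, by simp⟩
            smul_mem' := fun c a ha => ⟨S.smul_mem c ha.1, fun y hy => by simp [ha.2 y hy]⟩ }
        intro y hy h
        rcases hsimp K (fun x hx => hx.1) (fun g x hx => ⟨hS g x hx.1, perp_stable ρ hinv hS hx.2⟩)
          with e | e
        · exact (Submodule.mem_bot F).mp (e ▸ (⟨hy, h⟩ : y ∈ K))
        · exact absurd ((e ▸ hb : b ∈ K).2 a ha) hab
      · let K : Submodule F V :=
          { carrier := {y | y ∈ S ∧ ∀ x ∈ S, B y x = 0}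
            add_mem' := fun ha hb => ⟨S.add_mem ha.1 hb.1, fun y hy => by simp [ha.2 y hy, hb.2 y hy]⟩
            zero_mem' := ⟨S.zero_mem, by simp⟩
            smul_mem' := fun c a ha => ⟨S.smul_mem c ha.1, fun y hy => by simp [ha.2 y hy]⟩ }
        intro y hy h
        rcases hsimp K (fun x hx => hx.1) (fun g x hx => ⟨hS g x hx.1, perp_stable' ρ hinv hS hx.2⟩)
          with e | e
        · exact (Submodule.mem_bot F).mp (e ▸ (⟨hy, h⟩ : y ∈ K))
        · exact absurd ((e ▸ ha : a ∈ K).2 b hb) hab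
    exact step S hSX hS hS0 hSn (good_simple ρ hinv hS hsimp hSn)
  push Not at hB0
  let R : Submodule F V :=
    { carrier := {y | y ∈ X ∧ ∀ s ∈ S, B s y = 0}
      add_mem' := fun ha hb => ⟨X.add_mem ha.1 hb.1, fun y hy => by simp [ha.2 y hy, hb.2 y hy]⟩
      zero_mem' := ⟨X.zero_mem, by simp⟩
      smul_mem' := fun c a ha => ⟨X.smul_mem c ha.1, fun y hy => by simp [ha.2 y hy]⟩ }
  let L : Submodule F V :=
    { carrier := {y | y ∈ X ∧ ∀ s ∈ S, B y s = 0}
      add_mem' := fun ha hb => ⟨X.add_mem ha.1 hb.1, fun y hy => by simp [ha.2 y hy, hb.2 y hy]⟩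
      zero_mem' := ⟨X.zero_mem, by simp⟩
      smul_mem' := fun c a ha => ⟨X.smul_mem c ha.1, fun y hy => by simp [ha.2 y hy]⟩ }
  have hR : Stable ρ R := fun g x hx => ⟨hX g x hx.1, perp_stable ρ hinv hS hx.2⟩
  have hL : Stable ρ L := fun g x hx => ⟨hX g x hx.1, perp_stable' ρ hinv hS hx.2⟩
  -- a complement to both perpendiculars
  have hneR : ¬ X ≤ R := fun h => hS0 (eq_bot_iff.mpr fun s hs =>
    (Submodule.mem_bot F).mpr (hXn.2 s (hSX hs) fun y hy => (h hy).2 s hs))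
  have hneL : ¬ X ≤ L := fun h => hS0 (eq_bot_iff.mpr fun s hs =>
    (Submodule.mem_bot F).mpr (hXn.1 s (hSX hs) fun y hy => (h hy).2 s hs))
  obtain ⟨T, hTX, hT, hT0, hTR, hTL⟩ : ∃ T ≤ X, Stable ρ T ∧ T ≠ ⊥ ∧ Disjoint R T ∧ Disjoint L T := by
    obtain ⟨C, hCX, hC, hdC, hsC⟩ := exists_compl_in ρ hcop hR hX fun x hx => hx.1
    obtain ⟨D, hDX, hD, hdD, hsD⟩ := exists_compl_in ρ hcop hL hX fun x hx => hx.1
    by_cases hCL : Disjoint L C
    · exact ⟨C, hCX, hC, fun e => hneR (by rw [← hsC, e, sup_bot_eq]), hdC, hCL⟩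
    by_cases hDR : Disjoint R D
    · exact ⟨D, hDX, hD, fun e => hneL (by rw [← hsD, e, sup_bot_eq]), hDR, hdD⟩
    obtain ⟨l, hlL, hlC, hl0⟩ : ∃ l, l ∈ L ∧ l ∈ C ∧ l ≠ 0 := by
      rw [Submodule.disjoint_def] at hCL; push Not at hCL; exact hCL
    obtain ⟨r₀, hr₀R, hr₀D, hr₀0⟩ : ∃ l, l ∈ R ∧ l ∈ D ∧ l ≠ 0 := by
      rw [Submodule.disjoint_def] at hDR; push Not at hDR; exact hDR
    -- `R ⊓ D` separates `S`
    have hsep : ∀ s ∈ S, (∀ t ∈ R ⊓ D, B t s = 0) → s = 0 := by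
      let K : Submodule F V :=
        { carrier := {s | s ∈ S ∧ ∀ t ∈ R ⊓ D, B t s = 0}
          add_mem' := fun ha hb => ⟨S.add_mem ha.1 hb.1, fun y hy => by simp [ha.2 y hy, hb.2 y hy]⟩
          zero_mem' := ⟨S.zero_mem, by simp⟩
          smul_mem' := fun c a ha => ⟨S.smul_mem c ha.1, fun y hy => by simp [ha.2 y hy]⟩ }
      intro s hs h
      rcases hsimp K (fun x hx => hx.1)
        (fun g x hx => ⟨hS g x hx.1, perp_stable ρ hinv (hR.inf ρ hD) hx.2⟩) with e | e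
      · exact (Submodule.mem_bot F).mp (e ▸ (⟨hs, h⟩ : s ∈ K))
      · refine absurd (Submodule.disjoint_def.mp hdD r₀ ⟨hr₀R.1, fun s hs => ?_⟩ hr₀D) hr₀0
        exact (e ▸ hs : s ∈ K).2 r₀ ⟨hr₀R, hr₀D⟩
    obtain ⟨r, hr, hr'⟩ := exists_rep hsep (B.flip l)
    let T : Submodule F V :=
      { carrier := {x | x ∈ (L ⊓ C) ⊔ (R ⊓ D) ∧ ∀ s ∈ S, B s x = B x s}
        add_mem' := fun ha hb => ⟨Submodule.add_mem _ ha.1 hb.1, fun y hy => by simp [ha.2 y hy, hb.2 y hy]⟩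
        zero_mem' := ⟨Submodule.zero_mem _, by simp⟩
        smul_mem' := fun c a ha => ⟨Submodule.smul_mem _ c ha.1, fun y hy => by simp [ha.2 y hy]⟩ }
    have key : ∀ x ∈ T, ((∀ s ∈ S, B s x = 0) → x = 0) := by
      intro x hx h
      obtain ⟨a, ha, b, hb, rfl⟩ := Submodule.mem_sup.mp hx.1
      have h1 : a = 0 := Submodule.disjoint_def.mp hdC a ⟨ha.1.1, fun s hs => by
        have := h s hs
        rwa [map_add, hb.1.2 s hs, add_zero] at this⟩ ha.2
      have h2 : b = 0 := Submodule.disjoint_def.mp hdD b ⟨hb.1.1, fun s hs => by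
        have := (hx.2 s hs).symm.trans (h s hs)
        rwa [map_add, LinearMap.add_apply, ha.1.2 s hs, zero_add] at this⟩ hb.2
      rw [h1, h2, add_zero]
    refine ⟨T, fun x hx => ?_, fun g x hx => ⟨((hL.inf ρ hC).sup ρ (hR.inf ρ hD)) g x hx.1,
        fun s hs => ?_⟩, fun e => ?_, Submodule.disjoint_def.mpr fun x hxR hx => key x hx hxR.2,
      Submodule.disjoint_def.mpr fun x hxL hx => key x hx fun s hs => (hx.2 s hs).trans (hxL.2 s hs)⟩
    · exact (sup_le (inf_le_right.trans hCX) (inf_le_right.trans hDX)) hx.1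
    · rw [← hinv g⁻¹, ← hinv g⁻¹ (ρ g x), ← Module.End.mul_apply (ρ g⁻¹) (ρ g), ← map_mul,
        inv_mul_cancel, map_one]
      exact hx.2 _ (hS g⁻¹ s hs)
    · have hm : l + r ∈ T := ⟨Submodule.add_mem_sup ⟨hlL, hlC⟩ hr, fun s hs => by
        rw [map_add, hr.1.2 s hs, add_zero, map_add, LinearMap.add_apply, hlL.2 s hs, zero_add, hr' s hs]
        rfl⟩
      rw [e, Submodule.mem_bot] at hm
      refine hl0 (Submodule.disjoint_def.mp hdC l ⟨hlL.1, fun s hs => ?_⟩ hlC)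
      rw [eq_neg_of_add_eq_zero_left hm, map_neg, hr.1.2 s hs, neg_zero]
  -- `S` and `T` pair
  have hpair : ∀ t ∈ T, ((∀ s ∈ S, B s t = 0) → t = 0) ∧ ((∀ s ∈ S, B t s = 0) → t = 0) := fun t ht =>
    ⟨fun h => Submodule.disjoint_def.mp hTR t ⟨hTX ht, h⟩ ht,
      fun h => Submodule.disjoint_def.mp hTL t ⟨hTX ht, h⟩ ht⟩
  have hpairS : ∀ s ∈ S, ((∀ t ∈ T, B s t = 0) → s = 0) ∧ ((∀ t ∈ T, B t s = 0) → s = 0) := by
    obtain ⟨t₀, ht₀, ht₀0⟩ := Submodule.exists_mem_ne_zero_of_ne_bot hT0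
    refine fun s hs => ⟨fun h => ?_, fun h => ?_⟩
    · let K : Submodule F V :=
        { carrier := {s | s ∈ S ∧ ∀ t ∈ T, B s t = 0}
          add_mem' := fun ha hb => ⟨S.add_mem ha.1 hb.1, fun y hy => by simp [ha.2 y hy, hb.2 y hy]⟩
          zero_mem' := ⟨S.zero_mem, by simp⟩
          smul_mem' := fun c a ha => ⟨S.smul_mem c ha.1, fun y hy => by simp [ha.2 y hy]⟩ }
      rcases hsimp K (fun x hx => hx.1) (fun g x hx => ⟨hS g x hx.1, perp_stable' ρ hinv hT hx.2⟩)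
        with e | e
      · exact (Submodule.mem_bot F).mp (e ▸ (⟨hs, h⟩ : s ∈ K))
      · exact absurd ((hpair t₀ ht₀).1 fun s hs => (e ▸ hs : s ∈ K).2 t₀ ht₀) ht₀0
    · let K : Submodule F V :=
        { carrier := {s | s ∈ S ∧ ∀ t ∈ T, B t s = 0}
          add_mem' := fun ha hb => ⟨S.add_mem ha.1 hb.1, fun y hy => by simp [ha.2 y hy, hb.2 y hy]⟩
          zero_mem' := ⟨S.zero_mem, by simp⟩
          smul_mem' := fun c a ha => ⟨S.smul_mem c ha.1, fun y hy => by simp [ha.2 y hy]⟩ }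
      rcases hsimp K (fun x hx => hx.1) (fun g x hx => ⟨hS g x hx.1, perp_stable ρ hinv hT hx.2⟩)
        with e | e
      · exact (Submodule.mem_bot F).mp (e ▸ (⟨hs, h⟩ : s ∈ K))
      · exact absurd ((hpair t₀ ht₀).2 fun s hs => (e ▸ hs : s ∈ K).2 t₀ ht₀) ht₀0
  have hSR : S ≤ R := fun s hs => ⟨hSX hs, fun a ha => hB0 a ha s hs⟩
  have hdST : Disjoint S T := hTR.mono_left hSR
  have hU : Stable ρ (S ⊔ T) := hS.sup ρ hT
  have hUn : ND B (S ⊔ T) := by
    constructor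
    · intro y hy h
      obtain ⟨s, hs, t, ht, rfl⟩ := Submodule.mem_sup.mp hy
      have ht0 : t = 0 := (hpair t ht).1 fun a ha => by
        have := h a (Submodule.mem_sup_left ha)
        rwa [map_add, hB0 a ha s hs, zero_add] at this
      subst ht0
      rw [add_zero] at h ⊢
      exact (hpairS s hs).2 fun a ha => h a (Submodule.mem_sup_right ha)
    · intro y hy h
      obtain ⟨s, hs, t, ht, rfl⟩ := Submodule.mem_sup.mp hy
      have ht0 : t = 0 := (hpair t ht).2 fun a ha => by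
        have := h a (Submodule.mem_sup_left ha)
        rwa [map_add, LinearMap.add_apply, hB0 s hs a ha, zero_add] at this
      subst ht0
      rw [add_zero] at h ⊢
      exact (hpairS s hs).1 fun a ha => h a (Submodule.mem_sup_right ha)
  obtain ⟨P, hP, hP'⟩ := exists_proj hdST
  obtain ⟨Q, hQ, hQ'⟩ := exists_proj hdST.symm
  let A : LinearMap.BilinForm F V := B.compl₁₂ P Q - (B.compl₁₂ P Q).flip
  refine step (S ⊔ T) (sup_le hSX hTX) hU (fun e => hS0 (eq_bot_iff.mpr (e ▸ le_sup_left))) hUn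
    ⟨S ⊔ T, ⊥, disjoint_bot_right, sup_bot_eq _, hU, stable_bot ρ, ⟨A, fun x => by simp [A], ?_, ?_⟩,
      ⟨0, fun _ _ => rfl, fun _ _ _ _ _ => rfl, fun x hx _ => (Submodule.mem_bot F).mp hx⟩,
      fun _ g w hw => by simp [(Submodule.mem_bot F).mp hw]⟩
  · intro g x hx y hy
    obtain ⟨s, hs, t, ht, rfl⟩ := Submodule.mem_sup.mp hx
    obtain ⟨s', hs', t', ht', rfl⟩ := Submodule.mem_sup.mp hy
    simp [A, hP _ hs, hP _ hs', hP' _ ht, hP' _ ht', hQ _ ht, hQ _ ht', hQ' _ hs, hQ' _ hs',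
      hP _ (hS g s hs), hP _ (hS g s' hs'), hP' _ (hT g t ht), hP' _ (hT g t' ht'),
      hQ _ (hT g t ht), hQ _ (hT g t' ht'), hQ' _ (hS g s hs), hQ' _ (hS g s' hs'), hinv]
  · intro x hx h
    obtain ⟨s, hs, t, ht, rfl⟩ := Submodule.mem_sup.mp hx
    have ht0 : t = 0 := (hpair t ht).1 fun a ha => by
      have := h a (Submodule.mem_sup_left ha)
      simpa [A, hP _ hs, hP _ ha, hP' _ ht, hQ _ ht, hQ' _ hs, hQ' _ ha] using this
    have hs0 : s = 0 := (hpairS s hs).1 fun a ha => by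
      have := h a (Submodule.mem_sup_right ha)
      simpa [A, hP _ hs, hP' _ ht, hP' _ ha, hQ _ ht, hQ _ ha, hQ' _ hs] using this
    rw [hs0, ht0, add_zero]

end

/-- Let F be a finite field of characteristic p, G a finite group of order prime to p, and V a finite-dimensional representation of G over F carrying a nondegenerate G-invariant bilinear form (equivalently, V is self-dual). Then V is the direct sum of two G-invariant subspaces U and W such that U carries a G-invariant alternating bilinear form that is nondegenerate on U and W carries a G-invariant symmetric bilinear form that is nondegenerate on W; moreover when p = 2 the decomposition can be chosen with G acting trivially on W. -/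
theorem result {F : Type*} [Field F] [Fintype F] (p : ℕ) [Fact p.Prime] [CharP F p] {G : Type*} [Group G] [Finite G] (hcop : ¬ p ∣ Nat.card G) {V : Type*} [AddCommGroup V] [Module F V] [FiniteDimensional F V] (ρ : Representation F G V) (B : LinearMap.BilinForm F V) (hB : B.Nondegenerate) (hBinv : ∀ g : G, ∀ x y : V, B (ρ g x) (ρ g y) = B x y) : ∃ U W : Submodule F V, IsCompl U W ∧ (∀ g : G, ∀ u ∈ U, ρ g u ∈ U) ∧ (∀ g : G, ∀ w ∈ W, ρ g w ∈ W) ∧ (∃ A : LinearMap.BilinForm F V, (∀ x : V, A x x = 0) ∧ (∀ g : G, ∀ x ∈ U, ∀ y ∈ U, A (ρ g x) (ρ g y) = A x y) ∧ (∀ x ∈ U, (∀ y ∈ U, A x y = 0) → x = 0)) ∧ (∃ S : LinearMap.BilinForm F V, (∀ x y : V, S x y = S y x) ∧ (∀ g : G, ∀ x ∈ W, ∀ y ∈ W, S (ρ g x) (ρ g y) = S x y) ∧ (∀ x ∈ W, (∀ y ∈ W, S x y = 0) → x = 0)) ∧ (p = 2 → ∀ g : G, ∀ w ∈ W, ρ g w = w) := by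
  have hn : (Nat.card G : F) ≠ 0 := fun h => hcop ((CharP.cast_eq_zero_iff F p _).mp h)
  obtain ⟨U, W, hd, hs, hU, hW, hA, hS, htr⟩ := good ρ hBinv hn (p := p) ⊤
    (fun _ _ _ => Submodule.mem_top)
    ⟨fun y _ h => hB.2 y fun x => h x Submodule.mem_top, fun x _ h => hB.1 x fun y => h y Submodule.mem_top⟩
  exact ⟨U, W, ⟨hd, codisjoint_iff.mpr hs⟩, hU, hW, hA, hS, htr⟩

end Cfsg.Agent.S4966
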