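import Cfsg.Statements.S4456
import Cfsg.Agent.Lib.Char.PResidualDegree

set_option autoImplicit false
open Cfsg

namespace Cfsg.Agent.S4456

/-- Let p be a prime and G a finite group such that p divides the degree of every irreducible character of G of degree greater than one. Then G has a normal p-complement: a normal subgroup of order prime to p whose index is a power of p. -/
theorem result {G : Type*} [Group G] [Finite G] (p : ℕ) (hp : p.Prime) (hdeg : ∀ χ : Cfsg.IrrCharacter G, Cfsg.charDegree (χ : G → ℂ) ≠ 1 → p ∣ Cfsg.charDegree (χ : G → ℂ)) : ∃ N : Subgroup G, N.Normal ∧ (Nat.card N).Coprime p ∧ ∃ k : ℕ, N.index = p ^ k := by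
  classical
  have := Fintype.ofFinite G
  have := Fintype.ofFinite (Cfsg.IrrCharacter G)
  have : Fact p.Prime := ⟨hp⟩
  have hcong := CfsgLib.CharExt.card_pResidual_modEq (G := G) p hp
  refine ⟨Cfsg.pResidual p G, CfsgLib.Transfer.pResidual_normal, ?_,
    CfsgLib.Transfer.exists_index_pResidual⟩
  refine (hp.coprime_iff_not_dvd.mpr fun hK => ?_).symm
  -- a linear character is its own determinant
  have hdet : ∀ l : G →* ℂˣ, Cfsg.detOrder (fun g => (l g : ℂ)) = orderOf l := by
    intro l
    have hc : (CfsgLib.CharExt.twistRep (1 : Representation ℂ G ℂ) l).character =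
        fun g => (l g : ℂ) := by
      rw [CfsgLib.CharExt.character_twistRep]
      funext g
      simp [Representation.character]
    rw [← hc, CfsgLib.CharExt.detOrder_eq, CfsgLib.CharExt.detHom_twistRep]
    congr 1
    refine MonoidHom.ext fun g => Units.ext ?_
    simp [CfsgLib.CharExt.detHom_apply]
  -- the linear characters of order prime to `p`
  let S : Subgroup (G →* ℂˣ) :=
    { carrier := {l | ¬ p ∣ orderOf l}
      one_mem' := by simpa using hp.ne_one
      mul_mem' := fun {a b} ha hb h => by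
        rcases hp.dvd_mul.mp (h.trans ((Commute.all a b).orderOf_mul_dvd_mul_orderOf)) with h1 | h1
        · exact ha h1
        · exact hb h1
      inv_mem' := fun {a} ha => by
        refine fun h => ha (h.trans (orderOf_dvd_of_pow_eq_one (MonoidHom.ext fun g => ?_)))
        rw [MonoidHom.pow_apply, MonoidHom.inv_apply, inv_pow, ← MonoidHom.pow_apply,
          pow_orderOf_eq_one, MonoidHom.one_apply, inv_one] }
  let toIrr : S → Cfsg.IrrCharacter G := fun l =>
    ⟨_, CfsgLib.Char.isIrrCharacter_linear (l : G →* ℂˣ)⟩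
  have hinj : Function.Injective toIrr := fun a b h => Subtype.ext (MonoidHom.ext fun g =>
    Units.ext (congrFun (congrArg Subtype.val h) g))
  have : Finite S := Finite.of_injective toIrr hinj
  have := Fintype.ofFinite S
  have hS : ¬ p ∣ Nat.card S := fun h => by
    obtain ⟨x, hx⟩ := exists_prime_orderOf_dvd_card' p h
    exact x.2 (by rw [Subgroup.orderOf_coe, hx])
  rw [show {χ : Cfsg.IrrCharacter G | ¬ p ∣ Cfsg.charDegree (χ : G → ℂ) ∧
      ¬ p ∣ Cfsg.detOrder (χ : G → ℂ)} = ↑(Finset.univ.image toIrr) by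
    ext χ
    rw [Set.mem_setOf_eq, Finset.coe_image, Finset.coe_univ, Set.image_univ, Set.mem_range]
    constructor
    · rintro ⟨h1, h2⟩
      have hd : Cfsg.charDegree (χ : G → ℂ) = 1 := by_contra fun h => h1 (hdeg χ h)
      have h3 : (χ : G → ℂ) 1 = 1 := by
        rw [← CfsgLib.CharExt.charDegree_cast (CfsgLib.Char.IsIrr.isCharacter χ.2), hd,
          Nat.cast_one]
      obtain ⟨l, hl⟩ :=
        CfsgLib.Char.exists_linear_of_degree_one (CfsgLib.Char.IsIrr.isCharacter χ.2) h3
      rw [hl, hdet] at h2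
      exact ⟨⟨l, h2⟩, Subtype.ext hl.symm⟩
    · rintro ⟨⟨l, hl⟩, rfl⟩
      refine ⟨?_, ?_⟩
      · show ¬ p ∣ Cfsg.charDegree (fun g => (l g : ℂ))
        simp [Cfsg.charDegree, hp.ne_one]
      · show ¬ p ∣ Cfsg.detOrder (fun g => (l g : ℂ))
        rw [hdet]; exact hl,
    finsum_mem_coe_finset, Finset.sum_image fun a _ b _ h => hinj h] at hcong
  refine hS (Int.natCast_dvd_natCast.mp ?_)
  have h1 : ∀ l : S, (Cfsg.charDegree (toIrr l : G → ℂ) : ℤ) ^ 2 = 1 := fun l => by
    show (Cfsg.charDegree (fun g => ((l : G →* ℂˣ) g : ℂ)) : ℤ) ^ 2 = 1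
    simp [Cfsg.charDegree]
  rw [Finset.sum_congr rfl fun l _ => h1 l, Finset.sum_const, Finset.card_univ,
    ← Nat.card_eq_fintype_card, nsmul_one] at hcong
  exact (Int.modEq_iff_dvd.mp hcong).trans (dvd_refl _) |> fun h =>
    (dvd_sub_left (Int.natCast_dvd_natCast.mpr hK)).mp h

end Cfsg.Agent.S4456
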