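import Cfsg.Statements.S4911
import Cfsg.Agent.Lib.CharAction.Solvable
import Cfsg.Agent.Lib.Char.Real
-- import your own Cfsg.Agent.* helpers here

set_option autoImplicit false
open Cfsg

namespace Cfsg.Agent.S4911

open CfsgLib.CharAction CfsgLib.Char
open scoped ComplexConjugate

section

variable {G : Type*} [Group G] {P K : Subgroup G} (hPK : P ≤ Subgroup.normalizer (K : Set G))

/-- The conjugation action of `P` on `K`. -/
@[instance_reducible]
def conjAction : MulDistribMulAction P K where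
  smul a k := ⟨(a : G) * k * (a : G)⁻¹, (Subgroup.mem_normalizer_iff.mp (hPK a.2) k).mp k.2⟩
  one_smul k := Subtype.ext (show (1 : G) * k * (1 : G)⁻¹ = k by group)
  mul_smul a b k := Subtype.ext
    (show (a : G) * b * k * ((a : G) * b)⁻¹ = a * ((b : G) * k * (b : G)⁻¹) * (a : G)⁻¹ by group)
  smul_mul a k l := Subtype.ext (show (a : G) * ((k : G) * l) * (a : G)⁻¹ =
    (a : G) * k * (a : G)⁻¹ * ((a : G) * l * (a : G)⁻¹) by group)
  smul_one a := Subtype.ext (show (a : G) * 1 * (a : G)⁻¹ = 1 by group)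

end

section

variable {A G C : Type*} [Group A] [Group G] [Group C] [MulDistribMulAction A G] [Finite A]
  [Fintype G] [Fintype C] {p : ℕ} [Fact p.Prime] (hA : IsPGroup p A)
  (ι : C →* G) (hι : Function.Injective ι) (hC : ∀ g : G, g ∈ ι.range ↔ ∀ a : A, a • g = g)
  (hp : ¬ p ∣ Nat.card G)

omit [Fintype G] in
theorem mult_conj [Finite G] (χ : Cfsg.IrrCharacter G) (γ : Cfsg.IrrCharacter C) :
    mult ι (conjIrr χ) (conjIrr γ) = mult ι χ γ := by
  have h := classInner_eq_mult ι (conjIrr χ) (conjIrr γ)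
  have h' := congrArg conj (classInner_eq_mult ι χ γ)
  rw [Cfsg.classInner] at h h'
  simp only [map_mul, map_inv₀, map_natCast, map_sum, Complex.conj_conj] at h'
  simp only [conjIrr_apply, Complex.conj_conj] at h
  exact_mod_cast h.symm.trans h'

include hA hι hC hp

theorem card_real_inv :
    Nat.card {θ : Cfsg.IrrCharacter G // (∀ g, ((θ : G → ℂ) g).im = 0) ∧ IsInv A (θ : G → ℂ)} =
      Nat.card {K : ConjClasses G // (∀ g, ConjClasses.mk g = K → IsConj g g⁻¹) ∧ IsInvClass A K} := by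
  classical
  have hconj : ∀ θ : Cfsg.IrrCharacter G, IsInv A (θ : G → ℂ) → IsInv A (conjIrr θ : G → ℂ) :=
    fun θ h a g => by rw [conjIrr_apply, conjIrr_apply, h a g]
  have hcorr : ∀ θ : {θ : Cfsg.IrrCharacter G // (∀ g, ((θ : G → ℂ) g).im = 0) ∧
      IsInv A (θ : G → ℂ)}, ∃ β : {β : Cfsg.IrrCharacter C // ∀ c, ((β : C → ℂ) c).im = 0},
      ¬ p ∣ mult ι θ.1 β.1 := by
    rintro ⟨θ, hreal, hinv⟩
    obtain ⟨β, -, hβ1⟩ := exists_correspondent hA ι hι hC hp hinv
    have hβ : ¬ p ∣ mult ι θ β := by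
      intro hd
      have hdz : (p : ℤ) ∣ (mult ι θ β : ℤ) := Int.natCast_dvd_natCast.mpr hd
      have hp1 : ¬ (p : ℤ) ∣ 1 := fun h => (Fact.out : p.Prime).one_lt.ne'
        (Nat.dvd_one.mp (Int.natCast_dvd_natCast.mp (by simpa using h)))
      rcases hβ1 with h | h
      · exact hp1 (by simpa using dvd_add (Int.ModEq.dvd h) hdz)
      · exact hp1 (Int.dvd_neg.mp (by simpa using dvd_add (Int.ModEq.dvd h) hdz))
    refine ⟨⟨β, (conjIrr_eq_iff β).mp ?_⟩, hβ⟩
    refine correspondent_unique hA ι hι hC hp hinv ?_ hβ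
    rwa [← (conjIrr_eq_iff θ).mpr hreal, mult_conj]
  choose f hf using hcorr
  have hfbij : Function.Bijective f := by
    refine ⟨fun θ θ' h => Subtype.ext (correspondent_injective hA ι hι hC hp θ.2.2 θ'.2.2 (hf θ) ?_),
      fun β => ?_⟩
    · rw [h]; exact hf θ'
    · obtain ⟨η, hinv, hη⟩ := correspondent_surjective hA ι hι hC hp β.1
      have hreal : ∀ g, ((η : G → ℂ) g).im = 0 := (conjIrr_eq_iff η).mp
        (correspondent_injective hA ι hι hC hp (hconj η hinv) hinv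
          (β := β.1) (by rwa [← (conjIrr_eq_iff β.1).mpr β.2, mult_conj]) hη)
      exact ⟨⟨η, hreal, hinv⟩, Subtype.ext
        (correspondent_unique hA ι hι hC hp hinv (hf ⟨η, hreal, hinv⟩) hη)⟩
  rw [Nat.card_eq_of_bijective f hfbij, card_real_irr_eq_card_real_classes]
  have hmap : ∀ L : ConjClasses C, (∀ c, ConjClasses.mk c = L → IsConj c c⁻¹) →
      ∀ g, ConjClasses.mk g = ConjClasses.map ι L → IsConj g g⁻¹ := by
    intro L hL g hg
    obtain ⟨c, rfl⟩ := ConjClasses.mk_surjective L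
    have hgc : IsConj g (ι c) := ConjClasses.mk_eq_mk_iff_isConj.mp hg
    obtain ⟨x, hx⟩ := isConj_iff.mp hgc
    have hinv : IsConj (ι c)⁻¹ g⁻¹ :=
      (isConj_iff.mpr ⟨x, by rw [← hx]; group⟩ : IsConj g⁻¹ (ι c)⁻¹).symm
    refine hgc.trans ((ι.map_isConj (hL c rfl)).trans ?_)
    rwa [map_inv]
  refine Nat.card_eq_of_bijective
    (fun L => ⟨ConjClasses.map ι L.1, hmap L.1 L.2, isInvClass_map ι hC L.1⟩) ⟨?_, ?_⟩
  · intro L L' h
    exact Subtype.ext (classMap_injective hA ι hι hC hp (congrArg Subtype.val h))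
  · rintro ⟨K, hK, hKinv⟩
    obtain ⟨L, hL⟩ := classMap_surjective hA ι hι hC hp hKinv
    refine ⟨⟨L, fun c hc => ?_⟩, Subtype.ext hL⟩
    have h1 : IsConj (ι c) (ι c)⁻¹ := hK (ι c) (by rw [← hL, ← hc]; rfl)
    refine ConjClasses.mk_eq_mk_iff_isConj.mp (classMap_injective hA ι hι hC hp ?_)
    show ConjClasses.mk (ι c) = ConjClasses.mk (ι c⁻¹)
    rw [ConjClasses.mk_eq_mk_iff_isConj, map_inv]
    exact h1

end

/-- Let P and K be subgroups of a finite group with P a p-group normalizing K and K of order prime to p. Then the number of P-invariant real-valued irreducible complex characters of K equals the number of conjugacy classes of K that are real (closed under inversion) and P-invariant. Moreover, if every real-valued irreducible character of K is P-invariant, then every real element of K (one conjugate in K to its inverse) is conjugate in K to an element centralized by P. -/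
theorem result {G : Type*} [Group G] [Finite G] (p : ℕ) [Fact p.Prime] (P K : Subgroup G) (hP : IsPGroup p ↥P) (hK : ¬ p ∣ Nat.card ↥K) (hPK : P ≤ Subgroup.normalizer (K : Set G)) : Nat.card {θ : Cfsg.IrrCharacter ↥K // (∀ k : ↥K, ((θ : ↥K → ℂ) k).im = 0) ∧ (∀ x ∈ P, ∀ k k' : ↥K, (k' : G) = x * (k : G) * x⁻¹ → (θ : ↥K → ℂ) k' = (θ : ↥K → ℂ) k)} = Nat.card {c : ConjClasses ↥K // (∀ k : ↥K, ConjClasses.mk k = c → IsConj k k⁻¹) ∧ ∀ k : ↥K, ConjClasses.mk k = c → ∀ x ∈ P, ∀ k' : ↥K, (k' : G) = x * (k : G) * x⁻¹ → ConjClasses.mk k' = c} ∧ ((∀ θ : Cfsg.IrrCharacter ↥K, (∀ k : ↥K, ((θ : ↥K → ℂ) k).im = 0) → (∀ x ∈ P, ∀ k k' : ↥K, (k' : G) = x * (k : G) * x⁻¹ → (θ : ↥K → ℂ) k' = (θ : ↥K → ℂ) k)) → ∀ k : ↥K, IsConj k k⁻¹ → ∃ k' : ↥K, IsConj k k' ∧ ∀ x ∈ P, x * (k' : G) * x⁻¹ = (k' : G)) := by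
  classical
  letI := conjAction hPK
  have := Fintype.ofFinite K
  let C : Subgroup K := FixedPoints.subgroup P K
  have := Fintype.ofFinite C
  have hC : ∀ k : K, k ∈ C.subtype.range ↔ ∀ a : P, a • k = k := fun k => by
    rw [Subgroup.range_subtype]
    rfl
  have hmain := card_real_inv hP C.subtype Subtype.val_injective hC hK
  have hsmul : ∀ (a : P) (k : K), ((a • k : K) : G) = (a : G) * k * (a : G)⁻¹ := fun _ _ => rfl
  have e1 : ∀ θ : Cfsg.IrrCharacter K,
      (∀ x ∈ P, ∀ k k' : K, (k' : G) = x * (k : G) * x⁻¹ → (θ : K → ℂ) k' = (θ : K → ℂ) k) ↔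
        IsInv P (θ : K → ℂ) := fun θ => by
    refine ⟨fun h a k => h a a.2 k (a • k) (hsmul a k), fun h x hx k k' hk => ?_⟩
    rw [show k' = (⟨x, hx⟩ : P) • k from Subtype.ext hk]
    exact h ⟨x, hx⟩ k
  have e2 : ∀ c : ConjClasses K, (∀ k : K, ConjClasses.mk k = c → ∀ x ∈ P, ∀ k' : K,
      (k' : G) = x * (k : G) * x⁻¹ → ConjClasses.mk k' = c) ↔ IsInvClass P c := fun c => by
    refine ⟨fun h a k hk => h k hk a a.2 (a • k) (hsmul a k), fun h k hk x hx k' hk' => ?_⟩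
    rw [show k' = (⟨x, hx⟩ : P) • k from Subtype.ext hk']
    exact h ⟨x, hx⟩ k hk
  have hfirst : Nat.card {θ : Cfsg.IrrCharacter ↥K // (∀ k : ↥K, ((θ : ↥K → ℂ) k).im = 0) ∧
      (∀ x ∈ P, ∀ k k' : ↥K, (k' : G) = x * (k : G) * x⁻¹ → (θ : ↥K → ℂ) k' = (θ : ↥K → ℂ) k)} =
      Nat.card {c : ConjClasses ↥K // (∀ k : ↥K, ConjClasses.mk k = c → IsConj k k⁻¹) ∧
        ∀ k : ↥K, ConjClasses.mk k = c → ∀ x ∈ P, ∀ k' : ↥K,
          (k' : G) = x * (k : G) * x⁻¹ → ConjClasses.mk k' = c} := by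
    rw [Nat.card_congr (Equiv.subtypeEquivRight fun θ => and_congr_right fun _ => e1 θ),
      Nat.card_congr (Equiv.subtypeEquivRight fun c => and_congr_right fun _ => e2 c)]
    exact hmain
  refine ⟨hfirst, fun hall k hk => ?_⟩
  -- all real classes are invariant
  have hcount : Nat.card {c : ConjClasses K // ∀ g, ConjClasses.mk g = c → IsConj g g⁻¹} =
      Nat.card {c : ConjClasses K // (∀ g, ConjClasses.mk g = c → IsConj g g⁻¹) ∧ IsInvClass P c} := by
    rw [← card_real_irr_eq_card_real_classes, ← hmain]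
    exact Nat.card_congr (Equiv.subtypeEquivRight fun θ =>
      ⟨fun h => ⟨h, (e1 θ).mp (hall θ h)⟩, And.left⟩)
  have hbij : Function.Bijective (fun c : {c : ConjClasses K //
      (∀ g, ConjClasses.mk g = c → IsConj g g⁻¹) ∧ IsInvClass P c} =>
      (⟨c.1, c.2.1⟩ : {c : ConjClasses K // ∀ g, ConjClasses.mk g = c → IsConj g g⁻¹})) :=
    (Nat.bijective_iff_injective_and_card _).mpr
      ⟨fun a b h => Subtype.ext (congrArg Subtype.val h :), hcount.symm⟩
  have hreal : ∀ g, ConjClasses.mk g = ConjClasses.mk k → IsConj g g⁻¹ := fun g hg => by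
    have hgk : IsConj g k := ConjClasses.mk_eq_mk_iff_isConj.mp hg
    obtain ⟨x, hx⟩ := isConj_iff.mp hgk
    have hinv : IsConj k⁻¹ g⁻¹ := (isConj_iff.mpr ⟨x, by rw [← hx]; group⟩ : IsConj g⁻¹ k⁻¹).symm
    exact hgk.trans (hk.trans hinv)
  obtain ⟨⟨c, hc, hcinv⟩, he⟩ := hbij.2 ⟨ConjClasses.mk k, hreal⟩
  have he' : c = ConjClasses.mk k := congrArg Subtype.val he
  obtain ⟨L, hL⟩ := classMap_surjective hP C.subtype Subtype.val_injective hC hK (he' ▸ hcinv)
  obtain ⟨d, rfl⟩ := ConjClasses.mk_surjective L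
  refine ⟨d, (ConjClasses.mk_eq_mk_iff_isConj.mp hL).symm, fun x hx => ?_⟩
  exact congrArg Subtype.val ((hC (d : K)).mp ⟨d, rfl⟩ ⟨x, hx⟩)

end Cfsg.Agent.S4911
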