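import Cfsg.Statements.S1018
import Mathlib.GroupTheory.Sylow
import Mathlib.GroupTheory.SpecificGroups.Cyclic
import Mathlib.Tactic

set_option autoImplicit false
open Cfsg

namespace Cfsg.Agent.S1018

/-- Let P be a Sylow p-subgroup of order p of a finite group G, and consider the action of G on the left cosets of the normalizer N of P. Then every element of order p fixes exactly one coset, and an element of N that does not centralize P fixes at most as many cosets as there are orbits of P. -/
theorem result {G : Type*} [Group G] [Finite G] (p : ℕ) [Fact p.Prime] (P : Sylow p G) (hP : Nat.card ↥(P : Subgroup G) = p) : (∀ y : G, orderOf y = p → Nat.card (MulAction.fixedBy (G ⧸ Subgroup.normalizer ((P : Subgroup G) : Set G)) y) = 1) ∧ ∀ x : G, x ∈ Subgroup.normalizer ((P : Subgroup G) : Set G) → x ∉ Subgroup.centralizer ((P : Subgroup G) : Set G) → Nat.card (MulAction.fixedBy (G ⧸ Subgroup.normalizer ((P : Subgroup G) : Set G)) x) ≤ Nat.card (MulAction.orbitRel.Quotient ↥(P : Subgroup G) (G ⧸ Subgroup.normalizer ((P : Subgroup G) : Set G))) := by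
  classical
  have hp : p.Prime := Fact.out
  set N := Subgroup.normalizer ((P : Subgroup G) : Set G) with hN
  have hPN : (P : Subgroup G) ≤ N := Subgroup.le_normalizer
  constructor
  · intro y hy
    have hfix : ∀ g : G, ((g : G ⧸ N)) ∈ MulAction.fixedBy (G ⧸ N) y ↔ g⁻¹ * y * g ∈ N := by
      intro g
      rw [MulAction.mem_fixedBy, MulAction.Quotient.smul_coe, eq_comm, QuotientGroup.eq,
        smul_eq_mul, mul_assoc]
    have hcardy : Nat.card (Subgroup.zpowers y) = p := by rw [Nat.card_zpowers, hy]
    -- g fixes iff the conjugate of P by g is <y>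
    have key : ∀ g : G, g⁻¹ * y * g ∈ N ↔
        ((g • P : Sylow p G) : Subgroup G) = Subgroup.zpowers y := by
      intro g
      constructor
      · intro hg
        have hord : orderOf (g⁻¹ * y * g) = p := by
          rw [← hy]
          exact orderOf_injective (MulAut.conj g⁻¹).toMonoidHom (MulAut.conj g⁻¹).injective y ▸
            (by simp [MulAut.conj_apply])
        have hmem : g⁻¹ * y * g ∈ (P : Subgroup G) := by
          have hz : IsPGroup p (Subgroup.zpowers (g⁻¹ * y * g)) :=
            IsPGroup.of_card (n := 1) (by rw [pow_one, Nat.card_zpowers, hord])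
          have h1 := hz.inf_normalizer_sylow P
          have : g⁻¹ * y * g ∈ Subgroup.zpowers (g⁻¹ * y * g) ⊓ (P : Subgroup G) :=
            h1 ▸ ⟨Subgroup.mem_zpowers _, hg⟩
          exact this.2
        symm
        apply Subgroup.eq_of_le_of_card_ge
        · rw [Subgroup.zpowers_le, Sylow.coe_subgroup_smul]
          exact ⟨_, hmem, by simp [MulAut.conj_apply, mul_assoc]⟩
        · rw [hcardy, (g • P : Sylow p G).card_eq_multiplicity, ← P.card_eq_multiplicity, hP]
      · intro hg
        apply hPN
        have : y ∈ ((g • P : Sylow p G) : Subgroup G) := by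
          rw [hg]; exact Subgroup.mem_zpowers y
        rw [Sylow.coe_subgroup_smul] at this
        obtain ⟨z, hz, rfl⟩ := this
        simp [MulAut.conj_apply, mul_assoc]
        exact hz
    rw [Nat.card_eq_one_iff_unique]
    refine ⟨⟨?_⟩, ?_⟩
    · rintro ⟨a, ha⟩ ⟨b, hb⟩
      induction a using QuotientGroup.induction_on with
      | H a =>
      induction b using QuotientGroup.induction_on with
      | H b =>
      apply Subtype.ext
      simp only
      rw [QuotientGroup.eq, hN]
      apply Sylow.smul_eq_iff_mem_normalizer.1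
      rw [mul_smul, inv_smul_eq_iff]
      apply Sylow.ext
      rw [((key b).1 ((hfix b).1 hb)), ((key a).1 ((hfix a).1 ha))]
    · obtain ⟨R, hR⟩ := (IsPGroup.of_card (n := 1)
        (by rw [pow_one, hcardy] : Nat.card (Subgroup.zpowers y) = p ^ 1)).exists_le_sylow
      have hR' : Subgroup.zpowers y = (R : Subgroup G) := by
        apply Subgroup.eq_of_le_of_card_ge hR
        rw [hcardy, R.card_eq_multiplicity, ← P.card_eq_multiplicity, hP]
      obtain ⟨g, hg⟩ := MulAction.exists_smul_eq G P R
      exact ⟨⟨(g : G ⧸ N), (hfix g).2 ((key g).2 (by rw [hg, hR']))⟩⟩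
  · intro x hx hxC
    refine Nat.card_le_card_of_injective
      (fun w : MulAction.fixedBy (G ⧸ N) x =>
        (Quotient.mk'' (w : G ⧸ N) : MulAction.orbitRel.Quotient (P : Subgroup G) (G ⧸ N))) ?_
    rintro ⟨v, hv⟩ ⟨w, hw⟩ hvw
    apply Subtype.ext
    obtain ⟨u, hu⟩ := MulAction.orbitRel_apply.1 (Quotient.eq''.1 hvw)
    simp only at hu ⊢
    -- v = u • w
    subst hu
    rw [MulAction.mem_fixedBy] at hv hw
    have hu' : x * (u : G) * x⁻¹ ∈ (P : Subgroup G) := (Subgroup.mem_normalizer_iff.1 hx u).1 u.2
    have h1 : ((u : G)⁻¹ * (x * (u : G) * x⁻¹)) • w = w := by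
      rw [mul_smul, mul_smul, mul_smul, inv_smul_eq_iff]
      have hxi : x⁻¹ • w = w := by rw [inv_smul_eq_iff, hw]
      rw [hxi]
      exact hv
    let q : (P : Subgroup G) := ⟨(u : G)⁻¹ * (x * (u : G) * x⁻¹), mul_mem (inv_mem u.2) hu'⟩
    by_cases hq : q = 1
    · -- x commutes with u
      have hcomm : x * (u : G) * x⁻¹ = u := by
        have := congrArg Subtype.val hq
        exact (inv_mul_eq_one.1 this).symm
      by_contra hne
      have hu1 : u ≠ 1 := by
        rintro rfl
        exact hne (one_smul _ _)
      apply hxC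
      have htop := zpowers_eq_top_of_prime_card hP hu1
      rw [Subgroup.mem_centralizer_iff]
      intro y hy
      have hy' : (⟨y, hy⟩ : (P : Subgroup G)) ∈ Subgroup.zpowers u := by simp [htop]
      obtain ⟨k, hk⟩ := hy'
      have hk' := congrArg Subtype.val hk
      simp only [SubgroupClass.coe_zpow] at hk'
      rw [← hk']
      have hc : Commute x (u : G) := mul_inv_eq_iff_eq_mul.1 hcomm
      exact (hc.zpow_right k).eq.symm
    · have htop := zpowers_eq_top_of_prime_card hP hq
      have hqs : q ∈ MulAction.stabilizer (P : Subgroup G) w := h1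
      have hle : Subgroup.zpowers q ≤ MulAction.stabilizer (P : Subgroup G) w :=
        Subgroup.zpowers_le.2 hqs
      rw [htop] at hle
      exact hle (Subgroup.mem_top u)

end Cfsg.Agent.S1018
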