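import Cfsg.Statements.S0495
import Cfsg.Agent.Lib.Perm.PrimePlusOne
import Cfsg.Agent.Lib.Perm.Simple168

set_option autoImplicit false
open Cfsg

namespace Cfsg.Agent.S0495

open scoped commutatorElement in
/-- A simple group in the semi-affine group of a finite field is abelian. -/
theorem comm_of_semiaffine {p n : ℕ} [Fact p.Prime] {G : Type*} [Group G] [IsSimpleGroup G]
    (f : G →* Equiv.Perm (GaloisField p n)) (hf : Function.Injective f)
    (hmem : ∀ g, f g ∈ Cfsg.semiaffineGroup (GaloisField p n)) : IsMulCommutative G := by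
  by_contra hna
  have htop : ⁅(⊤ : Subgroup G), (⊤ : Subgroup G)⁆ = ⊤ := by
    rw [← _root_.commutator_def]
    rcases IsSimpleGroup.eq_bot_or_eq_top_of_normal (_root_.commutator G) inferInstance with h | h
    · exact absurd ⟨⟨fun a b => commutatorElement_eq_one_iff_mul_comm.mp (Subgroup.mem_bot.mp (h ▸
        Subgroup.commutator_mem_commutator (Subgroup.mem_top a) (Subgroup.mem_top b)))⟩⟩ hna
    · exact h
  let K := GaloisField p n
  have hφ : ∀ φ ψ : K ≃+* K, ∀ x, φ (ψ x) = ψ (φ x) := by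
    intro φ ψ x
    let A : (K ≃+* K) → (K ≃ₐ[ZMod p] K) := fun e => AlgEquiv.ofRingEquiv (f := e) (fun r =>
      RingHom.congr_fun (Subsingleton.elim ((e : K →+* K).comp (algebraMap (ZMod p) K)) (algebraMap (ZMod p) K)) r)
    letI := IsCyclic.commGroup (α := K ≃ₐ[ZMod p] K)
    exact DFunLike.congr_fun (mul_comm (A φ) (A ψ)) x
  have hone : ∀ g : G, ∃ a : Kˣ, ∃ b : K, ∀ x, f g x = (a : K) * x + b := by
    have hsub : ⁅(⊤ : Subgroup G), (⊤ : Subgroup G)⁆ ≤
        { carrier := {g | ∃ a : Kˣ, ∃ b : K, ∀ x, f g x = (a : K) * x + b}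
          one_mem' := ⟨1, 0, fun x => by simp⟩
          mul_mem' := fun {g h} ⟨a, b, hg⟩ ⟨c, d, hh⟩ => ⟨a * c, a * d + b, fun x => by
            rw [map_mul, Equiv.Perm.mul_apply, hh, hg, Units.val_mul]; ring⟩
          inv_mem' := fun {g} ⟨a, b, hg⟩ => ⟨a⁻¹, -((↑a⁻¹ : K) * b), fun x => by
            apply (f g).injective
            rw [map_inv, Equiv.Perm.inv_def, Equiv.apply_symm_apply, hg, mul_add, mul_neg, ← mul_assoc,
              ← mul_assoc, Units.mul_inv]
            ring⟩ } := by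
      refine Subgroup.commutator_le.2 fun g _ h _ => ?_
      obtain ⟨a, b, φ, hg⟩ := hmem g
      obtain ⟨c, d, ψ, hh⟩ := hmem h
      refine ⟨(a * Units.map (φ : K →* K) c) * (c * Units.map (ψ : K →* K) a)⁻¹,
        (a : K) * φ d + b - (a : K) * φ c * ((↑(c * Units.map (ψ : K →* K) a)⁻¹ : K)) * ((c : K) * ψ b + d),
        fun y => ?_⟩
      obtain ⟨x, rfl⟩ := (f h * f g).surjective y
      rw [← Equiv.Perm.mul_apply, ← map_mul, ← map_mul,
        show ⁅g, h⁆ * (h * g) = g * h by rw [commutatorElement_def]; group]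
      have hu : (c : K) * ψ (a : K) ≠ 0 := mul_ne_zero c.ne_zero
        (fun e => a.ne_zero (ψ.injective (e.trans (map_zero ψ).symm)))
      simp only [map_mul, Equiv.Perm.mul_apply, hg, hh, map_add, Units.val_mul, Units.coe_map,
        Units.val_inv_eq_inv_val, MonoidHom.coe_coe, hφ φ ψ x]
      field_simp
      ring_nf
      rw [mul_inv_cancel_right₀ (fun e => a.ne_zero (ψ.injective (e.trans (map_zero ψ).symm)))]
    intro g
    exact hsub (htop.ge (Subgroup.mem_top g))
  have htr : ∀ g : G, ∃ b : K, ∀ x, f g x = x + b := by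
    have hsub : ⁅(⊤ : Subgroup G), (⊤ : Subgroup G)⁆ ≤
        { carrier := {g | ∃ b : K, ∀ x, f g x = x + b}
          one_mem' := ⟨0, fun x => by simp⟩
          mul_mem' := fun {g h} ⟨b, hg⟩ ⟨d, hh⟩ => ⟨d + b, fun x => by
            rw [map_mul, Equiv.Perm.mul_apply, hh, hg, add_assoc]⟩
          inv_mem' := fun {g} ⟨b, hg⟩ => ⟨-b, fun x => by
            apply (f g).injective
            rw [map_inv, Equiv.Perm.inv_def, Equiv.apply_symm_apply, hg, neg_add_cancel_right]⟩ } := by
      refine Subgroup.commutator_le.2 fun g _ h _ => ?_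
      obtain ⟨a, b, hg⟩ := hone g
      obtain ⟨c, d, hh⟩ := hone h
      refine ⟨(a : K) * d + b - ((c : K) * b + d), fun y => ?_⟩
      obtain ⟨x, rfl⟩ := (f h * f g).surjective y
      rw [← Equiv.Perm.mul_apply, ← map_mul, ← map_mul,
        show ⁅g, h⁆ * (h * g) = g * h by rw [commutatorElement_def]; group]
      simp only [map_mul, Equiv.Perm.mul_apply, hg, hh]
      ring
    intro g
    exact hsub (htop.ge (Subgroup.mem_top g))
  refine hna ⟨⟨fun g h => hf (Equiv.ext fun x => ?_)⟩⟩
  obtain ⟨b, hg⟩ := htr g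
  obtain ⟨d, hh⟩ := htr h
  simp only [map_mul, Equiv.Perm.mul_apply, hg, hh]
  ring

/-- A simple group of order 168 is isomorphic to the projective special linear group of dimension 2 over the field with
7 elements. -/
theorem result {G : Type*} [Group G] [Finite G] [IsSimpleGroup G]
    (h : Nat.card G = 168) {F : Type*} [Field F] [Fintype F] (hF : Fintype.card F = 7) :
    Nonempty (G ≃* Matrix.ProjectiveSpecialLinearGroup (Fin 2) F) := by
  classical
  have : Fact (Nat.Prime 7) := ⟨by norm_num⟩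
  have hn : Nat.card (Sylow 7 G) = 8 := CfsgLib.Perm.Simple168.card_sylow_seven h
  have := Fintype.ofFinite (Sylow 7 G)
  let φ := MulAction.toPermHom G (Sylow 7 G)
  have hφ : Function.Injective φ := by
    rw [← MonoidHom.ker_eq_bot_iff]
    refine (φ.normal_ker.eq_bot_or_eq_top).resolve_right fun htop => ?_
    obtain ⟨P, Q, hPQ⟩ := (Finite.one_lt_card_iff_nontrivial.1 (hn ▸ by norm_num : 1 < Nat.card (Sylow 7 G))).exists_pair_ne
    obtain ⟨g, hg⟩ := MulAction.exists_smul_eq G P Q
    exact hPQ ((Equiv.ext_iff.1 (htop ▸ Subgroup.mem_top g : g ∈ φ.ker) P).symm.trans hg)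
  let e := MonoidHom.ofInjective hφ
  have : MulAction.IsPretransitive φ.range (Sylow 7 G) := ⟨fun P Q => by
    obtain ⟨g, hg⟩ := MulAction.exists_smul_eq G P Q
    exact ⟨⟨φ g, g, rfl⟩, hg⟩⟩
  rcases CfsgLib.Perm.PrimePlusOne.classify (p := 7) (d := 3) (by norm_num)
      (by rw [← Nat.card_eq_fintype_card, hn]) φ.range
      (by rw [← Nat.card_congr e.toEquiv, h]) (by norm_num) with h1 | ⟨-, ⟨e'⟩⟩ | ⟨q, -, -, -, ea, hea⟩
  · exact absurd h1.1 (by norm_num)
  · exact ⟨(e.trans e').trans
      (CfsgLib.Classical.Dickson.pslCongr (FiniteField.ringEquivOfCardEq (K := ZMod 7) (K' := F)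
        (by simp [hF])))⟩
  · exfalso
    refine CfsgLib.Perm.Simple168.not_comm h (comm_of_semiaffine
      (ea.permCongrHom.toMonoidHom.comp φ) (ea.permCongrHom.injective.comp hφ) fun g => ?_)
    have h2 := hea ⟨φ g, g, rfl⟩
    convert h2 using 1
    ext x; rfl

end Cfsg.Agent.S0495
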