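import Cfsg.Statements.S0498
import Cfsg.Agent.Lib.Perm.PrimeProjective
import Cfsg.Agent.Lib.Perm.SimpleCount

set_option autoImplicit false
open Cfsg

namespace Cfsg.Agent.S0498

/-- A simple group of order 660, respectively 1092, is isomorphic to the projective special linear group of dimension 2
over the field with 11, respectively 13, elements. -/
theorem result {G : Type*} [Group G] [Finite G] [IsSimpleGroup G] (p : ℕ)
    (hp : p = 11 ∨ p = 13) (h : 2 * Nat.card G = p * (p ^ 2 - 1)) {F : Type*} [Field F] [Fintype F]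
    (hF : Fintype.card F = p) : Nonempty (G ≃* Matrix.ProjectiveSpecialLinearGroup (Fin 2) F) := by
  rcases hp with rfl | rfl
  · have : Fact (Nat.Prime 11) := ⟨by norm_num⟩
    have h' : Nat.card G = 660 := by omega
    have h1 := CfsgLib.Perm.card_sylow_dvd_of_card_eq (p := 11) (k := 1) (m := 60) (by rw [h']; norm_num : Nat.card G = 11 ^ 1 * 60)
    have h2 := card_sylow_modEq_one 11 G
    have h3 := CfsgLib.Perm.card_sylow_ne_one (p := 11) (by rw [h']; norm_num)
      (CfsgLib.Perm.not_isPGroup_of_dvd Nat.prime_two (by norm_num) (by rw [h']; norm_num))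
    have hn : Nat.card (Sylow 11 G) = 11 + 1 := by
      have hmem := Nat.mem_divisors.2 ⟨h1, by norm_num⟩
      rw [show (60 : ℕ).divisors = ({1, 2, 3, 4, 5, 6, 10, 12, 15, 20, 30, 60} : Finset ℕ) from by decide +kernel] at hmem
      simp only [Finset.mem_insert, Finset.mem_singleton] at hmem
      unfold Nat.ModEq at h2
      omega
    exact CfsgLib.Perm.PrimeProjective.exists_iso (p := 11) (by norm_num) (d := 5) (by norm_num)
      (by rw [h']) hn (ν := 2) (by decide) (by decide) (by decide +kernel) hF
  · have : Fact (Nat.Prime 13) := ⟨by norm_num⟩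
    have h' : Nat.card G = 1092 := by omega
    have h1 := CfsgLib.Perm.card_sylow_dvd_of_card_eq (p := 13) (k := 1) (m := 84) (by rw [h']; norm_num : Nat.card G = 13 ^ 1 * 84)
    have h2 := card_sylow_modEq_one 13 G
    have h3 := CfsgLib.Perm.card_sylow_ne_one (p := 13) (by rw [h']; norm_num)
      (CfsgLib.Perm.not_isPGroup_of_dvd Nat.prime_two (by norm_num) (by rw [h']; norm_num))
    have hn : Nat.card (Sylow 13 G) = 13 + 1 := by
      have hmem := Nat.mem_divisors.2 ⟨h1, by norm_num⟩
      rw [show (84 : ℕ).divisors = ({1, 2, 3, 4, 6, 7, 12, 14, 21, 28, 42, 84} : Finset ℕ) from by decide +kernel] at hmem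
      simp only [Finset.mem_insert, Finset.mem_singleton] at hmem
      unfold Nat.ModEq at h2
      omega
    exact CfsgLib.Perm.PrimeProjective.exists_iso (p := 13) (by norm_num) (d := 6) (by norm_num)
      (by rw [h']) hn (ν := 2) (by decide) (by decide) (by decide +kernel) hF

end Cfsg.Agent.S0498
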