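import Cfsg.Statements.S0981
import Cfsg.Agent.Lib.Perm.SylowFixed
import Cfsg.Agent.Lib.Perm.DihedralNormalizer
import Cfsg.Agent.Lib.Perm.ElemCentRecog
import Mathlib.Tactic

set_option autoImplicit false
open Cfsg

namespace Cfsg.Agent.S0981

/-- Disjoint families of non-identity elements, one for each Sylow subgroup. -/
theorem card_sylow_mul_le {G : Type*} [Group G] [Fintype G] [DecidableEq G] {p : ℕ} [Fact p.Prime] {q : ℕ}
    (H : Sylow p G → Subgroup G) (hq : ∀ R : Sylow p G, Nat.card (H R) = q) (S : Finset G)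
    (hS : ∀ R : Sylow p G, ∀ x ∈ H R, x ≠ 1 → x ∈ S)
    (huniq : ∀ R R' : Sylow p G, ∀ x : G, x ≠ 1 → x ∈ H R → x ∈ H R' → R = R') :
    Nat.card (Sylow p G) * (q - 1) ≤ S.card := by
  classical
  let _ := Fintype.ofFinite (Sylow p G)
  let f : (Σ R : Sylow p G, {x : H R // x ≠ 1}) → S := fun s =>
    ⟨(s.2.1 : G), hS s.1 _ s.2.1.2 (fun e => s.2.2 (Subtype.ext e))⟩
  have hf : Function.Injective f := by
    rintro ⟨R, x, hx⟩ ⟨R', x', hx'⟩ e
    have e' : (x : G) = (x' : G) := congrArg Subtype.val e
    obtain rfl : R = R' := huniq R R' x (fun h => hx (Subtype.ext h)) x.2 (e' ▸ x'.2)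
    obtain rfl : x = x' := Subtype.ext e'
    rfl
  have h1 := Nat.card_le_card_of_injective f hf
  rw [Nat.card_eq_fintype_card (α := S), Fintype.card_coe, Nat.card_sigma,
    Finset.sum_congr rfl (g := fun _ => q - 1) (fun R _ => ?_), Finset.sum_const, Finset.card_univ,
    smul_eq_mul, ← Nat.card_eq_fintype_card] at h1
  · exact h1
  · let _ := Fintype.ofFinite (H R)
    rw [Nat.card_eq_fintype_card, Fintype.card_subtype_compl, Fintype.card_subtype_eq,
      ← Nat.card_eq_fintype_card, hq]

/-- An element commuting with an element of prime order `p` commutes with a Sylow subgroup. -/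
theorem exists_sylow_commute {G : Type*} [Group G] [Finite G] {p : ℕ} [Fact p.Prime]
    (hall : ∀ R : Sylow p G, Nat.card (R : Subgroup G) = p) {w t : G} (hw : orderOf w = p)
    (hwt : w * t = t * w) : ∃ R : Sylow p G, t ∈ Subgroup.centralizer ((R : Subgroup G) : Set G) := by
  obtain ⟨R, hR⟩ := (IsPGroup.of_card (p := p) (n := 1) (G := Subgroup.zpowers w) (by
    rw [Nat.card_zpowers, hw, pow_one])).exists_le_sylow
  have hReq : Subgroup.zpowers w = (R : Subgroup G) :=
    Subgroup.eq_of_le_of_card_ge hR (by rw [hall, Nat.card_zpowers, hw])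
  refine ⟨R, Subgroup.mem_centralizer_iff.2 fun a ha => ?_⟩
  obtain ⟨k, rfl⟩ := hReq.ge ha
  exact ((show Commute w t from hwt).zpow_left k).eq

/-- All Sylow centralisers have the same order. -/
theorem card_centralizer_sylow {G : Type*} [Group G] [Finite G] {p : ℕ} [Fact p.Prime]
    (P R : Sylow p G) :
    Nat.card (Subgroup.centralizer ((R : Subgroup G) : Set G)) =
      Nat.card (Subgroup.centralizer ((P : Subgroup G) : Set G)) := by
  have key : ∀ P R : Sylow p G, Nat.card (Subgroup.centralizer ((P : Subgroup G) : Set G)) ≤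
      Nat.card (Subgroup.centralizer ((R : Subgroup G) : Set G)) := by
    intro P R
    obtain ⟨g, rfl⟩ := MulAction.exists_smul_eq G P R
    refine Nat.card_le_card_of_injective (fun x => ⟨g * x * g⁻¹, ?_⟩) fun x y e =>
      Subtype.ext (mul_left_cancel (mul_right_cancel (congrArg Subtype.val e)))
    rw [Subgroup.mem_centralizer_iff]
    intro a ha
    rw [SetLike.mem_coe, Sylow.coe_subgroup_smul, Subgroup.mem_smul_pointwise_iff_exists] at ha
    obtain ⟨b, hb, rfl⟩ := ha
    show g * b * g⁻¹ * (g * x * g⁻¹) = g * x * g⁻¹ * (g * b * g⁻¹)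
    calc g * b * g⁻¹ * (g * x * g⁻¹) = g * (b * x) * g⁻¹ := by group
      _ = g * (x * b) * g⁻¹ := by rw [(Subgroup.mem_centralizer_iff.1 x.2) b hb]
      _ = _ := by group
  exact le_antisymm (key R P) (key P R)

set_option maxHeartbeats 1600000

/-- A simple group of order 4080 is isomorphic to the projective special linear group of dimension 2 over the field with 16 elements. -/
theorem result {G : Type*} [Group G] [Finite G] [IsSimpleGroup G] (h : Nat.card G = 4080) {F : Type*} [Field F] [Fintype F] (hF : Fintype.card F = 16) : Nonempty (G ≃* Matrix.ProjectiveSpecialLinearGroup (Fin 2) F) := by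
  classical
  let _ := Fintype.ofFinite G
  have : Fact (Nat.Prime 17) := ⟨by norm_num⟩
  have : Fact (Nat.Prime 5) := ⟨by norm_num⟩
  have : Fact (Nat.Prime 2) := ⟨Nat.prime_two⟩
  have h' : Nat.card G = 17 ^ 1 * 240 := by rw [h]; norm_num
  have h5' : Nat.card G = 5 ^ 1 * 816 := by rw [h]; norm_num
  have h2' : Nat.card G = 2 ^ 4 * 255 := by rw [h]; norm_num
  have hG : ¬ IsMulCommutative G := CfsgLib.Perm.not_comm_of_not_prime (by rw [h]; norm_num)
  have hne : ¬ IsPGroup 17 G :=
    CfsgLib.Perm.not_isPGroup_of_dvd Nat.prime_two (by norm_num) (by rw [h]; norm_num)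
  have hne5 : ¬ IsPGroup 5 G :=
    CfsgLib.Perm.not_isPGroup_of_dvd Nat.prime_two (by norm_num) (by rw [h]; norm_num)
  obtain ⟨h1, h2, h3⟩ := CfsgLib.Perm.card_sylow_mem (p := 17) (q := 2) h' one_ne_zero Nat.prime_two
    (by norm_num) (by norm_num)
  have hall : ∀ R : Sylow 17 G, Nat.card (R : Subgroup G) = 17 := fun R => by
    rw [CfsgLib.Perm.sylow_card_eq R h' (by norm_num), pow_one]
  have hn : Nat.card (Sylow 17 G) = 120 := by
    have hmem := Nat.mem_divisors.2 ⟨h1, by norm_num⟩
    rw [show (240 : ℕ).divisors = ({1, 2, 3, 4, 5, 6, 8, 10, 12, 15, 16, 20, 24, 30, 40, 48, 60, 80, 120, 240} : Finset ℕ) from by decide +kernel] at hmem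
    simp only [Finset.mem_insert, Finset.mem_singleton] at hmem
    omega
  obtain ⟨P⟩ := (inferInstance : Nonempty (Sylow 17 G))
  have hN := CfsgLib.Perm.card_normalizer_mul_card_sylow P
  rw [hn, h] at hN
  obtain ⟨x, v, u, hu, hx1, hx2, hd1, hd2, hm, heq, hv, hconj⟩ :=
    CfsgLib.Perm.exists_degree_of_card_normalizer_two_mul' (by norm_num) P (hall P) hne (by omega)
  rw [h] at hd1 hd2 heq
  have hx : x = -16 := by
    have key : ∀ d ∈ (4080 : ℕ).divisors, (d % 17 = 1 → d = 1 ∨ (¬(d + 1 ∣ 4080))) ∧
        (d % 17 = 16 → d = 1 ∨ d = 16 ∨ (¬(d - 1 ∣ 4080))) := by decide +kernel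
    obtain ⟨k1, k2⟩ := key x.natAbs (Nat.mem_divisors.2 ⟨hd1, by norm_num⟩)
    rcases Int.natAbs_eq x with e | e
    · rcases k1 (by omega) with hh | hh
      · omega
      · exact absurd (by rwa [show x.natAbs + 1 = (x + 1).natAbs by omega]) hh
    · rcases k2 (by omega) with hh | hh | hh
      · omega
      · omega
      · exact absurd (by rwa [show x.natAbs - 1 = (x + 1).natAbs by omega]) hh
  subst hx
  have hC16 : Nat.card (Subgroup.centralizer ({u} : Set G)) = 16 := by
    have h16 := CfsgLib.Perm.two_part_dvd_card_centralizer (k := 4) (by norm_num) h2' (by norm_num) hconj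
    have hle : Nat.card (Subgroup.centralizer ({u} : Set G)) ≤ 32 := by
      have hsq : (Nat.card (Subgroup.centralizer ({u} : Set G)) : ℤ) ^ 2 ≤ 32 ^ 2 := by
        have hv1 : (-16 - v) ^ 2 ≤ 32 ^ 2 := by
          apply sq_le_sq'
          · omega
          · omega
        push_cast at heq
        linarith
      have := abs_le_of_sq_le_sq hsq (by norm_num)
      rw [abs_of_nonneg (by positivity)] at this
      exact_mod_cast this
    have hdvd : Nat.card (Subgroup.centralizer ({u} : Set G)) ∣ 4080 :=
      h ▸ Subgroup.card_subgroup_dvd_card _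
    obtain ⟨j, hj⟩ := h16
    have hj0 : 0 < 2 ^ 4 * j := hj ▸ Nat.card_pos
    have hj2 : j = 1 ∨ j = 2 := by omega
    rcases hj2 with rfl | rfl
    · omega
    · rw [hj] at hdvd; norm_num at hdvd
  have hC : ∀ t : G, orderOf t = 2 → Nat.card (Subgroup.centralizer ({t} : Set G)) = 2 ^ 4 := by
    intro t ht
    obtain ⟨c, rfl⟩ := isConj_iff.1 (hconj t ht)
    rw [show (2 : ℕ) ^ 4 = 16 by norm_num, ← hC16]
    refine Nat.card_congr
      { toFun := fun x => ⟨c⁻¹ * x * c, ?_⟩
        invFun := fun x => ⟨c * x * c⁻¹, ?_⟩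
        left_inv := fun x => Subtype.ext (by show c * (c⁻¹ * x * c) * c⁻¹ = x; group)
        right_inv := fun x => Subtype.ext (by show c⁻¹ * (c * x * c⁻¹) * c = x; group) }
    · have h := Subgroup.mem_centralizer_singleton_iff.1 x.2
      rw [Subgroup.mem_centralizer_singleton_iff]
      calc c⁻¹ * x.1 * c * u = c⁻¹ * (x.1 * (c * u * c⁻¹)) * c := by group
        _ = c⁻¹ * (c * u * c⁻¹ * x.1) * c := by rw [h]
        _ = u * (c⁻¹ * x.1 * c) := by group
    · have h := Subgroup.mem_centralizer_singleton_iff.1 x.2
      rw [Subgroup.mem_centralizer_singleton_iff]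
      calc c * x.1 * c⁻¹ * (c * u * c⁻¹) = c * (x.1 * u) * c⁻¹ := by group
        _ = c * (u * x.1) * c⁻¹ := by rw [h]
        _ = c * u * c⁻¹ * (c * x.1 * c⁻¹) := by group
  -- no element of odd prime order commutes with an involution
  have hodd : ∀ (K : Subgroup G) (q : ℕ), q.Prime → q ≠ 2 → ∀ t : G, orderOf t = q →
      (∀ k ∈ K, t * k = k * t) → ¬ 2 ∣ Nat.card K := by
    intro K q hq hq2 t ht hK h2K
    obtain ⟨w, hw⟩ := exists_prime_orderOf_dvd_card' (G := K) 2 h2K
    have h := Subgroup.orderOf_dvd_natCard (Subgroup.centralizer ({(w : G)} : Set G)) (x := t)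
      (Subgroup.mem_centralizer_singleton_iff.2 (hK w w.2))
    rw [ht, hC w (by rw [Subgroup.orderOf_coe, hw])] at h
    exact hq2 ((Nat.prime_dvd_prime_iff_eq hq Nat.prime_two).1 (hq.dvd_of_dvd_pow h))
  -- the Sylow 17-subgroups are self-centralizing
  have hC17 : ∀ R : Sylow 17 G, Nat.card (Subgroup.centralizer ((R : Subgroup G) : Set G)) = 17 := by
    intro R
    rw [card_centralizer_sylow P R]
    set C := Subgroup.centralizer ((P : Subgroup G) : Set G) with hCdef
    have hCN : C ≤ Subgroup.normalizer ((P : Subgroup G) : Set G) := Subgroup.centralizer_le_normalizer _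
    have hd : Nat.card C ∣ 34 := (show Nat.card (Subgroup.normalizer ((P : Subgroup G) : Set G)) = 34 by omega) ▸
      Subgroup.card_dvd_of_le hCN
    have hPC : 17 ∣ Nat.card C := by
      refine hall P ▸ Subgroup.card_dvd_of_le fun a ha => ?_
      have hcyc : IsCyclic (P : Subgroup G) := isCyclic_of_prime_card (hall P)
      rw [hCdef, Subgroup.mem_centralizer_iff]
      intro b hb
      exact congrArg Subtype.val
        ((IsCyclic.commGroup (α := (P : Subgroup G))).mul_comm ⟨b, hb⟩ ⟨a, ha⟩)
    obtain ⟨y, hy⟩ := exists_prime_orderOf_dvd_card' (G := (P : Subgroup G)) 17 (by rw [hall])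
    have h2C := hodd C 17 (by norm_num) (by norm_num) y (by rw [Subgroup.orderOf_coe, hy]) (fun k hk =>
      (Subgroup.mem_centralizer_iff.1 hk) y y.2)
    obtain ⟨j, hj⟩ := hPC
    rw [hj] at hd h2C ⊢
    have hj2 : j ∣ 2 := Nat.dvd_of_mul_dvd_mul_left (by norm_num : 0 < 17) (by simpa using hd)
    rcases (Nat.dvd_prime Nat.prime_two).1 hj2 with rfl | rfl
    · rfl
    · exact absurd (dvd_mul_left 2 17) h2C
  have hno17 : ∀ t : G, orderOf t ≠ 1 → ¬ 17 ∣ orderOf t →
      ¬ 17 ∣ Nat.card (Subgroup.centralizer ({t} : Set G)) := by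
    intro t ht1 ht17 h17
    obtain ⟨w, hw⟩ := exists_prime_orderOf_dvd_card' (G := Subgroup.centralizer ({t} : Set G)) 17 h17
    obtain ⟨R, hR⟩ := exists_sylow_commute hall (w := (w : G)) (t := t) (by rw [Subgroup.orderOf_coe, hw])
      (Subgroup.mem_centralizer_singleton_iff.1 w.2)
    have := Subgroup.orderOf_dvd_natCard _ hR
    rw [hC17] at this
    rcases (Nat.dvd_prime (by norm_num)).1 this with e | e
    · exact ht1 e
    · exact ht17 e.symm.dvd
  -- the Sylow 5-subgroups
  obtain ⟨g1, g2, g3⟩ := CfsgLib.Perm.card_sylow_mem (p := 5) (q := 2) h5' one_ne_zero Nat.prime_two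
    (by norm_num) (by norm_num)
  have hall5 : ∀ R : Sylow 5 G, Nat.card (R : Subgroup G) = 5 := fun R => by
    rw [CfsgLib.Perm.sylow_card_eq R h5' (by norm_num), pow_one]
  obtain ⟨Q⟩ := (inferInstance : Nonempty (Sylow 5 G))
  have hNQ := CfsgLib.Perm.card_normalizer_mul_card_sylow Q
  set N5 := Subgroup.normalizer ((Q : Subgroup G) : Set G) with hN5
  set C5 := Subgroup.centralizer ((Q : Subgroup G) : Set G) with hC5def
  obtain ⟨q5, hq5⟩ := exists_prime_orderOf_dvd_card' (G := (Q : Subgroup G)) 5 (by rw [hall5])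
  have h2C5 : ¬ 2 ∣ Nat.card C5 := hodd C5 5 (by norm_num) (by norm_num) q5
    (by rw [Subgroup.orderOf_coe, hq5]) (fun k hk => (Subgroup.mem_centralizer_iff.1 hk) q5 q5.2)
  have h17C5 : ¬ 17 ∣ Nat.card C5 := fun e => hno17 q5 (by rw [Subgroup.orderOf_coe, hq5]; norm_num)
    (by rw [Subgroup.orderOf_coe, hq5]; norm_num) (e.trans (Subgroup.card_dvd_of_le fun k hk =>
      Subgroup.mem_centralizer_singleton_iff.2 ((Subgroup.mem_centralizer_iff.1 hk) q5 q5.2).symm))
  have hC5 : Nat.card C5 = 15 ∧ Nat.card (Sylow 5 G) = 136 := by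
    have hr : ∀ {a : ℕ}, Nat.card N5 = 5 * a → ∃ r, r ∣ a ∧ r ∣ 4 ∧ r ≠ 1 ∧ r * Nat.card C5 = 5 * a := by
      intro a ha
      refine ⟨C5.relIndex N5, CfsgLib.Perm.relIndex_centralizer_dvd_div _ (hall5 Q) ha,
        CfsgLib.Perm.relIndex_centralizer_dvd_sub_one _ (hall5 Q), fun e => ?_, ?_⟩
      · rw [Subgroup.relIndex_eq_one] at e
        exact CfsgLib.Perm.not_normalizer_le_centralizer Q (by rw [h]; norm_num) hne5 e
      · have h := Subgroup.index_mul_card (C5.subgroupOf N5)
        rw [Nat.card_congr (Subgroup.subgroupOfEquivOfLe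
          (Subgroup.centralizer_le_normalizer _ : C5 ≤ N5)).toEquiv, ha] at h
        exact h
    have hmem := Nat.mem_divisors.2 ⟨g1, by norm_num⟩
    rw [show (816 : ℕ).divisors = ({1, 2, 3, 4, 6, 8, 12, 16, 17, 24, 34, 48, 51, 68, 102, 136, 204, 272, 408, 816} : Finset ℕ) from by decide +kernel] at hmem
    simp only [Finset.mem_insert, Finset.mem_singleton] at hmem
    have hcases : Nat.card (Sylow 5 G) = 6 ∨ Nat.card (Sylow 5 G) = 16 ∨ Nat.card (Sylow 5 G) = 51 ∨
        Nat.card (Sylow 5 G) = 136 ∨ Nat.card (Sylow 5 G) = 816 := by omega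
    rcases hcases with e | e | e | e | e <;> rw [e, h] at hNQ
    · have hidx : N5.index = 6 := by
        have := Subgroup.card_mul_index N5
        rw [h, show Nat.card N5 = 680 by omega] at this
        omega
      have hd := CfsgLib.Perm.two_mul_card_dvd_factorial_of_index_le hG N5
        (fun e => by rw [e, Subgroup.index_top] at hidx; omega) (m := 6) (by omega)
      rw [h] at hd
      norm_num [Nat.factorial] at hd
    · obtain ⟨r, r1, r2, r3, hr⟩ := hr (a := 51) (by omega)
      have := Nat.le_of_dvd (by norm_num) r2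
      interval_cases r <;> omega
    · obtain ⟨r, r1, r2, r3, hr⟩ := hr (a := 16) (by omega)
      have := Nat.le_of_dvd (by norm_num) r2
      interval_cases r <;> omega
    · obtain ⟨r, r1, r2, r3, hr⟩ := hr (a := 6) (by omega)
      have := Nat.le_of_dvd (by norm_num) r2
      refine ⟨?_, e⟩
      interval_cases r <;> omega
    · exact absurd (CfsgLib.Perm.false_of_normalizer_coprime Q (hall5 Q) hne5 (a := 1)
        (by rw [← hN5]; omega) (by norm_num)) not_false
  have hC15 : ∀ R : Sylow 5 G, Nat.card (Subgroup.centralizer ((R : Subgroup G) : Set G)) = 15 :=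
    fun R => (card_centralizer_sylow Q R).trans hC5.1
  -- counting excludes elements of order four
  have h4 : ∀ g : G, orderOf g ≠ 4 := by
    intro g hg
    let S17 : Finset G := Finset.univ.filter fun a => orderOf a = 17
    let S15 : Finset G := Finset.univ.filter fun a => orderOf a ∣ 15 ∧ orderOf a ≠ 1
    let S2 : Finset G := Finset.univ.filter fun a => orderOf a = 2
    let S4 : Finset G := {1, g}
    have hc17 : 1920 ≤ S17.card := by
      have := card_sylow_mul_le (p := 17) (fun R => (R : Subgroup G)) (q := 17) hall S17 (fun R a ha ha1 => by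
        simp only [S17, Finset.mem_filter, Finset.mem_univ, true_and]
        have := Subgroup.orderOf_dvd_natCard _ ha
        rw [hall] at this
        exact ((Nat.dvd_prime (by norm_num)).1 this).resolve_left (fun e => ha1 (orderOf_eq_one_iff.1 e)))
        (fun R R' a ha ha1 ha2 => (CfsgLib.Perm.eq_of_smul_eq R' (hall R') ha2 ha
          (CfsgLib.Perm.smul_eq_of_mem ha1)))
      rw [hn] at this
      exact this
    have hc15 : 1904 ≤ S15.card := by
      have := card_sylow_mul_le (p := 5) (fun R => Subgroup.centralizer ((R : Subgroup G) : Set G))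
        (q := 15) hC15 S15 (fun R a ha ha1 => by
          simp only [S15, Finset.mem_filter, Finset.mem_univ, true_and]
          have hd := Subgroup.orderOf_dvd_natCard _ ha
          rw [hC15] at hd
          exact ⟨hd, fun e => ha1 (orderOf_eq_one_iff.1 e)⟩)
        (fun R R' a ha haR haR' => by
          -- a power of prime order
          obtain ⟨q, hq, hqa⟩ := Nat.exists_prime_and_dvd (fun e => ha (orderOf_eq_one_iff.1 e) : orderOf a ≠ 1)
          set s := a ^ (orderOf a / q) with hs
          have hso : orderOf s = q := by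
            rw [hs]
            exact orderOf_pow_orderOf_div (orderOf_pos a).ne' hqa
          have hd := hqa.trans ((Subgroup.orderOf_dvd_natCard _ haR).trans (hC15 R).dvd)
          have hq2 : q ≠ 2 := fun e => by rw [e] at hd; norm_num at hd
          have hq17 : ¬ 17 ∣ q := fun e => by
            have := (e.trans hd); norm_num at this
          set K := Subgroup.centralizer ({s} : Set G) with hK
          have hle : ∀ T : Sylow 5 G, a ∈ Subgroup.centralizer ((T : Subgroup G) : Set G) →
              (T : Subgroup G) ≤ K := by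
            intro T hT k hk
            rw [hK, Subgroup.mem_centralizer_singleton_iff, hs]
            exact ((show Commute k a from (Subgroup.mem_centralizer_iff.1 hT) k hk).pow_right _).eq
          have h2K : ¬ 2 ∣ Nat.card K := hodd K q hq hq2 s hso fun k hk =>
            (Subgroup.mem_centralizer_singleton_iff.1 hk).symm
          have h17K : ¬ 17 ∣ Nat.card K := hno17 s (by rw [hso]; exact hq.ne_one) (by rw [hso]; exact hq17)
          have hK15 : Nat.card K ∣ 15 := by
            have hd : Nat.card K ∣ 272 * 15 := by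
              have := Subgroup.card_subgroup_dvd_card K
              rwa [h] at this
            refine Nat.Coprime.dvd_of_dvd_mul_left ?_ hd
            rw [show (272 : ℕ) = 2 ^ 4 * 17 by norm_num]
            exact Nat.Coprime.mul_right
              (Nat.Coprime.pow_right _ ((Nat.prime_two.coprime_iff_not_dvd.2 h2K).symm))
              (((by norm_num : Nat.Prime 17).coprime_iff_not_dvd.2 h17K).symm)
          have h1 : Nat.card (Sylow 5 K) = 1 := by
            obtain ⟨T⟩ := (inferInstance : Nonempty (Sylow 5 K))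
            have hm := card_sylow_modEq_one 5 K
            have hdv : Nat.card (Sylow 5 K) ∣ 15 := T.card_dvd_index.trans ((Subgroup.index_dvd_card _).trans hK15)
            have hle := Nat.le_of_dvd (by norm_num) hdv
            unfold Nat.ModEq at hm
            generalize Nat.card (Sylow 5 K) = n at *
            interval_cases n <;> omega
          have := (Nat.card_eq_one_iff_unique.1 h1).1
          exact Sylow.subtype_injective (hP := hle R haR) (hQ := hle R' haR') (Subsingleton.elim _ _))
      rw [hC5.2] at this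
      exact this
    have hc2 : 255 ≤ S2.card := by
      have hcl : Nat.card {a : G // IsConj u a} * 16 = 4080 := by
        have h1 := Subgroup.card_mul_index (Subgroup.centralizer ({u} : Set G))
        rw [hC16, h] at h1
        have h2 : Nat.card {a : G // IsConj u a} = (Subgroup.centralizer ({u} : Set G)).index := by
          have h3 := MulAction.index_stabilizer (ConjAct G) u
          rw [ConjAct.stabilizer_eq_centralizer] at h3
          rw [Nat.card_congr (Equiv.subtypeEquivRight fun a => ?_), Nat.card_coe_set_eq]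
          · exact h3.symm
          · rw [ConjAct.mem_orbit_conjAct, isConj_comm]
        rw [h2]; omega
      have hle := Nat.card_le_card_of_injective (fun a : {a : G // IsConj u a} => (⟨a.1, by
        simp only [S2, Finset.mem_filter, Finset.mem_univ, true_and]
        obtain ⟨c, hc⟩ := isConj_iff.1 a.2
        rw [← hc, ← MulAut.conj_apply, MulEquiv.orderOf_eq, hu]⟩ : S2))
        (fun a b e => Subtype.ext (congrArg Subtype.val e :))
      rw [Nat.card_eq_fintype_card (α := S2), Fintype.card_coe] at hle
      omega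
    have hc1 : S4.card = 2 := Finset.card_pair (fun e => by rw [← e, orderOf_one] at hg; omega)
    have hsum : (S17 ∪ S15 ∪ S2 ∪ S4).card = S17.card + S15.card + S2.card + S4.card := by
      rw [Finset.card_union_of_disjoint, Finset.card_union_of_disjoint, Finset.card_union_of_disjoint]
      · rw [Finset.disjoint_left]
        intro a ha hb
        simp only [S17, S15, Finset.mem_filter, Finset.mem_univ, true_and] at ha hb
        rw [ha] at hb
        norm_num at hb
      · rw [Finset.disjoint_left]
        intro a ha hb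
        simp only [S17, S15, S2, Finset.mem_union, Finset.mem_filter, Finset.mem_univ, true_and] at ha hb
        rw [hb] at ha
        norm_num at ha
      · rw [Finset.disjoint_left]
        intro a ha hb
        simp only [S17, S15, S2, S4, Finset.mem_union, Finset.mem_filter, Finset.mem_univ, true_and,
          Finset.mem_insert, Finset.mem_singleton] at ha hb
        rcases hb with rfl | rfl
        · rw [orderOf_one] at ha; omega
        · rw [hg] at ha; norm_num at ha
    have hle := Finset.card_le_univ (S17 ∪ S15 ∪ S2 ∪ S4)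
    rw [hsum, ← Nat.card_eq_fintype_card, h] at hle
    omega
  exact CfsgLib.Perm.nonempty_iso_psl_of_no_four hG (k := 4) (by norm_num) h2' (by norm_num) hC h4
    (by rw [hF]; norm_num)

end Cfsg.Agent.S0981
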