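import Cfsg.Statements.S1021
import Cfsg.Agent.Lib.Perm.PrimeProjective

set_option autoImplicit false
open Cfsg

namespace Cfsg.Agent.S1021

/-- A simple group of order 3420 is isomorphic to the projective special linear group of dimension 2 over the field with 19 elements. -/
theorem result {G : Type*} [Group G] [Finite G] [IsSimpleGroup G] (h : Nat.card G = 3420) {F : Type*} [Field F] [Fintype F] (hF : Fintype.card F = 19) : Nonempty (G ≃* Matrix.ProjectiveSpecialLinearGroup (Fin 2) F) := by
  have : Fact (Nat.Prime 19) := ⟨by norm_num⟩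
  have h' : Nat.card G = 19 ^ 1 * 180 := by rw [h]; norm_num
  obtain ⟨h1, h2, h3⟩ := CfsgLib.Perm.card_sylow_mem (q := 2) h' one_ne_zero Nat.prime_two
    (by norm_num) (by norm_num)
  have hn : Nat.card (Sylow 19 G) = 19 + 1 := by
    have hmem := Nat.mem_divisors.2 ⟨h1, by norm_num⟩
    rw [show (180 : ℕ).divisors = ({1, 2, 3, 4, 5, 6, 9, 10, 12, 15, 18, 20, 30, 36, 45, 60, 90, 180} : Finset ℕ) from by decide +kernel] at hmem
    simp only [Finset.mem_insert, Finset.mem_singleton] at hmem
    omega
  exact CfsgLib.Perm.PrimeProjective.exists_iso (p := 19) (by norm_num) (d := 9) (by norm_num)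
    (by rw [h]) hn (ν := 2) (by decide) (by decide) (by decide +kernel) hF

end Cfsg.Agent.S1021
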