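import Cfsg.Statements.S3669
import Mathlib
import Cfsg.Prelude.Def_DegreeGraph
import Cfsg.Agent.Lib.Recog.SimpleSixty
import Cfsg.Agent.Lib.Recog.SemidirectSpectrum
import Cfsg.Agent.Lib.CharDegree.Basic
import Cfsg.Agent.Lib.Char.Monomial

set_option autoImplicit false
open Cfsg

namespace Cfsg.Agent.S3669

--- PRE
open CfsgLib.CharDegree

set_option maxRecDepth 20000

theorem card_classes : Fintype.card (ConjClasses (alternatingGroup (Fin 5))) = 5 := by decide +kernel

theorem degree_cases : ∀ a b c d : Fin 8, (∀ x ∈ [a, b, c, d], 2 ≤ (x : ℕ) ∧ (x : ℕ) ∣ 60) →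
    1 + ((a : ℕ) ^ 2 + (b : ℕ) ^ 2 + (c : ℕ) ^ 2 + (d : ℕ) ^ 2) = 60 →
    ∀ p ∈ [2, 3, 5], ∃ x ∈ [a, b, c, d], p ∣ (x : ℕ) := by decide +kernel

theorem alt_five_primes {p : ℕ} (hp : p ∈ [2, 3, 5]) :
    p ∈ Cfsg.degreePrimes (alternatingGroup (Fin 5)) := by
  classical
  set A := alternatingGroup (Fin 5)
  haveI : IsSimpleGroup A := alternatingGroup.isSimpleGroup_five
  have hA : Nat.card A = 60 := by rw [Nat.card_eq_fintype_card]; decide
  have hk : Nat.card (Cfsg.IrrCharacter A) = 5 := by
    rw [CfsgLib.Char.card_irrCharacter, Nat.card_eq_fintype_card]; exact card_classes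
  haveI : Finite (Cfsg.IrrCharacter A) := Nat.finite_of_card_ne_zero (by omega)
  haveI := Fintype.ofFinite (Cfsg.IrrCharacter A)
  let d : Cfsg.IrrCharacter A → ℕ := fun χ => Cfsg.charDegree (χ : A → ℂ)
  have hsum : ∑ χ, d χ ^ 2 = 60 := by
    have h := CfsgLib.Char.sum_sq_degree (G := A)
    rw [hA] at h
    simp only [← cast_irrDegree] at h
    exact_mod_cast h
  have hperf : commutator A = ⊤ := by
    refine (inferInstance : (commutator A).Normal).eq_bot_or_eq_top.resolve_left fun h => ?_
    have h1 := CfsgLib.Perm.not_comm_of_not_prime (G := A) (by rw [hA]; norm_num)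
    exact h1 ⟨⟨fun a b => commutatorElement_eq_one_iff_mul_comm.1 (by
      rw [← Subgroup.mem_bot, ← h]
      exact Subgroup.commutator_mem_commutator (Subgroup.mem_top a) (Subgroup.mem_top b))⟩⟩
  have hlin : Nat.card {χ : Cfsg.IrrCharacter A // d χ = 1} = 1 := by
    show Nat.card {χ : Cfsg.IrrCharacter A // Cfsg.charDegree (χ : A → ℂ) = 1} = 1
    rw [card_linear, hperf, Subgroup.index_top]
  obtain ⟨⟨χ₁, hχ₁⟩, huniq⟩ := Nat.card_eq_one_iff_unique.1 hlin |>.2 |>.elim fun x =>
    (⟨x, fun y => (Nat.card_eq_one_iff_unique.1 hlin).1.elim y x⟩ :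
      ∃ x : {χ : Cfsg.IrrCharacter A // d χ = 1}, ∀ y, y = x)
  have hrest : Nat.card {χ : Cfsg.IrrCharacter A // χ ≠ χ₁} = 4 := by
    rw [Nat.card_eq_fintype_card, Fintype.card_subtype_compl, Fintype.card_subtype_eq,
      ← Nat.card_eq_fintype_card, hk]
  let e := (Finite.equivFinOfCardEq hrest).symm
  have hs : 1 + ∑ i, d (e i).1 ^ 2 = 60 := by
    rw [Equiv.sum_comp e (fun χ => d χ.1 ^ 2), ← Finset.sum_subtype (Finset.univ.erase χ₁) (by simp)
      (fun χ => d χ ^ 2), ← hsum, ← Finset.add_sum_erase _ _ (Finset.mem_univ χ₁), hχ₁]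
    norm_num
  rw [Fin.sum_univ_four] at hs
  have hlt : ∀ i, d (e i).1 < 8 := by
    intro i
    by_contra h
    have h64 : 8 ^ 2 ≤ d (e i).1 ^ 2 := Nat.pow_le_pow_left (by omega) 2
    fin_cases i <;> simp_all <;> omega
  have hfacts : ∀ i, 2 ≤ d (e i).1 ∧ d (e i).1 ∣ 60 := fun i => by
    refine ⟨?_, hA ▸ CfsgLib.CharDegree.charDegree_dvd_card _⟩
    have h1 : 0 < d (e i).1 := charDegree_pos _
    have h2 : d (e i).1 ≠ 1 := fun h => (e i).2 (congrArg Subtype.val (huniq ⟨_, h⟩))
    omega
  obtain ⟨x, hx, hpx⟩ := degree_cases ⟨_, hlt 0⟩ ⟨_, hlt 1⟩ ⟨_, hlt 2⟩ ⟨_, hlt 3⟩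
    (by simp only [List.forall_mem_cons, List.not_mem_nil, false_imp_iff, implies_true, and_true]
        exact ⟨hfacts 0, hfacts 1, hfacts 2, hfacts 3⟩) hs p hp
  refine ⟨?_, ?_⟩
  · simp at hp; rcases hp with rfl | rfl | rfl <;> norm_num
  · simp only [List.mem_cons, List.not_mem_nil, or_false] at hx
    rcases hx with rfl | rfl | rfl | rfl <;> exact ⟨_, ⟨_, rfl⟩, hpx⟩

theorem not_dvd_of_abelian_normal {G : Type*} [Group G] [Finite G] {p : ℕ} (A : Subgroup G) [A.Normal]
    (hab : ∀ a ∈ A, ∀ b ∈ A, a * b = b * a) (hp : p ∈ Cfsg.degreePrimes G) : p ∣ A.index := by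
  obtain ⟨-, d, ⟨χ, rfl⟩, hd⟩ := hp
  obtain ⟨n, ρ, hρ, -, hn⟩ := exists_rep χ
  have h := CfsgLib.Clifford.finrank_dvd_index n ρ A hab
  rw [Module.finrank_fin_fun] at h
  exact hd.trans (hn ▸ h)

/-- The character degree graph of a finite group has as vertices the primes dividing some irreducible complex character degree, two distinct primes being joined when their product divides some irreducible character degree; two groups have the same character degree graph when they have the same vertices and the same joined pairs. A finite group of order 60 with the same character degree graph as the alternating group A₅ (whose character degrees are 1, 3, 4, 5, so the graph has vertices 2, 3, 5 and no edges) is isomorphic to A₅. -/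
theorem result {G : Type*} [Group G] [Finite G] (hcard : Nat.card G = 60)
    (hΓ : Cfsg.degreePrimes G = Cfsg.degreePrimes (alternatingGroup (Fin 5)) ∧ Cfsg.degreeGraph G = Cfsg.degreeGraph (alternatingGroup (Fin 5))) : Nonempty (G ≃* alternatingGroup (Fin 5)) := by
  have hpr : ∀ p ∈ [2, 3, 5], p ∈ Cfsg.degreePrimes G := fun p hp => hΓ.1 ▸ alt_five_primes hp
  have hsimple : IsSimpleGroup G := by
    haveI : Nontrivial G := Finite.one_lt_card_iff_nontrivial.1 (by omega)
    by_contra hns
    have hsol : Group.IsSolvable G := by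
      obtain ⟨N, hN, hN0, hN1⟩ : ∃ N : Subgroup G, N.Normal ∧ N ≠ ⊥ ∧ N ≠ ⊤ := by
        by_contra h
        push Not at h
        exact hns ⟨fun H hH => or_iff_not_imp_left.2 (h H hH)⟩
      have hmul := N.card_mul_index
      rw [hcard] at hmul
      haveI : Group.IsSolvable N := CfsgLib.Recog.Sixty.isSolvable_of_dvd_sixty
        ⟨N.index, hmul.symm⟩ (fun h => hN1 (Subgroup.eq_top_of_card_eq N (h.trans hcard.symm)))
      haveI : Group.IsSolvable (G ⧸ N) := CfsgLib.Recog.Sixty.isSolvable_of_dvd_sixty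
        (by rw [← Subgroup.index_eq_card]; exact ⟨Nat.card N, by linarith⟩)
        (fun h => hN0 (Subgroup.card_eq_one.1 (by rw [← Subgroup.index_eq_card] at h; rw [h] at hmul; omega)))
      exact Group.isSolvable_of_ker_le_range N.subtype (QuotientGroup.mk' N)
        (by rw [QuotientGroup.ker_mk', Subgroup.range_subtype])
    obtain ⟨V, p, hVn, hp, hV, hab, hexp⟩ := CfsgLib.Recog.Spectrum.exists_elementary_of_solvable
      (⊤ : Subgroup G) top_ne_bot inferInstance
    haveI := hVn
    have hab' : ∀ a ∈ V, ∀ b ∈ V, a * b = b * a := fun a ha b hb => congrArg Subtype.val (hab ⟨a, ha⟩ ⟨b, hb⟩)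
    haveI := Fact.mk hp
    obtain ⟨k, hk⟩ := IsPGroup.iff_card.1 (fun x : V => ⟨1, by rw [pow_one]; exact hexp x⟩ : IsPGroup p V)
    have hmul := V.card_mul_index
    rw [hcard, hk] at hmul
    have hk0 : k ≠ 0 := fun h0 => hV (Subgroup.card_eq_one.1 (by rw [hk, h0, pow_zero]))
    have h2 := not_dvd_of_abelian_normal V hab' (hpr 2 (by simp))
    have h3 := not_dvd_of_abelian_normal V hab' (hpr 3 (by simp))
    have h5 := not_dvd_of_abelian_normal V hab' (hpr 5 (by simp))
    have h30 : V.index = 30 ∨ V.index = 60 := by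
      have hd : V.index ∣ 60 := ⟨p ^ k, by linarith⟩
      have h30d : 30 ∣ V.index := by
        have := Nat.Coprime.mul_dvd_of_dvd_of_dvd (by norm_num) (Nat.Coprime.mul_dvd_of_dvd_of_dvd (by norm_num) h2 h3) h5
        simpa using this
      obtain ⟨c, hc⟩ := h30d
      have := Nat.le_of_dvd (by norm_num) hd
      rw [hc] at this ⊢
      have hc0 : c ≠ 0 := fun h0 => by rw [h0, mul_zero] at hc; exact Subgroup.index_ne_zero_of_finite hc
      omega
    rcases h30 with h30 | h30
    · rw [h30] at hmul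
      have hV2 : Nat.card V = 2 := by rw [hk]; omega
      obtain ⟨M, hM, hM5⟩ := CfsgLib.Recog.Sixty.exists_normal_five (G := G ⧸ V) (by rw [← Subgroup.index_eq_card, h30])
      set W := M.comap (QuotientGroup.mk' V) with hW
      haveI : W.Normal := hM.comap _
      have hVc : V ≤ Subgroup.center G := by
        intro v hv
        rw [Subgroup.mem_center_iff]
        intro g
        have hv' : g * v * g⁻¹ ∈ V := hVn.conj_mem v hv g
        obtain ⟨a, ha⟩ : ∃ a : V, ∀ x : V, x = 1 ∨ x = a := by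
          rcases (Nat.card_eq_two_iff' (1 : V)).1 hV2 with ⟨a, -, hu⟩
          exact ⟨a, fun x => or_iff_not_imp_left.2 fun hx => hu x hx⟩
        rcases ha ⟨v, hv⟩ with e | e
        · rw [show v = 1 from congrArg Subtype.val e, mul_one, one_mul]
        · rcases ha ⟨_, hv'⟩ with e' | e'
          · have : g * v * g⁻¹ = 1 := congrArg Subtype.val e'
            have hv1 : v = 1 := conj_eq_one_iff.1 this
            rw [hv1, mul_one, one_mul]
          · have : g * v * g⁻¹ = v := congrArg Subtype.val (e'.trans e.symm)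
            exact mul_inv_eq_iff_eq_mul.1 this
      haveI : Fact (Nat.Prime 5) := ⟨by norm_num⟩
      haveI : IsCyclic M := isCyclic_of_prime_card (p := 5) hM5
      have hWab : ∀ a ∈ W, ∀ b ∈ W, a * b = b * a := by
        obtain ⟨m, hm⟩ := IsCyclic.exists_generator (α := M)
        obtain ⟨w, hw⟩ := QuotientGroup.mk_surjective (m : G ⧸ V)
        have key : ∀ a ∈ W, ∃ (i : ℤ), ∃ v ∈ V, a = w ^ i * v := by
          intro a ha
          obtain ⟨i, hi⟩ := Subgroup.mem_zpowers_iff.1 (hm ⟨QuotientGroup.mk' V a, ha⟩)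
          refine ⟨i, (w ^ i)⁻¹ * a, ?_, by group⟩
          rw [← QuotientGroup.eq_one_iff, QuotientGroup.mk_mul, QuotientGroup.mk_inv, QuotientGroup.mk_zpow, hw,
            inv_mul_eq_one]
          exact congrArg Subtype.val hi
        intro a ha b hb
        obtain ⟨i, v, hv, rfl⟩ := key a ha
        obtain ⟨j, u, hu, rfl⟩ := key b hb
        have c1 : ∀ z : G, z * v = v * z := Subgroup.mem_center_iff.1 (hVc hv)
        have c2 : ∀ z : G, z * u = u * z := Subgroup.mem_center_iff.1 (hVc hu)
        rw [c1, c2, mul_assoc v, mul_assoc u, ← mul_assoc (w ^ i) u, c2 (w ^ i), ← mul_assoc (w ^ j) v,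
          c1 (w ^ j), mul_assoc u, mul_assoc v, ← zpow_add, ← zpow_add, add_comm i j, ← mul_assoc, ← mul_assoc,
          c2 v]
      have h := not_dvd_of_abelian_normal W hWab (hpr 5 (by simp))
      rw [hW, Subgroup.index_comap_of_surjective _ (QuotientGroup.mk'_surjective V)] at h
      have := M.card_mul_index
      rw [hM5, ← Subgroup.index_eq_card, h30] at this
      omega
    · rw [h30] at hmul
      have : 1 < p ^ k := Nat.one_lt_pow hk0 hp.one_lt
      omega
  exact CfsgLib.Recog.Sixty.iso_alt_five hcard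

end Cfsg.Agent.S3669
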