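import Cfsg.Statements.S0168
import Cfsg.Agent.Lib.Char.Basic
import Cfsg.Agent.Lib.Char.Integral
import Mathlib.LinearAlgebra.Lagrange

set_option autoImplicit false
open Cfsg
open scoped ComplexConjugate

namespace Cfsg.Agent.S0168

/-- The Burnside–Brauer Theorem. Let χ be the character of a faithful complex representation of a finite group, taking m distinct values. Then every irreducible character has nonzero inner product with χ ^ i for some i < m. -/
theorem result {G : Type*} [Group G] [Fintype G] {V : Type*} [AddCommGroup V] [Module ℂ V] [FiniteDimensional ℂ V] (ρ : Representation ℂ G V) (hfaithful : Function.Injective ρ) (ψ : G → ℂ) (hψ : Cfsg.IsIrrCharacter G ψ) : ∃ i : ℕ, i < Nat.card (Set.range ρ.character) ∧ Cfsg.classInner (fun g => ρ.character g ^ i) ψ ≠ 0 := by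
  classical
  by_contra hcon
  push Not at hcon
  set s : Finset ℂ := Finset.univ.image ρ.character with hs
  have hcard : Nat.card (Set.range ρ.character) = s.card := by
    rw [hs, Nat.card_coe_set_eq, Set.ncard_eq_toFinset_card _ (Set.toFinite _)]
    congr 1
    ext
    simp
  rw [hcard] at hcon
  have hmem : ρ.character 1 ∈ s := Finset.mem_image_of_mem _ (Finset.mem_univ 1)
  set P : Polynomial ℂ := ∏ a ∈ s.erase (ρ.character 1), (Polynomial.X - Polynomial.C a) with hP
  have hPdeg : P.natDegree < s.card := by
    rw [hP, Polynomial.natDegree_prod _ _ fun a _ => Polynomial.X_sub_C_ne_zero a]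
    simp only [Polynomial.natDegree_X_sub_C, Finset.sum_const, smul_eq_mul, mul_one]
    exact Finset.card_lt_card (Finset.erase_ssubset hmem)
  have hsum : ∑ g : G, P.eval (ρ.character g) * conj (ψ g) = 0 := by
    simp only [Polynomial.eval_eq_sum_range' hPdeg, Finset.sum_mul]
    rw [Finset.sum_comm]
    refine Finset.sum_eq_zero fun i hi => ?_
    have h := hcon i (Finset.mem_range.mp hi)
    rw [Cfsg.classInner, mul_eq_zero, inv_eq_zero, Nat.cast_eq_zero,
      or_iff_right Nat.card_pos.ne'] at h
    rw [Finset.sum_congr rfl (g := fun g => P.coeff i * (ρ.character g ^ i * conj (ψ g))),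
      ← Finset.mul_sum, h, mul_zero]
    exact fun g _ => by ring
  rw [Finset.sum_eq_single 1] at hsum
  · rcases mul_eq_zero.mp hsum with h | h
    · rw [hP, Polynomial.eval_prod, Finset.prod_eq_zero_iff] at h
      obtain ⟨a, ha, h0⟩ := h
      rw [Polynomial.eval_sub, Polynomial.eval_X, Polynomial.eval_C, sub_eq_zero] at h0
      exact (Finset.mem_erase.mp ha).1 h0.symm
    · exact CfsgLib.Char.IsIrr.apply_one_ne_zero hψ
        ((map_eq_zero (starRingEnd ℂ)).mp h)
  · intro g _ hg
    rw [hP, Polynomial.eval_prod, Finset.prod_eq_zero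
      (i := ρ.character g), zero_mul]
    · refine Finset.mem_erase.mpr ⟨fun h => hg ?_, Finset.mem_image_of_mem _ (Finset.mem_univ g)⟩
      rw [Representation.char_one] at h
      exact hfaithful (((CfsgLib.CharIntegral.character_eq_finrank_iff ρ g).mp h).trans (map_one ρ).symm)
    · simp
  · simp

end Cfsg.Agent.S0168
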