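import Cfsg.Statements.S4345
import Cfsg.Agent.Lib.HallGen.SylowNumber

set_option autoImplicit false
open Cfsg

namespace Cfsg.Agent.S4345

open CfsgLib.HallGen in
theorem partsOne_of_isSolvable (p : ℕ) [Fact p.Prime] : ∀ n : ℕ, ∀ (G : Type*) [Group G] [Finite G],
    Nat.card G = n → Group.IsSolvable G → PartsOne p (Nat.card (Sylow p G)) := by
  intro n
  induction n using Nat.strong_induction_on with
  | _ n ih =>
    intro G _ _ hn hG
    subst hn
    have hnormal : (∀ P : Sylow p G, (P : Subgroup G).Normal) → PartsOne p (Nat.card (Sylow p G)) := by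
      intro h
      let P : Sylow p G := default
      haveI := h P
      have e : Nat.card (Sylow p G) = 1 := by
        rw [P.card_eq_index_normalizer]
        exact Subgroup.index_eq_one.2 (Subgroup.normalizer_eq_top (P : Subgroup G))
      rw [e]; exact PartsOne.one
    rcases subsingleton_or_nontrivial G with h | h
    · exact hnormal fun P => ⟨fun a ha b => by rwa [Subsingleton.elim (b * a * b⁻¹) a]⟩
    obtain ⟨r, hr, hne⟩ := exists_pCore_ne_bot hG
    haveI := Fact.mk hr
    haveI := pCore_normal' (G := G) r
    set K := Cfsg.pCore r G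
    by_cases htop : K = ⊤
    · haveI : Group.IsNilpotent G :=
        ((isPGroup_pCore (G := G) r).of_equiv
          ((MulEquiv.subgroupCongr htop).trans Subgroup.topEquiv)).isNilpotent
      exact hnormal fun P => inferInstance
    · haveI := hG
      have h1 : PartsOne p (Nat.card (Sylow p (G ⧸ K))) :=
        ih _ (CfsgLib.Core.card_quotient_lt K hne) _ rfl inferInstance
      have h2 : PartsOne p (Nat.card (Sylow p K)) :=
        ih _ (CfsgLib.Core.card_subgroup_lt K htop) _ rfl inferInstance
      rw [card_sylow_product K default _ rfl]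
      exact (h1.mul h2).mul (partsOne_card_sylow_third K default _ rfl)


/-- Let G be a finite solvable group and p, ℓ primes. Then the largest power of ℓ dividing the number of Sylow p-subgroups of G is congruent to 1 modulo p. -/
theorem result {G : Type*} [Group G] [Finite G]
    (hG : Group.IsSolvable G) (p ℓ : ℕ) [Fact p.Prime] (hℓ : ℓ.Prime) :
    ℓ ^ (Nat.card (Sylow p G)).factorization ℓ ≡ 1 [MOD p] := by
  suffices h : CfsgLib.HallGen.PartsOne p (Nat.card (Sylow p G)) from h.2 ℓ hℓ
  exact partsOne_of_isSolvable p (Nat.card G) G rfl hG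
end Cfsg.Agent.S4345
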