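import Cfsg.Statements.S4200
import Cfsg.Agent.Lib.ClassSizes.Counting

set_option autoImplicit false
open Cfsg

namespace Cfsg.Agent.S4200

open CfsgLib.ClassSizes in
theorem aux {X : Type*} [Group X] [Fintype X] (Y : Subgroup X) [Fintype Y] :
    Nat.card (ConjClasses Y) ≤ Y.index * Nat.card (ConjClasses X) ∧
    Nat.card (ConjClasses X) ≤ Y.index * Nat.card (ConjClasses Y) ∧
    (¬ Y.Normal → Nat.card (ConjClasses X) < Y.index * Nat.card (ConjClasses Y)) := by
  set i := Y.index
  have hX := sum_card_centralizer X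
  have hY := sum_card_centralizer Y
  have hcard := Y.card_mul_index
  have hYpos : 0 < Nat.card Y := Nat.card_pos
  -- centralizers in `Y`
  have hc : ∀ x : X, Nat.card ↥(Subgroup.centralizer ({x} : Set X) ⊓ Y) * Y.relIndex (Subgroup.centralizer ({x} : Set X)) =
      Nat.card (Subgroup.centralizer ({x} : Set X)) :=
    fun x => card_inf_mul_relIndex _ _
  have hcy : ∀ y : Y, Nat.card (Subgroup.centralizer ({y} : Set Y)) =
      Nat.card ↥(Subgroup.centralizer ({(y : X)} : Set X) ⊓ Y) := fun y => Nat.card_congr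
    { toFun := fun z => ⟨z.1.1, Subgroup.mem_centralizer_singleton_iff.2
          (congrArg Subtype.val (Subgroup.mem_centralizer_singleton_iff.1 z.2)), z.1.2⟩
      invFun := fun z => ⟨⟨z.1, z.2.2⟩, Subgroup.mem_centralizer_singleton_iff.2
          (Subtype.ext (Subgroup.mem_centralizer_singleton_iff.1 z.2.1))⟩
      left_inv := fun _ => rfl
      right_inv := fun _ => rfl }
  -- commuting pairs in `X × Y`
  have swap : ∑ x : X, Nat.card ↥(Subgroup.centralizer ({x} : Set X) ⊓ Y) =
      ∑ y : Y, Nat.card (Subgroup.centralizer ({(y : X)} : Set X)) := by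
    rw [← Nat.card_sigma, ← Nat.card_sigma]
    exact Nat.card_congr
      { toFun := fun a => ⟨⟨a.2.1, a.2.2.2⟩, a.1,
          Subgroup.mem_centralizer_singleton_iff.2 (Subgroup.mem_centralizer_singleton_iff.1 a.2.2.1).symm⟩
        invFun := fun a => ⟨a.2.1, a.1.1,
          Subgroup.mem_centralizer_singleton_iff.2 (Subgroup.mem_centralizer_singleton_iff.1 a.2.2).symm, a.1.2⟩
        left_inv := fun _ => rfl
        right_inv := fun _ => rfl }
  refine ⟨?_, ?_, fun hn => ?_⟩
  · have h1 : Nat.card (ConjClasses Y) * Nat.card Y ≤ Nat.card (ConjClasses X) * Nat.card X := by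
      rw [← hX, ← hY]
      calc ∑ y : Y, Nat.card (Subgroup.centralizer ({y} : Set Y))
          ≤ ∑ y : Y, Nat.card (Subgroup.centralizer ({(y : X)} : Set X)) :=
            Finset.sum_le_sum fun y _ => (hcy y).trans_le
              (Nat.le_of_dvd Nat.card_pos (Subgroup.card_dvd_of_le inf_le_left))
        _ = ∑ x ∈ Finset.univ.map ⟨Subtype.val, Subtype.val_injective⟩,
              Nat.card (Subgroup.centralizer ({x} : Set X)) := by
            rw [Finset.sum_map]; rfl
        _ ≤ _ := Finset.sum_le_sum_of_subset (Finset.subset_univ _)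
    rw [← hcard] at h1
    exact Nat.le_of_mul_le_mul_right (le_trans h1 (le_of_eq (by ring))) hYpos
  · have h1 : Nat.card (ConjClasses X) * Nat.card X ≤ i * (i * (Nat.card (ConjClasses Y) * Nat.card Y)) := by
      rw [← hX, ← hY]
      calc ∑ x : X, Nat.card (Subgroup.centralizer ({x} : Set X))
          ≤ ∑ x : X, i * Nat.card ↥(Subgroup.centralizer ({x} : Set X) ⊓ Y) :=
            Finset.sum_le_sum fun x _ => by
              rw [← hc x, mul_comm]; exact Nat.mul_le_mul_right _ (relIndex_le_index _ _)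
        _ = i * ∑ y : Y, Nat.card (Subgroup.centralizer ({(y : X)} : Set X)) := by
            rw [← Finset.mul_sum, swap]
        _ ≤ i * ∑ y : Y, i * Nat.card (Subgroup.centralizer ({y} : Set Y)) :=
            Nat.mul_le_mul_left _ (Finset.sum_le_sum fun y _ => by
              rw [hcy, ← hc (y : X), mul_comm]; exact Nat.mul_le_mul_right _ (relIndex_le_index _ _))
        _ = _ := by rw [← Finset.mul_sum]
    rw [← hcard] at h1
    exact Nat.le_of_mul_le_mul_right (le_trans h1 (le_of_eq (by ring)))
      (Nat.mul_pos hYpos (Nat.pos_of_ne_zero Subgroup.index_ne_zero_of_finite))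
  · obtain ⟨y, hy⟩ : ∃ y : Y, Y.relIndex (Subgroup.centralizer ({(y : X)} : Set X)) < i := by
      by_contra! h
      refine hn ⟨fun n hn' g => ?_⟩
      have heq := le_antisymm (relIndex_le_index Y (Subgroup.centralizer ({n} : Set X))) (h ⟨n, hn'⟩)
      obtain ⟨a, ha, b, hb, hab⟩ := exists_mul_of_relIndex_eq_index heq g⁻¹
      rw [Subgroup.mem_centralizer_singleton_iff] at ha
      rw [show g = b⁻¹ * a⁻¹ by rw [← mul_inv_rev, ← hab, inv_inv],
        show b⁻¹ * a⁻¹ * n * (b⁻¹ * a⁻¹)⁻¹ = b⁻¹ * (a⁻¹ * (n * a)) * b by group, ← ha,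
        show b⁻¹ * (a⁻¹ * (a * n)) * b = b⁻¹ * n * b by group]
      exact mul_mem (mul_mem (inv_mem hb) hn') hb
    have hipos : 0 < i := Nat.pos_of_ne_zero Subgroup.index_ne_zero_of_finite
    have h1 : Nat.card (ConjClasses X) * Nat.card X < i * (i * (Nat.card (ConjClasses Y) * Nat.card Y)) := by
      rw [← hX, ← hY]
      calc ∑ x : X, Nat.card (Subgroup.centralizer ({x} : Set X))
          ≤ ∑ x : X, i * Nat.card ↥(Subgroup.centralizer ({x} : Set X) ⊓ Y) :=
            Finset.sum_le_sum fun x _ => by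
              rw [← hc x, mul_comm]; exact Nat.mul_le_mul_right _ (relIndex_le_index _ _)
        _ = i * ∑ y : Y, Nat.card (Subgroup.centralizer ({(y : X)} : Set X)) := by
            rw [← Finset.mul_sum, swap]
        _ < i * ∑ y : Y, i * Nat.card (Subgroup.centralizer ({y} : Set Y)) := by
            refine Nat.mul_lt_mul_of_pos_left (Finset.sum_lt_sum (fun z _ => ?_) ⟨y, Finset.mem_univ _, ?_⟩) hipos
            · rw [hcy, ← hc (z : X), mul_comm]; exact Nat.mul_le_mul_right _ (relIndex_le_index _ _)
            · rw [hcy, ← hc (y : X), mul_comm]; exact Nat.mul_lt_mul_of_pos_right hy Nat.card_pos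
        _ = _ := by rw [← Finset.mul_sum]
    rw [← hcard] at h1
    exact Nat.lt_of_mul_lt_mul_right (lt_of_lt_of_eq h1 (show _ = i * Nat.card (ConjClasses Y) * (Nat.card Y * i) by ring))

/-- Let Y be a subgroup of the finite group X, of index m. Then the numbers of conjugacy classes satisfy k(Y) ≤ m·k(X) and k(X) ≤ m·k(Y), and the second inequality is strict unless Y is normal in X. -/
theorem result {X : Type*} [Group X] [Finite X] (Y : Subgroup X) : Nat.card (ConjClasses Y) ≤ Y.index * Nat.card (ConjClasses X) ∧ Nat.card (ConjClasses X) ≤ Y.index * Nat.card (ConjClasses Y) ∧ (¬ Y.Normal → Nat.card (ConjClasses X) < Y.index * Nat.card (ConjClasses Y)) := by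
  have := Fintype.ofFinite X
  have := Fintype.ofFinite Y
  exact aux Y

end Cfsg.Agent.S4200
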