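import Cfsg.Statements.S4201
import Cfsg.Agent.Lib.ClassSizes.Counting

set_option autoImplicit false
open Cfsg

namespace Cfsg.Agent.S4201

open CfsgLib.ClassSizes in
theorem aux {X : Type*} [Group X] [Fintype X] (N : Subgroup X) [N.Normal] [Fintype N] [Fintype (X ⧸ N)] :
    Nat.card (ConjClasses X) ≤ Nat.card (ConjClasses N) * Nat.card (ConjClasses (X ⧸ N)) := by
  classical
  have hX := sum_card_centralizer X
  have hQ := sum_card_centralizer (X ⧸ N)
  have hNn := sum_card_centralizer N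
  have key : ∀ x : X, Nat.card (Subgroup.centralizer ({x} : Set X)) ≤
      Nat.card (Subgroup.centralizer ({(x : X ⧸ N)} : Set (X ⧸ N))) *
        Nat.card ↥(Subgroup.centralizer ({x} : Set X) ⊓ N) := by
    intro x
    rw [← card_inf_mul_relIndex (Subgroup.centralizer ({x} : Set X)) N, mul_comm]
    refine Nat.mul_le_mul_right _ ?_
    have h := Subgroup.relIndex_ker (K := Subgroup.centralizer ({x} : Set X)) (QuotientGroup.mk' N)
    rw [QuotientGroup.ker_mk'] at h
    rw [h]
    refine Nat.le_of_dvd Nat.card_pos (Subgroup.card_dvd_of_le ?_)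
    rintro _ ⟨z, hz, rfl⟩
    rw [Subgroup.mem_centralizer_singleton_iff]
    exact congrArg (QuotientGroup.mk' N) (Subgroup.mem_centralizer_singleton_iff.1 hz)
  -- the commuting pairs over one coset
  have coset : ∀ q : X ⧸ N, ∑ x ∈ Finset.univ.filter (fun x : X => (x : X ⧸ N) = q),
      Nat.card ↥(Subgroup.centralizer ({x} : Set X) ⊓ N) ≤ Nat.card (ConjClasses N) * Nat.card N := by
    intro q
    rw [← hNn, ← Nat.card_sigma, ← Finset.sum_coe_sort, ← Nat.card_sigma]
    have hex : ∀ n : N, ∃ w : X, ∀ z : X, (z : X ⧸ N) = q → z * n = n * z → (w : X ⧸ N) = q ∧ w * n = n * w := by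
      intro n
      by_cases h : ∃ z : X, (z : X ⧸ N) = q ∧ z * n = n * z
      · obtain ⟨z, hz⟩ := h; exact ⟨z, fun _ _ _ => hz⟩
      · exact ⟨1, fun z hz hz' => absurd ⟨z, hz, hz'⟩ h⟩
    choose w hw using hex
    refine Nat.card_le_card_of_injective
      (fun a => ⟨⟨a.2.1, a.2.2.2⟩, ⟨(w ⟨a.2.1, a.2.2.2⟩)⁻¹ * a.1.1, ?_⟩, ?_⟩) ?_
    · obtain ⟨h1, -⟩ := hw ⟨a.2.1, a.2.2.2⟩ a.1.1 (Finset.mem_filter.1 a.1.2).2
        (Subgroup.mem_centralizer_singleton_iff.1 a.2.2.1).symm
      rw [← QuotientGroup.eq, h1, (Finset.mem_filter.1 a.1.2).2]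
    · obtain ⟨-, h2⟩ := hw ⟨a.2.1, a.2.2.2⟩ a.1.1 (Finset.mem_filter.1 a.1.2).2
        (Subgroup.mem_centralizer_singleton_iff.1 a.2.2.1).symm
      rw [Subgroup.mem_centralizer_singleton_iff]
      apply Subtype.ext
      exact ((show Commute (w ⟨a.2.1, a.2.2.2⟩) (a.2.1) from h2).inv_left.mul_left
        (show Commute a.1.1 a.2.1 from (Subgroup.mem_centralizer_singleton_iff.1 a.2.2.1).symm))
    · rintro ⟨⟨x, hx⟩, ⟨n, hn⟩⟩ ⟨⟨x', hx'⟩, ⟨n', hn'⟩⟩ h
      simp only [Sigma.mk.injEq] at h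
      obtain ⟨h1, h2⟩ := h
      obtain rfl : n = n' := congrArg Subtype.val h1
      simp only [heq_eq_eq, Subtype.mk.injEq, mul_left_cancel_iff] at h2
      subst h2
      rfl
  have h1 : Nat.card (ConjClasses X) * Nat.card X ≤
      Nat.card (ConjClasses N) * Nat.card N * (Nat.card (ConjClasses (X ⧸ N)) * Nat.card (X ⧸ N)) := by
    rw [← hX, ← hQ, Finset.mul_sum, ← Finset.sum_fiberwise Finset.univ (fun x : X => (x : X ⧸ N))]
    refine Finset.sum_le_sum fun q _ => ?_
    calc ∑ x ∈ Finset.univ.filter (fun x : X => (x : X ⧸ N) = q), Nat.card (Subgroup.centralizer ({x} : Set X))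
        ≤ ∑ x ∈ Finset.univ.filter (fun x : X => (x : X ⧸ N) = q),
            Nat.card (Subgroup.centralizer ({q} : Set (X ⧸ N))) * Nat.card ↥(Subgroup.centralizer ({x} : Set X) ⊓ N) :=
          Finset.sum_le_sum fun x hx => by rw [← (Finset.mem_filter.1 hx).2]; exact key x
      _ ≤ _ := by rw [← Finset.mul_sum, mul_comm]; exact Nat.mul_le_mul_right _ (coset q)
  rw [show Nat.card X = Nat.card N * Nat.card (X ⧸ N) by rw [Subgroup.card_eq_card_quotient_mul_card_subgroup N, mul_comm]] at h1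
  exact Nat.le_of_mul_le_mul_right (le_trans h1 (le_of_eq (by ring))) (Nat.mul_pos Nat.card_pos Nat.card_pos)

/-- If N is a normal subgroup of the finite group X then k(X) ≤ k(N)·k(X ⧸ N), where k denotes the number of conjugacy classes. -/
theorem result {X : Type*} [Group X] [Finite X] (N : Subgroup X) [N.Normal] : Nat.card (ConjClasses X) ≤ Nat.card (ConjClasses N) * Nat.card (ConjClasses (X ⧸ N)) := by
  have := Fintype.ofFinite X
  have := Fintype.ofFinite N
  have := Fintype.ofFinite (X ⧸ N)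
  exact aux N

end Cfsg.Agent.S4201
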