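import Cfsg.Statements.S4160


set_option autoImplicit false
open Cfsg

namespace Cfsg.Agent.S4160

open Subgroup in
theorem cover_of_coprime.{u} {G : Type u} [Group G] [Finite G] {p : ℕ} [Fact p.Prime] (P : Sylow p G) {x : G}
    (hx : ¬ p ∣ (centralizer ({x} : Set G)).index) :
    ∃ (t : G ⧸ normalizer ((P : Subgroup G) : Set G)) (c : G), c ∈ centralizer ((P : Subgroup G) : Set G) ∧
      x = t.out * c * t.out⁻¹ := by
  have hp := (Fact.out : p.Prime)
  obtain ⟨S⟩ : Nonempty (Sylow p (centralizer ({x} : Set G))) := inferInstance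
  obtain ⟨T, hT⟩ := (S.isPGroup'.map (centralizer ({x} : Set G)).subtype).exists_le_sylow
  have hTle : (T : Subgroup G) ≤ centralizer ({x} : Set G) := by
    refine (eq_of_le_of_card_ge hT ?_).ge.trans (map_subtype_le _)
    rw [← Nat.card_congr (equivMapOfInjective (S : Subgroup (centralizer ({x} : Set G))) _ (subtype_injective _)).toEquiv,
      T.card_eq_multiplicity]
    refine Nat.le_of_dvd Nat.card_pos (S.pow_dvd_card_of_pow_dvd_card ?_)
    have hd := Nat.ordProj_dvd (Nat.card G) p
    rw [← (centralizer ({x} : Set G)).index_mul_card] at hd ⊢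
    exact (((hp.coprime_iff_not_dvd).2 hx).pow_left _).dvd_of_dvd_mul_left hd
  obtain ⟨g, rfl⟩ := MulAction.exists_smul_eq G P T
  set t : G ⧸ normalizer ((P : Subgroup G) : Set G) := (g : G ⧸ normalizer ((P : Subgroup G) : Set G))
  have hn : g⁻¹ * t.out ∈ normalizer ((P : Subgroup G) : Set G) :=
    QuotientGroup.eq.1 (QuotientGroup.out_eq' t).symm
  refine ⟨t, t.out⁻¹ * x * t.out, mem_centralizer_iff.2 fun a ha => ?_, by group⟩
  have h1 : (g⁻¹ * t.out) * a * (g⁻¹ * t.out)⁻¹ ∈ (P : Subgroup G) := (mem_normalizer_iff.1 hn a).1 ha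
  have h2 : g * ((g⁻¹ * t.out) * a * (g⁻¹ * t.out)⁻¹) * g⁻¹ ∈ centralizer ({x} : Set G) := hTle (by
    rw [Sylow.coe_subgroup_smul]
    exact ⟨_, h1, rfl⟩)
  have h3 := mem_centralizer_singleton_iff.1 h2
  calc a * (t.out⁻¹ * x * t.out)
      = t.out⁻¹ * (g * ((g⁻¹ * t.out) * a * (g⁻¹ * t.out)⁻¹) * g⁻¹ * x) * t.out := by group
    _ = t.out⁻¹ * (x * (g * ((g⁻¹ * t.out) * a * (g⁻¹ * t.out)⁻¹) * g⁻¹)) * t.out := by rw [h3]
    _ = t.out⁻¹ * x * t.out * a := by group

open Subgroup in
theorem bound.{u} {G : Type u} [Group G] [Finite G] {p : ℕ} [Fact p.Prime] (P : Sylow p G)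
    (hne : ¬ normalizer ((P : Subgroup G) : Set G) ≤ centralizer ((P : Subgroup G) : Set G)) :
    2 * (Nat.card (G ⧸ normalizer ((P : Subgroup G) : Set G)) *
      Nat.card {c : centralizer ((P : Subgroup G) : Set G) // c ≠ 1}) + 2 ≤ Nat.card G := by
  classical
  set N := normalizer ((P : Subgroup G) : Set G)
  set C := centralizer ((P : Subgroup G) : Set G)
  have hCN : C ≤ N := centralizer_le_normalizer _
  have h1 := N.index_mul_card
  have h2 : 2 * Nat.card C ≤ Nat.card N := by
    rw [← Nat.card_congr (subgroupOfEquivOfLe hCN).toEquiv, ← (C.subgroupOf N).index_mul_card]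
    refine Nat.mul_le_mul_right _ ?_
    have h0 : (C.subgroupOf N).index ≠ 0 := index_ne_zero_of_finite
    have h1 : (C.subgroupOf N).index ≠ 1 := fun h => hne (subgroupOf_eq_top.1 (index_eq_one.1 h))
    omega
  have h3 : Nat.card {c : C // c ≠ 1} + 1 = Nat.card C := by
    haveI := Fintype.ofFinite C
    rw [Nat.card_eq_fintype_card, Nat.card_eq_fintype_card, Fintype.card_subtype_compl, Fintype.card_subtype_eq]
    have := Fintype.card_pos (α := C)
    omega
  rw [← index_eq_card]
  have hpos : 0 < N.index := Nat.pos_of_ne_zero index_ne_zero_of_finite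
  nlinarith [Nat.mul_le_mul_left N.index h2]

open Subgroup in
theorem main.{u} {G : Type u} [Group G] [Finite G] (p q : ℕ) (hp : p.Prime) (hq : q.Prime) (hpq : p ≠ q)
    (h : ∀ x : G, ¬ p * q ∣ (centralizer ({x} : Set G)).index) :
    Cfsg.HasNormalPComplement p G ∨ Cfsg.HasNormalPComplement q G := by
  classical
  haveI := Fact.mk hp
  haveI := Fact.mk hq
  obtain ⟨P⟩ : Nonempty (Sylow p G) := inferInstance
  obtain ⟨Q⟩ : Nonempty (Sylow q G) := inferInstance
  by_cases hP : normalizer ((P : Subgroup G) : Set G) ≤ centralizer ((P : Subgroup G) : Set G)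
  · exact Or.inl ⟨P, _, inferInstance, MonoidHom.ker_transferSylow_isComplement' P hP⟩
  by_cases hQ : normalizer ((Q : Subgroup G) : Set G) ≤ centralizer ((Q : Subgroup G) : Set G)
  · exact Or.inr ⟨Q, _, inferInstance, MonoidHom.ker_transferSylow_isComplement' Q hQ⟩
  exfalso
  let Dp := (G ⧸ normalizer ((P : Subgroup G) : Set G)) × {c : centralizer ((P : Subgroup G) : Set G) // c ≠ 1}
  let Dq := (G ⧸ normalizer ((Q : Subgroup G) : Set G)) × {c : centralizer ((Q : Subgroup G) : Set G) // c ≠ 1}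
  let f : Dp ⊕ Dq → G := Sum.elim (fun d => d.1.out * ((d.2.1 : centralizer ((P : Subgroup G) : Set G)) : G) * d.1.out⁻¹)
    (fun d => d.1.out * ((d.2.1 : centralizer ((Q : Subgroup G) : Set G)) : G) * d.1.out⁻¹)
  have hcover : ∀ x : G, x ≠ 1 → ∃ d, f d = x := by
    intro x hx
    by_cases hd : p ∣ (centralizer ({x} : Set G)).index
    · have hdq : ¬ q ∣ (centralizer ({x} : Set G)).index := fun hdq =>
        h x (((Nat.coprime_primes hp hq).2 hpq).mul_dvd_of_dvd_of_dvd hd hdq)
      obtain ⟨t, c, hc, rfl⟩ := cover_of_coprime Q hdq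
      exact ⟨Sum.inr (t, ⟨⟨c, hc⟩, fun h1 => hx (by rw [show c = 1 from congrArg Subtype.val h1]; group)⟩), rfl⟩
    · obtain ⟨t, c, hc, rfl⟩ := cover_of_coprime P hd
      exact ⟨Sum.inl (t, ⟨⟨c, hc⟩, fun h1 => hx (by rw [show c = 1 from congrArg Subtype.val h1]; group)⟩), rfl⟩
  choose d hd using hcover
  have hle : Nat.card {x : G // x ≠ 1} ≤ Nat.card (Dp ⊕ Dq) :=
    Nat.card_le_card_of_injective (fun x => d x.1 x.2) fun x y hxy => Subtype.ext (by
      rw [← hd x.1 x.2, ← hd y.1 y.2]; exact congrArg f hxy)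
  have h3 : Nat.card {x : G // x ≠ 1} + 1 = Nat.card G := by
    haveI := Fintype.ofFinite G
    rw [Nat.card_eq_fintype_card, Nat.card_eq_fintype_card, Fintype.card_subtype_compl, Fintype.card_subtype_eq]
    have := Fintype.card_pos (α := G)
    omega
  rw [Nat.card_sum, Nat.card_prod, Nat.card_prod] at hle
  have b1 := bound P hP
  have b2 := bound Q hQ
  omega

/-- Let G be a finite group and p ≠ q primes each dividing the size of some conjugacy class of G, such that no conjugacy class size is divisible by pq. Then G has a normal p-complement or a normal q-complement. -/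
theorem result {G : Type*} [Group G] [Finite G] (p q : ℕ) (hp : p.Prime) (hq : q.Prime) (hpq : p ≠ q)
    (hp' : ∃ x : G, p ∣ (Subgroup.centralizer ({x} : Set G)).index) (hq' : ∃ x : G, q ∣ (Subgroup.centralizer ({x} : Set G)).index) (h : ∀ x : G, ¬ p * q ∣ (Subgroup.centralizer ({x} : Set G)).index) :
    Cfsg.HasNormalPComplement p G ∨ Cfsg.HasNormalPComplement q G := by
  exact main p q hp hq hpq h

end Cfsg.Agent.S4160
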