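import Cfsg.Statements.S0117
import Cfsg.Agent.Lib.PLocal.NormalPComplementThms
import Cfsg.Agent.Lib.Transfer.ZJFull

set_option linter.all false

set_option autoImplicit false
open Cfsg

namespace Cfsg.Agent.S0117

/-- The Glauberman–Thompson Theorem states that for odd p, a single p-local subgroup, the normalizer of the centre of the Thompson subgroup of a Sylow p-subgroup, decides whether G has a normal p-complement. -/
theorem result {G : Type*} [Group G] [Finite G] {p : ℕ} [Fact p.Prime] (hp : p ≠ 2) (P : Sylow p G) : Cfsg.HasNormalPComplement p G ↔ Cfsg.HasNormalPComplement p (Subgroup.normalizer (Cfsg.centerThompsonOf p (P : Subgroup G) : Set G)) := by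
    refine ⟨fun h => CfsgLib.Transfer.hasNormalPComplement_subgroup h _, fun h => ?_⟩
    let L : CfsgLib.PLocal.Loc p := CfsgLib.PLocal.normalizerLoc
      (fun S => Cfsg.centerThompsonOf p S) (fun S => CfsgLib.Transfer.centerThompsonOf_le S)
      (fun S hS hb => CfsgLib.PLocal.center_ne_bot (hS.to_le (Subgroup.map_subtype_le _))
        ((CfsgLib.PLocal.thompsonLoc p).W_ne S hS hb))
      (fun f S hf => by
        rw [Cfsg.centerThompsonOf, Cfsg.centerThompsonOf, ← CfsgLib.PLocal.thompsonOf_map f S hf]
        exact CfsgLib.PLocal.map_centralizer_of_injOn f _ (hf.mono_left (Subgroup.map_subtype_le _)))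
    refine CfsgLib.PLocal.hasNormalPComplement_of_locals hp {L} ⟨L, rfl, fun S => le_rfl⟩
      (fun K _ _ Q hcfg => ⟨L, rfl, ?_⟩) P ?_
    · exact Subgroup.normalizer_eq_top_iff.mpr
        (CfsgLib.Transfer.centerThompson_normal hp hcfg.centralizer_le Q hcfg.stableAt)
    · rintro _ rfl
      exact h

end Cfsg.Agent.S0117
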