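import Cfsg.Statements.S3884
import Mathlib
import Cfsg.Agent.Lib.PGroups.Metacyclic

set_option autoImplicit false
open Cfsg

namespace Cfsg.Agent.S3884

open CfsgLib.PGroups CfsgLib.PGroups.GeomSum Finset
set_option linter.style.haveILetI false

theorem sum_range_mul' (x : ℤ) (m l : ℕ) :
    ∑ j ∈ range (m * l), x ^ j = (∑ j ∈ range l, x ^ j) * ∑ i ∈ range m, (x ^ l) ^ i := by
  induction m with
  | zero => simp
  | succ m ih =>
    rw [Nat.succ_mul, Finset.sum_range_add, Finset.sum_range_succ _ m, ih, mul_add, Finset.sum_mul]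
    congr 1
    rw [Finset.sum_mul]
    refine Finset.sum_congr rfl fun j _ => ?_
    rw [← pow_mul, ← pow_add]; ring_nf

theorem dvd_geom_diff {p : ℕ} [hp : Fact p.Prime] (hp2 : p ≠ 2) {k : ℕ} (hk : 1 ≤ k) :
    ∀ (w : ℕ) (x y : ℤ), (p : ℤ) ∣ x - 1 → (p : ℤ) ^ k ∣ x - y →
      (p : ℤ) ^ w ∣ ∑ j ∈ range (p ^ w), y ^ j ∧
      (p : ℤ) ^ (k + w) ∣ (∑ j ∈ range (p ^ w), x ^ j) - ∑ j ∈ range (p ^ w), y ^ j := by
  have hone : ∀ z : ℤ, (p : ℤ) ∣ z - 1 → (z : ZMod p) = 1 := fun z hz => by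
    rw [← sub_eq_zero, ← Int.cast_one, ← Int.cast_sub, ZMod.intCast_zmod_eq_zero_iff_dvd]
    exact hz
  intro w
  induction w with
  | zero => intro x y _ hxy; simp
  | succ w ih =>
    intro x y hx hxy
    have hy : (p : ℤ) ∣ y - 1 := by
      have := dvd_sub hx ((dvd_pow_self (p : ℤ) (by omega : k ≠ 0)).trans hxy)
      rwa [show x - 1 - (x - y) = y - 1 by ring] at this
    obtain ⟨hA2, hAd⟩ := ih x y hx hxy
    have hB : ∀ z : ℤ, (p : ℤ) ∣ z - 1 → (p : ℤ) ∣ ∑ i ∈ range p, (z ^ p ^ w) ^ i := fun z hz => by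
      rw [← ZMod.intCast_zmod_eq_zero_iff_dvd, Int.cast_sum]
      simp [hone z hz]
    have hBd : (p : ℤ) ^ (k + 1) ∣
        (∑ i ∈ range p, (x ^ p ^ w) ^ i) - ∑ i ∈ range p, (y ^ p ^ w) ^ i := by
      rw [← Finset.sum_sub_distrib, Finset.sum_congr rfl fun i _ =>
        (geom_sum₂_mul (x ^ p ^ w) (y ^ p ^ w) i).symm, ← Finset.sum_mul, pow_succ',]
      refine mul_dvd_mul ?_ (hxy.trans (sub_dvd_pow_sub_pow x y _))
      rw [← ZMod.intCast_zmod_eq_zero_iff_dvd, Int.cast_sum]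
      simp only [Int.cast_sum, Int.cast_mul, Int.cast_pow, hone x hx, hone y hy, one_pow, mul_one,
        Finset.sum_const, card_range, nsmul_one]
      rw [← Nat.cast_sum, ZMod.natCast_eq_zero_iff]
      have h2 : p ∣ (∑ i ∈ range p, i) * 2 := by
        rw [Finset.sum_range_id_mul_two]; exact dvd_mul_right _ _
      exact Nat.Coprime.dvd_of_dvd_mul_right ((Nat.coprime_primes hp.out Nat.prime_two).mpr hp2) h2
    rw [show p ^ (w + 1) = p * p ^ w by ring, sum_range_mul' x, sum_range_mul' y]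
    refine ⟨?_, ?_⟩
    · rw [pow_succ]
      exact mul_dvd_mul hA2 (hB y hy)
    · rw [show ∀ A1 A2 B1 B2 : ℤ, A1 * B1 - A2 * B2 = (A1 - A2) * B1 + A2 * (B1 - B2) from
        fun _ _ _ _ => by ring]
      refine dvd_add ?_ ?_
      · rw [← add_assoc, pow_succ]
        exact mul_dvd_mul hAd (hB x hx)
      · rw [show k + (w + 1) = w + (k + 1) by ring, pow_add]
        exact mul_dvd_mul hA2 hBd

theorem exists_solution {p : ℕ} [hp : Fact p.Prime] (hp2 : p ≠ 2) {d : ℕ} (hd : p ∣ d) (P t w e : ℕ)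
    (ht : ¬ p ∣ t) :
    ∃ c : ℕ, p ^ (w + e) ∣ S (S d (P * c) * d) (p ^ w) + p ^ w * (t * c) := by
  let E : ℕ → ℕ := fun c => S (S d (P * c) * d) (p ^ w) + p ^ w * (t * c)
  have hE : ∀ c, p ^ w ∣ E c := fun c =>
    dvd_add ((pow_dvd_S_iff hp2 (hd.mul_left _) w _).mpr dvd_rfl) (dvd_mul_right _ _)
  have hinj : Function.Injective fun c : Fin (p ^ e) => ((E c / p ^ w : ℕ) : ZMod (p ^ e)) := by
    intro c₁ c₂ h
    wlog hle : (c₁ : ℕ) ≤ c₂ generalizing c₁ c₂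
    · exact (this h.symm (le_of_not_ge hle)).symm
    obtain ⟨r, hr⟩ := Nat.exists_eq_add_of_le hle
    rcases Nat.eq_zero_or_pos r with rfl | hr0
    · exact Fin.ext (by omega)
    exfalso
    obtain ⟨i, s, hs, hrs⟩ := Nat.exists_eq_pow_mul_and_not_dvd hr0.ne' p hp.out.ne_one
    have hie : i < e := by
      by_contra hie
      have h1 : p ^ e ≤ r := hrs ▸ (Nat.pow_le_pow_right hp.out.pos (not_lt.mp hie)).trans
        (Nat.le_mul_of_pos_right _ (Nat.pos_of_ne_zero fun h0 => hs (h0 ▸ dvd_zero p)))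
      have := c₂.isLt
      omega
    have hR : ∀ c : ℕ, (S (S d (P * c) * d) (p ^ w) : ℤ) =
        ∑ j ∈ range (p ^ w), (((d + 1) ^ (P * c) : ℕ) : ℤ) ^ j := fun c => by
      rw [pow_eq]; simp [S]
    have hdiff : (p : ℤ) ^ (i + 1) ∣
        (((d + 1) ^ (P * c₂) : ℕ) : ℤ) - (((d + 1) ^ (P * c₁) : ℕ) : ℤ) := by
      rw [hr, mul_add, pow_add (d + 1), Nat.cast_mul, ← mul_sub_one, pow_eq d (P * r)]
      refine dvd_mul_of_dvd_right ?_ _
      push_cast
      rw [add_sub_cancel_right, pow_succ]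
      refine mul_dvd_mul ?_ (Int.natCast_dvd_natCast.mpr hd)
      rw [← Nat.cast_pow, Int.natCast_dvd_natCast, pow_dvd_S_iff hp2 hd]
      exact (hrs ▸ dvd_mul_right _ _ : p ^ i ∣ r).mul_left P
    have hx : (p : ℤ) ∣ (((d + 1) ^ (P * c₂) : ℕ) : ℤ) - 1 := by
      rw [pow_eq]; push_cast
      rw [add_sub_cancel_right]
      exact (Int.natCast_dvd_natCast.mpr hd).mul_left _
    obtain ⟨-, h2⟩ := dvd_geom_diff hp2 (Nat.succ_pos i) w _ _ hx hdiff
    rw [← hR, ← hR] at h2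
    simp only at h
    rw [ZMod.natCast_eq_natCast_iff] at h
    have h3 : E c₁ ≡ E c₂ [MOD p ^ (w + e)] := by
      have := Nat.ModEq.mul_left' (p ^ w) h
      rwa [Nat.mul_div_cancel' (hE _), Nat.mul_div_cancel' (hE _), ← pow_add] at this
    have h4 : (p : ℤ) ^ (i + w + 1) ∣ (E c₂ : ℤ) - E c₁ := by
      have := Nat.modEq_iff_dvd.mp h3
      push_cast at this
      exact (pow_dvd_pow _ (by omega)).trans this
    have h5 : (p : ℤ) ^ (i + w + 1) ∣ ((p ^ w * (t * r) : ℕ) : ℤ) := by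
      have := dvd_sub h4 ((pow_dvd_pow (p : ℤ) (by omega : i + w + 1 ≤ i + 1 + w)).trans h2)
      simp only [E, hr] at this
      push_cast at this ⊢
      exact (this.trans (dvd_of_eq (by ring)))
    rw [← Nat.cast_pow, Int.natCast_dvd_natCast, hrs,
      show p ^ w * (t * (p ^ i * s)) = p ^ (i + w) * (t * s) by ring, pow_succ,
      Nat.mul_dvd_mul_iff_left (pow_pos hp.out.pos _)] at h5
    exact ((Nat.Prime.dvd_mul hp.out).mp h5).elim ht hs
  obtain ⟨c, hc⟩ := ((Fintype.bijective_iff_injective_and_card _).mpr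
    ⟨hinj, by rw [Fintype.card_fin, ZMod.card]⟩).2 0
  rw [ZMod.natCast_eq_zero_iff] at hc
  refine ⟨c, ?_⟩
  rw [pow_add]
  exact (mul_dvd_mul_left _ hc).trans (dvd_of_eq (Nat.mul_div_cancel' (hE _)))

/-- Let p be an odd prime and G a finite metacyclic p-group (G has a cyclic normal subgroup with cyclic quotient). Then G is the product of two cyclic subgroups with trivial intersection: there are cyclic subgroups A and B with A ∩ B = 1 and |A| · |B| = |G|. -/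
theorem result {G : Type*} [Group G] [Finite G] {p : ℕ} [Fact p.Prime] (hp : p ≠ 2) (hG : IsPGroup p G) (hmc : Cfsg.IsMetacyclic G) : ∃ A B : Subgroup G, IsCyclic ↥A ∧ IsCyclic ↥B ∧ A ⊓ B = ⊥ ∧ Nat.card ↥A * Nat.card ↥B = Nat.card G := by
  obtain ⟨D⟩ := CfsgLib.PGroups.Metacyclic.exists_data hp hG hmc
  have hP := (Fact.out : p.Prime)
  set N := Subgroup.zpowers D.a with hN
  haveI : N.Normal := by
    refine ⟨fun x hx g => ?_⟩
    obtain ⟨k, rfl⟩ := mem_powers_iff_mem_zpowers.mpr hx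
    obtain ⟨i, j, rfl⟩ := D.gen g
    refine ⟨(((D.d + 1) ^ j * k : ℕ) : ℤ), ?_⟩
    simp only [zpow_natCast, mul_inv_rev]
    rw [mul_assoc (D.a ^ i) (D.b ^ j), D.conj_pow]
    group
  have hqgen : ∀ y : G ⧸ N, y ∈ Subgroup.zpowers (D.b : G ⧸ N) := by
    intro y
    obtain ⟨g, rfl⟩ := QuotientGroup.mk_surjective y
    obtain ⟨i, j, rfl⟩ := D.gen g
    rw [QuotientGroup.mk_mul, (QuotientGroup.eq_one_iff _).mpr (N.pow_mem (Subgroup.mem_zpowers _) i),
      one_mul, QuotientGroup.mk_pow]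
    exact Subgroup.pow_mem _ (Subgroup.mem_zpowers _) j
  obtain ⟨f, hf⟩ := IsPGroup.iff_orderOf.mp (hG.to_quotient N) (D.b : G ⧸ N)
  have hidx : N.index = p ^ f := by
    rw [Subgroup.index_eq_card, ← orderOf_eq_card_of_forall_mem_zpowers hqgen, hf]
  obtain ⟨m, hm⟩ := IsPGroup.iff_orderOf.mp hG D.a
  have hcard : Nat.card G = p ^ m * p ^ f := by
    rw [← N.card_mul_index, hidx, hN, Nat.card_zpowers, hm]
  obtain ⟨t₀, ht₀⟩ : ∃ t : ℕ, D.a ^ t = D.b ^ p ^ f := by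
    refine mem_powers_iff_mem_zpowers.mpr ?_
    rw [← hN, ← QuotientGroup.eq_one_iff, QuotientGroup.mk_pow, ← hf, pow_orderOf_eq_one]
  by_cases hcase : ∃ t' : ℕ, D.a ^ (p ^ f * t') = D.b ^ p ^ f
  · obtain ⟨t', ht'⟩ := hcase
    obtain ⟨u, hu, hS⟩ := S_pow (d := S D.d 1 * D.d) hp (D.hd.mul_left _) f
    obtain ⟨i, hi⟩ : ∃ i : ℕ, p ^ m ∣ i * u + t' := by
      have hu' : IsUnit (u : ZMod (p ^ m)) := by
        rw [ZMod.isUnit_iff_coprime]
        exact ((hP.coprime_iff_not_dvd.mpr hu).symm).pow_right m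
      obtain ⟨v, hv⟩ := hu'.exists_left_inv
      refine ⟨(-(t' : ZMod (p ^ m)) * v).val, ?_⟩
      rw [← ZMod.natCast_eq_zero_iff]
      push_cast
      rw [ZMod.natCast_zmod_val, mul_assoc, hv, mul_one, neg_add_cancel]
    set b' := D.a ^ i * D.b ^ 1 with hb'
    have hpow : b' ^ p ^ f = 1 := by
      rw [hb', D.pow_rule, hS, one_mul, ← ht', ← pow_add, ← orderOf_dvd_iff_pow_eq_one, hm,
        show i * (p ^ f * u) + p ^ f * t' = p ^ f * (i * u + t') by ring]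
      exact hi.mul_left _
    have hmk : (b' : G ⧸ N) = (D.b : G ⧸ N) := by
      rw [hb', pow_one, QuotientGroup.mk_mul,
        (QuotientGroup.eq_one_iff _).mpr (N.pow_mem (Subgroup.mem_zpowers _) i), one_mul]
    have hord : orderOf b' = p ^ f := Nat.dvd_antisymm (orderOf_dvd_of_pow_eq_one hpow)
      (hf ▸ hmk ▸ orderOf_map_dvd (QuotientGroup.mk' N) b')
    refine ⟨N, Subgroup.zpowers b', inferInstance, inferInstance, ?_, ?_⟩
    · rw [Subgroup.eq_bot_iff_forall]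
      rintro x ⟨hxN, hx⟩
      obtain ⟨j, rfl⟩ := mem_powers_iff_mem_zpowers.mpr hx
      refine orderOf_dvd_iff_pow_eq_one.mp ?_
      rw [hord, ← hf, ← hmk, orderOf_dvd_iff_pow_eq_one, ← QuotientGroup.mk_pow, QuotientGroup.eq_one_iff]
      exact hxN
    · rw [hN, Nat.card_zpowers, Nat.card_zpowers, hm, hord, hcard]
  -- otherwise
  have ht0 : t₀ ≠ 0 := fun h => hcase ⟨0, by rw [mul_zero, ← ht₀, h]⟩
  obtain ⟨w, t', ht', htw⟩ := Nat.exists_eq_pow_mul_and_not_dvd ht0 p hP.ne_one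
  have hwf : w < f := by
    by_contra h
    exact hcase ⟨p ^ (w - f) * t', by
      rw [← mul_assoc, ← pow_add, Nat.add_sub_cancel' (not_lt.mp h), ← htw, ht₀]⟩
  have hwm : w < m := by
    by_contra h
    refine hcase ⟨0, ?_⟩
    rw [mul_zero, pow_zero, ← ht₀, eq_comm, ← orderOf_dvd_iff_pow_eq_one, hm, htw]
    exact (pow_dvd_pow p (not_lt.mp h)).mul_right _
  obtain ⟨e, rfl⟩ := Nat.exists_eq_add_of_le hwm.le
  obtain ⟨c, hc⟩ := exists_solution hp D.hd (p ^ (f - w)) t' w e ht'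
  set y := D.b ^ (p ^ (f - w) * c) with hy
  set x := D.a ^ 1 * y with hx
  have hbf : p ^ (f - w) * p ^ w = p ^ f := by rw [← pow_add, Nat.sub_add_cancel hwf.le]
  have hxpow : x ^ p ^ w = 1 := by
    rw [hx, hy, D.pow_rule, one_mul, mul_right_comm, hbf, pow_mul D.b, ← ht₀, ← pow_mul D.a, ← pow_add,
      ← orderOf_dvd_iff_pow_eq_one, hm, htw, mul_assoc]
    exact hc
  set B := Subgroup.zpowers D.b with hB
  set A := Subgroup.zpowers x with hA
  have haw : D.a ^ p ^ w ∈ B := by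
    have h1 : D.a ^ t₀ ∈ B := ht₀ ▸ B.pow_mem (Subgroup.mem_zpowers _) _
    obtain ⟨k, hk⟩ := exists_pow_eq_self_of_coprime (x := D.a ^ p ^ w) (n := t')
      (((hP.coprime_iff_not_dvd.mpr ht').symm).pow_right (w + e) |>.coprime_dvd_right (by
        rw [← hm, orderOf_dvd_iff_pow_eq_one, ← pow_mul, mul_comm, pow_mul, pow_orderOf_eq_one, one_pow]))
    rw [← hk, ← pow_mul D.a, ← htw]
    exact B.pow_mem h1 k
  -- every element is a product
  have hprod : ∀ g : G, ∃ α ∈ A, ∃ β ∈ B, α * β = g := by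
    intro g
    obtain ⟨k, j, rfl⟩ := D.gen g
    obtain ⟨l, hl⟩ := exists_S_eq (d := S D.d (p ^ (f - w) * c) * D.d) hp (D.hd.mul_left _) w (k : ZMod (p ^ w))
    obtain ⟨q, hq⟩ : ∃ q : ℕ, k + p ^ (w + e) * S (S D.d (p ^ (f - w) * c) * D.d) l =
        S (S D.d (p ^ (f - w) * c) * D.d) l + p ^ w * q := by
      rw [ZMod.natCast_eq_natCast_iff, Nat.modEq_iff_dvd] at hl
      have h1 : S (S D.d (p ^ (f - w) * c) * D.d) l ≤
          k + p ^ (w + e) * S (S D.d (p ^ (f - w) * c) * D.d) l :=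
        le_add_left (Nat.le_mul_of_pos_left _ (pow_pos hP.pos _))
      obtain ⟨q, hq⟩ : p ^ w ∣ k + p ^ (w + e) * S (S D.d (p ^ (f - w) * c) * D.d) l -
          S (S D.d (p ^ (f - w) * c) * D.d) l := by
        rw [← Int.natCast_dvd_natCast, Nat.cast_sub h1]
        push_cast
        rw [add_sub_right_comm]
        push_cast at hl
        exact dvd_add hl ((pow_dvd_pow _ (Nat.le_add_right w e)).mul_right _)
      exact ⟨q, by omega⟩
    have hk : D.a ^ k = D.a ^ S (S D.d (p ^ (f - w) * c) * D.d) l * (D.a ^ p ^ w) ^ q := by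
      rw [← pow_mul D.a, ← pow_add, ← hq, pow_add, pow_mul D.a (p ^ (w + e)), ← hm, pow_orderOf_eq_one,
        one_pow, mul_one]
    refine ⟨x ^ l, A.pow_mem (Subgroup.mem_zpowers _) l,
      (D.b ^ (p ^ (f - w) * c * l))⁻¹ * (D.a ^ p ^ w) ^ q * D.b ^ j,
      mul_mem (mul_mem (inv_mem (B.pow_mem (Subgroup.mem_zpowers _) _)) (B.pow_mem haw q))
        (B.pow_mem (Subgroup.mem_zpowers _) j), ?_⟩
    rw [hx, hy, D.pow_rule, one_mul, hk]
    group
  have hordb : orderOf D.b = p ^ f * p ^ e := by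
    have h1 : p ^ f ∣ orderOf D.b := hf ▸ orderOf_map_dvd (QuotientGroup.mk' N) D.b
    obtain ⟨r, hr⟩ := h1
    have h2 : orderOf (D.b ^ p ^ f) = r := by
      rw [orderOf_pow, hr, Nat.gcd_eq_right (dvd_mul_right _ _), Nat.mul_div_cancel_left _ (pow_pos hP.pos _)]
    rw [hr, ← h2, ← ht₀, orderOf_pow, hm, htw, pow_add, Nat.gcd_mul_left,
      (((hP.coprime_iff_not_dvd.mpr ht')).pow_left e).gcd_eq_one, mul_one,
      Nat.mul_div_cancel_left _ (pow_pos hP.pos _)]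
  refine ⟨A, B, inferInstance, inferInstance, ?_⟩
  have hsurj : Function.Surjective fun z : A × B => (z.1 : G) * (z.2 : G) := fun g => by
    obtain ⟨α, hα, β, hβ, h⟩ := hprod g
    exact ⟨(⟨α, hα⟩, ⟨β, hβ⟩), h⟩
  have hge := Nat.card_le_card_of_surjective _ hsurj
  rw [Nat.card_prod] at hge
  have hle : Nat.card A * Nat.card B ≤ Nat.card G := by
    rw [hA, hB, Nat.card_zpowers, Nat.card_zpowers, hordb, hcard, pow_add]
    have := Nat.le_of_dvd (pow_pos hP.pos _) (orderOf_dvd_of_pow_eq_one hxpow)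
    calc orderOf x * (p ^ f * p ^ e) ≤ p ^ w * (p ^ f * p ^ e) := Nat.mul_le_mul_right _ this
      _ = _ := by ring
  refine ⟨?_, le_antisymm hle hge⟩
  rw [Subgroup.eq_bot_iff_forall]
  rintro z ⟨hzA, hzB⟩
  have hbij := (Nat.bijective_iff_surjective_and_card _).mpr ⟨hsurj, by rw [Nat.card_prod]; exact le_antisymm hle hge⟩
  have := hbij.1 (a₁ := (⟨z, hzA⟩, 1)) (a₂ := (1, ⟨z, hzB⟩)) (by simp)
  exact congrArg (fun u : A × B => (u.1 : G)) this

end Cfsg.Agent.S3884
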