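import Cfsg.Statements.S4485
import Cfsg.Agent.Lib.Char.TIExceptional.Main
-- import your own Cfsg.Agent.* helpers here

set_option autoImplicit false
open Cfsg

namespace Cfsg.Agent.S4485

/-- Let G be a finite group and p a prime dividing its order such that every non-identity element of a Sylow p-subgroup P has the same centralizer as P itself (so P is abelian); let p^n be the order of P. If G has a faithful character of degree x with x² < p^n − 1, then P is normal in G. -/
theorem result {G : Type*} [Group G] [Finite G] (p : ℕ) (hp : p.Prime) (hpG : p ∣ Nat.card G) (P : Sylow p G) (hstar : ∀ x ∈ (P : Subgroup G), x ≠ 1 → Subgroup.centralizer ({x} : Set G) = Subgroup.centralizer ((P : Subgroup G) : Set G)) (n : ℕ) (hn : Nat.card P = p ^ n) (χ : G → ℂ) (hχ : Cfsg.IsCharacter G χ) (hfaith : ∀ g : G, χ g = χ 1 → g = 1) (hdeg : Cfsg.charDegree χ ^ 2 + 1 < p ^ n) : (P : Subgroup G).Normal := by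
  classical
  haveI : Fact p.Prime := ⟨hp⟩
  haveI := Fintype.ofFinite G
  set K : Subgroup G := Subgroup.normalClosure ((P : Subgroup G) : Set G) with hK
  have hPK : (P : Subgroup G) ≤ K := Subgroup.le_normalClosure
  haveI hKn : K.Normal := Subgroup.normalClosure_normal
  haveI := Fintype.ofFinite K
  set Q : Sylow p K := P.subtype hPK
  have hQ : ∀ y : K, y ∈ (Q : Subgroup K) ↔ (y : G) ∈ (P : Subgroup G) := fun y => Iff.rfl
  have hQc : Nat.card (Q : Subgroup K) = p ^ n := by
    rw [← hn]
    exact Nat.card_congr (Subgroup.subgroupOfEquivOfLe hPK).toEquiv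
  have hstarK : ∀ y ∈ (Q : Subgroup K), y ≠ 1 → Subgroup.centralizer ({y} : Set K) =
      Subgroup.centralizer ((Q : Subgroup K) : Set K) := by
    intro y hy hy1
    refine Subgroup.ext fun k => ⟨fun hk => Subgroup.mem_centralizer_iff.2 fun z hz => ?_,
      fun hk => Subgroup.mem_centralizer_iff.2 fun z hz => ?_⟩
    · have h1 : (k : G) ∈ Subgroup.centralizer ({(y : G)} : Set G) :=
        Subgroup.mem_centralizer_iff.2 fun w hw => by
          rw [Set.mem_singleton_iff.1 hw]
          exact congrArg Subtype.val (Subgroup.mem_centralizer_iff.1 hk y rfl)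
      rw [hstar _ ((hQ y).1 hy) fun e => hy1 (Subtype.ext e)] at h1
      exact Subtype.ext (Subgroup.mem_centralizer_iff.1 h1 z ((hQ z).1 hz))
    · rw [Set.mem_singleton_iff.1 hz]
      exact Subgroup.mem_centralizer_iff.1 hk y hy
  -- conjugates of elements of `P` are conjugate in `K` into `P`
  have hconj : ∀ g x : G, x ∈ (P : Subgroup G) → ∃ k : K, ∃ y : K,
      y ∈ (Q : Subgroup K) ∧ g * x * g⁻¹ = ((k * y * k⁻¹ : K) : G) := by
    intro g x hx
    have h1 : g ∈ K ⊔ Subgroup.normalizer ((P : Subgroup G) : Set G) := by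
      rw [sup_comm]; exact (Sylow.normalizer_sup_eq_top' P hPK).ge trivial
    obtain ⟨k, hk, n, hn, rfl⟩ := Subgroup.mem_sup_of_normal_left.1 h1
    have h2 := (Subgroup.mem_normalizer_iff.1 hn x).1 hx
    exact ⟨⟨k, hk⟩, ⟨n * x * n⁻¹, hPK h2⟩, h2, by simp [mul_assoc]⟩
  have hgen : ∀ H : Subgroup K, H.Normal → (Q : Subgroup K) ≤ H → H = ⊤ := by
    intro H hH hQH
    rw [Subgroup.eq_top_iff']
    intro k
    have hle : K ≤ H.map K.subtype := by
      show Subgroup.closure (Group.conjugatesOfSet ((P : Subgroup G) : Set G)) ≤ _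
      rw [Subgroup.closure_le]
      intro z hz
      obtain ⟨x, hx, hxz⟩ := Group.mem_conjugatesOfSet_iff.1 hz
      obtain ⟨g, rfl⟩ := isConj_iff.1 hxz
      obtain ⟨c, y, hy, e⟩ := hconj g x hx
      exact ⟨_, hH.conj_mem y (hQH hy) c, e.symm⟩
    obtain ⟨k', hk', e⟩ := hle k.2
    exact (Subtype.ext e : k' = k) ▸ hk'
  have hdegK : charDegree (fun k : K => χ k) = charDegree χ := by simp [Cfsg.charDegree]
  have hcent : ∀ y : K, y ∈ (Q : Subgroup K) → ∀ k : K, k * y * k⁻¹ = y := by
    intro y hy k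
    have h1 := CfsgLib.TIExceptional.apply_commutator_eq hp Q.isPGroup' Q.not_dvd_index hstarK hgen
      (χ := fun k : K => χ k) (CfsgLib.Char.IsChar.restrict K hχ) (by rw [hdegK, hQc]; exact hdeg) hy k
    exact mul_inv_eq_one.1 (Subtype.ext (hfaith _ (by simpa using h1)))
  refine ⟨fun x hx g => ?_⟩
  obtain ⟨k, y, hy, e⟩ := hconj g x hx
  rw [e, hcent y hy k]
  exact (hQ y).1 hy

end Cfsg.Agent.S4485
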