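import Cfsg.Statements.S0675
import Cfsg.Agent.Lib.Perm.PrimeDegree

set_option autoImplicit false
open Cfsg

namespace Cfsg.Agent.S0675

/-- Burnside's Theorem on permutation groups of prime degree: a transitive permutation group of prime degree that is not solvable is doubly transitive. -/
theorem result {α : Type*} [Fintype α] [DecidableEq α] (hα : (Fintype.card α).Prime) (G : Subgroup (Equiv.Perm α)) [MulAction.IsPretransitive G α] : Group.IsSolvable G ∨ MulAction.IsMultiplyPretransitive G α 2 := by
  classical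
  set p := Fintype.card α with hp
  haveI := Fact.mk hα
  obtain ⟨e, σ, hσ⟩ := CfsgLib.Perm.PrimeDegree.exists_coords (p := p) hp.symm (G := G)
  let q : G →* Equiv.Perm (ZMod p) :=
    { toFun := fun g => (e.trans (g : Equiv.Perm α)).trans e.symm
      map_one' := by ext i; simp
      map_mul' := fun a b => by ext i; simp }
  have hqe : ∀ (g : G) i, e (q g i) = g • e i := fun g i => by
    show e (e.symm ((g : Equiv.Perm α) (e i))) = _
    rw [Equiv.apply_symm_apply]
    rfl
  have hq : Function.Injective q := by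
    intro a b hab
    refine Subtype.ext (Equiv.ext fun x => ?_)
    have h1 : a • e (e.symm x) = b • e (e.symm x) := by rw [← hqe, ← hqe, hab]
    rw [e.apply_symm_apply] at h1
    exact h1
  have htr : ∀ (n : ℕ) i, q (σ ^ n) i = i + n := by
    intro n
    induction n with
    | zero => simp
    | succ n ih =>
      intro i
      apply e.injective
      rw [hqe, pow_succ', mul_smul, ← hqe, ih, hσ, Nat.cast_succ, add_assoc]
  -- translation by `c`
  have htr' : ∀ c : ZMod p, ∃ g, ∀ i, q g i = i + c := fun c =>
    ⟨σ ^ c.val, fun i => by rw [htr, ZMod.natCast_zmod_val]⟩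
  let U : Finset (ZMod p) := Finset.univ.filter fun u => ∃ g : G, q g 0 = 0 ∧ q g 1 = u
  have h0 : (0 : ZMod p) ∉ U := by
    intro h
    simp only [U, Finset.mem_filter, Finset.mem_univ, true_and] at h
    obtain ⟨g, hg0, hg1⟩ := h
    exact zero_ne_one ((q g).injective (hg0.trans hg1.symm))
  have h1U : U.Nonempty := ⟨1, by
    simp only [U, Finset.mem_filter, Finset.mem_univ, true_and]
    exact ⟨1, by simp, by simp⟩⟩
  by_cases hall : ∀ v, v ≠ 0 → v ∈ U
  · right
    rw [MulAction.is_two_pretransitive_iff]
    have key : ∀ a b : α, a ≠ b → ∃ g : G, g • e 0 = a ∧ g • e 1 = b := by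
      intro a b hab
      have hv : e.symm b - e.symm a ≠ 0 := sub_ne_zero.2 fun h => hab (e.symm.injective h.symm)
      have := hall _ hv
      simp only [U, Finset.mem_filter, Finset.mem_univ, true_and] at this
      obtain ⟨g, hg0, hg1⟩ := this
      obtain ⟨t, ht⟩ := htr' (e.symm a)
      refine ⟨t * g, ?_, ?_⟩
      · rw [← hqe, map_mul, Equiv.Perm.mul_apply, hg0, ht, zero_add, e.apply_symm_apply]
      · rw [← hqe, map_mul, Equiv.Perm.mul_apply, hg1, ht, sub_add_cancel, e.apply_symm_apply]
    intro a b c d hab hcd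
    obtain ⟨g, rfl, rfl⟩ := key a b hab
    obtain ⟨g', rfl, rfl⟩ := key c d hcd
    exact ⟨g' * g⁻¹, by rw [← mul_smul, inv_mul_cancel_right],
      by rw [← mul_smul, inv_mul_cancel_right]⟩
  · left
    push Not at hall
    refine CfsgLib.Perm.PrimeDegree.isSolvable_of_affine q hq fun g => ?_
    refine CfsgLib.Perm.PrimeDegree.affine_of_invariant_set U h0 h1U hall (q g) fun i u hu => ?_
    simp only [U, Finset.mem_filter, Finset.mem_univ, true_and] at hu ⊢
    obtain ⟨k, hk0, hk1⟩ := hu
    obtain ⟨t, ht⟩ := htr' i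
    obtain ⟨t', ht'⟩ := htr' (-(q g i))
    refine ⟨t' * g * t * k, ?_, ?_⟩ <;>
      simp only [map_mul, Equiv.Perm.mul_apply, hk0, hk1, ht, ht', zero_add]
    · exact add_neg_cancel _
    · rw [add_comm u i, sub_eq_add_neg]

end Cfsg.Agent.S0675
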