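import Cfsg.Statements.S4304
import Cfsg.Agent.Lib.HallGen.HallList
import Cfsg.Agent.Lib.HallGen.SimpleFifteen

set_option autoImplicit false
open Cfsg

namespace Cfsg.Agent.S4304

/-- No finite group has exactly 15 Sylow 7-subgroups. -/
theorem result {G : Type*} [Group G] [Finite G] : Nat.card (Sylow 7 G) ≠ 15 := by
  intro h
  haveI h7 : Fact (Nat.Prime 7) := ⟨by norm_num⟩
  obtain ⟨l, hl, hl'⟩ := CfsgLib.HallGen.exists_hall_list 7 (Nat.card G) G rfl
  rw [h] at hl
  have key : ∀ m ∈ l, m = 1 := by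
    intro m hm
    have hdvd : m ∈ Nat.divisors 15 := Nat.mem_divisors.2 ⟨hl ▸ List.dvd_prod hm, by norm_num⟩
    rcases hl' m hm with ⟨hpp, hmod⟩ | ⟨T, _, _, hT, rfl⟩
    · have : Nat.divisors 15 = {1, 3, 5, 15} := by decide
      rw [this] at hdvd
      simp only [Finset.mem_insert, Finset.mem_singleton] at hdvd
      rcases hdvd with rfl | rfl | rfl | rfl <;> simp_all
      obtain ⟨q, k, hq, hk, hqk⟩ := (isPrimePow_nat_iff _).1 hpp
      have h3 := (Nat.prime_dvd_prime_iff_eq Nat.prime_three hq).1 (Nat.prime_three.dvd_of_dvd_pow (hqk ▸ by norm_num : 3 ∣ q ^ k))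
      have h5 := (Nat.prime_dvd_prime_iff_eq Nat.prime_five hq).1 (Nat.prime_five.dvd_of_dvd_pow (hqk ▸ by norm_num : 5 ∣ q ^ k))
      omega
    · have hmod := card_sylow_modEq_one 7 T
      have h15 := CfsgLib.HallGen.card_sylow_seven_ne_fifteen (S := T)
      unfold Nat.ModEq at hmod
      have : Nat.divisors 15 = {1, 3, 5, 15} := by decide
      rw [this] at hdvd
      simp only [Finset.mem_insert, Finset.mem_singleton] at hdvd
      omega
  rw [List.prod_eq_one key] at hl
  norm_num at hl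
end Cfsg.Agent.S4304
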