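import Cfsg.Statements.S3909
import Cfsg.Agent.Lib.Orders.DirectFactor

set_option autoImplicit false
open Cfsg
open scoped Pointwise

namespace Cfsg.Agent.S3909

/-- Let G be a finite group in which any two abelian subgroups of the same order are conjugate. Let M be a normal subgroup of G. If M contains an element of the same order as a ∈ G, then a ∈ M; and if M is elementary abelian of order p^t with p prime and t ≥ 2, then M is the unique Sylow p-subgroup of G. -/
theorem result {G : Type*} [Group G] [Finite G] (hB : ∀ A B : Subgroup G, IsMulCommutative ↥A → IsMulCommutative ↥B → Nat.card ↥A = Nat.card ↥B → ∃ g : G, B = A.map (MulAut.conj g).toMonoidHom) (M : Subgroup G) [M.Normal] :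
    (∀ a : G, (∃ m ∈ M, orderOf m = orderOf a) → a ∈ M) ∧
    ∀ (p t : ℕ) [Fact p.Prime], 2 ≤ t → Nat.card ↥M = p ^ t → Cfsg.IsElementaryAbelian p M → ∀ P : Sylow p G, (P : Subgroup G) = M := by
  have key : ∀ a : G, (∃ m ∈ M, orderOf m = orderOf a) → a ∈ M := by
    rintro a ⟨m, hm, ho⟩
    obtain ⟨g, hg⟩ := hB (Subgroup.zpowers a) (Subgroup.zpowers m) inferInstance inferInstance
      (by rw [Nat.card_zpowers, Nat.card_zpowers, ho])
    have h1 : g * a * g⁻¹ ∈ Subgroup.zpowers m :=
      hg.ge ⟨a, Subgroup.mem_zpowers a, rfl⟩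
    have h2 := (inferInstance : M.Normal).conj_mem _ (Subgroup.zpowers_le.2 hm h1) g⁻¹
    simpa [mul_assoc] using h2
  refine ⟨key, fun p t _ ht hcard hel P => ?_⟩
  have hMp : IsPGroup p M := IsPGroup.of_card hcard
  have hM1 : ∃ m ∈ M, orderOf m = p := by
    obtain ⟨m, hm⟩ := exists_prime_orderOf_dvd_card' (G := M) p
      (hcard ▸ dvd_pow_self p (by omega))
    exact ⟨m, m.2, by rw [Subgroup.orderOf_coe, hm]⟩
  have hle : (P : Subgroup G) ≤ M := by
    intro x hx
    obtain ⟨k, hk⟩ := IsPGroup.iff_orderOf.1 P.isPGroup' ⟨x, hx⟩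
    rw [Subgroup.orderOf_mk] at hk
    match k, hk with
    | 0, hk => rw [pow_zero, orderOf_eq_one_iff] at hk; rw [hk]; exact one_mem _
    | 1, hk => exact key x (by rw [hk, pow_one]; exact hM1)
    | j + 2, hk =>
      exfalso
      have hy : orderOf (x ^ p ^ j) = p ^ 2 := by
        rw [orderOf_pow_of_dvd (pow_ne_zero _ (Fact.out : p.Prime).ne_zero), hk,
          pow_add, Nat.mul_div_cancel_left _ (pow_pos (Fact.out : p.Prime).pos j)]
        rw [hk]; exact pow_dvd_pow p (by omega)
      obtain ⟨K, hK⟩ := Sylow.exists_subgroup_card_pow_prime (G := M) p (n := 2)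
        (hcard ▸ pow_dvd_pow p ht)
      have hKM : K.map M.subtype ≤ M := Subgroup.map_subtype_le K
      have hKc : IsMulCommutative ↥(K.map M.subtype) := ⟨⟨fun a b => by
        have h := congrArg Subtype.val (hel.1.is_comm.comm ⟨(a : G), hKM a.2⟩ ⟨(b : G), hKM b.2⟩)
        exact Subtype.ext h⟩⟩
      obtain ⟨g, hg⟩ := hB (K.map M.subtype) (Subgroup.zpowers (x ^ p ^ j)) hKc inferInstance
        (by rw [Subgroup.card_subtype, hK, Nat.card_zpowers, hy])
      obtain ⟨m, hm, hm'⟩ := hg.le (Subgroup.mem_zpowers (x ^ p ^ j))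
      have h1 : (x ^ p ^ j) ^ p = 1 := by
        rw [← hm', ← map_pow, hel.2 m (hKM hm), map_one]
      have h2 := orderOf_dvd_of_pow_eq_one h1
      rw [hy] at h2
      have := Nat.le_of_dvd (Fact.out : p.Prime).pos h2
      have := (Fact.out : p.Prime).two_le
      nlinarith
  exact (P.is_maximal' hMp hle).symm

end Cfsg.Agent.S3909
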