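import Cfsg.Statements.S3911
import Cfsg.Agent.Lib.Orders.ConjugateSubgroups
import Cfsg.Agent.Lib.Orders.AbelianLift

set_option autoImplicit false
open Cfsg
open scoped Pointwise commutatorElement

namespace Cfsg.Agent.S3911

/-- Let G be a finite group in which any two abelian subgroups of the same order are conjugate. If M is a normal subgroup of G of odd order, then any two abelian subgroups of G/M of the same order are conjugate in G/M. -/
theorem result {G : Type*} [Group G] [Finite G] (hB : ∀ A B : Subgroup G, IsMulCommutative ↥A → IsMulCommutative ↥B → Nat.card ↥A = Nat.card ↥B → ∃ g : G, B = A.map (MulAut.conj g).toMonoidHom) (M : Subgroup G) [M.Normal] (hM : Odd (Nat.card ↥M)) :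
    ∀ A B : Subgroup (G ⧸ M), IsMulCommutative ↥A → IsMulCommutative ↥B → Nat.card ↥A = Nat.card ↥B →
      ∃ g : G ⧸ M, B = A.map (MulAut.conj g).toMonoidHom := by
  classical
  refine CfsgLib.Orders.AbelianLift.conj_quotient hB M ?_
  intro p hp hpM hpi P
  haveI := Fact.mk hp
  have hp2 : p ≠ 2 := by
    rintro rfl
    exact (Nat.not_even_iff_odd.2 hM) (even_iff_two_dvd.2 hpM)
  have hconj : ∀ A B : Subgroup ↥(P : Subgroup G), IsMulCommutative A → IsMulCommutative B →
      Nat.card A = p ^ 2 → Nat.card B = p ^ 2 → (∀ a ∈ A, a ^ p = 1) → ∀ b ∈ B, b ^ p = 1 := by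
    intro A B hA hB' h1 h2 hexp b hb
    haveI := hA; haveI := hB'
    obtain ⟨g, hg⟩ := hB (A.map (P : Subgroup G).subtype) (B.map (P : Subgroup G).subtype)
      (Subgroup.map_isMulCommutative _ _) (Subgroup.map_isMulCommutative _ _)
      (by rw [Subgroup.card_map_of_injective (Subgroup.subtype_injective _),
        Subgroup.card_map_of_injective (Subgroup.subtype_injective _), h1, h2])
    have h3 : (b : G) ∈ (A.map (P : Subgroup G).subtype).map (MulAut.conj g).toMonoidHom :=
      hg ▸ Subgroup.mem_map_of_mem _ hb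
    obtain ⟨_, ⟨a, ha, rfl⟩, hab⟩ := h3
    refine Subtype.ext ?_
    rw [Subgroup.coe_pow, ← hab, ← map_pow, ← map_pow, hexp a ha, map_one, map_one]
    rfl
  rcases CfsgLib.Orders.ConjSub.pow_eq_one_or_unique P.isPGroup' hconj with hexp | huniq
  · exfalso
    obtain ⟨⟨m, hm⟩, hmo⟩ := exists_prime_orderOf_dvd_card' p hpM
    rw [Subgroup.orderOf_mk] at hmo
    have hPM : (P : Subgroup G) ≤ M := by
      intro x hx
      by_cases hx1 : x = 1
      · exact hx1 ▸ one_mem _
      have hxo : orderOf x = p := orderOf_eq_prime (congrArg Subtype.val (hexp ⟨x, hx⟩)) hx1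
      obtain ⟨g, hg⟩ := hB (Subgroup.zpowers m) (Subgroup.zpowers x) inferInstance inferInstance
        (by rw [Nat.card_zpowers, Nat.card_zpowers, hmo, hxo])
      obtain ⟨y, hy, hyx⟩ : x ∈ (Subgroup.zpowers m).map (MulAut.conj g).toMonoidHom :=
        hg ▸ Subgroup.mem_zpowers x
      rw [← hyx]
      exact (inferInstance : M.Normal).conj_mem y (Subgroup.zpowers_le.2 hm hy) g
    exact P.not_dvd_index (hpi.trans (Subgroup.index_dvd_of_le hPM))
  · rcases CfsgLib.Core.UniqueOrderP.isCyclic_or_quaternion_of_unique P.isPGroup' huniq with h | ⟨h, -⟩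
    · exact h
    · exact absurd h hp2

end Cfsg.Agent.S3911
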