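import Cfsg.Statements.S3912
import Cfsg.Agent.S3909
import Cfsg.Agent.Lib.SolvStruct.NilFactor
import Cfsg.Agent.S3911
import Cfsg.Agent.Lib.Core.MinNormal
import Cfsg.Agent.Lib.Core.UniqueOrderP
import Cfsg.Agent.Lib.Core.PLengthTwoMaximal
-- import your own Cfsg.Agent.* helpers here

set_option autoImplicit false
open Cfsg

set_option linter.all false

namespace Cfsg.Agent.S3912

set_option maxHeartbeats 800000

open CfsgLib.Core
open scoped commutatorElement

universe u

/-- The hypothesis on abelian subgroups. -/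
def ConjAb (G : Type*) [Group G] : Prop :=
  ∀ A B : Subgroup G, IsMulCommutative ↥A → IsMulCommutative ↥B → Nat.card ↥A = Nat.card ↥B →
    ∃ g : G, B = A.map (MulAut.conj g).toMonoidHom

theorem conjAb_of_equiv {G H : Type*} [Group G] [Group H] (e : G ≃* H) (h : ConjAb G) : ConjAb H := by
  intro A B hA hB hcard
  haveI := hA; haveI := hB
  obtain ⟨g, hg⟩ := h (A.map e.symm.toMonoidHom) (B.map e.symm.toMonoidHom)
    (Subgroup.map_isMulCommutative _ _) (Subgroup.map_isMulCommutative _ _)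
    (by rw [Subgroup.card_map_of_injective (f := e.symm.toMonoidHom) e.symm.injective,
      Subgroup.card_map_of_injective (f := e.symm.toMonoidHom) e.symm.injective, hcard])
  refine ⟨e g, ?_⟩
  ext x
  constructor
  · intro hx
    obtain ⟨_, ⟨a, ha, rfl⟩, hy⟩ := hg.le (Subgroup.mem_map_of_mem e.symm.toMonoidHom hx)
    refine ⟨a, ha, e.symm.injective ?_⟩
    refine Eq.trans ?_ hy
    show e.symm (e g * a * (e g)⁻¹) = g * e.symm a * g⁻¹
    rw [map_mul, map_mul, map_inv, e.symm_apply_apply]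
  · rintro ⟨a, ha, rfl⟩
    obtain ⟨b, hb, hb'⟩ := hg.ge ⟨_, Subgroup.mem_map_of_mem e.symm.toMonoidHom ha, rfl⟩
    have : b = e g * a * (e g)⁻¹ := e.symm.injective (by
      refine Eq.trans hb' ?_
      show g * e.symm a * g⁻¹ = e.symm (e g * a * (e g)⁻¹)
      rw [map_mul, map_mul, map_inv, e.symm_apply_apply])
    show e g * a * (e g)⁻¹ ∈ B
    rw [← this]
    exact hb

theorem conjAb_quotient_odd {G : Type*} [Group G] [Finite G] (h : ConjAb G) (M : Subgroup G) [M.Normal]
    (hM : Odd (Nat.card ↥M)) : ConjAb (G ⧸ M) := Cfsg.Agent.S3911.result h M hM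

/-- Outside the cyclic case the Sylow `2`-subgroups with one involution have order at most `8`. -/
theorem sylow_two_small : ∀ (k : ℕ) (G : Type u) [Group G] [Finite G], Nat.card G = k →
    Group.IsSolvable G → ConjAb G → ∀ S : Sylow 2 G,
    (∀ H K : Subgroup ↥(S : Subgroup G), Nat.card H = 2 → Nat.card K = 2 → H = K) →
    IsCyclic ↥(S : Subgroup G) ∨ Nat.card ↥(S : Subgroup G) ≤ 8 := by
  intro k
  induction k using Nat.strongRecOn with
  | ind k ih =>
  intro G _ _ hk hsol hB S huniq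
  classical
  haveI := hsol
  haveI : Fact (Nat.Prime 2) := ⟨Nat.prime_two⟩
  by_cases hodd : ∃ M : Subgroup G, M.Normal ∧ M ≠ ⊥ ∧ Odd (Nat.card M)
  · obtain ⟨M, hMn, hM0, hModd⟩ := hodd
    haveI := hMn
    have hlt : Nat.card (G ⧸ M) < k := by
      rw [← hk, M.card_eq_card_quotient_mul_card_subgroup]
      refine lt_mul_of_one_lt_right Nat.card_pos ?_
      exact M.one_lt_card_iff_ne_bot.2 hM0
    let S' := S.mapSurjective (QuotientGroup.mk'_surjective M)
    let e : ↥(S : Subgroup G) →* ↥(S' : Subgroup (G ⧸ M)) := (QuotientGroup.mk' M).subgroupMap S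
    have he : Function.Injective e := by
      rw [injective_iff_map_eq_one]
      intro x hx
      have hxM : (x : G) ∈ M := (QuotientGroup.eq_one_iff _).1 (congrArg Subtype.val hx)
      obtain ⟨i, hi⟩ := IsPGroup.iff_orderOf.1 S.2 x
      have h1 := Subgroup.orderOf_dvd_natCard M hxM
      rw [Subgroup.orderOf_coe, hi] at h1
      rcases i with _ | i
      · rwa [pow_zero, orderOf_eq_one_iff] at hi
      · exact absurd ((dvd_pow_self 2 i.succ_ne_zero).trans h1) (by
          rw [← even_iff_two_dvd]; exact Nat.not_even_iff_odd.2 hModd)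
    let f : ↥(S : Subgroup G) ≃* ↥(S' : Subgroup (G ⧸ M)) :=
      MulEquiv.ofBijective e ⟨he, (QuotientGroup.mk' M).subgroupMap_surjective S⟩
    haveI : Group.IsSolvable (G ⧸ M) := inferInstance
    rcases ih _ hlt (G ⧸ M) rfl inferInstance (conjAb_quotient_odd hB M hModd) S' (fun H K hH hK => by
      have h := huniq (H.map f.symm.toMonoidHom) (K.map f.symm.toMonoidHom)
        (by rw [Subgroup.card_map_of_injective (f := f.symm.toMonoidHom) f.symm.injective, hH])
        (by rw [Subgroup.card_map_of_injective (f := f.symm.toMonoidHom) f.symm.injective, hK])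
      exact Subgroup.map_injective f.symm.injective h) with h | h
    · exact Or.inl (f.isCyclic.2 h)
    · exact Or.inr ((Nat.card_congr f.toEquiv).le.trans h)
  rcases CfsgLib.Core.UniqueOrderP.isCyclic_or_quaternion_of_unique S.2 huniq with h | ⟨-, n, ⟨e⟩⟩
  · exact Or.inl h
  rcases Nat.lt_or_ge n 2 with hn | hn
  · refine Or.inr ?_
    haveI : NeZero (2 ^ n) := ⟨pow_ne_zero _ two_ne_zero⟩
    rw [Nat.card_congr e.toEquiv, Nat.card_eq_fintype_card, QuaternionGroup.card]
    have : 2 ^ n ≤ 2 ^ 1 := Nat.pow_le_pow_right (by norm_num) (by omega)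
    omega
  exfalso
  haveI : NeZero (2 ^ n) := ⟨pow_ne_zero _ two_ne_zero⟩
  set N := 2 ^ n with hN
  have hN4 : 4 ≤ N := (Nat.pow_le_pow_right (by norm_num) hn : 2 ^ 2 ≤ 2 ^ n)
  -- `O_2` is self-centralising
  set R := Cfsg.pCore 2 G with hR
  have hO : Cfsg.pPrimeCore 2 G = ⊥ := by
    by_contra h
    refine hodd ⟨_, inferInstance, h, ?_⟩
    rw [← Nat.not_even_iff_odd, even_iff_two_dvd]
    exact fun h2 => Nat.prime_two.ne_one
      (Nat.Coprime.eq_one_of_dvd (coprime_card_pPrimeCore 2 G).symm h2)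
  have hCR := CfsgLib.PLocal.centralizer_pCore_le
    (CfsgLib.Core.isPSolvable_of_isSolvable (p := 2) hsol) hO
  have hRS : R ≤ (S : Subgroup G) := (isPGroup_pCore 2 G).le_sylow_of_normal S
  have hxa : ∀ i : ZMod (2 * N), orderOf (((e.symm (QuaternionGroup.xa i)) : ↥(S : Subgroup G)) : G) = 4 :=
    fun i => by rw [Subgroup.orderOf_coe, e.symm.orderOf_eq, QuaternionGroup.orderOf_xa]
  -- `R` has an element of order four
  obtain ⟨w, hwR, hw⟩ : ∃ w ∈ R, orderOf w = 4 := by
    by_contra hne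
    push Not at hne
    have h2 : ∀ w ∈ R, w ^ 2 = 1 := by
      intro w hw
      obtain ⟨i, hi⟩ := IsPGroup.iff_orderOf.1 (isPGroup_pCore 2 G) ⟨w, hw⟩
      rw [Subgroup.orderOf_mk] at hi
      rcases Nat.lt_or_ge i 2 with h | h
      · exact orderOf_dvd_iff_pow_eq_one.1 (by rw [hi]; exact pow_dvd_pow 2 (by omega : i ≤ 1))
      · refine absurd ?_ (hne (w ^ 2 ^ (i - 2)) (pow_mem hw _))
        rw [orderOf_pow_of_dvd (pow_ne_zero _ two_ne_zero) (by rw [hi]; exact pow_dvd_pow 2 (by omega)),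
          hi, Nat.pow_div (by omega) (by norm_num), show i - (i - 2) = 2 by omega]
    -- so `R` has order at most two and is central
    have hall : ∀ g : G, g ∈ R := by
      intro g
      refine hCR ?_
      rw [Subgroup.mem_centralizer_iff]
      intro w hw
      by_cases hw1 : w = 1
      · rw [hw1, one_mul, mul_one]
      have hc : g * w * g⁻¹ ∈ R := (inferInstance : R.Normal).conj_mem w hw g
      have hcw : g * w * g⁻¹ = w := by
        have ho : ∀ v ∈ R, v ≠ 1 → Nat.card (Subgroup.zpowers v) = 2 := fun v hv hv1 => by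
          rw [Nat.card_zpowers, orderOf_eq_prime (h2 v hv) hv1]
        have hc1 : g * w * g⁻¹ ≠ 1 := fun h => hw1 (conj_eq_one_iff.1 h)
        have h := huniq (Subgroup.zpowers ⟨w, hRS hw⟩) (Subgroup.zpowers ⟨_, hRS hc⟩)
          (by rw [Nat.card_zpowers, ← Subgroup.orderOf_coe, ← Nat.card_zpowers]; exact ho w hw hw1)
          (by rw [Nat.card_zpowers, ← Subgroup.orderOf_coe, ← Nat.card_zpowers]; exact ho _ hc hc1)
        have hm : (⟨_, hRS hc⟩ : ↥(S : Subgroup G)) ∈ Subgroup.zpowers (⟨w, hRS hw⟩ : ↥(S : Subgroup G)) :=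
          h ▸ Subgroup.mem_zpowers _
        obtain ⟨j, hj⟩ := Subgroup.mem_zpowers_iff.1 hm
        have hj' : w ^ j = g * w * g⁻¹ := by simpa using congrArg Subtype.val hj
        rcases Int.even_or_odd j with ⟨l, rfl⟩ | ⟨l, rfl⟩
        · rw [← two_mul, zpow_mul, show w ^ (2 : ℤ) = 1 by rw [zpow_two, ← pow_two]; exact h2 w hw, one_zpow] at hj'
          exact absurd hj'.symm hc1
        · rw [zpow_add, zpow_mul, show w ^ (2 : ℤ) = 1 by rw [zpow_two, ← pow_two]; exact h2 w hw, one_zpow, one_mul, zpow_one] at hj'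
          exact hj'.symm
      rw [mul_inv_eq_iff_eq_mul] at hcw
      exact hcw.symm
    have h4 := hxa 0
    have h5 := orderOf_dvd_of_pow_eq_one (h2 _ (hall ((e.symm (QuaternionGroup.xa 0) : ↥(S : Subgroup G)) : G)))
    rw [h4] at h5
    omega
  have hkey : ∀ v : G, orderOf v = 4 → ∃ g : G, Subgroup.zpowers v =
      (Subgroup.zpowers w).map (MulAut.conj g).toMonoidHom := fun v hv =>
    hB _ _ inferInstance inferInstance (by rw [Nat.card_zpowers, Nat.card_zpowers, hv, hw])
  have h4R : ∀ v : G, orderOf v = 4 → v ∈ R := by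
    intro v hv
    obtain ⟨g, hg⟩ := hkey v hv
    obtain ⟨y, hy, hyv⟩ := hg.le (Subgroup.mem_zpowers v)
    rw [← hyv]
    exact (inferInstance : R.Normal).conj_mem y (Subgroup.zpowers_le.2 hwR hy) g
  -- so the Sylow subgroup is normal
  have hSR : (S : Subgroup G) ≤ R := by
    intro s hs
    have hx0 := h4R _ (hxa 0)
    have hxi : ∀ i, ((e.symm (QuaternionGroup.xa i) : ↥(S : Subgroup G)) : G) ∈ R := fun i => h4R _ (hxa i)
    rcases hcase : e ⟨s, hs⟩ with i | i
    · have : (⟨s, hs⟩ : ↥(S : Subgroup G)) =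
          (e.symm (QuaternionGroup.xa 0))⁻¹ * e.symm (QuaternionGroup.xa i) := by
        rw [eq_inv_mul_iff_mul_eq, ← e.injective.eq_iff, map_mul, e.apply_symm_apply,
          e.apply_symm_apply, hcase, QuaternionGroup.xa_mul_a, zero_add]
      have h := congrArg Subtype.val this
      rw [Subgroup.coe_mul, Subgroup.coe_inv] at h
      rw [show s = _ from h]
      exact mul_mem (inv_mem hx0) (hxi i)
    · have : (⟨s, hs⟩ : ↥(S : Subgroup G)) = e.symm (QuaternionGroup.xa i) := by
        rw [← hcase, e.symm_apply_apply]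
      rw [show s = _ from congrArg Subtype.val this]
      exact hxi i
  have hSn : (S : Subgroup G) = R := le_antisymm hSR hRS
  -- but then the subgroup of order four of the cyclic maximal subgroup is normal
  set u : ↥(S : Subgroup G) := e.symm ((QuaternionGroup.a 1) ^ (2 ^ (n - 1))) with hu
  have hu4 : orderOf (u : G) = 4 := by
    rw [Subgroup.orderOf_coe, hu, e.symm.orderOf_eq, orderOf_pow_of_dvd (pow_ne_zero _ two_ne_zero)
      (by rw [QuaternionGroup.orderOf_a_one, hN, ← pow_succ']; exact pow_dvd_pow 2 (by omega)),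
      QuaternionGroup.orderOf_a_one, hN, ← pow_succ', Nat.pow_div (by omega) (by norm_num),
      show n + 1 - (n - 1) = 2 by omega]
  obtain ⟨g1, hg1⟩ := hkey _ hu4
  obtain ⟨g2, hg2⟩ := hkey _ (hxa 0)
  set x0 : ↥(S : Subgroup G) := e.symm (QuaternionGroup.xa 0) with hx0def
  -- `x0` generates a subgroup that its conjugate `g` carries to that of `u`
  set g := g1 * g2⁻¹ with hg
  have hconj : Subgroup.zpowers (u : G) = (Subgroup.zpowers (x0 : G)).map (MulAut.conj g).toMonoidHom := by
    rw [hg1, hg2, Subgroup.map_map]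
    congr 1
    refine MonoidHom.ext fun y => ?_
    show g1 * y * g1⁻¹ = (g1 * g2⁻¹) * (g2 * y * g2⁻¹) * (g1 * g2⁻¹)⁻¹
    group
  have hnormu : ∀ s : ↥(S : Subgroup G), s * u * s⁻¹ ∈ Subgroup.zpowers u := by
    intro s
    have hua : ∀ i : ZMod (2 * N), QuaternionGroup.a i * (QuaternionGroup.a 1) ^ (2 ^ (n - 1)) *
        (QuaternionGroup.a i)⁻¹ = ((QuaternionGroup.a 1) ^ (2 ^ (n - 1)) : QuaternionGroup N) := by
      intro i
      rw [QuaternionGroup.a_one_pow, mul_inv_eq_iff_eq_mul, QuaternionGroup.a_mul_a,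
        QuaternionGroup.a_mul_a, add_comm]
    have huxa : ∀ i : ZMod (2 * N), QuaternionGroup.xa i * (QuaternionGroup.a 1) ^ (2 ^ (n - 1)) *
        (QuaternionGroup.xa i)⁻¹ = ((QuaternionGroup.a 1) ^ (2 ^ (n - 1)) : QuaternionGroup N)⁻¹ := by
      intro i
      rw [mul_inv_eq_iff_eq_mul, eq_inv_mul_iff_mul_eq, QuaternionGroup.a_one_pow,
        QuaternionGroup.xa_mul_a, QuaternionGroup.a_mul_xa, add_sub_cancel_right]
    have hmem : e s * e u * (e s)⁻¹ ∈ Subgroup.zpowers (e u) := by
      rw [show e u = (QuaternionGroup.a 1) ^ (2 ^ (n - 1)) by rw [hu, e.apply_symm_apply]]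
      rcases e s with i | i
      · rw [hua]; exact Subgroup.mem_zpowers _
      · rw [huxa]; exact Subgroup.inv_mem _ (Subgroup.mem_zpowers _)
    obtain ⟨j, hj⟩ := Subgroup.mem_zpowers_iff.1 hmem
    refine Subgroup.mem_zpowers_iff.2 ⟨j, e.injective ?_⟩
    rw [map_zpow, hj, map_mul, map_mul, map_inv]
  have hnormx : e x0 = QuaternionGroup.xa 0 ∧
      QuaternionGroup.a (1 : ZMod (2 * N)) * QuaternionGroup.xa 0 * (QuaternionGroup.a 1)⁻¹ ∈
        Subgroup.zpowers (QuaternionGroup.xa (0 : ZMod (2 * N))) := by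
    refine ⟨by rw [hx0def, e.apply_symm_apply], ?_⟩
    set s : ↥(S : Subgroup G) := e.symm (QuaternionGroup.a 1) with hs
    have hsg : g * (s : G) * g⁻¹ ∈ (S : Subgroup G) := by
      exact hSn.ge ((inferInstance : R.Normal).conj_mem _ (hSn.le s.2) g)
    have h1 := hnormu ⟨_, hsg⟩
    obtain ⟨y, hy, hyu⟩ := hconj.le (Subgroup.mem_zpowers (u : G))
    obtain ⟨j, hj⟩ := Subgroup.mem_zpowers_iff.1 hy
    obtain ⟨l, hl⟩ := Subgroup.mem_zpowers_iff.1 h1
    obtain ⟨c, hc⟩ := Subgroup.mem_zpowers_iff.1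
      (show (g : G) * x0 * g⁻¹ ∈ Subgroup.zpowers (u : G) from
        hconj.ge ⟨_, Subgroup.mem_zpowers _, rfl⟩)
    have hl' : (u : G) ^ l = g * (s : G) * g⁻¹ * (u : G) * (g * (s : G) * g⁻¹)⁻¹ := by
      have := congrArg Subtype.val hl
      simpa using this
    have hyu' : (u : G) = g * (x0 : G) ^ j * g⁻¹ := by rw [hj]; exact hyu.symm
    have key : (s : G) * (x0 : G) * (s : G)⁻¹ = (x0 : G) ^ (j * (l * c)) := by
      have e1 : g * ((s : G) * (x0 : G) * (s : G)⁻¹) * g⁻¹ =
          (g * (s : G) * g⁻¹) * (g * (x0 : G) * g⁻¹) * (g * (s : G) * g⁻¹)⁻¹ := by group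
      rw [← hc, ← conj_zpow, ← hl'] at e1
      rw [hyu', ← zpow_mul, conj_zpow, ← zpow_mul] at e1
      exact mul_left_cancel (mul_right_cancel e1)
    refine Subgroup.mem_zpowers_iff.2 ⟨j * (l * c), ?_⟩
    have := congrArg e (Subtype.ext (a1 := s * x0 * s⁻¹) (a2 := x0 ^ (j * (l * c))) (by simpa using key))
    rw [map_mul, map_mul, map_inv, map_zpow, hs, hx0def, e.apply_symm_apply, e.apply_symm_apply] at this
    exact this.symm
  obtain ⟨j, hj⟩ := Subgroup.mem_zpowers_iff.1 hnormx.2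
  have ha1 : QuaternionGroup.a (1 : ZMod (2 * N)) * QuaternionGroup.xa 0 * (QuaternionGroup.a 1)⁻¹ =
      QuaternionGroup.xa (-2) := by
    rw [mul_inv_eq_iff_eq_mul, QuaternionGroup.a_mul_xa, QuaternionGroup.xa_mul_a]
    congr 1
    ring
  rw [ha1] at hj
  have hpow : ∀ m : ℕ, m < 4 → (QuaternionGroup.xa (0 : ZMod (2 * N))) ^ m ≠ QuaternionGroup.xa (-2) := by
    have hne : ∀ c : ℕ, 0 < c → c < 2 * N → (c : ZMod (2 * N)) ≠ 0 := fun c hc hc' h => by
      rw [ZMod.natCast_eq_zero_iff] at h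
      exact absurd (Nat.le_of_dvd hc h) (not_le.2 hc')
    intro m hm h
    interval_cases m
    · rw [pow_zero, QuaternionGroup.one_def] at h; cases h
    · rw [pow_one] at h
      have h' : (0 : ZMod (2 * N)) = -2 := by injection h
      exact hne 2 two_pos (by omega) (by push_cast; linear_combination h')
    · rw [pow_two, QuaternionGroup.xa_mul_xa] at h; cases h
    · rw [pow_succ, pow_two, QuaternionGroup.xa_mul_xa, QuaternionGroup.a_mul_xa] at h
      have h' : (0 : ZMod (2 * N)) - ((N : ZMod (2 * N)) + 0 - 0) = -2 := by injection h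
      obtain ⟨w, hw⟩ : ∃ w, N = w + 2 := ⟨N - 2, by omega⟩
      refine hne w (by omega) (by omega) ?_
      have : (N : ZMod (2 * N)) = (w : ZMod (2 * N)) + 2 := by rw [show (N : ZMod (2 * N)) = ((w + 2 : ℕ) : ZMod (2 * N)) from congrArg _ hw]; push_cast; ring
      linear_combination -h' - this
  obtain ⟨m, hm⟩ := mem_powers_iff_mem_zpowers.2 (Subgroup.mem_zpowers_iff.2 ⟨j, hj⟩)
  refine hpow (m % 4) (Nat.mod_lt _ (by norm_num)) ?_
  rw [← QuaternionGroup.orderOf_xa (0 : ZMod (2 * N)), pow_mod_orderOf]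
  exact hm

theorem map_lift_step {G : Type u} [Group G] [Finite G] (hsol : Group.IsSolvable G) (hB : ConjAb G)
    (M : Subgroup G) [M.Normal] (hM : Nat.card M = 2) : ConjAb (G ⧸ M) := by
  classical
  haveI := hsol
  haveI : Fact (Nat.Prime 2) := ⟨Nat.prime_two⟩
  obtain ⟨z, hz1, hz⟩ : ∃ z : G, z ≠ 1 ∧ z ∈ M := by
    by_contra h
    push Not at h
    have : M = ⊥ := (Subgroup.eq_bot_iff_forall _).2 fun x hx => by
      by_contra h1
      exact h x h1 hx
    rw [this, Subgroup.card_bot] at hM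
    omega
  have hM' : ∀ x ∈ M, x = 1 ∨ x = z := by
    intro x hx
    by_contra h
    push Not at h
    haveI := Fintype.ofFinite M
    have h3 : ({1, ⟨x, hx⟩, ⟨z, hz⟩} : Finset M).card ≤ 2 := by
      rw [← hM, Nat.card_eq_fintype_card]
      exact Finset.card_le_univ _
    rw [Finset.card_insert_of_notMem, Finset.card_insert_of_notMem, Finset.card_singleton] at h3
    · omega
    · simp only [Finset.mem_singleton, Subtype.mk.injEq]; exact h.2
    · simp only [Finset.mem_insert, Finset.mem_singleton]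
      exact not_or.2 ⟨fun e => h.1 (congrArg Subtype.val e).symm, fun e => hz1 (congrArg Subtype.val e).symm⟩
  have hzc : z ∈ Subgroup.center G := Subgroup.mem_center_iff.2 fun g => by
    rcases hM' _ ((inferInstance : M.Normal).conj_mem z hz g) with h | h
    · exact absurd (conj_eq_one_iff.1 h) hz1
    · exact mul_inv_eq_iff_eq_mul.1 h
  have hMc : M ≤ Subgroup.center G := fun x hx => by
    rcases hM' x hx with rfl | rfl
    · exact one_mem _
    · exact hzc
  -- one involution
  have hinv : ∀ H : Subgroup G, Nat.card H = 2 → H = M := by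
    intro H hH
    haveI : Fact (Nat.Prime 2) := ⟨Nat.prime_two⟩
    haveI hHc : IsMulCommutative H := by
      haveI := isCyclic_of_prime_card hH
      exact ⟨⟨IsCyclic.commGroup.mul_comm⟩⟩
    haveI hMcm : IsMulCommutative M := by
      haveI := isCyclic_of_prime_card hM
      exact ⟨⟨IsCyclic.commGroup.mul_comm⟩⟩
    obtain ⟨g, hg⟩ := hB M H hMcm hHc (hM.trans hH.symm)
    rw [hg]
    refine Subgroup.eq_of_le_of_card_ge ?_ (by rw [← hg, hH, hM])
    rintro _ ⟨x, hx, rfl⟩
    exact (inferInstance : M.Normal).conj_mem x hx g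
  have huniq : ∀ S : Sylow 2 G, ∀ H K : Subgroup ↥(S : Subgroup G), Nat.card H = 2 → Nat.card K = 2 → H = K := by
    intro S H K hH hK
    refine Subgroup.map_injective (S : Subgroup G).subtype_injective ?_
    rw [hinv (H.map _) (by rw [Subgroup.card_subtype, hH]),
      hinv (K.map _) (by rw [Subgroup.card_subtype, hK])]
  intro A B hA hBc hcard
  by_cases hcyc : ∀ S : Sylow 2 G, IsCyclic ↥(S : Subgroup G)
  · refine CfsgLib.Orders.AbelianLift.conj_quotient hB M (fun p hp hpM _ P => ?_) A B hA hBc hcard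
    rw [hM] at hpM
    obtain rfl := (Nat.prime_dvd_prime_iff_eq hp Nat.prime_two).1 hpM
    exact hcyc P
  push Not at hcyc
  obtain ⟨S₀, hS₀⟩ := hcyc
  have h8 : ∀ S : Sylow 2 G, Nat.card ↥(S : Subgroup G) ≤ 8 := by
    intro S
    rw [Nat.card_congr (S.equiv S₀).toEquiv]
    exact (sylow_two_small _ G rfl hsol hB S₀ (huniq S₀)).resolve_left hS₀
  set π := QuotientGroup.mk' M with hπ
  have hπs := QuotientGroup.mk'_surjective M
  -- the preimage of an abelian subgroup
  have pre : ∀ A : Subgroup (G ⧸ M), IsMulCommutative A → Nat.card (A.comap π) = Nat.card A * 2 ∧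
      Group.IsNilpotent (A.comap π) := by
    intro A hA
    refine ⟨?_, ?_⟩
    · have h := Subgroup.relIndex_ker π (K := A.comap π)
      rw [QuotientGroup.ker_mk', Subgroup.map_comap_eq_self_of_surjective hπs] at h
      rw [← h, ← hM, ← Subgroup.relIndex_bot_left (A.comap π), mul_comm,
        ← Subgroup.relIndex_bot_left M,
        Subgroup.relIndex_mul_relIndex ⊥ M (A.comap π) bot_le
          (fun x hx => by
            rw [Subgroup.mem_comap, show π x = 1 from (QuotientGroup.eq_one_iff x).2 hx]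
            exact one_mem _)]
    · haveI := hA
      let f : A.comap π →* A := π.subgroupComap A
      haveI : Group.IsNilpotent A := by
        letI : CommGroup A := { (inferInstance : Group A) with mul_comm := fun a b => hA.is_comm.comm a b }
        infer_instance
      refine Subgroup.isNilpotent_of_ker_le_center f (fun x hx => ?_)
      rw [Subgroup.mem_center_iff]
      intro y
      refine Subtype.ext ?_
      have hxM : (x : G) ∈ M := (QuotientGroup.eq_one_iff _).1 (congrArg Subtype.val hx)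
      exact (Subgroup.mem_center_iff.1 (hMc hxM) y)
  obtain ⟨hcA, hnA⟩ := pre A hA
  obtain ⟨hcB, hnB⟩ := pre B hBc
  set D := A.comap π with hD
  set E := B.comap π with hE
  have hDA : D.map π = A := Subgroup.map_comap_eq_self_of_surjective hπs A
  have hEB : E.map π = B := Subgroup.map_comap_eq_self_of_surjective hπs B
  have finish : ∀ g : G, E = D.map (MulAut.conj g).toMonoidHom →
      ∃ h : G ⧸ M, B = A.map (MulAut.conj h).toMonoidHom := by
    intro g hg
    refine ⟨π g, ?_⟩
    rw [← hEB, ← hDA, hg, Subgroup.map_map, Subgroup.map_map]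
    congr 1
  by_cases hab : IsMulCommutative D ∧ IsMulCommutative E
  · obtain ⟨g, hg⟩ := hB D E hab.1 hab.2 (by rw [hcA, hcB, hcard])
    exact finish g hg
  -- a nonabelian preimage contains a Sylow `2`-subgroup of `G`
  have split : ∀ D : Subgroup G, Group.IsNilpotent D → (∀ x ∈ D, ∀ y ∈ D, ⁅x, y⁆ ∈ M) →
      ∃ P T : Subgroup G, IsPGroup 2 P ∧ IsMulCommutative T ∧ Odd (Nat.card T) ∧ D = P ⊔ T ∧
        (∀ x ∈ P, ∀ y ∈ T, x * y = y * x) ∧ Nat.card P * Nat.card T = Nat.card D ∧
        (IsMulCommutative D ∨ 8 ∣ Nat.card P) := by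
    intro D hD hcom
    obtain ⟨Q⟩ : Nonempty (Sylow 2 D) := inferInstance
    haveI := hD
    haveI : (Q : Subgroup D).Normal := inferInstance
    obtain ⟨T, hT⟩ := Subgroup.exists_right_complement'_of_coprime (N := (Q : Subgroup D))
      Q.card_coprime_index
    have hTodd : Odd (Nat.card T) := by
      rw [← Nat.not_even_iff_odd, even_iff_two_dvd]
      intro h
      exact Q.not_dvd_index (by rwa [hT.symm.index_eq_card])
    have hc : ∀ x ∈ (Q : Subgroup D), ∀ y ∈ T, x * y = y * x := by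
      intro x hx y hy
      refine CfsgLib.SolvStruct.commute_of_coprime_orderOf_of_isNilpotent ?_
      obtain ⟨i, hi⟩ := IsPGroup.iff_orderOf.1 Q.2 ⟨x, hx⟩
      rw [Subgroup.orderOf_mk] at hi
      rw [hi]
      refine Nat.Coprime.coprime_dvd_right (Subgroup.orderOf_dvd_natCard T hy) (Nat.Coprime.pow_left i ?_)
      exact (Nat.prime_two.coprime_iff_not_dvd).2 fun h => (Nat.not_even_iff_odd.2 hTodd) (even_iff_two_dvd.2 h)
    have hTab : ∀ x ∈ T, ∀ y ∈ T, x * y = y * x := by
      intro x hx y hy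
      have h1 : ⁅x, y⁆ ∈ T := mul_mem (mul_mem (mul_mem hx hy) (inv_mem hx)) (inv_mem hy)
      have h2 : ((⁅x, y⁆ : D) : G) ∈ M := hcom x x.2 y y.2
      refine commutatorElement_eq_one_iff_mul_comm.1 (Subtype.ext ?_)
      rcases hM' _ h2 with h | h
      · exact h
      · exfalso
        have hd := Subgroup.orderOf_dvd_natCard T h1
        rw [← Subgroup.orderOf_coe, h, orderOf_eq_prime (p := 2) ?_ hz1] at hd
        · exact (Nat.not_even_iff_odd.2 hTodd) (even_iff_two_dvd.2 hd)
        · have := congrArg Subtype.val (pow_card_eq_one' (x := (⟨z, hz⟩ : M)))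
          rw [hM] at this
          exact this
    refine ⟨(Q : Subgroup D).map D.subtype, T.map D.subtype, Q.2.map _, ⟨⟨?_⟩⟩, ?_, ?_, ?_, ?_, ?_⟩
    · rintro ⟨_, x, hx, rfl⟩ ⟨_, y, hy, rfl⟩
      refine Subtype.ext ?_
      show D.subtype x * D.subtype y = D.subtype y * D.subtype x
      rw [← map_mul, hTab x hx y hy, map_mul]
    · rwa [Subgroup.card_subtype]
    · rw [← Subgroup.map_sup, hT.sup_eq_top, ← MonoidHom.range_eq_map, Subgroup.range_subtype]
    · rintro _ ⟨x, hx, rfl⟩ _ ⟨y, hy, rfl⟩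
      exact congrArg Subtype.val (hc x hx y hy)
    · rw [Subgroup.card_subtype, Subgroup.card_subtype, hT.card_mul]
    · by_cases hQ : ∀ x ∈ (Q : Subgroup D), ∀ y ∈ (Q : Subgroup D), x * y = y * x
      · refine Or.inl ⟨⟨fun u v => ?_⟩⟩
        obtain ⟨u1, hu1, u2, hu2, rfl⟩ := Subgroup.mem_sup_of_normal_left.1
          (hT.sup_eq_top.symm ▸ Subgroup.mem_top u)
        obtain ⟨v1, hv1, v2, hv2, rfl⟩ := Subgroup.mem_sup_of_normal_left.1
          (hT.sup_eq_top.symm ▸ Subgroup.mem_top v)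
        have a1 : Commute u1 v1 := hQ _ hu1 _ hv1
        have a2 : Commute u1 v2 := hc _ hu1 _ hv2
        have a3 : Commute u2 v1 := (hc _ hv1 _ hu2).symm
        have a4 : Commute u2 v2 := hTab _ hu2 _ hv2
        exact (a1.mul_right a2).mul_left (a3.mul_right a4)
      · refine Or.inr ?_
        obtain ⟨i, hi⟩ := IsPGroup.iff_card.1 Q.2
        rw [Subgroup.card_subtype, hi]
        refine pow_dvd_pow 2 (m := 3) ?_
        by_contra h
        refine hQ fun x hx y hy => ?_
        suffices h' : (⟨x, hx⟩ : (Q : Subgroup D)) * ⟨y, hy⟩ = ⟨y, hy⟩ * ⟨x, hx⟩ from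
          congrArg Subtype.val h'
        interval_cases i
        · haveI : Subsingleton (Q : Subgroup D) := (Nat.card_eq_one_iff_unique.1 hi).1
          exact Subsingleton.elim _ _
        · haveI : IsCyclic (Q : Subgroup D) := isCyclic_of_prime_card (p := 2) hi
          exact IsCyclic.commGroup.mul_comm _ _
        · exact IsPGroup.commutative_of_card_eq_prime_sq hi _ _
  have hcomD : ∀ A : Subgroup (G ⧸ M), IsMulCommutative A → ∀ x ∈ A.comap π, ∀ y ∈ A.comap π, ⁅x, y⁆ ∈ M := by
    intro A hA x hx y hy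
    rw [← QuotientGroup.eq_one_iff]
    show π ⁅x, y⁆ = 1
    rw [map_commutatorElement, commutatorElement_eq_one_iff_mul_comm]
    exact congrArg Subtype.val (hA.is_comm.comm (⟨π x, hx⟩ : A) ⟨π y, hy⟩)
  obtain ⟨P, T, hPp, hTc, hTo, hPT, hPTc, hPTk, hP8⟩ := split D hnA (hcomD A hA)
  obtain ⟨P', T', hPp', hTc', hTo', hPT', hPTc', hPTk', hP8'⟩ := split E hnB (hcomD B hBc)
  have hcDE : Nat.card P * Nat.card T = Nat.card P' * Nat.card T' := by rw [hPTk, hPTk', hcA, hcB, hcard]
  obtain ⟨i, hi⟩ := IsPGroup.iff_card.1 hPp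
  obtain ⟨i', hi'⟩ := IsPGroup.iff_card.1 hPp'
  have hco : ∀ (i : ℕ) (T : Subgroup G), Odd (Nat.card T) → (2 ^ i).Coprime (Nat.card T) := fun i T hT =>
    Nat.Coprime.pow_left i ((Nat.prime_two.coprime_iff_not_dvd).2 fun h =>
      (Nat.not_even_iff_odd.2 hT) (even_iff_two_dvd.2 h))
  have hPP : Nat.card P = Nat.card P' := by
    refine Nat.dvd_antisymm ?_ ?_
    · refine (Nat.Coprime.dvd_of_dvd_mul_right (hi ▸ hco i T' hTo') ?_)
      rw [← hcDE]; exact dvd_mul_right _ _
    · refine (Nat.Coprime.dvd_of_dvd_mul_right (hi' ▸ hco i' T hTo) ?_)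
      rw [hcDE]; exact dvd_mul_right _ _
  have hTT : Nat.card T = Nat.card T' := by
    rw [hPP] at hcDE
    exact Nat.eq_of_mul_eq_mul_left Nat.card_pos hcDE
  have h8P : 8 ∣ Nat.card P := by
    rcases hP8 with h | h
    · rcases hP8' with h' | h'
      · exact absurd ⟨h, h'⟩ hab
      · rwa [hPP]
    · exact h
  have hfull : ∀ P : Subgroup G, IsPGroup 2 P → 8 ∣ Nat.card P → ∃ S : Sylow 2 G, (S : Subgroup G) = P := by
    intro P hP h
    obtain ⟨S, hS⟩ := hP.exists_le_sylow
    exact ⟨S, (Subgroup.eq_of_le_of_card_ge hS ((h8 S).trans (Nat.le_of_dvd Nat.card_pos h))).symm⟩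
  obtain ⟨S, hS⟩ := hfull P hPp h8P
  obtain ⟨S', hS'⟩ := hfull P' hPp' (hPP ▸ h8P)
  obtain ⟨g, hg⟩ := hB T T' hTc hTc' hTT
  set C := Subgroup.centralizer (T' : Set G) with hC
  have h1 : ((g • S : Sylow 2 G) : Subgroup G) ≤ C := by
    intro x hx
    rw [Sylow.coe_subgroup_smul] at hx
    obtain ⟨p₁, hp₁, rfl⟩ := hx
    rw [Subgroup.mem_centralizer_iff]
    intro t ht
    obtain ⟨t', ht', rfl⟩ := hg.le ht
    show (g * t' * g⁻¹) * (g * p₁ * g⁻¹) = g * p₁ * g⁻¹ * (g * t' * g⁻¹)
    have := hPTc p₁ (hS ▸ hp₁) t' ht'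
    calc g * t' * g⁻¹ * (g * p₁ * g⁻¹) = g * (t' * p₁) * g⁻¹ := by group
      _ = g * (p₁ * t') * g⁻¹ := by rw [this]
      _ = g * p₁ * g⁻¹ * (g * t' * g⁻¹) := by group
  have h2 : (S' : Subgroup G) ≤ C := fun x hx => Subgroup.mem_centralizer_iff.2 fun t ht =>
    (hPTc' x (hS' ▸ hx) t ht).symm
  obtain ⟨c, hc⟩ := MulAction.exists_smul_eq C ((g • S).subtype h1) (S'.subtype h2)
  have hc' : (c : G) • (g • S) = S' := by
    rw [Sylow.smul_subtype] at hc
    exact Sylow.subtype_injective hc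
  refine finish ((c : G) * g) ?_
  rw [hPT', hPT, Subgroup.map_sup]
  congr 1
  · rw [← hS', ← hc', ← mul_smul, Sylow.coe_subgroup_smul, hS]
    rfl
  · have hcf : ∀ y ∈ T, (MulAut.conj ((c : G) * g)) y = g * y * g⁻¹ := by
      intro y hy
      have h' : g * y * g⁻¹ ∈ T' := hg.ge ⟨y, hy, rfl⟩
      have h3 := Subgroup.mem_centralizer_iff.1 c.2 _ h'
      show (c : G) * g * y * ((c : G) * g)⁻¹ = _
      calc (c : G) * g * y * ((c : G) * g)⁻¹ = (c : G) * (g * y * g⁻¹) * (c : G)⁻¹ := by group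
        _ = g * y * g⁻¹ := by rw [← h3, mul_inv_cancel_right]
    refine SetLike.ext fun x => ⟨fun hx => ?_, ?_⟩
    · obtain ⟨y, hy, rfl⟩ := hg.le hx
      exact ⟨y, hy, hcf y hy⟩
    · rintro ⟨y, hy, rfl⟩
      show (MulAut.conj ((c : G) * g)) y ∈ T'
      rw [hcf y hy]
      exact hg.ge ⟨y, hy, rfl⟩

theorem conjAb_quotient : ∀ (k : ℕ) (G : Type u) [Group G] [Finite G], Nat.card G = k →
    Group.IsSolvable G → ConjAb G → ∀ (M : Subgroup G) [M.Normal], ConjAb (G ⧸ M) := by
  intro k
  induction k using Nat.strongRecOn with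
  | ind k ih =>
  intro G _ _ hk hsol hB M _
  classical
  haveI := hsol
  by_cases hM : M = ⊥
  · subst hM
    exact conjAb_of_equiv (QuotientGroup.quotientBot (G := G)).symm hB
  obtain ⟨N, hNn, hN0, hNM, hmin⟩ := exists_minimal_normal_le' M hM
  haveI := hNn
  obtain ⟨r, hr, hNp, hNc, hNe⟩ := isPGroup_of_minimal_normal N inferInstance hN0 hmin
  haveI := Fact.mk hr
  have hQ : ConjAb (G ⧸ N) := by
    obtain ⟨t, ht⟩ := IsPGroup.iff_card.1 hNp
    by_cases hr2 : r = 2
    · subst hr2
      rcases Nat.lt_or_ge t 2 with ht2 | ht2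
      · refine map_lift_step hsol hB N ?_
        rcases t with _ | t
        · exact absurd (Subgroup.eq_bot_of_card_eq N (by rw [ht, pow_zero])) hN0
        · rw [ht, show t + 1 = 1 by omega, pow_one]
      · refine fun A B hA hBc h => CfsgLib.Orders.AbelianLift.conj_quotient hB N
          (fun p hp hpN hpi P => ?_) A B hA hBc h
        exfalso
        rw [ht] at hpN
        obtain rfl := (Nat.prime_dvd_prime_iff_eq hp hr).1 (hp.dvd_of_dvd_pow hpN)
        have hP := (Cfsg.Agent.S3909.result hB N).2 2 t ht2 ht ⟨hNc, hNe⟩ P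
        exact P.not_dvd_index (hP.symm ▸ hpi)
    · refine conjAb_quotient_odd hB N ?_
      rw [ht]
      exact (hr.odd_of_ne_two hr2).pow
  have hlt : Nat.card (G ⧸ N) < k := by
    rw [← hk, N.card_eq_card_quotient_mul_card_subgroup]
    exact lt_mul_of_one_lt_right Nat.card_pos (N.one_lt_card_iff_ne_bot.2 hN0)
  exact conjAb_of_equiv (QuotientGroup.quotientQuotientEquivQuotient N M hNM)
    (ih _ hlt (G ⧸ N) rfl inferInstance hQ (M.map (QuotientGroup.mk' N)))


/-- Let G be a finite solvable group in which any two abelian subgroups of the same order are conjugate. Then every quotient of G has the same property: any two abelian subgroups of the quotient of the same order are conjugate. -/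
theorem result {G : Type*} [Group G] [Finite G] (hB : ∀ A B : Subgroup G, IsMulCommutative ↥A → IsMulCommutative ↥B → Nat.card ↥A = Nat.card ↥B → ∃ g : G, B = A.map (MulAut.conj g).toMonoidHom) (hsol : Group.IsSolvable G) (M : Subgroup G) [M.Normal] :
    ∀ A B : Subgroup (G ⧸ M), IsMulCommutative ↥A → IsMulCommutative ↥B → Nat.card ↥A = Nat.card ↥B →
      ∃ g : G ⧸ M, B = A.map (MulAut.conj g).toMonoidHom := by
  exact conjAb_quotient _ G rfl hsol hB M

end Cfsg.Agent.S3912
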