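import Cfsg.Statements.S0989
import Cfsg.Agent.Lib.Perm.SylowNormalizer
import Mathlib.GroupTheory.Perm.Centralizer
import Mathlib.Data.Nat.Prime.Factorial
import Mathlib.Tactic

set_option autoImplicit false
open Cfsg

namespace Cfsg.Agent.S0989

/-- In the symmetric group on p or p + 1 letters, p a prime, the normalizer of a Sylow p-subgroup has order p * (p - 1). -/
theorem result {α : Type*} [Fintype α] [DecidableEq α] (p : ℕ) [Fact p.Prime] (hα : Fintype.card α = p ∨ Fintype.card α = p + 1) (P : Sylow p (Equiv.Perm α)) : Nat.card ↥(Subgroup.normalizer ((P : Subgroup (Equiv.Perm α)) : Set (Equiv.Perm α))) = p * (p - 1) := by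
  classical
  have hp : p.Prime := Fact.out
  set n := Fintype.card α with hn
  have hn2 : n < 2 * p := by
    rcases hα with h | h <;> rw [h] <;> have := hp.two_le <;> omega
  have hpn : p ≤ n := by rcases hα with h | h <;> omega
  -- the Sylow subgroup has order p
  obtain ⟨m, hm, hmp⟩ : ∃ m, Nat.card (Equiv.Perm α) = p ^ 1 * m ∧ ¬ p ∣ m := by
    rw [Nat.card_perm, Nat.card_eq_fintype_card, ← hn, pow_one]
    obtain ⟨q, hq⟩ := Nat.exists_eq_succ_of_ne_zero hp.ne_zero
    have hqf : ¬ p ∣ q.factorial := fun h => by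
      have := (Nat.Prime.dvd_factorial hp).1 h
      omega
    rcases hα with h | h
    · exact ⟨q.factorial, by rw [h, hq, Nat.factorial_succ], hqf⟩
    · refine ⟨(p + 1) * q.factorial, ?_, ?_⟩
      · rw [h, Nat.factorial_succ, show p.factorial = p * q.factorial by rw [hq, Nat.factorial_succ]]; ring
      · intro h'
        rcases hp.dvd_mul.1 h' with h'' | h''
        · have h3 : p ∣ 1 := (Nat.dvd_add_right (dvd_refl p)).1 h''
          exact hp.ne_one (Nat.dvd_one.1 h3)
        · exact hqf h''
  have hP : Nat.card (P : Subgroup (Equiv.Perm α)) = p := by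
    rw [CfsgLib.Perm.sylow_card_eq P hm hmp, pow_one]
  obtain ⟨s, hs⟩ := exists_prime_orderOf_dvd_card' (G := (P : Subgroup (Equiv.Perm α))) p (by rw [hP])
  set σ : Equiv.Perm α := (s : Equiv.Perm α) with hσ
  have hso : orderOf σ = p := by rw [hσ, Subgroup.orderOf_coe, hs]
  have hcyc : ∀ τ : Equiv.Perm α, orderOf τ = p → τ.IsCycle ∧ τ.support.card = p := by
    intro τ hτ
    have hc : τ.IsCycle := Equiv.Perm.isCycle_of_prime_order' (hτ ▸ hp) (by rw [hτ]; exact hn2)
    exact ⟨hc, hc.orderOf ▸ hτ⟩
  obtain ⟨hσc, hσs⟩ := hcyc σ hso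
  have htop := zpowers_eq_top_of_prime_card hP (g := s)
    (by intro h1; rw [h1, orderOf_one] at hs; exact hp.ne_one hs.symm)
  set N := Subgroup.normalizer ((P : Subgroup (Equiv.Perm α)) : Set (Equiv.Perm α)) with hN
  set C := Subgroup.centralizer ((P : Subgroup (Equiv.Perm α)) : Set (Equiv.Perm α)) with hC
  have hCσ : C = Subgroup.centralizer ({σ} : Set (Equiv.Perm α)) := by
    ext x
    rw [hC, Subgroup.mem_centralizer_iff, Subgroup.mem_centralizer_singleton_iff]
    refine ⟨fun h => (h σ s.2).symm, fun h y hy => ?_⟩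
    have hy' : (⟨y, hy⟩ : (P : Subgroup (Equiv.Perm α))) ∈ Subgroup.zpowers s :=
      htop ▸ Subgroup.mem_top _
    obtain ⟨i, hi⟩ := hy'
    have hi' : σ ^ i = y := by
      have := congrArg Subtype.val hi
      simpa [hσ] using this
    rw [← hi']
    exact ((show Commute x σ from h).zpow_right i).eq.symm
  have hCcard : Nat.card C = p := by
    rw [hCσ, Equiv.Perm.nat_card_centralizer, hσc.cycleType, hσs]
    have h1 : (n - p).factorial = 1 := by
      rcases hα with h | h
      · rw [h, Nat.sub_self, Nat.factorial_zero]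
      · rw [h, Nat.add_sub_cancel_left, Nat.factorial_one]
    simp [← hn, h1]
  have hsurj : Function.Surjective (P : Subgroup (Equiv.Perm α)).normalizerMonoidHom := by
    intro φ
    have hτ : orderOf ((φ s : (P : Subgroup (Equiv.Perm α))) : Equiv.Perm α) = p := by
      rw [Subgroup.orderOf_coe, MulEquiv.orderOf_eq, hs]
    obtain ⟨hτc, hτs⟩ := hcyc _ hτ
    obtain ⟨g, hg⟩ := isConj_iff.1 (hσc.isConj hτc (hσs.trans hτs.symm))
    have hpow : ∀ y : (P : Subgroup (Equiv.Perm α)),
        g * (y : Equiv.Perm α) * g⁻¹ = (φ y : Equiv.Perm α) := by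
      intro y
      have hy' : y ∈ Subgroup.zpowers s := htop ▸ Subgroup.mem_top _
      obtain ⟨i, rfl⟩ := hy'
      simp only [SubgroupClass.coe_zpow, map_zpow]
      rw [← conj_zpow, ← hσ, hg]
    have hgN : g ∈ N := by
      rw [hN, Subgroup.mem_normalizer_iff]
      intro y
      constructor
      · intro hy
        rw [hpow ⟨y, hy⟩]
        exact (φ ⟨y, hy⟩).2
      · intro hy
        obtain ⟨z, hz⟩ := φ.surjective ⟨_, hy⟩
        have h2 := hpow z
        rw [hz] at h2
        have : (z : Equiv.Perm α) = y := mul_left_cancel (mul_right_cancel h2)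
        exact this ▸ z.2
    refine ⟨⟨g, hgN⟩, ?_⟩
    apply MulEquiv.ext
    intro y
    exact Subtype.ext (hpow y)
  have hidx : ((P : Subgroup (Equiv.Perm α)).normalizerMonoidHom).ker.index = p - 1 := by
    rw [Subgroup.index_ker, MonoidHom.range_eq_top.2 hsurj, Subgroup.card_top]
    have : IsCyclic (P : Subgroup (Equiv.Perm α)) := isCyclic_of_prime_card hP
    rw [IsCyclic.card_mulAut, hP, Nat.totient_prime hp]
  rw [Subgroup.normalizerMonoidHom_ker] at hidx
  have hmul := Subgroup.card_mul_index (C.subgroupOf N)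
  have hCN : C ≤ N := Subgroup.centralizer_le_normalizer _
  rw [Nat.card_congr (Subgroup.subgroupOfEquivOfLe hCN).toEquiv, hCcard, hidx] at hmul
  exact hmul.symm

end Cfsg.Agent.S0989
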