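import Cfsg.Statements.S0990
import Mathlib.GroupTheory.Sylow
import Mathlib.GroupTheory.SpecificGroups.Alternating
import Mathlib.Tactic

set_option autoImplicit false
open Cfsg

namespace Cfsg.Agent.S0990

/-- Let p be an odd prime and P a Sylow p-subgroup of the symmetric group on a finite set with at least two elements. Then P is contained in the alternating group, and twice the order of the normalizer of P inside the alternating group equals the order of the normalizer of P in the symmetric group. -/
theorem result {α : Type*} [Fintype α] [DecidableEq α] (hα : 2 ≤ Fintype.card α) (p : ℕ) [Fact p.Prime] (hp : p ≠ 2) (P : Sylow p (Equiv.Perm α)) : (P : Subgroup (Equiv.Perm α)) ≤ alternatingGroup α ∧ 2 * Nat.card ↥(Subgroup.normalizer ((((P : Subgroup (Equiv.Perm α)).subgroupOf (alternatingGroup α) : Subgroup ↥(alternatingGroup α)) : Set ↥(alternatingGroup α)))) = Nat.card ↥(Subgroup.normalizer ((P : Subgroup (Equiv.Perm α)) : Set (Equiv.Perm α))) := by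
  classical
  have hp' : p.Prime := Fact.out
  have hodd : Odd p := hp'.odd_of_ne_two hp
  have hle : (P : Subgroup (Equiv.Perm α)) ≤ alternatingGroup α := by
    intro x hx
    rw [Equiv.Perm.mem_alternatingGroup]
    obtain ⟨k, hk⟩ := P.isPGroup' ⟨x, hx⟩
    have hx1 : x ^ p ^ k = 1 := congrArg Subtype.val hk
    have h : (Equiv.Perm.sign x) ^ p ^ k = 1 := by rw [← map_pow, hx1, map_one]
    rcases Int.units_eq_one_or (Equiv.Perm.sign x) with h' | h'
    · exact h'
    · rw [h', (hodd.pow).neg_one_pow] at h
      exact h' ▸ h
  refine ⟨hle, ?_⟩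
  have : Nontrivial α := Fintype.one_lt_card_iff_nontrivial.1 hα
  have : (alternatingGroup α).Normal := inferInstance
  rw [← Subgroup.subgroupOf_normalizer_eq hle]
  set N := Subgroup.normalizer ((P : Subgroup (Equiv.Perm α)) : Set (Equiv.Perm α)) with hN
  have hsup : N ⊔ alternatingGroup α = ⊤ := Sylow.normalizer_sup_eq_top' P hle
  have hidx : (alternatingGroup α).relIndex N = 2 := by
    rw [← alternatingGroup.index_eq_two (α := α), ← Subgroup.relIndex_top_right, ← hsup,
      Subgroup.relIndex_sup_right]
  have h1 := Subgroup.card_mul_index ((alternatingGroup α).subgroupOf N)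
  rw [show ((alternatingGroup α).subgroupOf N).index = 2 from hidx] at h1
  rw [← h1, mul_comm]
  congr 1
  have key : ∀ A B : Subgroup (Equiv.Perm α),
      Nat.card (A.subgroupOf B) = Nat.card ↥(A ⊓ B) := fun A B => by
    rw [← Subgroup.inf_subgroupOf_right]
    exact Nat.card_congr (Subgroup.subgroupOfEquivOfLe inf_le_right).toEquiv
  rw [key, key, inf_comm]

end Cfsg.Agent.S0990
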