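import Cfsg.Statements.S0672
import Cfsg.Agent.Lib.Perm.PermModule

set_option autoImplicit false
open scoped Pointwise
open Cfsg

namespace Cfsg.Agent.S0672

/-- Let a finite group act faithfully and doubly transitively with point stabilisers of even order, and let `K` have characteristic `p` dividing the degree. If the heart of the permutation module admits no non-zero equivariant map to the permutation module on unordered pairs (phrased: every intertwining map from the sum-zero functions vanishing on the constants is zero), the action is triply transitive. -/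
theorem result {G : Type*} [Group G] [Finite G] {K : Type*} [Field K] {p : ℕ} [Fact p.Prime] [CharP K p] {Ω : Type*} [Fintype Ω] [DecidableEq Ω] [MulAction G Ω] [FaithfulSMul G Ω] (h2 : MulAction.IsMultiplyPretransitive G Ω 2) (hp : p ∣ Fintype.card Ω) (heven : ∀ a : Ω, Even (Nat.card (MulAction.stabilizer G a))) (h : ∀ f : Representation.IntertwiningMap (Cfsg.permSumZero K G Ω).toRepresentation (Cfsg.permRep K G (Set.powersetCard Ω 2)), (∀ v : (Cfsg.permSumZero K G Ω).toSubmodule, (v : Ω → K) ∈ (Cfsg.permConstants K G Ω).toSubmodule → f v = 0) → f = 0) : MulAction.IsMultiplyPretransitive G Ω 3 := by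
  classical
  have h2' := h2
  rw [MulAction.is_two_pretransitive_iff] at h2'
  let pr : (x y : Ω) → x ≠ y → Set.powersetCard Ω 2 := fun x y hxy => ⟨{x, y}, Finset.card_pair hxy⟩
  have hpr : ∀ (g : G) x y (hxy : x ≠ y),
      g • pr x y hxy = pr (g • x) (g • y) (fun e => hxy (MulAction.injective g e)) := by
    intro g x y hxy
    apply Subtype.ext
    rw [Set.powersetCard.coe_smul]
    show g • ({x, y} : Finset Ω) = {g • x, g • y}
    simp [Finset.smul_finset_insert, Finset.smul_finset_singleton]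
  have hsex : ∀ s : Set.powersetCard Ω 2, ∃ x y, ∃ hxy : x ≠ y, s = pr x y hxy := by
    intro s
    obtain ⟨x, y, hxy, hs⟩ := Finset.card_eq_two.1 (Set.powersetCard.card_eq s)
    exact ⟨x, y, hxy, Subtype.ext hs⟩
  have hstrans : ∀ s t : Set.powersetCard Ω 2, ∃ g : G, g • s = t := by
    intro s t
    obtain ⟨x, y, hxy, rfl⟩ := hsex s
    obtain ⟨u, v, huv, rfl⟩ := hsex t
    obtain ⟨g, rfl, rfl⟩ := h2' hxy huv
    exact ⟨g, hpr g x y hxy⟩
  have hmemsmul : ∀ (g : G) (s : Set.powersetCard Ω 2) x,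
      g • x ∈ (↑(g • s) : Finset Ω) ↔ x ∈ (s : Finset Ω) := by
    intro g s x
    rw [Set.powersetCard.coe_smul, Finset.smul_mem_smul_finset_iff]
  -- the setwise stabiliser of a pair is transitive on the other points
  have hset : ∀ (s₀ : Set.powersetCard Ω 2) x₀ x₁, x₀ ∉ (s₀ : Finset Ω) → x₁ ∉ (s₀ : Finset Ω) →
      ∃ g : G, g • s₀ = s₀ ∧ g • x₀ = x₁ := by
    intro s₀ x₀ x₁ hx₀ hx₁
    by_contra hno
    let R : Set.powersetCard Ω 2 → Ω → Prop := fun s x => ∃ g : G, g • s₀ = s ∧ g • x₀ = x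
    have hR0 : R s₀ x₀ := ⟨1, one_smul _ _, one_smul _ _⟩
    have hR1 : ¬ R s₀ x₁ := fun ⟨g, hg, hg'⟩ => hno ⟨g, hg, hg'⟩
    have hRinv : ∀ (g : G) s x, R (g • s) (g • x) ↔ R s x := by
      intro g s x
      constructor
      · rintro ⟨k, hk, hk'⟩
        exact ⟨g⁻¹ * k, by rw [mul_smul, hk, inv_smul_smul], by rw [mul_smul, hk', inv_smul_smul]⟩
      · rintro ⟨k, hk, hk'⟩
        exact ⟨g * k, by rw [mul_smul, hk], by rw [mul_smul, hk']⟩
    set A := Finset.univ.filter fun x => R s₀ x with hA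
    set B := Finset.univ.filter fun x => x ∉ (s₀ : Finset Ω) ∧ ¬ R s₀ x with hB
    obtain ⟨c₁, c₂, hc, hsum⟩ : ∃ c₁ c₂ : K,
        (c₁ ≠ 0 ∨ c₂ ≠ 0) ∧ (A.card : K) * c₁ + (B.card : K) * c₂ = 0 := by
      by_cases h0 : (A.card : K) = 0
      · exact ⟨1, 0, Or.inl one_ne_zero, by simp [h0]⟩
      · exact ⟨(B.card : K), -(A.card : K), Or.inr (neg_ne_zero.2 h0), by ring⟩
    let φ : Set.powersetCard Ω 2 → Ω → K := fun s x =>
      if R s x then c₁ else if x ∉ (s : Finset Ω) then c₂ else 0
    have hφinv : ∀ (g : G) s x, φ (g • s) (g • x) = φ s x := fun g s x => by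
      simp only [φ, hRinv, hmemsmul]
    have hφsum : ∀ s, ∑ x, φ s x = 0 := by
      intro s
      obtain ⟨g, rfl⟩ := hstrans s₀ s
      rw [← Equiv.sum_comp (MulAction.toPerm g)]
      simp only [MulAction.toPerm_apply, hφinv]
      rw [← hsum]
      simp only [φ, Finset.sum_ite, Finset.sum_const, nsmul_eq_mul, mul_zero, add_zero,
        Finset.filter_filter]
      congr 4
      ext x; simp [hB, and_comm]
    let L : (Ω → K) →ₗ[K] (Set.powersetCard Ω 2 → K) :=
      { toFun := fun v s => ∑ x, φ s x * v x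
        map_add' := fun u v => by funext s; simp [mul_add, Finset.sum_add_distrib]
        map_smul' := fun c v => by funext s; simp [Finset.mul_sum, mul_left_comm] }
    let F : Representation.IntertwiningMap (Cfsg.permSumZero K G Ω).toRepresentation
        (Cfsg.permRep K G (Set.powersetCard Ω 2)) :=
      LinearMap.intertwiningMap_of_isIntertwiningMap _ _ (L.comp (Cfsg.permSumZero K G Ω).toSubmodule.subtype)
        (fun g v => by
          funext s
          show ∑ x, φ s x * (v : Ω → K) (g⁻¹ • x) = ∑ x, φ (g⁻¹ • s) x * (v : Ω → K) x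
          rw [← Equiv.sum_comp (MulAction.toPerm g)]
          refine Finset.sum_congr rfl fun x _ => ?_
          rw [MulAction.toPerm_apply, inv_smul_smul]
          conv_lhs => rw [← hφinv g⁻¹, inv_smul_smul])
    have hF := h F fun v hv => by
      obtain ⟨c, hc'⟩ := Submodule.mem_span_singleton.1 hv
      funext s
      show ∑ x, φ s x * (v : Ω → K) x = 0
      rw [← hc']
      simp only [Pi.smul_apply, smul_eq_mul, mul_one, ← Finset.sum_mul, hφsum, zero_mul]
    obtain ⟨x, y, hxy⟩ : ∃ x y, φ s₀ x ≠ φ s₀ y := by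
      obtain ⟨a, b, -, hs⟩ := Finset.card_eq_two.1 (Set.powersetCard.card_eq s₀)
      have ha : a ∈ (s₀ : Finset Ω) := by simp [hs]
      have hRa : ¬ R s₀ a := by
        rintro ⟨g, hg, hg'⟩
        refine hx₀ ((hmemsmul g s₀ x₀).1 ?_)
        rw [hg, hg']; exact ha
      have hva : φ s₀ a = 0 := by simp [φ, hRa, ha]
      rcases hc with hc | hc
      · exact ⟨x₀, a, by rw [hva]; simpa [φ, hR0] using hc⟩
      · exact ⟨x₁, a, by rw [hva]; simpa [φ, hR1, hx₁] using hc⟩
    have hv : (Pi.single x 1 - Pi.single y 1 : Ω → K) ∈ (Cfsg.permSumZero K G Ω).toSubmodule :=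
      show ∑ z, (Pi.single x (1 : K) - Pi.single y 1 : Ω → K) z = 0 by simp
    have h0 : F ⟨_, hv⟩ = 0 := by rw [hF]; rfl
    have h1 : ∑ z, φ s₀ z * (Pi.single x (1 : K) - Pi.single y 1 : Ω → K) z = 0 := congrFun h0 s₀
    simp [mul_sub, Finset.sum_sub_distrib, Pi.single_apply, sub_eq_zero] at h1
    exact hxy h1
  have hmove : ∀ (a b c a' b' c' : Ω), a ≠ b → c ≠ a → c ≠ b → a' ≠ b' → c' ≠ a' → c' ≠ b' →
      ∃ g : G, g • c = c' ∧ ((g • a = a' ∧ g • b = b') ∨ (g • a = b' ∧ g • b = a')) := by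
    intro a b c a' b' c' hab hca hcb hab' hca' hcb'
    obtain ⟨g, hga, hgb⟩ := h2' hab hab'
    have hg : g • pr a b hab = pr a' b' hab' := by
      rw [hpr g a b hab]
      apply Subtype.ext
      show ({g • a, g • b} : Finset Ω) = {a', b'}
      rw [hga, hgb]
    have hgc : g • c ∉ (pr a' b' hab' : Finset Ω) := by
      rw [← hg, hmemsmul]
      simp [pr, hca, hcb]
    obtain ⟨k, hk, hk'⟩ := hset (pr a' b' hab') (g • c) c' hgc (by simp [pr, hca', hcb'])
    refine ⟨k * g, by rw [mul_smul, hk'], ?_⟩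
    have e : ({k • a', k • b'} : Finset Ω) = {a', b'} := by
      rw [hpr k a' b' hab'] at hk
      exact congrArg Subtype.val hk
    have e1 : k • a' = a' ∨ k • a' = b' := by
      have := (Finset.ext_iff.1 e (k • a')).1 (Finset.mem_insert_self _ _)
      simpa using this
    have e2 : k • b' = a' ∨ k • b' = b' := by
      have := (Finset.ext_iff.1 e (k • b')).1 (Finset.mem_insert_of_mem (Finset.mem_singleton_self _))
      simpa using this
    have hne : k • a' ≠ k • b' := fun he => hab' (MulAction.injective k he)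
    rw [mul_smul, mul_smul, hga, hgb]
    rcases e1 with e1 | e1 <;> rcases e2 with e2 | e2
    · exact absurd (e1.trans e2.symm) hne
    · exact Or.inl ⟨e1, e2⟩
    · exact Or.inr ⟨e1, e2⟩
    · exact absurd (e1.trans e2.symm) hne
  -- an involution-like element swapping two points and fixing a third
  have hswap : ∀ a b c : Ω, a ≠ b → c ≠ a → c ≠ b → ∃ g : G, g • c = c ∧ g • a = b ∧ g • b = a := by
    intro a b c hab hca hcb
    haveI : Fact (Nat.Prime 2) := ⟨Nat.prime_two⟩
    obtain ⟨⟨x, hx⟩, hx2⟩ := exists_prime_orderOf_dvd_card' (G := MulAction.stabilizer G c) 2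
      (even_iff_two_dvd.1 (heven c))
    rw [← Subgroup.orderOf_coe] at hx2
    have hxne : x ≠ 1 := fun e => by simp [e] at hx2
    obtain ⟨d, hd⟩ : ∃ d, x • d ≠ d := by
      by_contra hall
      push Not at hall
      exact hxne (FaithfulSMul.eq_of_smul_eq_smul (α := Ω) fun d => by rw [hall, one_smul])
    have hxx : x • x • d = d := by
      rw [← mul_smul, ← pow_two, show x ^ 2 = 1 by rw [← hx2]; exact pow_orderOf_eq_one x, one_smul]
    have hcd : c ≠ d := fun e => hd (e ▸ hx)
    have hcd' : c ≠ x • d := fun e => hcd (MulAction.injective x ((hx : x • c = c).trans e))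
    obtain ⟨g, hgc, hg⟩ := hmove d (x • d) c a b c (Ne.symm hd) hcd hcd' hab hca hcb
    have hg' : g⁻¹ • c = c := by rw [inv_smul_eq_iff, hgc]
    refine ⟨g * x * g⁻¹, ?_, ?_⟩
    · rw [mul_smul, mul_smul, hg', (hx : x • c = c), hgc]
    · rcases hg with ⟨rfl, rfl⟩ | ⟨rfl, rfl⟩ <;>
        constructor <;> simp only [mul_smul, inv_smul_smul, hxx]
  refine ⟨fun u v => ?_⟩
  have hu : ∀ i j, i ≠ j → u i ≠ u j := fun i j hij e => hij (u.injective e)
  have hv : ∀ i j, i ≠ j → v i ≠ v j := fun i j hij e => hij (v.injective e)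
  obtain ⟨g, hg2, hg⟩ := hmove (u 0) (u 1) (u 2) (v 0) (v 1) (v 2) (hu _ _ (by decide))
    (hu _ _ (by decide)) (hu _ _ (by decide)) (hv _ _ (by decide)) (hv _ _ (by decide))
    (hv _ _ (by decide))
  obtain ⟨g', h0, h1, h2⟩ : ∃ g' : G, g' • u 0 = v 0 ∧ g' • u 1 = v 1 ∧ g' • u 2 = v 2 := by
    rcases hg with ⟨ha, hb⟩ | ⟨ha, hb⟩
    · exact ⟨g, ha, hb, hg2⟩
    · obtain ⟨s, hs2, hs0, hs1⟩ := hswap (v 0) (v 1) (v 2) (hv _ _ (by decide)) (hv _ _ (by decide))
        (hv _ _ (by decide))
      exact ⟨s * g, by rw [mul_smul, ha, hs1], by rw [mul_smul, hb, hs0], by rw [mul_smul, hg2, hs2]⟩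
  refine ⟨g', Function.Embedding.ext fun i => ?_⟩
  fin_cases i
  · exact h0
  · exact h1
  · exact h2

end Cfsg.Agent.S0672
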