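import Cfsg.Statements.S0674
import Cfsg.Agent.Lib.Perm.PrimeDegree

set_option autoImplicit false
open Cfsg

namespace Cfsg.Agent.S0674

/-- Let `G` be a non-solvable transitive permutation group of prime degree `p` and `K` a field of characteristic `p`. Then the heart of the permutation module is irreducible: an invariant subspace containing the constants and contained in the sum-zero functions is one or the other. -/
theorem result {α : Type*} [Fintype α] [DecidableEq α] {p : ℕ} [Fact p.Prime] (hα : Fintype.card α = p) (G : Subgroup (Equiv.Perm α)) [MulAction.IsPretransitive G α] (hG : ¬ Group.IsSolvable G) {K : Type*} [Field K] [CharP K p] (W : Subrepresentation (Cfsg.permRep K G α)) (h₁ : (Cfsg.permConstants K G α).toSubmodule ≤ W.toSubmodule) (h₂ : W.toSubmodule ≤ (Cfsg.permSumZero K G α).toSubmodule) : W = Cfsg.permConstants K G α ∨ W = Cfsg.permSumZero K G α := by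
  classical
  open CfsgLib.Perm.PrimeDegree in
  obtain ⟨e, σ, hσ⟩ := exists_coords (p := p) hα (G := G)
  open CfsgLib.Perm.PrimeDegree in
  let T : (α → K) →ₗ[K] (ZMod p → K) := LinearMap.funLeft K K e
  open CfsgLib.Perm.PrimeDegree in
  let W' : Submodule K (ZMod p → K) := W.toSubmodule.map T
  have hTinj : Function.Injective T := LinearMap.funLeft_injective_of_surjective K K e e.surjective
  have hTs : ∀ f : ZMod p → K, T (f ∘ e.symm) = f := fun f => funext fun i => by simp [T]
  let q : G →* Equiv.Perm (ZMod p) :=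
    { toFun := fun g => (e.trans (g : Equiv.Perm α)).trans e.symm
      map_one' := by ext i; simp
      map_mul' := fun a b => by ext i; simp }
  have hqe : ∀ (g : G) i, e (q g i) = g • e i := fun g i => by
    show e (e.symm ((g : Equiv.Perm α) (e i))) = _
    rw [Equiv.apply_symm_apply]
    rfl
  have hq : Function.Injective q := by
    intro a b hab
    refine Subtype.ext (Equiv.ext fun x => ?_)
    have h1 : a • e (e.symm x) = b • e (e.symm x) := by rw [← hqe, ← hqe, hab]
    rw [e.apply_symm_apply] at h1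
    exact h1
  have hinv : ∀ g : G, ∀ f ∈ W', (fun i => f (q g i)) ∈ W' := by
    rintro g _ ⟨v, hv, rfl⟩
    refine ⟨_, W.apply_mem_toSubmodule g⁻¹ hv, ?_⟩
    funext i
    show v (g⁻¹⁻¹ • e i) = v (e (q g i))
    rw [hqe, inv_inv]
  have hshift : ∀ f ∈ W', (fun j => f (j - 1)) ∈ W' := by
    intro f hf
    have hs : ∀ i, q σ⁻¹ i = i - 1 := by
      intro i
      apply e.injective
      rw [hqe, inv_smul_eq_iff, hσ, sub_add_cancel]
    convert hinv σ⁻¹ f hf using 1
    funext j
    rw [hs]
  obtain ⟨r, hr, hWr⟩ := CfsgLib.Perm.PrimeDegree.eq_polyFun_of_shift_invariant K W' hshift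
  have hone : (fun _ => 1 : ZMod p → K) ∈ W' :=
    ⟨fun _ => 1, h₁ (Submodule.mem_span_singleton_self _), rfl⟩
  have hr0 : 0 < r := by
    rcases Nat.eq_zero_or_pos r with h | h
    · subst h
      have h1 : Module.finrank K W' = 0 := by
        rw [hWr, CfsgLib.Perm.PrimeDegree.finrank_polyFun K hr]
      rw [Submodule.finrank_eq_zero] at h1
      rw [h1, Submodule.mem_bot] at hone
      exact absurd (congrFun hone 0) one_ne_zero
    · exact h
  have hrp : r < p := by
    rcases eq_or_lt_of_le hr with h | h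
    · subst h
      have : Pi.single 0 1 ∈ W' := by rw [hWr, CfsgLib.Perm.PrimeDegree.polyFun_p]; trivial
      obtain ⟨v, hv, he⟩ := this
      have hsum : ∑ x, v x = 0 := h₂ hv
      rw [← Equiv.sum_comp e] at hsum
      have : ∑ i, (Pi.single 0 1 : ZMod r → K) i = 0 := by rw [← he]; exact hsum
      simp at this
    · exact h
  have haff : ∀ s, 2 ≤ s → 2 * s ≤ p + 1 →
      (∀ g : G, ∀ f ∈ CfsgLib.Perm.PrimeDegree.polyFun (p := p) K s,
        (fun i => f (q g i)) ∈ CfsgLib.Perm.PrimeDegree.polyFun (p := p) K s) → False := by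
    intro s hs hsp hs'
    refine hG (CfsgLib.Perm.PrimeDegree.isSolvable_of_affine q hq fun g i => ?_)
    refine CfsgLib.Perm.PrimeDegree.affine_of_pow_mem K hs hsp (q g) (fun m hm => ?_) i
    refine hs' g (fun j => CfsgLib.Perm.PrimeDegree.ι K j ^ m) ?_
    rw [CfsgLib.Perm.PrimeDegree.mem_polyFun]
    refine ⟨Polynomial.X ^ m, ?_, funext fun j => ?_⟩
    · rw [Polynomial.degree_X_pow]; exact_mod_cast hm
    · simp [CfsgLib.Perm.PrimeDegree.evalFun_apply]
  rcases (show r = 1 ∨ r = p - 1 ∨ (2 ≤ r ∧ r ≤ p - 2) by omega) with h | h | h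
  · left
    refine Subrepresentation.toSubmodule_injective (le_antisymm (fun v hv => ?_) h₁)
    have hv' : T v ∈ W' := ⟨v, hv, rfl⟩
    rw [hWr, h, CfsgLib.Perm.PrimeDegree.mem_polyFun] at hv'
    obtain ⟨P, hP, he⟩ := hv'
    have hP0 : P.degree ≤ 0 := Order.lt_succ_iff.1 (by exact_mod_cast hP)
    refine Submodule.mem_span_singleton.2 ⟨P.coeff 0, funext fun x => ?_⟩
    have := congrFun he (e.symm x)
    rw [Polynomial.eq_C_of_degree_le_zero hP0] at this
    simpa [CfsgLib.Perm.PrimeDegree.evalFun_apply, T] using this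
  · right
    refine Subrepresentation.toSubmodule_injective (le_antisymm h₂ fun v hv => ?_)
    obtain ⟨P, hP, he⟩ := CfsgLib.Perm.PrimeDegree.exists_rep (p := p) K (T v)
    have hsum : ∑ x, v x = 0 := hv
    rw [← Equiv.sum_comp e] at hsum
    have hp0 : P.natDegree < p := by
      by_cases h0 : P = 0
      · simpa [h0] using (Fact.out : p.Prime).pos
      · exact (Polynomial.natDegree_lt_iff_degree_lt h0).2 hP
    have hc : P.coeff (p - 1) = 0 := by
      have := CfsgLib.Perm.PrimeDegree.sum_evalFun K hp0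
      rw [he, show ∑ j, T v j = 0 from hsum] at this
      exact neg_eq_zero.1 this.symm
    have : T v ∈ W' := by
      rw [hWr, CfsgLib.Perm.PrimeDegree.mem_polyFun]
      refine ⟨P, ?_, he⟩
      rw [Polynomial.degree_lt_iff_coeff_zero]
      intro m hm
      rcases eq_or_lt_of_le (show p - 1 ≤ m by omega) with h' | h'
      · exact h' ▸ hc
      · exact Polynomial.coeff_eq_zero_of_natDegree_lt (by omega)
    obtain ⟨u, hu, huv⟩ := this
    exact hTinj huv ▸ hu
  · exfalso
    by_cases h2 : 2 * r ≤ p + 1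
    · exact haff r h.1 h2 fun g f hf => hWr ▸ hinv g f (hWr ▸ hf)
    · refine haff (p - r) (by omega) (by omega) fun g f hf => ?_
      refine CfsgLib.Perm.PrimeDegree.mem_polyFun_of_sum_mul K (r := r) hr0 hr fun u hu => ?_
      rw [← Equiv.sum_comp (q g⁻¹)]
      have hu' : (fun i => u (q g⁻¹ i)) ∈ CfsgLib.Perm.PrimeDegree.polyFun (p := p) K r :=
        hWr ▸ hinv g⁻¹ u (hWr ▸ hu)
      refine Eq.trans (Finset.sum_congr rfl fun i _ => ?_)
        (CfsgLib.Perm.PrimeDegree.sum_mul_eq_zero K hr hu' hf)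
      show u (q g⁻¹ i) * f (q g (q g⁻¹ i)) = u (q g⁻¹ i) * f i
      rw [← Equiv.Perm.mul_apply, ← map_mul, mul_inv_cancel, map_one, Equiv.Perm.one_apply]

end Cfsg.Agent.S0674
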