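import Cfsg.Statements.S0676
import Cfsg.Agent.Lib.Perm.PrimeNormalizer
import Cfsg.Agent.S0672
import Cfsg.Agent.S0674
import Cfsg.Agent.S0675

set_option autoImplicit false
open Cfsg

namespace Cfsg.Agent.S0676

open scoped Pointwise

/-- A non-solvable transitive permutation group of prime degree `p` whose Sylow `p`-normaliser has even order is triply transitive. -/
theorem result {α : Type*} [Fintype α] [DecidableEq α] {p : ℕ} [Fact p.Prime] (hα : Fintype.card α = p) (G : Subgroup (Equiv.Perm α)) [MulAction.IsPretransitive G α] (hG : ¬ Group.IsSolvable G) (P : Sylow p G) (heven : Even (Nat.card (Subgroup.normalizer ((P : Subgroup G) : Set G)))) : MulAction.IsMultiplyPretransitive G α 3 := by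
  classical
  have hp5 : 5 ≤ p := by
    by_contra h
    apply hG
    obtain ⟨e, σ, hσ⟩ := CfsgLib.Perm.PrimeDegree.exists_coords (p := p) hα (G := G)
    refine CfsgLib.Perm.PrimeDegree.isSolvable_of_affine (CfsgLib.Perm.PrimeNormalizer.coordHom e)
      (CfsgLib.Perm.PrimeNormalizer.coordHom_injective e) fun g i => ?_
    generalize CfsgLib.Perm.PrimeNormalizer.coordHom e g = f
    revert f i
    have := (Fact.out : p.Prime).two_le
    clear e σ hσ hG heven P g hα
    rcases (show p = 2 ∨ p = 3 ∨ p = 4 by omega) with rfl | rfl | rfl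
    · decide +revert
    · decide +revert
    · exact absurd (Fact.out : Nat.Prime 4) (by norm_num)
  have h2 : MulAction.IsMultiplyPretransitive G α 2 := by
    rcases Cfsg.Agent.S0675.result (by rw [hα]; exact Fact.out) G with h | h
    · exact absurd h hG
    · exact h
  obtain ⟨e, σ, t, hσ, ht, htne, htt⟩ :=
    CfsgLib.Perm.PrimeNormalizer.exists_inverting_coords hα (by omega) P heven
  haveI := Fintype.ofFinite G
  refine Cfsg.Agent.S0672.result (K := ZMod p) (p := p) h2 (by rw [hα]) (fun a => ?_) fun F hF => ?_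
  · obtain ⟨g, rfl⟩ := MulAction.exists_smul_eq G (e 0) a
    let t' : MulAction.stabilizer G (g • e 0) := ⟨g * t * g⁻¹, by
      rw [MulAction.mem_stabilizer_iff, mul_smul, mul_smul, inv_smul_smul, ht, neg_zero]⟩
    rw [even_iff_two_dvd]
    refine (dvd_of_eq ?_).trans (orderOf_dvd_natCard t')
    symm
    refine orderOf_eq_prime (Subtype.ext ?_) fun h => htne ?_
    · show (g * t * g⁻¹) ^ 2 = 1
      rw [conj_pow, htt, mul_one, mul_inv_cancel]
    · have h' : g * t * g⁻¹ = 1 := congrArg Subtype.val h
      calc t = g⁻¹ * (g * t * g⁻¹) * g := by group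
        _ = 1 := by rw [h']; group
  -- the kernel of `F`, a subrepresentation between the constants and the sum-zero functions
  let S0 := Cfsg.permSumZero (ZMod p) G α
  let W : Subrepresentation (Cfsg.permRep (ZMod p) G α) :=
    { toSubmodule := (LinearMap.ker F.toLinearMap).map S0.toSubmodule.subtype
      apply_mem_toSubmodule := fun g v hv => by
        obtain ⟨u, hu, rfl⟩ := hv
        refine ⟨S0.toRepresentation g u, ?_, rfl⟩
        rw [SetLike.mem_coe, LinearMap.mem_ker] at hu ⊢
        show (F.toLinearMap ∘ₗ S0.toRepresentation g) u = 0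
        rw [F.isIntertwining' g, LinearMap.comp_apply, hu, map_zero] }
  have hWle : W.toSubmodule ≤ S0.toSubmodule := Submodule.map_subtype_le _ _
  have hC : (Cfsg.permConstants (ZMod p) G α).toSubmodule ≤ S0.toSubmodule := by
    refine Submodule.span_le.2 (Set.singleton_subset_iff.2 ?_)
    show ∑ _x : α, (1 : ZMod p) = 0
    simp [hα]
  have hCW : (Cfsg.permConstants (ZMod p) G α).toSubmodule ≤ W.toSubmodule :=
    fun v hv => ⟨⟨v, hC hv⟩, hF ⟨v, hC hv⟩ hv, rfl⟩
  -- the coordinate function
  let u : α → ZMod p := fun x => e.symm x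
  have hu : u ∈ S0.toSubmodule := by
    show ∑ x, e.symm x = 0
    rw [← Equiv.sum_comp e]
    simp only [Equiv.symm_apply_apply]
    have h := FiniteField.sum_pow_lt_card_sub_one (ZMod p) 1 (by rw [ZMod.card]; omega)
    simpa only [pow_one] using h
  have hsiginv : ∀ i, σ⁻¹ • e i = e (i - 1) := fun i => by
    rw [inv_smul_eq_iff, hσ, sub_add_cancel]
  have hpow : ∀ (n : ℕ) i, σ ^ n • e i = e (i + n) := fun n i => by
    rw [← CfsgLib.Perm.PrimeNormalizer.coordHom_apply, CfsgLib.Perm.PrimeNormalizer.coordHom_pow e hσ]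
  have hshift : S0.toRepresentation σ ⟨u, hu⟩ - ⟨u, hu⟩ ∈ LinearMap.ker F.toLinearMap := by
    refine hF _ (Submodule.mem_span_singleton.2 ⟨-1, funext fun x => ?_⟩)
    obtain ⟨i, rfl⟩ := e.surjective x
    show (-1 : ZMod p) • (1 : ZMod p) = u (σ⁻¹ • e i) - u (e i)
    simp [u, hsiginv]
  have hneg : S0.toRepresentation t ⟨u, hu⟩ = -⟨u, hu⟩ := by
    apply Subtype.ext
    funext x
    obtain ⟨i, rfl⟩ := e.surjective x
    show u (t⁻¹ • e i) = - u (e i)
    have : t⁻¹ = t := inv_eq_of_mul_eq_one_right (by rw [← pow_two, htt])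
    simp [u, this, ht]
  set Fu := F ⟨u, hu⟩ with hFu
  have hinv : ∀ s, Fu (σ⁻¹ • s) = Fu s := by
    intro s
    have h1 : F (S0.toRepresentation σ ⟨u, hu⟩) = Fu := by
      have := LinearMap.mem_ker.1 hshift
      rw [map_sub, sub_eq_zero] at this
      exact this
    have h3 := LinearMap.congr_fun (F.isIntertwining' σ) ⟨u, hu⟩
    simp only [LinearMap.comp_apply] at h3
    exact ((congrFun h3 s).symm.trans (congrFun h1 s))
  have hanti : ∀ s, Fu (t⁻¹ • s) = - Fu s := by
    intro s
    have h3 := LinearMap.congr_fun (F.isIntertwining' t) ⟨u, hu⟩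
    simp only [LinearMap.comp_apply] at h3
    have h4 := (congrArg F.toLinearMap hneg).trans (F.toLinearMap.map_neg _)
    exact ((congrFun h3 s).symm.trans (congrFun h4 s))
  have hinvn : ∀ (n : ℕ) s, Fu (σ ^ n • s) = Fu s := by
    intro n
    induction n with
    | zero => intro s; rw [pow_zero, one_smul]
    | succ n ih =>
      intro s
      rw [pow_succ', mul_smul, ← hinv, inv_smul_smul, ih]
  have hzero : Fu = 0 := by
    funext s
    obtain ⟨x, y, hxy, hs⟩ := Finset.card_eq_two.1 (Set.powersetCard.card_eq s)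
    obtain ⟨i, rfl⟩ := e.surjective x
    obtain ⟨j, rfl⟩ := e.surjective y
    have hmove : σ ^ (i + j).val • (t⁻¹ • s) = s := by
      apply Subtype.ext
      have hcoe : ∀ (g : G) (s : Set.powersetCard α 2), (g • s).1 = g • s.1 := fun g s =>
        Set.powersetCard.coe_smul
      rw [hcoe, hcoe, hs,
        show t⁻¹ = t from inv_eq_of_mul_eq_one_right (by rw [← pow_two, htt])]
      simp only [Finset.smul_finset_insert, Finset.smul_finset_singleton, ht, hpow,
        ZMod.natCast_zmod_val, show -i + (i + j) = j by ring, show -j + (i + j) = i by ring,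
        Finset.pair_comm]
    have h := congrArg Fu hmove
    rw [hinvn, hanti] at h
    have h2 : (2 : ZMod p) * Fu s = 0 := by linear_combination -h
    refine (mul_eq_zero.1 h2).resolve_left fun h => ?_
    have h' : ((2 : ℕ) : ZMod p) = 0 := by exact_mod_cast h
    rw [ZMod.natCast_eq_zero_iff] at h'
    exact absurd (Nat.le_of_dvd (by norm_num) h') (by omega)
  rcases Cfsg.Agent.S0674.result hα G hG W hCW hWle with h | h
  · exfalso
    have huW : u ∈ W.toSubmodule := ⟨⟨u, hu⟩, LinearMap.mem_ker.2 hzero, rfl⟩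
    rw [h] at huW
    obtain ⟨c, hc⟩ := Submodule.mem_span_singleton.1 huW
    have h0 := congrFun hc (e 0)
    have h1 := congrFun hc (e 1)
    simp only [u, Equiv.symm_apply_apply, Pi.smul_apply] at h0 h1
    exact zero_ne_one (h0.symm.trans h1)
  · ext v : 2
    have hv : (v : α → ZMod p) ∈ W.toSubmodule := by rw [h]; exact v.2
    obtain ⟨w, hw, hwv⟩ := hv
    rw [← Subtype.ext hwv]
    exact LinearMap.mem_ker.1 hw

end Cfsg.Agent.S0676
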