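import Cfsg.Statements.S1959
import Cfsg.Agent.Lib.Techniques.Control

set_option autoImplicit false
open Cfsg

namespace Cfsg.Agent.S1959

/-- Let p be a prime, G a finite group with Sylow p-subgroup S, and 𝓦 a set of conjugacy functors for p on G. Suppose that 𝓦 controls strong fusion in N_G(T) for every nonidentity subgroup T of S for which N_S(T) is a Sylow p-subgroup of N_G(T). Then 𝓦 controls strong fusion in G. (A set of functors controls strong fusion in a subgroup H when, for a Sylow p-subgroup T' of H, every conjugation of a tuple of elements of T' into T' by an element of H is a composite of conjugations inside the normalizers N_H(W(T')), W ∈ 𝓦, all intermediate tuples staying in T'.) -/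
theorem result {G : Type*} [Group G] [Finite G] {p : ℕ} [Fact p.Prime] (S : Sylow p G) (𝓦 : Set (Subgroup G → Subgroup G)) (h𝓦 : ∀ W ∈ 𝓦, Cfsg.IsConjugacyFunctor p W) (hloc : ∀ T : Subgroup G, T ≤ (S : Subgroup G) → T ≠ ⊥ → ¬ p ∣ ((S : Subgroup G) ⊓ Subgroup.normalizer ((T : Subgroup G) : Set G)).relIndex (Subgroup.normalizer ((T : Subgroup G) : Set G)) → Cfsg.FamilyControlsStrongFusionIn p 𝓦 (Subgroup.normalizer ((T : Subgroup G) : Set G))) : Cfsg.FamilyControlsStrongFusionIn p 𝓦 ⊤ := by
  have hSp : IsPGroup p (S : Subgroup G) := S.2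
  set M : Set G := {m | ∃ W ∈ 𝓦, m ∈ (⊤ : Subgroup G) ⊓
    Subgroup.normalizer ((W (S : Subgroup G) : Subgroup G) : Set G)} with hM
  have main := CfsgLib.Techniques.downward_induction S
    (fun A g => CfsgLib.Techniques.SPath (S : Subgroup G) M A g)
    (fun U => ∀ x ∈ Subgroup.normalizer (U : Set G), ∀ B : Set G,
      B ⊆ ((S : Subgroup G) ⊓ Subgroup.normalizer (U : Set G) : Subgroup G) →
      (fun a => x * a * x⁻¹) '' B ⊆ ((S : Subgroup G) ⊓ Subgroup.normalizer (U : Set G) : Subgroup G) →
      CfsgLib.Techniques.SPath (S : Subgroup G) M B x)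
    (fun A g h => h.mono) (fun A g k h1 h2 => h1.trans h2)
    (fun g => .congr _ 1 g (.one _ (SetLike.coe_subset_coe.mpr bot_le)) fun a ha => by
      rw [Subgroup.coe_bot, Set.mem_singleton_iff] at ha
      subst ha; simp)
    ?_ ?_
  · refine ⟨(S : Subgroup G), le_top, S.2, (CfsgLib.Techniques.isSylowSub_sylow S).2.2, ?_⟩
    intro A y _ hA hAy
    obtain ⟨n, c, h0, h1, h2, h3⟩ := ((main (Subgroup.closure A) y
      ((Subgroup.closure_le _).mpr hA) (by
        rw [Subgroup.map_le_iff_le_comap, Subgroup.closure_le]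
        intro a ha
        exact hAy ⟨a, ha, rfl⟩)).mono A Subgroup.subset_closure).exists_fin
    exact ⟨n, c, h0, h1, h2, h3⟩
  · intro U hUS hUne hfull hK hQ x hx B hB hxB
    set P₀ := (S : Subgroup G) ⊓ Subgroup.normalizer (U : Set G) with hP₀
    have hpath := CfsgLib.Techniques.familyControlsFusion_at h𝓦 (hloc U hUS hUne hfull)
      (hfull.isSylowSub hSp) B x hx hB hxB
    clear hB hxB hx
    induction hpath with
    | one A hA => exact .one A (hA.trans (SetLike.coe_subset_coe.mpr inf_le_left))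
    | congr A g g' _ he ih => exact .congr A g g' ih he
    | step A m g hm hA hg ih =>
      have hmA := hg.subset
      refine CfsgLib.Techniques.SPath.trans ?_ ih
      obtain ⟨V, hV, hmem⟩ := hm
      have hmN : m ∈ Subgroup.normalizer (V P₀ : Set G) := (Subgroup.mem_inf.mp hmem).2
      rcases eq_or_lt_of_le (inf_le_left : P₀ ≤ (S : Subgroup G)) with he | hlt
      · replace hmN : m ∈ Subgroup.normalizer (V (S : Subgroup G) : Set G) :=
          (congrArg V he : V P₀ = V (S : Subgroup G)) ▸ hmN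
        replace hA : A ⊆ ((S : Subgroup G) : Set G) :=
          hA.trans (SetLike.coe_subset_coe.mpr inf_le_left)
        replace hmA : (fun a => m * a * m⁻¹) '' A ⊆ ((S : Subgroup G) : Set G) :=
          hmA.trans (SetLike.coe_subset_coe.mpr inf_le_left)
        have h := CfsgLib.Techniques.SPath.step A m 1 (show m ∈ M from ⟨V, hV, Subgroup.mem_inf.mpr ⟨trivial, hmN⟩⟩)
          hA (.one _ hmA)
        rwa [one_mul] at h
      have hP₀p : IsPGroup p P₀ := hSp.to_le inf_le_left
      have hgrow := CfsgLib.Techniques.lt_inf_normalizer_functor (h𝓦 V hV) hSp hlt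
      have hl := CfsgLib.Transfer.card_lt_of_lt hgrow
      set P₁ := (S : Subgroup G) ⊓ Subgroup.normalizer (V P₀ : Set G)
      have hU1S : V P₀ ≤ (S : Subgroup G) :=
        (CfsgLib.Techniques.functor_le (h𝓦 V hV) hP₀p).trans inf_le_left
      have hU1ne : V P₀ ≠ ⊥ := CfsgLib.Techniques.functor_ne_bot (h𝓦 V hV) hP₀p fun h =>
        hUne (le_bot_iff.mp (h ▸ le_inf hUS Subgroup.le_normalizer))
      obtain ⟨a, haS, hafull, haN⟩ := CfsgLib.Techniques.exists_fullyNormalized_conj S hU1S
      set U₁ := (V P₀).map (MulAut.conj a).toMonoidHom with hU₁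
      have hU₁ne : U₁ ≠ ⊥ := fun h => hU1ne (by
        rw [← CfsgLib.Techniques.map_conj_inv_conj (V P₀) a, ← hU₁, h, Subgroup.map_bot])
      have hbig : Nat.card P₁ ≤
          Nat.card ((S : Subgroup G) ⊓ Subgroup.normalizer (U₁ : Set G) : Subgroup G) := by
        rw [← CfsgLib.Techniques.card_map_conj P₁ a]
        exact Subgroup.card_le_of_le haN
      have qa : CfsgLib.Techniques.SPath (S : Subgroup G) M (P₁ : Set G) a :=
        hQ P₁ a inf_le_left (haN.trans inf_le_left) hl
      have qb : CfsgLib.Techniques.SPath (S : Subgroup G) M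
          (P₁.map (MulAut.conj a).toMonoidHom : Subgroup G) a⁻¹ :=
        hQ _ a⁻¹ (haN.trans inf_le_left)
          (by rw [CfsgLib.Techniques.map_conj_inv_conj]; exact inf_le_left)
          (by rw [CfsgLib.Techniques.card_map_conj]; exact hl)
      have hAP : A ⊆ (P₁ : Set G) := hA.trans (SetLike.coe_subset_coe.mpr hgrow.le)
      have qm : CfsgLib.Techniques.SPath (S : Subgroup G) M ((fun y => a * y * a⁻¹) '' A)
          (a * m * a⁻¹) := by
        refine hK U₁ haS hU₁ne hafull (by simp only [hP₀] at *; omega) _ ?_ _ ?_ ?_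
        · rw [hU₁, CfsgLib.Techniques.normalizer_map_conj']
          exact ⟨m, hmN, rfl⟩
        · rintro _ ⟨y, hy, rfl⟩
          exact haN ⟨y, hAP hy, rfl⟩
        · rintro _ ⟨_, ⟨y, hy, rfl⟩, rfl⟩
          exact haN ⟨m * y * m⁻¹, hgrow.le (hmA ⟨y, hy, rfl⟩), by simp [MulAut.conj_apply, mul_assoc]⟩
      have h1 : CfsgLib.Techniques.SPath (S : Subgroup G) M A (a * m * a⁻¹ * a) :=
        (qa.mono A hAP).trans qm
      have h2 := h1.trans (k := a⁻¹) (qb.mono _ (by
        rintro _ ⟨y, hy, rfl⟩
        exact ⟨m * y * m⁻¹, hgrow.le (hmA ⟨y, hy, rfl⟩), by simp [MulAut.conj_apply, mul_assoc]⟩))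
      simpa [mul_assoc] using h2
  · intro U hUS hUne hfull hK x hx
    exact hK x hx _ (SetLike.coe_subset_coe.mpr (le_inf hUS Subgroup.le_normalizer)) (by
      rintro _ ⟨a, ha, rfl⟩
      exact (le_inf hUS Subgroup.le_normalizer : U ≤ _) ((Subgroup.mem_normalizer_iff.mp hx a).mp ha))

end Cfsg.Agent.S1959
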