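import Cfsg.Statements.S5278
import Cfsg.Agent.Lib.LocalEven.Transfer3.CentralTorusGroup
import Cfsg.Agent.Lib.Fusion.WeakClosureApps
import Cfsg.Agent.Lib.Fusion.AlperinGen
-- import your own Cfsg.Agent.* helpers here

set_option autoImplicit false
open Cfsg

namespace Cfsg.Agent.S5278

open CfsgLib.Fusion Cfsg.FusionSystem

universe u

section Aux

variable {Ω : Type u} [Group Ω] {S : Subgroup Ω} {F : FusionSystem S} {T : Subgroup Ω}

/-- A map carries `T` into itself as soon as `T` lies in its source. -/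
def Fixes (T : Subgroup Ω) {P : Subgroup Ω} (φ : P →* Ω) : Prop :=
  ∀ (hT : T ≤ P) (t : Ω) (ht : t ∈ T), φ ⟨t, hT ht⟩ ∈ T

theorem fixes_surj [Finite T] {P : Subgroup Ω} {φ : P →* Ω} (hinj : Function.Injective φ)
    (h : Fixes T φ) (hT : T ≤ P) {y : Ω} (hy : y ∈ T) : ∃ t, ∃ ht : t ∈ T, φ ⟨t, hT ht⟩ = y := by
  obtain ⟨⟨t, ht⟩, e⟩ := Finite.injective_iff_surjective.1
    (show Function.Injective (fun t : T => (⟨φ ⟨t, hT t.2⟩, h hT t t.2⟩ : T)) from fun a b e => by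
      have e1 : φ ⟨(a : Ω), hT a.2⟩ = φ ⟨(b : Ω), hT b.2⟩ := congrArg (fun z : T => (z : Ω)) e
      exact Subtype.ext (congrArg Subtype.val (hinj e1) :)) ⟨y, hy⟩
  exact ⟨t, ht, congrArg Subtype.val e⟩

theorem fixes_of_normalizerHom {P : Subgroup Ω} {φ : P →* Ω} (h : φ ∈ F.normalizerHom T P) :
    Fixes T φ := by
  intro hTP t ht
  obtain ⟨-, -, -, ψ, -, hψP, hψT⟩ := h
  rw [← hψP ⟨t, hTP ht⟩]
  exact hψT.le ⟨⟨t, Subgroup.mem_sup_right ht⟩, ht, rfl⟩

theorem normalizerHom_of_fixes [Finite T] (hT : T ≤ S) (hTn : S ≤ normalizerIn S T) {P : Subgroup Ω}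
    {φ : P →* Ω} (hφ : φ ∈ F.Hom P) (hTP : T ≤ P) (h : Fixes T φ) : φ ∈ F.normalizerHom T P := by
  refine ⟨hφ, (hom_le hφ).trans hTn, fun x => hTn (hom_apply_mem hφ x),
    φ.comp (Subgroup.inclusion (sup_le le_rfl hTP)), restrict_mem hφ _, fun x => rfl, ?_⟩
  ext y
  constructor
  · rintro ⟨z, hz, rfl⟩
    exact h hTP z hz
  · intro hy
    obtain ⟨t, ht, rfl⟩ := fixes_surj (F.injective_of_mem hφ) h hTP hy
    exact ⟨⟨t, Subgroup.mem_sup_right ht⟩, ht, rfl⟩

/-- The maps which, on sources of order above `n`, lie in the normalizer system of `T`. -/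
def largeSystem (F : FusionSystem S) [Finite S] (T : Subgroup Ω) (hT : T ≤ S)
    (hTn : normalizerIn S T = S) (n : ℕ) : FusionSystem S where
  Hom P := {φ | φ ∈ F.Hom P ∧ (n < Nat.card P → φ ∈ (copySystem hTn (normSystem F T hT)).Hom P)}
  le_of_mem h := F.le_of_mem h.1
  injective_of_mem h := F.injective_of_mem h.1
  conj_mem hP hg := ⟨F.conj_mem hP hg, fun _ => (copySystem hTn (normSystem F T hT)).conj_mem hP hg⟩
  comp_mem {P Q φ ψ} hφ hψ h := ⟨F.comp_mem hφ.1 hψ.1 h, fun hn =>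
    (copySystem hTn (normSystem F T hT)).comp_mem (hφ.2 hn) (hψ.2 (hn.trans_le (by
      have := finite_le ((F.le_of_mem hψ.1).1)
      exact Nat.card_le_card_of_injective (fun x : P => (⟨φ x, h x⟩ : Q))
        fun a b e => F.injective_of_mem hφ.1 (congrArg Subtype.val e :)))) h⟩
  inv_mem {P φ} hφ := by
    obtain ⟨ψ, hψ, hv⟩ := F.inv_mem hφ.1
    refine ⟨ψ, ⟨hψ, fun hn => ?_⟩, hv⟩
    have hcard : Nat.card φ.range = Nat.card P :=
      Nat.card_congr (MonoidHom.ofInjective (F.injective_of_mem hφ.1)).toEquiv.symm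
    obtain ⟨ψ', hψ', hv'⟩ := (copySystem hTn (normSystem F T hT)).inv_mem (hφ.2 (hcard ▸ hn))
    refine hom_congr hψ' ?_
    rintro ⟨_, x, rfl⟩
    rw [hv, hv']

/-- With all automorphisms of large fully normalized centric subgroups, all large maps normalize `T`. -/
theorem fixes_of_large {p : ℕ} [Fact p.Prime] [Finite S] (hS : IsPGroup p S) (hF : F.IsSaturated p)
    (hT : T ≤ S) (hTc : ∀ t ∈ T, ∀ s ∈ S, s * t = t * s) (n : ℕ)
    (hS' : ∀ α ∈ F.autGroup S, Fixes T (S.subtype.comp α.toMonoidHom))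
    (hE : ∀ Q : Subgroup Ω, n < Nat.card Q → F.IsCentric Q → F.IsFullyNormalized Q →
      ∀ α ∈ F.autGroup Q, Fixes T (Q.subtype.comp α.toMonoidHom))
    {P : Subgroup Ω} {φ : P →* Ω} (hφ : φ ∈ F.Hom P) (hn : n < Nat.card P) : Fixes T φ := by
  have := finite_le hT
  have hTn : normalizerIn S T = S := le_antisymm (normalizerIn_le T) (le_inf le_rfl fun s hs =>
    Subgroup.mem_normalizer_iff.2 fun x => by
      constructor
      · intro hx; rw [hTc x hx s hs, mul_inv_cancel_right]; exact hx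
      · intro hx
        have h1 := hTc _ hx s hs
        have : x = s * x * s⁻¹ := by
          calc x = s⁻¹ * (s * x * s⁻¹ * s) := by group
            _ = s⁻¹ * (s * (s * x * s⁻¹)) := by rw [h1]
            _ = _ := by group
        rw [this]; exact hx)
  refine fixes_of_normalizerHom ((alperin_gen hS hF (largeSystem F T hT hTn n) ?_ ?_ P hφ).2 hn)
  · intro α hα
    have h1 := (mem_autGroup_iff le_rfl).1 hα
    refine (mem_autGroup_iff le_rfl).2 ⟨h1, fun _ => ?_⟩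
    exact normalizerHom_of_fixes hT hTn.ge h1 hT (hS' α hα)
  · intro Q hQS hQ _ α hα
    refine Subgroup.mem_sup_left ((mem_autGroup_iff hQS.le).2 ⟨(mem_autGroup_iff hQS.le).1 hα, fun hn => ?_⟩)
    have hTQ : T ≤ Q := fun t ht => hQ.1.2 Q (isConj_refl hQS.le) (mem_centralizerIn.2
      ⟨hT ht, fun x hx => hTc t ht x (hQS.le hx)⟩)
    exact normalizerHom_of_fixes hT hTn.ge ((mem_autGroup_iff hQS.le).1 hα) hTQ (hE Q hn hQ.1 hQ.2.1 α hα)

/-- Automorphisms of `A` fix `T` if those of an image under a fixing map do. -/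
theorem fixes_transport [Finite T] {A B D : Subgroup Ω} {f : D →* Ω} (hf : f ∈ F.Hom D) (hAD : A ≤ D)
    (himg : img f A = B) (hTA : T ≤ A) (hfix : Fixes T f)
    (hB : ∀ β ∈ F.autGroup B, Fixes T (B.subtype.comp β.toMonoidHom)) :
    ∀ α ∈ F.autGroup A, Fixes T (A.subtype.comp α.toMonoidHom) := by
  have hAS : A ≤ S := hAD.trans (hom_le hf)
  obtain ⟨e, he, hev⟩ := exists_iso (restrict_mem hf hAD) (by rw [range_restrict, himg])
  have hBS : B ≤ S := he.symm.le_left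
  intro α hα hT t ht
  obtain ⟨β, hβ⟩ : ∃ β : MulAut B, β = e.symm.trans ((α : A ≃* A).trans e) := ⟨_, rfl⟩
  have hβF : β ∈ F.autGroup B := (mem_autGroup_iff_isoIn hBS).2 (hβ ▸
    he.symm.trans (((mem_autGroup_iff_isoIn hAS).1 hα).trans he))
  have h1 : (e ⟨t, hTA ht⟩ : Ω) ∈ T := by
    rw [hev]
    exact hfix (hTA.trans hAD) t ht
  have hTB : T ≤ B := fun y hy => by
    obtain ⟨t', ht', e'⟩ := fixes_surj (F.injective_of_mem hf) hfix (hTA.trans hAD) hy
    exact himg.le (mem_img.2 ⟨⟨t', hAD (hTA ht')⟩, hTA ht', e'⟩)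
  have h2 : ((e (α ⟨t, hTA ht⟩) : B) : Ω) ∈ T := by
    have := hB β hβF hTB _ h1
    rw [hβ] at this
    simpa using this
  obtain ⟨t', ht', e'⟩ := fixes_surj (F.injective_of_mem hf) hfix (hTA.trans hAD) h2
  rw [hev] at e'
  have h3 := congrArg Subtype.val (F.injective_of_mem hf e')
  show ((α ⟨t, hT ht⟩ : A) : Ω) ∈ T
  rw [show ((α ⟨t, hT ht⟩ : A) : Ω) = t' from h3.symm]
  exact ht'

/-- Maps stabilizing a subgroup whose automorphisms fix `T` do so. -/
theorem fixes_of_restrict [Finite T] {P R : Subgroup Ω} {φ : P →* Ω} (hφ : φ ∈ F.Hom P) (hRP : R ≤ P)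
    (hTR : T ≤ R) (himg : img φ R = R)
    (hR : ∀ β ∈ F.autGroup R, Fixes T (R.subtype.comp β.toMonoidHom)) : Fixes T φ := by
  intro hTP t ht
  obtain ⟨e, he, hev⟩ := exists_iso (restrict_mem hφ hRP) (by rw [range_restrict, himg])
  have h1 : (e ⟨t, hTR ht⟩ : Ω) ∈ T :=
    hR e ((mem_autGroup_iff_isoIn (hRP.trans (hom_le hφ))).2 he) hTR t ht
  rwa [hev] at h1

/-- Automorphisms of a fully normalized subgroup with a large normalizer fix `T`. -/
theorem fixes_of_big_normalizer {p : ℕ} [Fact p.Prime] [Finite S] (hS : IsPGroup p S)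
    (hF : F.IsSaturated p) (hT : T ≤ S) (n : ℕ)
    (hmap : ∀ {P : Subgroup Ω} {φ : P →* Ω}, φ ∈ F.Hom P → n < Nat.card P → Fixes T φ)
    (hbad : ∀ Q : Subgroup Ω, n < Nat.card (normalizerIn S Q) → F.IsCentric Q → F.IsFullyNormalized Q →
      ∀ α ∈ F.autGroup Q, Fixes T (Q.subtype.comp α.toMonoidHom))
    {R : Subgroup Ω} (hR : R ≤ S) (hTR : T ≤ R) (hn : n < Nat.card (normalizerIn S R)) :
    ∀ α ∈ F.autGroup R, Fixes T (R.subtype.comp α.toMonoidHom) := by
  have := finite_le hT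
  obtain ⟨R₁, hR₁, hR₁n⟩ := exists_fullyNormalized (F := F) hR
  have hfc := IsSaturated.fullyCentralized hS hF hR₁n
  have hrec := IsSaturated.receptive hS hF hfc
  obtain ⟨f, hf, -, himg⟩ := exists_normalizer_map hS (IsSaturated.fullyAutomized hS hF hR₁n) hrec hR₁
  refine fixes_transport hf (le_normalizerIn hR) himg hTR (hmap hf hn) ?_
  have hn₁ : n < Nat.card (normalizerIn S R₁) := hn.trans_le (hR₁n.2 R (isConj_symm hR₁))
  have hTR₁ : T ≤ R₁ := fun y hy => by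
    obtain ⟨t', ht', e'⟩ := fixes_surj (F.injective_of_mem hf) (hmap hf hn) (hTR.trans (le_normalizerIn hR)) hy
    exact himg.le (mem_img.2 ⟨⟨t', le_normalizerIn hR (hTR ht')⟩, hTR ht', e'⟩)
  obtain ⟨R₂, hR₂⟩ : ∃ R₂, R₂ = R₁ ⊔ centralizerIn S R₁ := ⟨_, rfl⟩
  have hR₂S : R₂ ≤ S := hR₂ ▸ sup_le hR₁n.1 (centralizerIn_le _)
  have hR₂c : F.IsCentric R₂ := by
    refine ⟨hR₂S, fun Q hQ x hx => ?_⟩
    obtain ⟨e, he⟩ := isConj_iff.1 hQ
    have hle : ((isoHom e).comp (Subgroup.inclusion (hR₂ ▸ le_sup_left : R₁ ≤ R₂))).range ≤ Q := by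
      rintro _ ⟨y, rfl⟩
      exact (e _).2
    obtain ⟨R', hR'⟩ : ∃ R', R' = ((isoHom e).comp (Subgroup.inclusion (hR₂ ▸ le_sup_left : R₁ ≤ R₂))).range :=
      ⟨_, rfl⟩
    have hconj : F.IsConj R₁ R' := ⟨_, restrict_mem he.mem _, hR'.symm⟩
    have hR'S : R' ≤ S := hR' ▸ hle.trans (isConj_le_left (isConj_symm hQ))
    have := finite_le hR₂S
    have := finite_le (centralizerIn_le (S := S) R')
    let g : centralizerIn S R₁ → centralizerIn S R' := fun c =>
      ⟨(e ⟨c, hR₂ ▸ Subgroup.mem_sup_right c.2⟩ : Ω), mem_centralizerIn.2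
        ⟨(isConj_le_left (isConj_symm hQ)) (e _).2, fun y hy => by
          rw [hR'] at hy
          obtain ⟨r, rfl⟩ := hy
          show (e _ : Ω) * (e _ : Ω) = (e _ : Ω) * (e _ : Ω)
          rw [← Subgroup.coe_mul, ← Subgroup.coe_mul, ← map_mul, ← map_mul]
          exact congrArg (fun z : R₂ => (e z : Ω)) (Subtype.ext ((mem_centralizerIn.1 c.2).2 r r.2))⟩⟩
    have hg : Function.Bijective g := (Nat.bijective_iff_injective_and_card g).2 ⟨fun a b h => by
        have h1 := e.injective (Subtype.ext (congrArg Subtype.val h :))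
        exact Subtype.ext (congrArg Subtype.val h1 :),
      le_antisymm (Nat.card_le_card_of_injective g fun a b h => by
        have h1 := e.injective (Subtype.ext (congrArg Subtype.val h :))
        exact Subtype.ext (congrArg Subtype.val h1 :)) (hfc.2 R' hconj)⟩
    obtain ⟨c, hc⟩ := hg.2 ⟨x, centralizerIn_antitone (hR' ▸ hle) hx⟩
    have h1 : ((g c : centralizerIn S R') : Ω) = x := congrArg Subtype.val hc
    rw [← h1]
    exact (e _).2
  obtain ⟨R₃, hR₃, hR₃n⟩ := exists_fullyNormalized (F := F) hR₂S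
  have hn₂ : n < Nat.card (normalizerIn S R₂) := by
    have := finite_le (normalizerIn_le (S := S) R₂)
    refine hn₁.trans_le (Subgroup.card_le_of_le fun g hg => ⟨hg.1, ?_⟩)
    have hc : ∀ y ∈ centralizerIn S R₁, ∀ h ∈ normalizerIn S R₁, h * y * h⁻¹ ∈ centralizerIn S R₁ := by
      intro y hy h hh
      refine mem_centralizerIn.2 ⟨S.mul_mem (S.mul_mem hh.1 hy.1) (S.inv_mem hh.1), fun z hz => ?_⟩
      have hz' : h⁻¹ * z * h ∈ R₁ := by
        simpa using conj_mem_of_mem_normalizer (Subgroup.inv_mem _ hh.2) hz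
      calc z * (h * y * h⁻¹) = h * ((h⁻¹ * z * h) * y) * h⁻¹ := by group
        _ = h * (y * (h⁻¹ * z * h)) * h⁻¹ := by rw [(mem_centralizerIn.1 hy).2 _ hz']
        _ = _ := by group
    have hle : ∀ h ∈ normalizerIn S R₁, R₂ ≤ R₂.comap (MulAut.conj h).toMonoidHom := fun h hh => by
      conv_lhs => rw [hR₂]
      exact sup_le (fun y hy => hR₂ ▸ Subgroup.mem_sup_left (conj_mem_of_mem_normalizer hh.2 hy))
        (fun y hy => hR₂ ▸ Subgroup.mem_sup_right (hc y hy h hh))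
    refine Subgroup.mem_normalizer_iff.2 fun y => ⟨fun hy => hle g hg hy, fun hy => ?_⟩
    have := hle g⁻¹ (Subgroup.inv_mem _ hg) hy
    simpa [mul_assoc] using this
  obtain ⟨g, hg, -, himg₃⟩ := exists_normalizer_map hS (IsSaturated.fullyAutomized hS hF hR₃n)
    (IsSaturated.receptive hS hF (IsSaturated.fullyCentralized hS hF hR₃n)) hR₃
  have hR₂fix := fixes_transport hg (le_normalizerIn hR₂S) himg₃
    (hTR₁.trans (hR₂ ▸ le_sup_left)) (hmap hg hn₂)
    (hbad R₃ (hn₂.trans_le (hR₃n.2 R₂ (isConj_symm hR₃))) (isCentric_of_isConj hR₂c hR₃) hR₃n)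
  intro β hβ
  have hβ' := (mem_autGroup_iff_isoIn hR₁n.1).1 hβ
  obtain ⟨ψ, hψ, hag⟩ := exists_extension hrec hβ' le_sup_left (sup_le_extender hβ')
  obtain ⟨ψ', hψ', hag'⟩ : ∃ ψ' ∈ F.Hom R₂, ∀ x : R₁,
      ψ' ⟨x, hR₂ ▸ Subgroup.mem_sup_left x.2⟩ = (β x : Ω) := by
    subst hR₂
    exact ⟨ψ, hψ, hag⟩
  intro hT' t ht
  have key : Fixes T ψ' := by
    have := finite_le hR₂S
    refine fixes_of_restrict hψ' le_rfl (hTR₁.trans (hR₂ ▸ le_sup_left)) ?_ hR₂fix
    rw [img_self]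
    refine Subgroup.eq_of_le_of_card_ge ?_
      (le_of_eq (Nat.card_congr (MonoidHom.ofInjective (F.injective_of_mem hψ')).toEquiv))
    rintro _ ⟨z, rfl⟩
    have hle : R₂ ≤ (R₂.comap ψ').map R₂.subtype := by
      conv_lhs => rw [hR₂]
      refine sup_le (fun y hy => ⟨⟨y, hR₂ ▸ Subgroup.mem_sup_left hy⟩, ?_, rfl⟩)
        (fun y hy => ⟨⟨y, hR₂ ▸ Subgroup.mem_sup_right hy⟩, ?_, rfl⟩)
      · show ψ' _ ∈ R₂
        rw [hag' ⟨y, hy⟩]
        exact hR₂ ▸ Subgroup.mem_sup_left (β ⟨y, hy⟩).2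
      · show ψ' ⟨y, _⟩ ∈ R₂
        exact hR₂.ge (Subgroup.mem_sup_right (extension_mem_centralizerIn hψ'
          (le_sup_left.trans hR₂.ge) hag' _ hy))
    obtain ⟨z', hz', e⟩ := hle z.2
    obtain rfl : z' = z := Subtype.ext e
    exact hz'
  have h1 := key (hTR₁.trans (hR₂ ▸ le_sup_left)) t ht
  rwa [hag' ⟨t, hTR₁ ht⟩] at h1

/-- Automorphisms of `R` preserve `J(R)`. -/
theorem thompsonA_aut' {R : Subgroup Ω} (a : MulAut R) (r : R)
    (hr : (r : Ω) ∈ thompsonSubgroupAOf R) : ((a r : R) : Ω) ∈ thompsonSubgroupAOf R := by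
  have h := thompsonA_img (φ := R.subtype.comp a.toMonoidHom)
    (fun x y h => a.injective (Subtype.ext h)) (le_refl R)
  have himg : img (R.subtype.comp a.toMonoidHom) R = R := by
    ext y
    refine ⟨?_, fun hy => ⟨a⁻¹ ⟨y, hy⟩, (a⁻¹ ⟨y, hy⟩).2, ?_⟩⟩
    · rintro ⟨x, -, rfl⟩
      exact (a x).2
    · show ((a (a⁻¹ ⟨y, hy⟩) : R) : Ω) = y
      rw [MulAut.apply_inv_self]
  rw [himg] at h
  rw [h]
  exact ⟨r, hr, rfl⟩

/-- The automorphisms of `J(S)` fix `T`. -/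
theorem fixes_thompson [Finite S] (hT : T ≤ S ⊓ Subgroup.centralizer (S : Set Ω))
    (hJT : ∀ NJ : Cfsg.FusionSystem (Cfsg.FusionSystem.normalizerIn S (Cfsg.thompsonSubgroupAOf S)), F.IsNormalizerSystem (Cfsg.thompsonSubgroupAOf S) NJ → ∀ NT : Cfsg.FusionSystem (Cfsg.FusionSystem.normalizerIn S T), F.IsNormalizerSystem T NT → NJ.IsSubsystemOf NT) :
    ∀ β ∈ F.autGroup (thompsonSubgroupAOf S),
      Fixes T ((thompsonSubgroupAOf S).subtype.comp β.toMonoidHom) := by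
  intro β hβ
  have hJ := thompsonAOf_le S
  have hsub := hJT (normSystem F _ hJ) (normSystem_isNormalizerSystem F _ hJ)
    (normSystem F T (hT.trans inf_le_left)) (normSystem_isNormalizerSystem F _ _) (thompsonSubgroupAOf S)
  refine fixes_of_normalizerHom (hsub ?_)
  obtain ⟨φ, hφ⟩ : ∃ φ, φ = (thompsonSubgroupAOf S).subtype.comp β.toMonoidHom := ⟨_, rfl⟩
  rw [← hφ]
  have hφF : φ ∈ F.Hom (thompsonSubgroupAOf S) := hφ ▸ (mem_autGroup_iff hJ).1 hβ
  refine ⟨hφF, le_normalizerIn hJ, fun x => hφ ▸ le_normalizerIn hJ (β x).2,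
    φ.comp (Subgroup.inclusion (sup_le le_rfl le_rfl)), restrict_mem hφF _, fun x => rfl, ?_⟩
  ext y
  constructor
  · rintro ⟨z, -, rfl⟩
    rw [hφ]
    exact (β _).2
  · intro hy
    refine ⟨⟨(β⁻¹ ⟨y, hy⟩ : thompsonSubgroupAOf S), Subgroup.mem_sup_left (β⁻¹ ⟨y, hy⟩).2⟩,
      (β⁻¹ ⟨y, hy⟩).2, ?_⟩
    rw [hφ]
    exact congrArg Subtype.val (MulAut.apply_inv_self _ β ⟨y, hy⟩)

/-- What the model gives. -/
theorem exists_torus_aut {p : ℕ} [Fact p.Prime] [Finite S] (hS : IsPGroup p S) (hF : F.IsSaturated p)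
    (hp : p ≠ 2) (hT : T ≤ S ⊓ Subgroup.centralizer (S : Set Ω)) {Q : Subgroup Ω} (hQc : F.IsCentric Q)
    (hQn : F.IsFullyNormalized Q) {α : MulAut Q} (hα : α ∈ F.autGroup Q)
    (hαT : ¬ Fixes T (Q.subtype.comp α.toMonoidHom))
    (hJ : ∀ β ∈ F.autGroup (thompsonSubgroupAOf (normalizerIn S Q)),
      Fixes T ((thompsonSubgroupAOf (normalizerIn S Q)).subtype.comp β.toMonoidHom)) :
    ∃ X : Subgroup (MulAut ↥T), X ≤ F.autGroup T ∧ X ≠ ⊥ ∧ IsCyclic ↥X ∧ (Nat.card ↥X).Coprime p ∧ ∀ a b : ↥T, a ∈ Subgroup.closure {y : ↥T | ∃ ψ ∈ X, ∃ t : ↥T, y = ψ t * t⁻¹} → b ∈ Subgroup.closure {y : ↥T | ∃ ψ ∈ X, ∃ t : ↥T, y = ψ t * t⁻¹} → a ≠ 1 → b ≠ 1 → ∃ ψ ∈ X, ψ a = b := by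
  classical
  have hQS := hQc.1
  have hTS : T ≤ S := hT.trans inf_le_left
  have hTc : ∀ t ∈ T, ∀ s ∈ S, s * t = t * s := fun t ht s hs => Subgroup.mem_centralizer_iff.1 (hT ht).2 s hs
  have := finite_le hTS
  obtain ⟨P₀, hP₀⟩ : ∃ P₀, P₀ = normalizerIn S Q := ⟨_, rfl⟩
  have hP₀S : normalizerIn S Q ≤ S := normalizerIn_le Q
  have := finite_le hP₀S
  have hTQ : T ≤ Q := fun t ht => hQc.2 Q (isConj_refl hQS) (mem_centralizerIn.2
    ⟨hTS ht, fun x hx => hTc t ht x (hQS hx)⟩)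
  have hTP : T ≤ normalizerIn S Q := hTQ.trans (le_normalizerIn hQS)
  have hNsys := normSystem_isNormalizerSystem F Q hQS
  set M := normSystem F Q hQS with hM
  have hMn := normalizerSystem_isNormal hQS hNsys
  have hMc : M.IsCentric Q := ⟨le_normalizerIn hQS, fun R ⟨χ, hχ, hR⟩ => fun z hz =>
    hQc.2 R ⟨χ, normalizerSystem_le hNsys hχ, hR⟩ ⟨hP₀S hz.1, hz.2⟩⟩
  obtain ⟨L, _, ι, hG⟩ := exists_model_of_normal_centric (hS.to_le hP₀S)
    (normalizerSystem_saturated hS hF hQn hNsys) hMn hMc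
  have hinj : Function.Injective ι := hG.2.1.1
  haveI : Finite L := hG.1
  obtain ⟨TL, hTL⟩ := hG.2.2.1
  obtain ⟨T', hT'⟩ : ∃ T', T' = (T.subgroupOf (normalizerIn S Q)).map ι := ⟨_, rfl⟩
  have hmemT : ∀ z : normalizerIn S Q, ι z ∈ T' ↔ (z : Ω) ∈ T := fun z => by
    rw [hT', Subgroup.mem_map_iff_mem hinj]; rfl
  -- automorphisms given by elements of the model
  have haut : ∀ (R : Subgroup Ω) (hR : R ≤ normalizerIn S Q) (l : L),
      l ∈ Subgroup.normalizer (((R.subgroupOf (normalizerIn S Q)).map ι : Subgroup L) : Set L) →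
      ∃ b ∈ F.autGroup R, orderOf b ∣ orderOf l ∧
        ∀ z : R, ι ⟨((b z : R) : Ω), hR (b z).2⟩ = l * ι ⟨z, hR z.2⟩ * l⁻¹ := by
    intro R hR l hl
    obtain ⟨b, hb, hord, hbv⟩ := model_exists_aut hG hR (h := l) fun z => by
      obtain ⟨s, hs, hse⟩ := (Subgroup.mem_normalizer_iff.1 hl _).1 ⟨⟨z, hR z.2⟩, z.2, rfl⟩
      exact ⟨⟨s, hs⟩, hse⟩
    exact ⟨b, (mem_autGroup_iff (hR.trans hP₀S)).2
      (normalizerSystem_le hNsys ((mem_autGroup_iff hR).1 hb)), hord, hbv⟩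
  -- `T` in the core
  obtain ⟨N, hN⟩ : ∃ N, N = pCore p L ⊓ Subgroup.centralizer (pCore p L : Set L) := ⟨_, rfl⟩
  haveI hNn : N.Normal := by
    rw [hN]
    infer_instance
  have hNS : N ≤ (TL : Subgroup L) := hN ▸ inf_le_left.trans (CfsgLib.Core.pCore_le_sylow TL)
  have hNc : IsMulCommutative N := Subgroup.le_centralizer_iff_isMulCommutative.1 (hN ▸
    inf_le_right.trans (Subgroup.centralizer_le (SetLike.coe_subset_coe.2 inf_le_left)))
  have hTcen : ∀ t ∈ T', t ∈ (TL : Subgroup L) ⊓ Subgroup.centralizer ((TL : Subgroup L) : Set L) := by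
    rw [hT']
    rintro _ ⟨z, hz, rfl⟩
    refine ⟨hTL.ge ⟨z, rfl⟩, Subgroup.mem_centralizer_iff.2 fun y hy => ?_⟩
    obtain ⟨s, rfl⟩ := hTL.le hy
    rw [← map_mul, ← map_mul]
    exact congrArg ι (Subtype.ext (hTc _ hz _ (hP₀S s.2)))
  have hTN : T' ≤ N := by
    intro t ht
    have h2 := hTcen t ht
    rw [hT'] at ht
    obtain ⟨z, hz, rfl⟩ := ht
    rw [hN]
    exact ⟨model_central_core hG (x := (z : Ω)) z.2 fun y hy => hTc _ hz _ (hP₀S hy),
      Subgroup.centralizer_le (SetLike.coe_subset_coe.2 (CfsgLib.Core.pCore_le_sylow TL)) h2.2⟩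
  have hmove : Subgroup.normalizer (T' : Set L) ≠ ⊤ := by
    intro e
    apply hαT
    intro hTQ' t ht
    have hφ : Q.subtype.comp α.toMonoidHom ∈ M.Hom Q := by
      have hφF := (mem_autGroup_iff hQS).1 hα
      refine ⟨hφF, le_normalizerIn hQS, fun x => le_normalizerIn hQS (α x).2,
        (Q.subtype.comp α.toMonoidHom).comp (Subgroup.inclusion (sup_le le_rfl le_rfl)), restrict_mem hφF _,
        fun x => rfl, ?_⟩
      ext y
      constructor
      · rintro ⟨z, -, rfl⟩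
        exact (α _).2
      · intro hy
        exact ⟨⟨(α⁻¹ ⟨y, hy⟩ : Q), Subgroup.mem_sup_left (α⁻¹ ⟨y, hy⟩).2⟩, (α⁻¹ ⟨y, hy⟩).2,
          congrArg Subtype.val (MulAut.apply_inv_self _ α ⟨y, hy⟩)⟩
    obtain ⟨l, hl⟩ := (hG.2.1.2 Q (le_normalizerIn hQS) _ fun x => le_normalizerIn hQS (α x).2).1 hφ
    have h1 := hl ⟨t, hTQ' ht⟩
    refine (hmemT ⟨_, le_normalizerIn hQS (α ⟨t, hTQ' ht⟩).2⟩).1 ?_
    erw [h1]
    exact (Subgroup.mem_normalizer_iff.1 (e.ge (Subgroup.mem_top l)) _).1 ((hmemT _).2 ht)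
  have hJL : Subgroup.normalizer (thompsonSubgroupAOf (TL : Subgroup L) : Set L) ≤
      Subgroup.normalizer (T' : Set L) := by
    rw [hTL, model_thompsonA hinj]
    intro l hl
    obtain ⟨b, hb, -, hbv⟩ := haut _ (thompsonAOf_le _) l hl
    have hTJ : T ≤ thompsonSubgroupAOf (normalizerIn S Q) := fun t ht =>
      center_le_thompsonA hP₀S ⟨hTP ht, Subgroup.mem_centralizer_iff.2 fun y hy => hTc t ht y (hP₀S hy)⟩
    rw [← CfsgLib.Transfer.map_conj_eq_self_iff]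
    refine Subgroup.eq_of_le_of_card_ge ?_ (Subgroup.card_map_of_injective (MulAut.conj l).injective).ge
    rw [hT']
    rintro _ ⟨_, ⟨⟨z, hzP⟩, hz, rfl⟩, rfl⟩
    have hz' : z ∈ T := hz
    exact ⟨_, hJ b hb hTJ z hz', hbv ⟨z, hTJ hz'⟩⟩
  obtain ⟨l, hl, m, hm, hper, D, hD, hcom, hDs, htr, t₀, ht₀, htm⟩ :=
    CfsgLib.Transfer3.exists_torus_group hp TL T' N hTcen hTN hNc hNS hmove hJL
  -- the automorphism of `T`
  obtain ⟨b, hb, -, hbv⟩ := haut T hTP l (hT' ▸ hl)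
  obtain ⟨κ, hκ⟩ : ∃ κ : T →* L, κ = ι.comp (Subgroup.inclusion hTP) := ⟨_, rfl⟩
  have hκi : Function.Injective κ := fun a c e => by
    rw [hκ] at e
    exact Subgroup.inclusion_injective hTP (hinj e)
  have hκT : ∀ z : T, κ z ∈ T' := fun z => hκ ▸ (hmemT _).2 z.2
  have hpow : ∀ (i : ℕ) (z : T), κ ((b ^ i : MulAut T) z) = l ^ i * κ z * (l ^ i)⁻¹ := by
    intro i
    induction i with
    | zero => intro z; simp
    | succ i ih =>
      intro z
      have h1 : κ (b ((b ^ i : MulAut T) z)) = l * κ ((b ^ i : MulAut T) z) * l⁻¹ := by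
        rw [hκ]; exact hbv _
      rw [show (b ^ (i + 1) : MulAut T) z = b ((b ^ i : MulAut T) z) by rw [pow_succ', MulAut.mul_apply],
        h1, ih, pow_succ']
      group
  have hord : orderOf b ∣ m := orderOf_dvd_of_pow_eq_one (MulEquiv.ext fun z => hκi (by
    rw [hpow, hper _ (hκT z)]; rfl))
  have hb1 : b ≠ 1 := by
    intro e
    obtain ⟨z, hz, rfl⟩ := hT' ▸ ht₀
    refine htm ?_
    have h1 := hbv ⟨z, hz⟩
    rw [e] at h1
    exact h1.symm
  haveI : Finite (MulAut T) := finite_mulAut_of_le (S := S) hTS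
  refine ⟨Subgroup.zpowers b, Subgroup.zpowers_le.2 hb, fun e => hb1 ?_, inferInstance, ?_, ?_⟩
  · exact Subgroup.mem_bot.1 (e ▸ Subgroup.mem_zpowers b)
  · rw [Nat.card_zpowers]
    exact hm.coprime_dvd_left hord
  · have hcl : Subgroup.closure {y : T | ∃ ψ ∈ Subgroup.zpowers b, ∃ t : T, y = ψ t * t⁻¹} ≤
        (D.comap ((ι.comp (Subgroup.inclusion hTP)) : T →* L)) := by
      refine (Subgroup.closure_le _).2 ?_
      rintro _ ⟨ψ, hψ, t, rfl⟩
      obtain ⟨i, rfl⟩ := (mem_powers_iff_mem_zpowers.2 hψ : ψ ∈ Submonoid.powers b)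
      show (ι.comp (Subgroup.inclusion hTP)) _ ∈ D
      rw [← hκ, map_mul, map_inv, hpow]
      clear hψ
      induction i with
      | zero => simp [one_mem]
      | succ i ih =>
        have h2 : l ^ (i + 1) * κ t * (l ^ (i + 1))⁻¹ * (κ t)⁻¹ =
            (l * (l ^ i * κ t * (l ^ i)⁻¹ * (κ t)⁻¹) * l⁻¹) * (l * κ t * l⁻¹ * (κ t)⁻¹) := by
          rw [pow_succ']; group
        rw [h2]
        exact mul_mem (hDs _ ih) (hcom _ (hκT t))
    intro a c ha hc ha1 hc1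
    have hone : ∀ z : T, κ z = 1 → z = 1 := fun z hz => hκi (by rw [hz, map_one])
    have ha' : κ a ∈ D := by rw [hκ]; exact hcl ha
    have hc' : κ c ∈ D := by rw [hκ]; exact hcl hc
    obtain ⟨i, hi⟩ := htr _ ha' _ hc' (fun e => ha1 (hone a e)) (fun e => hc1 (hone c e))
    exact ⟨b ^ i, Subgroup.pow_mem _ (Subgroup.mem_zpowers b) i, hκi (by rw [hpow, hi])⟩

end Aux

/-- Let p be an odd prime, F a saturated fusion system over a finite p-group S, and T a subgroup of Z(S) such that the normalizer fusion system of J(S) in F is contained in the normalizer fusion system of T, J(S) being the subgroup generated by the abelian subgroups of S of largest order. Then either T is weakly closed in F, or Aut_F(T) has a nontrivial cyclic subgroup X of order prime to p that permutes transitively the non-identity elements of the commutator [T, X] (the subgroup of T generated by the elements ψ(t)·t⁻¹ with ψ in X and t in T). -/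
theorem result {Ω : Type*} [Group Ω] {S : Subgroup Ω} [Finite S] (p : ℕ) [Fact p.Prime] (hS : IsPGroup p ↥S) (F : Cfsg.FusionSystem S) (hF : F.IsSaturated p) (hp : p ≠ 2) (T : Subgroup Ω) (hT : T ≤ S ⊓ Subgroup.centralizer (S : Set Ω)) (hJT : ∀ NJ : Cfsg.FusionSystem (Cfsg.FusionSystem.normalizerIn S (Cfsg.thompsonSubgroupAOf S)), F.IsNormalizerSystem (Cfsg.thompsonSubgroupAOf S) NJ → ∀ NT : Cfsg.FusionSystem (Cfsg.FusionSystem.normalizerIn S T), F.IsNormalizerSystem T NT → NJ.IsSubsystemOf NT) : F.WeaklyClosed T ∨ ∃ X : Subgroup (MulAut ↥T), X ≤ F.autGroup T ∧ X ≠ ⊥ ∧ IsCyclic ↥X ∧ (Nat.card ↥X).Coprime p ∧ ∀ a b : ↥T, a ∈ Subgroup.closure {y : ↥T | ∃ ψ ∈ X, ∃ t : ↥T, y = ψ t * t⁻¹} → b ∈ Subgroup.closure {y : ↥T | ∃ ψ ∈ X, ∃ t : ↥T, y = ψ t * t⁻¹} → a ≠ 1 → b ≠ 1 → ∃ ψ ∈ X, ψ a = b := by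
  classical
  have hTS : T ≤ S := hT.trans inf_le_left
  have hTc : ∀ t ∈ T, ∀ s ∈ S, s * t = t * s := fun t ht s hs => Subgroup.mem_centralizer_iff.1 (hT ht).2 s hs
  have := finite_le hTS
  have hJ0 := fixes_thompson hT hJT
  have hTJ : T ≤ thompsonSubgroupAOf S := hT.trans (center_le_thompsonA le_rfl)
  have hautS : ∀ α ∈ F.autGroup S, Fixes T (S.subtype.comp α.toMonoidHom) := fun α hα => by
    have h1 := (mem_autGroup_iff le_rfl).1 hα
    refine fixes_of_restrict h1 (thompsonAOf_le S) hTJ ?_ hJ0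
    have := finite_le (thompsonAOf_le S)
    refine Subgroup.eq_of_le_of_card_ge ?_ ?_
    · rintro _ ⟨z, hz, rfl⟩
      exact thompsonA_aut' α z hz
    · rw [img, Subgroup.card_map_of_injective (F.injective_of_mem h1),
        Nat.card_congr (Subgroup.subgroupOfEquivOfLe (thompsonAOf_le S)).toEquiv]
  let Bad : Subgroup _ → Prop := fun Q => F.IsCentric Q ∧ F.IsFullyNormalized Q ∧
    ∃ α ∈ F.autGroup Q, ¬ Fixes T (Q.subtype.comp α.toMonoidHom)
  by_cases hbad : ∃ Q, Bad Q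
  swap
  · left
    push Not at hbad
    refine ⟨hTS, fun φ hφ => ?_⟩
    have h1 : Fixes T φ := fixes_of_large hS hF hTS hTc 0 hautS
      (fun Q _ hc hn α hα => by
        by_contra h
        exact hbad Q ⟨hc, hn, α, hα, h⟩) hφ Nat.card_pos
    ext y
    constructor
    · rintro ⟨t, rfl⟩
      exact h1 le_rfl t t.2
    · intro hy
      obtain ⟨t, ht, e⟩ := fixes_surj (F.injective_of_mem hφ) h1 le_rfl hy
      exact ⟨_, e⟩
  right
  obtain ⟨n, ⟨Q, hQ, hQn⟩, hnmax⟩ := Set.Finite.exists_maximal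
    (s := {n | ∃ Q, Bad Q ∧ Nat.card (normalizerIn S Q) = n})
    ((Set.finite_Iic (Nat.card S)).subset (by
      rintro _ ⟨Q, -, rfl⟩
      exact Subgroup.card_le_of_le (normalizerIn_le Q))) ⟨_, hbad.choose, hbad.choose_spec, rfl⟩
  obtain ⟨hQc, hQf, α, hα, hαT⟩ := hQ
  have hgood : ∀ R : Subgroup _, n < Nat.card (normalizerIn S R) → F.IsCentric R → F.IsFullyNormalized R →
      ∀ β ∈ F.autGroup R, Fixes T (R.subtype.comp β.toMonoidHom) := fun R hR hc hf β hβ => by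
    by_contra h
    exact hR.not_ge (hnmax ⟨R, ⟨hc, hf, β, hβ, h⟩, rfl⟩ hR.le)
  have hmap : ∀ {P : Subgroup _} {φ : P →* _}, φ ∈ F.Hom P → n < Nat.card P → Fixes T φ :=
    fun hφ hn => fixes_of_large hS hF hTS hTc n hautS (fun R hR hc hf => hgood R (hR.trans_le (by
      have := finite_le (normalizerIn_le (S := S) R)
      exact Subgroup.card_le_of_le (le_normalizerIn hc.1))) hc hf) hφ hn
  refine exists_torus_aut hS hF hp hT hQc hQf hα hαT ?_
  by_cases hP : normalizerIn S Q = S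
  · rw [hP]; exact hJ0
  have hPS : normalizerIn S Q < S := lt_of_le_of_ne (normalizerIn_le Q) hP
  refine fixes_of_big_normalizer hS hF hTS n hmap hgood ((thompsonAOf_le _).trans hPS.le) ?_ ?_
  · exact fun t ht => center_le_thompsonA hPS.le ⟨le_inf hTS (fun t ht => by
      refine Subgroup.mem_normalizer_iff.2 fun x => ?_
      have hx : ∀ y ∈ S, t * y * t⁻¹ = y := fun y hy => by rw [← hTc t ht y hy, mul_inv_cancel_right]
      constructor
      · intro h; rw [hx x (hQc.1 h)]; exact h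
      · intro h
        have h2 : x = t * x * t⁻¹ := by
          have := hx _ (hQc.1 h)
          calc x = t⁻¹ * (t * x * t⁻¹) * t := by group
            _ = t⁻¹ * (t * (t * x * t⁻¹) * t⁻¹) * t := by rw [this]
            _ = _ := by group
        rw [h2]; exact h) ht, Subgroup.mem_centralizer_iff.2 fun y hy => hTc t ht y (hPS.le hy)⟩
  · have := finite_le (normalizerIn_le (S := S) (thompsonSubgroupAOf (normalizerIn S Q)))
    have := finite_le (normalizerIn_le (S := S) (normalizerIn S Q))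
    rw [← hQn]
    refine lt_of_lt_of_le ?_ (Subgroup.card_le_of_le (show normalizerIn S (normalizerIn S Q) ≤
      normalizerIn S (thompsonSubgroupAOf (normalizerIn S Q)) from inf_le_inf_left S
        (normalizer_le_normalizer_thompsonA (normalizerIn S Q))))
    refine lt_of_le_of_ne (Subgroup.card_le_of_le (le_normalizerIn hPS.le)) fun h => ?_
    exact (lt_normalizerIn hS hPS).ne (Subgroup.eq_of_le_of_card_ge (le_normalizerIn hPS.le) h.ge)

end Cfsg.Agent.S5278
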