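import Cfsg.Statements.S4216


set_option autoImplicit false
open Cfsg

namespace Cfsg.Agent.S4216

open Subgroup MulAction in
open scoped commutatorElement in
theorem le_gruen {G : Type*} [Group G] [Finite G] {p : ℕ} [Fact p.Prime] (P : Sylow p G) (R : Subgroup G)
    (hR : R = ((P : Subgroup G) ⊓ ⁅Subgroup.normalizer ((P : Subgroup G) : Set G), Subgroup.normalizer ((P : Subgroup G) : Set G)⁆) ⊔ ⨆ z : G, (P : Subgroup G) ⊓ (⁅(P : Subgroup G), (P : Subgroup G)⁆).map (MulAut.conj z).toMonoidHom) :
    (P : Subgroup G) ⊓ _root_.commutator G ≤ R := by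
  classical
  have hp := (Fact.out : p.Prime)
  have hRz : ∀ z : G, (P : Subgroup G) ⊓ (⁅(P : Subgroup G), (P : Subgroup G)⁆).map (MulAut.conj z).toMonoidHom ≤ R :=
    fun z => hR ▸ (le_iSup (fun z : G => (P : Subgroup G) ⊓ (⁅(P : Subgroup G), (P : Subgroup G)⁆).map (MulAut.conj z).toMonoidHom) z).trans le_sup_right
  have hRN : (P : Subgroup G) ⊓ ⁅Subgroup.normalizer ((P : Subgroup G) : Set G), Subgroup.normalizer ((P : Subgroup G) : Set G)⁆ ≤ R := hR ▸ le_sup_left
  have hPR : ⁅(P : Subgroup G), (P : Subgroup G)⁆ ≤ R := fun c hc =>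
    hRz 1 ⟨Subgroup.commutator_le_self _ hc, c, hc, by simp⟩
  set RP := R.subgroupOf (P : Subgroup G) with hRP
  have hcomm : _root_.commutator (P : Subgroup G) ≤ RP := by
    rw [commutator_def, Subgroup.commutator_le]
    intro a _ b _
    exact hPR (Subgroup.commutator_mem_commutator a.2 b.2)
  haveI : RP.Normal := Subgroup.Normal.of_commutator_le _ hcomm
  letI : CommGroup ((P : Subgroup G) ⧸ RP) :=
    { mul_comm := (Subgroup.Normal.quotient_commutative_iff_commutator_le.2 hcomm).is_comm.comm }
  set ϕ := QuotientGroup.mk' RP with hϕdef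
  have hϕ : ∀ a : (P : Subgroup G), ϕ a = 1 ↔ (a : G) ∈ R := fun a => by
    rw [hϕdef, QuotientGroup.mk'_apply, QuotientGroup.eq_one_iff]
    rfl
  intro u hu
  induction hk : orderOf u using Nat.strong_induction_on generalizing u with
  | _ k ih =>
    subst hk
    obtain ⟨huP, huG⟩ := hu
    have hlow : ∀ w ∈ (P : Subgroup G), w ∈ _root_.commutator G → orderOf w < orderOf u → w ∈ R :=
      fun w hw hw' hlt => ih _ hlt ⟨hw, hw'⟩ rfl
    rcases eq_or_ne u 1 with rfl | hu1
    · exact one_mem R
    obtain ⟨k, hk⟩ := P.isPGroup' ⟨u, huP⟩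
    have huk : u ^ p ^ k = 1 := congrArg Subtype.val hk
    haveI : Fintype (G ⧸ (P : Subgroup G)) := Fintype.ofFinite _
    haveI : Fintype (Quotient (orbitRel (Subgroup.zpowers u) (G ⧸ (P : Subgroup G)))) := Fintype.ofFinite _
    let f : G ⧸ (P : Subgroup G) → (P : Subgroup G) ⧸ RP := fun x =>
      if h : x.out⁻¹ * u * x.out ∈ (P : Subgroup G) then ϕ ⟨_, h⟩ else 1
    have hfix : ∀ x : G ⧸ (P : Subgroup G), u • x = x ↔ x.out⁻¹ * u * x.out ∈ (P : Subgroup G) := by
      intro x
      conv_lhs => rw [← QuotientGroup.out_eq' x, MulAction.Quotient.smul_mk, QuotientGroup.eq, smul_eq_mul]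
      rw [← inv_mem_iff (H := (P : Subgroup G))]
      group
    have hVf : MonoidHom.transfer ϕ u = ∏ x ∈ Finset.univ.filter (fun x : G ⧸ (P : Subgroup G) => u • x = x), f x := by
      rw [MonoidHom.transfer_eq_prod_quotient_orbitRel_zpowers_quot ϕ u]
      rw [← Finset.prod_filter_mul_prod_filter_not Finset.univ
        (fun q : Quotient (orbitRel (Subgroup.zpowers u) (G ⧸ (P : Subgroup G))) =>
          Function.minimalPeriod (u • ·) q.out = 1)]
      have h2 : ∀ q ∈ Finset.univ.filter (fun q : Quotient (orbitRel (Subgroup.zpowers u) (G ⧸ (P : Subgroup G))) =>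
          ¬ Function.minimalPeriod (u • ·) q.out = 1),
          ϕ ⟨q.out.out⁻¹ * u ^ Function.minimalPeriod (u • ·) q.out * q.out.out,
            QuotientGroup.out_conj_pow_minimalPeriod_mem (P : Subgroup G) u q.out⟩ = 1 := by
        intro q hq
        rw [Finset.mem_filter] at hq
        rw [hϕ]
        set r := Function.minimalPeriod (u • ·) q.out with hr
        refine hlow _ (QuotientGroup.out_conj_pow_minimalPeriod_mem (P : Subgroup G) u q.out) ?_ ?_
        · have := (inferInstance : (_root_.commutator G).Normal).conj_mem _ (pow_mem huG r) q.out.out⁻¹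
          rwa [inv_inv] at this
        · have hrd : r ∣ orderOf u := by
            refine Function.IsPeriodicPt.minimalPeriod_dvd ?_
            show (u • ·)^[orderOf u] q.out = q.out
            rw [smul_iterate_apply, pow_orderOf_eq_one, one_smul]
          have hr0 : r ≠ 0 := fun h => by rw [h, zero_dvd_iff] at hrd; exact (orderOf_pos u).ne' hrd
          have e : orderOf (q.out.out⁻¹ * u ^ r * q.out.out) = orderOf (u ^ r) := by
            have := MulEquiv.orderOf_eq (MulAut.conj q.out.out⁻¹) (u ^ r)
            rwa [MulAut.conj_apply, inv_inv] at this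
          rw [e, orderOf_pow_of_dvd hr0 hrd]
          exact Nat.div_lt_self (orderOf_pos u) (by omega)
      rw [Finset.prod_eq_one h2, mul_one]
      refine Finset.prod_bij (fun q _ => q.out) (fun q hq => ?_) (fun q _ q' _ h => ?_) (fun x hx => ?_)
        (fun q hq => ?_)
      · rw [Finset.mem_filter] at hq ⊢
        exact ⟨Finset.mem_univ _, Function.minimalPeriod_eq_one_iff_isFixedPt.1 hq.2⟩
      · rw [← Quotient.out_eq q, ← Quotient.out_eq q', h]
      · rw [Finset.mem_filter] at hx
        have hout : (Quotient.mk (orbitRel (Subgroup.zpowers u) (G ⧸ (P : Subgroup G))) x).out = x := by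
          obtain ⟨⟨z, hz⟩, hzx⟩ := Quotient.mk_out (s := orbitRel (Subgroup.zpowers u) (G ⧸ (P : Subgroup G))) x
          change z • x = _ at hzx
          obtain ⟨i, rfl⟩ := Subgroup.mem_zpowers_iff.1 hz
          rw [← hzx]
          exact MulAction.mem_stabilizer_iff.1 (Subgroup.zpow_mem _ (MulAction.mem_stabilizer_iff.2 hx.2) i)
        refine ⟨Quotient.mk _ x, Finset.mem_filter.2 ⟨Finset.mem_univ _, ?_⟩, hout⟩
        rw [hout]
        exact Function.minimalPeriod_eq_one_iff_isFixedPt.2 hx.2
      · rw [Finset.mem_filter] at hq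
        have hmem := (hfix q.out).1 (Function.minimalPeriod_eq_one_iff_isFixedPt.1 hq.2)
        simp only [f]
        rw [dif_pos hmem]
        congr 1
        apply Subtype.ext
        simp only [hq.2, pow_one]
    have hV1 : MonoidHom.transfer ϕ u = 1 :=
      Abelianization.commutator_subset_ker (MonoidHom.transfer ϕ) huG
    -- fixed cosets in one `P`-orbit give congruent factors
    have hsame : ∀ x x' : G ⧸ (P : Subgroup G), u • x = x → u • x' = x' → x' ∈ orbit (P : Subgroup G) x →
        f x' = f x := by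
      rintro x x' hx hx' ⟨⟨y, hy⟩, hyx⟩
      have hxm := (hfix x).1 hx
      have hxm' := (hfix x').1 hx'
      simp only [f, dif_pos hxm, dif_pos hxm']
      obtain ⟨s, hs, hgs⟩ : ∃ s ∈ (P : Subgroup G), x'.out = y * x.out * s := by
        refine ⟨(y * x.out)⁻¹ * x'.out, ?_, by group⟩
        rw [← QuotientGroup.eq, QuotientGroup.out_eq', ← smul_eq_mul, ← MulAction.Quotient.smul_mk,
          QuotientGroup.out_eq']
        exact hyx
      have hm : x.out⁻¹ * (y⁻¹ * u * y) * x.out ∈ (P : Subgroup G) := by
        have e : x.out⁻¹ * (y⁻¹ * u * y) * x.out = s * (x'.out⁻¹ * u * x'.out) * s⁻¹ := by rw [hgs]; group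
        rw [e]
        exact mul_mem (mul_mem hs hxm') (inv_mem hs)
      have e1 : (⟨_, hxm'⟩ : (P : Subgroup G)) = ⟨s, hs⟩⁻¹ * ⟨_, hm⟩ * ⟨s, hs⟩ := by
        apply Subtype.ext
        simp only [Subgroup.coe_mul, Subgroup.coe_inv, hgs]
        group
      rw [e1, map_mul, map_mul, map_inv, mul_comm, mul_inv_cancel_left]
      refine inv_mul_eq_one.1 ?_ |>.symm
      rw [← map_inv, ← map_mul, hϕ]
      simp only [Subgroup.coe_mul, Subgroup.coe_inv]
      refine hRz x.out⁻¹ (Subgroup.mem_inf.2 ⟨mul_mem (inv_mem hxm) hm, Subgroup.mem_map.2 ⟨u⁻¹ * y⁻¹ * u * y, ?_, ?_⟩⟩)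
      · have := Subgroup.commutator_mem_commutator (Subgroup.inv_mem (P : Subgroup G) huP) (Subgroup.inv_mem (P : Subgroup G) hy)
        rwa [commutatorElement_def, inv_inv, inv_inv] at this
      · simp only [MulEquiv.coe_toMonoidHom, MulAut.conj_apply, inv_inv]
        group
    have hsplit := Finset.prod_filter_mul_prod_filter_not
      (Finset.univ.filter (fun x : G ⧸ (P : Subgroup G) => u • x = x))
      (fun x => x ∈ fixedPoints (P : Subgroup G) (G ⧸ (P : Subgroup G))) f
    rw [← hVf, hV1] at hsplit
    have hother : ∏ x ∈ (Finset.univ.filter (fun x : G ⧸ (P : Subgroup G) => u • x = x)).filter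
        (fun x => ¬ x ∈ fixedPoints (P : Subgroup G) (G ⧸ (P : Subgroup G))), f x = 1 := by
      rw [← Finset.prod_fiberwise_of_maps_to (t := Finset.univ)
        (g := fun x => Quotient.mk (orbitRel (P : Subgroup G) (G ⧸ (P : Subgroup G))) x) (fun _ _ => Finset.mem_univ _)]
      refine Finset.prod_eq_one fun c _ => ?_
      set S := ((Finset.univ.filter (fun x : G ⧸ (P : Subgroup G) => u • x = x)).filter
        (fun x => ¬ x ∈ fixedPoints (P : Subgroup G) (G ⧸ (P : Subgroup G)))).filter
          (fun x => Quotient.mk (orbitRel (P : Subgroup G) (G ⧸ (P : Subgroup G))) x = c) with hS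
      rcases S.eq_empty_or_nonempty with he | ⟨x0, hx0⟩
      · rw [he, Finset.prod_empty]
      have hmemS : ∀ x, x ∈ S ↔ u • x = x ∧ ¬ x ∈ fixedPoints (P : Subgroup G) (G ⧸ (P : Subgroup G)) ∧
          Quotient.mk (orbitRel (P : Subgroup G) (G ⧸ (P : Subgroup G))) x = c := fun x => by
        simp only [hS, Finset.mem_filter, Finset.mem_univ, true_and, and_assoc]
      obtain ⟨hx0u, hx0n, hx0c⟩ := (hmemS x0).1 hx0
      have horb : ∀ x ∈ S, x ∈ orbit (P : Subgroup G) x0 := fun x hx =>
        Quotient.exact (((hmemS x).1 hx).2.2.trans hx0c.symm)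
      rw [Finset.prod_congr rfl (fun x hx => hsame x0 x hx0u ((hmemS x).1 hx).1 (horb x hx)), Finset.prod_const]
      have hep : f x0 ^ p = 1 := by
        have hm := (hfix x0).1 hx0u
        simp only [f, dif_pos hm]
        rw [← map_pow, hϕ]
        simp only [Subgroup.coe_pow]
        refine hlow _ (pow_mem hm p) (pow_mem ?_ p) ?_
        · have := (inferInstance : (_root_.commutator G).Normal).conj_mem _ huG x0.out⁻¹
          rwa [inv_inv] at this
        · have e : orderOf (x0.out⁻¹ * u * x0.out) = orderOf u := by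
            have := MulEquiv.orderOf_eq (MulAut.conj x0.out⁻¹) u
            rwa [MulAut.conj_apply, inv_inv] at this
          have hd : p ∣ orderOf (x0.out⁻¹ * u * x0.out) := by
            rw [e]
            obtain ⟨i, -, hi⟩ := (Nat.dvd_prime_pow hp).1 (orderOf_dvd_of_pow_eq_one huk)
            rcases i with _ | i
            · exact absurd (orderOf_eq_one_iff.1 (by rw [hi, pow_zero])) hu1
            · exact hi ▸ dvd_pow_self p (Nat.succ_ne_zero i)
          rw [orderOf_pow_of_dvd hp.ne_zero hd, e]
          exact Nat.div_lt_self (orderOf_pos u) hp.one_lt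
      have hcard : p ∣ S.card := by
        set U := Subgroup.zpowers (⟨u, huP⟩ : (P : Subgroup G)) with hU
        have hmod := (P.isPGroup'.to_subgroup U).card_modEq_card_fixedPoints (orbit (P : Subgroup G) x0)
        have hne1 : Nat.card (orbit (P : Subgroup G) x0) ≠ 1 := by
          intro h
          apply hx0n
          rw [MulAction.mem_fixedPoints']
          intro y hy
          haveI := (Nat.card_eq_one_iff_unique.1 h).1
          exact congrArg Subtype.val (Subsingleton.elim (⟨y, hy⟩ : orbit (P : Subgroup G) x0) ⟨x0, mem_orbit_self x0⟩)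
        have hop : p ∣ Nat.card (orbit (P : Subgroup G) x0) := by
          obtain ⟨i, hi⟩ := P.isPGroup'.card_orbit x0
          rcases i with _ | i
          · exact absurd (by rw [hi, pow_zero]) hne1
          · exact hi ▸ dvd_pow_self p (Nat.succ_ne_zero i)
        have hSc : S.card = Nat.card (fixedPoints U (orbit (P : Subgroup G) x0)) := by
          rw [← Fintype.card_coe, ← Nat.card_eq_fintype_card]
          refine Nat.card_congr
            { toFun := fun x => ⟨⟨x.1, horb x.1 x.2⟩, fun m => ?_⟩
              invFun := fun x => ⟨x.1.1, (hmemS _).2 ⟨?_, ?_, ?_⟩⟩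
              left_inv := fun x => rfl
              right_inv := fun x => rfl }
          · apply Subtype.ext
            obtain ⟨i, hi⟩ := Subgroup.mem_zpowers_iff.1 m.2
            change ((m : (P : Subgroup G)) : G) • x.1 = x.1
            rw [← hi, Subgroup.coe_zpow]
            exact MulAction.mem_stabilizer_iff.1
              (Subgroup.zpow_mem _ (MulAction.mem_stabilizer_iff.2 ((hmemS x.1).1 x.2).1) i)
          · exact congrArg Subtype.val (x.2 ⟨⟨u, huP⟩, Subgroup.mem_zpowers _⟩)
          · intro h
            apply hx0n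
            obtain ⟨⟨y, hy⟩, hyx⟩ := orbit_eq_iff.2 x.1.2 ▸ mem_orbit_self x0
            rw [show x0 = x.1.1 from hyx.symm.trans (h ⟨y, hy⟩)]
            exact h
          · rw [← hx0c]
            exact Quotient.sound x.1.2
        rw [hSc, ← Nat.modEq_zero_iff_dvd]
        exact hmod.symm.trans (Nat.modEq_zero_iff_dvd.2 hop)
      obtain ⟨j, hj⟩ := hcard
      rw [hj, pow_mul, hep, one_pow]
    rw [hother, mul_one] at hsplit
    have hmain : ∀ x ∈ (Finset.univ.filter (fun x : G ⧸ (P : Subgroup G) => u • x = x)).filter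
        (fun x => x ∈ fixedPoints (P : Subgroup G) (G ⧸ (P : Subgroup G))), f x = ϕ ⟨u, huP⟩ := by
      intro x hx
      simp only [Finset.mem_filter, Finset.mem_univ, true_and] at hx
      have hm := (hfix x).1 hx.1
      simp only [f, dif_pos hm]
      have hN : x.out ∈ Subgroup.normalizer ((P : Subgroup G) : Set G) := by
        have h1 : MulAut.conj x.out⁻¹ • P = P := by
          refine Sylow.ext (Subgroup.eq_of_le_of_card_ge ?_ ?_)
          · intro t ht
            rw [Sylow.pointwise_smul_def] at ht
            obtain ⟨y, hy, rfl⟩ := ht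
            have := hx.2 ⟨y, hy⟩
            rw [← QuotientGroup.out_eq' x] at this
            change ((y * x.out : G) : G ⧸ (P : Subgroup G)) = _ at this
            rw [QuotientGroup.eq] at this
            have h2 := inv_mem this
            change MulAut.conj x.out⁻¹ y ∈ (P : Subgroup G)
            rw [MulAut.conj_apply]
            convert h2 using 1
            group
          · rw [Sylow.card_eq_multiplicity, Sylow.card_eq_multiplicity]
        have h2 := Sylow.smul_eq_iff_mem_normalizer.1 (h1 : x.out⁻¹ • P = P)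
        exact inv_inv x.out ▸ Subgroup.inv_mem (Subgroup.normalizer ((P : Subgroup G) : Set G)) h2
      refine (inv_mul_eq_one.1 ?_).symm
      rw [← map_inv, ← map_mul, hϕ]
      simp only [Subgroup.coe_mul, Subgroup.coe_inv]
      refine hRN (Subgroup.mem_inf.2 ⟨mul_mem (inv_mem huP) hm, ?_⟩)
      have := Subgroup.commutator_mem_commutator (Subgroup.inv_mem (Subgroup.normalizer ((P : Subgroup G) : Set G)) (Subgroup.le_normalizer huP)) (Subgroup.inv_mem (Subgroup.normalizer ((P : Subgroup G) : Set G)) hN)
      rw [commutatorElement_def, inv_inv, inv_inv] at this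
      convert this using 1
      group
    rw [Finset.prod_congr rfl hmain, Finset.prod_const] at hsplit
    set n0 := ((Finset.univ.filter (fun x : G ⧸ (P : Subgroup G) => u • x = x)).filter
        (fun x => x ∈ fixedPoints (P : Subgroup G) (G ⧸ (P : Subgroup G)))).card with hn0
    have hn0p : ¬ p ∣ n0 := by
      intro h
      have e : n0 = Nat.card (fixedPoints (P : Subgroup G) (G ⧸ (P : Subgroup G))) := by
        rw [hn0, Nat.card_eq_fintype_card, Fintype.card_subtype]
        congr 1
        ext x
        simp only [Finset.mem_filter, Finset.mem_univ, true_and]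
        exact ⟨fun h => h.2, fun h => ⟨h ⟨u, huP⟩, h⟩⟩
      apply P.not_dvd_index
      have hmod := P.isPGroup'.card_modEq_card_fixedPoints (G ⧸ (P : Subgroup G))
      rw [← e] at hmod
      exact Nat.modEq_zero_iff_dvd.1 (hmod.trans (Nat.modEq_zero_iff_dvd.2 h))
    rw [← hϕ ⟨u, huP⟩]
    rw [← orderOf_eq_one_iff]
    have h1 : orderOf (ϕ ⟨u, huP⟩) ∣ n0 := orderOf_dvd_of_pow_eq_one hsplit
    have h2 : orderOf (ϕ ⟨u, huP⟩) ∣ p ^ k := by
      refine orderOf_dvd_of_pow_eq_one ?_
      rw [← map_pow, hk, map_one]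
    exact Nat.eq_one_of_dvd_coprimes ((hp.coprime_iff_not_dvd.2 hn0p).pow_left k) h2 h1

/-- Grün's first Theorem: if `P` is a Sylow `p`-subgroup of the finite group `G`, then `P ∩ G'` is the subgroup generated by `P ∩ N_G(P)'` together with the subgroups `P ∩ z P' z⁻¹` for all `z ∈ G`, where `'` denotes the derived subgroup and `N_G(P)` the normalizer of `P`. -/
theorem result {G : Type*} [Group G] [Finite G] {p : ℕ} [Fact p.Prime] (P : Sylow p G) : (P : Subgroup G) ⊓ commutator G = ((P : Subgroup G) ⊓ ⁅Subgroup.normalizer ((P : Subgroup G) : Set G), Subgroup.normalizer ((P : Subgroup G) : Set G)⁆) ⊔ ⨆ z : G, (P : Subgroup G) ⊓ (⁅(P : Subgroup G), (P : Subgroup G)⁆).map (MulAut.conj z).toMonoidHom := by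
  refine le_antisymm (le_gruen P _ rfl) (sup_le (le_inf inf_le_left ?_) (iSup_le fun z => le_inf inf_le_left ?_))
  · exact inf_le_right.trans (Subgroup.commutator_mono le_top le_top)
  · refine inf_le_right.trans (Subgroup.map_le_iff_le_comap.2 fun c hc => ?_)
    rw [Subgroup.mem_comap, MulEquiv.coe_toMonoidHom, MulAut.conj_apply]
    exact (inferInstance : (_root_.commutator G).Normal).conj_mem c (Subgroup.commutator_mono le_top le_top hc) z

end Cfsg.Agent.S4216
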