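import Cfsg.Statements.S4397
import Cfsg.Agent.Lib.PGroups.Basic

set_option autoImplicit false
open Cfsg

namespace Cfsg.Agent.S4397

open Subgroup
open scoped commutatorElement

universe u

/-- A cyclic subgroup containing the commutator subgroup with cyclic quotient. -/
private theorem meta_of {G : Type u} [Group G] (C : Subgroup G) (hC : IsCyclic C)
    (hle : commutator G ≤ C) (y : G) (htop : C ⊔ zpowers y = ⊤) : Cfsg.IsMetacyclic G := by
  haveI hn : C.Normal := ⟨fun c hc g => by
    have h : g * c * g⁻¹ * c⁻¹ ∈ C :=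
      hle (by
        rw [_root_.commutator_def]
        have := Subgroup.commutator_mem_commutator (mem_top g) (mem_top c)
        rwa [commutatorElement_def] at this)
    simpa using mul_mem h hc⟩
  refine ⟨C, hn, hC, ⟨QuotientGroup.mk y, fun q => ?_⟩⟩
  obtain ⟨x, rfl⟩ := QuotientGroup.mk_surjective q
  obtain ⟨c, hc, w, hw, rfl⟩ := mem_sup_of_normal_left.mp (htop ▸ mem_top x : x ∈ C ⊔ zpowers y)
  obtain ⟨k, rfl⟩ := mem_zpowers_iff.mp hw
  exact ⟨k, by
    change (QuotientGroup.mk y : G ⧸ C) ^ k = QuotientGroup.mk (c * y ^ k)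
    rw [QuotientGroup.mk_mul, (QuotientGroup.eq_one_iff c).mpr hc, one_mul, QuotientGroup.mk_zpow]⟩

private theorem rank_quotient {G : Type u} [Group G] [Finite G] {k : ℕ}
    (hr : Cfsg.SectionalPRankLE 2 k G) (Z : Subgroup G) [Z.Normal] :
    Cfsg.SectionalPRankLE 2 k (G ⧸ Z) := by
  intro H N _ A hA hA2
  let f : H.comap (QuotientGroup.mk' Z) →* H := (QuotientGroup.mk' Z).subgroupComap H
  have hf : Function.Surjective f := by
    rintro ⟨q, hq⟩
    obtain ⟨x, rfl⟩ := QuotientGroup.mk'_surjective Z q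
    exact ⟨⟨x, hq⟩, rfl⟩
  let g := (QuotientGroup.mk' N).comp f
  have hg : Function.Surjective g := (QuotientGroup.mk'_surjective N).comp hf
  let q := QuotientGroup.quotientKerEquivOfSurjective g hg
  haveI := hA
  have := hr _ g.ker (A.map q.symm.toMonoidHom) (Subgroup.map_isMulCommutative A _) (by
    rintro _ ⟨a, ha, rfl⟩
    rw [← map_pow, hA2 a ha, map_one])
  exact (Subgroup.card_map_of_injective (K := A) (f := q.symm.toMonoidHom) q.symm.injective).ge.trans this

variable {G : Type u} [Group G] [Finite G]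

private theorem two_generated (h2 : IsPGroup 2 G) (hr : Cfsg.SectionalPRankLE 2 2 G) :
    ∃ a b : G, closure {a, b} = ⊤ := by
  haveI : Fact (Nat.Prime 2) := ⟨Nat.prime_two⟩
  classical
  have hc : ∀ q r : G ⧸ frattini G, q * r = r * q :=
    (Subgroup.Normal.quotient_commutative_iff_commutator_le.mpr
      (CfsgLib.PGroups.commutator_le_frattini' h2)).is_comm.comm
  have hexp : ∀ q : G ⧸ frattini G, q ^ 2 = 1 := by
    intro q
    obtain ⟨x, rfl⟩ := QuotientGroup.mk_surjective q
    rw [← QuotientGroup.mk_pow, QuotientGroup.eq_one_iff]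
    exact CfsgLib.PGroups.pow_mem_frattini h2 x
  have h4 : Nat.card (G ⧸ frattini G) ≤ 4 := by
    let f : (⊤ : Subgroup G) →* G ⧸ frattini G := (QuotientGroup.mk' (frattini G)).comp (⊤ : Subgroup G).subtype
    have hf : Function.Surjective f := fun q => by
      obtain ⟨x, rfl⟩ := QuotientGroup.mk_surjective q
      exact ⟨⟨x, mem_top x⟩, rfl⟩
    let q := QuotientGroup.quotientKerEquivOfSurjective f hf
    have := hr ⊤ f.ker ⊤ ⟨⟨fun a b => Subtype.ext (q.injective (by
        rw [Subgroup.coe_mul, Subgroup.coe_mul, map_mul, map_mul]; exact hc _ _))⟩⟩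
      (fun a _ => q.injective (by rw [map_pow, map_one]; exact hexp _))
    rw [Subgroup.card_top, Nat.card_congr q.toEquiv] at this
    simpa using this
  -- choose two elements
  have key : ∀ H : Subgroup (G ⧸ frattini G), H ≠ ⊤ →
      2 * Nat.card H ≤ Nat.card (G ⧸ frattini G) := by
    intro H hH
    obtain ⟨d, hd⟩ := H.card_subgroup_dvd_card
    have hne : Nat.card H ≠ Nat.card (G ⧸ frattini G) := fun h => hH (eq_top_of_card_eq H h)
    have := Nat.card_pos (α := G ⧸ frattini G)
    rcases d with _ | _ | d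
    · omega
    · omega
    · rw [hd, mul_comm]; exact Nat.mul_le_mul_left _ (by omega)
  obtain ⟨p, q, hpq⟩ : ∃ p q : G ⧸ frattini G, closure {p, q} = ⊤ := by
    by_cases h1 : ∀ p : G ⧸ frattini G, p = 1
    · exact ⟨1, 1, eq_top_iff.mpr fun x _ => by rw [h1 x]; exact one_mem _⟩
    push Not at h1
    obtain ⟨p, hp⟩ := h1
    by_cases h2' : zpowers p = ⊤
    · exact ⟨p, p, eq_top_iff.mpr (h2'.ge.trans (zpowers_le.mpr (Subgroup.subset_closure (Or.inl rfl))))⟩
    obtain ⟨q, hq⟩ : ∃ q, q ∉ zpowers p := by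
      by_contra h; push Not at h; exact h2' (eq_top_iff.mpr fun x _ => h x)
    refine ⟨p, q, by_contra fun hne => ?_⟩
    have e1 := key _ hne
    have hlt : zpowers p < closure {p, q} := lt_of_le_of_ne (zpowers_le.mpr (Subgroup.subset_closure (Or.inl rfl)))
      (fun h => hq (h.symm ▸ Subgroup.subset_closure (Or.inr rfl)))
    have hp2 : orderOf p = 2 := orderOf_eq_prime (hexp p) hp
    have hcl : Nat.card (zpowers p) < Nat.card (closure {p, q}) := by
      by_contra h
      exact hlt.ne (Subgroup.eq_of_le_of_card_ge hlt.le (le_of_not_gt h))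
    rw [Nat.card_zpowers, hp2] at hcl
    omega
  obtain ⟨a, rfl⟩ := QuotientGroup.mk_surjective p
  obtain ⟨b, rfl⟩ := QuotientGroup.mk_surjective q
  refine ⟨a, b, CfsgLib.PGroups.closure_eq_top_of_sup_frattini ?_⟩
  have h := congrArg (Subgroup.comap (QuotientGroup.mk' (frattini G))) hpq
  rw [Subgroup.comap_top, show ({(a : G ⧸ frattini G), (b : G ⧸ frattini G)} : Set _) =
      QuotientGroup.mk' (frattini G) '' {a, b} by rw [Set.image_pair]; rfl, ← MonoidHom.map_closure,
    Subgroup.comap_map_eq, QuotientGroup.ker_mk'] at h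
  exact h

/-- In a two-generated group whose commutator of the generators is central, it generates `G'`. -/
private theorem commutator_le_of_central {a b : G} (hab : closure {a, b} = ⊤)
    (hc : ⁅a, b⁆ ∈ center G) : commutator G ≤ zpowers ⁅a, b⁆ := by
  haveI : (zpowers ⁅a, b⁆).Normal := ⟨fun x hx g => by
    rw [mem_center_iff.mp (zpowers_le.mpr hc hx) g, mul_inv_cancel_right]; exact hx⟩
  let π := QuotientGroup.mk' (zpowers ⁅a, b⁆)
  have hcomm : π a * π b = π b * π a := by
    have h1 : π (a * b * a⁻¹ * b⁻¹) = 1 := (QuotientGroup.eq_one_iff _).mpr (mem_zpowers _)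
    rw [map_mul, map_mul, map_mul, map_inv, map_inv, mul_inv_eq_one, mul_inv_eq_iff_eq_mul] at h1
    exact h1
  have hgen : closure {π a, π b} = ⊤ := by
    rw [← Set.image_pair, ← MonoidHom.map_closure, hab,
      Subgroup.map_top_of_surjective π (QuotientGroup.mk'_surjective _)]
  haveI : IsMulCommutative (closure {π a, π b}) := isMulCommutative_closure (by
    rintro x (rfl | rfl) y (rfl | rfl) <;> first | rfl | exact hcomm | exact hcomm.symm)
  refine Subgroup.Normal.quotient_commutative_iff_commutator_le.mp ⟨⟨fun q r => ?_⟩⟩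
  exact setLike_mul_comm (s := closure {π a, π b}) (hgen ▸ mem_top q) (hgen ▸ mem_top r)

private theorem comm_of_gen {x y : G} (hxy : closure {x, y} = ⊤) (h : x * y = y * x) (u v : G) :
    u * v = v * u := by
  haveI : IsMulCommutative (closure {x, y}) := isMulCommutative_closure (by
    rintro u (rfl | rfl) v (rfl | rfl)
    exacts [rfl, h, h.symm, rfl])
  exact setLike_mul_comm (s := closure {x, y}) (hxy ▸ mem_top u) (hxy ▸ mem_top v)

/-- Independent generators of a commutative two-generated `2`-group quotient. -/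
private theorem exists_indep_pair {Q : Type u} [Group Q] [Finite Q] (hQ : IsPGroup 2 Q)
    (hQc : ∀ p q : Q, Commute p q) (π : G →* Q) {a b : G} (hab : closure {a, b} = ⊤) :
    ∃ (x y : G) (e : ℕ), closure {x, y} = ⊤ ∧ π x ^ 2 ^ e = 1 ∧
      ∀ j < e, π x ^ 2 ^ j ∉ zpowers (π y) := by
  classical
  haveI : Fact (Nat.Prime 2) := ⟨Nat.prime_two⟩
  haveI : Fintype G := Fintype.ofFinite G
  obtain ⟨⟨x₀, y⟩, hpair, hymax⟩ := Finset.exists_max_image
    (Finset.univ.filter fun p : G × G => closure {p.1, p.2} = ⊤) (fun p => orderOf (π p.2))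
    ⟨(a, b), Finset.mem_filter.mpr ⟨Finset.mem_univ _, hab⟩⟩
  replace hpair : closure {x₀, y} = ⊤ := (Finset.mem_filter.mp hpair).2
  obtain ⟨q, hq⟩ := IsPGroup.iff_orderOf.mp hQ (π y)
  have hx0pow : π x₀ ^ 2 ^ q = 1 := by
    obtain ⟨i, hi⟩ := IsPGroup.iff_orderOf.mp hQ (π x₀)
    have hle := hymax (y, x₀) (Finset.mem_filter.mpr ⟨Finset.mem_univ _, by
      rw [Set.pair_comm]; exact hpair⟩)
    simp only at hle
    rw [hi, hq] at hle
    exact orderOf_dvd_iff_pow_eq_one.mp (by
      rw [hi]; exact pow_dvd_pow 2 ((Nat.pow_le_pow_iff_right one_lt_two).mp hle))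
  have hexE : ∃ e, π x₀ ^ 2 ^ e ∈ zpowers (π y) := ⟨q, hx0pow ▸ one_mem _⟩
  obtain ⟨e, hspec, hmin⟩ : ∃ e, π x₀ ^ 2 ^ e ∈ zpowers (π y) ∧
      ∀ j < e, π x₀ ^ 2 ^ j ∉ zpowers (π y) :=
    ⟨Nat.find hexE, Nat.find_spec hexE, fun j hj => Nat.find_min hexE hj⟩
  have heq : e ≤ q := by
    by_contra h
    exact hmin q (by omega) (hx0pow ▸ one_mem _)
  obtain ⟨i, hi⟩ := mem_zpowers_iff.mp hspec
  have hdvd : (2 : ℤ) ^ e ∣ i := by
    have h1 : π y ^ (i * ((2 ^ (q - e) : ℕ) : ℤ)) = 1 := by
      rw [zpow_mul, hi, zpow_natCast, ← pow_mul, ← pow_add, Nat.add_sub_cancel' heq, hx0pow]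
    have h3 := orderOf_dvd_iff_zpow_eq_one.mpr h1
    rw [hq] at h3
    push_cast at h3
    rw [show (2 : ℤ) ^ q = 2 ^ e * 2 ^ (q - e) by rw [← pow_add, Nat.add_sub_cancel' heq]] at h3
    exact Int.dvd_of_mul_dvd_mul_right (by positivity) h3
  obtain ⟨i, rfl⟩ := hdvd
  have hxpow : ∀ j : ℕ, π (x₀ * y ^ (-i)) ^ 2 ^ j = π x₀ ^ 2 ^ j * π y ^ (-i * 2 ^ j) := by
    intro j
    rw [map_mul, map_zpow, (hQc _ _).mul_pow, ← zpow_natCast (π y ^ (-i)), ← zpow_mul]
    norm_num
  refine ⟨x₀ * y ^ (-i), y, e, eq_top_iff.mpr (hpair ▸ (closure_le _).mpr ?_), ?_, fun j hj h => ?_⟩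
  · rintro u (rfl | rfl)
    · have h1 : u * y ^ (-i) ∈ closure ({u * y ^ (-i), y} : Set G) := Subgroup.subset_closure (Or.inl rfl)
      have h2' : y ^ i ∈ closure ({u * y ^ (-i), y} : Set G) := Subgroup.zpow_mem _ (Subgroup.subset_closure (show y ∈ ({u * y ^ (-i), y} : Set G) by simp)) i
      have h3 : u * y ^ (-i) * y ^ i ∈ closure ({u * y ^ (-i), y} : Set G) := mul_mem h1 h2'
      rw [mul_assoc, ← zpow_add, neg_add_cancel, zpow_zero, mul_one] at h3
      exact h3
    · exact Subgroup.subset_closure (Or.inr rfl)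
  · rw [hxpow, ← hi, ← zpow_add, show 2 ^ e * i + -i * 2 ^ e = (0 : ℤ) by ring, zpow_zero]
  · rw [hxpow] at h
    exact hmin j hj ((Subgroup.mul_mem_cancel_right _ (zpow_mem (mem_zpowers _) _)).mp h)

/-- Three independent commuting involutions are impossible. -/
private theorem no_e8 (hr : Cfsg.SectionalPRankLE 2 2 G) {z u w : G} (hz : z ^ 2 = 1) (hu : u ^ 2 = 1)
    (hw : w ^ 2 = 1) (hzu : z * u = u * z) (hzw : z * w = w * z) (huw : u * w = w * u)
    (hnd : [1, z, u, w, u * w].Nodup) : False := by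
  classical
  set T : Subgroup G := closure {z, u, w} with hT
  haveI hTc : IsMulCommutative T := isMulCommutative_closure (by
    rintro p (rfl | rfl | rfl) q (rfl | rfl | rfl)
    exacts [rfl, hzu, hzw, hzu.symm, rfl, huw, hzw.symm, huw.symm, rfl])
  have hTexp : ∀ p ∈ T, p ^ 2 = 1 := by
    intro p hp
    induction hp using Subgroup.closure_induction with
    | mem p hp => rcases hp with rfl | rfl | rfl <;> assumption
    | one => exact one_pow 2
    | mul p q hp hq ihp ihq => rw [Commute.mul_pow (setLike_mul_comm hp hq), ihp, ihq, one_mul]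
    | inv p _ ih => rw [inv_pow, ih, inv_one]
  have h4 : Nat.card T ≤ 4 := by
    have hc : ∀ p q : T ⧸ (⊥ : Subgroup T), p * q = q * p := fun p q => by
      obtain ⟨p, rfl⟩ := QuotientGroup.mk_surjective p
      obtain ⟨q, rfl⟩ := QuotientGroup.mk_surjective q
      rw [← QuotientGroup.mk_mul, ← QuotientGroup.mk_mul, hTc.is_comm.comm]
    have he : ∀ p : T ⧸ (⊥ : Subgroup T), p ^ 2 = 1 := fun p => by
      obtain ⟨p, rfl⟩ := QuotientGroup.mk_surjective p
      rw [← QuotientGroup.mk_pow, show p ^ 2 = 1 from Subtype.ext (hTexp p.1 p.2), QuotientGroup.mk_one]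
    have := hr T ⊥ ⊤ ⟨⟨fun p q => Subtype.ext (hc _ _)⟩⟩ (fun p _ => he p)
    rwa [Subgroup.card_top, Nat.card_congr (QuotientGroup.quotientBot (G := T)).toEquiv] at this
  haveI := Fintype.ofFinite T
  haveI := Fintype.ofFinite G
  have hsub : [1, z, u, w, u * w].toFinset ⊆ (T : Set G).toFinset := by
    intro p hp
    simp only [List.mem_toFinset, List.mem_cons, List.not_mem_nil, or_false] at hp
    have hu' : u ∈ T := Subgroup.subset_closure (by simp)
    have hw' : w ∈ T := Subgroup.subset_closure (by simp)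
    rw [Set.mem_toFinset, SetLike.mem_coe]
    rcases hp with rfl | rfl | rfl | rfl | rfl
    exacts [one_mem _, Subgroup.subset_closure (by simp), hu', hw', mul_mem hu' hw']
  have h5 := Finset.card_le_card hsub
  rw [List.toFinset_card_of_nodup hnd, Set.toFinset_card] at h5
  simp only [List.length_cons, List.length_nil] at h5
  rw [Nat.card_eq_fintype_card] at h4
  simp only [SetLike.coe_sort_coe] at h5
  omega

/-- The case of a commutator subgroup of order two. -/
private theorem meta_of_card_two (h2 : IsPGroup 2 G) (hr : Cfsg.SectionalPRankLE 2 2 G) {a b : G}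
    (hab : closure {a, b} = ⊤) (hG' : Nat.card (commutator G) = 2) : Cfsg.IsMetacyclic G := by
  haveI : Fact (Nat.Prime 2) := ⟨Nat.prime_two⟩
  classical
  have hDne : commutator G ≠ ⊥ := fun h => by rw [h, Subgroup.card_bot] at hG'; omega
  obtain ⟨⟨z, hzD, hzc⟩, hz1'⟩ : ∃ w : (commutator G ⊓ center G : Subgroup G), w ≠ 1 := by
    haveI : Nontrivial (commutator G ⊓ center G : Subgroup G) :=
      (Subgroup.nontrivial_iff_ne_bot _).mpr (CfsgLib.PGroups.inf_center_ne_bot h2 hDne)
    exact exists_ne 1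
  have hz1 : z ≠ 1 := fun h => hz1' (Subtype.ext h)
  have hzo : orderOf z = 2 := by
    have h := Subgroup.orderOf_dvd_natCard _ hzD
    rw [hG'] at h
    exact ((Nat.dvd_prime Nat.prime_two).mp h).resolve_left (fun h => hz1 (orderOf_eq_one_iff.mp h))
  have hz2 : z ^ 2 = 1 := by rw [← hzo]; exact pow_orderOf_eq_one z
  have hcomm : commutator G ≤ zpowers z := (eq_of_le_of_card_ge (zpowers_le.mpr hzD)
    (by rw [hG', Nat.card_zpowers, hzo])).ge
  have hcomz : ∀ u v : G, ⁅u, v⁆ ∈ zpowers z := fun u v => hcomm (by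
    rw [_root_.commutator_def]
    exact Subgroup.commutator_mem_commutator (mem_top u) (mem_top v))
  have hzpow : ∀ w ∈ zpowers z, w = 1 ∨ w = z := by
    intro w hw
    obtain ⟨k, rfl⟩ := mem_zpowers_iff.mp hw
    rcases Int.even_or_odd' k with ⟨i, rfl | rfl⟩
    · exact Or.inl (by rw [zpow_mul, zpow_two, ← pow_two, hz2, one_zpow])
    · exact Or.inr (by rw [zpow_add_one, zpow_mul, zpow_two, ← pow_two, hz2, one_zpow, one_mul])
  have hsq : ∀ u : G, u ^ 2 ∈ center G := by
    intro u
    refine mem_center_iff.mpr fun v => ?_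
    have hc : ⁅u, v⁆ ∈ center G := zpowers_le.mpr hzc (hcomz u v)
    have hcc : ⁅u, v⁆ * ⁅u, v⁆ = 1 := by
      rcases hzpow _ (hcomz u v) with h | h <;> rw [h]
      · rw [one_mul]
      · rw [← pow_two, hz2]
    set c := ⁅u, v⁆ with hcdef
    have h1 : u * v = c * (v * u) := by rw [hcdef, commutatorElement_def]; group
    symm
    calc u ^ 2 * v = u * (u * v) := by rw [pow_two, mul_assoc]
      _ = u * c * (v * u) := by rw [h1, mul_assoc]
      _ = c * (u * v) * u := by rw [mem_center_iff.mp hc u]; group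
      _ = c * (c * (v * u)) * u := by rw [h1]
      _ = v * u ^ 2 := by rw [← mul_assoc c c, hcc, one_mul, pow_two, mul_assoc]
  haveI hZn : (zpowers z).Normal := ⟨fun x hx g => by
    rw [mem_center_iff.mp (zpowers_le.mpr hzc hx) g, mul_inv_cancel_right]; exact hx⟩
  have hQc : ∀ p q : G ⧸ zpowers z, Commute p q :=
    (Subgroup.Normal.quotient_commutative_iff_commutator_le.mpr hcomm).is_comm.comm
  obtain ⟨x, y, e, hxy, hxe, hxmin⟩ :=
    exists_indep_pair (h2.to_quotient (zpowers z)) hQc (QuotientGroup.mk' (zpowers z)) hab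
  have hna : ¬ x * y = y * x := fun h => hDne (by
    rw [eq_bot_iff, _root_.commutator_def, Subgroup.commutator_le]
    intro u _ v _
    exact Subgroup.mem_bot.mpr (commutatorElement_eq_one_iff_mul_comm.mpr (comm_of_gen hxy h u v)))
  have htop : ∀ w : G, x ∈ zpowers w ⊔ zpowers y → zpowers w ⊔ zpowers y = ⊤ := fun w hw =>
    eq_top_iff.mpr (hxy ▸ (closure_le _).mpr (by
      rintro u (rfl | rfl)
      · exact hw
      · exact mem_sup_right (mem_zpowers _)))
  rw [← map_pow, QuotientGroup.mk'_apply, QuotientGroup.eq_one_iff] at hxe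
  have he1 : e ≠ 0 := by
    intro h0
    rw [h0, pow_zero, pow_one] at hxe
    exact hna (mem_center_iff.mp (zpowers_le.mpr hzc hxe) y).symm
  rcases hzpow _ hxe with hx1 | hx1
  swap
  · exact meta_of (zpowers x) inferInstance
      (hcomm.trans (zpowers_le.mpr (hx1 ▸ pow_mem (mem_zpowers x) _))) y
      (htop x (mem_sup_left (mem_zpowers x)))
  obtain ⟨q, hq⟩ := IsPGroup.iff_orderOf.mp h2 y
  have hq0 : q ≠ 0 := by
    intro h0
    rw [h0, pow_zero, orderOf_eq_one_iff] at hq
    exact hna (by rw [hq, mul_one, one_mul])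
  set w := y ^ 2 ^ (q - 1) with hw
  have hw2 : w ^ 2 = 1 := by
    rw [hw, ← pow_mul, ← pow_succ, Nat.sub_add_cancel (by omega), ← hq, pow_orderOf_eq_one]
  have hw1 : w ≠ 1 := by
    intro h
    have := Nat.le_of_dvd (by positivity) (orderOf_dvd_of_pow_eq_one (hw ▸ h : y ^ 2 ^ (q - 1) = 1))
    rw [hq] at this
    have := Nat.pow_lt_pow_right (a := 2) one_lt_two (show q - 1 < q by omega)
    omega
  by_cases hwz : w ∈ zpowers z
  · have hwz' : w = z := (hzpow w hwz).resolve_left hw1
    refine meta_of (zpowers y) inferInstance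
      (hcomm.trans (zpowers_le.mpr (hwz' ▸ pow_mem (mem_zpowers y) _))) x ?_
    rw [sup_comm]
    exact htop x (mem_sup_left (mem_zpowers x))
  by_cases h11 : e = 1 ∧ q = 1
  · -- a dihedral group
    have hx2 : x⁻¹ = x := inv_eq_of_mul_eq_one_left (by rw [← pow_two]; simpa [h11.1] using hx1)
    have hy2 : y⁻¹ = y := inv_eq_of_mul_eq_one_left (by
      rw [← pow_two, ← hw2, hw, h11.2]; simp)
    have hbr : (x * y) ^ 2 = ⁅x, y⁆ := by
      rw [commutatorElement_def, hx2, hy2, pow_two]; group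
    rcases hzpow _ (hcomz x y) with h | h
    · exact absurd (commutatorElement_eq_one_iff_mul_comm.mp h) hna
    · refine meta_of (zpowers (x * y)) inferInstance
        (hcomm.trans (zpowers_le.mpr ((hbr.trans h) ▸ pow_mem (mem_zpowers (x * y)) 2))) y (htop _ ?_)
      have := mul_mem (mem_sup_left (mem_zpowers (x * y)) : x * y ∈ zpowers (x * y) ⊔ zpowers y)
        (inv_mem (mem_sup_right (mem_zpowers y) : y ∈ zpowers (x * y) ⊔ zpowers y))
      rwa [mul_inv_cancel_right] at this
  exfalso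
  set u := x ^ 2 ^ (e - 1) with hu
  have hu2 : u ^ 2 = 1 := by rw [hu, ← pow_mul, ← pow_succ, Nat.sub_add_cancel (by omega), hx1]
  set π := QuotientGroup.mk' (zpowers z) with hπ
  have hun : π u ∉ zpowers (π y) := by rw [hu, map_pow]; exact hxmin _ (by omega)
  have hπw : π w ∈ zpowers (π y) := by rw [hw, map_pow]; exact pow_mem (mem_zpowers _) _
  have hπz : π z = 1 := (QuotientGroup.eq_one_iff z).mpr (mem_zpowers z)
  have huw : u * w = w * u := by
    by_cases he2 : 2 ≤ e
    · have : u ∈ center G := by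
        rw [hu, show e - 1 = (e - 2) + 1 by omega, pow_succ', pow_mul]
        exact pow_mem (hsq x) _
      exact (mem_center_iff.mp this w).symm
    · have : w ∈ center G := by
        rw [hw, show q - 1 = (q - 2) + 1 by omega, pow_succ', pow_mul]
        exact pow_mem (hsq y) _
      exact mem_center_iff.mp this u
  refine no_e8 hr hz2 hu2 hw2 (mem_center_iff.mp hzc u).symm (mem_center_iff.mp hzc w).symm huw ?_
  have n1 : u ≠ 1 := fun h => hun (by rw [h, map_one]; exact one_mem _)
  have n2 : u ≠ z := fun h => hun (by rw [h, hπz]; exact one_mem _)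
  have n3 : u ≠ w := fun h => hun (h ▸ hπw)
  have n4 : w ≠ z := fun h => hwz (h ▸ mem_zpowers z)
  have n5 : u * w ≠ 1 := fun h => hun (by
    rw [eq_inv_of_mul_eq_one_left h, map_inv]; exact inv_mem hπw)
  have n6 : u * w ≠ z := fun h => hun (by
    have : π u * π w = 1 := by rw [← map_mul, h, hπz]
    rw [eq_inv_of_mul_eq_one_left this]; exact inv_mem hπw)
  have n7 : u * w ≠ u := fun h => hw1 (mul_eq_left.mp h)
  have n8 : u * w ≠ w := fun h => n1 (mul_eq_right.mp h)
  simp [hz1.symm, n1.symm, hw1.symm, n5.symm, n2.symm, n4.symm, n6.symm, n3, n7.symm, n8.symm]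

private theorem exists_central_inv (h2 : IsPGroup 2 G) {N : Subgroup G} [N.Normal] (hN : N ≠ ⊥) :
    ∃ z ∈ N, z ∈ center G ∧ orderOf z = 2 := by
  haveI : Fact (Nat.Prime 2) := ⟨Nat.prime_two⟩
  have hne := CfsgLib.PGroups.inf_center_ne_bot h2 hN
  rcases (h2.to_subgroup (N ⊓ center G)).card_eq_or_dvd with h | h
  · exact absurd (Subgroup.card_eq_one.mp h) hne
  obtain ⟨z, hz⟩ := exists_prime_orderOf_dvd_card' 2 h
  exact ⟨z.1, z.2.1, z.2.2, by rw [Subgroup.orderOf_coe]; exact hz⟩

private theorem metacyclic : ∀ (m : ℕ) (G : Type u) [Group G] [Finite G], Nat.card G ≤ m →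
    IsPGroup 2 G → Cfsg.SectionalPRankLE 2 2 G → Cfsg.IsMetacyclic G := by
  intro m
  induction m with
  | zero => intro G _ _ h; exact absurd h (Nat.card_pos (α := G)).not_ge
  | succ m ih =>
  intro G _ _ hm h2 hr
  haveI : Fact (Nat.Prime 2) := ⟨Nat.prime_two⟩
  classical
  obtain ⟨a, b, hab⟩ := two_generated h2 hr
  by_cases hD : commutator G = ⊥
  · refine meta_of (zpowers a) inferInstance (hD.le.trans bot_le) b
      (eq_top_iff.mpr (hab.ge.trans ((closure_le _).mpr ?_)))
    rintro u (rfl | rfl)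
    · exact mem_sup_left (mem_zpowers _)
    · exact mem_sup_right (mem_zpowers _)
  by_cases hc2 : Nat.card (commutator G) = 2
  · exact meta_of_card_two h2 hr hab hc2
  have h4 : 4 ≤ Nat.card (commutator G) := by
    obtain ⟨k, hk⟩ := IsPGroup.iff_card.mp (h2.to_subgroup (commutator G))
    rcases k with _ | _ | k
    · exact absurd (Subgroup.card_eq_one.mp hk) hD
    · exact absurd hk hc2
    · rw [hk, pow_succ, pow_succ]
      have := Nat.one_le_pow k 2 (by omega)
      omega
  have hDp := h2.to_subgroup (commutator G)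
  let Φ : Subgroup G := (frattini (commutator G)).map (commutator G).subtype
  haveI hΦn : Φ.Normal := ConjAct.normal_of_characteristic_of_normal
  obtain ⟨z, hzD, hzc, hzo, hzΦ⟩ : ∃ z, z ∈ commutator G ∧ z ∈ center G ∧ orderOf z = 2 ∧
      (Φ ≠ ⊥ → z ∈ Φ) := by
    by_cases hΦ : Φ = ⊥
    · obtain ⟨z, h1, h3, h5⟩ := exists_central_inv h2 hD
      exact ⟨z, h1, h3, h5, fun h => absurd hΦ h⟩
    · obtain ⟨z, h1, h3, h5⟩ := exists_central_inv h2 hΦ
      exact ⟨z, Subgroup.map_subtype_le _ h1, h3, h5, fun _ => h1⟩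
  have hz2 : z ^ (2 : ℤ) = 1 := by
    rw [show (2 : ℤ) = ((2 : ℕ) : ℤ) from rfl, zpow_natCast, ← hzo, pow_orderOf_eq_one]
  have hzcomm : ∀ (g : G) (j : ℤ), Commute g (z ^ j) := fun g j =>
    mem_center_iff.mp (Subgroup.zpow_mem _ hzc j) g
  haveI hZn : (zpowers z).Normal := ⟨fun x hx g => by
    rw [mem_center_iff.mp (zpowers_le.mpr hzc hx) g, mul_inv_cancel_right]; exact hx⟩
  have hQm : Nat.card (G ⧸ zpowers z) ≤ m := by
    have h := Subgroup.card_eq_card_quotient_mul_card_subgroup (zpowers z)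
    rw [Nat.card_zpowers, hzo] at h
    have := Nat.card_pos (α := G ⧸ zpowers z)
    omega
  obtain ⟨M, hMn, hMc, hMq⟩ := ih (G ⧸ zpowers z) hQm (h2.to_quotient _) (rank_quotient hr _)
  haveI := hMn
  haveI := hMc
  haveI := hMq
  obtain ⟨⟨nb, hnb⟩, hngen⟩ := IsCyclic.exists_generator (α := M)
  obtain ⟨n, rfl⟩ := QuotientGroup.mk'_surjective (zpowers z) nb
  obtain ⟨yb, hygen⟩ := IsCyclic.exists_generator (α := (G ⧸ zpowers z) ⧸ M)
  obtain ⟨yb, rfl⟩ := QuotientGroup.mk'_surjective M yb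
  obtain ⟨y, rfl⟩ := QuotientGroup.mk'_surjective (zpowers z) yb
  let π : G →* G ⧸ zpowers z := QuotientGroup.mk' (zpowers z)
  have hker : ∀ u v : G, π u = π v → ∃ j : ℤ, v = u * z ^ j := by
    intro u v h
    have h1 : u⁻¹ * v ∈ zpowers z := QuotientGroup.eq.mp h
    obtain ⟨j, hj⟩ := mem_zpowers_iff.mp h1
    exact ⟨j, by rw [hj, mul_inv_cancel_left]⟩
  have hN : ∀ g : G, π g ∈ M → ∃ i j : ℤ, g = n ^ i * z ^ j := by
    intro g hg
    obtain ⟨i, hi⟩ := mem_zpowers_iff.mp (hngen ⟨_, hg⟩)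
    obtain ⟨j, hj⟩ := hker (n ^ i) g (by rw [map_zpow]; exact congrArg Subtype.val hi)
    exact ⟨i, j, hj⟩
  have hall : ∀ g : G, ∃ i j k : ℤ, g = n ^ i * z ^ j * y ^ k := by
    intro g
    obtain ⟨k, hk⟩ := mem_zpowers_iff.mp (hygen (QuotientGroup.mk' M (π g)))
    obtain ⟨i, j, hij⟩ := hN (g * (y ^ k)⁻¹) (by
      rw [← QuotientGroup.eq_one_iff (N := M), ← QuotientGroup.mk'_apply, map_mul π, map_mul,
        ← hk, map_inv, map_inv, map_zpow, map_zpow]
      exact mul_inv_cancel _)
    exact ⟨i, j, k, by rw [← hij, inv_mul_cancel_right]⟩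
  have hDM : ∀ d ∈ commutator G, π d ∈ M := by
    intro d hd
    have hle : commutator (G ⧸ zpowers z) ≤ M :=
      Subgroup.Normal.quotient_commutative_iff_commutator_le.mp inferInstance
    have h1 : (commutator G).map π ≤ commutator (G ⧸ zpowers z) := by
      rw [_root_.commutator_def, _root_.commutator_def, Subgroup.map_commutator]
      exact Subgroup.commutator_mono le_top le_top
    exact hle (h1 (mem_map_of_mem π hd))
  by_cases hΦ : Φ = ⊥
  · exfalso
    have hfr : frattini (commutator G) = ⊥ :=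
      (Subgroup.map_eq_bot_iff_of_injective _ (commutator G).subtype_injective).mp hΦ
    have hexp : ∀ d ∈ commutator G, d ^ 2 = 1 := by
      intro d hd
      have h := CfsgLib.PGroups.pow_mem_frattini hDp (⟨d, hd⟩ : commutator G)
      rw [hfr, Subgroup.mem_bot] at h
      exact congrArg Subtype.val h
    obtain ⟨mm, hmm⟩ := IsPGroup.iff_orderOf.mp h2 n
    by_cases hmm2 : mm ≤ 1
    · have hn2 : n ^ (2 : ℤ) = 1 := by
        rw [show (2 : ℤ) = ((2 : ℕ) : ℤ) from rfl, zpow_natCast]
        exact orderOf_dvd_iff_pow_eq_one.mp (hmm ▸ by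
          simpa using pow_dvd_pow 2 hmm2)
      obtain ⟨d, hd, hdz⟩ : ∃ d ∈ commutator G, d ∉ zpowers z := by
        by_contra h; push Not at h
        have := Subgroup.card_le_of_le (show commutator G ≤ zpowers z from h)
        rw [Nat.card_zpowers, hzo] at this
        omega
      obtain ⟨i, j, rfl⟩ := hN d (hDM d hd)
      have hzj : z ^ j ∈ commutator G := Subgroup.zpow_mem _ hzD j
      rcases Int.even_or_odd' i with ⟨r, rfl | rfl⟩
      · exact hdz (by rw [zpow_mul, hn2, one_zpow, one_mul]; exact zpow_mem (mem_zpowers z) j)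
      have hnD : n ∈ commutator G := by
        rw [zpow_add_one, zpow_mul, hn2, one_zpow, one_mul] at hd
        exact (Subgroup.mul_mem_cancel_right _ hzj).mp hd
      have hy : closure {y} = ⊤ := CfsgLib.PGroups.closure_eq_top_of_sup_frattini (eq_top_iff.mpr (by
        intro g _
        obtain ⟨i, j, k, rfl⟩ := hall g
        exact mul_mem (mem_sup_right (CfsgLib.PGroups.commutator_le_frattini' h2
            (mul_mem (Subgroup.zpow_mem _ hnD i) (Subgroup.zpow_mem _ hzD j))))
          (mem_sup_left (Subgroup.zpow_mem _ (Subgroup.subset_closure (Set.mem_singleton y)) k))))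
      rw [← zpowers_eq_closure] at hy
      haveI : IsCyclic G := isCyclic_iff_exists_zpowers_eq_top.mpr ⟨y, hy⟩
      exact hD ((_root_.commutator_eq_bot_iff (G := G)).mpr inferInstance)
    have hcent : ∀ d ∈ commutator G, d ∈ center G := by
      intro d hd
      obtain ⟨i, j, rfl⟩ := hN d (hDM d hd)
      refine mul_mem ?_ (Subgroup.zpow_mem _ hzc j)
      have hi : n ^ (i * 2) = 1 := by
        have h := hexp _ hd
        rw [(hzcomm (n ^ i) j).mul_pow, ← zpow_natCast (z ^ j), ← zpow_mul, mul_comm j,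
          zpow_mul z] at h
        rw [show ((2 : ℕ) : ℤ) = 2 from rfl, hz2, one_zpow, mul_one] at h
        rw [zpow_mul, zpow_two, ← pow_two]; exact h
      have hdv := orderOf_dvd_iff_zpow_eq_one.mpr hi
      rw [hmm, show mm = mm - 1 + 1 by omega, pow_succ, Nat.cast_mul, Nat.cast_ofNat] at hdv
      obtain ⟨r, hr'⟩ := Int.dvd_of_mul_dvd_mul_right (by norm_num) hdv
      have hw : n ^ 2 ^ (mm - 1) ∈ center G := by
        have hw1 : n ^ 2 ^ (mm - 1) ≠ 1 := fun h => by
          have := orderOf_dvd_of_pow_eq_one h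
          rw [hmm, Nat.pow_dvd_pow_iff_le_right one_lt_two] at this
          omega
        refine mem_center_iff.mpr fun g => ?_
        obtain ⟨k, f, hkf⟩ := hN (g * n * g⁻¹) (by
          rw [map_mul, map_mul, map_inv]
          exact hMn.conj_mem _ hnb _)
        have hpow : g * n ^ 2 ^ (mm - 1) * g⁻¹ = (n ^ 2 ^ (mm - 1)) ^ k := by
          rw [← conj_pow, hkf, (hzcomm (n ^ k) f).mul_pow, ← zpow_natCast (z ^ f), ← zpow_mul,
            show f * ((2 ^ (mm - 1) : ℕ) : ℤ) = 2 * (f * 2 ^ (mm - 2)) by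
              rw [show mm - 1 = mm - 2 + 1 by omega]; push_cast; ring,
            zpow_mul, hz2, one_zpow, mul_one, ← zpow_natCast, ← zpow_mul, mul_comm, zpow_mul,
            zpow_natCast]
        have hw2 : (n ^ 2 ^ (mm - 1)) ^ (2 : ℤ) = 1 := by
          rw [show (2 : ℤ) = ((2 : ℕ) : ℤ) from rfl, zpow_natCast, ← pow_mul, ← pow_succ,
            Nat.sub_add_cancel (by omega), ← hmm, pow_orderOf_eq_one]
        rcases Int.even_or_odd' k with ⟨r, rfl | rfl⟩
        · rw [zpow_mul, hw2, one_zpow, mul_inv_eq_one, mul_eq_left] at hpow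
          exact absurd hpow hw1
        · rw [zpow_add_one, zpow_mul, hw2, one_zpow, one_mul, mul_inv_eq_iff_eq_mul] at hpow
          exact hpow
      rw [show n ^ i = (n ^ 2 ^ (mm - 1)) ^ r by
        rw [← zpow_natCast, ← zpow_mul, hr']]
      exact Subgroup.zpow_mem _ hw r
    have hcab : ⁅a, b⁆ ∈ commutator G := by
      rw [_root_.commutator_def]; exact Subgroup.commutator_mem_commutator (mem_top a) (mem_top b)
    have hle := Subgroup.card_le_of_le (commutator_le_of_central hab (hcent _ hcab))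
    rw [Nat.card_zpowers] at hle
    have := orderOf_le_of_pow_eq_one two_pos (hexp _ hcab)
    omega
  -- the commutator subgroup is cyclic
  have hzΦ' := hzΦ hΦ
  have hle : (commutator G).map π ≤ M := by
    rintro _ ⟨d, hd, rfl⟩; exact hDM d hd
  haveI : IsCyclic ((commutator G).map π) :=
    isCyclic_of_injective (Subgroup.inclusion hle) (Subgroup.inclusion_injective hle)
  obtain ⟨⟨_, c, hc, rfl⟩, hcgen⟩ := IsCyclic.exists_generator (α := (commutator G).map π)
  have hctop : zpowers (⟨c, hc⟩ : commutator G) = ⊤ := by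
    rw [zpowers_eq_closure]
    refine CfsgLib.PGroups.closure_eq_top_of_sup_frattini (eq_top_iff.mpr ?_)
    rintro ⟨d, hd⟩ -
    obtain ⟨k, hk⟩ := mem_zpowers_iff.mp (hcgen ⟨π d, mem_map_of_mem π hd⟩)
    obtain ⟨j, hj⟩ := hker (c ^ k) d (by rw [map_zpow]; exact congrArg Subtype.val hk)
    rw [show (⟨d, hd⟩ : commutator G) = ⟨c, hc⟩ ^ k * ⟨z, hzD⟩ ^ j from Subtype.ext (by simpa using hj)]
    refine mul_mem (mem_sup_left (Subgroup.zpow_mem _ (Subgroup.subset_closure (Set.mem_singleton _)) k))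
      (mem_sup_right (Subgroup.zpow_mem _ ?_ j))
    obtain ⟨w, hw, hwz⟩ := hzΦ'
    rwa [show (⟨z, hzD⟩ : commutator G) = w from Subtype.ext hwz.symm]
  have hDc : ∀ d ∈ commutator G, ∃ k : ℤ, d = c ^ k := by
    intro d hd
    obtain ⟨k, hk⟩ := mem_zpowers_iff.mp (hctop.ge (mem_top (⟨d, hd⟩ : commutator G)))
    exact ⟨k, by simpa using (congrArg Subtype.val hk).symm⟩
  have hco : orderOf c = Nat.card (commutator G) := by
    rw [← Subgroup.orderOf_mk c hc, ← Nat.card_zpowers, hctop, Subgroup.card_top]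
  obtain ⟨u, hu⟩ := hDc z hzD
  have hu2 : Even u := by
    rcases Int.even_or_odd u with h | ⟨r, rfl⟩
    · exact h
    exfalso
    have h1 : c ^ ((2 * r + 1) * 2) = 1 := by rw [zpow_mul, ← hu, hz2]
    have h3 := orderOf_dvd_iff_zpow_eq_one.mpr h1
    obtain ⟨t, ht⟩ := IsPGroup.iff_orderOf.mp h2 c
    have ht2 : 2 ≤ t := by
      by_contra h
      have h' := Nat.pow_le_pow_right (show 0 < 2 by omega) (show t ≤ 1 by omega)
      omega
    have h5 : (4 : ℤ) ∣ (2 * r + 1) * 2 := by
      refine dvd_trans ?_ h3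
      rw [ht]
      exact_mod_cast (pow_dvd_pow 2 ht2)
    omega
  obtain ⟨r, rfl⟩ := hu2
  obtain ⟨i, j, hij⟩ := hN c (hDM c hc)
  have hzn : z = n ^ (i * (r + r)) := by
    conv_lhs => rw [hu, hij]
    rw [(hzcomm (n ^ i) j).mul_zpow, ← zpow_mul, ← zpow_mul,
      show j * (r + r) = 2 * (j * r) by ring, zpow_mul z, hz2, one_zpow, mul_one]
  have hzn' : z ∈ zpowers n := hzn ▸ Subgroup.zpow_mem _ (mem_zpowers n) _
  refine meta_of (zpowers n) inferInstance (fun d hd => ?_) y (eq_top_iff.mpr fun g _ => ?_)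
  · obtain ⟨i, j, rfl⟩ := hN d (hDM d hd)
    exact mul_mem (Subgroup.zpow_mem _ (mem_zpowers n) i) (Subgroup.zpow_mem _ hzn' j)
  · obtain ⟨i, j, k, rfl⟩ := hall g
    exact mul_mem (mem_sup_left (mul_mem (Subgroup.zpow_mem _ (mem_zpowers n) i)
      (Subgroup.zpow_mem _ hzn' j))) (mem_sup_right (Subgroup.zpow_mem _ (mem_zpowers y) k))


/-- A finite 2-group of sectional 2-rank at most 2 (every section has no elementary abelian subgroup of order 8) is metacyclic: it has a cyclic normal subgroup with cyclic quotient. -/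
theorem result {S : Type*} [Group S] [Finite S] (h2 : IsPGroup 2 S) (hr : Cfsg.SectionalPRankLE 2 2 S) : Cfsg.IsMetacyclic S := by
  exact metacyclic _ S le_rfl h2 hr

end Cfsg.Agent.S4397
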