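import Cfsg.Statements.S5198
import Cfsg.Agent.Lib.Fusion.HyperfocalGen

set_option autoImplicit false
open Cfsg Cfsg.FusionSystem CfsgLib.Fusion

namespace Cfsg.Agent.S5198

/-- Let F be a saturated fusion system over a finite p-group S and T a subgroup of S strongly closed in F (so T is normal in S). Then every element x of the hyperfocal subgroup of F acts on T by conjugation as an element of O^p(Aut_F(T))·Inn(T): there is an automorphism of T in the subgroup generated by the elements of Aut_F(T) of order prime to p together with the inner automorphisms of T that agrees with conjugation by x. -/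
theorem result {Ω : Type*} [Group Ω] {S : Subgroup Ω} [Finite S] (p : ℕ) [Fact p.Prime] (hS : IsPGroup p S) (F : Cfsg.FusionSystem S) (hF : F.IsSaturated p) (T : Subgroup Ω) (hT : F.StronglyClosed T) : ∀ x ∈ F.hyperfocalSubgroup p, ∃ α ∈ ((Cfsg.pResidual p ↥(F.autGroup T)).map (F.autGroup T).subtype ⊔ Cfsg.Inn ↥T : Subgroup (MulAut ↥T)), ∀ t : ↥T, ((α t : ↥T) : Ω) = x * (t : Ω) * x⁻¹ := by
    intro x hx
    have hTS := hT.1
    set M : Subgroup (MulAut T) :=
      (pResidual p (F.autGroup T)).map (F.autGroup T).subtype ⊔ Inn T with hM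
    let G : Subgroup Ω :=
      { carrier := {y | ∃ α ∈ M, ∀ t : T, ((α t : T) : Ω) = y * (t : Ω) * y⁻¹}
        one_mem' := ⟨1, M.one_mem, fun t => by simp⟩
        mul_mem' := by
          rintro y z ⟨a, ha, hav⟩ ⟨b, hb, hbv⟩
          refine ⟨a * b, M.mul_mem ha hb, fun t => ?_⟩
          rw [MulAut.mul_apply, hav, hbv]
          group
        inv_mem' := by
          rintro y ⟨a, ha, hav⟩
          refine ⟨a⁻¹, M.inv_mem ha, fun t => ?_⟩
          have := hav (a⁻¹ t)
          rw [MulAut.apply_inv_self] at this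
          rw [this]
          group }
    refine (?_ : F.hyperfocalSubgroup p ≤ G) hx
    refine hyperfocal_le_of_coprime fun P α hP hα hc y => ?_
    obtain ⟨β, hβ, hβc, hβv⟩ := exists_aut_mod hS hF hT hP hα hc
    have hPT : P ⊔ T ≤ S := sup_le hP hTS
    set y' : ↥(P ⊔ T) := Subgroup.inclusion le_sup_left y with hy'
    have hTin : ∀ t : T, ((β (Subgroup.inclusion le_sup_right t) : ↥(P ⊔ T)) : Ω) ∈ T :=
      fun t => CfsgLib.Fusion.StronglyClosed.apply_mem hT ((mem_autGroup_iff hPT).1 hβ) t.2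
    obtain ⟨γ, hγ, hγv⟩ := exists_iso (P := T) (Q := T)
      (restrict_mem ((mem_autGroup_iff hPT).1 hβ) (le_sup_right : T ≤ P ⊔ T))
      ((CfsgLib.Fusion.StronglyClosed.weaklyClosed hT).2 _
        (restrict_mem ((mem_autGroup_iff hPT).1 hβ) (le_sup_right : T ≤ P ⊔ T)))
    have hγv' : ∀ t : T, ((γ t : T) : Ω) = β (Subgroup.inclusion le_sup_right t) := fun t => hγv t
    set g : MulAut T := γ with hg
    have hgF : g ∈ F.autGroup T := (mem_autGroup_iff_isoIn hTS).2 hγ
    have hgpow : ∀ (i : ℕ) (t : T),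
        (((g ^ i) t : T) : Ω) = (β ^ i) (Subgroup.inclusion le_sup_right t) := by
      intro i
      induction i with
      | zero => intro t; rfl
      | succ i ih =>
          intro t
          rw [pow_succ', pow_succ', MulAut.mul_apply, MulAut.mul_apply, hγv']
          congr 2
          exact Subtype.ext (ih t)
    have hgc : (orderOf g).Coprime p := by
      refine hβc.coprime_dvd_left (orderOf_dvd_of_pow_eq_one (MulEquiv.ext fun t => Subtype.ext ?_))
      rw [hgpow, pow_orderOf_eq_one]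
      rfl
    have hyn : (y : Ω) ∈ Subgroup.normalizer (T : Set Ω) :=
      CfsgLib.Fusion.StronglyClosed.normal_in hT (hP y.2)
    set c : MulAut T := T.normalizerMonoidHom ⟨y, hyn⟩ with hc'
    have hcv : ∀ t : T, ((c t : T) : Ω) = (y : Ω) * t * (y : Ω)⁻¹ := fun t => rfl
    have hcF : c ∈ F.autGroup T :=
      autInducedBy_le_autGroup hTS (mem_autInducedBy_iff.2 ⟨y, hP y.2, hcv⟩)
    have hcγ : c⁻¹ * g * c * g⁻¹ ∈ M := by
      refine Subgroup.mem_sup_left ⟨⟨_, Subgroup.mul_mem _ (Subgroup.mul_mem _ (Subgroup.mul_mem _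
        (Subgroup.inv_mem _ hcF) hgF) hcF) (Subgroup.inv_mem _ hgF)⟩, ?_, rfl⟩
      have e1 : (⟨c, hcF⟩⁻¹ * ⟨g, hgF⟩ * ⟨c, hcF⟩ : F.autGroup T) ∈ pResidual p (F.autGroup T) := by
        refine Subgroup.subset_closure ?_
        show (orderOf _).Coprime p
        rw [← Subgroup.orderOf_coe]
        have : orderOf (c⁻¹ * g * c) = orderOf g := by
          have h := orderOf_injective (MulAut.conj c⁻¹).toMonoidHom (MulAut.conj c⁻¹).injective g
          simpa using h
        exact this ▸ hgc
      have e2 : (⟨g, hgF⟩ : F.autGroup T) ∈ pResidual p (F.autGroup T) :=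
        Subgroup.subset_closure (show (orderOf _).Coprime p by rwa [Subgroup.orderOf_mk])
      exact Subgroup.mul_mem _ e1 (Subgroup.inv_mem _ e2)
    have hyβ : (y : Ω)⁻¹ * (β y' : Ω) ∈ G := by
      refine ⟨_, hcγ, fun t => ?_⟩
      set t₁ := g⁻¹ t with ht₁
      have ht : g t₁ = t := MulAut.apply_inv_self _ _ _
      have h1 : ((g (c t₁) : T) : Ω) = (β y' : Ω) * (g t₁ : Ω) * (β y' : Ω)⁻¹ := by
        rw [hγv', hγv', ← Subgroup.coe_inv, ← map_inv, ← Subgroup.coe_mul, ← map_mul,
          ← Subgroup.coe_mul, ← map_mul]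
        congr 2
      rw [ht] at h1
      have h2 := hcv (c⁻¹ (g (c t₁)))
      rw [MulAut.apply_inv_self] at h2
      rw [MulAut.mul_apply, MulAut.mul_apply, MulAut.mul_apply, ← ht₁]
      calc ((c⁻¹ (g (c t₁)) : T) : Ω)
          = (y : Ω)⁻¹ * ((y : Ω) * (c⁻¹ (g (c t₁)) : T) * (y : Ω)⁻¹) * (y : Ω) := by group
        _ = _ := by rw [← h2, h1]; group
    have ht : (β y' : Ω)⁻¹ * α y ∈ G := by
      refine ⟨MulAut.conj ⟨_, hβv y⟩, Subgroup.mem_sup_right ⟨_, rfl⟩, fun t => rfl⟩
    have := G.mul_mem hyβ ht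
    simpa [mul_assoc] using this

end Cfsg.Agent.S5198
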