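import Cfsg.Statements.S0358
import Cfsg.Agent.Lib.Sporadic.M24
-- import your own Cfsg.Agent.* helpers here

set_option autoImplicit false
open Cfsg

namespace Cfsg.Agent.S0358

/-- The length-24 code built from the squares modulo 23 has dimension 12 over the field with two elements. -/
theorem result : Module.finrank (ZMod 2) Cfsg.golayCode = 12 := by
  have h : Nat.card golayCode = 4096 := by
    let e : Fin 4096 → golayCode := fun k =>
      ⟨CfsgLib.Sporadic.wordOf (CfsgLib.Sporadic.enc k),
        CfsgLib.Sporadic.mem_golayCode_iff.2 ⟨k, k.2, rfl⟩⟩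
    have he : Function.Bijective e := by
      refine ⟨fun a b h => ?_, fun w => ?_⟩
      · exact Fin.ext (CfsgLib.Sporadic.enc_inj a.2 b.2 (CfsgLib.Sporadic.wordOf_inj
          (CfsgLib.Sporadic.enc_lt a.2) (CfsgLib.Sporadic.enc_lt b.2) (congrArg Subtype.val h)))
      · obtain ⟨k, hk, hw⟩ := CfsgLib.Sporadic.mem_golayCode_iff.1 w.2
        exact ⟨⟨k, hk⟩, Subtype.ext hw⟩
    rw [← Nat.card_eq_of_bijective e he, Nat.card_fin]
  rw [Module.natCard_eq_pow_finrank (K := ZMod 2), Nat.card_zmod] at h
  exact Nat.pow_right_injective (le_refl 2) (h.trans (by norm_num : (4096 : ℕ) = 2 ^ 12))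

end Cfsg.Agent.S0358
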