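import Cfsg.Statements.S0261
import Cfsg.Agent.Lib.Classical.SL2Structure

set_option autoImplicit false
open Cfsg

namespace Cfsg.Agent.S0261

/-- For q odd, the Sylow 2-subgroups of SL_2(q) are generalised quaternion. -/
theorem result {F : Type*} [Field F] [Fintype F] (hF : Odd (Fintype.card F)) (P : Sylow 2 (Matrix.SpecialLinearGroup (Fin 2) F)) : ∃ k : ℕ, 1 ≤ k ∧ Nonempty ((P : Subgroup (Matrix.SpecialLinearGroup (Fin 2) F)) ≃* QuaternionGroup (2 ^ k)) := by
  obtain ⟨p, hp⟩ := CharP.exists F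
  obtain ⟨n, hpp, hn⟩ := FiniteField.card F p
  have : Fact p.Prime := ⟨hpp⟩
  have hp2 : p ≠ 2 := by
    rintro rfl
    rw [hn] at hF
    exact absurd hF (Nat.not_odd_iff_even.2 (even_two.pow_of_ne_zero n.ne_zero))
  exact CfsgLib.Classical.Two.sylow_two_quaternion hp2 (MonoidHom.id _) Function.injective_id
    (CfsgLib.PLocal.SLTwo.ofZMod p) CfsgLib.PLocal.SLTwo.ofZMod_injective P

end Cfsg.Agent.S0261
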