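import Cfsg.Statements.S2431
import Cfsg.Agent.Lib.Known.SL2Char.SylowTwo

set_option autoImplicit false
open Cfsg

namespace Cfsg.Agent.S2431

/-- Let F be a finite field with q elements, q odd, and S a Sylow 2-subgroup of SL₂ over F. The centraliser of S is the centre of SL₂ (of order 2); S is its own normaliser when q ≡ ±1 mod 8, and has index 3 in its normaliser when q ≡ ±3 mod 8. -/
theorem result {F : Type*} [Field F] [Fintype F] (hodd : Odd (Fintype.card F)) (S : Sylow 2 (Matrix.SpecialLinearGroup (Fin 2) F)) :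
    Subgroup.centralizer ((S : Subgroup (Matrix.SpecialLinearGroup (Fin 2) F)) : Set (Matrix.SpecialLinearGroup (Fin 2) F)) = Subgroup.center (Matrix.SpecialLinearGroup (Fin 2) F) ∧
    ((Fintype.card F % 8 = 1 ∨ Fintype.card F % 8 = 7) →
      Subgroup.normalizer ((S : Subgroup (Matrix.SpecialLinearGroup (Fin 2) F)) : Set (Matrix.SpecialLinearGroup (Fin 2) F)) = (S : Subgroup (Matrix.SpecialLinearGroup (Fin 2) F))) ∧
    ((Fintype.card F % 8 = 3 ∨ Fintype.card F % 8 = 5) →
      Nat.card (Subgroup.normalizer ((S : Subgroup (Matrix.SpecialLinearGroup (Fin 2) F)) : Set (Matrix.SpecialLinearGroup (Fin 2) F))) = 3 * Nat.card S) := by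
  classical
  have h2 : (2 : F) ≠ 0 := Ring.two_ne_zero fun h => by
    have := FiniteField.even_card_iff_char_two.1 h
    rw [Nat.odd_iff] at hodd
    omega
  obtain ⟨t, s, htS, hsS, htn, htd, hst, h4, hcard, h8, hq8, hmem⟩ :=
    CfsgLib.SL2Char.sylow_two_data hodd S
  have hs2 : ∀ y ∈ S, y ∉ Subgroup.zpowers t → y * y = -1 := fun y hy hyt =>
    ((hmem y hy).resolve_left hyt).1
  have hneg1 : ((-1 : Matrix.SpecialLinearGroup (Fin 2) F)) * -1 = 1 := by simp
  have hsT : s ∉ Subgroup.zpowers t := fun h => by
    have hc : s * t = t * s := by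
      obtain ⟨i, rfl⟩ := h
      exact ((Commute.refl t).zpow_left i).eq
    rw [hc, mul_inv_cancel_right] at hst
    have := orderOf_dvd_of_pow_eq_one (show t ^ 2 = 1 by rw [pow_two]; nth_rewrite 2 [hst]; exact mul_inv_cancel t)
    have := Nat.le_of_dvd two_pos (h4.trans this)
    omega
  have hstep : ∀ n ∈ Subgroup.normalizer ((S : Subgroup (Matrix.SpecialLinearGroup (Fin 2) F)) : Set (Matrix.SpecialLinearGroup (Fin 2) F)),
      n * t * n⁻¹ ∈ Subgroup.zpowers t → n ∈ S := by
    intro n hn hnt
    suffices hp : ∃ k, n ^ (2 ^ k) = 1 by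
      obtain ⟨k, hk⟩ := hp
      have hpg : IsPGroup 2 (Subgroup.zpowers n) := by
        rw [IsPGroup.iff_card, Nat.card_zpowers]
        exact ⟨_, ((Nat.dvd_prime_pow Nat.prime_two).1 (orderOf_dvd_of_pow_eq_one hk)).choose_spec.2⟩
      have h := IsPGroup.inf_normalizer_sylow hpg S
      have hmem' : n ∈ Subgroup.zpowers n ⊓
          Subgroup.normalizer ((S : Subgroup (Matrix.SpecialLinearGroup (Fin 2) F)) : Set (Matrix.SpecialLinearGroup (Fin 2) F)) :=
        ⟨Subgroup.mem_zpowers n, hn⟩
      exact ((SetLike.ext_iff.1 h n).1 hmem').2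
    have hC : ∀ y ∈ Subgroup.zpowers t, y ∈ Subgroup.centralizer ({t} : Set (Matrix.SpecialLinearGroup (Fin 2) F)) :=
      fun y hy => by
        obtain ⟨i, rfl⟩ := hy
        exact Subgroup.mem_centralizer_singleton_iff.2 ((Commute.refl t).zpow_left i).eq
    rcases CfsgLib.PLocal.SLTwo.eq_or_eq_inv h2 htn htd
      (Subgroup.mem_centralizer_singleton_iff.1 (hC _ hnt)).symm (CfsgLib.PLocal.SLTwo.tr_conj t n)
      with hcase | hcase
    · have hnC : n ∈ Subgroup.centralizer ({t} : Set (Matrix.SpecialLinearGroup (Fin 2) F)) :=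
        Subgroup.mem_centralizer_singleton_iff.2 (mul_inv_eq_iff_eq_mul.1 hcase)
      have hconj : n * s * n⁻¹ = n * n * s := by
        have h := CfsgLib.SL2Char.conj_eq_inv htn hst hnC
        calc n * s * n⁻¹ = n * ((s * n * s⁻¹)⁻¹ * s) := by group
          _ = n * n * s := by rw [h, inv_inv, mul_assoc]
      have hmemS : n * n ∈ S := by
        have h := (Subgroup.mem_normalizer_iff.1 hn s).1 hsS
        rw [hconj] at h
        have := mul_mem h (inv_mem hsS)
        rwa [mul_inv_cancel_right] at this
      obtain ⟨k, hk⟩ := S.isPGroup' ⟨n * n, hmemS⟩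
      refine ⟨k + 1, ?_⟩
      have := congrArg Subtype.val hk
      rw [pow_succ', pow_mul, pow_two]
      simpa using this
    · have hnN : n ∈ Subgroup.normalizer
          (Subgroup.centralizer ({t} : Set (Matrix.SpecialLinearGroup (Fin 2) F)) : Set _) :=
        CfsgLib.SL2Char.mem_normalizer_of_conj_mem fun y hy => by
          rw [CfsgLib.SL2Char.conj_eq_inv htn hcase hy]
          exact inv_mem hy
      have hnC : n ∉ Subgroup.centralizer ({t} : Set (Matrix.SpecialLinearGroup (Fin 2) F)) := fun h => by
        rw [Subgroup.mem_centralizer_singleton_iff] at h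
        rw [h, mul_inv_cancel_right] at hcase
        have := orderOf_dvd_of_pow_eq_one (show t ^ 2 = 1 by rw [pow_two]; nth_rewrite 2 [hcase]; exact mul_inv_cancel t)
        have := Nat.le_of_dvd two_pos (h4.trans this)
        omega
      exact ⟨2, by
        rw [show (2 : ℕ) ^ 2 = 2 * 2 from rfl, pow_mul, pow_two n,
          CfsgLib.SL2Char.sq_eq_neg_one h2 htn htd hnN hnC, pow_two, hneg1]⟩
  refine ⟨le_antisymm (fun c hc => ?_) (Subgroup.center_le_centralizer _), fun hq => ?_, fun hq => ?_⟩
  · rw [Subgroup.mem_centralizer_iff] at hc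
    have h1 : c ∈ Subgroup.centralizer ({t} : Set (Matrix.SpecialLinearGroup (Fin 2) F)) :=
      Subgroup.mem_centralizer_singleton_iff.2 (hc t htS).symm
    have h3 := CfsgLib.SL2Char.conj_eq_inv htn hst h1
    rw [hc s hsS, mul_inv_cancel_right] at h3
    have h4' : c * c = 1 := by nth_rewrite 2 [h3]; exact mul_inv_cancel c
    refine Subgroup.mem_center_iff.2 fun y => ?_
    rcases CfsgLib.Classical.Two.eq_one_or_neg_one_of_sq h2 c h4' with h | h
    · rw [show c = 1 from Subtype.ext h, mul_one, one_mul]
    · rw [show c = -1 from Subtype.ext (h.trans (by simp))]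
      exact CfsgLib.SL2Char.commute_neg_one y
  · refine le_antisymm (fun n hn => hstep n hn ?_) Subgroup.le_normalizer
    by_contra hcon
    have h := hs2 _ ((Subgroup.mem_normalizer_iff.1 hn t).1 htS) hcon
    have hord : orderOf (n * t * n⁻¹) = orderOf t := (MulAut.conj n).orderOf_eq t
    have h' : orderOf (n * t * n⁻¹) ∣ 4 := orderOf_dvd_of_pow_eq_one (by
      rw [show (4 : ℕ) = 2 * 2 from rfl, pow_mul, pow_two (n * t * n⁻¹), h, pow_two, hneg1])
    rw [hord] at h'
    have := Nat.le_of_dvd (by norm_num) ((h8 hq).trans h')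
    omega
  · have ht4 : orderOf t = 4 := hq8 hq
    have htt : t * t = -1 := by
      refine CfsgLib.Classical.Two.eq_neg_one_of_orderOf_two h2 ?_
      rw [← pow_two, orderOf_pow, ht4]; rfl
    have hss := hs2 s hsS hsT
    have htinv : t⁻¹ = -t := inv_eq_of_mul_eq_one_right (by rw [mul_neg, htt, neg_neg])
    have hsts : s * t = -(t * s) := by
      rw [mul_inv_eq_iff_eq_mul.1 hst, htinv, neg_mul]
    obtain ⟨w, hw3, hws, hwts⟩ := CfsgLib.SL2Char.exists_cycle h2 htt hss hsts
    let N := Subgroup.normalizer ((S : Subgroup (Matrix.SpecialLinearGroup (Fin 2) F)) : Set (Matrix.SpecialLinearGroup (Fin 2) F))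
    have hcl : (S : Subgroup (Matrix.SpecialLinearGroup (Fin 2) F)) = Subgroup.closure ({t, s} : Set (Matrix.SpecialLinearGroup (Fin 2) F)) := by
      refine le_antisymm (fun y hy => ?_) ((Subgroup.closure_le _).2 (by
        rintro y (rfl | rfl)
        · exact htS
        · exact hsS))
      have hzt : Subgroup.zpowers t ≤ Subgroup.closure {t, s} :=
        Subgroup.zpowers_le.2 (Subgroup.subset_closure (Or.inl rfl))
      rcases hmem y hy with h | ⟨-, -, h⟩
      · exact hzt h
      · have := mul_mem (hzt h) (Subgroup.subset_closure (Or.inr rfl) : s ∈ Subgroup.closure {t, s})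
        rwa [inv_mul_cancel_right] at this
    have hwN : w ∈ N := by
      refine CfsgLib.SL2Char.mem_normalizer_of_conj_mem fun y hy => ?_
      have hle : (S : Subgroup (Matrix.SpecialLinearGroup (Fin 2) F)) ≤
          (S : Subgroup (Matrix.SpecialLinearGroup (Fin 2) F)).comap (MulAut.conj w).toMonoidHom := by
        have e1 : w * s * w⁻¹ = t := by rw [hws, mul_inv_cancel_right]
        have e2 : w * (t * s) * w⁻¹ = s := by rw [hwts, mul_inv_cancel_right]
        have e3 : w * t * w⁻¹ = s * t⁻¹ := by
          nth_rewrite 2 [← e1]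
          nth_rewrite 1 [← e2]
          group
        conv_lhs => rw [hcl]
        refine (Subgroup.closure_le _).2 ?_
        rintro z (rfl | rfl)
        · show w * z * w⁻¹ ∈ S
          rw [e3]; exact mul_mem hsS (inv_mem htS)
        · show w * z * w⁻¹ ∈ S
          rw [e1]; exact htS
      exact hle hy
    have hS8 : Nat.card S = 8 := by rw [hcard, ht4]
    have hle : (S : Subgroup (Matrix.SpecialLinearGroup (Fin 2) F)) ≤ N := Subgroup.le_normalizer
    have hwS : w ∉ S := fun hwS => by
      have h1 : orderOf w ∣ 8 := hS8 ▸ Subgroup.orderOf_dvd_natCard _ hwS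
      have h3 : orderOf w ∣ 3 := orderOf_dvd_of_pow_eq_one hw3
      have := Nat.dvd_gcd h1 h3
      have hw1 : w = 1 := orderOf_eq_one_iff.1 (Nat.dvd_one.1 this)
      rw [hw1, one_mul, mul_one] at hws
      exact hsT (hws ▸ Subgroup.mem_zpowers t)
    have hk : ∃ k, Nat.card N = k * 8 ∧ ¬ 2 ∣ k := by
      refine ⟨((S : Subgroup (Matrix.SpecialLinearGroup (Fin 2) F)).subgroupOf N).index, ?_, ?_⟩
      · rw [← hS8, ← Nat.card_congr (Subgroup.subgroupOfEquivOfLe hle).toEquiv]
        exact (Subgroup.index_mul_card _).symm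
      · exact fun h => S.not_dvd_index (h.trans (Subgroup.relIndex_dvd_index_of_le hle))
    obtain ⟨k, hk, hk2⟩ := hk
    have hk1 : k ≠ 1 := fun h => by
      rw [h, one_mul, ← hS8] at hk
      exact hwS ((SetLike.ext_iff.1 (Subgroup.eq_of_le_of_card_ge hle hk.le) w).2 hwN)
    have horb : Nat.card N ≤ 3 * 8 := by
      let cls : N → Fin 3 := fun n =>
        if (n : Matrix.SpecialLinearGroup (Fin 2) F) * t * (n : Matrix.SpecialLinearGroup (Fin 2) F)⁻¹ ∈
          Subgroup.zpowers t then 0
        else if (n : Matrix.SpecialLinearGroup (Fin 2) F) * t * (n : Matrix.SpecialLinearGroup (Fin 2) F)⁻¹ ∈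
          Subgroup.zpowers s then 1 else 2
      have hpow : ∀ (y z : Matrix.SpecialLinearGroup (Fin 2) F), y * y = -1 → z ∈ Subgroup.zpowers y →
          orderOf z = 4 → z = y ∨ z = y⁻¹ := by
        intro y z hy hz hz4
        have hy4 : y ^ (4 : ℕ) = 1 := by
          rw [show (4 : ℕ) = 2 * 2 from rfl, pow_mul, pow_two y, hy, pow_two, hneg1]
        obtain ⟨i, rfl⟩ := (mem_powers_iff_mem_zpowers (x := y)).2 hz
        have e : y ^ i = y ^ (i % 4) := by
          conv_lhs => rw [← Nat.mod_add_div i 4, pow_add, pow_mul, hy4, one_pow, mul_one]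
        change orderOf (y ^ i) = 4 at hz4
        rw [e] at hz4
        show y ^ i = y ∨ y ^ i = y⁻¹
        rw [e]
        have hcases : i % 4 = 0 ∨ i % 4 = 1 ∨ i % 4 = 2 ∨ i % 4 = 3 := by omega
        rcases hcases with h | h | h | h <;> rw [h] at hz4 ⊢
        · rw [pow_zero, orderOf_one] at hz4; omega
        · exact Or.inl (pow_one y)
        · exfalso
          have : (y ^ 2) ^ 2 = 1 := by rw [← pow_mul]; exact hy4
          have := Nat.le_of_dvd two_pos (hz4 ▸ orderOf_dvd_of_pow_eq_one this)
          omega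
        · exact Or.inr (eq_inv_of_mul_eq_one_left (by rw [← pow_succ]; exact hy4))
      have hrep : ∀ n : N, ∃ r : Matrix.SpecialLinearGroup (Fin 2) F, r = (![t, s, t * s] (cls n)) ∧
          ((n : Matrix.SpecialLinearGroup (Fin 2) F) * t * (n : Matrix.SpecialLinearGroup (Fin 2) F)⁻¹ = r ∨
           (n : Matrix.SpecialLinearGroup (Fin 2) F) * t * (n : Matrix.SpecialLinearGroup (Fin 2) F)⁻¹ = r⁻¹) := by
        intro n
        set z := (n : Matrix.SpecialLinearGroup (Fin 2) F) * t * (n : Matrix.SpecialLinearGroup (Fin 2) F)⁻¹ with hz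
        have hz4 : orderOf z = 4 := ((MulAut.conj (n : Matrix.SpecialLinearGroup (Fin 2) F)).orderOf_eq t).trans ht4
        refine ⟨_, rfl, ?_⟩
        simp only [cls, ← hz]
        split_ifs with ha hb
        · exact hpow t z htt ha hz4
        · exact hpow s z hss hb hz4
        · obtain ⟨hzz, -, hzs⟩ :=
            (hmem z ((Subgroup.mem_normalizer_iff.1 n.2 t).1 htS)).resolve_left ha
          obtain ⟨i, hi⟩ := (mem_powers_iff_mem_zpowers (x := t)).2 hzs
          change t ^ i = z * s⁻¹ at hi
          have ht' : t ^ (4 : ℕ) = 1 := by rw [← ht4, pow_orderOf_eq_one]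
          have hzi : z = t ^ (i % 4) * s := by
            conv_lhs => rw [show z = t ^ i * s by rw [hi, inv_mul_cancel_right], ← Nat.mod_add_div i 4,
              pow_add, pow_mul, ht', one_pow, mul_one]
          have hts' : (t * s)⁻¹ = -(t * s) := by
            rw [_root_.mul_inv_rev, inv_eq_of_mul_eq_one_right (show s * -s = 1 by rw [mul_neg, hss, neg_neg]),
              htinv, neg_mul, mul_neg, neg_neg, hsts]
          have hcases : i % 4 = 0 ∨ i % 4 = 1 ∨ i % 4 = 2 ∨ i % 4 = 3 := by omega
          rcases hcases with h | h | h | h <;> rw [h] at hzi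
          · rw [pow_zero, one_mul] at hzi
            exact absurd (hzi ▸ Subgroup.mem_zpowers s) hb
          · exact Or.inl (by rw [hzi, pow_one]; rfl)
          · refine absurd ?_ hb
            rw [hzi, pow_two, htt, show (-1 : Matrix.SpecialLinearGroup (Fin 2) F) * s = s⁻¹ by
              rw [neg_mul, one_mul]; exact (inv_eq_of_mul_eq_one_right (by rw [mul_neg, hss, neg_neg])).symm]
            exact inv_mem (Subgroup.mem_zpowers s)
          · refine Or.inr ?_
            show z = (t * s)⁻¹
            rw [hzi, pow_succ, pow_two, htt, hts', neg_mul, one_mul, neg_mul]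
      have hfib : ∀ c : Fin 3, Nat.card {n : N // cls n = c} ≤ 8 := by
        intro c
        by_cases hne : Nonempty {n : N // cls n = c}
        · obtain ⟨n₀, hn₀⟩ := hne
          rw [← hS8]
          refine Nat.card_le_card_of_injective (fun n => (⟨(n₀ : Matrix.SpecialLinearGroup (Fin 2) F)⁻¹ *
            (n.1 : Matrix.SpecialLinearGroup (Fin 2) F), ?_⟩ : S)) fun a b h => ?_
          · refine hstep _ (mul_mem (inv_mem n₀.2) n.1.2) ?_
            obtain ⟨r, hr, hcase₀⟩ := hrep n₀
            obtain ⟨r', hr', hcase⟩ := hrep n.1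
            rw [hn₀] at hr
            rw [n.2, ← hr] at hr'
            subst hr'
            have e : (n₀ : Matrix.SpecialLinearGroup (Fin 2) F)⁻¹ * (n.1 : Matrix.SpecialLinearGroup (Fin 2) F) * t *
                ((n₀ : Matrix.SpecialLinearGroup (Fin 2) F)⁻¹ * (n.1 : Matrix.SpecialLinearGroup (Fin 2) F))⁻¹ =
                (n₀ : Matrix.SpecialLinearGroup (Fin 2) F)⁻¹ *
                ((n.1 : Matrix.SpecialLinearGroup (Fin 2) F) * t * (n.1 : Matrix.SpecialLinearGroup (Fin 2) F)⁻¹) *
                (n₀ : Matrix.SpecialLinearGroup (Fin 2) F) := by group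
            rw [e]
            have hb : (n₀ : Matrix.SpecialLinearGroup (Fin 2) F)⁻¹ * r' *
                (n₀ : Matrix.SpecialLinearGroup (Fin 2) F) ∈ Subgroup.zpowers t := by
              rcases hcase₀ with h | h
              · rw [← h]; simp [mul_assoc]
              · have h' := congrArg (fun y => y⁻¹) h
                simp only [inv_inv] at h'
                rw [← h']
                have e' : (n₀ : Matrix.SpecialLinearGroup (Fin 2) F)⁻¹ *
                    ((n₀ : Matrix.SpecialLinearGroup (Fin 2) F) * t * (n₀ : Matrix.SpecialLinearGroup (Fin 2) F)⁻¹)⁻¹ *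
                    (n₀ : Matrix.SpecialLinearGroup (Fin 2) F) = t⁻¹ := by group
                rw [e']
                exact inv_mem (Subgroup.mem_zpowers t)
            rcases hcase with h | h
            · rw [h]; exact hb
            · rw [h]
              have := inv_mem hb
              rwa [_root_.mul_inv_rev, _root_.mul_inv_rev, inv_inv, ← mul_assoc] at this
          · exact Subtype.ext (Subtype.ext (mul_left_cancel (congrArg Subtype.val h)))
        · rw [not_nonempty_iff] at hne
          rw [Nat.card_of_isEmpty]; omega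
      rw [← Nat.card_congr (Equiv.sigmaFiberEquiv cls), Nat.card_sigma, Fin.sum_univ_three]
      have h0 := hfib 0
      have h1 := hfib 1
      have h2' := hfib 2
      omega
    show Nat.card N = 3 * Nat.card S
    rw [hS8]
    omega

end Cfsg.Agent.S2431
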