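import Cfsg.Statements.S3074
import Cfsg.Agent.Lib.PGroups.Extraspecial
import Cfsg.Agent.Lib.Classical.SylowGL
import Mathlib.Tactic.Ring
import Mathlib.Tactic.FinCases

set_option autoImplicit false
open Cfsg

namespace Cfsg.Agent.S3074

/-- Let p be an odd prime. A Sylow p-subgroup of Qd(p), the split extension of an elementary abelian group of order p² by SL₂(p) acting naturally, is extraspecial of order p³ and exponent p. -/
theorem result (p : ℕ) [Fact p.Prime] (hp : p ≠ 2) (P : Sylow p ↥(Cfsg.qd p)) :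
    Cfsg.IsExtraspecial p ↥P ∧ Nat.card P = p ^ 3 ∧ Monoid.exponent ↥P = p := by
  classical
  have hpr : p.Prime := Fact.out
  let R := ZMod p
  let SL := Matrix.SpecialLinearGroup (Fin 3) (ZMod p)
  let mk : ZMod p → ZMod p → ZMod p → Matrix (Fin 3) (Fin 3) (ZMod p) := fun a b c => !![1, a, b; 0, 1, c; 0, 0, 1]
  let u : ZMod p → ZMod p → ZMod p → SL := fun a b c => ⟨mk a b c, by simp [mk, Matrix.det_fin_three]⟩
  have hmul : ∀ a b c a' b' c', u a b c * u a' b' c' = u (a + a') (b + b' + a * c') (c + c') := by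
    intro a b c a' b' c'
    apply Subtype.ext
    show mk a b c * mk a' b' c' = mk (a + a') (b + b' + a * c') (c + c')
    ext i j
    fin_cases i <;> fin_cases j <;> simp [mk, Matrix.mul_apply, Fin.sum_univ_three] <;> ring
  have hone : u 0 0 0 = 1 := by
    apply Subtype.ext
    show mk 0 0 0 = 1
    ext i j
    fin_cases i <;> fin_cases j <;> simp [mk]
  have hinj : ∀ a b c a' b' c', u a b c = u a' b' c' → a = a' ∧ b = b' ∧ c = c' := by
    intro a b c a' b' c' h
    have h1 : mk a b c = mk a' b' c' := congrArg Subtype.val h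
    exact ⟨by simpa [mk] using congrFun (congrFun h1 0) 1, by simpa [mk] using congrFun (congrFun h1 0) 2,
      by simpa [mk] using congrFun (congrFun h1 1) 2⟩
  let U : Subgroup SL :=
    { carrier := {M | ∃ a b c, M = u a b c}
      mul_mem' := by
        rintro _ _ ⟨a, b, c, rfl⟩ ⟨a', b', c', rfl⟩
        exact ⟨_, _, _, hmul a b c a' b' c'⟩
      one_mem' := ⟨0, 0, 0, hone.symm⟩
      inv_mem' := by
        rintro _ ⟨a, b, c, rfl⟩
        refine ⟨-a, -b + a * c, -c, ?_⟩
        refine inv_eq_of_mul_eq_one_right ?_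
        rw [hmul, ← hone]
        congr 1 <;> ring }
  have hUcard : Nat.card U = p ^ 3 := by
    let f : ZMod p × ZMod p × ZMod p → U := fun x => ⟨u x.1 x.2.1 x.2.2, _, _, _, rfl⟩
    have hf : Function.Bijective f := by
      constructor
      · rintro ⟨a, b, c⟩ ⟨a', b', c'⟩ h
        obtain ⟨rfl, rfl, rfl⟩ := hinj _ _ _ _ _ _ (congrArg Subtype.val h)
        rfl
      · rintro ⟨_, a, b, c, rfl⟩; exact ⟨⟨a, b, c⟩, rfl⟩
    rw [← Nat.card_congr (Equiv.ofBijective f hf), Nat.card_prod, Nat.card_prod, Nat.card_zmod]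
    ring
  have hUq : U ≤ Cfsg.qd p := by
    rintro _ ⟨a, b, c, rfl⟩
    refine Subgroup.subset_closure ⟨?_, ?_, ?_⟩ <;> simp [u, mk]
  have hna : ¬ IsMulCommutative U := by
    intro h
    have h1 := h.is_comm.comm (⟨u 1 0 0, 1, 0, 0, rfl⟩ : U) ⟨u 0 0 1, 0, 0, 1, rfl⟩
    have h2 : u 1 0 0 * u 0 0 1 = u 0 0 1 * u 1 0 0 := congrArg Subtype.val h1
    rw [hmul, hmul] at h2
    have h3 := (hinj _ _ _ _ _ _ h2).2.1
    simp at h3
  have hpow : ∀ (n : ℕ) a b c, (u a b c) ^ n = u (n * a) (n * b + (n.choose 2 : ℕ) * (a * c)) (n * c) := by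
    intro n a b c
    induction n with
    | zero => simp [hone]
    | succ n ih =>
      rw [pow_succ, ih, hmul, Nat.choose_succ_succ' n 1, Nat.choose_one_right]
      congr 1 <;> push_cast <;> ring
  have hexpU : ∀ x : U, x ^ p = 1 := by
    rintro ⟨_, a, b, c, rfl⟩
    apply Subtype.ext
    show (u a b c) ^ p = 1
    have h2 : ((p.choose 2 : ℕ) : ZMod p) = 0 :=
      (ZMod.natCast_eq_zero_iff _ _).2 (hpr.dvd_choose_self two_ne_zero (lt_of_le_of_ne hpr.two_le (Ne.symm hp)))
    rw [hpow, h2, ← hone, ZMod.natCast_self]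
    congr 1 <;> ring
  have hSLle : ∀ (H : Subgroup SL), IsPGroup p H → Nat.card H ≤ p ^ 3 := by
    intro H hH
    have hi : Function.Injective (Matrix.SpecialLinearGroup.toGL (n := Fin 3) (R := ZMod p)) :=
      Matrix.SpecialLinearGroup.toGL_injective
    obtain ⟨Q, hQ⟩ := (hH.map Matrix.SpecialLinearGroup.toGL).exists_le_sylow
    have h1 := Subgroup.card_le_of_le hQ
    rw [CfsgLib.Classical.card_sylow_GL p 3 Q, ← Nat.card_congr (H.equivMapOfInjective _ hi).toEquiv, ZMod.card] at h1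
    exact h1
  -- `U` as a subgroup of `qd p`
  set U' := U.subgroupOf (Cfsg.qd p) with hU'
  have eU : U' ≃* U := Subgroup.subgroupOfEquivOfLe hUq
  have hU'card : Nat.card U' = p ^ 3 := (Nat.card_congr eU.toEquiv).trans hUcard
  obtain ⟨Q, hQ⟩ := (IsPGroup.of_card hU'card).exists_le_sylow
  have hPcard : Nat.card Q = p ^ 3 := by
    refine le_antisymm ?_ (hU'card ▸ Subgroup.card_le_of_le hQ)
    refine le_trans (le_of_eq (Nat.card_congr ((Q : Subgroup (Cfsg.qd p)).equivMapOfInjective _ (Cfsg.qd p).subtype_injective).toEquiv)) ?_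
    exact hSLle _ (Q.2.map _)
  have hQeq : U' = (Q : Subgroup (Cfsg.qd p)) := Subgroup.eq_of_le_of_card_ge hQ (by rw [hU'card]; exact hPcard.le)
  let e : ↥P ≃* ↥U := (Sylow.equiv P Q).trans ((MulEquiv.subgroupCongr hQeq.symm).trans eU)
  have hPc : Nat.card P = p ^ 3 := (Nat.card_congr e.toEquiv).trans hUcard
  have hPna : ¬ IsMulCommutative ↥P := fun h => hna ⟨⟨fun x y => by
    apply e.symm.injective
    rw [map_mul, map_mul]
    exact h.is_comm.comm _ _⟩⟩
  refine ⟨CfsgLib.PGroups.isExtraspecial_of_card_cube hPna hPc, hPc, ?_⟩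
  have hd : Monoid.exponent ↥P ∣ p := Monoid.exponent_dvd_of_forall_pow_eq_one fun x => by
    apply e.injective
    rw [map_pow, map_one]
    exact hexpU _
  rcases (Nat.dvd_prime hpr).1 hd with h | h
  · exfalso
    haveI : Subsingleton ↥P := Monoid.exp_eq_one_iff.1 h
    exact hPna ⟨⟨fun x y => Subsingleton.elim _ _⟩⟩
  · exact h

end Cfsg.Agent.S3074
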