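import Cfsg.Statements.S3888
import Mathlib
import Cfsg.Agent.S0128
import Cfsg.Agent.S0639
import Cfsg.Agent.S3771
import Cfsg.Agent.Lib.PGroups.Omega
import Cfsg.Agent.Lib.PGroups.BlackburnExtra
import Cfsg.Agent.Lib.PGroups.BlackburnThree

set_option autoImplicit false
open Cfsg

namespace Cfsg.Agent.S3888

/-- The classification of the p-groups of rank at most two for odd p. Let p be an odd prime and G a group of order p^n with no elementary abelian subgroup of order p³. Then one of the following holds: G is metacyclic; n ≥ 3 and G is generated by elements x, y, z with x^p = y^p = z^(p^(n−2)) = 1, z commuting with x and y, and x⁻¹yx = y z^(p^(n−3)); n ≥ 4 and G is generated by elements x, y, z with x^p = y^p = z^(p^(n−2)) = 1, yz = zy, x⁻¹yx = y z^(s p^(n−3)) and x⁻¹zx = yz, where s = 1 or s is a quadratic non-residue modulo p; or p = 3 and G has maximal class (nilpotency class n − 1). -/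
theorem result {G : Type*} [Group G] [Finite G] {p : ℕ} [Fact p.Prime] (hp : p ≠ 2) (n : ℕ) (hG : Nat.card G = p ^ n)
    (hrk : Cfsg.PRankLE p 2 G) :
    Cfsg.IsMetacyclic G ∨
    (3 ≤ n ∧ ∃ x y z : G, Subgroup.closure ({x, y, z} : Set G) = ⊤ ∧ x ^ p = 1 ∧ y ^ p = 1 ∧ z ^ p ^ (n - 2) = 1 ∧
        x * z = z * x ∧ y * z = z * y ∧ x⁻¹ * y * x = y * z ^ p ^ (n - 3)) ∨
    (4 ≤ n ∧ ∃ (s : ℕ) (x y z : G), (s = 1 ∨ ¬ IsSquare (s : ZMod p)) ∧ Subgroup.closure ({x, y, z} : Set G) = ⊤ ∧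
        x ^ p = 1 ∧ y ^ p = 1 ∧ z ^ p ^ (n - 2) = 1 ∧ y * z = z * y ∧ x⁻¹ * y * x = y * z ^ (s * p ^ (n - 3)) ∧
        x⁻¹ * z * x = y * z) ∨
    (p = 3 ∧ 2 ≤ n ∧ (⊤ : Subgroup G).lowerCentralSeries (n - 2) ≠ ⊥) := by
  have hpp : p.Prime := Fact.out
  have hGp : IsPGroup p G := IsPGroup.of_card hG
  have extra : ∀ E₀ : Subgroup G, E₀.Normal → Nat.card E₀ = p ^ 3 → (∀ e ∈ E₀, e ^ p = 1) →
      ¬ IsMulCommutative E₀ → _ := fun E₀ hn hc he hna =>
    haveI := hn
    CfsgLib.PGroups.BlackburnExtra.classify hp hG hrk E₀ hc he hna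
  by_cases h3 : p = 3
  · subst h3
    rcases CfsgLib.PGroups.BlackburnThree.classify_three hG hrk with h | ⟨E₀, h1, h2, h3, h4⟩ | h
    · exact Or.inl h
    · rcases extra E₀ h1 h2 h3 h4 with h | h
      · exact Or.inr (Or.inl h)
      · exact Or.inr (Or.inr (Or.inl h))
    · exact Or.inr (Or.inr (Or.inr ⟨rfl, h⟩))
  have hp3 : 3 < p := by
    have := hpp.two_le
    omega
  set O := Cfsg.omegaOne p (⊤ : Subgroup G) with hOdef
  have hOexp : ∀ g ∈ O, g ^ p = 1 := fun g hg =>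
    Cfsg.Agent.S0128.result hp3 hGp (fun E hE => hrk E hE.1 hE.2) g (by
      simpa [hOdef, Cfsg.omegaOne] using hg)
  by_cases hO : Nat.card O ≤ p ^ 2
  · exact Or.inl (Cfsg.Agent.S0639.result hp3 hGp hO)
  have hO3 : Nat.card O ≤ p ^ 3 := Cfsg.Agent.S3771.result (hGp.to_subgroup O)
    (CfsgLib.PGroups.prankLE_of_injective hrk (f := O.subtype) O.subtype_injective)
    fun x => Subtype.ext (hOexp x x.2)
  have hcard : Nat.card O = p ^ 3 := by
    obtain ⟨k, hk⟩ := IsPGroup.iff_card.mp (hGp.to_subgroup O)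
    rw [hk] at hO hO3 ⊢
    have h1 := (Nat.pow_le_pow_iff_right hpp.one_lt).mp hO3
    have h2 : ¬ k ≤ 2 := fun h => hO (pow_le_pow_right₀ hpp.one_le h)
    rw [show k = 3 by omega]
  have hna : ¬ IsMulCommutative O := fun h => hO (hrk O h hOexp)
  have hn : O.Normal := by
    refine ⟨fun x hx g => ?_⟩
    induction hx using Subgroup.closure_induction with
    | mem a ha => exact Subgroup.subset_closure ⟨Subgroup.mem_top _, by rw [conj_pow, ha.2, mul_one, mul_inv_cancel]⟩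
    | one => simp
    | mul a b _ _ iha ihb =>
      rw [show g * (a * b) * g⁻¹ = (g * a * g⁻¹) * (g * b * g⁻¹) by group]
      exact mul_mem iha ihb
    | inv a _ iha =>
      rw [show g * a⁻¹ * g⁻¹ = (g * a * g⁻¹)⁻¹ by group]
      exact inv_mem iha
  rcases extra O hn hcard hOexp hna with h | h
  · exact Or.inr (Or.inl h)
  · exact Or.inr (Or.inr (Or.inl h))

end Cfsg.Agent.S3888
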