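import Cfsg.Statements.S1202
import Cfsg.Agent.Lib.TwoGroups.WreathedSelfCentralizing
import Cfsg.Agent.Lib.TwoGroups.MapEquiv

set_option autoImplicit false
open Cfsg

namespace Cfsg.Agent.S1202

/-- Let S be a wreathed 2-group of order 2^(2n+1) and X a subgroup with C_S(X) ≤ X such that Aut(X) is not a 2-group. Then |N_S(X) : X| = 2, and either X is the commutative subgroup of order 2^(2n), or X = Q·Z(S) for some subgroup Q ≅ Q₈; in the latter case any two such subgroups are conjugate in S. -/
theorem result {S : Type*} [Group S] [Finite S] (hS : Cfsg.IsWreathed S) (n : ℕ) (hn : Nat.card S = 2 ^ (2 * n + 1)) (X : Subgroup S) (hC : Subgroup.centralizer (X : Set S) ≤ X) (hA : ¬ IsPGroup 2 (MulAut X)) : X.relIndex (Subgroup.normalizer (X : Set S)) = 2 ∧ ((IsMulCommutative X ∧ Nat.card X = 2 ^ (2 * n)) ∨ ∃ Q : Subgroup S, Nonempty (Q ≃* QuaternionGroup 2) ∧ X = Q ⊔ Subgroup.center S) ∧ ∀ X' : Subgroup S, Subgroup.centralizer (X' : Set S) ≤ X' → ¬ IsPGroup 2 (MulAut X') → ¬ IsMulCommutative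 X → ¬ IsMulCommutative X' → ∃ s : S, X.map (MulAut.conj s).toMonoidHom = X' := by
  open CfsgLib.TwoGroups CfsgLib.TwoGroups.WreathTwo in
  obtain ⟨m, hcard, ⟨e⟩⟩ := of_isWreathed hS
  obtain rfl : n = m + 2 := by
    have := Nat.pow_right_injective (le_refl 2) (hn.symm.trans hcard)
    omega
  open CfsgLib.TwoGroups CfsgLib.TwoGroups.WreathTwo in
  have key : ∀ Y : Subgroup S, Subgroup.centralizer (Y : Set S) ≤ Y → ¬ IsPGroup 2 (MulAut Y) →
      Y.map e.toMonoidHom = base m ∨ ∃ c, Y.map e.toMonoidHom = lev 1 (2 * c) := by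
    intro Y hYC hYA
    refine selfCentralizing_cases ?_ fun h => hYA
      (h.of_equiv (MulAut.congr (Y.equivMapOfInjective e.toMonoidHom e.injective)).symm)
    rw [← centralizer_equiv_map]
    exact Subgroup.map_mono hYC
  open CfsgLib.TwoGroups CfsgLib.TwoGroups.WreathTwo in
  have hna : ∀ Y : Subgroup S, ∀ c, Y.map e.toMonoidHom = lev 1 (2 * c) → ¬ IsMulCommutative Y := by
    intro Y c hYc hY
    refine not_isMulCommutative_lev c ?_
    rw [← hYc]
    refine ⟨⟨?_⟩⟩
    rintro ⟨_, x, hx, rfl⟩ ⟨_, y, hy, rfl⟩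
    refine Subtype.ext ?_
    show e.toMonoidHom x * e.toMonoidHom y = e.toMonoidHom y * e.toMonoidHom x
    rw [← map_mul, ← map_mul]
    exact congrArg _ (congrArg Subtype.val (hY.1.1 ⟨x, hx⟩ ⟨y, hy⟩))
  open CfsgLib.TwoGroups CfsgLib.TwoGroups.WreathTwo in
  rcases key X hC hA with h | ⟨c, hc⟩
  · have hXab : IsMulCommutative X := by
      refine ⟨⟨fun p r => ?_⟩⟩
      apply ((X.equivMapOfInjective e.toMonoidHom e.injective).trans (MulEquiv.subgroupCongr h)).injective
      rw [map_mul, map_mul]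
      exact (isMulCommutative_base (m := m)).1.1 _ _
    refine ⟨?_, Or.inl ⟨hXab, ?_⟩, fun _ _ _ hX => absurd hXab hX⟩
    · rw [← relIndex_normalizer_equiv_map e, h]
      haveI := Subgroup.normal_of_index_eq_two (index_base (m := m))
      rw [Subgroup.normalizer_eq_top_iff.2 inferInstance, Subgroup.relIndex_top_right, index_base]
    · rw [← Subgroup.card_map_of_injective (f := e.toMonoidHom) e.injective, h, natCard_base]
  · refine ⟨?_, Or.inr ⟨(qsub c).map e.symm.toMonoidHom, ?_, ?_⟩, ?_⟩
    · rw [← relIndex_normalizer_equiv_map e, hc,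
        relIndex_normalizer_lev 1 _ (q m) (by rw [pow_one]; exact WreathTwo.h_eq.symm)]
    · exact (qsub_equiv c).map fun f =>
        ((qsub c).equivMapOfInjective e.symm.toMonoidHom e.symm.injective).symm.trans f
    · apply (equiv_map_inj e).1
      rw [hc, Subgroup.map_sup, equiv_map_symm_map, center_equiv_map, lev_eq_qsub_sup]
    · intro X' hC' hA' hX hX'
      rcases key X' hC' hA' with h' | ⟨d, hd⟩
      · exfalso
        apply hX'
        refine ⟨⟨fun p r => ?_⟩⟩
        apply ((X'.equivMapOfInjective e.toMonoidHom e.injective).trans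
          (MulEquiv.subgroupCongr h')).injective
        rw [map_mul, map_mul]
        exact (isMulCommutative_base (m := m)).1.1 _ _
      · refine ⟨e.symm (u (d - c) 0), (equiv_map_inj e).1 ?_⟩
        rw [conj_equiv_map, e.apply_symm_apply, hc, hd, conj_lev]
        congr 1; ring

end Cfsg.Agent.S1202
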