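import Cfsg.Statements.S1141
import Mathlib
import Cfsg.Agent.Lib.PGroups.Suzuki.Unitary

set_option autoImplicit false
open Cfsg

namespace Cfsg.Agent.S1141

open CfsgLib.Classical CfsgLib.Classical.Herm CfsgLib.PGroups.Suzuki

/-- Let `q = 2^n ≥ 4` and `|F| = q²`. A Sylow 2-subgroup `S` of `PSU₃(q)` has order `q³`, its centre has order `q`, and `S` is a Suzuki 2-group. -/
theorem result {F : Type*} [Field F] [Fintype F] {n : ℕ} (hn : 2 ≤ n)
    (hF : Fintype.card F = (2 ^ n) ^ 2) (S : Sylow 2 (Cfsg.PSU 3 F (2 ^ n))) :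
    Nat.card S = (2 ^ n) ^ 3 ∧ Nat.card (Subgroup.center ↥(S : Subgroup (Cfsg.PSU 3 F (2 ^ n)))) = 2 ^ n ∧
      Cfsg.IsSuzukiTwoGroup ↥(S : Subgroup (Cfsg.PSU 3 F (2 ^ n))) := by
  haveI := Unitary.charP_two (by omega : 1 ≤ n) hF
  obtain ⟨X⟩ := Unitary.exists_param (by omega) hF S
  have hq := card_fixed_powHom hF
  have hFc : Nat.card F = (2 ^ n) ^ 2 := by rw [Nat.card_eq_fintype_card, hF]
  exact ⟨(Nat.card_congr X.el).symm.trans (Unitary.card_pts (powHom_isInvol hF) hq hFc),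
    X.card_center (powHom_isInvol hF) hq, X.isSuzukiTwoGroup (powHom_isInvol hF) hn hq hFc⟩

end Cfsg.Agent.S1141
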