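import Cfsg.Statements.S5213
import Cfsg.Agent.Lib.Fusion.RankTwoList
import Cfsg.Agent.Lib.Fusion.MetacyclicTwoClosed

set_option autoImplicit false
open Cfsg

namespace Cfsg.Agent.S5213

/-- Let S be a finite 2-group of 2-rank 2 (it has an elementary abelian subgroup of order 4 and none of order 8) and F a saturated fusion system over S with trivial centre. Then S is dihedral, semidihedral, wreathed, homocyclic abelian (a direct product of cyclic groups of one common order), or isomorphic to a Sylow 2-subgroup of the projective special unitary group PSU₃(4) (realised over the field with 16 elements). -/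
theorem result {Ω : Type*} [Group Ω] {S : Subgroup Ω} [Finite S] (hS : IsPGroup 2 S) (F : Cfsg.FusionSystem S) (hF : F.IsSaturated 2) (hr : Cfsg.PRankAtLeast 2 2 ↥S ∧ ¬ Cfsg.PRankAtLeast 2 3 ↥S) (hZ : F.center = ⊥) {K : Type*} [Field K] [Fintype K] (hK : Fintype.card K = 16) : (∃ m : ℕ, Nonempty (↥S ≃* DihedralGroup m)) ∨ Cfsg.IsQuasiDihedral ↥S ∨ Cfsg.IsWreathed ↥S ∨ (∃ n k : ℕ, Nonempty (↥S ≃* Multiplicative (Fin k → ZMod (2 ^ n)))) ∨ ∃ T : Sylow 2 (Cfsg.PSU 3 K 4), Nonempty (↥S ≃* ↥(T : Subgroup (Cfsg.PSU 3 K 4))) := by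
  haveI : Fact (Nat.Prime 2) := ⟨Nat.prime_two⟩
  let f : S ≃* (⊤ : Subgroup S) := Subgroup.topEquiv.symm
  have hE := CfsgLib.Fusion.transportSys_sysEquiv F f
  obtain ⟨⟨A, hAc, hA2, hA4⟩, hr3⟩ := hr
  have h2 : Cfsg.PRankLE 2 2 S := by
    intro B hBc hB
    by_contra hlt
    push Not at hlt
    refine hr3 ⟨B, hBc, hB, ?_⟩
    obtain ⟨k, hk⟩ := IsPGroup.iff_card.1 (hS.to_subgroup B)
    rw [hk] at hlt ⊢
    exact Nat.pow_le_pow_right two_pos ((Nat.pow_lt_pow_iff_right Nat.one_lt_two).1 hlt)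
  have h1 : ¬ Cfsg.PRankLE 2 1 S := fun h => by
    have := hA4.trans (h A hAc hA2)
    norm_num at this
  have hiso : ∀ z : S, orderOf z = 2 → ∃ x, x ≠ z ∧
      (CfsgLib.Fusion.transportSys F f).IsConjElt z x := by
    intro z hz
    by_contra hcon
    push Not at hcon
    have hzc : F.IsCentral (Subgroup.zpowers (z : Ω)) := by
      refine (CfsgLib.Fusion.isCentral_iff hS hF).2 ⟨Subgroup.zpowers_le.2 z.2, fun w hw y hy => ?_⟩
      obtain ⟨φ, hφ, rfl⟩ := hy
      obtain ⟨i, hi⟩ := (orderOf_pos_iff.1 (show 0 < orderOf (z : Ω) by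
        rw [Subgroup.orderOf_coe, hz]; norm_num)).mem_powers_iff_mem_zpowers.2 hw
      have hz2 : (z : Ω) ^ 2 = 1 := by rw [← hz, ← Subgroup.coe_pow, pow_orderOf_eq_one]; rfl
      rcases Nat.even_or_odd i with ⟨r, rfl⟩ | ⟨r, rfl⟩
      · have hw1 : w = 1 := by
          rw [← hi]
          show (z : Ω) ^ (r + r) = 1
          rw [← two_mul, pow_mul, hz2, one_pow]
        subst hw1
        exact map_one φ
      · have hwz : w = z := by
          rw [← hi]
          show (z : Ω) ^ (2 * r + 1) = z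
          rw [pow_succ, pow_mul, hz2, one_pow, one_mul]
        subst hwz
        obtain ⟨φ', hφ', hv⟩ := hE.1 _ φ hφ
        by_contra hne
        refine hcon (⟨φ ⟨z, Subgroup.mem_zpowers (z : Ω)⟩, CfsgLib.Fusion.hom_apply_mem hφ _⟩ : S)
          (fun h => hne (congrArg Subtype.val h)) ?_
        have hm : ((f z : (⊤ : Subgroup S)) : S) ∈ CfsgLib.Fusion.mapS f (Subgroup.zpowers (z : Ω)) :=
          ⟨z, Subgroup.mem_zpowers (z : Ω), rfl⟩
        have hc := CfsgLib.Fusion.isConjElt_of_hom hφ' ⟨_, hm⟩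
        rw [hv ⟨z, Subgroup.mem_zpowers (z : Ω)⟩ z.2 (CfsgLib.Fusion.hom_apply_mem hφ _) hm] at hc
        exact hc
    have hbot : (z : Ω) = 1 :=
      Subgroup.mem_bot.1 (hZ ▸ CfsgLib.Fusion.le_center hzc (Subgroup.mem_zpowers (z : Ω)))
    rw [show z = 1 from Subtype.ext hbot, orderOf_one] at hz
    omega
  obtain ⟨P⟩ := (inferInstance : Nonempty (Sylow 2 (Cfsg.PSU 3 K 4)))
  rcases CfsgLib.Fusion.RankTwoList.main hS (hE.saturated hF) h2 h1 hiso hK P with
    ⟨m, -, h⟩ | h | h | ⟨n, -, ⟨e⟩⟩ | h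
  · exact Or.inl ⟨m, h⟩
  · exact Or.inr (Or.inl h)
  · exact Or.inr (Or.inr (Or.inl h))
  · exact Or.inr (Or.inr (Or.inr (Or.inl ⟨n, 2, CfsgLib.Fusion.homocyclic_two_to_pi
      (e.trans (MulEquiv.prodMultiplicative _ _))⟩)))
  · exact Or.inr (Or.inr (Or.inr (Or.inr ⟨P, h⟩)))

end Cfsg.Agent.S5213
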