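import Cfsg.Statements.S5214
import Cfsg.Agent.Lib.Fusion.Series
import Cfsg.Agent.Lib.Fusion.CenterPowers
import Cfsg.Agent.S1137
import Cfsg.Agent.S1138

set_option autoImplicit false
set_option maxHeartbeats 400000
open Cfsg

namespace Cfsg.Agent.S5214

/-- Let S be a Suzuki 2-group (a finite nonabelian 2-group with more than one involution admitting a cyclic group of automorphisms permuting its involutions regularly). Then S is normal in every saturated fusion system over S (such a group is resistant). -/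
theorem result {Ω : Type*} [Group Ω] {S : Subgroup Ω} [Finite S] (hS : IsPGroup 2 S) (F : Cfsg.FusionSystem S) (hF : F.IsSaturated 2) (hsz : Cfsg.IsSuzukiTwoGroup ↥S) : F.IsNormal S := by
  haveI : Fact (Nat.Prime 2) := ⟨Nat.prime_two⟩
  obtain ⟨hinv, hsq⟩ := Cfsg.Agent.S1137.result hsz
  obtain ⟨-, hcom, -, -⟩ := Cfsg.Agent.S1138.result hsz
  set Z := CfsgLib.Fusion.centerOf S with hZdef
  have hZ : ∀ x : S, (x : Ω) ∈ Z ↔ x ∈ Subgroup.center S := by
    intro x
    constructor
    · intro hx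
      exact Subgroup.mem_center_iff.2 fun y => Subtype.ext (CfsgLib.Fusion.centerOf_comm hx y.2)
    · intro hx
      exact ⟨x.2, Subgroup.mem_centralizer_iff.2 fun y hy =>
        congrArg Subtype.val (Subgroup.mem_center_iff.1 hx ⟨y, hy⟩)⟩
  have hZS : Z ≤ S := inf_le_left
  have hsc : F.StronglyClosed Z := by
    refine ⟨hZS, fun R hR φ hφ x => ?_⟩
    have hxS : φ x ∈ S := CfsgLib.Fusion.hom_apply_mem hφ x
    have h1 : (⟨x, hZS (hR x.2)⟩ : S) * ⟨x, hZS (hR x.2)⟩ = 1 := hsq _ ((hZ _).1 (hR x.2))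
    have h2 : φ x * φ x = 1 := by
      rw [← map_mul, show x * x = 1 from Subtype.ext (congrArg (fun u : S => (u : Ω)) h1), map_one]
    by_cases h : φ x = 1
    · rw [h]; exact one_mem _
    · exact (hZ ⟨φ x, hxS⟩).2 ((hinv ⟨φ x, hxS⟩).1 ⟨fun h' => h (congrArg Subtype.val h'),
        Subtype.ext h2⟩).1
  refine CfsgLib.Fusion.isNormal_of_series hS hF CfsgLib.Fusion.stronglyClosed_top (n := 2)
    ![⊥, Z, S] rfl rfl ?_ ?_ ?_
  · intro i j hij
    fin_cases i <;> fin_cases j <;> first | simp_all | exact bot_le | exact le_rfl | exact hZS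
  · intro i
    fin_cases i
    · show ⁅Z, S⁆ ≤ ⊥
      rw [Subgroup.commutator_le]
      intro u hu w hw
      rw [Subgroup.mem_bot, commutatorElement_eq_one_iff_mul_comm]
      exact (CfsgLib.Fusion.centerOf_comm hu hw).symm
    · show ⁅S, S⁆ ≤ Z
      rw [Subgroup.commutator_le]
      intro u hu w hw
      have h := (hZ _).2 (hcom (⟨u, hu⟩ : S)⁻¹ (⟨w, hw⟩ : S)⁻¹)
      simpa [commutatorElement_def] using h
  · intro i
    fin_cases i
    · exact CfsgLib.Fusion.StronglyClosed.weaklyClosed CfsgLib.Fusion.stronglyClosed_bot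
    · exact CfsgLib.Fusion.StronglyClosed.weaklyClosed hsc

end Cfsg.Agent.S5214
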