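import Cfsg.Statements.S1226
import Cfsg.Agent.Lib.Signalizer.Embedded
import Cfsg.Agent.Lib.TwoGroups.LocalSylow

set_option autoImplicit false
open Cfsg

namespace Cfsg.Agent.S1226

/-- Let G be a finite group with a Sylow 2-subgroup T that is neither cyclic nor normal, such that the centralizer of every involution is an elementary abelian 2-group. Then N_G(T) is a strongly embedded subgroup of G. -/
theorem result {G : Type*} [Group G] [Finite G] (T : Sylow 2 G) (hnc : ¬ IsCyclic (T : Subgroup G)) (hnn : ¬ (T : Subgroup G).Normal) (hC : ∀ t : G, orderOf t = 2 → IsMulCommutative (Subgroup.centralizer ({t} : Set G)) ∧ ∀ c ∈ Subgroup.centralizer ({t} : Set G), c ^ 2 = 1) : Cfsg.IsStronglyEmbedded (Subgroup.normalizer ((T : Subgroup G) : Set G)) := by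
  haveI : Fact (Nat.Prime 2) := ⟨Nat.prime_two⟩
  have hT2 : IsPGroup 2 (T : Subgroup G) := T.2
  have hne : (T : Subgroup G) ≠ ⊥ := by
    intro h
    exact hnc (h ▸ inferInstance)
  obtain ⟨t₀, ht₀T, ht₀⟩ := CfsgLib.Signalizer.exists_involution_of_two_group hT2 hne
  -- the centraliser of an involution of `T` is a 2-group
  have hCp : ∀ t : G, orderOf t = 2 →
      IsPGroup 2 (Subgroup.centralizer ({t} : Set G)) := fun t ht c =>
    ⟨1, Subtype.ext (by simpa using (hC t ht).2 c c.2)⟩
  -- `T` is abelian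
  obtain ⟨z, hzT, hz2, hzc⟩ : ∃ z ∈ (T : Subgroup G), orderOf z = 2 ∧
      (T : Subgroup G) ≤ Subgroup.centralizer ({z} : Set G) := by
    haveI : Nontrivial (T : Subgroup G) := (T : Subgroup G).nontrivial_iff_ne_bot.2 hne
    haveI : Nontrivial (Subgroup.center (T : Subgroup G)) := hT2.center_nontrivial
    have hz : IsPGroup 2 ((Subgroup.center (T : Subgroup G)).map (T : Subgroup G).subtype) :=
      (hT2.to_subgroup _).map _
    have hzne : (Subgroup.center (T : Subgroup G)).map (T : Subgroup G).subtype ≠ ⊥ := by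
      rw [Ne, Subgroup.map_eq_bot_iff_of_injective _ (T : Subgroup G).subtype_injective]
      exact (Subgroup.nontrivial_iff_ne_bot _).1 inferInstance
    obtain ⟨z, ⟨z', hz'c, rfl⟩, hz2⟩ :=
      CfsgLib.Signalizer.exists_involution_of_two_group hz hzne
    refine ⟨_, z'.2, hz2, fun a ha => Subgroup.mem_centralizer_singleton_iff.2 ?_⟩
    exact congrArg Subtype.val (Subgroup.mem_center_iff.1 hz'c ⟨a, ha⟩)
  have hTab : ∀ a ∈ (T : Subgroup G), ∀ b ∈ (T : Subgroup G), a * b = b * a := by
    intro a ha b hb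
    haveI := (hC z hz2).1
    exact congrArg Subtype.val (mul_comm' (⟨a, hzc ha⟩ : Subgroup.centralizer ({z} : Set G))
      ⟨b, hzc hb⟩)
  have hCT : ∀ t ∈ (T : Subgroup G), orderOf t = 2 →
      Subgroup.centralizer ({t} : Set G) = (T : Subgroup G) := fun t htT ht =>
    T.3 (hCp t ht) fun a ha => Subgroup.mem_centralizer_singleton_iff.2 (hTab a ha t htT)
  rw [CfsgLib.Signalizer.stronglyEmbedded_iff_conj]
  refine ⟨fun h => hnn (Subgroup.normalizer_eq_top_iff.1 h), even_iff_two_dvd.2 ?_, ?_⟩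
  · have h := Subgroup.orderOf_dvd_natCard _ (Subgroup.le_normalizer ht₀T)
    rwa [ht₀] at h
  intro t htN ht g hg
  have hgt : orderOf (g * t * g⁻¹) = 2 := (CfsgLib.Signalizer.orderOf_conj g t).trans ht
  have hmem : ∀ x ∈ Subgroup.normalizer ((T : Subgroup G) : Set G), orderOf x = 2 →
      x ∈ (T : Subgroup G) := fun x hx h2 =>
    CfsgLib.TwoGroups.mem_sylow_of_mem_normalizer T hx ⟨1, by rw [pow_one, ← h2, pow_orderOf_eq_one]⟩
  have h1 := hCT t (hmem t htN ht) ht
  have h2 := hCT _ (hmem _ hg hgt) hgt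
  rw [Subgroup.mem_normalizer_iff]
  intro x
  rw [← SetLike.mem_coe, ← SetLike.mem_coe]
  simp only [SetLike.mem_coe]
  conv_lhs => rw [← h1]
  conv_rhs => rw [← h2]
  rw [Subgroup.mem_centralizer_singleton_iff, Subgroup.mem_centralizer_singleton_iff]
  constructor
  · intro h
    calc g * x * g⁻¹ * (g * t * g⁻¹) = g * (x * t) * g⁻¹ := by group
      _ = g * (t * x) * g⁻¹ := by rw [h]
      _ = g * t * g⁻¹ * (g * x * g⁻¹) := by group
  · intro h
    calc x * t = g⁻¹ * (g * x * g⁻¹ * (g * t * g⁻¹)) * g := by group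
      _ = g⁻¹ * (g * t * g⁻¹ * (g * x * g⁻¹)) * g := by rw [h]
      _ = t * x := by group

end Cfsg.Agent.S1226
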