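import Cfsg.Statements.S3224
import Mathlib
import Cfsg.Agent.Lib.Transfer.MaximalClass

set_option autoImplicit false
open Cfsg

namespace Cfsg.Agent.S3224

--- PRE
open Subgroup

/-- A finite 2-group containing an involution whose centralizer has order 4 is dihedral, quasi-dihedral (semidihedral), or of order 4. -/
theorem result {S : Type*} [Group S] [Finite S] (hS : IsPGroup 2 S)
    (x : S) (hx : orderOf x = 2) (hC : Nat.card ↥(Subgroup.centralizer ({x} : Set S)) = 4) :
    (∃ n : ℕ, Nonempty (S ≃* DihedralGroup n)) ∨ Cfsg.IsQuasiDihedral S ∨ Nat.card S = 4 := by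
  classical
  haveI : Fact (Nat.Prime 2) := ⟨Nat.prime_two⟩
  obtain ⟨n, hn⟩ := IsPGroup.iff_card.1 hS
  set A := Subgroup.centralizer ({x} : Set S) with hA
  have h4 : 4 ≤ Nat.card S := hC ▸ Nat.le_of_dvd Nat.card_pos A.card_subgroup_dvd_card
  have hn2 : 2 ≤ n := by
    by_contra h
    have : n = 0 ∨ n = 1 := by omega
    rcases this with rfl | rfl <;> omega
  rcases eq_or_lt_of_le hn2 with rfl | hn3
  · exact Or.inr (Or.inr (by rw [hn]; norm_num))
  have hself : centralizer (A : Set S) = A := by
    refine le_antisymm (centralizer_le ?_) ?_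
    · exact Set.singleton_subset_iff.2 (mem_centralizer_singleton_iff.2 rfl)
    · intro y hy
      rw [mem_centralizer_iff]
      intro z hz
      have hab := IsPGroup.commutative_of_card_eq_prime_sq (p := 2) (G := A) (by rw [hC]; norm_num)
      exact congrArg Subtype.val (hab ⟨z, hz⟩ ⟨y, hy⟩)
  have hcl := CfsgLib.Transfer.class_eq_of_self_centralizing n S hn A (by rw [hC]; norm_num) hself
  obtain ⟨a, b, ha, hb, hconj, hb2⟩ := CfsgLib.Transfer.shape_of_class hn3 hn hcl
  set w := a ^ 2 ^ (n - 2) with hw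
  have hww : w * w = 1 := by
    rw [hw, ← pow_add, ← two_mul, ← pow_succ', show n - 2 + 1 = n - 1 by omega, ← ha, pow_orderOf_eq_one]
  have hb1 : b ≠ 1 := fun e => hb (e ▸ one_mem _)
  have hx2 : x * x = 1 := by
    have := pow_orderOf_eq_one x
    rwa [hx, pow_two] at this
  rcases hconj with hc | ⟨hn4, hc⟩
  · rcases hb2 with hb2 | hb2
    · refine Or.inl ⟨2 ^ (n - 1), ?_⟩
      exact CfsgLib.TwoGroups.nonempty_mulEquiv_dihedralGroup ha (by rw [← pow_two, hb2]) hb hc
        (by rw [hn, ← pow_succ']; congr 1; omega)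
    · exfalso
      have hxw : x ∈ Subgroup.center S := by
        rw [CfsgLib.Transfer.center_eq hn3 hn ha hb (Or.inl hc)]
        obtain ⟨i, rfl | rfl⟩ := CfsgLib.Transfer.exists_pow_or (by omega) hn ha hb x
        · rw [← pow_add, ← orderOf_dvd_iff_pow_eq_one, ha, ← two_mul,
            show 2 ^ (n - 1) = 2 * 2 ^ (n - 2) by rw [← pow_succ']; congr 1; omega] at hx2
          obtain ⟨k, rfl⟩ := Nat.dvd_of_mul_dvd_mul_left two_pos hx2
          rw [pow_mul]
          exact pow_mem (mem_zpowers _) k
        · exfalso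
          have h1 : b * a ^ i * b⁻¹ = (a ^ i)⁻¹ := by rw [← conj_pow, hc, inv_pow]
          have h2 : b * a ^ i * (b * a ^ i) = b ^ 2 := by
            calc b * a ^ i * (b * a ^ i) = (b * a ^ i * b⁻¹) * b ^ 2 * a ^ i := by group
              _ = b ^ 2 := by
                rw [h1, hb2, hw]
                group
          rw [h2, hb2] at hx2
          have hlt : 2 ^ (n - 2) < orderOf a := by
            rw [ha]; exact Nat.pow_lt_pow_right one_lt_two (by omega)
          exact absurd (orderOf_dvd_iff_pow_eq_one.2 hx2) (Nat.not_dvd_of_pos_of_lt (by positivity) hlt)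
      have htop : A = ⊤ := by
        rw [eq_top_iff]
        intro y _
        exact mem_centralizer_singleton_iff.2 (mem_center_iff.1 hxw y)
      rw [htop, Subgroup.card_top, hn] at hC
      have : 2 ^ 3 ≤ 2 ^ n := Nat.pow_le_pow_right two_pos hn3
      omega
  · -- semidihedral
    right; left
    have hrel : ∀ y : S, y * a * y⁻¹ = w * a⁻¹ → y * a * y⁻¹ = a ^ (2 ^ (n - 1 - 1) - 1) := by
      intro y hy
      rw [hy, show n - 1 - 1 = n - 2 by omega, pow_sub a (Nat.one_le_two_pow), pow_one, hw]
    have hmk : ∀ y : S, y ≠ 1 → y * y = 1 → y * a * y⁻¹ = w * a⁻¹ → Cfsg.IsQuasiDihedral S := fun y h1 h2 h3 =>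
      ⟨n - 1, by omega, by rw [hn]; congr 1; omega, a, y, ha, orderOf_eq_prime (by rw [pow_two, h2]) h1, hrel y h3⟩
    rcases hb2 with hb2 | hb2
    · exact hmk b hb1 (by rw [← pow_two, hb2]) hc
    · have hwa : w * a = a * w := ((Commute.refl a).pow_left _).eq
      refine hmk (b * a) (fun e => hb (eq_inv_of_mul_eq_one_left e ▸ inv_mem (mem_zpowers a))) ?_ ?_
      · have h1 : b⁻¹ * a * b = w * a⁻¹ := by
          have hbw : Commute (b ^ 2) a := by rw [hb2]; exact (Commute.refl a).pow_left _
          calc b⁻¹ * a * b = b * ((b ^ 2)⁻¹ * a * b ^ 2) * b⁻¹ := by group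
            _ = b * a * b⁻¹ := by rw [mul_assoc _ a, ← hbw.eq, inv_mul_cancel_left]
            _ = _ := hc
        calc b * a * (b * a) = b ^ 2 * (b⁻¹ * a * b) * a := by group
          _ = w * w := by rw [h1, hb2, hw]; group
          _ = 1 := hww
      · calc b * a * a * (b * a)⁻¹ = b * a * b⁻¹ := by group
          _ = _ := hc

end Cfsg.Agent.S3224
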