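import Cfsg.Statements.S1958
import Cfsg.Agent.Lib.PLocal.PConstrained
import Cfsg.Agent.Lib.Core.SolvableStruct

set_option autoImplicit false
open Cfsg

namespace Cfsg.Agent.S1958

/-- Let `G` be a finite group, `p` a prime, and `x, y` commuting elements of order `p` whose centralizers `C_G(x)` and `C_G(y)` are both solvable. Then `O_{p'}(C_G(x)) ∩ C_G(y) = O_{p'}(C_G(y)) ∩ C_G(x)` (balance). -/
theorem result {G : Type*} [Group G] [Finite G]
    (p : ℕ) [Fact p.Prime] (x y : G) (hx : orderOf x = p) (hy : orderOf y = p) (hxy : x * y = y * x)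
    (hCx : Group.IsSolvable ↥(Subgroup.centralizer ({x} : Set G))) (hCy : Group.IsSolvable ↥(Subgroup.centralizer ({y} : Set G))) :
    Cfsg.centralizerPPrimeCore p x ⊓ Subgroup.centralizer {y} = Cfsg.centralizerPPrimeCore p y ⊓ Subgroup.centralizer {x} := by
  have key : ∀ x y : G, orderOf x = p → x * y = y * x →
      Group.IsSolvable ↥(Subgroup.centralizer ({y} : Set G)) →
      Cfsg.centralizerPPrimeCore p x ⊓ Subgroup.centralizer {y} ≤ Cfsg.centralizerPPrimeCore p y := by
    intro x y hx hxy hsol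
    set H := Subgroup.centralizer ({y} : Set G) with hH
    haveI := hsol
    have hxH : x ∈ H := Subgroup.mem_centralizer_iff.mpr fun z hz => by
      rw [Set.mem_singleton_iff] at hz; subst hz; exact hxy.symm
    set K := Subgroup.centralizer ((Subgroup.zpowers (⟨x, hxH⟩ : H) : Subgroup H) : Set H) with hK
    have hloc : (Cfsg.pPrimeCore p K).map K.subtype ≤ Cfsg.pPrimeCore p H := by
      set π := QuotientGroup.mk' (Cfsg.pPrimeCore p H)
      have hc := CfsgLib.Core.centralizer_pCore_le_of_pPrimeCore_eq_bot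
        (G := H ⧸ Cfsg.pPrimeCore p H) (p := p) (CfsgLib.Core.pPrimeCore_quotient_pPrimeCore p H)
      have hP : IsPGroup p (Subgroup.zpowers (⟨x, hxH⟩ : H)) :=
        IsPGroup.of_card (n := 1) (by rw [Nat.card_zpowers, pow_one, ← hx, Subgroup.orderOf_mk])
      have hcop := CfsgLib.Core.coprime_card_pPrimeCore p H
      have h0 : Cfsg.pPrimeCore p ↥(K.map π) = ⊥ := by
        refine (CfsgLib.PLocal.centralizer_pCore_le_local hc (hP.map π) ?_ ?_ (Or.inr ?_)).1
        · rw [hK, CfsgLib.PLocal.map_centralizer_eq _ hcop hP]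
        · rw [hK, CfsgLib.PLocal.map_centralizer_eq _ hcop hP]
          exact CfsgLib.PLocal.le_normalizer_centralizer
        · rw [hK, CfsgLib.PLocal.map_centralizer_eq _ hcop hP]
      exact (CfsgLib.PLocal.pPrimeCore_map_of_le hcop K h0).le.trans inf_le_left
    intro d hd
    obtain ⟨⟨⟨d, hdC⟩, hdO, rfl⟩, hdH⟩ := Subgroup.mem_inf.mp hd
    refine ⟨⟨d, hdH⟩, hloc ?_, rfl⟩
    -- the inclusion `K →* C_G(x)`
    have hKx : ∀ k : K, ((k : H) : G) ∈ Subgroup.centralizer ({x} : Set G) := fun k => by
      rw [Subgroup.mem_centralizer_iff]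
      intro z hz
      rw [Set.mem_singleton_iff] at hz; subst hz
      exact congrArg Subtype.val
        (Subgroup.mem_centralizer_iff.mp k.2 _ (Subgroup.mem_zpowers (⟨z, hxH⟩ : H)))
    let f : K →* Subgroup.centralizer ({x} : Set G) :=
      ((H.subtype.comp K.subtype).codRestrict _ hKx)
    have hf : Function.Injective f := fun a b hab =>
      Subtype.ext (Subtype.ext (congrArg (Subtype.val : Subgroup.centralizer ({x} : Set G) → G) hab))
    have hle : (Cfsg.pPrimeCore p ↥(Subgroup.centralizer ({x} : Set G))).comap f ≤ Cfsg.pPrimeCore p K := by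
      refine CfsgLib.Core.le_pPrimeCore ((CfsgLib.Core.coprime_card_pPrimeCore p
        ↥(Subgroup.centralizer ({x} : Set G))).coprime_dvd_left ?_)
      rw [← Subgroup.card_map_of_injective hf]
      exact Subgroup.card_dvd_of_le (Subgroup.map_comap_le f _)
    have hdK : (⟨d, hdH⟩ : H) ∈ K := by
      rw [hK, Subgroup.mem_centralizer_iff]
      intro z hz
      obtain ⟨k, rfl⟩ := Subgroup.mem_zpowers_iff.mp hz
      have hc : Commute (x : G) d := Subgroup.mem_centralizer_iff.mp hdC x rfl
      exact Subtype.ext (by push_cast; exact (hc.zpow_left k).eq)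
    exact ⟨⟨⟨d, hdH⟩, hdK⟩, hle hdO, rfl⟩
  refine le_antisymm ?_ ?_
  · exact le_inf (key x y hx hxy hCy) (inf_le_left.trans (Subgroup.map_subtype_le _))
  · exact le_inf (key y x hy hxy.symm hCx) (inf_le_left.trans (Subgroup.map_subtype_le _))

end Cfsg.Agent.S1958
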