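import Cfsg.Statements.S1279
import Cfsg.Agent.Lib.Signalizer.Basic
import Cfsg.Agent.S1958

set_option autoImplicit false
open Cfsg

namespace Cfsg.Agent.S1279

/-- Let A be a noncyclic elementary abelian p-subgroup of the finite group G such that C_G(a) is solvable for every non-identity a ∈ A. Then a ↦ O_{p'}(C_G(a)) is a solvable A-signalizer functor on G. -/
theorem result {G : Type*} [Group G] [Finite G] (p : ℕ) [Fact p.Prime] (A : Subgroup G) (hA : Cfsg.IsElementaryAbelian p A) (hA2 : p ^ 2 ≤ Nat.card ↥A) (hsolv : ∀ a ∈ A, a ≠ 1 → Group.IsSolvable ↥(Subgroup.centralizer ({a} : Set G))) : Cfsg.IsSolvableSignalizerFunctor p A (fun a => Cfsg.centralizerPPrimeCore p a) := by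
  have hsub : ∀ a : G, Cfsg.centralizerPPrimeCore p a ≤ Subgroup.centralizer {a} :=
    fun a => Subgroup.map_subtype_le _
  refine ⟨⟨fun a _ _ => hsub a, fun a _ _ hd => ?_, fun a ha _ b hb x hx => ?_,
    fun a ha ha1 b hb hb1 => ?_⟩, fun a ha ha1 => ?_⟩
  · have hcop := CfsgLib.Core.coprime_card_pPrimeCore p ↥(Subgroup.centralizer ({a} : Set G))
    change p ∣ Nat.card ↥((Cfsg.pPrimeCore p ↥(Subgroup.centralizer ({a} : Set G))).map
      (Subgroup.centralizer ({a} : Set G)).subtype) at hd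
    rw [Subgroup.card_map_of_injective (Subgroup.subtype_injective _)] at hd
    exact (Fact.out : p.Prime).coprime_iff_not_dvd.mp hcop.symm hd
  · obtain ⟨y, hy, rfl⟩ := hx
    refine ⟨⟨b, CfsgLib.Signalizer.elementary_le_centralizer hA ha hb⟩ * y *
      ⟨b, CfsgLib.Signalizer.elementary_le_centralizer hA ha hb⟩⁻¹, ?_, rfl⟩
    exact (CfsgLib.Core.normal_pPrimeCore p _).conj_mem y hy _
  · rw [Cfsg.Agent.S1958.result p a b (CfsgLib.Signalizer.elementary_orderOf hA ha ha1)
      (CfsgLib.Signalizer.elementary_orderOf hA hb hb1) (CfsgLib.Signalizer.elementary_comm hA ha hb)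
      (hsolv a ha ha1) (hsolv b hb hb1)]
    exact inf_le_left
  · exact CfsgLib.Core.isSolvable_of_le (hsolv a ha ha1) (hsub a)

end Cfsg.Agent.S1279
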