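import Cfsg.Statements.S0200
import Cfsg.Agent.Lib.Core.Zipper
import Cfsg.Agent.Lib.Signalizer.Involutions

set_option autoImplicit false
open Cfsg

namespace Cfsg.Agent.S0200

/-- An involution lying in no normal 2-subgroup of a finite group inverts a nontrivial element of odd order (a consequence of the Baer–Suzuki Theorem). -/
theorem result {G : Type*} [Group G] [Finite G] (t : G) (ht : orderOf t = 2) (hO : ∀ N : Subgroup G, N.Normal → IsPGroup 2 N → t ∉ N) : ∃ h : G, h ≠ 1 ∧ Odd (orderOf h) ∧ t * h * t⁻¹ = h⁻¹ := by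
  by_cases hall : ∀ g : G,
      IsPGroup 2 ↥(Subgroup.zpowers t ⊔ (Subgroup.zpowers t).map (MulAut.conj g).toMonoidHom)
  · exfalso
    obtain ⟨hsn, -⟩ := CfsgLib.Core.isSubnormal_of_nilpotent_join (A := Subgroup.zpowers t)
      (fun g => (hall g).isNilpotent)
    exact hO _ (CfsgLib.Components.pCore_normal 2) (CfsgLib.Components.pCore_isPGroup 2)
      (CfsgLib.Components.subnormal_pGroup_le_pCore hsn
        (IsPGroup.of_card (n := 1) (by rw [Nat.card_zpowers, ht, pow_one])) (Subgroup.mem_zpowers t))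
  push Not at hall
  obtain ⟨g, hg⟩ := hall
  have hu : orderOf (g * t * g⁻¹) = 2 := (CfsgLib.Signalizer.orderOf_conj g t).trans ht
  set u := g * t * g⁻¹ with hudef
  obtain ⟨f, hf, hr⟩ := CfsgLib.Signalizer.exists_dihedral_hom ht hu
  have hH : Subgroup.zpowers t ⊔ (Subgroup.zpowers t).map (MulAut.conj g).toMonoidHom =
      Subgroup.closure ({t, u} : Set G) := by
    rw [MonoidHom.map_zpowers, Subgroup.zpowers_eq_closure, Subgroup.zpowers_eq_closure,
      ← Subgroup.closure_union, Set.singleton_union]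
    rfl
  obtain ⟨a, m, hm, hn⟩ := Nat.exists_eq_two_pow_mul_odd (orderOf_pos (t * u)).ne'
  refine ⟨(t * u) ^ 2 ^ a, ?_, ?_, ?_⟩
  · intro h1
    apply hg
    rw [hH, ← hr]
    have hdvd := orderOf_dvd_of_pow_eq_one h1
    obtain ⟨b, -, hb⟩ := (Nat.dvd_prime_pow Nat.prime_two).mp hdvd
    refine IsPGroup.of_card (n := b + 1) ?_
    rw [Nat.card_congr (MonoidHom.ofInjective hf).toEquiv.symm, DihedralGroup.nat_card, hb]
    ring
  · have hord : orderOf ((t * u) ^ 2 ^ a) = m := by
      rw [orderOf_pow, hn, Nat.gcd_mul_right_left, Nat.mul_div_cancel_left _ (Nat.two_pow_pos a)]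
    rw [hord]
    exact hm
  · rw [← zpow_natCast, CfsgLib.Signalizer.conj_zpow_of_inverts
      (CfsgLib.Signalizer.conj_mul_eq_inv ht hu), zpow_neg]

end Cfsg.Agent.S0200
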