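import Cfsg.Statements.S3681
import Mathlib

set_option autoImplicit false
open Cfsg

namespace Cfsg.Agent.S3681

--- PRE
theorem apply_inv_self' {α : Type*} (σ : Equiv.Perm α) (u : α) : σ (σ⁻¹ u) = u :=
  σ.apply_symm_apply u

theorem inv_apply_self' {α : Type*} (σ : Equiv.Perm α) (u : α) : σ⁻¹ (σ u) = u :=
  σ.symm_apply_apply u

open Equiv Equiv.Perm in
theorem isThreeCycle_commutator {α : Type*} [Fintype α] [DecidableEq α] (x y : Perm α) (a : α)
    (hxa : x a ≠ a) (hya : y a ≠ a) (h : ∀ z, x z ≠ z → y z ≠ z → z = a) :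
    (x * y * x⁻¹ * y⁻¹).IsThreeCycle := by
  have hfix : ∀ z, z ≠ a → z ≠ x a → z ≠ y a → (x * y * x⁻¹ * y⁻¹) z = z := by
    intro z h1 h2 h3
    simp only [Perm.mul_apply]
    by_cases hz : y z = z
    · rw [show y⁻¹ z = z from Perm.inv_eq_iff_eq.2 hz.symm]
      by_cases hw : y (x⁻¹ z) = x⁻¹ z
      · rw [hw, apply_inv_self']
      · exfalso
        by_cases hwz : x⁻¹ z = z
        · rw [hwz] at hw; exact hw hz
        · have := h (x⁻¹ z) (by rw [apply_inv_self']; exact Ne.symm hwz) hw
          exact h2 (Perm.inv_eq_iff_eq.1 this)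
    · have hw : y (y⁻¹ z) ≠ y⁻¹ z := by
        rw [apply_inv_self']
        intro hh
        exact hz ((congrArg (⇑y) hh).trans (apply_inv_self' y z))
      have hxz : x z = z := by
        by_contra hh
        exact h1 (h z hh hz)
      have hxw : x (y⁻¹ z) = y⁻¹ z := by
        by_contra hh
        exact h3 (Perm.inv_eq_iff_eq.1 (h _ hh hw))
      rw [show x⁻¹ (y⁻¹ z) = y⁻¹ z from Perm.inv_eq_iff_eq.2 hxw.symm, apply_inv_self', hxz]
  have hne : (x * y * x⁻¹ * y⁻¹) (y a) ≠ y a := by
    simp only [Perm.mul_apply, inv_apply_self']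
    intro hh
    by_cases hd : y (x⁻¹ a) = x⁻¹ a
    · rw [hd, apply_inv_self'] at hh; exact hya hh.symm
    · have hxd : x (x⁻¹ a) ≠ x⁻¹ a := by
        rw [apply_inv_self']
        intro h'
        exact hxa ((congrArg x h').trans (apply_inv_self' x a))
      exact hxa ((Perm.inv_eq_iff_eq.1 (h _ hxd hd)).symm)
  rw [← card_support_eq_three_iff]
  have hsub : (x * y * x⁻¹ * y⁻¹).support ⊆ ({a, x a, y a} : Finset α) := by
    intro z hz
    rw [Perm.mem_support] at hz
    simp only [Finset.mem_insert, Finset.mem_singleton]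
    by_contra hc
    push Not at hc
    exact hz (hfix z hc.1 hc.2.1 hc.2.2)
  have h3 : (x * y * x⁻¹ * y⁻¹).support.card ≤ 3 := by
    refine (Finset.card_le_card hsub).trans ?_
    exact Finset.card_le_three
  have hne1 : x * y * x⁻¹ * y⁻¹ ≠ 1 := fun h1 => hne (by rw [h1]; rfl)
  have h2 : 2 ≤ (x * y * x⁻¹ * y⁻¹).support.card := two_le_card_support_of_ne_one hne1
  by_contra hc
  have h22 : (x * y * x⁻¹ * y⁻¹).support.card = 2 := by omega
  have hs := (card_support_eq_two.1 h22).sign_eq
  have hev : Perm.sign (x * y * x⁻¹ * y⁻¹) = 1 := by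
    simp only [map_mul, map_inv]
    rw [mul_comm (Perm.sign x) (Perm.sign y)]
    group
  rw [hev] at hs
  exact absurd hs (by decide)

/-- Bochert's bound for primitive groups. Let a finite group G act faithfully and primitively on a finite set Ω with n elements, and suppose the image of G in the symmetric group of Ω does not contain the alternating group of Ω. Then |G| · ⌊(n + 1)/2⌋! ≤ n!, that is, the index of G in the symmetric group is at least ⌊(n + 1)/2⌋!. -/
theorem result {G Ω : Type*} [Group G] [Finite G] [MulAction G Ω] [FaithfulSMul G Ω] [Fintype Ω] [DecidableEq Ω]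
    (hprim : MulAction.IsPreprimitive G Ω) (hA : ¬ alternatingGroup Ω ≤ (MulAction.toPermHom G Ω).range) :
    Nat.card G * Nat.factorial ((Fintype.card Ω + 1) / 2) ≤ Nat.factorial (Fintype.card Ω) := by
  classical
  have hinj : Function.Injective (MulAction.toPermHom G Ω) := MulAction.toPerm_injective
  let P : Finset Ω → Prop := fun D => ∀ g : G, (∀ z ∈ D, g • z = z) → g = 1
  have hex : ∃ b, ∃ D : Finset Ω, D.card = b ∧ P D :=
    ⟨_, Finset.univ, rfl, fun g hg => eq_of_smul_eq_smul fun z : Ω => by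
      rw [hg z (Finset.mem_univ z), one_smul]⟩
  obtain ⟨D, hDc, hD⟩ := Nat.find_spec hex
  have hmin : ∀ D' : Finset Ω, D'.card < D.card → ∃ g : G, (∀ z ∈ D', g • z = z) ∧ g ≠ 1 := by
    intro D' hlt
    by_contra hc
    push Not at hc
    exact Nat.find_min hex (hDc ▸ hlt) ⟨D', rfl, hc⟩
  -- a base of at most half of the points
  have hhalf : 2 * D.card ≤ Fintype.card Ω := by
    by_contra hgt
    push Not at hgt
    have hlt : Dᶜ.card < D.card := by rw [Finset.card_compl]; omega
    obtain ⟨g, hg, hg1⟩ := hmin _ hlt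
    obtain ⟨a, ha⟩ : ∃ a, g • a ≠ a := by
      by_contra hc
      push Not at hc
      exact hg1 (eq_of_smul_eq_smul fun z : Ω => by rw [hc z, one_smul])
    have haD : a ∈ D := by
      by_contra hc
      exact ha (hg a (Finset.mem_compl.2 hc))
    obtain ⟨k, hk, hk1⟩ := hmin (D.erase a) (Finset.card_erase_lt_of_mem haD)
    have hka : k • a ≠ a := fun hc => hk1 (hD k fun z hz => by
      by_cases h : z = a
      · rw [h, hc]
      · exact hk z (Finset.mem_erase.2 ⟨h, hz⟩))
    haveI : MulAction.IsPreprimitive (MulAction.toPermHom G Ω).range Ω := by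
      let f : Ω →ₑ[(MulAction.toPermHom G Ω).rangeRestrict] Ω :=
        { toFun := id, map_smul' := fun g x => rfl }
      exact MulAction.IsPreprimitive.of_surjective (f := f) Function.surjective_id
    refine hA (Equiv.Perm.alternatingGroup_le_of_isPreprimitive_of_isThreeCycle_mem inferInstance
      (isThreeCycle_commutator (MulAction.toPermHom G Ω g) (MulAction.toPermHom G Ω k) a ha hka ?_)
      ?_)
    · intro z hz hz'
      by_contra hne
      have h1 : z ∈ D := by
        by_contra hc; exact hz (hg z (Finset.mem_compl.2 hc))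
      exact hz' (hk z (Finset.mem_erase.2 ⟨hne, h1⟩))
    · exact ⟨g * k * g⁻¹ * k⁻¹, by simp only [map_mul, map_inv]⟩
  let f : G × Equiv.Perm {z // z ∉ D} → Equiv.Perm Ω := fun q =>
    MulAction.toPermHom G Ω q.1 * Equiv.Perm.ofSubtype q.2
  have hf : Function.Injective f := by
    rintro ⟨g, s⟩ ⟨g', s'⟩ he
    have he' : MulAction.toPermHom G Ω g * Equiv.Perm.ofSubtype s =
        MulAction.toPermHom G Ω g' * Equiv.Perm.ofSubtype s' := he
    have hgg : g'⁻¹ * g = 1 := by
      apply hD
      intro z hz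
      have h0 := congrArg (fun σ : Equiv.Perm Ω => σ z) he'
      simp only [Equiv.Perm.mul_apply] at h0
      rw [Equiv.Perm.ofSubtype_apply_of_not_mem (p := fun u => u ∉ D) _ (not_not.2 hz : ¬ (z ∉ D)),
        Equiv.Perm.ofSubtype_apply_of_not_mem (p := fun u => u ∉ D) _ (not_not.2 hz : ¬ (z ∉ D))] at h0
      rw [mul_smul, inv_smul_eq_iff]
      exact h0
    obtain rfl : g' = g := inv_mul_eq_one.1 hgg
    rw [mul_right_inj] at he'
    rw [Equiv.Perm.ofSubtype_injective he']
  have hle := Nat.card_le_card_of_injective f hf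
  rw [Nat.card_prod, Nat.card_perm, Nat.card_perm, Nat.card_eq_fintype_card (α := Ω)] at hle
  refine (Nat.mul_le_mul_left _ (Nat.factorial_le ?_)).trans hle
  rw [Nat.card_eq_fintype_card, Fintype.card_subtype_compl, Fintype.card_coe]
  omega

end Cfsg.Agent.S3681
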