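import Cfsg.Statements.S0058
import Cfsg.Agent.Lib.Core.Nilpotent
import Cfsg.Agent.Lib.LocalEven.Generation

set_option linter.all false

set_option autoImplicit false
open Cfsg

namespace Cfsg.Agent.S0058

/-- Generation by centralisers: when a noncyclic abelian group A normalises K with coprime orders, K is generated by the fixed-point subgroups of the nonidentity elements of A. -/
theorem result {G : Type*} [Group G] [Finite G] (A K : Subgroup G)
    [IsMulCommutative A] (hA : ¬ IsCyclic A) (hAK : A ≤ Subgroup.normalizer (K : Set G)) (hcop : (Nat.card A).Coprime (Nat.card K)) :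
    (⨆ a ∈ {a : G | a ∈ A ∧ a ≠ 1}, K ⊓ Subgroup.centralizer {a}) = K := by
  apply le_antisymm (iSup₂_le fun a _ => inf_le_left)
  generalize hY : (⨆ a ∈ {a : G | a ∈ A ∧ a ≠ 1}, K ⊓ Subgroup.centralizer {a}) = Y
  obtain ⟨p, hp, E, hEA, hexp, hcard⟩ := CfsgLib.Core.exists_elementary_of_not_isCyclic A hA
  haveI := Fact.mk hp
  haveI : IsMulCommutative E := by
    refine ⟨⟨fun a b => Subtype.ext ?_⟩⟩
    exact congrArg (fun z : A => (z : G)) (mul_comm' (⟨a, hEA a.2⟩ : A) ⟨b, hEA b.2⟩)
  have hpA : p ∣ Nat.card A := by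
    have hE : IsPGroup p E := fun a => ⟨1, Subtype.ext (by simpa using hexp _ a.2)⟩
    rcases hE.card_eq_or_dvd with h | h
    · rw [h] at hcard
      nlinarith [hp.two_le]
    · exact h.trans (Subgroup.card_dvd_of_le hEA)
  refine CfsgLib.LocalEven.le_of_centralizers_le hexp hcard (hEA.trans hAK)
    (fun hd => hp.ne_one (Nat.eq_one_of_dvd_coprimes hcop hpA hd)) (fun a ha ha1 => ?_)
  rw [← hY]
  exact le_iSup₂_of_le a ⟨hEA ha, ha1⟩ le_rfl

end Cfsg.Agent.S0058
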