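import Cfsg.Statements.S0204
import Cfsg.Agent.Lib.OddGated29.Klein
import Cfsg.Agent.Lib.OddLocal.Final.OddOrder
-- import your own Cfsg.Agent.* helpers here

set_option autoImplicit false
open Cfsg

namespace Cfsg.Agent.S0204

/-- A non-cyclic finite simple group contains a subgroup which is a Klein four-group; this combines the Odd Order Theorem, Burnside's transfer argument for cyclic Sylow 2-subgroups and the Brauer–Suzuki Theorem. -/
theorem result {G : Type*} [Group G] [Finite G] [IsSimpleGroup G] (hG : ¬ IsCyclic G) : ∃ E : Subgroup G, IsKleinFour E := by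
  exact CfsgLib.OddGated29.exists_kleinFour_of_simple hG (fun h => CfsgLib.OddLocal.FTFinal.odd_order_solvable h)

end Cfsg.Agent.S0204
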