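import Cfsg.Statements.S4293
import Cfsg.Agent.Lib.HallGen.FrobeniusComplement

set_option autoImplicit false
open Cfsg

namespace Cfsg.Agent.S4293

/-- A nonzero torsion-free finitely generated abelian group is not divisible by `r ≥ 2`. -/
theorem exists_not_smul {M : Type*} [AddCommGroup M] [IsAddTorsionFree M] [Module.Finite ℤ M] [Nontrivial M]
    {r : ℕ} (hr : 2 ≤ r) : ∃ v : M, ∀ w : M, r • w ≠ v := by
  haveI : Module.Free ℤ M := inferInstance
  let b := Module.Free.chooseBasis ℤ M
  obtain ⟨i⟩ := b.index_nonempty
  refine ⟨b i, fun w h => ?_⟩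
  have h1 := congrArg (fun x => b.repr x i) h
  simp only [map_nsmul, Finsupp.smul_apply, Module.Basis.repr_self, Finsupp.single_eq_same, nsmul_eq_mul] at h1
  have h2 : (r : ℤ) ∣ 1 := Dvd.intro _ h1
  have := Int.le_of_dvd one_pos h2
  omega

/-- A nontrivial finite subgroup of the multiplicative group of a division ring occurs as a Frobenius complement of some finite Frobenius group. -/
theorem result {D : Type*} [DivisionRing D] (H : Subgroup Dˣ) [Finite H] (hH : H ≠ ⊥) :
    ∃ (L : Type) (_ : Group L) (_ : Finite L) (C : Subgroup L), Cfsg.IsFrobeniusComplement C ∧ Nonempty (H ≃* C) := by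
  classical
  haveI : Nontrivial H := (Subgroup.nontrivial_iff_ne_bot H).2 hH
  haveI := Fintype.ofFinite H
  -- multiplication by an element of `H`
  let S : Set D := Set.range fun h : H => ((h : Dˣ) : D)
  have hSfin : S.Finite := Set.finite_range _
  have h1S : (1 : D) ∈ S := ⟨1, by simp⟩
  let V := Submodule.span ℤ S
  have hmem : ∀ (h : H) (v : D), v ∈ V → ((h : Dˣ) : D) * v ∈ V := by
    intro h v hv
    induction hv using Submodule.span_induction with
    | mem x hx =>
      obtain ⟨k, rfl⟩ := hx
      exact Submodule.subset_span ⟨h * k, by simp⟩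
    | zero => simp
    | add x y _ _ hx hy => rw [mul_add]; exact V.add_mem hx hy
    | smul a x _ hx => rw [mul_smul_comm]; exact V.smul_mem a hx
  haveI : Module.Finite ℤ V := Module.Finite.span_of_finite ℤ hSfin
  haveI : Nontrivial V := ⟨⟨⟨1, Submodule.subset_span h1S⟩, 0, fun h => one_ne_zero (congrArg Subtype.val h)⟩⟩
  letI actV : DistribMulAction H V :=
    { smul := fun h v => ⟨((h : Dˣ) : D) * v, hmem h v v.2⟩
      one_smul := fun v => Subtype.ext (by change ((1 : H) : Dˣ).val * (v : D) = v; simp)
      mul_smul := fun g h v => Subtype.ext (by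
        change (((g * h : H) : Dˣ) : D) * (v : D) = _ * (_ * (v : D)); simp [mul_assoc])
      smul_zero := fun h => Subtype.ext (mul_zero _)
      smul_add := fun h v w => Subtype.ext (mul_add _ _ _) }
  have hne1 : ∀ h : H, h ≠ 1 → ((h : Dˣ) : D) - 1 ≠ 0 := fun h hh e =>
    hh (Subtype.ext (Units.ext (sub_eq_zero.1 e)))
  obtain ⟨p, hp⟩ := CharP.exists D
  rcases CharP.char_is_prime_or_zero D p with hpp | hp0
  · -- positive characteristic: the span is finite
    haveI : Finite V := by
      refine Module.finite_of_fg_torsion V fun v => ?_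
      refine ⟨⟨(p : ℤ), mem_nonZeroDivisors_iff_ne_zero.2 (by exact_mod_cast hpp.ne_zero)⟩, Subtype.ext ?_⟩
      change (p : ℤ) • (v : D) = 0
      rw [zsmul_eq_mul, Int.cast_natCast, CharP.cast_eq_zero, zero_mul]
    obtain ⟨L, i1, i2, C, h1, h2, -⟩ :=
      CfsgLib.HallGen.exists_frobeniusComplement_of_fpf H V (fun h hh v hv => by
        have e : ((h : Dˣ) : D) * (v : D) = v := congrArg Subtype.val hv
        exact Subtype.ext ((mul_eq_zero.1 (by rw [sub_mul, one_mul, e, sub_self] :
          (((h : Dˣ) : D) - 1) * (v : D) = 0)).resolve_left (hne1 h hh)))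
    exact ⟨L, i1, i2, C, h1, h2⟩
  · -- characteristic zero: reduce the lattice modulo a number prime to the order
    subst hp0
    haveI : CharZero D := CharP.charP_to_charZero D
    haveI : IsAddTorsionFree V := by
      refine ⟨fun n hn a b hab => Subtype.ext ?_⟩
      have e : n • (a : D) = n • (b : D) := congrArg Subtype.val hab
      rw [nsmul_eq_mul, nsmul_eq_mul] at e
      exact mul_left_cancel₀ (Nat.cast_ne_zero.2 hn) e
    set r := Nat.card H + 1 with hr
    have hr2 : 2 ≤ r := by have := Nat.card_pos (α := H); omega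
    let K : AddSubgroup V := (nsmulAddMonoidHom (α := V) r).range
    haveI : Nontrivial (V ⧸ K) := by
      obtain ⟨v, hv⟩ := exists_not_smul (M := V) hr2
      refine ⟨⟨(v : V ⧸ K), 0, fun h => ?_⟩⟩
      obtain ⟨w, hw⟩ := (QuotientAddGroup.eq_zero_iff v).1 h
      exact hv w hw
    haveI : Finite (V ⧸ K) := by
      have hfg : Module.Finite ℤ (V ⧸ K) :=
        Module.Finite.of_surjective ((QuotientAddGroup.mk' K).toIntLinearMap) (QuotientAddGroup.mk'_surjective K)
      refine Module.finite_of_fg_torsion _ fun v => ?_
      refine ⟨⟨(r : ℤ), mem_nonZeroDivisors_iff_ne_zero.2 (by exact_mod_cast (by omega : r ≠ 0))⟩, ?_⟩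
      induction v using QuotientAddGroup.induction_on with
      | _ v =>
        change (r : ℤ) • (v : V ⧸ K) = 0
        rw [natCast_zsmul, ← QuotientAddGroup.mk_nsmul, QuotientAddGroup.eq_zero_iff]
        exact ⟨v, rfl⟩
    have hK : ∀ h : H, K ≤ K.comap (DistribSMul.toAddMonoidHom V h) := by
      rintro h _ ⟨w, rfl⟩
      exact ⟨h • w, (smul_comm r h w : r • h • w = h • r • w)⟩
    letI : DistribMulAction H (V ⧸ K) :=
      { smul := fun h => QuotientAddGroup.map K K (DistribSMul.toAddMonoidHom V h) (hK h)
        one_smul := fun v => by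
          induction v using QuotientAddGroup.induction_on with
          | _ v => change (((1 : H) • v : V) : V ⧸ K) = v; rw [one_smul]
        mul_smul := fun g h v => by
          induction v using QuotientAddGroup.induction_on with
          | _ v => change (((g * h) • v : V) : V ⧸ K) = ((g • h • v : V) : V ⧸ K); rw [mul_smul]
        smul_zero := fun h => map_zero (QuotientAddGroup.map K K (DistribSMul.toAddMonoidHom V h) (hK h))
        smul_add := fun h v w => map_add (QuotientAddGroup.map K K (DistribSMul.toAddMonoidHom V h) (hK h)) v w }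
    obtain ⟨L, i1, i2, C, h1, h2, -⟩ :=
      CfsgLib.HallGen.exists_frobeniusComplement_of_fpf H (V ⧸ K) (fun h hh v hv => by
        induction v using QuotientAddGroup.induction_on with
        | _ v =>
        change ((h • v : V) : V ⧸ K) = v at hv
        have hfix : ∀ i : ℕ, (((h ^ i) • v : V) : V ⧸ K) = v := by
          intro i
          induction i with
          | zero => rw [pow_zero, one_smul]
          | succ i ih =>
            rw [pow_succ', mul_smul]
            calc ((h • (h ^ i • v) : V) : V ⧸ K) = (h • ((h ^ i • v : V) : V ⧸ K) : V ⧸ K) := rfl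
              _ = (h • (v : V ⧸ K) : V ⧸ K) := by rw [ih]
              _ = v := hv
        have hzero : ∑ i ∈ Finset.range (orderOf h), (h ^ i) • v = 0 := by
          apply Subtype.ext
          rw [AddSubmonoidClass.coe_finset_sum, ZeroMemClass.coe_zero]
          have e : ∀ i, (((h ^ i) • v : V) : D) = ((h : Dˣ) : D) ^ i * (v : D) := fun i => by
            change (((h ^ i : H) : Dˣ) : D) * (v : D) = _
            simp
          simp only [e, ← Finset.sum_mul]
          have e2 : ((h : Dˣ) : D) ^ orderOf h = 1 := by
            rw [← Units.val_pow_eq_pow_val, ← Subgroup.coe_pow, pow_orderOf_eq_one]; simp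
          have e3 := mul_geom_sum ((h : Dˣ) : D) (orderOf h)
          rw [e2, sub_self] at e3
          rw [(mul_eq_zero.1 e3).resolve_left (hne1 h hh), zero_mul]
        have hsum : orderOf h • (v : V ⧸ K) = 0 := by
          have := congrArg (QuotientAddGroup.mk' K) hzero
          rw [map_sum, map_zero] at this
          simpa only [QuotientAddGroup.mk'_apply, hfix, Finset.sum_const, Finset.card_range] using this
        have hr0 : r • (v : V ⧸ K) = 0 := by
          rw [← QuotientAddGroup.mk_nsmul, QuotientAddGroup.eq_zero_iff]; exact ⟨v, rfl⟩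
        have h1 : addOrderOf (v : V ⧸ K) = 1 := Nat.eq_one_of_dvd_coprimes
          ((Nat.coprime_self_add_right.2 (Nat.coprime_one_right _)).coprime_dvd_left (_root_.orderOf_dvd_natCard h) : (orderOf h).Coprime r)
          (addOrderOf_dvd_iff_nsmul_eq_zero.2 hsum) (addOrderOf_dvd_iff_nsmul_eq_zero.2 hr0)
        exact AddMonoid.addOrderOf_eq_one_iff.1 h1)
    exact ⟨L, i1, i2, C, h1, h2⟩
end Cfsg.Agent.S4293
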