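import Cfsg.Statements.S3438
import Mathlib
import Cfsg.Agent.Lib.Recog.FrobeniusSpectrum

set_option autoImplicit false
open Cfsg

namespace Cfsg.Agent.S3438

--- PRE
open CfsgLib.Recog.FrobSpec

instance fact49 : Fact (∀ r : ZMod 7, r ^ 2 ≠ 6 + 0 * r) := ⟨by decide +kernel⟩
instance fact9 : Fact (∀ r : ZMod 3, r ^ 2 ≠ 2 + 0 * r) := ⟨by decide +kernel⟩

instance : Fact (Nat.Prime 7) := ⟨by norm_num⟩
instance : Fact (Nat.Prime 3) := ⟨by norm_num⟩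

instance : Finite (QuadraticAlgebra (ZMod 7) 6 0) := Finite.of_equiv _ (QuadraticAlgebra.equivProd 6 0).symm
instance : Fintype (QuadraticAlgebra (ZMod 3) 2 0) := Fintype.ofEquiv _ (QuadraticAlgebra.equivProd 2 0).symm

set_option maxRecDepth 100000
set_option maxHeartbeats 1600000

def compList : List (Matrix (Fin 2) (Fin 2) (QuadraticAlgebra (ZMod 7) 6 0)) :=
  [!![⟨1, 0⟩, ⟨0, 0⟩; ⟨0, 0⟩, ⟨1, 0⟩], !![⟨2, 0⟩, ⟨0, 0⟩; ⟨0, 0⟩, ⟨4, 0⟩], !![⟨0, 0⟩, ⟨1, 0⟩; ⟨0, 1⟩, ⟨0, 0⟩], !![⟨4, 0⟩, ⟨0, 0⟩; ⟨0, 0⟩, ⟨2, 0⟩], !![⟨0, 0⟩, ⟨2, 0⟩; ⟨0, 4⟩, ⟨0, 0⟩], !![⟨0, 0⟩, ⟨4, 0⟩; ⟨0, 2⟩, ⟨0, 0⟩], !![⟨0, 1⟩, ⟨0, 0⟩; ⟨0, 0⟩, ⟨0, 1⟩], !![⟨0, 2⟩, ⟨0, 0⟩; ⟨0, 0⟩, ⟨0, 4⟩], !![⟨0, 4⟩, ⟨0, 0⟩; ⟨0, 0⟩, ⟨0, 2⟩], !![⟨0, 0⟩, ⟨0, 1⟩; ⟨6, 0⟩, ⟨0, 0⟩], !![⟨0, 0⟩, ⟨0, 2⟩; ⟨3, 0⟩, ⟨0, 0⟩], !![⟨0, 0⟩, ⟨0, 4⟩; ⟨5, 0⟩, ⟨0, 0⟩], !![⟨6, 0⟩, ⟨0, 0⟩; ⟨0, 0⟩, ⟨6, 0⟩], !![⟨5, 0⟩, ⟨0, 0⟩; ⟨0, 0⟩, ⟨3,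 0⟩], !![⟨3, 0⟩, ⟨0, 0⟩; ⟨0, 0⟩, ⟨5, 0⟩], !![⟨0, 0⟩, ⟨6, 0⟩; ⟨0, 6⟩, ⟨0, 0⟩], !![⟨0, 0⟩, ⟨5, 0⟩; ⟨0, 3⟩, ⟨0, 0⟩], !![⟨0, 0⟩, ⟨3, 0⟩; ⟨0, 5⟩, ⟨0, 0⟩], !![⟨0, 6⟩, ⟨0, 0⟩; ⟨0, 0⟩, ⟨0, 6⟩], !![⟨0, 5⟩, ⟨0, 0⟩; ⟨0, 0⟩, ⟨0, 3⟩], !![⟨0, 3⟩, ⟨0, 0⟩; ⟨0, 0⟩, ⟨0, 5⟩], !![⟨0, 0⟩, ⟨0, 6⟩; ⟨1, 0⟩, ⟨0, 0⟩], !![⟨0, 0⟩, ⟨0, 5⟩; ⟨4, 0⟩, ⟨0, 0⟩], !![⟨0, 0⟩, ⟨0, 3⟩; ⟨2, 0⟩, ⟨0, 0⟩]]

theorem spectrum_H : ∃ (H : Type) (_ : Group H) (_ : Fintype H), Group.IsSolvable H ∧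
      Set.range (orderOf : H → ℕ) = insert 7 {n | n ∣ 8 ∨ n ∣ 12 ∨ n ∣ 12} :=
  exists_solvable 7 8 12 12 (by norm_num) (by decide +kernel) (by norm_num) (by norm_num) (by norm_num)
    compList (by decide +kernel) (by decide +kernel) (by decide +kernel) (by decide +kernel)
    (i := 3) (j := 1) (by decide +kernel) (by decide +kernel) (by decide +kernel) (by decide +kernel)
    (by decide +kernel) (by decide +kernel)

abbrev R9 : Type := QuadraticAlgebra (ZMod 3) 2 0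

theorem cases_R9 : ∀ x : R9, cubicPow x (x ^ 3) 7 = (0, 0, 1) ∨ cubicPow x (x ^ 3) 8 = (0, 0, 1) ∨
    cubicPow x (x ^ 3) 12 = (0, 0, 1) := by decide +kernel

def el7 : Matrix (Fin 3) (Fin 3) R9 := !![⟨0, 0⟩, ⟨1, 1⟩, ⟨1, 1⟩; ⟨0, 0⟩, ⟨1, 1⟩, ⟨2, 2⟩; ⟨0, 1⟩, ⟨0, 0⟩, ⟨0, 0⟩]
def el8 : Matrix (Fin 3) (Fin 3) R9 := !![⟨0, 0⟩, ⟨0, 0⟩, ⟨1, 0⟩; ⟨0, 0⟩, ⟨0, 1⟩, ⟨0, 0⟩; ⟨0, 1⟩, ⟨0, 0⟩, ⟨0, 0⟩]
def el12 : Matrix (Fin 3) (Fin 3) R9 := !![⟨0, 0⟩, ⟨1, 1⟩, ⟨1, 2⟩; ⟨0, 0⟩, ⟨2, 1⟩, ⟨2, 2⟩; ⟨0, 1⟩, ⟨0, 0⟩, ⟨0, 0⟩]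

theorem preserving_of_map {F : Type*} [Field F] (f : R9 →+* F) (M : Matrix (Fin 3) (Fin 3) R9)
    (hM : M.transpose * M.map (fun x => x ^ 3) = 1) (u v : Fin 3 → F)
    (hchar : ∀ x y : F, (x + y) ^ 3 = x ^ 3 + y ^ 3) :
    Cfsg.hermForm 3 F 3 ((M.map f).mulVec u) ((M.map f).mulVec v) = Cfsg.hermForm 3 F 3 u v := by
  have h : ∀ j k : Fin 3, ∑ i, f (M i j) * f (M i k) ^ 3 = if j = k then 1 else 0 := by
    intro j k
    have h1 := congrArg f (congrFun (congrFun hM j) k)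
    rw [Matrix.mul_apply, map_sum, Matrix.one_apply] at h1
    simp only [Matrix.transpose_apply, Matrix.map_apply, map_mul, map_pow] at h1
    rw [h1]; split_ifs <;> simp
  have h00 := h 0 0; have h01 := h 0 1; have h02 := h 0 2
  have h10 := h 1 0; have h11 := h 1 1; have h12 := h 1 2
  have h20 := h 2 0; have h21 := h 2 1; have h22 := h 2 2
  simp [Fin.sum_univ_three] at h00 h01 h02 h10 h11 h12 h20 h21 h22
  simp only [Cfsg.hermForm, Matrix.mulVec, dotProduct, Fin.sum_univ_three, Matrix.map_apply, hchar, mul_pow]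
  linear_combination (u 0 * v 0 ^ 3) * h00 + (u 0 * v 1 ^ 3) * h01 + (u 0 * v 2 ^ 3) * h02 +
    (u 1 * v 0 ^ 3) * h10 + (u 1 * v 1 ^ 3) * h11 + (u 1 * v 2 ^ 3) * h12 +
    (u 2 * v 0 ^ 3) * h20 + (u 2 * v 1 ^ 3) * h21 + (u 2 * v 2 ^ 3) * h22

theorem spectrum_PSU {F : Type*} [Field F] [Fintype F] (hF : Fintype.card F = 9) :
    Set.range (orderOf : Cfsg.PSU 3 F 3 → ℕ) = {n | n ∣ 7 ∨ n ∣ 8 ∨ n ∣ 12} := by
  classical
  haveI : CharP F 3 := by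
    obtain ⟨n, hp, hn⟩ := FiniteField.card F (ringChar F)
    rw [hF] at hn
    have h3 : ringChar F = 3 := by
      have : ringChar F ∣ 3 ^ 2 := by norm_num; rw [hn]; exact dvd_pow_self _ n.2.ne'
      exact (Nat.prime_dvd_prime_iff_eq hp (by norm_num)).1 (hp.dvd_of_dvd_pow this)
    rw [← h3]; infer_instance
  haveI : ExpChar F 3 := ExpChar.prime (by norm_num)
  have hchar : ∀ x y : F, (x + y) ^ 3 = x ^ 3 + y ^ 3 := fun x y => add_pow_expChar x y 3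
  letI : Algebra (ZMod 3) F := ZMod.algebra F 3
  obtain ⟨c, hc⟩ : IsSquare (-1 : F) := FiniteField.isSquare_neg_one_iff.2 (by rw [hF]; norm_num)
  have hc' : c * c = (2 : ZMod 3) • (1 : F) + (0 : ZMod 3) • c := by
    rw [← hc, zero_smul, add_zero, Algebra.smul_def, map_ofNat, mul_one]
    have h3 : (3 : F) = 0 := by exact_mod_cast CharP.cast_eq_zero F 3
    linear_combination -h3
  set f : R9 →+* F := (QuadraticAlgebra.lift ⟨c, hc'⟩).toRingHom with hf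
  have hfi : Function.Injective f := RingHom.injective f
  have hfs : Function.Surjective f :=
    (hfi.bijective_of_nat_card_le (by
      rw [Nat.card_eq_fintype_card, hF, Nat.card_congr (QuadraticAlgebra.equivProd _ _), Nat.card_prod,
        Nat.card_zmod])).2
  have hup : ∀ g : Cfsg.PSU 3 F 3, g ^ 7 = 1 ∨ g ^ 8 = 1 ∨ g ^ 12 = 1 := by
    intro g
    obtain ⟨⟨A, hA⟩, rfl⟩ := QuotientGroup.mk_surjective g
    have hherm : ∀ j k : Fin 3, ∑ i, A.1 i j * A.1 i k ^ 3 = if j = k then 1 else 0 := by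
      intro j k
      have h1 := hA (Pi.single j 1) (Pi.single k 1)
      simp only [Cfsg.hermForm, Cfsg.slToMat, MonoidHom.coe_comp, Function.comp_apply, Units.coeHom_apply,
        Matrix.SpecialLinearGroup.toGL, MonoidHom.coe_mk, OneHom.coe_mk, Matrix.mulVec_single_one,
        Matrix.col_apply] at h1
      rw [h1]
      fin_cases j <;> fin_cases k <;> simp [Fin.sum_univ_three]
    have hinv : A.1.transpose * A.1.map (fun x => x ^ 3) = 1 := by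
      ext j k
      rw [Matrix.mul_apply, Matrix.one_apply]
      simp only [Matrix.transpose_apply, Matrix.map_apply]
      exact hherm j k
    have hadj : A.1.adjugate = A.1.transpose.map (fun x => x ^ 3) := by
      have h1 : (A.1.map (fun x => x ^ 3)).transpose * A.1 = 1 := by
        rw [← Matrix.transpose_one, ← hinv, Matrix.transpose_mul, Matrix.transpose_transpose]
      calc A.1.adjugate = ((A.1.map (fun x => x ^ 3)).transpose * A.1) * A.1.adjugate := by rw [h1, one_mul]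
        _ = _ := by rw [mul_assoc, Matrix.mul_adjugate, A.2, one_smul, mul_one]; rfl
    obtain ⟨x, hx⟩ := hfs A.1.trace
    have hb : A.1.adjugate.trace = f (x ^ 3) := by
      rw [map_pow, hx, hadj, Matrix.trace, Matrix.trace, Fin.sum_univ_three, Fin.sum_univ_three, hchar, hchar]
      rfl
    have key : ∀ n : ℕ, cubicPow x (x ^ 3) n = (0, 0, 1) →
        ((⟨A, hA⟩ : Cfsg.SU 3 F 3) : Cfsg.PSU 3 F 3) ^ n = 1 := fun n h => by
      have h1 : A.1 ^ n = 1 := pow_eq_one_of_cubicPow A.1 A.2 hx.symm hb (by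
        rw [cubicPow_map, h]; simp)
      have hM : (⟨A, hA⟩ : Cfsg.SU 3 F 3) ^ n = 1 :=
        Subtype.ext (Subtype.ext ((Matrix.SpecialLinearGroup.coe_pow A n).trans h1))
      rw [← QuotientGroup.mk_pow, hM]; rfl
    rcases cases_R9 x with h | h | h
    · exact Or.inl (key _ h)
    · exact Or.inr (Or.inl (key _ h))
    · exact Or.inr (Or.inr (key _ h))
  have mkU : ∀ M : Matrix (Fin 3) (Fin 3) R9, M.det = 1 → M.transpose * M.map (fun x => x ^ 3) = 1 →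
      ∃ g : Cfsg.SU 3 F 3, g.1.1 = M.map f := fun M hd hM =>
    ⟨⟨⟨M.map f, by
        have := f.map_det M
        rw [hd, map_one] at this
        exact this.symm⟩, fun u v => preserving_of_map f M hM u v hchar⟩, rfl⟩
  have hex : ∀ (n : ℕ) (M N : Matrix (Fin 3) (Fin 3) R9), 0 < n → M.det = 1 → N.det = 1 →
      M.transpose * M.map (fun x => x ^ 3) = 1 → N.transpose * N.map (fun x => x ^ 3) = 1 →
      M ^ n = 1 → (∀ m, m < n → 0 < m → M ^ m * N ≠ N * M ^ m) →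
      ∃ g : Cfsg.PSU 3 F 3, orderOf g = n := by
    intro n M N hn hM hN hM' hN' h1 h2
    obtain ⟨g, hg⟩ := mkU M hM hM'
    obtain ⟨k, hk⟩ := mkU N hN hN'
    have hg' : f.mapMatrix M = g.1.1 := hg.symm
    have hk' : f.mapMatrix N = k.1.1 := hk.symm
    have hpow : ∀ m : ℕ, (g ^ m : Cfsg.SU 3 F 3).1.1 = f.mapMatrix (M ^ m) := fun m => by
      rw [map_pow, hg', SubmonoidClass.coe_pow, Matrix.SpecialLinearGroup.coe_pow]
    refine ⟨_, orderOf_mk_center g n hn (Subtype.ext (Subtype.ext ?_)) fun m hm hm0 => ⟨k, fun h => h2 m hm hm0 ?_⟩⟩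
    · rw [hpow, h1, map_one]; rfl
    · apply Matrix.map_injective hfi
      show f.mapMatrix (M ^ m * N) = f.mapMatrix (N * M ^ m)
      rw [map_mul, map_mul, ← hpow, hk']
      exact congrArg Subtype.val (congrArg Subtype.val h)
  refine range_orderOf_eq 7 8 12 (by norm_num) (by norm_num) (by norm_num) hup ?_ ?_ ?_
  · exact hex 7 el7 el8 (by norm_num) (by decide +kernel) (by decide +kernel) (by decide +kernel)
      (by decide +kernel) (by decide +kernel) (by decide +kernel)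
  · exact hex 8 el8 el7 (by norm_num) (by decide +kernel) (by decide +kernel) (by decide +kernel)
      (by decide +kernel) (by decide +kernel) (by decide +kernel)
  · exact hex 12 el12 el7 (by norm_num) (by decide +kernel) (by decide +kernel) (by decide +kernel)
      (by decide +kernel) (by decide +kernel) (by decide +kernel)

/-- There is a finite solvable group with exactly the same set of element orders as the simple group PSU(3,3) (realised over the field with 9 elements). -/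
theorem result {F : Type*} [Field F] [Fintype F] (hF : Fintype.card F = 9) :
    ∃ (H : Type) (_ : Group H) (_ : Fintype H), Group.IsSolvable H ∧ Set.range (orderOf : H → ℕ) = Set.range (orderOf : Cfsg.PSU 3 F 3 → ℕ) := by
  obtain ⟨H, i1, i2, hs, hr⟩ := spectrum_H
  refine ⟨H, i1, i2, hs, ?_⟩
  rw [hr, spectrum_PSU hF]
  ext n
  simp only [Set.mem_insert_iff, Set.mem_ofPred_eq]
  constructor
  · rintro (rfl | h | h | h) <;> simp_all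
  · rintro (h | h | h)
    · rcases (Nat.dvd_prime (by norm_num : Nat.Prime 7)).1 h with rfl | rfl
      · exact Or.inr (Or.inl (one_dvd _))
      · exact Or.inl rfl
    · exact Or.inr (Or.inl h)
    · exact Or.inr (Or.inr (Or.inl h))

end Cfsg.Agent.S3438
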