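import Cfsg.Statements.S3444
import Cfsg.Agent.Lib.Recog.SemidirectSpectrum

set_option autoImplicit false
open Cfsg

namespace Cfsg.Agent.S3444

/-- A finite group with a non-trivial solvable normal subgroup is not determined by its set of element orders, not even up to finitely many possibilities: for every bound N there is a finite group of order greater than N with exactly the same set of element orders. -/
theorem result {G : Type*} [Group G] [Finite G] (K : Subgroup G) [K.Normal] (hK : K ≠ ⊥)
    (hs : Group.IsSolvable K) (N : ℕ) :
    ∃ (H : Type) (_ : Group H) (_ : Fintype H), N < Fintype.card H ∧ Set.range (orderOf : H → ℕ) = Set.range (orderOf : G → ℕ) := by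
  obtain ⟨V, p, hn, hp, hne, -, hexp⟩ := CfsgLib.Recog.Spectrum.exists_elementary_of_solvable K hK hs
  haveI := hn
  exact CfsgLib.Recog.Spectrum.exists_large V hp hne hexp N

end Cfsg.Agent.S3444
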