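import Cfsg.Statements.S1312
import Cfsg.Agent.Lib.TwoGroups.BenderUnique

set_option autoImplicit false
open Cfsg

namespace Cfsg.Agent.S1312

open Subgroup CfsgLib CfsgLib.Components CfsgLib.TwoGroups.Bender

section
variable {G : Type*} [Group G] [Finite G]

/-- If `F*(M) ≤ N` and `F*(N) ≤ M`, every component of `M` lies in `E(N)`. -/
theorem layer_le_layer (M N : Subgroup G)
    (h1 : (Cfsg.generalizedFittingSubgroup ↥M).map M.subtype ≤ N)
    (h2 : (Cfsg.generalizedFittingSubgroup ↥N).map N.subtype ≤ M) :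
    (Cfsg.layer ↥M).map M.subtype ≤ (Cfsg.layer ↥N).map N.subtype := by
  rw [map_le_iff_le_comap, layer_le_iff]
  intro K hK
  rw [← map_le_iff_le_comap]
  set K' := K.map M.subtype
  set D := M ⊓ N
  have hKN : K' ≤ N := (map_mono (component_le_gFitting hK)).trans h1
  have hKD : K' ≤ D := le_inf (map_subtype_le K) hKN
  have hqs : Cfsg.IsQuasisimple K' := (isQuasisimple_map_iff M.subtype_injective).mpr hK.2
  have hcomp : Cfsg.IsComponent (K'.subgroupOf D) := by
    refine ⟨?_, (isQuasisimple_congr (subgroupOfEquivOfLe hKD)).mpr hqs⟩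
    have h : K'.subgroupOf D = K.comap (inclusion (inf_le_left : D ≤ M)) := by
      ext d
      show (d : G) ∈ K' ↔ inclusion (inf_le_left : D ≤ M) d ∈ K
      refine ⟨?_, fun h => ⟨_, h, rfl⟩⟩
      rintro ⟨k, hk, hkd⟩
      rwa [show inclusion (inf_le_left : D ≤ M) d = k from Subtype.ext hkd.symm]
    rw [h]
    exact hK.1.comap _
  have hnorm : ∀ (X : Subgroup ↥N), X.Normal → X.map N.subtype ≤ M →
      ((X.map N.subtype).subgroupOf D).Normal := fun X hX hXM => by
    haveI := hX
    exact normal_subgroupOf_of_le_normalizer (inf_le_right.trans (le_normalizer_map_subtype X))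
  have hEM : (Cfsg.layer ↥N).map N.subtype ≤ M := (map_mono layer_le_gFitting).trans h2
  have hFM : (Cfsg.fittingSubgroup ↥N).map N.subtype ≤ M := (map_mono fitting_le_gFitting).trans h2
  have hED : (Cfsg.layer ↥N).map N.subtype ≤ D := le_inf hEM (map_subtype_le _)
  have hFD : (Cfsg.fittingSubgroup ↥N).map N.subtype ≤ D := le_inf hFM (map_subtype_le _)
  rcases component_le_or_commutes hcomp (hnorm _ layer_normal hEM).isSubnormal with h | h
  · intro x hx
    exact h (show (⟨x, hKD hx⟩ : D) ∈ K'.subgroupOf D from hx)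
  · exfalso
    have hF : ⁅K'.subgroupOf D, ((Cfsg.fittingSubgroup ↥N).map N.subtype).subgroupOf D⁆ = ⊥ := by
      refine component_commutes_of_solvable_subnormal hcomp (hnorm _ fitting_normal hFM).isSubnormal ?_
      haveI := fitting_isNilpotent (G := ↥N)
      haveI : Group.IsNilpotent (((Cfsg.fittingSubgroup ↥N).map N.subtype).subgroupOf D) :=
        Group.nilpotent_of_surjective
          (((Cfsg.fittingSubgroup ↥N).equivMapOfInjective N.subtype N.subtype_injective).trans
            (subgroupOfEquivOfLe hFD).symm).toMonoidHom (MulEquiv.surjective _)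
      infer_instance
    have hc : K'.subgroupOf N ≤ centralizer (Cfsg.generalizedFittingSubgroup ↥N : Set ↥N) := by
      refine le_centralizer_iff.mpr (sup_le ?_ ?_) <;> intro x hx <;>
        refine mem_centralizer_iff.mpr fun k hk => Subtype.ext ?_
      · exact congrArg (Subtype.val : ↥D → G) (mem_centralizer_iff.mp (commutator_eq_bot_iff_le_centralizer.mp h
          (show (⟨k.1, hKD hk⟩ : D) ∈ K'.subgroupOf D from hk))
          ⟨x.1, hED (mem_map_of_mem _ hx)⟩ (mem_map_of_mem _ hx)).symm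
      · exact congrArg (Subtype.val : ↥D → G) (mem_centralizer_iff.mp (commutator_eq_bot_iff_le_centralizer.mp hF
          (show (⟨k.1, hKD hk⟩ : D) ∈ K'.subgroupOf D from hk))
          ⟨x.1, hFD (mem_map_of_mem _ hx)⟩ (mem_map_of_mem _ hx)).symm
    refine IsQuasisimple.commutator_self_ne_bot hqs (commutator_eq_bot_iff_le_centralizer.mpr
      fun x hx => mem_centralizer_iff.mpr fun y hy => ?_)
    exact congrArg Subtype.val (mem_centralizer_iff.mp (hc (show (⟨x, hKN hx⟩ : ↥N) ∈ K'.subgroupOf N from hx))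
      ⟨y, hKN hy⟩ (centralizer_gFitting_le (hc (show (⟨y, hKN hy⟩ : ↥N) ∈ K'.subgroupOf N from hy))))

/-- The generators: `p`-elements of `M` centralising every `O_r(M)`, `r ≠ p`. -/
def gens (p : ℕ) (M : Subgroup G) : Set G :=
  {k | k ∈ M ∧ (∃ n : ℕ, k ^ p ^ n = 1) ∧
    ∀ r : ℕ, r.Prime → r ≠ p → k ∈ centralizer (part r M : Set G)}

theorem commute_parts {M N : Subgroup G} {p r : ℕ} [Fact p.Prime] [Fact r.Prime] (hne : r ≠ p)
    (hMN : part p M ≤ N) (hNM : part r N ≤ M) {a y : G} (ha : a ∈ part p M) (hy : y ∈ part r N) :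
    a * y = y * a := by
  have h1 : a * y * a⁻¹ * y⁻¹ ∈ part p M := by
    rw [show a * y * a⁻¹ * y⁻¹ = a * (y * a⁻¹ * y⁻¹) by group]
    exact mul_mem ha ((mem_normalizer_iff.mp (le_normalizer_part p M (hNM hy)) _).mp (inv_mem ha))
  have h2 : a * y * a⁻¹ * y⁻¹ ∈ part r N :=
    mul_mem ((mem_normalizer_iff.mp (le_normalizer_part r N (hMN ha)) _).mp hy) (inv_mem hy)
  have h3 : a * y * a⁻¹ * y⁻¹ = 1 := by
    have hd := IsPGroup.disjoint_of_ne p r (Ne.symm hne) _ _ (isPGroup_part p M) (isPGroup_part r N)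
    exact mem_bot.mp (hd.le_bot ⟨h1, h2⟩)
  calc a * y = (a * y * a⁻¹ * y⁻¹) * (y * a) := by group
    _ = y * a := by rw [h3, one_mul]

/-- The key step: `O_r(N)` centralises `gens p M` for `r ≠ p`. -/
theorem gens_commute {M N : Subgroup G} {p r : ℕ} [Fact p.Prime] [hr : Fact r.Prime] (hne : r ≠ p)
    (hM1 : Cfsg.fittingOf M ≤ N) (hN1 : Cfsg.fittingOf N ≤ M) (hE : Cfsg.layer ↥M = ⊥)
    {k y : G} (hk : k ∈ gens p M) (hy : y ∈ part r N) : k * y = y * k := by
  obtain ⟨hkM, ⟨n, hkn⟩, hkc⟩ := hk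
  have hyM : y ∈ M := hN1 (part_le_fittingOf r N hy)
  have hMN : part p M ≤ N := (part_le_fittingOf p M).trans hM1
  have hNM : part r N ≤ M := (part_le_fittingOf r N).trans hN1
  have hyfix : ∀ a ∈ part p M, y⁻¹ * a * y = a := fun a ha => by
    rw [mul_assoc, commute_parts hne hMN hNM ha hy, inv_mul_cancel_left]
  set z := k⁻¹ * (y⁻¹ * k * y)
  have hzM : z ∈ M := mul_mem (inv_mem hkM) (mul_mem (mul_mem (inv_mem hyM) hkM) hyM)
  have hzF : z ∈ centralizer (Cfsg.fittingOf M : Set G) := by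
    refine mem_centralizer_iff.mpr fun f hf => ?_
    have key : Cfsg.fittingOf M ≤ centralizer {z} := le_of_parts le_rfl fun s hs _ => by
      haveI := Fact.mk hs
      rintro a ⟨ha, -⟩
      refine mem_centralizer_singleton_iff.mpr ?_
      by_cases hsp : s = p
      · subst hsp
        have h1 : k * a * k⁻¹ ∈ part s M := (mem_normalizer_iff.mp (le_normalizer_part s M hkM) _).mp ha
        have h2 := hyfix _ h1
        have h3 : y * a = a * y := (commute_parts hne hMN hNM ha hy).symm
        calc a * z = k⁻¹ * (k * a * k⁻¹) * y⁻¹ * k * y := by simp only [z]; group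
          _ = k⁻¹ * (y⁻¹ * (k * a * k⁻¹) * y) * y⁻¹ * k * y := by rw [h2]
          _ = k⁻¹ * y⁻¹ * k * (a * y) := by group
          _ = k⁻¹ * y⁻¹ * k * (y * a) := by rw [h3]
          _ = z * a := by simp only [z]; group
      · have h1 := mem_centralizer_iff.mp (hkc s hs hsp)
        have h2 : y * a * y⁻¹ ∈ part s M := (mem_normalizer_iff.mp (le_normalizer_part s M hyM) _).mp ha
        have c1 : Commute a k := h1 a ha
        have c2 : Commute a (y⁻¹ * k * y) := by
          show a * (y⁻¹ * k * y) = y⁻¹ * k * y * a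
          calc a * (y⁻¹ * k * y) = y⁻¹ * ((y * a * y⁻¹) * k) * y := by group
            _ = y⁻¹ * (k * (y * a * y⁻¹)) * y := by rw [h1 _ h2]
            _ = y⁻¹ * k * y * a := by group
        exact (c1.inv_right.mul_right c2).eq
    exact mem_centralizer_singleton_iff.mp (key hf)
  have hzin : z ∈ Cfsg.fittingOf M := ⟨⟨z, hzM⟩, centralizer_fitting_le_of_layer_eq_bot hE
    (mem_centralizer_iff.mpr fun f hf => Subtype.ext
      (mem_centralizer_iff.mp hzF f.1 (mem_map_of_mem _ hf))), rfl⟩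
  -- split `z` into its `p`-part and the rest
  obtain ⟨i, m, hm, hzo⟩ := Nat.exists_eq_pow_mul_and_not_dvd (orderOf_pos z).ne' p
    (Fact.out : p.Prime).ne_one
  obtain ⟨u, v, huv⟩ : ∃ u v : ℤ, (m : ℤ) * u + ((p ^ i : ℕ) : ℤ) * v = 1 := by
    refine ⟨Nat.gcdA m (p ^ i), Nat.gcdB m (p ^ i), ?_⟩
    rw [← Nat.gcd_eq_gcd_ab]
    exact_mod_cast ((((Fact.out : p.Prime).coprime_iff_not_dvd.mpr hm).pow_left i).symm :
      m.Coprime (p ^ i))
  set a := (z ^ m) ^ u
  set b := (z ^ p ^ i) ^ v
  have hab : z = a * b := by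
    simp only [a, b, ← zpow_natCast, ← zpow_mul, ← zpow_add, huv, zpow_one]
  have ha : a ∈ part p M := by
    refine Subgroup.zpow_mem _ ?_ u
    obtain ⟨l, -, hl⟩ := (Nat.dvd_prime_pow Fact.out).mp (orderOf_dvd_of_pow_eq_one
      (show (z ^ m) ^ p ^ i = 1 by rw [← pow_mul, mul_comm, ← hzo, pow_orderOf_eq_one]))
    exact mem_part_of_mem (pow_mem hzin m) hl
  have hbm : b ^ m = 1 := by
    simp only [b, ← zpow_natCast, ← zpow_mul]
    rw [show ((p ^ i : ℕ) : ℤ) * v * (m : ℤ) = ((p ^ i * m : ℕ) : ℤ) * v by push_cast; ring,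
      zpow_mul, zpow_natCast, ← hzo, pow_orderOf_eq_one, one_zpow]
  have hbF : b ∈ Cfsg.fittingOf M := Subgroup.zpow_mem _ (pow_mem hzin _) v
  have hkb : Commute k b := by
    have key : zpowers b ≤ centralizer {k} := by
      refine le_of_parts (zpowers_le.mpr hbF) fun s hs hd => ?_
      have hsp : s ≠ p := by
        rintro rfl
        rw [Nat.card_zpowers] at hd
        exact hm (hd.trans (orderOf_dvd_of_pow_eq_one hbm))
      exact fun w hw => mem_centralizer_singleton_iff.mpr (mem_centralizer_iff.mp (hkc s hs hsp) w hw.1)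
    exact (mem_centralizer_singleton_iff.mp (key (mem_zpowers b))).symm
  have hab' : Commute a b := ((Commute.refl z).pow_pow _ _).zpow_zpow _ _
  -- `k a` is a `p`-element
  have hka : ∀ j : ℕ, (k * a) ^ j * (k ^ j)⁻¹ ∈ part p M := by
    intro j
    induction j with
    | zero => simp
    | succ j ih =>
      have h1 : k * ((k * a) ^ j * (k ^ j)⁻¹) * k⁻¹ ∈ part p M :=
        (mem_normalizer_iff.mp (le_normalizer_part p M hkM) _).mp ih
      have h2 : k * a * k⁻¹ ∈ part p M := (mem_normalizer_iff.mp (le_normalizer_part p M hkM) _).mp ha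
      have h3 : (k * a) ^ (j + 1) * (k ^ (j + 1))⁻¹ =
          k * a * k⁻¹ * (k * ((k * a) ^ j * (k ^ j)⁻¹) * k⁻¹) := by
        rw [pow_succ' (k * a), pow_succ k j]; simp only [mul_inv_rev]
        group
      rw [h3]
      exact mul_mem h2 h1
  obtain ⟨N', hN'⟩ : ∃ N', (k * a) ^ p ^ N' = 1 := by
    have h1 := hka (p ^ n)
    rw [hkn, inv_one, mul_one] at h1
    obtain ⟨l, hl⟩ := isPGroup_part p M ⟨_, h1⟩
    exact ⟨n + l, by rw [pow_add, pow_mul]; exact congrArg Subtype.val hl⟩
  have hconj : y⁻¹ * k * y = k * a * b := by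
    rw [mul_assoc k a b, ← hab]; simp only [z]; group
  have hb : b = 1 := by
    have hpow : (k * a * b) ^ p ^ (max n N') = 1 := by
      rw [← hconj]
      have := conj_pow (a := y⁻¹) (b := k) (i := p ^ (max n N'))
      rw [inv_inv] at this
      rw [this, ← Nat.add_sub_of_le (le_max_left n N'), pow_add, pow_mul, hkn, one_pow, mul_one,
        inv_mul_cancel]
    rw [(hkb.mul_left hab').mul_pow] at hpow
    rw [show p ^ (max n N') = p ^ N' * p ^ (max n N' - N') by rw [← pow_add, Nat.add_sub_of_le (le_max_right n N')],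
      pow_mul (k * a), hN', one_pow, one_mul, ← pow_add, Nat.add_sub_of_le (le_max_right n N')] at hpow
    exact orderOf_eq_one_iff.mp (Nat.eq_one_of_dvd_coprimes
      (((Fact.out : p.Prime).coprime_iff_not_dvd.mpr hm).pow_left _)
      (orderOf_dvd_of_pow_eq_one hpow) (orderOf_dvd_of_pow_eq_one hbm))
  rw [hb, mul_one] at hconj
  have hiter : ∀ j : ℕ, (y ^ j)⁻¹ * k * y ^ j = k * a ^ j := by
    intro j
    induction j with
    | zero => simp
    | succ j ih =>
      calc (y ^ (j + 1))⁻¹ * k * y ^ (j + 1) = y⁻¹ * ((y ^ j)⁻¹ * k * y ^ j) * y := by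
            rw [pow_succ]; group
        _ = (y⁻¹ * k * y) * (y⁻¹ * a ^ j * y) := by rw [ih]; group
        _ = k * a * a ^ j := by rw [hconj, hyfix _ (pow_mem ha j)]
        _ = k * a ^ (j + 1) := by rw [mul_assoc, ← pow_succ']
  obtain ⟨l, hl⟩ := isPGroup_part r N ⟨y, hy⟩
  have hl' : y ^ r ^ l = 1 := congrArg Subtype.val hl
  have har : a ^ r ^ l = 1 := by
    have := hiter (r ^ l)
    rw [hl', inv_one, one_mul, mul_one] at this
    exact (left_eq_mul.mp this)
  obtain ⟨e, he⟩ := isPGroup_part p M ⟨a, ha⟩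
  have ha1 : a = 1 := orderOf_eq_one_iff.mp (Nat.eq_one_of_dvd_coprimes
    (((Nat.coprime_primes hr.out Fact.out).mpr hne).pow l e)
    (orderOf_dvd_of_pow_eq_one har) (orderOf_dvd_of_pow_eq_one (congrArg Subtype.val he)))
  rw [ha1, mul_one] at hconj
  calc k * y = y * (y⁻¹ * k * y) := by group
    _ = y * k := by rw [hconj]

end

/-- Let G be a non-abelian finite simple group and M ≠ N maximal subgroups of G with F*(M) ≤ N and F*(N) ≤ M. Then there is a prime p such that F*(M) and F*(N) are both p-groups. -/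
theorem result {G : Type*} [Group G] [Finite G] [IsSimpleGroup G] (hna : ¬ IsMulCommutative G) (M N : Subgroup G) (hM : IsCoatom M) (hN : IsCoatom N) (hMN : M ≠ N) (h1 : (Cfsg.generalizedFittingSubgroup ↥M).map M.subtype ≤ N) (h2 : (Cfsg.generalizedFittingSubgroup ↥N).map N.subtype ≤ M) : ∃ p : ℕ, p.Prime ∧ IsPGroup p ↥(Cfsg.generalizedFittingSubgroup ↥M) ∧ IsPGroup p ↥(Cfsg.generalizedFittingSubgroup ↥N) := by
  haveI : Nontrivial G := IsSimpleGroup.toNontrivial
  -- no nontrivial subgroup is normalised by both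
  have hno : ∀ X : Subgroup G, X ≤ M → M ≤ normalizer (X : Set G) → N ≤ normalizer (X : Set G) →
      X = ⊥ := by
    intro X hX hXM hXN
    have htop : normalizer (X : Set G) = ⊤ := by
      by_contra hne
      have e : M = normalizer (X : Set G) := hXM.eq_of_not_lt fun h => hne (hM.2 _ h)
      have e' : N = normalizer (X : Set G) := hXN.eq_of_not_lt fun h => hne (hN.2 _ h)
      exact hMN (e.trans e'.symm)
    rcases IsSimpleGroup.eq_bot_or_eq_top_of_normal X (normalizer_eq_top_iff.mp htop) with h | h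
    · exact h
    · exact absurd (top_le_iff.mp (h ▸ hX)) hM.1
  have hEeq : (Cfsg.layer ↥M).map M.subtype = (Cfsg.layer ↥N).map N.subtype :=
    le_antisymm (layer_le_layer M N h1 h2) (layer_le_layer N M h2 h1)
  have hEb : (Cfsg.layer ↥M).map M.subtype = ⊥ := by
    haveI := layer_normal (G := ↥M)
    haveI := layer_normal (G := ↥N)
    exact hno _ (map_subtype_le _) (le_normalizer_map_subtype _)
      (hEeq ▸ le_normalizer_map_subtype _)
  have hEM : Cfsg.layer ↥M = ⊥ := (map_eq_bot_iff_of_injective _ M.subtype_injective).mp hEb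
  have hEN : Cfsg.layer ↥N = ⊥ :=
    (map_eq_bot_iff_of_injective _ N.subtype_injective).mp (hEeq ▸ hEb)
  have hFM : Cfsg.generalizedFittingSubgroup ↥M = Cfsg.fittingSubgroup ↥M := gFitting_eq_fitting_iff.mpr hEM
  have hFN : Cfsg.generalizedFittingSubgroup ↥N = Cfsg.fittingSubgroup ↥N := gFitting_eq_fitting_iff.mpr hEN
  rw [hFM] at h1 ⊢
  rw [hFN] at h2 ⊢
  change Cfsg.fittingOf M ≤ N at h1
  change Cfsg.fittingOf N ≤ M at h2
  -- centralisers of the parts
  have hcen : ∀ (M' : Subgroup G), IsCoatom M' → ∀ (r : ℕ) [Fact r.Prime], part r M' ≠ ⊥ →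
      centralizer (part r M' : Set G) ≤ M' := by
    intro M' hM' r _ hne
    refine (centralizer_le_normalizer _).trans (le_of_eq ?_)
    refine ((le_normalizer_part r M').eq_of_not_lt fun h => ?_).symm
    rcases IsSimpleGroup.eq_bot_or_eq_top_of_normal _ (normalizer_eq_top_iff.mp (hM'.2 _ h)) with h' | h'
    · exact hne h'
    · exact hM'.1 (top_le_iff.mp (h'.ge.trans (part_le r M')))
  have hpg : ∀ (M' : Subgroup G) (p : ℕ) [Fact p.Prime],
      (∀ r : ℕ, r.Prime → r ≠ p → part r M' = ⊥) → IsPGroup p ↥(Cfsg.fittingSubgroup ↥M') := by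
    intro M' p _ h
    refine IsPGroup.of_equiv (G := ↥(Cfsg.fittingOf M')) ((isPGroup_part p M').to_le
      (le_of_parts le_rfl fun r hr _ => ?_))
      ((Cfsg.fittingSubgroup ↥M').equivMapOfInjective M'.subtype M'.subtype_injective).symm
    by_cases hrp : r = p
    · exact hrp ▸ inf_le_left
    · rw [h r hr hrp]; exact inf_le_left.trans bot_le
  obtain ⟨p, hp, hpM⟩ : ∃ p : ℕ, p.Prime ∧ part p M ≠ ⊥ := by
    by_contra hcon
    push Not at hcon
    have hb : Cfsg.fittingOf M ≤ ⊥ :=
      le_of_parts le_rfl fun r hr _ => inf_le_left.trans (hcon r hr).le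
    have hMne : Nontrivial ↥M := by
      refine (nontrivial_iff_ne_bot M).mpr fun hb' => hna ?_
      obtain ⟨g, hg⟩ := exists_ne (1 : G)
      have htop : zpowers g = ⊤ := by
        refine hM.2 _ (hb'.le.trans bot_le |>.lt_of_ne fun e => ?_)
        rw [hb'] at e
        exact hg (mem_bot.mp (e ▸ mem_zpowers g))
      haveI : IsCyclic G := ⟨g, fun x => by rw [← mem_zpowers_iff, htop]; exact mem_top x⟩
      exact IsCyclic.commutative (α := G)
    exact gFitting_ne_bot (G := ↥M) (hFM.trans ((map_eq_bot_iff_of_injective _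
      M.subtype_injective).mp (le_bot_iff.mp hb)))
  haveI := Fact.mk hp
  refine ⟨p, hp, ?_⟩
  by_cases hNp : ∀ r : ℕ, r.Prime → r ≠ p → part r N = ⊥
  · refine ⟨hpg M p fun q hq hqp => ?_, hpg N p hNp⟩
    haveI := Fact.mk hq
    have hle : part q M ≤ Cfsg.fittingOf N := by
      intro x hx
      have hxN : x ∈ N := h1 (part_le_fittingOf q M hx)
      refine ⟨⟨x, hxN⟩, centralizer_fitting_le_of_layer_eq_bot hEN (mem_centralizer_iff.mpr
        fun f hf => Subtype.ext ?_), rfl⟩
      have hfp : f.1 ∈ part p N := (le_of_parts le_rfl fun r hr _ => by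
        by_cases hrp : r = p
        · exact hrp ▸ inf_le_left
        · rw [hNp r hr hrp]; exact inf_le_left.trans bot_le) (mem_map_of_mem _ hf)
      exact (commute_parts (Ne.symm hqp) ((part_le_fittingOf q M).trans h1)
        ((part_le_fittingOf p N).trans h2) hx hfp).symm
    rw [← le_bot_iff]
    intro x hx
    have hxp : x ∈ part p N := (le_of_parts le_rfl fun r hr _ => by
      by_cases hrp : r = p
      · exact hrp ▸ inf_le_left
      · rw [hNp r hr hrp]; exact inf_le_left.trans bot_le) (hle hx)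
    exact (IsPGroup.disjoint_of_ne q p hqp _ _ (isPGroup_part q M) (isPGroup_part p N)).le_bot ⟨hx, hxp⟩
  exfalso
  have hex : ∀ {K L : Subgroup G}, Cfsg.fittingOf K ≤ L → Cfsg.fittingOf L ≤ K →
      Cfsg.layer ↥K = ⊥ → IsCoatom L → (∃ r : ℕ, r.Prime ∧ r ≠ p ∧ part r L ≠ ⊥) →
      closure (gens p K) ≤ closure (gens p L) := by
    rintro K L hK1 hL1 hE hL ⟨r0, hr0, hr0p, hne⟩
    refine (closure_le _).mpr fun k hk => subset_closure ?_
    have hc : ∀ r : ℕ, r.Prime → r ≠ p → k ∈ centralizer (part r L : Set G) := fun r hr hrp => by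
      haveI := Fact.mk hr
      exact mem_centralizer_iff.mpr fun y hy => (gens_commute hrp hK1 hL1 hE hk hy).symm
    haveI := Fact.mk hr0
    exact ⟨hcen L hL r0 hne (hc r0 hr0 hr0p), hk.2.1, hc⟩
  obtain ⟨r, hr, hrp, hrN⟩ : ∃ r : ℕ, r.Prime ∧ r ≠ p ∧ part r N ≠ ⊥ := by
    by_contra hcon
    exact hNp fun r hr hrp => by
      by_contra h
      exact hcon ⟨r, hr, hrp, h⟩
  have hnorm : ∀ K : Subgroup G, K ≤ normalizer (closure (gens p K) : Set G) := by
    intro K g hg
    have hinv : ∀ c ∈ K, closure (gens p K) ≤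
        (closure (gens p K)).comap (MulAut.conj c).toMonoidHom := by
      intro c hc
      refine (closure_le _).mpr fun x hx => subset_closure ?_
      obtain ⟨hxK, ⟨n, hn⟩, hxc⟩ := hx
      refine ⟨mul_mem (mul_mem hc hxK) (inv_mem hc), ⟨n, ?_⟩, fun s hs hsp => ?_⟩
      · show (c * x * c⁻¹) ^ p ^ n = 1
        rw [conj_pow, hn, mul_one, mul_inv_cancel]
      · haveI := Fact.mk hs
        refine mem_centralizer_iff.mpr fun a ha => ?_
        have h' : c⁻¹ * a * c ∈ part s K := by
          simpa using (mem_normalizer_iff.mp (le_normalizer_part s K (inv_mem hc)) _).mp ha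
        show a * (c * x * c⁻¹) = c * x * c⁻¹ * a
        calc a * (c * x * c⁻¹) = c * ((c⁻¹ * a * c) * x) * c⁻¹ := by group
          _ = c * (x * (c⁻¹ * a * c)) * c⁻¹ := by rw [mem_centralizer_iff.mp (hxc s hs hsp) _ h']
          _ = c * x * c⁻¹ * a := by group
    refine mem_normalizer_iff.mpr fun x => ⟨fun hx => hinv g hg hx, fun hx => ?_⟩
    have h2 : g⁻¹ * (g * x * g⁻¹) * g⁻¹⁻¹ ∈ closure (gens p K) := hinv g⁻¹ (inv_mem hg) hx
    rwa [show g⁻¹ * (g * x * g⁻¹) * g⁻¹⁻¹ = x by group] at h2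
  by_cases hMr : ∃ r : ℕ, r.Prime ∧ r ≠ p ∧ part r M ≠ ⊥
  · have heq : closure (gens p M) = closure (gens p N) :=
      le_antisymm (hex h1 h2 hEM hN ⟨r, hr, hrp, hrN⟩) (hex h2 h1 hEN hM hMr)
    refine hpM (le_bot_iff.mp ?_)
    rw [← hno _ ((closure_le _).mpr fun k hk => hk.1) (hnorm M) (heq ▸ hnorm N)]
    intro a ha
    refine subset_closure ⟨part_le p M ha, ?_, fun s hs hsp => ?_⟩
    · obtain ⟨n, hn⟩ := isPGroup_part p M ⟨a, ha⟩
      exact ⟨n, congrArg Subtype.val hn⟩
    · haveI := Fact.mk hs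
      exact mem_centralizer_iff.mpr fun b hb => commute_parts (Ne.symm hsp)
        ((part_le s M)) ((part_le p M)) hb ha
  · -- `F(M)` is a `p`-group, so `O_r(N)` would lie in it
    haveI := Fact.mk hr
    push Not at hMr
    have hFp : Cfsg.fittingOf M ≤ part p M := le_of_parts le_rfl fun s hs _ => by
      by_cases hsp : s = p
      · exact hsp ▸ inf_le_left
      · rw [hMr s hs hsp]; exact inf_le_left.trans bot_le
    refine hrN (le_bot_iff.mp fun y hy => ?_)
    have hyM : y ∈ M := h2 (part_le_fittingOf r N hy)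
    have hyF : y ∈ Cfsg.fittingOf M := ⟨⟨y, hyM⟩, centralizer_fitting_le_of_layer_eq_bot hEM
      (mem_centralizer_iff.mpr fun f hf => Subtype.ext
        (commute_parts hrp ((part_le_fittingOf p M).trans h1) ((part_le_fittingOf r N).trans h2)
          (hFp (mem_map_of_mem _ hf)) hy)), rfl⟩
    exact (IsPGroup.disjoint_of_ne p r (Ne.symm hrp) _ _ (isPGroup_part p M)
      (isPGroup_part r N)).le_bot ⟨hFp hyF, hy⟩

end Cfsg.Agent.S1312
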