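import Cfsg.Statements.S0034
import Cfsg.Agent.Lib.Char.Frobenius
import Cfsg.Agent.Lib.Core.Basic

set_option linter.all false

set_option autoImplicit false
open Cfsg
open Pointwise

namespace Cfsg.Agent.S0034

/-- For a Frobenius complement H, the set of elements lying in no conjugate of H, together with 1, has exactly as many elements as the index of H, and that index is congruent to 1 modulo the order of H. -/
theorem result {G : Type*} [Group G] [Finite G] (H : Subgroup G) (hH : Cfsg.IsFrobeniusComplement H) :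
    Nat.card (Cfsg.frobeniusKernel H) = H.index ∧ H.index % Nat.card H = 1 % Nat.card H := by
  classical
  haveI := Fintype.ofFinite G
  refine ⟨CfsgLib.Frobenius.card_frobeniusKernel hH, ?_⟩
  let S : SubMulAction H (G ⧸ H) :=
    { carrier := {q | q ≠ ((1 : G) : G ⧸ H)}
      smul_mem' := fun h q hq hc => hq (by
        have hh : (h : H)⁻¹ • ((1 : G) : G ⧸ H) = ((1 : G) : G ⧸ H) := by
          show (((h⁻¹ : H) : G) * 1 : G) = (((1 : G) : G ⧸ H))
          rw [mul_one, QuotientGroup.eq, mul_one]
          exact H.inv_mem (h⁻¹ : H).2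
        rw [← inv_smul_smul h q, hc, hh]) }
  have hfree : ∀ q : S, MulAction.stabilizer H q = ⊥ := by
    rintro ⟨q, hq⟩
    obtain ⟨g, rfl⟩ := QuotientGroup.mk_surjective q
    rw [eq_bot_iff]
    intro h hh
    have h1 : ((h : G) * g : G) = ((g : G) : G ⧸ H) :=
      congrArg Subtype.val (MulAction.mem_stabilizer_iff.mp hh)
    have hg : g ∉ H := fun hg => hq (QuotientGroup.eq.mpr (by simpa using hg))
    have h2 : (h : G) ∈ H ⊓ MulAut.conj g • H := by
      refine ⟨h.2, CfsgLib.Core.mem_conj_smul_iff.mpr ?_⟩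
      rw [QuotientGroup.eq] at h1
      have := H.inv_mem h1
      simpa [mul_assoc] using this
    rw [hH.2.2 g hg, Subgroup.mem_bot] at h2
    exact Subgroup.mem_bot.mpr (Subtype.ext h2)
  have hS : Nat.card S + 1 = H.index := by
    rw [Subgroup.index_eq_card]
    letI := Fintype.ofFinite (G ⧸ H)
    show Nat.card {q : G ⧸ H // q ≠ ((1 : G) : G ⧸ H)} + 1 = _
    rw [Nat.card_eq_fintype_card, Nat.card_eq_fintype_card, Fintype.card_subtype_compl,
      Fintype.card_subtype_eq]
    have := Fintype.card_pos_iff.mpr ⟨((1 : G) : G ⧸ H)⟩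
    omega
  have hdvd : Nat.card H ∣ Nat.card S := by
    rw [Nat.card_congr (MulAction.selfEquivOrbitsQuotientProd hfree), Nat.card_prod]
    exact dvd_mul_left _ _
  obtain ⟨k, hk⟩ := hdvd
  rw [← hS, hk, add_comm, Nat.add_mul_mod_self_left]

end Cfsg.Agent.S0034
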