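import Cfsg.Statements.S0346
import Cfsg.Agent.Lib.Perm.ZassenhausKernelBound
import Cfsg.Agent.Lib.Perm.ZassenhausSimpleTorus
import Cfsg.Agent.Lib.Perm.ZassenhausPSL
import Cfsg.Agent.Lib.Perm.ZassenhausPSLOdd
import Cfsg.Agent.Lib.Perm.ZassenhausAbelianSimple

set_option autoImplicit false
open Cfsg

namespace Cfsg.Agent.S0346

open CfsgLib.Perm CfsgLib.Char.Exceptional

/-- The number of points of a finite simple Zassenhaus group is `p^k + 1` for some prime power `p^k` (the regular normal
subgroup of a point stabiliser is a `p`-group). -/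
theorem result {G Ω : Type*} [Group G] [Finite G] [MulAction G Ω] [Fintype Ω]
    (hZ : Cfsg.IsZassenhausGroup G Ω) [IsSimpleGroup G] :
    IsPrimePow (Fintype.card Ω - 1) := by
  classical
  have h3 := zass_three_le hZ
  haveI : Nontrivial Ω := Fintype.one_lt_card_iff_nontrivial.1 (by omega)
  obtain ⟨a, b, hab⟩ := exists_pair_ne Ω
  set E := (MulAction.stabilizer G a ⊓ MulAction.stabilizer G b : Subgroup G) with hE
  have hpow : ∀ p f : ℕ, p.Prime → Fintype.card Ω = p ^ f + 1 →
      IsPrimePow (Fintype.card Ω - 1) := by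
    intro p f hp hcard
    rw [hcard, Nat.add_sub_cancel]
    refine (isPrimePow_pow_iff fun hf => ?_).2 hp.isPrimePow
    rw [hf, pow_zero] at hcard
    omega
  rcases Nat.even_or_odd (Nat.card E) with heven | hodd
  · obtain ⟨p, f, F, _, _, hp, -, -, hcard, -⟩ :=
      iso_psl_of_half hZ hab heven (zass_simple_even_half hZ hab heven)
    exact hpow p f hp hcard
  obtain ⟨H, hHa, hHcard, hHfix, -⟩ := zass_exists_kernel hZ hab
  obtain ⟨k, hk⟩ := zass_card_two_stab_dvd hZ hab
  rw [← hE] at hk
  have hH2 : 2 ≤ Nat.card H := by omega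
  have hpgroup : ∀ p : ℕ, p.Prime → IsPGroup p H → IsPrimePow (Fintype.card Ω - 1) := by
    intro p hp hP
    haveI := Fact.mk hp
    obtain ⟨m, hm⟩ := IsPGroup.iff_card.1 hP
    exact hpow p m hp (by rw [← hm, hHcard])
  haveI := Fintype.ofFinite G
  rcases zass_kernel_bound hZ hab hodd hHa hHcard hHfix with hb | ⟨h2, -, -⟩
  swap
  · exact hpgroup 2 Nat.prime_two h2
  rw [← hE, hk] at hb
  have hepos : 0 < Nat.card E := Nat.card_pos
  have hk2 : k ≤ 2 := Nat.le_of_mul_le_mul_left (by rw [mul_comm (Nat.card E) 2]; exact hb) hepos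
  rcases k with _ | _ | _ | k
  · omega
  · -- the two-point stabiliser is transitive on the kernel
    rw [Nat.zero_add, mul_one] at hk
    have hnorm := zass_kernel_normalizer hZ hHa hHcard hHfix
    obtain ⟨p, hp, hpdvd⟩ := Nat.exists_prime_and_dvd (show Nat.card H ≠ 1 by omega)
    haveI := Fact.mk hp
    obtain ⟨u, hu⟩ := exists_prime_orderOf_dvd_card' p hpdvd
    have hu1 : (u : G) ≠ 1 := fun h => by
      rw [show u = 1 from Subtype.ext h, orderOf_one] at hu
      exact hp.one_lt.ne hu
    have hmem : ∀ x : E, (x : G) * u * (x : G)⁻¹ ∈ H := fun x =>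
      (Subgroup.mem_set_normalizer_iff.1 (hnorm.ge x.2.1) u).1 u.2
    let F : E → {y : H // y ≠ 1} := fun x => ⟨⟨_, hmem x⟩, fun h =>
      hu1 (conj_eq_one_iff.1 (congrArg Subtype.val h))⟩
    have hF : Function.Injective F := by
      intro x y h
      have h' : (x : G) * u * (x : G)⁻¹ = (y : G) * u * (y : G)⁻¹ :=
        congrArg (fun z : {z : H // z ≠ 1} => ((z : H) : G)) h
      set z := (y : G)⁻¹ * x with hz
      have hzE : z ∈ E := mul_mem (inv_mem y.2) x.2
      have hzu : z * u = u * z := by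
        calc z * u = (y : G)⁻¹ * ((x : G) * u * (x : G)⁻¹) * x := by rw [hz]; group
          _ = u * z := by rw [h', hz]; group
      by_contra hne
      have hz1 : z ≠ 1 := fun e => hne (Subtype.ext (inv_mul_eq_one.1 e).symm)
      rcases zass_fix_two hZ hz1 hab hzE.1 hzE.2 (c := (u : G) • b)
          (by rw [← mul_smul, hzu, mul_smul, show z • b = b from hzE.2]) with h1 | h1
      · exact hab (MulAction.injective (u : G) ((hHa u.2 : (u : G) • a = a).trans h1.symm))
      · exact hab (hHfix u u.2 hu1 b h1).symm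
    have hsurj : Function.Surjective F := by
      refine (hF.bijective_of_nat_card_le ?_).2
      have h1 := Nat.card_congr (Equiv.sumCompl (fun x : H => x = 1))
      rw [Nat.card_sum, Nat.card_unique] at h1
      show Nat.card {x : H // ¬x = 1} ≤ Nat.card E
      omega
    refine hpgroup p hp fun v => ?_
    by_cases hv : v = 1
    · exact ⟨0, by rw [hv, one_pow]⟩
    obtain ⟨x, hx⟩ := hsurj ⟨v, hv⟩
    refine ⟨1, Subtype.ext ?_⟩
    have hx' : (x : G) * u * (x : G)⁻¹ = v := congrArg (fun z : {z : H // z ≠ 1} => ((z : H) : G)) hx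
    rw [Subgroup.coe_pow, pow_one, ← hx', conj_pow, ← Subgroup.coe_pow, ← hu, pow_orderOf_eq_one]
    simp
  · obtain ⟨p, f, F, _, _, hp, -, -, hcard, -⟩ := iso_psl_of_half_odd hZ hab hodd (by
      change 2 * Nat.card E + 2 = _
      omega)
    exact hpow p f hp hcard
  · omega

end Cfsg.Agent.S0346
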