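import Cfsg.Statements.S1237
import Mathlib
import Cfsg.Agent.Lib.PGroups.Suzuki.RankTwo
import Cfsg.Agent.Lib.PGroups.Suzuki.Unitary

set_option autoImplicit false
open Cfsg

namespace Cfsg.Agent.S1237

open CfsgLib.Classical CfsgLib.Classical.Herm CfsgLib.PGroups.Suzuki

/-- Let T be a finite 2-group of 2-rank exactly 2 (it has a Klein four-subgroup but no elementary abelian subgroup of order 8) admitting an automorphism φ such that any two involutions of T are carried to one another by a power of φ. Then T ≅ Z_{2^n} × Z_{2^n} for some n ≥ 1, or T is isomorphic to a Sylow 2-subgroup of PSU(3) over the field with 16 elements. -/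
theorem result {T : Type*} [Group T] [Finite T] (hT : IsPGroup 2 T) (h2 : Cfsg.PRankLE 2 2 T) (h1 : ¬ Cfsg.PRankLE 2 1 T) (φ : MulAut T) (htrans : ∀ s t : T, orderOf s = 2 → orderOf t = 2 → ∃ k : ℕ, (φ ^ k) s = t) {F : Type*} [Field F] [Fintype F] (hF : Fintype.card F = 16) (P : Sylow 2 (Cfsg.PSU 3 F 4)) : (∃ n : ℕ, 1 ≤ n ∧ Nonempty (T ≃* Multiplicative (ZMod (2 ^ n) × ZMod (2 ^ n)))) ∨ Nonempty (T ≃* (P : Subgroup (Cfsg.PSU 3 F 4))) := by
  obtain ⟨D⟩ := RankTwo.exists_data hT h2 h1 φ htrans
  by_cases hab : IsMulCommutative T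
  · haveI := hab
    exact Or.inl (RankTwo.homocyclic D mul_comm')
  · right
    have hF' : Fintype.card F = (2 ^ 2) ^ 2 := by rw [hF]; norm_num
    haveI := Unitary.charP_two (by norm_num : 1 ≤ 2) hF'
    have hX : Nonempty (Unitary.Param (powHom hF') ↥(P : Subgroup (Cfsg.PSU 3 F 4))) :=
      Unitary.exists_param (n := 2) (by norm_num) hF' P
    obtain ⟨X⟩ := hX
    have hσ := powHom_isInvol hF'
    have hq := card_fixed_powHom hF'
    have hFc : Nat.card F = (2 ^ 2) ^ 2 := by rw [Nat.card_eq_fintype_card, hF']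
    have hU : Nat.card P = 64 := by
      rw [← Nat.card_congr X.el, Unitary.card_pts hσ hq hFc]
      norm_num
    obtain ⟨m, D', hna'⟩ := exists_data (X.isSuzukiTwoGroup hσ le_rfl hq hFc)
    have hm : m = 2 := by
      have hc := (congrArg (fun H : Subgroup _ => Nat.card H) (CfsgLib.PGroups.Suzuki.center_eq D' hna')).trans D'.card_ω
      rw [X.card_center hσ hq] at hc
      exact (Nat.pow_right_injective le_rfl hc).symm
    subst hm
    obtain ⟨_, _, _, _, _, _, G₁⟩ := RankTwo.exists_gens D hab (RankTwo.card_eq_sixty_four D hab)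
    obtain ⟨_, _, _, _, _, _, G₂⟩ := RankTwo.exists_gens D' hna' hU
    exact RankTwo.nonempty_mulEquiv (RankTwo.card_eq_sixty_four D hab) hU G₁ G₂

end Cfsg.Agent.S1237
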