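import Cfsg.Statements.S1248
import Mathlib
import Cfsg.Agent.Lib.PGroups.Suzuki.Unitary

set_option autoImplicit false
open Cfsg

namespace Cfsg.Agent.S1248

open CfsgLib.Classical CfsgLib.Classical.Herm CfsgLib.PGroups.Suzuki

/-- Let F be a field with 16 elements and S a Sylow 2-subgroup of PSU(3) over F (the unitary group U₃(4)). Then |S| = 64; the centre Z(S) is a Klein four-group and coincides with the subgroup generated by the involutions of S and with the derived subgroup; and every element of S ⧸ Z(S) squares to the identity, S ⧸ Z(S) having order 16. -/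
theorem result {F : Type*} [Field F] [Fintype F] (hF : Fintype.card F = 16) (S : Sylow 2 (Cfsg.PSU 3 F 4)) : Nat.card S = 64 ∧ IsKleinFour (Subgroup.center (S : Subgroup (Cfsg.PSU 3 F 4))) ∧ Subgroup.center (S : Subgroup (Cfsg.PSU 3 F 4)) = Subgroup.closure {x : (S : Subgroup (Cfsg.PSU 3 F 4)) | orderOf x = 2} ∧ Subgroup.center (S : Subgroup (Cfsg.PSU 3 F 4)) = commutator (S : Subgroup (Cfsg.PSU 3 F 4)) ∧ Nat.card ((S : Subgroup (Cfsg.PSU 3 F 4)) ⧸ Subgroup.center (S : Subgroup (Cfsg.PSU 3 F 4))) = 16 ∧ ∀ x : (S : Subgroup (Cfsg.PSU 3 F 4)) ⧸ Subgroup.center (S : Subgroup (Cfsg.PSU 3 F 4)), x ^ 2 = 1 := by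
  have hF' : Fintype.card F = (2 ^ 2) ^ 2 := by rw [hF]; norm_num
  haveI := Unitary.charP_two (by norm_num : 1 ≤ 2) hF'
  have h4 : Nonempty (Unitary.Param (powHom hF') ↥(S : Subgroup (Cfsg.PSU 3 F 4))) :=
    Unitary.exists_param (n := 2) (by norm_num) hF' S
  obtain ⟨X⟩ := h4
  have hσ := powHom_isInvol hF'
  have hq := card_fixed_powHom hF'
  have hFc : Nat.card F = (2 ^ 2) ^ 2 := by rw [Nat.card_eq_fintype_card, hF']
  have hS : Nat.card S = 64 := by
    rw [← Nat.card_congr X.el, Unitary.card_pts hσ hq hFc]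
    norm_num
  have hC : Nat.card (Subgroup.center (S : Subgroup (Cfsg.PSU 3 F 4))) = 4 := by
    rw [X.card_center hσ hq]
    norm_num
  have hsq := X.mem_center_iff_sq hσ
  have hzsq : ∀ z : Subgroup.center (S : Subgroup (Cfsg.PSU 3 F 4)), z ^ 2 = 1 := fun z => by
    refine Subtype.ext ?_
    rw [pow_two]
    exact (hsq z.1).mp z.2
  refine ⟨hS, ⟨hC, ?_⟩, ?_, (X.commutator_eq hσ).symm, ?_, ?_⟩
  · haveI : Nontrivial (Subgroup.center (S : Subgroup (Cfsg.PSU 3 F 4))) :=
      Finite.one_lt_card_iff_nontrivial.mp (by rw [hC]; norm_num)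
    refine (Nat.dvd_prime Nat.prime_two).mp (Monoid.exponent_dvd_of_forall_pow_eq_one hzsq)
      |>.resolve_left fun h => ?_
    rw [Monoid.exp_eq_one_iff] at h
    exact not_subsingleton (Subgroup.center (S : Subgroup (Cfsg.PSU 3 F 4))) h
  · refine le_antisymm (fun z hz => ?_) ((Subgroup.closure_le _).mpr fun z hz => (hsq z).mpr ?_)
    · by_cases h1 : z = 1
      · rw [h1]; exact one_mem _
      · exact Subgroup.subset_closure (orderOf_eq_prime (by rw [pow_two]; exact (hsq z).mp hz) h1)
    · have h := pow_orderOf_eq_one z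
      rwa [(hz : orderOf z = 2), pow_two] at h
  · have h := Subgroup.card_eq_card_quotient_mul_card_subgroup
      (Subgroup.center (S : Subgroup (Cfsg.PSU 3 F 4)))
    rw [hC, hS] at h
    omega
  · intro x
    induction x using QuotientGroup.induction_on with
    | _ g =>
      rw [← QuotientGroup.mk_pow, QuotientGroup.eq_one_iff, pow_two]
      exact X.sq_mem_center hσ g

end Cfsg.Agent.S1248
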