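import Cfsg.Statements.S0102
import Cfsg.Agent.Lib.Transfer.Abelian

set_option autoImplicit false
open Cfsg

namespace Cfsg.Agent.S0102

/-- A finite perfect group with cyclic Sylow p-subgroups has no perfect central extension whose kernel has order divisible by p. -/
theorem result {G : Type*} {H : Type*} [Group G] [Group H] [Finite G] [Finite H] (hG : commutator G = ⊤) {p : ℕ} [Fact p.Prime] (hcyc : ∀ P : Sylow p G, IsCyclic P) (σ : H →* G) (hσ : Function.Surjective σ) (hz : σ.ker ≤ Subgroup.center H) (hH : commutator H = ⊤) : ¬ p ∣ Nat.card σ.ker := by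
  intro hd
  obtain ⟨z, hzo⟩ := exists_prime_orderOf_dvd_card' p hd
  obtain ⟨P, hP⟩ := (IsPGroup.of_card (n := 1)
    (by rw [Nat.card_zpowers, Subgroup.orderOf_coe, hzo, pow_one]) :
    IsPGroup p (Subgroup.zpowers (z : H))).exists_le_sylow
  have : IsMulCommutative (P : Subgroup H) := by
    have := hcyc (P.mapSurjective hσ)
    rw [Sylow.coe_mapSurjective] at this
    refine MonoidHom.isMulCommutative_of_isCyclic_of_ker_le_center
      ((σ.comp (P : Subgroup H).subtype).codRestrict ((P : Subgroup H).map σ)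
        fun x => Subgroup.mem_map_of_mem σ x.2) ?_
    intro x hx
    refine Subgroup.mem_center_iff.mpr fun y => Subtype.ext ?_
    exact Subgroup.mem_center_iff.mp (hz (show (x : H) ∈ σ.ker from congrArg Subtype.val hx)) _
  have h1 : (z : H) ∈ (⊥ : Subgroup H) :=
    (CfsgLib.Transfer.inf_commutator_inf_center_eq_bot (P : Subgroup H)
      P.card_coprime_index).le
      ⟨⟨hP (Subgroup.mem_zpowers _), hH ▸ Subgroup.mem_top _⟩, hz z.2⟩
  rw [← Subgroup.orderOf_coe, Subgroup.mem_bot.mp h1, orderOf_one] at hzo
  exact (Fact.out : p.Prime).ne_one hzo.symm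

end Cfsg.Agent.S0102
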