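import Cfsg.Statements.S2092
import Cfsg.Agent.Lib.Known.SympMult.Main
import Cfsg.Agent.Lib.Known.SLn.Multiplier
import Cfsg.Agent.Lib.Classical.Symplectic.MatrixStructure
-- import your own Cfsg.Agent.* helpers here

set_option autoImplicit false
open Cfsg

namespace Cfsg.Agent.S2092

/-- Schur multipliers of the symplectic groups: for m ≥ 2 and a field F with q elements (q ≥ 3 when m = 2), with (m, q) ≠ (3, 2), the Schur multiplier of PSp_2m(F) is cyclic of order gcd(2, q − 1); here the Schur multiplier is described through stem extensions, as in the definitions. -/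
theorem result {F : Type*} [Field F] [Fintype F] {q : ℕ} (hF : Fintype.card F = q) (m : ℕ) (hm : 2 ≤ m) (h2 : m = 2 → 3 ≤ q) (hexc : ¬ (m = 3 ∧ q = 2)) : Cfsg.HasCyclicSchurMultiplier (Cfsg.PSp m F) (Nat.gcd 2 (q - 1)) := by
  classical
  subst hF
  have hq : 2 ≤ Fintype.card F := Fintype.one_lt_card
  have hperf : commutator (Matrix.symplecticGroup (Fin m) F) = ⊤ := by
    refine CfsgLib.Classical.Symp.commutator_symplecticGroup_eq_top ?_
    by_cases h0 : (2 : F) = 0
    · rcases (show 3 ≤ m ∨ m = 2 by omega) with h | h
      · exact Or.inr (Or.inl h)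
      · refine Or.inr (Or.inr (CfsgLib.Classical.Symp.exists_sq_ne_one_of_four_le ?_))
        have h3 := h2 h
        by_contra h4
        have hc : Fintype.card F = 3 := by omega
        have h30 : ((3 : ℕ) : F) = 0 := hc ▸ Nat.cast_card_eq_zero F
        push_cast at h30
        exact one_ne_zero (α := F) (by linear_combination h30 - h0)
    · exact Or.inl ⟨hm, h0⟩
  refine CfsgLib.Known.SLn.hasSchurMultiplier_of_cover hperf ?_
    (QuotientGroup.mk' (Subgroup.center (Matrix.symplecticGroup (Fin m) F)))
    (QuotientGroup.mk'_surjective _) (le_of_eq (QuotientGroup.ker_mk' _)) ?_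
  · intro Γ _ _ σ hσ
    refine CfsgLib.Known.SympMult.ker_eq_bot_of_stem hm (fun hF => ?_) σ hσ
    have hc : Fintype.card F = 2 := by
      refine le_antisymm ?_ hq
      calc Fintype.card F ≤ ({0, 1} : Finset F).card :=
            Finset.card_le_card fun r _ => by rcases hF r with h | h <;> simp [h]
        _ ≤ 2 := Finset.card_le_two
    rcases (show m = 2 ∨ m = 3 ∨ 4 ≤ m by omega) with h | h | h
    · have := h2 h; omega
    · exact absurd ⟨h, hc⟩ hexc
    · exact h
  · have hcard := CfsgLib.Classical.Symp.card_center_symplecticGroup (F := F) (m := m) (by omega)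
    have hcyc : IsCyclic (Subgroup.center (Matrix.symplecticGroup (Fin m) F)) := by
      rcases (Nat.dvd_prime Nat.prime_two).1 (Nat.gcd_dvd_left 2 (Fintype.card F - 1)) with h | h
      · rw [h] at hcard
        have := (Nat.card_eq_one_iff_unique.1 hcard).1
        exact isCyclic_of_subsingleton
      · have : Fact (Nat.Prime 2) := ⟨Nat.prime_two⟩
        exact isCyclic_of_prime_card (hcard.trans h)
    refine (MulEquiv.subgroupCongr (QuotientGroup.ker_mk' _)).trans (mulEquivOfCyclicCardEq ?_)
    rw [hcard]
    exact (Nat.card_zmod _).symm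

end Cfsg.Agent.S2092
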