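import Cfsg.Statements.S2550
import Cfsg.Agent.S0243
import Cfsg.Agent.S0256
import Cfsg.Agent.S0819

set_option autoImplicit false
open Cfsg

namespace Cfsg.Agent.S2550

/-- Let F be a field with 2 elements and K a field with 4 elements. PSL_4(F) and PSL_3(K) have the same order (20160) but are not isomorphic. -/
theorem result {F K : Type*} [Field F] [Fintype F] [Field K] [Fintype K] (hF : Fintype.card F = 2) (hK : Fintype.card K = 4) : Nat.card (Matrix.ProjectiveSpecialLinearGroup (Fin 4) F) = Nat.card (Matrix.ProjectiveSpecialLinearGroup (Fin 3) K) ∧ ¬ Nonempty (Matrix.ProjectiveSpecialLinearGroup (Fin 4) F ≃* Matrix.ProjectiveSpecialLinearGroup (Fin 3) K) := by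
  refine ⟨?_, ?_⟩
  · have h1 := Cfsg.Agent.S0243.result hF 4 (by norm_num)
    have h2 := Cfsg.Agent.S0243.result hK 3 (by norm_num)
    simp [Fin.prod_univ_succ] at h1 h2
    omega
  · rintro ⟨e⟩
    obtain ⟨e'⟩ := Cfsg.Agent.S0256.result hF
    let p : Equiv.Perm (Fin 8) := c[0, 1, 2, 3, 4] * c[5, 6, 7]
    have hp : p ∈ alternatingGroup (Fin 8) := by
      rw [Equiv.Perm.mem_alternatingGroup]
      decide +kernel
    have ho : orderOf p = 15 := by
      rw [orderOf_eq_iff (by norm_num)]
      exact ⟨by decide +kernel, fun m hm hpos => by interval_cases m <;> decide +kernel⟩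
    apply Cfsg.Agent.S0819.result hK (e (e'.symm ⟨p, hp⟩))
    rw [MulEquiv.orderOf_eq, MulEquiv.orderOf_eq, Subgroup.orderOf_mk, ho]

end Cfsg.Agent.S2550
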