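import Cfsg.Statements.S2089
import Cfsg.Agent.Lib.Known.UnitMult.Main
import Cfsg.Agent.Lib.Known.SLn.Multiplier
import Cfsg.Agent.Lib.Classical.Unitary.MatrixStructure

set_option autoImplicit false
open Cfsg

namespace Cfsg.Agent.S2089

/-- Schur multipliers of the unitary groups: for n ≥ 3 and a field F with q² elements, (n, q) ≠ (3, 2), apart from the exceptional pairs (n, q) = (4, 2), (4, 3), (6, 2), the Schur multiplier of PSU_n(q) is cyclic of order gcd(n, q + 1); here the Schur multiplier is described through stem extensions, as in the definitions. -/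
theorem result {F : Type*} [Field F] [Fintype F] (n q : ℕ) (hF : Fintype.card F = q ^ 2) (hn : 3 ≤ n) (h3 : ¬ (n = 3 ∧ q = 2)) (hexc : (n, q) ∉ ({(4, 2), (4, 3), (6, 2)} : Set (ℕ × ℕ))) : Cfsg.HasCyclicSchurMultiplier (Cfsg.PSU n F q) (Nat.gcd n (q + 1)) := by
  classical
  have hσ := CfsgLib.Classical.Herm.powHom_isInvol hF
  have h := CfsgLib.Classical.Herm.hermStd_isHerm (n := n) hF
  have hdim : Module.finrank F (Fin n → F) = n := CfsgLib.Classical.Herm.finrank_std
  have hq : Nat.card (CfsgLib.Classical.Herm.fixedSub (CfsgLib.Classical.Herm.powHom hF)) = q :=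
    CfsgLib.Classical.Herm.card_fixed_powHom hF
  have hex : ∀ m r : ℕ, n = m → q = r → (m, r) ∈ ({(4, 2), (4, 3), (6, 2)} : Set (ℕ × ℕ)) → False :=
    fun m r e1 e2 hm => hexc (e1 ▸ e2 ▸ hm)
  obtain ⟨E, hE⟩ : ∃ E, E = CfsgLib.Classical.Herm.suEquiv n hF := ⟨_, rfl⟩
  have hperf : commutator (Cfsg.SU n F q) = ⊤ := by
    have h1 := h.HSU_le_commutator (by omega) (by rw [hdim, hq]; exact fun e e' => h3 ⟨e, e'⟩)
    have h2 : (commutator (CfsgLib.Classical.Herm.HSU (CfsgLib.Classical.Herm.hermStd n hF))).map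
        E.symm.toMonoidHom = commutator (Cfsg.SU n F q) := by
      rw [commutator_def, commutator_def, Subgroup.map_commutator,
        Subgroup.map_top_of_surjective _ E.symm.surjective]
    rw [← h2, h1, Subgroup.map_top_of_surjective _ E.symm.surjective]
  refine CfsgLib.Known.SLn.hasSchurMultiplier_of_cover hperf ?_
    (QuotientGroup.mk' (Subgroup.center (Cfsg.SU n F q)))
    (QuotientGroup.mk'_surjective _) (le_of_eq (QuotientGroup.ker_mk' _)) ?_
  · intro Γ _ _ σ hσ'
    obtain ⟨hs, hc, hd⟩ := hσ'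
    have hker : (E.toMonoidHom.comp σ).ker = σ.ker := by
      ext x
      simp [MonoidHom.mem_ker]
    rw [← hker]
    refine CfsgLib.Known.UnitMult.ker_eq_bot h (by omega) (fun e e' => h3 ⟨by omega, by omega⟩)
      (fun e => ⟨fun e' => hex 4 2 (by omega) (by omega) (by simp), fun e' => hex 4 3 (by omega) (by omega) (by simp)⟩)
      (fun e e' => hex 6 2 (by omega) (by omega) (by simp)) _ ?_
    exact ⟨E.surjective.comp hs, by rw [hker]; exact hc, by rw [hker]; exact hd⟩
  · have hcyc0 := CfsgLib.Known.UnitMult.isCyclic_center_HSU h (by omega)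
    have hcyc : IsCyclic (Subgroup.center (Cfsg.SU n F q)) :=
      isCyclic_of_surjective _ (Subgroup.centerCongr (CfsgLib.Classical.Herm.suEquiv n hF)).symm.surjective
    refine (MulEquiv.subgroupCongr (QuotientGroup.ker_mk' _)).trans (mulEquivOfCyclicCardEq ?_)
    rw [CfsgLib.Classical.Herm.card_center_SU hF n hn]
    exact (Nat.card_zmod _).symm

end Cfsg.Agent.S2089
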