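import Cfsg.Statements.S2791
import Cfsg.Agent.Lib.Transfer.Alperin
import Cfsg.Agent.Lib.LocalEven.PClosed
import Cfsg.Agent.Lib.LocalEven.CharPWeak

set_option autoImplicit false
open Cfsg

namespace Cfsg.Agent.S2791

/-- Let S be a Sylow p-subgroup of the finite group G and A an abelian subgroup of S that is strongly closed in S with respect to G. Then A controls strong fusion in G: for some Sylow p-subgroup T containing A, whenever a subset of T is conjugated into T by an element of G, the same elementwise conjugation is induced by an element of N_G(A). -/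
theorem result {G : Type*} [Group G] [Finite G] {p : ℕ} [Fact p.Prime] (S : Sylow p G) (A : Subgroup G) (hA : IsMulCommutative ↥A) (hsc : Cfsg.IsStronglyClosed A (S : Subgroup G)) : Cfsg.ControlsStrongFusion p A := by
  have hAS : A ≤ (S : Subgroup G) := hsc.1
  refine ⟨S, hAS, fun B hB => ⟨hB, fun g hg => ?_⟩⟩
  have hAn : (S : Subgroup G) ≤ Subgroup.normalizer (A : Set G) := by
    intro s hs
    rw [CfsgLib.LocalEven.mem_normalizer_conj_iff]
    refine Subgroup.eq_of_le_of_card_ge ?_ (Subgroup.card_map_of_injective (MulAut.conj s).injective).ge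
    rintro _ ⟨a, ha, rfl⟩
    exact hsc.2 a ha s (mul_mem (mul_mem hs (hAS ha)) (inv_mem hs))
  let Good : Subgroup G → Prop := fun E => ∀ x ∈ Subgroup.normalizer (E : Set G),
    ∃ y ∈ Subgroup.normalizer (A : Set G), ∀ e ∈ E, y⁻¹ * e * y = x⁻¹ * e * x
  have path : ∀ (m : ℕ), (∀ Q : Sylow p G, CfsgLib.Transfer.IsTameInter S Q →
      m ≤ Nat.card ↥((S : Subgroup G) ⊓ (Q : Subgroup G)) → Good ((S : Subgroup G) ⊓ (Q : Subgroup G))) →
      ∀ (B : Set G) (h : G), CfsgLib.Transfer.FusionPath S B h → m ≤ Nat.card B →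
        ∃ y ∈ Subgroup.normalizer (A : Set G), ∀ b ∈ B, y⁻¹ * b * y = h⁻¹ * b * h := by
    intro m hgood B h hp
    induction hp with
    | one B => exact fun _ => ⟨1, one_mem _, fun b _ => rfl⟩
    | step B Q x g ht hx hB _ ih =>
      intro hm
      have hBE : Nat.card B ≤ Nat.card ↥((S : Subgroup G) ⊓ (Q : Subgroup G)) :=
        Nat.card_mono (Set.toFinite _) hB
      obtain ⟨y, hy, hy'⟩ := hgood Q ht (hm.trans hBE) x hx
      obtain ⟨z, hz, hz'⟩ := ih (hm.trans (le_of_eq (Nat.card_image_of_injective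
        (fun a b h => by simpa using h) B).symm))
      refine ⟨y * z, mul_mem hy hz, fun b hb => ?_⟩
      calc (y * z)⁻¹ * b * (y * z) = z⁻¹ * (y⁻¹ * b * y) * z := by group
        _ = z⁻¹ * (x⁻¹ * b * x) * z := by rw [hy' b (hB hb)]
        _ = g⁻¹ * (x⁻¹ * b * x) * g := hz' _ ⟨b, hb, rfl⟩
        _ = _ := by group
  have main : ∀ k : ℕ, ∀ Q : Sylow p G, CfsgLib.Transfer.IsTameInter S Q →
      Nat.card ↥(S : Subgroup G) ≤ k + Nat.card ↥((S : Subgroup G) ⊓ (Q : Subgroup G)) →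
      Good ((S : Subgroup G) ⊓ (Q : Subgroup G)) := by
    intro k
    induction k using Nat.strong_induction_on with
    | _ k ih =>
    intro Q ht hk x hx
    set E := (S : Subgroup G) ⊓ (Q : Subgroup G) with hE
    have hES : E ≤ (S : Subgroup G) := inf_le_left
    set N := Subgroup.normalizer (E : Set G) with hN
    have hNI : ∀ n ∈ N, ∀ a ∈ A ⊓ E, n * a * n⁻¹ ∈ A ⊓ E := fun n hn a ha =>
      have h1 := (Subgroup.mem_normalizer_iff.mp hn a).mp ha.2
      Subgroup.mem_inf.mpr ⟨hsc.2 a ha.1 n (hES h1), h1⟩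
    let K : Subgroup G :=
      { carrier := {c | c ∈ N ∧ (∀ a ∈ A ⊓ E, c * a * c⁻¹ = a) ∧ ∀ e ∈ E, c * e * c⁻¹ * e⁻¹ ∈ A ⊓ E}
        one_mem' := ⟨one_mem N, fun a _ => by simp, fun e _ => by simp⟩
        mul_mem' := by
          rintro s t ⟨hs, hs1, hs2⟩ ⟨ht', ht1, ht2⟩
          refine ⟨mul_mem hs ht', fun a ha => ?_, fun e he => ?_⟩
          · rw [show s * t * a * (s * t)⁻¹ = s * (t * a * t⁻¹) * s⁻¹ by group, ht1 a ha, hs1 a ha]
          · rw [show s * t * e * (s * t)⁻¹ * e⁻¹ =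
              (s * (t * e * t⁻¹ * e⁻¹) * s⁻¹) * (s * e * s⁻¹ * e⁻¹) by group, hs1 _ (ht2 e he)]
            exact mul_mem (ht2 e he) (hs2 e he)
        inv_mem' := by
          rintro s ⟨hs, hs1, hs2⟩
          have hfix : ∀ a ∈ A ⊓ E, s⁻¹ * a * s = a := fun a ha => by
            conv_lhs => rw [← hs1 a ha]
            group
          refine ⟨inv_mem hs, fun a ha => by simpa using hfix a ha, fun e he => ?_⟩
          rw [show s⁻¹ * e * s⁻¹⁻¹ * e⁻¹ = s⁻¹ * (s * e * s⁻¹ * e⁻¹)⁻¹ * s by group,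
            hfix _ (inv_mem (hs2 e he))]
          exact inv_mem (hs2 e he) }
    have hKN : K ≤ N := fun c hc => hc.1
    have hNK : N ≤ Subgroup.normalizer (K : Set G) := by
      intro n hn
      rw [CfsgLib.LocalEven.mem_normalizer_conj_iff]
      refine Subgroup.eq_of_le_of_card_ge ?_ (Subgroup.card_map_of_injective (MulAut.conj n).injective).ge
      rintro _ ⟨c, ⟨hc, hc1, hc2⟩, rfl⟩
      have hn' : ∀ a ∈ A ⊓ E, n⁻¹ * a * n ∈ A ⊓ E := fun a ha => by
        simpa using hNI n⁻¹ (inv_mem hn) a ha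
      refine ⟨mul_mem (mul_mem hn hc) (inv_mem hn), fun a ha => ?_, fun e he => ?_⟩
      · show n * c * n⁻¹ * a * (n * c * n⁻¹)⁻¹ = a
        rw [show n * c * n⁻¹ * a * (n * c * n⁻¹)⁻¹ = n * (c * (n⁻¹ * a * n) * c⁻¹) * n⁻¹ by group,
          hc1 _ (hn' a ha)]
        group
      · show n * c * n⁻¹ * e * (n * c * n⁻¹)⁻¹ * e⁻¹ ∈ A ⊓ E
        rw [show n * c * n⁻¹ * e * (n * c * n⁻¹)⁻¹ * e⁻¹ =
          n * (c * (n⁻¹ * e * n) * c⁻¹ * (n⁻¹ * e * n)⁻¹) * n⁻¹ by group]
        exact hNI n hn _ (hc2 _ ((Subgroup.mem_normalizer_iff''.mp hn e).mp he))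
    have hAK : A ⊓ N ≤ K := by
      rintro a ⟨ha, haN⟩
      refine ⟨haN, fun b hb => ?_, fun e he => ?_⟩
      · have := congrArg Subtype.val ((isMulCommutative_iff.mp hA) ⟨a, ha⟩ ⟨b, hb.1⟩)
        change a * b = b * a at this
        rw [this, mul_inv_cancel_right]
      · refine Subgroup.mem_inf.mpr ⟨?_, mul_mem ((Subgroup.mem_normalizer_iff.mp haN e).mp he) (inv_mem he)⟩
        rw [show a * e * a⁻¹ * e⁻¹ = a * (e * a⁻¹ * e⁻¹) by group]
        exact mul_mem ha ((Subgroup.mem_normalizer_iff.mp (hAn (hES he)) _).mp (inv_mem ha))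
    obtain ⟨I, hI⟩ := IsPGroup.iff_card.mp (S.2.to_le ((inf_le_left : A ⊓ E ≤ A).trans hAS))
    have hres : ∀ g : G, g ∈ K → (orderOf g).Coprime p → g ∈ Subgroup.centralizer (E : Set G) := by
      intro g hg hgo
      have hpow : g ^ p ^ I ∈ Subgroup.centralizer (E : Set G) := by
        refine Subgroup.mem_centralizer_iff.mpr fun e he => (Commute.eq ?_).symm
        rw [← hI]
        refine CfsgLib.LocalEven.pow_card_commute (hg.2.2 e he) ?_
        have := hg.2.1 _ (hg.2.2 e he)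
        exact mul_inv_eq_iff_eq_mul.mp this
      obtain ⟨m, hm⟩ := exists_pow_eq_self_of_coprime (Nat.Coprime.pow_left I hgo.symm)
      exact hm ▸ pow_mem hpow m
    -- `R = S ∩ K` is Sylow in `K`
    haveI : (K.subgroupOf N).Normal := (Subgroup.normal_subgroupOf_iff_le_normalizer hKN).mpr hNK
    let P₀ : Sylow p ↥N := (S.2.comap_of_injective N.subtype N.subtype_injective).toSylow (by
      intro hd
      exact ht.1 (by rw [Subgroup.inf_relIndex_right]; exact hd))
    obtain ⟨Pk, hPk⟩ := CfsgLib.LocalEven.exists_sylow_inf P₀ (K.subgroupOf N)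
    set R := (S : Subgroup G) ⊓ K with hR
    have hfr := Sylow.normalizer_sup_eq_top Pk
    rw [hPk] at hfr
    have hRN : R ≤ N := inf_le_right.trans hKN
    have hP₀K : (P₀ : Subgroup ↥N) ⊓ K.subgroupOf N = R.subgroupOf N := rfl
    rw [hP₀K, ← Subgroup.subgroupOf_normalizer_eq hRN] at hfr
    have hxmem : (⟨x, hx⟩ : ↥N) ∈ (Subgroup.normalizer (R : Set G)).subgroupOf N ⊔ K.subgroupOf N := hfr ▸ Subgroup.mem_top _
    obtain ⟨n₀, hn₀, c₀, hc₀, e₀⟩ := Subgroup.mem_sup_of_normal_right.mp hxmem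
    -- `x = z n` with `z` centralizing `E` and `n` normalizing `R`
    obtain ⟨z, hzC, n, hnN, hnR, hxe⟩ : ∃ z, z ∈ Subgroup.centralizer (E : Set G) ∧ ∃ n, n ∈ N ∧
        n ∈ Subgroup.normalizer (R : Set G) ∧ x = z * n := by
      set c : G := (n₀ : G) * c₀ * (n₀ : G)⁻¹
      have hc : c ∈ K := (Subgroup.mem_normalizer_iff.mp (hNK n₀.2) _).mp hc₀
      have h1 := congrArg (Subgroup.map (K.subgroupOf N).subtype) (CfsgLib.Transfer.pResidual_sup_sylow Pk)
      rw [Subgroup.map_sup, hPk, ← MonoidHom.range_eq_map, Subgroup.range_subtype] at h1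
      haveI : ((Cfsg.pResidual p ↥(K.subgroupOf N)).map (K.subgroupOf N).subtype).Normal := inferInstance
      obtain ⟨z, hz, r, hr, e⟩ := Subgroup.mem_sup_of_normal_left.mp
        (h1.ge (show (⟨c, hKN hc⟩ : ↥N) ∈ K.subgroupOf N from hc))
      refine ⟨(z : G), ?_, (r : G) * n₀, mul_mem r.2 n₀.2,
        mul_mem (Subgroup.le_normalizer (show (r : G) ∈ R from hP₀K.le hr)) hn₀, ?_⟩
      · have h2 : (Cfsg.pResidual p ↥(K.subgroupOf N)).map (K.subgroupOf N).subtype ≤
            (Subgroup.centralizer (E : Set G)).subgroupOf N := by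
          rw [Subgroup.map_le_iff_le_comap]
          exact CfsgLib.Transfer.pResidual_le_iff.mpr fun g hg =>
            hres _ g.2 (by simpa [Subgroup.orderOf_coe] using hg)
        exact h2 hz
      · have e1 : (z : G) * r = c := congrArg Subtype.val e
        have e2 : (n₀ : G) * c₀ = x := congrArg Subtype.val e₀
        rw [← mul_assoc, e1, ← e2, inv_mul_cancel_right]
    have hconj : ∀ e ∈ E, x⁻¹ * e * x = n⁻¹ * e * n := fun e he => by
      rw [hxe, show (z * n)⁻¹ * e * (z * n) = n⁻¹ * (z⁻¹ * (e * z)) * n by group,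
        Subgroup.mem_centralizer_iff.mp hzC e he]
      group
    by_cases hRE : R ≤ E
    · -- then `A ≤ E`
      have hAE : A ≤ E := by
        have hle : A ⊔ E ≤ (S : Subgroup G) := sup_le hAS hES
        rw [CfsgLib.LocalEven.eq_of_normalizer_inf_le (S.2.to_le hle) (le_sup_right : E ≤ A ⊔ E) ?_]
        · exact le_sup_left
        intro v hv
        have hv1 : v ∈ ((A ⊔ E : Subgroup G) : Set G) := hv.1
        rw [Subgroup.coe_mul_of_right_le_normalizer_left A E (hES.trans hAn)] at hv1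
        obtain ⟨a, ha, e, he, rfl⟩ := hv1
        have haN : a ∈ N := by simpa using mul_mem (show a * e ∈ N from hv.2) (inv_mem (show e ∈ N from Subgroup.le_normalizer he))
        exact mul_mem (hRE (Subgroup.mem_inf.mpr ⟨hAS ha, hAK (Subgroup.mem_inf.mpr ⟨ha, haN⟩)⟩)) he
      refine ⟨x, CfsgLib.LocalEven.mem_normalizer_conj_iff.mpr ?_, fun e _ => rfl⟩
      refine Subgroup.eq_of_le_of_card_ge ?_ (Subgroup.card_map_of_injective (MulAut.conj x).injective).ge
      rintro _ ⟨a, ha, rfl⟩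
      exact hsc.2 a ha x (hES ((Subgroup.mem_normalizer_iff.mp hx a).mp (hAE ha)))
    · set R' := E ⊔ R with hR'
      have hR'S : R' ≤ (S : Subgroup G) := sup_le hES inf_le_left
      have hnR' : n ∈ Subgroup.normalizer (R' : Set G) :=
        Subgroup.normalizer_inf_normalizer_le_normalizer_sup E R ⟨hnN, hnR⟩
      have hlt : Nat.card ↥E < Nat.card ↥R' := by
        refine lt_of_le_of_ne (Subgroup.card_le_of_le le_sup_left) fun h => hRE ?_
        rw [Subgroup.eq_of_le_of_card_ge (le_sup_left : E ≤ R') h.ge]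
        exact le_sup_right
      have hpath : CfsgLib.Transfer.FusionPath S (R' : Set G) n := by
        refine CfsgLib.Transfer.exists_fusionPath S hR'S ?_
        rintro _ ⟨r, hr, rfl⟩
        exact hR'S ((Subgroup.mem_normalizer_iff''.mp hnR' r).mp hr)
      obtain ⟨y, hy, hy'⟩ := path (Nat.card ↥R') (fun Q' ht' hm => by
        have := Subgroup.card_le_of_le hR'S
        exact ih (Nat.card ↥(S : Subgroup G) - Nat.card ↥((S : Subgroup G) ⊓ (Q' : Subgroup G)))
          (by omega) Q' ht' (by omega)) _ _ hpath le_rfl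
      exact ⟨y, hy, fun e he => by rw [hy' e (Subgroup.mem_sup_left he), hconj e he]⟩
  have hg' : (fun a => (g⁻¹)⁻¹ * a * g⁻¹) '' B ⊆ ((S : Subgroup G) : Set G) := by simpa using hg
  obtain ⟨y, hy, hy'⟩ := path 0 (fun Q ht _ => main _ Q ht (Nat.le_add_right _ _)) _ _
    (CfsgLib.Transfer.exists_fusionPath S hB hg') (Nat.zero_le _)
  refine ⟨y⁻¹, inv_mem hy, fun b hb => ?_⟩
  rw [inv_inv, hy' b hb, inv_inv]

end Cfsg.Agent.S2791
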