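import Cfsg.Statements.S1163
import Cfsg.Agent.Lib.Lie.Suzuki.Structure

set_option autoImplicit false
open Cfsg
open CfsgLib.Lie.Suzuki

namespace Cfsg.Agent.S1163

/-- For the Suzuki group Sz(q), q = 2^(2m+1) ≥ 8, realised as the elements g of Sp₄(F) with g* = g^θ (θ the 2^(m+1)-th power map, so that θ² is squaring): `|Sz(q)| = q² (q - 1) (q² + 1)`, and there is a Sylow 2-subgroup `S` whose normaliser `H` has order `q²(q-1)` and index `q² + 1`, the action of `Sz(q)` on the cosets of `H` is doubly transitive, and `S` acts regularly on the cosets other than `H` itself. -/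
theorem result {F : Type*} [Field F] [Fintype F] {m : ℕ} (hm : 1 ≤ m) (hF : Fintype.card F = 2 ^ (2 * m + 1)) :
    Nat.card ↥(Cfsg.Lie.Sz F (2 ^ (m + 1))) = (2 ^ (2 * m + 1)) ^ 2 * (2 ^ (2 * m + 1) - 1) * ((2 ^ (2 * m + 1)) ^ 2 + 1) ∧
    ∃ S : Sylow 2 ↥(Cfsg.Lie.Sz F (2 ^ (m + 1))),
      Nat.card (Subgroup.normalizer ((S : Subgroup ↥(Cfsg.Lie.Sz F (2 ^ (m + 1)))) : Set ↥(Cfsg.Lie.Sz F (2 ^ (m + 1))))) = (2 ^ (2 * m + 1)) ^ 2 * (2 ^ (2 * m + 1) - 1) ∧
      (Subgroup.normalizer ((S : Subgroup ↥(Cfsg.Lie.Sz F (2 ^ (m + 1)))) : Set ↥(Cfsg.Lie.Sz F (2 ^ (m + 1))))).index = (2 ^ (2 * m + 1)) ^ 2 + 1 ∧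
      MulAction.IsMultiplyPretransitive ↥(Cfsg.Lie.Sz F (2 ^ (m + 1))) (↥(Cfsg.Lie.Sz F (2 ^ (m + 1))) ⧸ Subgroup.normalizer ((S : Subgroup ↥(Cfsg.Lie.Sz F (2 ^ (m + 1)))) : Set ↥(Cfsg.Lie.Sz F (2 ^ (m + 1))))) 2 ∧
      ∀ x y : ↥(Cfsg.Lie.Sz F (2 ^ (m + 1))) ⧸ Subgroup.normalizer ((S : Subgroup ↥(Cfsg.Lie.Sz F (2 ^ (m + 1)))) : Set ↥(Cfsg.Lie.Sz F (2 ^ (m + 1)))),
        x ≠ (QuotientGroup.mk 1) → y ≠ (QuotientGroup.mk 1) → ∃! s : ↥(S : Subgroup ↥(Cfsg.Lie.Sz F (2 ^ (m + 1)))), (s : ↥(Cfsg.Lie.Sz F (2 ^ (m + 1)))) • x = y := by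
  haveI := CfsgLib.Lie.Suzuki.charTwo_of_card hF
  obtain ⟨e, he⟩ : ∃ e : Cfsg.Sz F m ≃* Cfsg.Lie.Sz F (2 ^ (m + 1)), e = equivLie hm hF := ⟨_, rfl⟩
  have hcard : Nat.card (Cfsg.Lie.Sz F (2 ^ (m + 1))) =
      (2 ^ (2 * m + 1)) ^ 2 * (2 ^ (2 * m + 1) - 1) * ((2 ^ (2 * m + 1)) ^ 2 + 1) := by
    rw [← Nat.card_congr e.toEquiv, nat_card hF hm, hF]; ring
  haveI := Fact.mk Nat.prime_two
  let S : Sylow 2 (Cfsg.Lie.Sz F (2 ^ (m + 1))) :=
    ((isPGroup_unip hF).map e.toMonoidHom).toSylow (fun h => by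
      rw [show (unip hF).map e.toMonoidHom = (unip hF).map (e : Cfsg.Sz F m →* _) from rfl, Subgroup.index_map_equiv] at h
      exact Nat.not_even_iff_odd.2 (odd_index_unip hF hm) (even_iff_two_dvd.2 h))
  have hS : (S : Subgroup (Cfsg.Lie.Sz F (2 ^ (m + 1)))) = (unip hF).map e.toMonoidHom := rfl
  obtain ⟨B, hBdef⟩ : ∃ B, B = Subgroup.normalizer ((S : Subgroup (Cfsg.Lie.Sz F (2 ^ (m + 1)))) :
      Set (Cfsg.Lie.Sz F (2 ^ (m + 1)))) := ⟨_, rfl⟩
  have hB : B = (CfsgLib.Lie.Suzuki.borel F m).map e.toMonoidHom := by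
    rw [hBdef, hS, ← normalizer_unip hF hm]
    exact (Subgroup.map_equiv_normalizer_eq (unip hF) e).symm
  have hBcard : Nat.card B = (2 ^ (2 * m + 1)) ^ 2 * (2 ^ (2 * m + 1) - 1) := by
    rw [hB, Subgroup.card_map_of_injective e.injective, CfsgLib.Lie.Suzuki.borel, card_stab_inf hF hm, hF]
  refine ⟨hcard, S, ?_⟩
  rw [← hBdef]
  refine ⟨hBcard, ?_, ?_, ?_⟩
  · have h := B.index_mul_card
    rw [hBcard, hcard, mul_comm _ ((2 ^ (2 * m + 1)) ^ 2 + 1)] at h
    refine Nat.eq_of_mul_eq_mul_right (Nat.mul_pos (by positivity) ?_) h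
    exact Nat.sub_pos_of_lt (Nat.one_lt_two_pow (by omega))
  all_goals
    -- the cosets as points of the ovoid
    have hmem : ∀ g, g ∈ B ↔ e.symm g • pt F m none = pt F m none := fun g => by
      rw [hB, Subgroup.mem_map_equiv]; rfl
    have hwd : ∀ g h : Cfsg.Lie.Sz F (2 ^ (m + 1)), g⁻¹ * h ∈ B ↔
        e.symm g • pt F m none = e.symm h • pt F m none := fun g h => by
      rw [hmem, map_mul, map_inv, mul_smul, inv_smul_eq_iff]
      exact eq_comm
  · rw [MulAction.is_two_pretransitive_iff]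
    intro a b c d hab hcd
    induction a using QuotientGroup.induction_on with | _ a
    induction b using QuotientGroup.induction_on with | _ b
    induction c using QuotientGroup.induction_on with | _ c
    induction d using QuotientGroup.induction_on with | _ d
    haveI := two_pretransitive hF (m := m)
    obtain ⟨k, h1, h2⟩ : ∃ k : Cfsg.Sz F m, k • e.symm a • pt F m none = e.symm c • pt F m none ∧
        k • e.symm b • pt F m none = e.symm d • pt F m none :=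
      MulAction.is_two_pretransitive_iff.1 (two_pretransitive hF (m := m))
      (fun h => hab (QuotientGroup.eq.2 ((hwd a b).2 h))) (fun h => hcd (QuotientGroup.eq.2 ((hwd c d).2 h)))
    refine ⟨e k, ?_, ?_⟩ <;> rw [MulAction.Quotient.smul_mk, QuotientGroup.eq, hwd, smul_eq_mul, map_mul,
      e.symm_apply_apply, mul_smul]
    · exact h1
    · exact h2
  · intro x y hx hy
    induction x using QuotientGroup.induction_on with | _ x
    induction y using QuotientGroup.induction_on with | _ y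
    have hx' : e.symm x • pt F m none ≠ pt F m none := fun h => hx
      (QuotientGroup.eq.2 ((hwd x 1).2 (by rw [h, map_one, one_smul])))
    have hy' : e.symm y • pt F m none ≠ pt F m none := fun h => hy
      (QuotientGroup.eq.2 ((hwd y 1).2 (by rw [h, map_one, one_smul])))
    obtain ⟨_ | ⟨a, b⟩, ha⟩ := (pt F m).surjective (e.symm x • pt F m none)
    · exact absurd ha.symm hx'
    obtain ⟨_ | ⟨c, d⟩, hc⟩ := (pt F m).surjective (e.symm y • pt F m none)
    · exact absurd hc.symm hy'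
    have key : ∀ s : (S : Subgroup (Cfsg.Lie.Sz F (2 ^ (m + 1)))), (s : Cfsg.Lie.Sz F (2 ^ (m + 1))) •
        (x : Cfsg.Lie.Sz F (2 ^ (m + 1)) ⧸ B) = y ↔
          e.symm s • pt F m (some (a, b)) = pt F m (some (c, d)) := fun s => by
      rw [MulAction.Quotient.smul_mk, QuotientGroup.eq, hwd, smul_eq_mul, map_mul, mul_smul, ← ha, ← hc]
    refine ⟨⟨e (uS hF (c + a) (d + b + th F m (c + a) * a)),
      hS ▸ Subgroup.mem_map_of_mem _ (uS_mem hF _ _)⟩, ?_, fun s hs => ?_⟩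
    · beta_reduce
      rw [key, e.symm_apply_apply, uS_some]
      have h2 : (2 : F) = 0 := CharTwo.two_eq_zero
      congr 3 <;> grind
    · have h2 : (2 : F) = 0 := CharTwo.two_eq_zero
      obtain ⟨u, ⟨u₁, u₂, rfl⟩, hu⟩ : (s : Cfsg.Lie.Sz F (2 ^ (m + 1))) ∈ (unip hF).map e.toMonoidHom := hS ▸ s.2
      have hu' : e (uS hF u₁ u₂) = s := hu
      have hs' := (key s).1 hs
      rw [← hu', e.symm_apply_apply, uS_some, EmbeddingLike.apply_eq_iff_eq, Option.some.injEq,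
        Prod.mk.injEq] at hs'
      refine Subtype.ext ?_
      rw [← hu']
      obtain ⟨rfl, rfl⟩ := hs'
      show e (uS hF u₁ u₂) = e _
      congr 2 <;> grind

end Cfsg.Agent.S1163
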