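import Cfsg.Statements.S5395
import Cfsg.Agent.Lib.PGroups.Extraspecial
-- import your own Cfsg.Agent.* helpers here

set_option autoImplicit false
open Cfsg

namespace Cfsg.Agent.S5395

/-- For a finite extraspecial 2-group E, an automorphism of E that induces the identity on E modulo its centre is inner (so these automorphisms form exactly the inner automorphism group, an elementary abelian 2-group of order |E|/2). -/
theorem result {E : Type*} [Group E] [Finite E] (hE : Cfsg.IsExtraspecial 2 E) (φ : E ≃* E) (hφ : ∀ x : E, φ x * x⁻¹ ∈ Subgroup.center E) : ∃ g : E, ∀ x : E, φ x = g * x * g⁻¹ := by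
  haveI : Fact (Nat.Prime 2) := ⟨Nat.prime_two⟩
  have hz2 : ∀ z ∈ Subgroup.center E, ∀ w ∈ Subgroup.center E, z ≠ 1 → w ≠ 1 → z = w := by
    intro z hz w hw hz1 hw1
    obtain ⟨u, v, -, huniv⟩ := (Nat.card_eq_two_iff (α := Subgroup.center E)).1 hE.2
    have key : ∀ t : Subgroup.center E, t = u ∨ t = v := fun t => by
      have : t ∈ ({u, v} : Set _) := huniv ▸ Set.mem_univ t
      simpa using this
    rcases key ⟨z, hz⟩ with a | a <;> rcases key ⟨w, hw⟩ with b | b <;> rcases key 1 with c | c <;>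
      first
      | exact congrArg Subtype.val (a.trans b.symm)
      | exact absurd (congrArg Subtype.val (a.trans c.symm)) hz1
      | exact absurd (congrArg Subtype.val (b.trans c.symm)) hw1
  let δ : E →* Subgroup.center E := MonoidHom.mk' (fun x => ⟨φ x * x⁻¹, hφ x⟩) (by
    intro x y
    apply Subtype.ext
    show φ (x * y) * (x * y)⁻¹ = φ x * x⁻¹ * (φ y * y⁻¹)
    rw [map_mul, mul_inv_rev, mul_assoc (φ x), ← mul_assoc (φ y), Subgroup.mem_center_iff.1 (hφ y) x⁻¹ |>.symm]
    simp only [mul_assoc])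
  by_cases hδ : δ.ker = ⊤
  · refine ⟨1, fun x => ?_⟩
    have hx : x ∈ δ.ker := by rw [hδ]; trivial
    simpa using mul_inv_eq_one.1 (congrArg Subtype.val (MonoidHom.mem_ker.1 hx))
  have hidx : δ.ker.index = 2 := by
    have h1 : δ.ker.index ∣ 2 := by
      rw [Subgroup.index_ker, ← hE.2]; exact Subgroup.card_subgroup_dvd_card _
    exact ((Nat.dvd_prime Nat.prime_two).1 h1).resolve_left (fun h => hδ (Subgroup.index_eq_one.1 h))
  have hker : Subgroup.center E ≤ δ.ker := by
    refine le_trans (CfsgLib.PGroups.IsExtraspecial.commutator_eq hE).ge (Subgroup.commutator_le.2 fun a _ b _ => ?_)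
    rw [MonoidHom.mem_ker, map_commutatorElement, commutatorElement_eq_one_iff_mul_comm]
    exact Subtype.ext (Subgroup.mem_center_iff.1 (δ b).2 _)
  have hcard := CfsgLib.PGroups.IsExtraspecial.card_centralizer_mul_card hE hker
  have h2 : Nat.card δ.ker * 2 = Nat.card E := by rw [← hidx]; exact Subgroup.card_mul_index _
  have hC4 : Nat.card (Subgroup.centralizer (δ.ker : Set E)) = 4 := by
    rw [← h2] at hcard
    refine Nat.eq_of_mul_eq_mul_right (Nat.card_pos : 0 < Nat.card δ.ker) ?_
    rw [hcard]; ring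
  obtain ⟨g, hgC, hgZ⟩ : ∃ g ∈ Subgroup.centralizer (δ.ker : Set E), g ∉ Subgroup.center E := by
    by_contra h
    push Not at h
    have := Subgroup.card_le_of_le h
    rw [hC4, hE.2] at this; omega
  refine ⟨g, fun x => ?_⟩
  have hgx : g * x * g⁻¹ * x⁻¹ ∈ Subgroup.center E := CfsgLib.PGroups.IsExtraspecial.comm_mem hE g x
  suffices φ x * x⁻¹ = g * x * g⁻¹ * x⁻¹ from mul_right_cancel this
  by_cases hx : x ∈ δ.ker
  · have h0 : φ x * x⁻¹ = 1 := congrArg Subtype.val (MonoidHom.mem_ker.1 hx)
    rw [h0, ← Subgroup.mem_centralizer_iff.1 hgC x hx]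
    simp
  · refine hz2 _ (hφ x) _ hgx (fun h => hx (MonoidHom.mem_ker.2 (Subtype.ext h))) fun h => hgZ ?_
    rw [Subgroup.mem_center_iff]
    intro y
    have hgxc : x * g = g * x := by
      have := mul_inv_eq_one.1 h
      exact (mul_inv_eq_iff_eq_mul.1 this).symm
    by_cases hy : y ∈ δ.ker
    · exact Subgroup.mem_centralizer_iff.1 hgC y hy
    · have hyx : y * x⁻¹ ∈ δ.ker := by
        rw [Subgroup.mul_mem_iff_of_index_two hidx, inv_mem_iff]
        exact iff_of_false hy hx
      have hy' : y = (y * x⁻¹) * x := by group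
      rw [hy', mul_assoc, hgxc, ← mul_assoc, Subgroup.mem_centralizer_iff.1 hgC _ hyx, mul_assoc]

end Cfsg.Agent.S5395
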