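import Cfsg.Statements.S0444
import Cfsg.Agent.Lib.ThreeTrans.Braid
-- import your own Cfsg.Agent.* helpers here

set_option autoImplicit false
open Cfsg

namespace Cfsg.Agent.S0444

/-- Two members of a set of 3-transpositions which do not commute generate a subgroup isomorphic to the symmetric group on three letters. -/
theorem result {G : Type*} [Group G] {E : Set G} (hE : Cfsg.IsThreeTranspositionSet E) {d e : G} (hd : d ∈ E) (he : e ∈ E) (h : ¬ Commute d e) : Nonempty (Subgroup.closure ({d, e} : Set G) ≃* Equiv.Perm (Fin 3)) := by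
  open CfsgLib.ThreeTrans in
  obtain ⟨φ, h0, h1⟩ := exists_hom_perm_three (mul_self hE hd) (mul_self hE he) (braid hE hd he h)
  have hinj : Function.Injective φ := CfsgLib.ThreeTrans.injective_of_perm_three φ (by
    rw [map_mul, h0, h1]
    intro h3
    have := CfsgLib.ThreeTrans.orderOf_mul hE hd he h
    rw [h3, orderOf_one] at this; omega)
  have hr : φ.range = Subgroup.closure ({d, e} : Set G) := by
    apply le_antisymm
    · rintro _ ⟨σ, rfl⟩
      have key : ∀ σ : Equiv.Perm (Fin 3), σ = 1 ∨ σ = Equiv.swap 0 1 ∨ σ = Equiv.swap 1 2 ∨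
          σ = Equiv.swap 0 1 * Equiv.swap 1 2 ∨ σ = Equiv.swap 1 2 * Equiv.swap 0 1 ∨
          σ = Equiv.swap 0 1 * Equiv.swap 1 2 * Equiv.swap 0 1 := by decide
      have hd' : d ∈ Subgroup.closure ({d, e} : Set G) := Subgroup.subset_closure (by simp)
      have he' : e ∈ Subgroup.closure ({d, e} : Set G) := Subgroup.subset_closure (by simp)
      rcases key σ with r | r | r | r | r | r <;> simp only [r, map_one, map_mul, h0, h1] <;>
        first | exact one_mem _ | exact hd' | exact he' | exact mul_mem hd' he' | exact mul_mem he' hd' |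
          exact mul_mem (mul_mem hd' he') hd'
    · rw [Subgroup.closure_le]
      rintro x (rfl | rfl)
      · exact ⟨_, h0⟩
      · exact ⟨_, h1⟩
  exact ⟨((MonoidHom.ofInjective hinj).trans (MulEquiv.subgroupCongr hr)).symm⟩

end Cfsg.Agent.S0444
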