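import Cfsg.Statements.S2401
import Cfsg.Agent.Lib.Known.SLn.Faithful
import Cfsg.Agent.Lib.Known.SLn.Transvection

set_option autoImplicit false
open Cfsg

namespace Cfsg.Agent.S2401

open Matrix CfsgLib.Known.SLn
open scoped commutatorElement

universe u
variable {K : Type u} [Field K] (n : ℕ)

/-- index pairs -/
abbrev Pr : Type := {ij : Fin n × Fin n // ij.1 ≠ ij.2}

/-- elementary family in a presented group whose relators contain the three kinds -/
def presElem (R : Set (FreeGroup (Pr n × K))) (hn : 3 ≤ n)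
    (h1 : ∀ (a : Pr n) (t u : K), FreeGroup.of (a, t) * FreeGroup.of (a, u) * (FreeGroup.of (a, t + u))⁻¹ ∈ R)
    (h2 : ∀ (a b : Pr n) (t u : K), a.1.1 ≠ b.1.2 → a.1.2 ≠ b.1.1 →
      FreeGroup.of (a, t) * FreeGroup.of (b, u) * (FreeGroup.of (a, t))⁻¹ * (FreeGroup.of (b, u))⁻¹ ∈ R)
    (h3 : ∀ (a b : Pr n) (h : a.1.1 ≠ b.1.2) (t u : K), a.1.2 = b.1.1 →
      FreeGroup.of (a, t) * FreeGroup.of (b, u) * (FreeGroup.of (a, t))⁻¹ * (FreeGroup.of (b, u))⁻¹ *
              (FreeGroup.of (⟨(a.1.1, b.1.2), h⟩, t * u))⁻¹ ∈ R) :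
    Elem (Fin n) K (PresentedGroup R) where
  x i j t := if h : i ≠ j then PresentedGroup.of (⟨(i, j), h⟩, t) else 1
  add i j hij t u := by
    simp only [dif_pos hij]
    exact PresentedGroup.mk_eq_mk_of_mul_inv_mem (h1 ⟨(i, j), hij⟩ t u)
  comm i j l hij hjl hil t u := by
    simp only [dif_pos hij, dif_pos hjl, dif_pos hil, commutatorElement_def]
    exact PresentedGroup.mk_eq_mk_of_mul_inv_mem (h3 ⟨(i, j), hij⟩ ⟨(j, l), hjl⟩ hil t u rfl)
  triv i j k l hij hkl hjk hil t u := by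
    simp only [dif_pos hij, dif_pos hkl]
    rw [← commutatorElement_eq_one_iff_commute, commutatorElement_def]
    exact PresentedGroup.one_of_mem (h2 ⟨(i, j), hij⟩ ⟨(k, l), hkl⟩ t u hil hjk)
  third := CfsgLib.Classical.exists_third hn

theorem exists_iso [Finite K] (hn : 3 ≤ n) (R : Set (FreeGroup (Pr n × K)))
    (h1 : ∀ (a : Pr n) (t u : K), FreeGroup.of (a, t) * FreeGroup.of (a, u) * (FreeGroup.of (a, t + u))⁻¹ ∈ R)
    (h2 : ∀ (a b : Pr n) (t u : K), a.1.1 ≠ b.1.2 → a.1.2 ≠ b.1.1 →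
      FreeGroup.of (a, t) * FreeGroup.of (b, u) * (FreeGroup.of (a, t))⁻¹ * (FreeGroup.of (b, u))⁻¹ ∈ R)
    (h3 : ∀ (a b : Pr n) (h : a.1.1 ≠ b.1.2) (t u : K), a.1.2 = b.1.1 →
      FreeGroup.of (a, t) * FreeGroup.of (b, u) * (FreeGroup.of (a, t))⁻¹ * (FreeGroup.of (b, u))⁻¹ *
              (FreeGroup.of (⟨(a.1.1, b.1.2), h⟩, t * u))⁻¹ ∈ R)
    (hlift : ∀ r ∈ R, FreeGroup.lift (fun p : Pr n × K => SpecialLinearGroup.transvection p.1.2 p.2) r = 1) :
    ∃ e : PresentedGroup R ≃* SpecialLinearGroup (Fin n) K, ∀ (a : Pr n) (t : K),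
      (e (PresentedGroup.of (a, t)) : Matrix (Fin n) (Fin n) K) = Matrix.transvection a.1.1 a.1.2 t := by
  obtain ⟨θ, hθ⟩ : ∃ θ : PresentedGroup R →* SpecialLinearGroup (Fin n) K,
      ∀ p, θ (PresentedGroup.of p) = SpecialLinearGroup.transvection p.1.2 p.2 :=
    ⟨PresentedGroup.toGroup hlift, fun p => PresentedGroup.toGroup.of hlift⟩
  have hgen : (presElem n R hn h1 h2 h3).Gen := by
    refine eq_top_iff.2 ((PresentedGroup.closure_range_of R).ge.trans ((Subgroup.closure_le _).2 ?_))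
    rintro _ ⟨⟨⟨⟨i, j⟩, h⟩, t⟩, rfl⟩
    refine Subgroup.subset_closure ⟨i, j, t, h, ?_⟩
    simp only [presElem, dif_pos h]
  have hinj := injective_of_gen (E := presElem n R hn h1 h2 h3) θ (fun a b hab t => by
    rw [show (presElem n R hn h1 h2 h3).x a b t = PresentedGroup.of (⟨(a, b), hab⟩, t) by simp only [presElem, dif_pos hab], hθ]; rfl)
    hgen (by omega)
  have : Nontrivial (Fin n) := Fin.nontrivial_iff_two_le.2 (by omega)
  have hsurj : Function.Surjective θ := MonoidHom.range_eq_top.1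
    (CfsgLib.Classical.closure_transvection_eq_top _ fun i j hij c => ⟨_, hθ (⟨(i, j), hij⟩, c)⟩)
  exact ⟨MulEquiv.ofBijective θ ⟨hinj, hsurj⟩, fun a t => congrArg Subtype.val (hθ (a, t))⟩

theorem rel_add (a : Pr n) (t u : K) :
    FreeGroup.lift (fun p : Pr n × K => SpecialLinearGroup.transvection p.1.2 p.2)
      (FreeGroup.of (a, t) * FreeGroup.of (a, u) * (FreeGroup.of (a, t + u))⁻¹) = 1 := by
  simp only [map_mul, map_inv, FreeGroup.lift_apply_of, tr_add, mul_inv_cancel]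


/-- The Steinberg presentation of `SL_n` over a finite field for `n ≥ 3`: the group generated by symbols `x_ij(t)` (`i ≠ j`, `t` in the field) subject to `x_ij(t) x_ij(u) = x_ij(t + u)` and, for `i ≠ l`, `x_ij(t) x_kl(u) x_ij(t)⁻¹ x_kl(u)⁻¹ = x_il(tu)` if `j = k` and `= 1` if `j ≠ k`, is isomorphic to `SL_n` by an isomorphism sending `x_ij(t)` to the elementary matrix `1 + t E_ij`. -/
theorem result {K : Type*} [Field K] [Finite K] (n : ℕ) (hn : 3 ≤ n) :
    ∃ e : PresentedGroup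
        ({g : FreeGroup ({ij : Fin n × Fin n // ij.1 ≠ ij.2} × K) | ∃ (a : {ij : Fin n × Fin n // ij.1 ≠ ij.2}) (t u : K),
            g = FreeGroup.of (a, t) * FreeGroup.of (a, u) * (FreeGroup.of (a, t + u))⁻¹} ∪
          {g | ∃ (a b : {ij : Fin n × Fin n // ij.1 ≠ ij.2}) (t u : K), a.1.1 ≠ b.1.2 ∧ a.1.2 ≠ b.1.1 ∧
            g = FreeGroup.of (a, t) * FreeGroup.of (b, u) * (FreeGroup.of (a, t))⁻¹ * (FreeGroup.of (b, u))⁻¹} ∪
          {g | ∃ (a b : {ij : Fin n × Fin n // ij.1 ≠ ij.2}) (h : a.1.1 ≠ b.1.2) (t u : K), a.1.2 = b.1.1 ∧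
            g = FreeGroup.of (a, t) * FreeGroup.of (b, u) * (FreeGroup.of (a, t))⁻¹ * (FreeGroup.of (b, u))⁻¹ *
              (FreeGroup.of (⟨(a.1.1, b.1.2), h⟩, t * u))⁻¹}) ≃* Matrix.SpecialLinearGroup (Fin n) K,
      ∀ (a : {ij : Fin n × Fin n // ij.1 ≠ ij.2}) (t : K), ((e (PresentedGroup.of (a, t)) : Matrix (Fin n) (Fin n) K)) = Matrix.transvection a.1.1 a.1.2 t := by
  refine exists_iso n hn _ (fun a t u => Or.inl (Or.inl ⟨a, t, u, rfl⟩))
    (fun a b t u p q => Or.inl (Or.inr ⟨a, b, t, u, p, q, rfl⟩))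
    (fun a b h t u p => Or.inr ⟨a, b, h, t, u, p, rfl⟩) ?_
  rintro _ ((⟨a, t, u, rfl⟩ | ⟨a, b, t, u, p, q, rfl⟩) | ⟨a, b, h, t, u, p, rfl⟩)
  · exact rel_add n a t u
  · simp only [map_mul, map_inv, FreeGroup.lift_apply_of]
    rw [← commutatorElement_def, commutatorElement_eq_one_iff_commute]
    exact tr_triv a.2 b.2 q p t u
  · simp only [map_mul, map_inv, FreeGroup.lift_apply_of]
    obtain ⟨⟨i, j⟩, hij⟩ := a
    obtain ⟨⟨k, l⟩, hkl⟩ := b
    obtain rfl : j = k := p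
    rw [← commutatorElement_def, tr_comm hij hkl h, mul_inv_cancel]

end Cfsg.Agent.S2401
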