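import Cfsg.Statements.S3377
import Mathlib

set_option autoImplicit false
open Cfsg

namespace Cfsg.Agent.S3377

--- PRE
theorem closed_table {Q : Type*} (X Y : Q → Q) (hX : Function.Injective X) (hY : Function.Injective Y)
    (r0 : ∀ q, X (X (X q)) = q) (r1 : ∀ q, Y (Y (Y (Y (Y q)))) = q) (r2 : ∀ q, Y (X (Y (X q))) = q) (p0 : Q) (hp : Y p0 = p0)
    : ∀ q, q ∈ ([p0, (X p0), (X (X p0)), (Y (X (X p0))), (X (Y (X (X p0)))), (Y (Y (X (X p0)))), (X (X (Y (X (X p0))))), (X (Y (Y (X (X p0))))), (Y (X (X (Y (X (X p0)))))), (Y (Y (X (X (Y (X (X p0))))))), (X (Y (Y (X (X (Y (X (X p0)))))))), (X (X (Y (Y (X (X (Y (X (X p0)))))))))] : List Q) → (X q ∈ ([p0, (X p0), (X (X p0)), (Y (X (X p0))), (X (Y (X (X p0)))), (Y (Y (X (X p0)))), (X (X (Y (X (X p0))))), (X (Y (Y (X (X p0))))), (Y (X (X (Y (X (X p0)))))), (Y (Y (X (X (Y (X (X p0))))))), (X (Y (Y (X (X (Y (X (X p0)))))))), (X (X (Y (Y (X (X (Y (X (X p0)))))))))] : List Q) ∧ Y q ∈ ([p0, (X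 p0), (X (X p0)), (Y (X (X p0))), (X (Y (X (X p0)))), (Y (Y (X (X p0)))), (X (X (Y (X (X p0))))), (X (Y (Y (X (X p0))))), (Y (X (X (Y (X (X p0)))))), (Y (Y (X (X (Y (X (X p0))))))), (X (Y (Y (X (X (Y (X (X p0)))))))), (X (X (Y (Y (X (X (Y (X (X p0)))))))))] : List Q)) := by
  have e0Y : Y p0 = p0 := hp
  obtain ⟨p1, e0X⟩ : ∃ u, X p0 = u := ⟨_, rfl⟩
  obtain ⟨p2, e1X⟩ : ∃ u, X p1 = u := ⟨_, rfl⟩
  have e2X : X p2 = p0 := by
    have h := r0 p0
    rw [e0X, e1X] at h
    exact h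
  have e1Y : Y p1 = p2 := by
    have h := r2 p0
    rw [e0X] at h
    exact (hX (hY (h.trans (show p0 = _ from Eq.symm (show Y (X p2) = p0 by rw [e2X, e0Y])))))
  obtain ⟨p3, e2Y⟩ : ∃ u, Y p2 = u := ⟨_, rfl⟩
  obtain ⟨p4, e3X⟩ : ∃ u, X p3 = u := ⟨_, rfl⟩
  have e4Y : Y p4 = p1 := by
    have h := r2 p1
    rw [e1X, e2Y, e3X] at h
    exact h
  obtain ⟨p5, e3Y⟩ : ∃ u, Y p3 = u := ⟨_, rfl⟩
  have e5Y : Y p5 = p4 := by
    have h := r1 p1
    rw [e1Y, e2Y, e3Y] at h
    exact (hY (h.trans (show p1 = _ from Eq.symm (show Y p4 = p1 by rw [e4Y]))))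
  obtain ⟨p6, e4X⟩ : ∃ u, X p4 = u := ⟨_, rfl⟩
  have e6X : X p6 = p3 := by
    have h := r0 p3
    rw [e3X, e4X] at h
    exact h
  obtain ⟨p7, e5X⟩ : ∃ u, X p5 = u := ⟨_, rfl⟩
  have e7Y : Y p7 = p6 := by
    have h := r2 p5
    rw [e5X] at h
    exact (hX (hY (h.trans (show p5 = _ from Eq.symm (show Y (X p6) = p5 by rw [e6X, e3Y])))))
  obtain ⟨p8, e6Y⟩ : ∃ u, Y p6 = u := ⟨_, rfl⟩
  have e8X : X p8 = p5 := by
    have h := r2 p4
    rw [e4X, e6Y] at h
    exact (hY (h.trans (show p4 = _ from Eq.symm (show Y p5 = p4 by rw [e5Y]))))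
  have e7X : X p7 = p8 := by
    have h := r0 p5
    rw [e5X] at h
    exact (hX (h.trans (show p5 = _ from Eq.symm (show X p8 = p5 by rw [e8X]))))
  obtain ⟨p9, e8Y⟩ : ∃ u, Y p8 = u := ⟨_, rfl⟩
  obtain ⟨p10, e9X⟩ : ∃ u, X p9 = u := ⟨_, rfl⟩
  have e10Y : Y p10 = p7 := by
    have h := r2 p7
    rw [e7X, e8Y, e9X] at h
    exact h
  have e9Y : Y p9 = p10 := by
    have h := r1 p8
    rw [e8Y] at h
    exact (hY (hY (hY (h.trans (show p8 = _ from Eq.symm (show Y (Y (Y p10)) = p8 by rw [e10Y, e7Y, e6Y]))))))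
  obtain ⟨p11, e10X⟩ : ∃ u, X p10 = u := ⟨_, rfl⟩
  have e11X : X p11 = p9 := by
    have h := r0 p9
    rw [e9X, e10X] at h
    exact h
  have e11Y : Y p11 = p11 := by
    have h := r2 p10
    rw [e10X] at h
    exact (hX (hY (h.trans (show p10 = _ from Eq.symm (show Y (X p11) = p10 by rw [e11X, e9Y])))))
  intro q hq
  simp only [e0X, e0Y, e1X, e1Y, e2X, e2Y, e3X, e3Y, e4X, e4Y, e5X, e5Y, e6X, e6Y, e7X, e7Y, e8X, e8Y, e9X, e9Y, e10X, e10Y, e11X, e11Y, List.mem_cons, List.not_mem_nil, or_false] at hq ⊢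
  rcases hq with rfl | rfl | rfl | rfl | rfl | rfl | rfl | rfl | rfl | rfl | rfl | rfl
  all_goals simp only [e0X, e0Y, e1X, e1Y, e2X, e2Y, e3X, e3Y, e4X, e4Y, e5X, e5Y, e6X, e6Y, e7X, e7Y, e8X, e8Y, e9X, e9Y, e10X, e10Y, e11X, e11Y, true_or, or_true, and_self]

/-- representatives of the twelve cosets -/
def reps : List (List (Fin 2)) := [[], [(0 : Fin 2)], [(0 : Fin 2), (0 : Fin 2)], [1, (0 : Fin 2), (0 : Fin 2)], [(0 : Fin 2), 1, (0 : Fin 2), (0 : Fin 2)], [1, 1, (0 : Fin 2), (0 : Fin 2)], [(0 : Fin 2), (0 : Fin 2), 1, (0 : Fin 2), (0 : Fin 2)], [(0 : Fin 2), 1, 1, (0 : Fin 2), (0 : Fin 2)], [1, (0 : Fin 2), (0 : Fin 2), 1, (0 : Fin 2), (0 : Fin 2)], [1, 1, (0 : Fin 2), (0 : Fin 2), 1, (0 : Fin 2), (0 : Fin 2)], [(0 : Fin 2), 1, 1, (0 : Fin 2), (0 : Fin 2), 1, (0 : Fin 2), (0 : Fin 2)], [(0 : Fin 2), (0 : Fin 2), 1, 1, (0 : Fin 2), (0 : Fin 2), 1, (0 : Fin 2), (0 : Fin 2)]]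

theorem reps_map {G : Type*} [Group G] (f : Fin 2 → G) {Q : Type*} [MulAction G Q] (p0 : Q) (w : List (Fin 2)) :
    (w.map f).prod • p0 = w.foldr (fun i q => f i • q) p0 := by
  induction w with
  | nil => simp
  | cons a w ih => simp [mul_smul, ih]

/-- the image of the first generator -/
def gx : Equiv.Perm (Fin 5) := Equiv.swap 0 1 * Equiv.swap 1 2

/-- the image of the second generator -/
def gy : Equiv.Perm (Fin 5) := gx⁻¹ * (Equiv.swap 0 3 * Equiv.swap 1 4)

theorem gx_facts : gx ^ 3 = 1 ∧ gy ^ 5 = 1 ∧ (gx * gy) ^ 2 = 1 ∧ Equiv.Perm.sign gx = 1 ∧ Equiv.Perm.sign gy = 1 := by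
  decide +kernel

theorem covers : ∀ a : Equiv.Perm (Fin 5), Equiv.Perm.sign a = 1 →
    ∃ w ∈ reps, ∃ j : Fin 5, (w.map ![gx, gy]).prod * gy ^ (j : ℕ) = a := by
  decide +kernel

/-- The alternating group of degree 5 has the presentation ⟨x, y | x³ = 1, y⁵ = 1, (xy)² = 1⟩: the group so presented is isomorphic to Alt(5). -/
theorem result :
    Nonempty (PresentedGroup ({FreeGroup.of (0 : Fin 2) ^ 3, FreeGroup.of (1 : Fin 2) ^ 5,
        (FreeGroup.of (0 : Fin 2) * FreeGroup.of 1) ^ 2} : Set (FreeGroup (Fin 2))) ≃* alternatingGroup (Fin 5)) := by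
  classical
  let rels : Set (FreeGroup (Fin 2)) := {FreeGroup.of (0 : Fin 2) ^ 3, FreeGroup.of (1 : Fin 2) ^ 5,
        (FreeGroup.of (0 : Fin 2) * FreeGroup.of 1) ^ 2}
  show Nonempty (PresentedGroup rels ≃* alternatingGroup (Fin 5))
  let P := PresentedGroup rels
  let x : P := PresentedGroup.of 0
  let y : P := PresentedGroup.of 1
  have hx3 : x ^ 3 = 1 := by
    have h : FreeGroup.of (0 : Fin 2) ^ 3 ∈ rels := by simp [rels]
    have := PresentedGroup.one_of_mem h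
    rwa [map_pow] at this
  have hy5 : y ^ 5 = 1 := by
    have h : FreeGroup.of (1 : Fin 2) ^ 5 ∈ rels := by simp [rels]
    have := PresentedGroup.one_of_mem h
    rwa [map_pow] at this
  have hxy : (x * y) ^ 2 = 1 := by
    have h : (FreeGroup.of (0 : Fin 2) * FreeGroup.of 1) ^ 2 ∈ rels := by simp [rels]
    have := PresentedGroup.one_of_mem h
    rwa [map_pow, map_mul] at this
  have hyx : y * (x * (y * x)) = 1 := by
    calc y * (x * (y * x)) = x⁻¹ * (x * y) ^ 2 * x := by rw [pow_two]; group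
      _ = 1 := by rw [hxy]; group
  let Q := P ⧸ Subgroup.zpowers y
  let p0 : Q := ((1 : P) : Q)
  have hp0 : y • p0 = p0 := QuotientGroup.eq.2 (by simp only [smul_eq_mul, mul_one]; exact Subgroup.inv_mem _ (Subgroup.mem_zpowers y))
  have tbl := closed_table (Q := Q) (x • ·) (y • ·) (MulAction.injective x) (MulAction.injective y)
    (fun q => by show x • x • x • q = q; rw [← mul_smul, ← mul_smul, show x * x * x = x ^ 3 by rw [pow_succ, pow_two], hx3, one_smul])
    (fun q => by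
      show y • y • y • y • y • q = q
      rw [← mul_smul, ← mul_smul, ← mul_smul, ← mul_smul, show y * y * y * y * y = y ^ 5 by simp only [pow_succ, pow_zero, one_mul], hy5, one_smul])
    (fun q => by show y • x • y • x • q = q; rw [← mul_smul, ← mul_smul, ← mul_smul, mul_assoc, mul_assoc, hyx, one_smul])
    p0 hp0
  let f : Fin 2 → P := ![x, y]
  let T : List Q := reps.map fun w => w.foldr (fun i q => f i • q) p0
  have hT : ∀ q ∈ T, x • q ∈ T ∧ y • q ∈ T := tbl
  have hall : ∀ g : P, g • p0 ∈ T := by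
    intro g
    let S : Finset Q := T.toFinset
    have hS : ∀ i, ∀ q ∈ T, f i • q ∈ T := by
      intro i q hq
      fin_cases i
      · exact (hT q hq).1
      · exact (hT q hq).2
    have hmem : g ∈ Subgroup.closure (Set.range (PresentedGroup.of : Fin 2 → P)) := by
      rw [PresentedGroup.closure_range_of]; trivial
    suffices ∀ q ∈ T, g • q ∈ T by exact this p0 (List.mem_cons_self ..)
    refine Subgroup.closure_induction (p := fun g _ => ∀ q ∈ T, g • q ∈ T) ?_ ?_ ?_ ?_ hmem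
    · rintro _ ⟨i, rfl⟩
      fin_cases i
      · exact fun q hq => (hT q hq).1
      · exact fun q hq => (hT q hq).2
    · intro q hq; rwa [one_smul]
    · intro a b _ _ ha hb q hq; rw [mul_smul]; exact ha _ (hb q hq)
    · intro a _ ha q hq
      have hbij : S.image (a • ·) = S := Finset.eq_of_subset_of_card_le
        (fun u hu => by
          obtain ⟨v, hv, rfl⟩ := Finset.mem_image.1 hu
          exact List.mem_toFinset.2 (ha v (List.mem_toFinset.1 hv)))
        (by rw [Finset.card_image_of_injective _ (MulAction.injective a)])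
      obtain ⟨v, hv, hv'⟩ := Finset.mem_image.1 (hbij.symm ▸ List.mem_toFinset.2 hq : q ∈ S.image (a • ·))
      rw [← hv', inv_smul_smul]
      exact List.mem_toFinset.1 hv
  -- at most sixty elements
  have hfin : ∀ g : P, ∃ w ∈ reps, ∃ j : Fin 5, (w.map f).prod * y ^ (j : ℕ) = g := by
    intro g
    obtain ⟨w, hw, hwg⟩ := List.mem_map.1 (hall g)
    rw [← reps_map] at hwg
    have hmk : (((w.map f).prod : P) : Q) = (g : Q) := by
      have e1 : ∀ u : P, u • p0 = (u : Q) := fun u => by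
        show ((u * 1 : P) : Q) = _; rw [mul_one]
      rw [← e1, ← e1]; exact hwg
    obtain ⟨k, hk⟩ := QuotientGroup.eq.1 hmk
    have hk' : y ^ k = (w.map f).prod⁻¹ * g := hk
    refine ⟨w, hw, ⟨(k % 5).toNat, by omega⟩, ?_⟩
    show (w.map f).prod * y ^ (k % 5).toNat = g
    have hy5' : y ^ (5 : ℤ) = 1 := by exact_mod_cast hy5
    rw [← zpow_natCast, Int.toNat_of_nonneg (by omega), ← mul_one (y ^ (k % 5)),
      ← one_zpow (k / 5), ← hy5', ← _root_.zpow_mul, ← zpow_add, Int.emod_add_mul_ediv, hk', mul_inv_cancel_left]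
  let gA : Fin 2 → alternatingGroup (Fin 5) :=
    ![⟨gx, gx_facts.2.2.2.1⟩, ⟨gy, gx_facts.2.2.2.2⟩]
  have hrel : ∀ r ∈ rels, FreeGroup.lift gA r = 1 := by
    intro r hr
    simp only [rels, Set.mem_insert_iff, Set.mem_singleton_iff] at hr
    rcases hr with rfl | rfl | rfl <;> apply Subtype.ext <;> simp [gA, gx_facts.1, gx_facts.2.1, gx_facts.2.2.1]
  let φ : P →* alternatingGroup (Fin 5) := PresentedGroup.toGroup hrel
  have hφ : ∀ (w : List (Fin 2)) (j : ℕ), ((φ ((w.map f).prod * y ^ j) : alternatingGroup (Fin 5)) : Equiv.Perm (Fin 5)) =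
      (w.map ![gx, gy]).prod * gy ^ j := by
    intro w j
    rw [map_mul, map_pow, map_list_prod, List.map_map, Subgroup.coe_mul, Subgroup.coe_pow,
      ← Subgroup.subtype_apply, map_list_prod, List.map_map]
    congr 1
    · congr 1
      refine List.map_congr_left fun i _ => ?_
      fin_cases i
      · show ((φ x : alternatingGroup (Fin 5)) : Equiv.Perm (Fin 5)) = gx
        exact congrArg Subtype.val (PresentedGroup.toGroup.of hrel)
      · show ((φ y : alternatingGroup (Fin 5)) : Equiv.Perm (Fin 5)) = gy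
        exact congrArg Subtype.val (PresentedGroup.toGroup.of hrel)
    all_goals simp [y, φ, gA, PresentedGroup.toGroup.of]
  have hsurj : Function.Surjective φ := by
    rintro ⟨a, ha⟩
    obtain ⟨w, hw, j, hj⟩ := covers a ha
    exact ⟨(w.map f).prod * y ^ (j : ℕ), Subtype.ext ((hφ w j).trans hj)⟩
  have hsur2 : Function.Surjective (fun q : Fin reps.length × Fin 5 => ((reps.get q.1).map f).prod * y ^ (q.2 : ℕ)) := by
    intro g
    obtain ⟨w, hw, j, hj⟩ := hfin g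
    obtain ⟨i, hi⟩ := List.mem_iff_get.1 hw
    exact ⟨(i, j), by simp only [hi]; exact hj⟩
  haveI : Finite P := Finite.of_surjective _ hsur2
  have hle : Nat.card P ≤ 60 := (Nat.card_le_card_of_surjective _ hsur2).trans (by simp [reps])
  have hA : Nat.card (alternatingGroup (Fin 5)) = 60 := by
    rw [Nat.card_eq_fintype_card]
    decide +kernel
  have hbij : Function.Bijective φ := (Nat.bijective_iff_surjective_and_card φ).2
    ⟨hsurj, le_antisymm (hA ▸ hle) (Nat.card_le_card_of_surjective φ hsurj)⟩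
  exact ⟨MulEquiv.ofBijective φ hbij⟩

end Cfsg.Agent.S3377
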