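import Cfsg.Statements.S2430
import Cfsg.Agent.Lib.Known.SL2Char.Normalizers

set_option autoImplicit false
open Cfsg

namespace Cfsg.Agent.S2430

/-- Let F be a finite field with q elements, q odd, ℓ an odd prime, and P a Sylow ℓ-subgroup of SL₂ over F. If ℓ divides q − 1, the centraliser of P is cyclic of order q − 1 (a split torus) and the normaliser of P has order 2(q − 1); if ℓ divides q + 1, the centraliser of P is cyclic of order q + 1 (a non-split torus) and the normaliser of P has order 2(q + 1). -/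
theorem result {F : Type*} [Field F] [Fintype F] (hodd : Odd (Fintype.card F)) (ℓ : ℕ) [Fact ℓ.Prime] (hℓ : ℓ ≠ 2)
    (P : Sylow ℓ (Matrix.SpecialLinearGroup (Fin 2) F)) :
    (ℓ ∣ Fintype.card F - 1 →
      Nat.card (Subgroup.centralizer ((P : Subgroup (Matrix.SpecialLinearGroup (Fin 2) F)) : Set (Matrix.SpecialLinearGroup (Fin 2) F))) = Fintype.card F - 1 ∧
      IsCyclic (Subgroup.centralizer ((P : Subgroup (Matrix.SpecialLinearGroup (Fin 2) F)) : Set (Matrix.SpecialLinearGroup (Fin 2) F))) ∧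
      Nat.card (Subgroup.normalizer ((P : Subgroup (Matrix.SpecialLinearGroup (Fin 2) F)) : Set (Matrix.SpecialLinearGroup (Fin 2) F))) = 2 * (Fintype.card F - 1)) ∧
    (ℓ ∣ Fintype.card F + 1 →
      Nat.card (Subgroup.centralizer ((P : Subgroup (Matrix.SpecialLinearGroup (Fin 2) F)) : Set (Matrix.SpecialLinearGroup (Fin 2) F))) = Fintype.card F + 1 ∧
      IsCyclic (Subgroup.centralizer ((P : Subgroup (Matrix.SpecialLinearGroup (Fin 2) F)) : Set (Matrix.SpecialLinearGroup (Fin 2) F))) ∧
      Nat.card (Subgroup.normalizer ((P : Subgroup (Matrix.SpecialLinearGroup (Fin 2) F)) : Set (Matrix.SpecialLinearGroup (Fin 2) F))) = 2 * (Fintype.card F + 1)) := by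
  classical
  have h2 : (2 : F) ≠ 0 := Ring.two_ne_zero fun h => by
    have := FiniteField.even_card_iff_char_two.1 h
    rw [Nat.odd_iff] at hodd
    omega
  have hl : ℓ.Prime := Fact.out
  have hq : 1 < Fintype.card F := Fintype.one_lt_card
  have hG := CfsgLib.Classical.Two.card_SL_two (F := F)
  have key : ∀ (T : Subgroup (Matrix.SpecialLinearGroup (Fin 2) F)) (m m' : ℕ), Nat.card T = m →
      m * m' = Fintype.card F ^ 2 - 1 → ¬ ℓ ∣ Fintype.card F → ¬ ℓ ∣ m' → ¬ ℓ ∣ T.index := by
    intro T m m' hT hmm h1 h2' hdvd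
    have h := T.index_mul_card
    rw [hG, hT, ← hmm, mul_comm m, ← mul_assoc] at h
    have hm : 0 < m := hT ▸ Nat.card_pos
    rw [Nat.eq_of_mul_eq_mul_right hm h] at hdvd
    exact hl.not_dvd_mul h1 h2' hdvd
  have two : ∀ a : ℕ, ℓ ∣ a → ℓ ∣ a + 2 → False := fun a h h' => hℓ
    ((Nat.prime_dvd_prime_iff_eq hl Nat.prime_two).1 ((Nat.dvd_add_right h).1 h'))
  refine ⟨fun h => ?_, fun h => ?_⟩
  · have hq3 : 3 < Fintype.card F := by
      have h' := Nat.le_of_dvd (by omega) h
      have := hl.two_le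
      omega
    obtain ⟨a, ha⟩ := CfsgLib.SL2Char.exists_unit_sq_ne_one hq3
    have hT := CfsgLib.SL2Char.card_centralizer_diag (d := CfsgLib.SL2Char.diagS a) rfl rfl ha
    rw [Nat.card_eq_fintype_card (α := F)] at hT
    have := CfsgLib.SL2Char.sylow_odd_torus h2 hℓ
      (CfsgLib.SL2Char.nonScalar_diag (d := CfsgLib.SL2Char.diagS a) rfl rfl ha)
      (CfsgLib.SL2Char.tr_sq_ne_diag rfl rfl ha) (CfsgLib.SL2Char.weylS_conj_diag rfl rfl)
      (by rw [hT]; exact h)
      (key _ _ _ hT (by rw [mul_comm]; exact CfsgLib.SL2Char.card_eq_succ_mul.symm)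
        (fun hd => hl.not_dvd_one (by
          have := Nat.dvd_sub hd h
          rwa [show Fintype.card F - (Fintype.card F - 1) = 1 by omega] at this))
        (fun hd => two _ h (by
          rwa [show Fintype.card F - 1 + 2 = Fintype.card F + 1 by omega]))) P
    rwa [hT] at this
  · obtain ⟨x, hx⟩ := CfsgLib.SL2Char.exists_elliptic_SL (F := F)
    obtain ⟨w, hw⟩ := CfsgLib.SL2Char.exists_inverter hx
    have hT := CfsgLib.SL2Char.card_centralizer_SL hx
    have := CfsgLib.SL2Char.sylow_odd_torus h2 hℓ (CfsgLib.SL2Char.nonScalar_of_elliptic hx)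
      (CfsgLib.SL2Char.tr_sq_ne_of_elliptic hx) hw (by rw [hT]; exact h)
      (key _ _ _ hT CfsgLib.SL2Char.card_eq_succ_mul.symm
        (fun hd => hl.not_dvd_one ((Nat.dvd_add_right hd).1 h))
        (fun hd => two _ hd (by
          rwa [show Fintype.card F - 1 + 2 = Fintype.card F + 1 by omega]))) P
    rwa [hT] at this

end Cfsg.Agent.S2430
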