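import Cfsg.Statements.S2437
import Cfsg.Agent.Lib.Known.SL2Char.Borel
import Cfsg.Agent.Lib.Known.SL2Char.Unipotent

set_option autoImplicit false
open Cfsg

namespace Cfsg.Agent.S2437

/-- Over a finite field F with q elements, q odd, the upper triangular subgroup of SL₂ (a Borel subgroup, of order q(q − 1)) has exactly q + 3 conjugacy classes. -/
theorem result {F : Type*} [Field F] [Fintype F] (hodd : Odd (Fintype.card F)) :
    Nat.card (ConjClasses ((Cfsg.upperTriangularGL 2 F).comap Matrix.SpecialLinearGroup.toGL)) = Fintype.card F + 3 := by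
  classical
  have := Fintype.ofFinite (Matrix.SpecialLinearGroup (Fin 2) F)
  have h2 : (2 : F) ≠ 0 := Ring.two_ne_zero fun h => by
    have := FiniteField.even_card_iff_char_two.1 h
    rw [Nat.odd_iff] at hodd
    omega
  let B := (Cfsg.upperTriangularGL 2 F).comap
    (Matrix.SpecialLinearGroup.toGL : Matrix.SpecialLinearGroup (Fin 2) F →* _)
  let P : Fˣ × Fˣ → F × F → Prop := fun ab uv => (ab.1 : F) * uv.2 + uv.1 * ((ab.2⁻¹ : Fˣ) : F) =
    (ab.2 : F) * uv.1 + uv.2 * ((ab.1⁻¹ : Fˣ) : F)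
  have hentry : ∀ x y : Fˣ × F,
      (((CfsgLib.SL2Char.borelSL (F := F)).symm x * CfsgLib.SL2Char.borelSL.symm y : B) :
        Matrix.SpecialLinearGroup (Fin 2) F).1 0 1 = (x.1 : F) * y.2 + x.2 * ((y.1⁻¹ : Fˣ) : F) := by
    intro x y
    change (!![(x.1 : F), x.2; 0, ((x.1⁻¹ : Fˣ) : F)] * !![(y.1 : F), y.2; 0, ((y.1⁻¹ : Fˣ) : F)]) 0 1 = _
    simp [Matrix.mul_apply, Fin.sum_univ_two]
  have hcomm : ∀ x y : Fˣ × F,
      Commute (CfsgLib.SL2Char.borelSL.symm x : B) (CfsgLib.SL2Char.borelSL.symm y) ↔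
        P (x.1, y.1) (x.2, y.2) := by
    intro x y
    constructor
    · intro h
      have e := congrArg (fun z : B => (z : Matrix.SpecialLinearGroup (Fin 2) F).1 0 1) h.eq
      simpa only [hentry] using e
    · intro h
      refine Subtype.ext (CfsgLib.PLocal.SLTwo.ext2 ?_ ?_ ?_ ?_)
      · change (!![(x.1 : F), x.2; 0, ((x.1⁻¹ : Fˣ) : F)] * !![(y.1 : F), y.2; 0, ((y.1⁻¹ : Fˣ) : F)]) 0 0 =
          (!![(y.1 : F), y.2; 0, ((y.1⁻¹ : Fˣ) : F)] * !![(x.1 : F), x.2; 0, ((x.1⁻¹ : Fˣ) : F)]) 0 0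
        simp [Matrix.mul_apply, Fin.sum_univ_two, mul_comm]
      · rw [hentry, hentry]; exact h
      · change (!![(x.1 : F), x.2; 0, ((x.1⁻¹ : Fˣ) : F)] * !![(y.1 : F), y.2; 0, ((y.1⁻¹ : Fˣ) : F)]) 1 0 =
          (!![(y.1 : F), y.2; 0, ((y.1⁻¹ : Fˣ) : F)] * !![(x.1 : F), x.2; 0, ((x.1⁻¹ : Fˣ) : F)]) 1 0
        simp [Matrix.mul_apply, Fin.sum_univ_two]
      · change (!![(x.1 : F), x.2; 0, ((x.1⁻¹ : Fˣ) : F)] * !![(y.1 : F), y.2; 0, ((y.1⁻¹ : Fˣ) : F)]) 1 1 =
          (!![(y.1 : F), y.2; 0, ((y.1⁻¹ : Fˣ) : F)] * !![(x.1 : F), x.2; 0, ((x.1⁻¹ : Fˣ) : F)]) 1 1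
        simp [Matrix.mul_apply, Fin.sum_univ_two, mul_comm]
  have e : {z : B × B // Commute z.1 z.2} ≃ Σ ab : Fˣ × Fˣ, {uv : F × F // P ab uv} :=
    { toFun := fun z => ⟨((CfsgLib.SL2Char.borelSL z.1.1).1, (CfsgLib.SL2Char.borelSL z.1.2).1),
        ⟨((CfsgLib.SL2Char.borelSL z.1.1).2, (CfsgLib.SL2Char.borelSL z.1.2).2), by
          refine (hcomm _ _).1 ?_
          rw [Equiv.symm_apply_apply, Equiv.symm_apply_apply]
          exact z.2⟩⟩
      invFun := fun w => ⟨(CfsgLib.SL2Char.borelSL.symm (w.1.1, w.2.1.1),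
        CfsgLib.SL2Char.borelSL.symm (w.1.2, w.2.1.2)), (hcomm _ _).2 w.2.2⟩
      left_inv := fun z => Subtype.ext (Prod.ext (CfsgLib.SL2Char.borelSL.symm_apply_apply _)
        (CfsgLib.SL2Char.borelSL.symm_apply_apply _))
      right_inv := fun w => Sigma.subtype_ext (Prod.ext (Units.ext rfl) (Units.ext rfl)) rfl }
  have hfib : ∀ ab : Fˣ × Fˣ, Nat.card {uv : F × F // P ab uv} =
      if (ab.1 : F) * ab.1 = 1 ∧ (ab.2 : F) * ab.2 = 1 then Nat.card F * Nat.card F else Nat.card F := by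
    rintro ⟨a, b⟩
    have hinv : ∀ c : Fˣ, (c : F) * c = 1 → ((c⁻¹ : Fˣ) : F) = c := fun c hc =>
      Units.inv_eq_of_mul_eq_one_right hc
    have hd : ∀ c : Fˣ, ¬(c : F) * c = 1 → (c : F) - ((c⁻¹ : Fˣ) : F) ≠ 0 := fun c hc h => hc (by
      nth_rewrite 2 [sub_eq_zero.1 h]
      exact c.mul_inv)
    split_ifs with h
    · rw [← Nat.card_prod]
      refine Nat.card_congr (Equiv.subtypeUnivEquiv fun uv => ?_)
      simp only [P, hinv a h.1, hinv b h.2]
      ring
    · by_cases ha : (a : F) * a = 1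
      · have hb : ¬(b : F) * b = 1 := fun hb => h ⟨ha, hb⟩
        refine Nat.card_congr
          { toFun := fun uv => uv.1.2
            invFun := fun v => ⟨(0, v), by simp only [P, hinv a ha]; ring⟩
            left_inv := fun uv => Subtype.ext (Prod.ext ?_ rfl)
            right_inv := fun v => rfl }
        have h' := uv.2
        simp only [P, hinv a ha] at h'
        exact ((mul_eq_zero.1 (show ((b : F) - ((b⁻¹ : Fˣ) : F)) * uv.1.1 = 0 by
          linear_combination -h')).resolve_left (hd b hb)).symm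
      · refine Nat.card_congr
          { toFun := fun uv => uv.1.1
            invFun := fun u => ⟨(u, u * ((b : F) - ((b⁻¹ : Fˣ) : F)) / ((a : F) - ((a⁻¹ : Fˣ) : F))), by
              simp only [P]
              have e1 := div_mul_cancel₀ (u * ((b : F) - ((b⁻¹ : Fˣ) : F))) (hd a ha)
              linear_combination e1⟩
            left_inv := fun uv => Subtype.ext (Prod.ext rfl ?_)
            right_inv := fun u => rfl }
        have h' := uv.2
        simp only [P] at h'
        rw [div_eq_iff (hd a ha)]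
        linear_combination -h'
  have h := card_comm_eq_card_conjClasses_mul_card B
  rw [Nat.card_congr e, Nat.card_sigma, Finset.sum_congr rfl fun ab _ => hfib ab, Finset.sum_ite,
    Finset.sum_const, Finset.sum_const, smul_eq_mul, smul_eq_mul,
    Nat.card_congr (CfsgLib.SL2Char.borelSL (F := F)), Nat.card_prod, Nat.card_units] at h
  have hs : Nat.card {ab : Fˣ × Fˣ // (ab.1 : F) * ab.1 = 1 ∧ (ab.2 : F) * ab.2 = 1} = 4 := by
    have h' : Nat.card {a : Fˣ // (a : F) * a = 1} = 2 := by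
      rw [← CfsgLib.SL2Char.card_sqrt_one_odd h2]
      exact Nat.card_congr
        { toFun := fun a => ⟨a.1, a.2⟩
          invFun := fun a => ⟨Units.mkOfMulEqOne _ _ a.2, a.2⟩
          left_inv := fun a => Subtype.ext (Units.ext rfl)
          right_inv := fun a => rfl }
    rw [Nat.card_congr (Equiv.subtypeProdEquivProd (p := fun a : Fˣ => (a : F) * a = 1)
      (q := fun a : Fˣ => (a : F) * a = 1)), Nat.card_prod, h']
  rw [Nat.card_eq_fintype_card, Fintype.card_subtype] at hs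
  have hrest := Finset.card_filter_add_card_filter_not (s := (Finset.univ : Finset (Fˣ × Fˣ)))
    (fun ab => (ab.1 : F) * ab.1 = 1 ∧ (ab.2 : F) * ab.2 = 1)
  rw [hs, Finset.card_univ, Fintype.card_prod, ← Nat.card_eq_fintype_card (α := Fˣ), Nat.card_units,
    Nat.card_eq_fintype_card (α := F)] at hrest
  rw [hs, Nat.card_eq_fintype_card (α := F)] at h
  have hq : 1 < Fintype.card F := Fintype.one_lt_card
  obtain ⟨m, hm⟩ : ∃ m, Fintype.card F = m + 1 := ⟨Fintype.card F - 1, by omega⟩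
  have hm0 : 0 < m := by omega
  simp only [hm, Nat.add_sub_cancel] at h hrest ⊢
  refine Nat.eq_of_mul_eq_mul_right (show 0 < m * (m + 1) by positivity) ?_
  rw [← h]
  nlinarith

end Cfsg.Agent.S2437
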