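import Cfsg.Statements.S1349
import Cfsg.Agent.Lib.Signalizer.Basic
import Cfsg.Agent.Lib.Components.FStar
import Cfsg.Agent.Lib.OddLocal.Coprime
import Cfsg.Agent.Lib.TwoGroups.Recognition
import Cfsg.Agent.Lib.LocalEvenB.Basic
import Cfsg.Agent.Lib.Core.Cores

set_option autoImplicit false
open Cfsg

namespace Cfsg.Agent.S1349

open Subgroup CfsgLib CfsgLib.Signalizer
open scoped commutatorElement

variable {G : Type*} [Group G] [Finite G]

omit [Finite G] in
theorem eq_one_of_sq_of_odd {F : Subgroup G} (hF : Odd (Nat.card F)) {y : G} (hy : y ∈ F)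
    (h : y * y = 1) : y = 1 := by
  refine orderOf_eq_one_iff.mp (Nat.eq_one_of_dvd_coprimes
    (Nat.coprime_two_right.mpr hF) (Subgroup.orderOf_dvd_natCard _ hy) (orderOf_dvd_of_pow_eq_one ?_))
  rw [pow_two, h]

omit [Finite G] in
theorem commute_of_sq {F : Subgroup G} (hF : Odd (Nat.card F)) {y z : G} (hy : y ∈ F)
    (h : Commute (y * y) z) : Commute y z := by
  obtain ⟨m, hm⟩ := (Odd.of_dvd_nat hF (Subgroup.orderOf_dvd_natCard _ hy))
  have e : y = (y * y) ^ (m + 1) := by
    rw [← pow_two, ← pow_mul, show 2 * (m + 1) = orderOf y + 1 by omega, pow_succ, pow_orderOf_eq_one,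
      one_mul]
  rw [e]; exact h.pow_left _

omit [Finite G] in
theorem relIndex_two_mul {S A : Subgroup G} (hi : S.relIndex A = 2) {x y : G} (hx : x ∈ A)
    (hy : y ∈ A) : x * y ∈ S ↔ (x ∈ S ↔ y ∈ S) :=
  Subgroup.mul_mem_iff_of_index_two (H := S.subgroupOf A) hi (a := ⟨x, hx⟩) (b := ⟨y, hy⟩)

/-- The hyperplane of a moved fixed-point group is exactly its centralizer. -/
theorem mem_of_centralizes {F A S : Subgroup G}
    (hi : S.relIndex A ≤ 2) (hmov : ¬ A ≤ centralizer ((F ⊓ centralizer (S : Set G) : Subgroup G) : Set G)) :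
    S.relIndex A = 2 ∧ ∀ b ∈ A, b ∈ centralizer ((F ⊓ centralizer (S : Set G) : Subgroup G) : Set G) → b ∈ S := by
  have hSC : S ≤ centralizer ((F ⊓ centralizer (S : Set G) : Subgroup G) : Set G) :=
    le_centralizer_iff.mp inf_le_right
  have h2 : S.relIndex A = 2 := by
    have h0 : S.relIndex A ≠ 0 := index_ne_zero_of_finite
    have h1 : S.relIndex A ≠ 1 := fun h => hmov ((relIndex_eq_one.mp h).trans hSC)
    omega
  refine ⟨h2, fun b hb hbC => by_contra fun hbS => hmov fun x hx => ?_⟩
  by_cases hxS : x ∈ S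
  · exact hSC hxS
  · have : b * x ∈ S := (relIndex_two_mul h2 hb hx).mpr ⟨fun h => absurd h hbS, fun h => absurd h hxS⟩
    have e : x = b⁻¹ * (b * x) := by group
    rw [e]
    exact mul_mem (inv_mem hbC) (hSC this)

theorem dihedral_data : ∀ (d : ℕ) (A F : Subgroup G), Cfsg.IsElementaryAbelian 2 A →
    Nat.card A = 2 ^ d → Group.IsNilpotent F → Odd (Nat.card F) → A ≤ normalizer (F : Set G) →
    A ⊓ centralizer (F : Set G) = ⊥ →
    ∃ (a y : Fin d → G), (∀ i, a i ∈ A ∧ y i ∈ F ∧ y i ≠ 1 ∧ a i * y i * (a i)⁻¹ = (y i)⁻¹) ∧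
      closure (Set.range a) = A ∧
      ∀ i j, i ≠ j → Commute (a i) (y j) ∧ Commute (y i) (y j) := by
  intro d
  induction d with
  | zero =>
    intro A F _ hc _ _ _ _
    refine ⟨Fin.elim0, Fin.elim0, fun i => i.elim0, ?_, fun i => i.elim0⟩
    rw [Set.range_eq_empty, Subgroup.closure_empty, eq_comm, ← card_eq_one, hc, pow_zero]
  | succ d ih =>
    intro A F hA hc hnil hF hAF hfaith
    have hF2 : ¬ 2 ∣ Nat.card F := fun h => (Nat.not_even_iff_odd.mpr hF) (even_iff_two_dvd.mpr h)
    -- a minimal normal invariant subgroup moved by `A`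
    obtain ⟨X, ⟨hXF, hFX, hAX, hXm⟩, hXmin⟩ := WellFounded.has_min (wellFounded_lt (α := Subgroup G))
      {X : Subgroup G | X ≤ F ∧ F ≤ normalizer (X : Set G) ∧ A ≤ normalizer (X : Set G) ∧
        ¬ A ≤ centralizer (X : Set G)}
      ⟨F, le_rfl, le_normalizer, hAF, fun h => by
        rw [inf_eq_left.mpr h] at hfaith
        rw [hfaith, card_bot] at hc
        exact (Nat.one_lt_two_pow (Nat.succ_ne_zero d)).ne hc⟩
    have hXle : ⁅X, F⁆ ≤ X := le_normalizer_iff_commutator_le_left.mp hFX
    have hXlt : ⁅X, F⁆ ≠ X := by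
      intro he
      have hmem : ∀ n, X ≤ ((⊤ : Subgroup F).lowerCentralSeries n).map F.subtype := by
        intro n
        induction n with
        | zero => simpa [← MonoidHom.range_eq_map] using hXF
        | succ n ihn =>
          rw [Subgroup.lowerCentralSeries_succ, map_commutator, ← MonoidHom.range_eq_map,
            range_subtype]
          exact he.ge.trans (commutator_mono ihn le_rfl)
      obtain ⟨n, hn⟩ := Subgroup.nilpotent_iff_lowerCentralSeries.1 hnil
      have := hmem n
      rw [hn, Subgroup.map_bot, le_bot_iff] at this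
      exact hXm (fun a _ => mem_centralizer_iff.mpr fun v hv => by
        rw [this] at hv; rw [mem_bot.mp hv, one_mul, mul_one])
    have hcomm : A ≤ centralizer ((⁅X, F⁆ : Subgroup G) : Set G) := by
      by_contra h
      refine hXmin ⁅X, F⁆ ⟨hXle.trans hXF, normalizer_commutator_ge_right X F, fun g hg => ?_, h⟩
        (lt_of_le_of_ne hXle hXlt)
      rw [← LocalEvenB.map_conj_eq_self_iff_mem_normalizer, map_commutator,
        LocalEvenB.map_conj_eq_self_iff_mem_normalizer.mpr (hAX hg),
        LocalEvenB.map_conj_eq_self_iff_mem_normalizer.mpr (hAF hg)]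
    -- a hyperplane whose fixed points in `X` are moved
    obtain ⟨H, hHA, hHi, hHm⟩ : ∃ H ≤ A, H.relIndex A ≤ 2 ∧
        ¬ A ≤ centralizer ((X ⊓ centralizer (H : Set G) : Subgroup G) : Set G) := by
      by_contra hcon
      push Not at hcon
      exact hXm (le_centralizer_iff.mp (le_of_hyperplanes_le hA (not_dvd_of_le hF2 hXF) hAX
        fun B hB hBi => le_centralizer_iff.mp (hcon B hB hBi)))
    obtain ⟨hH2, -⟩ := mem_of_centralizes hHi hHm
    -- a minimal closed subgroup outside `H`
    obtain ⟨K, ⟨hKA, hKH, hKc⟩, hKmin⟩ := WellFounded.has_min (wellFounded_lt (α := Subgroup G))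
      {K : Subgroup G | K ≤ A ∧ ¬ K ≤ H ∧
        ∀ b ∈ A, b ∈ centralizer ((F ⊓ centralizer (K : Set G) : Subgroup G) : Set G) → b ∈ K}
      ⟨A, le_rfl, fun h => by rw [relIndex_eq_one.mpr h] at hH2; omega, fun b hb _ => hb⟩
    obtain ⟨a, haK, haH⟩ := SetLike.not_le_iff_exists.mp hKH
    have haA := hKA haK
    have hKH' : K ⊓ H = ⊥ := by
      by_contra hne
      obtain ⟨⟨b, hb⟩, hb0⟩ := (K ⊓ H).ne_bot_iff_exists_ne_one.mp hne
      obtain ⟨S, hSA, hSi, hSm, hbS⟩ : ∃ S ≤ A, S.relIndex A ≤ 2 ∧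
          ¬ A ≤ centralizer ((F ⊓ centralizer (S : Set G) : Subgroup G) : Set G) ∧ b ∉ S := by
        by_contra hcon
        push Not at hcon
        refine hb0 (Subtype.ext (mem_bot.mp (hfaith.le ⟨hKA hb.1, mem_centralizer_iff.mpr ?_⟩)))
        have hle := le_of_hyperplanes_le hA hF2 hAF (Y := centralizer ({b} : Set G)) fun B hB hBi x hx => by
          by_cases hm : A ≤ centralizer ((F ⊓ centralizer (B : Set G) : Subgroup G) : Set G)
          · exact mem_centralizer_singleton_iff.mpr (mem_centralizer_iff.mp (hm (hKA hb.1)) x hx)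
          · exact mem_centralizer_singleton_iff.mpr
              (mem_centralizer_iff.mp hx.2 b (hcon B hB hBi hm)).symm
        exact fun x hx => mem_centralizer_singleton_iff.mp (hle hx)
      obtain ⟨hS2, hSc⟩ := mem_of_centralizes hSi hSm
      refine hKmin (K ⊓ S) ⟨inf_le_left.trans hKA, ?_, fun c hc hcC => ⟨hKc c hc ?_, hSc c hc ?_⟩⟩
        (lt_of_le_of_ne inf_le_left fun e => hbS (e.ge hb.1).2)
      · intro hle
        by_cases haS : a ∈ S
        · exact haH (hle ⟨haK, haS⟩)
        · have h1 : a * b ∈ S := (relIndex_two_mul hS2 haA (hKA hb.1)).mpr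
            ⟨fun h => absurd h haS, fun h => absurd h hbS⟩
          have h2 := hle ⟨mul_mem haK hb.1, h1⟩
          exact haH (by simpa [mul_assoc] using mul_mem h2 (inv_mem hb.2))
      · exact centralizer_le (SetLike.coe_subset_coe.mpr (inf_le_inf_left F
          (centralizer_le (SetLike.coe_subset_coe.mpr inf_le_left)))) hcC
      · exact centralizer_le (SetLike.coe_subset_coe.mpr (inf_le_inf_left F
          (centralizer_le (SetLike.coe_subset_coe.mpr inf_le_right)))) hcC
    have ha2 : a * a = 1 := by rw [← pow_two]; exact hA.2 a haA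
    have hai : a⁻¹ = a := inv_eq_of_mul_eq_one_right ha2
    -- the element inverted by `a`
    obtain ⟨x, hx, hxa⟩ : ∃ x ∈ X ⊓ centralizer (H : Set G), a * x ≠ x * a := by
      by_contra hcon
      push Not at hcon
      refine hHm fun c hc => mem_centralizer_iff.mpr fun x hx => ?_
      by_cases hcH : c ∈ H
      · exact (mem_centralizer_iff.mp hx.2 c hcH).symm
      · have h1 : a * c ∈ H := (relIndex_two_mul hH2 haA hc).mpr
          ⟨fun h => absurd h haH, fun h => absurd h hcH⟩
        have h2 : Commute x (a * c) := (mem_centralizer_iff.mp hx.2 _ h1).symm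
        have h3 : Commute x a := (hcon x hx).symm
        have e : c = a⁻¹ * (a * c) := by group
        rw [e]
        exact h3.inv_right.mul_right h2
    set y := x⁻¹ * (a * x * a⁻¹) with hy
    have hyX : y ∈ X := mul_mem (inv_mem hx.1) ((mem_normalizer_iff.mp (hAX haA) x).mp hx.1)
    have hy1 : y ≠ 1 := fun h => hxa (mul_inv_eq_iff_eq_mul.mp (inv_mul_eq_one.mp h).symm)
    have hinv : a * y * a⁻¹ = y⁻¹ := by
      rw [hy, hai, mul_inv_rev, inv_inv]
      calc a * (x⁻¹ * (a * x * a)) * a = a * x⁻¹ * a * x * (a * a) := by simp only [mul_assoc]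
        _ = a * x⁻¹ * a * x := by rw [ha2, mul_one]
        _ = (a * x * a)⁻¹ * x := by simp [hai, mul_assoc]
    have hyH : ∀ h ∈ H, Commute h y := fun h hh => by
      have h1 : Commute h x := mem_centralizer_iff.mp hx.2 h hh
      have h2 : Commute h a := elementary_comm hA (hHA hh) haA
      exact h1.inv_right.mul_right ((h2.mul_right h1).mul_right h2.inv_right)
    set F' := F ⊓ centralizer ({a} : Set G)
    have hF' : Odd (Nat.card F') := Odd.of_dvd_nat hF (card_dvd_of_le inf_le_left)
    have hyF' : ∀ f ∈ F', Commute y f := by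
      intro f hf
      set z := ⁅y, f⁆ with hzdef
      have hzX : z ∈ ⁅X, F⁆ := commutator_mem_commutator hyX hf.1
      have hza : a * z * a⁻¹ = z :=
        mul_inv_eq_iff_eq_mul.mpr (mem_centralizer_iff.mp (hcomm haA) z hzX).symm
      have hfa : a * f * a⁻¹ = f :=
        mul_inv_eq_iff_eq_mul.mpr (mem_centralizer_singleton_iff.mp hf.2).symm
      have e1 : a * z * a⁻¹ = ⁅y⁻¹, f⁆ := by
        rw [hzdef, ← hinv]
        conv_rhs => rw [← hfa]
        simp only [commutatorElement_def]; group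
      rw [hza] at e1
      have e2 : y * z * y⁻¹ = z⁻¹ := by
        conv_lhs => rw [e1]
        rw [hzdef]; simp only [commutatorElement_def]; group
      have e3 : Commute (y * y) z := by
        have h4 : y * y * z * (y * y)⁻¹ = z := by
          calc y * y * z * (y * y)⁻¹ = y * (y * z * y⁻¹) * y⁻¹ := by group
            _ = (y * z * y⁻¹)⁻¹ := by
              conv_lhs => rw [e2]
              group
            _ = z := by rw [e2, inv_inv]
        exact mul_inv_eq_iff_eq_mul.mp h4
      have e4 : Commute y z := commute_of_sq hF (hXF hyX) e3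
      rw [e4.eq, mul_inv_cancel_right] at e2
      have hz1 : z = 1 := eq_one_of_sq_of_odd hF (hXF (hXle hzX)) (by
        nth_rewrite 1 [e2]; exact inv_mul_cancel z)
      exact commutatorElement_eq_one_iff_mul_comm.mp hz1
    obtain ⟨a', y', h1, h2, h3⟩ := ih H F' (elementary_of_le hA hHA)
      (by
        have h := relIndex_mul_relIndex ⊥ H A bot_le hHA
        rw [relIndex_bot_left, relIndex_bot_left, hc, hH2, pow_succ] at h
        omega)
      (Core.isNilpotent_of_le inf_le_left) hF'
      (hHA.trans (le_normalizer_inf hAF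
        (le_normalizer_centralizer_of_le hA (Set.singleton_subset_iff.mpr haA))))
      (by
        refine (eq_bot_iff_forall _).mpr fun h hh => mem_bot.mp (hKH'.le ⟨hKc h (hHA hh.1) ?_, hh.1⟩)
        exact centralizer_le (SetLike.coe_subset_coe.mpr (inf_le_inf_left F
          (centralizer_le (Set.singleton_subset_iff.mpr haK)))) hh.2)
    refine ⟨Fin.cons a a', Fin.cons y y', fun i => ?_, ?_, fun i j hij => ?_⟩
    · refine Fin.cases ?_ (fun i => ?_) i
      · exact ⟨haA, hXF hyX, hy1, hinv⟩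
      · simpa using ⟨hHA (h1 i).1, (h1 i).2.1.1, (h1 i).2.2.1, (h1 i).2.2.2⟩
    · rw [Fin.range_cons, ← Set.singleton_union, Subgroup.closure_union, h2, ← zpowers_eq_closure]
      refine le_antisymm (sup_le (zpowers_le.mpr haA) hHA) fun c hc => ?_
      by_cases hcH : c ∈ H
      · exact mem_sup_right hcH
      · have h : a * c ∈ H := (relIndex_two_mul hH2 haA hc).mpr
          ⟨fun h => absurd h haH, fun h => absurd h hcH⟩
        rw [show c = a⁻¹ * (a * c) by group]
        exact mul_mem (mem_sup_left (inv_mem (mem_zpowers a))) (mem_sup_right h)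
    · revert hij
      refine Fin.cases ?_ (fun i => ?_) i <;> refine Fin.cases ?_ (fun j => ?_) j <;> intro hij
      · exact absurd rfl hij
      · simp only [Fin.cons_zero, Fin.cons_succ]
        exact ⟨(mem_centralizer_singleton_iff.mp (h1 j).2.1.2).symm, hyF' _ (h1 j).2.1⟩
      · simp only [Fin.cons_zero, Fin.cons_succ]
        exact ⟨hyH _ (h1 i).1, (hyF' _ (h1 i).2.1).symm⟩
      · simp only [Fin.cons_succ]
        exact h3 i j fun e => hij (by rw [e])

theorem normalizer_le_normalizer_map_char (K : Subgroup G) (M : Subgroup ↥K) [M.Characteristic] :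
    normalizer (K : Set G) ≤ normalizer (M.map K.subtype : Set G) := by
  intro g hg
  rw [← LocalEvenB.map_conj_eq_self_iff_mem_normalizer, map_map]
  conv_rhs => rw [← characteristic_iff_map_eq.mp ‹M.Characteristic› (normalizerMonoidHom K ⟨g, hg⟩),
    map_map]
  rfl

/-- Let G be finite, L ≤ G solvable of odd order, and A an elementary abelian 2-subgroup of order 2^d (d ≥ 1) normalizing L with C_A(L) = 1. Then there are subgroups A_1, …, A_d of A of order 2 generating A and subgroups L_1, …, L_d of L such that each A_i ⊔ L_i is dihedral of order 2 n_i with n_i odd and at least 3, and A_i ⊔ L_i commutes elementwise with A_j ⊔ L_j for i ≠ j. -/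
theorem result {G : Type*} [Group G] [Finite G] (L A : Subgroup G) (hLs : Group.IsSolvable ↥L) (hLodd : Odd (Nat.card ↥L)) (hA : Cfsg.IsElementaryAbelian 2 A) (d : ℕ) (hd : 1 ≤ d) (hAd : Nat.card ↥A = 2 ^ d) (hAL : A ≤ Subgroup.normalizer (L : Set G)) (hfaith : A ⊓ Subgroup.centralizer (L : Set G) = ⊥) : ∃ (Ai : Fin d → Subgroup G) (Li : Fin d → Subgroup G) (n : Fin d → ℕ), (∀ i, Ai i ≤ A ∧ Nat.card ↥(Ai i) = 2 ∧ Li i ≤ L ∧ Odd (n i) ∧ 3 ≤ n i ∧ Nonempty (↥(Ai i ⊔ Li i) ≃* DihedralGroup (n i))) ∧ (⨆ i, Ai i) = A ∧ ∀ i j, i ≠ j → ∀ x ∈ Ai i ⊔ Li i, ∀ y ∈ Ai j ⊔ Li j, x * y = y * x := by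
  have := hLs
  set F := (Cfsg.fittingSubgroup ↥L).map L.subtype
  have hFL : F ≤ L := map_subtype_le _
  have hFnil : Group.IsNilpotent ↥F := by
    have := Core.isNilpotent_fittingSubgroup ↥L
    exact Core.isNilpotent_map _ _
  have hFodd : Odd (Nat.card F) := Odd.of_dvd_nat hLodd (card_dvd_of_le hFL)
  have hchar : (Cfsg.fittingSubgroup ↥L).Characteristic :=
    characteristic_iff_map_eq.mpr fun φ => Core.map_equiv_fittingSubgroup φ
  have hAF : A ≤ Subgroup.normalizer (F : Set G) :=
    hAL.trans (normalizer_le_normalizer_map_char L _)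
  have hFn : L ≤ Subgroup.normalizer (F : Set G) :=
    Subgroup.le_normalizer.trans (normalizer_le_normalizer_map_char L _)
  have hfF : A ⊓ Subgroup.centralizer (F : Set G) = ⊥ := by
    refine le_bot_iff.mp (hfaith ▸ le_inf inf_le_left fun b hb => ?_)
    refine mem_centralizer_iff.mpr fun l hl => ?_
    have hz := OddLocal.shift_mem_centralizer hb.2 (hFn hl)
    have hzL : l⁻¹ * (b * l * b⁻¹) ∈ L :=
      mul_mem (inv_mem hl) ((mem_normalizer_iff.mp (hAL hb.1) l).mp hl)
    have hzF : l⁻¹ * (b * l * b⁻¹) ∈ F := by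
      refine ⟨⟨_, hzL⟩, Components.centralizer_fitting_le_of_isSolvable (mem_centralizer_iff.mpr ?_), rfl⟩
      intro f hf
      exact Subtype.ext (mem_centralizer_iff.mp hz _ (mem_map_of_mem L.subtype hf))
    have hz1 := OddLocal.shift_eq_one (z := l⁻¹ * (b * l * b⁻¹)) (h := l) (a := b) (by group)
      (mem_centralizer_iff.mp hb.2 _ hzF).symm (hA.2 b hb.1)
      (orderOf_dvd_iff_pow_eq_one.mp (Subgroup.orderOf_dvd_natCard _ hzF))
      (Nat.coprime_two_left.mpr hFodd)
    exact (mul_inv_eq_iff_eq_mul.mp (inv_mul_eq_one.mp hz1).symm).symm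
  obtain ⟨a, y, h1, h2, h3⟩ := dihedral_data d A F hA hAd hFnil hFodd hAF hfF
  have ha : ∀ i, a i ∈ A ∧ a i * a i = 1 ∧ a i ≠ 1 := fun i => by
    refine ⟨(h1 i).1, by rw [← pow_two]; exact hA.2 _ (h1 i).1, fun e => (h1 i).2.2.1 ?_⟩
    have hi := (h1 i).2.2.2
    rw [e, one_mul, inv_one, mul_one] at hi
    exact eq_one_of_sq_of_odd hFodd (h1 i).2.1 (by nth_rewrite 1 [hi]; exact inv_mul_cancel _)
  have hodd : ∀ i, Odd (orderOf (y i)) := fun i =>
    Odd.of_dvd_nat hFodd (Subgroup.orderOf_dvd_natCard _ (h1 i).2.1)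
  refine ⟨fun i => zpowers (a i), fun i => zpowers (y i), fun i => orderOf (y i),
    fun i => ⟨zpowers_le.mpr (ha i).1, ?_, zpowers_le.mpr (hFL (h1 i).2.1), hodd i, ?_, ?_⟩, ?_, ?_⟩
  · rw [Nat.card_zpowers]
    exact orderOf_eq_prime (by rw [pow_two]; exact (ha i).2.1) (ha i).2.2
  · have h0 : orderOf (y i) ≠ 1 := fun h => (h1 i).2.2.1 (orderOf_eq_one_iff.mp h)
    have := Nat.odd_iff.mp (hodd i)
    show 3 ≤ orderOf (y i)
    omega
  · set D := zpowers (a i) ⊔ zpowers (y i)
    have : NeZero (orderOf (y i)) := ⟨(orderOf_pos _).ne'⟩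
    have hn : zpowers (a i) ≤ normalizer (zpowers (y i) : Set G) := by
      refine zpowers_le.mpr (LocalEvenB.map_conj_eq_self_iff_mem_normalizer.mp ?_)
      rw [MonoidHom.map_zpowers]
      show zpowers (a i * y i * (a i)⁻¹) = _
      rw [(h1 i).2.2.2, zpowers_inv]
    have hcard : Nat.card D = 2 * orderOf (y i) := by
      have h := Core.card_sup_of_coprime (zpowers (a i)) (zpowers (y i)) hn
      rw [Nat.card_zpowers, Nat.card_zpowers,
        orderOf_eq_prime (by rw [pow_two]; exact (ha i).2.1) (ha i).2.2] at h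
      exact h (Nat.coprime_two_left.mpr (hodd i))
    refine TwoGroups.nonempty_mulEquiv_dihedralGroup (a := (⟨y i, mem_sup_right (mem_zpowers _)⟩ : D))
      (b := ⟨a i, mem_sup_left (mem_zpowers _)⟩) (Subgroup.orderOf_mk _ _) (Subtype.ext (ha i).2.1)
      ?_ (Subtype.ext (h1 i).2.2.2) hcard
    intro hmem
    obtain ⟨k, hk⟩ := hmem
    have hk' : y i ^ k = a i := congrArg Subtype.val hk
    exact (ha i).2.2 (eq_one_of_sq_of_odd hFodd (hk' ▸ zpow_mem (h1 i).2.1 k) (ha i).2.1)
  · refine le_antisymm (iSup_le fun i => zpowers_le.mpr (ha i).1) (h2.ge.trans ((closure_le _).mpr ?_))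
    rintro _ ⟨i, rfl⟩
    exact mem_iSup_of_mem i (mem_zpowers _)
  · intro i j hij x hx z hz
    have hsub : ∀ k l, k ≠ l → zpowers (a k) ⊔ zpowers (y k) ≤ centralizer ({a l, y l} : Set G) := by
      intro k l hkl
      refine sup_le (zpowers_le.mpr ?_) (zpowers_le.mpr ?_) <;> refine mem_centralizer_iff.mpr ?_ <;>
        rintro g (rfl | rfl)
      · exact elementary_comm hA (ha l).1 (ha k).1
      · exact (h3 k l hkl).1.symm
      · exact (h3 l k hkl.symm).1
      · exact (h3 l k hkl.symm).2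
    have hle : zpowers (a j) ⊔ zpowers (y j) ≤ centralizer ({x} : Set G) := by
      refine sup_le (zpowers_le.mpr ?_) (zpowers_le.mpr ?_) <;>
        refine mem_centralizer_singleton_iff.mpr ?_
      · exact mem_centralizer_iff.mp (hsub i j hij hx) _ (Set.mem_insert _ _)
      · exact mem_centralizer_iff.mp (hsub i j hij hx) _ (Set.mem_insert_of_mem _ rfl)
    exact (mem_centralizer_singleton_iff.mp (hle hz)).symm

end Cfsg.Agent.S1349
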