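import Cfsg.Statements.S0904
import Cfsg.Agent.Lib.Blocks.SimplePrincipal

set_option autoImplicit false
open Cfsg

namespace Cfsg.Agent.S0904

/-- Let G be a finite simple group of order p ^ a * q ^ b * r with p, q, r distinct primes. Then every Sylow r-subgroup S of G satisfies C_G(S) = S. -/
theorem result {G : Type*} [Group G] [Finite G] [IsSimpleGroup G] (p q r a b : ℕ) (hp : p.Prime) (hq : q.Prime) [Fact r.Prime] (hpq : p ≠ q) (hpr : p ≠ r) (hqr : q ≠ r) (hcard : Nat.card G = p ^ a * q ^ b * r) (S : Sylow r G) : Subgroup.centralizer (S : Set G) = (S : Subgroup G) := by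
  classical
  have := Fintype.ofFinite G
  have hr : r.Prime := Fact.out
  have hGr : (Nat.card G).factorization r = 1 := by
    rw [hcard, Nat.factorization_mul (mul_ne_zero (pow_ne_zero _ hp.ne_zero)
      (pow_ne_zero _ hq.ne_zero)) hr.ne_zero, Nat.factorization_mul (pow_ne_zero _ hp.ne_zero)
      (pow_ne_zero _ hq.ne_zero)]
    simp [hp.factorization_pow, hq.factorization_pow, hr.factorization, Finsupp.single_apply,
      hpr, hqr]
  have hSc : Nat.card (S : Subgroup G) = r := by
    rw [Sylow.card_eq_multiplicity, hGr, pow_one]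
  have hcyc : IsCyclic (S : Subgroup G) := isCyclic_of_prime_card hSc
  have hle : (S : Subgroup G) ≤ Subgroup.centralizer (S : Set G) := fun u hu => by
    rw [Subgroup.mem_centralizer_iff]
    intro v hv
    letI := hcyc.commGroup
    exact congrArg Subtype.val (mul_comm (⟨v, hv⟩ : (S : Subgroup G)) ⟨u, hu⟩)
  by_cases hna : ∃ x y : G, x * y ≠ y * x
  swap
  · push_neg at hna
    have hn : (S : Subgroup G).Normal := ⟨fun n hn g => by
      rwa [hna g n, mul_inv_cancel_right]⟩
    rcases IsSimpleGroup.eq_bot_or_eq_top_of_normal (S : Subgroup G) hn with h | h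
    · rw [h, Subgroup.card_bot] at hSc
      exact absurd hSc.symm hr.ne_one
    · refine le_antisymm ?_ hle
      rw [h]; exact le_top
  refine (Subgroup.eq_of_le_of_card_ge hle ?_).symm
  by_contra hlt
  have hdC : r ∣ Nat.card (Subgroup.centralizer (S : Set G)) :=
    (dvd_of_eq hSc.symm).trans (Subgroup.card_dvd_of_le hle)
  obtain ⟨m, hm⟩ := hdC
  have hm1 : m ≠ 1 := fun h => hlt (le_of_eq (by rw [hm, h, mul_one, hSc]))
  obtain ⟨l, hl, hlm⟩ := Nat.exists_prime_and_dvd hm1
  have hlC : l ∣ Nat.card (Subgroup.centralizer (S : Set G)) := hm ▸ hlm.mul_left r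
  have hlG : l ∣ p ^ a * q ^ b := by
    have h1 : r * m ∣ p ^ a * q ^ b * r := by
      rw [← hm, ← hcard]; exact Subgroup.card_subgroup_dvd_card _
    rw [mul_comm r m] at h1
    exact hlm.trans (Nat.dvd_of_mul_dvd_mul_right hr.pos h1)
  have hlpq : l = p ∨ l = q := by
    rcases hl.dvd_mul.1 hlG with h | h
    · exact Or.inl ((Nat.prime_dvd_prime_iff_eq hl hp).1 (hl.dvd_of_dvd_pow h))
    · exact Or.inr ((Nat.prime_dvd_prime_iff_eq hl hq).1 (hl.dvd_of_dvd_pow h))
  haveI : Fact l.Prime := ⟨hl⟩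
  obtain ⟨u, hu⟩ := exists_prime_orderOf_dvd_card' l hlC
  obtain ⟨s, hs⟩ := exists_prime_orderOf_dvd_card' r (dvd_of_eq hSc.symm)
  have hcm : Commute (u : G) (s : G) := (Subgroup.mem_centralizer_iff.1 u.2 s s.2).symm
  rw [← Subgroup.orderOf_coe] at hu hs
  rcases hlpq with rfl | rfl
  · exact CfsgLib.Blocks.not_commute_of_card_eq hna hp hq hpq hpr hqr hcard hu hs hcm
  · exact CfsgLib.Blocks.not_commute_of_card_eq hna hq hp hpq.symm hqr hpr (a := b) (b := a)
      (by rw [hcard]; ring) hu hs hcm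

end Cfsg.Agent.S0904
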