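import Cfsg.Statements.S1196
import Cfsg.Agent.Lib.TwoGroups.WreathedSubgroups
import Cfsg.Agent.Lib.TwoGroups.MapEquiv

set_option autoImplicit false
open Cfsg

namespace Cfsg.Agent.S1196

/-- A wreathed 2-group S of order 2^(2n+1) has a unique commutative subgroup of order 2^(2n), and this subgroup is isomorphic to the direct product of two cyclic groups of order 2^n. -/
theorem result {S : Type*} [Group S] [Finite S] (hS : Cfsg.IsWreathed S) (n : ℕ) (hn : Nat.card S = 2 ^ (2 * n + 1)) : (∃! U : Subgroup S, IsMulCommutative U ∧ Nat.card U = 2 ^ (2 * n)) ∧ ∀ U : Subgroup S, IsMulCommutative U → Nat.card U = 2 ^ (2 * n) → Nonempty (U ≃* Multiplicative (ZMod (2 ^ n) × ZMod (2 ^ n))) := by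
  open CfsgLib.TwoGroups CfsgLib.TwoGroups.WreathTwo in
  obtain ⟨m, hcard, ⟨e⟩⟩ := of_isWreathed hS
  obtain rfl : n = m + 2 := by
    have := Nat.pow_right_injective (le_refl 2) (hn.symm.trans hcard)
    omega
  open CfsgLib.TwoGroups CfsgLib.TwoGroups.WreathTwo in
  have huniq : ∀ U : Subgroup S, IsMulCommutative U → Nat.card U = 2 ^ (2 * (m + 2)) →
      U.map e.toMonoidHom = base m := by
    intro U hU hc
    refine eq_base_of_abelian ⟨⟨?_⟩⟩ (by rwa [Subgroup.card_map_of_injective e.injective])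
    rintro ⟨_, x, hx, rfl⟩ ⟨_, y, hy, rfl⟩
    refine Subtype.ext ?_
    show e.toMonoidHom x * e.toMonoidHom y = e.toMonoidHom y * e.toMonoidHom x
    rw [← map_mul, ← map_mul]
    exact congrArg _ (congrArg Subtype.val (hU.1.1 ⟨x, hx⟩ ⟨y, hy⟩))
  open CfsgLib.TwoGroups CfsgLib.TwoGroups.WreathTwo in
  refine ⟨⟨(base m).map e.symm.toMonoidHom, ⟨⟨⟨?_⟩⟩, ?_⟩, ?_⟩, ?_⟩
  · rintro ⟨_, x, hx, rfl⟩ ⟨_, y, hy, rfl⟩
    refine Subtype.ext ?_
    show e.symm.toMonoidHom x * e.symm.toMonoidHom y = e.symm.toMonoidHom y * e.symm.toMonoidHom x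
    rw [← map_mul, ← map_mul]
    exact congrArg _ (congrArg Subtype.val ((isMulCommutative_base (m := m)).1.1 ⟨x, hx⟩ ⟨y, hy⟩))
  · rw [Subgroup.card_map_of_injective e.symm.injective, natCard_base]
  · rintro U ⟨hU, hc⟩
    rw [← huniq U hU hc, equiv_map_map_symm]
  · intro U hU hc
    exact ⟨(U.equivMapOfInjective e.toMonoidHom e.injective).trans
      ((MulEquiv.subgroupCongr (huniq U hU hc)).trans (baseEquiv m))⟩

end Cfsg.Agent.S1196
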