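import Cfsg.Statements.S1211
import Cfsg.Agent.Lib.TwoGroups.WreathedConclusions

set_option autoImplicit false
open Cfsg

namespace Cfsg.Agent.S1211

/-- Let G be a finite group whose Sylow 2-subgroup S is wreathed of order 2^(2n+1), U the commutative subgroup of index 2 in S, Q a quaternion subgroup of order 8 of S and V = Q Z(S). If |N_G(U) : C_G(U)| = 6 and |N_G(V) : V C_G(V)| = 2, then G has a normal subgroup K of index 2 containing U (so U is a Sylow 2-subgroup of K) which has no subgroup of index 2, and G has exactly two classes of involutions. -/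
theorem result {G : Type*} [Group G] [Finite G] (S : Sylow 2 G) (hS : Cfsg.IsWreathed (S : Subgroup G)) (n : ℕ) (hn : Nat.card S = 2 ^ (2 * n + 1)) (U : Subgroup G) (hUS : U ≤ S) (hUab : IsMulCommutative U) (hUcard : Nat.card U = 2 ^ (2 * n)) (Q : Subgroup G) (hQS : Q ≤ S) (eQ : Q ≃* QuaternionGroup 2) (h₁ : (Subgroup.centralizer (U : Set G)).relIndex (Subgroup.normalizer (U : Set G)) = 6) (h₂ : ((Q ⊔ ((Subgroup.center (S : Subgroup G)).map (S : Subgroup G).subtype)) ⊔ Subgroup.centralizer ((Q ⊔ ((Subgroup.center (S : Subgroup G)).map (S : Subgroup G).subtype) : Subgroup G) : Set G)).relIndex (Subgroup.normalizer ((Q ⊔ ((Subgroup.center (S : Subgroup G)).map (S : Subgroup G).subtype) : Subgroup G) : Set G)) = 2) : (∃ K : Subgroup G, K.Normal ∧ K.index = 2 ∧ U ≤ K ∧ (∀ H : Subgroup ↥K, H.index ≠ 2)) ∧ Nat.card {C : ConjClasses G // ∃ t : G, orderOf t = 2 ∧ ConjClasses.mk t = C} = 2 := by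
  obtain ⟨m, f, rfl, hf, hr, rfl, hV⟩ :=
    CfsgLib.TwoGroups.WreathTwo.exists_adapted hS hn hUS hUab hUcard hQS eQ
  rw [hV] at h₂
  have h1 : CfsgLib.TwoGroups.WreathTwo.BaseFused f :=
    CfsgLib.TwoGroups.WreathTwo.baseFused_of_three_dvd hf hr (by rw [h₁]; norm_num)
  have h2 : ¬ CfsgLib.TwoGroups.WreathTwo.OuterFused f := by
    rcases CfsgLib.TwoGroups.WreathTwo.levG_two_or_six hf hr with h | h
    · exact h.2
    · omega
  exact ⟨CfsgLib.TwoGroups.WreathTwo.exists_abelian_normal hf hr h1 h2, CfsgLib.TwoGroups.WreathTwo.classes_abelian hf hr h1 h2⟩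

end Cfsg.Agent.S1211
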