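import Cfsg.Statements.S1120
import Cfsg.Agent.Lib.Lie.RankOneNilpotent
import Cfsg.Agent.Lib.LocalEven.Generation
import Cfsg.Agent.Lib.Core.Cores

set_option autoImplicit false
set_option maxHeartbeats 400000
open Cfsg

namespace Cfsg.Agent.S1120

/-- In the rank-one set-up (`G` finite and doubly transitive on `Ω`, `t` an involution moving `a`, `Q` normal in `G_a` with `G_a = Q D`, `Q ⊓ D = 1` for the two-point stabiliser `D = G_a ⊓ G_{t • a}`, `|Q|` even, `|D|` odd), if `G` has 2-rank at least 2 then `O_{2'}(G)` equals the normal core of `G_a`. -/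
theorem result {G Ω : Type*} [Group G] [Finite G] [MulAction G Ω] {a : Ω} {t : G} {Q : Subgroup G}
    (hS : Cfsg.IsRankOneSetup G Ω a t Q)
    (h2 : ∃ x y : G, x ≠ 1 ∧ y ≠ 1 ∧ x ≠ y ∧ x * x = 1 ∧ y * y = 1 ∧ x * y = y * x) :
    Cfsg.pPrimeCore 2 G = (MulAction.stabilizer G a).normalCore := by
  classical
  open CfsgLib.Lie.RankOne in
  apply le_antisymm
  · -- the core fixes `a`
    set O := Cfsg.pPrimeCore 2 G
    haveI hO : O.Normal := CfsgLib.Core.normal_pPrimeCore 2 G
    rw [Subgroup.normal_le_normalCore]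
    obtain ⟨s, s', hs, hs', hne, hc⟩ := exists_J_pair hS h2
    have h1 : ∀ u, u ∈ Cfsg.involutionsIn (MulAction.stabilizer G a : Set G) → u ≠ 1 ∧ u * u = 1 :=
      fun u hu => hu.2
    let A : Subgroup G :=
      { carrier := {u | u = 1 ∨ u = s ∨ u = s' ∨ u = s * s'}
        one_mem' := Or.inl rfl
        inv_mem' := by
          rintro u (rfl | rfl | rfl | rfl)
          · exact Or.inl inv_one
          · exact Or.inr (Or.inl (inv_eq_of_mul_eq_one_right hs.2.2))
          · exact Or.inr (Or.inr (Or.inl (inv_eq_of_mul_eq_one_right hs'.2.2)))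
          · refine Or.inr (Or.inr (Or.inr ?_))
            rw [mul_inv_rev, inv_eq_of_mul_eq_one_right hs.2.2, inv_eq_of_mul_eq_one_right hs'.2.2, hc]
        mul_mem' := by
          intro u w hu hw
          have e1 : ∀ z, s * (s * z) = z := fun z => by rw [← mul_assoc, hs.2.2, one_mul]
          have e2 : ∀ z, s' * (s' * z) = z := fun z => by rw [← mul_assoc, hs'.2.2, one_mul]
          have e3 : ∀ z, s' * (s * z) = s * (s' * z) := fun z => by rw [← mul_assoc, ← hc, mul_assoc]
          rcases hu with rfl | rfl | rfl | rfl <;> rcases hw with rfl | rfl | rfl | rfl <;>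
            simp [mul_assoc, e1, e2, e3, hs.2.2, hs'.2.2, ← hc] }
    have hAmem : ∀ u : A, (u : G) = 1 ∨ (u : G) = s ∨ (u : G) = s' ∨ (u : G) = s * s' := fun u => u.2
    haveI : IsMulCommutative A := ⟨⟨fun u w => Subtype.ext (by
      have e1 : ∀ z, s * (s * z) = z := fun z => by rw [← mul_assoc, hs.2.2, one_mul]
      have e3 : ∀ z, s' * (s * z) = s * (s' * z) := fun z => by rw [← mul_assoc, ← hc, mul_assoc]
      show (u : G) * w = w * u
      rcases hAmem u with h | h | h | h <;> rcases hAmem w with h' | h' | h' | h' <;> rw [h, h'] <;>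
        simp [mul_assoc, e1, e3, ← hc])⟩⟩
    have hss : s * s' ≠ 1 := fun h => hne (by
      rw [← inv_eq_of_mul_eq_one_right hs'.2.2]; exact eq_inv_of_mul_eq_one_left h)
    have hAJ : ∀ u ∈ A, u ≠ 1 → u ∈ Cfsg.involutionsIn (MulAction.stabilizer G a : Set G) := by
      rintro u (rfl | rfl | rfl | rfl) hu
      · exact absurd rfl hu
      · exact hs
      · exact hs'
      · refine ⟨mul_mem hs.1 hs'.1, hu, ?_⟩
        rw [show s * s' * (s * s') = s * (s' * s) * s' by group, ← hc,
          show s * (s * s') * s' = (s * s) * (s' * s') by group, hs.2.2, hs'.2.2, one_mul]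
    haveI := Fact.mk Nat.prime_two
    have hcard : 2 ^ 2 ≤ Nat.card A := by
      let f : Fin 4 → A := ![⟨1, Or.inl rfl⟩, ⟨s, Or.inr (Or.inl rfl)⟩,
        ⟨s', Or.inr (Or.inr (Or.inl rfl))⟩, ⟨s * s', Or.inr (Or.inr (Or.inr rfl))⟩]
      have hf : Function.Injective f := by
        intro i j h
        have h' : (f i : G) = f j := congrArg Subtype.val h
        fin_cases i <;> fin_cases j <;>
          simp [f, hs.2.1, hs'.2.1, hne, hne.symm, hss, hss.symm, Ne.symm hs.2.1, Ne.symm hs'.2.1] at h' ⊢
      have := Nat.card_le_card_of_injective f hf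
      rwa [Nat.card_fin] at this
    refine CfsgLib.LocalEven.le_of_centralizers_le (A := A) (p := 2) (fun u hu => ?_) hcard
      (fun u _ => ?_) ?_ (fun u hu hu1 z hz => ?_)
    · by_cases h : u = 1
      · rw [h, one_pow]
      · rw [sq]; exact (hAJ u hu h).2.2
    · rw [Subgroup.normalizer_eq_top]; trivial
    · intro h
      have := Nat.eq_one_of_dvd_coprimes (CfsgLib.Core.coprime_card_pPrimeCore 2 G) h dvd_rfl
      omega
    · obtain ⟨-, hzu⟩ := Subgroup.mem_inf.1 hz
      have hu' := hAJ u hu hu1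
      exact fix_of_commute hS hu'.2.1 hu'.2.2 (show u • a = a from hu'.1)
        (Subgroup.mem_centralizer_singleton_iff.1 hzu)
  · refine CfsgLib.Core.le_pPrimeCore ?_
    have hle : (MulAction.stabilizer G a).normalCore ≤
        MulAction.stabilizer G a ⊓ MulAction.stabilizer G (t • a) := by
      intro x hx
      refine CfsgLib.Lie.RankOne.mem_D.2 ⟨Subgroup.normalCore_le _ hx, ?_⟩
      have h := Subgroup.normalCore_le _ ((Subgroup.normalCore_normal _).conj_mem x hx t⁻¹)
      have h' : (t⁻¹ * x * t⁻¹⁻¹) • a = a := h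
      rw [inv_inv, mul_smul, mul_smul, inv_smul_eq_iff] at h'
      exact h'
    exact (Nat.coprime_two_right.2 (hS.odd_card.of_dvd_nat (Subgroup.card_dvd_of_le hle)))

end Cfsg.Agent.S1120
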