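import Cfsg.Statements.S2822
import Cfsg.Agent.Lib.LocalEven.LargestReduced

set_option autoImplicit false
open Cfsg

namespace Cfsg.Agent.S2822

/-- Let H be a finite group, p a prime, T a Sylow p-subgroup, and L, M subgroups of characteristic p containing T, with largest p-reduced normal subgroups Y_L, Y_M. If L·C_H(Y_M) = M·C_H(Y_M), then Y_M ≤ Y_L. -/
theorem result {H : Type*} [Group H] [Finite H] {p : ℕ} [Fact p.Prime] (T : Sylow p H) (L M : Subgroup H) (hTL : (T : Subgroup H) ≤ L) (hTM : (T : Subgroup H) ≤ M) (hL : Subgroup.centralizer (Cfsg.pCore p ↥L : Set ↥L) ≤ Cfsg.pCore p ↥L) (hM : Subgroup.centralizer (Cfsg.pCore p ↥M : Set ↥M) ≤ Cfsg.pCore p ↥M) : L ⊔ Subgroup.centralizer (((Cfsg.largestPReducedOf p M) : Subgroup H) : Set H) = M ⊔ Subgroup.centralizer (((Cfsg.largestPReducedOf p M) : Subgroup H) : Set H) → (Cfsg.largestPReducedOf p M) ≤ (Cfsg.largestPReducedOf p L) := by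
  intro hLM
  set Y := Cfsg.largestPReducedOf p M with hYdef
  set C := Subgroup.centralizer (Y : Set H) with hCdef
  have hred := CfsgLib.LocalEven.isPReducedNormal_largest (L := ↥M) (p := p)
  haveI := hred.1
  have hMN : M ≤ Subgroup.normalizer (Y : Set H) := CfsgLib.LocalEven.le_normalizer_map_of_normal M _
  have hCM : (Subgroup.centralizer (Cfsg.largestPReduced p ↥M : Set ↥M)).map M.subtype = M ⊓ C :=
    CfsgLib.LocalEven.map_centralizer_eq M _
  have hCN : C ≤ Subgroup.normalizer (Y : Set H) := Subgroup.centralizer_le_normalizer _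
  have hLN : L ≤ Subgroup.normalizer (Y : Set H) :=
    le_sup_left.trans (hLM.le.trans (sup_le hMN hCN))
  have hYL : Y ≤ L := by
    refine (Subgroup.map_mono (CfsgLib.LocalEven.largest_le_pCore.trans
      (CfsgLib.Core.pCore_le_sylow (T.subtype hTM)))).trans ?_
    rw [Sylow.coe_subtype, Subgroup.subgroupOf_map_subtype]
    exact inf_le_left.trans hTL
  have hCn : Subgroup.normalizer (Y : Set H) ≤ Subgroup.normalizer (C : Set H) :=
    (Subgroup.normal_subgroupOf_iff_le_normalizer hCN).mp inferInstance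
  haveI : (Y.subgroupOf L).Normal := (Subgroup.normal_subgroupOf_iff_le_normalizer hYL).mpr hLN
  have hCL : (Subgroup.centralizer (Y.subgroupOf L : Set ↥L)).map L.subtype = L ⊓ C := by
    rw [CfsgLib.LocalEven.map_centralizer_eq, Subgroup.map_subgroupOf_eq_of_le hYL]
  have hel : Cfsg.IsElementaryAbelian p (Y.subgroupOf L) := by
    refine ⟨isMulCommutative_iff.mpr fun a b => ?_, fun a ha => ?_⟩
    · obtain ⟨a', ha', ea⟩ := Subgroup.mem_subgroupOf.mp a.2
      obtain ⟨b', hb', eb⟩ := Subgroup.mem_subgroupOf.mp b.2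
      haveI := hred.2.1.1
      refine Subtype.ext (Subtype.ext ?_)
      show ((a : ↥L) : H) * (b : ↥L) = (b : ↥L) * (a : ↥L)
      rw [← ea, ← eb, ← map_mul, ← map_mul,
        Subgroup.mem_centralizer_iff.mp (Subgroup.le_centralizer _ hb') a' ha']
    · obtain ⟨a', ha', ea⟩ := Subgroup.mem_subgroupOf.mp ha
      refine Subtype.ext ?_
      rw [SubgroupClass.coe_pow, ← ea, ← map_pow, hred.2.1.2 a' ha', map_one]
      rfl
  have key : Cfsg.IsPReducedNormal p (Y.subgroupOf L) := by
    refine (CfsgLib.LocalEven.isPReducedNormal_iff_pow hel).mpr fun N hN h => ?_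
    have hNpow : ∀ n ∈ N.map L.subtype, ∃ k, n ^ p ^ k ∈ C := by
      rintro _ ⟨n, hn, rfl⟩
      obtain ⟨k, hk⟩ := h n hn
      exact ⟨k, (hCL.le ⟨_, hk, map_pow _ _ _⟩).2⟩
    set X := L ⊔ C with hX
    have hXC : X ≤ Subgroup.normalizer (C : Set H) := (sup_le hLN hCN).trans hCn
    have hLNn : L ≤ Subgroup.normalizer ((N.map L.subtype : Subgroup H) : Set H) :=
      CfsgLib.LocalEven.le_normalizer_map_of_normal L N
    set N₂ := N.map L.subtype ⊔ C with hN₂
    have hN₂C : N₂ ≤ Subgroup.normalizer (C : Set H) :=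
      sup_le (((Subgroup.map_subtype_le N).trans le_sup_left).trans hXC) Subgroup.le_normalizer
    have hmem : ∀ x ∈ N₂, ∃ k, x ^ p ^ k ∈ C := by
      intro x hx
      haveI : (C.subgroupOf N₂).Normal :=
        (Subgroup.normal_subgroupOf_iff_le_normalizer le_sup_right).mpr hN₂C
      obtain ⟨n, hn, c, hc, e⟩ := Subgroup.mem_sup_of_normal_right.mp
        (show (⟨x, hx⟩ : ↥N₂) ∈ (N.map L.subtype).subgroupOf N₂ ⊔ C.subgroupOf N₂ by
          rw [← Subgroup.subgroupOf_sup le_sup_left le_sup_right, Subgroup.subgroupOf_self]; trivial)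
      obtain ⟨k, hk⟩ := hNpow n hn
      refine ⟨k, ?_⟩
      have e' : QuotientGroup.mk' (C.subgroupOf N₂) ⟨x, hx⟩ = QuotientGroup.mk' (C.subgroupOf N₂) n := by
        rw [← e, map_mul, show QuotientGroup.mk' (C.subgroupOf N₂) c = 1 from
          (QuotientGroup.eq_one_iff c).mpr hc, mul_one]
      have h2 : QuotientGroup.mk' (C.subgroupOf N₂) (⟨x, hx⟩ ^ p ^ k) = 1 := by
        rw [map_pow, e', ← map_pow]
        exact (QuotientGroup.eq_one_iff _).mpr (Subgroup.mem_subgroupOf.mpr (by simpa using hk))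
      exact Subgroup.mem_subgroupOf.mp ((QuotientGroup.eq_one_iff _).mp h2)
    have hnorm : M ≤ Subgroup.normalizer (N₂ : Set H) := by
      refine le_trans (le_sup_left.trans hLM.ge) (sup_le ?_ (le_sup_right.trans Subgroup.le_normalizer))
      exact (le_inf hLNn (le_sup_left.trans hXC)).trans (Subgroup.normalizer_inf_normalizer_le_normalizer_sup _ _)
    haveI : (N₂.subgroupOf M).Normal := Subgroup.normal_subgroupOf_of_le_normalizer hnorm
    have h3 : N₂.subgroupOf M ≤ Subgroup.centralizer (Cfsg.largestPReduced p ↥M : Set ↥M) := by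
      refine (CfsgLib.LocalEven.isPReducedNormal_iff_pow hred.2.1).mp hred _ inferInstance fun n hn => ?_
      obtain ⟨k, hk⟩ := hmem n hn
      obtain ⟨z, hz, ez⟩ := hCM.ge ⟨pow_mem n.2 _, hk⟩
      exact ⟨k, by rwa [← show z = n ^ p ^ k from Subtype.ext ez]⟩
    intro n hn
    have hnC : (n : H) ∈ C := by
      have h4 : (n : H) ∈ M ⊔ C := hLM.le (Subgroup.mem_sup_left n.2)
      rw [← SetLike.mem_coe, Subgroup.coe_mul_of_left_le_normalizer_right M C (hMN.trans hCn)] at h4
      obtain ⟨m, hm, c, hc, e⟩ := h4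
      have hm2 : m ∈ N₂ := by
        have e' : m = (n : H) * c⁻¹ := by rw [← e]; exact (mul_inv_cancel_right m c).symm
        rw [e']
        exact mul_mem (Subgroup.mem_sup_left ⟨n, hn, rfl⟩) (inv_mem (Subgroup.mem_sup_right hc))
      rw [← e]
      exact mul_mem (hCM.le ⟨⟨m, hm⟩, h3 (Subgroup.mem_subgroupOf.mpr hm2), rfl⟩).2 hc
    obtain ⟨z, hz, ez⟩ := hCL.ge ⟨n.2, hnC⟩
    rwa [← show z = n from Subtype.ext ez]
  intro y hy
  exact ⟨⟨y, hYL hy⟩, CfsgLib.LocalEven.le_largestPReduced key (Subgroup.mem_subgroupOf.mpr hy), rfl⟩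

end Cfsg.Agent.S2822
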