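import Cfsg.Statements.S2824
import Cfsg.Agent.Lib.LocalEven.Overgroup
import Cfsg.Agent.S2822

set_option autoImplicit false
open Cfsg

namespace Cfsg.Agent.S2824

/-- Let H be a finite group, p a prime, T a Sylow p-subgroup, L and M subgroups of characteristic p containing T, Y_L the largest p-reduced normal subgroup of L and T₀ = C_T(Y_L). If M·C_H(Y_L) = L·C_H(Y_L), then L* := N_M(T₀) has Y_{L*} = Y_L and L·C_H(Y_L) = L*·C_H(Y_L). -/
theorem result {H : Type*} [Group H] [Finite H] {p : ℕ} [Fact p.Prime] (T : Sylow p H) (L M : Subgroup H) (hTL : (T : Subgroup H) ≤ L) (hTM : (T : Subgroup H) ≤ M) (hL : Subgroup.centralizer (Cfsg.pCore p ↥L : Set ↥L) ≤ Cfsg.pCore p ↥L) (hM : Subgroup.centralizer (Cfsg.pCore p ↥M : Set ↥M) ≤ Cfsg.pCore p ↥M) (T₀ : Subgroup H) (hT₀ : T₀ = (T : Subgroup H) ⊓ Subgroup.centralizer (((Cfsg.largestPReducedOf p L) : Subgroup H) : Set H)) (hfac : M ⊔ Subgroup.centralizer (((Cfsg.largestPReducedOf p L) : Subgroup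 H) : Set H) = L ⊔ Subgroup.centralizer (((Cfsg.largestPReducedOf p L) : Subgroup H) : Set H)) (Ls : Subgroup H) (hLs : Ls = M ⊓ Subgroup.normalizer ((T₀ : Subgroup H) : Set H)) : (Cfsg.largestPReducedOf p Ls) = (Cfsg.largestPReducedOf p L) ∧ L ⊔ Subgroup.centralizer (((Cfsg.largestPReducedOf p L) : Subgroup H) : Set H) = Ls ⊔ Subgroup.centralizer (((Cfsg.largestPReducedOf p L) : Subgroup H) : Set H) := by
  subst hLs
  set Y := Cfsg.largestPReducedOf p L with hY
  set C := Subgroup.centralizer (Y : Set H) with hC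
  have hredL := CfsgLib.LocalEven.isPReducedNormal_largest (L := ↥L) (p := p)
  haveI := hredL.1
  have hLY : L ≤ Subgroup.normalizer (Y : Set H) := CfsgLib.LocalEven.le_normalizer_map_of_normal L _
  have hMC : M ≤ Subgroup.normalizer (C : Set H) :=
    ((le_sup_left.trans hfac.le).trans (sup_le hLY (Subgroup.centralizer_le_normalizer _))).trans
      CfsgLib.LocalEven.le_normalizer_centralizer
  have hTT₀ : (T : Subgroup H) ≤ Subgroup.normalizer (T₀ : Set H) := by
    rw [hT₀]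
    exact (le_inf Subgroup.le_normalizer (hTM.trans hMC)).trans Subgroup.inf_normalizer_le_normalizer_inf
  set Ls := M ⊓ Subgroup.normalizer (T₀ : Set H) with hLs
  have hTLs : (T : Subgroup H) ≤ Ls := le_inf hTM hTT₀
  have hcpLs := CfsgLib.LocalEven.hasCharP_of_sylow_le ((CfsgLib.LocalEvenB.hasCharP_iff M).mpr hM) T
    hTLs inf_le_left
  have hfac' : L ⊔ C = Ls ⊔ C := by
    rw [← hfac]
    refine le_antisymm (sup_le ?_ le_sup_right) (sup_le_sup_right inf_le_left C)
    refine (CfsgLib.LocalEven.le_normalizer_inf_sup T hTM hMC).trans (sup_le ?_ (inf_le_right.trans le_sup_right))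
    rw [← hT₀]
    exact le_sup_left
  refine ⟨le_antisymm ?_ (S2822.result T Ls L hTLs hTL
    ((CfsgLib.LocalEvenB.hasCharP_iff Ls).mp hcpLs) hL hfac'.symm), hfac'⟩
  have hYY : Y ≤ Cfsg.largestPReducedOf p Ls := S2822.result T Ls L hTLs hTL
    ((CfsgLib.LocalEvenB.hasCharP_iff Ls).mp hcpLs) hL hfac'.symm
  set Ys := Cfsg.largestPReducedOf p Ls with hYs
  have hredS := CfsgLib.LocalEven.isPReducedNormal_largest (L := ↥Ls) (p := p)
  have hYsO : Ys ≤ Cfsg.pCoreOf p Ls := Subgroup.map_mono CfsgLib.LocalEven.largest_le_pCore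
  have hYsc : Ys ≤ Subgroup.centralizer (Cfsg.pCoreOf p Ls : Set H) :=
    Subgroup.le_centralizer_iff.mp ((Subgroup.map_mono (CfsgLib.LocalEven.pCore_le_centralizer hredS)).trans
      ((CfsgLib.LocalEven.map_centralizer_eq Ls _).le.trans inf_le_right))
  have hYsT : Ys ≤ (T : Subgroup H) := hYsO.trans (CfsgLib.LocalEven.pCoreOf_le_sylow T hTLs)
  have hYsT₀ : Ys ≤ T₀ := by
    rw [hT₀]
    refine le_inf hYsT ?_
    exact ((Subgroup.le_centralizer_iff.mp hYsc).trans' hYsO).trans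
      (Subgroup.centralizer_le (SetLike.coe_subset_coe.mpr hYY))
  have hT₀O : T₀ ≤ Cfsg.pCoreOf p Ls := CfsgLib.LocalEvenB.le_pCoreOf
    (hT₀ ▸ inf_le_left.trans hTLs) (hT₀ ▸ T.2.to_le inf_le_left) inf_le_right
  have hOL : Cfsg.pCoreOf p L ≤ T₀ := by
    rw [hT₀]
    exact le_inf (CfsgLib.LocalEven.pCoreOf_le_sylow T hTL)
      ((Subgroup.map_mono (CfsgLib.LocalEven.pCore_le_centralizer hredL)).trans
        ((CfsgLib.LocalEven.map_centralizer_eq L _).le.trans inf_le_right))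
  refine CfsgLib.LocalEven.le_largestOf ((CfsgLib.LocalEvenB.hasCharP_iff L).mpr hL) (hYsT.trans hTL)
    (hYsc.trans (Subgroup.centralizer_le (SetLike.coe_subset_coe.mpr (hOL.trans hT₀O))))
    (fun y hy => CfsgLib.LocalEven.pow_eq_one_of_mem_largest hy) fun N hN h => ?_
  refine ⟨T.subtype hTL, ?_⟩
  have hNC : N ≤ Subgroup.centralizer (Cfsg.largestPReduced p ↥L : Set ↥L) := by
    refine (CfsgLib.LocalEven.isPReducedNormal_iff_pow hredL.2.1).mp hredL N hN fun n hn => ?_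
    obtain ⟨k, hk⟩ := h n hn
    obtain ⟨z, hz, ez⟩ := (CfsgLib.LocalEven.map_centralizer_eq L (Cfsg.largestPReduced p ↥L)).ge
      ⟨pow_mem n.2 _, Subgroup.centralizer_le (SetLike.coe_subset_coe.mpr hYY) hk⟩
    exact ⟨k, by rwa [← show z = n ^ p ^ k from Subtype.ext ez]⟩
  intro x hx
  have h1 : (x : H) ∈ T₀ := by
    rw [hT₀]
    exact ⟨hx.1, ((CfsgLib.LocalEven.map_centralizer_eq L _).le ⟨x, hNC hx.2, rfl⟩).2⟩
  exact Subgroup.le_centralizer_iff.mp hYsc (hT₀O h1)

end Cfsg.Agent.S2824
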