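import Cfsg.Statements.S0222
import Cfsg.Agent.Lib.Bender.Gen.Final
-- import your own Cfsg.Agent.* helpers here

set_option autoImplicit false
open Cfsg

namespace Cfsg.Agent.S0222

/-- Bender's Theorem for simple groups: let G be a non-abelian finite simple group possessing a strongly embedded subgroup. Then G is isomorphic to PSL2 over a finite field of characteristic 2 with at least 4 elements, or G is a simple group whose order is that of a Suzuki group Sz(2^(2m+1)) with m ≥ 1, or G is isomorphic to PSU3 realised over a field with q^2 elements, q ≥ 4 a power of 2. -/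
theorem result {G : Type*} [Group G] [Finite G] [IsSimpleGroup G] (hna : ∃ a b : G, a * b ≠ b * a) (H : Subgroup G) (hH : Cfsg.IsStronglyEmbedded H) : (∃ (F : Type) (_ : Field F) (_ : Fintype F), CharP F 2 ∧ 4 ≤ Fintype.card F ∧ Nonempty (G ≃* Matrix.ProjectiveSpecialLinearGroup (Fin 2) F)) ∨ Cfsg.IsSuzuki G ∨ (∃ (F : Type) (_ : Field F) (_ : Fintype F) (q : ℕ), Fintype.card F = q ^ 2 ∧ Even q ∧ 4 ≤ q ∧ Nonempty (G ≃* Cfsg.PSU 3 F q)) := by
  rcases CfsgLib.Bender.classify_of_benderGen CfsgLib.Bender.benderGen hH with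
    ⟨F, iF, iFt, ⟨n, hn, hF⟩, he⟩ | h | ⟨F, iF, iFt, n, hn, hF, he⟩
  · haveI : Fact (Nat.Prime 2) := ⟨Nat.prime_two⟩
    exact Or.inl ⟨F, iF, iFt, charP_of_card_eq_prime_pow (f := n) hF,
      hF ▸ le_trans (by norm_num) (Nat.pow_le_pow_right (by norm_num) hn), he⟩
  · exact Or.inr (Or.inl h)
  · exact Or.inr (Or.inr ⟨F, iF, iFt, 2 ^ n, hF, Nat.even_pow.2 ⟨even_two, by omega⟩,
      le_trans (by norm_num) (Nat.pow_le_pow_right (by norm_num) hn), he⟩)

end Cfsg.Agent.S0222
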