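import Cfsg.Statements.S2758
import Cfsg.Agent.Lib.Signalizer.Involutions
import Cfsg.Agent.Lib.TwoGroups.Recognition
import Cfsg.Agent.Lib.LocalEven.Basic
import Cfsg.Agent.Lib.Core.Cores
import Cfsg.Agent.Lib.Core.Basic

set_option autoImplicit false
open Cfsg

namespace Cfsg.Agent.S2758

/-- For an odd prime p and a finite group G the following are equivalent: the dihedral group of order 2p is involved in G; some element of 2-power order normalizes but does not centralize some p-subgroup of G; some element of 2-power order inverts some nonidentity element of p-power order. -/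
theorem result {G : Type*} [Group G] [Finite G] {p : ℕ} [Fact p.Prime] (hp : p ≠ 2) : (Cfsg.Involves (DihedralGroup p) G ↔ ∃ (x : G) (P : Subgroup G), (∃ k : ℕ, orderOf x = 2 ^ k) ∧ IsPGroup p ↥P ∧ x ∈ Subgroup.normalizer (P : Set G) ∧ x ∉ Subgroup.centralizer (P : Set G)) ∧ (Cfsg.Involves (DihedralGroup p) G ↔ ∃ x y : G, (∃ k : ℕ, orderOf x = 2 ^ k) ∧ (∃ k : ℕ, orderOf y = p ^ k) ∧ y ≠ 1 ∧ x * y * x⁻¹ = y⁻¹) := by
  haveI : Fact (Nat.Prime 2) := ⟨Nat.prime_two⟩
  haveI : NeZero p := ⟨(Fact.out : p.Prime).ne_zero⟩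
  have hodd : Odd p := (Fact.out : p.Prime).odd_of_ne_two hp
  -- (2) implies (3)
  have h23 : (∃ (x : G) (P : Subgroup G), (∃ k : ℕ, orderOf x = 2 ^ k) ∧ IsPGroup p ↥P ∧
      x ∈ Subgroup.normalizer (P : Set G) ∧ x ∉ Subgroup.centralizer (P : Set G)) →
      ∃ x y : G, (∃ k : ℕ, orderOf x = 2 ^ k) ∧ (∃ k : ℕ, orderOf y = p ^ k) ∧ y ≠ 1 ∧ x * y * x⁻¹ = y⁻¹ := by
    rintro ⟨x, P, ⟨k, hk⟩, hP, hxN, hxC⟩
    have key : ∀ (k : ℕ) (x : G), x ^ 2 ^ k = 1 → (∃ k' : ℕ, orderOf x = 2 ^ k') → x ∈ Subgroup.normalizer (P : Set G) →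
        x ∉ Subgroup.centralizer (P : Set G) → ∃ t : G, (∃ k' : ℕ, orderOf t = 2 ^ k') ∧
          t ∈ Subgroup.normalizer (P : Set G) ∧ t ∉ Subgroup.centralizer (P : Set G) ∧
          t ^ 2 ∈ Subgroup.centralizer (P : Set G) := by
      intro k
      induction k with
      | zero => intro x hx _ _ hC; rw [pow_zero, pow_one] at hx; exact absurd (hx ▸ Subgroup.one_mem _) hC
      | succ k ih =>
        intro x hx hxo hN hC
        by_cases h : x ^ 2 ∈ Subgroup.centralizer (P : Set G)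
        · exact ⟨x, hxo, hN, hC, h⟩
        · obtain ⟨k', hk'⟩ := hxo
          refine ih (x ^ 2) (by rw [← pow_mul, ← pow_succ']; exact hx) ?_ (pow_mem hN 2) h
          obtain ⟨j, -, hj⟩ := (Nat.dvd_prime_pow Nat.prime_two).mp (hk' ▸ orderOf_pow_dvd 2 : orderOf (x ^ 2) ∣ 2 ^ k')
          exact ⟨j, hj⟩
    obtain ⟨t, ht, htN, htC, ht2⟩ := key k x (hk ▸ pow_orderOf_eq_one x) ⟨k, hk⟩ hxN hxC
    rw [Subgroup.mem_centralizer_iff] at htC
    push Not at htC
    obtain ⟨z, hz, hzt⟩ := htC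
    have hz' : t * z * t⁻¹ ∈ P := (Subgroup.mem_normalizer_iff.mp htN z).mp hz
    refine ⟨t, z⁻¹ * (t * z * t⁻¹), ht, ?_, ?_, ?_⟩
    · obtain ⟨j, hj⟩ := IsPGroup.iff_orderOf.mp hP ⟨_, P.mul_mem (P.inv_mem hz) hz'⟩
      exact ⟨j, by rwa [Subgroup.orderOf_mk] at hj⟩
    · intro h
      rw [inv_mul_eq_one] at h
      exact hzt ((eq_mul_inv_iff_mul_eq.mp h).symm ▸ rfl)
    · have h2 : t * t * z * t⁻¹ * t⁻¹ = z := by
        rw [← pow_two, ← Subgroup.mem_centralizer_iff.mp ht2 z hz, pow_two]; group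
      calc t * (z⁻¹ * (t * z * t⁻¹)) * t⁻¹ = (t * z * t⁻¹)⁻¹ * (t * t * z * t⁻¹ * t⁻¹) := by group
        _ = (z⁻¹ * (t * z * t⁻¹))⁻¹ := by rw [h2]; group
  -- (3) implies (2)
  have h32 : (∃ x y : G, (∃ k : ℕ, orderOf x = 2 ^ k) ∧ (∃ k : ℕ, orderOf y = p ^ k) ∧ y ≠ 1 ∧ x * y * x⁻¹ = y⁻¹) →
      ∃ (x : G) (P : Subgroup G), (∃ k : ℕ, orderOf x = 2 ^ k) ∧ IsPGroup p ↥P ∧
      x ∈ Subgroup.normalizer (P : Set G) ∧ x ∉ Subgroup.centralizer (P : Set G) := by
    rintro ⟨x, y, hx, ⟨j, hj⟩, hy1, hxy⟩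
    refine ⟨x, Subgroup.zpowers y, hx, IsPGroup.of_card (n := j) (by rw [Nat.card_zpowers, hj]), ?_, fun hc => ?_⟩
    · rw [CfsgLib.LocalEven.mem_normalizer_conj_iff, MonoidHom.map_zpowers]
      show Subgroup.zpowers (x * y * x⁻¹) = _
      rw [hxy, Subgroup.zpowers_inv]
    · have h1 : y⁻¹ = y := by
        rw [← hxy, ← Subgroup.mem_centralizer_iff.mp hc y (Subgroup.mem_zpowers y), mul_inv_cancel_right]
      have h2 : orderOf y ∣ 2 := orderOf_dvd_of_pow_eq_one (by rw [pow_two]; exact inv_eq_iff_mul_eq_one.mp h1)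
      rw [hj] at h2
      have h3 : p ^ j = 1 := Nat.eq_one_of_dvd_coprimes
        (Nat.Coprime.pow_left j ((Nat.coprime_primes Fact.out Nat.prime_two).mpr hp)) (dvd_refl _) h2
      exact hy1 (orderOf_eq_one_iff.mp (hj.trans h3))
  -- (1) implies (2)
  have h12 : Cfsg.Involves (DihedralGroup p) G → ∃ (x : G) (P : Subgroup G), (∃ k : ℕ, orderOf x = 2 ^ k) ∧
      IsPGroup p ↥P ∧ x ∈ Subgroup.normalizer (P : Set G) ∧ x ∉ Subgroup.centralizer (P : Set G) := by
    rintro ⟨K, R, hn, ⟨e⟩⟩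
    haveI := hn
    set π : K →* DihedralGroup p := e.toMonoidHom.comp (QuotientGroup.mk' (R.subgroupOf K)) with hπdef
    have hπ : Function.Surjective π := e.surjective.comp (QuotientGroup.mk'_surjective _)
    set Rot := Subgroup.zpowers (DihedralGroup.r (1 : ZMod p)) with hRot
    have hRotmem : ∀ i, DihedralGroup.r i ∈ Rot := fun i => ⟨(i.val : ℤ), by
      show DihedralGroup.r (1 : ZMod p) ^ (i.val : ℤ) = _
      rw [zpow_natCast, DihedralGroup.r_one_pow, ZMod.natCast_zmod_val]⟩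
    have hRotn : Rot.Normal := by
      refine ⟨fun n hn g => ?_⟩
      obtain ⟨k, rfl⟩ := hn
      show g * DihedralGroup.r (1 : ZMod p) ^ k * g⁻¹ ∈ Rot
      rw [← conj_zpow]
      refine zpow_mem ?_ k
      rcases g with i | i <;> simp <;> exact hRotmem _
    set M := Rot.comap π with hM
    haveI : M.Normal := hRotn.comap π
    let P : Sylow p K := default
    have hPM : (P : Subgroup K) ≤ M := by
      intro z hz
      rw [hM, Subgroup.mem_comap]
      rcases hzd : π z with i | i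
      · exact hRotmem i
      · exfalso
        obtain ⟨j, hj⟩ := IsPGroup.iff_orderOf.mp P.2 ⟨z, hz⟩
        rw [Subgroup.orderOf_mk] at hj
        have h1 : 2 ∣ p ^ j := by
          rw [← hj, ← DihedralGroup.orderOf_sr i, ← hzd]; exact orderOf_map_dvd π z
        exact hp ((Nat.prime_dvd_prime_iff_eq Nat.prime_two Fact.out).mp (Nat.prime_two.dvd_of_dvd_pow h1)).symm
    obtain ⟨d, hd⟩ := hπ (DihedralGroup.sr 0)
    have hdm : d ∈ ((Subgroup.normalizer ((P : Subgroup K) : Set K) ⊔ M : Subgroup K) : Set K) := by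
      have h := Sylow.normalizer_sup_eq_top' P hPM
      show d ∈ (Subgroup.normalizer ((P : Subgroup K) : Set K) ⊔ M : Subgroup K)
      exact h.symm ▸ Subgroup.mem_top d
    rw [Subgroup.coe_mul_of_left_le_normalizer_right _ M (CfsgLib.Core.le_normalizer_of_normal _ M)] at hdm
    obtain ⟨n, hnN, m, hm, hdnm⟩ := hdm
    obtain ⟨i, hi⟩ : ∃ i, π n = DihedralGroup.sr i := by
      rcases hnd : π n with i | i
      · exfalso
        have h1 : π d ∈ Rot := by rw [← hdnm, map_mul, hnd]; exact mul_mem (hRotmem i) hm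
        obtain ⟨l, hl⟩ := h1
        rw [hd] at hl
        rcases l with l | l <;> simp [DihedralGroup.r_one_pow] at hl
      · exact ⟨i, rfl⟩
    have h0 : orderOf n ≠ 0 := (orderOf_pos n).ne'
    set b := orderOf n / 2 ^ (orderOf n).factorization 2 with hb
    have hbo : Odd b := Nat.not_even_iff_odd.mp (fun h => Nat.not_dvd_ordCompl Nat.prime_two h0 (even_iff_two_dvd.mp h))
    have hxo : orderOf (n ^ b) = 2 ^ (orderOf n).factorization 2 := by
      rw [orderOf_pow' n hbo.pos.ne', Nat.gcd_eq_right (Nat.ordCompl_dvd _ 2)]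
      exact Nat.div_div_self (Nat.ordProj_dvd _ 2) h0
    have hπx : π (n ^ b) = DihedralGroup.sr i := by
      obtain ⟨c, hc⟩ := hbo
      rw [map_pow, hi, hc, pow_succ, pow_mul, pow_two, DihedralGroup.sr_mul_self, one_pow, one_mul]
    refine ⟨((n ^ b : K) : G), (P : Subgroup K).map K.subtype, ⟨_, (Subgroup.orderOf_coe _).trans hxo⟩, P.2.map _,
      Subgroup.le_normalizer_map _ ⟨n ^ b, pow_mem hnN b, rfl⟩, fun hc => ?_⟩
    obtain ⟨z, hzP, hz1⟩ : ∃ z ∈ (P : Subgroup K), π z ≠ 1 := by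
      by_contra h
      push Not at h
      have h1 : ((P.mapSurjective hπ : Sylow p (DihedralGroup p)) : Subgroup (DihedralGroup p)) = ⊥ := by
        rw [Sylow.coe_mapSurjective, eq_bot_iff]
        rintro _ ⟨z, hz, rfl⟩
        exact Subgroup.mem_bot.mpr (h z hz)
      have h2 := (P.mapSurjective hπ).dvd_card_of_dvd_card (by rw [DihedralGroup.nat_card]; exact dvd_mul_left p 2)
      rw [h1, Subgroup.card_bot, Nat.dvd_one] at h2
      exact (Fact.out : p.Prime).ne_one h2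
    obtain ⟨l, hl⟩ : ∃ l, π z = DihedralGroup.r l := by
      obtain ⟨l, hl⟩ := hPM hzP
      exact ⟨_, hl.symm.trans (DihedralGroup.r_one_zpow l)⟩
    have h3 := congrArg π (Subtype.ext (Subgroup.mem_centralizer_iff.mp hc z ⟨z, hzP, rfl⟩) : z * n ^ b = n ^ b * z)
    rw [map_mul, map_mul, hπx, hl, DihedralGroup.r_mul_sr, DihedralGroup.sr_mul_r, DihedralGroup.sr.injEq] at h3
    have h4 : (2 : ZMod p) * l = 0 := by linear_combination -h3
    have h5 : (2 : ZMod p) ≠ 0 := by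
      intro h
      have h6 : p ∣ 2 := (ZMod.natCast_eq_zero_iff 2 p).mp (by exact_mod_cast h)
      exact hp ((Nat.prime_dvd_prime_iff_eq Fact.out Nat.prime_two).mp h6)
    exact hz1 (by rw [hl, (mul_eq_zero.mp h4).resolve_left h5, DihedralGroup.r_zero])
  -- (3) implies (1)
  have h31 : (∃ x y : G, (∃ k : ℕ, orderOf x = 2 ^ k) ∧ (∃ k : ℕ, orderOf y = p ^ k) ∧ y ≠ 1 ∧ x * y * x⁻¹ = y⁻¹) →
      Cfsg.Involves (DihedralGroup p) G := by
    rintro ⟨x, y₀, ⟨k, hk⟩, ⟨j, hj⟩, hy1, hxy₀⟩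
    rcases Nat.eq_zero_or_pos j with rfl | hj0
    · exact absurd (orderOf_eq_one_iff.mp (by rw [hj, pow_zero])) hy1
    set y := y₀ ^ p ^ (j - 1) with hy
    have hyo : orderOf y = p := by
      rw [hy, orderOf_pow, hj, Nat.gcd_eq_right (pow_dvd_pow p (Nat.sub_le j 1))]
      rw [Nat.pow_div (Nat.sub_le j 1) (NeZero.pos p), show j - (j - 1) = 1 by omega, pow_one]
    have hxy : x * y * x⁻¹ = y⁻¹ := by rw [hy, ← conj_pow, hxy₀, inv_pow]
    have hx2y : Commute (x ^ 2) y := by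
      have h1 : x * y⁻¹ * x⁻¹ = y := by rw [← conj_inv, hxy, inv_inv]
      show x ^ 2 * y = y * x ^ 2
      rw [pow_two]
      calc x * x * y = x * (x * y * x⁻¹) * x⁻¹ * (x * x) := by group
        _ = y * (x * x) := by rw [hxy, h1]
    set K := Subgroup.zpowers y ⊔ Subgroup.zpowers x with hK
    set R := Subgroup.zpowers (x ^ 2) with hR
    have hyK : y ∈ K := Subgroup.mem_sup_left (Subgroup.mem_zpowers y)
    have hxK : x ∈ K := Subgroup.mem_sup_right (Subgroup.mem_zpowers x)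
    have hKN : K ≤ Subgroup.normalizer (R : Set G) := by
      refine sup_le ((Subgroup.zpowers_le.mpr ?_)) ((Subgroup.zpowers_le.mpr ?_)) <;>
        rw [CfsgLib.LocalEven.mem_normalizer_conj_iff, hR, MonoidHom.map_zpowers]
      · show Subgroup.zpowers (y * x ^ 2 * y⁻¹) = _
        rw [← hx2y.eq, mul_inv_cancel_right]
      · show Subgroup.zpowers (x * x ^ 2 * x⁻¹) = _
        rw [show x * x ^ 2 * x⁻¹ = x ^ 2 by group]
    haveI hn : (R.subgroupOf K).Normal := Subgroup.normal_subgroupOf_of_le_normalizer hKN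
    refine ⟨K, R, hn, ?_⟩
    set q := QuotientGroup.mk' (R.subgroupOf K) with hq
    set a := q ⟨y, hyK⟩ with ha
    set b := q ⟨x, hxK⟩ with hb
    have hdvd2 : ∀ l : ℕ, y ^ l ∈ R → y ^ l = 1 := by
      intro l hl
      rw [← orderOf_eq_one_iff]
      refine Nat.eq_one_of_dvd_coprimes (Nat.Coprime.pow_right k ((Nat.coprime_primes Fact.out Nat.prime_two).mpr hp)) (hyo ▸ orderOf_pow_dvd l) ?_
      exact (Subgroup.orderOf_dvd_natCard R hl).trans (by
        rw [hR, Nat.card_zpowers, ← hk]; exact orderOf_pow_dvd 2)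
    have hao : orderOf a = p := by
      refine orderOf_eq_prime ?_ fun h => ?_
      · rw [ha, ← map_pow]
        refine (QuotientGroup.eq_one_iff _).mpr (Subgroup.mem_subgroupOf.mpr ?_)
        rw [Subgroup.coe_pow, ← hyo, pow_orderOf_eq_one]
        exact Subgroup.one_mem _
      · rw [ha, hq, QuotientGroup.mk'_apply, QuotientGroup.eq_one_iff, Subgroup.mem_subgroupOf] at h
        have h1 := hdvd2 1 (by rw [pow_one]; exact h)
        rw [pow_one] at h1
        exact (Fact.out : p.Prime).ne_one (by rw [← hyo, h1, orderOf_one])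
    have hbb : b * b = 1 := by
      rw [hb, ← map_mul]
      refine (QuotientGroup.eq_one_iff _).mpr (Subgroup.mem_subgroupOf.mpr ?_)
      rw [Subgroup.coe_mul, hR, ← pow_two]
      exact Subgroup.mem_zpowers _
    have hbab : b * a * b⁻¹ = a⁻¹ := by
      rw [hb, ha, ← map_inv, ← map_mul, ← map_mul, ← map_inv]
      exact congrArg q (Subtype.ext hxy)
    have hba : b ∉ Subgroup.zpowers a := by
      intro h
      have h1 : a⁻¹ = a := by
        obtain ⟨l, hl⟩ := h
        rw [← hbab, ← hl]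
        show a ^ l * a * (a ^ l)⁻¹ = a
        group
      have h2 : orderOf a ∣ 2 := orderOf_dvd_of_pow_eq_one (by rw [pow_two]; exact inv_eq_iff_mul_eq_one.mp h1)
      rw [hao] at h2
      exact hp ((Nat.prime_dvd_prime_iff_eq Fact.out Nat.prime_two).mp h2)
    refine CfsgLib.TwoGroups.nonempty_mulEquiv_dihedralGroup hao hbb hba hbab ?_
    have htop : Subgroup.zpowers a ⊔ Subgroup.zpowers b = (⊤ : Subgroup (K ⧸ R.subgroupOf K)) := by
      rw [eq_top_iff]
      intro g _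
      obtain ⟨⟨g, hg⟩, rfl⟩ := QuotientGroup.mk'_surjective (R.subgroupOf K) g
      have h1 : (Subgroup.zpowers (⟨y, hyK⟩ : K) ⊔ Subgroup.zpowers (⟨x, hxK⟩ : K)).map K.subtype = K := by
        rw [Subgroup.map_sup, MonoidHom.map_zpowers, MonoidHom.map_zpowers]
        rfl
      obtain ⟨g', hg', hgg⟩ : g ∈ (Subgroup.zpowers (⟨y, hyK⟩ : K) ⊔ Subgroup.zpowers (⟨x, hxK⟩ : K)).map K.subtype := by
        rw [h1]; exact hg
      have h2 := Subgroup.mem_map_of_mem q hg'
      rw [Subgroup.map_sup, MonoidHom.map_zpowers, MonoidHom.map_zpowers] at h2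
      have h3 : g' = ⟨g, hg⟩ := Subtype.ext hgg
      rwa [h3] at h2
    have hnorm : Subgroup.zpowers b ≤ Subgroup.normalizer (Subgroup.zpowers a : Set (K ⧸ R.subgroupOf K)) := by
      rw [Subgroup.zpowers_le, CfsgLib.LocalEven.mem_normalizer_conj_iff, MonoidHom.map_zpowers]
      show Subgroup.zpowers (b * a * b⁻¹) = _
      rw [hbab, Subgroup.zpowers_inv]
    have hcard := CfsgLib.Core.card_sup_mul_card_inf (Subgroup.zpowers b) (Subgroup.zpowers a) hnorm
    have hb2 : orderOf b = 2 := CfsgLib.Signalizer.orderOf_eq_two_of (fun h => hba (h ▸ Subgroup.one_mem _)) hbb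
    have hinf : Subgroup.zpowers b ⊓ Subgroup.zpowers a = ⊥ := by
      refine Subgroup.inf_eq_bot_of_coprime ?_
      rw [Nat.card_zpowers, Nat.card_zpowers, hao, hb2]
      exact (Nat.coprime_primes Nat.prime_two Fact.out).mpr (Ne.symm hp)
    rw [sup_comm, htop, Subgroup.card_top, hinf, Subgroup.card_bot, mul_one, Nat.card_zpowers, Nat.card_zpowers, hao, hb2] at hcard
    exact hcard
  exact ⟨⟨h12, fun h => h31 (h23 h)⟩, ⟨fun h => h23 (h12 h), h31⟩⟩

end Cfsg.Agent.S2758
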