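import Cfsg.Statements.S2759
import Cfsg.Agent.Lib.LocalEven.SFour
import Cfsg.Agent.Lib.PGroups.Basic
import Cfsg.Agent.S2758

set_option autoImplicit false
open Cfsg
open scoped commutatorElement

namespace Cfsg.Agent.S2759

/-- For a finite group G, the symmetric group of degree 4 is involved in G if and only if there is a 2-subgroup T of G such that the symmetric group of degree 3 is involved in N(T)/C(T). -/
theorem result {G : Type*} [Group G] [Finite G] : Cfsg.Involves (Equiv.Perm (Fin 4)) G ↔ ∃ T : Subgroup G, IsPGroup 2 ↥T ∧ Cfsg.Involves (Equiv.Perm (Fin 3)) (↥(Subgroup.normalizer (T : Set G)) ⧸ (Subgroup.centralizer (T : Set G)).subgroupOf (Subgroup.normalizer (T : Set G))) := by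
  haveI : Fact (Nat.Prime 2) := ⟨Nat.prime_two⟩
  haveI : Fact (Nat.Prime 3) := ⟨by norm_num⟩
  obtain ⟨ψ, hψ, -, hψ4, hψC⟩ := CfsgLib.LocalEven.exists_four_to_three
  constructor
  · rintro ⟨K, R, hn, ⟨e⟩⟩
    haveI := hn
    set π : K →* Equiv.Perm (Fin 4) := e.toMonoidHom.comp (QuotientGroup.mk' (R.subgroupOf K)) with hπ'
    have hπ : Function.Surjective π := e.surjective.comp (QuotientGroup.mk'_surjective _)
    set M := (ψ.comp π).ker with hM
    obtain ⟨P⟩ := (inferInstance : Nonempty (Sylow 2 M))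
    set T' := (P : Subgroup M).map M.subtype with hT'
    have hV : IsPGroup 2 ψ.ker := IsPGroup.of_card (n := 2) hψ4
    let f : M →* ψ.ker := (π.comp M.subtype).codRestrict ψ.ker fun m => m.2
    have hf : Function.Surjective f := by
      rintro ⟨v, hv⟩
      obtain ⟨k, rfl⟩ := hπ v
      exact ⟨⟨k, hv⟩, rfl⟩
    have htop : (P.mapSurjective hf : Subgroup ψ.ker) = ⊤ :=
      ((P.mapSurjective hf).is_maximal' (hV.to_subgroup ⊤) le_top).symm
    have hTV : ∀ v, ψ v = 1 → ∃ t ∈ T', π t = v := by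
      intro v hv
      obtain ⟨m, hm, hmv⟩ : (⟨v, hv⟩ : ψ.ker) ∈ (P.mapSurjective hf : Subgroup ψ.ker) := htop ▸ Subgroup.mem_top _
      exact ⟨m, ⟨m, hm, rfl⟩, congrArg Subtype.val hmv⟩
    set T := T'.map K.subtype with hT
    refine ⟨T, (P.2.map _).map _, ?_⟩
    set N := Subgroup.normalizer (T : Set G) with hN
    set C := (Subgroup.centralizer (T : Set G)).subgroupOf N with hC
    set A := Subgroup.normalizer (T' : Set K) with hA
    let g : A →* N := (K.subtype.comp A.subtype).codRestrict N fun a =>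
      Subgroup.le_normalizer_map K.subtype ⟨a, a.2, rfl⟩
    set qg := (QuotientGroup.mk' C).comp g with hqg
    set θ : A →* Equiv.Perm (Fin 3) := (ψ.comp π).comp A.subtype with hθ'
    have hθ : Function.Surjective θ := by
      intro σ
      obtain ⟨k, rfl⟩ := (hψ.comp hπ) σ
      have hk : k ∈ ((A ⊔ M : Subgroup K) : Set K) := by
        rw [show A ⊔ M = ⊤ from Sylow.normalizer_sup_eq_top P]; exact Subgroup.mem_top k
      rw [Subgroup.coe_mul_of_left_le_normalizer_right _ M (CfsgLib.Core.le_normalizer_of_normal _ M)] at hk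
      obtain ⟨a, ha, m, hm, rfl⟩ := hk
      refine ⟨⟨a, ha⟩, ?_⟩
      show ψ (π a) = ψ (π (a * m))
      rw [map_mul π, map_mul ψ, show ψ (π m) = 1 from hm, mul_one]
    have hker : qg.ker ≤ θ.ker := by
      intro a ha
      rw [MonoidHom.mem_ker, hqg, MonoidHom.comp_apply, QuotientGroup.mk'_apply, QuotientGroup.eq_one_iff,
        hC, Subgroup.mem_subgroupOf] at ha
      rw [MonoidHom.mem_ker]
      refine hψC _ fun v hv => ?_
      obtain ⟨t, ht, rfl⟩ := hTV v hv
      show π a * π t = π t * π a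
      rw [← map_mul, ← map_mul]
      exact congrArg π (Subtype.ext (Subgroup.mem_centralizer_iff.mp ha t ⟨t, ht, rfl⟩).symm)
    have hker' : qg.rangeRestrict.ker ≤ θ.ker := by rw [MonoidHom.ker_rangeRestrict]; exact hker
    refine CfsgLib.Fusion.involves_of_surjective qg.range.subtype qg.range.subtype_injective
      (qg.rangeRestrict.liftOfSurjective qg.rangeRestrict_surjective ⟨θ, hker'⟩) fun σ => ?_
    obtain ⟨a, rfl⟩ := hθ σ
    exact ⟨qg.rangeRestrict a, MonoidHom.liftOfRightInverse_comp_apply _ _ _ _ a⟩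
  · rintro ⟨T, hT, hinv⟩
    set N := Subgroup.normalizer (T : Set G) with hN
    set C := (Subgroup.centralizer (T : Set G)).subgroupOf N with hC
    set q := QuotientGroup.mk' C with hq
    obtain ⟨e⟩ := CfsgLib.LocalEven.nonempty_perm_three_dihedral
    have hinv' : Cfsg.Involves (DihedralGroup 3) (N ⧸ C) := by
      obtain ⟨K, R, hn, ⟨e'⟩⟩ := hinv
      exact ⟨K, R, hn, ⟨e'.trans e⟩⟩
    obtain ⟨xb, yb, -, hyb, hyb1, hxyb⟩ := (S2758.result (G := N ⧸ C) (p := 3) (by norm_num)).2.mp hinv'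
    obtain ⟨t, z, ⟨k, hk⟩, ⟨j, hj⟩, htz, hzC⟩ :=
      CfsgLib.LocalEven.exists_inverting_lift q (QuotientGroup.mk'_surjective C) (by norm_num) hyb hyb1 hxyb
    -- a power of `z` whose cube centralizes `T`
    have key : ∀ (j : ℕ) (z : N), z ^ 3 ^ j = 1 → t * z * t⁻¹ = z⁻¹ → q z ≠ 1 →
        ∃ y : N, t * y * t⁻¹ = y⁻¹ ∧ q y ≠ 1 ∧ q (y ^ 3) = 1 ∧ ∃ j : ℕ, y ^ 3 ^ j = 1 := by
      intro j
      induction j with
      | zero => intro z hz _ h; rw [pow_zero, pow_one] at hz; exact absurd (hz ▸ map_one q) h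
      | succ j ih =>
        intro z hz hzt h
        by_cases h3 : q (z ^ 3) = 1
        · exact ⟨z, hzt, h, h3, _, hz⟩
        · exact ih (z ^ 3) (by rw [← pow_mul, ← pow_succ']; exact hz) (by rw [← conj_pow, hzt, inv_pow]) h3
    obtain ⟨y, hty, hyC, hy3, l, hyl⟩ := key j z (hj ▸ pow_orderOf_eq_one z) htz hzC
    set T' := T.subgroupOf N with hT'
    haveI hT'n : T'.Normal := Subgroup.normal_in_normalizer
    have hT'p : IsPGroup 2 T' := hT.comap_subtype
    set F := (frattini T').map T'.subtype with hF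
    haveI hFn : F.Normal := by rw [hF]; infer_instance
    set qF := QuotientGroup.mk' F with hqF
    refine CfsgLib.LocalEven.involves_of_section N.subtype N.subtype_injective qF (QuotientGroup.mk'_surjective F)
      (CfsgLib.LocalEven.involves_four_of_elementary (T'.map qF) ?_ ?_ (x := qF t) (y := qF y) ?_ ?_
        ⟨k, by rw [← map_pow, ← hk, pow_orderOf_eq_one, map_one]⟩ (by rw [← map_inv qF t, ← map_mul, ← map_mul, hty, map_inv]) ?_ ?_)
    · rintro _ ⟨v, hv, rfl⟩
      rw [← map_mul]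
      refine (QuotientGroup.eq_one_iff _).mpr ⟨⟨v, hv⟩ ^ 2, CfsgLib.PGroups.pow_mem_frattini hT'p _, ?_⟩
      show ((⟨v, hv⟩ : T') ^ 2 : T').1 = v * v
      rw [Subgroup.coe_pow, pow_two]
    · rintro _ ⟨v, hv, rfl⟩ _ ⟨w, hw, rfl⟩
      rw [← commutatorElement_eq_one_iff_mul_comm, ← map_commutatorElement]
      refine (QuotientGroup.eq_one_iff _).mpr ⟨⁅(⟨v, hv⟩ : T'), ⟨w, hw⟩⁆,
        CfsgLib.PGroups.commutator_le_frattini' hT'p (Subgroup.commutator_mem_commutator (Subgroup.mem_top _) (Subgroup.mem_top _)), ?_⟩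
      rfl
    · exact Subgroup.le_normalizer_map qF ⟨t, CfsgLib.Core.le_normalizer_of_normal ⊤ T' (Subgroup.mem_top t), rfl⟩
    · exact Subgroup.le_normalizer_map qF ⟨y, CfsgLib.Core.le_normalizer_of_normal ⊤ T' (Subgroup.mem_top y), rfl⟩
    · rintro _ ⟨v, hv, rfl⟩
      rw [hq, QuotientGroup.mk'_apply, QuotientGroup.eq_one_iff, hC, Subgroup.mem_subgroupOf] at hy3
      rw [← map_pow, ← map_mul, ← map_mul]
      exact congrArg qF (Subtype.ext (Subgroup.mem_centralizer_iff.mp hy3 v hv).symm)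
    · by_contra hcon
      push Not at hcon
      refine hyC ((QuotientGroup.eq_one_iff y).mpr (Subgroup.mem_subgroupOf.mpr ?_))
      obtain ⟨i, hi⟩ := hT'p.exists_card_eq
      have hle := CfsgLib.Core.centralizes_of_centralizes_frattini_quotient (A := Subgroup.zpowers y) (K := T')
        (CfsgLib.Core.le_normalizer_of_normal _ T') (by
          obtain ⟨j', hj'⟩ := (hT'p.to_subgroup (frattini T')).exists_card_eq
          rw [hj', Nat.card_zpowers]
          exact Nat.Coprime.pow_right j' ((Nat.Coprime.pow_left l (by norm_num)).coprime_dvd_left (orderOf_dvd_of_pow_eq_one hyl)))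
        (by
          rintro _ ⟨m, rfl⟩ v hv
          show y ^ m * v * (y ^ m)⁻¹ * v⁻¹ ∈ F
          rw [← QuotientGroup.eq_one_iff (N := F)]
          show qF (y ^ m * v * (y ^ m)⁻¹ * v⁻¹) = 1
          rw [map_mul, map_mul, map_mul, map_inv, map_inv, map_zpow,
            ((show Commute (qF y) (qF v) from hcon _ ⟨v, hv, rfl⟩).zpow_left m).eq, mul_inv_cancel_right, mul_inv_cancel])
      rw [Subgroup.mem_centralizer_iff]
      intro v hv
      have hvN : v ∈ N := Subgroup.le_normalizer hv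
      exact congrArg Subtype.val (Subgroup.mem_centralizer_iff.mp (hle (Subgroup.mem_zpowers y)) ⟨v, hvN⟩ hv)

end Cfsg.Agent.S2759
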