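import Cfsg.Statements.S2845
import Cfsg.Agent.Lib.LocalEven.CharPWeak

set_option autoImplicit false
open Cfsg

namespace Cfsg.Agent.S2845

/-- Let Q be a nontrivial large p-subgroup of the finite group H. Then for every subgroup L ≥ Q with O_p(L) ≠ 1, C_H(O_p(L)) is a p-group and L has characteristic p, and either the weak closure L° of Q in L equals Q or C_H(L°) = 1; for every subgroup R of H containing a Sylow p-subgroup of H with O_p(R) ≠ 1, C_H(O_p(R)) ≤ O_p(R); and H has parabolic characteristic p. -/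
theorem result {H : Type*} [Group H] [Finite H] {p : ℕ} [Fact p.Prime] (Q : Subgroup H) (hQp : IsPGroup p ↥Q) (hQ1 : Q ≠ ⊥) (hL : Cfsg.IsLarge Q) : (∀ L : Subgroup H, Q ≤ L → Cfsg.pCore p ↥L ≠ ⊥ → IsPGroup p ↥(Subgroup.centralizer (((Cfsg.pCoreOf p L) : Subgroup H) : Set H)) ∧ Subgroup.centralizer (Cfsg.pCore p ↥L : Set ↥L) ≤ Cfsg.pCore p ↥L ∧ (Cfsg.weakClosure Q L = Q ∨ Subgroup.centralizer (((Cfsg.weakClosure Q L) : Subgroup H) : Set H) = ⊥)) ∧ (∀ R : Subgroup H, Cfsg.IsParabolic p R → Cfsg.pCore p ↥R ≠ ⊥ → Subgroup.centralizer (((Cfsg.pCoreOf p R) : Subgroup H) : Set H) ≤ (Cfsg.pCoreOf p R)) ∧ Cfsg.IsOfParabolicCharacteristic p H := by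
  have main : ∀ Q : Subgroup H, IsPGroup p ↥Q → Q ≠ ⊥ → Cfsg.IsLarge Q →
      ∀ L : Subgroup H, Q ≤ L → Cfsg.pCore p ↥L ≠ ⊥ →
      IsPGroup p ↥(Subgroup.centralizer (Cfsg.pCoreOf p L : Set H)) ∧
        CfsgLib.LocalEvenB.HasCharP p L := by
    intro Q hQp hQ1 hL L hQL hO
    have hR1 : Cfsg.pCoreOf p L ≠ ⊥ := fun e =>
      hO ((Subgroup.map_eq_bot_iff_of_injective _ L.subtype_injective).mp e)
    obtain ⟨y, hy1, hy⟩ := CfsgLib.LocalEven.exists_ne_one_mem_centralizer hQp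
      (CfsgLib.LocalEvenB.isPGroup_pCoreOf L) hR1 (hQL.trans (CfsgLib.LocalEvenB.le_normalizer_pCoreOf L))
    set X := Subgroup.centralizer ((Subgroup.zpowers y : Subgroup H) : Set H)
    have hQX : Q ≤ X := Subgroup.le_centralizer_iff.mp (Subgroup.zpowers_le.mpr hy.2)
    have hXN : X ≤ Subgroup.normalizer (Q : Set H) :=
      (Subgroup.centralizer_le_normalizer _).trans (hL.2 _ (Subgroup.zpowers_le.mpr hy.2)
        (fun e => hy1 (Subgroup.zpowers_eq_bot.mp e)))
    obtain ⟨-, h2, h3⟩ := CfsgLib.LocalEven.centralizer_pCoreOf_pgroup hQp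
      (CfsgLib.LocalEven.weaklyClosed_of_large hQp hQ1 hL) hL.1
      (CfsgLib.LocalEven.hasCharP_of_normal hQp hQX hXN hL.1) hQX hQL
      (Subgroup.centralizer_le (SetLike.coe_subset_coe.mpr (Subgroup.zpowers_le.mpr hy.1)))
    exact ⟨h2, h3⟩
  have hwc := CfsgLib.LocalEven.weaklyClosed_of_large hQp hQ1 hL
  have hpar : ∀ R : Subgroup H, Cfsg.IsParabolic p R → Cfsg.pCore p ↥R ≠ ⊥ →
      Subgroup.centralizer (Cfsg.pCoreOf p R : Set H) ≤ Cfsg.pCoreOf p R := by
    rintro R ⟨T, hT⟩ hO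
    obtain ⟨g, hg⟩ := CfsgLib.LocalEven.exists_sylow_conj_le T hQp
    obtain ⟨hCp, -⟩ := main _ (hQp.map _) (CfsgLib.LocalEven.conj_ne_bot hQ1)
      (CfsgLib.LocalEven.isLarge_conj hL g) R (hg.trans hT) hO
    set C := Subgroup.centralizer (Cfsg.pCoreOf p R : Set H)
    have hRC : R ≤ Subgroup.normalizer (C : Set H) :=
      (CfsgLib.LocalEvenB.le_normalizer_pCoreOf R).trans CfsgLib.LocalEven.le_normalizer_centralizer
    have hCT : C ≤ R := by
      have h := T.3 (T.2.to_sup_of_normal_right' hCp (hT.trans hRC)) le_sup_left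
      exact (le_sup_right.trans h.le).trans hT
    exact CfsgLib.LocalEvenB.le_pCoreOf hCT hCp hRC
  refine ⟨fun L hQL hO => ?_, hpar, fun R hRp hR1 hR => ?_⟩
  · obtain ⟨h1, h2⟩ := main Q hQp hQ1 hL L hQL hO
    refine ⟨h1, (CfsgLib.LocalEvenB.hasCharP_iff L).mp h2, or_iff_not_imp_right.mpr fun hne => ?_⟩
    set W := Cfsg.weakClosure Q L
    have hQW : Q ≤ W := le_iSup_of_le (ι := {g : H // Q.map (MulAut.conj g).toMonoidHom ≤ L})
      ⟨1, by rwa [CfsgLib.LocalEven.conj_one]⟩ (by rw [CfsgLib.LocalEven.conj_one])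
    have hWn : L ≤ Subgroup.normalizer (W : Set H) := by
      intro l hl
      rw [CfsgLib.LocalEven.mem_normalizer_conj_iff]
      refine Subgroup.eq_of_le_of_card_ge ?_ (Subgroup.card_map_of_injective (MulAut.conj l).injective).ge
      rw [show W = Cfsg.weakClosure Q L from rfl, Cfsg.weakClosure, Subgroup.map_iSup]
      refine iSup_le fun g => ?_
      rw [CfsgLib.LocalEven.conj_conj]
      refine le_iSup_of_le (ι := {g : H // Q.map (MulAut.conj g).toMonoidHom ≤ L}) ⟨l * g, ?_⟩ le_rfl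
      rw [← CfsgLib.LocalEven.conj_conj]
      refine (Subgroup.map_mono g.2).trans ?_
      exact (CfsgLib.LocalEven.mem_normalizer_conj_iff.mp (Subgroup.le_normalizer hl)).le
    have hLQ : L ≤ Subgroup.normalizer (Q : Set H) :=
      (hWn.trans CfsgLib.LocalEven.le_normalizer_centralizer).trans
        (hL.2 _ (Subgroup.centralizer_le (SetLike.coe_subset_coe.mpr hQW)) hne)
    refine le_antisymm (iSup_le fun g => ?_) hQW
    exact ((CfsgLib.LocalEven.isWeaklyClosedSubgroup_iff hQp).mp hwc _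
      ((hQp.map _).to_sup_of_normal_right' hQp (g.2.trans hLQ)) le_sup_right g le_sup_left).le
  · have hO : Cfsg.pCore p ↥(Subgroup.normalizer (R : Set H)) ≠ ⊥ := fun e => hR1 (le_bot_iff.mp (by
      have := CfsgLib.LocalEvenB.le_pCoreOf (Subgroup.le_normalizer (H := R)) hRp le_rfl
      rwa [Cfsg.pCoreOf, e, Subgroup.map_bot] at this))
    exact (CfsgLib.LocalEvenB.hasCharP_iff _).mp (inf_le_right.trans (hpar _ hR hO))

end Cfsg.Agent.S2845
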