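import Cfsg.Statements.S3864
import Mathlib
import Cfsg.Agent.Lib.TwoGroups.DihedralFusion

set_option autoImplicit false
open Cfsg

namespace Cfsg.Agent.S3864

set_option linter.style.haveILetI false
open DihedralGroup CfsgLib.TwoGroups CfsgLib.TwoGroups.Dihedral

/-- A quotient of order `4` by a normal subgroup kills the central involution, so one of the two
classes of reflections is not fused to it. -/
theorem no_index_four {X : Type*} [Group X] [Finite X] {m : ℕ} {S : Sylow 2 X}
    {f : DihedralGroup (2 ^ m) →* X} (hS : f.range = (S : Subgroup X)) (hm : 2 ≤ m)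
    (h : IsConj (f (sr 0)) (f (r (half m))) ∨ IsConj (f (sr 1)) (f (r (half m))))
    (N : Subgroup X) [N.Normal] : N.index ≠ 4 := by
  intro hN
  have hm1 : 1 ≤ m := by omega
  set φ : DihedralGroup (2 ^ m) →* X ⧸ N := (QuotientGroup.mk' N).comp f with hφ
  have h4 : Nat.card (X ⧸ N) = 4 := by rw [← Subgroup.index_eq_card, hN]
  -- the Sylow subgroup maps onto the quotient
  have hrange : φ.range = ⊤ := by
    rw [hφ, MonoidHom.range_comp, hS]
    refine Subgroup.eq_top_of_card_eq _ (Nat.dvd_antisymm (Subgroup.card_subgroup_dvd_card _) ?_)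
    have hdvd := Subgroup.index_map_dvd (S : Subgroup X) (QuotientGroup.mk'_surjective N)
    have hodd : ¬ 2 ∣ ((S : Subgroup X).map (QuotientGroup.mk' N)).index := fun h2 =>
      S.not_dvd_index (h2.trans hdvd)
    have hmul := Subgroup.card_mul_index ((S : Subgroup X).map (QuotientGroup.mk' N))
    have hco : Nat.Coprime (Nat.card (X ⧸ N)) ((S : Subgroup X).map (QuotientGroup.mk' N)).index := by
      rw [h4, show (4 : ℕ) = 2 ^ 2 by norm_num]
      exact ((Nat.prime_two.coprime_iff_not_dvd).mpr hodd).pow_left 2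
    exact hco.dvd_mul_right.mp (dvd_of_eq hmul.symm)
  haveI : Fact (Nat.Prime 2) := ⟨Nat.prime_two⟩
  have hcomm := IsPGroup.isMulCommutative_of_card_eq_prime_sq (G := X ⧸ N) (p := 2) (by rw [h4]; norm_num)
  have hc : ∀ a b : X ⧸ N, a * b = b * a := fun a b => hcomm.is_comm.comm a b
  have hhalf : φ (r (half m)) = 1 := by
    obtain ⟨c, hc'⟩ : ∃ c : ZMod (2 ^ m), half m = 2 * c :=
      (half_mul_eq_zero_iff hm1).1 (half_mul_half hm)
    have h1 : r (half m) = r c * sr 0 * (r c)⁻¹ * (sr 0 : DihedralGroup (2 ^ m))⁻¹ := by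
      rw [conj_r_sr, inv_sr, sr_mul_sr, hc']; congr 1; ring
    rw [h1, map_mul, map_mul, map_mul, hc (φ (r c)), mul_assoc (φ (sr 0)), ← map_mul φ (r c),
      mul_inv_cancel, map_one, mul_one, ← map_mul, mul_inv_cancel, map_one]
  have hconj : ∀ u v : DihedralGroup (2 ^ m), IsConj (f u) (f v) → φ u = φ v := by
    intro u v huv
    obtain ⟨g, hg⟩ := isConj_iff.1 huv
    show QuotientGroup.mk' N (f u) = QuotientGroup.mk' N (f v)
    rw [← hg, map_mul, map_mul, hc (QuotientGroup.mk' N g), mul_assoc, ← map_mul, mul_inv_cancel,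
      map_one, mul_one]
  -- all images lie in a subgroup of order at most `2`
  obtain ⟨i, hi, hgen⟩ : ∃ i : ZMod (2 ^ m), φ (sr i) * φ (sr i) = 1 ∧
      ∀ g, φ g ∈ Subgroup.zpowers (φ (sr i)) := by
    have key : ∀ t : ZMod (2 ^ m), φ (r t) = φ (r 1) ^ t.val := by
      intro t
      haveI : NeZero (2 ^ m) := ⟨pow_ne_zero _ two_ne_zero⟩
      rw [← map_pow, r_pow_eq, mul_one, ZMod.natCast_zmod_val]
    have hr1 : φ (r 1) = φ (sr 0) * φ (sr 1) := by rw [← map_mul, sr_mul_sr, sub_zero]
    have hsr : ∀ t : ZMod (2 ^ m), φ (sr t) = φ (sr 0) * φ (r t) := by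
      intro t; rw [← map_mul, sr_mul_r, zero_add]
    have hsq : ∀ i : ZMod (2 ^ m), φ (sr i) * φ (sr i) = 1 := fun i => by
      rw [← map_mul, sr_mul_self, map_one]
    have mk : ∀ i, φ (sr 0) ∈ Subgroup.zpowers (φ (sr i)) → φ (sr 1) ∈ Subgroup.zpowers (φ (sr i)) →
        ∀ g, φ g ∈ Subgroup.zpowers (φ (sr i)) := by
      intro i ha hb g
      have hr : ∀ t : ZMod (2 ^ m), φ (r t) ∈ Subgroup.zpowers (φ (sr i)) := fun t => by
        rw [key, hr1]; exact Subgroup.pow_mem _ (Subgroup.mul_mem _ ha hb) _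
      rcases g with t | t
      · exact hr t
      · rw [hsr t]; exact Subgroup.mul_mem _ ha (hr t)
    rcases h with h | h
    · refine ⟨1, hsq 1, mk 1 ?_ (Subgroup.mem_zpowers _)⟩
      rw [hconj _ _ h, hhalf]; exact one_mem _
    · refine ⟨0, hsq 0, mk 0 (Subgroup.mem_zpowers _) ?_⟩
      rw [hconj _ _ h, hhalf]; exact one_mem _
  have hle : (⊤ : Subgroup (X ⧸ N)) ≤ Subgroup.zpowers (φ (sr i)) := by
    rw [← hrange]; rintro _ ⟨g, rfl⟩; exact hgen g
  have hdvd := Subgroup.card_dvd_of_le hle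
  rw [Subgroup.card_top, h4, Nat.card_zpowers] at hdvd
  have := hdvd.trans (orderOf_dvd_of_pow_eq_one (n := 2) (by rw [pow_two]; exact hi))
  norm_num at this

/-- Let G be a finite group whose Sylow 2-subgroups are dihedral of order 2 ^ n with n ≥ 3, and count the conjugacy classes of involutions of G. Then exactly one of the following holds: there is one class of involutions and no normal subgroup of index 2; there are two classes of involutions, a normal subgroup of index 2 and none of index 4; there are three classes of involutions and G has a normal 2-complement. -/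
theorem result {G : Type*} [Group G] [Finite G] (P : Sylow 2 G) (n : ℕ) (hn : 3 ≤ n) (hdih : Nonempty (↥(P : Subgroup G) ≃* DihedralGroup (2 ^ (n - 1)))) : (Nat.card {C : ConjClasses G // ∃ g : G, ConjClasses.mk g = C ∧ orderOf g = 2} = 1 ∧ ∀ N : Subgroup G, N.Normal → N.index ≠ 2) ∨ (Nat.card {C : ConjClasses G // ∃ g : G, ConjClasses.mk g = C ∧ orderOf g = 2} = 2 ∧ (∃ N : Subgroup G, N.Normal ∧ N.index = 2) ∧ ∀ N : Subgroup G, N.Normal → N.index ≠ 4) ∨ (Nat.card {C : ConjClasses G // ∃ g : G, ConjClasses.mk g = C ∧ orderOf g = 2} = 3 ∧ Cfsg.HasNormalPComplement 2 G) := by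
  obtain ⟨m, rfl⟩ : ∃ m, n = m + 1 := ⟨n - 1, by omega⟩
  rw [Nat.add_sub_cancel] at hdih
  obtain ⟨e⟩ := hdih
  set f : DihedralGroup (2 ^ m) →* G := (P : Subgroup G).subtype.comp e.symm.toMonoidHom with hfdef
  have hf : Function.Injective f := (P : Subgroup G).subtype_injective.comp e.symm.injective
  have hS : f.range = (P : Subgroup G) := by
    rw [hfdef, MonoidHom.range_comp, MonoidHom.range_eq_top_of_surjective _ e.symm.surjective,
      ← MonoidHom.range_eq_map, Subgroup.range_subtype]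
  have hm : 2 ≤ m := by omega
  have hm1 : 1 ≤ m := by omega
  set z := f (r (half m)) with hz
  set a := f (sr 0) with ha
  set b := f (sr 1) with hb
  have oz : orderOf z = 2 := orderOf_half hf hm1
  have oa : orderOf a = 2 := by rw [ha, orderOf_injective f hf, orderOf_sr]
  have ob : orderOf b = 2 := by rw [hb, orderOf_injective f hf, orderOf_sr]
  have hset : {C : ConjClasses G | ∃ g : G, ConjClasses.mk g = C ∧ orderOf g = 2} =
      ({ConjClasses.mk z, ConjClasses.mk a, ConjClasses.mk b} : Set (ConjClasses G)) := by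
    ext C
    simp only [Set.mem_setOf_eq, Set.mem_insert_iff, Set.mem_singleton_iff]
    constructor
    · rintro ⟨g, rfl, hg⟩
      rcases exists_conj_involution hf hS hm1 hg with h | h | h
      · exact Or.inl (ConjClasses.mk_eq_mk_iff_isConj.mpr h)
      · exact Or.inr (Or.inl (ConjClasses.mk_eq_mk_iff_isConj.mpr h))
      · exact Or.inr (Or.inr (ConjClasses.mk_eq_mk_iff_isConj.mpr h))
    · rintro (rfl | rfl | rfl)
      · exact ⟨z, rfl, oz⟩
      · exact ⟨a, rfl, oa⟩
      · exact ⟨b, rfl, ob⟩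
  have hcard : Nat.card {C : ConjClasses G // ∃ g : G, ConjClasses.mk g = C ∧ orderOf g = 2} =
      ({ConjClasses.mk z, ConjClasses.mk a, ConjClasses.mk b} : Set (ConjClasses G)).ncard := by
    rw [← hset]; exact Nat.card_coe_set_eq _
  rw [hcard]
  by_cases h0 : IsConj a z <;> by_cases h1 : IsConj b z
  · -- one class
    left
    refine ⟨?_, fun N _ => index_ne_two_of_all_conj hf hS hm1 ((all_conj_iff hf hS hm1).mpr fun i => ?_) N⟩
    · rw [ConjClasses.mk_eq_mk_iff_isConj.mpr h0, ConjClasses.mk_eq_mk_iff_isConj.mpr h1]; simp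
    · rcases isConj_map_sr f i with h | h
      · exact h.trans h0
      · exact h.trans h1
  · right; left
    refine ⟨?_, ?_, fun N hN => haveI := hN; no_index_four hS hm (Or.inl h0) N⟩
    · rw [ConjClasses.mk_eq_mk_iff_isConj.mpr h0, Set.insert_eq_of_mem (Set.mem_insert _ _),
        Set.ncard_pair]
      exact fun h => h1 (ConjClasses.mk_eq_mk_iff_isConj.mp h).symm
    · obtain ⟨H, hH⟩ := exists_index_two_of_not_conj hf hS hm h1
      exact ⟨H, Subgroup.normal_of_index_eq_two hH, hH⟩
  · right; left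
    refine ⟨?_, ?_, fun N hN => haveI := hN; no_index_four hS hm (Or.inr h1) N⟩
    · rw [ConjClasses.mk_eq_mk_iff_isConj.mpr h1, Set.pair_comm (ConjClasses.mk a),
        Set.insert_eq_of_mem (Set.mem_insert _ _), Set.ncard_pair]
      exact fun h => h0 (ConjClasses.mk_eq_mk_iff_isConj.mp h).symm
    · obtain ⟨H, hH⟩ := exists_index_two_of_not_conj hf hS hm h0
      exact ⟨H, Subgroup.normal_of_index_eq_two hH, hH⟩
  · right; right
    refine ⟨?_, complement_of_not_conj hf hS hm h0 h1⟩
    rw [Set.ncard_eq_three]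
    exact ⟨_, _, _, fun h => h0 (ConjClasses.mk_eq_mk_iff_isConj.mp h).symm,
      fun h => h1 (ConjClasses.mk_eq_mk_iff_isConj.mp h).symm,
      fun h => h0 (isConj_half_of_isConj_sr hf hS hm (ConjClasses.mk_eq_mk_iff_isConj.mp h)), rfl⟩

end Cfsg.Agent.S3864
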