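import Cfsg.Statements.S3763
import Mathlib
import Cfsg.Prelude.Def_CaseTheorems
import Cfsg.Agent.Lib.Transfer.ExtraspecialUnique
import Cfsg.Agent.Lib.PGroups.Extraspecial

set_option autoImplicit false
open Cfsg

namespace Cfsg.Agent.S3763

set_option linter.style.haveILetI false
open Subgroup CfsgLib.Transfer
open scoped commutatorElement

universe u v

/-- `z` lies in an elementary abelian subgroup of order at least `2^(n+1)`. -/
def IsPlus {E : Type*} [Group E] (z : E) (n : ℕ) : Prop :=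
  ∃ A : Subgroup E, IsMulCommutative A ∧ (∀ a ∈ A, a ^ 2 = 1) ∧ z ∈ A ∧ 2 ^ (n + 1) ≤ Nat.card A

theorem pow_two_center {E : Type*} [Group E] {z : E} (h : CentralPrime 2 E z) {w : E}
    (hw : w ∈ center E) : w ^ 2 = 1 := by
  rw [h.center_eq] at hw
  obtain ⟨k, rfl⟩ := mem_zpowers_iff.mp hw
  rw [← zpow_natCast, ← zpow_mul, mul_comm, zpow_mul, zpow_natCast, ← h.order, pow_orderOf_eq_one,
    one_zpow]

theorem exists_not_center {E : Type*} [Group E] [Finite E] {z : E} (h : CentralPrime 2 E z)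
    (A : Subgroup E) (hA : 2 < Nat.card A) : ∃ x ∈ A, x ∉ center E := by
  by_contra hc
  push Not at hc
  have h1 : Nat.card A ≤ Nat.card (center E) := Subgroup.card_le_of_le hc
  rw [h.center_eq, Nat.card_zpowers, h.order] at h1
  omega

/-- the plus type passes to the centralizer of a suitable pair -/
theorem plus_down {E : Type*} [Group E] [Finite E] {z : E} {n : ℕ} (h : CentralPrime 2 E z)
    (hP : IsPlus z (n + 1)) :
    ∃ x y : E, ∃ hxy : ⁅x, y⁆ = z, x ^ 2 = 1 ∧ y ^ 2 = 1 ∧
      IsPlus (⟨z, h.z_mem_pairCent⟩ : CentralPrime.pairCent x y) n := by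
  obtain ⟨A, hAc, hA2, hzA, hcard⟩ := hP
  have h4 : 2 < Nat.card A := lt_of_lt_of_le (by
    calc 2 = 2 ^ 1 := (pow_one 2).symm
      _ < 2 ^ (n + 1 + 1) := Nat.pow_lt_pow_right (by norm_num) (by omega)) hcard
  obtain ⟨x, hxA, hx⟩ := exists_not_center h A h4
  obtain ⟨y, hxy, hy⟩ := exists_dihedral_pair h hx (hA2 x hxA)
  refine ⟨x, y, hxy, hA2 x hxA, hy, ?_⟩
  set B := A.subgroupOf (CentralPrime.pairCent x y) with hB
  refine ⟨B, inferInstance, fun b hb => Subtype.ext (by simpa using hA2 _ hb), hzA, ?_⟩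
  let f : A →* zpowers z := MonoidHom.mk' (fun a => ⟨⁅(a : E), y⁆, h.comm _ _⟩)
    fun a b => Subtype.ext (h.comm_left _ _ _)
  have hker : f.ker.map A.subtype ≤ B.map (CentralPrime.pairCent x y).subtype := by
    rintro _ ⟨a, ha, rfl⟩
    have h1 : ⁅(a : E), y⁆ = 1 := congrArg Subtype.val (show f a = 1 from ha)
    have h2 : ⁅(a : E), x⁆ = 1 := commutatorElement_eq_one_iff_mul_comm.mpr
      (congrArg Subtype.val (hAc.is_comm.comm a ⟨x, hxA⟩))
    exact ⟨⟨(a : E), CentralPrime.mem_pairCent.mpr ⟨h2, h1⟩⟩, a.2, rfl⟩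
  have h3 := Subgroup.card_le_of_le hker
  rw [card_map_of_injective A.subtype_injective,
    card_map_of_injective (CentralPrime.pairCent x y).subtype_injective] at h3
  have h5 := f.ker.card_mul_index
  rw [Subgroup.index_ker] at h5
  have h6 : Nat.card f.range ≤ 2 := by
    calc Nat.card f.range ≤ Nat.card (zpowers z) := Subgroup.card_le_card_group _
      _ = 2 := by rw [Nat.card_zpowers, h.order]
  have h7 : Nat.card A ≤ 2 * Nat.card f.ker := by
    rw [← h5, mul_comm]
    exact Nat.mul_le_mul_right _ h6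
  rw [pow_succ'] at hcard
  omega

/-- the plus type passes up from the centralizer of a dihedral pair -/
theorem plus_up {E : Type*} [Group E] [Finite E] {z x y : E} {n : ℕ} (h : CentralPrime 2 E z)
    (hxy : ⁅x, y⁆ = z) (hx2 : x ^ 2 = 1)
    (hP : IsPlus (⟨z, h.z_mem_pairCent⟩ : CentralPrime.pairCent x y) n) : IsPlus z (n + 1) := by
  obtain ⟨B, hBc, hB2, hzB, hcard⟩ := hP
  set B' := B.map (CentralPrime.pairCent x y).subtype with hB'
  have hcomm : ∀ b ∈ B', b * x = x * b := by
    rintro _ ⟨b, -, rfl⟩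
    exact commutatorElement_eq_one_iff_mul_comm.mp (CentralPrime.mem_pairCent.mp b.2).1
  have hA : IsMulCommutative (Subgroup.closure ((B' : Set E) ∪ {x})) := by
    refine Subgroup.isMulCommutative_closure fun a ha b hb => ?_
    rcases ha with ha | rfl <;> rcases hb with hb | rfl
    · obtain ⟨a, ha', rfl⟩ := ha
      obtain ⟨b, hb', rfl⟩ := hb
      exact congrArg (fun t : B => ((t : CentralPrime.pairCent x y) : E))
        (hBc.is_comm.comm ⟨a, ha'⟩ ⟨b, hb'⟩)
    · exact hcomm a ha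
    · exact (hcomm b hb).symm
    · rfl
  set A := Subgroup.closure ((B' : Set E) ∪ {x}) with hAdef
  have hBA : B' ≤ A := fun b hb => Subgroup.subset_closure (Or.inl hb)
  have hxA : x ∈ A := Subgroup.subset_closure (Or.inr rfl)
  refine ⟨A, hA, fun a ha => ?_, hBA ⟨_, hzB, rfl⟩, ?_⟩
  · induction ha using Subgroup.closure_induction with
    | mem a ha =>
      rcases ha with ⟨b, hb, rfl⟩ | rfl
      · exact congrArg Subtype.val (hB2 b hb)
      · exact hx2
    | one => exact one_pow 2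
    | mul a b ha hb iha ihb =>
      rw [(show Commute a b from congrArg Subtype.val (hA.is_comm.comm ⟨a, ha⟩ ⟨b, hb⟩)).mul_pow,
        iha, ihb, one_mul]
    | inv a _ iha => rw [inv_pow, iha, inv_one]
  have hlt : B' < A := by
    refine lt_of_le_of_ne hBA fun e => ?_
    obtain ⟨b, -, hb⟩ : x ∈ B' := e ▸ hxA
    have h1 : ⁅x, y⁆ = 1 := hb ▸ (CentralPrime.mem_pairCent.mp b.2).2
    rw [hxy] at h1
    have := h.order
    rw [h1, orderOf_one] at this
    omega
  have h2 : 2 * Nat.card B' ≤ Nat.card A := by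
    have hi := Subgroup.card_mul_index (B'.subgroupOf A)
    rw [Nat.card_congr (Subgroup.subgroupOfEquivOfLe hBA).toEquiv] at hi
    have h1 : (B'.subgroupOf A).index ≠ 1 := by
      rw [Ne, Subgroup.index_eq_one, Subgroup.subgroupOf_eq_top]
      exact not_le_of_gt hlt
    have h0 : (B'.subgroupOf A).index ≠ 0 := Subgroup.index_ne_zero_of_finite
    calc 2 * Nat.card B' = Nat.card B' * 2 := mul_comm _ _
      _ ≤ Nat.card B' * (B'.subgroupOf A).index := Nat.mul_le_mul_left _ (by omega)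
      _ = Nat.card A := hi
  rw [card_map_of_injective (CentralPrime.pairCent x y).subtype_injective] at h2
  rw [pow_succ']
  omega

theorem card_pairCent {E : Type*} [Group E] [Finite E] {z x y : E} {n : ℕ} (h : CentralPrime 2 E z)
    (hxy : ⁅x, y⁆ = z) (hE : Nat.card E = 2 ^ (2 * (n + 1) + 1)) :
    Nat.card (CentralPrime.pairCent x y) = 2 ^ (2 * n + 1) := by
  haveI : Fact (Nat.Prime 2) := ⟨Nat.prime_two⟩
  have := h.card_pair hxy
  rw [hE, show 2 * (n + 1) + 1 = 2 + (2 * n + 1) by ring, pow_add] at this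
  omega

/-- order eight, quaternion type -/
theorem exists_pair_quaternion {F : Type*} [Group F] [Finite F] {w : F} (hw : CentralPrime 2 F w)
    (hF : Nat.card F = 2 ^ 3) (hn' : ¬ IsPlus w 1) :
    ∃ x y : F, ⁅x, y⁆ = w ∧ x ^ 2 = w ∧ y ^ 2 = w := by
  haveI : Fact (Nat.Prime 2) := ⟨Nat.prime_two⟩
  obtain ⟨x, y, hxy, hs | hs⟩ := exists_pair_eight hw (by rw [hF]; norm_num)
  · refine absurd (plus_up hw hxy hs.1 ⟨zpowers (⟨w, hw.z_mem_pairCent⟩ : CentralPrime.pairCent x y),
      inferInstance, ?_, mem_zpowers _, ?_⟩) hn'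
    · intro b hb
      obtain ⟨k, rfl⟩ := mem_zpowers_iff.mp hb
      apply Subtype.ext
      simp only [SubgroupClass.coe_pow, SubgroupClass.coe_zpow, OneMemClass.coe_one]
      exact pow_two_center hw (zpow_mem hw.z_mem k)
    · rw [Nat.card_zpowers, ← Subgroup.orderOf_coe, hw.order]; norm_num
  · exact ⟨x, y, hxy, hs⟩

/-- order and type determine the group -/
theorem unique_of_plus : ∀ (n : ℕ) (E : Type u) (E' : Type v) [Group E] [Group E'] [Finite E]
    [Finite E'] (z : E) (z' : E'), CentralPrime 2 E z → CentralPrime 2 E' z' →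
    Nat.card E = 2 ^ (2 * n + 1) → Nat.card E' = 2 ^ (2 * n + 1) →
    (IsPlus z n ↔ IsPlus z' n) → ∃ φ : E ≃* E', φ z = z' := by
  haveI : Fact (Nat.Prime 2) := ⟨Nat.prime_two⟩
  intro n
  induction n with
  | zero =>
    intro E E' _ _ _ _ z z' h h' hE hE' _
    exact center_cyclic_case h h' (by simpa using hE) (hE.trans hE'.symm)
  | succ n ih =>
    intro E E' _ _ _ _ z z' h h' hE hE' hiff
    by_cases hP : IsPlus z (n + 1)
    · obtain ⟨x, y, hxy, hx, hy, hPd⟩ := plus_down h hP
      obtain ⟨x', y', hxy', hx', hy', hPd'⟩ := plus_down h' (hiff.mp hP)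
      obtain ⟨ψ, hψ⟩ := ih _ _ _ _ (h.pair hxy) (h'.pair hxy') (card_pairCent h hxy hE)
        (card_pairCent h' hxy' hE') (iff_of_true hPd hPd')
      exact glue_two h h' hxy hxy' ψ hψ (Or.inl ⟨⟨hx, hy⟩, hx', hy'⟩)
    have hP' : ¬ IsPlus z' (n + 1) := fun hh => hP (hiff.mpr hh)
    rcases Nat.eq_zero_or_pos n with rfl | hn
    · -- order eight, quaternion type
      obtain ⟨x, y, hxy, hs⟩ := exists_pair_quaternion h hE hP
      obtain ⟨x', y', hxy', hs'⟩ := exists_pair_quaternion h' hE' hP'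
      have c1 := card_pairCent h hxy hE
      have c2 := card_pairCent h' hxy' hE'
      obtain ⟨ψ, hψ⟩ := center_cyclic_case (h.pair hxy) (h'.pair hxy') (by simpa using c1)
        (c1.trans c2.symm)
      exact glue_two h h' hxy hxy' ψ hψ (Or.inr ⟨hs, hs'⟩)
    · have hbig : 2 ^ 5 ≤ 2 ^ (2 * (n + 1) + 1) := Nat.pow_le_pow_right (by norm_num) (by omega)
      obtain ⟨x, hx1, hx2⟩ := exists_involution h (by omega) (by omega)
      obtain ⟨x', hx1', hx2'⟩ := exists_involution h' (by omega) (by omega)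
      obtain ⟨y, hxy, hy⟩ := exists_dihedral_pair h hx1 hx2
      obtain ⟨y', hxy', hy'⟩ := exists_dihedral_pair h' hx1' hx2'
      obtain ⟨ψ, hψ⟩ := ih _ _ _ _ (h.pair hxy) (h'.pair hxy') (card_pairCent h hxy hE)
        (card_pairCent h' hxy' hE')
        (iff_of_false (fun hh => hP (plus_up h hxy hx2 hh)) (fun hh => hP' (plus_up h' hxy' hx2' hh)))
      exact glue_two h h' hxy hxy' ψ hψ (Or.inl ⟨⟨hx2, hy⟩, hx2', hy'⟩)

theorem isPlus_iff {E : Type*} [Group E] [Finite E] {z : E} {n : ℕ} (hG : IsPGroup 2 E)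
    (h : CentralPrime 2 E z) : IsPlus z n ↔ ¬ Cfsg.PRankLE 2 n E := by
  constructor
  · rintro ⟨A, hAc, hA2, -, hc⟩ hr
    have := hc.trans (hr A hAc hA2)
    have := Nat.pow_lt_pow_right (a := 2) (by norm_num) (show n < n + 1 by omega)
    omega
  · intro hr
    unfold Cfsg.PRankLE at hr
    push Not at hr
    obtain ⟨A, hAc, hA2, hlt⟩ := hr
    have hc : IsMulCommutative (A ⊔ zpowers z : Subgroup E) := by
      rw [← Subgroup.closure_eq A, Subgroup.zpowers_eq_closure, ← Subgroup.closure_union]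
      refine Subgroup.isMulCommutative_closure fun a ha b hb => ?_
      rcases ha with ha | rfl <;> rcases hb with hb | rfl
      · exact congrArg Subtype.val (hAc.is_comm.comm (⟨a, ha⟩ : A) ⟨b, hb⟩)
      · exact mem_center_iff.mp h.z_mem a
      · exact (mem_center_iff.mp h.z_mem b).symm
      · rfl
    refine ⟨A ⊔ zpowers z, hc, fun a ha => ?_, mem_sup_right (mem_zpowers z), ?_⟩
    · haveI : (zpowers z).Normal := h.center_eq ▸ inferInstance
      obtain ⟨b, hb, w, hw, rfl⟩ := mem_sup_of_normal_right.mp ha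
      have hwc : w ∈ center E := h.center_eq ▸ hw
      rw [(show Commute b w from mem_center_iff.mp hwc b).mul_pow, hA2 b hb, pow_two_center h hwc,
        one_mul]
    · obtain ⟨k, hk⟩ := IsPGroup.iff_card.mp (hG.to_subgroup A)
      rw [hk] at hlt
      have hk1 : n + 1 ≤ k := (Nat.pow_lt_pow_iff_right (by norm_num)).mp hlt
      exact (Nat.pow_le_pow_right (by norm_num) hk1).trans (hk ▸ Subgroup.card_le_of_le le_sup_left)

/-- Let E be an extraspecial 2-group of order 2^(2n+1). Then the largest elementary abelian subgroups of E have order 2^n or 2^(n+1); and two extraspecial 2-groups of the same order whose largest elementary abelian subgroups have the same order are isomorphic. -/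
theorem result {E : Type*} [Group E] [Finite E] (hE : Cfsg.IsExtraspecial 2 E) (n : ℕ) (hn : Nat.card E = 2 ^ (2 * n + 1)) : ((Cfsg.PRankLE 2 n E ∧ ¬ Cfsg.PRankLE 2 (n - 1) E) ∨ (Cfsg.PRankLE 2 (n + 1) E ∧ ¬ Cfsg.PRankLE 2 n E)) ∧ ∀ (E' : Type*) [Group E'] [Finite E'], Cfsg.IsExtraspecial 2 E' → Nat.card E' = Nat.card E → (∀ k : ℕ, Cfsg.PRankLE 2 k E ↔ Cfsg.PRankLE 2 k E') → Nonempty (E ≃* E') := by
  haveI : Fact (Nat.Prime 2) := ⟨Nat.prime_two⟩
  obtain ⟨z, hz⟩ := exists_centralPrime hE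
  have hG : IsPGroup 2 E := CfsgLib.PGroups.IsExtraspecial.isPGroup hE
  obtain ⟨m, hm1, hm, hbound, A, hAc, hZA, hA⟩ := CfsgLib.PGroups.IsExtraspecial.exists_card hE
  obtain rfl : m = n := by
    have := Nat.pow_right_injective le_rfl (hm.symm.trans hn)
    omega
  constructor
  · have hle1 : Cfsg.PRankLE 2 (m + 1) E := fun B hB _ => hbound B hB
    haveI := hAc
    let f : ↥A →* E := MonoidHom.mk' (fun a => (a : E) ^ 2) fun a b => by
      show ((a : E) * b) ^ 2 = (a : E) ^ 2 * (b : E) ^ 2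
      exact (show Commute (a : E) b from congrArg Subtype.val (hAc.is_comm.comm a b)).mul_pow 2
    have hlow : ¬ Cfsg.PRankLE 2 (m - 1) E := by
      intro hr
      have h1 := hr (f.ker.map A.subtype) inferInstance (by
        rintro _ ⟨a, ha, rfl⟩
        exact ha)
      rw [card_map_of_injective A.subtype_injective] at h1
      have h5 := f.ker.card_mul_index
      rw [Subgroup.index_ker, hA] at h5
      have h6 : Nat.card f.range ≤ 2 := by
        calc Nat.card f.range ≤ Nat.card (center E) := Subgroup.card_le_of_le (by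
              rintro _ ⟨a, rfl⟩
              exact CfsgLib.PGroups.IsExtraspecial.pow_mem_center hE _)
          _ = 2 := hE.2
      have h7 := Nat.mul_le_mul h1 h6
      rw [h5, ← pow_succ, Nat.sub_add_cancel hm1] at h7
      have := Nat.pow_lt_pow_right (a := 2) (by norm_num) (show m < m + 1 by omega)
      omega
    by_cases hr : Cfsg.PRankLE 2 m E
    · exact Or.inl ⟨hr, hlow⟩
    · exact Or.inr ⟨hle1, hr⟩
  · intro E' _ _ hE' hc hk
    obtain ⟨z', hz'⟩ := exists_centralPrime hE'
    have hG' : IsPGroup 2 E' := CfsgLib.PGroups.IsExtraspecial.isPGroup hE'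
    obtain ⟨φ, -⟩ := unique_of_plus m E E' z z' hz hz' hn (hc.trans hn)
      (by rw [isPlus_iff hG hz, isPlus_iff hG' hz', hk m])
    exact ⟨φ⟩

end Cfsg.Agent.S3763
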