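import Cfsg.Statements.S1691

set_option autoImplicit false
open Cfsg

namespace Cfsg.Agent.S1691

/-- The commutator subgroup of the presented group Fi₂₄ has index 2 (the presented group is Fi₂₄′:2 with Fi₂₄′ its derived subgroup). -/
theorem result : (commutator Cfsg.Spor.Fi24).index = 2 := by
  classical
  let φ : Cfsg.Spor.Fi24 →* Multiplicative (ZMod 2) :=
    PresentedGroup.toGroup (f := fun _ => Multiplicative.ofAdd (1 : ZMod 2)) (by
      intro r hr
      rcases hr with ⟨x, -, y, -, rfl⟩ | hr
      · rw [map_pow, map_mul, FreeGroup.lift_apply_of, FreeGroup.lift_apply_of]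
        rw [show Multiplicative.ofAdd (1 : ZMod 2) * Multiplicative.ofAdd (1 : ZMod 2) = 1 by decide, one_pow]
      · simp only [Set.mem_setOf_eq, Cfsg.Spor.Fi24.extra, List.mem_cons, List.not_mem_nil, or_false] at hr
        rcases hr with rfl | rfl <;>
          simp only [map_mul, map_pow, map_inv, FreeGroup.lift_apply_of] <;> decide)
  have hsurj : Function.Surjective φ := by
    intro z
    rcases (show z = 1 ∨ z = Multiplicative.ofAdd 1 by revert z; decide) with rfl | rfl
    · exact ⟨1, map_one _⟩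
    · exact ⟨PresentedGroup.of Cfsg.Spor.Fi24.Gen.a, by simp [φ]⟩
  have hle : commutator Cfsg.Spor.Fi24 ≤ φ.ker := Abelianization.commutator_subset_ker φ
  let ψ : Cfsg.Spor.Fi24 →* Abelianization Cfsg.Spor.Fi24 := Abelianization.of
  let s := ψ (PresentedGroup.of Cfsg.Spor.Fi24.Gen.d)
  have hrel : ∀ x ∈ Cfsg.Spor.coxNodes Cfsg.Spor.Fi24.edges, ∀ y ∈ Cfsg.Spor.coxNodes Cfsg.Spor.Fi24.edges,
      (ψ (PresentedGroup.of x) * ψ (PresentedGroup.of y)) ^ Cfsg.Spor.coxLabel Cfsg.Spor.Fi24.edges x y = 1 := by
    intro x hx y hy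
    rw [← map_mul, ← map_pow]
    have : ((PresentedGroup.of x * PresentedGroup.of y) ^ Cfsg.Spor.coxLabel Cfsg.Spor.Fi24.edges x y : Cfsg.Spor.Fi24) = 1 := by
      have h := PresentedGroup.one_of_mem (rels := Cfsg.Spor.coxRelators Cfsg.Spor.Fi24.edges ∪ {r | r ∈ Cfsg.Spor.Fi24.extra})
        (show (FreeGroup.of x * FreeGroup.of y) ^ Cfsg.Spor.coxLabel Cfsg.Spor.Fi24.edges x y ∈ _ from
          Or.inl ⟨x, hx, y, hy, rfl⟩)
      rw [map_pow, map_mul] at h
      exact h
    rw [this, map_one]
  have hnode : ∀ x : Cfsg.Spor.Fi24.Gen, x ∈ Cfsg.Spor.coxNodes Cfsg.Spor.Fi24.edges := by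
    intro x; cases x <;> decide
  have hsq : ∀ x, ψ (PresentedGroup.of x) ^ 2 = 1 := fun x => by
    have := hrel x (hnode x) x (hnode x)
    simpa [Cfsg.Spor.coxLabel, pow_two] using this
  have hedge : ∀ x y, Cfsg.Spor.coxLabel Cfsg.Spor.Fi24.edges x y = 3 →
      ψ (PresentedGroup.of x) = ψ (PresentedGroup.of y) := by
    intro x y h3
    have h := hrel x (hnode x) y (hnode y)
    rw [h3, mul_pow, pow_succ' _ 2, pow_succ' _ 2, hsq, hsq, mul_one, mul_one] at h
    have := hsq y
    rw [pow_two] at this
    exact mul_right_cancel (h.trans this.symm)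
  have hall : ∀ x, ψ (PresentedGroup.of x) = s := by
    have hd : ∀ x, x = Cfsg.Spor.Fi24.Gen.d → ψ (PresentedGroup.of x) = s := fun x hx => by rw [hx]
    have e1 := hedge .c .d (by decide)
    have e2 := hedge .b .c (by decide)
    have e3 := hedge .a .b (by decide)
    have e4 := hedge .k .a (by decide)
    have e5 := hedge .l .k (by decide)
    have e6 := hedge .e .d (by decide)
    have e7 := hedge .f .e (by decide)
    have e8 := hedge .g .f (by decide)
    have e9 := hedge .j .g (by decide)
    have e10 := hedge .h .d (by decide)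
    have e11 := hedge .i .h (by decide)
    intro x
    cases x
    · exact e5.trans (e4.trans (e3.trans (e2.trans e1)))
    · exact e4.trans (e3.trans (e2.trans e1))
    · exact e3.trans (e2.trans e1)
    · exact e2.trans e1
    · exact e1
    · rfl
    · exact e6
    · exact e7.trans e6
    · exact e8.trans (e7.trans e6)
    · exact e9.trans (e8.trans (e7.trans e6))
    · exact e10
    · exact e11.trans e10
  let ν : Multiplicative (ZMod 2) → Abelianization Cfsg.Spor.Fi24 := fun z => if z = 1 then 1 else s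
  let ν' : Multiplicative (ZMod 2) →* Abelianization Cfsg.Spor.Fi24 := MonoidHom.mk' ν (by
    intro a b
    have hs : s * s = 1 := by rw [← pow_two]; exact hsq _
    rcases (show a = 1 ∨ a = Multiplicative.ofAdd 1 by revert a; decide) with rfl | rfl <;>
    rcases (show b = 1 ∨ b = Multiplicative.ofAdd 1 by revert b; decide) with rfl | rfl <;>
    simp [ν, hs, show Multiplicative.ofAdd (1 : ZMod 2) * Multiplicative.ofAdd (1 : ZMod 2) = 1 by decide,
      show Multiplicative.ofAdd (1 : ZMod 2) ≠ 1 by decide])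
  have hcomp : ν'.comp φ = ψ := by
    apply PresentedGroup.ext
    intro x
    rw [hall x]
    simp [φ, ν', ν, show Multiplicative.ofAdd (1 : ZMod 2) ≠ 1 by decide]
  have hker : φ.ker ≤ commutator Cfsg.Spor.Fi24 := by
    intro u hu
    have : ψ u = 1 := by rw [← hcomp, MonoidHom.comp_apply, MonoidHom.mem_ker.mp hu, map_one]
    exact (QuotientGroup.eq_one_iff u).mp this
  rw [le_antisymm hle hker, Subgroup.index_ker, MonoidHom.range_eq_top.mpr hsurj]
  simp

end Cfsg.Agent.S1691
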