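import Cfsg.Statements.S0815
import Cfsg.Agent.Lib.Known.AutPSU.Out

set_option autoImplicit false
open Cfsg

namespace Cfsg.Agent.S0815

/-- |Aut(PSU_n(q))| = gcd(n, q+1) · 2f · |PSU_n(q)| for q = p^f, n ≥ 3, (n, q) ≠ (3, 2); the form is realised over F with |F| = q². -/
theorem result {F : Type*} [Field F] [Fintype F] (p f : ℕ) [Fact p.Prime] (hf : 1 ≤ f) {q : ℕ} (hq : q = p ^ f) (hF : Fintype.card F = q ^ 2) (n : ℕ) (hn : 3 ≤ n) (h32 : ¬ (n = 3 ∧ q = 2)) : Nat.card (MulAut (Cfsg.PSU n F q)) = Nat.gcd n (q + 1) * (2 * f) * Nat.card (Cfsg.PSU n F q) := by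
  have hex : n = 3 → q ≠ 2 := fun h3 h2 => h32 ⟨h3, h2⟩
  obtain ⟨φ, hφ, -, hker⟩ := CfsgLib.Known.AutPSU.exists_out hF hn hex hf hq
  have hinj : Function.Injective (MulAut.conj : Cfsg.PSU n F q →* MulAut (Cfsg.PSU n F q)) := by
    rw [injective_iff_map_eq_one]
    intro x hx
    obtain ⟨t, rfl⟩ := QuotientGroup.mk_surjective x
    rw [CfsgLib.Known.AutPSU.conj_mk_eq_uInn hF, CfsgLib.Known.AutPSU.uInn_apply,
      CfsgLib.Known.AutPSU.uSemi_eq_one_iff hF hn hex] at hx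
    obtain ⟨c, hc⟩ := (CfsgLib.Known.AutPSU.pr_eq_one_iff _).1 hx.2
    refine (QuotientGroup.eq_one_iff _).2 (Subgroup.mem_center_iff.2 fun s => Subtype.ext (Subtype.ext ?_))
    change ((t : Matrix.SpecialLinearGroup (Fin n) F) : Matrix (Fin n) (Fin n) F) = (c : F) • 1 at hc
    show _ * _ = _ * _
    rw [hc, Matrix.mul_smul, Matrix.smul_mul, mul_one, one_mul]
  have h1 : Nat.card (Cfsg.Out (Cfsg.PSU n F q)) = Nat.gcd n (q + 1) * (2 * f) := by
    rw [Subgroup.card_eq_card_quotient_mul_card_subgroup φ.ker,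
      Nat.card_congr (QuotientGroup.quotientKerEquivOfSurjective φ hφ).toEquiv, hker,
      Nat.card_congr Multiplicative.toAdd, Nat.card_zmod, mul_comm]
  rw [Subgroup.card_eq_card_quotient_mul_card_subgroup (Cfsg.Inn (Cfsg.PSU n F q))]
  refine congrArg₂ (· * ·) h1 ?_
  exact Nat.card_congr (MonoidHom.ofInjective hinj).symm.toEquiv

end Cfsg.Agent.S0815
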