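import Cfsg.Statements.S2947
import Cfsg.Agent.Lib.LocalEvenB.ThompsonOf
import Cfsg.Agent.Lib.LocalEvenB.SylowControl
import Cfsg.Agent.Lib.Core.Cores
import Cfsg.Agent.Lib.Transfer.Conj

set_option autoImplicit false
open Cfsg

namespace Cfsg.Agent.S2947

/-- Let G be a finite group of characteristic 2 type in which every 2-local subgroup is solvable and the centralizer of Ω₁(Z(S)) lies in N_G(S) for every Sylow 2-subgroup S; suppose O₂(G) = 1, fix a Sylow 2-subgroup S and a 2-local subgroup M containing N_G(J(S)) (J the Thompson subgroup generated by the elementary abelian 2-subgroups of largest order). Then M is strongly embedded in G (a proper subgroup of even order whose intersection with each conjugate by an element outside M has odd order) if and only if no nontrivial 2-subgroup of M lies in a 2-local subgroup of G not contained in M. -/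
theorem result {G : Type*} [Group G] [Finite G] (hL : Cfsg.IsCharacteristicTwoType G) (hN : ∀ N : Subgroup G, Cfsg.IsTwoLocal N → Group.IsSolvable ↥N)
    (hZ : ∀ S : Sylow 2 G, Subgroup.centralizer (Cfsg.omegaCenterOf (S : Subgroup G) : Set G) ≤ Subgroup.normalizer ((S : Subgroup G) : Set G)) (hO : Cfsg.pCore 2 G = ⊥) (S : Sylow 2 G) (M : Subgroup G) (hM : Cfsg.IsTwoLocal M)
    (hMJ : Subgroup.normalizer (Cfsg.thompsonSubgroupOf 2 (S : Subgroup G) : Set G) ≤ M) :
    Cfsg.IsStronglyEmbedded M ↔ Cfsg.straddlingTwoSubgroups M = ∅ := by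
  haveI : Fact (Nat.Prime 2) := ⟨Nat.prime_two⟩
  obtain ⟨U, hU, hU1, hMU⟩ := hM
  have hMtop : M ≠ ⊤ := by
    intro h
    haveI : U.Normal := Subgroup.normalizer_eq_top_iff.1 (hMU ▸ h)
    exact hU1 (le_bot_iff.1 (hO ▸ CfsgLib.Core.le_pCore hU))
  have hSne : (S : Subgroup G) ≠ ⊥ := S.ne_bot_of_dvd_card hL.1.two_dvd
  have hSM : (S : Subgroup G) ≤ M :=
    le_trans (le_trans Subgroup.le_normalizer (CfsgLib.LocalEvenB.normalizer_le_normalizer_thompsonSubgroupOf _)) hMJ
  constructor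
  · rintro ⟨-, -, hse⟩
    refine Set.eq_empty_iff_forall_notMem.2 ?_
    rintro T ⟨hT, hT1, hTM, L, ⟨R, hR, hR1, hLR⟩, hTL, hLM⟩
    subst hLR
    have hodd : ∀ g : G, g ∉ M → ¬ 2 ∣ Nat.card ↥(M ⊓ M.map (MulAut.conj g).toMonoidHom) := fun g hg h =>
      (Nat.not_even_iff_odd.2 (hse g hg)) ((even_iff_two_dvd).2 h)
    have key : ∀ A : Subgroup G, IsPGroup 2 A → A ≠ ⊥ → A ≤ M → Subgroup.normalizer (A : Set G) ≤ M := by
      intro A hA hA1 hAM g hg
      by_contra hgM
      obtain ⟨z, hz, hz1⟩ := (Subgroup.bot_or_exists_ne_one _).resolve_left hA1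
      refine hodd g hgM (CfsgLib.LocalEvenB.prime_dvd_card_of_mem hA hz ?_ hz1)
      refine Subgroup.mem_inf.2 ⟨hAM hz, CfsgLib.LocalEvenB.mem_map_conj.2 (hAM ?_)⟩
      simpa using (Subgroup.mem_normalizer_iff.1 (Subgroup.inv_mem _ hg) z).1 hz
    have hP : IsPGroup 2 ↥(R ⊔ T) := IsPGroup.to_sup_of_normal_left' hR hT hTL
    have hPM : R ⊔ T ≤ M := by
      by_contra hle
      have hlt : (R ⊔ T) ⊓ M < R ⊔ T := lt_of_le_of_ne inf_le_left fun h => hle (inf_eq_left.1 h)
      have h1 := CfsgLib.Transfer.lt_inf_normalizer hP hlt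
      have h2 := key ((R ⊔ T) ⊓ M) (hP.to_le inf_le_left)
        (fun h => hT1 (le_bot_iff.1 ((le_inf le_sup_right hTM).trans h.le))) inf_le_right
      exact h1.not_ge (le_inf inf_le_left (inf_le_right.trans h2))
    exact hLM (key R hR hR1 (le_sup_left.trans hPM))
  · intro hempty
    refine ⟨hMtop, ?_, ?_⟩
    · rw [even_iff_two_dvd]
      obtain ⟨z, hz, hz1⟩ := (Subgroup.bot_or_exists_ne_one _).resolve_left hSne
      exact CfsgLib.LocalEvenB.prime_dvd_card_of_mem S.isPGroup' hz (hSM hz) hz1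
    · intro g hg
      rw [← Nat.not_even_iff_odd, even_iff_two_dvd]
      intro h2
      have key : ∀ A : Subgroup G, IsPGroup 2 A → A ≠ ⊥ → A ≤ M → Subgroup.normalizer (A : Set G) ≤ M := by
        intro A hA hA1 hAM
        by_contra hle
        exact Set.eq_empty_iff_forall_notMem.1 hempty A
          ⟨hA, hA1, hAM, _, ⟨A, hA, hA1, rfl⟩, Subgroup.le_normalizer, hle⟩
      obtain ⟨⟨x, hx⟩, hxo⟩ := exists_prime_orderOf_dvd_card' 2 h2
      rw [Subgroup.orderOf_mk] at hxo
      obtain ⟨hxM, hxg⟩ := Subgroup.mem_inf.1 hx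
      rw [CfsgLib.LocalEvenB.mem_map_conj] at hxg
      have hz : ∀ y : G, orderOf y = 2 → IsPGroup 2 (Subgroup.zpowers y) ∧ Subgroup.zpowers y ≠ ⊥ := fun y hy =>
        ⟨IsPGroup.of_card (n := 1) (by rw [Nat.card_zpowers, hy, pow_one]),
          by simp [Subgroup.zpowers_eq_bot, ← orderOf_eq_one_iff, hy]⟩
      have hyo : orderOf (g⁻¹ * x * g) = 2 := by
        rw [show g⁻¹ * x * g = MulAut.conj g⁻¹ x by simp, MulEquiv.orderOf_eq, hxo]
      obtain ⟨T₁, hxT, hT₁, hT₁p, hT₁i⟩ := CfsgLib.Transfer.exists_sylow_of_le (Subgroup.zpowers_le.2 hxM) (hz x hxo).1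
      obtain ⟨m, hm, hmT⟩ := CfsgLib.Transfer.exists_conj_le hT₁p hT₁i (Subgroup.zpowers_le.2 hxg) (hz _ hyo).1
      have hyT := hmT _ (Subgroup.mem_zpowers _)
      obtain ⟨P, hP⟩ := hT₁p.exists_le_sylow
      have hPM : (P : Subgroup G) ≤ M := by
        by_contra hle
        have hlt : (P : Subgroup G) ⊓ M < P := lt_of_le_of_ne inf_le_left fun h => hle (inf_eq_left.1 h)
        have h1 := CfsgLib.Transfer.lt_inf_normalizer P.isPGroup' hlt
        have h3 : (P : Subgroup G) ⊓ M ≠ ⊥ := fun h => (hz x hxo).2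
          (le_bot_iff.1 ((hxT.trans (le_inf hP hT₁)).trans h.le))
        exact h1.not_ge (le_inf inf_le_left (inf_le_right.trans
          (key _ (P.isPGroup'.to_le inf_le_left) h3 inf_le_right)))
      have hgP : ∀ t ∈ (P : Subgroup G), (g * m) * t * (g * m)⁻¹ ∈ M := by
        let Q : Subgroup G := (P : Subgroup G).map (MulAut.conj (g * m)).toMonoidHom
        have hxQ : x ∈ Q := CfsgLib.LocalEvenB.mem_map_conj.2 (hP (by simpa [mul_assoc] using hyT))
        have hQp : IsPGroup 2 Q := P.isPGroup'.map _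
        have hQM : Q ≤ M := by
          by_contra hle
          have hlt : Q ⊓ M < Q := lt_of_le_of_ne inf_le_left fun h => hle (inf_eq_left.1 h)
          have h1 := CfsgLib.Transfer.lt_inf_normalizer hQp hlt
          have h3 : Q ⊓ M ≠ ⊥ := fun h => (hz x hxo).2
            (le_bot_iff.1 ((Subgroup.zpowers_le.2 (Subgroup.mem_inf.2 ⟨hxQ, hxM⟩)).trans h.le))
          exact h1.not_ge (le_inf inf_le_left (inf_le_right.trans (key _ (hQp.to_le inf_le_left) h3 inf_le_right)))
        exact fun t ht => hQM ⟨t, ht, rfl⟩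
      have hPi : ¬ 2 ∣ (P : Subgroup G).relIndex M := fun h =>
        P.not_dvd_index (h.trans (Subgroup.relIndex_dvd_index_of_le hPM))
      have hconjle : (P : Subgroup G).map (MulAut.conj (g * m)).toMonoidHom ≤ M := by
        rintro _ ⟨t, ht, rfl⟩; exact hgP t ht
      obtain ⟨k, hk, hkP⟩ := CfsgLib.Transfer.exists_conj_le P.isPGroup' hPi hconjle (P.isPGroup'.map _)
      have hN : k⁻¹ * (g * m) ∈ Subgroup.normalizer ((P : Subgroup G) : Set G) :=
        CfsgLib.LocalEvenB.mem_normalizer_of_forall fun t ht => by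
          simpa [mul_assoc] using hkP _ ⟨t, ht, rfl⟩
      have hPne : (P : Subgroup G) ≠ ⊥ := P.ne_bot_of_dvd_card hL.1.two_dvd
      have h5 := key _ P.isPGroup' hPne hPM hN
      apply hg
      have := M.mul_mem (M.mul_mem hk h5) (M.inv_mem hm)
      simpa [mul_assoc] using this

end Cfsg.Agent.S2947
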