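import Cfsg.Statements.S0322
import Cfsg.Agent.Lib.Lie.BNPair

set_option autoImplicit false
open Cfsg

namespace Cfsg.Agent.S0322

/-- A group with a (B,N)-pair of rank one acts doubly transitively on the left cosets of `B`. -/
theorem result {G : Type*} [Group G] (P : Cfsg.BNPair G) (h : P.rank = 1) : MulAction.IsMultiplyPretransitive G (G ⧸ P.B) 2 := by
  open CfsgLib.Lie.BN in
  obtain ⟨hsub, hne'⟩ := Nat.card_eq_one_iff_unique.1 (show Nat.card P.S = 1 from h)
  obtain ⟨s⟩ := hne'
  have hall : ∀ g : G, g ∉ P.B → ∃ b ∈ P.B, ∃ b' ∈ P.B, g = b * (s : G) * b' := by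
    intro g hg
    obtain ⟨w, hw⟩ := bruhat P g
    obtain ⟨l, hl, hll⟩ := (wgen_genInv P).exists_reduced w
    match l with
    | [] => exact absurd ((mem_cell_one P).1 (by simpa [← hl] using hw)) hg
    | [a] =>
      rw [← hl, CfsgLib.Lie.Exchange.wprod_cons, CfsgLib.Lie.Exchange.wprod_nil, mul_one,
        Subsingleton.elim a s] at hw
      exact cell_rep P hw (sgen P s) rfl
    | a :: b :: r =>
      exfalso
      have h1 := CfsgLib.Lie.Exchange.wlen_le (wgen P) r
      rw [← hl] at hll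
      simp only [CfsgLib.Lie.Exchange.wprod_cons, Subsingleton.elim a s, Subsingleton.elim b s,
        (wgen_genInv P).cancel, List.length_cons] at hll
      omega
  rw [MulAction.is_two_pretransitive_iff]
  intro a b c d hab hcd
  induction a using QuotientGroup.induction_on with | _ a => ?_
  induction b using QuotientGroup.induction_on with | _ b => ?_
  induction c using QuotientGroup.induction_on with | _ c => ?_
  induction d using QuotientGroup.induction_on with | _ d => ?_
  rw [Ne, QuotientGroup.eq] at hab hcd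
  obtain ⟨b₁, h₁, b₁', h₁', e₁⟩ := hall _ hab
  obtain ⟨b₂, h₂, b₂', h₂', e₂⟩ := hall _ hcd
  refine ⟨c * b₂ * b₁⁻¹ * a⁻¹, ?_, ?_⟩
  · rw [MulAction.Quotient.smul_mk, QuotientGroup.eq, smul_eq_mul]
    have : (c * b₂ * b₁⁻¹ * a⁻¹ * a)⁻¹ * c = b₁ * b₂⁻¹ := by group
    rw [this]; exact mul_mem h₁ (inv_mem h₂)
  · rw [MulAction.Quotient.smul_mk, QuotientGroup.eq, smul_eq_mul]
    have eb : b = a * (b₁ * (s : G) * b₁') := by rw [← e₁]; group
    have ed : d = c * (b₂ * (s : G) * b₂') := by rw [← e₂]; group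
    have : (c * b₂ * b₁⁻¹ * a⁻¹ * b)⁻¹ * d = b₁'⁻¹ * b₂' := by rw [eb, ed]; group
    rw [this]; exact mul_mem (inv_mem h₁') h₂' 

end Cfsg.Agent.S0322
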