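import Cfsg.Statements.S1971
import Cfsg.Agent.Lib.Techniques.IndexP

set_option autoImplicit false
universe u
open Cfsg

namespace Cfsg.Agent.S1971

/-- Let p be a prime, G a finite group with nontrivial Sylow p-subgroup S, and W an isomorphism-invariant p-group functor (W assigns to every group Q a subgroup W(Q), nontrivial whenever Q is a nontrivial finite p-group, and every isomorphism from a finite p-group Q onto a group R carries W(Q) onto W(R)) that controls transfer in every section of G. If N_G(S)/C_G(S) is a p-group (every element of N_G(S) of order prime to p centralizes S), then G has a normal subgroup of index p. -/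
theorem result {G : Type u} [Group G] [Finite G] {p : ℕ} [Fact p.Prime] (W : ∀ (Q : Type u) [Group Q], Subgroup Q) (hW : Cfsg.IsCharPFunctor.{u} p W) (hctl : ∀ (K R : Subgroup G) [hR : (R.subgroupOf K).Normal], Cfsg.ControlsTransferIn p (Cfsg.inducedFunctor (G := (↥K ⧸ R.subgroupOf K)) W) ⊤) (S : Sylow p G) (hS : (S : Subgroup G) ≠ ⊥) (hN : ∀ g ∈ Subgroup.normalizer (((S : Subgroup G) : Subgroup G) : Set G), (orderOf g).Coprime p → g ∈ Subgroup.centralizer ((S : Subgroup G) : Set G)) : ∃ N : Subgroup G, N.Normal ∧ N.index = p := by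
  suffices key : ∀ (H : Type u) [Group H] [Finite H], CfsgLib.Techniques.IsSec G H →
      ∀ T : Sylow p H, (T : Subgroup H) ≠ ⊥ →
      (∀ g ∈ Subgroup.normalizer ((T : Subgroup H) : Set H), (orderOf g).Coprime p →
        g ∈ Subgroup.centralizer ((T : Subgroup H) : Set H)) →
      ¬ (T : Subgroup H) ≤ commutator H by
    exact CfsgLib.Techniques.exists_normal_index_prime S
      (key G (CfsgLib.Techniques.isSec_self G) S hS hN)
  intro H _ _ hs
  induction hn : Nat.card H using Nat.strong_induction_on generalizing H with
  | _ n ih => ?_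
  subst hn
  intro T hT hNT hle
  obtain ⟨K, R, hnR, ⟨e⟩⟩ := hs.exists_quotient
  have h𝓦 : ∀ V ∈ ({W} : Set (∀ (Q : Type u) [Group Q], Subgroup Q)),
      Cfsg.IsCharPFunctor.{u} p V := fun V hV => by
    rw [Set.mem_singleton_iff] at hV
    exact hV ▸ hW
  have hfam := CfsgLib.Techniques.familyTransfer_congr h𝓦 e (by
    rw [CfsgLib.Techniques.inducedSet_singleton, CfsgLib.Techniques.familyTransfer_singleton_iff]
    exact hctl K R)
  rw [CfsgLib.Techniques.inducedSet_singleton, CfsgLib.Techniques.familyTransfer_singleton_iff]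
    at hfam
  set V := Cfsg.inducedFunctor (G := H) W with hV
  have hVc : Cfsg.IsConjugacyFunctor p V :=
    CfsgLib.Techniques.inducedFunctor_isConjugacyFunctor hW H
  have hctlT := CfsgLib.Techniques.controlsTransfer_at hVc hfam
    (CfsgLib.Techniques.isSylowSub_sylow T)
  rw [top_inf_eq, ← _root_.commutator_def, inf_eq_left.mpr hle] at hctlT
  set N := Subgroup.normalizer ((V (T : Subgroup H) : Subgroup H) : Set H) with hNdef
  have hTN : (T : Subgroup H) ≤ N := CfsgLib.Techniques.le_normalizer_functor hVc T.2
  by_cases hNtop : N = ⊤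
  · have hVn : (V (T : Subgroup H)).Normal := Subgroup.normalizer_eq_top_iff.mp hNtop
    set P := V (T : Subgroup H) with hP
    have hPT : P ≤ (T : Subgroup H) := CfsgLib.Techniques.functor_le hVc T.2
    have hPne : P ≠ ⊥ := CfsgLib.Techniques.functor_ne_bot hVc T.2 hT
    set π := QuotientGroup.mk' P with hπ
    by_cases hbar : (T : Subgroup H).map π = ⊥
    · exact CfsgLib.Techniques.not_le_commutator_of_normal_sylow T hT hNT
        (Subgroup.normalizer_eq_top_iff.mp (by
          have hPeq : (T : Subgroup H) = P := le_antisymm (fun t ht => by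
            have h : π t ∈ (T : Subgroup H).map π := ⟨t, ht, rfl⟩
            rw [hbar, Subgroup.mem_bot] at h
            exact (QuotientGroup.eq_one_iff t).mp h) hPT
          rw [hPeq]
          exact hNtop)) hle
    have hlt : Nat.card (H ⧸ P) < Nat.card H := by
      rw [← Subgroup.index_eq_card, ← Subgroup.card_mul_index P]
      exact lt_mul_left (Nat.pos_of_ne_zero Subgroup.index_ne_zero_of_finite)
        (P.one_lt_card_iff_ne_bot.mpr hPne)
    refine ih _ hlt (H ⧸ P) (hs.quotient P) rfl
      (T.mapSurjective (QuotientGroup.mk'_surjective P)) (by rwa [Sylow.coe_mapSurjective]) ?_ ?_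
    · rw [Sylow.coe_mapSurjective]
      exact CfsgLib.Techniques.automizer_quotient T hPT hNT
    · rw [Sylow.coe_mapSurjective, _root_.commutator_def,
        ← Subgroup.map_top_of_surjective π (QuotientGroup.mk'_surjective P),
        ← Subgroup.map_commutator, ← _root_.commutator_def]
      exact Subgroup.map_mono hle
  · have hlt : Nat.card N < Nat.card H :=
      lt_of_le_of_ne (Subgroup.card_le_card_group N) fun h => hNtop (Subgroup.eq_top_of_card_eq N h)
    have hsub : ((T.subtype hTN : Sylow p N) : Subgroup N).map N.subtype = (T : Subgroup H) :=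
      Subgroup.map_subgroupOf_eq_of_le hTN
    refine ih _ hlt N (hs.subgroup N) rfl (T.subtype hTN) ?_ ?_ ?_
    · intro h
      rw [h, Subgroup.map_bot] at hsub
      exact hT hsub.symm
    · intro g hg hgo
      have hg' : (g : H) ∈ Subgroup.normalizer ((T : Subgroup H) : Set H) := by
        have := Subgroup.le_normalizer_map N.subtype ⟨g, hg, rfl⟩
        rwa [hsub] at this
      have := hNT g hg' (by rwa [Subgroup.orderOf_coe])
      rw [Subgroup.mem_centralizer_iff] at this ⊢
      exact fun t ht => Subtype.ext (this t (hsub ▸ ⟨t, ht, rfl⟩))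
    · intro t ht
      have h1 : (t : H) ∈ (T : Subgroup H) ⊓ ⁅N, N⁆ :=
        hctlT.le (hsub ▸ ⟨t, ht, rfl⟩)
      rw [← Subgroup.map_subtype_commutator] at h1
      obtain ⟨-, t', ht', he⟩ := Subgroup.mem_inf.mp h1
      rwa [Subtype.ext he] at ht'

end Cfsg.Agent.S1971
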