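import Cfsg.Statements.S0330
import Cfsg.Agent.Lib.Lie.Suzuki.Structure

set_option autoImplicit false
open Cfsg
open CfsgLib.Lie.Suzuki

namespace Cfsg.Agent.S0330

/-- A Sylow 2-subgroup `P` of the Suzuki group (field with `q = 2^(2m+1)` elements, `m ≥ 1`) has order `q²` and
exponent `4`; its centre coincides with its commutator subgroup and has order `q`. -/
theorem result {F : Type*} [Field F] [Fintype F] {m : ℕ} (hm : 1 ≤ m)
    (hF : Fintype.card F = 2 ^ (2 * m + 1)) (P : Sylow 2 (Cfsg.Sz F m)) :
    Nat.card P = (2 ^ (2 * m + 1)) ^ 2 ∧ Monoid.exponent P = 4 ∧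
      Subgroup.center P = commutator P ∧ Nat.card (Subgroup.center P) = 2 ^ (2 * m + 1) := by
  haveI := CfsgLib.Lie.Suzuki.charTwo_of_card hF
  obtain ⟨g, hg⟩ := exists_conj_sylow hF hm P
  let e : ↥(unip hF) ≃* ↥(P : Subgroup (Cfsg.Sz F m)) :=
    ((unip hF).equivMapOfInjective _ (MulAut.conj g).injective).trans (MulEquiv.subgroupCongr hg.symm)
  refine ⟨?_, ?_, ?_, ?_⟩
  · rw [← hF, ← card_unip hF]
    exact (Nat.card_congr e.toEquiv).symm
  · rw [← Monoid.exponent_eq_of_mulEquiv e, exponent_unip hF]
  · have h := congrArg (Subgroup.map e.toMonoidHom) (commutator_unip hF hm)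
    rw [commutator_def, Subgroup.map_commutator, Subgroup.map_top_of_surjective _ e.surjective,
      ← commutator_def] at h
    rw [← h]
    ext x
    rw [Subgroup.mem_map_equiv, Subgroup.mem_center_iff, Subgroup.mem_center_iff]
    exact ⟨fun h y => e.injective (by rw [map_mul, map_mul, e.apply_symm_apply]; exact h (e y)),
      fun h y => e.symm.injective (by rw [map_mul, map_mul]; exact h (e.symm y))⟩
  · rw [← hF, ← card_center_unip hF hm]
    exact (Nat.card_congr (Subgroup.centerCongr e).toEquiv).symm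

end Cfsg.Agent.S0330
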