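import Cfsg.Statements.S0735
import Mathlib.GroupTheory.GroupAction.Primitive
import Mathlib.GroupTheory.Perm.Cycle.Type
import Mathlib.GroupTheory.GroupAction.SubMulAction.Combination
import Mathlib.Algebra.Group.Action.Pointwise.Finset
import Mathlib.Tactic

set_option autoImplicit false
open Cfsg

namespace Cfsg.Agent.S0735

open scoped Pointwise

/-- A 2-homogeneous permutation group (transitive on 2-subsets) of even order is doubly transitive; a non-trivial 2-homogeneous group is primitive. -/
theorem result {α : Type*} [Fintype α] [DecidableEq α] (G : Subgroup (Equiv.Perm α)) (h2 : MulAction.IsPretransitive G (Set.powersetCard α 2)) (hα : 3 ≤ Fintype.card α) : (Even (Nat.card G) → MulAction.IsMultiplyPretransitive G α 2) ∧ (G ≠ ⊥ → MulAction.IsPreprimitive G α) := by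
  classical
  have hpair : ∀ {a b c d : α}, a ≠ b → c ≠ d → ∃ g : G, (g • a = c ∧ g • b = d) ∨ (g • a = d ∧ g • b = c) := by
    intro a b c d hab hcd
    obtain ⟨g, hg⟩ := MulAction.exists_smul_eq G
      (⟨{a, b}, Finset.card_pair hab⟩ : Set.powersetCard α 2) ⟨{c, d}, Finset.card_pair hcd⟩
    refine ⟨g, ?_⟩
    have hg' : g • ({a, b} : Finset α) = {c, d} := congrArg Subtype.val hg
    have h1 : g • a ∈ ({c, d} : Finset α) := hg' ▸ Finset.smul_mem_smul_finset (by simp)
    have h2 : g • b ∈ ({c, d} : Finset α) := hg' ▸ Finset.smul_mem_smul_finset (by simp)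
    have hne : g • a ≠ g • b := fun h => hab (MulAction.injective g h)
    simp only [Finset.mem_insert, Finset.mem_singleton] at h1 h2
    grind
  constructor
  · intro heven
    have : Fact (Nat.Prime 2) := ⟨Nat.prime_two⟩
    obtain ⟨t, ht⟩ := exists_prime_orderOf_dvd_card' (G := G) 2 (even_iff_two_dvd.1 heven)
    have ht1 : (t : Equiv.Perm α) ≠ 1 := by
      intro h
      have : t = 1 := Subtype.ext h
      rw [this, orderOf_one] at ht
      omega
    obtain ⟨u, hu⟩ : ∃ u, t • u ≠ u := by
      by_contra hcon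
      push Not at hcon
      exact ht1 (Equiv.ext hcon)
    have htt : t • t • u = u := by
      rw [← mul_smul, ← pow_two, ← ht, pow_orderOf_eq_one, one_smul]
    have hswap : ∀ {c d : α}, c ≠ d → ∃ g : G, g • c = d ∧ g • d = c := by
      intro c d hcd
      obtain ⟨g, ⟨h1, h2⟩ | ⟨h1, h2⟩⟩ := hpair (Ne.symm hu) hcd
      · exact ⟨g * t * g⁻¹, by rw [mul_smul, mul_smul, inv_smul_eq_iff.2 h1.symm, h2],
          by rw [mul_smul, mul_smul, inv_smul_eq_iff.2 h2.symm, htt, h1]⟩
      · exact ⟨g * t * g⁻¹, by rw [mul_smul, mul_smul, inv_smul_eq_iff.2 h2.symm, htt, h1],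
          by rw [mul_smul, mul_smul, inv_smul_eq_iff.2 h1.symm, h2]⟩
    rw [MulAction.is_two_pretransitive_iff]
    intro a b c d hab hcd
    obtain ⟨g, ⟨h1, h2⟩ | ⟨h1, h2⟩⟩ := hpair hab hcd
    · exact ⟨g, h1, h2⟩
    · obtain ⟨k, hk1, hk2⟩ := hswap hcd
      exact ⟨k * g, by rw [mul_smul, h1, hk2], by rw [mul_smul, h2, hk1]⟩
  · intro _
    have hthird : ∀ a b : α, ∃ c, c ≠ a ∧ c ≠ b := by
      intro a b
      by_contra hcon
      push Not at hcon
      have h1 : (Finset.univ : Finset α) ⊆ {a, b} := fun z _ => by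
        simp only [Finset.mem_insert, Finset.mem_singleton]
        by_cases hz : z = a
        · exact Or.inl hz
        · exact Or.inr (hcon z hz)
      have h2 := (Finset.card_le_card h1).trans Finset.card_le_two
      rw [Finset.card_univ] at h2
      omega
    have : MulAction.IsPretransitive G α := ⟨fun a b => by
      by_cases hab : a = b
      · exact ⟨1, by rw [one_smul, hab]⟩
      obtain ⟨c, hca, hcb⟩ := hthird a b
      obtain ⟨g, ⟨h1, -⟩ | ⟨h1, h2⟩⟩ := hpair (Ne.symm hca) (Ne.symm hcb)
      · exact ⟨g, h1⟩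
      · exact ⟨g * g, by rw [mul_smul, h1, h2]⟩⟩
    obtain ⟨a⟩ : Nonempty α := Fintype.card_pos_iff.1 (by omega)
    refine MulAction.IsPreprimitive.of_isTrivialBlock_base a fun {B} haB hB => ?_
    by_cases hs : B.Subsingleton
    · exact Or.inl hs
    obtain ⟨b, hbB, hba⟩ := (Set.not_subsingleton_iff.1 hs).exists_ne a
    refine Or.inr (Set.eq_univ_of_forall fun c => ?_)
    by_cases hca : c = a
    · exact hca ▸ haB
    have hB' := MulAction.isBlock_iff_smul_eq_of_mem.1 hB
    obtain ⟨g, ⟨h1, h2⟩ | ⟨h1, h2⟩⟩ := hpair (Ne.symm hba) (Ne.symm hca)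
    · have := hB' (g := g) haB (by rw [h1]; exact haB)
      rw [← this, ← h2]
      exact Set.smul_mem_smul_set hbB
    · have := hB' (g := g) hbB (by rw [h2]; exact haB)
      rw [← this, ← h1]
      exact Set.smul_mem_smul_set haB

end Cfsg.Agent.S0735
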