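import Cfsg.Statements.S1444
import Cfsg.Agent.Lib.OddLocal.CommutatorPLength

set_option autoImplicit false
open Cfsg

namespace Cfsg.Agent.S1444

/-- Let G be a solvable group of odd order, H a normal subgroup of order coprime to its index, R a complement to H in G, and R₀ ≤ R a subgroup of prime order such that every Sylow subgroup of H ∩ C_G(R₀) is cyclic. Then for every prime p the commutator subgroup [H, R] satisfies [H,R] = O_{p',p,p'}([H,R]). -/
theorem result {G : Type*} [Group G] [Finite G] [Group.IsSolvable G] (hodd : Odd (Nat.card G)) (H R R₀ : Subgroup G) [H.Normal] (hHall : (Nat.card H).Coprime H.index)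
    (hR : Subgroup.IsComplement' H R) (hR₀ : R₀ ≤ R) (hR₀p : (Nat.card R₀).Prime) (hZ : IsZGroup ↥(H ⊓ Subgroup.centralizer (R₀ : Set G)))
    (p : ℕ) [Fact p.Prime] :
    Cfsg.PLengthLE p 1 ↥⁅H, R⁆ := by
  have hcop : (Nat.card R).Coprime (Nat.card H) := by
    rw [← hR.symm.index_eq_card]; exact hHall.symm
  have hRH : R ≤ Subgroup.normalizer (H : Set G) := Subgroup.normalizer_eq_top H ▸ le_top
  have h : CfsgLib.OddLocal.CommutatorPLength.Hyp H R R₀ := ⟨inferInstance, hodd, hRH, hcop, hR₀, hR₀p, hZ⟩
  have hle : ⁅H, R⁆ ≤ H := CfsgLib.Core.commutator_le_of_normalizes hRH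
  exact CfsgLib.OddLocal.CommutatorPLength.main _ G ⁅H, R⁆ R R₀ le_rfl
    (CfsgLib.OddLocal.CommutatorPLength.hyp_of_le h hle (Subgroup.normalizer_commutator_ge_right H R))
    (CfsgLib.Core.commutator_commutator_eq hRH hcop (Or.inl inferInstance))

end Cfsg.Agent.S1444
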