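import Cfsg.Statements.S1446
import Cfsg.Agent.Lib.OddLocal.FrobeniusNilpotent
import Cfsg.Agent.Lib.PGroups.Basic

set_option autoImplicit false
open Cfsg

namespace Cfsg.Agent.S1446

open scoped Pointwise

/-- Let X be a finite group with subgroups K, R, M such that: K and R are nontrivial, K ∩ R = 1, R normalizes K, no non-identity element of R centralizes a non-identity element of K, K ⊔ R is solvable of odd order; M is nilpotent and nontrivial, normalized by K and by R, with order coprime to that of K ⊔ R, M ∩ C(K) = 1, and M ∩ C(x) = M ∩ C(R) for all non-identity x ∈ R. Then R has prime order p, #M = #(M ∩ C(R)) ^ p, and if M ∩ C(R) is cyclic then [K, K] centralizes M. -/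
theorem result {X : Type*} [Group X] [Finite X] (K R M : Subgroup X) (hK1 : K ≠ ⊥) (hR1 : R ≠ ⊥) (hKR : K ⊓ R = ⊥)
    (hRK : R ≤ Subgroup.normalizer (K : Set X)) (hfrob : ∀ r ∈ R, r ≠ 1 → K ⊓ Subgroup.centralizer ({r} : Set X) = ⊥)
    (hsolv : Group.IsSolvable ↥(K ⊔ R)) (hodd : Odd (Nat.card ↥(K ⊔ R)))
    (hM1 : M ≠ ⊥) (hMn : Group.IsNilpotent M) (hKM : K ≤ Subgroup.normalizer (M : Set X)) (hRM : R ≤ Subgroup.normalizer (M : Set X))
    (hcop : (Nat.card ↥(K ⊔ R)).Coprime (Nat.card M)) (hCK : M ⊓ Subgroup.centralizer (K : Set X) = ⊥)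
    (hpr : ∀ x ∈ R, x ≠ 1 → M ⊓ Subgroup.centralizer ({x} : Set X) = M ⊓ Subgroup.centralizer (R : Set X)) :
    (Nat.card R).Prime ∧ Nat.card M = Nat.card ↥(M ⊓ Subgroup.centralizer (R : Set X)) ^ Nat.card R ∧
      (IsCyclic ↥(M ⊓ Subgroup.centralizer (R : Set X)) → ⁅K, K⁆ ≤ Subgroup.centralizer (M : Set X)) := by
  have hMs : Group.IsSolvable M := by
    have := hMn
    infer_instance
  have hform := CfsgLib.OddLocal.FrobeniusNilpotent.card_eq_pow K R M hKR hRK hfrob hMs hKM hRM hcop hCK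
  set c := Nat.card ↥(M ⊓ Subgroup.centralizer (R : Set X)) with hc
  have hc1 : 1 < c := by
    have : Nat.card M ≠ 1 := fun h => hM1 (Subgroup.card_eq_one.1 h)
    rcases Nat.lt_or_ge 1 c with h | h
    · exact h
    · exfalso
      have hpos := Nat.card_pos (α := ↥(M ⊓ Subgroup.centralizer (R : Set X)))
      exact this (by rw [hform, show c = 1 by omega, one_pow])
  have hzc : ∀ x : X, Subgroup.centralizer ((Subgroup.zpowers x : Subgroup X) : Set X) =
      Subgroup.centralizer ({x} : Set X) := fun x => by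
    rw [Subgroup.zpowers_eq_closure, Subgroup.centralizer_closure]
  have hord : ∀ x ∈ R, x ≠ 1 → orderOf x = Nat.card R := by
    intro x hx hx1
    have hle : Subgroup.zpowers x ≤ R := Subgroup.zpowers_le.2 hx
    have h := CfsgLib.OddLocal.FrobeniusNilpotent.card_eq_pow K (Subgroup.zpowers x) M
      (eq_bot_iff.2 ((inf_le_inf_left K hle).trans hKR.le)) (hle.trans hRK)
      (fun r hr => hfrob r (hle hr)) hMs hKM (hle.trans hRM)
      (hcop.coprime_dvd_left (Subgroup.card_dvd_of_le (sup_le_sup_left hle K))) hCK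
    rw [hzc, hpr x hx hx1, ← hc, hform, Nat.card_zpowers] at h
    exact (Nat.pow_right_injective hc1 h).symm
  have hRp : (Nat.card R).Prime := by
    obtain ⟨q, hq, hqd⟩ := Nat.exists_prime_and_dvd (n := Nat.card R) fun h => hR1 (Subgroup.card_eq_one.1 h)
    obtain ⟨x, hx⟩ := exists_prime_orderOf_dvd_card' (G := R) (hp := ⟨hq⟩) q hqd
    have h1 := hord x x.2 fun h => hq.ne_one (by
      rw [← hx, show x = 1 from Subtype.ext h, orderOf_one])
    rw [Subgroup.orderOf_coe, hx] at h1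
    exact h1 ▸ hq
  refine ⟨hRp, hform, fun hcyc => ?_⟩
  have := Fact.mk hRp
  obtain ⟨⟨r, hrR⟩, hr⟩ := exists_prime_orderOf_dvd_card' (G := R) (Nat.card R) dvd_rfl
  rw [Subgroup.orderOf_mk] at hr
  have hr1 : r ≠ 1 := fun h => hRp.ne_one (by rw [← hr, h, orderOf_one])
  have hRz : Subgroup.zpowers r = R := Subgroup.eq_of_le_of_card_ge (Subgroup.zpowers_le.2 hrR)
    (by rw [Nat.card_zpowers, hr])
  have hfp : ∀ k ∈ K, r * k = k * r → k = 1 := fun k hk h =>
    Subgroup.mem_bot.1 (hfrob r hrR hr1 ▸ ⟨hk, Subgroup.mem_centralizer_singleton_iff.2 h.symm⟩)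
  have hKp : (Nat.card K).Coprime (Nat.card R) := by
    refine (hRp.coprime_iff_not_dvd.2 fun hd => ?_).symm
    have hsup : R ⊔ K ≤ Subgroup.normalizer (K : Set X) := sup_le hRK Subgroup.le_normalizer
    have hRp' : IsPGroup (Nat.card R) (R.subgroupOf (R ⊔ K)) :=
      IsPGroup.of_card (n := 1) (by
        rw [pow_one, Nat.card_congr (Subgroup.subgroupOfEquivOfLe le_sup_left).toEquiv])
    obtain ⟨P, hP⟩ := hRp'.exists_le_sylow
    set K' := K.subgroupOf (R ⊔ K) with hK'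
    have : K'.Normal := Subgroup.normal_subgroupOf_of_le_normalizer hsup
    have hne : K'.subgroupOf (P : Subgroup ↥(R ⊔ K)) ≠ ⊥ := by
      intro h
      have h0 : Nat.card ↥(K'.subgroupOf (P : Subgroup ↥(R ⊔ K))) = 1 := Subgroup.card_eq_one.2 h
      have hmul : Nat.card R ∣ Nat.card K' := by
        rwa [Nat.card_congr (Subgroup.subgroupOfEquivOfLe le_sup_right).toEquiv]
      obtain ⟨y, hy⟩ := exists_prime_orderOf_dvd_card' (G := K') (Nat.card R) hmul
      have hyp : IsPGroup (Nat.card R) (Subgroup.zpowers (y : ↥(R ⊔ K))) := IsPGroup.of_card (n := 1) (by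
        rw [pow_one, Nat.card_zpowers, Subgroup.orderOf_coe, hy])
      obtain ⟨Q, hQ⟩ := hyp.exists_le_sylow
      obtain ⟨g, hg⟩ := MulAction.exists_smul_eq ↥(R ⊔ K) Q P
      have hmem : g * (y : ↥(R ⊔ K)) * g⁻¹ ∈ (P : Subgroup ↥(R ⊔ K)) := by
        rw [← hg]
        exact Subgroup.smul_mem_pointwise_smul _ (MulAut.conj g) _ (hQ (Subgroup.mem_zpowers _))
      have hb : (⟨_, hmem⟩ : (P : Subgroup ↥(R ⊔ K))) ∈ K'.subgroupOf (P : Subgroup ↥(R ⊔ K)) :=
        Subgroup.Normal.conj_mem inferInstance _ y.2 g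
      rw [h, Subgroup.mem_bot] at hb
      have hb' : g * (y : ↥(R ⊔ K)) * g⁻¹ = 1 := congrArg Subtype.val hb
      have hy1 : y = 1 := Subtype.ext (conj_eq_one_iff.1 hb')
      rw [hy1, orderOf_one] at hy
      exact hRp.ne_one hy.symm
    have hP2 := CfsgLib.PGroups.inf_center_ne_bot P.isPGroup' hne
    refine hP2 (eq_bot_iff.2 fun x hx => Subgroup.mem_bot.2 (Subtype.ext (Subtype.ext ?_)))
    have hrP : (⟨r, Subgroup.mem_sup_left hrR⟩ : ↥(R ⊔ K)) ∈ (P : Subgroup ↥(R ⊔ K)) := hP hrR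
    exact hfp _ hx.1 (congrArg (fun z : ↥(P : Subgroup ↥(R ⊔ K)) => ((z : ↥(R ⊔ K)) : X))
      (Subgroup.mem_center_iff.1 hx.2 ⟨_, hrP⟩))
  refine CfsgLib.OddLocal.FrobeniusNilpotent.commutator_le_centralizer hRp K r
    (hr ▸ pow_orderOf_eq_one r) (fun k hk => (Subgroup.mem_normalizer_iff.1 (hRK hrR) k).1 hk) hfp hKp
    _ M le_rfl hMn ?_ hKM (hRM hrR) hCK (by rw [hRz]; exact hcyc)
  refine hcop.symm.coprime_dvd_right ((hKp.mul_dvd_of_dvd_of_dvd ?_ ?_))
  · exact Subgroup.card_dvd_of_le le_sup_left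
  · exact Subgroup.card_dvd_of_le le_sup_right

end Cfsg.Agent.S1446
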