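import Cfsg.Statements.S0662
import Cfsg.Agent.Lib.PGroups.MaxClassRank
import Cfsg.Agent.Lib.PGroups.SmallOrder
import Cfsg.Agent.Lib.Core.Nilpotent

set_option autoImplicit false
open Cfsg
open scoped commutatorElement

namespace Cfsg.Agent.S0662

/-- In a p-group of maximal class of order at least p³ the normal subgroups of index at least p² are exactly the terms of the lower central series, and there are exactly p + 1 normal subgroups of index p. -/
theorem result {G : Type*} [Group G] [Finite G] {p : ℕ} [Fact p.Prime] (n : ℕ) (hG : Nat.card G = p ^ n) (hcl : Group.nilpotencyClass G = n - 1) (hn : 3 ≤ n) : (∀ (N : Subgroup G) [N.Normal] (r : ℕ), 2 ≤ r → N.index = p ^ r → N = (⊤ : Subgroup G).lowerCentralSeries (r - 1)) ∧ Nat.card {N : Subgroup G // N.Normal ∧ N.index = p} = p + 1 := by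
  classical
  have hpG : IsPGroup p G := IsPGroup.of_card hG
  haveI := hpG.isNilpotent
  have hp0 : Fact p.Prime := inferInstance
  obtain ⟨⟨hΦ, hi1⟩, hser⟩ := CfsgLib.PGroups.MaxClassRank.card_series hpG hn hG hcl
  refine ⟨fun N hN r hr hidx => ?_, ?_⟩
  · have hrn : r ≤ n := by
      have := N.card_mul_index
      rw [hidx, hG] at this
      exact (Nat.pow_dvd_pow_iff_le_right hp0.out.one_lt).1 (Dvd.intro_left _ this)
    have hle : (⊤ : Subgroup G).lowerCentralSeries (r - 1) ≤ N := by
      have hq : Nat.card (G ⧸ N) = p ^ r := by rw [← N.index_eq_card, hidx]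
      haveI := (hpG.to_quotient N).isNilpotent
      have hc := CfsgLib.Core.nilpotencyClass_le_of_card_eq_pow hq (by omega)
      have hb := Subgroup.lowerCentralSeries_eq_bot_iff_nilpotencyClass_le.mpr hc
      intro x hx
      have h1 := Subgroup.mem_map_of_mem (QuotientGroup.mk' N) hx
      rw [Subgroup.map_lowerCentralSeries, Subgroup.map_top_of_surjective _
        (QuotientGroup.mk'_surjective N), hb, Subgroup.mem_bot] at h1
      exact (QuotientGroup.eq_one_iff x).1 h1
    refine (Subgroup.eq_of_le_of_card_ge hle ?_).symm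
    rw [hser (r - 1) (by omega) (by omega)]
    have := N.card_mul_index
    rw [hidx, hG, show p ^ n = p ^ (n - r) * p ^ r by rw [← pow_add]; congr 1; omega] at this
    rw [show n - 1 - (r - 1) = n - r by omega]
    exact (Nat.eq_of_mul_eq_mul_right (pow_pos hp0.out.pos r) this).le
  · set Φ := frattini G with hΦ'
    have hc2 : Nat.card (G ⧸ Φ) = p ^ 2 := by rw [← Φ.index_eq_card, hΦ, hi1]
    have hexp : ∀ x : G ⧸ Φ, x ^ p = 1 := fun x => by
      obtain ⟨g, rfl⟩ := QuotientGroup.mk_surjective x
      rw [← QuotientGroup.mk_pow, QuotientGroup.eq_one_iff]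
      exact CfsgLib.PGroups.pow_mem_frattini hpG g
    rw [← CfsgLib.PGroups.card_subgroups_card_prime hc2 hexp]
    have hmk : Function.Surjective (QuotientGroup.mk' Φ) := QuotientGroup.mk'_surjective _
    have hle : ∀ N : Subgroup G, N.index = p → (QuotientGroup.mk' Φ).ker ≤ N := by
      intro N hN
      rw [QuotientGroup.ker_mk']
      refine frattini_le_coatom ⟨fun h => ?_, fun M hM => ?_⟩
      · rw [h, Subgroup.index_top] at hN
        exact hp0.out.one_lt.ne hN
      · rcases (Nat.dvd_prime hp0.out).1 (hN ▸ Subgroup.index_dvd_of_le hM.le) with h | h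
        · exact Subgroup.index_eq_one.1 h
        · refine absurd ?_ hM.ne
          refine Subgroup.eq_of_le_of_card_ge hM.le ?_
          have h1 := M.card_mul_index
          rw [h, ← N.card_mul_index, hN] at h1
          exact (Nat.eq_of_mul_eq_mul_right hp0.out.pos h1).le
    have hcardmap : ∀ N : Subgroup G, N.index = p → Nat.card (N.map (QuotientGroup.mk' Φ)) = p := by
      intro N hN
      have h1 := (N.map (QuotientGroup.mk' Φ)).card_mul_index
      rw [Subgroup.index_map_eq N hmk (hle N hN), hN, hc2, pow_two] at h1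
      exact Nat.eq_of_mul_eq_mul_right hp0.out.pos h1
    have hidx : ∀ H : Subgroup (G ⧸ Φ), Nat.card H = p → (H.comap (QuotientGroup.mk' Φ)).index = p := by
      intro H hH
      rw [Subgroup.index_comap_of_surjective H hmk]
      have h1 := H.card_mul_index
      rw [hH, hc2, pow_two] at h1
      exact Nat.eq_of_mul_eq_mul_left hp0.out.pos h1
    refine Nat.card_congr
      { toFun := fun N => ⟨N.1.map (QuotientGroup.mk' Φ), hcardmap N.1 N.2.2⟩
        invFun := fun H => ⟨H.1.comap (QuotientGroup.mk' Φ), ?_, hidx H.1 H.2⟩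
        left_inv := fun N => Subtype.ext (Subgroup.comap_map_eq_self (hle N.1 N.2.2))
        right_inv := fun H => Subtype.ext (Subgroup.map_comap_eq_self_of_surjective hmk H.1) }
    haveI : IsMulCommutative (G ⧸ Φ) := ⟨⟨fun a b => IsPGroup.commutative_of_card_eq_prime_sq hc2 a b⟩⟩
    haveI : H.1.Normal := ⟨fun x hx g => by
      rwa [IsPGroup.commutative_of_card_eq_prime_sq hc2 g x, mul_inv_cancel_right]⟩
    infer_instance

end Cfsg.Agent.S0662
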