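import Cfsg.Statements.S3889
import Mathlib

set_option autoImplicit false
open Cfsg

namespace Cfsg.Agent.S3889

/-- A finite abelian group that is the union of a family of proper subgroups any two of which intersect trivially is elementary abelian: its exponent is a prime. -/
theorem result {G : Type*} [CommGroup G] [Finite G] (𝓑 : Set (Subgroup G)) (hprop : ∀ B ∈ 𝓑, B ≠ ⊤)
    (hcov : ∀ g : G, ∃ B ∈ 𝓑, g ∈ B) (hdisj : ∀ B ∈ 𝓑, ∀ C ∈ 𝓑, B ≠ C → B ⊓ C = ⊥) :
    (Monoid.exponent G).Prime := by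
  obtain ⟨B₀, hB₀, -⟩ := hcov 1
  have hne : ∀ a b : G, a ≠ 1 → b ≠ 1 → ∀ B ∈ 𝓑, a ∈ B → b ∉ B → orderOf b ∣ orderOf a := by
    intro a b ha hb B hB haB hbB
    obtain ⟨C, hC, hbC⟩ := hcov b
    obtain ⟨D, hD, habD⟩ := hcov (a * b)
    have hCD : C ≠ D := by
      rintro rfl
      have haC : a ∈ C := by simpa using mul_mem habD (inv_mem hbC)
      have hBC : B ≠ C := fun h => hbB (h ▸ hbC)
      have : a ∈ (⊥ : Subgroup G) := hdisj B hB C hC hBC ▸ ⟨haB, haC⟩
      exact ha (Subgroup.mem_bot.mp this)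
    have h1 : b ^ orderOf a ∈ C ⊓ D := by
      refine ⟨pow_mem hbC _, ?_⟩
      have := pow_mem habD (orderOf a)
      rwa [mul_pow, pow_orderOf_eq_one, one_mul] at this
    rw [hdisj C hC D hD hCD, Subgroup.mem_bot] at h1
    exact orderOf_dvd_of_pow_eq_one h1
  have hall : ∀ a b : G, a ≠ 1 → b ≠ 1 → orderOf a = orderOf b := by
    intro a b ha hb
    have hsym : ∀ x y : G, x ≠ 1 → y ≠ 1 → ∀ B ∈ 𝓑, x ∈ B → y ∉ B → orderOf x = orderOf y := by
      intro x y hx hy B hB hxB hyB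
      obtain ⟨C, hC, hyC⟩ := hcov y
      have hxC : x ∉ C := fun h => by
        have hBC : B ≠ C := fun e => hyB (e ▸ hyC)
        have : x ∈ (⊥ : Subgroup G) := hdisj B hB C hC hBC ▸ ⟨hxB, h⟩
        exact hx (Subgroup.mem_bot.mp this)
      exact Nat.dvd_antisymm (hne y x hy hx C hC hyC hxC) (hne x y hx hy B hB hxB hyB)
    obtain ⟨B, hB, haB⟩ := hcov a
    by_cases hbB : b ∈ B
    · obtain ⟨c, hcB⟩ : ∃ c, c ∉ B := by
        by_contra h
        push Not at h
        exact hprop B hB ((Subgroup.eq_top_iff' B).mpr h)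
      have hc : c ≠ 1 := fun h => hcB (h ▸ B.one_mem)
      rw [hsym a c ha hc B hB haB hcB, hsym b c hb hc B hB hbB hcB]
    · exact hsym a b ha hb B hB haB hbB
  haveI : Nontrivial G := by
    by_contra h
    rw [not_nontrivial_iff_subsingleton] at h
    exact hprop B₀ hB₀ (Subsingleton.elim _ _)
  have hq : (Nat.card G).minFac.Prime := Nat.minFac_prime Finite.one_lt_card.ne'
  haveI := Fact.mk hq
  obtain ⟨x, hx⟩ := exists_prime_orderOf_dvd_card' _ (Nat.minFac_dvd (Nat.card G))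
  have hx1 : x ≠ 1 := fun h => by rw [h, orderOf_one] at hx; exact hq.ne_one hx.symm
  suffices Monoid.exponent G = (Nat.card G).minFac by rw [this]; exact hq
  refine Nat.dvd_antisymm (Monoid.exponent_dvd.mpr fun g => ?_) (hx ▸ Monoid.order_dvd_exponent x)
  by_cases hg : g = 1
  · simp [hg]
  · rw [hall g x hg hx1, hx]

end Cfsg.Agent.S3889
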