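import Cfsg.Statements.S4399
import Cfsg.Agent.Lib.Transfer.MaximalClass
import Cfsg.Agent.Lib.TwoGroups.Recognition

set_option autoImplicit false
open Cfsg

namespace Cfsg.Agent.S4399

open Subgroup

/-- Let S be a finite 2-group whose commutator quotient S/[S,S] is a Klein four-group (order 4 and exponent 2). Then S itself has order 4, or S is dihedral of order at least 8, semidihedral of order at least 16 (order 2^(k+4) with an element a of order 2^(k+3) and an involution b with b a b⁻¹ = a^(2^(k+2)−1)), or generalized quaternion of order at least 8. -/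
theorem result {S : Type*} [Group S] [Finite S] (h2 : IsPGroup 2 S) (hab : Nat.card (Abelianization S) = 4)
    (hexp : ∀ x : Abelianization S, x ^ 2 = 1) :
    Nat.card S = 4 ∨
    ((∃ k : ℕ, Nonempty (S ≃* DihedralGroup (2 ^ (k + 2)))) ∨
      (∃ k : ℕ, Nat.card S = 2 ^ (k + 4) ∧ ∃ a b : S, orderOf a = 2 ^ (k + 3) ∧ orderOf b = 2 ∧ b * a * b⁻¹ = a ^ (2 ^ (k + 2) - 1)) ∨
      (∃ k : ℕ, Nonempty (S ≃* QuaternionGroup (2 ^ (k + 1))))) := by
  haveI : Fact (Nat.Prime 2) := ⟨Nat.prime_two⟩
  obtain ⟨n, hn⟩ := IsPGroup.iff_card.mp h2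
  have h4 : Nat.card (S ⧸ commutator S) = 4 := hab
  have hidx := Subgroup.card_eq_card_quotient_mul_card_subgroup (commutator S)
  rw [h4, hn] at hidx
  rcases lt_or_ge n 3 with hn3 | hn3
  · left
    have := Nat.card_pos (α := commutator S)
    rw [hn]
    interval_cases n <;> omega
  right
  have hncyc : ¬ IsCyclic (S ⧸ commutator S) := by
    intro hc
    obtain ⟨g, hg⟩ := IsCyclic.exists_ofOrder_eq_natCard (α := S ⧸ commutator S)
    have h' : orderOf g ∣ 2 := orderOf_dvd_of_pow_eq_one (hexp g)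
    rw [hg, h4] at h'
    omega
  have hK : IsKleinFour (S ⧸ commutator S) := CfsgLib.Transfer.klein_of_card_four h4 hncyc
  obtain ⟨a, b, ha, hb, hact, hsq⟩ := CfsgLib.Transfer.shape_of_klein n S hn3 hn hK
  rcases hact with hact | ⟨hn4, hact⟩
  · rcases hsq with hsq | hsq
    · left
      refine ⟨n - 3, ?_⟩
      rw [show n - 3 + 2 = n - 1 by omega]
      exact CfsgLib.TwoGroups.nonempty_mulEquiv_dihedralGroup ha (by rwa [← pow_two]) hb hact
        (by rw [hn, ← pow_succ', show n - 1 + 1 = n by omega])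
    · right; right
      refine ⟨n - 3, ?_⟩
      rw [show n - 3 + 1 = n - 2 by omega]
      refine CfsgLib.TwoGroups.nonempty_mulEquiv_quaternionGroup ?_ (by rwa [← pow_two]) hb hact ?_
      · rw [ha, ← pow_succ', show n - 2 + 1 = n - 1 by omega]
      · rw [hn, show (4 : ℕ) = 2 ^ 2 by rfl, ← pow_add, show 2 + (n - 2) = n by omega]
  · right; left
    set w := a ^ 2 ^ (n - 2) with hw
    have hw2 : w * w = 1 := by rw [← pow_two, hw]; exact CfsgLib.Transfer.w_sq (by omega) ha
    have hwa : Commute w a := (Commute.refl a).pow_left _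
    have hconj : ∀ c : S, c * a * c⁻¹ = w * a⁻¹ → c ∉ zpowers a → c ^ 2 = 1 →
        ∃ k : ℕ, Nat.card S = 2 ^ (k + 4) ∧ ∃ a b : S, orderOf a = 2 ^ (k + 3) ∧ orderOf b = 2 ∧
          b * a * b⁻¹ = a ^ (2 ^ (k + 2) - 1) := by
      intro c hc hcm hc2
      refine ⟨n - 4, by rw [hn, show n - 4 + 4 = n by omega], a, c,
        by rw [ha, show n - 4 + 3 = n - 1 by omega], orderOf_eq_prime hc2 ?_, ?_⟩
      · intro h; exact hcm (h ▸ one_mem _)
      · rw [hc, hw, show n - 4 + 2 = n - 2 by omega, pow_sub a (Nat.one_le_two_pow), pow_one]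
    rcases hsq with hsq | hsq
    · exact hconj b hact hb hsq
    · refine hconj (a * b) ?_ (fun h => hb ((Subgroup.mul_mem_cancel_left _ (mem_zpowers a)).mp h)) ?_
      · calc a * b * a * (a * b)⁻¹ = a * (b * a * b⁻¹) * a⁻¹ := by group
          _ = a * (w * a⁻¹) * a⁻¹ := by rw [hact]
          _ = w * a⁻¹ := by rw [← mul_assoc, ← hwa.eq]; group
      · calc (a * b) ^ 2 = a * (b * a * b⁻¹) * b ^ 2 := by simp only [pow_two]; group
          _ = a * (w * a⁻¹) * w := by rw [hact, hsq]
          _ = w * w := by rw [← mul_assoc a w, ← hwa.eq]; group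
          _ = 1 := hw2

end Cfsg.Agent.S4399
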