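import Cfsg.Statements.S0885
import Cfsg.Agent.Lib.Perm.ZassenhausKernelBound
import Cfsg.Agent.Lib.Perm.ZassenhausNormal

set_option autoImplicit false
open Cfsg

namespace Cfsg.Agent.S0885

universe u v

open CfsgLib.Char.Exceptional in
open CfsgLib.Perm in
theorem feit_aux : ∀ (n : ℕ) (G : Type u) (Ω : Type v) [Group G] [Finite G] [MulAction G Ω]
    [Fintype Ω], Nat.card G = n → Cfsg.IsZassenhausGroup G Ω → ∀ {a b : Ω}, a ≠ b →
    Odd (Nat.card ↥(MulAction.stabilizer G a ⊓ MulAction.stabilizer G b : Subgroup G)) →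
    ∀ H : Subgroup G, H ≤ MulAction.stabilizer G a → Nat.card H + 1 = Fintype.card Ω →
    (∀ u ∈ H, u ≠ 1 → ∀ c : Ω, u • c = c → c = a) →
    Fintype.card Ω - 2 ≤
      2 * Nat.card ↥(MulAction.stabilizer G a ⊓ MulAction.stabilizer G b : Subgroup G) ∨
    (IsPGroup 2 H ∧ (∃ u v : H, u * v ≠ v * u) ∧ (commutator H).index ≤
      4 * Nat.card ↥(MulAction.stabilizer G a ⊓ MulAction.stabilizer G b : Subgroup G) ^ 2 + 1) := by
  intro n
  induction n using Nat.strong_induction_on with
  | _ n ih =>
  intro G Ω _ _ _ _ hn hZ a b hab hodd H hHa hHcard hHfix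
  obtain ⟨x, hx1, hxa, hxb⟩ := zass_two_stab_ne_bot hZ hab
  haveI : Nontrivial G := ⟨⟨x, 1, hx1⟩⟩
  by_cases hs : IsSimpleGroup G
  · haveI := Fintype.ofFinite G
    exact zass_kernel_bound hZ hab hodd hHa hHcard hHfix
  obtain ⟨N, hN, hN1, hNt⟩ : ∃ N : Subgroup G, N.Normal ∧ N ≠ ⊥ ∧ N ≠ ⊤ := by
    by_contra hcon
    push Not at hcon
    exact hs ⟨fun N hN => or_iff_not_imp_left.2 fun h => hcon N hN h⟩
  haveI := hN
  have hHN := zass_normal_kernel_le hZ N hN1 hab hHa hHcard hHfix
  have hZN := zass_normal_isZassenhaus hZ N hN1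
  set E := (MulAction.stabilizer G a ⊓ MulAction.stabilizer G b : Subgroup G) with hE
  set EN := (MulAction.stabilizer N a ⊓ MulAction.stabilizer N b : Subgroup N) with hEN
  have hsub : EN = E.subgroupOf N := by
    ext y
    simp only [hEN, hE, Subgroup.mem_subgroupOf, Subgroup.mem_inf, MulAction.mem_stabilizer_iff]
    rfl
  have hdvd : Nat.card EN ∣ Nat.card E := by
    rw [hsub, ← Subgroup.card_map_of_injective N.subtype_injective, Subgroup.subgroupOf_map_subtype]
    exact Subgroup.card_dvd_of_le inf_le_left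
  have hle : Nat.card EN ≤ Nat.card E := Nat.le_of_dvd Nat.card_pos hdvd
  have hlt : Nat.card N < n := by
    rw [← hn]
    exact lt_of_le_of_ne (Subgroup.card_le_card_group N) fun h => hNt (Subgroup.card_eq_iff_eq_top N |>.1 h)
  set K := H.subgroupOf N with hK
  have e : K ≃* H := Subgroup.subgroupOfEquivOfLe hHN
  have h := ih _ hlt N Ω rfl hZN hab (Odd.of_dvd_nat hodd hdvd) K
    (fun y hy => show (y : G) • a = a from hHa (Subgroup.mem_subgroupOf.1 hy))
    (by rw [Nat.card_congr e.toEquiv]; exact hHcard)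
    (fun u hu hu1 c hc => hHfix u (Subgroup.mem_subgroupOf.1 hu) (fun h => hu1 (Subtype.ext h)) c hc)
  rcases h with h | ⟨h1, ⟨u, v, huv⟩, h3⟩
  · left
    exact h.trans (Nat.mul_le_mul_left 2 hle)
  · right
    refine ⟨h1.of_equiv e, ⟨e u, e v, fun h => huv (e.injective (by simpa using h))⟩, ?_⟩
    have hmap : (commutator K).map e.toMonoidHom = commutator H := by
      rw [commutator_def, commutator_def, Subgroup.map_commutator,
        Subgroup.map_top_of_surjective e.toMonoidHom e.surjective]
    rw [← hmap, Subgroup.index_map_of_bijective e.bijective]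
    exact h3.trans (Nat.add_le_add_right (Nat.mul_le_mul_left 4 (Nat.pow_le_pow_left hle 2)) 1)

/-- Let G be a finite Zassenhaus group on Ω with h + 1 points whose two-point stabilizer E has odd order e, and let H be the subgroup of the stabilizer of a consisting of the identity and the elements fixing no point other than a (given here as a subgroup of the stabilizer of order one less than the number of points whose non-identity elements fix only a; it is the Frobenius kernel of the stabilizer). Then either h - 1 ≤ 2 * e, or H is a non-abelian 2-group whose commutator subgroup has index at most 4 * e ^ 2 + 1 in H. -/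
theorem result {G Ω : Type*} [Group G] [Finite G] [MulAction G Ω] [Fintype Ω] (hZ : Cfsg.IsZassenhausGroup G Ω) {a b : Ω} (hab : a ≠ b) (h e : ℕ) (hh : Fintype.card Ω = h + 1) (he : Nat.card ↥(MulAction.stabilizer G a ⊓ MulAction.stabilizer G b : Subgroup G) = e) (hodd : Odd e) (H : Subgroup G) (hHa : H ≤ MulAction.stabilizer G a) (hHcard : Nat.card H + 1 = Fintype.card Ω) (hHfix : ∀ u ∈ H, u ≠ 1 → ∀ c : Ω, u • c = c → c = a) : h - 1 ≤ 2 * e ∨ (IsPGroup 2 H ∧ (∃ u v : H, u * v ≠ v * u) ∧ (commutator H).index ≤ 4 * e ^ 2 + 1) := by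
  subst he
  have h1 := feit_aux _ G Ω rfl hZ hab hodd H hHa hHcard hHfix
  rwa [hh, show h + 1 - 2 = h - 1 by omega] at h1

end Cfsg.Agent.S0885
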