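import Cfsg.Statements.S5737
import Cfsg.Agent.Lib.Lie.Suzuki.BinaryActions

set_option autoImplicit false
open Cfsg

namespace Cfsg.Agent.S5737

/-- Let G = Sz(q) be a Suzuki group, q = 2^(2a+1) with a ≥ 1 (realised inside Sp₄ over the field with q elements), and let H be a proper subgroup of G. Then the action of G on the cosets of H is binary if and only if H is trivial or H is the centre of a Sylow 2-subgroup of G. Here an action is binary (relational complexity 2) when, for every n ≥ 2 and all n-tuples I, J of points, if for every pair of positions some group element carries the corresponding pair of entries of I to those of J, then a single group element carries I to J. -/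
theorem result {F : Type*} [Field F] [Fintype F] (a : ℕ) (ha : 1 ≤ a) (hF : Fintype.card F = 2 ^ (2 * a + 1))
    (H : Subgroup (Cfsg.Lie.Sz F (2 ^ (a + 1)))) (hH : H ≠ ⊤) :
    (∀ (n : ℕ) (I J : Fin n → (Cfsg.Lie.Sz F (2 ^ (a + 1))) ⧸ H), 2 ≤ n →
        (∀ i j : Fin n, i ≠ j → ∃ g : (Cfsg.Lie.Sz F (2 ^ (a + 1))), g • I i = J i ∧ g • I j = J j) → ∃ g : (Cfsg.Lie.Sz F (2 ^ (a + 1))), ∀ i, g • I i = J i) ↔
      (H = ⊥ ∨ ∃ P : Sylow 2 (Cfsg.Lie.Sz F (2 ^ (a + 1))), H = (Subgroup.center (P : Subgroup (Cfsg.Lie.Sz F (2 ^ (a + 1))))).map (P : Subgroup (Cfsg.Lie.Sz F (2 ^ (a + 1)))).subtype) := by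
  haveI := CfsgLib.Lie.Suzuki.charTwo_of_card hF
  obtain ⟨e, -⟩ : ∃ e : Cfsg.Sz F a ≃* Cfsg.Lie.Sz F (2 ^ (a + 1)), True :=
    ⟨CfsgLib.Lie.Suzuki.equivLie ha hF, trivial⟩
  obtain ⟨K, rfl⟩ : ∃ K : Subgroup (Cfsg.Sz F a), K.map e.toMonoidHom = H :=
    ⟨H.comap e.toMonoidHom, Subgroup.map_comap_eq_self_of_surjective e.surjective H⟩
  have hK : K ≠ ⊤ := fun h => hH (by rw [h, Subgroup.map_top_of_surjective _ e.surjective])
  show CfsgLib.Lie.Suzuki.Bin (K.map e.toMonoidHom) ↔ _
  rw [CfsgLib.Lie.Suzuki.bin_map_iff e, CfsgLib.Lie.Suzuki.bin_iff hF ha hK]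
  haveI := Fact.mk Nat.prime_two
  -- the centres of Sylow subgroups correspond
  have hc : ∀ P : Subgroup (Cfsg.Sz F a),
      ((Subgroup.center P).map P.subtype).map e.toMonoidHom =
        (Subgroup.center (P.map e.toMonoidHom : Subgroup _)).map (P.map e.toMonoidHom).subtype := by
    intro P
    ext y
    constructor
    · rintro ⟨_, ⟨u, hu, rfl⟩, rfl⟩
      refine ⟨⟨_, Subgroup.mem_map_of_mem _ u.2⟩, Subgroup.mem_center_iff.2 fun w => ?_, rfl⟩
      obtain ⟨v, hv, he⟩ := Subgroup.mem_map.1 w.2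
      refine Subtype.ext ?_
      show (w : Cfsg.Lie.Sz F (2 ^ (a + 1))) * _ = _ * (w : Cfsg.Lie.Sz F (2 ^ (a + 1)))
      rw [← he, ← map_mul, ← map_mul]
      exact congrArg e.toMonoidHom (congrArg Subtype.val (Subgroup.mem_center_iff.1 hu ⟨v, hv⟩))
    · rintro ⟨⟨y, hy⟩, hu, rfl⟩
      obtain ⟨u, hu', rfl⟩ := Subgroup.mem_map.1 hy
      refine ⟨u, ⟨⟨u, hu'⟩, Subgroup.mem_center_iff.2 fun v => Subtype.ext (e.injective ?_), rfl⟩, rfl⟩
      have h := congrArg Subtype.val (Subgroup.mem_center_iff.1 hu ⟨_, Subgroup.mem_map_of_mem _ v.2⟩)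
      simp only [Subgroup.coe_mul, MulEquiv.coe_toMonoidHom] at h ⊢
      rw [map_mul, map_mul]
      exact h
  constructor
  · rintro (rfl | ⟨P, rfl⟩)
    · exact Or.inl (Subgroup.map_bot _)
    · refine Or.inr ⟨P.mapSurjective (f := e.toMonoidHom) e.surjective, ?_⟩
      rw [hc]
      rfl
  · rintro (h | ⟨P, hP⟩)
    · exact Or.inl ((Subgroup.map_eq_bot_iff_of_injective K e.injective).1 h)
    · refine Or.inr ⟨P.mapSurjective (f := e.symm.toMonoidHom) e.symm.surjective, ?_⟩
      apply Subgroup.map_injective (f := e.toMonoidHom) e.injective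
      rw [hP, hc]
      have hPe : ((P.mapSurjective (f := e.symm.toMonoidHom) e.symm.surjective : Sylow 2 _) : Subgroup (Cfsg.Sz F a)).map
          e.toMonoidHom = (P : Subgroup _) := by
        show ((P : Subgroup _).map e.symm.toMonoidHom).map e.toMonoidHom = _
        rw [Subgroup.map_map, show e.toMonoidHom.comp e.symm.toMonoidHom = MonoidHom.id _ from
          MonoidHom.ext fun y => e.apply_symm_apply y, Subgroup.map_id]
      rw [hPe]

end Cfsg.Agent.S5737
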