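import Cfsg.Statements.S5913


set_option autoImplicit false
open Cfsg

namespace Cfsg.Agent.S5913

/-- Let S be a non-abelian simple group and n a natural number. Every normal subgroup N of the direct power S^n (functions Fin n → S) is a subproduct: there is a set T of coordinates such that N consists exactly of the elements whose coordinates outside T are trivial. In particular the minimal normal subgroups of S^n are its n factors. -/
theorem result {S : Type*} [Group S] [IsSimpleGroup S] (hS : ¬ IsMulCommutative S) (n : ℕ)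
    (N : Subgroup (Fin n → S)) [N.Normal] :
    ∃ T : Finset (Fin n), ∀ x : Fin n → S, x ∈ N ↔ ∀ i, i ∉ T → x i = 1 := by
  classical
  refine ⟨Finset.univ.filter fun i => ∃ x ∈ N, x i ≠ 1, fun x => ⟨fun hx i hi => ?_, fun hx => ?_⟩⟩
  · by_contra h
    exact hi (Finset.mem_filter.2 ⟨Finset.mem_univ _, x, hx, h⟩)
  have hcen : Subgroup.center S = ⊥ := by
    rcases (inferInstance : (Subgroup.center S).Normal).eq_bot_or_eq_top with h | h
    · exact h
    · refine absurd ⟨⟨fun a b => ?_⟩⟩ hS
      exact Subgroup.mem_center_iff.1 (h.ge (Subgroup.mem_top b)) a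
  have hfac : ∀ i, (∃ y ∈ N, y i ≠ 1) → ∀ s : S, Pi.mulSingle i s ∈ N := by
    rintro i ⟨y, hy, hyi⟩
    let A : Subgroup S := N.comap (MonoidHom.mulSingle (fun _ : Fin n => S) i)
    have hA : A.Normal := Subgroup.Normal.comap inferInstance _
    obtain ⟨t, ht⟩ : ∃ t : S, t * y i ≠ y i * t := by
      by_contra! h
      have : y i ∈ Subgroup.center S := Subgroup.mem_center_iff.2 h
      rw [hcen, Subgroup.mem_bot] at this
      exact hyi this
    have hmem : y i * t * (y i)⁻¹ * t⁻¹ ∈ A := by
      show Pi.mulSingle i (y i * t * (y i)⁻¹ * t⁻¹) ∈ N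
      have e : Pi.mulSingle i (y i * t * (y i)⁻¹ * t⁻¹)
          = y * (Pi.mulSingle i t * y⁻¹ * (Pi.mulSingle i t)⁻¹) := by
        funext j
        rcases eq_or_ne j i with rfl | hj
        · simp [mul_assoc]
        · simp [Pi.mulSingle_eq_of_ne hj]
      rw [e]
      exact N.mul_mem hy (Subgroup.Normal.conj_mem inferInstance _ (N.inv_mem hy) _)
    rcases hA.eq_bot_or_eq_top with h | h
    · rw [h, Subgroup.mem_bot] at hmem
      exact absurd (by rw [mul_inv_eq_one, mul_inv_eq_iff_eq_mul] at hmem; exact hmem.symm) ht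
    · exact fun s => (h.ge (Subgroup.mem_top s) : s ∈ A)
  suffices h : ∀ (U : Finset (Fin n)) (z : Fin n → S),
      (∀ i ∈ U, ∃ y ∈ N, y i ≠ 1) → (∀ i, i ∉ U → z i = 1) → z ∈ N from
    h _ x (fun i hi => (Finset.mem_filter.1 hi).2) hx
  intro U
  induction U using Finset.induction_on with
  | empty =>
    intro z _ hz
    rw [show z = 1 from funext fun i => hz i (Finset.notMem_empty i)]
    exact N.one_mem
  | insert i U hi ih =>
    intro z hU hz
    have h1 := hfac i (hU i (Finset.mem_insert_self i U)) (z i)
    have h2 : (Pi.mulSingle i (z i))⁻¹ * z ∈ N := by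
      refine ih _ (fun j hj => hU j (Finset.mem_insert_of_mem hj)) fun j hj => ?_
      rcases eq_or_ne j i with rfl | hji
      · simp
      · simp [Pi.mulSingle_eq_of_ne hji, hz j (by simp [hji, hj])]
    have h3 := N.mul_mem h1 h2
    rwa [mul_inv_cancel_left] at h3

end Cfsg.Agent.S5913
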