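import Cfsg.Statements.S0703
import Cfsg.Agent.Lib.Perm.Regular
import Cfsg.Agent.Lib.Core.MinNormal

set_option autoImplicit false
open Cfsg

namespace Cfsg.Agent.S0703

open CfsgLib.Perm in
theorem comm_of_inf {G : Type*} [Group G] {M L : Subgroup G} (hMn : M.Normal) (hLn : L.Normal)
    (hmin : ∀ K : Subgroup G, K.Normal → K ≤ M → K = ⊥ ∨ K = M) (h : ¬ M ≤ L) :
    ∀ a ∈ M, ∀ b ∈ L, Commute a b := by
  have hd : Disjoint M L := by
    rw [disjoint_iff]
    haveI := hMn; haveI := hLn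
    exact (hmin (M ⊓ L) inferInstance inf_le_left).resolve_right fun e => h (e ▸ inf_le_right)
  exact fun a ha b hb => Subgroup.commute_of_normal_of_disjoint M L hMn hLn hd a b ha hb

theorem centralizer_map {α : Type*} (G : Subgroup (Equiv.Perm α)) (M N : Subgroup G) [Nonempty α]
    [MulAction.IsPretransitive M α] [MulAction.IsPretransitive N α]
    (hMN : ∀ a ∈ M, ∀ b ∈ N, Commute a b) :
    Subgroup.centralizer ((M.map G.subtype : Subgroup (Equiv.Perm α)) : Set (Equiv.Perm α)) =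
      N.map G.subtype := by
  have hM : MulAction.IsPretransitive (M.map G.subtype) α := ⟨fun x y => by
    obtain ⟨m, hm⟩ := MulAction.exists_smul_eq M x y
    exact ⟨⟨_, Subgroup.mem_map_of_mem _ m.2⟩, hm⟩⟩
  have hN : MulAction.IsPretransitive (N.map G.subtype) α := ⟨fun x y => by
    obtain ⟨m, hm⟩ := MulAction.exists_smul_eq N x y
    exact ⟨⟨_, Subgroup.mem_map_of_mem _ m.2⟩, hm⟩⟩
  have hc : ∀ a ∈ M.map G.subtype, ∀ b ∈ N.map G.subtype, Commute a b := by
    rintro _ ⟨a, ha, rfl⟩ _ ⟨b, hb, rfl⟩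
    exact (hMN a ha b hb).map _
  refine le_antisymm (fun c hcC => ?_) (fun c hcN => Subgroup.mem_centralizer_iff.2 fun a ha => (hc a ha c hcN).eq)
  exact CfsgLib.Perm.Regular.mem_of_commute (α := α) _ _ hc fun a ha => (Subgroup.mem_centralizer_iff.1 hcC a ha)

theorem nonempty_of_ne_bot {α : Type*} {G : Subgroup (Equiv.Perm α)} {M : Subgroup G} (hM : M ≠ ⊥) :
    Nonempty α := by
  by_contra h
  rw [not_nonempty_iff] at h
  exact hM (Subsingleton.elim _ _)

/-- An abelian transitive minimal normal subgroup `M` of a permutation group on a finite set is self-centralising in the symmetric group, regular, elementary abelian, and is the unique minimal normal subgroup. -/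
theorem result {α : Type*} [Finite α] (G : Subgroup (Equiv.Perm α)) (M : Subgroup G) [M.Normal] (hM : M ≠ ⊥) (hmin : ∀ L : Subgroup G, L.Normal → L ≤ M → L = ⊥ ∨ L = M) (hab : IsMulCommutative M) (htrans : MulAction.IsPretransitive M α) : Subgroup.centralizer ((M.map G.subtype : Subgroup (Equiv.Perm α)) : Set (Equiv.Perm α)) = M.map G.subtype ∧ (∀ a : α, MulAction.stabilizer M a = ⊥) ∧ (∃ p : ℕ, p.Prime ∧ ∀ m ∈ M, m ^ p = 1) ∧ ∀ L : Subgroup G, L.Normal → L ≠ ⊥ → (∀ L' : Subgroup G, L'.Normal → L' ≤ L → L' = ⊥ ∨ L' = L) → L = M := by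
  haveI := nonempty_of_ne_bot hM
  have hMn : M.Normal := inferInstance
  have hc : ∀ a ∈ M, ∀ b ∈ M, Commute a b :=
    fun a ha b hb => congrArg Subtype.val (hab.is_comm.comm ⟨a, ha⟩ ⟨b, hb⟩)
  refine ⟨centralizer_map G M M hc,
    fun a => CfsgLib.Perm.Regular.stabilizer_eq_bot_of_commute M M hc a,
    CfsgLib.Core.exists_prime_pow_eq_one_of_minimal_normal M hab hM hmin, fun L hL hL0 hLmin => ?_⟩
  by_contra hcon
  have hLM : ∀ a ∈ M, ∀ b ∈ L, Commute a b :=
    comm_of_inf hMn hL hmin fun h => (hLmin M hMn h).elim hM fun e => hcon e.symm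
  exact (hmin L hL fun l hl => CfsgLib.Perm.Regular.mem_of_commute (α := α) M M hc
      fun a ha => hLM a ha l hl).elim hL0 hcon

end Cfsg.Agent.S0703
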