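import Cfsg.Statements.S0722
import Mathlib.GroupTheory.GroupAction.Primitive

set_option autoImplicit false
open Cfsg

namespace Cfsg.Agent.S0722

/-- In a primitive group `H`, with `N` a minimal normal subgroup and `K` a point stabiliser, `K ⊓ N` is maximal among proper `K`-invariant subgroups of `N`. -/
theorem result {α : Type*} [Finite α] (H : Subgroup (Equiv.Perm α)) [MulAction.IsPreprimitive H α] (N : Subgroup H) [N.Normal] (hN : N ≠ ⊥) (hmin : ∀ M : Subgroup H, M.Normal → M ≤ N → M = ⊥ ∨ M = N) (a : α) (X : Subgroup H) (hX : X ≤ N) (hKX : MulAction.stabilizer H a ⊓ N ≤ X) (hinv : MulAction.stabilizer H a ≤ Subgroup.normalizer (X : Set H)) : X = MulAction.stabilizer H a ⊓ N ∨ X = N := by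
  classical
  rcases subsingleton_or_nontrivial α with hs | hn
  · have : Subsingleton H := ⟨fun g h => Subtype.ext (Equiv.ext fun x => Subsingleton.elim _ _)⟩
    exact Or.inr (Subsingleton.elim _ _)
  set S := MulAction.stabilizer H a with hS
  have hco : IsCoatom S := MulAction.IsPreprimitive.isCoatom_stabilizer_of_isPreprimitive H a
  rcases eq_or_lt_of_le (le_sup_right : S ≤ X ⊔ S) with h | h
  · left
    refine le_antisymm (le_inf ?_ hX) hKX
    rw [h]
    exact le_sup_left
  · right
    have htop := hco.2 _ h
    refine le_antisymm hX fun n hn => ?_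
    have hmem : n ∈ X ⊔ S := htop ▸ Subgroup.mem_top n
    rw [← SetLike.mem_coe, Subgroup.coe_mul_of_right_le_normalizer_left X S hinv] at hmem
    obtain ⟨x, hx, k, hk, hxk⟩ := hmem
    subst hxk
    have hkN : k ∈ N := by
      have := mul_mem (inv_mem (hX hx)) hn
      simpa using this
    exact mul_mem hx (hKX ⟨hk, hkN⟩)

end Cfsg.Agent.S0722
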