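import Cfsg.Statements.S0723
import Cfsg.Agent.Lib.Perm.CharSimple
import Cfsg.Agent.S0722
import Mathlib.GroupTheory.GroupAction.Primitive
import Mathlib.Tactic

set_option autoImplicit false
open Cfsg

namespace Cfsg.Agent.S0723

section Power

variable {T : Type} [Group T] [IsSimpleGroup T] {m : ℕ}

theorem center_eq_bot (hT : ¬ IsMulCommutative T) : ∀ t : T, (∀ s, t * s = s * t) → t = 1 := by
  intro t ht
  rcases (Subgroup.instNormalCenter : (Subgroup.center T).Normal).eq_bot_or_eq_top with h | h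
  · have : t ∈ Subgroup.center T := Subgroup.mem_center_iff.2 fun s => (ht s).symm
    rwa [h, Subgroup.mem_bot] at this
  · exact absurd ⟨⟨fun a b => (Subgroup.mem_center_iff.1 (h ▸ Subgroup.mem_top a : a ∈ Subgroup.center T) b).symm⟩⟩ hT

/-- A surjection from a power of a non-abelian simple group onto it factors through a projection. -/
theorem exists_coord (hT : ¬ IsMulCommutative T) (h : (Fin m → T) →* T) (hh : Function.Surjective h) :
    ∃ j, ∃ φ : T ≃* T, ∀ x, h x = φ (x j) := by
  classical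
  let f : Fin m → (T →* T) := fun l => h.comp (MonoidHom.mulSingle (fun _ => T) l)
  have hnorm : ∀ l, (f l).range.Normal := fun l => by
    have : (MonoidHom.mulSingle (fun _ : Fin m => T) l).range.Normal := by
      constructor
      rintro _ ⟨t, rfl⟩ g
      refine ⟨g l * t * (g l)⁻¹, ?_⟩
      ext i
      by_cases hi : i = l
      · subst hi; simp
      · simp [hi]
    rw [MonoidHom.range_comp]
    exact this.map h hh
  obtain ⟨j, hj⟩ : ∃ j, f j ≠ 1 := by
    by_contra hno
    push Not at hno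
    have hall : ∀ x, h x = 1 := fun x => by
      have hle : Subgroup.pi Set.univ (fun _ : Fin m => (⊤ : Subgroup T)) ≤ h.ker :=
        Subgroup.pi_le_iff.2 fun l => by
          rintro _ ⟨t, -, rfl⟩
          exact MonoidHom.mem_ker.2 (DFunLike.congr_fun (hno l) t)
      exact hle (fun i _ => Subgroup.mem_top _)
    obtain ⟨t, ht⟩ := exists_ne (1 : T)
    obtain ⟨x, hx⟩ := hh t
    exact ht (hx ▸ hall x)
  have hjtop : (f j).range = ⊤ := by
    rcases (hnorm j).eq_bot_or_eq_top with e | e
    · exact absurd (MonoidHom.range_eq_bot_iff.1 e) hj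
    · exact e
  have hsurj : Function.Surjective (f j) := MonoidHom.range_eq_top.1 hjtop
  have hinj : Function.Injective (f j) := by
    rw [← MonoidHom.ker_eq_bot_iff]
    rcases (MonoidHom.normal_ker (f j)).eq_bot_or_eq_top with e | e
    · exact e
    · exact absurd (MonoidHom.ker_eq_top_iff.1 e) hj
  have hother : ∀ l, l ≠ j → ∀ t, f l t = 1 := by
    intro l hl t
    refine center_eq_bot hT _ fun s => ?_
    obtain ⟨u, rfl⟩ := hsurj s
    show h _ * h _ = h _ * h _
    rw [← map_mul, ← map_mul]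
    congr 1
    exact (Pi.mulSingle_commute (f := fun _ : Fin m => T) hl t u).eq
  refine ⟨j, MulEquiv.ofBijective (f j) ⟨hinj, hsurj⟩, fun x => ?_⟩
  have hle : Subgroup.pi Set.univ (fun _ : Fin m => (⊤ : Subgroup T)) ≤
      MonoidHom.eqLocus h ((f j).comp (Pi.evalMonoidHom (fun _ : Fin m => T) j)) :=
    Subgroup.pi_le_iff.2 fun l => by
      rintro _ ⟨t, -, rfl⟩
      show h (Pi.mulSingle l t) = f j (Pi.mulSingle (M := fun _ : Fin m => T) l t j)
      by_cases hl : l = j
      · subst hl; rw [Pi.mulSingle_eq_same]; rfl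
      · rw [Pi.mulSingle_eq_of_ne (Ne.symm hl), map_one]; exact hother l hl t
  exact hle (fun i _ => Subgroup.mem_top _)

variable (D : Subgroup (Fin m → T))

/-- The elements of `D` trivial at `i`. -/
def kerAt (i : Fin m) : Subgroup (Fin m → T) := D ⊓ (Pi.evalMonoidHom (fun _ : Fin m => T) i).ker

theorem mem_kerAt {i : Fin m} {x : Fin m → T} : x ∈ kerAt D i ↔ x ∈ D ∧ x i = 1 := Iff.rfl

variable {D}

theorem exists_link (hfull : ∀ i t, ∃ x ∈ D, x i = t) {i r : Fin m} (h : kerAt D r ≤ kerAt D i) :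
    ∃ ψ : T ≃* T, ∀ x ∈ D, x i = ψ (x r) := by
  choose g hg hgr using hfull r
  have key : ∀ x ∈ D, x i = g (x r) i := by
    intro x hx
    have : x * (g (x r))⁻¹ ∈ kerAt D r := ⟨D.mul_mem hx (D.inv_mem (hg _)), by simp [hgr]⟩
    have := ((mem_kerAt D).1 (h this)).2
    simpa [mul_inv_eq_one] using this
  let ψ : T →* T :=
    { toFun := fun t => g t i
      map_one' := by
        have := key 1 D.one_mem
        simpa using this.symm
      map_mul' := fun a b => by
        have := key (g a * g b) (D.mul_mem (hg a) (hg b))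
        simpa [hgr] using this.symm }
  have hs : Function.Surjective ψ := fun t => by
    obtain ⟨x, hx, rfl⟩ := hfull i t
    exact ⟨x r, (key x hx).symm⟩
  have hi : Function.Injective ψ := by
    rw [← MonoidHom.ker_eq_bot_iff]
    rcases (MonoidHom.normal_ker ψ).eq_bot_or_eq_top with e | e
    · exact e
    · exfalso
      obtain ⟨t, ht⟩ := exists_ne (1 : T)
      obtain ⟨u, rfl⟩ := hs t
      exact ht (DFunLike.congr_fun (MonoidHom.ker_eq_top_iff.1 e) u)
  exact ⟨MulEquiv.ofBijective ψ ⟨hi, hs⟩, key⟩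

theorem kerAt_eq_of_le (hfull : ∀ i t, ∃ x ∈ D, x i = t) {i r : Fin m} (h : kerAt D r ≤ kerAt D i) :
    kerAt D i = kerAt D r := by
  obtain ⟨ψ, hψ⟩ := exists_link hfull h
  refine le_antisymm (fun x hx => ⟨hx.1, ?_⟩) h
  have := ((mem_kerAt D).1 hx).2
  rw [hψ x hx.1, MulEquiv.map_eq_one_iff] at this
  exact this

theorem exists_indep (hT : ¬ IsMulCommutative T) (hfull : ∀ i t, ∃ x ∈ D, x i = t) (r : Fin m) :
    ∀ s : Finset (Fin m), (∀ l ∈ s, kerAt D l ≠ kerAt D r) → ∀ t, ∃ x ∈ D, x r = t ∧ ∀ l ∈ s, x l = 1 := by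
  classical
  intro s
  induction s using Finset.induction_on with
  | empty => intro _ t; obtain ⟨x, hx, hxt⟩ := hfull r t; exact ⟨x, hx, hxt, by simp⟩
  | @insert l s hl ih =>
    intro hs
    have hs' := ih fun l' h => hs l' (Finset.mem_insert_of_mem h)
    let A : Subgroup (Fin m → T) := D ⊓ ⨅ l' ∈ insert l s, (Pi.evalMonoidHom (fun _ : Fin m => T) l').ker
    have hA : ∀ x, x ∈ A ↔ x ∈ D ∧ ∀ l' ∈ insert l s, x l' = 1 := fun x => by
      simp [A, Subgroup.mem_iInf]
    have hN : (A.map (Pi.evalMonoidHom (fun _ : Fin m => T) r)).Normal := by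
      constructor
      rintro _ ⟨x, hx, rfl⟩ g
      obtain ⟨y, hy, hyg⟩ := hfull r g
      rw [SetLike.mem_coe, hA] at hx
      refine ⟨y * x * y⁻¹, (hA _).2 ⟨D.mul_mem (D.mul_mem hy hx.1) (D.inv_mem hy), fun l' h => by simp [hx.2 l' h]⟩, ?_⟩
      simp [hyg]
    rcases hN.eq_bot_or_eq_top with e | e
    · exfalso
      obtain ⟨w, hw, hwr⟩ : ∃ w ∈ kerAt D l, w r ≠ 1 := by
        by_contra hno
        push Not at hno
        exact hs l (Finset.mem_insert_self _ _) (kerAt_eq_of_le hfull fun x hx => ⟨hx.1, hno x hx⟩).symm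
      refine hwr (center_eq_bot hT _ fun t => ?_)
      obtain ⟨u, hu, hur, hus⟩ := hs' t
      have hc : w * u * w⁻¹ * u⁻¹ ∈ A := by
        rw [hA]
        refine ⟨D.mul_mem (D.mul_mem (D.mul_mem hw.1 hu) (D.inv_mem hw.1)) (D.inv_mem hu), fun l' h' => ?_⟩
        rcases Finset.mem_insert.1 h' with rfl | h'
        · simp [((mem_kerAt D).1 hw).2]
        · simp [hus l' h']
      have := Subgroup.mem_map_of_mem (Pi.evalMonoidHom (fun _ : Fin m => T) r) hc
      rw [e, Subgroup.mem_bot] at this
      simp only [Pi.evalMonoidHom_apply, Pi.mul_apply, Pi.inv_apply, hur] at this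
      rw [mul_inv_eq_one, mul_inv_eq_iff_eq_mul] at this
      exact this
    · intro t
      obtain ⟨x, hx, hxt⟩ := (e ▸ Subgroup.mem_top t : t ∈ A.map (Pi.evalMonoidHom (fun _ : Fin m => T) r))
      rw [SetLike.mem_coe, hA] at hx
      exact ⟨x, hx.1, hxt, hx.2⟩

/-- Scott's lemma. -/
theorem scott (hT : ¬ IsMulCommutative T) (hfull : ∀ i t, ∃ x ∈ D, x i = t) :
    ∃ (c : Fin m → Fin m) (ψ : Fin m → (T ≃* T)), (∀ i j, c i = c j ↔ kerAt D i = kerAt D j) ∧
      (∀ i, c (c i) = c i) ∧
      ∀ x, x ∈ D ↔ ∀ i j, c i = c j → (ψ i).symm (x i) = (ψ j).symm (x j) := by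
  classical
  let cls : Fin m → Finset (Fin m) := fun i => Finset.univ.filter fun l => kerAt D l = kerAt D i
  have hne : ∀ i, (cls i).Nonempty := fun i => ⟨i, by simp [cls]⟩
  let c : Fin m → Fin m := fun i => (cls i).min' (hne i)
  have hcK : ∀ i, kerAt D (c i) = kerAt D i := fun i => (Finset.mem_filter.1 ((cls i).min'_mem (hne i))).2
  have hciff : ∀ i j, c i = c j ↔ kerAt D i = kerAt D j := by
    intro i j
    refine ⟨fun h => by rw [← hcK i, h, hcK], fun h => ?_⟩
    have : cls i = cls j := by simp only [cls, h]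
    simp only [c, this]
  have hcc : ∀ i, c (c i) = c i := fun i => (hciff _ _).2 (hcK i)
  choose ψ hψ using fun i => exists_link hfull (i := i) (r := c i) (hcK i).le
  have hψr : ∀ i t, ψ (c i) t = t := fun i t => by
    obtain ⟨x, hx, rfl⟩ := hfull (c i) t
    have := hψ (c i) x hx
    rw [hcc] at this
    exact this.symm
  refine ⟨c, ψ, hciff, hcc, fun x => ⟨fun hx i j h => ?_, fun hx => ?_⟩⟩
  · rw [hψ i x hx, hψ j x hx, MulEquiv.symm_apply_apply, MulEquiv.symm_apply_apply, h]
  · have hbuild : ∀ s : Finset (Fin m), ∃ y ∈ D, ∀ r, c r = r → (r ∈ s → y r = x r) ∧ (r ∉ s → y r = 1) := by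
      intro s
      induction s using Finset.induction_on with
      | empty => exact ⟨1, D.one_mem, fun r _ => ⟨fun h => absurd h (Finset.notMem_empty r), fun _ => rfl⟩⟩
      | @insert l s hl ih =>
        obtain ⟨y, hy, hys⟩ := ih
        by_cases hcl : c l = l
        · obtain ⟨z, hz, hzl, hzo⟩ := exists_indep hT hfull l
            (Finset.univ.filter fun r => c r = r ∧ r ≠ l)
            (fun r hr h => by
              simp only [Finset.mem_filter, Finset.mem_univ, true_and] at hr
              exact hr.2 (by rw [← hr.1, (hciff r l).2 h, hcl])) (x l)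
          refine ⟨y * z, D.mul_mem hy hz, fun r hr => ⟨fun h => ?_, fun h => ?_⟩⟩
          · rcases Finset.mem_insert.1 h with rfl | h
            · rw [Pi.mul_apply, (hys r hr).2 hl, one_mul, hzl]
            · rw [Pi.mul_apply, (hys r hr).1 h, hzo r (by simp [hr, show r ≠ l from fun e => hl (e ▸ h)]), mul_one]
          · rw [Finset.mem_insert, not_or] at h
            rw [Pi.mul_apply, (hys r hr).2 h.2, one_mul, hzo r (by simp [hr, h.1])]
        · refine ⟨y, hy, fun r hr => ⟨fun h => ?_, fun h => (hys r hr).2 fun h' => h (Finset.mem_insert_of_mem h')⟩⟩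
          rcases Finset.mem_insert.1 h with rfl | h
          · exact absurd hr hcl
          · exact (hys r hr).1 h
    obtain ⟨y, hy, hyx⟩ := hbuild Finset.univ
    have : x = y := funext fun i => by
      have h1 := hx i (c i) (hcc i).symm
      rw [show (ψ (c i)).symm (x (c i)) = x (c i) from (ψ (c i)).symm_apply_eq.2 (hψr i _).symm,
        MulEquiv.symm_apply_eq, ← (hyx (c i) (hcc i)).1 (Finset.mem_univ _), ← hψ i y hy] at h1
      exact h1
    exact this ▸ hy

end Power

/-- The core of the O'Nan–Scott Theorem. Let `H` be a primitive permutation group on a finite set whose unique minimal normal subgroup `N` is non-abelian, and `K` a point stabiliser. Then there are a non-abelian simple group `T` and an isomorphism `N ≃* T^m` (`m ≥ 1`) under which `K ⊓ N` becomes either a product `∏ K_i` of proper subgroups `K_i < T`, or the set of functions constant on each block of a partition of the index set into blocks of one common size `k ≥ 2`. -/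
theorem result {α : Type*} [Finite α] (H : Subgroup (Equiv.Perm α)) [MulAction.IsPreprimitive H α] (N : Subgroup H) [N.Normal] (hN : N ≠ ⊥) (hmin : ∀ M : Subgroup H, M.Normal → M ≤ N → M = ⊥ ∨ M = N) (huniq : ∀ L : Subgroup H, L.Normal → L ≠ ⊥ → (∀ M : Subgroup H, M.Normal → M ≤ L → M = ⊥ ∨ M = L) → L = N) (hnab : ¬ IsMulCommutative N) (a : α) : ∃ (T : Type) (_ : Group T) (m : ℕ) (e : N ≃* (Fin m → T)), IsSimpleGroup T ∧ ¬ IsMulCommutative T ∧ 0 < m ∧ ((∃ K : Fin m → Subgroup T, (∀ i, K i ≠ ⊤) ∧ ∀ n : N, (n : H) ∈ MulAction.stabilizer H a ↔ ∀ i, e n i ∈ K i) ∨ (∃ (k : ℕ) (c : Fin m → Fin m), 2 ≤ k ∧ (∀ j : Fin m, Nat.card {i : Fin m // c i = j} = k ∨ Nat.card {i : Fin m // c i = j} = 0) ∧ ∀ n : N, (n : H) ∈ MulAction.stabilizer H a ↔ ∀ i j : Fin m, c i = c j → e n i = e n j)) := by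
  classical
  obtain ⟨T, _, m, hT, hm, ⟨e⟩⟩ := CfsgLib.Perm.CharSimple.exists_iso_pi_of_minimal_normal N hN hmin
  haveI := hT
  have hTnc : ¬ IsMulCommutative T := fun h => hnab ⟨⟨fun a b => e.injective (by
    rw [map_mul, map_mul]; exact funext fun i => h.is_comm.comm _ _)⟩⟩
  haveI : Nontrivial α := by
    by_contra hs
    rw [not_nontrivial_iff_subsingleton] at hs
    exact hN ((Subgroup.eq_bot_iff_forall _).2 fun x _ => Subtype.ext (Equiv.ext fun y => Subsingleton.elim _ _))
  set K := MulAction.stabilizer H a with hK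
  -- the stabiliser supplements `N`
  have hKN : K ⊔ N = ⊤ := by
    rcases eq_or_lt_of_le (le_sup_left : K ≤ K ⊔ N) with h | h
    · exfalso
      apply hN
      have hNK : N ≤ K := h.symm ▸ le_sup_right
      rw [Subgroup.eq_bot_iff_forall]
      intro n hn
      apply Subtype.ext
      apply Equiv.ext
      intro x
      obtain ⟨g, rfl⟩ := MulAction.exists_smul_eq H a x
      have h2 : g⁻¹ * n * g ∈ K := hNK (by
        have := Subgroup.Normal.conj_mem inferInstance n hn g⁻¹
        simpa using this)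
      rw [hK, MulAction.mem_stabilizer_iff, mul_smul, mul_smul, inv_smul_eq_iff] at h2
      exact h2
    · exact (MulAction.IsPreprimitive.isCoatom_stabilizer_of_isPreprimitive H a).2 _ h
  let D : Subgroup (Fin m → T) := (K.subgroupOf N).map e.toMonoidHom
  have hD : ∀ n : N, e n ∈ D ↔ (n : H) ∈ K := fun n =>
    ⟨fun ⟨n', h', he⟩ => e.injective he ▸ h', fun h => ⟨n, h, rfl⟩⟩
  -- the action of the stabiliser
  have hperm : ∀ g : H, ∃ (σ : Fin m → Fin m) (φ : Fin m → (T ≃* T)), Function.Injective σ ∧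
      ∀ (n : N) (hn : g * (n : H) * g⁻¹ ∈ N) i, e ⟨g * n * g⁻¹, hn⟩ i = φ i (e n (σ i)) := by
    intro g
    let cg : (Fin m → T) →* (Fin m → T) :=
      { toFun := fun x => e ⟨g * (e.symm x : N) * g⁻¹, Subgroup.Normal.conj_mem inferInstance _ (e.symm x).2 g⟩
        map_one' := by
          rw [← e.map_one]
          congr 1
          apply Subtype.ext
          simp
        map_mul' := fun x y => by
          rw [← map_mul]
          congr 1
          apply Subtype.ext
          simp }
    have hcs : Function.Surjective cg := fun y => by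
      refine ⟨e ⟨g⁻¹ * (e.symm y : N) * g, by
        have := Subgroup.Normal.conj_mem inferInstance _ (e.symm y).2 g⁻¹ (H := N)
        simpa using this⟩, ?_⟩
      show e _ = y
      rw [← e.eq_symm_apply]
      apply Subtype.ext
      simp [mul_assoc]
    have := fun i => exists_coord hTnc ((Pi.evalMonoidHom (fun _ : Fin m => T) i).comp cg)
      (fun t => by
        obtain ⟨x, hx⟩ := hcs (Pi.mulSingle i t)
        exact ⟨x, by simp [hx]⟩)
    choose σ φ hφ using this
    refine ⟨σ, φ, fun i j hij => ?_, fun n hn i => ?_⟩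
    · by_contra hne
      obtain ⟨t, ht⟩ := exists_ne (1 : T)
      obtain ⟨x, hx⟩ := hcs (Pi.mulSingle i t)
      have h1 := hφ i x
      have h2 := hφ j x
      simp only [MonoidHom.comp_apply, Pi.evalMonoidHom_apply, hx] at h1 h2
      rw [Pi.mulSingle_eq_same] at h1
      rw [Pi.mulSingle_eq_of_ne (Ne.symm hne), eq_comm, MulEquiv.map_eq_one_iff, ← hij] at h2
      rw [h2, map_one] at h1
      exact ht h1
    · have := hφ i (e n)
      simp only [MonoidHom.comp_apply, Pi.evalMonoidHom_apply, cg, MonoidHom.coe_mk, OneHom.coe_mk,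
        MulEquiv.symm_apply_apply] at this
      exact this
  have hinvD : ∀ g ∈ K, ∀ (n : N) (hn : g * (n : H) * g⁻¹ ∈ N), (e ⟨g * n * g⁻¹, hn⟩ ∈ D ↔ e n ∈ D) := by
    intro g hg n hn
    rw [hD, hD]
    refine ⟨fun h => ?_, fun h => K.mul_mem (K.mul_mem hg h) (K.inv_mem hg)⟩
    have := K.mul_mem (K.mul_mem (K.inv_mem hg) h) hg
    simpa [mul_assoc] using this
  -- a set of coordinates invariant under the stabiliser is trivial
  have hwhole : ∀ S : Set (Fin m), S.Nonempty →
      (∀ g ∈ K, ∀ σ : Fin m → Fin m, ∀ φ : Fin m → (T ≃* T), Function.Injective σ →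
        (∀ (n : N) (hn : g * (n : H) * g⁻¹ ∈ N) i, e ⟨g * n * g⁻¹, hn⟩ i = φ i (e n (σ i))) →
        ∀ i, i ∈ S → σ i ∈ S) → S = Set.univ := by
    intro S ⟨i₀, hi₀⟩ hS
    let M₀ : Subgroup (Fin m → T) :=
      { carrier := {x | ∀ i, i ∉ S → x i = 1}
        one_mem' := fun _ _ => rfl
        mul_mem' := fun hx hy i hi => by simp [hx i hi, hy i hi]
        inv_mem' := fun hx i hi => by simp [hx i hi] }
    let M : Subgroup H := (M₀.comap e.toMonoidHom).map N.subtype
    have hMle : M ≤ N := Subgroup.map_subtype_le _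
    have hmem : ∀ n : N, (n : H) ∈ M ↔ e n ∈ M₀ :=
      fun n => ⟨fun ⟨n', h', he⟩ => (Subtype.ext he : n' = n) ▸ h', fun h => ⟨n, h, rfl⟩⟩
    have hMn : M.Normal := by
      have hsup : K ⊔ N ≤ Subgroup.normalizer (M : Set H) := by
        refine sup_le (fun g hg => ?_) (fun g hg => ?_)
        · refine Subgroup.mem_normalizer_fintype fun x hx => ?_
          have hxN : x ∈ N := hMle hx
          have hn : g * x * g⁻¹ ∈ N := Subgroup.Normal.conj_mem inferInstance x hxN g
          refine (hmem ⟨_, hn⟩).2 fun i hi => ?_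
          obtain ⟨σ, φ, hσ, hφ⟩ := hperm g
          have hσS : σ i ∉ S := by
            intro h
            obtain ⟨j, hj, hji⟩ : ∃ j ∈ S.toFinset, σ j = σ i := by
              have himg : S.toFinset.image σ = S.toFinset := by
                refine Finset.eq_of_subset_of_card_le (fun y hy => ?_) ?_
                · obtain ⟨j, hj, rfl⟩ := Finset.mem_image.1 hy
                  rw [Set.mem_toFinset] at hj ⊢
                  exact hS g hg σ φ hσ hφ j hj
                · rw [Finset.card_image_of_injective _ hσ]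
              have : σ i ∈ S.toFinset.image σ := by rw [himg, Set.mem_toFinset]; exact h
              obtain ⟨j, hj, hji⟩ := Finset.mem_image.1 this
              exact ⟨j, hj, hji⟩
            exact hi (hσ hji ▸ Set.mem_toFinset.1 hj)
          rw [hφ ⟨x, hxN⟩ hn i, ((hmem ⟨x, hxN⟩).1 hx) (σ i) hσS, map_one]
        · refine Subgroup.mem_normalizer_fintype fun x hx => ?_
          have hxN : x ∈ N := hMle hx
          refine (hmem (⟨g, hg⟩ * ⟨x, hxN⟩ * ⟨g, hg⟩⁻¹)).2 fun i hi => ?_
          rw [map_mul, map_mul, Pi.mul_apply, Pi.mul_apply, ((hmem ⟨x, hxN⟩).1 hx) i hi, mul_one, map_inv, Pi.inv_apply, mul_inv_cancel]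
      exact Subgroup.normalizer_eq_top_iff.1 (top_le_iff.1 (hKN ▸ hsup))
    rcases hmin M hMn hMle with h | h
    · exfalso
      obtain ⟨t, ht⟩ := exists_ne (1 : T)
      have h1 : ((e.symm (Pi.mulSingle i₀ t) : N) : H) ∈ M := (hmem _).2 (by
        intro i hi
        rw [MulEquiv.apply_symm_apply, Pi.mulSingle_eq_of_ne (fun hh : i = i₀ => hi (hh ▸ hi₀))])
      rw [h, Subgroup.mem_bot] at h1
      replace h1 : (e.symm (Pi.mulSingle i₀ t)) = 1 := Subtype.ext h1
      exact ht (by
        have h2 := congrFun (congrArg e h1) i₀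
        simpa using h2)
    · rw [Set.eq_univ_iff_forall]
      intro i
      by_contra hi
      obtain ⟨t, ht⟩ := exists_ne (1 : T)
      have h1 := (hmem (e.symm (Pi.mulSingle i t))).1 (by rw [h]; exact (e.symm (Pi.mulSingle i t)).2) i hi
      simp [ht] at h1
  by_cases hcase : ∀ i, ∃ t, ∀ x ∈ D, x i ≠ t
  · -- product case
    let P : Fin m → Subgroup T := fun i => D.map (Pi.evalMonoidHom (fun _ : Fin m => T) i)
    have hPne : ∀ i, P i ≠ ⊤ := fun i h => by
      obtain ⟨t, ht⟩ := hcase i
      obtain ⟨x, hx, hxt⟩ := (h.symm ▸ Subgroup.mem_top t : t ∈ P i)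
      exact ht x hx hxt
    let X : Subgroup H := (((Subgroup.pi Set.univ P).comap e.toMonoidHom)).map N.subtype
    have hmem : ∀ n : N, (n : H) ∈ X ↔ ∀ i, e n i ∈ P i :=
      fun n => ⟨fun ⟨n', h', he⟩ i => (Subtype.ext he : n' = n) ▸ h' i (Set.mem_univ i),
        fun h => ⟨n, fun i _ => h i, rfl⟩⟩
    have hKX : K ⊓ N ≤ X := fun x hx => (hmem ⟨x, hx.2⟩).2 fun i =>
      Subgroup.mem_map_of_mem _ ((hD ⟨x, hx.2⟩).2 hx.1)
    have hKnorm : K ≤ Subgroup.normalizer (X : Set H) := fun g hg =>
      Subgroup.mem_normalizer_fintype fun x hx => by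
        have hxN : x ∈ N := Subgroup.map_subtype_le _ hx
        have hn : g * x * g⁻¹ ∈ N := Subgroup.Normal.conj_mem inferInstance x hxN g
        refine (hmem ⟨_, hn⟩).2 fun i => ?_
        obtain ⟨σ, φ, -, hφ⟩ := hperm g
        rw [hφ ⟨x, hxN⟩ hn i]
        obtain ⟨y, hy, hyx⟩ := (hmem ⟨x, hxN⟩).1 hx (σ i)
        have hny : g * (e.symm y : N) * g⁻¹ ∈ N := Subgroup.Normal.conj_mem inferInstance _ (e.symm y).2 g
        refine ⟨e ⟨_, hny⟩, (hinvD g hg _ hny).2 (by simpa using hy), ?_⟩
        show e ⟨_, hny⟩ i = _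
        rw [hφ _ hny i, MulEquiv.apply_symm_apply]
        exact congrArg (φ i) hyx
    rcases Cfsg.Agent.S0722.result H N hN hmin a X (Subgroup.map_subtype_le _) hKX hKnorm with h | h
    · refine ⟨T, inferInstance, m, e, hT, hTnc, hm, Or.inl ⟨P, hPne, fun n => ⟨fun hn i => ?_, fun hn => ?_⟩⟩⟩
      · exact Subgroup.mem_map_of_mem _ ((hD n).2 hn)
      · exact (h ▸ (hmem n).2 hn : (n : H) ∈ MulAction.stabilizer H a ⊓ N).1
    · exfalso
      apply hPne ⟨0, hm⟩
      rw [Subgroup.eq_top_iff']
      intro t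
      have h1 := (hmem (e.symm (Pi.mulSingle ⟨0, hm⟩ t))).1 (by rw [h]; exact (e.symm (Pi.mulSingle ⟨0, hm⟩ t)).2) ⟨0, hm⟩
      simpa using h1
  · push Not at hcase
    obtain ⟨i₀, hi₀⟩ := hcase
    have hfull : ∀ i t, ∃ x ∈ D, x i = t := by
      have := hwhole {i | ∀ t, ∃ x ∈ D, x i = t} ⟨i₀, fun t => hi₀ t⟩ (by
        intro g hg σ φ hσ hφ i hi t
        obtain ⟨x, hx, hxt⟩ := hi (φ i t)
        obtain ⟨n, hn, hnx⟩ := hx
        have hn' : g⁻¹ * (n : H) * g ∈ N := by
          have := Subgroup.Normal.conj_mem inferInstance (n : H) n.2 g⁻¹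
          simpa using this
        have hback : g * ((⟨_, hn'⟩ : N) : H) * g⁻¹ ∈ N := by simp [mul_assoc]
        have hid : (⟨_, hback⟩ : N) = n := Subtype.ext (by simp [mul_assoc])
        refine ⟨e ⟨_, hn'⟩, (hinvD g hg _ hback).1 (by rw [hid]; exact (hD n).2 hn), (φ i).injective ?_⟩
        rw [← hφ _ hback i, hid, ← hxt, ← hnx]
        rfl)
      exact fun i => (this ▸ Set.mem_univ i : i ∈ {i | ∀ t, ∃ x ∈ D, x i = t})
    obtain ⟨c, ψ, hciff, hcc, hscott⟩ := scott hTnc hfull
    -- block sizes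
    let sz : Fin m → ℕ := fun i => Nat.card {l // c l = c i}
    have hsz : ∀ i, sz i ≤ m := fun i => by
      have := Finite.card_subtype_le (fun l => c l = c i) (α := Fin m)
      simpa [sz] using this
    obtain ⟨i₁, -, hi₁⟩ := Finset.exists_max_image (Finset.univ : Finset (Fin m)) sz ⟨⟨0, hm⟩, Finset.mem_univ _⟩
    have hall := hwhole {i | sz i = sz i₁} ⟨i₁, rfl⟩ (by
      intro g hg σ φ hσ hφ i hi
      refine le_antisymm (hi₁ _ (Finset.mem_univ _)) (hi ▸ ?_)
      let f : {l // c l = c i} → {l // c l = c (σ i)} := fun l => ⟨σ l.1, by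
        rw [hciff]
        have key : ∀ j x, x ∈ D → ((x (σ j) = 1) ↔ ∀ hn, e ⟨g * (e.symm x : N) * g⁻¹, hn⟩ j = 1) := by
          intro j x hx
          refine ⟨fun h hn => by rw [hφ _ hn j, MulEquiv.apply_symm_apply, h, map_one], fun h => ?_⟩
          have hn := Subgroup.Normal.conj_mem inferInstance _ (e.symm x).2 g (H := N)
          have := h hn
          rwa [hφ _ hn j, MulEquiv.apply_symm_apply, MulEquiv.map_eq_one_iff] at this
        have heq := (hciff l.1 i).1 l.2
        ext x
        rw [mem_kerAt, mem_kerAt]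
        refine and_congr_right fun hx => ?_
        rw [key _ x hx, key _ x hx]
        refine forall_congr' fun hn => ?_
        have hx' : e ⟨g * (e.symm x : N) * g⁻¹, hn⟩ ∈ D := (hinvD g hg _ hn).2 (by simpa using hx)
        have := SetLike.ext_iff.1 heq (e ⟨g * (e.symm x : N) * g⁻¹, hn⟩)
        simpa [mem_kerAt, hx'] using this⟩
      exact Nat.card_le_card_of_injective f fun p q h => Subtype.ext (hσ (congrArg Subtype.val h)))
    let e' : N ≃* (Fin m → T) := e.trans (MulEquiv.piCongrRight fun i => (ψ i).symm)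
    refine ⟨T, inferInstance, m, e', hT, hTnc, hm, Or.inr ⟨sz i₁, c, ?_, fun j => ?_, fun n => ?_⟩⟩
    · by_contra hlt
      have hone : ∀ i l, c l = c i → l = i := by
        intro i l h
        have h1 : sz i ≤ 1 := by
          have := (hall ▸ Set.mem_univ i : i ∈ {i | sz i = sz i₁})
          simp only [Set.mem_setOf_eq] at this
          omega
        have := Finite.card_le_one_iff_subsingleton.1 h1
        exact congrArg Subtype.val (Subsingleton.elim (⟨l, h⟩ : {l // c l = c i}) ⟨i, rfl⟩)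
      have hNK : N ≤ K := fun x hx => (hD ⟨x, hx⟩).1 ((hscott _).2 fun i j h => by rw [hone j i h])
      have : K = ⊤ := by rw [← hKN, sup_eq_left.2 hNK]
      exact (MulAction.IsPreprimitive.isCoatom_stabilizer_of_isPreprimitive H a).1 this
    · by_cases hj : ∃ i, c i = j
      · obtain ⟨i, rfl⟩ := hj
        left
        have := (hall ▸ Set.mem_univ i : i ∈ {i | sz i = sz i₁})
        exact this
      · right
        push Not at hj
        have : IsEmpty {i : Fin m // c i = j} := ⟨fun i => hj i.1 i.2⟩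
        exact Nat.card_of_isEmpty
    · show (n : H) ∈ K ↔ _
      rw [← hD n, hscott]
      rfl

end Cfsg.Agent.S0723
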