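import Cfsg.Statements.S0730
import Cfsg.Agent.Lib.Perm.SharplyThree
import Cfsg.Agent.Lib.Core.UniqueOrderP

set_option autoImplicit false
open Cfsg

namespace Cfsg.Agent.S0730

universe u

open CfsgLib.Perm.SharplyThree

/-- The two-point stabiliser as a linear group regular on the non-zero vectors. -/
theorem exists_rep {G : Type u} [Group G] {α : Type*} [MulAction G α] [Finite G] [Fintype α]
    (h3 : MulAction.IsMultiplyPretransitive G α 3)
    (hsharp : ∀ x : Fin 3 ↪ α, MulAction.stabilizer G x = ⊥) {a b c : α}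
    (hab : a ≠ b) (hac : a ≠ c) (hbc : b ≠ c) :
    ∃ (p f : ℕ) (V : Type u) (_ : AddCommGroup V)
      (ψ : ↥(MulAction.stabilizer G a ⊓ MulAction.stabilizer G b) →* AddMonoid.End V),
      p.Prime ∧ Fintype.card α = p ^ f + 1 ∧ Nat.card V = p ^ f ∧ (∀ v : V, p • v = 0) ∧
        ∀ v w : V, v ≠ 0 → w ≠ 0 → ∃! h, ψ h v = w := by
  classical
  haveI := h3
  let _ := Fintype.ofFinite (SubMulAction.ofStabilizer G a)
  have hne : ∀ y : SubMulAction.ofStabilizer G a, (y : α) ≠ a := fun y => y.2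
  have hcardX : Fintype.card α = Fintype.card (SubMulAction.ofStabilizer G a) + 1 := by
    have e : (SubMulAction.ofStabilizer G a) ≃ {x : α // x ≠ a} :=
      ⟨fun y => ⟨y, hne y⟩, fun x => ⟨x.1, x.2⟩, fun y => rfl, fun x => rfl⟩
    rw [Fintype.card_congr e, Fintype.card_subtype_compl, Fintype.card_subtype_eq]
    have := Fintype.card_pos_iff.2 ⟨a⟩
    omega
  have hX2 : 2 ≤ Fintype.card (SubMulAction.ofStabilizer G a) :=
    Fintype.one_lt_card_iff.2 ⟨⟨b, hab.symm⟩, ⟨c, hac.symm⟩, fun e => hbc (congrArg Subtype.val e)⟩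
  have h2X : MulAction.IsMultiplyPretransitive (MulAction.stabilizer G a) (SubMulAction.ofStabilizer G a) 2 := by
    rw [MulAction.is_two_pretransitive_iff]
    intro x y x' y' hxy hxy'
    obtain ⟨g, ga, gx, gy⟩ := exists_triple h3 (hne x).symm (hne y).symm (fun e => hxy (Subtype.ext e))
      (hne x').symm (hne y').symm (fun e => hxy' (Subtype.ext e))
    exact ⟨⟨g, ga⟩, Subtype.ext gx, Subtype.ext gy⟩
  obtain ⟨p, f, K, hp, hf, hcard, hKn, hKc, hKp, hKcard, -, hKtr, hKst, -⟩ :=
    CfsgLib.Perm.SharplyTwo.exists_kernel h2X hX2 (fun n u v huv hu hv => by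
      apply Subtype.ext
      exact eq_one_of_fix hsharp (hne u).symm (hne v).symm (fun e => huv (Subtype.ext e)) n.2
        (congrArg Subtype.val hu) (congrArg Subtype.val hv))
  let _ : CommGroup K := { mul_comm := hKc.is_comm.comm }
  let pt : K → α := fun k => ((k : MulAction.stabilizer G a) : G) • b
  have hpt : ∀ k, pt k ≠ a := fun k e => hab.symm
    (MulAction.injective _ (e.trans (k : MulAction.stabilizer G a).2.symm))
  have hptinj : ∀ k l, pt k = pt l → k = l := by
    intro k l e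
    have h : l⁻¹ * k ∈ MulAction.stabilizer K (⟨b, hab.symm⟩ : SubMulAction.ofStabilizer G a) :=
      Subtype.ext (show (((l⁻¹ * k : K) : MulAction.stabilizer G a) : G) • b = b by
        simp only [Subgroup.coe_mul, Subgroup.coe_inv, mul_smul]
        exact inv_smul_eq_iff.2 e)
    rw [hKst, Subgroup.mem_bot, inv_mul_eq_one] at h
    exact h.symm
  let cj : ↥(MulAction.stabilizer G a ⊓ MulAction.stabilizer G b) → (K →* K) := fun h =>
    { toFun := fun k => ⟨⟨(h : G), h.2.1⟩ * (k : MulAction.stabilizer G a) * ⟨(h : G), h.2.1⟩⁻¹,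
        hKn.conj_mem _ k.2 _⟩
      map_one' := by ext; simp
      map_mul' := fun k l => by ext; simp }
  have hcjpt : ∀ h k, pt (cj h k) = (h : G) • pt k := by
    intro h k
    show ((h : G) * ((k : MulAction.stabilizer G a) : G) * (h : G)⁻¹) • b = (h : G) • ((k : MulAction.stabilizer G a) : G) • b
    rw [mul_smul, mul_smul, inv_smul_eq_iff.2 h.2.2.symm]
  let ψ : ↥(MulAction.stabilizer G a ⊓ MulAction.stabilizer G b) →* AddMonoid.End (Additive K) :=
    { toFun := fun h => MonoidHom.toAdditive (cj h)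
      map_one' := AddMonoidHom.ext fun (k : Additive K) => congrArg Additive.ofMul (hptinj _ _ (by
        rw [hcjpt]; exact one_smul G _))
      map_mul' := fun g h => AddMonoidHom.ext fun (k : Additive K) => congrArg Additive.ofMul (hptinj _ _ (by
        show pt (cj (g * h) k.toMul) = pt (cj g (cj h k.toMul))
        rw [hcjpt, hcjpt, hcjpt, Subgroup.coe_mul, mul_smul])) }
  refine ⟨p, f, Additive K, inferInstance, ψ, hp, by rw [hcardX, hcard], hKcard.trans hcard, fun v => ?_, ?_⟩
  · exact congrArg Additive.ofMul (Subtype.ext (hKp _ (Additive.toMul v).2) : (Additive.toMul v) ^ p = 1)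
  · intro v w hv hw
    have hb : ∀ u : Additive K, u ≠ 0 → pt u.toMul ≠ b := fun u hu e => hu
      (congrArg Additive.ofMul (hptinj u.toMul 1 (e.trans (one_smul G b).symm)))
    obtain ⟨g, ga, gb, gc⟩ := exists_triple h3 hab (hpt v.toMul).symm (hb v hv).symm hab (hpt w.toMul).symm
      (hb w hw).symm
    refine ⟨⟨g, ga, gb⟩, congrArg Additive.ofMul (hptinj _ _ ((hcjpt _ _).trans gc)), fun h hh => ?_⟩
    have e : (h : G) • pt v.toMul = g • pt v.toMul := by
      rw [gc, ← hcjpt]
      exact congrArg (fun u : Additive K => pt u.toMul) hh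
    apply Subtype.ext
    exact (inv_mul_eq_one.1 (eq_one_of_fix hsharp hab (hpt v.toMul).symm (hb v hv).symm
      (g := g⁻¹ * (h : G)) (by rw [mul_smul, h.2.1, inv_smul_eq_iff.2 ga.symm])
      (by rw [mul_smul, h.2.2, inv_smul_eq_iff.2 gb.symm]) (by rw [mul_smul, e, inv_smul_smul]))).symm

/-- Two injective linear maps of a space of odd dimension do not anticommute. -/
theorem not_anticommute {K V : Type*} [Field K] [AddCommGroup V] [Module K V] [FiniteDimensional K V]
    (hd : Odd (Module.finrank K V)) (h2 : (2 : K) ≠ 0) (A B : V →ₗ[K] V)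
    (hA : Function.Injective A) (hB : Function.Injective B) (h : ∀ v, A (B v) = -(B (A v))) : False := by
  have e : A.comp B = (-1 : K) • B.comp A := LinearMap.ext fun v => by simp [h v]
  have h1 := congrArg LinearMap.det e
  rw [LinearMap.det_smul, hd.neg_one_pow, LinearMap.det_comp, LinearMap.det_comp] at h1
  have hne : ∀ C : V →ₗ[K] V, Function.Injective C → LinearMap.det C ≠ 0 := fun C hC =>
    (LinearEquiv.isUnit_det' (LinearEquiv.ofInjectiveEndo C hC)).ne_zero
  have h3 : (2 : K) * (LinearMap.det A * LinearMap.det B) = 0 := by linear_combination h1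
  exact mul_ne_zero h2 (mul_ne_zero (hne A hA) (hne B hB)) h3

theorem not_anticommute_zmod {V : Type*} [AddCommGroup V] [Finite V] {p f : ℕ} [hp : Fact p.Prime]
    [iM : Module (ZMod p) V] (hp2 : p ≠ 2) (hf : Odd f) (hV : Nat.card V = p ^ f) (A B : V →+ V)
    (hA : Function.Injective A) (hB : Function.Injective B) (h : ∀ v, A (B v) = -(B (A v))) : False := by
  have hdim : Module.finrank (ZMod p) V = f := by
    have h := FiniteField.pow_finrank_eq_natCard p V
    rw [hV] at h
    exact Nat.pow_right_injective hp.out.two_le h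
  have h3 : (2 : ZMod p) ≠ 0 := by
    intro h0
    exact hp2 ((Nat.prime_dvd_prime_iff_eq hp.out Nat.prime_two).1 ((ZMod.natCast_eq_zero_iff 2 p).1 h0))
  exact not_anticommute (K := ZMod p) (by rw [hdim]; exact hf) h3
    (AddMonoidHom.toZModLinearMap p A) (AddMonoidHom.toZModLinearMap p B) hA hB h

/-- A group regular on the non-zero vectors of a space of odd dimension, with an involutory
automorphism whose fixed points square to one, is abelian. -/
theorem comm_of_odd {H : Type*} [Group H] [Finite H] {V : Type*} [AddCommGroup V] {p f : ℕ}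
    [hp : Fact p.Prime] (hp2 : p ≠ 2) (hf : Odd f) (hV : Nat.card V = p ^ f) (hpV : ∀ v : V, p • v = 0)
    (ψ : H →* AddMonoid.End V) (hreg : ∀ v w : V, v ≠ 0 → w ≠ 0 → ∃! h, ψ h v = w)
    (σ : H ≃* H) (hσ : ∀ h, σ (σ h) = h) (hfix : ∀ h, σ h = h → h * h = 1) :
    ∀ g h : H, g * h = h * g := by
  classical
  have : Finite V := Nat.finite_of_card_ne_zero (by rw [hV]; exact pow_ne_zero _ hp.out.ne_zero)
  have : Nontrivial V := Finite.one_lt_card_iff_nontrivial.1 (by
    rw [hV]; exact Nat.one_lt_pow hf.pos.ne' hp.out.one_lt)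
  obtain ⟨v₀, hv₀⟩ := exists_ne (0 : V)
  have hψinj : ∀ h v, ψ h v = 0 → v = 0 := fun h v e => by
    have : ψ (h⁻¹ * h) v = v := by rw [inv_mul_cancel, map_one]; rfl
    rw [map_mul] at this
    change ψ h⁻¹ (ψ h v) = v at this
    rw [e, map_zero] at this
    exact this.symm
  have hfree : ∀ h v, v ≠ 0 → ψ h v = v → h = 1 := fun h v hv e =>
    (hreg v v hv hv).unique e (by rw [map_one]; rfl)
  have hinvol : ∀ y : H, y ≠ 1 → y * y = 1 → ∀ v, ψ y v = -v := by
    intro y hy hy2 v
    by_contra hne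
    refine hy (hfree y (ψ y v + v) (fun e => hne (eq_neg_of_add_eq_zero_left e)) ?_)
    have : ψ (y * y) v = v := by rw [hy2, map_one]; rfl
    rw [map_mul] at this
    change ψ y (ψ y v) = v at this
    rw [map_add, this, add_comm]
  have hz : ∀ y y' : H, y ≠ 1 → y * y = 1 → y' ≠ 1 → y' * y' = 1 → y = y' := fun y y' h1 h2 h3 h4 =>
    (hreg v₀ (-v₀) hv₀ (neg_ne_zero.2 hv₀)).unique (hinvol y h1 h2 v₀) (hinvol y' h3 h4 v₀)
  -- no two elements anticommute
  have hanti : ∀ y x x' : H, y ≠ 1 → y * y = 1 → x * x' = y * (x' * x) → False := by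
    intro y x x' hy hy2 e
    have hmul : ∀ g h v, ψ (g * h) v = ψ g (ψ h v) := fun g h v => by rw [map_mul]; rfl
    have hinj : ∀ g, Function.Injective fun v => ψ g v := fun g v w h => by
      refine sub_eq_zero.1 (hψinj g _ ?_)
      rw [map_sub]; exact sub_eq_zero.2 h
    refine not_anticommute_zmod (iM := AddCommGroup.zmodModule hpV) hp2 hf hV (ψ x : V →+ V) (ψ x' : V →+ V)
      (hinj x) (hinj x') fun v => ?_
    show ψ x (ψ x' v) = -(ψ x' (ψ x v))
    rw [← hmul, e, hmul, hmul, hinvol y hy hy2]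
  -- orders
  have hH : Nat.card H = p ^ f - 1 := by
    have hb : Function.Bijective (fun h : H => (⟨ψ h v₀, fun e => hv₀ (hψinj h v₀ e)⟩ : {v : V // v ≠ 0})) := by
      refine ⟨fun g h e => ?_, fun w => ?_⟩
      · have e' : ψ g v₀ = ψ h v₀ := congrArg Subtype.val e
        exact (hreg v₀ _ hv₀ (fun e0 => hv₀ (hψinj h v₀ e0))).unique e' rfl
      · obtain ⟨h, hh, -⟩ := hreg v₀ w.1 hv₀ w.2
        exact ⟨h, Subtype.ext hh⟩
    let _ := Fintype.ofFinite V
    rw [Nat.card_eq_of_bijective _ hb, Nat.card_eq_fintype_card, Fintype.card_subtype_compl,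
      Fintype.card_subtype_eq, ← Nat.card_eq_fintype_card, hV]
  have h2H : 2 ∣ Nat.card H := by
    obtain ⟨k, hk⟩ := (hp.out.odd_of_ne_two hp2).pow (n := f)
    exact ⟨k, by omega⟩
  have : Fact (Nat.Prime 2) := ⟨Nat.prime_two⟩
  obtain ⟨z, hz2⟩ := exists_prime_orderOf_dvd_card' (G := H) 2 h2H
  have hz1 : z ≠ 1 := fun e => by rw [e, orderOf_one] at hz2; omega
  have hzz : z * z = 1 := by rw [← sq, ← hz2, pow_orderOf_eq_one]
  -- the Sylow subgroup is cyclic
  have T : Sylow 2 H := default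
  have huniq : ∀ A B : Subgroup (T : Subgroup H), Nat.card A = 2 → Nat.card B = 2 → A = B := by
    have key : ∀ A : Subgroup (T : Subgroup H), Nat.card A = 2 → ∃ x : (T : Subgroup H), (x : H) = z ∧ A = Subgroup.zpowers x := by
      intro A hA
      obtain ⟨x, hx⟩ := exists_prime_orderOf_dvd_card' (G := A) 2 hA.symm.dvd
      have hx' : orderOf ((x : (T : Subgroup H)) : H) = 2 := by rw [Subgroup.orderOf_coe, Subgroup.orderOf_coe, hx]
      refine ⟨x, hz _ _ (fun e => by rw [e, orderOf_one] at hx'; omega) (by rw [← sq]; exact orderOf_dvd_iff_pow_eq_one.1 hx'.dvd) hz1 hzz, ?_⟩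
      refine (Subgroup.eq_of_le_of_card_ge (Subgroup.zpowers_le.2 x.2) ?_).symm
      rw [hA, Nat.card_zpowers, Subgroup.orderOf_coe, hx]
    intro A B hA hB
    obtain ⟨x, hx, rfl⟩ := key A hA
    obtain ⟨y, hy, rfl⟩ := key B hB
    rw [show x = y from Subtype.ext (hx.trans hy.symm)]
  have hTc : IsCyclic (T : Subgroup H) := by
    rcases CfsgLib.Core.UniqueOrderP.isCyclic_or_quaternion_of_unique T.isPGroup' huniq with h | ⟨-, n, ⟨e⟩⟩
    · exact h
    rcases n with _ | n
    · refine isCyclic_of_orderOf_eq_card (e.symm (QuaternionGroup.xa 0)) ?_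
      rw [MulEquiv.orderOf_eq, Nat.card_congr e.toEquiv,
        QuaternionGroup.orderOf_xa, Nat.card_eq_fintype_card, QuaternionGroup.card]
      norm_num
    · exfalso
      let x := e.symm (QuaternionGroup.a ((2 ^ n : ℕ) : ZMod (2 * 2 ^ (n + 1))))
      let x' := e.symm (QuaternionGroup.xa (0 : ZMod (2 * 2 ^ (n + 1))))
      let y := e.symm (QuaternionGroup.a ((2 ^ (n + 1) : ℕ) : ZMod (2 * 2 ^ (n + 1))))
      have e0 : ((2 ^ (n + 1) : ℕ) : ZMod (2 * 2 ^ (n + 1))) + ((2 ^ (n + 1) : ℕ) : ZMod (2 * 2 ^ (n + 1))) = 0 := by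
        rw [← Nat.cast_add, ← two_mul, ZMod.natCast_self]
      have e2 : ((2 ^ n : ℕ) : ZMod (2 * 2 ^ (n + 1))) + ((2 ^ n : ℕ) : ZMod (2 * 2 ^ (n + 1))) = ((2 ^ (n + 1) : ℕ) : ZMod (2 * 2 ^ (n + 1))) := by
        rw [← Nat.cast_add]; congr 1; ring
      refine hanti (y : H) (x : H) (x' : H) ?_ ?_ ?_
      · intro h
        have h' : y = 1 := Subtype.ext h
        rw [MulEquiv.map_eq_one_iff] at h'
        injection h' with h''
        rw [ZMod.natCast_eq_zero_iff] at h''
        have := Nat.le_of_dvd (by positivity) h''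
        have := Nat.pos_of_ne_zero (pow_ne_zero (n + 1) (two_ne_zero (α := ℕ)))
        omega
      · rw [← Subgroup.coe_mul, ← map_mul, QuaternionGroup.a_mul_a, e0]
        exact congrArg Subtype.val (map_one e.symm)
      · simp only [x, x', y, ← Subgroup.coe_mul, ← map_mul, QuaternionGroup.a_mul_xa, QuaternionGroup.xa_mul_a]
        congr 3
        linear_combination -e2
  have hTn : Subgroup.normalizer ((T : Subgroup H) : Set H) ≤ Subgroup.centralizer ((T : Subgroup H) : Set H) :=
    IsCyclic.normalizer_le_centralizer (le_antisymm (Nat.minFac_le_of_dvd le_rfl h2H)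
      (Nat.minFac_prime (by
        intro h1; rw [h1] at h2H; norm_num at h2H)).two_le) hTc
  set τ := MonoidHom.transferSylow T hTn
  set M := τ.ker
  have hM2 : ¬ 2 ∣ Nat.card M := MonoidHom.not_dvd_card_ker_transferSylow T hTn
  have hMmem : ∀ g : H, g ∈ M ↔ ¬ 2 ∣ orderOf g := by
    intro g
    refine ⟨fun hg h => hM2 (h.trans ?_), fun hg => MonoidHom.mem_ker.2 ?_⟩
    · have := orderOf_dvd_natCard (⟨g, hg⟩ : M)
      rwa [Subgroup.orderOf_mk] at this
    · obtain ⟨i, hi⟩ := IsPGroup.iff_card.1 T.isPGroup'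
      have h1 : orderOf (τ g) ∣ 2 ^ i := hi ▸ orderOf_dvd_natCard _
      obtain ⟨j, -, hj⟩ := (Nat.dvd_prime_pow Nat.prime_two).1 h1
      rcases Nat.eq_zero_or_pos j with rfl | hj0
      · exact orderOf_eq_one_iff.1 (by simpa using hj)
      · exact absurd (((dvd_pow_self 2 hj0.ne').trans hj.symm.dvd).trans (orderOf_map_dvd τ g)) hg
  have hMσ : ∀ m, m ∈ M → σ m ∈ M := fun m hm => by
    rw [hMmem] at hm ⊢
    rwa [MulEquiv.orderOf_eq]
  have hMinv : ∀ m, m ∈ M → σ m = m⁻¹ := by
    let d : M → M := fun m => ⟨(m : H)⁻¹ * σ m, M.mul_mem (M.inv_mem m.2) (hMσ _ m.2)⟩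
    have hd : Function.Bijective d := (Finite.injective_iff_bijective).1 fun m k e => by
      have e' : (m : H)⁻¹ * σ m = (k : H)⁻¹ * σ k := congrArg Subtype.val e
      set w := (k : H) * (m : H)⁻¹ with hw
      have hwfix : σ w = w := by
        rw [hw, map_mul, map_inv]
        calc σ (k : H) * (σ (m : H))⁻¹ = (k : H) * ((k : H)⁻¹ * σ k) * ((m : H) * ((m : H)⁻¹ * σ m))⁻¹ := by group
          _ = _ := by rw [← e']; group
      have hwM : w ∈ M := M.mul_mem k.2 (M.inv_mem m.2)
      by_contra hne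
      have hw1 : w ≠ 1 := fun h => hne (Subtype.ext (mul_inv_eq_one.1 h).symm)
      have h3 := orderOf_eq_prime (p := 2) (by rw [sq]; exact hfix w hwfix) hw1
      exact (hMmem w).1 hwM h3.symm.dvd
    intro m hm
    obtain ⟨k, hk⟩ := hd.2 ⟨m, hm⟩
    rw [← show (k : H)⁻¹ * σ k = m from congrArg Subtype.val hk, map_mul, map_inv, hσ, mul_inv_rev, inv_inv]
  set C := Subgroup.centralizer (M : Set H) with hC
  have hMC : M ≤ C := by
    intro m hm
    rw [Subgroup.mem_centralizer_iff]
    intro m' hm'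
    have := hMinv (m' * m) (M.mul_mem hm' hm)
    rw [map_mul, hMinv m' hm', hMinv m hm, ← mul_inv_rev, inv_inj] at this
    exact this.symm
  have hu : ∀ t : H, t⁻¹ * σ t ∈ C := by
    intro t
    rw [Subgroup.mem_centralizer_iff]
    intro m hm
    have hn : t * m * t⁻¹ ∈ M := (MonoidHom.normal_ker τ).conj_mem m hm t
    have h1 := hMinv _ hn
    rw [map_mul, map_mul, map_inv, hMinv m hm] at h1
    have h2 : σ t * m * (σ t)⁻¹ = t * m * t⁻¹ := by
      have := congrArg (fun w => w⁻¹) h1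
      simpa [mul_inv_rev, mul_assoc] using this
    calc m * (t⁻¹ * σ t) = t⁻¹ * (t * m * t⁻¹) * σ t := by group
      _ = t⁻¹ * (σ t * m * (σ t)⁻¹) * σ t := by rw [h2]
      _ = t⁻¹ * σ t * m := by group
  have hidx : Nat.card H ≤ 2 * Nat.card C := by
    let _ := Fintype.ofFinite H
    let _ := Fintype.ofFinite C
    rw [Nat.card_eq_fintype_card, Nat.card_eq_fintype_card]
    refine Finset.card_le_mul_card_image_of_maps_to (f := fun t : H => (⟨_, hu t⟩ : C))
      (fun t _ => Finset.mem_univ _) 2 fun c _ => ?_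
    by_cases he : ∃ t₀, (⟨t₀⁻¹ * σ t₀, hu t₀⟩ : C) = c
    · obtain ⟨t₀, ht₀⟩ := he
      refine le_trans (Finset.card_le_card (t := {t₀, z * t₀}) fun t ht => ?_) Finset.card_le_two
      rw [Finset.mem_filter] at ht
      have e' : t⁻¹ * σ t = t₀⁻¹ * σ t₀ := congrArg Subtype.val (ht.2.trans ht₀.symm)
      have hwfix : σ (t * t₀⁻¹) = t * t₀⁻¹ := by
        rw [map_mul, map_inv]
        calc σ t * (σ t₀)⁻¹ = t * (t⁻¹ * σ t) * (t₀ * (t₀⁻¹ * σ t₀))⁻¹ := by group
          _ = _ := by rw [e']; group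
      rw [Finset.mem_insert, Finset.mem_singleton]
      by_cases hw : t * t₀⁻¹ = 1
      · exact Or.inl (mul_inv_eq_one.1 hw)
      · exact Or.inr (mul_inv_eq_iff_eq_mul.1 (hz _ _ hw (hfix _ hwfix) hz1 hzz))
    · rw [Finset.filter_false_of_mem fun t _ e => he ⟨t, e⟩]
      simp
  have hCc : ∀ g ∈ C, ∀ h ∈ C, g * h = h * g := by
    intro g hg h hh
    have key := commutative_of_cyclic_center_quotient (τ.comp C.subtype) (fun w hw => Subgroup.mem_center_iff.2 fun v =>
      Subtype.ext ((Subgroup.mem_centralizer_iff.1 v.2 _ (show (w : H) ∈ M from hw)).symm)) ⟨g, hg⟩ ⟨h, hh⟩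
    exact congrArg Subtype.val key
  by_cases hCtop : C = ⊤
  · exact fun g h => hCc g (hCtop ▸ Subgroup.mem_top g) h (hCtop ▸ Subgroup.mem_top h)
  exfalso
  have hi : C.index = 2 := by
    have h1 := C.card_mul_index
    have h2 : C.index ≠ 1 := fun e => hCtop (Subgroup.index_eq_one.1 e)
    have h3 : C.index ≠ 0 := Subgroup.index_ne_zero_of_finite
    have h4 : C.index ≤ 2 := by
      by_contra h5
      have := Nat.mul_le_mul_left (Nat.card C) (show 3 ≤ C.index by omega)
      have := Nat.card_pos (α := C)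
      omega
    omega
  obtain ⟨t, ht⟩ : ∃ t, t ∉ C := by
    by_contra hno
    push Not at hno
    exact hCtop (Subgroup.eq_top_iff' C |>.2 hno)
  have htt : t * t ∈ C := Subgroup.mul_self_mem_of_index_two hi t
  have hCn : C.Normal := Subgroup.normal_of_index_eq_two hi
  -- the field spanned by `C`
  have hcommS : ∀ x ∈ Set.range (fun g : C => ψ g), ∀ y ∈ Set.range (fun g : C => ψ g), x * y = y * x := by
    rintro _ ⟨g, rfl⟩ _ ⟨h, rfl⟩
    simp only [← map_mul, hCc g g.2 h h.2]
  let R := Subring.closure (Set.range fun g : C => ψ g)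
  let _ : CommRing R := Subring.closureCommRingOfComm hcommS
  have hbig : ∀ U : AddSubgroup V, (∃ w ∈ U, w ≠ 0 ∧ ∀ g : C, ψ g w ∈ U) → U = ⊤ := by
    rintro U ⟨w, hw, hw0, hC'⟩
    have h1 : Nat.card C + 1 ≤ Nat.card U := by
      have hinj : Function.Injective (fun o : Option C => match o with | none => (0 : U) | some g => ⟨ψ g w, hC' g⟩) := by
        intro o o' e
        rcases o with _ | g <;> rcases o' with _ | g' <;> simp only [Subtype.ext_iff] at e
        · rfl
        · exact absurd (hψinj _ _ e.symm) hw0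
        · exact absurd (hψinj _ _ e) hw0
        · exact congrArg some (Subtype.ext ((hreg w (ψ g' w) hw0 (fun e0 => hw0 (hψinj _ _ e0))).unique e rfl))
      have := Nat.card_le_card_of_injective _ hinj
      rwa [Finite.card_option] at this
    have h2 := U.card_addSubgroup_dvd_card
    rw [hV] at h2
    obtain ⟨i, hi', hU⟩ := (Nat.dvd_prime_pow hp.out).1 h2
    apply AddSubgroup.eq_top_of_card_eq
    rw [hV, hU]
    congr 1
    by_contra hne
    have h3 : p * p ^ i ≤ p ^ f := by
      rw [← pow_succ']; exact Nat.pow_le_pow_right hp.out.pos (by omega)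
    have h4 : 3 * p ^ i ≤ p * p ^ i := Nat.mul_le_mul_right _ (by have := hp.out.two_le; omega)
    have h5 := C.card_mul_index
    rw [hi, hH] at h5
    omega
  have hkill : ∀ r ∈ R, ∀ v, v ≠ 0 → r v = 0 → r = 0 := by
    intro r hr v hv h0
    have hker : AddMonoidHom.ker r = ⊤ := by
      refine hbig _ ⟨v, h0, hv, fun g => ?_⟩
      have hc : r * ψ g = ψ g * r :=
        congrArg Subtype.val (mul_comm (⟨r, hr⟩ : R) ⟨ψ g, Subring.subset_closure ⟨g, rfl⟩⟩)
      have := DFunLike.congr_fun hc v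
      change r (ψ g v) = ψ g (r v) at this
      rw [h0, map_zero] at this
      exact this
    exact AddMonoidHom.ext fun (w : V) => (hker.symm ▸ AddSubgroup.mem_top w : w ∈ AddMonoidHom.ker r)
  let ev : R →+ V := { toFun := fun r => (r : AddMonoid.End V) v₀, map_zero' := rfl, map_add' := fun _ _ => rfl }
  have hev : Function.Bijective ev := by
    refine ⟨(injective_iff_map_eq_zero ev).2 fun r h => Subtype.ext (hkill _ r.2 v₀ hv₀ h), fun v => ?_⟩
    have htop : ev.range = ⊤ := hbig _ ⟨v₀, ⟨1, rfl⟩, hv₀, fun g => ⟨⟨ψ g, Subring.subset_closure ⟨g, rfl⟩⟩, rfl⟩⟩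
    exact (htop.symm ▸ AddSubgroup.mem_top v : v ∈ ev.range)
  have : Finite R := Finite.of_injective ev hev.1
  have hRcard : Nat.card R = p ^ f := by rw [Nat.card_eq_of_bijective ev hev, hV]
  have hconj : ∀ r ∈ R, ψ t * r * ψ t⁻¹ ∈ R := by
    intro r hr
    have e1 : ψ t⁻¹ * ψ t = 1 := by rw [← map_mul, inv_mul_cancel, map_one]
    induction hr using Subring.closure_induction with
    | mem x hx =>
      obtain ⟨g, rfl⟩ := hx
      refine Subring.subset_closure ⟨⟨t * g * t⁻¹, hCn.conj_mem _ g.2 t⟩, ?_⟩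
      simp only [map_mul]
    | zero => rw [mul_zero, zero_mul]; exact R.zero_mem
    | one => rw [mul_one, ← map_mul, mul_inv_cancel, map_one]; exact R.one_mem
    | add x y _ _ hx hy => rw [mul_add, add_mul]; exact R.add_mem hx hy
    | neg x _ hx =>
      rw [show ψ t * -x = -(ψ t * x) from mul_neg (α := AddMonoid.End V) _ _,
        show -(ψ t * x) * ψ t⁻¹ = -(ψ t * x * ψ t⁻¹) from neg_mul (α := AddMonoid.End V) _ _]
      exact R.neg_mem hx
    | mul x y _ _ hx hy =>
      have : ψ t * (x * y) * ψ t⁻¹ = (ψ t * x * ψ t⁻¹) * (ψ t * y * ψ t⁻¹) := by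
        simp only [mul_assoc]
        rw [← mul_assoc (ψ t⁻¹) (ψ t), e1, one_mul]
      rw [this]; exact R.mul_mem hx hy
  let τR : R →+* R :=
    { toFun := fun r => ⟨_, hconj r r.2⟩
      map_zero' := Subtype.ext (by show ψ t * 0 * ψ t⁻¹ = 0; rw [mul_zero, zero_mul])
      map_one' := Subtype.ext (by show ψ t * 1 * ψ t⁻¹ = 1; rw [mul_one, ← map_mul, mul_inv_cancel, map_one])
      map_add' := fun r r' => Subtype.ext (by
        show ψ t * ((r : AddMonoid.End V) + r') * ψ t⁻¹ = _
        rw [mul_add, add_mul]; rfl)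
      map_mul' := fun r r' => Subtype.ext (by
        show ψ t * ((r : AddMonoid.End V) * r') * ψ t⁻¹ = ψ t * r * ψ t⁻¹ * (ψ t * r' * ψ t⁻¹)
        have e1 : ψ t⁻¹ * ψ t = 1 := by rw [← map_mul, inv_mul_cancel, map_one]
        simp only [mul_assoc]
        rw [← mul_assoc (ψ t⁻¹) (ψ t), e1, one_mul]) }
  have hττ : ∀ r, τR (τR r) = r := by
    intro r
    apply Subtype.ext
    show ψ t * (ψ t * (r : AddMonoid.End V) * ψ t⁻¹) * ψ t⁻¹ = r
    have hc : ψ (t * t) * (r : AddMonoid.End V) = r * ψ (t * t) :=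
      congrArg Subtype.val (mul_comm (⟨ψ (t * t), Subring.subset_closure ⟨⟨_, htt⟩, rfl⟩⟩ : R) r)
    calc ψ t * (ψ t * (r : AddMonoid.End V) * ψ t⁻¹) * ψ t⁻¹
        = ψ (t * t) * (r : AddMonoid.End V) * ψ (t⁻¹ * t⁻¹) := by simp only [map_mul, mul_assoc]
      _ = (r : AddMonoid.End V) * ψ (t * t * (t⁻¹ * t⁻¹)) := by rw [hc, map_mul ψ (t * t), mul_assoc]
      _ = r := by rw [show t * t * (t⁻¹ * t⁻¹) = 1 by group, map_one, mul_one]
  -- `t` moves some scalar
  obtain ⟨x, hx⟩ : ∃ x, τR x ≠ x := by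
    by_contra hno
    push Not at hno
    refine ht (Subgroup.mem_centralizer_iff.2 fun m hm => ?_)
    have h1 : ψ t * ψ m * ψ t⁻¹ = ψ m :=
      congrArg Subtype.val (hno ⟨ψ m, Subring.subset_closure ⟨⟨m, hMC hm⟩, rfl⟩⟩)
    have h2 : t * m * t⁻¹ = m := by
      refine (hreg v₀ (ψ m v₀) hv₀ (fun e => hv₀ (hψinj m v₀ e))).unique ?_ rfl
      rw [map_mul, map_mul, h1]
    exact (mul_inv_eq_iff_eq_mul.1 h2).symm
  have : Nontrivial R := ⟨_, _, hx⟩
  have : NoZeroDivisors R := ⟨fun {r r'} hxy => by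
    rw [or_iff_not_imp_right]
    intro hy
    have hy' : (r' : AddMonoid.End V) v₀ ≠ 0 := fun e => hy (hev.1 (e.trans rfl))
    exact Subtype.ext (hkill _ r.2 _ hy' (DFunLike.congr_fun (congrArg Subtype.val hxy) v₀))⟩
  have : IsDomain R := NoZeroDivisors.to_isDomain R
  let _ : Field R := (Finite.isDomain_to_isField R).toField
  let E := {r : R // τR r = r}
  have hd : x - τR x ≠ 0 := sub_ne_zero.2 (Ne.symm hx)
  have hb : Function.Bijective (fun uv : E × E => uv.1.1 + uv.2.1 * x) := by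
    refine ⟨fun uv uv' e => ?_, fun y => ?_⟩
    · simp only at e
      have e' := congrArg τR e
      rw [map_add, map_add, map_mul, map_mul, uv.1.2, uv.2.2, uv'.1.2, uv'.2.2] at e'
      have h1 : (uv.2.1 - uv'.2.1) * (x - τR x) = 0 := by linear_combination e - e'
      have h2 := sub_eq_zero.1 ((mul_eq_zero.1 h1).resolve_right hd)
      exact Prod.ext (Subtype.ext (by rw [h2] at e; linear_combination e)) (Subtype.ext h2)
    · set v := (y - τR y) / (x - τR x) with hv
      have hv' : τR v = v := by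
        rw [hv, map_div₀, map_sub, map_sub, hττ, hττ, ← neg_sub y, ← neg_sub x, neg_div_neg_eq]
      refine ⟨(⟨y - v * x, ?_⟩, ⟨v, hv'⟩), by simp⟩
      rw [map_sub, map_mul, hv']
      have : v * (x - τR x) = y - τR y := by rw [hv, div_mul_cancel₀ _ hd]
      linear_combination this
  have hE : Nat.card E * Nat.card E = p ^ f := by
    rw [← Nat.card_prod, Nat.card_eq_of_bijective _ hb, hRcard]
  obtain ⟨i, -, hE'⟩ := (Nat.dvd_prime_pow hp.out).1 ⟨Nat.card E, hE.symm⟩
  rw [hE', ← pow_add] at hE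
  have := Nat.pow_right_injective hp.out.two_le hE
  obtain ⟨k, hk⟩ := hf
  omega

/-- A sharply triply transitive group of degree `p^f + 1`, `p` an odd prime and `f` odd, is isomorphic to the projective general linear group of degree 2 over the field with `p^f` elements (for even `f` there is a second, twisted, group). -/
theorem result {α : Type*} [Fintype α] [DecidableEq α] {p f : ℕ} (hp : p.Prime) (hp2 : p ≠ 2) (hfo : Odd f) (hα : Fintype.card α = p ^ f + 1) (G : Subgroup (Equiv.Perm α)) (h3 : MulAction.IsMultiplyPretransitive G α 3) (hsharp : ∀ x : Fin 3 ↪ α, MulAction.stabilizer G x = ⊥) : ∃ (F : Type) (_ : Field F) (_ : Fintype F), Fintype.card F = p ^ f ∧ Nonempty (G ≃* Matrix.ProjGenLinGroup (Fin 2) F) := by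
  classical
  have hp3 : 3 ≤ p := by have := hp.two_le; omega
  have hcard3 : 2 < Fintype.card α := by
    have : p ≤ p ^ f := Nat.le_self_pow hfo.pos.ne' p
    omega
  obtain ⟨a, b, c, hab, hac, hbc⟩ := Fintype.two_lt_card_iff.1 hcard3
  obtain ⟨s, hsa, hsb, hsc⟩ := exists_triple h3 hab hac hbc hab.symm hbc hac
  have hs2 : s * s = 1 := eq_one_of_fix hsharp hab hac hbc
    (by rw [mul_smul, hsa, hsb]) (by rw [mul_smul, hsb, hsa]) (by rw [mul_smul, hsc, hsc])
  have hsinv : s⁻¹ = s := inv_eq_of_mul_eq_one_right hs2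
  have hfix : ∀ h : G, h • a = a → h • b = b → s * h * s⁻¹ = h → h * h = 1 := by
    intro h ha hb e
    refine eq_one_of_fix hsharp hab hac hbc (by rw [mul_smul, ha, ha]) (by rw [mul_smul, hb, hb]) ?_
    have hs' : ∀ g : G, s * g = g * s → s • g • c = g • c := fun g hg => by
      rw [smul_smul, hg, mul_smul, hsc]
    have hcm : s * h = h * s := mul_inv_eq_iff_eq_mul.1 e
    by_cases h1 : h • c = c
    · rw [mul_smul, h1, h1]
    by_contra h2
    have hfix2 : s • (h * h) • c = (h * h) • c := hs' _ (by rw [← mul_assoc, hcm, mul_assoc, hcm, mul_assoc])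
    have : s = 1 := eq_one_of_fix hsharp (Ne.symm h1) (Ne.symm h2) (fun e3 => h1 (by
      rw [mul_smul] at e3; exact (MulAction.injective h e3).symm)) hsc (hs' h hcm) hfix2
    rw [this, one_smul] at hsa
    exact hab hsa
  obtain ⟨p', f', V, _, ψ, hp', hαp, hV, hpV, hreg⟩ := exists_rep h3 hsharp hab hac hbc
  have := Fact.mk hp'
  have hpp : p ^ f = p' ^ f' := by omega
  have hpe : p' = p := by
    have h1 : p' ∣ p ^ f := hpp ▸ dvd_pow_self p' (fun h => by rw [h, pow_zero] at hpp; have : p ≤ p ^ f := Nat.le_self_pow hfo.pos.ne' p; omega)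
    exact (Nat.prime_dvd_prime_iff_eq hp' hp).1 (hp'.dvd_of_dvd_pow h1)
  subst hpe
  have hfe : f' = f := (Nat.pow_right_injective hp'.two_le hpp).symm
  subst hfe
  let H : Subgroup G := MulAction.stabilizer G a ⊓ MulAction.stabilizer G b
  have hconj : ∀ h : H, s * (h : G) * s⁻¹ ∈ H := fun h => by
    rw [hsinv]
    exact ⟨by show (s * (h : G) * s) • a = a; rw [mul_smul, mul_smul, hsa, h.2.2, hsb],
      by show (s * (h : G) * s) • b = b; rw [mul_smul, mul_smul, hsb, h.2.1, hsa]⟩
  have hinv2 : ∀ g : G, s * (s * g * s⁻¹) * s⁻¹ = g := fun g => by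
    rw [hsinv, ← mul_assoc, ← mul_assoc, hs2, one_mul, mul_assoc, hs2, mul_one]
  let σ : H ≃* H :=
    { toFun := fun h => ⟨_, hconj h⟩
      invFun := fun h => ⟨_, hconj h⟩
      left_inv := fun h => Subtype.ext (hinv2 h)
      right_inv := fun h => Subtype.ext (hinv2 h)
      map_mul' := fun h k => Subtype.ext (by
        show s * ((h : G) * (k : G)) * s⁻¹ = (s * (h : G) * s⁻¹) * (s * (k : G) * s⁻¹)
        group) }
  have hcomm := comm_of_odd hp2 hfo hV hpV ψ hreg σ (fun h => Subtype.ext (hinv2 h))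
    (fun h e => Subtype.ext (hfix h h.2.1 h.2.2 (congrArg Subtype.val e)))
  obtain ⟨p₁, j, hp₁, hpj, ⟨e⟩⟩ := iso_pgl' h3 hsharp hab hac hbc hsa hsb hsc
    (fun h k ha hb ka kb => congrArg Subtype.val (hcomm ⟨h, ha, hb⟩ ⟨k, ka, kb⟩)) hfix
  let _ := Fintype.ofFinite (GaloisField p₁ j)
  refine ⟨GaloisField p₁ j, inferInstance, inferInstance, ?_, ⟨e⟩⟩
  have hj : j ≠ 0 := fun h => by
    rw [h, pow_zero] at hpj
    omega
  rw [← Nat.card_eq_fintype_card, GaloisField.card p₁ j hj]
  omega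

end Cfsg.Agent.S0730
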