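import Cfsg.Statements.S3732
import Cfsg.Agent.Lib.Plane.Coordinatize
import Cfsg.Agent.Lib.Plane.TwoTrans

set_option autoImplicit false
open Cfsg

namespace Cfsg.Agent.S3732

open Configuration CfsgLib.Plane

section Transport

variable {P L : Type*} [Membership P L] [Fintype P] [Fintype L]

/-- The points on a copy of the plane in the lowest universe. -/
def Pt (P : Type*) [Fintype P] : Type := Fin (Fintype.card P)

instance : Finite (Pt P) := inferInstanceAs (Finite (Fin (Fintype.card P)))

/-- The bijection with the copy. -/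
noncomputable def eP (P : Type*) [Fintype P] : P ≃ Pt P := Fintype.equivFin P

instance : Membership (Pt P) (Pt L) := ⟨fun l p => (eP P).symm p ∈ (eP L).symm l⟩

theorem mem_pt {p : P} {l : L} : eP P p ∈ eP L l ↔ p ∈ l := by
  show (eP P).symm (eP P p) ∈ (eP L).symm (eP L l) ↔ _
  rw [Equiv.symm_apply_apply, Equiv.symm_apply_apply]

variable [ProjectivePlane P L]

noncomputable instance : ProjectivePlane (Pt P) (Pt L) where
  exists_point l := by
    obtain ⟨p, hp⟩ := exists_point_not_mem (P := P) ((eP L).symm l)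
    exact ⟨eP P p, fun h => hp (by simpa using (show (eP P).symm (eP P p) ∈ (eP L).symm l from h))⟩
  exists_line p := by
    obtain ⟨l, hl⟩ := exists_line_not_mem (L := L) ((eP P).symm p)
    exact ⟨eP L l, fun h => hl (by simpa using (show (eP P).symm p ∈ (eP L).symm (eP L l) from h))⟩
  eq_or_eq {p₁ p₂ l₁ l₂} h1 h2 h3 h4 :=
    (Nondegenerate.eq_or_eq (p₁ := (eP P).symm p₁) (p₂ := (eP P).symm p₂) (l₁ := (eP L).symm l₁)
      (l₂ := (eP L).symm l₂) h1 h2 h3 h4).imp (fun e => (eP P).symm.injective e) (fun e => (eP L).symm.injective e)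
  mkPoint {l m} h := eP P (meet ((eP L).symm l) ((eP L).symm m))
  mkPoint_ax {l m} h := by
    have hne : (eP L).symm l ≠ (eP L).symm m := fun e => h ((eP L).symm.injective e)
    constructor
    · show (eP P).symm (eP P _) ∈ (eP L).symm l
      rw [Equiv.symm_apply_apply]; exact meet_left hne
    · show (eP P).symm (eP P _) ∈ (eP L).symm m
      rw [Equiv.symm_apply_apply]; exact meet_right hne
  mkLine {p q} h := eP L (join ((eP P).symm p) ((eP P).symm q))
  mkLine_ax {p q} h := by
    have hne : (eP P).symm p ≠ (eP P).symm q := fun e => h ((eP P).symm.injective e)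
    constructor
    · show (eP P).symm p ∈ (eP L).symm (eP L _)
      rw [Equiv.symm_apply_apply]; exact join_left hne
    · show (eP P).symm q ∈ (eP L).symm (eP L _)
      rw [Equiv.symm_apply_apply]; exact join_right hne
  exists_config := by
    obtain ⟨p₁, p₂, p₃, l₁, l₂, l₃, h⟩ := ProjectivePlane.exists_config (P := P) (L := L)
    exact ⟨eP P p₁, eP P p₂, eP P p₃, eP L l₁, eP L l₂, eP L l₃, by simpa only [mem_pt] using h⟩

end Transport

/-- The Ostrom–Wagner Theorem. Let Π be a finite projective plane (points P, lines L) whose collineation group is 2-transitive on points: for any two ordered pairs of distinct points there is a permutation of the points, together with a compatible permutation of the lines preserving incidence, carrying the first pair to the second. Then Π is Desarguesian: there is a finite field F and a bijection from P onto the points of the projective plane over F (the 1-dimensional subspaces of F³) under which the lines of Π correspond exactly to the 2-dimensional subspaces of F³. -/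
theorem result
    {P L : Type*} [Membership P L] [Fintype P] [Fintype L] [Configuration.ProjectivePlane P L]
    (h2t : ∀ p₁ p₂ q₁ q₂ : P, p₁ ≠ p₂ → q₁ ≠ q₂ →
      ∃ (σ : Equiv.Perm P) (τ : Equiv.Perm L), (∀ (p : P) (l : L), σ p ∈ τ l ↔ p ∈ l) ∧ σ p₁ = q₁ ∧ σ p₂ = q₂) :
    ∃ (F : Type) (_ : Field F) (_ : Fintype F) (φ : P ≃ Projectivization F (Fin 3 → F)),
      (∀ l : L, ∃ W : Submodule F (Fin 3 → F), Module.finrank F W = 2 ∧
          ∀ p : P, p ∈ l ↔ (φ p).submodule ≤ W) ∧
      (∀ W : Submodule F (Fin 3 → F), Module.finrank F W = 2 →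
          ∃ l : L, ∀ p : P, p ∈ l ↔ (φ p).submodule ≤ W) := by
  have : Finite (Coll (Pt P) (Pt L)) := inferInstance
  have h2 : TwoTrans (Coll (Pt P) (Pt L)) (Pt P) := by
    intro a b c d hab hcd
    obtain ⟨σ, τ, h, ha, hb⟩ := h2t ((eP P).symm a) ((eP P).symm b) ((eP P).symm c) ((eP P).symm d)
      (fun e => hab ((eP P).symm.injective e)) (fun e => hcd ((eP P).symm.injective e))
    refine ⟨⟨((eP P).permCongr σ, (eP L).permCongr τ), fun p l => ?_⟩, ?_, ?_⟩
    · show (eP P).symm ((eP P).permCongr σ p) ∈ (eP L).symm ((eP L).permCongr τ l) ↔ _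
      rw [Equiv.permCongr_apply, Equiv.permCongr_apply, Equiv.symm_apply_apply, Equiv.symm_apply_apply]
      exact h _ _
    · show (eP P).permCongr σ a = c
      rw [Equiv.permCongr_apply, ha, Equiv.apply_symm_apply]
    · show (eP P).permCongr σ b = d
      rw [Equiv.permCongr_apply, hb, Equiv.apply_symm_apply]
  have := faithful_dual (G := Coll (Pt P) (Pt L)) (P := Pt P) (L := Pt L)
  have hall : AllTrans (Coll (Pt P) (Pt L)) (Pt P) (Pt L) := card_elat_eq_sq_of_twoTrans h2
  have hallD : AllTrans (Coll (Pt P) (Pt L)) (Dual (Pt L)) (Dual (Pt P)) :=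
    card_elat_eq_sq_of_twoTrans (P := Dual (Pt L)) (L := Dual (Pt P)) h2.dual
  obtain ⟨O, Y, H, l, vy, vh, f⟩ := exists_frame (P := Pt P) (L := Pt L)
  obtain ⟨F, hF, hFt, ⟨C⟩⟩ := f.exists_coords hall hallD
  obtain ⟨φ, h1, h3⟩ := C.desarguesian
  refine ⟨F, hF, hFt, (eP P).trans φ, fun m => ?_, fun W hW => ?_⟩
  · obtain ⟨W, hW, h⟩ := h1 (eP L m)
    exact ⟨W, hW, fun p => mem_pt.symm.trans (h (eP P p))⟩
  · obtain ⟨m, h⟩ := h3 W hW
    refine ⟨(eP L).symm m, fun p => ?_⟩
    rw [← mem_pt (p := p), Equiv.apply_symm_apply]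
    exact h (eP P p)

end Cfsg.Agent.S3732
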