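import Cfsg.Statements.S0719
import Cfsg.Agent.Lib.Perm.OrbitalOp

set_option autoImplicit false
open Cfsg

namespace Cfsg.Agent.S0719

open MulAction

theorem rel_congr {G : Type*} [Group G] {Ω : Type*} [MulAction G Ω] {a b a' b' : Ω}
    (h : CfsgLib.Perm.OrbitalOp.Rel G a b a' b') (x y : Ω) :
    CfsgLib.Perm.OrbitalOp.Rel G a' b' x y ↔ CfsgLib.Perm.OrbitalOp.Rel G a b x y := by
  obtain ⟨k, rfl, rfl⟩ := h
  constructor
  · rintro ⟨g, hg, hg'⟩
    exact ⟨g * k, by rw [mul_smul, hg], by rw [mul_smul, hg']⟩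
  · rintro ⟨g, hg, hg'⟩
    exact ⟨g * k⁻¹, by rw [mul_smul, inv_smul_smul, hg], by rw [mul_smul, inv_smul_smul, hg']⟩

/-- The integer arithmetic. -/
theorem solve {k m r t c : ℤ} (hm : 2 ≤ m) (hk : 2 ≤ k) (hk' : k + 3 ≤ 2 * m) (hr : r = k + m * t)
    (hq : r * r = t * r + c) (hrow : k * k = c + t * k + 2 * m * (k - c)) :
    ∃ a : ℤ, 0 < a ∧ m = 2 * a ^ 2 + 2 * a + 1 ∧ (k = a * (2 * a + 1) ∨ k = (a + 1) * (2 * a + 1)) := by
  have hsq : k ^ 2 + (m - 1) * r ^ 2 + m * (t - r) ^ 2 = 2 * m * k := by
    linear_combination (2 * m - 1) * hq + hrow - t * hr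
  have hsr : 0 ≤ m * (t - r) ^ 2 := mul_nonneg (by omega) (sq_nonneg _)
  have hb : (m - 1) * r ^ 2 ≤ k * (2 * m - k) := by nlinarith
  have ht : t = -1 := by
    rcases lt_trichotomy t (-1) with h | h | h
    · exfalso
      have h1 : m * t ≤ -2 * m := by nlinarith
      have h2 : r ≤ k - 2 * m := by linarith
      have h3 : (2 * m - k) ^ 2 ≤ r ^ 2 := by nlinarith
      have h4 : (m - 1) * (2 * m - k) ^ 2 ≤ k * (2 * m - k) :=
        le_trans (mul_le_mul_of_nonneg_left h3 (by omega)) hb
      have h5 : (m - 1) * (2 * m - k) ≤ k := by nlinarith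
      have h6 : (m - 1) * 3 ≤ (m - 1) * (2 * m - k) := mul_le_mul_of_nonneg_left (by omega) (by omega)
      linarith
    · exact h
    · exfalso
      have h1 : 0 ≤ m * t := mul_nonneg (by omega) (by omega)
      have h2 : k ≤ r := by linarith
      have h3 : k ^ 2 ≤ r ^ 2 := by nlinarith
      rcases (show t = 0 ∨ 1 ≤ t by omega) with rfl | ht1
      · have hrk : r = k := by linarith
        subst hrk
        have h4 : r ^ 2 * (2 * m) = 2 * m * r := by nlinarith
        have h7 : (2 * m * r) * (r - 1) = 0 := by linear_combination h4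
        rcases mul_eq_zero.1 h7 with h8 | h8
        · nlinarith
        · omega
      · have h5 : k + m ≤ r := by nlinarith
        have h6 : (k + m) ^ 2 ≤ r ^ 2 := by nlinarith
        have h8 : k * (2 * m - k) < (k + m) ^ 2 := by nlinarith
        nlinarith [mul_le_mul_of_nonneg_left h6 (show (0 : ℤ) ≤ m - 1 by omega)]
  subst ht
  have hmu : m = 2 * (m - k) ^ 2 - 2 * (m - k) + 1 := by
    have h0 : m * (2 * (m - k) ^ 2 - 2 * (m - k) + 1 - m) = 0 := by
      subst hr
      linear_combination hsq
    rcases mul_eq_zero.1 h0 with h1 | h1 <;> omega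
  rcases lt_or_ge (m - k) 1 with hu | hu
  · refine ⟨k - m, ?_, by linear_combination hmu, Or.inr (by linear_combination hmu)⟩
    rcases (show k - m = 0 ∨ 0 < k - m by omega) with h | h
    · have : m - k = 0 := by omega
      rw [this] at hmu
      omega
    · exact h
  · refine ⟨m - k - 1, ?_, by linear_combination hmu, Or.inl (by linear_combination hmu)⟩
    rcases (show m - k = 1 ∨ 0 < m - k - 1 by omega) with h | h
    · rw [h] at hmu
      omega
    · exact h

/-- Groups of Wielandt type: if a primitive group of degree `2m` has rank 3 and permutation character `1 + χ₁ + χ₂` with irreducible `χ₁, χ₂` of degrees `m - 1` and `m`, then `m = 2a² + 2a + 1` for some positive integer `a` and the two non-trivial subdegrees are `a(2a+1)` and `(a+1)(2a+1)`. -/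
theorem result {G : Type*} [Group G] [Fintype G] {Ω : Type*} [Fintype Ω] [MulAction G Ω] (hprim : MulAction.IsPreprimitive G Ω) {m : ℕ} (hm : Fintype.card Ω = 2 * m) (a₀ : Ω) (hrank : Nat.card (MulAction.orbitRel.Quotient (MulAction.stabilizer G a₀) Ω) = 3) (χ₁ χ₂ : G → ℂ) (h₁ : Cfsg.IsIrrCharacter G χ₁) (h₂ : Cfsg.IsIrrCharacter G χ₂) (hπ : (fun g : G => (Nat.card (MulAction.fixedBy Ω g) : ℂ)) = fun g => 1 + χ₁ g + χ₂ g) (hd₁ : χ₁ 1 = (m : ℂ) - 1) (hd₂ : χ₂ 1 = m) : ∃ a : ℕ, 0 < a ∧ m = 2 * a ^ 2 + 2 * a + 1 ∧ ∀ b : Ω, b ≠ a₀ → Nat.card (MulAction.orbit (MulAction.stabilizer G a₀) b) = a * (2 * a + 1) ∨ Nat.card (MulAction.orbit (MulAction.stabilizer G a₀) b) = (a + 1) * (2 * a + 1) := by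
  classical
  haveI := hprim
  haveI := Fintype.ofFinite (Cfsg.IrrCharacter G)
  haveI : Nonempty Ω := ⟨a₀⟩
  -- degrees
  have hm2 : 2 ≤ m := by
    obtain ⟨n, σ, hσ, hσc⟩ := h₁
    have := CfsgLib.Char.finrank_pos_of_irreducible σ
    rw [← hσc, Representation.char_one] at hd₁
    have : ((m : ℂ)) = ((Module.finrank ℂ (Fin n → ℂ) + 1 : ℕ) : ℂ) := by push_cast; linear_combination -hd₁
    rw [Nat.cast_inj] at this
    omega
  obtain ⟨μ, hμ, hμ1, hμc⟩ := CfsgLib.Perm.CentralizerRing.exists_perm_decomp (G := G) (Ω := Ω)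
  set tr := CfsgLib.Char.trivChar G with htr_def
  set c₁ : Cfsg.IrrCharacter G := ⟨χ₁, h₁⟩
  set c₂ : Cfsg.IrrCharacter G := ⟨χ₂, h₂⟩
  have hμval : ∀ χ : Cfsg.IrrCharacter G, (μ χ : ℂ) =
      (if tr = χ then 1 else 0) + (if c₁ = χ then 1 else 0) + (if c₂ = χ then 1 else 0) := by
    intro χ
    rw [← hμc, hπ, ← CfsgLib.Char.classInner_irr, ← CfsgLib.Char.classInner_irr,
      ← CfsgLib.Char.classInner_irr, ← CfsgLib.Char.classInner_add_left,
      ← CfsgLib.Char.classInner_add_left]
    rfl
  have hc12 : c₁ ≠ c₂ := fun e => by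
    have h3 := congrArg (fun χ : Cfsg.IrrCharacter G => (χ : G → ℂ) 1) e
    simp only [c₁, c₂] at h3
    rw [hd₁, hd₂] at h3
    exact one_ne_zero (α := ℂ) (by linear_combination -h3)
  have hc1 : c₁ ≠ tr := fun e => by
    have h3 := hμval tr
    rw [hμ1, if_pos rfl, if_pos e] at h3
    split_ifs at h3 <;> norm_num at h3
  have hc2 : c₂ ≠ tr := fun e => by
    have h3 := hμval tr
    rw [hμ1, if_pos rfl, if_pos e, if_neg hc1] at h3
    norm_num at h3
  -- the key claim for one suborbit
  suffices key : ∀ b : Ω, b ≠ a₀ → ∃ a : ℕ, 0 < a ∧ m = 2 * a ^ 2 + 2 * a + 1 ∧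
      (Nat.card (orbit (stabilizer G a₀) b) = a * (2 * a + 1) ∨
        Nat.card (orbit (stabilizer G a₀) b) = (a + 1) * (2 * a + 1)) by
    haveI : Nontrivial Ω := Fintype.one_lt_card_iff_nontrivial.1 (by omega)
    obtain ⟨b₀, hb₀⟩ := exists_ne a₀
    obtain ⟨a, ha, hma, -⟩ := key b₀ hb₀
    refine ⟨a, ha, hma, fun b hb => ?_⟩
    obtain ⟨a', ha', hma', hk⟩ := key b hb
    have : a' = a := by
      rcases lt_trichotomy a' a with h | h | h
      · nlinarith
      · exact h
      · nlinarith
    rwa [this] at hk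
  intro b hb
  set a := a₀ with haa
  -- the three suborbits
  haveI := Fintype.ofFinite (orbitRel.Quotient (stabilizer G a) Ω)
  set q : Ω → orbitRel.Quotient (stabilizer G a) Ω := Quotient.mk'' with hq
  have hqeq : ∀ x y, q x = q y ↔ CfsgLib.Perm.OrbitalOp.Rel G a y a x := by
    intro x y
    constructor
    · intro h
      obtain ⟨g, hg⟩ := MulAction.orbitRel_apply.1 (Quotient.exact' h)
      exact ⟨g, g.2, hg⟩
    · rintro ⟨g, hga, hgy⟩
      exact Quotient.sound' (MulAction.orbitRel_apply.2 ⟨⟨g, hga⟩, hgy⟩)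
  have hqa : ∀ x, q x = q a → x = a := fun x h => by
    obtain ⟨g, hga, hgx⟩ := (hqeq x a).1 h
    exact hgx.symm.trans hga
  obtain ⟨c, hca, hcb⟩ : ∃ c, q c ≠ q a ∧ q c ≠ q b := by
    by_contra hno
    push Not at hno
    have : (Finset.univ : Finset (orbitRel.Quotient (stabilizer G a) Ω)) ⊆ {q a, q b} := by
      intro o _
      induction o using Quotient.inductionOn' with
      | h x => by_cases hx : q x = q a
               · exact Finset.mem_insert.2 (Or.inl hx)
               · exact Finset.mem_insert_of_mem (Finset.mem_singleton.2 (hno x hx))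
    have := Finset.card_le_card this
    rw [Finset.card_univ, ← Nat.card_eq_fintype_card, hrank] at this
    have := Finset.card_le_two (a := q a) (b := q b)
    omega
  have hcne : c ≠ a := fun e => hca (by rw [e])
  have hqba : q b ≠ q a := fun h => hb (hqa b h)
  have hquniv : (Finset.univ : Finset (orbitRel.Quotient (stabilizer G a) Ω)) = {q a, q b, q c} := by
    refine (Finset.eq_univ_of_card _ ?_).symm
    rw [← Nat.card_eq_fintype_card, hrank, Finset.card_eq_three]
    exact ⟨_, _, _, Ne.symm hqba, Ne.symm hca, Ne.symm hcb, rfl⟩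
  let R := CfsgLib.Perm.OrbitalOp.Rel G a b
  let R' := CfsgLib.Perm.OrbitalOp.Rel G a c
  have hRne : ∀ x, ¬ R x x := fun x ⟨g, h1, h2⟩ => hb (MulAction.injective g (h2.trans h1.symm))
  have hR'ne : ∀ x, ¬ R' x x := fun x ⟨g, h1, h2⟩ => hcne (MulAction.injective g (h2.trans h1.symm))
  have hexcl : ∀ x y, R x y → ¬ R' x y := by
    rintro x y ⟨g, h1, h2⟩ ⟨g', h1', h2'⟩
    refine hcb ((hqeq c b).2 ⟨g'⁻¹ * g, ?_, ?_⟩)
    · rw [mul_smul, h1, inv_smul_eq_iff, h1']
    · rw [mul_smul, h2, inv_smul_eq_iff, h2']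
  have htri : ∀ x y, x ≠ y → R x y ∨ R' x y := by
    intro x y hxy
    obtain ⟨g, hg⟩ := exists_smul_eq G a x
    have hm : q (g⁻¹ • y) ∈ ({q a, q b, q c} : Finset _) := hquniv ▸ Finset.mem_univ _
    simp only [Finset.mem_insert, Finset.mem_singleton] at hm
    rcases hm with h | h | h
    · exact absurd (by rw [← hg, ← inv_smul_eq_iff.1 (hqa _ h)]) hxy
    · obtain ⟨k, hk1, hk2⟩ := (hqeq _ _).1 h
      exact Or.inl ⟨g * k, by rw [mul_smul, hk1, hg], by rw [mul_smul, hk2, smul_inv_smul]⟩
    · obtain ⟨k, hk1, hk2⟩ := (hqeq _ _).1 h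
      exact Or.inr ⟨g * k, by rw [mul_smul, hk1, hg], by rw [mul_smul, hk2, smul_inv_smul]⟩
  set k := Nat.card (orbit (stabilizer G a) b) with hkdef
  set l := Nat.card (orbit (stabilizer G a) c) with hldef
  have hkl : k + l + 1 = 2 * m := by
    rw [← hm, hkdef, hldef, ← CfsgLib.Perm.OrbitalOp.card_row a b a, ← CfsgLib.Perm.OrbitalOp.card_row a c a,
      ← Finset.card_union_of_disjoint (Finset.disjoint_filter.2 fun y _ h => hexcl a y h),
      ← Finset.card_singleton a, ← Finset.card_union_of_disjoint]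
    · rw [← Finset.card_univ]
      congr 1
      ext y
      simp only [Finset.mem_union, Finset.mem_filter, Finset.mem_univ, true_and, Finset.mem_singleton,
        iff_true]
      by_cases hy : y = a
      · exact Or.inr hy
      · exact Or.inl (htri a y (Ne.symm hy))
    · rw [Finset.disjoint_singleton_right]
      simp only [Finset.mem_union, Finset.mem_filter, Finset.mem_univ, true_and, not_or]
      exact ⟨hRne a, hR'ne a⟩
  -- no suborbit is a single point
  have hsingle : ∀ d, d ≠ a → 2 ≤ Nat.card (orbit (stabilizer G a) d) := by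
    intro d hd
    by_contra hlt
    haveI : Nonempty (orbit (stabilizer G a) d) := ⟨⟨d, mem_orbit_self d⟩⟩
    have h1 : Nat.card (orbit (stabilizer G a) d) = 1 := by
      have h0 : 0 < Nat.card (orbit (stabilizer G a) d) := Nat.card_pos
      omega
    rw [Nat.card_coe_set_eq, Set.ncard_eq_one] at h1
    obtain ⟨e, he⟩ := h1
    have hfix : stabilizer G a ≤ stabilizer G d := fun g hg => by
      have h2 : g • d ∈ orbit (stabilizer G a) d := ⟨⟨g, hg⟩, rfl⟩
      have h3 : d ∈ orbit (stabilizer G a) d := mem_orbit_self d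
      rw [he, Set.mem_singleton_iff] at h2 h3
      exact h2.trans h3.symm
    have heq : stabilizer G d = stabilizer G a := by
      refine (Subgroup.eq_of_le_of_card_ge hfix (le_of_eq ?_)).symm
      have e1 := (stabilizer G a).index_mul_card
      have e2 := (stabilizer G d).index_mul_card
      rw [index_stabilizer_of_transitive] at e1 e2
      exact Nat.eq_of_mul_eq_mul_left Nat.card_pos (e2.trans e1.symm)
    let B : Set Ω := {x | stabilizer G x = stabilizer G a}
    have hB : IsBlock G B := by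
      rw [isBlock_iff_smul_eq_of_mem]
      intro g x hx hgx
      have hn : (stabilizer G a).map (MulAut.conj g).toMonoidHom = stabilizer G a := by
        conv_lhs => rw [← (hx : stabilizer G x = stabilizer G a)]
        rw [← MulAction.stabilizer_smul_eq_stabilizer_map_conj g x]
        exact hgx
      refine Set.eq_of_subset_of_ncard_le ?_ (by rw [← Set.image_smul, Set.ncard_image_of_injective _ (MulAction.injective g)])
      rintro _ ⟨y, hy, rfl⟩
      show stabilizer G (g • y) = stabilizer G a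
      rw [MulAction.stabilizer_smul_eq_stabilizer_map_conj g y, (hy : stabilizer G y = stabilizer G a), hn]
    rcases IsPreprimitive.isTrivialBlock_of_isBlock hB with h | h
    · exact hd (h (show d ∈ B from heq) (show a ∈ B from rfl))
    · have hall : ∀ x : Ω, Nat.card (orbit (stabilizer G a) x) = 1 := by
        intro x
        rw [Nat.card_coe_set_eq, Set.ncard_eq_one]
        refine ⟨x, Set.eq_singleton_iff_unique_mem.2 ⟨mem_orbit_self x, ?_⟩⟩
        rintro _ ⟨g, rfl⟩
        have : (g : G) ∈ stabilizer G x := by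
          rw [show stabilizer G x = stabilizer G a from (h ▸ Set.mem_univ x : x ∈ B)]
          exact g.2
        exact this
      have e1 := hall b
      have e2 := hall c
      rw [← hkdef] at e1
      rw [← hldef] at e2
      omega
  have hk2 := hsingle b hb
  have hl2 := hsingle c hcne
  rw [← hkdef] at hk2
  rw [← hldef] at hl2
  -- `R` is symmetric
  have hsymR : ∀ x y, R x y → R y x := by
    have hba : R b a := by
      rcases htri b a hb with h | h
      · exact h
      · exfalso
        have hcol : ∀ y, (Finset.univ.filter fun x => R x y).card = l := by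
          intro y
          rw [hldef, ← CfsgLib.Perm.OrbitalOp.card_row a c y]
          congr 1
          ext x
          simp only [Finset.mem_filter, Finset.mem_univ, true_and]
          rw [← rel_congr h y x]
          exact ⟨fun ⟨g, h1, h2⟩ => ⟨g, h2, h1⟩, fun ⟨g, h1, h2⟩ => ⟨g, h2, h1⟩⟩
        have hdc : ∑ x : Ω, (Finset.univ.filter fun y => R x y).card =
            ∑ y : Ω, (Finset.univ.filter fun x => R x y).card := by
          simp only [Finset.card_filter]
          exact Finset.sum_comm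
        simp only [hcol, R, CfsgLib.Perm.OrbitalOp.card_row, ← hkdef, Finset.sum_const, Finset.card_univ,
          smul_eq_mul] at hdc
        have : k = l := Nat.eq_of_mul_eq_mul_left (by omega) hdc
        omega
    rintro x y ⟨g, rfl, rfl⟩
    exact (CfsgLib.Perm.OrbitalOp.rel_smul_iff a b b a g).2 hba
  -- counting paths
  let P : Ω → Ω → ℕ := fun x y => (Finset.univ.filter fun z => R x z ∧ R z y).card
  have hPinv : ∀ (g : G) x y, P (g • x) (g • y) = P x y := by
    intro g x y
    refine (Finset.card_bij (fun z _ => g • z) (fun z hz => ?_) (fun z _ z' _ e => MulAction.injective g e)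
      (fun z hz => ⟨g⁻¹ • z, ?_, smul_inv_smul g z⟩)).symm
    · simp only [Finset.mem_filter, Finset.mem_univ, true_and, R, CfsgLib.Perm.OrbitalOp.rel_smul_iff] at hz ⊢
      exact hz
    · simp only [Finset.mem_filter, Finset.mem_univ, true_and, R] at hz ⊢
      rw [← CfsgLib.Perm.OrbitalOp.rel_smul_iff a b x _ g, ← CfsgLib.Perm.OrbitalOp.rel_smul_iff a b _ y g,
        smul_inv_smul]
      exact hz
  set lam := P a b
  set mu := P a c
  have hPd : ∀ x, P x x = k := by
    intro x
    rw [hkdef, ← CfsgLib.Perm.OrbitalOp.card_row a b x]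
    show (Finset.univ.filter fun z => R x z ∧ R z x).card = _
    congr 1
    ext z
    simp only [Finset.mem_filter, Finset.mem_univ, true_and]
    exact ⟨fun h => h.1, fun h => ⟨h, hsymR x z h⟩⟩
  have hP : ∀ x y, (P x y : ℤ) = ((k : ℤ) - mu) * (if x = y then 1 else 0) +
      ((lam : ℤ) - mu) * (if R x y then 1 else 0) + mu := by
    intro x y
    by_cases hxy : x = y
    · subst hxy
      rw [if_pos rfl, if_neg (hRne x), hPd]
      ring
    · rw [if_neg hxy]
      rcases htri x y hxy with h | h
      · rw [if_pos h]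
        obtain ⟨g, rfl, rfl⟩ := h
        rw [hPinv]
        show (lam : ℤ) = _
        ring
      · rw [if_neg fun h' => hexcl x y h' h]
        obtain ⟨g, rfl, rfl⟩ := h
        rw [hPinv]
        show (mu : ℤ) = _
        ring
  set t : ℤ := (lam : ℤ) - mu with ht
  set cc : ℤ := (k : ℤ) - mu with hcc
  -- the operator
  set A := CfsgLib.Perm.OrbitalOp.orbOp G a b with hA
  have hAapp : ∀ v x, A v x = ∑ y, (if R x y then (1 : ℂ) else 0) * v y := fun v x =>
    CfsgLib.Perm.OrbitalOp.orbOp_apply a b v x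
  have hAA : ∀ v x, A (A v) x = (cc : ℂ) * v x + (t : ℂ) * A v x + (mu : ℂ) * ∑ y, v y := by
    intro v x
    have h1 : A (A v) x = ∑ y, (P x y : ℂ) * v y := by
      rw [hAapp]
      simp only [hAapp, Finset.mul_sum]
      rw [Finset.sum_comm]
      refine Finset.sum_congr rfl fun y _ => ?_
      simp only [P, Finset.card_filter, Nat.cast_sum, Finset.sum_mul, ← mul_assoc]
      refine Finset.sum_congr rfl fun z _ => ?_
      by_cases h3 : R x z <;> by_cases h4 : R z y <;> simp [h3, h4]
    rw [h1, hAapp]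
    simp only [Finset.mul_sum]
    have hc' : ∀ y, (P x y : ℂ) = (cc : ℂ) * (if x = y then 1 else 0) + (t : ℂ) * (if R x y then 1 else 0) + mu := by
      intro y
      have h5 := congrArg (fun z : ℤ => (z : ℂ)) (hP x y)
      simp only [Int.cast_natCast, Int.cast_add, Int.cast_mul, apply_ite (Int.cast : ℤ → ℂ), Int.cast_one,
        Int.cast_zero] at h5
      exact h5
    simp only [hc', add_mul, Finset.sum_add_distrib, mul_assoc, ← Finset.mul_sum]
    simp
  have hA1 : A (fun _ => 1) = (k : ℂ) • fun _ => (1 : ℂ) := CfsgLib.Perm.OrbitalOp.orbOp_one a b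
  have hcol : ∀ v, ∑ x, A v x = (k : ℂ) * ∑ y, v y := by
    intro v
    simp only [hAapp]
    rw [Finset.sum_comm, Finset.mul_sum]
    refine Finset.sum_congr rfl fun y _ => ?_
    rw [← Finset.sum_mul, Finset.sum_boole]
    congr 1
    rw [hkdef, ← CfsgLib.Perm.OrbitalOp.card_row a b y]
    congr 2
    ext x
    simp only [Finset.mem_filter, Finset.mem_univ, true_and]
    exact ⟨hsymR x y, hsymR y x⟩
  have hn : (Fintype.card Ω : ℂ) = 2 * (m : ℂ) := by rw [hm]; push_cast; ring
  have hrow : (k : ℤ) * k = cc + t * k + 2 * m * ((k : ℤ) - cc) := by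
    have h1 := hAA (fun _ => 1) a
    rw [hA1, map_smul, hA1] at h1
    simp only [Pi.smul_apply, smul_eq_mul, mul_one, Finset.sum_const, Finset.card_univ, nsmul_eq_mul, hn] at h1
    have h2 : (((k : ℤ) * k : ℤ) : ℂ) = ((cc + t * k + 2 * m * ((k : ℤ) - cc) : ℤ) : ℂ) := by
      rw [show (k : ℤ) - cc = mu by rw [hcc]; ring]
      push_cast
      linear_combination h1
    exact_mod_cast h2
  -- the test vector
  let v₀ : Ω → ℂ := Pi.single b 1 - Pi.single c 1
  have hv₀sum : ∑ x, v₀ x = 0 := by simp [v₀]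
  have hv₀a : v₀ a = 0 := by simp [v₀, Ne.symm hb, Ne.symm hcne]
  have hAv₀ : A v₀ a = 1 := by
    rw [hAapp]
    have e1 : R a b := ⟨1, one_smul _ _, one_smul _ _⟩
    have e2 : ¬ R a c := fun h => hexcl a c h ⟨1, one_smul _ _, one_smul _ _⟩
    simp [v₀, mul_sub, Finset.sum_sub_distrib, Pi.single_apply, e1, e2]
  -- the two eigenvalues differ
  have hdisc : t * t + 4 * cc ≠ 0 := by
    intro hd0
    set w : Ω → ℂ := (2 : ℂ) • A v₀ - (t : ℂ) • v₀ with hw
    have hreal : ∀ x, ((w x).re : ℂ) = w x := by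
      intro x
      simp only [hw, Pi.sub_apply, Pi.smul_apply, smul_eq_mul, hAapp, v₀, Pi.single_apply]
      rw [← Complex.conj_eq_iff_re.symm.trans Iff.rfl |>.symm]
      simp [map_sum, apply_ite (starRingEnd ℂ), Complex.conj_ofNat]
    have hsum : ∑ x, w x * w x = 0 := by
      have hsq : ∀ u v, ∑ x, A u x * v x = ∑ x, u x * A v x := by
        intro u v
        simp only [hAapp, Finset.sum_mul, Finset.mul_sum]
        rw [Finset.sum_comm]
        refine Finset.sum_congr rfl fun y _ => Finset.sum_congr rfl fun x _ => ?_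
        rw [if_congr (⟨hsymR x y, hsymR y x⟩ : R x y ↔ R y x) rfl rfl]
        ring
      have hd0' : (t : ℂ) * t + 4 * cc = 0 := by exact_mod_cast hd0
      have h1 : ∑ x, A v₀ x * A v₀ x = (cc : ℂ) * ∑ x, v₀ x * v₀ x + (t : ℂ) * ∑ x, v₀ x * A v₀ x := by
        rw [hsq, Finset.mul_sum, Finset.mul_sum, ← Finset.sum_add_distrib]
        refine Finset.sum_congr rfl fun x _ => ?_
        rw [hAA, hv₀sum]; ring
      calc ∑ x, w x * w x = 4 * ∑ x, A v₀ x * A v₀ x - 4 * (t : ℂ) * ∑ x, v₀ x * A v₀ x +
            (t : ℂ) * t * ∑ x, v₀ x * v₀ x := by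
            simp only [Finset.mul_sum, ← Finset.sum_sub_distrib, ← Finset.sum_add_distrib]
            refine Finset.sum_congr rfl fun x _ => ?_
            simp only [hw, Pi.sub_apply, Pi.smul_apply, smul_eq_mul]
            ring
        _ = 0 := by rw [h1]; linear_combination (∑ x, v₀ x * v₀ x) * hd0'
    have hre : ∑ x, (w x).re * (w x).re = 0 := by
      have h2 : ((∑ x, (w x).re * (w x).re : ℝ) : ℂ) = 0 := by
        push_cast
        simp only [hreal, hsum]
      exact_mod_cast h2
    have hwa := (Finset.sum_eq_zero_iff_of_nonneg fun x _ => mul_self_nonneg _).1 hre a (Finset.mem_univ a)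
    have hwa' : w a = 2 := by simp [hw, hAv₀, hv₀a]
    rw [hwa'] at hwa
    norm_num at hwa
  obtain ⟨w, hw⟩ : ∃ w : ℂ, w * w = (t : ℂ) * t + 4 * cc :=
    ⟨_, (IsAlgClosed.exists_eq_mul_self ((t : ℂ) * t + 4 * cc)).choose_spec.symm⟩
  have hw0 : w ≠ 0 := fun e => hdisc (by
    rw [e, mul_zero] at hw
    exact_mod_cast hw.symm)
  -- trace equation for a root `r`
  have hroot : ∀ r s : ℂ, r + s = t → r * s = -(cc : ℂ) → r ≠ s →
      ∃ d : ℕ, (d = m - 1 ∨ d = m) ∧ (k : ℂ) + (2 * (m : ℂ) - 1) * s + (r - s) * d = 0 := by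
    intro r s hrs hprod hne
    have hAr : ∀ v, (∑ x, v x = 0) → ∀ x, A (A v) x = (r + s) * A v x - r * s * v x := by
      intro v hv x
      rw [hAA, hv, hrs, hprod]; ring
    let U : Submodule ℂ (Ω → ℂ) := (Cfsg.permSumZero ℂ G Ω).toSubmodule ⊓ LinearMap.ker (A - r • LinearMap.id)
    have hUmem : ∀ v, v ∈ U ↔ (∑ x, v x = 0) ∧ ∀ x, A v x = r * v x := by
      intro v
      rw [Submodule.mem_inf, LinearMap.mem_ker, LinearMap.sub_apply, sub_eq_zero]
      exact and_congr Iff.rfl ⟨fun h x => congrFun h x, fun h => funext h⟩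
    let S : Subrepresentation (Cfsg.permRep ℂ G Ω) :=
      { toSubmodule := U
        apply_mem_toSubmodule := fun g v hv => by
          refine Submodule.mem_inf.2 ⟨(Cfsg.permSumZero ℂ G Ω).apply_mem_toSubmodule g (Submodule.mem_inf.1 hv).1, ?_⟩
          rw [LinearMap.mem_ker, LinearMap.sub_apply, sub_eq_zero]
          funext x
          have he := congrFun (LinearMap.congr_fun (CfsgLib.Perm.OrbitalOp.isEquivariant_orbOp a b g) v) x
          simp only [LinearMap.comp_apply] at he
          rw [he]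
          exact ((hUmem v).1 hv).2 (g⁻¹ • x) }
    have hproj : ∀ v, (∑ x, v x = 0) → A v - s • v ∈ U := by
      intro v hv
      rw [hUmem]
      refine ⟨?_, fun x => ?_⟩
      · simp [Finset.sum_sub_distrib, hcol, hv, ← Finset.mul_sum]
      · rw [map_sub, map_smul]
        simp only [Pi.sub_apply, Pi.smul_apply, smul_eq_mul, hAr v hv x]
        ring
    -- dimension
    obtain ⟨mS, hmS⟩ := CfsgLib.Char.IsChar.exists_sum (G := G) (χ := S.toRepresentation.character)
      (CfsgLib.Char.isCharacter_rep _)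
    haveI : NeZero (Nat.card G : ℂ) := ⟨Nat.cast_ne_zero.mpr Nat.card_pos.ne'⟩
    obtain ⟨T, hT⟩ := exists_isCompl S
    have hc : IsCompl S.toSubmodule T.toSubmodule := by
      refine ⟨disjoint_iff.mpr ?_, codisjoint_iff.mpr ?_⟩
      · exact (Subrepresentation.toSubmodule_inf S T).symm.trans
          (congrArg Subrepresentation.toSubmodule hT.inf_eq_bot)
      · exact (Subrepresentation.toSubmodule_sup S T).symm.trans
          (congrArg Subrepresentation.toSubmodule hT.sup_eq_top)
    obtain ⟨mT, hmT⟩ := CfsgLib.Char.IsChar.exists_sum (G := G) (χ := T.toRepresentation.character)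
      (CfsgLib.Char.isCharacter_rep _)
    have hle : ∀ χ, mS χ ≤ μ χ := by
      intro χ
      have h := hμc χ
      rw [← CfsgLib.Perm.CentralizerRing.permRep_character, CfsgLib.Char.character_of_isCompl hc,
        CfsgLib.Char.classInner_add_left, hmS, hmT, CfsgLib.Char.classInner_sum_irr,
        CfsgLib.Char.classInner_sum_irr] at h
      norm_cast at h
      omega
    have hμz : ∀ χ, χ ≠ tr → χ ≠ c₁ → χ ≠ c₂ → μ χ = 0 := fun χ h3 h4 h5 => by
      have := hμval χ
      rw [if_neg (Ne.symm h3), if_neg (Ne.symm h4), if_neg (Ne.symm h5)] at this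
      simpa using this
    have hμ1' : μ c₁ = 1 := by
      have := hμval c₁
      rw [if_neg (Ne.symm hc1), if_pos rfl, if_neg (Ne.symm hc12)] at this
      simpa using this
    have hμ2' : μ c₂ = 1 := by
      have := hμval c₂
      rw [if_neg (Ne.symm hc2), if_pos rfl, if_neg hc12] at this
      simpa using this
    have htriv0 : mS tr = 0 := by
      obtain ⟨t', n', hd, ht', hiff⟩ := CfsgLib.Perm.CentralizerRing.exists_finrank_subrep S 1
        (fun χ hχ _ _ => by
          obtain ⟨n, σ, -, hσc⟩ := hχ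
          exact ⟨n, by rw [← hσc, Representation.char_one, Module.finrank_fin_fun]; simp⟩)
      by_contra hne0
      have h1 : Cfsg.classInner S.toRepresentation.character (tr : G → ℂ) ≠ 0 := by
        rw [hmS, CfsgLib.Char.classInner_sum_irr, Nat.cast_ne_zero]; exact hne0
      obtain ⟨n, σ, i, hσ, hσc, hi, hinj⟩ := CfsgLib.Perm.CentralizerRing.exists_embedding tr.2 S.toRepresentation h1
      have hn1 := congrFun hσc 1
      rw [Representation.char_one, Module.finrank_fin_fun, CfsgLib.Char.trivChar_apply, Nat.cast_eq_one] at hn1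
      subst hn1
      set u := i (fun _ => 1) with hu
      have hσ1 : ∀ g, σ g (fun _ => 1) = fun _ => 1 := by
        intro g
        have h2 := congrFun hσc g
        rw [Representation.character, LinearMap.trace_eq_matrix_trace ℂ (Pi.basisFun ℂ (Fin 1)), Matrix.trace] at h2
        simp only [Finset.univ_unique, Finset.sum_singleton, Matrix.diag, LinearMap.toMatrix_apply,
          Pi.basisFun_repr, Pi.basisFun_apply] at h2
        have e1 : (Pi.single default 1 : Fin 1 → ℂ) = fun _ => 1 := by
          funext l; rw [Subsingleton.elim l default, Pi.single_eq_same]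
        rw [e1] at h2
        funext j
        rw [Subsingleton.elim j default]
        exact h2
      have hconst : ∀ g x, (u : Ω → ℂ) (g⁻¹ • x) = (u : Ω → ℂ) x := fun g x => by
        have h3 := congrFun (congrArg Subtype.val (LinearMap.congr_fun (hi g) (fun _ => 1))) x
        simp only [LinearMap.comp_apply, hσ1] at h3
        exact h3.symm
      have hval : ∀ x, (u : Ω → ℂ) x = (u : Ω → ℂ) a := fun x => by
        obtain ⟨g, rfl⟩ := exists_smul_eq G a x
        rw [← hconst g (g • a), inv_smul_smul]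
      have hsum0 := ((hUmem _).1 u.2).1
      simp only [hval, Finset.sum_const, Finset.card_univ, nsmul_eq_mul] at hsum0
      have hu0 : u = 0 := by
        apply Subtype.ext
        funext x
        rw [hval]
        exact (mul_eq_zero.1 hsum0).resolve_left (Nat.cast_ne_zero.2 (by omega))
      exact one_ne_zero (congrFun (hinj (hu0.trans (map_zero i).symm)) 0)
    have hdim : (Module.finrank ℂ U : ℂ) = (mS c₁ : ℂ) * ((m : ℂ) - 1) + (mS c₂ : ℂ) * m := by
      have h := congrFun hmS 1
      rw [Representation.char_one, Finset.sum_apply, ← Finset.sum_subset (Finset.subset_univ {c₁, c₂}),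
        Finset.sum_pair hc12] at h
      · simpa [c₁, c₂, hd₁, hd₂] using h
      · intro χ _ hχ
        simp only [Finset.mem_insert, Finset.mem_singleton, not_or] at hχ
        by_cases hχt : χ = tr
        · simp [hχt, htriv0]
        · simp [Nat.le_zero.1 (hμz χ hχt hχ.1 hχ.2 ▸ hle χ)]
    have hb1 : mS c₁ ≤ 1 := hμ1' ▸ hle c₁
    have hb2 : mS c₂ ≤ 1 := hμ2' ▸ hle c₂
    set d := Module.finrank ℂ U with hd
    have hUne : d ≠ 0 := by
      intro hd0
      rw [hd, Submodule.finrank_eq_zero] at hd0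
      have h3 := hproj v₀ hv₀sum
      rw [hd0, Submodule.mem_bot] at h3
      have h4 := congrFun h3 a
      simp [hAv₀, hv₀a] at h4
    have hUfull : d < Module.finrank ℂ (Cfsg.permSumZero ℂ G Ω).toSubmodule := by
      refine Submodule.finrank_lt_finrank_of_lt (lt_of_le_of_ne inf_le_left fun e => ?_)
      have h3 : v₀ ∈ U := e ▸ (hv₀sum : v₀ ∈ (Cfsg.permSumZero ℂ G Ω).toSubmodule)
      have h4 := ((hUmem _).1 h3).2 a
      rw [hAv₀, hv₀a, mul_zero] at h4
      exact one_ne_zero h4
    have hS0 : Module.finrank ℂ (Cfsg.permSumZero ℂ G Ω).toSubmodule < 2 * m := by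
      rw [← hm, ← Module.finrank_fintype_fun_eq_card ℂ]
      refine Submodule.finrank_lt fun e => ?_
      have h3 : (Pi.single a 1 : Ω → ℂ) ∈ (Cfsg.permSumZero ℂ G Ω).toSubmodule := e ▸ Submodule.mem_top
      have h4 : ∑ x, (Pi.single a 1 : Ω → ℂ) x = 0 := h3
      simp at h4
    have hd' : d = m - 1 ∨ d = m := by
      have h3 : (d : ℂ) = ((mS c₁ * (m - 1) + mS c₂ * m : ℕ) : ℂ) := by
        rw [hdim]; push_cast [Nat.cast_sub (show 1 ≤ m by omega)]; ring
      rw [Nat.cast_inj] at h3
      rcases (show mS c₁ = 0 ∨ mS c₁ = 1 by omega) with e1 | e1 <;>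
        rcases (show mS c₂ = 0 ∨ mS c₂ = 1 by omega) with e2 | e2 <;>
        rw [e1, e2] at h3 <;> omega
    refine ⟨d, hd', ?_⟩
    -- a projection onto `U`
    let J : (Ω → ℂ) →ₗ[ℂ] (Ω → ℂ) :=
      { toFun := fun v _ => ∑ y, v y
        map_add' := fun u v => funext fun _ => by simp [Finset.sum_add_distrib]
        map_smul' := fun z v => funext fun _ => by simp [Finset.mul_sum] }
    let Q : (Ω → ℂ) →ₗ[ℂ] (Ω → ℂ) := (r - s)⁻¹ • (A - s • LinearMap.id - (((k : ℂ) - s) / (2 * m)) • J)
    have h2m : (2 * (m : ℂ)) ≠ 0 := mul_ne_zero two_ne_zero (Nat.cast_ne_zero.2 (by omega))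
    have hm0 : (m : ℂ) ≠ 0 := Nat.cast_ne_zero.2 (by omega)
    have hrs0 : r - s ≠ 0 := sub_ne_zero.2 hne
    have hQ : LinearMap.IsProj U Q := by
      constructor
      · intro v
        refine U.smul_mem _ ?_
        have hv' := hproj (v - ((∑ y, v y) / (2 * (m : ℂ))) • fun _ => (1 : ℂ)) (by
          simp [Finset.sum_sub_distrib, hn]
          field_simp
          ring1)
        convert hv' using 1
        funext x
        simp only [map_sub, map_smul, hA1]
        simp [J]
        field_simp
        ring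
      · intro v hv
        obtain ⟨hv0, hv1⟩ := (hUmem v).1 hv
        funext x
        simp only [Q, J, LinearMap.smul_apply, LinearMap.sub_apply, LinearMap.id_apply, LinearMap.coe_mk,
          AddHom.coe_mk, Pi.smul_apply, Pi.sub_apply, smul_eq_mul, hv0, hv1]
        field_simp
        ring
    have htr := hQ.trace
    have hJ : LinearMap.trace ℂ _ J = 2 * (m : ℂ) := by
      rw [LinearMap.trace_eq_matrix_trace ℂ (Pi.basisFun ℂ Ω), Matrix.trace]
      simp [Matrix.diag, LinearMap.toMatrix_apply, J, hn]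
    simp only [Q, map_smul, map_sub, hA, CfsgLib.Perm.OrbitalOp.trace_orbOp hb, hJ, LinearMap.trace_id,
      Module.finrank_fintype_fun_eq_card, hn, smul_eq_mul, ← hd] at htr
    field_simp at htr
    linear_combination -htr
  -- choose the root of multiplicity `m - 1`
  obtain ⟨r, hr1, hr2⟩ : ∃ r : ℂ, r = (k : ℂ) + (m : ℂ) * t ∧ r * r = (t : ℂ) * r + cc := by
    obtain ⟨d, hd, he⟩ := hroot ((t + w) / 2) ((t - w) / 2) (by ring)
      (by linear_combination (-1 / 4 : ℂ) * hw) (by intro e; exact hw0 (by linear_combination e))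
    rcases hd with rfl | rfl
    · refine ⟨(t + w) / 2, ?_, by linear_combination (1 / 4 : ℂ) * hw⟩
      rw [Nat.cast_sub (by omega : 1 ≤ m), Nat.cast_one] at he
      linear_combination -he
    · refine ⟨(t - w) / 2, ?_, by linear_combination (1 / 4 : ℂ) * hw⟩
      linear_combination -he
  have hqZ : ((k : ℤ) + m * t) * ((k : ℤ) + m * t) = t * ((k : ℤ) + m * t) + cc := by
    subst hr1
    exact_mod_cast hr2
  obtain ⟨z, hz, hzm, hzk⟩ := solve (k := k) (m := m) (t := t) (c := cc) (by exact_mod_cast hm2)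
    (by exact_mod_cast hk2) (by omega) rfl hqZ hrow
  lift z to ℕ using hz.le
  exact ⟨z, by exact_mod_cast hz, by exact_mod_cast hzm, by exact_mod_cast hzk⟩

end Cfsg.Agent.S0719
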