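import Cfsg.Statements.S1013
import Mathlib.GroupTheory.GroupAction.Primitive
import Mathlib.GroupTheory.Transfer
import Mathlib.Data.Finite.Perm
import Mathlib.Data.Nat.Prime.Factorial
import Mathlib.GroupTheory.SpecificGroups.Cyclic

set_option autoImplicit false
open Cfsg

namespace Cfsg.Agent.S1013

/-- Let G be a transitive permutation group of prime degree p having more than one Sylow p-subgroup, and suppose a Sylow p-subgroup P has prime index in its normalizer. Then G is simple. -/
theorem result {α : Type*} [Fintype α] [DecidableEq α] {p : ℕ} [Fact p.Prime] (hα : Fintype.card α = p) (G : Subgroup (Equiv.Perm α)) [MulAction.IsPretransitive ↥G α] (P : Sylow p ↥G) (hn : 1 < Nat.card (Sylow p ↥G)) (ht : (((P : Subgroup ↥G).subgroupOf (Subgroup.normalizer ((P : Subgroup ↥G) : Set ↥G))).index).Prime) : IsSimpleGroup ↥G := by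
  classical
  have hp : p.Prime := Fact.out
  have hαp : Nat.card α = p := by rw [Nat.card_eq_fintype_card, hα]
  have hαpr : (Nat.card α).Prime := hαp ▸ hp
  have : Nonempty α := Fintype.card_pos_iff.1 (hα ▸ hp.pos)
  obtain ⟨a⟩ := ‹Nonempty α›
  -- the Sylow subgroups have order p
  have hGdvd : Nat.card G ∣ p.factorial := by
    have := Subgroup.card_subgroup_dvd_card G
    rwa [Nat.card_perm, hαp] at this
  have hpsq : ¬ p ^ 2 ∣ Nat.card G := by
    intro h2
    have h3 := h2.trans hGdvd
    obtain ⟨q, rfl⟩ := Nat.exists_eq_succ_of_ne_zero hp.ne_zero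
    rw [Nat.factorial_succ, sq] at h3
    have h4 := Nat.dvd_of_mul_dvd_mul_left (Nat.succ_pos q) h3
    have := (Nat.Prime.dvd_factorial hp).1 h4
    omega
  -- every non-trivial normal subgroup of a transitive group of prime degree is transitive
  have trans : ∀ {K : Subgroup (Equiv.Perm α)} (_ : MulAction.IsPretransitive K α)
      (M : Subgroup K), M.Normal → M ≠ ⊥ →
      MulAction.IsPretransitive M α ∧ p ∣ Nat.card M := by
    intro K hK M hM hMne
    have : MulAction.IsPreprimitive K α := MulAction.IsPreprimitive.of_prime_card hαpr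
    have hfp : MulAction.fixedPoints M α ≠ Set.univ := by
      intro hu
      apply hMne
      rw [eq_bot_iff]
      intro m hm
      rw [Subgroup.mem_bot]
      apply Subtype.ext
      apply Equiv.ext
      intro x
      have : x ∈ MulAction.fixedPoints M α := hu ▸ Set.mem_univ x
      exact this ⟨m, hm⟩
    have ht : MulAction.IsPretransitive M α :=
      MulAction.IsQuasiPreprimitive.isPretransitive_of_normal hfp
    refine ⟨ht, ?_⟩
    rw [← hαp, ← MulAction.index_stabilizer_of_transitive M a]
    exact Subgroup.index_dvd_card _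
  have hPcard : Nat.card (P : Subgroup G) = p := by
    rw [P.card_eq_multiplicity]
    have hd : p ∣ Nat.card G := by
      rw [← hαp, ← MulAction.index_stabilizer_of_transitive G a]
      exact Subgroup.index_dvd_card _
    have h1 : 1 ≤ (Nat.card G).factorization p :=
      (hp.pow_dvd_iff_le_factorization Nat.card_pos.ne').1 (by rwa [pow_one])
    have h2 : ¬ 2 ≤ (Nat.card G).factorization p := fun h =>
      hpsq ((hp.pow_dvd_iff_le_factorization Nat.card_pos.ne').2 h)
    rw [show (Nat.card G).factorization p = 1 by omega, pow_one]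
  have hnt : Nontrivial G := by
    rw [← Finite.one_lt_card_iff_nontrivial]
    exact lt_of_lt_of_le (by rw [hPcard]; exact hp.one_lt) (Subgroup.card_le_card_group (P : Subgroup G))
  refine { exists_pair_ne := hnt.exists_pair_ne, eq_bot_or_eq_top_of_normal := ?_ }
  intro N hN
  by_contra hcon
  push Not at hcon
  obtain ⟨hNb, hNt⟩ := hcon
  obtain ⟨hNtr, hpN⟩ := trans inferInstance N hN hNb
  -- P ≤ N
  have hPN : (P : Subgroup G) ≤ N := by
    obtain ⟨x, hx⟩ := exists_prime_orderOf_dvd_card' (G := N) p hpN
    have hz : Nat.card (Subgroup.zpowers (x : G)) = p := by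
      rw [Nat.card_zpowers, Subgroup.orderOf_coe, hx]
    obtain ⟨Q, hQ⟩ := (IsPGroup.of_card (n := 1) (by rwa [pow_one] : Nat.card _ = p ^ 1)).exists_le_sylow
    have hQe : Subgroup.zpowers (x : G) = (Q : Subgroup G) := by
      apply Subgroup.eq_of_le_of_card_ge hQ
      rw [hz, Q.card_eq_multiplicity, ← P.card_eq_multiplicity, hPcard]
    obtain ⟨g, hg⟩ := MulAction.exists_smul_eq G Q P
    intro y hy
    rw [← hg, Sylow.coe_subgroup_smul] at hy
    obtain ⟨z, hz, rfl⟩ := hy
    have hzN : z ∈ N := by
      have : Subgroup.zpowers (x : G) ≤ N := Subgroup.zpowers_le.2 x.2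
      exact this (by rw [hQe]; exact hz)
    exact hN.conj_mem z hzN g
  set Nm := Subgroup.normalizer ((P : Subgroup G) : Set G) with hNm
  have hsup : Nm ⊔ N = ⊤ := Sylow.normalizer_sup_eq_top' P hPN
  have hidx : N.index = N.relIndex Nm := by
    rw [← Subgroup.relIndex_top_right, ← hsup, Subgroup.relIndex_sup_right]
  have hdiv : N.index ∣ (P : Subgroup G).relIndex Nm := by
    rw [hidx]
    exact Subgroup.relIndex_dvd_of_le_left Nm hPN
  have hNidx : N.index = (P : Subgroup G).relIndex Nm := by
    rcases (Nat.dvd_prime ht).1 hdiv with h | h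
    · exact absurd (Subgroup.index_eq_one.1 h) hNt
    · exact h
  have hinf : N ⊓ Nm = (P : Subgroup G) := by
    symm
    have hle : (P : Subgroup G) ≤ N ⊓ Nm := le_inf hPN Subgroup.le_normalizer
    refine le_antisymm hle ?_
    rw [← Subgroup.relIndex_eq_one]
    have h1 : N.relIndex Nm ≠ 0 := (Subgroup.index_ne_zero_of_finite : (N.subgroupOf Nm).index ≠ 0)
    have h2 := Subgroup.relIndex_mul_relIndex (P : Subgroup G) (N ⊓ Nm) Nm hle inf_le_right
    rw [Subgroup.inf_relIndex_right, ← hNidx, hidx] at h2
    exact Nat.eq_of_mul_eq_mul_right (Nat.pos_of_ne_zero h1) (by simpa using h2)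
  -- Burnside transfer inside N
  let P' : Sylow p N := P.subtype hPN
  have hP' : Subgroup.normalizer ((P' : Subgroup N) : Set N) ≤
      Subgroup.centralizer ((P' : Subgroup N) : Set N) := by
    intro x hx
    have hxP : (x : G) ∈ (P : Subgroup G) := by
      rw [← hinf]
      refine ⟨x.2, ?_⟩
      rw [hNm]
      show (x : G) ∈ Subgroup.normalizer _
      rw [Subgroup.mem_normalizer_iff] at hx ⊢
      intro y
      constructor
      · intro hy
        have := (hx ⟨y, hPN hy⟩).1 (by simpa [P', Subgroup.mem_subgroupOf] using hy)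
        simpa [P', Subgroup.mem_subgroupOf] using this
      · intro hy
        have hyN : y ∈ N := by
          have h := hN.conj_mem _ (hPN hy) (x : G)⁻¹
          simpa [mul_assoc] using h
        have := (hx ⟨y, hyN⟩).2 (by simpa [P', Subgroup.mem_subgroupOf] using hy)
        simpa [P', Subgroup.mem_subgroupOf] using this
    have : IsCyclic (P : Subgroup G) := isCyclic_of_prime_card hPcard
    let _ : CommGroup (P : Subgroup G) := IsCyclic.commGroup
    rw [Subgroup.mem_centralizer_iff]
    intro y hy
    have hy' : (y : G) ∈ (P : Subgroup G) := by simpa [P', Subgroup.mem_subgroupOf] using hy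
    apply Subtype.ext
    have := congrArg Subtype.val (mul_comm (⟨(y : G), hy'⟩ : (P : Subgroup G)) ⟨x, hxP⟩)
    simpa using this
  have hc := MonoidHom.ker_transferSylow_isComplement' P' hP'
  have hnd := MonoidHom.not_dvd_card_ker_transferSylow P' hP'
  -- transport N to a permutation group
  let e : N ≃* N.map G.subtype := N.equivMapOfInjective G.subtype G.subtype_injective
  set K := (MonoidHom.transferSylow P' hP').ker
  have hKN : ((K.map e.toMonoidHom).Normal) := Subgroup.Normal.map inferInstance _ e.surjective
  by_cases hKb : K = ⊥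
  · rw [hKb, Subgroup.isComplement'_bot_left] at hc
    have hNP : N = (P : Subgroup G) := by
      refine le_antisymm ?_ hPN
      intro x hx
      have : (⟨x, hx⟩ : N) ∈ (P' : Subgroup N) := hc ▸ Subgroup.mem_top _
      simpa [P', Subgroup.mem_subgroupOf] using this
    have : (P : Subgroup G).Normal := hNP ▸ hN
    have := Sylow.unique_of_normal P this
    rw [Nat.card_unique] at hn
    omega
  · have hK' : K.map e.toMonoidHom ≠ ⊥ := by
      rw [Ne, Subgroup.map_eq_bot_iff_of_injective _ e.injective]
      exact hKb
    have htr : MulAction.IsPretransitive (N.map G.subtype) α := by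
      refine ⟨fun x y => ?_⟩
      obtain ⟨g, hg⟩ := MulAction.exists_smul_eq N x y
      exact ⟨e g, hg⟩
    obtain ⟨-, hd⟩ := trans htr _ hKN hK'
    rw [Subgroup.card_map_of_injective e.injective] at hd
    exact hnd hd

end Cfsg.Agent.S1013
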