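import Cfsg.Statements.S0678
import Cfsg.Agent.Lib.Perm.PrimeOrderCount
import Cfsg.Agent.Lib.Char.Burnside
import Cfsg.Agent.S1013
import Cfsg.Agent.S0989
import Cfsg.Agent.S0992
import Mathlib.GroupTheory.GroupAction.Jordan
import Mathlib.GroupTheory.Perm.ClosureSwap
import Mathlib.Tactic

set_option autoImplicit false
open Cfsg

namespace Cfsg.Agent.S0678

theorem mem_of_sylow_dvd {β : Type*} [Fintype β] [DecidableEq β] (G : Subgroup (Equiv.Perm β)) {p k m : ℕ}
    [Fact p.Prime] (hm : Nat.card (Equiv.Perm β) = p ^ k * m) (hpm : ¬ p ∣ m) (hd : p ^ k ∣ Nat.card G)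
    (σ : Equiv.Perm β) (hσ : orderOf σ = p) : ∃ c : Equiv.Perm β, c * σ * c⁻¹ ∈ G := by
  obtain ⟨Q⟩ := (inferInstance : Nonempty (Sylow p G))
  have hQ : Nat.card ((Q : Subgroup G).map G.subtype) = p ^ k := by
    rw [Subgroup.card_map_of_injective G.subtype_injective]
    have h1 : Nat.card (Q : Subgroup G) ∣ p ^ k * m :=
      hm ▸ (Subgroup.card_subgroup_dvd_card _).trans (Subgroup.card_subgroup_dvd_card G)
    obtain ⟨i, hi⟩ := IsPGroup.iff_card.1 Q.isPGroup'
    have h2 : p ^ k ∣ Nat.card (Q : Subgroup G) := Q.pow_dvd_card_of_pow_dvd_card hd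
    rw [hi] at h1 h2 ⊢
    have h3 := (Nat.Coprime.pow_left i ((Nat.Prime.coprime_iff_not_dvd Fact.out).2 hpm)).dvd_of_dvd_mul_right h1
    exact Nat.dvd_antisymm h3 h2
  obtain ⟨T, hT⟩ := (IsPGroup.of_card hQ).exists_le_sylow
  have hTe : (Q : Subgroup G).map G.subtype = (T : Subgroup _) := by
    refine Subgroup.eq_of_le_of_card_ge hT ?_
    rw [hQ, CfsgLib.Perm.sylow_card_eq T hm hpm]
  obtain ⟨R, hR⟩ := CfsgLib.Perm.exists_mem_sylow_of_orderOf (p := p) (k := 1) (g := σ) (by rw [pow_one, hσ])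
  obtain ⟨c, hc⟩ := MulAction.exists_smul_eq (Equiv.Perm β) R T
  refine ⟨c, ?_⟩
  have h4 : c * σ * c⁻¹ ∈ (T : Subgroup (Equiv.Perm β)) := by
    rw [← hc, Sylow.coe_subgroup_smul]
    exact ⟨σ, hR, rfl⟩
  rw [← hTe] at h4
  obtain ⟨q, -, hq⟩ := h4
  exact hq ▸ q.2

/-- A non-solvable transitive permutation group on 7 points that does not contain the alternating group is a simple group of order 168. -/
theorem result {α : Type*} [Fintype α] [DecidableEq α] (hα : Fintype.card α = 7) (G : Subgroup (Equiv.Perm α)) [MulAction.IsPretransitive G α] (hG : ¬ Group.IsSolvable G) (hA : ¬ alternatingGroup α ≤ G) : Nat.card G = 168 ∧ IsSimpleGroup G := by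
  classical
  have : Fact (Nat.Prime 7) := ⟨by norm_num⟩
  have : Fact (Nat.Prime 3) := ⟨by norm_num⟩
  have : Fact (Nat.Prime 2) := ⟨by norm_num⟩
  have hα' : (Nat.card α).Prime := by rw [Nat.card_eq_fintype_card, hα]; norm_num
  have hprim : MulAction.IsPreprimitive G α := MulAction.IsPreprimitive.of_prime_card hα'
  have : Nonempty α := Fintype.card_pos_iff.1 (by omega)
  obtain ⟨a₀⟩ := ‹Nonempty α›
  have hS7 : Nat.card (Equiv.Perm α) = 5040 := by
    rw [Nat.card_perm, Nat.card_eq_fintype_card, hα]; rfl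
  have hGdvd : Nat.card G ∣ 5040 := hS7 ▸ Subgroup.card_subgroup_dvd_card G
  have h7 : 7 ∣ Nat.card G := by
    rw [← hα, ← Nat.card_eq_fintype_card, ← MulAction.index_stabilizer_of_transitive G a₀]
    exact Subgroup.index_dvd_card _
  have e : Fin 7 ≃ α := (Fintype.equivFinOfCardEq hα).symm
  have h16 : ¬ 16 ∣ Nat.card G := by
    intro hd
    obtain ⟨c, hc⟩ := mem_of_sylow_dvd G (p := 2) (k := 4) (m := 315) (by rw [hS7]; norm_num) (by norm_num)
      hd (Equiv.swap (e 0) (e 1)) (Equiv.Perm.IsSwap.orderOf ⟨e 0, e 1, by simp, rfl⟩)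
    apply hA
    have hswap : (c * Equiv.swap (e 0) (e 1) * c⁻¹).IsSwap := by
      rw [← Equiv.swap_apply_apply]; exact ⟨c (e 0), c (e 1), by simp, rfl⟩
    rw [Equiv.Perm.subgroup_eq_top_of_swap_mem (H := G) (by rwa [Nat.card_eq_fintype_card] at hα')
      (by rw [hα]; rwa [Nat.card_eq_fintype_card] at h7) hc hswap]
    exact le_top
  have h9 : ¬ 9 ∣ Nat.card G := by
    intro hd
    have hne : ∀ i j : Fin 7, i ≠ j → e i ≠ e j := fun i j h => e.injective.ne h
    have hσ := Equiv.Perm.isThreeCycle_swap_mul_swap_same (hne 0 1 (by decide)) (hne 0 2 (by decide)) (hne 1 2 (by decide))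
    obtain ⟨c, hc⟩ := mem_of_sylow_dvd G (p := 3) (k := 2) (m := 560) (by rw [hS7]; norm_num) (by norm_num)
      hd _ hσ.orderOf
    exact hA (Equiv.Perm.alternatingGroup_le_of_isPreprimitive_of_isThreeCycle_mem hprim (g := _)
      (by show _ = _; rw [Equiv.Perm.cycleType_conj]; exact hσ) hc)
  have P : Sylow 7 G := default
  have hP : Nat.card (P : Subgroup G) = 7 := by
    obtain ⟨i, hi⟩ := IsPGroup.iff_card.1 P.isPGroup'
    have h1 : 7 ^ i ∣ 5040 := hi ▸ (Subgroup.card_subgroup_dvd_card _).trans hGdvd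
    have h2 : 7 ^ 1 ∣ Nat.card (P : Subgroup G) := P.pow_dvd_card_of_pow_dvd_card (by rwa [pow_one])
    rw [hi] at h2
    have h3 := (Nat.pow_dvd_pow_iff_le_right (by norm_num : 1 < 7)).1 h2
    have : i < 2 := by
      by_contra hlt
      have := (pow_dvd_pow 7 (show 2 ≤ i by omega)).trans h1
      norm_num at this
    rw [hi, show i = 1 by omega, pow_one]
  -- the normaliser
  have hN42 : Nat.card (Subgroup.normalizer ((P : Subgroup G) : Set G)) ∣ 42 := by
    have hPm : Nat.card ((P : Subgroup G).map G.subtype) = 7 := by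
      rw [Subgroup.card_map_of_injective G.subtype_injective, hP]
    obtain ⟨T, hT⟩ := (IsPGroup.of_card (n := 1) (by rw [hPm, pow_one])).exists_le_sylow
    have hTe : (P : Subgroup G).map G.subtype = (T : Subgroup _) := by
      refine Subgroup.eq_of_le_of_card_ge hT ?_
      rw [hPm, CfsgLib.Perm.sylow_card_eq T (show Nat.card (Equiv.Perm α) = 7 ^ 1 * 720 by rw [hS7]; norm_num) (by norm_num)]
      norm_num
    have hN := Cfsg.Agent.S0989.result (α := α) 7 (Or.inl hα) T
    rw [show (42 : ℕ) = 7 * (7 - 1) by norm_num, ← hN, ← Subgroup.card_map_of_injective G.subtype_injective]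
    refine Subgroup.card_dvd_of_le ?_
    rintro _ ⟨x, hx, rfl⟩
    rw [← hTe, Subgroup.mem_normalizer_iff]
    intro y
    constructor
    · rintro ⟨z, hz, rfl⟩
      exact ⟨x * z * x⁻¹, (Subgroup.mem_normalizer_iff.1 hx z).1 hz, rfl⟩
    · rintro ⟨z, hz, hzy⟩
      refine ⟨x⁻¹ * z * x, (Subgroup.mem_normalizer_iff.1 hx _).2 (by simp only [SetLike.mem_coe] at hz ⊢; simpa [mul_assoc] using hz), ?_⟩
      simp only [map_mul, map_inv, hzy]
      group
  have hN7 : 7 ∣ Nat.card (Subgroup.normalizer ((P : Subgroup G) : Set G)) := by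
    have h := Subgroup.card_dvd_of_le (Subgroup.le_normalizer (H := (P : Subgroup G)))
    rwa [hP] at h
  obtain ⟨e', he'⟩ := hN7
  have he6 : e' ∣ 6 := by
    rw [he', show (42 : ℕ) = 7 * 6 by norm_num] at hN42
    exact Nat.dvd_of_mul_dvd_mul_left (by norm_num) hN42
  have hcard := CfsgLib.Perm.card_normalizer_mul_card_sylow P
  have hmod := card_sylow_modEq_one 7 G
  rw [he'] at hcard
  have hn720 : e' * Nat.card (Sylow 7 G) ∣ 720 := by
    rw [← hcard, mul_assoc, show (5040 : ℕ) = 7 * 720 by norm_num] at hGdvd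
    exact Nat.dvd_of_mul_dvd_mul_left (by norm_num) hGdvd
  -- more than one Sylow subgroup
  have hn1 : 1 < Nat.card (Sylow 7 G) := by
    by_contra hle
    apply hG
    have h1 : Nat.card (Sylow 7 G) = 1 := by have := Nat.card_pos (α := Sylow 7 G); omega
    rw [h1, mul_one] at hcard
    have hd : Nat.card G ∣ 42 := hcard ▸ he' ▸ hN42
    have h2 : ∃ a b : ℕ, Nat.card G = 7 ^ 1 * 2 ^ a * 3 ^ b := by
      obtain ⟨x, y, hx, hy, hxy⟩ := Nat.dvd_mul.1 (show e' ∣ 2 * 3 by simpa using he6)
      obtain ⟨a, -, ha⟩ := (Nat.dvd_prime_pow Nat.prime_two).1 (show x ∣ 2 ^ 1 by rwa [pow_one])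
      obtain ⟨b, -, hb⟩ := (Nat.dvd_prime_pow Nat.prime_three).1 (show y ∣ 3 ^ 1 by rwa [pow_one])
      exact ⟨a, b, by rw [← hcard, ← hxy, ha, hb]; ring⟩
    have : Subsingleton (Sylow 7 G) := (Nat.card_eq_one_iff_unique.1 h1).1
    have hnP : (P : Subgroup G).Normal := P.normal_of_subsingleton
    have s1 : Group.IsSolvable (P : Subgroup G) := by
      have := isCyclic_of_prime_card hP
      let _ : CommGroup (P : Subgroup G) := IsCyclic.commGroup
      infer_instance
    have hq : Nat.card (G ⧸ (P : Subgroup G)) = e' := by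
      have := Subgroup.card_eq_card_quotient_mul_card_subgroup (P : Subgroup G)
      rw [hP, ← hcard] at this
      omega
    have s2 : Group.IsSolvable (G ⧸ (P : Subgroup G)) := by
      obtain ⟨x, y, hx, hy, hxy⟩ := Nat.dvd_mul.1 (show e' ∣ 2 * 3 by simpa using he6)
      obtain ⟨a, -, ha⟩ := (Nat.dvd_prime_pow Nat.prime_two).1 (show x ∣ 2 ^ 1 by rwa [pow_one])
      obtain ⟨b, -, hb⟩ := (Nat.dvd_prime_pow Nat.prime_three).1 (show y ∣ 3 ^ 1 by rwa [pow_one])
      exact CfsgLib.Burnside.isSolvable_of_card_eq Nat.prime_two Nat.prime_three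
        (show Nat.card (G ⧸ (P : Subgroup G)) = 2 ^ a * 3 ^ b by rw [hq, ← hxy, ha, hb])
    exact Group.isSolvable_of_ker_le_range (P : Subgroup G).subtype (QuotientGroup.mk' (P : Subgroup G)) (by simp)
  -- P is not self-normalising
  have he1 : e' ≠ 1 := by
    intro h1
    subst h1
    have hle : Subgroup.normalizer ((P : Subgroup G) : Set G) ≤ Subgroup.centralizer ((P : Subgroup G) : Set G) := by
      have hNP : (P : Subgroup G) = Subgroup.normalizer ((P : Subgroup G) : Set G) :=
        Subgroup.eq_of_le_of_card_ge Subgroup.le_normalizer (by rw [hP, he'])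
      rw [← hNP]
      intro x hx
      rw [Subgroup.mem_centralizer_iff]
      intro y hy
      have := isCyclic_of_prime_card hP
      let _ : CommGroup (P : Subgroup G) := IsCyclic.commGroup
      exact congrArg Subtype.val (mul_comm (⟨y, hy⟩ : (P : Subgroup G)) ⟨x, hx⟩)
    set K := (MonoidHom.transferSylow P hle).ker
    have hK7 : ¬ 7 ∣ Nat.card K := MonoidHom.not_dvd_card_ker_transferSylow P hle
    have hc := MonoidHom.ker_transferSylow_isComplement' P hle
    by_cases hfix : MulAction.fixedPoints K α = Set.univ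
    · have hKb : K = ⊥ := by
        rw [Subgroup.eq_bot_iff_forall]
        intro k hk
        apply Subtype.ext
        apply Equiv.ext
        intro x
        exact (hfix.symm ▸ Set.mem_univ x : x ∈ MulAction.fixedPoints K α) ⟨k, hk⟩
      have := hc.card_mul
      rw [show Nat.card (MonoidHom.transferSylow P hle).ker = 1 by rw [show (MonoidHom.transferSylow P hle).ker = ⊥ from hKb]; exact Subgroup.card_bot,
        one_mul, hP] at this
      omega
    · have : MulAction.IsPretransitive K α := MulAction.IsQuasiPreprimitive.isPretransitive_of_normal hfix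
      apply hK7
      rw [← hα, ← Nat.card_eq_fintype_card, ← MulAction.index_stabilizer_of_transitive K a₀]
      exact Subgroup.index_dvd_card _
  have hrel : ((P : Subgroup G).subgroupOf (Subgroup.normalizer ((P : Subgroup G) : Set G))).index = e' := by
    have h1 := Subgroup.card_mul_index ((P : Subgroup G).subgroupOf (Subgroup.normalizer ((P : Subgroup G) : Set G)))
    rw [Nat.card_congr (Subgroup.subgroupOfEquivOfLe Subgroup.le_normalizer).toEquiv, hP, he'] at h1
    omega
  have hsimple : e'.Prime → IsSimpleGroup G := fun h =>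
    Cfsg.Agent.S1013.result (p := 7) hα G P hn1 (hrel.symm ▸ h)
  have hcases : (e' = 3 ∧ Nat.card (Sylow 7 G) = 8) ∨ (e' = 2 ∧ Nat.card (Sylow 7 G) = 15) := by
    rw [← hcard] at h16 h9
    have hle := Nat.le_of_dvd (by norm_num) hn720
    have he := Nat.le_of_dvd (by norm_num) he6
    have hlist : Nat.card (Sylow 7 G) = 8 ∨ Nat.card (Sylow 7 G) = 15 ∨ Nat.card (Sylow 7 G) = 36 ∨ Nat.card (Sylow 7 G) = 120 := by
      have hd : Nat.card (Sylow 7 G) ∣ 720 := (dvd_mul_left _ _).trans hn720
      have hm : Nat.card (Sylow 7 G) % 7 = 1 := hmod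
      have hle' := Nat.le_of_dvd (by norm_num) hd
      generalize Nat.card (Sylow 7 G) = n at hd hm hle' hn1 ⊢
      obtain ⟨q, rfl⟩ : ∃ q, n = 7 * q + 1 := ⟨n / 7, by omega⟩
      have hq : q ≤ 102 := by omega
      interval_cases q <;> first | (exfalso; norm_num at hd; done) | (exfalso; norm_num at hn1; done) | norm_num
    interval_cases e' <;> rcases hlist with h | h | h | h <;> rw [h] at h16 h9 hn720 <;>
      first
        | (exfalso; norm_num at h16; done)
        | (exfalso; norm_num at h9; done)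
        | (exfalso; norm_num at hn720; done)
        | (exfalso; norm_num at he6; done)
        | (exfalso; exact he1 rfl)
        | exact Or.inl ⟨rfl, h⟩
        | exact Or.inr ⟨rfl, h⟩
  rcases hcases with ⟨h3, h8⟩ | ⟨h2, h15⟩
  · subst h3
    exact ⟨by rw [← hcard, h8], hsimple Nat.prime_three⟩
  · exfalso
    subst h2
    have := hsimple Nat.prime_two
    have h210 : Nat.card G = 210 := by rw [← hcard, h15]
    have T : Sylow 2 G := default
    have hT := (Cfsg.Agent.S0992.result (CfsgLib.Perm.not_comm_of_not_prime (by rw [h210]; norm_num))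
      (by rw [h210]; decide) (by rw [h210]; norm_num) T).1.card_four
    have h4 := Subgroup.card_subgroup_dvd_card (T : Subgroup G)
    rw [hT, h210] at h4
    norm_num at h4

end Cfsg.Agent.S0678
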