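import Cfsg.Statements.S3612
import Cfsg.Agent.Lib.Perm.NeumannPrimitive
import Cfsg.Agent.S0675
import Cfsg.Agent.S0676

set_option autoImplicit false
open Cfsg

namespace Cfsg.Agent.S3612

/-- Let G be an insoluble group acting faithfully and transitively on a finite set of prime size p, and suppose the normalizer of a Sylow p-subgroup of G has order p(p-1)/2. If p > 7, then the stabilizer of a point acts primitively on the remaining p - 1 points. -/
theorem result {G Ω : Type*} [Group G] [Finite G] [MulAction G Ω] [FaithfulSMul G Ω] [Finite Ω]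
    (p : ℕ) (hp : p.Prime) (hΩ : Nat.card Ω = p) (htrans : MulAction.IsPretransitive G Ω)
    (hins : ¬ Group.IsSolvable G) (P : Sylow p G)
    (hN : 2 * Nat.card ↥(Subgroup.normalizer ((P : Subgroup G) : Set G)) = p * (p - 1))
    (hp7 : 7 < p) (α : Ω) :
    MulAction.IsPreprimitive ↥(MulAction.stabilizer G α) ↥(SubMulAction.ofStabilizer G α) := by
  classical
  haveI := Fact.mk hp
  haveI := Fintype.ofFinite Ω
  haveI := htrans
  have hc : Fintype.card Ω = p := CfsgLib.Perm.NeumannRank.card_fintype_of_nat_card hΩ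
  let H : Subgroup (Equiv.Perm Ω) := (MulAction.toPermHom G Ω).range
  let φ : G ≃* H := MonoidHom.ofInjective (f := MulAction.toPermHom G Ω) MulAction.toPerm_injective
  haveI : MulAction.IsPretransitive H Ω := ⟨fun x y => by
    obtain ⟨g, hg⟩ := htrans.exists_smul_eq x y
    exact ⟨φ g, hg⟩⟩
  have hH : ¬ Group.IsSolvable H := fun h => hins (by
    haveI := h
    exact Group.isSolvable_of_isSolvable_injective (f := φ.toMonoidHom) φ.injective)
  have hback : ∀ n, MulAction.IsMultiplyPretransitive H Ω n →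
      MulAction.IsMultiplyPretransitive G Ω n := by
    intro n hn
    refine ⟨fun u v => ?_⟩
    obtain ⟨h, hh⟩ := hn.exists_smul_eq u v
    obtain ⟨g, rfl⟩ := φ.surjective h
    exact ⟨g, Function.Embedding.ext fun i => DFunLike.congr_fun hh i⟩
  have h2 : MulAction.IsMultiplyPretransitive G Ω 2 :=
    hback 2 ((Cfsg.Agent.S0675.result (hc ▸ hp) H).resolve_left hH)
  have h2' := h2
  rw [MulAction.is_two_pretransitive_iff] at h2'
  haveI : MulAction.IsPretransitive ↥(MulAction.stabilizer G α) ↥(SubMulAction.ofStabilizer G α) :=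
    ⟨fun x y => by
      obtain ⟨g, hg, hg'⟩ := h2' (a := α) (b := (x : Ω)) (c := α) (d := (y : Ω))
        (fun h => x.2 (Set.mem_singleton_iff.2 h.symm)) (fun h => y.2 (Set.mem_singleton_iff.2 h.symm))
      exact ⟨⟨g, hg⟩, Subtype.ext hg'⟩⟩
  refine ⟨fun {B} hB => ?_⟩
  by_contra hnt
  simp only [MulAction.IsTrivialBlock, not_or] at hnt
  obtain ⟨hns, hnu⟩ := hnt
  obtain ⟨b₁, hb₁, b₂, hb₂, hne⟩ := Set.not_subsingleton_iff.1 hns
  obtain ⟨w, hw⟩ := (Set.ne_univ_iff_exists_notMem B).1 hnu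
  by_cases hp3 : p % 4 = 3
  · refine CfsgLib.Perm.NeumannPrimitive.false_of_block hΩ hins hp3 hp7 P hN h2 α
      (Subtype.val '' B) ?_ (b₁ := (b₁ : Ω)) (b₂ := (b₂ : Ω)) (w := (w : Ω))
      ⟨b₁, hb₁, rfl⟩ ⟨b₂, hb₂, rfl⟩ (fun h => hne (Subtype.ext h))
      (fun h => w.2 (Set.mem_singleton_iff.2 h)) ?_ ?_
    · rintro ⟨x, -, hx⟩
      exact x.2 (Set.mem_singleton_iff.2 hx)
    · rintro ⟨x, hx, hxw⟩
      exact hw (Subtype.ext hxw ▸ hx)
    · rintro k hk _ ⟨y, hy, rfl⟩ ⟨y', hy', hky⟩ _ ⟨z, hz, rfl⟩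
      have hk' : (⟨k, hk⟩ : MulAction.stabilizer G α) • y = y' := Subtype.ext hky.symm
      have := MulAction.isBlock_iff_smul_eq_of_mem.1 hB hy (hk' ▸ hy' :
        (⟨k, hk⟩ : MulAction.stabilizer G α) • y ∈ B)
      exact ⟨_, this ▸ Set.smul_mem_smul_set hz, rfl⟩
  · -- an even normaliser gives triple transitivity
    have h3 : MulAction.IsMultiplyPretransitive G Ω 3 := by
      let PH : Sylow p H := P.mapSurjective (f := φ.toMonoidHom) φ.surjective
      refine hback 3 (Cfsg.Agent.S0676.result hc H hH PH ?_)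
      have hcN : Nat.card (Subgroup.normalizer ((P : Subgroup G) : Set G)) =
          Nat.card (Subgroup.normalizer ((PH : Subgroup H) : Set H)) := by
        rw [show (PH : Subgroup H) = (P : Subgroup G).map φ.toMonoidHom from
            Sylow.coe_mapSurjective φ.surjective P,
          ← Subgroup.map_equiv_normalizer_eq (P : Subgroup G) φ]
        exact (Subgroup.card_map_of_injective φ.injective).symm
      rw [← hcN]
      have hodd := hp.odd_of_ne_two (by omega)
      obtain ⟨k, hk⟩ := hodd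
      have hk2 : p - 1 = 4 * (k / 2) := by omega
      rw [hk2] at hN
      exact ⟨p * (k / 2), by linarith⟩
    refine hw ?_
    have h3' := h3.exists_smul_eq
    have hd1 : (b₁ : Ω) ≠ α := fun h => b₁.2 (Set.mem_singleton_iff.2 h)
    have hd2 : (b₂ : Ω) ≠ α := fun h => b₂.2 (Set.mem_singleton_iff.2 h)
    have hdw : (w : Ω) ≠ α := fun h => w.2 (Set.mem_singleton_iff.2 h)
    have hd12 : (b₁ : Ω) ≠ b₂ := fun h => hne (Subtype.ext h)
    have hd1w : (b₁ : Ω) ≠ w := fun h => hw (Subtype.ext h ▸ hb₁)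
    obtain ⟨g, hg⟩ := h3' ⟨![α, (b₁ : Ω), (b₂ : Ω)], by
        intro i j hij
        fin_cases i <;> fin_cases j <;>
          simp_all [hd1.symm, hd2.symm, hd12.symm, eq_comm]⟩
      ⟨![α, (b₁ : Ω), (w : Ω)], by
        intro i j hij
        fin_cases i <;> fin_cases j <;>
          simp_all [hd1.symm, hdw.symm, hd1w.symm, eq_comm]⟩
    have g0 : g • α = α := DFunLike.congr_fun hg 0
    have g1 : g • (b₁ : Ω) = b₁ := DFunLike.congr_fun hg 1
    have g2 : g • (b₂ : Ω) = w := DFunLike.congr_fun hg 2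
    have hk1 : (⟨g, g0⟩ : MulAction.stabilizer G α) • b₁ = b₁ := Subtype.ext g1
    have hk2 : (⟨g, g0⟩ : MulAction.stabilizer G α) • b₂ = w := Subtype.ext g2
    have := MulAction.isBlock_iff_smul_eq_of_mem.1 hB hb₁ (hk1.symm ▸ hb₁ :
      (⟨g, g0⟩ : MulAction.stabilizer G α) • b₁ ∈ B)
    exact hk2 ▸ (this ▸ Set.smul_mem_smul_set hb₂)

end Cfsg.Agent.S3612
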