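import Cfsg.Statements.S3707
import Mathlib
import Cfsg.Agent.Lib.Recog.JordanHalf

set_option autoImplicit false
open Cfsg

namespace Cfsg.Agent.S3707

/-- Let G be a finite primitive permutation group on Ω of degree n and Γ ⊂ Ω a subset with 1 < #Γ ≤ n/2 such that the pointwise stabilizer of Ω ∖ Γ is transitive on Γ. Then G is 3-transitive on Ω. -/
theorem result {G Ω : Type*} [Group G] [Finite G] [MulAction G Ω] [FaithfulSMul G Ω] [Finite Ω] (hprim : MulAction.IsPreprimitive G Ω) (Γ : Set Ω) (h1 : 1 < Γ.ncard) (h2 : 2 * Γ.ncard ≤ Nat.card Ω) (htr : ∀ x ∈ Γ, ∀ y ∈ Γ, ∃ g : G, (∀ z ∉ Γ, g • z = z) ∧ g • x = y) : MulAction.IsMultiplyPretransitive G Ω 3 := by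
  classical
  haveI : Fintype Ω := Fintype.ofFinite Ω
  have hJ : CfsgLib.Recog.JordanSet G Γ.toFinset := by
    intro x hx y hy
    simpa [Set.mem_toFinset] using htr x (by simpa using hx) y (by simpa using hy)
  obtain ⟨k, hk⟩ : ∃ k, Γᶜ.ncard = k + 1 := by
    refine ⟨Γᶜ.ncard - 1, ?_⟩
    have := Set.ncard_add_ncard_compl Γ
    omega
  haveI htrΓ : MulAction.IsPretransitive (fixingSubgroup G Γᶜ)
      (SubMulAction.ofFixingSubgroup G Γᶜ) := by
    constructor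
    intro u v
    have hu : (u : Ω) ∈ Γ := not_not.1 u.2
    have hv : (v : Ω) ∈ Γ := not_not.1 v.2
    obtain ⟨g, hg, hguv⟩ := htr _ hu _ hv
    exact ⟨⟨g, (mem_fixingSubgroup_iff G).2 fun z hz => hg z hz⟩, Subtype.ext hguv⟩
  have h2' : MulAction.IsMultiplyPretransitive G Ω 2 :=
    hprim.is_two_pretransitive hk (by
      have := Set.ncard_add_ncard_compl Γ
      omega) htrΓ
  have h2f : ∀ a b c d : Ω, a ≠ b → c ≠ d → ∃ g : G, g • a = c ∧ g • b = d := fun a b c d h h' =>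
    MulAction.is_two_pretransitive_iff.1 h2' h h'
  obtain ⟨Λ, hΛ, hΛc⟩ := CfsgLib.Recog.exists_jordanSet_compl_pair h2f Γ.toFinset hJ
    (by rwa [← Set.ncard_eq_toFinset_card'])
    (by rwa [← Set.ncard_eq_toFinset_card', ← Nat.card_eq_fintype_card])
  obtain ⟨a, b, hab, hΛab⟩ := Finset.card_eq_two.1 hΛc
  -- fixing two points, everything else can be moved anywhere
  have key : ∀ c d x y : Ω, c ≠ d → x ≠ c → x ≠ d → y ≠ c → y ≠ d →
      ∃ g : G, g • c = c ∧ g • d = d ∧ g • x = y := by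
    intro c d x y hcd hxc hxd hyc hyd
    obtain ⟨t, rfl, rfl⟩ := h2f a b c d hab hcd
    have hmem : ∀ z, z ∈ Λ ↔ z ≠ a ∧ z ≠ b := fun z => by
      have h := congrArg (fun F : Finset Ω => z ∈ F) hΛab
      simp only [Finset.mem_compl, Finset.mem_insert, Finset.mem_singleton, eq_iff_iff] at h
      tauto
    obtain ⟨g, hg, hgx⟩ := hΛ (t⁻¹ • x) ((hmem _).2 ⟨fun h => hxc (by rw [← h, smul_inv_smul]),
        fun h => hxd (by rw [← h, smul_inv_smul])⟩)
      (t⁻¹ • y) ((hmem _).2 ⟨fun h => hyc (by rw [← h, smul_inv_smul]),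
        fun h => hyd (by rw [← h, smul_inv_smul])⟩)
    refine ⟨t * g * t⁻¹, ?_, ?_, ?_⟩
    · rw [mul_smul, mul_smul, inv_smul_smul, hg a (fun h => ((hmem a).1 h).1 rfl)]
    · rw [mul_smul, mul_smul, inv_smul_smul, hg b (fun h => ((hmem b).1 h).2 rfl)]
    · rw [mul_smul, mul_smul, hgx, smul_inv_smul]
  refine ⟨fun e f => ?_⟩
  have ne : ∀ (e : Fin 3 ↪ Ω) (i j : Fin 3), i ≠ j → e i ≠ e j := fun e i j h => e.injective.ne h
  obtain ⟨g, hg0, hg1⟩ := h2f (e 0) (e 1) (f 0) (f 1) (ne e 0 1 (by decide)) (ne f 0 1 (by decide))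
  obtain ⟨k', hk0, hk1, hk2⟩ := key (f 0) (f 1) (g • e 2) (f 2) (ne f 0 1 (by decide))
    (hg0 ▸ fun h => ne e 2 0 (by decide) (MulAction.injective g h))
    (hg1 ▸ fun h => ne e 2 1 (by decide) (MulAction.injective g h))
    (ne f 2 0 (by decide)) (ne f 2 1 (by decide))
  refine ⟨k' * g, ?_⟩
  ext i
  show (k' * g) • e i = f i
  rw [mul_smul]
  fin_cases i
  · show k' • g • e 0 = f 0; rw [hg0, hk0]
  · show k' • g • e 1 = f 1; rw [hg1, hk1]
  · exact hk2

end Cfsg.Agent.S3707
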