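import Cfsg.Statements.S3611
import Cfsg.Agent.Lib.Perm.NeumannRank
import Cfsg.Agent.S0675

set_option autoImplicit false
open Cfsg

namespace Cfsg.Agent.S3611

/-- Let G be an insoluble group acting faithfully and transitively on a finite set of prime size p, and suppose the normalizer of a Sylow p-subgroup of G has order p(p-1)/2. If p ≡ 3 (mod 4), then G is triply transitive, or for any two distinct points the stabilizer of both has exactly four orbits on the set (the two fixed points and exactly two orbits on the remaining p - 2 points). -/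
theorem result {G Ω : Type*} [Group G] [Finite G] [MulAction G Ω] [FaithfulSMul G Ω] [Finite Ω]
    (p : ℕ) (hp : p.Prime) (hΩ : Nat.card Ω = p) (htrans : MulAction.IsPretransitive G Ω)
    (hins : ¬ Group.IsSolvable G) (P : Sylow p G)
    (hN : 2 * Nat.card ↥(Subgroup.normalizer ((P : Subgroup G) : Set G)) = p * (p - 1))
    (hp3 : p % 4 = 3) :
    MulAction.IsMultiplyPretransitive G Ω 3 ∨
    ∀ α β : Ω, α ≠ β →
      Nat.card (MulAction.orbitRel.Quotient ↥(MulAction.stabilizer G α ⊓ MulAction.stabilizer G β) Ω) = 4 := by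
  classical
  haveI := Fact.mk hp
  haveI := Fintype.ofFinite Ω
  open MulAction in
  have h2 : IsMultiplyPretransitive G Ω 2 := by
    let H : Subgroup (Equiv.Perm Ω) := (MulAction.toPermHom G Ω).range
    haveI : IsPretransitive H Ω := ⟨fun x y => by
      obtain ⟨g, hg⟩ := htrans.exists_smul_eq x y
      exact ⟨⟨_, g, rfl⟩, hg⟩⟩
    have hH : ¬ Group.IsSolvable H := fun h => hins (by
      haveI := h
      exact Group.isSolvable_of_isSolvable_injective
        (f := (MonoidHom.ofInjective (f := MulAction.toPermHom G Ω) MulAction.toPerm_injective).toMonoidHom)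
        (MonoidHom.ofInjective (f := MulAction.toPermHom G Ω) MulAction.toPerm_injective).injective)
    have h := (Cfsg.Agent.S0675.result
      (by rw [CfsgLib.Perm.NeumannRank.card_fintype_of_nat_card (p := p) hΩ]; exact hp) H).resolve_left hH
    rw [is_two_pretransitive_iff] at h ⊢
    intro x y z w hxy hzw
    obtain ⟨⟨_, g, rfl⟩, h1, h2⟩ := h hxy hzw
    exact ⟨g, h1, h2⟩
  by_cases h3 : MulAction.IsMultiplyPretransitive G Ω 3
  · exact Or.inl h3
  refine Or.inr fun a b hab => le_antisymm
    (CfsgLib.Perm.NeumannRank.card_two_point_orbits_le_four hΩ hins hp3 P hN h2 hab) ?_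
  by_contra hlt
  refine h3 ⟨fun u v => ?_⟩
  set S := MulAction.stabilizer G a ⊓ MulAction.stabilizer G b with hS
  let mk : Ω → MulAction.orbitRel.Quotient S Ω := fun z => Quotient.mk (MulAction.orbitRel S Ω) z
  have hfix : ∀ s : S, ∀ z, (z = a ∨ z = b) → s • z = z := by
    rintro ⟨s, hsa, hsb⟩ z (rfl | rfl)
    · exact hsa
    · exact hsb
  have hmkne : ∀ z w, (z = a ∨ z = b) → z ≠ w → mk w ≠ mk z := by
    intro z w hz hne h
    obtain ⟨s, hs⟩ := Quotient.exact h
    exact hne ((hfix s z hz).symm.trans hs)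
  -- a pair of points off `a, b` lie in one orbit
  have hone : ∀ z w, z ≠ a → z ≠ b → w ≠ a → w ≠ b → mk z = mk w := by
    intro z w hza hzb hwa hwb
    by_contra hne
    apply hlt
    haveI := Fintype.ofFinite (MulAction.orbitRel.Quotient S Ω)
    have hc : ({mk a, mk b, mk z, mk w} : Finset (MulAction.orbitRel.Quotient S Ω)).card = 4 := by
      rw [Finset.card_insert_of_notMem, Finset.card_insert_of_notMem, Finset.card_pair hne]
      · simp [Ne.symm (hmkne b z (Or.inr rfl) (Ne.symm hzb)), Ne.symm (hmkne b w (Or.inr rfl) (Ne.symm hwb))]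
      · simp [Ne.symm (hmkne a b (Or.inl rfl) hab), Ne.symm (hmkne a z (Or.inl rfl) (Ne.symm hza)),
          Ne.symm (hmkne a w (Or.inl rfl) (Ne.symm hwa))]
    rw [Nat.card_eq_fintype_card, ← hc]
    exact Finset.card_le_univ _
  have h2' := h2
  rw [MulAction.is_two_pretransitive_iff] at h2'
  obtain ⟨g, hga, hgb⟩ := h2' (fun e => absurd (u.injective e) (by decide) : u 0 ≠ u 1) hab
  obtain ⟨k, hka, hkb⟩ := h2' (fun e => absurd (v.injective e) (by decide) : v 0 ≠ v 1) hab
  have hne : ∀ (w : Fin 3 ↪ Ω) (h : G), h • w 0 = a → h • w 1 = b → h • w 2 ≠ a ∧ h • w 2 ≠ b := by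
    intro w h ha hb
    rw [← ha, ← hb]
    exact ⟨fun e => absurd (w.injective (MulAction.injective h e)) (by decide),
      fun e => absurd (w.injective (MulAction.injective h e)) (by decide)⟩
  obtain ⟨hu1, hu2⟩ := hne u g hga hgb
  obtain ⟨hv1, hv2⟩ := hne v k hka hkb
  obtain ⟨s, hs⟩ := Quotient.exact (hone _ _ hv1 hv2 hu1 hu2)
  refine ⟨k⁻¹ * (s : G) * g, Function.Embedding.ext fun i => ?_⟩
  show (k⁻¹ * (s : G) * g) • u i = v i
  rw [mul_smul, mul_smul, inv_smul_eq_iff]
  fin_cases i
  · show (s : G) • g • u 0 = k • v 0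
    rw [hga, hka]; exact hfix s a (Or.inl rfl)
  · show (s : G) • g • u 1 = k • v 1
    rw [hgb, hkb]; exact hfix s b (Or.inr rfl)
  · exact hs

end Cfsg.Agent.S3611
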