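import Cfsg.Statements.S3742
import Mathlib

set_option autoImplicit false
open Cfsg

namespace Cfsg.Agent.S3742

open QuaternionGroup

abbrev Q8 := QuaternionGroup 2

def gI : Q8 := a 1
def gJ : Q8 := xa 0

/-- Candidate endomorphism from the images of the two generators. -/
def ext8 (u v : Q8) : Q8 → Q8
  | a i => u ^ i.val
  | xa i => v * u ^ i.val

def Valid (u v : Q8) : Prop :=
  (∀ x y, ext8 u v (x * y) = ext8 u v x * ext8 u v y) ∧ Function.Injective (ext8 u v)

instance instDecValid (u v : Q8) : Decidable (Valid u v) := by unfold Valid; infer_instance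

/-- The four pairs of opposite faces of the octahedron, each represented by the union of cosets. -/
def face : Fin 4 → Finset (Finset Q8)
  | 0 => {{gI, gJ, gI * gJ}, {gI⁻¹, gJ⁻¹, (gI * gJ)⁻¹}}
  | 1 => {{gI, gJ⁻¹, (gI * gJ)⁻¹}, {gI⁻¹, gJ, gI * gJ}}
  | 2 => {{gI⁻¹, gJ, (gI * gJ)⁻¹}, {gI, gJ⁻¹, gI * gJ}}
  | 3 => {{gI⁻¹, gJ⁻¹, gI * gJ}, {gI, gJ, (gI * gJ)⁻¹}}

/-- Image of a face pair. -/
def faceIm (f : Q8 → Q8) (k : Fin 4) : Finset (Finset Q8) := (face k).image (Finset.image f)

def idx (s : Finset (Finset Q8)) : Fin 4 :=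
  if s = face 0 then 0 else if s = face 1 then 1 else if s = face 2 then 2 else 3

theorem eq_ext8 (φ : MulAut Q8) (x : Q8) : φ x = ext8 (φ gI) (φ gJ) x := by
  cases x with
  | a i =>
    have h : (a i : Q8) = gI ^ i.val := by revert i; decide +kernel
    rw [h, map_pow]
    have h2 : ext8 (φ gI) (φ gJ) (gI ^ i.val) = ext8 (φ gI) (φ gJ) (a i) := by rw [h]
    rw [h2]; rfl
  | xa i =>
    have h : (xa i : Q8) = gJ * gI ^ i.val := by revert i; decide +kernel
    rw [h, map_mul, map_pow, ← h]; rfl

theorem valid_pair (φ : MulAut Q8) : Valid (φ gI) (φ gJ) := by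
  have h : ext8 (φ gI) (φ gJ) = ⇑φ := funext fun x => (eq_ext8 φ x).symm
  exact ⟨fun x y => by rw [h]; exact map_mul φ x y, by rw [h]; exact φ.injective⟩

theorem valid_face : ∀ u v : Q8, Valid u v → ∀ k, faceIm (ext8 u v) k = face (idx (faceIm (ext8 u v) k)) := by
  decide +kernel

theorem idx_face : ∀ k, idx (face k) = k := by decide +kernel

theorem valid_inj : ∀ u v : Q8, Valid u v →
    (∀ k, idx (faceIm (ext8 u v) k) = k) → u = gI ∧ v = gJ := by
  decide +kernel

theorem valid_count : (Finset.univ.filter (fun uv : Q8 × Q8 => Valid uv.1 uv.2)).card = 24 := by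
  decide +kernel


/-- The automorphism group of the quaternion group of order 8 is isomorphic to the symmetric group of degree 4. -/
theorem result : Nonempty (MulAut (QuaternionGroup 2) ≃* Equiv.Perm (Fin 4)) := by
  classical
  have key : ∀ (φ : MulAut Q8), ⇑φ = ext8 (φ gI) (φ gJ) := fun φ => funext (eq_ext8 φ)
  let F : MulAut Q8 → Fin 4 → Fin 4 := fun φ k => idx (faceIm φ k)
  have hface : ∀ (φ : MulAut Q8) (k : Fin 4), faceIm φ k = face (F φ k) := by
    intro φ k
    change faceIm φ k = face (idx (faceIm φ k))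
    rw [key φ]
    exact valid_face _ _ (valid_pair φ) k
  have hmul : ∀ φ ψ k, F (φ * ψ) k = F φ (F ψ k) := by
    intro φ ψ k
    have h : faceIm (φ * ψ : MulAut Q8) k = (faceIm ψ k).image (Finset.image φ) := by
      simp only [faceIm, Finset.image_image]
      congr 1
      funext s
      simp only [Function.comp_apply, Finset.image_image]
      rfl
    change idx (faceIm (φ * ψ : MulAut Q8) k) = idx (faceIm φ (F ψ k))
    rw [h, hface ψ k]
    rfl
  have hone : ∀ k, F 1 k = k := by
    intro k
    change idx (faceIm (1 : MulAut Q8) k) = k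
    have h : faceIm (1 : MulAut Q8) k = face k := by
      have hid : (Finset.image (id : Q8 → Q8)) = id := funext fun s => Finset.image_id
      simp [faceIm, MulAut.coe_one, hid]
    rw [h, idx_face]
  let Φ : MulAut Q8 →* Equiv.Perm (Fin 4) :=
    { toFun := fun φ =>
        { toFun := F φ
          invFun := F φ⁻¹
          left_inv := fun k => by rw [← hmul, inv_mul_cancel, hone]
          right_inv := fun k => by rw [← hmul, mul_inv_cancel, hone] }
      map_one' := Equiv.ext hone
      map_mul' := fun φ ψ => Equiv.ext (hmul φ ψ) }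
  refine ⟨MulEquiv.ofBijective Φ ((Nat.bijective_iff_injective_and_card _).mpr ⟨?_, ?_⟩)⟩
  · rw [← MonoidHom.ker_eq_bot_iff, eq_bot_iff]
    intro φ hφ
    rw [MonoidHom.mem_ker] at hφ
    have h : ∀ k, idx (faceIm (ext8 (φ gI) (φ gJ)) k) = k := by
      intro k
      rw [← key φ]
      exact congrFun (congrArg DFunLike.coe hφ) k
    obtain ⟨h1, h2⟩ := valid_inj _ _ (valid_pair φ) h
    rw [Subgroup.mem_bot]
    ext x
    rw [eq_ext8 φ, h1, h2]
    exact (eq_ext8 1 x).symm
  · let e : MulAut Q8 ≃ {uv : Q8 × Q8 // Valid uv.1 uv.2} :=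
      { toFun := fun φ => ⟨(φ gI, φ gJ), valid_pair φ⟩
        invFun := fun uv => MulEquiv.ofBijective (MonoidHom.mk' (ext8 uv.1.1 uv.1.2) uv.2.1)
          (Finite.injective_iff_bijective.mp uv.2.2)
        left_inv := fun φ => MulEquiv.ext fun x => (eq_ext8 φ x).symm
        right_inv := fun uv => by
          apply Subtype.ext
          refine Prod.ext ?_ ?_
          · change ext8 uv.1.1 uv.1.2 gI = uv.1.1
            simp [ext8, gI, show (1 : ZMod (2 * 2)).val = 1 from rfl]
          · change ext8 uv.1.1 uv.1.2 gJ = uv.1.2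
            simp [ext8, gJ] }
    rw [Nat.card_congr e, Nat.card_eq_fintype_card, Fintype.card_subtype, valid_count,
      Nat.card_eq_fintype_card, Fintype.card_perm, Fintype.card_fin]
    rfl

end Cfsg.Agent.S3742
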