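import Cfsg.Statements.S1012
import Cfsg.Agent.Lib.Perm.SylowNormalizer
import Mathlib.Tactic

set_option autoImplicit false
open Cfsg

namespace Cfsg.Agent.S1012

/-- A group of order 24 containing no element of order 6 is isomorphic to the symmetric group of degree 4. -/
theorem result {G : Type*} [Group G] [Finite G] (h : Nat.card G = 24) (h6 : ∀ g : G, orderOf g ≠ 6) : Nonempty (G ≃* Equiv.Perm (Fin 4)) := by
  classical
  have : Fact (Nat.Prime 3) := ⟨Nat.prime_three⟩
  have : Fact (Nat.Prime 2) := ⟨Nat.prime_two⟩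
  have hsix : ∀ a b : G, orderOf a = 2 → orderOf b = 3 → a * b ≠ b * a := by
    intro a b ha hb hc
    refine h6 (a * b) ?_
    rw [Commute.orderOf_mul_eq_mul_orderOf_of_coprime hc (by rw [ha, hb]; norm_num), ha, hb]
  have h' : Nat.card G = 3 ^ 1 * 8 := by rw [h]; norm_num
  obtain ⟨P⟩ := (inferInstance : Nonempty (Sylow 3 G))
  have hPc : ∀ Q : Sylow 3 G, Nat.card (Q : Subgroup G) = 3 := fun Q => by
    rw [CfsgLib.Perm.sylow_card_eq Q h' (by norm_num), pow_one]
  obtain ⟨b, hb⟩ := exists_prime_orderOf_dvd_card' (G := (P : Subgroup G)) 3 (by rw [hPc])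
  have hb' : orderOf (b : G) = 3 := by rw [Subgroup.orderOf_coe, hb]
  have hn : Nat.card (Sylow 3 G) = 4 := by
    have h1 := CfsgLib.Perm.card_sylow_dvd_of_card_eq h'
    have h2 := card_sylow_modEq_one 3 G
    rw [Nat.ModEq] at h2
    have hne : Nat.card (Sylow 3 G) ≠ 1 := by
      intro hone
      have := (Nat.card_eq_one_iff_unique.1 hone).1
      have hnorm : Subgroup.normalizer ((P : Subgroup G) : Set G) = ⊤ :=
        Subgroup.normalizer_eq_top_iff.2 P.normal_of_subsingleton
      have hC := CfsgLib.Perm.relIndex_centralizer_dvd_sub_one (P : Subgroup G) (hPc P)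
      rw [hnorm, Subgroup.relIndex_top_right] at hC
      have hcm := Subgroup.card_mul_index (Subgroup.centralizer ((P : Subgroup G) : Set G))
      rw [h] at hcm
      have h2' : 2 ∣ Nat.card (Subgroup.centralizer ((P : Subgroup G) : Set G)) := by
        rcases (Nat.dvd_prime Nat.prime_two).1 hC with hi | hi <;> rw [hi] at hcm <;> omega
      obtain ⟨a, ha⟩ := exists_prime_orderOf_dvd_card' 2 h2'
      exact hsix a b (by rw [Subgroup.orderOf_coe, ha]) hb'
        (Subgroup.mem_centralizer_iff.1 a.2 (b : G) b.2).symm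
    have hle := Nat.le_of_dvd (by norm_num) h1
    generalize Nat.card (Sylow 3 G) = n at *
    interval_cases n <;> omega
  let e : Sylow 3 G ≃ Fin 4 := Finite.equivFinOfCardEq hn
  let f : G →* Equiv.Perm (Fin 4) :=
    e.permCongrHom.toMonoidHom.comp (MulAction.toPermHom G (Sylow 3 G))
  have hfix : ∀ k ∈ f.ker, ∀ Q : Sylow 3 G, k • Q = Q := by
    intro k hk Q
    have : MulAction.toPermHom G (Sylow 3 G) k = 1 := e.permCongrHom.injective (by
      rw [map_one]; exact hk)
    exact Equiv.ext_iff.1 this Q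
  -- no element of order three in the kernel
  have h3 : ∀ k ∈ f.ker, orderOf k ≠ 3 := by
    intro k hk hk3
    have hkQ : ∀ Q : Sylow 3 G, (Q : Subgroup G) = Subgroup.zpowers k := by
      intro Q
      have hz : IsPGroup 3 (Subgroup.zpowers k) :=
        IsPGroup.of_card (n := 1) (by rw [pow_one, Nat.card_zpowers, hk3])
      have hmem : k ∈ Subgroup.zpowers k ⊓ (Q : Subgroup G) := by
        rw [← hz.inf_normalizer_sylow Q]
        exact ⟨Subgroup.mem_zpowers k, Sylow.smul_eq_iff_mem_normalizer.1 (hfix k hk Q)⟩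
      symm
      refine Subgroup.eq_of_le_of_card_ge (Subgroup.zpowers_le.2 hmem.2) ?_
      rw [hPc Q, Nat.card_zpowers, hk3]
    have : Nat.card (Sylow 3 G) ≤ 1 := by
      rw [Finite.card_le_one_iff_subsingleton]
      exact ⟨fun A B => Sylow.ext ((hkQ A).trans (hkQ B).symm)⟩
    omega
  have hker : f.ker = ⊥ := by
    by_contra hne
    -- the kernel is a normal subgroup of order two
    have hle : f.ker ≤ Subgroup.normalizer ((P : Subgroup G) : Set G) := fun k hk =>
      Sylow.smul_eq_iff_mem_normalizer.1 (hfix k hk P)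
    have hN : Nat.card (Subgroup.normalizer ((P : Subgroup G) : Set G)) = 6 := by
      have := CfsgLib.Perm.card_normalizer_mul_card_sylow P
      rw [hn, h] at this
      omega
    have hd : Nat.card f.ker ∣ 6 := hN ▸ Subgroup.card_dvd_of_le hle
    have hk2 : Nat.card f.ker = 2 := by
      have h1 : Nat.card f.ker ≠ 1 := fun h1 => hne (Subgroup.card_eq_one.1 h1)
      have hnot : ¬ 3 ∣ Nat.card f.ker := by
        intro hd3
        obtain ⟨k, hk⟩ := exists_prime_orderOf_dvd_card' (G := f.ker) 3 hd3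
        exact h3 k k.2 (by rw [Subgroup.orderOf_coe, hk])
      have := Nat.le_of_dvd (by norm_num) hd
      generalize Nat.card f.ker = n at *
      interval_cases n <;> omega
    obtain ⟨a, ha⟩ := exists_prime_orderOf_dvd_card' (G := f.ker) 2 (by rw [hk2])
    have htop := zpowers_eq_top_of_prime_card hk2 (g := a)
      (by intro h1; rw [h1, orderOf_one] at ha; omega)
    have hc : (b : G) * a * (b : G)⁻¹ ∈ f.ker := (MonoidHom.normal_ker f).conj_mem _ a.2 _
    have hmem : (⟨_, hc⟩ : f.ker) ∈ Subgroup.zpowers a := htop ▸ Subgroup.mem_top _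
    rw [← mem_powers_iff_mem_zpowers] at hmem
    obtain ⟨i, hi⟩ := hmem
    have hi' : (a : G) ^ i = (b : G) * a * (b : G)⁻¹ := congrArg Subtype.val hi
    have ha' : orderOf (a : G) = 2 := by rw [Subgroup.orderOf_coe, ha]
    rw [← pow_mod_orderOf, ha'] at hi'
    rcases Nat.mod_two_eq_zero_or_one i with h0 | h1
    · rw [h0, pow_zero, eq_comm, conj_eq_one_iff] at hi'
      rw [hi', orderOf_one] at ha'
      omega
    · rw [h1, pow_one] at hi'
      exact hsix a b ha' hb' (eq_mul_inv_iff_mul_eq.1 hi')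
  have hinj := (MonoidHom.ker_eq_bot_iff f).1 hker
  refine ⟨MulEquiv.ofBijective f ((Nat.bijective_iff_injective_and_card f).2 ⟨hinj, ?_⟩)⟩
  rw [h, Nat.card_perm, Nat.card_fin]
  rfl

end Cfsg.Agent.S1012
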