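import Cfsg.Statements.S0999
import Cfsg.Agent.Lib.Perm.FewSylowSmall

set_option autoImplicit false
open Cfsg

namespace Cfsg.Agent.S0999

/-- Let G be a non-cyclic finite simple group and p a prime divisor of its order with p^3 > |G|. Then p > 3 and G is isomorphic to the projective special linear group of dimension 2 over the field with p elements, or p - 1 is a power of 2 and G is isomorphic to that group over the field with p - 1 elements. -/
theorem result {G : Type*} [Group G] [Finite G] [IsSimpleGroup G] (hG : ¬ IsCyclic G) (p : ℕ) (hp : p.Prime) (hdvd : p ∣ Nat.card G) (hbig : Nat.card G < p ^ 3) : (∃ (F : Type) (_ : Field F) (_ : Fintype F), Fintype.card F = p ∧ 3 < p ∧ Nonempty (G ≃* Matrix.ProjectiveSpecialLinearGroup (Fin 2) F)) ∨ (∃ (m : ℕ) (F : Type) (_ : Field F) (_ : Fintype F), Fintype.card F = 2 ^ m ∧ p = 2 ^ m + 1 ∧ 3 < p ∧ Nonempty (G ≃* Matrix.ProjectiveSpecialLinearGroup (Fin 2) F)) := by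
  haveI := Fact.mk hp
  have hnc : ¬ IsMulCommutative G := fun h => by
    letI : CommGroup G := { ‹Group G› with mul_comm := h.is_comm.comm }
    exact hG inferInstance
  have hperf : _root_.commutator G = ⊤ := by
    rcases IsSimpleGroup.eq_bot_or_eq_top_of_normal (_root_.commutator G) inferInstance with h | h
    · exact absurd ⟨⟨fun a b => commutatorElement_eq_one_iff_mul_comm.mp (Subgroup.mem_bot.mp (h ▸
        Subgroup.commutator_mem_commutator (Subgroup.mem_top a) (Subgroup.mem_top b)))⟩⟩ hnc
    · exact h
  refine CfsgLib.Perm.FewSylow.brauer_small hdvd hbig hperf (fun P hP => ?_) fun K hK hKp => ?_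
  · rcases hP.eq_bot_or_eq_top with h | h
    · have h1 := P.ne_bot_of_dvd_card hdvd
      exact h1 h
    · haveI : Nontrivial G := inferInstance
      have h1 : IsPGroup p G := fun g => by
        obtain ⟨k, hk⟩ := P.isPGroup' ⟨g, by rw [h]; exact Subgroup.mem_top g⟩
        exact ⟨k, congrArg Subtype.val hk⟩
      haveI := h1.center_nontrivial
      refine hnc ⟨⟨fun a b => ?_⟩⟩
      rcases IsSimpleGroup.eq_bot_or_eq_top_of_normal (Subgroup.center G) inferInstance with hz | hz
      · exact absurd hz ((Subgroup.nontrivial_iff_ne_bot _).1 inferInstance)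
      · exact (Subgroup.mem_center_iff.1 (hz.ge (Subgroup.mem_top b)) a)
  · exact hK.eq_bot_or_eq_top.resolve_right fun h => hKp (by rw [h, Subgroup.card_top]; exact hdvd)

end Cfsg.Agent.S0999
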