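import Cfsg.Statements.S0998
import Cfsg.Agent.Lib.Perm.ThreePrimeOrder.Main
import Cfsg.Agent.Lib.TwoGroups.SmallOrders.Filter
import Cfsg.Agent.Lib.Recog.SimpleSixty
import Cfsg.Agent.Lib.Classical.SmallIsoSix
import Cfsg.Agent.S0999
import Cfsg.Agent.Lib.Classical.Dickson.SubgroupFacts
import Mathlib.NumberTheory.Fermat

set_option autoImplicit false
open Cfsg

namespace Cfsg.Agent.S0998

/-- Consecutive Mersenne or Fermat primes. -/
private theorem small {p r k b : ℕ} (hp : p.Prime) (hr : r.Prime) (hr3 : 3 ≤ r) (hpk : p = 2 * k + 1)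
    (h : k * (k + 1) = r * 2 ^ b) : p = 5 ∨ p = 7 := by
  have hb : b ≠ 0 := fun e => by
    rw [e, pow_zero, mul_one] at h
    obtain ⟨j, hj⟩ := Nat.even_mul_succ_self k
    obtain ⟨i, hi⟩ := hr.odd_of_ne_two (by omega)
    omega
  rcases Nat.even_or_odd k with hk | hk
  · have hodd : Nat.Coprime (k + 1) (2 ^ b) := by
      refine Nat.Coprime.pow_right b ((Nat.prime_two.coprime_iff_not_dvd.2 ?_).symm)
      obtain ⟨j, hj⟩ := hk; omega
    have h1 : k + 1 ∣ r := hodd.dvd_of_dvd_mul_right ⟨k, by rw [← h]; ring⟩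
    rcases (Nat.dvd_prime hr).1 h1 with e | e
    · have : k = 0 := by omega
      rw [this] at h; simp at h; omega
    · have hk2 : k = 2 ^ b := by
        rw [e, mul_comm] at h
        exact Nat.eq_of_mul_eq_mul_left hr.pos h
      obtain ⟨i, hi⟩ := Nat.pow_of_pow_add_prime (a := 2) (n := b) (by norm_num) hb
        (show (2 ^ b + 1).Prime by rw [← hk2, e]; exact hr)
      obtain ⟨j, hj⟩ := Nat.pow_of_pow_add_prime (a := 2) (n := b + 1) (by norm_num) (by omega)
        (show (2 ^ (b + 1) + 1).Prime by rw [pow_succ, ← hk2, mul_comm, ← hpk]; exact hp)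
      have hb1 : b = 1 := by
        rcases i with _ | i
        · simpa using hi
        rcases j with _ | j
        · rw [pow_zero] at hj; omega
        rw [pow_succ] at hi hj; omega
      rw [hk2, hb1] at hpk
      omega
  · have hodd : Nat.Coprime k (2 ^ b) := by
      refine Nat.Coprime.pow_right b ((Nat.prime_two.coprime_iff_not_dvd.2 ?_).symm)
      obtain ⟨j, hj⟩ := hk; omega
    have h1 : k ∣ r := hodd.dvd_of_dvd_mul_right ⟨k + 1, h.symm⟩
    rcases (Nat.dvd_prime hr).1 h1 with e | e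
    · have := Nat.mul_le_mul hr3 (Nat.one_le_two_pow (n := b))
      rw [e] at h
      omega
    · have hk2 : k + 1 = 2 ^ b := by
        rw [e] at h
        have := Nat.eq_of_mul_eq_mul_left hr.pos h
        rw [e]; omega
      have hb1 : b ≠ 1 := fun e1 => by rw [e1] at hk2; omega
      have hbp := Nat.prime_of_pow_sub_one_prime (a := 2) hb1 (show (2 ^ b - 1).Prime by
        rw [show 2 ^ b - 1 = r by omega]; exact hr)
      have hbp' := Nat.prime_of_pow_sub_one_prime (a := 2) (n := b + 1) (by omega)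
        (show (2 ^ (b + 1) - 1).Prime by rw [pow_succ, show 2 ^ b * 2 - 1 = p by omega]; exact hp)
      have hb2 : b = 2 := by
        rcases Nat.Prime.eq_two_or_odd hbp.2 with h2 | h2
        · exact h2
        · rcases Nat.Prime.eq_two_or_odd hbp'.2 with h3 | h3 <;> omega
      rw [hb2] at hk2
      omega

private theorem main {G : Type*} [Group G] [Finite G] [IsSimpleGroup G] (hG : ¬ IsCyclic G)
    (p q r b : ℕ) (hp : p.Prime) (hq : q.Prime) (hr : r.Prime) (hpq : p ≠ q) (hqr : q ≠ r)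
    (hrp : r < p) (hG' : Nat.card G = p * r * q ^ b) :
    (∃ (F : Type) (_ : Field F) (_ : Fintype F), Fintype.card F = 5 ∧
      Nonempty (G ≃* Matrix.ProjectiveSpecialLinearGroup (Fin 2) F)) ∨
    (∃ (F : Type) (_ : Field F) (_ : Fintype F), Fintype.card F = 7 ∧
      Nonempty (G ≃* Matrix.ProjectiveSpecialLinearGroup (Fin 2) F)) := by
  classical
  haveI := Fintype.ofFinite G
  haveI := Fact.mk hp
  have hnc : ¬ IsMulCommutative G := fun h => by
    letI : CommGroup G := { ‹Group G› with mul_comm := h.is_comm.comm }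
    exact hG inferInstance
  have hb : b ≠ 0 := fun e => by
    rw [e, pow_zero, mul_one] at hG'
    haveI : Group.IsSolvable G := CfsgLib.Burnside.isSolvable_of_card_eq (a := 1) (b := 1) hp hr
      (by rw [hG', pow_one, pow_one])
    exact hnc ⟨⟨IsSimpleGroup.comm_iff_isSolvable.2 inferInstance⟩⟩
  have hr3 : 3 ≤ r := by
    by_contra h
    have h2 : r = 2 := by have := hr.two_le; omega
    subst h2
    refine CfsgLib.TwoGroups.SmallOrders.false_of_two_mod_four hnc ?_
    obtain ⟨i, hi⟩ : Odd (p * q ^ b) :=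
      (hp.odd_of_ne_two (by omega)).mul ((hq.odd_of_ne_two hqr).pow)
    rw [hG', mul_comm p 2, mul_assoc, hi]
    omega
  have H : CfsgLib.Perm.ThreePrimeOrder.Hyp G p r q b :=
    ⟨hp, hr, hq, hrp, hr3, hpq.symm, hqr, by omega, hnc, hG'⟩
  have hPSL : (∃ (F : Type) (_ : Field F) (_ : Fintype F), Fintype.card F = p ∧ 3 < p ∧
        Nonempty (G ≃* Matrix.ProjectiveSpecialLinearGroup (Fin 2) F)) ∨
      (∃ (m : ℕ) (F : Type) (_ : Field F) (_ : Fintype F), Fintype.card F = 2 ^ m ∧ p = 2 ^ m + 1 ∧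
        3 < p ∧ Nonempty (G ≃* Matrix.ProjectiveSpecialLinearGroup (Fin 2) F)) := by
    rcases CfsgLib.Perm.ThreePrimeOrder.dichotomy H with ⟨P, hP, hC, hn⟩ | hbig
    · exact CfsgLib.Perm.FewSylow.brauer P hP hC H.perf hn
    · exact Cfsg.Agent.S0999.result hG p hp H.p_dvd hbig
  have hrodd := hr.odd_of_ne_two (by omega)
  rcases hPSL with ⟨F, iF, iFF, hF, hp3, ⟨e⟩⟩ | ⟨m, F, iF, iFF, hF, hpm, hp3, ⟨e⟩⟩
  · have hcard := CfsgLib.Classical.Dickson.gcd_mul_card_psl (F := F) hF
    rw [← Nat.card_congr e.toEquiv, hG'] at hcard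
    obtain ⟨k, hk⟩ := hp.odd_of_ne_two (by omega)
    rw [show Nat.gcd 2 (p - 1) = 2 from Nat.gcd_eq_left ⟨k, by omega⟩] at hcard
    have hk1 : k * (k + 1) * 2 = r * q ^ b := by
      have h1 : p * (2 * (r * q ^ b)) = p * (p ^ 2 - 1) := by rw [← hcard]; ring
      have h2 := Nat.eq_of_mul_eq_mul_left hp.pos h1
      have h3 : p ^ 2 = 4 * (k * (k + 1)) + 1 := by rw [hk]; ring
      omega
    have hq2 : q = 2 := by
      have h2 : 2 ∣ q ^ b := (Nat.prime_two.dvd_mul.1 ⟨k * (k + 1), by rw [← hk1]; ring⟩).resolve_left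
        fun h => by obtain ⟨i, hi⟩ := hrodd; omega
      exact ((Nat.prime_dvd_prime_iff_eq Nat.prime_two hq).1 (Nat.prime_two.dvd_of_dvd_pow h2)).symm
    obtain ⟨b, rfl⟩ := Nat.exists_eq_succ_of_ne_zero hb
    rw [hq2, pow_succ, ← mul_assoc] at hk1
    rcases small hp hr hr3 hk (Nat.eq_of_mul_eq_mul_right two_pos hk1) with h | h
    · exact Or.inl ⟨F, iF, iFF, hF.trans h, ⟨e⟩⟩
    · exact Or.inr ⟨F, iF, iFF, hF.trans h, ⟨e⟩⟩
  · have hcard := CfsgLib.Classical.Dickson.gcd_mul_card_psl (F := F) hF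
    rw [← Nat.card_congr e.toEquiv, hG'] at hcard
    have hm : m ≠ 0 := fun h => by rw [h, pow_zero] at hpm; omega
    have h1p : 1 ≤ 2 ^ m := Nat.one_le_two_pow
    obtain ⟨j, hj⟩ := dvd_pow_self 2 hm
    rw [show Nat.gcd 2 (2 ^ m - 1) = 1 from (Nat.prime_two.coprime_iff_not_dvd.2 (by omega)), one_mul] at hcard
    have h2 : r * q ^ b = 2 ^ m * (2 ^ m - 1) := by
      refine Nat.eq_of_mul_eq_mul_left hp.pos ?_
      have h4 : (2 ^ m) ^ 2 - 1 = (2 ^ m + 1) * (2 ^ m - 1) := by
        have := Nat.sq_sub_sq (2 ^ m) 1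
        simpa using this
      rw [h4, ← hpm] at hcard
      rw [← mul_assoc, hcard]; ring
    have hq2 : q = 2 := by
      have h3 : 2 ∣ q ^ b := (Nat.prime_two.dvd_mul.1 (h2 ▸ (dvd_mul_of_dvd_left ⟨j, hj⟩ _))).resolve_left
        fun h => by obtain ⟨i, hi⟩ := hrodd; omega
      exact ((Nat.prime_dvd_prime_iff_eq Nat.prime_two hq).1 (Nat.prime_two.dvd_of_dvd_pow h3)).symm
    subst hq2
    have hrm : r = 2 ^ m - 1 := by
      refine (((Nat.dvd_prime hr).1 ?_).resolve_left (by omega)).symm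
      refine ((Nat.prime_two.coprime_iff_not_dvd.2 (show ¬ 2 ∣ 2 ^ m - 1 by omega)).symm.pow_right b).dvd_of_dvd_mul_right ⟨2 ^ m, ?_⟩
      rw [h2]; ring
    have h3 : r = 3 := by
      have hmod : 2 ^ m % 3 = 1 ∨ 2 ^ m % 3 = 2 := by
        have : ¬ 3 ∣ 2 ^ m := fun h => by
          have := (Nat.prime_dvd_prime_iff_eq Nat.prime_three Nat.prime_two).1
            (Nat.prime_three.dvd_of_dvd_pow h)
          omega
        omega
      rcases hmod with h | h
      · exact ((Nat.prime_dvd_prime_iff_eq Nat.prime_three hr).1 (by omega)).symm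
      · have := (Nat.prime_dvd_prime_iff_eq Nat.prime_three hp).1 (by omega)
        omega
    have hp5 : p = 5 := by omega
    have hb2 : 2 ^ b = 4 := by
      rw [h3] at h2
      rw [show 2 ^ m = 4 by omega] at h2
      omega
    obtain ⟨e1⟩ := CfsgLib.Recog.Sixty.iso_alt_five (G := G) (by rw [hG', hp5, h3, hb2])
    haveI : Fact (Nat.Prime 5) := ⟨by norm_num⟩
    obtain ⟨e2⟩ := CfsgLib.Classical.nonempty_psl_five_equiv_alt (F := ZMod 5) (ZMod.card 5)
    exact Or.inl ⟨ZMod 5, inferInstance, inferInstance, ZMod.card 5, ⟨e1.trans e2.symm⟩⟩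


/-- A non-cyclic finite simple group whose order has the form p * r * q^b for distinct primes p, q, r is isomorphic to the projective special linear group of dimension 2 over the field with 5 or with 7 elements. -/
theorem result {G : Type*} [Group G] [Finite G] [IsSimpleGroup G] (hG : ¬ IsCyclic G) (p q r b : ℕ) (hp : p.Prime) (hq : q.Prime) (hr : r.Prime) (hpq : p ≠ q) (hpr : p ≠ r) (hqr : q ≠ r) (hG' : Nat.card G = p * r * q ^ b) : (∃ (F : Type) (_ : Field F) (_ : Fintype F), Fintype.card F = 5 ∧ Nonempty (G ≃* Matrix.ProjectiveSpecialLinearGroup (Fin 2) F)) ∨ (∃ (F : Type) (_ : Field F) (_ : Fintype F), Fintype.card F = 7 ∧ Nonempty (G ≃* Matrix.ProjectiveSpecialLinearGroup (Fin 2) F)) := by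
  rcases lt_or_gt_of_ne hpr with h | h
  · exact main hG r q p b hr hq hp hqr.symm hpq.symm h (by rw [hG']; ring)
  · exact main hG p q r b hp hq hr hpq hqr h hG'

end Cfsg.Agent.S0998
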