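import Cfsg.Statements.S1001
import Cfsg.Agent.S0144
import Cfsg.Agent.S0904

set_option autoImplicit false
open Cfsg

namespace Cfsg.Agent.S1001

/-- In a finite simple group whose order has the form p * 3^a * 2^b with p prime, the centralizer of any element of order p is the cyclic group it generates. -/
theorem result {G : Type*} [Group G] [Finite G] [IsSimpleGroup G] (p a b : ℕ) (hp : p.Prime) (hG : Nat.card G = p * 3 ^ a * 2 ^ b) (x : G) (hx : orderOf x = p) : Subgroup.centralizer ({x} : Set G) = Subgroup.zpowers x := by
  classical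
  haveI := Fact.mk hp
  by_cases hs : Group.IsSolvable G
  · have hcomm : ∀ u v : G, u * v = v * u := IsSimpleGroup.comm_iff_isSolvable.2 hs
    letI : CommGroup G := { (inferInstance : Group G) with mul_comm := hcomm }
    have hprime : (Nat.card G).Prime := IsSimpleGroup.prime_card
    have hd : orderOf x ∣ Nat.card G := orderOf_dvd_natCard x
    have hcard : Nat.card (Subgroup.zpowers x) = Nat.card G := by
      rw [Nat.card_zpowers]
      rcases (Nat.dvd_prime hprime).1 hd with h | h
      · exact absurd (hx ▸ h) hp.ne_one
      · exact h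
    rw [Subgroup.eq_top_of_card_eq _ hcard]
    exact eq_top_iff.2 fun g _ => Subgroup.mem_centralizer_iff.2 fun y _ => hcomm y g
  have hp3 : p ≠ 3 := by
    rintro rfl
    exact hs (Cfsg.Agent.S0144.result 3 2 (a + 1) b Nat.prime_three Nat.prime_two (by rw [hG, pow_succ']))
  have hp2 : p ≠ 2 := by
    rintro rfl
    exact hs (Cfsg.Agent.S0144.result 3 2 a (b + 1) Nat.prime_three Nat.prime_two (by rw [hG, pow_succ]; ring))
  have hcard : Nat.card G = 3 ^ a * 2 ^ b * p := by rw [hG]; ring
  have hz : IsPGroup p (Subgroup.zpowers x) := IsPGroup.of_card (n := 1) (by rw [Nat.card_zpowers, hx, pow_one])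
  obtain ⟨S, hS⟩ := hz.exists_le_sylow
  have hSc : Nat.card (S : Subgroup G) = p := by
    have h2 : (Nat.card G).factorization p = 1 := by
      rw [hcard, Nat.factorization_mul (by positivity) hp.ne_zero, Nat.factorization_mul (by positivity) (by positivity)]
      simp [Nat.prime_three.factorization_pow, Nat.prime_two.factorization_pow, hp.factorization,
        Finsupp.single_apply, Ne.symm hp2, Ne.symm hp3]
    rw [Sylow.card_eq_multiplicity, h2, pow_one]
  have heq : Subgroup.zpowers x = (S : Subgroup G) :=
    Subgroup.eq_of_le_of_card_ge hS (by rw [hSc, Nat.card_zpowers, hx])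
  rw [← Subgroup.centralizer_closure, ← Subgroup.zpowers_eq_closure, heq]
  exact Cfsg.Agent.S0904.result 3 2 p a b Nat.prime_three Nat.prime_two (by norm_num) (Ne.symm hp3)
    (Ne.symm hp2) hcard S

end Cfsg.Agent.S1001
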