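import Cfsg.Statements.S1010
import Cfsg.Agent.Lib.Transfer.Fusion
import Cfsg.Agent.Lib.ClassCount.ManyPiClasses

set_option autoImplicit false
open Cfsg

namespace Cfsg.Agent.S1010

open Subgroup MulAction

universe u

variable {G : Type u} [Group G] [Finite G]

private theorem card_sylow_sub {p : ℕ} [Fact p.Prime] (K : Subgroup G)
    (h : ∀ P : Sylow p G, (P : Subgroup G) ≤ K) : Nat.card (Sylow p K) = Nat.card (Sylow p G) :=
  (Nat.card_congr (Equiv.ofBijective (fun P : Sylow p G => P.subtype (h P))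
    ⟨fun P Q e => Sylow.subtype_injective e, fun R => by
      obtain ⟨Q, hQ⟩ := (R.2.map K.subtype).exists_le_sylow
      exact ⟨Q, Sylow.ext (R.3 (Q.subtype (h Q)).2 fun x hx => hQ ⟨x, hx, rfl⟩)⟩⟩)).symm

private theorem sylow_eq_of_le {p : ℕ} {P Q : Sylow p G} (h : (P : Subgroup G) ≤ Q) : P = Q :=
  (Sylow.ext (P.3 Q.2 h)).symm

private theorem mem_of_fix {p : ℕ} [Fact p.Prime] {x : G} {P Q : Sylow p G}
    (hx : x ∈ (P : Subgroup G)) (h : x • Q = Q) : x ∈ (Q : Subgroup G) := by
  have h2 : x ∈ (P : Subgroup G) ⊓ Subgroup.normalizer ((Q : Subgroup G) : Set G) :=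
    Subgroup.mem_inf.mpr ⟨hx, Sylow.smul_eq_iff_mem_normalizer.mp h⟩
  exact (Subgroup.mem_inf.mp ((P.2.inf_normalizer_sylow Q).le h2)).2

private theorem card_sylow_quotient (K : Subgroup G) [K.Normal]
    (hK : ∀ P : Sylow 5 G, K ≤ Subgroup.normalizer ((P : Subgroup G) : Set G)) :
    Nat.card (Sylow 5 (G ⧸ K)) = Nat.card (Sylow 5 G) := by
  haveI : Fact (Nat.Prime 5) := ⟨by norm_num⟩
  refine (Nat.card_congr (Equiv.ofBijective _
    (show Function.Bijective (fun P : Sylow 5 G => P.mapSurjective (QuotientGroup.mk'_surjective K)) from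
      ⟨fun P Q e => ?_, Sylow.mapSurjective_surjective (QuotientGroup.mk'_surjective K) 5⟩))).symm
  have e' : (P : Subgroup G).map (QuotientGroup.mk' K) = (Q : Subgroup G).map (QuotientGroup.mk' K) :=
    congrArg (fun R : Sylow 5 (G ⧸ K) => (R : Subgroup (G ⧸ K))) e
  have hle : (Q : Subgroup G) ≤ (P : Subgroup G) ⊔ K := by
    have := Subgroup.le_comap_map (QuotientGroup.mk' K) (Q : Subgroup G)
    rwa [← e', Subgroup.comap_map_eq, QuotientGroup.ker_mk'] at this
  have h2 : (Q : Subgroup G) ≤ (Q : Subgroup G) ⊓ Subgroup.normalizer ((P : Subgroup G) : Set G) :=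
    le_inf le_rfl (hle.trans (sup_le Subgroup.le_normalizer (hK P)))
  exact (sylow_eq_of_le ((h2.trans (Q.2.inf_normalizer_sylow P).le).trans inf_le_right)).symm

/-- If there are twenty-one Sylow subgroups and the group acts faithfully on them, they have order 5. -/
private theorem card_eq_five [hp : Fact (Nat.Prime 5)] (h21 : Nat.card (Sylow 5 G) = 21)
    (hfaith : ∀ g : G, (∀ Q : Sylow 5 G, g • Q = Q) → g = 1) (P : Sylow 5 G) :
    Nat.card (P : Subgroup G) = 5 := by
  classical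
  have h20 : ∀ A : Sylow 5 G, Nat.card {B : Sylow 5 G // B ≠ A} = 20 := fun A => by
    haveI := Fintype.ofFinite (Sylow 5 G)
    rw [Nat.card_eq_fintype_card, Fintype.card_subtype_compl, Fintype.card_subtype_eq,
      ← Nat.card_eq_fintype_card, h21]
  have hstab : ∀ A B : Sylow 5 G, stabilizer (A : Subgroup G) B = (B : Subgroup G).subgroupOf A := by
    intro A B
    ext a
    rw [mem_stabilizer_iff, mem_subgroupOf]
    exact ⟨fun h => mem_of_fix a.2 h, fun h =>
      Sylow.smul_eq_iff_mem_normalizer.mpr (Subgroup.le_normalizer h)⟩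
  have horb : ∀ A B : Sylow 5 G, B ≠ A → Nat.card (orbit (A : Subgroup G) B) =
      ((B : Subgroup G).subgroupOf A).index := fun A B _ => by
    rw [Nat.card_congr (orbitEquivQuotientStabilizer (A : Subgroup G) B), ← index_eq_card, hstab]
  have hnot : ∀ A B : Sylow 5 G, B ≠ A → ∀ a : (A : Subgroup G), a • B ≠ A := fun A B hne a h => hne (by
    rw [← inv_smul_smul a B, h]
    exact Sylow.smul_eq_iff_mem_normalizer.mpr (Subgroup.le_normalizer (inv_mem a.2)))
  have hidx : ∀ A B : Sylow 5 G, B ≠ A → ((B : Subgroup G).subgroupOf A).index = 5 := by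
    intro A B hne
    obtain ⟨j, hj⟩ := A.2.index ((B : Subgroup G).subgroupOf A)
    have hle : 5 ^ j ≤ 20 := by
      rw [← hj, ← horb A B hne, ← h20 A]
      refine Nat.card_le_card_of_injective (fun C => ⟨C.1, ?_⟩) (fun C D h => Subtype.ext
        (congrArg (fun z : {B : Sylow 5 G // B ≠ A} => z.1) h))
      obtain ⟨a, ha⟩ := C.2
      rw [← ha]
      exact hnot A B hne a
    rcases j with _ | _ | j
    · rw [pow_zero, index_eq_one, subgroupOf_eq_top] at hj
      exact absurd (sylow_eq_of_le hj) hne.symm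
    · exact hj
    · rw [pow_succ, pow_succ] at hle
      have := Nat.one_le_pow j 5 (by norm_num)
      omega
  have hinter : ∀ A B : Sylow 5 G, B ≠ A →
      Nat.card ((A : Subgroup G) ⊓ B : Subgroup G) * 5 = Nat.card (A : Subgroup G) := by
    intro A B hne
    rw [← Nat.card_congr (subgroupOfEquivOfLe (inf_le_left : (A : Subgroup G) ⊓ B ≤ A)).toEquiv,
      inf_subgroupOf_left]
    have := card_mul_index ((B : Subgroup G).subgroupOf A)
    rwa [hidx A B hne] at this
  have hnormal : ∀ A B : Sylow 5 G, B ≠ A → ((B : Subgroup G).subgroupOf A).Normal := by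
    intro A B hne
    refine normal_of_index_eq_minFac_card ?_
    obtain ⟨k, hk⟩ := IsPGroup.iff_card.mp A.2
    have hk0 : k ≠ 0 := fun h0 => by
      have := hinter A B hne
      rw [hk, h0] at this
      omega
    rw [hidx A B hne, hk, Nat.pow_minFac hk0, hp.out.minFac_eq]
  have hconj : ∀ A B : Sylow 5 G, B ≠ A → ∀ a : (A : Subgroup G),
      (A : Subgroup G) ⊓ ((a • B : Sylow 5 G) : Subgroup G) = (A : Subgroup G) ⊓ B := by
    intro A B hne a
    ext x
    simp only [Subgroup.mem_inf]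
    refine and_congr_right fun hx => ?_
    have hn := hnormal A B hne
    change x ∈ ((((a : G) • B : Sylow 5 G)) : Subgroup G) ↔ x ∈ (B : Subgroup G)
    rw [Sylow.coe_subgroup_smul, Subgroup.mem_pointwise_smul_iff_inv_smul_mem]
    constructor
    · intro h
      have h1 : (⟨(a : G)⁻¹ * x * a, mul_mem (mul_mem (inv_mem a.2) hx) a.2⟩ : (A : Subgroup G)) ∈
          (B : Subgroup G).subgroupOf A := by simpa [mem_subgroupOf, MulAut.smul_def] using h
      simpa [mem_subgroupOf, mul_assoc] using hn.conj_mem _ h1 a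
    · intro h
      have := hn.conj_mem ⟨x, hx⟩ h a⁻¹
      simpa [mem_subgroupOf, MulAut.smul_def] using this
  have hcardeq : ∀ A B : Sylow 5 G, Nat.card (A : Subgroup G) = Nat.card (B : Subgroup G) :=
    fun A B => by rw [A.card_eq_multiplicity, B.card_eq_multiplicity]
  by_contra h5
  obtain ⟨Q, hQ⟩ : ∃ Q : Sylow 5 G, Q ≠ P := by
    by_contra h; push Not at h
    haveI : Subsingleton (Sylow 5 G) := ⟨fun a b => (h a).trans (h b).symm⟩
    rw [Nat.card_unique] at h21
    omega
  have hR := hinter P Q hQ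
  set R : Subgroup G := (P : Subgroup G) ⊓ Q with hRdef
  obtain ⟨r, hr, hr1⟩ : ∃ r ∈ R, r ≠ 1 := by
    refine R.ne_bot_iff_exists_ne_one.mp (fun h => h5 ?_) |>.elim fun r hr => ⟨r.1, r.2, fun h => hr (Subtype.ext h)⟩
    rw [h, card_bot] at hR
    omega
  obtain ⟨Z, hZ⟩ : ∃ Z : Sylow 5 G, ¬ R ≤ Z := by
    by_contra h; push Not at h
    exact hr1 (hfaith r fun A => Sylow.smul_eq_iff_mem_normalizer.mpr (Subgroup.le_normalizer (h A hr)))
  let f : {B : Sylow 5 G // B ≠ Z} → Set.range (fun B : {B : Sylow 5 G // B ≠ Z} => (Z : Subgroup G) ⊓ B.1) :=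
    Set.rangeFactorization _
  have hcount := CfsgLib.ManyPiClasses.mul_card_le f Set.rangeFactorization_surjective ∅
    (r := 5) (by norm_num) (fun B _ => by
      refine ((horb Z B.1 B.2).trans (hidx Z B.1 B.2)).symm.le.trans ?_
      refine Nat.card_le_card_of_injective
        (fun C => ⟨⟨C.1, ?_⟩, ?_⟩) (fun C D h => Subtype.ext (congrArg (fun z => z.1.1) h))
      · obtain ⟨a, ha⟩ := C.2
        rw [← ha]; exact hnot Z B.1 B.2 a
      · obtain ⟨a, ha⟩ := C.2
        refine Subtype.ext ?_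
        change (Z : Subgroup G) ⊓ (C.1 : Sylow 5 G) = (Z : Subgroup G) ⊓ B.1
        rw [← ha]; exact hconj Z B.1 B.2 a)
  rw [h20, show Nat.card (∅ : Set {B : Sylow 5 G // B ≠ Z}) = 0 by simp, mul_zero, add_zero] at hcount
  -- the line through P and Q
  have hline : 6 ≤ Nat.card {A : Sylow 5 G // R ≤ A} := by
    have hmemQ : ∀ C : orbit (P : Subgroup G) Q, R ≤ ((C.1 : Sylow 5 G) : Subgroup G) := fun C => by
      obtain ⟨a, ha⟩ := C.2
      rw [← ha, hRdef, ← hconj P Q hQ a]
      exact inf_le_right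
    let g : Option (orbit (P : Subgroup G) Q) → {A : Sylow 5 G // R ≤ A} := fun o =>
      o.elim ⟨P, inf_le_left⟩ fun C => ⟨C.1, hmemQ C⟩
    have hg : Function.Injective g := by
      rintro (_ | C) (_ | D) h
      · rfl
      · obtain ⟨a, ha⟩ := D.2
        exact absurd (ha.trans (congrArg (fun z : {A : Sylow 5 G // R ≤ A} => z.1) h).symm) (hnot P Q hQ a)
      · obtain ⟨a, ha⟩ := C.2
        exact absurd (ha.trans (congrArg (fun z : {A : Sylow 5 G // R ≤ A} => z.1) h)) (hnot P Q hQ a)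
      · exact congrArg some (Subtype.ext (congrArg (fun z : {A : Sylow 5 G // R ≤ A} => z.1) h))
    have := Nat.card_le_card_of_injective g hg
    rw [Finite.card_option, horb P Q hQ, hidx P Q hQ] at this
    exact this
  have hinj : Nat.card {A : Sylow 5 G // R ≤ A} ≤
      Nat.card (Set.range (fun B : {B : Sylow 5 G // B ≠ Z} => (Z : Subgroup G) ⊓ B.1)) := by
    refine Nat.card_le_card_of_injective (fun A => f ⟨A.1, fun h => hZ (h ▸ A.2)⟩) fun A B h => ?_
    have h' : (Z : Subgroup G) ⊓ A.1 = (Z : Subgroup G) ⊓ B.1 := congrArg Subtype.val h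
    by_contra hne
    have hne' : B.1 ≠ A.1 := fun e => hne (Subtype.ext e.symm)
    have hcA := hinter Z A.1 (fun e => hZ (e ▸ A.2))
    have hcAB := hinter A.1 B.1 hne'
    rw [hcardeq Z P] at hcA
    rw [hcardeq A.1 P] at hcAB
    have hle : (Z : Subgroup G) ⊓ A.1 ≤ (A.1 : Subgroup G) ⊓ B.1 :=
      le_inf inf_le_right (h'.le.trans inf_le_right)
    have e1 := eq_of_le_of_card_ge hle (by omega)
    have e2 := eq_of_le_of_card_ge (le_inf A.2 B.2 : R ≤ (A.1 : Subgroup G) ⊓ B.1) (by omega)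
    exact hZ (e2.le.trans (e1.ge.trans inf_le_left))
  omega

/-- Fixed points of an element centralizing a Sylow subgroup of order five. -/
private theorem fix_mod [hp : Fact (Nat.Prime 5)] {P : Sylow 5 G} (h5 : Nat.card (P : Subgroup G) = 5)
    {g : G} (hg : g ∈ centralizer ((P : Subgroup G) : Set G)) :
    Nat.card {Q : Sylow 5 G // g • Q = Q} % 5 = 1 := by
  classical
  haveI := Fintype.ofFinite (Sylow 5 G)
  obtain ⟨x, hx⟩ : ∃ x : (P : Subgroup G), x ≠ 1 := by
    haveI : Nontrivial (P : Subgroup G) := Finite.one_lt_card_iff_nontrivial.mp (by omega)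
    exact exists_ne 1
  have hxo : orderOf (x : G) = 5 := by
    rw [orderOf_coe]
    exact orderOf_eq_prime (by
      have := pow_card_eq_one' (x := x); rwa [h5] at this) hx
  have hcomm : g * x = x * g := (mem_centralizer_iff.mp hg x x.2).symm
  let τ := MulAction.toPermHom G (Sylow 5 G) x
  have hiff : ∀ Q : Sylow 5 G, g • (τ Q) = τ Q ↔ g • Q = Q := fun Q => by
    change g • (x : G) • Q = (x : G) • Q ↔ _
    rw [smul_smul, hcomm, mul_smul, smul_left_cancel_iff]
  let τ' : Equiv.Perm {Q : Sylow 5 G // g • Q = Q} := τ.subtypePerm hiff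
  have hτ : τ' ^ 5 ^ 1 = 1 := by
    refine Equiv.ext fun Q => Subtype.ext ?_
    rw [Equiv.Perm.subtypePerm_pow]
    change (τ ^ 5 ^ 1) Q.1 = Q.1
    have e := pow_orderOf_eq_one (x : G)
    rw [hxo] at e
    rw [← map_pow, pow_one, e, map_one]; rfl
  have hsupp : τ'.supportᶜ = {⟨P, Sylow.smul_eq_iff_mem_normalizer.mpr (Subgroup.centralizer_le_normalizer _ hg)⟩} := by
    ext ⟨Q, hQ⟩
    rw [Finset.mem_compl, Equiv.Perm.notMem_support, Finset.mem_singleton]
    constructor
    · intro h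
      have h' : (x : G) • Q = Q := congrArg Subtype.val h
      refine Subtype.ext (sylow_eq_of_le ?_).symm
      have hz : zpowers (x : G) = (P : Subgroup G) := eq_of_le_of_card_ge (zpowers_le.mpr x.2)
        (by rw [Nat.card_zpowers, hxo, h5])
      rw [← hz, zpowers_le]
      exact mem_of_fix x.2 h'
    · intro h
      refine Subtype.ext ?_
      change (x : G) • Q = Q
      rw [show Q = P from congrArg Subtype.val h]
      exact Sylow.smul_eq_iff_mem_normalizer.mpr (Subgroup.le_normalizer x.2)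
  have h := Equiv.Perm.card_compl_support_modEq (p := 5) hτ
  rw [hsupp, Finset.card_singleton] at h
  rw [Nat.card_eq_fintype_card]
  exact h.symm

private theorem kills [hp : Fact (Nat.Prime 5)] (h21 : Nat.card (Sylow 5 G) = 21)
    (hP : ∀ P : Sylow 5 G, Nat.card (P : Subgroup G) = 5)
    (hmin : ∀ K : Subgroup G, K ≠ ⊤ → Nat.card (Sylow 5 K) ≠ 21)
    {H : Type*} [Group H] (f : G →* H) (hf : ∀ g, f g ^ 5 = 1 → f g = 1) (g : G) : f g = 1 := by
  by_contra hg
  refine hmin f.ker (fun h => hg (MonoidHom.mem_ker.mp (h ▸ mem_top g))) ?_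
  rw [card_sylow_sub f.ker fun P x hx => hf x ?_, h21]
  rw [← map_pow, show x ^ 5 = 1 from by
    rw [← hP P]; exact congrArg Subtype.val (pow_card_eq_one' (x := (⟨x, hx⟩ : (P : Subgroup G)))), map_one]

private theorem units_sq : ∀ u : (ZMod 5)ˣ, u ^ 2 = 1 → u = 1 ∨ u = -1 := by decide

private theorem units_iff : ∀ a b : (ZMod 5)ˣ, (a = 1 ∨ a = -1) → (b = 1 ∨ b = -1) →
    (a = 1 ↔ b = 1) → a = b := by decide

private theorem units_card : Nat.card (ZMod 5)ˣ = 4 := by
  rw [Nat.card_eq_fintype_card]; decide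

private theorem not_twentyone : ∀ (m : ℕ) (G : Type u) [Group G] [Finite G], Nat.card G ≤ m →
    Nat.card (Sylow 5 G) ≠ 21 := by
  intro m
  induction m with
  | zero => intro G _ _ h; exact absurd h (Nat.card_pos (α := G)).not_ge
  | succ m ih =>
  intro G _ _ hm h21
  haveI hp5 : Fact (Nat.Prime 5) := ⟨by norm_num⟩
  haveI : Fact (Nat.Prime 2) := ⟨Nat.prime_two⟩
  haveI hp7 : Fact (Nat.Prime 7) := ⟨by norm_num⟩
  classical
  haveI := Fintype.ofFinite (Sylow 5 G)
  have hmin : ∀ K : Subgroup G, K ≠ ⊤ → Nat.card (Sylow 5 K) ≠ 21 := fun K hK => ih K (by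
    have := Nat.card_pos (α := K)
    obtain ⟨d, hd⟩ := K.card_subgroup_dvd_card
    have hne : Nat.card K ≠ Nat.card G := fun h => hK (eq_top_of_card_eq K h)
    have := Nat.le_of_dvd Nat.card_pos K.card_subgroup_dvd_card
    omega)
  have hfaith : ∀ g : G, (∀ Q : Sylow 5 G, g • Q = Q) → g = 1 := by
    intro g hg
    by_contra hg1
    set K := (MulAction.toPermHom G (Sylow 5 G)).ker with hK
    have hgK : g ∈ K := Equiv.ext hg
    have hK1 : 1 < Nat.card K := one_lt_card_iff_ne_bot _ |>.mpr fun h => hg1 (by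
      rw [h] at hgK; exact Subgroup.mem_bot.mp hgK)
    refine ih (G ⧸ K) ?_ ((card_sylow_quotient K fun P k hk =>
      Sylow.smul_eq_iff_mem_normalizer.mp (Equiv.Perm.ext_iff.mp hk P)).trans h21)
    have h := card_eq_card_quotient_mul_card_subgroup K
    have := Nat.card_pos (α := G ⧸ K)
    have := Nat.mul_le_mul_left (Nat.card (G ⧸ K)) hK1
    omega
  have hP := card_eq_five h21 hfaith
  -- a Sylow 2-subgroup fixes some point
  obtain ⟨T⟩ : Nonempty (Sylow 2 G) := inferInstance
  obtain ⟨P, hTP⟩ := T.2.nonempty_fixed_point_of_prime_not_dvd_card (Sylow 5 G) (by rw [h21]; norm_num)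
  have hTN : (T : Subgroup G) ≤ Subgroup.normalizer ((P : Subgroup G) : Set G) := fun t ht =>
    Sylow.smul_eq_iff_mem_normalizer.mp (hTP ⟨t, ht⟩)
  set N : Subgroup G := Subgroup.normalizer ((P : Subgroup G) : Set G) with hN
  have h5 := hP P
  have hfix21 : ∀ g : G, Nat.card {Q : Sylow 5 G // g • Q = Q} = 21 → g = 1 := fun g hg => hfaith g fun Q => by
    by_contra hQ
    rw [Nat.card_eq_fintype_card] at hg h21
    have := Fintype.card_subtype_lt (p := fun Q : Sylow 5 G => g • Q = Q) hQ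
    omega
  have hfle : ∀ g : G, Nat.card {Q : Sylow 5 G // g • Q = Q} ≤ 21 := fun g =>
    h21 ▸ Nat.card_le_card_of_injective _ Subtype.val_injective
  have no7 : ∀ g ∈ centralizer ((P : Subgroup G) : Set G), g ^ 7 = 1 → g = 1 := by
    intro g hg h7
    refine hfix21 g ?_
    have h := Equiv.Perm.card_compl_support_modEq (p := 7) (n := 1)
      (σ := MulAction.toPermHom G (Sylow 5 G) g) (by rw [pow_one, ← map_pow, h7, map_one])
    rw [show (MulAction.toPermHom G (Sylow 5 G) g).supportᶜ =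
      Finset.univ.filter (fun Q : Sylow 5 G => g • Q = Q) by ext Q; simp,
      ← Fintype.card_subtype, ← Nat.card_eq_fintype_card, ← Nat.card_eq_fintype_card, h21,
      Nat.ModEq] at h
    have := fix_mod h5 hg
    have := hfle g
    omega
  have heven : ∀ g : G, Equiv.Perm.sign (MulAction.toPermHom G (Sylow 5 G) g) = 1 :=
    kills h21 hP hmin (Equiv.Perm.sign.comp (MulAction.toPermHom G (Sylow 5 G))) fun g hg => by
      rcases Int.units_eq_one_or (Equiv.Perm.sign.comp (MulAction.toPermHom G (Sylow 5 G)) g) with h | h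
      · exact h
      · rw [h] at hg; simp [pow_succ] at hg
  have inv_fix : ∀ v ∈ centralizer ((P : Subgroup G) : Set G), v ^ 2 = 1 → v ≠ 1 →
      ∀ Q : Sylow 5 G, v • Q = Q → Q = P := by
    intro v hv hv2 hv1
    have hs := Equiv.Perm.sign_of_pow_two_eq_one
      (σ := MulAction.toPermHom G (Sylow 5 G) v) (by rw [← map_pow, hv2, map_one])
    rw [heven v] at hs
    have hF1 := fix_mod h5 hv
    have hF2 := hfle v
    have hF3 : Nat.card {Q : Sylow 5 G // v • Q = Q} ≠ 21 := fun h => hv1 (hfix21 v h)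
    have hev : Even ((Fintype.card (Sylow 5 G) -
        Fintype.card (Function.fixedPoints (MulAction.toPermHom G (Sylow 5 G) v))) / 2) := by
      by_contra h
      rw [(Nat.not_even_iff_odd.mp h).neg_one_pow] at hs
      exact absurd hs (by decide)
    rw [← Nat.card_eq_fintype_card, ← Nat.card_eq_fintype_card, h21, Nat.even_iff] at hev
    change (21 - Nat.card {Q : Sylow 5 G // v • Q = Q}) / 2 % 2 = 0 at hev
    have hmodtwo : Nat.card {Q : Sylow 5 G // v • Q = Q} % 2 = 1 := by
      have h := Equiv.Perm.card_compl_support_modEq (p := 2) (n := 1)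
        (σ := MulAction.toPermHom G (Sylow 5 G) v) (by rw [pow_one, ← map_pow, hv2, map_one])
      rw [show (MulAction.toPermHom G (Sylow 5 G) v).supportᶜ =
        Finset.univ.filter (fun Q : Sylow 5 G => v • Q = Q) by ext Q; simp,
        ← Fintype.card_subtype, ← Nat.card_eq_fintype_card, ← Nat.card_eq_fintype_card, h21] at h
      exact h
    have hF : Nat.card {Q : Sylow 5 G // v • Q = Q} = 1 := by omega
    intro Q hQ
    haveI := (Nat.card_eq_one_iff_unique.mp hF).1
    exact congrArg Subtype.val (Subsingleton.elim (⟨Q, hQ⟩ : {Q : Sylow 5 G // v • Q = Q})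
      ⟨P, Sylow.smul_eq_iff_mem_normalizer.mpr (centralizer_le_normalizer _ hv)⟩)
  -- conjugation on P
  haveI : IsCyclic (P : Subgroup G) := isCyclic_of_prime_card h5
  let ψ : N →* (ZMod 5)ˣ :=
    ((IsCyclic.mulAutMulEquiv (P : Subgroup G)).trans
      (Units.mapEquiv (ZMod.ringEquivCongr h5).toMulEquiv)).toMonoidHom.comp
      (Subgroup.normalizerMonoidHom (P : Subgroup G))
  have hker : ∀ n : N, ψ n = 1 ↔ (n : G) ∈ centralizer ((P : Subgroup G) : Set G) := by
    intro n
    simp only [ψ, MonoidHom.comp_apply, MulEquiv.coe_toMonoidHom, map_eq_one_iff, MulEquiv.map_eq_one_iff]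
    rw [← MonoidHom.mem_ker, normalizerMonoidHom_ker, mem_subgroupOf]
  have h7N : ∀ g ∈ N, g ^ 7 = 1 → g = 1 := by
    intro g hg h7
    refine no7 g ((hker ⟨g, hg⟩).mp ?_) h7
    rw [← orderOf_eq_one_iff]
    have h1 : orderOf (ψ ⟨g, hg⟩) ∣ 7 := orderOf_dvd_of_pow_eq_one (by
      rw [← map_pow, show (⟨g, hg⟩ : N) ^ 7 = 1 from Subtype.ext h7, map_one])
    have h2 : orderOf (ψ ⟨g, hg⟩) ∣ 4 := units_card ▸ orderOf_dvd_natCard _
    exact Nat.dvd_one.mp ((Nat.dvd_gcd h1 h2).trans (by norm_num))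
  obtain ⟨g₀, hg₀⟩ : ∃ n : N, ψ n ≠ 1 := by
    by_contra h; push Not at h
    have hNC : N ≤ centralizer ((P : Subgroup G) : Set G) := fun n hn => (hker ⟨n, hn⟩).mp (h ⟨n, hn⟩)
    have hc := MonoidHom.ker_transferSylow_isComplement' P hNC
    set K := (MonoidHom.transferSylow P hNC).ker
    have hKi : K.index = 5 := by rw [hc.symm.index_eq_card, h5]
    have h5K : ¬ 5 ∣ Nat.card K := by
      rw [← hc.index_eq_card]; exact P.not_dvd_index
    haveI : K.Normal := MonoidHom.normal_ker _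
    have hsub : ∀ R : Sylow 7 G, (R : Subgroup G) ≤ K := fun R x hx => by
      obtain ⟨j, hj⟩ := IsPGroup.iff_orderOf.mp R.2 ⟨x, hx⟩
      rw [← QuotientGroup.eq_one_iff (N := K), ← orderOf_eq_one_iff]
      have hd : orderOf (x : G ⧸ K) ∣ 7 ^ j :=
        (orderOf_map_dvd (QuotientGroup.mk' K) x).trans (by rw [← hj, Subgroup.orderOf_mk])
      have h2 : orderOf (x : G ⧸ K) ∣ 5 := by
        rw [← hKi, index_eq_card]; exact orderOf_dvd_natCard _
      exact Nat.eq_one_of_dvd_coprimes ((by norm_num : Nat.Coprime 7 5).pow_left j) hd h2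
    obtain ⟨R, hR⟩ := P.2.nonempty_fixed_point_of_prime_not_dvd_card (Sylow 7 G) (fun hd => h5K (by
      rw [← card_sylow_sub K hsub] at hd
      obtain ⟨S⟩ : Nonempty (Sylow 7 K) := inferInstance
      rw [S.card_eq_index_normalizer] at hd
      exact hd.trans (index_dvd_card _)))
    have hPR : (P : Subgroup G) ≤ Subgroup.normalizer ((R : Subgroup G) : Set G) := fun x hx =>
      Sylow.smul_eq_iff_mem_normalizer.mp (hR ⟨x, hx⟩)
    have hG : Nat.card G = 21 * Nat.card N := by
      rw [← h21, P.card_eq_index_normalizer]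
      exact (index_mul_card N).symm
    have h7 : Nat.card (R : Subgroup G) = 7 := by
      obtain ⟨k, hk⟩ := IsPGroup.iff_card.mp R.2
      have hd : 7 ^ k ∣ 21 * Nat.card N := hk ▸ hG ▸ card_subgroup_dvd_card _
      have hn7 : ¬ 7 ∣ Nat.card N := fun hd => by
        obtain ⟨g, hg⟩ := exists_prime_orderOf_dvd_card' 7 hd
        rw [← orderOf_coe] at hg
        have := h7N g g.2 (by rw [← hg, pow_orderOf_eq_one])
        rw [this, orderOf_one] at hg
        omega
      have hd' := ((Nat.Prime.coprime_iff_not_dvd (by norm_num)).mpr hn7).pow_left k |>.dvd_of_dvd_mul_right hd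
      rcases k with _ | _ | k
      · exfalso
        refine R.not_dvd_index ?_
        have := (R : Subgroup G).card_mul_index
        rw [hk, pow_zero, one_mul] at this
        rw [this, hG]
        exact Dvd.dvd.mul_right (by norm_num) _
      · exact hk
      · have := Nat.le_of_dvd (by norm_num) hd'
        rw [pow_succ, pow_succ] at this
        have := Nat.one_le_pow k 7 (by norm_num)
        omega
    obtain ⟨r, hr⟩ := exists_prime_orderOf_dvd_card' 7 (h7.symm ▸ dvd_refl 7 : 7 ∣ Nat.card (R : Subgroup G))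
    haveI : IsCyclic (R : Subgroup G) := isCyclic_of_prime_card h7
    have hcent : (r : G) ∈ centralizer ((P : Subgroup G) : Set G) := by
      refine mem_centralizer_iff.mpr fun x hx => ?_
      have h1 : orderOf (Subgroup.normalizerMonoidHom (R : Subgroup G) ⟨x, hPR hx⟩) ∣ 5 :=
        (orderOf_map_dvd _ _).trans (by
          rw [Subgroup.orderOf_mk, ← h5]; exact Subgroup.orderOf_dvd_natCard _ hx)
      have h2 : orderOf (Subgroup.normalizerMonoidHom (R : Subgroup G) ⟨x, hPR hx⟩) ∣ 6 := by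
        refine (_root_.orderOf_dvd_natCard _).trans ?_
        rw [IsCyclic.card_mulAut, h7]; decide
      have h3 := Nat.dvd_one.mp ((Nat.dvd_gcd h1 h2).trans (by norm_num))
      rw [orderOf_eq_one_iff, ← MonoidHom.mem_ker, normalizerMonoidHom_ker, mem_subgroupOf] at h3
      exact (mem_centralizer_iff.mp h3 r r.2).symm
    rw [← orderOf_coe] at hr
    have := no7 r hcent (by have e := pow_orderOf_eq_one ((r : G)); rwa [hr] at e)
    rw [this, orderOf_one] at hr
    omega
  -- the character of order two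
  let h := if ∀ n : N, ψ n ^ 2 = 1 then 1 else 2
  let χ : N →* (ZMod 5)ˣ := (powMonoidHom h).comp ψ
  have h4 : ∀ u : (ZMod 5)ˣ, u ^ 4 = 1 := fun u => by rw [← units_card]; exact pow_card_eq_one'
  have hχ2 : ∀ n, χ n = 1 ∨ χ n = -1 := fun n => units_sq _ (by
    by_cases hh : ∀ n : N, ψ n ^ 2 = 1
    · simpa [χ, h, hh] using hh n
    · simp only [χ, h, hh, if_false, MonoidHom.comp_apply, powMonoidHom_apply, ← pow_mul]
      exact h4 _)
  obtain ⟨n₀, hn₀⟩ : ∃ n, χ n ≠ 1 := by
    by_cases hh : ∀ n : N, ψ n ^ 2 = 1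
    · exact ⟨g₀, by simpa [χ, h, hh] using hg₀⟩
    · push Not at hh
      obtain ⟨n, hn⟩ := hh
      refine ⟨n, ?_⟩
      have hh' : ¬ ∀ n : N, ψ n ^ 2 = 1 := fun a => hn (a n)
      change ψ n ^ (if ∀ n : N, ψ n ^ 2 = 1 then 1 else 2) ≠ 1
      rw [if_neg hh']; exact hn
  obtain ⟨t, htT, htN, hχt⟩ : ∃ (t : G) (_ : t ∈ (T : Subgroup G)) (ht : t ∈ N), χ ⟨t, ht⟩ ≠ 1 := by
    by_contra hcon
    push Not at hcon
    have hle : (T : Subgroup G).subgroupOf N ≤ χ.ker := fun t ht => hcon t.1 ht t.2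
    have h2 : 2 ∣ χ.ker.index := by
      rw [index_ker]
      have := Subgroup.orderOf_dvd_natCard χ.range ⟨n₀, rfl⟩
      rwa [orderOf_eq_prime (by rw [(hχ2 n₀).resolve_left hn₀]; exact neg_one_sq) hn₀] at this
    refine T.not_dvd_index (h2.trans ((index_dvd_of_le hle).trans ?_))
    exact Dvd.intro _ (relIndex_mul_index hTN)
  let C : Subgroup G := χ.ker.map N.subtype
  have hfoc : _root_.commutator G ⊓ (T : Subgroup G) ≤ C := by
    refine CfsgLib.Transfer.commutator_inf_le_of_fusion T C fun x hx g hg => ?_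
    refine ⟨(⟨x, hTN hx⟩ : N)⁻¹ * ⟨g⁻¹ * x * g, hTN hg⟩, ?_, rfl⟩
    rw [SetLike.mem_coe, MonoidHom.mem_ker, map_mul, map_inv, inv_mul_eq_one]
    set y : G := g⁻¹ * x * g with hy
    have hxy : g * y * g⁻¹ = x := by rw [hy]; group
    -- elements with a power centralizing P have one fixed point
    have bad : ∀ z (hz : z ∈ (T : Subgroup G)), (∃ k : ℕ, z ^ k ≠ 1 ∧ ψ (⟨z, hTN hz⟩ ^ k) = 1) →
        ∀ Q : Sylow 5 G, z • Q = Q → Q = P := by
      rintro z hz ⟨k, hk1, hk⟩ Q hQ
      have hu := (hker _).mp hk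
      obtain ⟨j, hj⟩ := IsPGroup.iff_orderOf.mp T.2 ⟨z ^ k, pow_mem hz k⟩
      rw [Subgroup.orderOf_mk] at hj
      rcases j with _ | j
      · rw [pow_zero, orderOf_eq_one_iff] at hj; exact absurd hj hk1
      refine inv_fix ((z ^ k) ^ 2 ^ j) (pow_mem hu _) (by
        rw [← pow_mul, ← pow_succ, ← hj, pow_orderOf_eq_one]) (fun h => ?_) Q ?_
      · have := orderOf_dvd_of_pow_eq_one h
        rw [hj, Nat.pow_dvd_pow_iff_le_right one_lt_two] at this
        omega
      · exact mem_stabilizer_iff.mp (pow_mem (pow_mem (mem_stabilizer_iff.mpr hQ) k) _)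
    have hxP : x • P = P := hTP ⟨x, hx⟩
    have hyP : y • P = P := hTP ⟨y, hg⟩
    have samepow : g ∈ N → ψ ⟨x, hTN hx⟩ = ψ ⟨y, hTN hg⟩ := fun hgN => by
      rw [show (⟨y, hTN hg⟩ : N) = (⟨g, hgN⟩ : N)⁻¹ * ⟨x, hTN hx⟩ * ⟨g, hgN⟩ from rfl, map_mul,
        map_mul, map_inv, mul_comm _ (ψ ⟨g, hgN⟩), mul_inv_cancel_left]
    by_cases hbx : ∃ k : ℕ, x ^ k ≠ 1 ∧ ψ (⟨x, hTN hx⟩ ^ k) = 1
    · have := bad x hx hbx (g • P) (by
        rw [← hxy, mul_smul, mul_smul, inv_smul_smul, hyP])
      exact congrArg (fun u => powMonoidHom h u) (samepow (Sylow.smul_eq_iff_mem_normalizer.mp this))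
    by_cases hby : ∃ k : ℕ, y ^ k ≠ 1 ∧ ψ (⟨y, hTN hg⟩ ^ k) = 1
    · have := bad y hg hby (g⁻¹ • P) (by
        rw [hy, mul_smul, mul_smul, smul_inv_smul, hxP])
      exact congrArg (fun u => powMonoidHom h u) (samepow
        (inv_inv g ▸ N.inv_mem (Sylow.smul_eq_iff_mem_normalizer.mp this)))
    have hord : ∀ z (hz : z ∈ (T : Subgroup G)), (¬ ∃ k : ℕ, z ^ k ≠ 1 ∧ ψ (⟨z, hTN hz⟩ ^ k) = 1) →
        (χ ⟨z, hTN hz⟩ = 1 ↔ orderOf z ∣ h) := by
      intro z hz hb
      rw [show χ ⟨z, hTN hz⟩ = ψ (⟨z, hTN hz⟩ ^ h) from (map_pow ψ _ h).symm, orderOf_dvd_iff_pow_eq_one]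
      constructor
      · intro hh
        by_contra hne
        exact hb ⟨h, hne, hh⟩
      · intro hh
        rw [show (⟨z, hTN hz⟩ : N) ^ h = 1 from Subtype.ext hh, map_one]
    have hoxy : orderOf x = orderOf y := by
      rw [← hxy, ← MulAut.conj_apply, ← MulEquiv.coe_toMonoidHom,
        orderOf_injective _ (MulAut.conj g).injective]
    have hiff := (hord x hx hbx).trans (hoxy ▸ (hord y hg hby).symm)
    exact units_iff _ _ (hχ2 ⟨x, hTN hx⟩) (hχ2 ⟨y, hTN hg⟩) hiff
  -- all 2-elements lie in the commutator subgroup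
  have htG : t ∈ _root_.commutator G := by
    obtain ⟨k, a, ha, hab⟩ := Nat.exists_eq_pow_mul_and_not_dvd
      (Nat.card_pos (α := Abelianization G)).ne' 2 (by norm_num)
    have := kills h21 hP hmin ((powMonoidHom a).comp (Abelianization.of (G := G))) (fun g hg => by
      have h1 : ((Abelianization.of g) ^ a) ^ 2 ^ k = 1 := by
        rw [← pow_mul, mul_comm, ← hab, pow_card_eq_one']
      exact orderOf_eq_one_iff.mp (Nat.eq_one_of_dvd_coprimes
        ((by norm_num : Nat.Coprime 5 2).pow_right k) (orderOf_dvd_of_pow_eq_one hg)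
        (orderOf_dvd_of_pow_eq_one h1))) t
    obtain ⟨j, hj⟩ := IsPGroup.iff_orderOf.mp T.2 ⟨t, htT⟩
    rw [← Abelianization.ker_of (G := G), MonoidHom.mem_ker, ← orderOf_eq_one_iff]
    refine Nat.eq_one_of_dvd_coprimes (((Nat.prime_two.coprime_iff_not_dvd).mpr ha).pow_left j) ?_
      (orderOf_dvd_of_pow_eq_one this)
    rw [← hj, Subgroup.orderOf_mk]
    exact orderOf_map_dvd _ t
  obtain ⟨c, hc, hct⟩ := hfoc (Subgroup.mem_inf.mpr ⟨htG, htT⟩)
  exact hχt (by rw [show (⟨t, htN⟩ : N) = c from Subtype.ext hct.symm]; exact hc)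

/-- No finite group has exactly twenty-one Sylow 5-subgroups. -/
theorem result {G : Type*} [Group G] [Finite G] : Nat.card (Sylow 5 G) ≠ 21 := by
  exact not_twentyone _ G le_rfl

end Cfsg.Agent.S1010
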