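import Cfsg.Statements.S1190
import Cfsg.Agent.Lib.TwoGroups.SemiDihedralSubgroups
import Cfsg.Agent.Lib.TwoGroups.MapEquiv

set_option autoImplicit false
open Cfsg

namespace Cfsg.Agent.S1190

/-- In a quasi-dihedral 2-group S, any two Klein four-subgroups are conjugate, and every Klein four-subgroup T satisfies C_S(T) = T and |N_S(T) : T| = 2. -/
theorem result {S : Type*} [Group S] [Finite S] (hS : Cfsg.IsQuasiDihedral S) : (∀ T₁ T₂ : Subgroup S, IsKleinFour T₁ → IsKleinFour T₂ → ∃ s : S, T₁.map (MulAut.conj s).toMonoidHom = T₂) ∧ (∀ T : Subgroup S, IsKleinFour T → Subgroup.centralizer (T : Set S) = T ∧ T.relIndex (Subgroup.normalizer (T : Set S)) = 2) := by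
  obtain ⟨m, hcard, ⟨e⟩⟩ := CfsgLib.TwoGroups.SemiDihedral.of_isQuasiDihedral hS
  open CfsgLib.TwoGroups CfsgLib.TwoGroups.SemiDihedral in
  refine ⟨fun T₁ T₂ h₁ h₂ => ?_, fun T hT => ?_⟩
  · obtain ⟨c, hc⟩ := eq_four_of_isKleinFour (isKleinFour_equiv_map e h₁)
    obtain ⟨d, hd⟩ := eq_four_of_isKleinFour (isKleinFour_equiv_map e h₂)
    obtain ⟨g, hg⟩ := conj_four c d
    refine ⟨e.symm g, (equiv_map_inj e).1 ?_⟩
    rw [conj_equiv_map, e.apply_symm_apply, hc, hd, hg]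
  · obtain ⟨c, hc⟩ := eq_four_of_isKleinFour (isKleinFour_equiv_map e hT)
    refine ⟨(equiv_map_inj e).1 ?_, ?_⟩
    · rw [centralizer_equiv_map, hc, mem_centralizer_four]
    · rw [← relIndex_normalizer_equiv_map e, hc, relIndex_normalizer_four]

end Cfsg.Agent.S1190
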