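import Cfsg.Statements.S2916
import Cfsg.Agent.Lib.Blocks.GLTwoThreeCentralizer.Main
import Cfsg.Agent.Lib.Blocks.GLTwoThreeCentralizer.Simple
import Cfsg.Agent.Lib.Blocks.GLTwoThreeCentralizer.Points
import Cfsg.Agent.Lib.Blocks.Order7920.Coords
import Cfsg.Agent.Lib.Sporadic.SporMathieu

set_option autoImplicit false
open Cfsg

namespace Cfsg.Agent.S2916

/-- Let G be a finite group with O²(G) = G (no proper normal subgroup of 2-power index), and let t be an involution of G whose centralizer C_G(t) is isomorphic to GL₂(3). Then G is isomorphic to PSL₃(3) or to the Mathieu group M₁₁. -/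
theorem result {G : Type*} [Group G] [Finite G] (hO : Cfsg.pResidual 2 G = ⊤) (t : G) (ht : orderOf t = 2) (hC : Nonempty (↥(Subgroup.centralizer ({t} : Set G)) ≃* GL (Fin 2) (ZMod 3))) : (∃ (F : Type) (_ : Field F) (_ : Fintype F), Fintype.card F = 3 ∧ Nonempty (G ≃* Matrix.ProjectiveSpecialLinearGroup (Fin 3) F)) ∨ Cfsg.Spor.IsoM11 G := by
  obtain ⟨e⟩ := hC
  have : IsSimpleGroup G := CfsgLib.Blocks.GLTwoThreeCentralizer.isSimpleGroup e ht hO
  have := Fintype.ofFinite G
  rcases CfsgLib.Blocks.GLTwoThreeCentralizer.card_eq e ht with hN | hN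
  · left
    obtain ⟨A, P, u, h9, hu, ho, hAP, hPu, hNP, hH, htr⟩ :=
      CfsgLib.Blocks.GLTwoThreeCentralizer.exists_nine e ht hN
    have D : CfsgLib.Blocks.GLTwoThreeCentralizer.NineData A P u :=
      ⟨hN, h9, hu, ho, hAP, hPu, hNP, hH, htr⟩
    have : Fact (Nat.Prime 3) := ⟨Nat.prime_three⟩
    exact ⟨ZMod 3, inferInstance, inferInstance, ZMod.card 3, D.nonempty_iso⟩
  · right
    have : IsSimpleGroup ↥Cfsg.Spor.M11 := CfsgLib.Sporadic.sporM11_isSimple
    exact CfsgLib.Blocks.Order7920.nonempty_mulEquiv hN CfsgLib.Sporadic.card_sporM11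

end Cfsg.Agent.S2916
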