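import Cfsg.Statements.S0928
import Cfsg.Agent.Lib.Blocks.Knorr
import Cfsg.Agent.Lib.ZStar.PrincipalBlock

set_option autoImplicit false
open Cfsg

namespace Cfsg.Agent.S0928

/-- Let χ be an irreducible character of the finite group G and p a prime. If χ g = 0 for every element g of order p, then the exponent of p in the degree χ(1) equals the exponent of p in the order of G (χ has p-defect zero). -/
theorem result {G : Type*} [Group G] [Finite G] (p : ℕ) [Fact p.Prime] (χ : Cfsg.IrrCharacter G) (hvan : ∀ g : G, orderOf g = p → (χ : G → ℂ) g = 0) : (Cfsg.charDegree (χ : G → ℂ)).factorization p = (Nat.card G).factorization p := by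
  classical
  have := Fintype.ofFinite G
  have hp : p.Prime := Fact.out
  obtain ⟨M, hM⟩ := CfsgLib.ZStar.exists_isPModular hp
  haveI := hM.2.1.isPrime
  have hB := CfsgLib.Blocks.isPBlock_blockOf (M := M) χ
  have hχ := CfsgLib.Blocks.mem_blockOf_self (M := M) χ
  obtain ⟨D, hD⟩ := CfsgLib.Blocks.exists_isDefectGroup (p := p) hB
  have hbot : D = ⊥ := by
    by_contra hne
    obtain ⟨g, hg, hg'⟩ := CfsgLib.Blocks.exists_order_p_ne_zero hM hB hD hne hχ
    exact hg' (hvan g hg)
  have hd0 : Cfsg.blockDefect p (Cfsg.blockOf M (χ : G → ℂ)) = 0 := by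
    have h := CfsgLib.Blocks.IsDefectGroup.card_eq hM hB hD
    rw [hbot, Subgroup.card_bot] at h
    exact (Nat.pow_eq_one.1 h.symm).resolve_left hp.ne_one
  refine le_antisymm ?_ ?_
  · exact (Nat.factorization_le_iff_dvd (CfsgLib.Blocks.charDegree_pos _).ne' Nat.card_pos.ne').2
      (CfsgLib.Blocks.charDegree_dvd_card χ) p
  · rw [Cfsg.blockDefect, Nat.sub_eq_zero_iff_le] at hd0
    exact hd0.trans (Nat.sInf_le ⟨χ, hχ, rfl⟩)

end Cfsg.Agent.S0928
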