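import Cfsg.Statements.S1297
import Cfsg.Agent.Lib.Signalizer.LocalKBalance

set_option autoImplicit false
open Cfsg

namespace Cfsg.Agent.S1297

open Subgroup CfsgLib

/-- Local balance is local `1`-balance at the prime two. -/
theorem locallyKBalanced_one {K : Type*} [Group K] (h : Cfsg.IsLocallyBalanced K) :
    Cfsg.IsLocallyKBalanced 2 1 K := by
  intro H hH A hA hAc
  have hne : A ≠ ⊥ := fun e => by simp [e] at hAc
  obtain ⟨a, ha, ha1⟩ := A.bot_or_exists_ne_one.resolve_left hne
  exact le_bot_iff.mp fun y hy =>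
    (h H hH a (orderOf_eq_prime (hA.2 a ha) ha1)).le (Techniques.mem_delta_iff.mp hy a ha ha1)

/-- Let G be finite. Suppose that for every involution x, writing C = C_G(x), every component K of C / O(C) has K / Z(K) locally balanced. Then G is balanced. -/
theorem result {G : Type*} [Group G] [Finite G] (h : ∀ x : G, orderOf x = 2 → ∀ K : Subgroup (↥(Subgroup.centralizer ({x} : Set G)) ⧸ Cfsg.oddCore ↥(Subgroup.centralizer ({x} : Set G))), Cfsg.IsComponent K → Cfsg.IsLocallyBalanced (↥K ⧸ Subgroup.center ↥K)) : Cfsg.IsBalanced G := by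
  have hk : Cfsg.IsKBalanced 2 1 G := Signalizer.isKBalanced_of_components le_rfl
    fun x hx K hK => locallyKBalanced_one (h x hx K hK)
  have hle : ∀ x y : G, orderOf x = 2 → orderOf y = 2 → x * y = y * x →
      Cfsg.centralizerPPrimeCore 2 x ⊓ Subgroup.centralizer {y} ≤
        Cfsg.centralizerPPrimeCore 2 y ⊓ Subgroup.centralizer {x} := by
    intro x y hx hy hxy
    have hA : Cfsg.IsElementaryAbelian 2 (zpowers x) := by
      refine ⟨inferInstance, ?_⟩
      rintro _ ⟨n, rfl⟩
      rw [← zpow_natCast, zpow_comm, zpow_natCast, orderOf_dvd_iff_pow_eq_one.mp (dvd_of_eq hx), one_zpow]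
    have hcom : ∀ a ∈ zpowers x, a * y = y * a := by
      rintro _ ⟨n, rfl⟩
      exact (Commute.zpow_left hxy n).eq
    refine le_inf (le_trans (inf_le_inf_right _ fun z hz => ?_)
      (hk (zpowers x) hA (by rw [Nat.card_zpowers, hx, pow_one]) y hy hcom))
      (inf_le_left.trans (map_subtype_le _))
    rw [Techniques.mem_delta_iff]
    intro a ha ha1
    obtain ⟨n, rfl⟩ := ha
    rcases Int.even_or_odd n with ⟨m, rfl⟩ | ⟨m, rfl⟩
    · refine absurd ?_ ha1
      show x ^ (m + m) = 1
      rw [← two_mul, zpow_mul, zpow_two, ← pow_two, orderOf_dvd_iff_pow_eq_one.mp (dvd_of_eq hx), one_zpow]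
    · show z ∈ Cfsg.centralizerPPrimeCore 2 (x ^ (2 * m + 1))
      rw [zpow_add_one, zpow_mul, zpow_two, ← pow_two, orderOf_dvd_iff_pow_eq_one.mp (dvd_of_eq hx),
        one_zpow, one_mul]
      exact hz
  intro x y hx hy hxy
  exact le_antisymm (hle x y hx hy hxy) (hle y x hy hx hxy.symm)

end Cfsg.Agent.S1297
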