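import Cfsg.Statements.S5059
-- import your own Cfsg.Agent.* helpers here

set_option autoImplicit false
universe u
open Cfsg

namespace Cfsg.Agent.S5059

/-- Let k be a field of characteristic not 2 with k not of order 3, M a finite-dimensional k-vector space and G ≤ GL(M) such that (G, M) is a quadratic pair (M irreducible for G, and G generated by its quadratically acting elements σ whose scalar family 1 + c(σ − 1), c ∈ k, lies in G). Write 𝒬_d for the quadratic elements of G of minimal commutator rank, E(σ) for the subgroup generated by the members of 𝒬_d with the same fixed space and commutator space as σ, and Σ for the set of these subgroups. Then for σ ∈ 𝒬_d the subgroup E(σ) consists exactly of those members together with the identity, it is abelian, and if k has prime characteristic p every element of E(σ) has order dividing p. -/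
theorem result {k : Type u} [Field k] (hk2 : ringChar k ≠ 2) (hk3 : Nat.card k ≠ 3)
    {M : Type u} [AddCommGroup M] [Module k M] [FiniteDimensional k M]
    {G : Subgroup (LinearMap.GeneralLinearGroup k M)} (hG : Cfsg.IsQuadraticPair G)
    {σ : LinearMap.GeneralLinearGroup k M} (hσ : σ ∈ Cfsg.minimalQuadraticElements G) :
    (Cfsg.sameActionSubgroup G σ : Set (LinearMap.GeneralLinearGroup k M)) = Cfsg.sameActionClass G σ ∪ {1} ∧
    IsMulCommutative ↥(Cfsg.sameActionSubgroup G σ) ∧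
    (∀ p : ℕ, p.Prime → ringChar k = p → ∀ x ∈ Cfsg.sameActionSubgroup G σ, x ^ p = 1) := by
  obtain ⟨⟨hσG, hσq, hσs⟩, hσmin⟩ := hσ
  set K := LinearMap.ker ((σ : M →ₗ[k] M) - 1) with hK
  set R := LinearMap.range ((σ : M →ₗ[k] M) - 1) with hR
  have hσmem : σ ∈ sameActionClass G σ := ⟨⟨⟨hσG, hσq, hσs⟩, hσmin⟩, rfl, rfl⟩
  have hRK : R ≤ K := by
    rintro m ⟨v, rfl⟩
    have := LinearMap.congr_fun hσq.1 v
    simpa [K, LinearMap.mem_ker] using this
  have hzero : ∀ X Y : M →ₗ[k] M, K ≤ LinearMap.ker X → LinearMap.range Y ≤ R → X * Y = 0 := by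
    intro X Y hX hY
    ext m
    exact hX (hRK (hY ⟨m, rfl⟩))
  have hR' : ∀ τ ∈ sameActionClass G σ, K ≤ LinearMap.ker ((τ : M →ₗ[k] M) - 1) ∧
      LinearMap.range ((τ : M →ₗ[k] M) - 1) ≤ R := fun τ hτ => ⟨hτ.2.1.ge, hτ.2.2.le⟩
  have hxy : ∀ τ ∈ sameActionClass G σ, ∀ υ ∈ sameActionClass G σ,
      ((τ : M →ₗ[k] M) - 1) * ((υ : M →ₗ[k] M) - 1) = 0 := fun τ hτ υ hυ =>
    hzero _ _ (hR' τ hτ).1 (hR' υ hυ).2
  -- an element `g` of `G` with `g - 1 = c (τ - 1) + d (υ - 1)` whose scalar family lies in `G`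
  have mk : ∀ g : LinearMap.GeneralLinearGroup k M, g ≠ 1 →
      K ≤ LinearMap.ker ((g : M →ₗ[k] M) - 1) → LinearMap.range ((g : M →ₗ[k] M) - 1) ≤ R →
      scalarFamily g ⊆ (G : Set (LinearMap.GeneralLinearGroup k M)) → g ∈ sameActionClass G σ := by
    intro g hg1 hk hr hs
    have hne : (g : M →ₗ[k] M) - 1 ≠ 0 := fun e => hg1 (Units.ext (sub_eq_zero.1 e))
    have hgq : g ∈ quadraticElements G :=
      ⟨hs ⟨1, by rw [one_smul]; exact (add_sub_cancel _ _).symm⟩, ⟨hzero _ _ hk hr, hne⟩, hs⟩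
    have hle := hσmin g hgq
    have hreq : LinearMap.range ((g : M →ₗ[k] M) - 1) = R := Submodule.eq_of_le_of_finrank_le hr hle
    refine ⟨⟨hgq, fun υ hυ => ?_⟩, ?_, hreq⟩
    · refine le_trans (le_of_eq ?_) (hσmin υ hυ)
      simp only [commutatorRank]; rw [hreq]
    · refine (Submodule.eq_of_le_of_finrank_le hk ?_).symm
      have h1 := LinearMap.finrank_range_add_finrank_ker ((g : M →ₗ[k] M) - 1)
      have h2 := LinearMap.finrank_range_add_finrank_ker ((σ : M →ₗ[k] M) - 1)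
      rw [hreq] at h1
      change Module.finrank k R + Module.finrank k K = _ at h2
      omega
  have hinG : ∀ τ ∈ sameActionClass G σ, ∀ g : LinearMap.GeneralLinearGroup k M,
      (∃ c : k, (g : M →ₗ[k] M) = 1 + c • ((τ : M →ₗ[k] M) - 1)) → g ∈ G := fun τ hτ g hg => hτ.1.1.2.2 hg
  have mkU : ∀ τ ∈ sameActionClass G σ, ∀ c : k, ∃ g : LinearMap.GeneralLinearGroup k M,
      (g : M →ₗ[k] M) = 1 + c • ((τ : M →ₗ[k] M) - 1) := by
    intro τ hτ c
    refine ⟨⟨1 + c • ((τ : M →ₗ[k] M) - 1), 1 + (-c) • ((τ : M →ₗ[k] M) - 1), ?_, ?_⟩, rfl⟩ <;>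
      simp [mul_add, add_mul, smul_mul_assoc, mul_smul_comm, hxy τ hτ τ hτ]
  have hinv : ∀ τ ∈ sameActionClass G σ, τ⁻¹ ∈ sameActionClass G σ := by
    intro τ hτ
    have hval : ((τ⁻¹ : LinearMap.GeneralLinearGroup k M) : M →ₗ[k] M) = 1 - ((τ : M →ₗ[k] M) - 1) := by
      refine (Units.inv_eq_of_mul_eq_one_right ?_)
      have := hxy τ hτ τ hτ
      rw [show (τ : M →ₗ[k] M) * (1 - ((τ : M →ₗ[k] M) - 1)) =
        1 - ((τ : M →ₗ[k] M) - 1) * ((τ : M →ₗ[k] M) - 1) by noncomm_ring, this, sub_zero]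
    have hsub : ((τ⁻¹ : LinearMap.GeneralLinearGroup k M) : M →ₗ[k] M) - 1 = -((τ : M →ₗ[k] M) - 1) := by
      rw [hval]; abel
    refine mk _ (fun e => ?_) ?_ ?_ ?_
    · exact hτ.1.1.2.1.2 (by rw [inv_eq_one.1 e]; simp)
    · intro m hm; rw [LinearMap.mem_ker, hsub, LinearMap.neg_apply, (hR' τ hτ).1 hm, neg_zero]
    · rintro m ⟨v, rfl⟩; rw [hsub, LinearMap.neg_apply]; exact R.neg_mem ((hR' τ hτ).2 ⟨v, rfl⟩)
    · rintro g ⟨c, hc⟩
      exact hinG τ hτ g ⟨-c, by rw [hc, hsub, neg_smul, smul_neg]⟩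
  have hmul : ∀ τ ∈ sameActionClass G σ, ∀ υ ∈ sameActionClass G σ, τ * υ ≠ 1 →
      τ * υ ∈ sameActionClass G σ := by
    intro τ hτ υ hυ hne
    have hsub : ((τ * υ : LinearMap.GeneralLinearGroup k M) : M →ₗ[k] M) - 1 =
        ((τ : M →ₗ[k] M) - 1) + ((υ : M →ₗ[k] M) - 1) := by
      have := hxy τ hτ υ hυ
      rw [Units.val_mul, show (τ : M →ₗ[k] M) * (υ : M →ₗ[k] M) - 1 = ((τ : M →ₗ[k] M) - 1) +
        ((υ : M →ₗ[k] M) - 1) + ((τ : M →ₗ[k] M) - 1) * ((υ : M →ₗ[k] M) - 1) by noncomm_ring,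
        this, add_zero]
    refine mk _ hne ?_ ?_ ?_
    · intro m hm
      rw [LinearMap.mem_ker, hsub, LinearMap.add_apply, (hR' τ hτ).1 hm, (hR' υ hυ).1 hm, add_zero]
    · rintro m ⟨v, rfl⟩
      rw [hsub, LinearMap.add_apply]
      exact R.add_mem ((hR' τ hτ).2 ⟨v, rfl⟩) ((hR' υ hυ).2 ⟨v, rfl⟩)
    · rintro g ⟨c, hc⟩
      obtain ⟨g₁, hg₁⟩ := mkU τ hτ c
      obtain ⟨g₂, hg₂⟩ := mkU υ hυ c
      have : g = g₁ * g₂ := Units.ext (by
        rw [hc, hsub, Units.val_mul, hg₁, hg₂]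
        simp [mul_add, add_mul, smul_mul_assoc, mul_smul_comm, hxy τ hτ υ hυ, smul_add]
        abel)
      rw [this]
      exact G.mul_mem (hinG τ hτ g₁ ⟨c, hg₁⟩) (hinG υ hυ g₂ ⟨c, hg₂⟩)
  let S : Subgroup (LinearMap.GeneralLinearGroup k M) :=
    { carrier := sameActionClass G σ ∪ {1}
      one_mem' := Or.inr rfl
      mul_mem' := by
        rintro a b (ha | rfl) (hb | rfl)
        · by_cases h : a * b = 1
          · exact Or.inr h
          · exact Or.inl (hmul a ha b hb h)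
        · exact Or.inl (by rwa [mul_one])
        · exact Or.inl (by rwa [one_mul])
        · exact Or.inr (mul_one 1)
      inv_mem' := by
        rintro a (ha | rfl)
        · exact Or.inl (hinv a ha)
        · exact Or.inr inv_one }
  have hS : sameActionSubgroup G σ = S := by
    refine le_antisymm ((Subgroup.closure_le _).2 fun x hx => Or.inl hx) ?_
    rintro x (hx | rfl)
    · exact Subgroup.subset_closure hx
    · exact one_mem _
  rw [hS]
  refine ⟨rfl, ?_, ?_⟩
  · refine ⟨⟨?_⟩⟩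
    rintro ⟨a, (ha | rfl)⟩ ⟨b, (hb | rfl)⟩ <;> apply Subtype.ext
    · refine Units.ext ?_
      have h1 := hxy a ha b hb
      have h2 := hxy b hb a ha
      show (a : M →ₗ[k] M) * (b : M →ₗ[k] M) = (b : M →ₗ[k] M) * (a : M →ₗ[k] M)
      rw [← sub_eq_zero, show (a : M →ₗ[k] M) * (b : M →ₗ[k] M) - (b : M →ₗ[k] M) * (a : M →ₗ[k] M) =
        ((a : M →ₗ[k] M) - 1) * ((b : M →ₗ[k] M) - 1) - ((b : M →ₗ[k] M) - 1) * ((a : M →ₗ[k] M) - 1)
        by noncomm_ring, h1, h2, sub_zero]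
    all_goals simp
  · intro p hp hchar x hx
    rcases hx with hx | rfl
    · have hpow : ∀ n : ℕ, ((x ^ n : LinearMap.GeneralLinearGroup k M) : M →ₗ[k] M) =
          1 + (n : k) • ((x : M →ₗ[k] M) - 1) := by
        intro n
        induction n with
        | zero => simp
        | succ n ih =>
          have hxx := hxy x hx x hx
          rw [pow_succ, Units.val_mul, ih, Nat.cast_succ, add_smul, one_smul]
          calc (1 + (n : k) • ((x : M →ₗ[k] M) - 1)) * (x : M →ₗ[k] M)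
              = (1 + (n : k) • ((x : M →ₗ[k] M) - 1)) * (1 + ((x : M →ₗ[k] M) - 1)) := by
                rw [add_sub_cancel]
            _ = 1 + ((n : k) • ((x : M →ₗ[k] M) - 1) + ((x : M →ₗ[k] M) - 1)) := by
                simp only [mul_add, add_mul, one_mul, mul_one, smul_mul_assoc, hxx, smul_zero]
                abel
      refine Units.ext ?_
      haveI : CharP k p := hchar ▸ ringChar.charP k
      rw [hpow p, CharP.cast_eq_zero k p, zero_smul, add_zero]
      rfl
    · exact one_pow p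

end Cfsg.Agent.S5059
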