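import Cfsg.Statements.S3305
import Mathlib
import Cfsg.Agent.Lib.Core.Basic

set_option autoImplicit false
open Cfsg

namespace Cfsg.Agent.S3305

open scoped Pointwise

/-- If any two distinct Sylow 2-subgroups of the finite group G intersect in a cyclic group, then the same holds in every quotient group G/H, H a normal subgroup of G. -/
theorem result {G : Type*} [Group G] [Finite G]
    (hC : ∀ S T : Sylow 2 G, S ≠ T → IsCyclic ↥((S : Subgroup G) ⊓ (T : Subgroup G))) (H : Subgroup G) [H.Normal] :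
    ∀ S T : Sylow 2 (G ⧸ H), S ≠ T → IsCyclic ↥((S : Subgroup (G ⧸ H)) ⊓ (T : Subgroup (G ⧸ H))) := by
  classical
  haveI : Fact (Nat.Prime 2) := ⟨Nat.prime_two⟩
  intro S' T' hne
  obtain ⟨S, rfl⟩ := Sylow.mapSurjective_surjective (QuotientGroup.mk'_surjective H) 2 S'
  obtain ⟨T, rfl⟩ := Sylow.mapSurjective_surjective (QuotientGroup.mk'_surjective H) 2 T'
  simp only [Sylow.coe_mapSurjective]
  set q := QuotientGroup.mk' H with hq
  set D' := (S : Subgroup G).map q ⊓ (T : Subgroup G).map q with hD'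
  set K := D'.comap q with hK
  have hHK : H ≤ K := by
    intro x hx
    show q x ∈ D'
    rw [hq, QuotientGroup.mk'_apply, (QuotientGroup.eq_one_iff x).mpr hx]
    exact one_mem _
  have hnH : ∀ A : Subgroup G, A ≤ Subgroup.normalizer (H : Set G) := fun A => by
    rw [Subgroup.normalizer_eq_top_iff.mpr inferInstance]; exact le_top
  have hsplit : ∀ x ∈ K, ∃ s ∈ (S : Subgroup G) ⊓ K, s⁻¹ * x ∈ H := by
    intro x hx
    obtain ⟨s, hs, hsx⟩ := hx.1
    refine ⟨s, ⟨hs, show q s ∈ D' by rw [hsx]; exact hx⟩, QuotientGroup.eq.mp hsx⟩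
  have hKeq : ((S : Subgroup G) ⊓ K) ⊔ H = K := by
    refine le_antisymm (sup_le inf_le_right hHK) fun x hx => ?_
    obtain ⟨s, hs, hsx⟩ := hsplit x hx
    rw [show x = s * (s⁻¹ * x) by simp]
    exact Subgroup.mul_mem_sup hs hsx
  -- `S ∩ K` is a Sylow subgroup of `K`
  have hodd : ¬ 2 ∣ (((S : Subgroup G) ⊓ K).subgroupOf K).index := by
    intro hd
    have hmul : ∀ A B : Subgroup G, A ≤ B → Nat.card A * A.relIndex B = Nat.card B := fun A B h => by
      simpa [Subgroup.relIndex_bot_left] using Subgroup.relIndex_mul_relIndex ⊥ A B bot_le h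
    have c1 := CfsgLib.Core.card_sup_mul_card_inf ((S : Subgroup G) ⊓ K) H (hnH _)
    have c2 := CfsgLib.Core.card_sup_mul_card_inf (S : Subgroup G) H (hnH _)
    have hinf : (S : Subgroup G) ⊓ K ⊓ H = (S : Subgroup G) ⊓ H := by
      rw [inf_assoc, inf_eq_right.mpr hHK]
    rw [hKeq, hinf, ← hmul _ K inf_le_right, mul_assoc] at c1
    rw [← hmul _ _ (le_sup_left : (S : Subgroup G) ≤ (S : Subgroup G) ⊔ H), mul_assoc] at c2
    have d1 := Nat.eq_of_mul_eq_mul_left Nat.card_pos c1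
    have d2 := Nat.eq_of_mul_eq_mul_left Nat.card_pos c2
    have d3 := Nat.eq_of_mul_eq_mul_right Nat.card_pos (d1.trans d2.symm)
    refine S.not_dvd_index ?_
    have : (2 : ℕ) ∣ (S : Subgroup G).relIndex ((S : Subgroup G) ⊔ H) := d3 ▸ hd
    exact this.trans (Subgroup.relIndex_dvd_index_of_le le_sup_left)
  have hSp : IsPGroup 2 ↥((S : Subgroup G) ⊓ K) := S.2.to_le inf_le_left
  let P : Sylow 2 K := (hSp.comap_subtype (K := K)).toSylow hodd
  obtain ⟨Q, hQ⟩ := ((T.2.to_le (inf_le_left : (T : Subgroup G) ⊓ K ≤ T)).comap_subtype (K := K)).exists_le_sylow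
  obtain ⟨k, hk⟩ := MulAction.exists_smul_eq K Q P
  obtain ⟨s, hs, hsk⟩ := hsplit k k.2
  set h := s⁻¹ * (k : G) with hh
  have hle : (T : Subgroup G) ⊓ K ≤ (T : Subgroup G) ⊓ ((h⁻¹ • S : Sylow 2 G) : Subgroup G) := by
    intro a ha
    refine ⟨ha.1, ?_⟩
    have h1 : k * ⟨a, ha.2⟩ * k⁻¹ ∈ (P : Subgroup K) := by
      rw [← hk]; exact ⟨⟨a, ha.2⟩, hQ ha, rfl⟩
    have h2 : (k : G) * a * (k : G)⁻¹ ∈ (S : Subgroup G) := (show _ ∈ (S : Subgroup G) ⊓ K from h1).1
    refine ⟨h * a * h⁻¹, ?_, by simp [mul_assoc]⟩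
    have h3 := (S : Subgroup G).mul_mem ((S : Subgroup G).mul_mem ((S : Subgroup G).inv_mem hs.1) h2) hs.1
    show h * a * h⁻¹ ∈ (S : Subgroup G)
    simpa [hh, mul_assoc] using h3
  have hST : T ≠ h⁻¹ • S := by
    intro he
    apply hne
    apply Sylow.ext
    simp only [Sylow.coe_mapSurjective]
    have hqh : q h = 1 := (QuotientGroup.eq_one_iff _).mpr hsk
    have h1 : (T : Subgroup G).map q = ((h⁻¹ • S : Sylow 2 G) : Subgroup G).map q := by rw [he]
    rw [h1, Sylow.coe_subgroup_smul]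
    ext z
    constructor
    · rintro ⟨a, ha, rfl⟩
      refine ⟨h⁻¹ * a * h⁻¹⁻¹, ⟨a, ha, rfl⟩, ?_⟩
      simp only [map_mul, map_inv, hqh, inv_one, inv_inv, one_mul, mul_one]; try rfl
    · rintro ⟨_, ⟨a, ha, rfl⟩, rfl⟩
      refine ⟨a, ha, ?_⟩
      show q a = q (h⁻¹ * a * h⁻¹⁻¹)
      simp only [map_mul, map_inv, hqh, inv_one, inv_inv, one_mul, mul_one]; try rfl
  haveI := hC T (h⁻¹ • S) hST
  haveI : IsCyclic ↥((T : Subgroup G) ⊓ K) :=
    isCyclic_of_injective (Subgroup.inclusion hle) (Subgroup.inclusion_injective hle)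
  have himg : ((T : Subgroup G) ⊓ K).map q = D' := by
    refine le_antisymm (Subgroup.map_le_iff_le_comap.mpr inf_le_right) fun z hz => ?_
    obtain ⟨t, ht, rfl⟩ := hz.2
    exact ⟨t, ⟨ht, hz⟩, rfl⟩
  have hcyc : IsCyclic ↥D' := himg ▸ isCyclic_of_surjective _ (q.subgroupMap_surjective ((T : Subgroup G) ⊓ K))
  exact hcyc

end Cfsg.Agent.S3305
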