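import Cfsg.Statements.S1680
import Cfsg.Agent.Lib.ThreeTrans.CosetIndex.Suz1782.Valid
import Cfsg.Agent.Lib.ThreeTrans.CosetIndex.Suz1782.Orbits

set_option autoImplicit false
open Cfsg CfsgLib.ThreeTrans.CosetIndex

namespace Cfsg.Agent.S1680

/-- The generators in order. -/
def gens : List Spor.Suz.Gen := [.a, .b, .c, .d, .e, .f, .g]

/-- The generators of the subgroup. -/
def words : List (FreeGroup Spor.Suz.Gen) :=
  [Cfsg.Spor.Suz.a, Cfsg.Spor.Suz.b, Cfsg.Spor.Suz.c, Cfsg.Spor.Suz.d, Cfsg.Spor.Suz.e, Cfsg.Spor.Suz.f]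

theorem fits : Fits Spor.Suz.edges Spor.Suz.extra gens Suz1782.data words where
  nodes := fun y => by cases y <;> decide
  mem := fun y => by cases y <;> decide
  nodup := by decide
  ng := rfl
  rels := by decide +kernel
  subs := by decide +kernel

/-- In the presented sporadic Suzuki group, let H be the subgroup generated by the images of a, …, f. Then H has index 1782, H has orbits of sizes 416 and 1365 on the cosets of H other than H itself (with the index 1782 this makes the action rank 3). -/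
theorem result : (((Subgroup.closure ({Cfsg.Spor.Suz.a, Cfsg.Spor.Suz.b, Cfsg.Spor.Suz.c, Cfsg.Spor.Suz.d, Cfsg.Spor.Suz.e, Cfsg.Spor.Suz.f} : Set (FreeGroup Cfsg.Spor.Suz.Gen))).map (PresentedGroup.mk (Cfsg.Spor.coxRelators Cfsg.Spor.Suz.edges ∪ {r | r ∈ Cfsg.Spor.Suz.extra})))).index = 1782 ∧ ∃ q₁ q₂ : Cfsg.Spor.Suz ⧸ (((Subgroup.closure ({Cfsg.Spor.Suz.a, Cfsg.Spor.Suz.b, Cfsg.Spor.Suz.c, Cfsg.Spor.Suz.d, Cfsg.Spor.Suz.e, Cfsg.Spor.Suz.f} : Set (FreeGroup Cfsg.Spor.Suz.Gen))).map (PresentedGroup.mk (Cfsg.Spor.coxRelators Cfsg.Spor.Suz.edges ∪ {r | r ∈ Cfsg.Spor.Suz.extra})))), (MulAction.orbit (((Subgroup.closure ({Cfsg.Spor.Suz.a, Cfsg.Spor.Suz.b, Cfsg.Spor.Suz.c, Cfsg.Spor.Suz.d, Cfsg.Spor.Suz.e, Cfsg.Spor.Suz.f} : Set (FreeGroup Cfsg.Spor.Suz.Gen))).map (PresentedGroup.mk (Cfsg.Spor.coxRelators Cfsg.Spor.Suz.edges ∪ {r | r ∈ Cfsg.Spor.Suz.extra})))) q₁).ncard = 416 ∧ (MulAction.orbit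 (((Subgroup.closure ({Cfsg.Spor.Suz.a, Cfsg.Spor.Suz.b, Cfsg.Spor.Suz.c, Cfsg.Spor.Suz.d, Cfsg.Spor.Suz.e, Cfsg.Spor.Suz.f} : Set (FreeGroup Cfsg.Spor.Suz.Gen))).map (PresentedGroup.mk (Cfsg.Spor.coxRelators Cfsg.Spor.Suz.edges ∪ {r | r ∈ Cfsg.Spor.Suz.extra})))) q₂).ncard = 1365 := by
  have hset : ({Cfsg.Spor.Suz.a, Cfsg.Spor.Suz.b, Cfsg.Spor.Suz.c, Cfsg.Spor.Suz.d, Cfsg.Spor.Suz.e, Cfsg.Spor.Suz.f} :
      Set (FreeGroup Cfsg.Spor.Suz.Gen)) = {r | r ∈ words} := by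
    ext r; simp [words]
  rw [hset]
  obtain ⟨e, he⟩ := exists_presented_equiv Suz1782.valid fits
  have h0 := presented_orbit Suz1782.valid fits (c₀ := (⟨47, by decide⟩ : Fin Suz1782.data.n)) Suz1782.orb0 e he
  have h1 := presented_orbit Suz1782.valid fits (c₀ := (⟨1, by decide⟩ : Fin Suz1782.data.n)) Suz1782.orb1 e he
  exact ⟨presented_index Suz1782.valid fits, _, _, h0.2, h1.2⟩

end Cfsg.Agent.S1680
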