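import Cfsg.Statements.S1189
import Cfsg.Agent.Lib.TwoGroups.SemiDihedralSubgroups
import Cfsg.Agent.Lib.TwoGroups.MapEquiv

set_option autoImplicit false
open Cfsg

namespace Cfsg.Agent.S1189

/-- A quasi-dihedral 2-group has exactly two conjugacy classes of elements of order 2 and exactly two conjugacy classes of elements of order 4. -/
theorem result {S : Type*} [Group S] [Finite S] (hS : Cfsg.IsQuasiDihedral S) : Nat.card {C : ConjClasses S // ∃ t : S, orderOf t = 2 ∧ ConjClasses.mk t = C} = 2 ∧ Nat.card {C : ConjClasses S // ∃ t : S, orderOf t = 4 ∧ ConjClasses.mk t = C} = 2 := by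
  obtain ⟨m, hcard, ⟨e⟩⟩ := CfsgLib.TwoGroups.SemiDihedral.of_isQuasiDihedral hS
  rw [CfsgLib.TwoGroups.natCard_conjClasses_orderOf_congr e 2,
    CfsgLib.TwoGroups.natCard_conjClasses_orderOf_congr e 4]
  exact ⟨CfsgLib.TwoGroups.SemiDihedral.natCard_classes_two,
    CfsgLib.TwoGroups.SemiDihedral.natCard_classes_four⟩

end Cfsg.Agent.S1189
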