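import Cfsg.Statements.S0817
import Cfsg.Agent.Lib.Known.AutPOmega.OutPlus
import Cfsg.Agent.Lib.Known.ChevAut.OutD4
import Cfsg.Agent.Lib.Classical.ChevModel.D4

set_option autoImplicit false
open Cfsg

namespace Cfsg.Agent.S0817

/-- |Aut(PΩ⁺_2m(q))| for q = p^f, m ≥ 4: |PΩ⁺_2m(q)| times f, times 3 when m = 4, times 2 if p = 2, and times 8 or 4 if p is odd according as m(q−1)/2 is even or odd. -/
theorem result {F : Type*} [Field F] [Fintype F] (p f : ℕ) [Fact p.Prime] (hf : 1 ≤ f) (hF : Fintype.card F = p ^ f) (m : ℕ) (hm : 4 ≤ m) : Nat.card (MulAut (Cfsg.POmega F (Cfsg.quadFormPlus m F))) = (if m = 4 then 3 else 1) * (if p = 2 then 2 else (if Even (m * (p ^ f - 1) / 2) then 8 else 4)) * f * Nat.card (Cfsg.POmega F (Cfsg.quadFormPlus m F)) := by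
  classical
  rw [← CfsgLib.Classical.Quad.coe_qPlus]
  by_cases h4 : m = 4
  · subst h4
    obtain ⟨e⟩ := CfsgLib.Classical.ChevModel.D4.nonempty_equiv F
    rw [CfsgLib.Classical.Quad.coe_qPlus, if_pos rfl, ← Nat.card_congr e.toEquiv,
      ← Nat.card_congr (MulAut.congr e).toEquiv, (CfsgLib.Known.ChevAut.out_D4 p f hf hF).1]
    by_cases hp : p = 2
    · rw [if_pos hp, if_pos hp]; ring
    · rw [if_neg hp, if_neg hp, if_pos (by rw [Nat.mul_div_assoc 4 ?_]; · exact Even.mul_right ⟨2, rfl⟩ _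
                                           · have := Nat.odd_iff.1 (((Fact.out : p.Prime).odd_of_ne_two hp).pow (n := f)); omega)]
      ring
  · rw [if_neg h4, one_mul]
    by_cases hp : p = 2
    · subst hp
      rw [if_pos rfl, (CfsgLib.Known.AutPOmega.out_plus_two_std hf hF (show 5 ≤ m by omega)).2]
    · have hpo : Odd p := (Fact.out : p.Prime).odd_of_ne_two hp
      obtain ⟨h1, h2⟩ := CfsgLib.Known.AutPOmega.out_plus_odd_std (F := F) hf hF hpo
        (show 5 ≤ m by omega)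
      have hq : p ^ f % 2 = 1 := Nat.odd_iff.1 hpo.pow
      have key : Even (m * (p ^ f - 1) / 2) ↔ ¬ (p ^ f % 4 = 3 ∧ Odd m) := by
        obtain ⟨k, hk⟩ : ∃ k, p ^ f = 2 * k + 1 := ⟨p ^ f / 2, by omega⟩
        rw [hk, Nat.add_sub_cancel, Nat.mul_left_comm, Nat.mul_div_cancel_left _ two_pos,
          Nat.even_mul, Nat.even_iff, Nat.even_iff, Nat.odd_iff]
        omega
      rw [if_neg hp]
      by_cases hc : p ^ f % 4 = 3 ∧ Odd m
      · rw [if_neg fun h => key.1 h hc, (h1 hc).2]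
      · rw [if_pos (key.2 hc), (h2 hc).2]

end Cfsg.Agent.S0817
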