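import Cfsg.Statements.S5347
import Cfsg.Agent.Lib.ThreeTrans.Basic
-- import your own Cfsg.Agent.* helpers here

set_option autoImplicit false
open Cfsg

namespace Cfsg.Agent.S5347

/-- Let D be a conjugation-invariant generating set of 3-transpositions of a finite group G, p a prime bigger than 3, and P a p-subgroup of G. If a member d of D normalizes P then d centralizes P. -/
theorem result {G : Type*} [Group G] [Finite G] {D : Set G} (hD : Cfsg.IsThreeTranspositionGroup D) {p : ℕ} (hp : p.Prime) (hp3 : 3 < p) (P : Subgroup G) (hP : IsPGroup p P) {d : G} (hd : d ∈ D) (hnorm : d ∈ Subgroup.normalizer (P : Set G)) : ∀ x ∈ P, Commute d x := by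
  obtain ⟨hD, hconj, -⟩ := hD
  intro x hx
  have hy : d * (x * d * x⁻¹) ∈ P := by
    have h1 : d * x * d⁻¹ ∈ P := (Subgroup.mem_normalizer_iff.1 hnorm x).1 hx
    rw [CfsgLib.ThreeTrans.inv_eq hD hd] at h1
    simpa only [mul_assoc] using P.mul_mem h1 (P.inv_mem hx)
  have h1 : d * (x * d * x⁻¹) = 1 := by
    haveI := Fact.mk hp
    obtain ⟨k, hk⟩ := IsPGroup.iff_orderOf.1 hP ⟨_, hy⟩
    rw [← Subgroup.orderOf_coe] at hk
    have hdvd : orderOf (d * (x * d * x⁻¹)) ∣ 6 := by
      rcases hD.2 d hd _ (hconj x d hd) with h | h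
      · exact (orderOf_dvd_of_pow_eq_one h).trans (by norm_num)
      · exact (orderOf_dvd_of_pow_eq_one h).trans (by norm_num)
    rw [← orderOf_eq_one_iff, hk]
    rcases k with _ | k
    · rfl
    · exfalso
      rw [hk] at hdvd
      have h6 : p ∣ 6 := (dvd_pow_self p (Nat.succ_ne_zero k)).trans hdvd
      have := Nat.le_of_dvd (by norm_num) h6
      interval_cases p <;> norm_num at *
  have h2 := eq_inv_of_mul_eq_one_right h1
  rw [CfsgLib.ThreeTrans.inv_eq hD hd, mul_inv_eq_iff_eq_mul] at h2
  exact h2.symm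

end Cfsg.Agent.S5347
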