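import Cfsg.Statements.S5361
import Cfsg.Agent.Lib.ThreeTrans.Primitive
-- import your own Cfsg.Agent.* helpers here

set_option autoImplicit false
open Cfsg

namespace Cfsg.Agent.S5361

/-- Let D be a conjugacy class of 3-transpositions generating the finite group G, and suppose the centre of G is trivial and some two different members of D commute. Then the following are equivalent: (1) the commutator subgroup of G is simple (possibly of prime order); (2) G acts primitively on D by conjugation; (3) the largest normal 2-subgroup and the largest normal 3-subgroup of G are trivial and the commuting graph of D is connected. -/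
theorem result {G : Type*} [Group G] [Finite G] {D : Set G} (hD : Cfsg.IsThreeTranspositionClass D) (hZ : Subgroup.center G = ⊥) (hw : ∃ a ∈ D, ∃ b ∈ D, a ≠ b ∧ Commute a b) : (IsSimpleGroup (commutator G) ↔ Cfsg.IsPrimitiveUnderConj D) ∧ (Cfsg.IsPrimitiveUnderConj D ↔ (Cfsg.pCore 2 G = ⊥ ∧ Cfsg.pCore 3 G = ⊥ ∧ (Cfsg.commutingGraph D).Connected)) := by
  obtain ⟨a, ha, b, hb, hab, hcm⟩ := id hw
  have hD2 : ∃ a ∈ D, ∃ b ∈ D, a ≠ b := ⟨a, ha, b, hb, hab⟩
  have hG := CfsgLib.ThreeTrans.group_of_class hD
  have h12 : IsSimpleGroup (commutator G) → IsPrimitiveUnderConj D := by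
    intro hs
    have hprod : ∀ x ∈ D, ∀ y ∈ D, x * y ∈ commutator G := by
      intro x hx y hy
      obtain ⟨g, rfl⟩ := CfsgLib.ThreeTrans.class_trans hD hx hy
      rw [show x * (g * x * g⁻¹) = x * (g * x * g⁻¹ * x⁻¹) * x⁻¹ * (x * x) by group,
        CfsgLib.ThreeTrans.mul_self hD.1 hx, mul_one]
      exact (inferInstance : (commutator G).Normal).conj_mem _
        (Subgroup.commutator_mem_commutator (Subgroup.mem_top g) (Subgroup.mem_top x)) x
    have hnab : ¬ IsMulCommutative ↥(commutator G) := by
      intro hm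
      letI : CommGroup ↥(commutator G) := { (inferInstance : Group ↥(commutator G)) with mul_comm := hm.is_comm.comm }
      haveI := hs
      have hp : (Nat.card ↥(commutator G)).Prime := IsSimpleGroup.prime_card
      obtain ⟨x, hx, hax⟩ := CfsgLib.ThreeTrans.exists_not_commute hD hD2 ha
      have h3 : 3 ∣ Nat.card ↥(commutator G) := by
        rw [← CfsgLib.ThreeTrans.orderOf_mul hD.1 ha hx hax]
        have := orderOf_dvd_natCard (⟨_, hprod a ha x hx⟩ : ↥(commutator G))
        rwa [← Subgroup.orderOf_coe] at this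
      have h2 : 2 ∣ Nat.card ↥(commutator G) := by
        have h := orderOf_dvd_natCard (⟨_, hprod a ha b hb⟩ : ↥(commutator G))
        rw [← Subgroup.orderOf_coe] at h
        rcases (Nat.dvd_prime Nat.prime_two).1 (orderOf_dvd_of_pow_eq_one
          ((CfsgLib.ThreeTrans.commute_iff_sq hD.1 ha hb).1 hcm)) with e | e
        · exfalso
          apply hab
          rw [← CfsgLib.ThreeTrans.inv_eq hD.1 hb]
          exact eq_inv_of_mul_eq_one_left (orderOf_eq_one_iff.1 e)
        · rwa [e] at h
      have e2 := (Nat.prime_dvd_prime_iff_eq Nat.prime_two hp).1 h2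
      have e3 := (Nat.prime_dvd_prime_iff_eq Nat.prime_three hp).1 h3
      omega
    haveI := hs
    have hL : IsQuasisimple ↥(commutator G) := CfsgLib.Components.isQuasisimple_of_isSimpleGroup hnab
    have hidx : (commutator G).index ≤ 2 := CfsgLib.ThreeTrans.index_le_two_of_sup
      (CfsgLib.ThreeTrans.mul_self hD.1 ha) (CfsgLib.ThreeTrans.sup_zpowers_eq_top hD fun x hx => hprod a ha x hx)
    have hcore : ∀ p, p.Prime → pCore p G ≤ Subgroup.center G := by
      intro p hp
      haveI := Fact.mk hp
      rcases ((inferInstance : (pCore p G).Normal).subgroupOf (commutator G)).eq_bot_or_eq_top with h | h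
      · intro x hx
        rw [Subgroup.mem_center_iff]
        intro g
        have h1 : g * x * g⁻¹ * x⁻¹ ∈ pCore p G :=
          mul_mem ((inferInstance : (pCore p G).Normal).conj_mem x hx g) (inv_mem hx)
        have h2 : g * x * g⁻¹ * x⁻¹ ∈ commutator G :=
          Subgroup.commutator_mem_commutator (Subgroup.mem_top g) (Subgroup.mem_top x)
        have h3 : (⟨_, h2⟩ : ↥(commutator G)) ∈ (pCore p G).subgroupOf (commutator G) := h1
        rw [h, Subgroup.mem_bot] at h3
        exact mul_inv_eq_iff_eq_mul.1 (mul_inv_eq_one.1 (congrArg Subtype.val h3))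
      · exfalso
        have hle : commutator G ≤ pCore p G := Subgroup.subgroupOf_eq_top.1 h
        haveI : Group.IsNilpotent ↥(commutator G) :=
          ((CfsgLib.Core.isPGroup_pCore p G).to_le hle).isNilpotent
        exact CfsgLib.Components.IsQuasisimple.not_isNilpotent hL inferInstance
    have hF := CfsgLib.ThreeTrans.fitting_le_center hD (hcore 2 Nat.prime_two) (hcore 3 Nat.prime_three)
    exact CfsgLib.ThreeTrans.primitive_of_quasisimple hD hD2 hL hidx hF
      (CfsgLib.ThreeTrans.gFitting_eq hD hL hidx hF)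
  have h23 : IsPrimitiveUnderConj D → pCore 2 G = ⊥ ∧ pCore 3 G = ⊥ ∧ (commutingGraph D).Connected := fun hp =>
    ⟨le_bot_iff.1 (hZ ▸ CfsgLib.ThreeTrans.pCore_le_center hG hp hw Nat.prime_two),
      le_bot_iff.1 (hZ ▸ CfsgLib.ThreeTrans.pCore_le_center hG hp hw Nat.prime_three),
      CfsgLib.ThreeTrans.connected_of_primitive hG hp hw⟩
  have h31 : (pCore 2 G = ⊥ ∧ pCore 3 G = ⊥ ∧ (commutingGraph D).Connected) → IsSimpleGroup (commutator G) := by
    rintro ⟨e2, e3, hconn⟩
    have hF := CfsgLib.ThreeTrans.fitting_le_center hD (by rw [e2]; exact bot_le) (by rw [e3]; exact bot_le)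
    have hne := CfsgLib.ThreeTrans.layer_ne_bot hD hD2 hF
    rw [Ne, CfsgLib.Components.layer_eq_bot_iff, not_forall] at hne
    obtain ⟨L, hL⟩ := hne
    rw [not_not] at hL
    haveI := CfsgLib.ThreeTrans.component_normal hD hL
    have hidx := CfsgLib.ThreeTrans.index_le_two_of_connected hD hL.2 hconn
    have hcomm : commutator G = L := by
      refine le_antisymm (CfsgLib.ThreeTrans.commutator_le_of_index_le_two hidx) ?_
      rw [← CfsgLib.Components.IsComponent.commutator_eq_self hL, commutator_def]
      exact Subgroup.commutator_mono le_top le_top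
    have hcen : Subgroup.center ↥L = ⊥ := by
      set Z := (Subgroup.center ↥L).map L.subtype with hZdef
      haveI : Z.Normal := inferInstance
      have hZn : Group.IsNilpotent ↥Z := CfsgLib.ThreeTrans.isNilpotent_of_comm fun x y => Subtype.ext (by
        obtain ⟨x', hx', hxe⟩ := x.2
        obtain ⟨y', hy', hye⟩ := y.2
        show (x : G) * y = y * x
        rw [← hxe, ← hye]
        exact congrArg Subtype.val (Subgroup.mem_center_iff.1 hy' x'))
      have h1 : Z ≤ ⊥ := hZ ▸ ((CfsgLib.Core.le_fittingSubgroup hZn).trans hF)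
      rw [le_bot_iff, Subgroup.map_eq_bot_iff, Subgroup.ker_subtype, le_bot_iff] at h1
      exact h1
    have hsimple : IsSimpleGroup (↥L ⧸ Subgroup.center ↥L) := hL.2.2
    haveI := hsimple
    rw [hcomm]
    exact (MulEquiv.ofBijective (QuotientGroup.mk' (Subgroup.center ↥L))
      ⟨(MonoidHom.ker_eq_bot_iff _).1 ((QuotientGroup.ker_mk' _).trans hcen),
        QuotientGroup.mk'_surjective _⟩).isSimpleGroup
  exact ⟨⟨h12, fun h => h31 (h23 h)⟩, ⟨h23, fun h => h12 (h31 h)⟩⟩

end Cfsg.Agent.S5361
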