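import Cfsg.Statements.S5463
import Cfsg.Agent.Lib.Recog.FiM22.Factor.Top

set_option autoImplicit false
open Cfsg

namespace Cfsg.Agent.S5463

/-- Let G be a finite group with trivial centre generated by a conjugation-invariant set D of 3-transpositions on which it acts primitively, such that for some d in D the subgroup generated by the members of D other than d commuting with d has central largest normal 2- and 3-subgroups, and suppose G with D is of type M(22). A product j of two distinct commuting members of D determines the pair: any two 2-element sets of commuting members of D with product j coincide. A product j of three distinct pairwise commuting members of D arises from exactly two such 3-element sets. -/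
theorem result {G : Type*} [Group G] [Finite G] {D : Set G} (hD : Cfsg.IsThreeTranspositionGroup D) (hprim : Cfsg.IsPrimitiveUnderConj D) (d₀ : G) (hd₀ : d₀ ∈ D) (h3 : Cfsg.pCore 3 ↥(Subgroup.closure {y : G | y ∈ D ∧ y ≠ d₀ ∧ Commute d₀ y}) ≤ Subgroup.center ↥(Subgroup.closure {y : G | y ∈ D ∧ y ≠ d₀ ∧ Commute d₀ y})) (h2 : Cfsg.pCore 2 ↥(Subgroup.closure {y : G | y ∈ D ∧ y ≠ d₀ ∧ Commute d₀ y}) ≤ Subgroup.center ↥(Subgroup.closure {y : G | y ∈ D ∧ y ≠ d₀ ∧ Commute d₀ y})) (h22 : Cfsg.IsOfTypeM22 G D) : (∀ (j : G) (l l' : List G), (l.Nodup ∧ l.length = 2 ∧ (∀ a ∈ l, a ∈ D) ∧ (∀ a ∈ l, ∀ b ∈ l, Commute a b) ∧ l.prod = j) → (l'.Nodup ∧ l'.length = 2 ∧ (∀ a ∈ l', a ∈ D) ∧ (∀ a ∈ l', ∀ b ∈ l', Commute a b) ∧ l'.prod = j) → (∀ x : G, x ∈ l ↔ x ∈ l')) ∧ ∀ (j : G) (l₀ : List G), (l₀.Nodup ∧ l₀.length = 3 ∧ (∀ a ∈ l₀, a ∈ D) ∧ (∀ a ∈ l₀, ∀ b ∈ l₀, Commute a b) ∧ l₀.prod = j) → ∃ l₁ l₂ : List G, (l₁.Nodup ∧ l₁.length =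 3 ∧ (∀ a ∈ l₁, a ∈ D) ∧ (∀ a ∈ l₁, ∀ b ∈ l₁, Commute a b) ∧ l₁.prod = j) ∧ (l₂.Nodup ∧ l₂.length = 3 ∧ (∀ a ∈ l₂, a ∈ D) ∧ (∀ a ∈ l₂, ∀ b ∈ l₂, Commute a b) ∧ l₂.prod = j) ∧ ¬ (∀ x : G, x ∈ l₁ ↔ x ∈ l₂) ∧ ∀ l : List G, (l.Nodup ∧ l.length = 3 ∧ (∀ a ∈ l, a ∈ D) ∧ (∀ a ∈ l, ∀ b ∈ l, Commute a b) ∧ l.prod = j) → ((∀ x : G, x ∈ l ↔ x ∈ l₁) ∨ (∀ x : G, x ∈ l ↔ x ∈ l₂)) := by
  have hS := hD.1
  have h4 := CfsgLib.Recog.FiM22.Factor.m22_noRel hD h22
  have hd1 := CfsgLib.Recog.FiM22.Factor.diff_one (D := D) hS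
  obtain ⟨a, b, ⟨P⟩⟩ := CfsgLib.Recog.FiM22.Factor.exists_pre h22 (by rw [hd1]; exact hD)
  rw [hd1] at P
  constructor
  · rintro j l l' ⟨n, k, md, cm, e⟩ ⟨n', k', md', cm', e'⟩
    rcases CfsgLib.Recog.FiM22.Factor.same_or_disjoint hS h4 ⟨n, md, cm⟩ ⟨n', md', cm'⟩ k k' (by norm_num)
      (e.trans e'.symm) with h | ⟨h, -⟩
    · exact h
    · exact absurd h (by norm_num)
  rintro j l₀ ⟨n, k, md, cm, e⟩
  obtain ⟨x, y, z, rfl⟩ : ∃ x y z, l₀ = [x, y, z] := by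
    match l₀, k with
    | [x, y, z], _ => exact ⟨x, y, z, rfl⟩
  obtain ⟨g, hg⟩ := hprim.1 x (md x (by simp)) a P.mema
  let φ : G ≃* G := MulAut.conj g
  have hφx : φ x = a := hg
  have hc : CfsgLib.Recog.FiM22.Factor.ComList D ([x, y, z].map φ) :=
    (CfsgLib.Recog.FiM22.Factor.ComList.mk n md cm).conj hD.2.1 g
  simp only [List.map_cons, List.map_nil, hφx] at hc
  have hnb : ∀ w ∈ [φ y, φ z], w ∈ CfsgLib.Recog.FiM22.Factor.nb D a := fun w hw =>
    ⟨hc.mem w (List.mem_cons_of_mem _ hw), fun e' => (List.nodup_cons.1 hc.nodup).1 (e' ▸ hw),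
      hc.comm a List.mem_cons_self w (List.mem_cons_of_mem _ hw)⟩
  obtain ⟨u, v, w, h6, h6p⟩ := CfsgLib.Recog.FiM22.Factor.six_exists hprim P (hnb (φ y) (by simp)) (hnb (φ z) (by simp))
    (by
      have := hc.nodup
      simp at this
      exact fun e' => this.2 (φ.injective e'))
    (hc.comm (φ y) (by simp) (φ z) (by simp))
  set l₂ := [u, v, w].map φ.symm with hl₂
  have hsplit : [a, φ y, φ z, u, v, w] = [x, y, z].map φ ++ [u, v, w] := by simp [hφx]
  have hmul : [x, y, z].prod * l₂.prod = 1 := by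
    have h1 := congrArg φ.symm h6p
    rw [hsplit, List.prod_append, map_mul, ← map_list_prod, φ.symm_apply_apply, map_one,
      map_list_prod, ← hl₂] at h1
    exact h1
  have hl2c : CfsgLib.Recog.FiM22.Factor.ComList D l₂ := by
    have h := (h6.sub (u := [u, v, w]) ((hsplit ▸ h6.nodup).of_append_right) (fun t ht => by simp at ht ⊢; tauto)).conj
      hD.2.1 g⁻¹
    rwa [show ([u, v, w].map (MulAut.conj g⁻¹)) = l₂ from List.map_congr_left fun t _ => by simp [φ]] at h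
  have hprod2 : l₂.prod = j := by
    have h1 := CfsgLib.Recog.FiM22.Factor.ComList.prod_sq hS ⟨n, md, cm⟩
    rw [← e]
    exact mul_left_cancel (hmul.trans h1.symm)
  have hdis : ∀ t ∈ [x, y, z], t ∉ l₂ := by
    intro t ht ht2
    obtain ⟨t', ht', rfl⟩ := List.mem_map.1 ht2
    have h1 : t' ∈ [x, y, z].map φ := List.mem_map.2 ⟨_, ht, φ.apply_symm_apply t'⟩
    exact List.disjoint_of_nodup_append (hsplit ▸ h6.nodup) h1 ht'
  refine ⟨[x, y, z], l₂, ⟨n, k, md, cm, e⟩, ⟨hl2c.nodup, by simp [l₂], hl2c.mem, hl2c.comm, hprod2⟩,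
    fun h => hdis x (by simp) ((h x).1 (by simp)), ?_⟩
  rintro l ⟨n', k', md', cm', e'⟩
  rcases CfsgLib.Recog.FiM22.Factor.same_or_disjoint hS h4 ⟨n, md, cm⟩ ⟨n', md', cm'⟩ k k' (by norm_num)
      (e.trans e'.symm) with h | ⟨-, hd', hu, hup⟩
  · exact Or.inl fun t => (h t).symm
  refine Or.inr ?_
  obtain ⟨u', v', w', rfl⟩ : ∃ u' v' w', l = [u', v', w'] := by
    match l, k' with
    | [u', v', w'], _ => exact ⟨u', v', w', rfl⟩
  have h6' := hu.conj hD.2.1 g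
  have h6p' : (([x, y, z] ++ [u', v', w']).map φ).prod = 1 := by rw [← map_list_prod, hup, map_one]
  change CfsgLib.Recog.FiM22.Factor.ComList D (([x, y, z] ++ [u', v', w']).map φ) at h6'
  simp only [List.cons_append, List.nil_append, List.map_cons, List.map_nil, hφx] at h6' h6p'
  have hs := CfsgLib.Recog.FiM22.Factor.six_unique P h6 h6p h6' h6p'
  have hs' := CfsgLib.Recog.FiM22.Factor.six_unique P h6' h6p' h6 h6p
  intro t
  constructor
  · intro ht
    have h1 := hs (φ t) (by simp only [List.mem_cons, List.not_mem_nil, or_false] at ht ⊢; rcases ht with rfl | rfl | rfl <;> simp)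
    exact List.mem_map.2 ⟨_, h1, φ.symm_apply_apply t⟩
  · intro ht
    obtain ⟨t', ht', rfl⟩ := List.mem_map.1 ht
    have h1 := hs' t' ht'
    simp only [List.mem_cons, List.not_mem_nil, or_false] at h1 ⊢
    rcases h1 with rfl | rfl | rfl <;> simp

end Cfsg.Agent.S5463
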