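import Cfsg.Statements.S1057
import Cfsg.Agent.Lib.Lie.G2Two

set_option autoImplicit false
open Cfsg

namespace Cfsg.Agent.S1057

/-- G₂(2)′ ≅ PSU₃(3). -/
theorem result {F K : Type*} [Field F] [Fintype F] [Field K] [Fintype K] (hF : Fintype.card F = 2) (hK : Fintype.card K = 9) :
    Nonempty (↥(commutator ↥(Cfsg.Lie.chevG2.group F)) ≃* Cfsg.PSU 3 K 3) := by
  haveI : Fact (Nat.Prime 2) := ⟨Nat.prime_two⟩
  haveI : Fact (Nat.Prime 3) := ⟨Nat.prime_three⟩
  haveI : CharP K 3 := charP_of_card_eq_prime_pow (p := 3) (f := 2) (by rw [hK]; norm_num)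
  let e : ZMod 2 ≃+* F := ZMod.ringEquivOfPrime F Nat.prime_two hF
  let D := Cfsg.Lie.chevG2
  let f : ↥(D.group (ZMod 2)) ≃* ↥(D.group F) :=
    { toFun := fun g => ⟨CfsgLib.Lie.Chev.glMap D e.toRingHom g,
        CfsgLib.Lie.Chev.map_group_le D e.toRingHom ⟨g, g.2, rfl⟩⟩
      invFun := fun g => ⟨CfsgLib.Lie.Chev.glMap D e.symm.toRingHom g,
        CfsgLib.Lie.Chev.map_group_le D e.symm.toRingHom ⟨g, g.2, rfl⟩⟩
      left_inv := fun g => Subtype.ext (Units.ext (by ext a b; simp [CfsgLib.Lie.Chev.glMap_val]))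
      right_inv := fun g => Subtype.ext (Units.ext (by ext a b; simp [CfsgLib.Lie.Chev.glMap_val]))
      map_mul' := fun a b => Subtype.ext (map_mul (CfsgLib.Lie.Chev.glMap D e.toRingHom) _ _) }
  obtain ⟨ψ⟩ := CfsgLib.Lie.G2Two.nonempty_commutator_equiv hK
  have hmap : (commutator ↥(D.group (ZMod 2))).map f.toMonoidHom = commutator ↥(D.group F) := by
    rw [commutator_def, commutator_def, Subgroup.map_commutator,
      Subgroup.map_top_of_surjective _ f.surjective]
  exact ⟨((MulEquiv.subgroupCongr hmap).symm.trans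
    ((commutator ↥(D.group (ZMod 2))).equivMapOfInjective _ f.injective).symm).trans ψ⟩

end Cfsg.Agent.S1057
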