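import Cfsg.Statements.S0428
import Cfsg.Agent.Lib.Sporadic.Design
-- shares the equation lemmas of `pointBlockRel` with HsGraph (avoids a duplicate-name collision)
import Cfsg.Agent.Lib.Sporadic.HsGraph
-- import your own Cfsg.Agent.* helpers here

set_option autoImplicit false
open Cfsg CfsgLib.Sporadic
open scoped Pointwise

namespace Cfsg.Agent.S0428

/-- The point-block graph of an S(3, 6, 22) is strongly regular with parameters (100, 22, 0, 6). -/
theorem result {α : Type*} [Fintype α] (hα : Fintype.card α = 22) {B : Set (Finset α)} (hB : Cfsg.IsSteinerSystem 3 6 B) [Fintype B] [DecidableRel (Cfsg.pointBlockGraph B).Adj] : (Cfsg.pointBlockGraph B).IsSRGWith 100 22 0 6 := by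
  classical
  have hblocks : Fintype.card B = 77 := by
    have h := CfsgLib.Sporadic.Design.card_above22 hα hB (s := ∅) (by simp)
    rw [show CfsgLib.Sporadic.Design.above B (∅ : Finset α) = CfsgLib.Sporadic.Design.blocks B by simp [CfsgLib.Sporadic.Design.above]] at h
    rw [Fintype.card_eq_nat_card, Nat.card_coe_set_eq, ← CfsgLib.Sporadic.Design.card_blocks]
    simpa using h
  have hsd : ∀ b ∈ B, ¬ Disjoint b b := fun b hb h => by
    have := hB.1 b hb
    simp [disjoint_self.1 h] at this
  let A := (pointBlockGraph B).Adj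
  have a00 : ¬ A none none := fun h => h.ne rfl
  have a0p : ∀ p : α, A none (some (Sum.inl p)) := fun p => by
    simp [A, pointBlockGraph, pointBlockRel]
  have a0b : ∀ b : B, ¬ A none (some (Sum.inr b)) := fun b => by
    simp [A, pointBlockGraph, pointBlockRel]
  have app : ∀ p q : α, ¬ A (some (Sum.inl p)) (some (Sum.inl q)) := fun p q => by
    simp [A, pointBlockGraph, pointBlockRel]
  have apb : ∀ (p : α) (b : B), A (some (Sum.inl p)) (some (Sum.inr b)) ↔ p ∈ (b : Finset α) := fun p b => by
    simp [A, pointBlockGraph, pointBlockRel]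
  have abb : ∀ b c : B, A (some (Sum.inr b)) (some (Sum.inr c)) ↔ Disjoint (b : Finset α) c := fun b c => by
    simp only [A, pointBlockGraph, SimpleGraph.fromRel_adj, pointBlockRel]
    refine ⟨fun h => h.2.elim id (fun h' => h'.symm), fun h => ⟨fun e => ?_, Or.inl h⟩⟩
    simp only [Option.some.injEq, Sum.inr.injEq] at e
    subst e; exact hsd b b.2 h
  have asymm : ∀ x y, A x y → A y x := fun x y h => SimpleGraph.Adj.symm h
  have nb0 : ∀ b : B, ¬ A (some (Sum.inr b)) none := fun b h => a0b b (asymm _ _ h)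
  -- count the solutions of a predicate piece by piece
  have count : ∀ (Q : Option (α ⊕ B) → Prop) [DecidablePred Q], (Finset.univ.filter Q).card =
      (if Q none then 1 else 0) + (Finset.univ.filter fun p : α => Q (some (Sum.inl p))).card +
        ((CfsgLib.Sporadic.Design.blocks B).filter fun d => ∃ h : d ∈ B, Q (some (Sum.inr ⟨d, h⟩))).card := by
    intro Q _
    have e : (CfsgLib.Sporadic.Design.blocks B).filter (fun d => ∃ h : d ∈ B, Q (some (Sum.inr ⟨d, h⟩))) =
        (Finset.univ.filter fun b : B => Q (some (Sum.inr b))).map (Function.Embedding.subtype _) := by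
      ext d
      constructor
      · intro h
        obtain ⟨-, h, hQ⟩ := Finset.mem_filter.1 h
        exact Finset.mem_map.2 ⟨⟨d, h⟩, Finset.mem_filter.2 ⟨Finset.mem_univ _, hQ⟩, rfl⟩
      · intro h
        obtain ⟨b, hb, rfl⟩ := Finset.mem_map.1 h
        exact Finset.mem_filter.2 ⟨CfsgLib.Sporadic.Design.mem_blocks.2 b.2, b.2, (Finset.mem_filter.1 hb).2⟩
    rw [e, Finset.card_map, Finset.card_filter, Finset.card_filter, Finset.card_filter,
      Fintype.sum_option, Fintype.sum_sum_type, add_assoc]
  have nbr : ∀ x, (pointBlockGraph B).degree x = (Finset.univ.filter (A x)).card := fun x => by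
    rw [← SimpleGraph.card_neighborSet_eq_degree, ← Fintype.card_subtype]
    exact Fintype.card_congr (Equiv.refl _)
  have com : ∀ x y, Fintype.card ((pointBlockGraph B).commonNeighbors x y) =
      (Finset.univ.filter fun z => A x z ∧ A y z).card := fun x y => by
    rw [← Fintype.card_subtype]
    exact Fintype.card_congr (Equiv.refl _)
  have hab : ∀ s : Finset α, (CfsgLib.Sporadic.Design.blocks B).filter (fun d => s ⊆ d) = CfsgLib.Sporadic.Design.above B s := fun s => rfl
  have hsingle : ∀ p : α, (CfsgLib.Sporadic.Design.above B ({p} : Finset α)).card = 21 := fun p => by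
    rw [CfsgLib.Sporadic.Design.card_above22 hα hB (by simp)]; simp
  have h16 : ∀ b ∈ B, (CfsgLib.Sporadic.Design.apart B b).card = 16 := fun b hb => by
    rw [CfsgLib.Sporadic.Design.apart, CfsgLib.Sporadic.Design.card_meet22 hα hB hb (Finset.empty_subset _)]; rfl
  refine ⟨?_, fun x => ?_, fun x y h => ?_, fun x y hxy h => ?_⟩
  · rw [Fintype.card_option, Fintype.card_sum, hα, hblocks]
  · rw [nbr, count]
    rcases x with _ | p | b
    · have e : (CfsgLib.Sporadic.Design.blocks B).filter (fun d => ∃ h : d ∈ B, A none (some (Sum.inr ⟨d, h⟩))) = ∅ :=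
        Finset.filter_false_of_mem fun d _ ⟨h, hd⟩ => a0b _ hd
      simp [a00, a0p, e, hα]
    · have e : (CfsgLib.Sporadic.Design.blocks B).filter (fun d => ∃ h : d ∈ B, A (some (Sum.inl p)) (some (Sum.inr ⟨d, h⟩))) =
          CfsgLib.Sporadic.Design.above B {p} := by
        ext d; simp [CfsgLib.Sporadic.Design.mem_above, CfsgLib.Sporadic.Design.mem_blocks, apb]
      simp [asymm _ _ (a0p p), app, e, hsingle]
    · have e : (CfsgLib.Sporadic.Design.blocks B).filter (fun d => ∃ h : d ∈ B, A (some (Sum.inr b)) (some (Sum.inr ⟨d, h⟩))) =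
          CfsgLib.Sporadic.Design.apart B (b : Finset α) := by
        ext d; simp [CfsgLib.Sporadic.Design.mem_apart, CfsgLib.Sporadic.Design.mem_blocks, abb]
      have e2 : ∀ q, A (some (Sum.inr b)) (some (Sum.inl q)) ↔ q ∈ (b : Finset α) := fun q =>
        ⟨fun h => (apb q b).1 (asymm _ _ h), fun h => asymm _ _ ((apb q b).2 h)⟩
      have e3 : (Finset.univ.filter fun q => q ∈ (b : Finset α)) = (b : Finset α) := by ext q; simp
      simp [nb0, e2, e3, e, h16 b b.2, hB.1 b b.2]
  · -- adjacent vertices have no common neighbour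
    rw [com, Finset.card_eq_zero, Finset.filter_eq_empty_iff]
    rintro z - ⟨h1, h2⟩
    have key : ∀ b c : B, A (some (Sum.inr b)) (some (Sum.inr c)) → ∀ d : B,
        A (some (Sum.inr b)) (some (Sum.inr d)) → ¬ A (some (Sum.inr c)) (some (Sum.inr d)) := by
      intro b c hbc d hbd hcd
      have hd := (abb b c).1 hbc
      have := CfsgLib.Sporadic.Design.card_apart_both hα hB b.2 c.2 (fun e => hsd b b.2 (by rwa [← e] at hd))
      rw [if_pos hd, Finset.card_eq_zero, Finset.filter_eq_empty_iff] at this
      exact this (CfsgLib.Sporadic.Design.mem_apart.2 ⟨d.2, (abb b d).1 hbd⟩) ((abb c d).1 hcd)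
    rcases x with _ | p | b <;> rcases y with _ | q | c <;> rcases z with _ | r | d <;>
      first
        | exact a00 h | exact a00 h1 | exact a00 h2
        | exact a0b _ h | exact a0b _ h1 | exact a0b _ h2
        | exact a0b _ (asymm _ _ h) | exact a0b _ (asymm _ _ h1) | exact a0b _ (asymm _ _ h2)
        | exact app _ _ h | exact app _ _ h1 | exact app _ _ h2
        | exact key _ _ h _ h1 h2
        | exact Finset.disjoint_left.1 ((abb _ _).1 h) ((apb _ _).1 (asymm _ _ h1)) ((apb _ _).1 (asymm _ _ h2))
        | exact Finset.disjoint_left.1 ((abb _ _).1 h1) ((apb _ _).1 (asymm _ _ h)) ((apb _ _).1 h2)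
        | exact Finset.disjoint_left.1 ((abb _ _).1 h2) ((apb _ _).1 h) ((apb _ _).1 h1)
  · change ¬ A x y at h
    rw [com, count]
    rcases x with _ | p | b <;> rcases y with _ | q | c
    · exact absurd rfl hxy
    · exact absurd (a0p q) h
    · have e : (CfsgLib.Sporadic.Design.blocks B).filter (fun d => ∃ h : d ∈ B,
          A none (some (Sum.inr ⟨d, h⟩)) ∧ A (some (Sum.inr c)) (some (Sum.inr ⟨d, h⟩))) = ∅ :=
        Finset.filter_false_of_mem fun d _ ⟨h, hd, _⟩ => a0b _ hd
      have e2 : (Finset.univ.filter fun r => A none (some (Sum.inl r)) ∧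
          A (some (Sum.inr c)) (some (Sum.inl r))) = (c : Finset α) := by
        ext r; simp only [Finset.mem_filter, Finset.mem_univ, true_and, a0p]
        exact ⟨fun hr => (apb r c).1 (asymm _ _ hr), fun hr => asymm _ _ ((apb r c).2 hr)⟩
      simp [a00, e, e2, hB.1 c c.2]
    · exact absurd (asymm _ _ (a0p p)) h
    · have e : (CfsgLib.Sporadic.Design.blocks B).filter (fun d => ∃ h : d ∈ B,
          A (some (Sum.inl p)) (some (Sum.inr ⟨d, h⟩)) ∧ A (some (Sum.inl q)) (some (Sum.inr ⟨d, h⟩))) =
          CfsgLib.Sporadic.Design.above B {p, q} := by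
        ext d
        simp [CfsgLib.Sporadic.Design.mem_above, CfsgLib.Sporadic.Design.mem_blocks, apb, Finset.insert_subset_iff]; tauto
      have hpq : p ≠ q := fun e => hxy (by rw [e])
      have h5 : (CfsgLib.Sporadic.Design.above B ({p, q} : Finset α)).card = 5 := by
        rw [CfsgLib.Sporadic.Design.card_above22 hα hB (by rw [Finset.card_pair hpq]; norm_num), Finset.card_pair hpq]; rfl
      simp [asymm _ _ (a0p p), asymm _ _ (a0p q), app, e, h5]
    · have hp : p ∉ (c : Finset α) := fun hp => h ((apb p c).2 hp)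
      have e : (CfsgLib.Sporadic.Design.blocks B).filter (fun d => ∃ h : d ∈ B,
          A (some (Sum.inl p)) (some (Sum.inr ⟨d, h⟩)) ∧ A (some (Sum.inr c)) (some (Sum.inr ⟨d, h⟩))) =
          (CfsgLib.Sporadic.Design.above B {p}).filter (Disjoint (c : Finset α)) := by
        ext d; simp [CfsgLib.Sporadic.Design.mem_above, CfsgLib.Sporadic.Design.mem_blocks, apb, abb]; tauto
      simp [nb0, app, e, CfsgLib.Sporadic.Design.six_disjoint_through hα hB c.2 hp]
    · have e : (CfsgLib.Sporadic.Design.blocks B).filter (fun d => ∃ h : d ∈ B,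
          A (some (Sum.inr b)) (some (Sum.inr ⟨d, h⟩)) ∧ A none (some (Sum.inr ⟨d, h⟩))) = ∅ :=
        Finset.filter_false_of_mem fun d _ ⟨h, _, hd⟩ => a0b _ hd
      have e2 : (Finset.univ.filter fun r => A (some (Sum.inr b)) (some (Sum.inl r)) ∧
          A none (some (Sum.inl r))) = (b : Finset α) := by
        ext r; simp only [Finset.mem_filter, Finset.mem_univ, true_and, a0p, and_true]
        exact ⟨fun hr => (apb r b).1 (asymm _ _ hr), fun hr => asymm _ _ ((apb r b).2 hr)⟩
      simp [a00, e, e2, hB.1 b b.2]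
    · have hq : q ∉ (b : Finset α) := fun hq => h (asymm _ _ ((apb q b).2 hq))
      have e : (CfsgLib.Sporadic.Design.blocks B).filter (fun d => ∃ h : d ∈ B,
          A (some (Sum.inr b)) (some (Sum.inr ⟨d, h⟩)) ∧ A (some (Sum.inl q)) (some (Sum.inr ⟨d, h⟩))) =
          (CfsgLib.Sporadic.Design.above B {q}).filter (Disjoint (b : Finset α)) := by
        ext d; simp [CfsgLib.Sporadic.Design.mem_above, CfsgLib.Sporadic.Design.mem_blocks, apb, abb]; tauto
      simp [nb0, app, e, CfsgLib.Sporadic.Design.six_disjoint_through hα hB b.2 hq]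
    · have hd : ¬ Disjoint (b : Finset α) c := fun hd => h ((abb b c).2 hd)
      have hbc : b ≠ c := fun e => hxy (by rw [e])
      have e : (CfsgLib.Sporadic.Design.blocks B).filter (fun d => ∃ h : d ∈ B,
          A (some (Sum.inr b)) (some (Sum.inr ⟨d, h⟩)) ∧ A (some (Sum.inr c)) (some (Sum.inr ⟨d, h⟩))) =
          (CfsgLib.Sporadic.Design.apart B (b : Finset α)).filter (Disjoint (c : Finset α)) := by
        ext d; simp [CfsgLib.Sporadic.Design.mem_apart, CfsgLib.Sporadic.Design.mem_blocks, abb]; tauto
      have e2 : (Finset.univ.filter fun r => A (some (Sum.inr b)) (some (Sum.inl r)) ∧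
          A (some (Sum.inr c)) (some (Sum.inl r))) = (b : Finset α) ∩ c := by
        ext r; simp only [Finset.mem_filter, Finset.mem_univ, true_and, Finset.mem_inter]
        exact ⟨fun hr => ⟨(apb r b).1 (asymm _ _ hr.1), (apb r c).1 (asymm _ _ hr.2)⟩,
          fun hr => ⟨asymm _ _ ((apb r b).2 hr.1), asymm _ _ ((apb r c).2 hr.2)⟩⟩
      have h2 : ((b : Finset α) ∩ c).card = 2 :=
        (CfsgLib.Sporadic.Design.inter22 hα hB b.2 c.2 (Subtype.coe_injective.ne hbc)).resolve_left
          fun e => hd (Finset.disjoint_iff_inter_eq_empty.2 (Finset.card_eq_zero.1 e))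
      have h4 := CfsgLib.Sporadic.Design.card_apart_both hα hB b.2 c.2 (Subtype.coe_injective.ne hbc)
      rw [if_neg hd] at h4
      simp [nb0, e, e2, h2, h4]

end Cfsg.Agent.S0428
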