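import Cfsg.Statements.S0228
import Cfsg.Agent.Lib.Signalizer.Count

set_option autoImplicit false
open Cfsg

namespace Cfsg.Agent.S0228

/-- A group of order 12 in which no involution is central is isomorphic to the alternating group on four letters. -/
theorem result {G : Type*} [Group G] [Finite G] (hG : Nat.card G = 12) (hz : ∀ z : G, orderOf z = 2 → z ∉ Subgroup.center G) : Nonempty (G ≃* alternatingGroup (Fin 4)) := by
  haveI : Fact (Nat.Prime 3) := ⟨by norm_num⟩
  obtain ⟨P⟩ := (inferInstance : Nonempty (Sylow 3 G))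
  have hP3 : Nat.card (P : Subgroup G) = 3 := by
    have h := P.card_eq_multiplicity
    rw [hG] at h
    have h12 : Nat.factorization 12 3 = 1 := by
      rw [show (12 : ℕ) = 3 * 4 by norm_num, Nat.factorization_mul (by norm_num) (by norm_num)]
      simp [Nat.Prime.factorization_self (show Nat.Prime 3 by norm_num),
        Nat.factorization_eq_zero_of_not_dvd (show ¬ 3 ∣ 4 by norm_num)]
    rw [h12, pow_one] at h
    exact h
  set N := Subgroup.normalizer ((P : Subgroup G) : Set G) with hN
  have hnn : ¬ (P : Subgroup G).Normal := by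
    intro hn
    obtain ⟨T⟩ := (inferInstance : Nonempty (Sylow 2 G))
    have hT4 : Nat.card (T : Subgroup G) = 4 := by
      have h := T.card_eq_multiplicity
      rw [hG] at h
      have h12 : Nat.factorization 12 2 = 2 := by
        rw [show (12 : ℕ) = 2 ^ 2 * 3 by norm_num, Nat.factorization_mul (by norm_num) (by norm_num),
          Nat.factorization_pow]
        simp [Nat.Prime.factorization_self (show Nat.Prime 2 by norm_num),
          Nat.factorization_eq_zero_of_not_dvd (show ¬ 2 ∣ 3 by norm_num)]
      rw [h12] at h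
      simpa using h
    let f : (T : Subgroup G) →* MulAut (P : Subgroup G) :=
      (MulAut.conjNormal (H := (P : Subgroup G))).comp (T : Subgroup G).subtype
    have hAut : Nat.card (MulAut (P : Subgroup G)) = 2 := by
      haveI : IsCyclic (P : Subgroup G) := isCyclic_of_prime_card hP3
      rw [Nat.card_congr (IsCyclic.mulAutMulEquiv (P : Subgroup G)).toEquiv, hP3,
        Nat.card_eq_fintype_card]
      decide
    have hker : f.ker ≠ ⊥ := by
      intro hb
      have := Nat.card_le_card_of_injective f ((MonoidHom.ker_eq_bot_iff f).mp hb)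
      omega
    obtain ⟨s, hs, hs2⟩ : ∃ s ∈ f.ker, orderOf s = 2 := by
      have hd : 2 ∣ Nat.card f.ker := by
        obtain ⟨k, -, hk⟩ := (Nat.dvd_prime_pow Nat.prime_two).mp
          (show Nat.card f.ker ∣ 2 ^ 2 by
            simpa [hT4] using Subgroup.card_subgroup_dvd_card f.ker)
        rcases k with _ | k
        · exact absurd (Subgroup.card_eq_one.mp (by simpa using hk)) hker
        · exact hk ▸ dvd_pow_self 2 (by omega)
      obtain ⟨x, hx⟩ := exists_prime_orderOf_dvd_card' 2 hd
      exact ⟨x, x.2, by rw [Subgroup.orderOf_coe, hx]⟩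
    refine hz s (by rw [Subgroup.orderOf_coe, hs2]) ?_
    haveI : IsMulCommutative (T : Subgroup G) :=
      IsPGroup.isMulCommutative_of_card_eq_prime_sq (p := 2) (by simpa using hT4)
    have hle : (P : Subgroup G) ⊔ (T : Subgroup G) ≤ Subgroup.centralizer ({(s : G)} : Set G) := by
      refine sup_le (fun y hy => ?_) (fun y hy => ?_)
      · rw [Subgroup.mem_centralizer_singleton_iff]
        have := DFunLike.congr_fun (MonoidHom.mem_ker.mp hs) ⟨y, hy⟩
        have h' : (s : G) * y * (s : G)⁻¹ = y := congrArg Subtype.val this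
        exact (mul_inv_eq_iff_eq_mul.mp h').symm
      · rw [Subgroup.mem_centralizer_singleton_iff]
        exact congrArg Subtype.val (mul_comm' (⟨y, hy⟩ : (T : Subgroup G)) s)
    have htop : (P : Subgroup G) ⊔ (T : Subgroup G) = ⊤ := by
      apply Subgroup.eq_top_of_card_eq
      apply Nat.dvd_antisymm (Subgroup.card_subgroup_dvd_card _)
      rw [hG, show (12 : ℕ) = 3 * 4 by norm_num]
      exact Nat.Coprime.mul_dvd_of_dvd_of_dvd (by norm_num)
        (hP3.symm.dvd.trans (Subgroup.card_dvd_of_le le_sup_left))
        (hT4.symm.dvd.trans (Subgroup.card_dvd_of_le le_sup_right))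
    rw [htop] at hle
    rw [Subgroup.mem_center_iff]
    intro g
    exact Subgroup.mem_centralizer_singleton_iff.mp (hle (Subgroup.mem_top g))
  have hidx : N.index = 4 := by
    have h1 := card_sylow_modEq_one 3 G
    rw [P.card_eq_index_normalizer] at h1
    have h2 := N.card_mul_index
    have h3 : 3 ∣ Nat.card N := hP3 ▸ Subgroup.card_dvd_of_le Subgroup.le_normalizer
    obtain ⟨k, hk⟩ := h3
    rw [hG, hk, mul_assoc] at h2
    have h7 : k * N.index = 4 := Nat.eq_of_mul_eq_mul_left (show 0 < 3 by norm_num)
      (h2.trans (by norm_num))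
    have h4 : N.index ∣ 4 := ⟨k, by rw [mul_comm]; exact h7.symm⟩
    have h5 : N.index ≤ 4 := Nat.le_of_dvd (by norm_num) h4
    have h1' : N.index % 3 = 1 := h1
    have h6 : N.index ≠ 1 := fun h => hnn (Subgroup.normalizer_eq_top_iff.mp (Subgroup.index_eq_one.mp h))
    have h8 : N.index ≠ 3 := fun h => by rw [h] at h4; norm_num at h4
    have h9 : N.index ≠ 0 := fun h => by rw [h] at h4; norm_num at h4
    omega
  have hNP : N = (P : Subgroup G) := by
    refine (Subgroup.eq_of_le_of_card_ge Subgroup.le_normalizer ?_).symm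
    have := N.card_mul_index
    rw [hidx, hG] at this
    exact le_of_eq ((show Nat.card N = 3 by omega).trans hP3.symm)
  let ρ := MulAction.toPermHom G (G ⧸ N)
  have hker : N.normalCore = ⊥ := by
    have hle : N.normalCore ≤ (P : Subgroup G) := (Subgroup.normalCore_le N).trans hNP.le
    rcases (Nat.dvd_prime (by norm_num : Nat.Prime 3)).mp (hP3 ▸ Subgroup.card_dvd_of_le hle)
      with h | h
    · exact Subgroup.card_eq_one.mp h
    · exact absurd (Subgroup.eq_of_le_of_card_ge hle (by omega) ▸ Subgroup.normalCore_normal N) hnn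
  rw [Subgroup.normalCore_eq_ker] at hker
  have e : G ⧸ N ≃ Fin 4 := Finite.equivFinOfCardEq hidx
  let f : G →* Equiv.Perm (Fin 4) := (e.permCongrHom.toMonoidHom).comp ρ
  have hf : Function.Injective f :=
    e.permCongrHom.injective.comp ((MonoidHom.ker_eq_bot_iff _).mp hker)
  have hr : f.range.index = 2 := by
    have h := f.range.card_mul_index
    rw [Nat.card_congr (MonoidHom.ofInjective hf).toEquiv.symm, hG, Nat.card_perm,
      Nat.card_fin] at h
    norm_num [Nat.factorial] at h
    omega
  exact ⟨(MonoidHom.ofInjective hf).trans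
    (MulEquiv.subgroupCongr (Equiv.Perm.eq_alternatingGroup_of_index_eq_two hr))⟩

end Cfsg.Agent.S0228
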