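import Cfsg.Statements.S3313
import Cfsg.Agent.Lib.Signalizer.OrderFormula
import Cfsg.Agent.Lib.Components.FStar
import Cfsg.Agent.Lib.Recog.MinusThirtyTwo
import Cfsg.Agent.Lib.Recog.AltFiveCounts

set_option autoImplicit false
open Cfsg

namespace Cfsg.Agent.S3313

open Subgroup CfsgLib.Recog
open scoped commutatorElement

variable {G : Type*} [Group G]

theorem orderOf_two {x : G} : orderOf x = 2 ↔ x * x = 1 ∧ x ≠ 1 := by
  rw [← sq, orderOf_eq_prime_iff]

/-- An element which inverts `w` fixes every involution among the powers of `w`. -/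
theorem commute_of_inverts {x w z : G} (hx : x * w * x⁻¹ = w⁻¹) (hz : z * z = 1)
    (hzw : z ∈ zpowers w) : x ∈ centralizer ({z} : Set G) := by
  obtain ⟨n, rfl⟩ := mem_zpowers_iff.1 hzw
  rw [mem_centralizer_singleton_iff]
  refine mul_inv_eq_iff_eq_mul.1 ?_
  rw [← conj_zpow, hx, inv_zpow]
  exact inv_eq_of_mul_eq_one_left hz

theorem inverts_left {x y : G} (hx : x * x = 1) (hy : y * y = 1) :
    x * (x * y) * x⁻¹ = (x * y)⁻¹ := by
  rw [mul_inv_rev, inv_eq_of_mul_eq_one_left hx, inv_eq_of_mul_eq_one_left hy, ← mul_assoc x x y,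
    hx, one_mul]

theorem inverts_right {x y : G} (hx : x * x = 1) (hy : y * y = 1) :
    y * (x * y) * y⁻¹ = (x * y)⁻¹ := by
  rw [mul_inv_rev, inv_eq_of_mul_eq_one_left hx, inv_eq_of_mul_eq_one_left hy, mul_assoc y,
    mul_assoc x y y, hy, mul_one]

section CentralizerOfZ

variable {X : Type*} [Group X] [Finite X] (Q : Subgroup X) [Q.Normal]
  (hE : IsExtraspecial 2 Q) (h32 : Nat.card Q = 32) (hcent : centralizer (Q : Set X) ≤ Q)
  (ι : alternatingGroup (Fin 5) →* X) (hι : ∀ k, ι k ∈ Q → k = 1)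
  (hsurj : ∀ x : X, ∃ q ∈ Q, ∃ k, x = q * ι k) {zq : Q} (hzc : zq ∈ center Q) (hz1 : zq ≠ 1)

include hcent hι in
theorem conj_ne_one {k : alternatingGroup (Fin 5)} (hk : k ≠ 1) :
    MulAut.conjNormal (H := Q) (ι k) ≠ 1 := by
  intro h
  refine hk (hι k (hcent (mem_centralizer_iff.2 fun q hq => ?_)))
  have h1 : ι k * q * (ι k)⁻¹ = q := by
    have h2 := congrArg (fun f : MulAut Q => ((f ⟨q, hq⟩ : Q) : X)) h
    simpa using h2
  exact (mul_inv_eq_iff_eq_mul.1 h1).symm

include hE h32 hcent hι hzc hz1 in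
theorem minus : Nat.card {x : Q // x * x = 1} = 12 ∧
    ∀ x y : Q, x * x = 1 → y * y = 1 → x * y = y * x →
      x ∈ center Q ∨ y ∈ center Q ∨ x⁻¹ * y ∈ center Q := by
  obtain ⟨k, hk⟩ : ∃ k : alternatingGroup (Fin 5), k * k = 1 ∧ k ≠ 1 := by
    by_contra h
    have h15 := AltFive.card_involutions
    haveI : IsEmpty {k : alternatingGroup (Fin 5) // k * k = 1 ∧ k ≠ 1} :=
      ⟨fun k => h ⟨k.1, k.2⟩⟩
    rw [Nat.card_of_isEmpty] at h15
    omega
  obtain ⟨c, hc5, hc1, -⟩ := AltFive.exists_inverted k hk.1 hk.2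
  exact MinusThirtyTwo.minus_type hE hzc hz1 h32
    (β := MulAut.conjNormal (H := Q) (ι c)) (by rw [← map_pow, ← map_pow, hc5, map_one, map_one])
    (conj_ne_one Q hcent ι hι hc1)

include hι in
theorem not_mem_of_ne {q : X} (hq : q ∈ Q) {k : alternatingGroup (Fin 5)} (hk : k ≠ 1) :
    q * ι k ∉ Q := fun h => hk (hι k ((Q.mul_mem_cancel_left hq).1 h))

include hι in
theorem mul_self_eq (q : Q) (k : alternatingGroup (Fin 5)) :
    (q : X) * ι k * (q * ι k) = 1 ↔
      k * k = 1 ∧ MulAut.conjNormal (H := Q) (ι k) q = q⁻¹ := by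
  have e : (q : X) * ι k * (q * ι k) =
      ((q * MulAut.conjNormal (H := Q) (ι k) q : Q) : X) * ι (k * k) := by
    rw [Subgroup.coe_mul, MulAut.conjNormal_apply, map_mul]; group
  rw [e]
  constructor
  · intro h
    have hk : k * k = 1 := hι _ (by
      rw [eq_inv_of_mul_eq_one_right h]
      exact inv_mem (SetLike.coe_mem _))
    rw [hk, map_one, mul_one, OneMemClass.coe_eq_one] at h
    exact ⟨hk, eq_inv_of_mul_eq_one_right h⟩
  · rintro ⟨hk, h⟩
    rw [hk, map_one, mul_one, h, mul_inv_cancel, OneMemClass.coe_one]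

include hsurj hι in
theorem exists_decomp {v : X} (hv : v * v = 1) (hvQ : v ∉ Q) :
    ∃ (q : Q) (k : alternatingGroup (Fin 5)), v = q * ι k ∧ k * k = 1 ∧ k ≠ 1 ∧
      MulAut.conjNormal (H := Q) (ι k) q = q⁻¹ := by
  obtain ⟨q, hq, k, rfl⟩ := hsurj v
  obtain ⟨hk, hq'⟩ := (mul_self_eq Q ι hι ⟨q, hq⟩ k).1 hv
  refine ⟨⟨q, hq⟩, k, rfl, hk, fun h => hvQ ?_, hq'⟩
  rw [h, map_one, mul_one]
  exact hq

include hE h32 hcent hι hzc hz1 in
theorem modFix_le {k : alternatingGroup (Fin 5)} (hk2 : k * k = 1) (hk1 : k ≠ 1) :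
    Nat.card (MinusThirtyTwo.modFix (MulAut.conjNormal (H := Q) (ι k))) ≤ 8 := by
  obtain ⟨c, hc5, hc1, hinv⟩ := AltFive.exists_inverted k hk2 hk1
  exact MinusThirtyTwo.card_modFix_le hE hzc hz1 h32
    (β := MulAut.conjNormal (H := Q) (ι c)) (by rw [← map_pow, ← map_pow, hc5, map_one, map_one])
    (conj_ne_one Q hcent ι hι hc1)
    (by rw [← map_mul, ← map_mul, hk2, map_one, map_one])
    (by rw [← map_inv, ← map_mul, ← map_mul, ← map_inv, ← map_mul, ← map_mul, hinv, map_inv, map_inv])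

include hE h32 hcent hι hzc hz1 hsurj in
theorem modFix_le_of_invol {v : X} (hv : v * v = 1) (hvQ : v ∉ Q) :
    Nat.card (MinusThirtyTwo.modFix (MulAut.conjNormal (H := Q) v)) ≤ 8 := by
  obtain ⟨q, k, rfl, hk2, hk1, -⟩ := exists_decomp Q ι hι hsurj hv hvQ
  refine le_of_eq_of_le (congrArg (fun H : Subgroup Q => Nat.card H) ?_)
    (modFix_le Q hE h32 hcent ι hι hzc hz1 hk2 hk1)
  ext x
  rw [MinusThirtyTwo.mem_modFix, MinusThirtyTwo.mem_modFix]
  have e : MulAut.conjNormal (H := Q) ((q : X) * ι k) x * x⁻¹ =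
      ⁅q, MulAut.conjNormal (H := Q) (ι k) x⁆ * (MulAut.conjNormal (H := Q) (ι k) x * x⁻¹) := by
    refine Subtype.ext ?_
    simp only [commutatorElement_def, Subgroup.coe_mul, Subgroup.coe_inv,
      MulAut.conjNormal_apply, mul_inv_rev, inv_inv]
    group
  rw [e, mul_mem_cancel_left (CfsgLib.PGroups.IsExtraspecial.comm_mem hE _ _)]

include hE h32 hcent hι hzc hz1 hsurj in
theorem card_outer_involutions : Nat.card {v : X // v * v = 1 ∧ v ∉ Q} = 120 := by
  classical
  let f : (Σ k : {k : alternatingGroup (Fin 5) // k * k = 1 ∧ k ≠ 1},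
      {q : Q // MulAut.conjNormal (H := Q) (ι k.1) q = q⁻¹}) → {v : X // v * v = 1 ∧ v ∉ Q} :=
    fun s => ⟨(s.2.1 : X) * ι s.1.1, (mul_self_eq Q ι hι s.2.1 s.1.1).2 ⟨s.1.2.1, s.2.2⟩,
      not_mem_of_ne Q ι hι s.2.1.2 s.1.2.2⟩
  have hf : Function.Bijective f := by
    constructor
    · rintro ⟨⟨k, hk⟩, ⟨q, hq⟩⟩ ⟨⟨k', hk'⟩, ⟨q', hq'⟩⟩ h
      have h' : (q : X) * ι k = (q' : X) * ι k' := congrArg Subtype.val h
      have hkk : k = k' := mul_inv_eq_one.1 (hι _ (by
        rw [map_mul, map_inv,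
          show ι k * (ι k')⁻¹ = (q : X)⁻¹ * ((q : X) * ι k) * (ι k')⁻¹ by group, h',
          show (q : X)⁻¹ * ((q' : X) * ι k') * (ι k')⁻¹ = (q : X)⁻¹ * q' by group]
        exact mul_mem (inv_mem q.2) q'.2))
      subst hkk
      obtain rfl : q = q' := Subtype.ext (mul_right_cancel h')
      rfl
    · rintro ⟨v, hv, hvQ⟩
      obtain ⟨q, k, rfl, hk2, hk1, hq⟩ := exists_decomp Q ι hι hsurj hv hvQ
      exact ⟨⟨⟨k, hk2, hk1⟩, ⟨q, hq⟩⟩, rfl⟩
  rw [← Nat.card_congr (Equiv.ofBijective f hf)]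
  haveI := Fintype.ofFinite {k : alternatingGroup (Fin 5) // k * k = 1 ∧ k ≠ 1}
  rw [Nat.card_sigma, Finset.sum_const_nat (m := 8) fun k _ => ?_, Finset.card_univ,
    ← Nat.card_eq_fintype_card, AltFive.card_involutions]
  exact MinusThirtyTwo.card_inverted hE hzc hz1 h32
    (fun x => by rw [← MulAut.mul_apply, ← map_mul, ← map_mul, k.2.1, map_one, map_one,
      MulAut.one_apply])
    (modFix_le Q hE h32 hcent ι hι hzc hz1 k.2.1 k.2.2)

include hE h32 hcent hι hzc hz1 hsurj in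
theorem card_moved_pairs :
    Nat.card (Σ v : {v : X // v * v = 1 ∧ v ∉ Q},
      {u : Q // u * u = 1 ∧ MulAut.conjNormal (H := Q) v.1 u ≠ u}) = 960 := by
  classical
  haveI := Fintype.ofFinite {v : X // v * v = 1 ∧ v ∉ Q}
  rw [Nat.card_sigma, Finset.sum_const_nat (m := 8) fun v _ => ?_, Finset.card_univ,
    ← Nat.card_eq_fintype_card, card_outer_involutions Q hE h32 hcent ι hι hsurj hzc hz1]
  exact MinusThirtyTwo.card_moved hE hzc hz1 h32
    (fun x => by rw [← MulAut.mul_apply, ← map_mul, v.2.1, map_one, MulAut.one_apply])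
    (modFix_le_of_invol Q hE h32 hcent ι hι hsurj hzc hz1 v.2.1 v.2.2)
    (minus Q hE h32 hcent ι hι hzc hz1)

include hE h32 hcent hι hzc hz1 in
theorem mem_zpowers_mul {u : Q} {v : X} (hv : v * v = 1) (hu : u * u = 1)
    (hne : MulAut.conjNormal (H := Q) v u ≠ u) : (zq : X) ∈ zpowers ((u : X) * v) := by
  set u' := MulAut.conjNormal (H := Q) v u with hu'def
  have hsq : ((u : X) * v) ^ 2 = ((u * u' : Q) : X) := by
    rw [pow_two, Subgroup.coe_mul, hu'def, MulAut.conjNormal_apply, inv_eq_of_mul_eq_one_left hv]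
    group
  have hu'2 : u' * u' = 1 := by rw [hu'def, ← map_mul, hu, map_one]
  have hne1 : u * u' ≠ 1 := fun h =>
    hne ((eq_inv_of_mul_eq_one_right h).trans (inv_eq_of_mul_eq_one_left hu))
  have huc : u ∉ center Q := fun h => hne (MinusThirtyTwo.map_center hE hzc hz1 _ h)
  have hu'c : u' ∉ center Q := fun h => by
    have h2 := MinusThirtyTwo.map_center hE hzc hz1 (MulAut.conjNormal (H := Q) v) h
    rw [hu'def, ← MulAut.mul_apply, ← map_mul, hv, map_one, MulAut.one_apply] at h2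
    exact hne h2.symm
  rcases MinusThirtyTwo.center_cases hE hzc hz1
    (CfsgLib.PGroups.ExtraspecialOut.mul_self_mem hE (u * u')) with h1 | hz
  · have hcomm : u * u' = u' * u := by
      calc u * u' = (u * u')⁻¹ := eq_inv_of_mul_eq_one_right h1
        _ = u' * u := by
          rw [mul_inv_rev, inv_eq_of_mul_eq_one_left hu, inv_eq_of_mul_eq_one_left hu'2]
    rcases (minus Q hE h32 hcent ι hι hzc hz1).2 u u' hu hu'2 hcomm with h | h | h
    · exact absurd h huc
    · exact absurd h hu'c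
    · rw [inv_eq_of_mul_eq_one_left hu] at h
      have hz := (MinusThirtyTwo.center_cases hE hzc hz1 h).resolve_left hne1
      rw [← hz, ← hsq]
      exact pow_mem (mem_zpowers _) 2
  · rw [← hz, Subgroup.coe_mul, ← hsq, ← pow_add]
    exact pow_mem (mem_zpowers _) _

include hι hsurj h32 in
theorem card_eq : Nat.card X = 1920 := by
  let f : Q × alternatingGroup (Fin 5) → X := fun p => (p.1 : X) * ι p.2
  have hf : Function.Bijective f := by
    constructor
    · rintro ⟨q, k⟩ ⟨q', k'⟩ h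
      have h' : (q : X) * ι k = (q' : X) * ι k' := h
      have hkk : k = k' := mul_inv_eq_one.1 (hι _ (by
        rw [map_mul, map_inv,
          show ι k * (ι k')⁻¹ = (q : X)⁻¹ * ((q : X) * ι k) * (ι k')⁻¹ by group, h',
          show (q : X)⁻¹ * ((q' : X) * ι k') * (ι k')⁻¹ = (q : X)⁻¹ * q' by group]
        exact mul_mem (inv_mem q.2) q'.2))
      subst hkk
      obtain rfl : q = q' := Subtype.ext (mul_right_cancel h')
      rfl
    · intro x
      obtain ⟨q, hq, k, rfl⟩ := hsurj x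
      exact ⟨(⟨q, hq⟩, k), rfl⟩
  rw [← Nat.card_congr (Equiv.ofBijective f hf), Nat.card_prod, h32, AltFive.card_eq]

end CentralizerOfZ

theorem card_classPairs_z [Finite G] {z t : G} (hz : orderOf z = 2) (ht : orderOf t = 2)
    (hzt : ¬ IsConj z t) (C : Subgroup G) (hC : C = centralizer ({z} : Set G)) (Q : Subgroup C)
    [Q.Normal]
    (hQz : ∀ x ∈ Q.map C.subtype, orderOf x = 2 → IsConj x z)
    (hCz : ∀ x ∈ C, orderOf x = 2 →
      x ∉ Q.map C.subtype → IsConj x t)
    (hzQ : z ∈ Q.map C.subtype)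
    (hpow : ∀ (u : Q) (v : C), v * v = 1 → u * u = 1 →
      MulAut.conjNormal (H := Q) v u ≠ u → z ∈ zpowers (((u : C) : G) * v)) :
    Nat.card (Σ v : {v : C // v * v = 1 ∧ v ∉ Q},
      {u : Q // u * u = 1 ∧ MulAut.conjNormal (H := Q) v.1 u ≠ u}) =
      Nat.card (CfsgLib.Signalizer.ClassPairs z t z) := by
  have hQmem : ∀ y : C, (y : G) ∈ Q.map C.subtype ↔ y ∈ Q := fun y =>
    mem_map_iff_mem C.subtype_injective
  have hord : ∀ y : C, y * y = 1 → y ≠ 1 → orderOf (y : G) = 2 := fun y h h1 =>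
    orderOf_two.2 ⟨congrArg Subtype.val h, fun e => h1 (Subtype.ext e)⟩
  let f : (Σ v : {v : C // v * v = 1 ∧ v ∉ Q},
      {u : Q // u * u = 1 ∧ MulAut.conjNormal (H := Q) v.1 u ≠ u}) →
      CfsgLib.Signalizer.ClassPairs z t z := fun s =>
    ⟨(((s.2.1 : C) : G), ((s.1.1 : C) : G)),
      (hQz _ ((hQmem _).2 s.2.1.2) (hord _ (congrArg Subtype.val s.2.2.1) (fun e => s.2.2.2 (by
        rw [show s.2.1 = 1 from Subtype.ext e, map_one])))).symm,
      (hCz _ s.1.1.2 (hord _ s.1.2.1 (fun e => s.1.2.2 (by rw [e]; exact one_mem Q)))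
        (fun h => s.1.2.2 ((hQmem _).1 h))).symm,
      hpow _ _ s.1.2.1 s.2.2.1 s.2.2.2⟩
  refine Nat.card_congr (Equiv.ofBijective f ⟨?_, ?_⟩)
  · rintro ⟨⟨v, hv⟩, ⟨u, hu⟩⟩ ⟨⟨v', hv'⟩, ⟨u', hu'⟩⟩ h
    have h1 := congrArg (fun p => p.1.1) h
    have h2 := congrArg (fun p => p.1.2) h
    obtain rfl : v = v' := Subtype.ext h2
    obtain rfl : u = u' := Subtype.ext (Subtype.ext h1)
    rfl
  · rintro ⟨⟨x, y⟩, hx, hy, hp⟩
    have hx2 := orderOf_two.1 ((CfsgLib.Signalizer.orderOf_of_isConj hx).trans hz)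
    have hy2 := orderOf_two.1 ((CfsgLib.Signalizer.orderOf_of_isConj hy).trans ht)
    have hzz := (orderOf_two.1 hz).1
    have hxC : x ∈ C := hC ▸ commute_of_inverts (inverts_left hx2.1 hy2.1) hzz hp
    have hyC : y ∈ C := hC ▸ commute_of_inverts (inverts_right hx2.1 hy2.1) hzz hp
    have hxQ : x ∈ Q.map C.subtype := by
      by_contra h
      exact hzt (hx.trans (hCz x hxC ((CfsgLib.Signalizer.orderOf_of_isConj hx).trans hz) h))
    have hyQ : y ∉ Q.map C.subtype := fun h =>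
      hzt (hy.trans (hQz y h ((CfsgLib.Signalizer.orderOf_of_isConj hy).trans ht))).symm
    refine ⟨⟨⟨⟨y, hyC⟩, Subtype.ext hy2.1, fun h => hyQ ((hQmem ⟨y, hyC⟩).2 h)⟩,
      ⟨⟨⟨x, hxC⟩, (hQmem ⟨x, hxC⟩).1 hxQ⟩, Subtype.ext (Subtype.ext hx2.1), fun e => ?_⟩⟩, rfl⟩
    have e1 : y * x * y⁻¹ = x := by
      simpa using congrArg (fun q : Q => ((q : C) : G)) e
    have hsq : (x * y) ^ 2 = 1 := by
      rw [pow_two, show x * y * (x * y) = x * (y * x * y⁻¹) * (y * y) by group, e1, hy2.1, mul_one,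
        hx2.1]
    obtain ⟨n, hn⟩ := mem_zpowers_iff.1 hp
    dsimp only at hn
    have hzxy : z = x * y := by
      rcases Int.even_or_odd' n with ⟨m, rfl | rfl⟩
      · rw [zpow_mul, zpow_ofNat, hsq, one_zpow] at hn
        exact absurd hn.symm (orderOf_two.1 hz).2
      · rw [zpow_add, zpow_mul, zpow_ofNat, hsq, one_zpow, one_mul, zpow_one] at hn
        exact hn.symm
    refine hyQ ?_
    rw [show y = x⁻¹ * z by rw [hzxy]; group]
    exact mul_mem (inv_mem hxQ) hzQ

theorem card_classPairs_t [Finite G] {z t : G} (hz : orderOf z = 2) (ht : orderOf t = 2)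
    (hzt : ¬ IsConj z t) (V B : Subgroup G)
    (hVB : IsInternalDirectProduct V B (centralizer ({t} : Set G)))
    (hV2 : ∀ v ∈ V, v ^ 2 = 1) (htV : t ∈ V)
    (eB : alternatingGroup (Fin 5) →* G) (heB : eB.range = B) (hinj : Function.Injective eB)
    (hBz : ∀ x ∈ B, orderOf x = 2 → IsConj x z)
    (hCt : ∀ x ∈ centralizer ({t} : Set G), orderOf x = 2 → x ∉ B → IsConj x t) :
    Nat.card (CfsgLib.Signalizer.ClassPairs z t t) = 195 := by
  obtain ⟨hVC, hBC, hcomm, hinf, hsup⟩ := hVB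
  have hmemB : ∀ k, eB k ∈ B := fun k => heB ▸ ⟨k, rfl⟩
  have hone : ∀ a ∈ V, a ∈ B → a = 1 := fun a ha hb =>
    mem_bot.1 (hinf ▸ mem_inf.2 ⟨ha, hb⟩)
  have hc : ∀ k, Commute t (eB k) := fun k => hcomm t htV _ (hmemB k)
  have hord : ∀ b : alternatingGroup (Fin 5), b * b = 1 →
      orderOf (t * eB b) = 2 ∧ t * eB b ∉ B := by
    intro b hb
    have hnB : t * eB b ∉ B := fun h =>
      (orderOf_two.1 ht).2 (hone t htV ((B.mul_mem_cancel_right (hmemB b)).1 h))
    refine ⟨orderOf_two.2 ⟨?_, fun h => hnB (h ▸ one_mem B)⟩, hnB⟩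
    rw [show t * eB b * (t * eB b) = t * (eB b * t) * eB b by group, ← (hc b).eq,
      show t * (t * eB b) * eB b = t * t * (eB b * eB b) by group, (orderOf_two.1 ht).1,
      one_mul, ← map_mul, hb, map_one]
  have hmem : ∀ u b : alternatingGroup (Fin 5), (u * b) ^ 15 = 1 →
      t ∈ zpowers (eB u * (t * eB b)) := by
    intro u b h
    have e : (eB u * (t * eB b)) ^ 15 = t := by
      rw [← mul_assoc, ← (hc u).eq, mul_assoc, ← map_mul, (hc _).mul_pow, ← map_pow, h, map_one,
        mul_one, show t ^ 15 = (t * t) ^ 7 * t by rw [← pow_two, ← pow_mul, ← pow_succ],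
        (orderOf_two.1 ht).1, one_pow, one_mul]
    have h15 := pow_mem (mem_zpowers (eB u * (t * eB b))) 15
    rwa [e] at h15
  let f : {p : alternatingGroup (Fin 5) × alternatingGroup (Fin 5) //
      (p.1 * p.1 = 1 ∧ p.1 ≠ 1) ∧ p.2 * p.2 = 1 ∧ (p.1 * p.2) ^ 15 = 1} →
      CfsgLib.Signalizer.ClassPairs z t t := fun p =>
    ⟨(eB p.1.1, t * eB p.1.2),
      (hBz _ (hmemB _) (orderOf_two.2 ⟨by rw [← map_mul, p.2.1.1, map_one],
        fun h => p.2.1.2 (hinj (h.trans (map_one eB).symm))⟩)).symm,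
      (hCt _ (mul_mem (hVC htV) (hBC (hmemB _))) (hord _ p.2.2.1).1 (hord _ p.2.2.1).2).symm,
      hmem _ _ p.2.2.2⟩
  rw [← AltFive.card_odd_pairs]
  refine (Nat.card_congr (Equiv.ofBijective f ⟨?_, ?_⟩)).symm
  · rintro ⟨⟨u, b⟩, hp⟩ ⟨⟨u', b'⟩, hp'⟩ h
    obtain rfl : u = u' := hinj (congrArg (fun p => p.1.1) h)
    obtain rfl : b = b' := hinj (mul_left_cancel (congrArg (fun p => p.1.2) h))
    rfl
  · rintro ⟨⟨x, y⟩, hx, hy, hp⟩
    have hxo := (CfsgLib.Signalizer.orderOf_of_isConj hx).trans hz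
    have hyo := (CfsgLib.Signalizer.orderOf_of_isConj hy).trans ht
    have hx2 := orderOf_two.1 hxo
    have hy2 := orderOf_two.1 hyo
    have htt := (orderOf_two.1 ht).1
    have hxC : x ∈ centralizer ({t} : Set G) :=
      commute_of_inverts (inverts_left hx2.1 hy2.1) htt hp
    have hyC : y ∈ centralizer ({t} : Set G) :=
      commute_of_inverts (inverts_right hx2.1 hy2.1) htt hp
    have hxB : x ∈ B := by
      by_contra h
      exact hzt (hx.trans (hCt x hxC hxo h))
    have hyB : y ∉ B := fun h => hzt (hy.trans (hBz y h hyo)).symm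
    obtain ⟨u, rfl⟩ : ∃ u, eB u = x := by rw [← heB] at hxB; exact hxB
    have hyVB : y ∈ V ⊔ B := hsup ▸ hyC
    have hle : B ≤ normalizer (V : Set G) := fun b hb => mem_normalizer_iff.2 fun a => by
      constructor
      · intro ha
        rwa [← hcomm a ha b hb, mul_inv_cancel_right]
      · intro ha
        have h1 := hcomm _ ha b hb
        rw [inv_mul_cancel_right] at h1
        have h2 : a = b * a * b⁻¹ := by
          calc a = b⁻¹ * (b * a) := by group
            _ = b⁻¹ * (b * (b * a * b⁻¹)) := by rw [← h1]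
            _ = b * a * b⁻¹ := by group
        rw [h2]; exact ha
    rw [← SetLike.mem_coe, coe_mul_of_right_le_normalizer_left V B hle] at hyVB
    obtain ⟨v, hv, _, hb', rfl⟩ := hyVB
    obtain ⟨b, rfl⟩ : ∃ b, eB b = _ := (heB ▸ hb' : _ ∈ eB.range)
    have hvc : ∀ k, Commute v (eB k) := fun k => hcomm v hv _ (hmemB k)
    have hvv : v * v = 1 := (pow_two v).symm.trans (hV2 v hv)
    have hb2 : b * b = 1 := hinj (by
      rw [map_mul, map_one, ← hy2.1]
      calc eB b * eB b = v * v * (eB b * eB b) := by rw [hvv, one_mul]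
        _ = v * (v * eB b) * eB b := by group
        _ = v * (eB b * v) * eB b := by rw [(hvc b).eq]
        _ = _ := by group)
    have hv1 : v ≠ 1 := fun h => hyB (by rw [h]; simpa using hmemB b)
    obtain ⟨n, hn⟩ := mem_zpowers_iff.1 hp
    dsimp only at hn
    rw [← mul_assoc, ← (hvc u).eq, mul_assoc, ← map_mul, (hvc _).mul_zpow, ← map_zpow] at hn
    have hBpart : eB ((u * b) ^ n) = 1 := by
      refine hone _ ?_ (hmemB _)
      rw [eq_inv_mul_of_mul_eq hn]
      exact mul_mem (inv_mem (zpow_mem hv n)) htV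
    rw [hBpart, mul_one] at hn
    have hnodd : Odd n := by
      rcases Int.even_or_odd' n with ⟨m, rfl | rfl⟩
      · rw [zpow_mul, zpow_ofNat, hV2 v hv, one_zpow] at hn
        exact absurd hn.symm (orderOf_two.1 ht).2
      · exact odd_two_mul_add_one m
    obtain ⟨m, rfl⟩ := hnodd
    rw [zpow_add, zpow_mul, zpow_ofNat, hV2 v hv, one_zpow, one_mul, zpow_one] at hn
    subst hn
    have hub : (u * b) ^ 15 = 1 := by
      rcases AltFive.pow_cases (u * b) with h | h
      · exact h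
      · have h' : (u * b) ^ (2 * m + 1) = 1 := hinj (hBpart.trans (map_one eB).symm)
        rw [zpow_add, zpow_mul, zpow_ofNat, pow_two, h, one_zpow, one_mul, zpow_one] at h'
        rw [h', one_pow]
    refine ⟨⟨(u, b), ⟨hinj ?_, fun h => hx2.2 ?_⟩, hb2, hub⟩, rfl⟩
    · rw [map_mul, map_one]; exact hx2.1
    · show eB u = 1
      rw [show u = 1 from h, map_one]

theorem card_directProduct [Finite G] {V B D : Subgroup G} (h : IsInternalDirectProduct V B D) :
    Nat.card D = Nat.card V * Nat.card B := by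
  obtain ⟨hV, hB, hcomm, hinf, hsup⟩ := h
  let f : V × B →* G := MonoidHom.noncommCoprod V.subtype B.subtype fun a b => hcomm _ a.2 _ b.2
  have hf : Function.Injective f := by
    rintro ⟨a, b⟩ ⟨a', b'⟩ e
    have e' : (a : G) * b = a' * b' := e
    have h1 : (a' : G)⁻¹ * a = b' * (b : G)⁻¹ := by
      rw [inv_mul_eq_iff_eq_mul, ← mul_assoc, ← e', mul_inv_cancel_right]
    have h2 : (a' : G)⁻¹ * a = 1 := mem_bot.1 (hinf ▸ mem_inf.2
      ⟨mul_mem (inv_mem a'.2) a.2, h1 ▸ mul_mem b'.2 (inv_mem b.2)⟩)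
    obtain rfl : a' = a := Subtype.ext (inv_mul_eq_one.1 h2)
    obtain rfl : b = b' := Subtype.ext (mul_left_cancel e')
    rfl
  have hr : f.range = D := by
    rw [← hsup]
    exact MonoidHom.noncommCoprod_range V.subtype B.subtype _ |>.trans
      (by rw [range_subtype, range_subtype])
  rw [← hr, ← Nat.card_prod]
  exact (Nat.card_congr (MonoidHom.ofInjective hf).toEquiv).symm

/-- The order of a simple group with the involution pattern of the Hall–Janko group. Let G be a non-abelian finite simple group with exactly two conjugacy classes of involutions, represented by z and t, such that: F*(C_G(z)) is an extraspecial 2-group; Q = O₂(C_G(z)) has order 32 and C_G(z) is the semidirect product of Q by a subgroup isomorphic to A₅; every involution of Q is conjugate to z and every other involution of C_G(z) is conjugate to t; C_G(t) is an internal direct product V × B with V a four-group containing t and B ≅ A₅; every involution of B is conjugate to z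 and every other involution of C_G(t) is conjugate to t. Then |G| = 604800. -/
theorem result {G : Type*} [Group G] [Finite G]
    [IsSimpleGroup G] (hna : ¬ IsMulCommutative G) (z t : G) (hz : orderOf z = 2) (ht : orderOf t = 2)
    (hzt : ¬ IsConj z t) (hcl : ∀ x : G, orderOf x = 2 → IsConj x z ∨ IsConj x t)
    (hex : Cfsg.IsExtraspecial 2 ↥(Cfsg.generalizedFittingSubgroup ↥(Subgroup.centralizer ({z} : Set G))))
    (hQ : Nat.card ↥(Cfsg.pCore 2 ↥(Subgroup.centralizer ({z} : Set G))) = 32)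
    (K : Subgroup G) (hK : Nonempty (↥K ≃* alternatingGroup (Fin 5)))
    (hKC : K ⊔ (Cfsg.pCore 2 ↥(Subgroup.centralizer ({z} : Set G))).map (Subgroup.centralizer ({z} : Set G)).subtype = Subgroup.centralizer ({z} : Set G))
    (hKQ : K ⊓ (Cfsg.pCore 2 ↥(Subgroup.centralizer ({z} : Set G))).map (Subgroup.centralizer ({z} : Set G)).subtype = ⊥)
    (hQz : ∀ x ∈ (Cfsg.pCore 2 ↥(Subgroup.centralizer ({z} : Set G))).map (Subgroup.centralizer ({z} : Set G)).subtype, orderOf x = 2 → IsConj x z)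
    (hCz : ∀ x ∈ Subgroup.centralizer ({z} : Set G), orderOf x = 2 →
      x ∉ (Cfsg.pCore 2 ↥(Subgroup.centralizer ({z} : Set G))).map (Subgroup.centralizer ({z} : Set G)).subtype → IsConj x t)
    (V B : Subgroup G) (hVB : Cfsg.IsInternalDirectProduct V B (Subgroup.centralizer ({t} : Set G)))
    (hV : Nat.card ↥V = 4) (hV2 : ∀ v ∈ V, v ^ 2 = 1) (htV : t ∈ V) (hB : Nonempty (↥B ≃* alternatingGroup (Fin 5)))
    (hBz : ∀ x ∈ B, orderOf x = 2 → IsConj x z)
    (hCt : ∀ x ∈ Subgroup.centralizer ({t} : Set G), orderOf x = 2 → x ∉ B → IsConj x t) :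
    Nat.card G = 604800 := by
  haveI : Fact (Nat.Prime 2) := ⟨Nat.prime_two⟩
  set C := Subgroup.centralizer ({z} : Set G) with hC
  set Q := Cfsg.pCore 2 C with hQdef
  haveI hQn : Q.Normal := CfsgLib.Components.pCore_normal 2
  -- `O₂(C) = F*(C)`
  have hFQ : Cfsg.generalizedFittingSubgroup C = Q := le_antisymm
    (CfsgLib.Components.le_pCore CfsgLib.Components.gFitting_normal hex.1.1)
    ((CfsgLib.Components.pCore_le_fitting 2).trans CfsgLib.Components.fitting_le_gFitting)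
  rw [hFQ] at hex
  have hcent : centralizer (Q : Set C) ≤ Q := by
    rw [← hFQ]; exact CfsgLib.Components.centralizer_gFitting_le
  -- `z` in `Q`
  have hzC : z ∈ C := mem_centralizer_singleton_iff.2 rfl
  have hzz := (orderOf_two.1 hz).1
  let zc : C := ⟨z, hzC⟩
  have hzcen : zc ∈ center C := mem_center_iff.2 fun g =>
    Subtype.ext (mem_centralizer_singleton_iff.1 g.2)
  have hzcQ : zc ∈ Q := by
    have hn : (zpowers zc).Normal := ⟨fun a ha g => by
      have : a ∈ center C := zpowers_le.2 hzcen ha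
      rw [mem_center_iff.1 this g, mul_inv_cancel_right]; exact ha⟩
    refine CfsgLib.Components.le_pCore hn (IsPGroup.of_card (n := 1) ?_) (mem_zpowers zc)
    rw [Nat.card_zpowers, pow_one, ← orderOf_submonoid]
    exact hz
  let zq : Q := ⟨zc, hzcQ⟩
  have hzqc : zq ∈ center Q := mem_center_iff.2 fun g =>
    Subtype.ext (mem_center_iff.1 hzcen (g : C))
  have hzq1 : zq ≠ 1 := fun h =>
    (orderOf_two.1 hz).2 (congrArg (fun q : Q => ((q : C) : G)) h)
  -- the complement
  obtain ⟨eK⟩ := hK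
  have hKle : K ≤ C := le_sup_left.trans hKC.le
  let ι : alternatingGroup (Fin 5) →* C := (Subgroup.inclusion hKle).comp eK.symm.toMonoidHom
  have hι : ∀ k, ι k ∈ Q → k = 1 := by
    intro k hk
    have h1 : ((eK.symm k : K) : G) ∈ K ⊓ Q.map C.subtype :=
      ⟨(eK.symm k).2, ⟨ι k, hk, rfl⟩⟩
    rw [hKQ, mem_bot, OneMemClass.coe_eq_one] at h1
    simpa using congrArg eK h1
  have hrange : ι.range ⊔ Q = ⊤ := by
    refine map_injective C.subtype_injective ?_
    rw [Subgroup.map_sup, MonoidHom.map_range, ← MonoidHom.range_eq_map, range_subtype]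
    refine Eq.trans (congrArg (· ⊔ _) ?_) hKC
    ext x
    constructor
    · rintro ⟨k, rfl⟩; exact (eK.symm k).2
    · intro hx
      exact ⟨eK ⟨x, hx⟩, by simp [ι]⟩
  have hsurj : ∀ x : C, ∃ q ∈ Q, ∃ k, x = q * ι k := by
    intro x
    have hx : x ∈ Q ⊔ ι.range := by rw [sup_comm, hrange]; exact mem_top x
    obtain ⟨q, hq, _, ⟨k, rfl⟩, rfl⟩ := mem_sup_of_normal_left.1 hx
    exact ⟨q, hq, k, rfl⟩
  have hc1 : Nat.card C = 1920 := card_eq Q hQ ι hι hsurj
  have hp1 : Nat.card (CfsgLib.Signalizer.ClassPairs z t z) = 960 := by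
    rw [← card_classPairs_z hz ht hzt C hC Q hQz hCz ⟨zc, hzcQ, rfl⟩ fun u v hv hu hne => ?_]
    · exact card_moved_pairs Q hex hQ hcent ι hι hsurj hzqc hzq1
    · have h := mem_zpowers_mul Q hex hQ hcent ι hι hzqc hzq1 hv hu hne
      obtain ⟨n, hn⟩ := mem_zpowers_iff.1 h
      exact mem_zpowers_iff.2 ⟨n, by simpa using congrArg Subtype.val hn⟩
  obtain ⟨eB'⟩ := hB
  let eB : alternatingGroup (Fin 5) →* G := B.subtype.comp eB'.symm.toMonoidHom
  have heB : eB.range = B := by
    ext x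
    constructor
    · rintro ⟨k, rfl⟩; exact (eB'.symm k).2
    · intro hx
      exact ⟨eB' ⟨x, hx⟩, by simp [eB]⟩
  have hp2 : Nat.card (CfsgLib.Signalizer.ClassPairs z t t) = 195 :=
    card_classPairs_t hz ht hzt V B hVB hV2 htV eB heB
      (B.subtype_injective.comp eB'.symm.injective) hBz hCt
  have hc2 : Nat.card (centralizer ({t} : Set G)) = 240 := by
    rw [card_directProduct hVB, hV, Nat.card_congr eB'.toEquiv, AltFive.card_eq]
  rw [CfsgLib.Signalizer.thompson_order_formula z t hz ht hzt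
    (fun x hx => (hcl x hx).imp IsConj.symm IsConj.symm), hp1, hp2, hc2, hc1]

end Cfsg.Agent.S3313
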