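import Cfsg.Statements.S3304
import Cfsg.Agent.Lib.Recog.GLTwoThreeIso
import Cfsg.Agent.Lib.Recog.Zassenhaus.Aut
import Cfsg.Agent.Lib.Core.UniqueOrderP
import Cfsg.Agent.Lib.Core.SolvableStruct

set_option autoImplicit false
open Cfsg

namespace Cfsg.Agent.S3304

open Subgroup

theorem prankLE_of_injective {A B : Type*} [Group A] [Group B] (f : A →* B) (hf : Function.Injective f)
    {p k : ℕ} (h : Cfsg.PRankLE p k B) : Cfsg.PRankLE p k A := by
  intro E hE hexp
  haveI := hE
  have e := E.equivMapOfInjective f hf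
  rw [Nat.card_congr e.toEquiv]
  refine h _ ⟨⟨fun a b => e.symm.injective (by rw [map_mul, map_mul, hE.is_comm.comm])⟩⟩ ?_
  rintro _ ⟨a, ha, rfl⟩
  rw [← map_pow, hexp a ha, map_one]

theorem unique_of_rank_one {P : Type*} [Group P] [Finite P] (hP : IsPGroup 2 P) (h : Cfsg.PRankLE 2 1 P)
    {x y : P} (hx : orderOf x = 2) (hy : orderOf y = 2) : x = y := by
  haveI : Fact (Nat.Prime 2) := ⟨Nat.prime_two⟩
  suffices key : ∃ z : P, ∀ x : P, orderOf x = 2 → x = z by
    obtain ⟨z, hz⟩ := key
    rw [hz x hx, hz y hy]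
  haveI : Nontrivial P := ⟨⟨x, 1, fun h1 => by rw [h1, orderOf_one] at hx; omega⟩⟩
  haveI := hP.center_nontrivial
  have hd : 2 ∣ Nat.card (Subgroup.center P) :=
    (hP.to_subgroup _).card_eq_or_dvd.resolve_left fun h1 => by
      have := Finite.one_lt_card (α := Subgroup.center P); omega
  obtain ⟨z, hz⟩ := exists_prime_orderOf_dvd_card' 2 hd
  refine ⟨(z : P), fun u hu => by_contra fun hne => ?_⟩
  have hz2 : orderOf (z : P) = 2 := by rw [Subgroup.orderOf_coe, hz]
  set Z2 := zpowers (z : P)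
  set U2 := zpowers u
  have hUn : U2 ≤ normalizer (Z2 : Set P) := by
    refine le_trans ?_ (centralizer_le_normalizer _)
    rw [zpowers_le, mem_centralizer_iff]
    rintro _ ⟨i, rfl⟩
    exact ((Subgroup.mem_center_iff.1 (zpow_mem z.2 i)) u).symm
  have hcomm : Commute u (z : P) := Subgroup.mem_center_iff.1 z.2 u
  let E : Subgroup P := closure {(z : P), u}
  have hE : IsMulCommutative E := by
    refine Subgroup.isMulCommutative_closure ?_
    rintro a (rfl | rfl) b (rfl | rfl)
    exacts [rfl, hcomm.eq.symm, hcomm.eq, rfl]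
  have hexp : ∀ a ∈ E, a ^ 2 = 1 := by
    intro a ha
    induction ha using closure_induction with
    | mem a ha =>
      rcases ha with rfl | rfl
      · rw [← hz2, pow_orderOf_eq_one]
      · rw [← hu, pow_orderOf_eq_one]
    | one => exact one_pow 2
    | mul a b ha hb iha ihb =>
      rw [(show Commute a b from congrArg Subtype.val (hE.is_comm.comm ⟨a, ha⟩ ⟨b, hb⟩)).mul_pow,
        iha, ihb, one_mul]
    | inv a ha iha => rw [inv_pow, iha, inv_one]
  have h4 := h E hE hexp
  have hle : Z2 ⊔ U2 ≤ E := sup_le (zpowers_le.2 (subset_closure (Or.inl rfl)))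
    (zpowers_le.2 (subset_closure (Or.inr rfl)))
  have hd' : U2 ⊓ Z2 = ⊥ := by
    by_contra hb
    have h1 : Nat.card (U2 ⊓ Z2 : Subgroup P) ∣ 2 := by
      rw [← hu, ← Nat.card_zpowers]; exact card_dvd_of_le inf_le_left
    rcases (Nat.dvd_prime Nat.prime_two).1 h1 with h1 | h1
    · exact hb (Subgroup.card_eq_one.1 h1)
    · have e1 : U2 ⊓ Z2 = U2 := eq_of_le_of_card_ge inf_le_left (by rw [h1, Nat.card_zpowers, hu])
      have e2 : U2 ⊓ Z2 = Z2 := eq_of_le_of_card_ge inf_le_right (by rw [h1, Nat.card_zpowers, hz2])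
      have huZ : u ∈ zpowers (z : P) := (e1.symm.trans e2).le (mem_zpowers u)
      obtain ⟨i, hi⟩ := mem_zpowers_iff.1 huZ
      rw [← zpow_mod_orderOf, hz2] at hi
      rcases Int.emod_two_eq_zero_or_one i with h0 | h0
      · rw [Nat.cast_ofNat, h0, zpow_zero] at hi; rw [← hi, orderOf_one] at hu; omega
      · rw [Nat.cast_ofNat, h0, zpow_one] at hi; exact hne hi.symm
  have h5 := CfsgLib.Core.card_sup_mul_card_inf U2 Z2 hUn
  rw [hd', Subgroup.card_bot, mul_one, Nat.card_zpowers, Nat.card_zpowers, hu, hz2, sup_comm] at h5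
  have := (Subgroup.card_le_of_le hle)
  omega

theorem core_bot_case {G : Type*} [Group G] [Finite G] [Group.IsSolvable G]
    (hO : Cfsg.pPrimeCore 2 G = ⊥)
    (hI : ∀ S T : Sylow 2 G, S ≠ T → Cfsg.PRankLE 2 1 ↥((S : Subgroup G) ⊓ (T : Subgroup G))) :
    (∃ P : Sylow 2 G, (P : Subgroup G).Normal) ∨ Nonempty (G ≃* GL (Fin 2) (ZMod 3)) ∨
      (Nat.card G = 48 ∧ Nat.card (center G) = 2 ∧
        Nonempty (G ⧸ center G ≃* Equiv.Perm (Fin 4)) ∧
        ∀ P : Sylow 2 G, Nonempty (↥(P : Subgroup G) ≃* QuaternionGroup 4)) := by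
  classical
  haveI : Fact (Nat.Prime 2) := ⟨Nat.prime_two⟩
  by_cases hsub : Subsingleton (Sylow 2 G)
  · obtain ⟨P⟩ := (inferInstance : Nonempty (Sylow 2 G))
    exact Or.inl ⟨P, P.normal_of_subsingleton⟩
  rw [not_subsingleton_iff_nontrivial] at hsub
  obtain ⟨S, T, hST⟩ := exists_pair_ne (Sylow 2 G)
  set F := Cfsg.pCore 2 G with hF
  haveI : F.Normal := CfsgLib.Core.normal_pCore 2 G
  have hFp : IsPGroup 2 F := CfsgLib.Core.isPGroup_pCore 2 G
  have hC : centralizer (F : Set G) ≤ F := CfsgLib.Core.centralizer_pCore_le_of_pPrimeCore_eq_bot hO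
  have hFall : ∀ P : Sylow 2 G, F ≤ P := fun P => CfsgLib.Core.pCore_le_sylow P
  have hr : Cfsg.PRankLE 2 1 F :=
    prankLE_of_injective (inclusion (le_inf (hFall S) (hFall T))) (inclusion_injective _) (hI S T hST)
  have huniq : ∀ H K : Subgroup F, Nat.card H = 2 → Nat.card K = 2 → H = K := by
    have gen : ∀ H : Subgroup F, Nat.card H = 2 → ∃ x, orderOf x = 2 ∧ H = zpowers x := by
      intro H hH
      obtain ⟨x, hx⟩ := exists_prime_orderOf_dvd_card' (G := H) 2 (by rw [hH])
      exact ⟨(x : F), by rw [Subgroup.orderOf_coe, hx], (eq_of_le_of_card_ge (zpowers_le.2 x.2)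
        (by rw [hH, Nat.card_zpowers, Subgroup.orderOf_coe, hx])).symm⟩
    intro H K hH hK
    obtain ⟨x, hx, rfl⟩ := gen H hH
    obtain ⟨y, hy, rfl⟩ := gen K hK
    rw [unique_of_rank_one hFp hr hx hy]
  -- all Sylow subgroups coincide unless `G` has order 48
  have hsub' : ∀ (U : Subgroup G), (∀ P : Sylow 2 G, U ≤ P ∧ Nat.card P ≤ Nat.card U) → False :=
    fun U h => hST (Sylow.ext ((eq_of_le_of_card_ge (h S).1 (h S).2).symm.trans
      (eq_of_le_of_card_ge (h T).1 (h T).2)))
  have h2grp : IsPGroup 2 G → False := fun hG => hST (Sylow.ext (((S.is_maximal'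
    (hG.to_subgroup ⊤) le_top).symm).trans (T.is_maximal' (hG.to_subgroup ⊤) le_top)))
  obtain ⟨n, hn, ⟨e0⟩⟩ : ∃ n, n = 1 ∧ Nonempty (F ≃* QuaternionGroup (2 ^ n)) := by
    rcases CfsgLib.Core.UniqueOrderP.isCyclic_or_quaternion_of_unique hFp huniq with hc | ⟨-, n, he⟩
    · exact (h2grp (CfsgLib.Recog.Zassenhaus.isPGroup_of_aut hO
        (CfsgLib.Recog.Zassenhaus.aut_two_power hFp (Or.inl hc)))).elim
    · by_cases hn : n = 1
      · exact ⟨n, hn, he⟩
      · exact (h2grp (CfsgLib.Recog.Zassenhaus.isPGroup_of_aut hO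
          (CfsgLib.Recog.Zassenhaus.aut_two_power hFp (Or.inr ⟨n, hn, he⟩)))).elim
  subst hn
  let e : QuaternionGroup 2 ≃* F := e0.symm
  have hF8 : Nat.card F = 8 := by
    rw [← Nat.card_congr e.toEquiv, Nat.card_eq_fintype_card, QuaternionGroup.card]
  -- the order of `G`
  set θ := CfsgLib.GLTwoThree.act F e
  have hker : Nat.card θ.ker ≤ 2 := by
    have h2 : Nat.card {w : QuaternionGroup 2 // ∀ z, w * z = z * w} = 2 := by
      rw [Nat.card_eq_fintype_card]; decide
    refine le_trans ?_ h2.le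
    have hch : ∀ g : θ.ker, ∃ w, (e w : G) = g ∧ ∀ z, w * z = z * w := fun g =>
      CfsgLib.GLTwoThree.act_eq_one e hC fun z => by
        rw [show θ (g : G) = 1 from g.2, MulAut.one_apply]
    choose w hw hwc using hch
    exact Nat.card_le_card_of_injective (fun g => (⟨w g, hwc g⟩ : {w // ∀ z, w * z = z * w}))
      fun a b h => Subtype.ext (by rw [← hw a, ← hw b, show w a = w b from congrArg Subtype.val h])
  haveI : Finite (MulAut (QuaternionGroup 2)) := Finite.of_injective _ MulEquiv.toEquiv_injective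
  have hG48 : Nat.card G ≤ 48 := by
    have h := θ.ker.card_mul_index
    rw [Subgroup.index_ker] at h
    have h24 := (Finite.card_subtype_le (fun x => x ∈ θ.range)).trans CfsgLib.GLTwoThree.card_mulAut_le
    calc Nat.card G = Nat.card θ.ker * Nat.card θ.range := h.symm
      _ ≤ 2 * 24 := Nat.mul_le_mul hker h24
      _ = 48 := rfl
  obtain ⟨m, hm⟩ : 8 ∣ Nat.card G := hF8 ▸ F.card_subgroup_dvd_card
  have hm6 : m = 6 := by
    have hm0 : 0 < Nat.card G := Nat.card_pos
    have hodd : Odd m → False := fun hodd => hsub' F fun P => by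
      refine ⟨hFall P, ?_⟩
      obtain ⟨k, hk⟩ := IsPGroup.iff_card.1 P.isPGroup'
      have hd := (P : Subgroup G).card_subgroup_dvd_card
      rw [hm, hk, show (8 : ℕ) = 2 ^ 3 by norm_num] at hd
      have hc : (2 ^ k).Coprime m := (Nat.coprime_two_left.2 hodd).pow_left k
      rw [hF8, hk]
      exact Nat.le_of_dvd (by norm_num) (hc.dvd_of_dvd_mul_right hd)
    have hpow : ∀ j, m = 2 ^ j → False := fun j hj => h2grp (IsPGroup.of_card (n := 3 + j) (by
      rw [hm, hj, pow_add]; norm_num))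
    have : m ≤ 6 := by omega
    interval_cases m
    · omega
    · exact (hodd (by decide)).elim
    · exact (hpow 1 rfl).elim
    · exact (hodd (by decide)).elim
    · exact (hpow 2 rfl).elim
    · exact (hodd (by decide)).elim
    · rfl
  subst hm6
  have hG : Nat.card G = 48 := hm
  have h3 : 3 ∣ Nat.card G := by rw [hG]; norm_num
  have hP16 : ∀ P : Sylow 2 G, Nat.card P = 16 := fun P => by
    obtain ⟨k, hk⟩ := IsPGroup.iff_card.1 P.isPGroup'
    have h16 := P.pow_dvd_card_of_pow_dvd_card (n := 4) (by rw [hG]; norm_num)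
    have hd := (P : Subgroup G).card_subgroup_dvd_card
    rw [hG, hk, show (48 : ℕ) = 16 * 3 by norm_num] at hd
    rw [hk] at h16 ⊢
    exact Nat.dvd_antisymm (((Nat.coprime_primes Nat.prime_two Nat.prime_three).2 (by norm_num)).pow_left k
      |>.dvd_of_dvd_mul_right hd) h16
  obtain ⟨u, huP, huF⟩ : ∃ u, u ∈ (S : Subgroup G) ∧ u ∉ F := by
    by_contra h
    push Not at h
    have := Subgroup.card_le_of_le (show (S : Subgroup G) ≤ F from h)
    rw [hP16, hF8] at this
    omega
  -- `F` has index two in every Sylow subgroup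
  have hsq : ∀ (P : Sylow 2 G) (v : G), v ∈ (P : Subgroup G) → v * v ∈ F := fun P v hv => by
    have hi : (F.subgroupOf P).index = 2 := by
      have h := (F.subgroupOf (P : Subgroup G)).card_mul_index
      rw [Nat.card_congr (subgroupOfEquivOfLe (hFall P)).toEquiv, hF8, hP16 P] at h
      omega
    exact Subgroup.mul_self_mem_of_index_two hi (⟨v, hv⟩ : (P : Subgroup G))
  right
  by_cases hinv : ∃ t : G, t * t = 1 ∧ t ∉ F
  · obtain ⟨t, ht, htF⟩ := hinv
    left
    obtain ⟨e', y, hy3, hyF, hy, hs⟩ := CfsgLib.GLTwoThree.exists_frame e hC h3 htF fun z => by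
      rw [ht, map_one, MulAut.one_apply]
    exact CfsgLib.GLTwoThree.glTwoThree_of_frame e' hC hy3 hyF htF hy hs hG ht
  · right
    obtain ⟨s, hsF, hs2⟩ := CfsgLib.GLTwoThree.exists_square_central e hC huF (hsq S u huP)
    obtain ⟨e', y, hy3, hyF, hy, hs⟩ := CfsgLib.GLTwoThree.exists_frame e hC h3 hsF hs2
    have hs2' : ∀ z, CfsgLib.GLTwoThree.act F e' (s * s) z = z := fun z => by
      rw [map_mul, MulAut.mul_apply, hs, hs, CfsgLib.GLTwoThree.tau_tau]
    obtain ⟨hZ, hperm⟩ := CfsgLib.GLTwoThree.center_quotient_of_frame e' hC hy3 hyF hsF hy hs hG hs2'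
    refine ⟨hG, hZ, hperm, fun P => ?_⟩
    push Not at hinv
    have huP : ∀ H K : Subgroup P, Nat.card H = 2 → Nat.card K = 2 → H = K := by
      intro H K hH hK
      have hmap : ∀ H : Subgroup P, Nat.card H = 2 → ∀ x ∈ H, (x : G) ∈ F := fun H hH x hx =>
        hinv _ (by
          have h := pow_card_eq_one' (x := (⟨x, hx⟩ : H))
          rw [hH] at h
          rw [← pow_two, ← Subgroup.coe_pow, show x ^ 2 = 1 from congrArg Subtype.val h, Subgroup.coe_one])
      have hsub2 : ∀ H : Subgroup P, Nat.card H = 2 → (H ≤ F.subgroupOf P) := fun H hH x hx =>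
        mem_subgroupOf.2 (hmap H hH x hx)
      let ν : (F.subgroupOf (P : Subgroup G)) ≃* F := subgroupOfEquivOfLe (hFall P)
      have key : ∀ H : Subgroup P, Nat.card H = 2 →
          Nat.card ((H.subgroupOf (F.subgroupOf (P : Subgroup G))).map ν.toMonoidHom) = 2 := fun H hH => by
        refine (Nat.card_congr ((H.subgroupOf (F.subgroupOf (P : Subgroup G))).equivMapOfInjective
          ν.toMonoidHom ν.injective).toEquiv).symm.trans ?_
        exact (Nat.card_congr (subgroupOfEquivOfLe (hsub2 H hH)).toEquiv).trans hH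
      have := map_injective ν.injective (huniq _ _ (key H hH) (key K hK))
      rw [Subgroup.subgroupOf_inj, inf_of_le_left (hsub2 H hH), inf_of_le_left (hsub2 K hK)] at this
      exact this
    rcases CfsgLib.Core.UniqueOrderP.isCyclic_or_quaternion_of_unique P.isPGroup' huP with
      hc | ⟨-, k, ⟨eP⟩⟩
    · exfalso
      haveI := hc
      haveI : IsCyclic F := isCyclic_of_injective (inclusion (hFall P)) (inclusion_injective _)
      haveI : IsCyclic (QuaternionGroup 2) := isCyclic_of_surjective e.symm.toMonoidHom e.symm.surjective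
      exact (by decide : ¬ ∀ a b : QuaternionGroup 2, a * b = b * a) fun a b => IsMulCommutative.is_comm.comm a b
    · have h := Nat.card_congr eP.toEquiv
      haveI : NeZero (2 ^ k) := ⟨(Nat.two_pow_pos k).ne'⟩
      rw [hP16, Nat.card_eq_fintype_card, QuaternionGroup.card] at h
      have hk : 2 ^ k = 4 := by omega
      rw [hk] at eP
      exact ⟨eP⟩

/-- Let G be a finite solvable group in which the intersection of any two distinct Sylow 2-subgroups has 2-rank at most 1 (contains no Klein four-group). Write Q = G/O(G), O(G) the largest normal subgroup of odd order. Then Q has a normal Sylow 2-subgroup; or Q is isomorphic to GL(2,3); or Q has order 48, centre of order 2 with central quotient isomorphic to the symmetric group of degree 4, and generalized quaternion Sylow 2-subgroups of order 16 (the binary octahedral group). The last two are the two representation groups of the symmetric group of degree 4. -/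
theorem result {G : Type*} [Group G] [Finite G] (hs : Group.IsSolvable G)
    (hI : ∀ S T : Sylow 2 G, S ≠ T → Cfsg.PRankLE 2 1 ↥((S : Subgroup G) ⊓ (T : Subgroup G))) :
    (∃ P : Sylow 2 (G ⧸ Cfsg.oddCore G), (P : Subgroup (G ⧸ Cfsg.oddCore G)).Normal) ∨
    Nonempty ((G ⧸ Cfsg.oddCore G) ≃* GL (Fin 2) (ZMod 3)) ∨
    (Nat.card (G ⧸ Cfsg.oddCore G) = 48 ∧ Nat.card ↥(Subgroup.center (G ⧸ Cfsg.oddCore G)) = 2 ∧
      Nonempty ((G ⧸ Cfsg.oddCore G) ⧸ Subgroup.center (G ⧸ Cfsg.oddCore G) ≃* Equiv.Perm (Fin 4)) ∧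
      ∀ P : Sylow 2 (G ⧸ Cfsg.oddCore G), Nonempty (↥(P : Subgroup (G ⧸ Cfsg.oddCore G)) ≃* QuaternionGroup 4)) := by
  classical
  haveI : Fact (Nat.Prime 2) := ⟨Nat.prime_two⟩
  haveI := hs
  set O := Cfsg.oddCore G with hO
  haveI : O.Normal := CfsgLib.Core.normal_pPrimeCore 2 G
  set π := QuotientGroup.mk' O with hπ
  have hsurj : Function.Surjective π := QuotientGroup.mk'_surjective O
  have hmain : ∀ P Q : Sylow 2 (G ⧸ O), P ≠ Q → Cfsg.PRankLE 2 1 ↥((P : Subgroup (G ⧸ O)) ⊓ Q) := by
    intro P Q hPQ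
    set K := ((P : Subgroup (G ⧸ O)) ⊓ Q).comap π with hK
    obtain ⟨U⟩ := (inferInstance : Nonempty (Sylow 2 K))
    set U' : Subgroup G := (U : Subgroup K).map K.subtype with hU'
    have hUp : IsPGroup 2 U' := U.isPGroup'.map _
    have hlift : ∀ R : Sylow 2 (G ⧸ O), U'.map π ≤ (R : Subgroup (G ⧸ O)) →
        ∃ S : Sylow 2 G, U' ≤ S ∧ (S : Subgroup G).map π = R := by
      intro R hR
      set M := (R : Subgroup (G ⧸ O)).comap π with hM
      have hUM : U' ≤ M := Subgroup.map_le_iff_le_comap.1 hR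
      obtain ⟨S0, hS0⟩ := (hUp.comap_of_injective M.subtype M.subtype_injective).exists_le_sylow
      obtain ⟨S, hS⟩ := (S0.isPGroup'.map M.subtype).exists_le_sylow
      refine ⟨S, le_trans ?_ hS, ?_⟩
      · intro x hx
        exact ⟨⟨x, hUM hx⟩, hS0 hx, rfl⟩
      · have hM2 : M.map π = R := Subgroup.map_comap_eq_self_of_surjective hsurj _
        have hR' : (R : Subgroup (G ⧸ O)) ≤ (S : Subgroup G).map π := by
          set g : M →* (R : Subgroup (G ⧸ O)) := (π.comp M.subtype).codRestrict _ fun x => x.2 with hg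
          have hgs : Function.Surjective g := fun r => by
            obtain ⟨x, hx⟩ := hsurj r.1
            exact ⟨⟨x, show π x ∈ (R : Subgroup (G ⧸ O)) from hx.symm ▸ r.2⟩, Subtype.ext hx⟩
          have hT := (S0.mapSurjective hgs).is_maximal' (R.isPGroup'.to_subgroup ⊤) le_top
          intro r hr
          have : (⟨r, hr⟩ : (R : Subgroup (G ⧸ O))) ∈ ((S0.mapSurjective hgs) : Subgroup (R : Subgroup (G ⧸ O))) := by
            rw [← hT]; exact Subgroup.mem_top _
          rw [Sylow.coe_mapSurjective] at this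
          obtain ⟨x, hx, hxr⟩ := this
          exact ⟨x, hS ⟨x, hx, rfl⟩, congrArg Subtype.val hxr⟩
        exact R.is_maximal' (S.isPGroup'.map π) hR'
    have hle : U'.map π ≤ (P : Subgroup (G ⧸ O)) ⊓ Q := by
      rintro _ ⟨x, ⟨u, -, rfl⟩, rfl⟩
      exact u.2
    obtain ⟨S, hSU, hSP⟩ := hlift P (hle.trans inf_le_left)
    obtain ⟨T, hTU, hTQ⟩ := hlift Q (hle.trans inf_le_right)
    have hne : S ≠ T := fun e => hPQ (Sylow.ext (by rw [← hSP, e, hTQ]))
    -- `U` covers the intersection
    set X := (P : Subgroup (G ⧸ O)) ⊓ Q with hX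
    set g : K →* X := (π.comp K.subtype).codRestrict _ fun x => x.2 with hg
    have hgs : Function.Surjective g := fun r => by
      obtain ⟨x, hx⟩ := hsurj r.1
      exact ⟨⟨x, show π x ∈ X from hx.symm ▸ r.2⟩, Subtype.ext hx⟩
    have hT := (U.mapSurjective hgs).is_maximal' ((P.isPGroup'.to_le inf_le_left).to_subgroup ⊤) le_top
    let ν : U' →* X := (π.comp U'.subtype).codRestrict X fun u => hle ⟨u, u.2, rfl⟩
    have hν : Function.Bijective ν := by
      refine ⟨(injective_iff_map_eq_one _).2 fun u hu => Subtype.ext ?_, fun r => ?_⟩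
      · exact CfsgLib.Recog.Zassenhaus.sylow_quotient_inj U' hUp u.2
          ((QuotientGroup.eq_one_iff (u : G)).1 (congrArg Subtype.val hu))
      · have : r ∈ ((U.mapSurjective hgs) : Subgroup X) := by rw [← hT]; exact Subgroup.mem_top _
        rw [Sylow.coe_mapSurjective] at this
        obtain ⟨x, hx, hxr⟩ := this
        exact ⟨⟨x, ⟨x, hx, rfl⟩⟩, Subtype.ext (congrArg Subtype.val hxr)⟩
    let μ : X →* ((S : Subgroup G) ⊓ T : Subgroup G) :=
      (Subgroup.inclusion (le_inf hSU hTU)).comp (MulEquiv.ofBijective ν hν).symm.toMonoidHom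
    exact prankLE_of_injective μ ((Subgroup.inclusion_injective (le_inf hSU hTU)).comp (MulEquiv.ofBijective ν hν).symm.injective) (hI S T hne)
  exact core_bot_case (G := G ⧸ O) (CfsgLib.Core.pPrimeCore_quotient_pPrimeCore 2 G) hmain

end Cfsg.Agent.S3304
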