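import Cfsg.Statements.S0711
import Mathlib
import Mathlib.GroupTheory.GroupAction.Jordan

set_option autoImplicit false
open Cfsg

namespace Cfsg.Agent.S0711

/-- A `k`-transitive permutation group (`k ≥ 3`) with a non-identity element of support smaller than `2k - 2` contains a non-identity element of support at most 3, and therefore contains the alternating group. -/
theorem result {α : Type*} [Fintype α] [DecidableEq α] (G : Subgroup (Equiv.Perm α)) {k : ℕ} (hk : 3 ≤ k) (hkn : k ≤ Fintype.card α) (hG : MulAction.IsMultiplyPretransitive G α k) (g : Equiv.Perm α) (hg : g ∈ G) (hg1 : g ≠ 1) (hsupp : g.support.card < 2 * k - 2) : (∃ h : Equiv.Perm α, h ∈ G ∧ h ≠ 1 ∧ h.support.card ≤ 3) ∧ alternatingGroup α ≤ G := by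
  classical
  haveI := hG
  -- `G` moves one point arbitrarily while fixing fewer than `k` others
  have hmove : ∀ (S : Finset α) (t t' : α), S.card + 1 ≤ k → t ∉ S → t' ∉ S →
      ∃ h ∈ G, (∀ x ∈ S, h x = x) ∧ h t = t' := by
    intro S t t' hS ht ht'
    haveI : MulAction.IsMultiplyPretransitive G α (S.card + 1) :=
      MulAction.isMultiplyPretransitive_of_le hS (by rw [Nat.card_eq_fintype_card]; exact hkn)
    let e := (Finset.equivFin S).symm
    let u : Fin (S.card + 1) ↪ α := ⟨Fin.cons t (fun i => (e i : α)), by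
      rw [Fin.cons_injective_iff]
      exact ⟨by rintro ⟨i, hi⟩; exact ht (hi ▸ (e i).2), fun i j hij => e.injective (Subtype.ext hij)⟩⟩
    let u' : Fin (S.card + 1) ↪ α := ⟨Fin.cons t' (fun i => (e i : α)), by
      rw [Fin.cons_injective_iff]
      exact ⟨by rintro ⟨i, hi⟩; exact ht' (hi ▸ (e i).2), fun i j hij => e.injective (Subtype.ext hij)⟩⟩
    obtain ⟨h, hh⟩ := MulAction.exists_smul_eq G u u'
    refine ⟨h, h.2, fun x hx => ?_, ?_⟩
    · have := DFunLike.congr_fun hh (Fin.succ (e.symm ⟨x, hx⟩))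
      simp [u, u', Subgroup.smul_def] at this
      exact this
    · have := DFunLike.congr_fun hh 0
      simp [u, u', Subgroup.smul_def] at this
      exact this
  -- a non-trivial element of minimal support
  obtain ⟨g, ⟨hg, hg1⟩, hmin⟩ := Set.exists_min_image {f : Equiv.Perm α | f ∈ G ∧ f ≠ 1}
    (fun f => f.support.card) (Set.toFinite _) ⟨g, hg, hg1⟩ |>.imp fun f h => h
  suffices h3 : g.support.card ≤ 3 by
    refine ⟨⟨g, hg, hg1, h3⟩, ?_⟩
    have h2 : MulAction.IsMultiplyPretransitive G α 2 :=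
      MulAction.isMultiplyPretransitive_of_le (n := k) (by omega) (by rw [Nat.card_eq_fintype_card]; exact hkn)
    have hprim := MulAction.isPreprimitive_of_is_two_pretransitive h2
    rcases (show g.support.card = 0 ∨ g.support.card = 1 ∨ g.support.card = 2 ∨ g.support.card = 3 by omega) with
      h | h | h | h
    · exact absurd (Equiv.Perm.support_eq_empty_iff.1 (Finset.card_eq_zero.1 h)) hg1
    · exact absurd h (Equiv.Perm.card_support_ne_one g)
    · rw [Equiv.Perm.subgroup_eq_top_of_isPreprimitive_of_isSwap_mem hprim g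
        (Equiv.Perm.card_support_eq_two.1 h) hg]
      exact le_top
    · exact Equiv.Perm.alternatingGroup_le_of_isPreprimitive_of_isThreeCycle_mem hprim
        (card_support_eq_three_iff.1 h) hg
  by_contra h3
  push Not at h3
  set m := g.support.card with hm
  have hmk : m < 2 * k - 2 := lt_of_le_of_lt (hmin _ ⟨‹_ ∈ G›, ‹_ ≠ (1 : Equiv.Perm α)›⟩) hsupp
  have hgS : ∀ x, x ∈ g.support → g x ∈ g.support := fun x hx => Equiv.Perm.apply_mem_support.2 hx
  have hmoved : ∀ x, x ∈ g.support → g x ≠ x := fun x hx => Equiv.Perm.mem_support.1 hx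
  -- a set with at most one edge of `g` entering it
  let bd : Finset α → Finset α := fun T => (g.support \ T).filter fun x => g x ∈ T
  have hT : ∀ τ ≤ m, ∃ T ⊆ g.support, T.card = τ ∧ (bd T).card ≤ 1 := by
    intro τ
    induction τ with
    | zero => exact fun _ => ⟨∅, Finset.empty_subset _, rfl, by simp [bd]⟩
    | succ τ ih =>
      intro hτ
      obtain ⟨T, hTs, hTc, hTb⟩ := ih (by omega)
      obtain ⟨x, hxs, hxT, hxb⟩ : ∃ x, x ∈ g.support ∧ x ∉ T ∧ ∀ y ∈ bd T, y = x := by
        rcases (bd T).eq_empty_or_nonempty with h | ⟨x, hx⟩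
        · obtain ⟨x, hx, hxT⟩ := Finset.exists_mem_notMem_of_card_lt_card (show T.card < g.support.card by omega)
          exact ⟨x, hx, hxT, fun y hy => by simp [h] at hy⟩
        · obtain ⟨hx1, -⟩ := Finset.mem_filter.1 hx
          exact ⟨x, (Finset.mem_sdiff.1 hx1).1, (Finset.mem_sdiff.1 hx1).2,
            fun y hy => Finset.card_le_one.1 hTb y hy x hx⟩
      refine ⟨insert x T, Finset.insert_subset hxs hTs, by rw [Finset.card_insert_of_notMem hxT, hTc], ?_⟩
      refine le_trans (Finset.card_le_card (fun y hy => ?_)) (Finset.card_singleton (g⁻¹ x)).le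
      simp only [bd, Finset.mem_filter, Finset.mem_sdiff, Finset.mem_insert, not_or] at hy
      rcases hy.2 with h | h
      · simp [← h]
      · exact absurd (hxb y (Finset.mem_filter.2 ⟨Finset.mem_sdiff.2 ⟨hy.1.1, hy.1.2.2⟩, h⟩)) hy.1.2.1
  obtain ⟨T, hTs, hTc, hTb⟩ := hT (max 2 (m - (k - 1))) (by omega)
  set S := g.support \ T with hS
  have hScard : S.card + T.card = m := by
    rw [hS, Finset.card_sdiff_of_subset hTs]; omega
  have hSk : S.card + 1 ≤ k := by omega
  -- the commutator-like element agrees with `g` inside `S`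
  have hfixS : ∀ h : Equiv.Perm α, (∀ x ∈ S, h x = x) → ∀ x ∈ S, g x ∈ S →
      ((h * g * h⁻¹)⁻¹ * g) x = x := by
    intro h hh x hx hgx
    rw [Equiv.Perm.mul_apply, Equiv.Perm.inv_eq_iff_eq]
    have : h⁻¹ x = x := by rw [Equiv.Perm.inv_eq_iff_eq, hh x hx]
    rw [Equiv.Perm.mul_apply, Equiv.Perm.mul_apply, this, hh _ hgx]
  have hsuppsub : ∀ h : Equiv.Perm α, (∀ x ∈ S, h x = x) →
      ((h * g * h⁻¹)⁻¹ * g).support ⊆ T ∪ T.image h ∪ bd T := by
    intro h hh x hx
    by_contra hcon
    simp only [Finset.mem_union, not_or] at hcon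
    obtain ⟨⟨h1, h2⟩, h3⟩ := hcon
    refine Equiv.Perm.mem_support.1 hx ?_
    by_cases hxS : x ∈ S
    · refine hfixS h hh x hxS (Finset.mem_sdiff.2 ⟨hgS x (Finset.mem_sdiff.1 hxS).1, fun hgx => h3 ?_⟩)
      exact Finset.mem_filter.2 ⟨hxS, hgx⟩
    · have hxg : g x = x := by
        by_contra hne
        exact hxS (Finset.mem_sdiff.2 ⟨Equiv.Perm.mem_support.2 hne, h1⟩)
      have hxh : g (h⁻¹ x) = h⁻¹ x := by
        by_contra hne
        have hmem := Equiv.Perm.mem_support.2 hne
        by_cases hT' : h⁻¹ x ∈ T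
        · exact h2 (Finset.mem_image.2 ⟨_, hT', by simp⟩)
        · have hS' : h⁻¹ x ∈ S := Finset.mem_sdiff.2 ⟨hmem, hT'⟩
          have := hh _ hS'
          rw [← Equiv.Perm.mul_apply, mul_inv_cancel, Equiv.Perm.one_apply] at this
          exact hxS (this ▸ hS')
      rw [Equiv.Perm.mul_apply, hxg, Equiv.Perm.inv_eq_iff_eq, Equiv.Perm.mul_apply,
        Equiv.Perm.mul_apply, hxh, ← Equiv.Perm.mul_apply, mul_inv_cancel, Equiv.Perm.one_apply]
  have hfinish : ∀ f : Equiv.Perm α, f ∈ G → f ≠ 1 → f.support.card < m → False :=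
    fun f hf hf1 hlt => absurd (hmin f ⟨hf, hf1⟩) (not_le.2 hlt)
  have hcount : ∀ (h : Equiv.Perm α) (t t' : α), t ∈ T → t' ∈ T → h t = t' →
      (T ∪ T.image h ∪ bd T).card + 1 ≤ 2 * T.card + (bd T).card := by
    intro h t t' ht ht' he
    have h1 := Finset.card_union_le (T ∪ T.image h) (bd T)
    have h2 := Finset.card_union_add_card_inter T (T.image h)
    have h3 : 0 < (T ∩ T.image h).card :=
      Finset.card_pos.2 ⟨t', Finset.mem_inter.2 ⟨ht', Finset.mem_image.2 ⟨t, ht, he⟩⟩⟩
    rw [Finset.card_image_of_injective _ h.injective] at h2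
    omega
  have hTne : 2 ≤ T.card := by omega
  by_cases hemp : bd T = ∅
  · -- `T` is a union of cycles
    obtain ⟨t, ht⟩ : T.Nonempty := Finset.card_pos.1 (by omega)
    have hgt : g t ∈ T := by
      by_contra hgt
      -- `g` permutes `S`, so it cannot map a point of `T` into it
      have hmap : ∀ x ∈ S, g x ∈ S := fun x hx => Finset.mem_sdiff.2 ⟨hgS x (Finset.mem_sdiff.1 hx).1,
        fun hgx => Finset.eq_empty_iff_forall_notMem.1 hemp x (Finset.mem_filter.2 ⟨hx, hgx⟩)⟩
      have himg : S.image g = S := Finset.eq_of_subset_of_card_le (Finset.image_subset_iff.2 hmap)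
        (by rw [Finset.card_image_of_injective _ g.injective])
      have hgtS : g t ∈ S := Finset.mem_sdiff.2 ⟨hgS t (hTs ht), hgt⟩
      rw [← himg, Finset.mem_image] at hgtS
      obtain ⟨x, hx, hxe⟩ := hgtS
      exact (Finset.mem_sdiff.1 hx).2 (g.injective hxe ▸ ht)
    by_cases hout : g.support = Finset.univ
    · obtain ⟨h, hhG, hhS, hht⟩ := hmove S t (g t) hSk (fun e => (Finset.mem_sdiff.1 e).2 ht)
        (fun e => (Finset.mem_sdiff.1 e).2 hgt)
      by_cases hcomm : (h * g * h⁻¹)⁻¹ * g = 1
      · obtain ⟨x, hx⟩ : S.Nonempty := Finset.card_pos.1 (by omega)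
        refine hfinish (h⁻¹ * g) (G.mul_mem (G.inv_mem hhG) hg) (fun e => ?_) ?_
        · have := Equiv.Perm.ext_iff.1 e x
          rw [Equiv.Perm.mul_apply, Equiv.Perm.one_apply, Equiv.Perm.inv_eq_iff_eq, hhS x hx] at this
          exact hmoved x (Finset.mem_sdiff.1 hx).1 this
        · refine lt_of_lt_of_le (Finset.card_lt_card (Finset.ssubset_univ_iff.2 fun e => ?_)) (by
            rw [hm, hout])
          have : t ∈ (h⁻¹ * g).support := e ▸ Finset.mem_univ t
          rw [Equiv.Perm.mem_support, Equiv.Perm.mul_apply, Ne, Equiv.Perm.inv_eq_iff_eq] at this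
          exact this hht.symm
      · refine hfinish _ (G.mul_mem (G.inv_mem (G.mul_mem (G.mul_mem hhG hg) (G.inv_mem hhG))) hg) hcomm ?_
        have := Finset.card_le_card (hsuppsub h hhS)
        have := hcount h t (g t) ht hgt hht
        have : (bd T).card = 0 := by simp [hemp]
        omega
    · obtain ⟨b, hb⟩ : ∃ b, b ∉ g.support := by
        by_contra hcon
        push Not at hcon
        exact hout (Finset.eq_univ_of_forall hcon)
      have hSb : b ∉ S := fun e => hb (Finset.mem_sdiff.1 e).1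
      have hSt : t ∉ S := fun e => (Finset.mem_sdiff.1 e).2 ht
      -- use all the available transitivity
      obtain ⟨h, hhG, hhS, hht, hov⟩ : ∃ h ∈ G, (∀ x ∈ S, h x = x) ∧ h t = b ∧
          (S.card + 2 ≤ k → (T ∩ T.image h).Nonempty) := by
        by_cases h2k : S.card + 2 ≤ k
        · obtain ⟨t0, ht0, hne0⟩ := Finset.exists_mem_ne (show 1 < T.card by omega) t
          have ht0S : t0 ∉ S := fun e => (Finset.mem_sdiff.1 e).2 ht0
          obtain ⟨h, hhG, hhS, hht⟩ := hmove (insert t0 S) t b
            (by rw [Finset.card_insert_of_notMem ht0S]; omega) (by simp [hSt, Ne.symm hne0])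
            (by simp [hSb]; exact fun e => hb (e ▸ hTs ht0))
          exact ⟨h, hhG, fun x hx => hhS x (Finset.mem_insert_of_mem hx), hht, fun _ =>
            ⟨t0, Finset.mem_inter.2 ⟨ht0, Finset.mem_image.2 ⟨t0, ht0, hhS t0 (Finset.mem_insert_self _ _)⟩⟩⟩⟩
        · obtain ⟨h, hhG, hhS, hht⟩ := hmove S t b hSk hSt hSb
          exact ⟨h, hhG, hhS, hht, fun h => absurd h h2k⟩
      refine hfinish _ (G.mul_mem (G.inv_mem (G.mul_mem (G.mul_mem hhG hg) (G.inv_mem hhG))) hg)
        (fun e => ?_) ?_
      · rw [inv_mul_eq_one] at e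
        have := congrArg (fun f : Equiv.Perm α => f b) e
        simp only [Equiv.Perm.mul_apply] at this
        rw [Equiv.Perm.notMem_support.1 hb, show h⁻¹ b = t by rw [Equiv.Perm.inv_eq_iff_eq, hht]] at this
        exact hmoved t (hTs ht) (h.injective (this.trans hht.symm))
      · have h1 := Finset.card_le_card (hsuppsub h hhS)
        have h2 := Finset.card_union_le (T ∪ T.image h) (bd T)
        have h4 := Finset.card_union_add_card_inter T (T.image h)
        rw [Finset.card_image_of_injective _ h.injective] at h4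
        have : (bd T).card = 0 := by simp [hemp]
        by_cases h2k : S.card + 2 ≤ k
        · have := Finset.card_pos.2 (hov h2k)
          omega
        · omega
  · -- one edge `x → t` enters `T`
    obtain ⟨x, hx⟩ := Finset.nonempty_of_ne_empty hemp
    obtain ⟨hxS, hxT⟩ := Finset.mem_filter.1 hx
    obtain ⟨t', ht', hne⟩ := Finset.exists_mem_ne (show 1 < T.card by omega) (g x)
    have hgxS : g x ∉ S := fun e => (Finset.mem_sdiff.1 e).2 hxT
    have htS : t' ∉ S := fun e => (Finset.mem_sdiff.1 e).2 ht'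
    -- if possible, swap the two points
    obtain ⟨h, hhG, hhS, hht, hov⟩ : ∃ h ∈ G, (∀ y ∈ S, h y = y) ∧ h (g x) = t' ∧
        (S.card + 2 ≤ k → h t' = g x) := by
      obtain ⟨h₁, h₁G, h₁S, h₁t⟩ := hmove S (g x) t' hSk hgxS htS
      by_cases h2k : S.card + 2 ≤ k
      · obtain ⟨h₂, h₂G, h₂S, h₂t⟩ := hmove (insert t' S) (h₁ t') (g x)
          (by rw [Finset.card_insert_of_notMem htS]; omega)
          (fun hm => by
            rcases Finset.mem_insert.1 hm with e | e
            · exact hne (h₁.injective (e.trans h₁t.symm))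
            · exact htS ((h₁.injective (h₁S _ e)) ▸ e))
          (by simp [hgxS, Ne.symm hne])
        refine ⟨h₂ * h₁, G.mul_mem h₂G h₁G, fun y hy => ?_, ?_, fun _ => ?_⟩
        · rw [Equiv.Perm.mul_apply, h₁S y hy, h₂S y (Finset.mem_insert_of_mem hy)]
        · rw [Equiv.Perm.mul_apply, h₁t, h₂S t' (Finset.mem_insert_self _ _)]
        · rw [Equiv.Perm.mul_apply, h₂t]
      · exact ⟨h₁, h₁G, h₁S, h₁t, fun h => absurd h h2k⟩
    refine hfinish _ (G.mul_mem (G.inv_mem (G.mul_mem (G.mul_mem hhG hg) (G.inv_mem hhG))) hg)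
      (fun e => ?_) ?_
    · rw [inv_mul_eq_one] at e
      have := congrArg (fun f : Equiv.Perm α => f x) e
      simp only [Equiv.Perm.mul_apply] at this
      rw [show h⁻¹ x = x by rw [Equiv.Perm.inv_eq_iff_eq, hhS x hxS], hht] at this
      exact hne this
    · have := Finset.card_le_card (hsuppsub h hhS)
      by_cases h2k : S.card + 2 ≤ k
      · have hT2 : T = {g x, t'} := by
          refine (Finset.eq_of_subset_of_card_le ?_ ?_).symm
          · simp [Finset.insert_subset_iff, hxT, ht']
          · rw [Finset.card_pair (Ne.symm hne)]; omega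
        have himg : T.image h = T := by
          rw [hT2, Finset.image_insert, Finset.image_singleton, hht, hov h2k, Finset.pair_comm]
        rw [himg, Finset.union_self] at this
        have := Finset.card_union_le T (bd T)
        omega
      · have := hcount h (g x) t' hxT ht' hht
        omega

end Cfsg.Agent.S0711
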