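import Cfsg.Statements.S3572
import Cfsg.Agent.Lib.Perm.Dihedral.Spectral

set_option autoImplicit false
open Cfsg

namespace Cfsg.Agent.S3572

open CfsgLib.DihedralSR MulAction

/-- A primitive group with a regular subgroup isomorphic to a dihedral group is doubly transitive. -/
theorem two_transitive_of_dihedral {G Ω : Type*} [Group G] [Finite G] [MulAction G Ω]
    (hprim : IsPreprimitive G Ω) (D : Subgroup G) (m : ℕ) (e : ↥D ≃* DihedralGroup m)
    (htr : IsPretransitive ↥D Ω) (hst : ∀ a : Ω, stabilizer ↥D a = ⊥) :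
    IsMultiplyPretransitive G Ω 2 := by
  classical
  haveI := hprim
  rw [is_two_pretransitive_iff]
  intro a b c d hab hcd
  haveI : Finite (DihedralGroup m) := Finite.of_equiv _ e.toEquiv
  haveI : NeZero m := ⟨fun h => by subst h; exact not_finite (DihedralGroup 0)⟩
  haveI : Nontrivial Ω := ⟨⟨a, b, hab⟩⟩
  set ω₀ := a with hω₀
  set g : DihedralGroup m →* G := D.subtype.comp e.symm.toMonoidHom with hg
  set φ : DihedralGroup m → Ω := fun x => g x • ω₀ with hφ
  have hinj : Function.Injective φ := by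
    intro x y hxy
    have h1 : (e.symm y)⁻¹ * e.symm x ∈ stabilizer ↥D ω₀ := by
      rw [mem_stabilizer_iff, mul_smul]
      show (e.symm y)⁻¹ • φ x = ω₀
      rw [hxy]
      exact inv_smul_smul (e.symm y) ω₀
    rw [hst ω₀, Subgroup.mem_bot, inv_mul_eq_one] at h1
    exact (e.symm.injective h1).symm
  have hsur : Function.Surjective φ := fun x => by
    obtain ⟨z, hz⟩ := htr.exists_smul_eq ω₀ x
    exact ⟨e z, by show (e.symm (e z) : G) • ω₀ = x; rw [e.symm_apply_apply]; exact hz⟩
  let inv' : Ω → DihedralGroup m := Function.surjInv hsur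
  have hinv : ∀ x, φ (inv' x) = x := Function.surjInv_eq hsur
  have hφ1 : φ 1 = ω₀ := by simp [hφ]
  -- the basic step
  have step : ∀ (h : G), h • ω₀ = ω₀ → ∀ x y x' y' : DihedralGroup m, h • φ x = φ x' → h • φ y = φ y' →
      ((g x')⁻¹ * h * g x) • ω₀ = ω₀ ∧ ((g x')⁻¹ * h * g x) • φ (x⁻¹ * y) = φ (x'⁻¹ * y') := by
    intro h _ x y x' y' hx hy
    simp only [hφ] at hx hy ⊢
    refine ⟨by rw [mul_smul, mul_smul, hx, inv_smul_smul], ?_⟩
    simp only [map_mul, map_inv, mul_smul, smul_inv_smul, hy]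
  let S : SR m :=
    { Inv := fun X => ∀ h : G, h • ω₀ = ω₀ → ∀ x x', h • φ x = φ x' → X.fn x' = X.fn x
      one := fun h hh x x' hx => by
        rw [Pr.fn_one, Pr.fn_one]
        refine if_congr ⟨fun e' => hinj (MulAction.injective h ?_), fun e' => hinj ?_⟩ rfl rfl
        · show h • φ x = h • φ 1
          rw [hx, e', hφ1, hh]
        · rw [← hx, e', hφ1, hh]
      add := fun {X Y} hX hY h hh x x' hx => by rw [Pr.fn_add, Pr.fn_add, hX h hh x x' hx, hY h hh x x' hx]
      mul := fun {X Y} hX hY h hh x x' hx => by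
        rw [Pr.fn_mul, Pr.fn_mul]
        let σ : DihedralGroup m ≃ DihedralGroup m :=
          ((Equiv.ofBijective φ ⟨hinj, hsur⟩).trans (MulAction.toPerm h)).trans
            (Equiv.ofBijective φ ⟨hinj, hsur⟩).symm
        have hσ : ∀ y, h • φ y = φ (σ y) := fun y =>
          ((Equiv.ofBijective φ ⟨hinj, hsur⟩).apply_symm_apply (h • φ y)).symm
        refine (Fintype.sum_equiv σ _ _ fun y => ?_).symm
        obtain ⟨h1, h2⟩ := step h hh y x (σ y) x' (hσ y) hx
        rw [hX h hh y _ (hσ y), hY _ h1 _ _ h2]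
      star := fun {X} hX h hh x x' hx => by
        rw [Pr.fn_star, Pr.fn_star]
        obtain ⟨h1, h2⟩ := step h hh x 1 x' 1 hx (by rw [hφ1, hh])
        rw [mul_one, mul_one] at h2
        exact hX _ h1 _ _ h2
      comp := fun {X} ψ hX h hh x x' hx => by rw [Pr.fn_map, Pr.fn_map, hX h hh x x' hx]
      prim := fun {X} hX H hH => by
        have hinvH : ∀ h : G, h • ω₀ = ω₀ → ∀ x ∈ H, ∃ x' ∈ H, h • φ x = φ x' := fun h hh x hx => by
          refine ⟨inv' (h • φ x), (hH _).1 ?_, (hinv _).symm⟩
          rw [hX h hh x _ (hinv _).symm]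
          exact (hH x).2 hx
        let K : Subgroup G :=
          { carrier := {k | ∃ y ∈ H, k • ω₀ = φ y}
            one_mem' := ⟨1, one_mem H, by rw [one_smul, hφ1]⟩
            mul_mem' := by
              rintro k k' ⟨y, hy, hk⟩ ⟨y', hy', hk'⟩
              have hh : ((g y)⁻¹ * k) • ω₀ = ω₀ := by rw [mul_smul, hk]; simp [hφ]
              obtain ⟨z, hz, hzz⟩ := hinvH _ hh y' hy'
              refine ⟨y * z, mul_mem hy hz, ?_⟩
              rw [mul_smul, hk', show k = g y * ((g y)⁻¹ * k) by group, mul_smul, hzz]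
              simp [hφ, mul_smul]
            inv_mem' := by
              rintro k ⟨y, hy, hk⟩
              have hh : (k⁻¹ * g y) • ω₀ = ω₀ := by
                rw [mul_smul]
                show k⁻¹ • φ y = ω₀
                rw [← hk, inv_smul_smul]
              obtain ⟨z, hz, hzz⟩ := hinvH _ hh y⁻¹ (inv_mem hy)
              refine ⟨z, hz, ?_⟩
              rw [← hzz]
              simp [hφ, mul_smul] }
        have hle : stabilizer G ω₀ ≤ K := fun k hk => ⟨1, one_mem H, by rw [hφ1]; exact hk⟩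
        rcases ((MulAction.isCoatom_stabilizer_iff_preprimitive G ω₀).2 hprim).le_iff.1 hle with hK | hK
        · right
          rw [eq_top_iff]
          intro x _
          obtain ⟨y, hy, hxy⟩ : g x ∈ K := hK ▸ Subgroup.mem_top _
          rwa [hinj (hxy : φ x = φ y)]
        · left
          rw [eq_bot_iff]
          intro x hx
          rw [Subgroup.mem_bot]
          have : g x ∈ stabilizer G ω₀ := hK ▸ (⟨x, hx, rfl⟩ : g x ∈ K)
          exact hinj ((mem_stabilizer_iff.1 this).trans hφ1.symm) }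
  -- the point stabiliser is transitive on the other points
  have key : ∀ y z : DihedralGroup m, y ≠ 1 → z ≠ 1 → ∃ h : G, h • ω₀ = ω₀ ∧ h • φ y = φ z := by
    intro y z hy hz
    by_contra hno
    push Not at hno
    have hne : y ≠ z := fun e' => hno 1 (one_smul G ω₀) (by rw [e', one_smul])
    have hm2 : 2 ≤ m := by
      by_contra hm
      obtain rfl : m = 1 := by have := NeZero.pos m; omega
      refine hne ?_
      have : ∀ w : DihedralGroup 1, w = 1 ∨ w = DihedralGroup.sr 0 := fun w => by
        cases w with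
        | r i => exact Or.inl (by rw [Subsingleton.elim i 0]; rfl)
        | sr i => exact Or.inr (by rw [Subsingleton.elim i 0])
      rw [(this y).resolve_left hy, (this z).resolve_left hz]
    let O : DihedralGroup m → ℤ := fun x => if ∃ h : G, h • ω₀ = ω₀ ∧ h • φ y = φ x then 1 else 0
    let X : Pr m := ⟨ofFn fun i => O (DihedralGroup.r i), ofFn fun i => O (DihedralGroup.sr (-i))⟩
    have hXf : ∀ x, X.fn x = O x := fun x => by cases x <;> simp [X, Pr.fn, coeff_ofFn]
    have hXi : S.Inv X := fun h hh x x' hx => by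
      rw [hXf, hXf]
      refine if_congr ⟨fun ⟨k, hk, hk'⟩ => ⟨h⁻¹ * k, ?_, ?_⟩, fun ⟨k, hk, hk'⟩ => ⟨h * k, ?_, ?_⟩⟩ rfl rfl
      · rw [mul_smul, hk, inv_smul_eq_iff, hh]
      · rw [mul_smul, hk', inv_smul_eq_iff, hx]
      · rw [mul_smul, hk, hh]
      · rw [mul_smul, hk', hx]
    obtain ⟨v, h1, h2⟩ := S.flat_all hm2 hXi
    have hv : ∀ x, x ≠ 1 → O x = v := fun x hx => by
      rw [← hXf]
      cases x with
      | r i => exact h1 i fun e' => hx (by rw [e']; rfl)
      | sr i => exact h2 (-i)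
    have hOy : O y = 1 := if_pos ⟨1, one_smul G ω₀, one_smul G _⟩
    have hOz : O z = 0 := if_neg fun ⟨h, hh, hh'⟩ => hno h hh hh'
    rw [hv y hy] at hOy
    rw [hv z hz, hOy] at hOz
    exact one_ne_zero hOz
  obtain ⟨u, hu⟩ := hprim.toIsPretransitive.exists_smul_eq c a
  have hd : u • d ≠ a := fun h => hcd (MulAction.injective u ((hu.trans h.symm)))
  obtain ⟨h, hh, hh'⟩ := key (inv' b) (inv' (u • d))
    (fun e' => hab (by rw [← hinv b, e', hφ1])) (fun e' => hd (by rw [← hinv (u • d), e', hφ1]))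
  rw [hinv, hinv] at hh'
  refine ⟨u⁻¹ * h, ?_, ?_⟩
  · rw [mul_smul, hh, inv_smul_eq_iff, hu]
  · rw [mul_smul, hh', inv_smul_smul]

/-- A finite primitive permutation group containing a dihedral subgroup that acts regularly (transitively with trivial point stabilizers) is doubly transitive. -/
theorem result {G Ω : Type*} [Group G] [Finite G] [MulAction G Ω] [FaithfulSMul G Ω] [Finite Ω]
    (hprim : MulAction.IsPreprimitive G Ω) (D : Subgroup G) (m : ℕ) (hD : Nonempty (↥D ≃* DihedralGroup m))
    (hDreg : MulAction.IsPretransitive ↥D Ω ∧ ∀ a : Ω, MulAction.stabilizer ↥D a = ⊥) :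
    MulAction.IsMultiplyPretransitive G Ω 2 := by
  obtain ⟨e⟩ := hD
  exact two_transitive_of_dihedral hprim D m e hDreg.1 hDreg.2

end Cfsg.Agent.S3572
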