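import Cfsg.Statements.S3805
import Mathlib
import Cfsg.Agent.Lib.CharDegree.Counting

set_option autoImplicit false
open Cfsg

namespace Cfsg.Agent.S3805

set_option linter.style.haveILetI false
set_option linter.unusedSectionVars false
open scoped commutatorElement Classical ComplexConjugate

section endgame

theorem order_bound {ι : Type*} [Fintype ι] (x y z d : ι → ℤ) (n : ℕ) (hn : 0 < n) (hd : ∀ i, 0 < d i)
    (hu : ∀ i, (3 : ℤ) ∣ z i - y i) (hw : ∀ i, (3 : ℤ) ∣ x i - z i)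
    (hxx : ∑ i, x i * x i = 18) (hyy : ∑ i, y i * y i = 18) (hzz : ∑ i, z i * z i = 9)
    (hxy : ∑ i, x i * y i = 0) (hxz : ∑ i, x i * z i = 0) (hyz : ∑ i, y i * z i = 0)
    (hdx : ∑ i, d i * x i = 0) (hdy : ∑ i, d i * y i = 0) (hdz : ∑ i, d i * z i = 0)
    (hdd : ∑ i, d i * d i = n)
    (hT : ∑ i, ((y i * (z i - y i) * (x i - z i) : ℤ) : ℂ) / (d i : ℂ) = 162 / (n : ℂ)) :
    n ≤ 324 := by
  choose u hu using hu
  choose w hw using hw
  have huu : ∑ i, u i * u i = 3 := by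
    have h : (∑ i, u i * u i) * 9 = 27 := by
      rw [Finset.sum_mul]
      calc ∑ i, u i * u i * 9 = ∑ i, (z i * z i - 2 * (y i * z i) + y i * y i) :=
            Finset.sum_congr rfl fun i _ => by linear_combination -(z i - y i + 3 * u i) * hu i
        _ = 27 := by
          rw [Finset.sum_add_distrib, Finset.sum_sub_distrib, ← Finset.mul_sum, hzz, hyz, hyy]; norm_num
    linarith
  have hww : ∑ i, w i * w i = 3 := by
    have h : (∑ i, w i * w i) * 9 = 27 := by
      rw [Finset.sum_mul]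
      calc ∑ i, w i * w i * 9 = ∑ i, (x i * x i - 2 * (x i * z i) + z i * z i) :=
            Finset.sum_congr rfl fun i _ => by linear_combination -(x i - z i + 3 * w i) * hw i
        _ = 27 := by
          rw [Finset.sum_add_distrib, Finset.sum_sub_distrib, ← Finset.mul_sum, hxx, hxz, hzz]; norm_num
    linarith
  have huw : ∑ i, u i * w i = -1 := by
    have h : (∑ i, u i * w i) * 9 = -9 := by
      rw [Finset.sum_mul]
      calc ∑ i, u i * w i * 9 = ∑ i, ((x i * z i - z i * z i) - (x i * y i - y i * z i)) :=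
            Finset.sum_congr rfl fun i _ => by linear_combination -(x i - z i) * hu i - 3 * u i * hw i
        _ = -9 := by
          rw [Finset.sum_sub_distrib, Finset.sum_sub_distrib, Finset.sum_sub_distrib, hxz, hzz, hxy, hyz]; norm_num
    linarith
  have hdu : ∑ i, d i * u i = 0 := by
    have h : (∑ i, d i * u i) * 3 = 0 := by
      rw [Finset.sum_mul]
      calc ∑ i, d i * u i * 3 = ∑ i, (d i * z i - d i * y i) :=
            Finset.sum_congr rfl fun i _ => by linear_combination -(d i) * hu i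
        _ = 0 := by rw [Finset.sum_sub_distrib, hdz, hdy]; norm_num
    linarith
  have hdw : ∑ i, d i * w i = 0 := by
    have h : (∑ i, d i * w i) * 3 = 0 := by
      rw [Finset.sum_mul]
      calc ∑ i, d i * w i * 3 = ∑ i, (d i * x i - d i * z i) :=
            Finset.sum_congr rfl fun i _ => by linear_combination -(d i) * hw i
        _ = 0 := by rw [Finset.sum_sub_distrib, hdx, hdz]; norm_num
    linarith
  have hsmall : ∀ (v : ι → ℤ), ∑ i, v i * v i = 3 → ∀ i, v i = 0 ∨ v i = 1 ∨ v i = -1 := by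
    intro v hv i
    have h : v i * v i ≤ 3 := hv ▸ Finset.single_le_sum (f := fun i => v i * v i)
      (fun j _ => mul_self_nonneg _) (Finset.mem_univ i)
    have : -1 ≤ v i ∧ v i ≤ 1 := ⟨by nlinarith, by nlinarith⟩
    omega
  set f := fun i => u i * w i with hf
  set P := Finset.univ.filter fun i => f i = 1
  set M := Finset.univ.filter fun i => f i = -1
  have hff : ∀ i, f i = 0 ∨ f i = 1 ∨ f i = -1 := by
    intro i
    rcases hsmall u huu i with h | h | h <;> rcases hsmall w hww i with h' | h' | h' <;> simp [f, h, h']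
  have hsumf : (P.card : ℤ) - M.card = -1 := by
    rw [← huw, Finset.card_filter, Finset.card_filter, Nat.cast_sum, Nat.cast_sum, ← Finset.sum_sub_distrib]
    refine Finset.sum_congr rfl fun i _ => ?_
    show _ = f i
    rcases hff i with h | h | h <;> simp [h]
  have hle : ∀ i, f i * f i ≤ u i * u i ∧ f i * f i ≤ w i * w i := by
    intro i
    rcases hsmall u huu i with h | h | h <;> rcases hsmall w hww i with h' | h' | h' <;> simp [f, h, h']
  have hsumff : (P.card : ℤ) + M.card = ∑ i, f i * f i := by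
    rw [Finset.card_filter, Finset.card_filter, Nat.cast_sum, Nat.cast_sum, ← Finset.sum_add_distrib]
    refine Finset.sum_congr rfl fun i _ => ?_
    rcases hff i with h | h | h <;> simp [h]
  have hff3 : ∑ i, f i * f i ≤ 3 := huu ▸ Finset.sum_le_sum fun i _ => (hle i).1
  rcases Nat.eq_zero_or_pos P.card with hP | hP
  · -- one product, equal to `-1`
    have hM : M.card = 1 := by omega
    obtain ⟨i0, hi0⟩ := Finset.card_eq_one.mp hM
    have hone : ∀ i, i ≠ i0 → f i = 0 := by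
      intro i hi
      rcases hff i with h | h | h
      · exact h
      · have : i ∈ P := Finset.mem_filter.mpr ⟨Finset.mem_univ _, h⟩
        rw [Finset.card_eq_zero.mp hP] at this
        exact absurd this (Finset.notMem_empty i)
      · have : i ∈ M := Finset.mem_filter.mpr ⟨Finset.mem_univ _, h⟩
        rw [hi0, Finset.mem_singleton] at this
        exact absurd this hi
    have hf0 : f i0 = -1 := by
      have : i0 ∈ M := hi0 ▸ Finset.mem_singleton_self i0
      exact (Finset.mem_filter.mp this).2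
    have hterm : ∀ i, y i * (z i - y i) * (x i - z i) = 9 * (y i * f i) := fun i => by
      show _ = 9 * (y i * (u i * w i))
      linear_combination y i * (x i - z i) * hu i + 3 * y i * u i * hw i
    rw [Fintype.sum_eq_single i0 (fun i hi => by rw [hterm, hone i hi]; simp), hterm, hf0] at hT
    have hd0 : (d i0 : ℂ) ≠ 0 := Int.cast_ne_zero.mpr (hd i0).ne'
    have hn0 : (n : ℂ) ≠ 0 := Nat.cast_ne_zero.mpr hn.ne'
    rw [div_eq_div_iff hd0 hn0] at hT
    have hT' : 9 * (y i0 * -1) * (n : ℤ) = 162 * d i0 := by exact_mod_cast hT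
    have hy0 : y i0 ≠ 0 := fun h => by rw [h] at hT'; have := hd i0; omega
    have hdn : d i0 * d i0 ≤ n := hdd ▸ Finset.single_le_sum (f := fun i => d i * d i)
      (fun j _ => mul_self_nonneg _) (Finset.mem_univ i0)
    have hy1 : 1 ≤ y i0 * y i0 := by
      have : 0 < y i0 * y i0 := mul_self_pos.mpr hy0
      omega
    have h18 : 18 * d i0 = -(y i0 * (n : ℤ)) := by linarith
    have hd2 : 324 * (d i0 * d i0) = (y i0 * y i0) * ((n : ℤ) * n) := by
      linear_combination (18 * d i0 - y i0 * (n : ℤ)) * h18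
    have hkey : (n : ℤ) * n ≤ 324 * n := by nlinarith
    have : (n : ℤ) ≤ 324 := le_of_mul_le_mul_right hkey (by exact_mod_cast hn)
    exact_mod_cast this
  · -- three products: impossible
    exfalso
    have hP1 : P.card = 1 ∧ ∑ i, f i * f i = 3 := by omega
    obtain ⟨i0, hi0⟩ := Finset.card_eq_one.mp hP1.1
    have hequ : ∀ i, f i * f i = u i * u i := fun i =>
      (Finset.sum_eq_sum_iff_of_le fun i _ => (hle i).1).mp (by rw [hP1.2, huu]) i (Finset.mem_univ i)
    have heqw : ∀ i, f i * f i = w i * w i := fun i =>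
      (Finset.sum_eq_sum_iff_of_le fun i _ => (hle i).2).mp (by rw [hP1.2, hww]) i (Finset.mem_univ i)
    have hrest : ∀ i, i ≠ i0 → d i * (u i + w i) = 0 := by
      intro i hi
      have hne1 : f i ≠ 1 := fun h => hi (by
        have : i ∈ P := Finset.mem_filter.mpr ⟨Finset.mem_univ _, h⟩
        rwa [hi0, Finset.mem_singleton] at this)
      have h1 := hequ i
      have h2 := heqw i
      simp only [f] at hne1 h1 h2
      rcases hsmall u huu i with h | h | h <;> rcases hsmall w hww i with h' | h' | h' <;> simp_all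
    have hsum : ∑ i, d i * (u i + w i) = 0 := by
      simp only [mul_add, Finset.sum_add_distrib, hdu, hdw, add_zero]
    rw [Fintype.sum_eq_single i0 hrest] at hsum
    have hf0 : u i0 * w i0 = 1 := by
      have : i0 ∈ P := hi0 ▸ Finset.mem_singleton_self i0
      exact (Finset.mem_filter.mp this).2
    have huw0 : u i0 + w i0 = 0 := (mul_eq_zero.mp hsum).resolve_left (hd i0).ne'
    have : u i0 * w i0 = -(u i0 * u i0) := by rw [show w i0 = -u i0 by linarith]; ring
    nlinarith [mul_self_nonneg (u i0)]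

end endgame

section group

variable {G : Type*} [Group G] [Finite G]

theorem pow_three_one_iff {x : G} (h : x ^ 3 = 1) {i j : ℕ} (hij : i % 3 = j % 3) : x ^ i = x ^ j := by
  rw [← Nat.mod_add_div i 3, ← Nat.mod_add_div j 3, pow_add, pow_add, pow_mul, pow_mul, h, one_pow, one_pow, hij]

theorem exists_pow_eq_of_card_three {H : Subgroup G} (hH : Nat.card H = 3) {e : G} (he : e ∈ H) (he1 : e ≠ 1)
    {f : G} (hf : f ∈ H) : ∃ i, i < 3 ∧ f = e ^ i := by
  haveI : Fact (Nat.Prime 3) := ⟨Nat.prime_three⟩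
  have htop := zpowers_eq_top_of_prime_card (g := (⟨e, he⟩ : H)) hH (fun h => he1 (congrArg Subtype.val h))
  have hmem : (⟨f, hf⟩ : H) ∈ Subgroup.zpowers (⟨e, he⟩ : H) := htop ▸ Subgroup.mem_top _
  obtain ⟨k, hk⟩ := mem_powers_iff_mem_zpowers.mpr hmem
  refine ⟨k % 3, Nat.mod_lt _ (by norm_num), ?_⟩
  have he3 : e ^ 3 = 1 := by
    have := congrArg Subtype.val (pow_card_eq_one' (x := (⟨e, he⟩ : H)))
    rw [hH] at this
    exact this
  rw [pow_three_one_iff he3 (Nat.mod_mod k 3)]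
  exact (congrArg Subtype.val hk).symm

theorem main {G : Type*} [Group G] [Finite G] (T : Sylow 3 G) (N : Subgroup G)
    (hNdef : N = Subgroup.normalizer ((T : Subgroup G) : Set G))
    (hab : ∀ s ∈ (T : Subgroup G), ∀ t ∈ (T : Subgroup G), s * t = t * s)
    (hexp : ∀ t ∈ (T : Subgroup G), t ^ 3 = 1) (hcard : Nat.card T = 9)
    (hC : ∀ g : G, (∀ t ∈ (T : Subgroup G), g * t * g⁻¹ = t) → g ∈ (T : Subgroup G))
    (hsq : ∀ n ∈ N, n * n ∈ (T : Subgroup G)) (hN36 : Nat.card N = 36)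
    (hloc : ∀ t ∈ (T : Subgroup G), t ≠ 1 → ∀ g : G, g * t = t * g → g ∈ N) : N = ⊤ := by
  haveI : Fact (Nat.Prime 3) := ⟨Nat.prime_three⟩
  set S := (T : Subgroup G) with hS
  have hSN : S ≤ N := hNdef ▸ Subgroup.le_normalizer
  have hconjS : ∀ n ∈ N, ∀ t ∈ S, n * t * n⁻¹ ∈ S := fun n hn t ht => by
    rw [hNdef] at hn; exact (Subgroup.mem_normalizer_iff.mp hn t).mp ht
  have hN3 : ∀ n ∈ N, n ^ 3 = 1 → n ∈ S := fun n hn h => by
    have := pow_mem (hsq n hn) 2
    rwa [show (n * n) ^ 2 = n ^ 3 * n by simp only [pow_succ, pow_zero, one_mul, mul_assoc], h, one_mul] at this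
  -- fusion in `T` is controlled by `N`
  have hfus : ∀ g : G, ∀ t ∈ S, t ≠ 1 → g * t * g⁻¹ ∈ S → g ∈ N := by
    intro g t ht ht1 hgt
    rw [hNdef]
    have hne : g * t * g⁻¹ ≠ 1 := fun h => ht1 (conj_eq_one_iff.mp h)
    have hmap : ∀ s ∈ S, g * s * g⁻¹ ∈ S := fun s hs => by
      refine hN3 _ (hloc _ hgt hne _ ?_) (by rw [conj_pow, hexp s hs, mul_one, mul_inv_cancel])
      calc g * s * g⁻¹ * (g * t * g⁻¹) = g * (s * t) * g⁻¹ := by group
        _ = g * (t * s) * g⁻¹ := by rw [hab s hs t ht]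
        _ = g * t * g⁻¹ * (g * s * g⁻¹) := by group
    have heq : S.map (MulAut.conj g).toMonoidHom = S := by
      refine Subgroup.eq_of_le_of_card_ge ?_ (Subgroup.card_map_of_injective (MulAut.conj g).injective).ge
      rintro _ ⟨s, hs, rfl⟩
      exact hmap s hs
    refine Subgroup.mem_normalizer_iff.mpr fun e => ⟨hmap e, fun he => ?_⟩
    have he' : g * e * g⁻¹ ∈ S.map (MulAut.conj g).toMonoidHom := by rwa [heq]
    obtain ⟨e', he'', hee⟩ := he'
    have : e' = e := (MulAut.conj g).injective hee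
    exact this ▸ he''
  -- the action of `N` on `T`
  have hinvol : ∀ n ∈ N, ∀ t ∈ S, n * (n * t * n⁻¹) * n⁻¹ = t := fun n hn t ht => by
    rw [show n * (n * t * n⁻¹) * n⁻¹ = (n * n) * t * (n * n)⁻¹ by group, hab _ (hsq n hn) t ht]
    group
  have hself : ∀ t ∈ S, t⁻¹ = t → t = 1 := fun t ht h => by
    have h3 := hexp t ht
    have h2 : t * t = 1 := by nth_rw 1 [← h]; exact inv_mul_cancel t
    rwa [pow_succ, pow_two, h2, one_mul] at h3
  have hcentral : ∀ n, n ∈ S → ∀ t ∈ S, n * t * n⁻¹ = t := fun n hn t ht => by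
    rw [hab n hn t ht, mul_inv_cancel_right]
  have hnS : ∀ n, n ∉ S → ∃ t ∈ S, n * t * n⁻¹ ≠ t := fun n hn => by
    by_contra h
    push Not at h
    exact hn (hC n h)
  have hlt : S < N := lt_of_le_of_ne hSN fun h => by
    have e : Nat.card S = 36 := h.symm ▸ hN36
    rw [hcard] at e; omega
  -- some element of `N` fixes a nontrivial element of `T` without centralizing `T`
  obtain ⟨b, hbN, hbS, f, hfS, hf1, hbf⟩ : ∃ b ∈ N, b ∉ S ∧ ∃ f ∈ S, f ≠ 1 ∧ b * f * b⁻¹ = f := by
    by_contra hcon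
    push Not at hcon
    have hinv : ∀ n ∈ N, n ∉ S → ∀ t ∈ S, n * t * n⁻¹ = t⁻¹ := by
      intro n hn hns t ht
      by_contra hne
      have hnt := hconjS n hn t ht
      refine hcon n hn hns (t * (n * t * n⁻¹)) (mul_mem ht hnt) (fun h => hne (eq_inv_of_mul_eq_one_right h)) ?_
      rw [show n * (t * (n * t * n⁻¹)) * n⁻¹ = (n * t * n⁻¹) * (n * (n * t * n⁻¹) * n⁻¹) by group,
        hinvol n hn t ht, hab _ hnt t ht]
    obtain ⟨c, hc, hcS⟩ := SetLike.exists_of_lt hlt
    have hidx : (S.subgroupOf N).index = 4 := by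
      have := (S.subgroupOf N).index_mul_card
      rw [Nat.card_congr (Subgroup.subgroupOfEquivOfLe hSN).toEquiv, hcard, hN36] at this
      omega
    have h2 : (S.subgroupOf N).index = 2 := by
      refine Subgroup.index_eq_two_iff.mpr ⟨⟨c, hc⟩, fun n => ?_⟩
      rw [xor_iff_iff_not]
      simp only [Subgroup.mem_subgroupOf, Subgroup.coe_mul]
      constructor
      · intro h hn
        exact hcS ((S.mul_mem_cancel_left hn).mp h)
      · intro hn
        refine hC _ fun t ht => ?_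
        rw [show (n : G) * c * t * ((n : G) * c)⁻¹ = (n : G) * (c * t * c⁻¹) * (n : G)⁻¹ by group,
          hinv c hc hcS t ht, hinv n n.2 hn _ (inv_mem ht), inv_inv]
    omega
  have hbhom : ∀ s t : G, b * (s * t) * b⁻¹ = (b * s * b⁻¹) * (b * t * b⁻¹) := fun s t => by group
  let F : Subgroup G :=
    { carrier := {t | t ∈ S ∧ b * t * b⁻¹ = t}
      one_mem' := ⟨one_mem S, by group⟩
      mul_mem' := fun {s t} hs ht => ⟨mul_mem hs.1 ht.1, by rw [hbhom, hs.2, ht.2]⟩
      inv_mem' := fun {s} hs => ⟨inv_mem hs.1, by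
        have h := hs.2
        conv_rhs => rw [← h]
        group⟩ }
  let I : Subgroup G :=
    { carrier := {t | t ∈ S ∧ b * t * b⁻¹ = t⁻¹}
      one_mem' := ⟨one_mem S, by group⟩
      mul_mem' := fun {s t} hs ht => ⟨mul_mem hs.1 ht.1, by
        rw [hbhom, hs.2, ht.2, mul_inv_rev, hab _ (inv_mem hs.1) _ (inv_mem ht.1)]⟩
      inv_mem' := fun {s} hs => ⟨inv_mem hs.1, by
        have h := hs.2
        rw [inv_inv]
        conv_rhs => rw [← inv_inv s, ← h]
        group⟩ }
  have hdisj : ∀ t, t ∈ F → t ∈ I → t = 1 := fun t htF htI => hself t htF.1 (htI.2.symm.trans htF.2)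
  obtain ⟨g₀, hg₀, hg₁⟩ := hnS b hbS
  have hg₀' := hconjS b hbN g₀ hg₀
  set g := g₀ * (b * g₀ * b⁻¹)⁻¹ with hg
  have hgI : g ∈ I := ⟨mul_mem hg₀ (inv_mem hg₀'), by
    rw [hg, hbhom,
      ← conj_inv, hinvol b hbN g₀ hg₀, mul_inv_rev,
      inv_inv]⟩
  have hgne : g ≠ 1 := fun h => hg₁ (by rw [hg, mul_inv_eq_one] at h; exact h.symm)
  clear_value g
  clear hg
  have hfF : f ∈ F := ⟨hfS, hbf⟩
  have hS3 : IsPGroup 3 S := T.isPGroup'
  have hFI : Nat.card F = 3 ∧ Nat.card I = 3 := by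
    obtain ⟨i, hi⟩ := IsPGroup.iff_card.mp (hS3.to_le (show F ≤ S from fun t ht => ht.1))
    obtain ⟨j, hj⟩ := IsPGroup.iff_card.mp (hS3.to_le (show I ≤ S from fun t ht => ht.1))
    have hi0 : i ≠ 0 := fun h => hf1 (by
      rw [h, pow_zero, Subgroup.card_eq_one] at hi
      exact Subgroup.mem_bot.mp (hi ▸ hfF))
    have hj0 : j ≠ 0 := fun h => hgne (by
      rw [h, pow_zero, Subgroup.card_eq_one] at hj
      exact Subgroup.mem_bot.mp (hj ▸ hgI))
    have hle : Nat.card (F × I) ≤ Nat.card S := by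
      refine Nat.card_le_card_of_injective (fun w => (⟨(w.1 : G) * w.2, mul_mem w.1.2.1 w.2.2.1⟩ : S)) ?_
      intro w w' h
      have h' : (w.1 : G) * w.2 = (w'.1 : G) * w'.2 := congrArg Subtype.val h
      have e : (w'.1 : G)⁻¹ * w.1 = (w'.2 : G) * (w.2 : G)⁻¹ := by
        rw [eq_mul_inv_iff_mul_eq, mul_assoc, h', inv_mul_cancel_left]
      have h1 := hdisj _ (mul_mem (inv_mem w'.1.2) w.1.2) (e ▸ mul_mem w'.2.2 (inv_mem w.2.2))
      rw [inv_mul_eq_one] at h1
      rw [← h1] at h'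
      exact Prod.ext (Subtype.ext h1.symm) (Subtype.ext (mul_left_cancel h'))
    rw [Nat.card_prod, hi, hj, hcard, ← pow_add] at hle
    have : i + j ≤ 2 := (Nat.pow_le_pow_iff_right (show 1 < 3 by norm_num)).mp (hle.trans (by norm_num))
    obtain ⟨rfl, rfl⟩ : i = 1 ∧ j = 1 := by omega
    exact ⟨by rw [hi, pow_one], by rw [hj, pow_one]⟩
  have hf3 := hexp f hfS
  have hg3 := hexp g hgI.1
  have hcoord : ∀ t ∈ S, ∃ i j, i < 3 ∧ j < 3 ∧ t = f ^ i * g ^ j := by
    intro t ht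
    have ht' := hconjS b hbN t ht
    have h1 : t * (b * t * b⁻¹) ∈ F := ⟨mul_mem ht ht', by rw [hbhom, hinvol b hbN t ht, hab _ ht' t ht]⟩
    have h2 : t * (b * t * b⁻¹)⁻¹ ∈ I := ⟨mul_mem ht (inv_mem ht'), by
      rw [hbhom,
        ← conj_inv, hinvol b hbN t ht, mul_inv_rev,
        inv_inv]⟩
    obtain ⟨i, hi, hfi⟩ := exists_pow_eq_of_card_three hFI.1 hfF hf1 (mul_mem h1 h1)
    obtain ⟨j, hj, hgj⟩ := exists_pow_eq_of_card_three hFI.2 hgI hgne (mul_mem h2 h2)
    refine ⟨i, j, hi, hj, ?_⟩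
    rw [← hfi, ← hgj]
    set c := b * t * b⁻¹
    have hct : Commute t c := hab t ht c ht'
    have e : t * c * (t * c) * (t * c⁻¹ * (t * c⁻¹)) = t ^ 4 := by
      have h1' : t * c * (t * c) = t ^ 2 * c ^ 2 := by rw [← pow_two, hct.mul_pow]
      have h2' : t * c⁻¹ * (t * c⁻¹) = t ^ 2 * (c ^ 2)⁻¹ := by
        rw [← pow_two, (hct.inv_right).mul_pow, inv_pow]
      rw [h1', h2']
      calc t ^ 2 * c ^ 2 * (t ^ 2 * (c ^ 2)⁻¹) = t ^ 2 * (c ^ 2 * t ^ 2) * (c ^ 2)⁻¹ := by group
        _ = t ^ 2 * (t ^ 2 * c ^ 2) * (c ^ 2)⁻¹ := by rw [(hct.pow_pow 2 2).eq]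
        _ = t ^ 4 := by group
    rw [e, pow_succ, hexp t ht, one_mul]
  have huniq : ∀ i j k l : ℕ, f ^ i * g ^ j = f ^ k * g ^ l → i % 3 = k % 3 ∧ j % 3 = l % 3 := by
    intro i j k l h
    have e : (f ^ k)⁻¹ * f ^ i = g ^ l * (g ^ j)⁻¹ := by
      rw [eq_mul_inv_iff_mul_eq, mul_assoc, h, inv_mul_cancel_left]
    have h1 := hdisj _ (mul_mem (inv_mem (pow_mem hfF k)) (pow_mem hfF i))
      (e ▸ mul_mem (pow_mem hgI l) (inv_mem (pow_mem hgI j)))
    rw [inv_mul_eq_one] at h1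
    rw [← h1] at h
    have h2 : g ^ j = g ^ l := mul_left_cancel h
    have hof : orderOf f = 3 := orderOf_eq_prime hf3 hf1
    have hog : orderOf g = 3 := orderOf_eq_prime hg3 hgne
    rw [pow_eq_pow_iff_modEq, hof] at h1
    rw [pow_eq_pow_iff_modEq, hog] at h2
    exact ⟨h1.symm, h2⟩
  have hsign : ∀ n ∈ N, (n * f * n⁻¹ = f ∨ n * f * n⁻¹ = f⁻¹) ∧ (n * g * n⁻¹ = g ∨ n * g * n⁻¹ = g⁻¹) := by
    intro n hn
    set c := n⁻¹ * b * n * b⁻¹ with hc
    have hcS : c ∈ S := by
      have hn2 : n * n ∈ S := hsq n hn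
      have h1 : (n⁻¹ * b) * (n⁻¹ * b) ∈ S := hsq _ (mul_mem (inv_mem hn) hbN)
      have h2 : b * b ∈ S := hsq b hbN
      have h3 : b⁻¹ * (n * n) * b ∈ S := by
        have := hconjS b⁻¹ (inv_mem hbN) _ hn2
        rwa [inv_inv] at this
      have e : c = (n⁻¹ * b) * (n⁻¹ * b) * (b⁻¹ * (n * n) * b) * (b * b)⁻¹ := by rw [hc]; group
      rw [e]; exact mul_mem (mul_mem h1 h3) (inv_mem h2)
    have hcomm : ∀ t ∈ S, b * (n * t * n⁻¹) * b⁻¹ = n * (b * t * b⁻¹) * n⁻¹ := by
      intro t ht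
      have := hcentral c hcS _ (hconjS b hbN t ht)
      calc b * (n * t * n⁻¹) * b⁻¹ = n * (c * (b * t * b⁻¹) * c⁻¹) * n⁻¹ := by rw [hc]; group
        _ = _ := by rw [this]
    constructor
    · have hm : n * f * n⁻¹ ∈ F := ⟨hconjS n hn f hfS, by rw [hcomm f hfS, hbf]⟩
      obtain ⟨i, hi, he⟩ := exists_pow_eq_of_card_three hFI.1 hfF hf1 hm
      interval_cases i
      · rw [pow_zero] at he; exact absurd (conj_eq_one_iff.mp he) hf1
      · left; rwa [pow_one] at he
      · right; rw [he]; exact eq_inv_of_mul_eq_one_left (by rw [← pow_succ]; exact hf3)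
    · have hm : n * g * n⁻¹ ∈ I := ⟨hconjS n hn g hgI.1, by rw [hcomm g hgI.1, hgI.2]; group⟩
      obtain ⟨i, hi, he⟩ := exists_pow_eq_of_card_three hFI.2 hgI hgne hm
      interval_cases i
      · rw [pow_zero] at he; exact absurd (conj_eq_one_iff.mp he) hgne
      · left; rwa [pow_one] at he
      · right; rw [he]; exact eq_inv_of_mul_eq_one_left (by rw [← pow_succ]; exact hg3)
  have hfixS : ∀ n, n * f * n⁻¹ = f → n * g * n⁻¹ = g → n ∈ S := fun n h1 h2 => hC n fun t ht => by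
    obtain ⟨i, j, -, -, rfl⟩ := hcoord t ht
    rw [show n * (f ^ i * g ^ j) * n⁻¹ = (n * f ^ i * n⁻¹) * (n * g ^ j * n⁻¹) by group, ← conj_pow, ← conj_pow, h1, h2]
  have hbg : b * g * b⁻¹ = g⁻¹ := hgI.2
  have hCf : ∀ n, n ∈ N → n * f * n⁻¹ = f → n ∈ S ∨ n * b ∈ S := fun n hn h => by
    rcases (hsign n hn).2 with h2 | h2
    · exact Or.inl (hfixS n h h2)
    · refine Or.inr (hfixS _ ?_ ?_)
      · rw [show n * b * f * (n * b)⁻¹ = n * (b * f * b⁻¹) * n⁻¹ by group, hbf, h]
      · rw [show n * b * g * (n * b)⁻¹ = n * (b * g * b⁻¹) * n⁻¹ by group, hbg,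
          show n * g⁻¹ * n⁻¹ = (n * g * n⁻¹)⁻¹ by group, h2, inv_inv]
  -- an element inverting `f` and fixing `g`
  obtain ⟨a, haN, haS, haf, hag⟩ : ∃ a ∈ N, a ∉ S ∧ a * f * a⁻¹ = f⁻¹ ∧ a * g * a⁻¹ = g := by
    obtain ⟨n, hn, hnf⟩ : ∃ n ∈ N, n * f * n⁻¹ = f⁻¹ := by
      by_contra hcon
      push Not at hcon
      have hidx : (S.subgroupOf N).index = 4 := by
        have := (S.subgroupOf N).index_mul_card
        rw [Nat.card_congr (Subgroup.subgroupOfEquivOfLe hSN).toEquiv, hcard, hN36] at this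
        omega
      have h2 : (S.subgroupOf N).index = 2 := by
        refine Subgroup.index_eq_two_iff.mpr ⟨⟨b, hbN⟩, fun n => ?_⟩
        rw [xor_iff_iff_not]
        simp only [Subgroup.mem_subgroupOf, Subgroup.coe_mul]
        constructor
        · intro h hn
          exact hbS ((S.mul_mem_cancel_left hn).mp h)
        · intro hn
          exact (hCf n n.2 ((hsign n n.2).1.resolve_right (hcon n n.2))).resolve_left hn
      omega
    rcases (hsign n hn).2 with h2 | h2
    · exact ⟨n, hn, fun h => hf1 (hself f hfS (hnf.symm.trans (hcentral n h f hfS))), hnf, h2⟩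
    · have hf' : n * b * f * (n * b)⁻¹ = f⁻¹ := by
        rw [show n * b * f * (n * b)⁻¹ = n * (b * f * b⁻¹) * n⁻¹ by group, hbf, hnf]
      refine ⟨n * b, mul_mem hn hbN, fun h => hf1 (hself f hfS (hf'.symm.trans (hcentral _ h f hfS))), hf', ?_⟩
      rw [show n * b * g * (n * b)⁻¹ = n * (b * g * b⁻¹) * n⁻¹ by group, hbg,
        show n * g⁻¹ * n⁻¹ = (n * g * n⁻¹)⁻¹ by group, h2, inv_inv]
  set e := f * g with he
  have heS : e ∈ S := mul_mem hfS hgI.1
  have he1 : e ≠ 1 := fun h => by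
    have := huniq 1 1 0 0 (by simpa [he] using h); omega
  have hgS : g ∈ S := hgI.1
  -- centralisers
  have hcentG : ∀ t ∈ S, t ≠ 1 → ∀ x : G, x * t * x⁻¹ = t → x ∈ N := fun t ht ht1 x hx =>
    hloc t ht ht1 x (mul_inv_eq_iff_eq_mul.mp hx)
  have hcardC : ∀ (t c : G), t ∈ S → c * t * c⁻¹ = t → c ∉ S →
      (∀ x, x * t * x⁻¹ = t → x ∈ S ∨ x * c ∈ S) → Nat.card (Subgroup.centralizer ({t} : Set G)) = 18 := by
    intro t c ht hct hcS hall
    have hm : ∀ x, x ∈ Subgroup.centralizer ({t} : Set G) ↔ x * t * x⁻¹ = t := fun x => by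
      rw [Subgroup.mem_centralizer_singleton_iff, mul_inv_eq_iff_eq_mul]
    have hle : S ≤ Subgroup.centralizer ({t} : Set G) := fun x hx => (hm x).mpr (hcentral x hx t ht)
    have h2 : (S.subgroupOf (Subgroup.centralizer ({t} : Set G))).index = 2 := by
      refine Subgroup.index_eq_two_iff.mpr ⟨⟨c, (hm c).mpr hct⟩, fun x => ?_⟩
      rw [xor_iff_iff_not]
      simp only [Subgroup.mem_subgroupOf, Subgroup.coe_mul]
      exact ⟨fun h hn => hcS ((S.mul_mem_cancel_left hn).mp h),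
        fun hn => (hall x ((hm x).mp x.2)).resolve_left hn⟩
    rw [← Subgroup.index_mul_card (S.subgroupOf (Subgroup.centralizer ({t} : Set G))), h2,
      Nat.card_congr (Subgroup.subgroupOfEquivOfLe hle).toEquiv, hcard]
  have hC1 : Nat.card (Subgroup.centralizer ({f} : Set G)) = 18 :=
    hcardC f b hfS hbf hbS fun x hx => hCf x (hcentG f hfS hf1 x hx) hx
  have hC2 : Nat.card (Subgroup.centralizer ({g} : Set G)) = 18 := by
    refine hcardC g a hgS hag haS fun x hx => ?_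
    have hxN := hcentG g hgS hgne x hx
    rcases (hsign x hxN).1 with h1 | h1
    · exact Or.inl (hfixS x h1 hx)
    · refine Or.inr (hfixS _ ?_ ?_)
      · rw [show x * a * f * (x * a)⁻¹ = x * (a * f * a⁻¹) * x⁻¹ by group, haf,
          show x * f⁻¹ * x⁻¹ = (x * f * x⁻¹)⁻¹ by group, h1, inv_inv]
      · rw [show x * a * g * (x * a)⁻¹ = x * (a * g * a⁻¹) * x⁻¹ by group, hag, hx]
  -- normal forms of conjugates
  have hinvf : f⁻¹ = f ^ 2 := (eq_inv_of_mul_eq_one_left (by rw [← pow_succ]; exact hf3)).symm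
  have hinvg : g⁻¹ = g ^ 2 := (eq_inv_of_mul_eq_one_left (by rw [← pow_succ]; exact hg3)).symm
  have hclf : ∀ x : G, x * f * x⁻¹ ∈ S → ∃ i, (i = 1 ∨ i = 2) ∧ x * f * x⁻¹ = f ^ i * g ^ 0 := fun x hx => by
    rcases (hsign x (hfus x f hfS hf1 hx)).1 with h | h
    · exact ⟨1, Or.inl rfl, by rw [h]; simp⟩
    · exact ⟨2, Or.inr rfl, by rw [h, hinvf]; simp⟩
  have hclg : ∀ x : G, x * g * x⁻¹ ∈ S → ∃ j, (j = 1 ∨ j = 2) ∧ x * g * x⁻¹ = f ^ 0 * g ^ j := fun x hx => by
    rcases (hsign x (hfus x g hgS hgne hx)).2 with h | h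
    · exact ⟨1, Or.inl rfl, by rw [h]; simp⟩
    · exact ⟨2, Or.inr rfl, by rw [h, hinvg]; simp⟩
  have hcle : ∀ x : G, x * e * x⁻¹ ∈ S → ∃ i j, (i = 1 ∨ i = 2) ∧ (j = 1 ∨ j = 2) ∧ x * e * x⁻¹ = f ^ i * g ^ j := by
    intro x hx
    have hxN := hfus x e heS he1 hx
    obtain ⟨i, hi, hfi⟩ := hclf x (hconjS x hxN f hfS)
    obtain ⟨j, hj, hgj⟩ := hclg x (hconjS x hxN g hgS)
    exact ⟨i, j, hi, hj, by
      rw [he, show x * (f * g) * x⁻¹ = (x * f * x⁻¹) * (x * g * x⁻¹) by group, hfi, hgj]; simp⟩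
  have hC3 : Nat.card (Subgroup.centralizer ({e} : Set G)) = 9 := by
    rw [← hcard]
    congr 1
    refine congrArg (fun H : Subgroup G => ↥H) (le_antisymm (fun x hx => ?_) fun x hx => ?_)
    · have hx' : x * e * x⁻¹ = e := by
        rw [mul_inv_eq_iff_eq_mul]; exact Subgroup.mem_centralizer_singleton_iff.mp hx
      have hxN := hcentG e heS he1 x hx'
      obtain ⟨i, hi, hfi⟩ := hclf x (hconjS x hxN f hfS)
      obtain ⟨j, hj, hgj⟩ := hclg x (hconjS x hxN g hgS)
      have h := huniq i j 1 1 (by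
        rw [pow_one, pow_one, ← he, ← hx', he,
          show x * (f * g) * x⁻¹ = (x * f * x⁻¹) * (x * g * x⁻¹) by group, hfi, hgj]; simp)
      obtain ⟨hi', hj'⟩ : i = 1 ∧ j = 1 := by omega
      refine hfixS x ?_ ?_
      · rw [hfi, hi']; simp
      · rw [hgj, hj']; simp
    · exact Subgroup.mem_centralizer_singleton_iff.mpr (hab x hx e heS)
  -- distinct classes
  have hnc1 : ¬ IsConj f g := fun h => by
    obtain ⟨x, hx⟩ := isConj_iff.mp h
    obtain ⟨i, hi, he'⟩ := hclf x (hx ▸ hgS)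
    have := huniq i 0 0 1 (by rw [← he', hx]; simp); omega
  have hnc2 : ¬ IsConj f e := fun h => by
    obtain ⟨x, hx⟩ := isConj_iff.mp h
    obtain ⟨i, hi, he'⟩ := hclf x (hx ▸ heS)
    have := huniq i 0 1 1 (by rw [← he', hx, he]; simp); omega
  have hnc3 : ¬ IsConj g e := fun h => by
    obtain ⟨x, hx⟩ := isConj_iff.mp h
    obtain ⟨j, hj, he'⟩ := hclg x (hx ▸ heS)
    have := huniq 0 j 1 1 (by rw [← he', hx, he]; simp); omega
  have hrealf : IsConj f f⁻¹ := isConj_iff.mpr ⟨a, haf⟩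
  have hrealg : IsConj g g⁻¹ := isConj_iff.mpr ⟨b, hbg⟩
  have hreale : IsConj e e⁻¹ := isConj_iff.mpr ⟨a * b, by
    rw [he, show a * b * (f * g) * (a * b)⁻¹ = (a * (b * f * b⁻¹) * a⁻¹) * (a * (b * g * b⁻¹) * a⁻¹) by group,
      hbf, haf, hbg, show a * g⁻¹ * a⁻¹ = (a * g * a⁻¹)⁻¹ by group, hag, mul_inv_rev,
      hab _ (inv_mem hfS) _ (inv_mem hgS)]⟩
  -- triangles
  have hcub : ∀ (t x : G), t ∈ S → IsConj t x → x ^ 3 = 1 := fun t x ht h => by
    obtain ⟨c, rfl⟩ := isConj_iff.mp h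
    rw [conj_pow, hexp t ht, mul_one, mul_inv_cancel]
  have htri : ∀ (x y z : G) (s : G), x * y = z → z ∈ S → z ≠ 1 → s ∈ S → s ≠ 1 → IsConj s x → x ^ 3 = 1 → y ^ 3 = 1 →
      (x ∈ S ∧ y ∈ S) ∨ (IsConj y x ∧ IsConj z x⁻¹) := by
    intro x y z s hxy hzS hz1 hsS hs1 hsx hx3 hy3
    set u := x⁻¹ * y with hu
    set v := y * x⁻¹ with hv
    have hz3 : x * y * (x * y) * (x * y) = 1 := by
      rw [hxy, ← pow_two, ← pow_succ]; exact hexp z hzS
    have hxi : x⁻¹ = x * x := inv_eq_of_mul_eq_one_right (by rw [← mul_assoc, ← pow_two, ← pow_succ]; exact hx3)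
    have hyi : y⁻¹ = y * y := inv_eq_of_mul_eq_one_right (by rw [← mul_assoc, ← pow_two, ← pow_succ]; exact hy3)
    have hxyx : x * y * x = y⁻¹ * x⁻¹ * y⁻¹ := by
      calc x * y * x = (x * y * (x * y) * (x * y)) * (y⁻¹ * x⁻¹ * y⁻¹) := by group
        _ = _ := by rw [hz3, one_mul]
    have huv : u * v = x⁻¹ * y⁻¹ * x⁻¹ := by
      rw [hu, hv, hyi]; group
    have hvu : v * u = x⁻¹ * y⁻¹ * x⁻¹ := by
      calc v * u = y * (x * x)⁻¹ * y := by rw [hu, hv]; group
        _ = y * x * y := by rw [← hxi, inv_inv]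
        _ = x⁻¹ * (x * y * x * y) := by group
        _ = x⁻¹ * (y⁻¹ * x⁻¹ * y⁻¹ * y) := by rw [hxyx]
        _ = _ := by group
    have hcomm : Commute u v := huv.trans hvu.symm
    have hxu : x * u * x⁻¹ = v := by rw [hu, hv]; group
    have hxx : x⁻¹ * x⁻¹ = x := by rw [← mul_inv_rev, ← hxi, inv_inv]
    have hxv : x * v * x⁻¹ = (u * v)⁻¹ := by
      rw [huv]
      calc x * v * x⁻¹ = x * y * (x⁻¹ * x⁻¹) := by rw [hv]; group
        _ = x * y * x := by rw [hxx]
        _ = _ := by group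
    have hy : y = x * u := by rw [hu]; group
    have hix : x⁻¹ * u * x = (u * v)⁻¹ := by
      calc x⁻¹ * u * x = (x * x) * u * (x⁻¹ * x⁻¹) := by rw [← hxi, hxx]
        _ = x * (x * u * x⁻¹) * x⁻¹ := by simp only [mul_assoc]
        _ = _ := by rw [hxu, hxv]
    by_cases h3 : 3 ∣ orderOf u
    · left
      set w := u ^ (orderOf u / 3) with hw
      have hwo : orderOf w = 3 := by
        rw [hw]; exact orderOf_pow_orderOf_div (orderOf_pos u).ne' h3
      have hw3 : w ^ 3 = 1 := hwo ▸ pow_orderOf_eq_one w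
      have hw1 : w ≠ 1 := fun h => by rw [h, orderOf_one] at hwo; omega
      set w' := v ^ (orderOf u / 3) with hw'
      have hxw : x * w * x⁻¹ = w' := by rw [hw, ← conj_pow, hxu]
      have hxw' : x * w' * x⁻¹ = (w * w')⁻¹ := by rw [hw', ← conj_pow, hxv, inv_pow, hcomm.mul_pow]
      have hww : Commute w w' := hcomm.pow_pow _ _
      have hw'3 : w' ^ 3 = 1 := by rw [← hxw, conj_pow, hw3, mul_one, mul_inv_cancel]
      set E := Subgroup.closure ({w, w'} : Set G) with hE
      haveI : IsMulCommutative E := Subgroup.isMulCommutative_closure (by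
        rintro p (rfl | rfl) q (rfl | rfl)
        exacts [rfl, hww.eq, hww.eq.symm, rfl])
      have hEp : IsPGroup 3 E := by
        intro p
        refine ⟨1, Subtype.ext ?_⟩
        obtain ⟨p, hp⟩ := p
        show p ^ 3 ^ 1 = 1
        rw [pow_one]
        induction hp using Subgroup.closure_induction with
        | mem q hq => rcases hq with rfl | rfl; exacts [hw3, hw'3]
        | one => exact one_pow 3
        | mul p q hp hq ihp ihq =>
          rw [(show Commute p q from congrArg Subtype.val (IsMulCommutative.is_comm.comm (⟨p, hp⟩ : E) ⟨q, hq⟩)).mul_pow,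
            ihp, ihq, mul_one]
        | inv p hp ihp => rw [inv_pow, ihp, inv_one]
      have hxE : ∀ p ∈ E, x * p * x⁻¹ ∈ E := by
        intro p hp
        have hsub : E ≤ E.comap (MulAut.conj x).toMonoidHom := by
          rw [hE, Subgroup.closure_le]
          rintro q (rfl | rfl)
          · show x * w * x⁻¹ ∈ E
            rw [hxw]; exact Subgroup.subset_closure (by simp)
          · show x * w' * x⁻¹ ∈ E
            rw [hxw']; exact inv_mem (mul_mem (Subgroup.subset_closure (by simp)) (Subgroup.subset_closure (by simp)))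
        exact hsub hp
      have hxN' : Subgroup.zpowers x ≤ Subgroup.normalizer (E : Set G) := by
        rw [Subgroup.zpowers_le]
        refine Subgroup.mem_normalizer_iff.mpr fun p => ⟨hxE p, fun hp => ?_⟩
        have h2 := hxE _ (hxE _ hp)
        rwa [show x * (x * (x * p * x⁻¹) * x⁻¹) * x⁻¹ = x ^ 3 * p * (x ^ 3)⁻¹ by
          rw [pow_succ, pow_two]; group, hx3, one_mul, inv_one,
          mul_one] at h2
      have hxp : IsPGroup 3 (Subgroup.zpowers x) := by
        rintro ⟨p, hp⟩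
        obtain ⟨k, rfl⟩ := Subgroup.mem_zpowers_iff.mp hp
        refine ⟨1, Subtype.ext ?_⟩
        show (x ^ k) ^ (3 ^ 1) = 1
        rw [pow_one, ← zpow_natCast, ← zpow_mul, mul_comm, zpow_mul, zpow_natCast, hx3, one_zpow]
      obtain ⟨R, hR⟩ := (hxp.to_sup_of_normal_right' hEp hxN').exists_le_sylow
      obtain ⟨c, hc⟩ := MulAction.exists_smul_eq G T R
      have hRmem : ∀ p, p ∈ (R : Subgroup G) → c⁻¹ * p * c ∈ S := by
        intro p hp
        rw [← hc] at hp
        obtain ⟨q, hq, rfl⟩ := hp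
        show c⁻¹ * (c * q * c⁻¹) * c ∈ S
        have e : c⁻¹ * (c * q * c⁻¹) * c = q := by group
        rw [e]; exact hq
      have hwR := hRmem w (hR (Subgroup.mem_sup_right (Subgroup.subset_closure (by simp))))
      have hxR := hRmem x (hR (Subgroup.mem_sup_left (Subgroup.mem_zpowers x)))
      have hwn : c⁻¹ * w * c ≠ 1 := fun h => hw1 (by
        calc w = c * (c⁻¹ * w * c) * c⁻¹ := by group
          _ = 1 := by rw [h]; group)
      have hin : ∀ p : G, Commute p w → c⁻¹ * p * c ∈ N := fun p hp => hloc _ hwR hwn _ (by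
        calc c⁻¹ * p * c * (c⁻¹ * w * c) = c⁻¹ * (p * w) * c := by group
          _ = c⁻¹ * (w * p) * c := by rw [hp.eq]
          _ = _ := by group)
      have huN := hin u (Commute.pow_right (Commute.refl u) _)
      have hyR : c⁻¹ * y * c ∈ S := by
        refine hN3 _ ?_ ?_
        · rw [hy, show c⁻¹ * (x * u) * c = (c⁻¹ * x * c) * (c⁻¹ * u * c) by group]
          exact mul_mem (hSN hxR) huN
        · have h := conj_pow (i := 3) (a := c⁻¹) (b := y)
          rw [inv_inv] at h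
          rw [h, hy3, mul_one, inv_mul_cancel]
      have hzR : c⁻¹ * z * c ∈ S := by
        rw [← hxy, show c⁻¹ * (x * y) * c = (c⁻¹ * x * c) * (c⁻¹ * y * c) by group]; exact mul_mem hxR hyR
      have hcN : c⁻¹ ∈ N := hfus c⁻¹ z hzS hz1 (by rwa [inv_inv])
      have hback : ∀ p, c⁻¹ * p * c ∈ S → p ∈ S := fun p hp => by
        have := hconjS c (inv_mem_iff.mp hcN) _ hp
        rwa [show c * (c⁻¹ * p * c) * c⁻¹ = p by group] at this
      exact ⟨hback x hxR, hback y hyR⟩
    · right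
      obtain ⟨k, hk⟩ : ∃ k, (u ^ 3) ^ k = u := exists_pow_eq_self_of_coprime
        ((Nat.prime_three.coprime_iff_not_dvd).mpr h3)
      constructor
      · symm
        refine isConj_iff.mpr ⟨(v * u⁻¹) ^ k, ?_⟩
        have h1 : x⁻¹ * (v * u⁻¹) * x = u ^ 2 * v := by
          calc x⁻¹ * (v * u⁻¹) * x = (x⁻¹ * v * x) * (x⁻¹ * u * x)⁻¹ := by group
            _ = u * (u * v) := by rw [hix, inv_inv, show x⁻¹ * v * x = u by rw [← hxu]; group]
            _ = u ^ 2 * v := by rw [pow_two]; exact (mul_assoc u u v).symm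
        have h2 : x⁻¹ * (v * u⁻¹) ^ k * x = (u ^ 2 * v) ^ k := by
          have := conj_pow (i := k) (a := x⁻¹) (b := v * u⁻¹)
          rw [inv_inv] at this
          rw [← this, h1]
        have h3' : (u ^ 2 * v) ^ k * ((v * u⁻¹) ^ k)⁻¹ = u := by
          have hc1 : Commute (u ^ 2 * v) (v * u⁻¹)⁻¹ :=
            ((((hcomm.pow_left 2).mul_left (Commute.refl v)).mul_right
              ((((Commute.refl u).pow_left 2).mul_left hcomm.symm).inv_right))).inv_right
          rw [← inv_pow, ← hc1.mul_pow]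
          conv_rhs => rw [← hk]
          congr 1
          rw [mul_inv_rev, inv_inv]
          calc u ^ 2 * v * (u * v⁻¹) = u ^ 2 * (v * u) * v⁻¹ := by group
            _ = u ^ 2 * (u * v) * v⁻¹ := by rw [hcomm.eq]
            _ = u ^ 3 := by group
        calc (v * u⁻¹) ^ k * x * ((v * u⁻¹) ^ k)⁻¹
            = x * ((x⁻¹ * (v * u⁻¹) ^ k * x) * ((v * u⁻¹) ^ k)⁻¹) := by group
          _ = y := by rw [h2, h3', hy]
      · symm
        refine isConj_iff.mpr ⟨((u ^ 2 * v) ^ k)⁻¹, ?_⟩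
        have h1 : x * (u ^ 2 * v) * x⁻¹ = v * u⁻¹ := by
          calc x * (u ^ 2 * v) * x⁻¹ = (x * u * x⁻¹) * (x * u * x⁻¹) * (x * v * x⁻¹) := by rw [pow_two]; group
            _ = v * v * (u * v)⁻¹ := by rw [hxu, hxv]
            _ = v * u⁻¹ := by group
        have h2 : x * ((u ^ 2 * v) ^ k)⁻¹ * x⁻¹ = ((v * u⁻¹) ^ k)⁻¹ := by
          rw [← inv_pow, ← conj_pow, ← inv_pow]
          congr 1
          rw [← h1]; group
        have hc1 : Commute (v * u⁻¹) (u ^ 2 * v) :=
          ((hcomm.symm.pow_right 2).mul_right (Commute.refl v)).mul_left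
            ((((Commute.refl u).pow_right 2).mul_right hcomm).inv_left)
        have h3' : ((v * u⁻¹) ^ k)⁻¹ * (u ^ 2 * v) ^ k = u := by
          rw [← inv_pow, ← hc1.inv_left.mul_pow]
          conv_rhs => rw [← hk]
          congr 1
          rw [(hcomm.pow_left 2).eq, mul_inv_rev, inv_inv, mul_assoc u v⁻¹, inv_mul_cancel_left, ← pow_succ']
        have hzu : z = x⁻¹ * u := by
          rw [hu, ← mul_assoc, hxx, hxy]
        calc ((u ^ 2 * v) ^ k)⁻¹ * x⁻¹ * ((u ^ 2 * v) ^ k)⁻¹⁻¹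
            = x⁻¹ * ((x * ((u ^ 2 * v) ^ k)⁻¹ * x⁻¹) * (u ^ 2 * v) ^ k) := by group
          _ = z := by rw [h2, h3', hzu]
  haveI := Fintype.ofFinite G
  haveI := Fintype.ofFinite (Cfsg.IrrCharacter G)
  -- integer values
  have hval : ∀ (χ : Cfsg.IrrCharacter G) (t : G), t ≠ 1 → t ^ 3 = 1 → IsConj t t⁻¹ →
      ∃ r : ℤ, (χ : G → ℂ) t = r ∧ (3 : ℤ) ∣ (Cfsg.charDegree (χ : G → ℂ) : ℤ) - r := by
    intro χ t ht1 ht3 htr
    have hchar := CfsgLib.Char.IsIrr.isCharacter χ.2
    set Z := Subgroup.zpowers t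
    haveI := Fintype.ofFinite Z
    obtain ⟨m, hm⟩ := CfsgLib.Char.IsChar.classInner_eq_natCast
      (CfsgLib.Char.IsChar.restrict Z hchar) (CfsgLib.Char.isCharacter_one (G := Z))
    have hot : orderOf t = 3 := orderOf_eq_prime ht3 ht1
    have hsumZ : ∑ p : Z, (χ : G → ℂ) p = (χ : G → ℂ) 1 + 2 * (χ : G → ℂ) t := by
      have himg : (Finset.univ : Finset Z).map (Function.Embedding.subtype _) = {1, t, t⁻¹} := by
        ext p
        simp only [Finset.mem_map, Finset.mem_univ, true_and, Function.Embedding.coe_subtype, Finset.mem_insert,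
          Finset.mem_singleton]
        constructor
        · rintro ⟨⟨p, hp⟩, rfl⟩
          obtain ⟨k, hk⟩ := mem_powers_iff_mem_zpowers.mpr hp
          have hk' : t ^ k = t ^ (k % 3) := pow_three_one_iff ht3 (Nat.mod_mod k 3).symm
          have hk2 : k % 3 = 0 ∨ k % 3 = 1 ∨ k % 3 = 2 := by omega
          rcases hk2 with h | h | h <;> rw [h] at hk'
          · left; exact hk.symm.trans (hk'.trans (pow_zero t))
          · right; left; exact hk.symm.trans (hk'.trans (pow_one t))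
          · right; right; exact hk.symm.trans (hk'.trans (eq_inv_of_mul_eq_one_left (by rw [← pow_succ]; exact ht3)))
        · rintro (h | h | h) <;> rw [h]
          · exact ⟨⟨1, one_mem Z⟩, rfl⟩
          · exact ⟨⟨t, Subgroup.mem_zpowers t⟩, rfl⟩
          · exact ⟨⟨t⁻¹, inv_mem (Subgroup.mem_zpowers t)⟩, rfl⟩
      have h := Finset.sum_map (Finset.univ : Finset Z) (Function.Embedding.subtype _) (fun p => (χ : G → ℂ) p)
      rw [himg] at h
      refine h.symm.trans ?_
      have hne : t ≠ t⁻¹ := fun h => by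
        have h2 : t * t = 1 := by nth_rw 1 [h]; exact inv_mul_cancel t
        rw [pow_succ, pow_two, h2, one_mul] at ht3; exact ht1 ht3
      rw [Finset.sum_insert (by simp [ht1.symm, (inv_ne_one.mpr ht1).symm]),
        Finset.sum_pair hne, CfsgLib.CharDegree.apply_eq_of_isConj χ htr.symm]
      ring
    have hcardZ : Nat.card Z = 3 := by rw [Nat.card_zpowers, hot]
    rw [Cfsg.classInner, hcardZ] at hm
    simp only [map_one, mul_one] at hm
    rw [hsumZ] at hm
    set d := Cfsg.charDegree (χ : G → ℂ)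
    have hd : (χ : G → ℂ) 1 = (d : ℂ) := (CfsgLib.CharDegree.cast_charDegree hchar).symm
    rw [hd] at hm
    have hrat : (χ : G → ℂ) t = ((((3 * m : ℕ) : ℚ) - d) / 2 : ℚ) := by
      push_cast
      linear_combination (3 / 2 : ℂ) * hm
    have hint := CfsgLib.Char.IsChar.isIntegral hchar t
    rw [hrat] at hint
    have hint' : IsIntegral ℤ ((((3 * m : ℕ) : ℚ) - d) / 2) := by
      refine (isIntegral_algebraMap_iff (algebraMap ℚ ℂ).injective).mp ?_
      simpa using hint
    obtain ⟨r, hr⟩ := IsIntegrallyClosed.isIntegral_iff.mp hint'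
    refine ⟨r, by rw [hrat, ← hr]; simp, ?_⟩
    have hr' : (r : ℚ) = (((3 * m : ℕ) : ℚ) - d) / 2 := by rw [← hr]; simp
    have hr2 : 2 * r = ((3 * m : ℕ) : ℤ) - d := by
      have : (2 * r : ℚ) = ((3 * m : ℕ) : ℚ) - d := by rw [hr']; ring
      exact_mod_cast this
    refine ⟨(m : ℤ) - r, ?_⟩
    push_cast at hr2
    linarith
  choose X hX hX3 using fun χ => hval χ f hf1 hf3 hrealf
  choose Y hY hY3 using fun χ => hval χ g hgne hg3 hrealg
  choose Zv hZ hZ3 using fun χ => hval χ e he1 (hexp e heS) hreale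
  set D := fun χ : Cfsg.IrrCharacter G => (Cfsg.charDegree (χ : G → ℂ) : ℤ)
  have hD : ∀ χ : Cfsg.IrrCharacter G, (χ : G → ℂ) 1 = (D χ : ℂ) := fun χ => by
    simp only [D, Int.cast_natCast]
    exact (CfsgLib.CharDegree.cast_charDegree (CfsgLib.Char.IsIrr.isCharacter χ.2)).symm
  have hDpos : ∀ χ, 0 < D χ := fun χ => by
    obtain ⟨n, hn, hn'⟩ := CfsgLib.Char.IsIrr.exists_degree χ.2
    rw [hD] at hn'
    have : D χ = n := by exact_mod_cast hn'
    omega
  have horth : ∀ (p q : G) (A B : Cfsg.IrrCharacter G → ℤ), (∀ χ : Cfsg.IrrCharacter G, (χ : G → ℂ) p = A χ) →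
      (∀ χ : Cfsg.IrrCharacter G, (χ : G → ℂ) q = B χ) → (∑ χ, A χ * B χ : ℤ) =
        if IsConj p q then (Nat.card (Subgroup.centralizer ({p} : Set G)) : ℤ) else 0 := by
    intro p q A B hA hB
    have h := CfsgLib.Char.column_orthogonality p q
    simp only [hA, hB, map_intCast] at h
    split_ifs with hpq <;> simp only [hpq, if_true, if_false] at h <;> exact_mod_cast h
  have hxx := horth f f X X hX hX
  have hyy := horth g g Y Y hY hY
  have hzz := horth e e Zv Zv hZ hZ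
  have hxy := horth f g X Y hX hY
  have hxz := horth f e X Zv hX hZ
  have hyz := horth g e Y Zv hY hZ
  rw [if_pos (IsConj.refl _), hC1] at hxx
  rw [if_pos (IsConj.refl _), hC2] at hyy
  rw [if_pos (IsConj.refl _), hC3] at hzz
  rw [if_neg hnc1] at hxy
  rw [if_neg hnc2] at hxz
  rw [if_neg hnc3] at hyz
  have hne1 : ∀ t : G, t ≠ 1 → ¬ IsConj 1 t := fun t ht h => ht (isConj_one_right.mp h)
  have hdx := horth 1 f D X hD hX
  have hdy := horth 1 g D Y hD hY
  have hdz := horth 1 e D Zv hD hZ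
  rw [if_neg (hne1 f hf1)] at hdx
  rw [if_neg (hne1 g hgne)] at hdy
  rw [if_neg (hne1 e he1)] at hdz
  have hdd := horth 1 1 D D hD hD
  rw [if_pos (IsConj.refl _), show Subgroup.centralizer ({1} : Set G) = ⊤ by
    ext x; simp [Subgroup.mem_centralizer_singleton_iff], Subgroup.card_top] at hdd
  -- structure constants
  have hGpos : (Nat.card G : ℂ) ≠ 0 := Nat.cast_ne_zero.mpr Nat.card_pos.ne'
  have hinv : ∀ (χ : Cfsg.IrrCharacter G) (t : G), IsConj t t⁻¹ → (χ : G → ℂ) t⁻¹ = (χ : G → ℂ) t :=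
    fun χ t h => CfsgLib.CharDegree.apply_eq_of_isConj χ h.symm
  have hpairs : ∀ (t s w : G) (m : ℕ), Nat.card {p : G × G // p.1 * t * p.1⁻¹ * (p.2 * s * p.2⁻¹ * w⁻¹) = 1} = m →
      IsConj w w⁻¹ → (∑ χ : Cfsg.IrrCharacter G, (χ : G → ℂ) t * (χ : G → ℂ) s * (χ : G → ℂ) w / (χ : G → ℂ) 1) =
        (m : ℂ) / (Nat.card G : ℂ) := by
    intro t s w m hm hw
    have h := CfsgLib.CharDegree.sum_three t s w⁻¹
    simp only [hinv _ w hw] at h
    rw [eq_div_iff hGpos, mul_comm, h, hm]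
  have hsol : ∀ (t s w : G), t ∈ S → t ≠ 1 → s ∈ S → w ∈ S → w ≠ 1 →
      (¬ IsConj s t ∨ ¬ IsConj t⁻¹ w) → ∀ p q : G,
      p * t * p⁻¹ * (q * s * q⁻¹ * w⁻¹) = 1 →
        p * t * p⁻¹ ∈ S ∧ q * s * q⁻¹ ∈ S ∧ p * t * p⁻¹ * (q * s * q⁻¹) = w := by
    intro t s w ht ht1 hs hw hw1 hmix p q hpq
    have hprod : p * t * p⁻¹ * (q * s * q⁻¹) = w := by
      rw [← mul_assoc, mul_inv_eq_one] at hpq; exact hpq
    have htx : IsConj t (p * t * p⁻¹) := isConj_iff.mpr ⟨p, rfl⟩
    have hsy : IsConj s (q * s * q⁻¹) := isConj_iff.mpr ⟨q, rfl⟩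
    rcases htri _ _ w t hprod hw hw1 ht ht1 htx (hcub t _ ht htx) (hcub s _ hs hsy) with ⟨h1, h2⟩ | ⟨h1, h2⟩
    · exact ⟨h1, h2, hprod⟩
    · exfalso
      rcases hmix with h | h
      · exact h (hsy.trans (h1.trans htx.symm))
      · exact h ((isConj_iff.mpr ⟨p, by group⟩ : IsConj t⁻¹ (p * t * p⁻¹)⁻¹).trans h2.symm)
  -- the four counts
  have hn123 : Nat.card {p : G × G // p.1 * f * p.1⁻¹ * (p.2 * g * p.2⁻¹ * e⁻¹) = 1} = 324 := by
    have hiff : ∀ p : G × G, p.1 * f * p.1⁻¹ * (p.2 * g * p.2⁻¹ * e⁻¹) = 1 ↔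
        p.1 ∈ Subgroup.centralizer ({f} : Set G) ∧ p.2 ∈ Subgroup.centralizer ({g} : Set G) := by
      intro p
      simp only [Subgroup.mem_centralizer_singleton_iff, ← mul_inv_eq_iff_eq_mul]
      constructor
      · intro h
        obtain ⟨h1, h2, h3⟩ := hsol f g e hfS hf1 hgS heS he1 (Or.inl fun h => hnc1 h.symm) p.1 p.2 h
        obtain ⟨i, hi, hfi⟩ := hclf _ h1
        obtain ⟨j, hj, hgj⟩ := hclg _ h2
        rw [hfi, hgj] at h3
        have := huniq i j 1 1 (by simpa [he] using h3)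
        obtain ⟨hi', hj'⟩ : i = 1 ∧ j = 1 := by omega
        exact ⟨by rw [hfi, hi']; simp, by rw [hgj, hj']; simp⟩
      · rintro ⟨h1, h2⟩; rw [h1, h2, he]; group
    rw [Nat.card_congr ((Equiv.subtypeEquivRight hiff).trans (Equiv.subtypeProdEquivProd)), Nat.card_prod]
    exact (congrArg₂ (· * ·) hC1 hC2).trans (by norm_num)
  have hn221 : Nat.card {p : G × G // p.1 * g * p.1⁻¹ * (p.2 * g * p.2⁻¹ * f⁻¹) = 1} = 0 := by
    haveI : IsEmpty {p : G × G // p.1 * g * p.1⁻¹ * (p.2 * g * p.2⁻¹ * f⁻¹) = 1} := ⟨fun ⟨p, h⟩ => by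
      obtain ⟨h1, h2, h3⟩ := hsol g g f hgS hgne hgS hfS hf1 (Or.inr fun h => hnc1 (h.symm.trans hrealg.symm)) p.1 p.2 h
      obtain ⟨i, hi, hgi⟩ := hclg _ h1
      obtain ⟨j, hj, hgj⟩ := hclg _ h2
      rw [hgi, hgj] at h3
      have := huniq 0 (i + j) 1 0 (by simpa [pow_add] using h3)
      omega⟩
    exact Nat.card_of_isEmpty
  have hn223 : Nat.card {p : G × G // p.1 * g * p.1⁻¹ * (p.2 * g * p.2⁻¹ * e⁻¹) = 1} = 0 := by
    haveI : IsEmpty {p : G × G // p.1 * g * p.1⁻¹ * (p.2 * g * p.2⁻¹ * e⁻¹) = 1} := ⟨fun ⟨p, h⟩ => by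
      obtain ⟨h1, h2, h3⟩ := hsol g g e hgS hgne hgS heS he1 (Or.inr fun h => hnc3 (hrealg.trans h)) p.1 p.2 h
      obtain ⟨i, hi, hgi⟩ := hclg _ h1
      obtain ⟨j, hj, hgj⟩ := hclg _ h2
      rw [hgi, hgj] at h3
      have := huniq 0 (i + j) 1 1 (by simpa [pow_add, he] using h3)
      omega⟩
    exact Nat.card_of_isEmpty
  have hn332 : Nat.card {p : G × G // p.1 * e * p.1⁻¹ * (p.2 * e * p.2⁻¹ * g⁻¹) = 1} = 162 := by
    set A := fun i : ℕ => {p : G | p * e * p⁻¹ = f ^ i * g ^ 2}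
    have hA : ∀ i, (∃ c, c * e * c⁻¹ = f ^ i * g ^ 2) → (A i).ncard = 9 := by
      rintro i ⟨c, hc⟩
      have : A i = (fun p => c * p) '' (Subgroup.centralizer ({e} : Set G) : Set G) := by
        ext p
        constructor
        · intro hp
          have hp' : p * e * p⁻¹ = c * e * c⁻¹ := hp.trans hc.symm
          refine ⟨c⁻¹ * p, Subgroup.mem_centralizer_singleton_iff.mpr ?_, by group⟩
          calc c⁻¹ * p * e = c⁻¹ * (p * e * p⁻¹) * p := by group
            _ = c⁻¹ * (c * e * c⁻¹) * p := by rw [hp']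
            _ = e * (c⁻¹ * p) := by group
        · rintro ⟨q, hq, rfl⟩
          show c * q * e * (c * q)⁻¹ = _
          rw [← hc]
          have := Subgroup.mem_centralizer_singleton_iff.mp hq
          calc c * q * e * (c * q)⁻¹ = c * (q * e) * q⁻¹ * c⁻¹ := by group
            _ = c * (e * q) * q⁻¹ * c⁻¹ := by rw [this]
            _ = _ := by group
      rw [this, Set.ncard_image_of_injective _ (mul_right_injective c), ← Nat.card_coe_set_eq]
      exact hC3
    have h1 : (A 1).ncard = 9 := hA 1 ⟨b, by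
      rw [he, show b * (f * g) * b⁻¹ = (b * f * b⁻¹) * (b * g * b⁻¹) by group, hbf, hbg, hinvg, pow_one]⟩
    have h2 : (A 2).ncard = 9 := hA 2 ⟨a * b, by
      rw [he, show a * b * (f * g) * (a * b)⁻¹ = (a * (b * f * b⁻¹) * a⁻¹) * (a * (b * g * b⁻¹) * a⁻¹) by group,
        hbf, haf, hbg, show a * g⁻¹ * a⁻¹ = (a * g * a⁻¹)⁻¹ by group, hag, hinvf, hinvg]⟩
    have hset : {p : G × G | p.1 * e * p.1⁻¹ * (p.2 * e * p.2⁻¹ * g⁻¹) = 1} = (A 1) ×ˢ (A 2) ∪ (A 2) ×ˢ (A 1) := by
      ext p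
      constructor
      · intro h
        obtain ⟨h1, h2, h3⟩ := hsol e e g heS he1 heS hgS hgne (Or.inr fun h => hnc3 (h.symm.trans hreale.symm)) p.1 p.2 h
        obtain ⟨i, j, hi, hj, hei⟩ := hcle _ h1
        obtain ⟨k, l, hk, hl, hek⟩ := hcle _ h2
        have hcm : g ^ j * f ^ k = f ^ k * g ^ j := hab _ (pow_mem hgS j) _ (pow_mem hfS k)
        rw [hei, hek, show f ^ i * g ^ j * (f ^ k * g ^ l) = f ^ i * (g ^ j * f ^ k) * g ^ l by group, hcm,
          show f ^ i * (f ^ k * g ^ j) * g ^ l = f ^ (i + k) * g ^ (j + l) by rw [pow_add, pow_add]; group] at h3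
        have := huniq (i + k) (j + l) 0 1 (by simpa using h3)
        obtain ⟨hj', hl'⟩ : j = 2 ∧ l = 2 := by omega
        subst hj' hl'
        rcases hi with rfl | rfl
        · have : k = 2 := by omega
          subst this; exact Or.inl ⟨hei, hek⟩
        · have : k = 1 := by omega
          subst this; exact Or.inr ⟨hei, hek⟩
      · have hcm : ∀ i, g ^ 2 * f ^ i = f ^ i * g ^ 2 := fun i => hab _ (pow_mem hgS 2) _ (pow_mem hfS i)
        have hcalc : ∀ i k, i + k = 3 → f ^ i * g ^ 2 * (f ^ k * g ^ 2 * g⁻¹) = 1 := by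
          intro i k hik
          calc f ^ i * g ^ 2 * (f ^ k * g ^ 2 * g⁻¹) = f ^ i * (g ^ 2 * f ^ k) * g := by group
            _ = f ^ (i + k) * g ^ 3 := by rw [hcm, pow_add]; group
            _ = 1 := by rw [hik, hf3, hg3, mul_one]
        rintro (⟨h1, h2⟩ | ⟨h1, h2⟩) <;>
          (show p.1 * e * p.1⁻¹ * (p.2 * e * p.2⁻¹ * g⁻¹) = 1; rw [show p.1 * e * p.1⁻¹ = _ from h1, show p.2 * e * p.2⁻¹ = _ from h2])
        · exact hcalc 1 2 rfl
        · exact hcalc 2 1 rfl
    have hdisjA : Disjoint ((A 1) ×ˢ (A 2)) ((A 2) ×ˢ (A 1)) := by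
      refine Set.disjoint_left.mpr fun p hp hp' => ?_
      have := huniq 1 2 2 2 (hp.1.symm.trans hp'.1)
      omega
    rw [show Nat.card {p : G × G // p.1 * e * p.1⁻¹ * (p.2 * e * p.2⁻¹ * g⁻¹) = 1} =
      ({p : G × G | p.1 * e * p.1⁻¹ * (p.2 * e * p.2⁻¹ * g⁻¹) = 1}).ncard from Nat.card_coe_set_eq _, hset,
      Set.ncard_union_eq hdisjA, Set.ncard_prod, Set.ncard_prod, h1, h2]
  have hbound : Nat.card G ≤ 324 := by
    refine order_bound X Y Zv D (Nat.card G) Nat.card_pos hDpos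
      (fun χ => by have := dvd_sub (hY3 χ) (hZ3 χ); rwa [sub_sub_sub_cancel_left] at this)
      (fun χ => by have := dvd_sub (hZ3 χ) (hX3 χ); rwa [sub_sub_sub_cancel_left] at this)
      (by exact_mod_cast hxx) (by exact_mod_cast hyy) (by exact_mod_cast hzz) hxy hxz hyz hdx hdy hdz hdd ?_
    have e123 := hpairs f g e 324 hn123 hreale
    have e332 := hpairs e e g 162 hn332 hrealg
    have e221 := hpairs g g f 0 hn221 hrealf
    have e223 := hpairs g g e 0 hn223 hreale
    simp only [hX, hY, hZ, hD] at e123 e332 e221 e223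
    calc ∑ χ, ((Y χ * (Zv χ - Y χ) * (X χ - Zv χ) : ℤ) : ℂ) / (D χ : ℂ)
        = ∑ χ, (((X χ : ℂ) * Y χ * Zv χ / (D χ : ℂ) - (Zv χ : ℂ) * Zv χ * Y χ / (D χ : ℂ)) -
            ((Y χ : ℂ) * Y χ * X χ / (D χ : ℂ) - (Y χ : ℂ) * Y χ * Zv χ / (D χ : ℂ))) :=
          Finset.sum_congr rfl fun χ _ => by push_cast; ring
      _ = 162 / (Nat.card G : ℂ) := by
          rw [Finset.sum_sub_distrib, Finset.sum_sub_distrib, Finset.sum_sub_distrib, e123, e332, e221, e223]
          push_cast; ring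
  -- the number of Sylow subgroups is 1 mod 9
  have hfix : ∀ (R : Sylow 3 G) (t : G), t ∈ S → t ≠ 1 → t • R = R → R = T := by
    intro R t ht ht1 hR
    have htn : t ∈ Subgroup.normalizer ((R : Subgroup G) : Set G) := Sylow.smul_eq_iff_mem_normalizer.mp hR
    have htp : IsPGroup 3 (Subgroup.zpowers t) := T.isPGroup'.to_le (Subgroup.zpowers_le.mpr ht)
    have htR : t ∈ (R : Subgroup G) := by
      rw [← R.is_maximal' (htp.to_sup_of_normal_right' R.isPGroup' (Subgroup.zpowers_le.mpr htn)) le_sup_right]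
      exact Subgroup.mem_sup_left (Subgroup.mem_zpowers t)
    obtain ⟨c, hc⟩ := MulAction.exists_smul_eq G T R
    rw [← hc] at htR
    obtain ⟨q, hq, hqt⟩ := htR
    have hqt' : c * q * c⁻¹ = t := hqt
    have hcN : c ∈ N := hfus c q hq (fun h => ht1 (by rw [← hqt', h]; group)) (hqt' ▸ ht)
    rw [← hc]
    exact Sylow.smul_eq_iff_mem_normalizer.mpr (hNdef ▸ hcN)
  have hSyl : Nat.card (Sylow 3 G) = N.index := by rw [Sylow.card_eq_index_normalizer T, hNdef]; rfl
  have hmod : 9 ∣ Nat.card (Sylow 3 G) - 1 := by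
    haveI := Fintype.ofFinite (Sylow 3 G)
    rw [← Nat.modEq_iff_dvd' Finite.card_pos]
    refine Nat.ModEq.symm ?_
    rw [Nat.card_congr (MulAction.selfEquivSigmaOrbits S (Sylow 3 G)), Nat.card_sigma,
      ← Finset.add_sum_erase _ _ (Finset.mem_univ (Quotient.mk'' T : MulAction.orbitRel.Quotient S (Sylow 3 G)))]
    have hTfix : ∀ s : S, s • T = T := fun s => Sylow.smul_eq_iff_mem_normalizer.mpr (hNdef ▸ hSN s.2)
    have hout : Quotient.out (Quotient.mk'' T : MulAction.orbitRel.Quotient S (Sylow 3 G)) = T := by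
      obtain ⟨s, hs⟩ := Quotient.exact' (Quotient.out_eq (Quotient.mk'' T : MulAction.orbitRel.Quotient S (Sylow 3 G)))
      rw [← hs]; exact hTfix s
    have hone : Nat.card (MulAction.orbit S (Quotient.out (Quotient.mk'' T : MulAction.orbitRel.Quotient S (Sylow 3 G)))) = 1 := by
      rw [hout, Nat.card_eq_one_iff_unique]
      refine ⟨⟨?_⟩, ⟨⟨T, MulAction.mem_orbit_self _⟩⟩⟩
      rintro ⟨_, s, rfl⟩ ⟨_, r, rfl⟩
      exact Subtype.ext ((hTfix s).trans (hTfix r).symm)
    rw [hone]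
    refine Nat.ModEq.trans (Nat.ModEq.add_left 1 (Nat.modEq_zero_iff_dvd.mpr (Finset.dvd_sum fun ω hω => ?_))) rfl
    have hne : Quotient.out ω ≠ T := fun h => Finset.ne_of_mem_erase hω (by rw [← Quotient.out_eq' ω, h])
    have hst : MulAction.stabilizer S (Quotient.out ω) = ⊥ := by
      rw [Subgroup.eq_bot_iff_forall]
      intro s hs
      by_contra hs1
      exact hne (hfix _ s s.2 (fun h => hs1 (Subtype.ext h)) hs)
    rw [Nat.card_coe_set_eq, ← MulAction.index_stabilizer, hst, Subgroup.index_bot, hcard]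
  rw [hSyl] at hmod
  have hG : N.index * 36 = Nat.card G := by rw [← hN36]; exact N.index_mul_card
  have hipos : 0 < N.index := Nat.pos_of_ne_zero Subgroup.index_ne_zero_of_finite
  exact Subgroup.index_eq_one.mp (by omega)

end group

/-- Let G be a finite group whose Sylow 3-subgroup T is elementary abelian of order 9 and self-centralizing, with N_G(T)/T a Klein four-group, and suppose that the centralizer of every nonidentity element of T lies in N_G(T). Then T is normal in G. -/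
theorem result {G : Type*} [Group G] [Finite G]
    (T : Sylow 3 G) (hT : Cfsg.IsElementaryAbelian 3 (T : Subgroup G)) (hcard : Nat.card T = 9)
    (hC : Subgroup.centralizer ((T : Subgroup G) : Set G) = T)
    [hn : ((T : Subgroup G).subgroupOf (Subgroup.normalizer ((T : Subgroup G) : Set G))).Normal]
    (hK : IsKleinFour (↥(Subgroup.normalizer ((T : Subgroup G) : Set G)) ⧸
      (T : Subgroup G).subgroupOf (Subgroup.normalizer ((T : Subgroup G) : Set G))))
    (hloc : ∀ t ∈ (T : Subgroup G), t ≠ 1 →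
      Subgroup.centralizer ({t} : Set G) ≤ Subgroup.normalizer ((T : Subgroup G) : Set G)) :
    Subgroup.normalizer ((T : Subgroup G) : Set G) = ⊤ := by
  haveI : Fact (Nat.Prime 3) := ⟨Nat.prime_three⟩
  set N := Subgroup.normalizer ((T : Subgroup G) : Set G) with hN
  have hK4 := hK.card_four
  have h36 : Nat.card N = 36 := by
    rw [Subgroup.card_eq_card_quotient_mul_card_subgroup ((T : Subgroup G).subgroupOf N), hK4,
      Nat.card_congr (Subgroup.subgroupOfEquivOfLe Subgroup.le_normalizer).toEquiv, hcard]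
  refine main T N hN (fun s hs t ht => congrArg Subtype.val (hT.1.is_comm.comm ⟨s, hs⟩ ⟨t, ht⟩)) hT.2 hcard
    (fun g hg => hC.le (Subgroup.mem_centralizer_iff.mpr fun t ht => (mul_inv_eq_iff_eq_mul.mp (hg t ht)).symm))
    (fun n hn => ?_) h36 (fun t ht ht1 g hg => hloc t ht ht1 (Subgroup.mem_centralizer_singleton_iff.mpr hg))
  have h := Monoid.pow_exponent_eq_one (((⟨n, hn⟩ : N)) : N ⧸ (T : Subgroup G).subgroupOf N)
  rw [hK.exponent_two, pow_two, ← QuotientGroup.mk_mul, QuotientGroup.eq_one_iff] at h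
  exact h

end Cfsg.Agent.S3805
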