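import Cfsg.Statements.S4033
import Cfsg.Agent.S4034
import Cfsg.Agent.Lib.ClassSizes.RegularTwoSplit

set_option autoImplicit false
open Cfsg

namespace Cfsg.Agent.S4033

/-- Let G be a finite group and p a prime, and suppose the conjugacy classes of p-regular elements of G (elements of order prime to p) have exactly two distinct sizes. Then either G has an abelian p-complement (an abelian subgroup of order prime to p and p-power index), or there are a prime q ≠ p, a Sylow p-subgroup P, a Sylow q-subgroup Q and a central subgroup A such that PQ is a normal subgroup of order #P·#Q and G is the internal direct product PQ × A. -/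
theorem result {G : Type*} [Group G] [Finite G] {p : ℕ} (hp : p.Prime)
    (h2 : Set.ncard (Set.range fun x : {x : G // (orderOf x).Coprime p} => (ConjClasses.mk (x : G)).carrier.ncard) = 2) :
    (∃ H : Subgroup G, IsMulCommutative H ∧ ¬ p ∣ Nat.card H ∧ ∃ k : ℕ, H.index = p ^ k) ∨
    (∃ (q : ℕ) (_ : Fact q.Prime) (P : Sylow p G) (Q : Sylow q G) (A : Subgroup G), q ≠ p ∧
        A ≤ Subgroup.center G ∧ Nat.card ↥((P : Subgroup G) ⊔ (Q : Subgroup G)) = Nat.card P * Nat.card Q ∧
        ((P : Subgroup G) ⊔ (Q : Subgroup G)).Normal ∧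
        ((P : Subgroup G) ⊔ (Q : Subgroup G)) ⊓ A = ⊥ ∧ ((P : Subgroup G) ⊔ (Q : Subgroup G)) ⊔ A = ⊤) := by
  classical
  set F := fun x : {x : G // (orderOf x).Coprime p} => (ConjClasses.mk (x : G)).carrier.ncard with hF
  have hidx : ∀ x, F x = (Subgroup.centralizer ({(x : G)} : Set G)).index := fun x => by
    rw [hF]; simp only [← CfsgLib.Char.card_carrier_eq_index, Nat.card_coe_set_eq]
  obtain ⟨s₁, s₂, hs12, hrange⟩ := Set.ncard_eq_two.1 h2
  have h1 : 1 ∈ Set.range F := ⟨⟨1, by simp⟩, by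
    rw [hidx]
    exact CfsgLib.ClassSizes.TwoSizes.index_one_iff.2 (one_mem _)⟩
  obtain ⟨m, hm1, hm⟩ : ∃ m, m ≠ 1 ∧ Set.range F = {1, m} := by
    rw [hrange] at h1 ⊢
    rcases h1 with rfl | h1
    · exact ⟨s₂, hs12.symm, rfl⟩
    · obtain rfl : (1 : ℕ) = s₂ := h1
      exact ⟨s₁, hs12, Set.pair_comm _ _⟩
  have hsz : ∀ x : G, (orderOf x).Coprime p → (Subgroup.centralizer ({x} : Set G)).index = 1 ∨
      (Subgroup.centralizer ({x} : Set G)).index = m := fun x hx => by
    have : F ⟨x, hx⟩ ∈ Set.range F := ⟨_, rfl⟩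
    rw [hm, hidx] at this
    exact this
  by_cases hpow : ∃ k, m = p ^ k
  · obtain ⟨k, hk⟩ := hpow
    refine Or.inl ((Cfsg.Agent.S4034.result hp).1 fun x hx => ?_)
    rw [show (ConjClasses.mk x).carrier.ncard = F ⟨x, hx⟩ from rfl, hidx]
    rcases hsz x hx with e | e
    · exact ⟨0, by rw [e, pow_zero]⟩
    · exact ⟨k, by rw [e, hk]⟩
  · obtain ⟨⟨x₀, hx₀⟩, hx₀m⟩ : m ∈ Set.range F := by rw [hm]; exact Or.inr rfl
    rw [hidx] at hx₀m
    have hx₀c : x₀ ∉ Subgroup.center G := fun hc =>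
      hm1 (hx₀m.symm.trans (CfsgLib.ClassSizes.TwoSizes.index_one_iff.2 hc))
    obtain ⟨y, hyz, hyc, q, k, hq, hk⟩ : ∃ y ∈ Subgroup.zpowers x₀, y ∉ Subgroup.center G ∧
        ∃ q k : ℕ, q.Prime ∧ orderOf y = q ^ k := by
      by_contra hcon
      push Not at hcon
      refine hx₀c (CfsgLib.ClassSizes.TwoSizes.mem_of_primary _ x₀ fun y hy q k hq hk => ?_)
      by_contra hyc
      exact hcon y hy hyc q k hq hk
    have hqp : q ≠ p := by
      rintro rfl
      have hco := hx₀.coprime_dvd_left (orderOf_dvd_of_mem_zpowers hyz)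
      rw [hk] at hco
      rcases Nat.eq_zero_or_pos k with rfl | hk0
      · exact hyc (by rw [orderOf_eq_one_iff.1 (show orderOf y = 1 by simpa using hk)]; exact one_mem _)
      · exact hq.coprime_iff_not_dvd.1 (hco.coprime_dvd_left (dvd_pow_self q hk0.ne')) dvd_rfl
    obtain ⟨fp, fq, P, Q, A, hA⟩ := CfsgLib.ClassSizes.RegularTwo.split_of_central (G := G) hp hq hqp
      fun r hr hrp hrq hact => hrq (CfsgLib.ClassSizes.RegularTwo.subsingleton_act hp hsz hpow hr hq hrp hqp
        hact ⟨y, hyc, k, hk⟩)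
    exact Or.inr ⟨q, fq, P, Q, A, hqp, hA⟩

end Cfsg.Agent.S4033
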