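import Cfsg.Statements.S4035
import Cfsg.Agent.Lib.Orders.DirectFactor

set_option autoImplicit false
open Cfsg
open scoped Pointwise

namespace Cfsg.Agent.S4035

/-- Let G be a finite group and p a prime such that p divides the size of no conjugacy class of p-regular elements (elements of order prime to p). Then G is the internal direct product of a Sylow p-subgroup P and a normal subgroup H of order prime to p: P is normal, P ⊓ H = 1 and PH = G. -/
theorem result {G : Type*} [Group G] [Finite G] {p : ℕ} [Fact p.Prime]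
    (h : ∀ x : G, (orderOf x).Coprime p → ¬ p ∣ (ConjClasses.mk x).carrier.ncard) (P : Sylow p G) :
    (P : Subgroup G).Normal ∧ ∃ H : Subgroup G, H.Normal ∧ ¬ p ∣ Nat.card H ∧
      (P : Subgroup G) ⊓ H = ⊥ ∧ (P : Subgroup G) ⊔ H = ⊤ := by
  have hp : p.Prime := Fact.out
  let L := (P : Subgroup G) ⊔ Subgroup.centralizer ((P : Subgroup G) : Set G)
  have hcov : ∀ z : G, ∃ g : G, g * z * g⁻¹ ∈ L := fun z => by
    obtain ⟨k, m, hm, hkm⟩ := Nat.exists_eq_pow_mul_and_not_dvd (orderOf_pos z).ne' p hp.ne_one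
    have hco : Nat.Coprime (p ^ k) m := (hp.coprime_iff_not_dvd.2 hm).pow_left k
    let u := z ^ (p ^ k)
    let v := z ^ m
    have hzuv : z = v ^ Nat.gcdB (p ^ k) m * u ^ Nat.gcdA (p ^ k) m := by
      simp only [u, v]
      rw [← zpow_natCast z m, ← zpow_natCast z (p ^ k), ← zpow_mul, ← zpow_mul, ← zpow_add,
        add_comm, ← Nat.gcd_eq_gcd_ab, hco.gcd_eq_one]
      simp
    have hu : (orderOf u).Coprime p := by
      have : u ^ m = 1 := by simp only [u]; rw [← pow_mul, ← hkm, pow_orderOf_eq_one]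
      exact ((hp.coprime_iff_not_dvd.2 hm).symm).coprime_dvd_left (orderOf_dvd_of_pow_eq_one this)
    let C := Subgroup.centralizer ({u} : Set G)
    have hC : ¬ p ∣ C.index := fun hd => h u hu (by
      rwa [← Nat.card_coe_set_eq, Nat.card_congr (Equiv.subtypeEquivRight fun a =>
        (ConjClasses.mem_carrier_iff_mk_eq.trans (eq_comm.trans ConjClasses.mk_eq_mk_iff_isConj))),
        CfsgLib.Orders.card_isConj])
    obtain ⟨R⟩ : Nonempty (Sylow p ↥C) := inferInstance
    let R₀ : Subgroup G := (R : Subgroup C).map C.subtype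
    have hR0 : IsPGroup p R₀ := R.isPGroup'.map _
    have hidx : ¬ p ∣ R₀.index := by
      rw [Subgroup.index_map_subtype]
      exact fun hd => (hp.dvd_mul.1 hd).elim R.not_dvd_index hC
    let S : Sylow p G := hR0.toSylow hidx
    have hvC : v ^ Nat.gcdB (p ^ k) m ∈ C := by
      rw [Subgroup.mem_centralizer_singleton_iff]
      exact ((Commute.refl z).pow_pow m (p ^ k)).zpow_left _
    have hvp : IsPGroup p (Subgroup.zpowers (⟨_, hvC⟩ : C)) := by
      refine (IsPGroup.iff_orderOf).2 fun a => ?_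
      obtain ⟨a, ha⟩ := a
      rw [Subgroup.orderOf_mk, ← Subgroup.orderOf_coe]
      obtain ⟨i, rfl⟩ := Subgroup.mem_zpowers_iff.1 ha
      have hswap : ∀ (w : G) (i : ℤ) (n : ℕ), w ^ n = 1 → (w ^ i) ^ n = 1 := fun w i n hw => by
        rw [← zpow_natCast, ← zpow_mul, mul_comm, zpow_mul, zpow_natCast, hw, one_zpow]
      have h1 : ((⟨_, hvC⟩ : C) ^ i : C).1 ^ (p ^ k) = 1 := by
        rw [Subgroup.coe_zpow]
        refine hswap _ _ _ (hswap _ _ _ ?_)
        simp only [v]
        rw [← pow_mul, mul_comm, ← hkm, pow_orderOf_eq_one]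
      obtain ⟨j, -, hj⟩ := (Nat.dvd_prime_pow hp).1 (orderOf_dvd_of_pow_eq_one h1)
      exact ⟨j, hj⟩
    obtain ⟨R', hR'⟩ := hvp.exists_le_sylow
    obtain ⟨c, hc⟩ := MulAction.exists_smul_eq ↥C R' R
    obtain ⟨g, hg⟩ := MulAction.exists_smul_eq G S P
    refine ⟨g * c, ?_⟩
    have hv' : (c : G) * v ^ Nat.gcdB (p ^ k) m * (c : G)⁻¹ ∈ R₀ := by
      refine ⟨c * ⟨_, hvC⟩ * c⁻¹, ?_, rfl⟩
      rw [← hc, Sylow.coe_subgroup_smul]
      exact Subgroup.smul_mem_pointwise_smul _ (MulAut.conj c) _ (hR' (Subgroup.mem_zpowers _))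
    have hu' : u ^ Nat.gcdA (p ^ k) m ∈ Subgroup.centralizer (R₀ : Set G) := by
      refine zpow_mem (Subgroup.mem_centralizer_iff.2 ?_) _
      rintro _ ⟨r, -, rfl⟩
      exact Subgroup.mem_centralizer_singleton_iff.1 r.2
    have hP : (P : Subgroup G) = MulAut.conj g • R₀ := by
      rw [← hg, Sylow.coe_subgroup_smul]; rfl
    have hsplit : g * c * z * (g * c)⁻¹ =
        g * ((c : G) * v ^ Nat.gcdB (p ^ k) m * (c : G)⁻¹) * g⁻¹ *
          (g * u ^ Nat.gcdA (p ^ k) m * g⁻¹) := by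
      have hcu : (c : G) * u ^ Nat.gcdA (p ^ k) m * (c : G)⁻¹ = u ^ Nat.gcdA (p ^ k) m := by
        have : Commute (c : G) u := Subgroup.mem_centralizer_singleton_iff.1 c.2
        rw [(this.zpow_right _).eq, mul_inv_cancel_right]
      nth_rewrite 1 [hzuv]
      nth_rewrite 2 [← hcu]
      group
    rw [hsplit]
    refine Subgroup.mul_mem_sup ?_ ?_
    · rw [hP]
      exact Subgroup.smul_mem_pointwise_smul _ (MulAut.conj g) _ hv'
    · rw [Subgroup.mem_centralizer_iff, hP]
      intro w hw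
      obtain ⟨w', hw', rfl⟩ := (Subgroup.mem_smul_pointwise_iff_exists _ _ _).1 hw
      have := Subgroup.mem_centralizer_iff.1 hu' w' hw'
      show g * w' * g⁻¹ * (g * _ * g⁻¹) = g * _ * g⁻¹ * (g * w' * g⁻¹)
      calc g * w' * g⁻¹ * (g * u ^ Nat.gcdA (p ^ k) m * g⁻¹)
          = g * (w' * u ^ Nat.gcdA (p ^ k) m) * g⁻¹ := by group
        _ = _ := by rw [this]; group
  have htop : L = ⊤ := by
    by_contra hne
    obtain ⟨z, hz⟩ := CfsgLib.HallGen.exists_not_mem_conj L hne
    obtain ⟨g, hg⟩ := hcov z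
    exact hz g⁻¹ ⟨g * z * g⁻¹, hg, by simp [mul_assoc]⟩
  have hPn : (P : Subgroup G).Normal := by
    rw [← Subgroup.normalizer_eq_top_iff, eq_top_iff, ← htop]
    exact sup_le Subgroup.le_normalizer (Subgroup.centralizer_le_normalizer _)
  have hcc : CfsgLib.Orders.CrossCommute p G := by
    rintro x y ⟨a, ha⟩ ⟨q, b, hq, hqp, hb⟩
    have hy : y ∈ Subgroup.centralizer ((P : Subgroup G) : Set G) :=
      CfsgLib.Orders.mem_of_coprime_of_sup P htop hq hqp hb
    exact Subgroup.mem_centralizer_iff.1 hy x (CfsgLib.Orders.mem_of_pelement P ha)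
  obtain ⟨P', K, hP', hK, hinf, hsup⟩ := CfsgLib.Orders.directFactor_of_crossCommute hcc
  let := Sylow.unique_of_normal P hPn
  obtain rfl : P' = P := Subsingleton.elim _ _
  refine ⟨hPn, K, hK, fun hd => ?_, hinf, hsup⟩
  have hcomp : Subgroup.IsComplement' (P' : Subgroup G) K :=
    Subgroup.isComplement'_of_disjoint_and_mul_eq_univ (disjoint_iff.2 hinf)
      (by rw [← Subgroup.mul_normal, hsup, Subgroup.coe_top])
  exact P'.not_dvd_index (hcomp.symm.index_eq_card ▸ hd)

end Cfsg.Agent.S4035
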