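import Cfsg.Statements.S1681
import Cfsg.Agent.Lib.ThreeTrans.CosetIndex.Suz22880.Valid
import Cfsg.Agent.Lib.ThreeTrans.CosetIndex.Presented

set_option autoImplicit false
open Cfsg CfsgLib.ThreeTrans.CosetIndex

namespace Cfsg.Agent.S1681

/-- The generators in order. -/
def gens : List Spor.Suz.Gen := [.a, .b, .c, .d, .e, .f, .g]

/-- The generators of the subgroup. -/
def words : List (FreeGroup Spor.Suz.Gen) :=
  [Cfsg.Spor.Suz.a, Cfsg.Spor.Suz.b, Cfsg.Spor.Suz.c, Cfsg.Spor.Suz.d, Cfsg.Spor.Suz.f, Cfsg.Spor.Suz.g]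

theorem fits : Fits Spor.Suz.edges Spor.Suz.extra gens Suz22880.data words where
  nodes := fun y => by cases y <;> decide
  mem := fun y => by cases y <;> decide
  nodup := by decide
  ng := rfl
  rels := by decide +kernel
  subs := by decide +kernel

/-- In the presented sporadic Suzuki group (generators a, …, g), the subgroup generated by the images of a, b, c, d, f, g has index 22880. -/
theorem result : (((Subgroup.closure ({Cfsg.Spor.Suz.a, Cfsg.Spor.Suz.b, Cfsg.Spor.Suz.c, Cfsg.Spor.Suz.d, Cfsg.Spor.Suz.f, Cfsg.Spor.Suz.g} : Set (FreeGroup Cfsg.Spor.Suz.Gen))).map (PresentedGroup.mk (Cfsg.Spor.coxRelators Cfsg.Spor.Suz.edges ∪ {r | r ∈ Cfsg.Spor.Suz.extra})))).index = 22880 := by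
  have hset : ({Cfsg.Spor.Suz.a, Cfsg.Spor.Suz.b, Cfsg.Spor.Suz.c, Cfsg.Spor.Suz.d, Cfsg.Spor.Suz.f, Cfsg.Spor.Suz.g} :
      Set (FreeGroup Cfsg.Spor.Suz.Gen)) = {r | r ∈ words} := by
    ext r; simp [words]
  rw [hset]
  exact presented_index Suz22880.valid fits

end Cfsg.Agent.S1681
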