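import Cfsg.Statements.S1679
import Cfsg.Agent.Lib.Recog.SporBound.SuzGTwo

set_option autoImplicit false
open Cfsg

namespace Cfsg.Agent.S1679

/-- In the presented sporadic Suzuki group (generators a, …, g), the subgroup generated by the images of a, …, f is isomorphic to the adjoint Chevalley group of type G₂ over a field with four elements. -/
theorem result : ∃ (K : Type) (_ : Field K) (_ : Fintype K), Fintype.card K = 4 ∧ Nonempty ((((Subgroup.closure ({Cfsg.Spor.Suz.a, Cfsg.Spor.Suz.b, Cfsg.Spor.Suz.c, Cfsg.Spor.Suz.d, Cfsg.Spor.Suz.e, Cfsg.Spor.Suz.f} : Set (FreeGroup Cfsg.Spor.Suz.Gen))).map (PresentedGroup.mk (Cfsg.Spor.coxRelators Cfsg.Spor.Suz.edges ∪ {r | r ∈ Cfsg.Spor.Suz.extra})))) ≃* Cfsg.Lie.chevG2.group K) := by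
  let _ : Fintype (GaloisField 2 2) := Fintype.ofFinite _
  obtain ⟨e₁⟩ := CfsgLib.Recog.SporBound.SuzGTwo.equiv_K
  have hF : Fintype.card (GaloisField 2 2) = 4 := by
    rw [← Nat.card_eq_fintype_card, GaloisField.card 2 2 (by norm_num)]; norm_num
  obtain ⟨e₂⟩ := CfsgLib.Recog.SporBound.SuzGTwo.equiv_group hF
  have hK : CfsgLib.Recog.SporBound.SuzGroup.K =
      (Subgroup.closure ({Cfsg.Spor.Suz.a, Cfsg.Spor.Suz.b, Cfsg.Spor.Suz.c, Cfsg.Spor.Suz.d, Cfsg.Spor.Suz.e,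
        Cfsg.Spor.Suz.f} : Set (FreeGroup Cfsg.Spor.Suz.Gen))).map
        (PresentedGroup.mk (Cfsg.Spor.coxRelators Cfsg.Spor.Suz.edges ∪ {r | r ∈ Cfsg.Spor.Suz.extra})) := by
    rw [CfsgLib.Recog.SporBound.SuzGroup.K]
    congr 2
    ext r
    simp [Cfsg.Agent.S1680.words]
  exact ⟨GaloisField 2 2, inferInstance, Fintype.ofFinite _, by rw [← Nat.card_eq_fintype_card, GaloisField.card 2 2 (by norm_num)]; norm_num,
    ⟨(MulEquiv.subgroupCongr hK).symm.trans (e₁.symm.trans e₂)⟩⟩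

end Cfsg.Agent.S1679
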