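import Cfsg.Statements.S2530
import Cfsg.Agent.Lib.Lie.ExchangeGroup

set_option autoImplicit false
open Cfsg

namespace Cfsg.Agent.S2530

open CfsgLib.Lie.Exchange in
theorem exists_flip {n : ℕ} (s : Fin n) :
    ∀ (l : List (Fin n)) (w : Equiv.Perm (Fin (n + 1))), w⁻¹ s.castSucc < w⁻¹ s.succ →
      ¬ (w * wprod (fun i : Fin n => Equiv.swap i.castSucc i.succ) l)⁻¹ s.castSucc <
        (w * wprod (fun i : Fin n => Equiv.swap i.castSucc i.succ) l)⁻¹ s.succ →
      ∃ l₁ x l₂, l = l₁ ++ x :: l₂ ∧
        Equiv.swap s.castSucc s.succ * (w * wprod (fun i : Fin n => Equiv.swap i.castSucc i.succ) l₁) =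
          (w * wprod (fun i : Fin n => Equiv.swap i.castSucc i.succ) l₁) * Equiv.swap x.castSucc x.succ := by
  intro l
  induction l with
  | nil => intro w h1 h2; simp at h2; exact absurd h1 (not_lt.2 h2)
  | cons a l ih =>
    intro w h1 h2
    by_cases h3 : (w * Equiv.swap a.castSucc a.succ)⁻¹ s.castSucc < (w * Equiv.swap a.castSucc a.succ)⁻¹ s.succ
    · rw [wprod_cons, ← mul_assoc] at h2
      obtain ⟨l₁, x, l₂, hl, he⟩ := ih _ h3 h2
      refine ⟨a :: l₁, x, l₂, by rw [hl, List.cons_append], ?_⟩
      rw [wprod_cons, ← mul_assoc w]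
      exact he
    · refine ⟨[], a, l, rfl, ?_⟩
      rw [mul_inv_rev, Equiv.swap_inv, Equiv.Perm.mul_apply, Equiv.Perm.mul_apply] at h3
      set p := w⁻¹ s.castSucc with hp
      set q := w⁻¹ s.succ with hq
      have hpq : p = a.castSucc ∧ q = a.succ := by
        have hlt : p.val < q.val := h1
        have hge : ¬ (Equiv.swap a.castSucc a.succ p).val < (Equiv.swap a.castSucc a.succ q).val := h3
        simp only [Equiv.swap_apply_def] at hge
        split_ifs at hge <;> simp only [Fin.ext_iff, Fin.val_castSucc, Fin.val_succ] at * <;> omega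
      rw [wprod_nil, mul_one]
      refine (mul_inv_eq_iff_eq_mul.1 ?_).symm
      rw [show s.castSucc = w a.castSucc by rw [← hpq.1, hp]; simp,
        show s.succ = w a.succ by rw [← hpq.2, hq]; simp,
        Equiv.swap_apply_apply]

open CfsgLib.Lie.Exchange in
theorem exSys (n : ℕ) : ExSys (fun i : Fin n => Equiv.swap i.castSucc i.succ) := by
  set f := fun i : Fin n => Equiv.swap i.castSucc i.succ with hf
  have hgi : GenInv f := ⟨fun i => Equiv.swap_mul_self _ _, fun w => by
    obtain ⟨l, hl⟩ := Submonoid.exists_list_of_mem_closure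
      (Equiv.Perm.mclosure_swap_castSucc_succ n ▸ Submonoid.mem_top w)
    obtain ⟨hl1, hl2⟩ := hl
    have hl3 : ∀ x ∈ l, x ∈ Set.range f := hl1
    clear hl1
    revert w
    induction l with
    | nil => intro w h; exact ⟨[], h⟩
    | cons a l ih =>
      intro w h
      obtain ⟨i, rfl⟩ := hl3 a List.mem_cons_self
      obtain ⟨m, hm⟩ := ih (fun x hx => hl3 x (List.mem_cons_of_mem _ hx)) l.prod rfl
      exact ⟨i :: m, by rw [wprod_cons, hm, ← h, List.prod_cons]⟩⟩
  refine ⟨hgi, fun i j h => ?_, fun i h => ?_, fun s l hr hle => ?_⟩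
  · have h1 := congrArg (fun σ : Equiv.Perm (Fin (n + 1)) => σ i.castSucc) h
    simp only [f, Equiv.swap_apply_left, Equiv.swap_apply_def] at h1
    split_ifs at h1 with e1 e2
    · exact Fin.castSucc_injective _ e1
    · exact absurd (congrArg Fin.val h1) (by simp only [Fin.ext_iff, Fin.val_castSucc, Fin.val_succ] at e2 ⊢; omega)
    · exact absurd (congrArg Fin.val h1) (by simp)
  · exact absurd (Equiv.swap_eq_one_iff.1 h) (ne_of_lt Fin.castSucc_lt_succ)
  · have hid : (1 : Equiv.Perm (Fin (n + 1)))⁻¹ s.castSucc < (1 : Equiv.Perm (Fin (n + 1)))⁻¹ s.succ := by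
      simp [Fin.castSucc_lt_succ]
    by_cases hflip : (1 * wprod f l)⁻¹ s.castSucc < (1 * wprod f l)⁻¹ s.succ
    · exfalso
      obtain ⟨l', hl', hlen'⟩ := hgi.exists_reduced (f s * wprod f l)
      have hflip' : ¬ (1 * wprod f l')⁻¹ s.castSucc < (1 * wprod f l')⁻¹ s.succ := by
        rw [one_mul, hl', mul_inv_rev, hgi.inv, Equiv.Perm.mul_apply, Equiv.Perm.mul_apply]
        simp only [f, Equiv.swap_apply_left, Equiv.swap_apply_right]
        rw [one_mul] at hflip
        exact not_lt.2 hflip.le
      obtain ⟨l₁, x, l₂, hl, he⟩ := exists_flip s l' 1 hid hflip'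
      rw [one_mul] at he
      have hw : wprod f l = wprod f (l₁ ++ l₂) := by
        rw [← hgi.cancel s (wprod f l), ← hl', hl, wprod_append, wprod_cons, wprod_append, ← mul_assoc,
          show f s * wprod f l₁ = wprod f l₁ * f x from he, mul_assoc, hgi.cancel]
      have h1 := wlen_le f (l₁ ++ l₂)
      rw [← hw] at h1
      rw [hl] at hlen'
      simp only [List.length_append, List.length_cons] at h1 hlen'
      omega
    · obtain ⟨l₁, x, l₂, hl, he⟩ := exists_flip s l 1 hid hflip
      rw [one_mul] at he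
      exact ⟨l₁, x, l₂, hl, he⟩

theorem orderOf_prod (n : ℕ) (i j : Fin n) :
    orderOf (Equiv.swap i.castSucc i.succ * Equiv.swap j.castSucc j.succ) = CoxeterMatrix.A n i j := by
  show _ = if i = j then 1 else (if (j : ℕ) + 1 = i ∨ (i : ℕ) + 1 = j then 3 else 2)
  by_cases hij : i = j
  · rw [if_pos hij, hij, Equiv.swap_mul_self, orderOf_one]
  rw [if_neg hij]
  have hne : (i : ℕ) ≠ (j : ℕ) := fun h => hij (Fin.ext h)
  by_cases hadj : (j : ℕ) + 1 = i ∨ (i : ℕ) + 1 = j
  · rw [if_pos hadj]
    refine Equiv.Perm.IsThreeCycle.orderOf ?_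
    rcases hadj with h | h
    · rw [show i.castSucc = j.succ from Fin.ext (by simp; omega), Equiv.swap_comm j.castSucc]
      exact Equiv.Perm.isThreeCycle_swap_mul_swap_same (fun h' => by simp [Fin.ext_iff] at h'; omega)
        (fun h' => by simp [Fin.ext_iff] at h') (fun h' => by simp [Fin.ext_iff] at h'; omega)
    · rw [show j.castSucc = i.succ from Fin.ext (by simp; omega), Equiv.swap_comm i.castSucc]
      exact Equiv.Perm.isThreeCycle_swap_mul_swap_same (fun h' => by simp [Fin.ext_iff] at h')
        (fun h' => by simp [Fin.ext_iff] at h'; omega) (fun h' => by simp [Fin.ext_iff] at h'; omega)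
  · rw [if_neg hadj]
    have hd : Equiv.Perm.Disjoint (Equiv.swap i.castSucc i.succ) (Equiv.swap j.castSucc j.succ) := by
      intro x
      by_cases hx : x = i.castSucc ∨ x = i.succ
      · right
        refine Equiv.swap_apply_of_ne_of_ne ?_ ?_ <;> rcases hx with rfl | rfl <;>
          simp [Fin.ext_iff] <;> omega
      · left
        push Not at hx
        exact Equiv.swap_apply_of_ne_of_ne hx.1 hx.2
    refine orderOf_eq_prime ?_ ?_
    · rw [sq, mul_assoc, ← mul_assoc (Equiv.swap j.castSucc j.succ), hd.commute.symm.eq, mul_assoc,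
        Equiv.swap_mul_self, mul_one, Equiv.swap_mul_self]
    · intro h
      have h1 := eq_inv_of_mul_eq_one_left h
      rw [Equiv.swap_inv] at h1
      have h2 := congrArg (fun σ : Equiv.Perm (Fin (n + 1)) => σ i.castSucc) h1
      simp only [Equiv.swap_apply_left, Equiv.swap_apply_def] at h2
      split_ifs at h2 <;> simp [Fin.ext_iff] at * <;> omega


/-- The Coxeter presentation of the symmetric group: for every n, the symmetric group on n+1 letters is the Coxeter group of type A_n with the adjacent transpositions (i, i+1) as simple reflections; that is, it is presented by generators r_1, …, r_n subject to r_i² = 1, (r_i r_j)² = 1 for |i − j| > 1 and (r_i r_{i+1})³ = 1, with r_i mapping to (i, i+1). -/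
theorem result (n : ℕ) :
    ∃ cs : CoxeterSystem (CoxeterMatrix.A n) (Equiv.Perm (Fin (n + 1))), ∀ i : Fin n, cs.simple i = Equiv.swap i.castSucc i.succ := by
  obtain ⟨cs, hcs⟩ := (exSys n).exists_coxeterSystem
  have hM : CfsgLib.Lie.Exchange.coxeterMatrixOf (exSys n) = CoxeterMatrix.A n :=
    CoxeterMatrix.ext (Matrix.ext fun i j => orderOf_prod n i j)
  rw [← hM]
  exact ⟨cs, hcs⟩

end Cfsg.Agent.S2530
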