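import Cfsg.Statements.S4958
import Cfsg.Agent.Lib.CharDegree.KnorrForm
import Cfsg.Agent.Lib.CharDegree.Galois
import Cfsg.Agent.Lib.Char.Monomial
import Mathlib.GroupTheory.Complement

set_option autoImplicit false
open Cfsg

namespace Cfsg.Agent.S4958

open CfsgLib.CharDegree CfsgLib.CharDegree.Knorr CfsgLib.Char
open scoped commutatorElement

/-- An abelian group acting coprimely on an elementary abelian group has subgroups whose weight
bounds the fixed points. -/
theorem exists_family {X : Type*} [Group X] [Finite X] {p : ℕ} [Fact p.Prime] {A : Type*}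
    [CommGroup A] [Finite A] (φ : A →* X) (hA : (Nat.card A).Coprime p) (V : Subgroup X)
    (hexp : ∀ w ∈ V, w ^ p = 1) (hVc : ∀ a ∈ V, ∀ b ∈ V, a * b = b * a) (c : ℕ) :
    ∀ W : Subgroup X, Nat.card W = c → W ≤ V → (∀ h : A, ∀ w ∈ W, φ h * w * (φ h)⁻¹ ∈ W) →
      ∃ L : List (Subgroup A), (∀ h ∈ meet L, ∀ w ∈ W, φ h * w * (φ h)⁻¹ = w) ∧
        ∀ h : A, wt L h * (Nat.card ↥(W ⊓ Subgroup.centralizer ({φ h} : Set X)) : ℝ) ≤ Nat.card W := by
  classical
  induction c using Nat.strong_induction_on with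
  | _ c ih =>
  intro W hc hWV hinv
  rcases eq_or_ne W ⊥ with rfl | hW
  · refine ⟨[], fun h _ w hw => ?_, fun h => ?_⟩
    · rw [Subgroup.mem_bot.1 hw, mul_one, mul_inv_cancel]
    · simp [wt]
  have := Fintype.ofFinite (Subgroup X)
  obtain ⟨W₁, hW₁, hmax⟩ := Finset.exists_max_image
    (Finset.univ.filter fun S : Subgroup X => S < W ∧ ∀ h : A, ∀ w ∈ S, φ h * w * (φ h)⁻¹ ∈ S)
    (fun S => Nat.card S) ⟨⊥, Finset.mem_filter.2 ⟨Finset.mem_univ _, bot_lt_iff_ne_bot.2 hW,
      fun h w hw => by rw [Subgroup.mem_bot.1 hw, mul_one, mul_inv_cancel]; exact one_mem _⟩⟩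
  simp only [Finset.mem_filter, Finset.mem_univ, true_and] at hW₁
  obtain ⟨hlt, hinv₁⟩ := hW₁
  have hlt' : Nat.card W₁ < c := hc ▸ lt_of_le_of_ne (Subgroup.card_le_of_le hlt.le) fun he =>
    hlt.ne (Subgroup.eq_of_le_of_card_ge hlt.le he.ge)
  obtain ⟨L, hLfix, hLb⟩ := ih _ hlt' W₁ rfl (hlt.le.trans hWV) hinv₁
  let K : Subgroup A :=
    { carrier := {h | ∀ w ∈ W, ⁅φ h, w⁆ ∈ W₁}
      one_mem' := fun w _ => by rw [map_one, commutatorElement_one_left]; exact one_mem _
      mul_mem' := fun {a b} ha hb w hw => by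
        rw [map_mul, show ⁅φ a * φ b, w⁆ = φ a * ⁅φ b, w⁆ * (φ a)⁻¹ * ⁅φ a, w⁆ by
          simp only [commutatorElement_def]; group]
        exact mul_mem (hinv₁ a _ (hb w hw)) (ha w hw)
      inv_mem' := fun {a} ha w hw => by
        rw [map_inv, show ⁅(φ a)⁻¹, w⁆ = (φ a)⁻¹ * ⁅φ a, w⁆⁻¹ * φ a by
          simp only [commutatorElement_def]; group]
        have := hinv₁ a⁻¹ _ (inv_mem (ha w hw))
        rwa [map_inv, inv_inv] at this }
  -- an element outside `K` fixes nothing new
  have hout : ∀ h ∉ K, ∀ w ∈ W, ⁅φ h, w⁆ ∈ W₁ → w ∈ W₁ := by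
    intro h hh
    let W' : Subgroup X :=
      { carrier := {w | w ∈ W ∧ ⁅φ h, w⁆ ∈ W₁}
        one_mem' := ⟨one_mem _, by rw [commutatorElement_one_right]; exact one_mem _⟩
        mul_mem' := fun {a b} ha hb => ⟨mul_mem ha.1 hb.1, by
          rw [show ⁅φ h, a * b⁆ = ⁅φ h, a⁆ * (a * ⁅φ h, b⁆ * a⁻¹) by
            simp only [commutatorElement_def]; group,
            hVc a (hWV ha.1) _ (hWV (hlt.le hb.2)), mul_inv_cancel_right]
          exact mul_mem ha.2 hb.2⟩
        inv_mem' := fun {a} ha => ⟨inv_mem ha.1, by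
          rw [show ⁅φ h, a⁻¹⁆ = a⁻¹ * ⁅φ h, a⁆⁻¹ * a by simp only [commutatorElement_def]; group,
            hVc _ (inv_mem (hWV ha.1)) _ (hWV (hlt.le (inv_mem ha.2))), inv_mul_cancel_right]
          exact inv_mem ha.2⟩ }
    have hle : W₁ ≤ W' := fun w hw => ⟨hlt.le hw, by
      rw [commutatorElement_def]; exact mul_mem (hinv₁ h w hw) (inv_mem hw)⟩
    have hne : W' ≠ W := fun he => hh fun w hw => ((he.symm ▸ hw : w ∈ W')).2
    have hW' : W' < W := lt_of_le_of_ne (fun w hw => hw.1) hne
    have hinv' : ∀ g : A, ∀ w ∈ W', φ g * w * (φ g)⁻¹ ∈ W' := fun g w hw => ⟨hinv g w hw.1, by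
      have hc : φ h * φ g = φ g * φ h := by rw [← map_mul, ← map_mul, mul_comm]
      have h2 : φ g * φ h * (φ g)⁻¹ = φ h := by rw [← hc, mul_inv_cancel_right]
      have h3 := hinv₁ g _ hw.2
      rwa [show φ g * ⁅φ h, w⁆ * (φ g)⁻¹ = ⁅φ g * φ h * (φ g)⁻¹, φ g * w * (φ g)⁻¹⁆ from
        conjugate_commutatorElement _ _ _, h2] at h3⟩
    have := Subgroup.eq_of_le_of_card_ge hle
      (hmax W' (Finset.mem_filter.2 ⟨Finset.mem_univ _, hW', hinv'⟩))
    intro w hw hwc
    rw [this]
    exact ⟨hw, hwc⟩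
  refine ⟨K :: L, fun h hh w hw => ?_, fun h => ?_⟩
  · -- coprime action
    obtain ⟨hK, hhL⟩ := Subgroup.mem_inf.1 (hh : h ∈ K ⊓ meet L)
    have hu : ⁅φ h, w⁆ ∈ W₁ := hK w hw
    set u := ⁅φ h, w⁆ with hu'
    have h1 : φ h * u * (φ h)⁻¹ = u := hLfix h hhL u hu
    have h2 : φ h * w * (φ h)⁻¹ = u * w := by rw [hu', commutatorElement_def, inv_mul_cancel_right]
    have hj : ∀ j : ℕ, (φ h) ^ j * w * ((φ h) ^ j)⁻¹ = u ^ j * w := fun j => by
      induction j with
      | zero => simp
      | succ j ihj =>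
        calc (φ h) ^ (j + 1) * w * ((φ h) ^ (j + 1))⁻¹
            = φ h * ((φ h) ^ j * w * ((φ h) ^ j)⁻¹) * (φ h)⁻¹ := by rw [pow_succ']; group
          _ = (φ h * u * (φ h)⁻¹) ^ j * (φ h * w * (φ h)⁻¹) := by rw [ihj, conj_pow]; group
          _ = _ := by rw [h1, h2, pow_succ, mul_assoc]
    have h3 : u ^ Nat.card A = 1 := by
      have := hj (Nat.card A)
      rw [← map_pow, pow_card_eq_one', map_one, one_mul, inv_one, mul_one] at this
      exact mul_eq_right.1 this.symm
    have h4 : u = 1 := by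
      have h := Nat.dvd_gcd (orderOf_dvd_of_pow_eq_one h3)
        (orderOf_dvd_of_pow_eq_one (hexp u (hWV (hlt.le hu))))
      rwa [hA.gcd_eq_one, Nat.dvd_one, orderOf_eq_one_iff] at h
    rw [h2, h4, one_mul]
  · have hwtn := wt_nonneg L h
    set C := Subgroup.centralizer ({φ h} : Set X)
    have hidx : (Nat.card W : ℝ) = Nat.card W₁ * W₁.relIndex W := by
      rw [← Nat.cast_mul, Nat.cast_inj, ← Subgroup.relIndex_bot_left W, ← Subgroup.relIndex_bot_left W₁,
        Subgroup.relIndex_mul_relIndex ⊥ W₁ W bot_le hlt.le]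
    by_cases hh : h ∈ K
    · rw [show wt (K :: L) h = wt L h by simp [wt, hh]]
      have h5 : Nat.card ↥(W ⊓ C) ≤ Nat.card ↥(W₁ ⊓ C) * W₁.relIndex W := by
        rw [← Subgroup.relIndex_bot_left (W ⊓ C), ← Subgroup.relIndex_bot_left (W₁ ⊓ C),
          ← Subgroup.relIndex_mul_relIndex ⊥ (W₁ ⊓ C) (W ⊓ C) bot_le (inf_le_inf_right C hlt.le)]
        refine Nat.mul_le_mul_left _ ?_
        have h6 : (W₁ ⊓ C).relIndex (W ⊓ C) = W₁.relIndex (W ⊓ C) := by
          rw [← Subgroup.inf_relIndex_right W₁ (W ⊓ C), ← inf_assoc, inf_eq_left.2 hlt.le]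
        rw [h6]
        exact Subgroup.relIndex_le_of_le_right inf_le_left Subgroup.index_ne_zero_of_finite
      have h5' : (Nat.card ↥(W ⊓ C) : ℝ) ≤ Nat.card ↥(W₁ ⊓ C) * W₁.relIndex W := by exact_mod_cast h5
      calc _ ≤ wt L h * ((Nat.card ↥(W₁ ⊓ C) : ℝ) * W₁.relIndex W) :=
            mul_le_mul_of_nonneg_left h5' hwtn
        _ = wt L h * (Nat.card ↥(W₁ ⊓ C) : ℝ) * W₁.relIndex W := by ring
        _ ≤ (Nat.card W₁ : ℝ) * W₁.relIndex W :=
            mul_le_mul_of_nonneg_right (hLb h) (Nat.cast_nonneg _)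
        _ = _ := hidx.symm
    · rw [show wt (K :: L) h = ((K.index : ℝ) + 1) * wt L h by simp [wt, hh]]
      have h5 : Nat.card ↥(W ⊓ C) ≤ Nat.card ↥(W₁ ⊓ C) := by
        refine Subgroup.card_le_of_le (le_inf (fun w hw => hout h hh w hw.1 ?_) inf_le_right)
        rw [commutatorElement_eq_one_iff_mul_comm.2
          (Subgroup.mem_centralizer_singleton_iff.1 hw.2).symm]
        exact one_mem _
      have h6 : K.index + 1 ≤ W₁.relIndex W := by
        obtain ⟨w₀, hw₀, hw₀'⟩ := SetLike.exists_of_lt hlt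
        set S := W₁.subgroupOf W
        let cls : A → W ⧸ S := fun g => ((⟨φ g * w₀ * (φ g)⁻¹, hinv g w₀ hw₀⟩ : W) : W ⧸ S)
        have hcls : ∀ g g', cls g = cls g' ↔ g⁻¹ * g' ∈ K := fun g g' => by
          rw [QuotientGroup.eq, Subgroup.mem_subgroupOf]
          show (φ g * w₀ * (φ g)⁻¹)⁻¹ * (φ g' * w₀ * (φ g')⁻¹) ∈ W₁ ↔ _
          have e : (φ g)⁻¹ * ((φ g * w₀ * (φ g)⁻¹)⁻¹ * (φ g' * w₀ * (φ g')⁻¹)) * φ g =
              w₀⁻¹ * ⁅φ (g⁻¹ * g'), w₀⁆ * w₀ := by
            rw [map_mul, map_inv, commutatorElement_def]; group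
          have hdir : ∀ (x : X), x ∈ W₁ ↔ (φ g)⁻¹ * x * φ g ∈ W₁ := fun x => by
            refine ⟨fun hx => by simpa [map_inv] using hinv₁ g⁻¹ x hx, fun hx => ?_⟩
            have h7 := hinv₁ g _ hx
            rwa [show φ g * ((φ g)⁻¹ * x * φ g) * (φ g)⁻¹ = x by group] at h7
          rw [hdir, e]
          constructor
          · intro h7
            by_contra hk
            refine hw₀' (hout _ hk w₀ hw₀ ?_)
            have h8 : w₀⁻¹ * ⁅φ (g⁻¹ * g'), w₀⁆ * w₀ = ⁅φ (g⁻¹ * g'), w₀⁆ := by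
              rw [hVc _ (inv_mem (hWV hw₀)) _ (hWV (by
                rw [commutatorElement_def]; exact mul_mem (hinv _ w₀ hw₀) (inv_mem hw₀))),
                inv_mul_cancel_right]
            rwa [h8] at h7
          · intro h7
            rw [hVc _ (inv_mem (hWV hw₀)) _ (hWV (hlt.le (h7 w₀ hw₀))), inv_mul_cancel_right]
            exact h7 w₀ hw₀
        let f : Option (A ⧸ K) → W ⧸ S := fun o => o.elim ((1 : W) : W ⧸ S)
          (Quotient.lift cls fun g g' hr => (hcls g g').2 (QuotientGroup.leftRel_apply.1 hr))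
        have hf : Function.Injective f := by
          have hne1 : ∀ q : A ⧸ K, f (some q) ≠ f none := fun q => by
            induction q using QuotientGroup.induction_on with
            | H g =>
              show cls g ≠ ((1 : W) : W ⧸ S)
              rw [ne_eq, eq_comm, QuotientGroup.eq, inv_one, one_mul, Subgroup.mem_subgroupOf]
              intro h7
              refine hw₀' ?_
              have h8 := hinv₁ g⁻¹ _ h7
              simp only [map_inv, inv_inv] at h8
              rwa [show (φ g)⁻¹ * (φ g * w₀ * (φ g)⁻¹) * φ g = w₀ by group] at h8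
          rintro (_ | q) (_ | q') he
          · rfl
          · exact absurd he.symm (hne1 q')
          · exact absurd he (hne1 q)
          · induction q using QuotientGroup.induction_on with
            | H g =>
              induction q' using QuotientGroup.induction_on with
              | H g' => exact congrArg some (QuotientGroup.eq.2 ((hcls g g').1 he))
        have := Nat.card_le_card_of_injective f hf
        rwa [Finite.card_option, ← Subgroup.index_eq_card, ← Subgroup.index_eq_card] at this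
      have h5' : (Nat.card ↥(W ⊓ C) : ℝ) ≤ Nat.card ↥(W₁ ⊓ C) := by exact_mod_cast h5
      have h6' : (K.index : ℝ) + 1 ≤ W₁.relIndex W := by exact_mod_cast h6
      calc _ ≤ ((K.index : ℝ) + 1) * wt L h * Nat.card ↥(W₁ ⊓ C) :=
            mul_le_mul_of_nonneg_left h5' (by positivity)
        _ = ((K.index : ℝ) + 1) * (wt L h * Nat.card ↥(W₁ ⊓ C)) := by ring
        _ ≤ (W₁.relIndex W : ℝ) * Nat.card W₁ :=
            mul_le_mul h6' (hLb h) (by positivity) (by positivity)
        _ = _ := by rw [hidx, mul_comm]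

/-- Let X be a finite group and V a normal subgroup of X in which every element has order dividing the prime p, whose index in X is prime to p and which is its own centralizer in X; so V is an elementary abelian normal Sylow p-subgroup, and any complement G to V in X is a group of order prime to p acting faithfully on the vector space V by conjugation (the coprime linear setting of the k(GV) problem). Let G be a complement to V in X and suppose that for some v in V the centralizer of v in G is abelian. Then the number of conjugacy classes of X is at most the order of V (the abelian-stabilizer criterion for the k(GV) problem). -/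
theorem result {X : Type*} [Group X] [Finite X] (p : ℕ) [Fact p.Prime] (V : Subgroup X) [V.Normal] (hVexp : ∀ v ∈ V, v ^ p = 1) (hidx : ¬ p ∣ V.index) (hself : Subgroup.centralizer (V : Set X) = V) (G : Subgroup X) (hGV : Subgroup.IsComplement' V G) (v : X) (hv : v ∈ V) (hab : ∀ a ∈ G ⊓ Subgroup.centralizer ({v} : Set X), ∀ b ∈ G ⊓ Subgroup.centralizer ({v} : Set X), a * b = b * a) : Nat.card (ConjClasses X) ≤ Nat.card V := by
  classical
  have hp : p.Prime := Fact.out
  have := Fintype.ofFinite X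
  have := Fintype.ofFinite (Cfsg.IrrCharacter X)
  have hVc : ∀ a ∈ V, ∀ b ∈ V, a * b = b * a := fun a ha b hb => by
    have hb' : b ∈ Subgroup.centralizer (V : Set X) := hself.symm ▸ hb
    exact Subgroup.mem_centralizer_iff.1 hb' a ha
  have hVp : IsPGroup p V := fun x => ⟨1, Subtype.ext (by rw [pow_one]; exact hVexp x x.2)⟩
  set H := G ⊓ Subgroup.centralizer ({v} : Set X) with hH
  letI : CommGroup H :=
    { (inferInstance : Group H) with mul_comm := fun a b => Subtype.ext (hab a a.2 b b.2) }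
  have := Fintype.ofFinite H
  have := @Fintype.ofFinite (H →* ℂˣ) CfsgLib.CharDegree.Knorr.finite_dual
  have hGcard : Nat.card G = V.index := by
    rw [Subgroup.index_eq_card]; exact (Nat.card_congr hGV.symm.QuotientMulEquiv.toEquiv).symm
  have hHcop : (Nat.card H).Coprime p := by
    refine Nat.Coprime.coprime_dvd_left (Subgroup.card_dvd_of_le inf_le_left) ?_
    rw [hGcard]
    exact ((Nat.Prime.coprime_iff_not_dvd hp).2 hidx).symm
  obtain ⟨L, hfix, hLb⟩ := exists_family H.subtype hHcop V hVexp hVc (Nat.card V) V rfl le_rfl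
    fun h w hw => (inferInstance : V.Normal).conj_mem w hw _
  have hL : meet L = ⊥ := by
    refine eq_bot_iff.2 fun h hh => Subgroup.mem_bot.2 (Subtype.ext ?_)
    have hc : (h : X) ∈ Subgroup.centralizer (V : Set X) := Subgroup.mem_centralizer_iff.2 fun w hw => by
      have := hfix h hh w hw
      exact (mul_inv_eq_iff_eq_mul.1 this).symm
    rw [hself] at hc
    exact (Subgroup.disjoint_def.1 hGV.disjoint) hc h.2.1
  obtain ⟨ζ, N, k, hζ, hN, hk, hR⟩ := exists_conj_vectors (Nat.card X) Nat.card_pos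
  let ev : Polynomial ℤ →+ (Fin N → ℂ) :=
    { toFun := fun P i => Polynomial.aeval (ζ ^ k i) P
      map_zero' := funext fun i => map_zero _
      map_add' := fun P Q => funext fun i => map_add _ _ _ }
  have hR' : ∀ x ∈ ev.range, x ≠ 0 → (N : ℝ) ≤ ∑ i, ‖x i‖ ^ 2 := by
    rintro _ ⟨P, rfl⟩ hx
    exact hR P hx
  set Z := Subgroup.zpowers v
  have hcomm : ∀ (h : H) (z : Z), (h : X) * z = z * h := fun h z => by
    obtain ⟨j, hj⟩ := Subgroup.mem_zpowers_iff.1 z.2
    rw [← hj]
    exact ((show Commute (h : X) v from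
      Subgroup.mem_centralizer_singleton_iff.1 h.2.2).zpow_right j).eq
  let Φ : H × Z →* X :=
    { toFun := fun x => (x.1 : X) * (x.2 : X)
      map_one' := by simp
      map_mul' := fun x y => by
        show ((x.1 * y.1 : H) : X) * ((x.2 * y.2 : Z) : X) = _
        rw [Subgroup.coe_mul, Subgroup.coe_mul]
        calc (x.1 : X) * y.1 * (x.2 * y.2) = x.1 * (y.1 * x.2) * y.2 := by simp only [mul_assoc]
          _ = x.1 * (x.2 * y.1) * y.2 := by rw [hcomm]
          _ = _ := by simp only [mul_assoc] }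
  have := Fintype.ofFinite (H × Z)
  have := Fintype.ofFinite (Cfsg.IrrCharacter (H × Z))
  -- the lower bound
  have hlow : ∀ χ : Cfsg.IrrCharacter X, (N : ℝ) * (Nat.card H : ℝ) ^ 2 ≤
      ∑ h : H, wt L h * ∑ i, ‖(χ : X → ℂ) ((h : X) * v ^ k i)‖ ^ 2 := by
    intro χ
    have hcomp : Cfsg.IsCharacter (H × Z) (fun x => (χ : X → ℂ) (Φ x)) :=
      IsChar.comp Φ (IsIrr.isCharacter χ.2)
    have hm : ∀ μ : Cfsg.IrrCharacter (H × Z), ∃ m : ℕ,
        Cfsg.classInner (fun x => (χ : X → ℂ) (Φ x)) (μ : H × Z → ℂ) = m := fun μ =>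
      IsChar.classInner_eq_natCast hcomp (IsIrr.isCharacter μ.2)
    choose m hm using hm
    have hl : ∀ μ : Cfsg.IrrCharacter (H × Z), ∃ l : H × Z →* ℂˣ,
        (μ : H × Z → ℂ) = fun x => (l x : ℂ) := fun μ =>
      exists_hom_of_degree_one μ (charDegree_of_comm (fun a b => Prod.ext (mul_comm _ _)
        (Subtype.ext (Commute.eq (by
          obtain ⟨i, hi⟩ := Subgroup.mem_zpowers_iff.1 a.2.2
          obtain ⟨j, hj⟩ := Subgroup.mem_zpowers_iff.1 b.2.2
          rw [← hi, ← hj]
          exact Commute.zpow_zpow_self v i j)))) μ)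
    choose l hl using hl
    have hz : ∀ μ, ∃ j : ℕ, ζ ^ j = (l μ (1, ⟨v, Subgroup.mem_zpowers v⟩) : ℂ) := fun μ => by
      haveI : NeZero (Nat.card X) := ⟨Nat.card_pos.ne'⟩
      obtain ⟨j, -, hj⟩ := hζ.eq_pow_of_pow_eq_one
        (ξ := (l μ (1, ⟨v, Subgroup.mem_zpowers v⟩) : ℂ)) (by
          have h1 : (⟨v, Subgroup.mem_zpowers v⟩ : Z) ^ Nat.card X = 1 :=
            Subtype.ext (by simp [pow_card_eq_one'])
          rw [← Units.val_pow_eq_pow_val, ← map_pow, Prod.pow_mk, one_pow, h1,
            ← Prod.one_eq_mk, map_one, Units.val_one])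
      exact ⟨j, hj⟩
    choose j hj using hz
    let res : Cfsg.IrrCharacter (H × Z) → (H →* ℂˣ) := fun μ => (l μ).comp (MonoidHom.inl H Z)
    let a : (H →* ℂˣ) → Fin N → ℂ := fun b i =>
      ∑ μ ∈ Finset.univ.filter (fun μ => res μ = b), (m μ : ℂ) * (ζ ^ k i) ^ j μ
    have ha : ∀ b, a b ∈ ev.range := fun b => by
      refine ⟨∑ μ ∈ Finset.univ.filter (fun μ => res μ = b),
        Polynomial.C (m μ : ℤ) * Polynomial.X ^ j μ, funext fun i => ?_⟩
      show Polynomial.aeval (ζ ^ k i) _ = _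
      simp [a, map_sum]
    have hcomb : ∀ i (h : H), comb a i h = (χ : X → ℂ) ((h : X) * v ^ k i) := fun i h => by
      have h1 := congrFun (classFunction_eq_sum (IsChar.isClassFunction hcomp))
        (h, (⟨v, Subgroup.mem_zpowers v⟩ : Z) ^ k i)
      rw [Finset.sum_apply] at h1
      simp only [comb, a, Finset.sum_mul]
      rw [show (χ : X → ℂ) ((h : X) * v ^ k i) = _ from h1, ← Finset.sum_fiberwise Finset.univ res]
      refine Finset.sum_congr rfl fun b _ => Finset.sum_congr rfl fun μ hμ => ?_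
      rw [Pi.smul_apply, smul_eq_mul, hm, congrFun (hl μ), ← (Finset.mem_filter.1 hμ).2,
        show ((h, (⟨v, Subgroup.mem_zpowers v⟩ : Z) ^ k i) : H × Z) =
          (h, 1) * ((1 : H), (⟨v, Subgroup.mem_zpowers v⟩ : Z)) ^ k i by
          rw [Prod.pow_mk, one_pow, Prod.mk_mul_mk, mul_one, one_mul],
        map_mul, map_pow, Units.val_mul, Units.val_pow_eq_pow_val, ← hj, ← pow_mul, ← pow_mul,
        mul_comm (j μ)]
      rw [show (res μ) h = l μ (h, 1) from rfl]
      ring
    have hne : (χ : X → ℂ) v ≠ 0 := by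
      intro h0
      obtain ⟨t, ht⟩ := hVp ⟨v, hv⟩
      have ht' : v ^ p ^ t = 1 := congrArg Subtype.val ht
      have h1 := CfsgLib.CharAction.congMod_char_pow (p := p) (IsIrr.isCharacter χ.2) v t
      rw [h0, zero_pow (pow_ne_zero t hp.ne_zero), ht', ← cast_irrDegree] at h1
      have hdvd := CfsgLib.CharAction.CongMod.dvd_of_natCast hp.ne_zero h1.symm
      obtain ⟨d, ρ, hρ, -, hd⟩ := exists_rep χ
      have h2 := CfsgLib.Clifford.finrank_dvd_index d ρ V hVc
      rw [Module.finrank_fin_fun, hd] at h2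
      exact hidx (hdvd.trans h2)
    have hane : a ≠ 0 := fun h0 => by
      have h1 := hcomb ⟨0, hN⟩ 1
      rw [OneMemClass.coe_one, one_mul] at h1
      refine CfsgLib.CharDegree.apply_pow_ne_zero (IsIrr.isCharacter χ.2) (hk ⟨0, hN⟩) hne ?_
      rw [← h1, comb, h0]
      simp
    refine (sq_card_le_form ev.range hR' L hL a ha hane).trans (le_of_eq ?_)
    exact Finset.sum_congr rfl fun h _ => by simp only [hcomb]
  -- the centralizers
  have hcent : ∀ (h : H) (i : Fin N), Nat.card (Subgroup.centralizer ({(h : X) * v ^ k i} : Set X)) ≤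
      Nat.card H * Nat.card ↥(V ⊓ Subgroup.centralizer ({(h : X)} : Set X)) := by
    intro h i
    have hhv : Commute (h : X) v := Subgroup.mem_centralizer_singleton_iff.1 h.2.2
    have hsplit : ∀ y ∈ Subgroup.centralizer ({(h : X) * v ^ k i} : Set X),
        Commute y (h : X) ∧ Commute y v := by
      intro y hy
      have h1 : Commute y ((h : X) * v ^ k i) := Subgroup.mem_centralizer_singleton_iff.1 hy
      have h2 := h1.pow_right p
      rw [(hhv.pow_right (k i)).mul_pow, ← pow_mul, mul_comm (k i), pow_mul, hVexp v hv, one_pow,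
        mul_one] at h2
      obtain ⟨r, hr⟩ := exists_pow_eq_self_of_coprime (x := (h : X)) (n := p)
        ((hHcop.coprime_dvd_left (Subgroup.orderOf_coe h ▸ orderOf_dvd_natCard h)).symm)
      have h3 : Commute y (h : X) := hr ▸ h2.pow_right r
      have h4 : Commute y (v ^ k i) := by
        have := (h3.inv_right).mul_right h1
        rwa [inv_mul_cancel_left] at this
      obtain ⟨r', hr'⟩ := exists_pow_eq_self_of_coprime (x := v) (n := k i)
        ((hk i).coprime_dvd_left (orderOf_dvd_natCard v)).symm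
      exact ⟨h3, hr' ▸ h4.pow_right r'⟩
    rw [← Nat.card_prod]
    have hdec : ∀ y : Subgroup.centralizer ({(h : X) * v ^ k i} : Set X),
        ∃ x : H × ↥(V ⊓ Subgroup.centralizer ({(h : X)} : Set X)), (x.2 : X) * (x.1 : X) = y := by
      intro y
      obtain ⟨⟨w, g⟩, hwg, -⟩ := hGV.existsUnique (y : X)
      simp only at hwg
      obtain ⟨hyh, hyv⟩ := hsplit y y.2
      have hwv : Commute (w : X) v := hVc w w.2 v hv
      have hgv : Commute (g : X) v := by
        have := hwv.inv_left.mul_left hyv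
        rwa [← hwg, inv_mul_cancel_left] at this
      have hgH : (g : X) ∈ H := ⟨g.2, Subgroup.mem_centralizer_singleton_iff.2 hgv.eq⟩
      have hgh : Commute (g : X) (h : X) := congrArg Subtype.val (mul_comm (⟨g, hgH⟩ : H) h)
      have hwh : Commute (w : X) (h : X) := by
        have := hyh.mul_left hgh.inv_left
        rwa [← hwg, mul_inv_cancel_right] at this
      exact ⟨(⟨g, hgH⟩, ⟨w, w.2, Subgroup.mem_centralizer_singleton_iff.2 hwh.eq⟩), hwg⟩
    choose f hf using hdec
    exact Nat.card_le_card_of_injective f fun a b he => Subtype.ext (by rw [← hf a, ← hf b, he])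
  -- comparison
  have htot : (N : ℝ) * (Nat.card H : ℝ) ^ 2 * (Fintype.card (Cfsg.IrrCharacter X) : ℝ) ≤
      (N : ℝ) * (Nat.card H : ℝ) ^ 2 * (Nat.card V : ℝ) := by
    have h1 := Finset.sum_le_sum fun χ (_ : χ ∈ Finset.univ) => hlow χ
    rw [Finset.sum_const, Finset.card_univ, nsmul_eq_mul, mul_comm, Finset.sum_comm] at h1
    refine h1.trans ?_
    have hcol : ∀ x : X, ∑ χ : Cfsg.IrrCharacter X, ‖(χ : X → ℂ) x‖ ^ 2 =
        (Nat.card (Subgroup.centralizer ({x} : Set X)) : ℝ) := fun x => by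
      have h2 := column_orthogonality x x
      rw [if_pos (IsConj.refl x)] at h2
      simp only [Complex.mul_conj, Complex.normSq_eq_norm_sq] at h2
      exact_mod_cast h2
    refine (Finset.sum_le_sum (g := fun _ : H => (N : ℝ) * Nat.card H * Nat.card V) fun h _ => ?_).trans
      (le_of_eq ?_)
    · rw [← Finset.mul_sum, Finset.sum_comm]
      simp only [hcol]
      calc wt L h * ∑ i, (Nat.card (Subgroup.centralizer ({(h : X) * v ^ k i} : Set X)) : ℝ)
          ≤ wt L h * ((N : ℝ) * (Nat.card H *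
              Nat.card ↥(V ⊓ Subgroup.centralizer ({(h : X)} : Set X)) : ℝ)) := by
            refine mul_le_mul_of_nonneg_left ?_ (wt_nonneg L h)
            have := Finset.sum_le_card_nsmul (Finset.univ : Finset (Fin N))
              (fun i => (Nat.card (Subgroup.centralizer ({(h : X) * v ^ k i} : Set X)) : ℝ))
              ((Nat.card H * Nat.card ↥(V ⊓ Subgroup.centralizer ({(h : X)} : Set X)) : ℝ))
              fun i _ => by exact_mod_cast hcent h i
            rwa [Finset.card_univ, Fintype.card_fin, nsmul_eq_mul] at this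
        _ = (N : ℝ) * Nat.card H *
              (wt L h * Nat.card ↥(V ⊓ Subgroup.centralizer ({(h : X)} : Set X))) := by ring
        _ ≤ _ := mul_le_mul_of_nonneg_left (hLb h) (by positivity)
    · rw [Finset.sum_const, Finset.card_univ, nsmul_eq_mul, ← Nat.card_eq_fintype_card]
      ring
  have hpos : (0 : ℝ) < (N : ℝ) * (Nat.card H : ℝ) ^ 2 :=
    mul_pos (Nat.cast_pos.2 hN) (pow_pos (Nat.cast_pos.2 Nat.card_pos) 2)
  rw [← card_irrCharacter, Nat.card_eq_fintype_card (α := Cfsg.IrrCharacter X)]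
  exact_mod_cast le_of_mul_le_mul_left htot hpos

end Cfsg.Agent.S4958
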