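import Cfsg.Statements.S2761
import Cfsg.Agent.Lib.LocalEven.Qd

set_option autoImplicit false
open Cfsg

namespace Cfsg.Agent.S2761

/-- The group Qd(2), the natural semidirect product of an elementary abelian group of order 4 by SL₂(2) (realised as the affine subgroup of SL₃(2)), is isomorphic to the symmetric group of degree 4. -/
theorem result : Nonempty (↥(Cfsg.qd 2) ≃* Equiv.Perm (Fin 4)) := by
  haveI : Fact (Nat.Prime 2) := ⟨Nat.prime_two⟩
  show Nonempty (↥(Cfsg.qdOver (ZMod 2)) ≃* Equiv.Perm (Fin 4))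
  let e : (Fin 2 → ZMod 2) ≃ Fin 4 := Fintype.equivFinOfCardEq (by simp)
  let act : ↥(Cfsg.qdOver (ZMod 2)) → (Fin 2 → ZMod 2) → (Fin 2 → ZMod 2) := fun M v =>
    CfsgLib.LocalEven.Qd.trans (M * CfsgLib.LocalEven.Qd.mkElt (ZMod 2) 1 v)
  have hact : ∀ M v, act M v = ((CfsgLib.LocalEven.Qd.block (ZMod 2) M :
      Matrix.SpecialLinearGroup (Fin 2) (ZMod 2)) : Matrix (Fin 2) (Fin 2) (ZMod 2)).mulVec v +
      CfsgLib.LocalEven.Qd.trans M := fun M v => by
    show CfsgLib.LocalEven.Qd.trans _ = _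
    rw [CfsgLib.LocalEven.Qd.trans_mul, CfsgLib.LocalEven.Qd.trans_mkElt]
  have hmul : ∀ M N v, act (M * N) v = act M (act N v) := fun M N v => by
    rw [hact, hact, hact, map_mul, CfsgLib.LocalEven.Qd.trans_mul, Matrix.SpecialLinearGroup.coe_mul,
      Matrix.mulVec_add, ← Matrix.mulVec_mulVec]
    abel
  have hone : ∀ v, act 1 v = v := fun v => by
    rw [hact, map_one, Matrix.SpecialLinearGroup.coe_one, Matrix.one_mulVec]
    ext i; fin_cases i <;> simp [CfsgLib.LocalEven.Qd.trans]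
  letI : MulAction ↥(Cfsg.qdOver (ZMod 2)) (Fin 2 → ZMod 2) :=
    { smul := act, one_smul := hone, mul_smul := hmul }
  let f := (e.permCongrHom.toMonoidHom).comp (MulAction.toPermHom ↥(Cfsg.qdOver (ZMod 2)) (Fin 2 → ZMod 2))
  have hinj : Function.Injective f := by
    refine e.permCongrHom.injective.comp fun M N h => ?_
    have h' : ∀ v, act M v = act N v := fun v => Equiv.ext_iff.mp h v
    have h0 := h' 0
    rw [hact, hact, Matrix.mulVec_zero, Matrix.mulVec_zero, zero_add, zero_add] at h0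
    refine CfsgLib.LocalEven.Qd.ext_parts (Subtype.ext ?_) h0
    ext i j
    have := congrFun (h' (Pi.single j 1)) i
    rw [hact, hact, h0, Matrix.mulVec_single_one, Matrix.mulVec_single_one] at this
    simpa using this
  have hcard : Nat.card ↥(Cfsg.qdOver (ZMod 2)) = 24 := by
    let ee : ↥(Cfsg.qdOver (ZMod 2)) ≃ Matrix.SpecialLinearGroup (Fin 2) (ZMod 2) × (Fin 2 → ZMod 2) :=
      { toFun := fun M => (CfsgLib.LocalEven.Qd.block (ZMod 2) M, CfsgLib.LocalEven.Qd.trans M)
        invFun := fun x => CfsgLib.LocalEven.Qd.mkElt (ZMod 2) x.1 x.2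
        left_inv := fun M => CfsgLib.LocalEven.Qd.ext_parts (CfsgLib.LocalEven.Qd.block_mkElt _ _)
          (CfsgLib.LocalEven.Qd.trans_mkElt _ _)
        right_inv := fun x => Prod.ext (CfsgLib.LocalEven.Qd.block_mkElt _ _) (CfsgLib.LocalEven.Qd.trans_mkElt _ _) }
    rw [Nat.card_congr ee, Nat.card_prod, CfsgLib.Classical.Two.card_SL_two]
    simp
  refine ⟨MulEquiv.ofBijective f ((Nat.bijective_iff_injective_and_card f).mpr ⟨hinj, ?_⟩)⟩
  rw [hcard, Nat.card_eq_fintype_card, Fintype.card_perm, Fintype.card_fin]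
  rfl

end Cfsg.Agent.S2761
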