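import Cfsg.Statements.S0132
import Cfsg.Agent.Lib.Transfer.Fusion
import Cfsg.Agent.Lib.OddLocal.FittingHall

set_option autoImplicit false
open Cfsg

namespace Cfsg.Agent.S0132

/-- A minimal non-p-nilpotent finite group is a minimal non-nilpotent group with a normal Sylow p-subgroup. -/
theorem result {G : Type*} [Group G] [Finite G] {p : ℕ} [Fact p.Prime] (h1 : ¬ Cfsg.HasNormalPComplement p G) (h2 : ∀ H : Subgroup G, H ≠ ⊤ → Cfsg.HasNormalPComplement p H) : (∀ H : Subgroup G, H ≠ ⊤ → Group.IsNilpotent H) ∧ ¬ Group.IsNilpotent G ∧ ∀ P : Sylow p G, (P : Subgroup G).Normal := by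
  classical
  have hp : p.Prime := Fact.out
  obtain ⟨P⟩ : Nonempty (Sylow p G) := inferInstance
  obtain ⟨Q, hQP, g, hg, hgc, hgn⟩ : ∃ Q : Subgroup G, Q ≤ (P : Subgroup G) ∧
      ∃ g ∈ Subgroup.normalizer (Q : Set G), Nat.Coprime (orderOf g) p ∧
        g ∉ Subgroup.centralizer (Q : Set G) := by
    by_contra hcon
    push Not at hcon
    exact h1 (CfsgLib.Transfer.hasNormalPComplement_of_centralizes P hcon)
  have hQp : IsPGroup p Q := P.2.to_le hQP
  have key : ∀ W : Subgroup G, Q ≤ W → W ≠ ⊤ → ∀ y ∈ W, y ∈ Subgroup.normalizer (Q : Set G) →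
      Nat.Coprime (orderOf y) p → y ∈ Subgroup.centralizer (Q : Set G) := by
    intro W hQW hW y hy hyn hyc
    have h := CfsgLib.Transfer.mem_centralizer_of_hasNormalPComplement (h2 W hW)
      (Q := Q.subgroupOf W) hQp.comap_subtype (g := ⟨y, hy⟩) ?_ (by rwa [Subgroup.orderOf_mk])
    · rw [Subgroup.mem_centralizer_iff] at h ⊢
      intro x hx
      exact congrArg Subtype.val (h ⟨x, hQW hx⟩ hx)
    · rw [Subgroup.mem_normalizer_iff]
      intro x
      exact Subgroup.mem_normalizer_iff.mp hyn x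
  have hNtop : Subgroup.normalizer (Q : Set G) = ⊤ := by
    by_contra hne
    exact hgn (key _ Subgroup.le_normalizer hne g hg hg hgc)
  have hQn : Q.Normal := Subgroup.normalizer_eq_top_iff.mp hNtop
  set C := Subgroup.centralizer (Q : Set G) with hC
  obtain ⟨q, hq, hqd⟩ := Nat.exists_prime_and_dvd
    (fun h => hgn ((QuotientGroup.eq_one_iff g).mp (orderOf_eq_one_iff.mp h)) :
      orderOf (g : G ⧸ C) ≠ 1)
  obtain ⟨a, m, hm, ham⟩ :=
    Nat.exists_eq_pow_mul_and_not_dvd (orderOf_pos g).ne' q hq.ne_one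
  set x := g ^ m with hx
  have hxo : orderOf x = q ^ a := by
    rw [hx, orderOf_pow, ham, Nat.gcd_eq_right (dvd_mul_left _ _), Nat.mul_div_cancel]
    exact Nat.pos_of_ne_zero fun h => hm (h ▸ dvd_zero q)
  have hxc : Nat.Coprime (orderOf x) p := hgc.coprime_dvd_left (orderOf_pow_dvd m)
  have hxn : x ∉ C := fun h => hm (hqd.trans (orderOf_dvd_of_pow_eq_one
    (by rw [← QuotientGroup.mk_pow]; exact (QuotientGroup.eq_one_iff _).mpr h)))
  have htop : Q ⊔ Subgroup.zpowers x = ⊤ := by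
    by_contra hne
    exact hxn (key _ le_sup_left hne x (Subgroup.mem_sup_right (Subgroup.mem_zpowers x))
      (hNtop ▸ Subgroup.mem_top x) hxc)
  have hsurj : Function.Surjective ((QuotientGroup.mk' Q).comp (Subgroup.zpowers x).subtype) := by
    intro y
    obtain ⟨w, rfl⟩ := QuotientGroup.mk_surjective y
    have hw : w ∈ Q ⊔ Subgroup.zpowers x := htop ▸ Subgroup.mem_top w
    obtain ⟨u, hu, v, hv, rfl⟩ := Subgroup.mem_sup_of_normal_left.mp hw
    exact ⟨⟨v, hv⟩, by simp [(QuotientGroup.eq_one_iff u).mpr hu]⟩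
  have hQidx : ¬ p ∣ Q.index := fun hd => by
    rw [Subgroup.index_eq_card] at hd
    have h3 := hd.trans (Subgroup.card_dvd_of_surjective _ hsurj)
    rw [Nat.card_zpowers] at h3
    exact hp.not_dvd_one (hxc.gcd_eq_one ▸ Nat.dvd_gcd h3 dvd_rfl)
  have hQall : ∀ R : Sylow p G, (R : Subgroup G) = Q := fun R =>
    ((hQp.toSylow hQidx).is_maximal' R.2 (hQp.le_sylow_of_normal R))
  have hQab : ∀ u v : G ⧸ Q, u * v = v * u := by
    intro u v
    obtain ⟨u, rfl⟩ := hsurj u
    obtain ⟨v, rfl⟩ := hsurj v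
    rw [← map_mul, ← map_mul]
    exact congrArg _ ((inferInstance : IsMulCommutative (Subgroup.zpowers x)).is_comm.comm u v)
  refine ⟨fun H hH => ?_, fun hnil => hxn ?_, fun R => hQall R ▸ hQn⟩
  · have hnc := h2 H hH
    set K := pResidual p H with hK
    have hKQ : K ⊓ Q.subgroupOf H = ⊥ := by
      have hpg : IsPGroup p (Q.subgroupOf H) := hQp.comap_subtype
      obtain ⟨j, hj⟩ := IsPGroup.iff_card.mp hpg
      refine (Subgroup.disjoint_of_coprime_natCard ?_).eq_bot
      rw [hj]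
      exact (CfsgLib.Transfer.hasNormalPComplement_iff_coprime.mp hnc).pow_right j
    have : Group.IsNilpotent (H ⧸ K) :=
      CfsgLib.Transfer.isPGroup_quotient_pResidual.isNilpotent
    let _ : CommGroup (G ⧸ Q) := { (inferInstance : Group (G ⧸ Q)) with mul_comm := hQab }
    have : Group.IsNilpotent (G ⧸ Q) := inferInstance
    set f : H →* (H ⧸ K) × (G ⧸ Q) :=
      (QuotientGroup.mk' K).prod ((QuotientGroup.mk' Q).comp H.subtype) with hf
    have hker : f.ker ≤ Subgroup.center H := by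
      intro z hz
      obtain ⟨hz1, hz2⟩ := Prod.ext_iff.mp (MonoidHom.mem_ker.mp hz)
      have hmem : z ∈ K ⊓ Q.subgroupOf H :=
        ⟨(QuotientGroup.eq_one_iff z).mp hz1, (QuotientGroup.eq_one_iff (z : G)).mp hz2⟩
      rw [hKQ, Subgroup.mem_bot] at hmem
      rw [hmem]
      exact Subgroup.one_mem _
    exact Subgroup.isNilpotent_of_ker_le_center f hker
  · rw [hC, Subgroup.mem_centralizer_iff]
    intro y hy
    obtain ⟨j, hj⟩ := isPGroup_iff_orderOf_dvd_pow.mp hQp ⟨y, hy⟩
    rw [Subgroup.orderOf_mk] at hj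
    exact (CfsgLib.OddLocal.commute_of_coprime_orderOf hnil
      ((hxc.pow_right j).coprime_dvd_right hj).symm).eq

end Cfsg.Agent.S0132
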