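import Cfsg.Statements.S0079
import Cfsg.Agent.Lib.Transfer.Fusion
import Cfsg.Agent.Lib.OddLocal.FittingHall

set_option autoImplicit false
open Cfsg

namespace Cfsg.Agent.S0079

/-- A nilpotent Hall subgroup has a normal complement exactly when elements of it that are conjugate in the whole group are already conjugate inside it. -/
theorem result {G : Type*} [Group G] [Finite G] (H : Subgroup G) (hH : Group.IsNilpotent H) (hHall : Nat.Coprime (Nat.card H) H.index) : (∃ N : Subgroup G, N.Normal ∧ N.IsComplement' H) ↔ ∀ x ∈ H, ∀ y ∈ H, (∃ g : G, g * x * g⁻¹ = y) → ∃ h ∈ H, h * x * h⁻¹ = y := by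
  classical
  constructor
  · rintro ⟨N, hN, hc⟩ x hx y hy ⟨g, hg⟩
    obtain ⟨⟨⟨n, hn⟩, ⟨h, hh⟩⟩, he⟩ := hc.2 g
    refine ⟨h, hh, ?_⟩
    have he' : n * h = g := he
    have hz : n * (h * x * h⁻¹) * n⁻¹ = y := by rw [← hg, ← he']; group
    have hmem : (h * x * h⁻¹)⁻¹ * y ∈ N := by
      rw [← hz]
      have := mul_mem (hN.conj_mem n hn (h * x * h⁻¹)⁻¹) (inv_mem hn)
      convert this using 1
      group
    have hmem2 : (h * x * h⁻¹)⁻¹ * y ∈ H :=
      mul_mem (inv_mem (mul_mem (mul_mem hh hx) (inv_mem hh))) hy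
    have h1 : (h * x * h⁻¹)⁻¹ * y ∈ (⊥ : Subgroup G) := hc.disjoint.le_bot ⟨hmem, hmem2⟩
    exact inv_mul_eq_one.mp (Subgroup.mem_bot.mp h1)
  · intro hfus
    have key : ∀ p : ℕ, p.Prime → p ∣ Nat.card H → (Nat.card (pResidual p G)).Coprime p := by
      intro p hp hpH
      have := Fact.mk hp
      have hnd : ¬ p ∣ H.index := fun h => hp.not_dvd_one (hHall.gcd_eq_one ▸ Nat.dvd_gcd hpH h)
      obtain ⟨T, -, hTH, hTp, hTi⟩ :=
        CfsgLib.Transfer.exists_sylow_of_le (bot_le (a := H)) (IsPGroup.of_bot (p := p))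
      have hTi' : ¬ p ∣ T.index := fun hd => by
        rw [← Subgroup.relIndex_mul_index hTH] at hd
        exact (hp.dvd_mul.mp hd).elim hTi hnd
      set P := hTp.toSylow hTi' with hP
      have hPH : (P : Subgroup G) ≤ H := hTH
      refine CfsgLib.Transfer.hasNormalPComplement_iff_coprime.mp
        (CfsgLib.Transfer.hasNormalPComplement_of_inf_pResidual P ?_)
      have hfoc : _root_.commutator G ⊓ (P : Subgroup G) ≤ ⁅(P : Subgroup G), (P : Subgroup G)⁆ := by
        refine CfsgLib.Transfer.commutator_inf_le_of_fusion P _ fun x hx g hg => ?_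
        obtain ⟨h, hh, he⟩ := hfus x (hPH hx) _ (hPH hg) ⟨g⁻¹, by rw [inv_inv]⟩
        obtain ⟨s, hs, k, hk, hsk⟩ :=
          CfsgLib.Transfer.exists_mul_mem_pResidual (P.subtype hPH) (⟨h, hh⟩ : H)
        obtain ⟨j, hj⟩ := isPGroup_iff_orderOf_dvd_pow.mp P.2 ⟨x, hx⟩
        have hkc : k ∈ Subgroup.centralizer {(⟨x, hPH hx⟩ : H)} := by
          refine (CfsgLib.Transfer.pResidual_le_iff.mpr fun y hy => ?_) hk
          rw [Subgroup.mem_centralizer_iff]
          intro z hz
          rw [Set.mem_singleton_iff.mp hz]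
          refine (CfsgLib.OddLocal.commute_of_coprime_orderOf hH ?_).eq
          rw [Subgroup.orderOf_mk] at hj ⊢
          exact ((hy.pow_right j).coprime_dvd_right hj).symm
        have hkx : x * (k : G) = k * x :=
          congrArg Subtype.val (Subgroup.mem_centralizer_iff.mp hkc _ rfl)
        have hhsk : h = (s : G) * k := congrArg Subtype.val hsk
        have hse : (s : G) * x * (s : G)⁻¹ = g⁻¹ * x * g := by
          rw [← he, hhsk]
          calc (s : G) * x * (s : G)⁻¹ = (s : G) * ((x * k) * (k : G)⁻¹) * (s : G)⁻¹ := by group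
            _ = (s : G) * ((k * x) * (k : G)⁻¹) * (s : G)⁻¹ := by rw [hkx]
            _ = _ := by group
        rw [← hse]
        have := Subgroup.commutator_mem_commutator (inv_mem hx)
          (show (s : G) ∈ (P : Subgroup G) from hs)
        simpa [commutatorElement_def, mul_assoc] using this
      rw [CfsgLib.Transfer.inf_pResidual_eq_of_commutator_le P le_rfl hfoc, eq_bot_iff]
      rintro x ⟨-, y, hy, rfl⟩
      have hb : pResidual p (P : Subgroup G) ≤ ⊥ := CfsgLib.Transfer.pResidual_le_iff.mpr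
        fun z hz => CfsgLib.Transfer.eq_one_of_coprime_of_isPGroup P.2 hz
      rw [Subgroup.mem_bot.mp (hb hy)]
      exact Subgroup.one_mem _
    set N : Subgroup G := ⨅ p ∈ {p : ℕ | p.Prime ∧ p ∣ Nat.card H}, pResidual p G with hN
    have : N.Normal := Subgroup.normal_iInf_normal fun p =>
      Subgroup.normal_iInf_normal fun _ => CfsgLib.Transfer.pResidual_normal
    have hNcop : (Nat.card N).Coprime (Nat.card H) := by
      refine Nat.coprime_of_dvd fun p hp hpN hpH => ?_
      have h1 : p ∣ Nat.card (pResidual p G) :=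
        hpN.trans (Subgroup.card_dvd_of_le (iInf₂_le p ⟨hp, hpH⟩))
      exact hp.not_dvd_one ((key p hp hpH).gcd_eq_one ▸ Nat.dvd_gcd h1 dvd_rfl)
    have hle : ∀ (q : ℕ), q.Prime → ¬ q ∣ Nat.card H → ∀ S : Sylow q G, (S : Subgroup G) ≤ N := by
      intro q hq hqH S
      have := Fact.mk hq
      refine le_iInf₂ fun p hp => ?_
      obtain ⟨j, hj⟩ := IsPGroup.iff_card.mp S.2
      refine CfsgLib.Transfer.le_pResidual_of_coprime ?_
      rw [hj]
      refine Nat.Coprime.pow_left j ((Nat.coprime_primes hq hp.1).mpr ?_)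
      rintro rfl
      exact hqH hp.2
    refine ⟨N, this, Subgroup.isComplement'_of_coprime ?_ hNcop⟩
    have hdvd : H.index ∣ Nat.card N := by
      refine (Nat.dvd_iff_prime_pow_dvd_dvd _ _).mpr fun q k hq hqk => ?_
      rcases Nat.eq_zero_or_pos k with rfl | hk
      · simp
      have := Fact.mk hq
      obtain ⟨S⟩ : Nonempty (Sylow q G) := inferInstance
      have hqH : ¬ q ∣ Nat.card H := fun h =>
        hq.not_dvd_one (hHall.gcd_eq_one ▸ Nat.dvd_gcd h ((dvd_pow_self q hk.ne').trans hqk))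
      exact (S.pow_dvd_card_of_pow_dvd_card (hqk.trans (Subgroup.index_dvd_card H))).trans
        (Subgroup.card_dvd_of_le (hle q hq hqH S))
    have hdvd2 : Nat.card N ∣ H.index := hNcop.dvd_of_dvd_mul_left
      ((Subgroup.card_subgroup_dvd_card N).trans H.card_mul_index.symm.dvd)
    rw [Nat.dvd_antisymm hdvd2 hdvd, mul_comm]
    exact H.card_mul_index

end Cfsg.Agent.S0079
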