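import Cfsg.Statements.S0562
import Mathlib.GroupTheory.Sylow

set_option autoImplicit false
open Cfsg

namespace Cfsg.Agent.S0562

/-- Let the finite group G be the product HK of subgroups, A normal in H, B normal in K, and L the normalizer of the subgroup generated by A and B. Then every element of L is a product of an element of L ∩ H and an element of L ∩ K. -/
theorem result {G : Type*} [Group G] [Finite G] (H K A B : Subgroup G) (hHK : ∀ g : G, ∃ h ∈ H, ∃ k ∈ K, g = h * k) (hA : A ≤ H) (hAn : (A.subgroupOf H).Normal) (hB : B ≤ K) (hBn : (B.subgroupOf K).Normal) : ∀ g ∈ Subgroup.normalizer ((A ⊔ B : Subgroup G) : Set G), ∃ h ∈ Subgroup.normalizer ((A ⊔ B : Subgroup G) : Set G) ⊓ H, ∃ k ∈ Subgroup.normalizer ((A ⊔ B : Subgroup G) : Set G) ⊓ K, g = h * k := by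
  intro g hg
  obtain ⟨h, hh, k, hk, rfl⟩ := hHK g
  set J := A ⊔ B with hJ
  have fA : ∀ x ∈ H, A.map (MulAut.conj x).toMonoidHom = A := fun x hx =>
    Subgroup.mem_normalizer_iff_map_conj_eq.mp
      ((Subgroup.normal_subgroupOf_iff_le_normalizer hA).mp hAn hx)
  have fB : ∀ x ∈ K, B.map (MulAut.conj x).toMonoidHom = B := fun x hx =>
    Subgroup.mem_normalizer_iff_map_conj_eq.mp
      ((Subgroup.normal_subgroupOf_iff_le_normalizer hB).mp hBn hx)
  have hgJ : J.map (MulAut.conj (h * k)).toMonoidHom = J :=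
    Subgroup.mem_normalizer_iff_map_conj_eq.mp hg
  have hle : J.map (MulAut.conj h).toMonoidHom ≤ J := by
    rw [hJ, Subgroup.map_sup]
    refine sup_le ((fA h hh).le.trans le_sup_left) ?_
    rw [← hJ]
    refine le_trans ?_ hgJ.le
    have e : (MulAut.conj (h * k)).toMonoidHom =
        (MulAut.conj h).toMonoidHom.comp (MulAut.conj k).toMonoidHom := by
      ext; simp [mul_assoc]
    rw [e, ← Subgroup.map_map]
    refine Subgroup.map_mono ?_
    rw [hJ, Subgroup.map_sup, fB k hk]
    exact le_sup_right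
  have hhN : h ∈ Subgroup.normalizer (J : Set G) :=
    Subgroup.mem_normalizer_iff_map_conj_eq.mpr (Subgroup.eq_of_le_of_card_ge hle
      (Subgroup.card_map_of_injective (MulAut.conj h).injective).ge)
  have hkN : k ∈ Subgroup.normalizer (J : Set G) := by
    simpa using mul_mem (inv_mem hhN) hg
  exact ⟨h, Subgroup.mem_inf.mpr ⟨hhN, hh⟩, k, Subgroup.mem_inf.mpr ⟨hkN, hk⟩, rfl⟩

end Cfsg.Agent.S0562
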