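import Cfsg.Statements.S5378
import Cfsg.Agent.Lib.Recog.CoOneType.Separate
import Cfsg.Agent.Lib.ThreeTrans.LargeGeneration

set_option autoImplicit false
open Cfsg

namespace Cfsg.Agent.S5378

/-- Let G be a finite group of Conway type: it has an involution z whose centralizer C has generalized Fitting subgroup Q extraspecial of order 2^9 with C/Q isomorphic to the commutator subgroup of the isometry group of the hyperbolic quadratic form in dimension 8 over the field with two elements, and some conjugate of z other than z lies in Q. Then G has exactly three conjugacy classes of involutions. -/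
theorem result {G : Type*} [Group G] [Finite G] (z : G) (hz : orderOf z = 2) (Q : Subgroup (Subgroup.centralizer ({z} : Set G))) [Q.Normal] (hF : Cfsg.generalizedFittingSubgroup (Subgroup.centralizer ({z} : Set G)) = Q) (hQ : Cfsg.IsExtraspecial 2 Q) (hcard : Nat.card Q = 2 ^ 9) (e : (Subgroup.centralizer ({z} : Set G)) ⧸ Q ≃* Cfsg.Omega (ZMod 2) (Cfsg.quadFormPlus 4 (ZMod 2))) (hnwc : ∃ g : G, (∃ hq : g * z * g⁻¹ ∈ Subgroup.centralizer ({z} : Set G), (⟨g * z * g⁻¹, hq⟩ : Subgroup.centralizer ({z} : Set G)) ∈ Q) ∧ g * z * g⁻¹ ≠ z) : ∃ a b c : G, orderOf a = 2 ∧ orderOf b = 2 ∧ orderOf c = 2 ∧ ¬ IsConj a b ∧ ¬ IsConj a c ∧ ¬ IsConj b c ∧ ∀ x : G, orderOf x = 2 → IsConj x a ∨ IsConj x b ∨ IsConj x c := by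
  classical
  obtain ⟨g, ⟨hq, hgQ⟩, hgz⟩ := hnwc
  set Q0 : Subgroup G := Q.map (Subgroup.centralizer ({z} : Set G)).subtype with hQ0
  have eQ : Q ≃* Q0 := Subgroup.equivMapOfInjective Q (Subgroup.centralizer ({z} : Set G)).subtype (Subgroup.centralizer ({z} : Set G)).subtype_injective
  haveI : Fact (Nat.Prime 2) := ⟨Nat.prime_two⟩
  have hQ' : Cfsg.IsExtraspecial 2 Q0 := CfsgLib.ThreeTrans.isExtraspecial_congr hQ eQ
  have hle : Q0 ≤ Subgroup.centralizer ({z} : Set G) := Subgroup.map_subtype_le Q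
  have hL : CfsgLib.ThreeTrans.LargeData z Q0 :=
    CfsgLib.ThreeTrans.LargeGeneration.largeData_of_gFitting hz hle (by rw [hF]) hQ'
  have hH : CfsgLib.Recog.CoOneType.Hyp z Q0 := by
    refine ⟨hL, by rw [← Nat.card_congr eQ.toEquiv, hcard]; norm_num, ?_⟩
    rw [Subgroup.card_eq_card_quotient_mul_card_subgroup Q, hcard, Nat.card_congr e.toEquiv,
      CfsgLib.Recog.CoOneType.card_omega_eight, mul_comm]
  obtain ⟨p, k, F⟩ := hH.exists_frame ⟨g, ⟨_, hgQ, rfl⟩, hgz⟩
  obtain ⟨huA, huu, -⟩ := F.uEl_spec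
  obtain ⟨hwA, hww, -⟩ := F.wEl_spec
  have hne : ∀ {t : G} {v : Nat}, CfsgLib.Recog.CoOneType.Acts z Q0 p t (CfsgLib.Recog.CoOneType.rho v) →
      CfsgLib.Recog.CoOneType.rho v ≠ CfsgLib.Recog.CoOneType.one → t * t = 1 → orderOf t = 2 := by
    intro t v ht hv htt
    refine orderOf_eq_prime (by rw [pow_two, htt]) fun e1 => hv ?_
    exact F.sys.acts_unique (List.length_map _) rfl ht (e1 ▸ F.sys.acts_one)
  refine ⟨z, _, _, hz, hne huA (by decide +kernel) huu, hne hwA (by decide +kernel) hww, F.uEl_ne, F.wEl_ne,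
    F.uEl_ne_wEl, fun x hx => ?_⟩
  have hx1 : x ≠ 1 := fun e1 => by rw [e1, orderOf_one] at hx; omega
  have hxx : x * x = 1 := by rw [← pow_two, ← hx, pow_orderOf_eq_one]
  exact (F.classify hxx hx1).imp IsConj.symm (Or.imp IsConj.symm IsConj.symm)

end Cfsg.Agent.S5378
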