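import Cfsg.Statements.S0385
import Cfsg.Agent.Lib.Sporadic.Census
import Cfsg.Agent.Lib.Sporadic.Mathieu
-- import your own Cfsg.Agent.* helpers here

set_option autoImplicit false
open Cfsg CfsgLib.Sporadic
open scoped Pointwise

namespace Cfsg.Agent.S0385

/-- The 6-point intersections of octads with a fixed dodecad form a Steiner system S(5, 6, 12) on the dodecad. -/
theorem result (d : Finset Cfsg.GolayPt) (hd : d ∈ Cfsg.dodecads) : Cfsg.IsSteinerSystem 5 6 {h : Finset {p : Cfsg.GolayPt // p ∈ d} | ∃ o ∈ Cfsg.octads, (o ∩ d).card = 6 ∧ h = Finset.subtype (fun p => p ∈ d) o} := by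
  have hmeet : ∀ o ∈ octads, (o ∩ d).card ≥ 5 → (o ∩ d).card = 6 := by
    intro o ho h5
    have hs := card_code_support (symmDiff_mem_supports ho.1 hd.1)
    have hc := card_symmDiff o d
    have hle := Finset.card_le_card (Finset.inter_subset_left : o ∩ d ⊆ o)
    rw [ho.2, hd.2] at hc
    rw [ho.2] at hle
    omega
  refine ⟨?_, fun s hs => ?_⟩
  · rintro _ ⟨o, -, h6, rfl⟩
    rw [Finset.card_subtype, Finset.filter_mem_eq_inter]
    exact h6
  · have hcard : (s.map (Function.Embedding.subtype _)).card = 5 := by rw [Finset.card_map, hs]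
    obtain ⟨o, ho, hso⟩ := exists_octad_of_five hcard
    have h5 : (o ∩ d).card ≥ 5 := by
      rw [ge_iff_le, ← hcard]
      refine Finset.card_le_card fun x hx => Finset.mem_inter.2 ⟨hso hx, ?_⟩
      obtain ⟨y, -, rfl⟩ := Finset.mem_map.1 hx
      exact y.2
    refine ⟨Finset.subtype (fun p => p ∈ d) o, ⟨⟨o, ho, hmeet o ho h5, rfl⟩, fun x hx => ?_⟩, ?_⟩
    · rw [Finset.mem_subtype]
      exact hso (Finset.mem_map_of_mem _ hx)
    · rintro _ ⟨⟨o', ho', -, rfl⟩, hsub⟩
      have : o' = o := eq_of_inter_five ho' ho (by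
        rw [← hcard]
        refine Finset.card_le_card fun x hx => Finset.mem_inter.2 ⟨?_, hso hx⟩
        obtain ⟨y, hy, rfl⟩ := Finset.mem_map.1 hx
        exact Finset.mem_subtype.1 (hsub hy))
      rw [this]

end Cfsg.Agent.S0385
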