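import Cfsg.Statements.S2150
import Cfsg.Agent.Lib.LocalEvenB.MinIndexSU.FourReal
import Cfsg.Agent.Lib.LocalEvenB.MinIndexSU.FourIndex
import Cfsg.Agent.Lib.Classical.Unitary.MatrixStructure

set_option autoImplicit false
open Cfsg

namespace Cfsg.Agent.S2150

/-- Minimal index of a proper subgroup of the four-dimensional unitary groups: for a field F with q² elements, every proper subgroup of PSU₄(q) has index at least (q + 1)(q³ + 1), and that index is attained. -/
theorem result {F : Type*} [Field F] [Fintype F] (q : ℕ) (hF : Fintype.card F = q ^ 2) (hq : 2 ≤ q) : (∀ H : Subgroup (Cfsg.PSU 4 F q), H ≠ ⊤ → (q + 1) * (q ^ 3 + 1) ≤ H.index) ∧ (∃ H : Subgroup (Cfsg.PSU 4 F q), H.index = (q + 1) * (q ^ 3 + 1)) := by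
  have hσ := CfsgLib.Classical.Herm.card_fixed_powHom hF
  have hherm := CfsgLib.Classical.Herm.hermStd_isHerm (n := 4) hF
  obtain ⟨e⟩ : Nonempty (Cfsg.SU 4 F q ≃* CfsgLib.Classical.Herm.HSU
      (CfsgLib.Classical.Herm.hermStd 4 hF)) :=
    ⟨CfsgLib.Classical.Herm.suEquiv 4 hF⟩
  have hmk : Function.Surjective
      (QuotientGroup.mk' (Subgroup.center (Cfsg.SU 4 F q))) :=
    QuotientGroup.mk'_surjective _
  refine ⟨fun H hH => ?_, ?_⟩
  · have hne : ((H.comap (QuotientGroup.mk' (Subgroup.center (Cfsg.SU 4 F q)))).map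
        e.toMonoidHom) ≠ ⊤ := by
      intro h
      apply hH
      have h1 := congrArg (Subgroup.comap e.toMonoidHom) h
      rw [Subgroup.comap_map_eq_self_of_injective e.injective, Subgroup.comap_top] at h1
      rw [← Subgroup.map_comap_eq_self_of_surjective hmk H, h1,
        Subgroup.map_top_of_surjective _ hmk]
    have h2 := CfsgLib.LocalEvenB.MinIndexSU.le_index_four hherm
      (CfsgLib.Classical.Herm.finrank_std : _ = 2 + 2) hne
    rw [hσ, Subgroup.index_map_of_bijective (f := e.toMonoidHom) e.bijective,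
      Subgroup.index_comap_of_surjective _ hmk] at h2
    exact h2
  · obtain ⟨H, hZ, hH⟩ := CfsgLib.LocalEvenB.MinIndexSU.exists_index_four hherm
      CfsgLib.Classical.Herm.finrank_std
    rw [hσ] at hH
    refine ⟨(H.comap e.toMonoidHom).map
      (QuotientGroup.mk' (Subgroup.center (Cfsg.SU 4 F q))), ?_⟩
    rw [Subgroup.index_map_eq _ hmk ?_, Subgroup.index_comap_of_surjective (f := e.toMonoidHom) _ e.surjective, hH]
    rw [QuotientGroup.ker_mk']
    intro z hz
    rw [Subgroup.mem_comap]
    refine hZ ?_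
    rw [← CfsgLib.Classical.Herm.map_center_of_equiv e]
    exact Subgroup.mem_map_of_mem _ hz

end Cfsg.Agent.S2150
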