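import Cfsg.Statements.S0584
import Cfsg.Agent.Lib.Components.Subnormal
import Mathlib.GroupTheory.Frattini

set_option autoImplicit false
open Cfsg

namespace Cfsg.Agent.S0584

/-- Let B ≤ A be normal subgroups of a finite group G with B contained in the Frattini subgroup of G. If A modulo B is nilpotent then A is nilpotent. -/
theorem result {G : Type*} [Group G] [Finite G] (A B : Subgroup G) [A.Normal] [B.Normal] (hBA : B ≤ A) (hB : B ≤ frattini G) (h : Group.IsNilpotent (↥A ⧸ B.subgroupOf A)) : Group.IsNilpotent A := by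
  refine ((Group.isNilpotent_of_finite_tfae (G := A)).out 0 3 rfl rfl).mpr fun p hp P => ?_
  haveI := hp
  set f := QuotientGroup.mk' (B.subgroupOf A) with hf
  have hPn : ((P : Subgroup A).map f).Normal := by
    haveI := h
    have := (inferInstance : ((P.mapSurjective (QuotientGroup.mk'_surjective (B.subgroupOf A)) :
      Sylow p (↥A ⧸ B.subgroupOf A)) : Subgroup (↥A ⧸ B.subgroupOf A)).Normal)
    rwa [Sylow.coe_mapSurjective] at this
  have hT : ((P : Subgroup A) ⊔ B.subgroupOf A).Normal := by
    have := hPn.comap f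
    rwa [Subgroup.comap_map_eq, hf, QuotientGroup.ker_mk'] at this
  have hN : Subgroup.normalizer (((P : Subgroup A).map A.subtype : Subgroup G) : Set G) = ⊤ := by
    refine frattini_nongenerating (eq_top_iff.mpr fun g _ => ?_)
    have hPA := (Subgroup.map_subtype_le (P : Subgroup A))
    obtain ⟨n, hn, a, ha, rfl⟩ := Subgroup.mem_sup_of_normal_right.mp
      (show g ∈ Subgroup.normalizer (((P : Subgroup A).map A.subtype : Subgroup G) : Set G) ⊔ A by
        rw [Sylow.normalizer_sup_eq_top P]; trivial)
    refine mul_mem (Subgroup.mem_sup_left hn) ?_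
    have hmem : (⟨a, ha⟩ : A) ∈ Subgroup.normalizer ((P : Subgroup A) : Set A) ⊔ B.subgroupOf A := by
      obtain ⟨n', hn', c, hc, e⟩ := Subgroup.mem_sup_of_normal_right.mp
        (show (⟨a, ha⟩ : A) ∈ Subgroup.normalizer ((P : Subgroup A) : Set A) ⊔
          ((P : Subgroup A) ⊔ B.subgroupOf A) by
          haveI := hT
          have h2 := Sylow.normalizer_sup_eq_top
            (P.subtype (le_sup_left : (P : Subgroup A) ≤ (P : Subgroup A) ⊔ B.subgroupOf A))
          rw [Sylow.coe_subtype, Subgroup.map_subgroupOf_eq_of_le le_sup_left] at h2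
          rw [h2]; trivial)
      rw [← e]
      refine mul_mem (Subgroup.mem_sup_left hn') ((sup_le ?_ le_sup_right :
        (P : Subgroup A) ⊔ B.subgroupOf A ≤ _) hc)
      exact Subgroup.le_normalizer.trans le_sup_left
    have h3 := Subgroup.mem_map_of_mem A.subtype hmem
    rw [Subgroup.map_sup, CfsgLib.Components.map_subtype_subgroupOf hBA] at h3
    exact (sup_le_sup (Subgroup.le_normalizer_map _) hB) h3
  exact (Subgroup.normalizer_eq_top_iff.mp hN).of_map_subtype

end Cfsg.Agent.S0584
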