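import Cfsg.Statements.S1969
import Cfsg.Agent.Lib.Techniques.SectionFusion

set_option autoImplicit false
universe u
open Cfsg

namespace Cfsg.Agent.S1969

/-- Let p be a prime, G a finite group and W an isomorphism-invariant p-group functor (W assigns to every group Q a subgroup W(Q), nontrivial whenever Q is a nontrivial finite p-group, and every isomorphism from a finite p-group Q onto a group R carries W(Q) onto W(R)). Suppose that W(S*) is normal in G* whenever G* = K/R is a section of G with C_{G*}(O_p(G*)) ≤ O_p(G*) and S* is a Sylow p-subgroup of G*. Then W controls strong fusion in every section of G: for every section K/R and every Sylow p-subgroup T of K/R, the subgroup W(T) controls strong fusion in K/R. -/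
theorem result {G : Type u} [Group G] [Finite G] {p : ℕ} [Fact p.Prime] (W : ∀ (Q : Type u) [Group Q], Subgroup Q) (hW : Cfsg.IsCharPFunctor.{u} p W) (hloc : ∀ (K R : Subgroup G) [hR : (R.subgroupOf K).Normal], Subgroup.centralizer ((Cfsg.pCore p (↥K ⧸ R.subgroupOf K) : Subgroup (↥K ⧸ R.subgroupOf K)) : Set (↥K ⧸ R.subgroupOf K)) ≤ Cfsg.pCore p (↥K ⧸ R.subgroupOf K) → ∀ T : Sylow p (↥K ⧸ R.subgroupOf K), (Cfsg.inducedFunctor (G := (↥K ⧸ R.subgroupOf K)) W ((T : Subgroup (↥K ⧸ R.subgroupOf K)))).Normal) : ∀ (K R : Subgroup G) [hR : (R.subgroupOf K).Normal], ∀ T : Sylow p (↥K ⧸ R.subgroupOf K), Cfsg.ControlsStrongFusion p (Cfsg.inducedFunctor (G := (↥K ⧸ R.subgroupOf K)) W ((T : Subgroup (↥K ⧸ R.subgroupOf K)))) := by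
  intro K R hR T
  have h𝓦 : ∀ V ∈ ({W} : Set (∀ (Q : Type u) [Group Q], Subgroup Q)),
      Cfsg.IsCharPFunctor.{u} p V := fun V hV => by
    rw [Set.mem_singleton_iff] at hV
    exact hV ▸ hW
  have hctl := CfsgLib.Techniques.familyFusion_of_sections h𝓦
    (fun H _ _ hs hc => CfsgLib.Techniques.sections_of_quotients h𝓦 (fun K' R' hR' hc' => by
      obtain ⟨S⟩ : Nonempty (Sylow p (↥K' ⧸ R'.subgroupOf K')) := inferInstance
      refine CfsgLib.Techniques.familyControls_of_spath S fun A y hA hAy => ?_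
      refine CfsgLib.Techniques.SPath.single ⟨_, ⟨W, rfl, rfl⟩, Subgroup.mem_inf.mpr ⟨trivial, ?_⟩⟩
        hA hAy
      rw [Subgroup.normalizer_eq_top_iff.mpr (hloc K' R' hc' S)]
      trivial) H hs hc)
    (↥K ⧸ R.subgroupOf K) (CfsgLib.Techniques.isSec_quotient K R)
  refine ⟨T, Subgroup.map_subtype_le _, fun A hA => ⟨hA, fun g hg => ?_⟩⟩
  refine (CfsgLib.Techniques.familyControlsFusion_at
    (CfsgLib.Techniques.inducedSet_conjugacy h𝓦 _) hctl
    (CfsgLib.Techniques.isSylowSub_sylow T) A g trivial hA hg).exists_mem ?_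
  rintro m ⟨_, ⟨V, hV, rfl⟩, hm⟩
  rw [Set.mem_singleton_iff] at hV
  subst hV
  exact (Subgroup.mem_inf.mp hm).2

end Cfsg.Agent.S1969
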