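import Cfsg.Statements.S1972
import Cfsg.Agent.Lib.Techniques.Engel

set_option autoImplicit false
universe u
open Cfsg

namespace Cfsg.Agent.S1972

/-- Let p be a prime, G a finite group and W an isomorphism-invariant p-group functor (W assigns to every group Q a subgroup W(Q), nontrivial whenever Q is a nontrivial finite p-group, and every isomorphism from a finite p-group Q onto a group R carries W(Q) onto W(R)). Suppose that whenever G* = K/R is a section of G with C_{G*}(O_p(G*)) ≤ O_p(G*) and S* is a Sylow p-subgroup of G* with W(S*) not normal in G*, there is an element g of S* outside O_p(G*) such that [X, g, …, g] ≤ Y with p − 1 entries g, for every chief factor X/Y of G* with X ≤ O_p(G*). Then W controls transfer in every section of G. -/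
theorem result {G : Type u} [Group G] [Finite G] {p : ℕ} [Fact p.Prime] (W : ∀ (Q : Type u) [Group Q], Subgroup Q) (hW : Cfsg.IsCharPFunctor.{u} p W) (hloc : ∀ (K R : Subgroup G) [hR : (R.subgroupOf K).Normal], Subgroup.centralizer ((Cfsg.pCore p (↥K ⧸ R.subgroupOf K) : Subgroup (↥K ⧸ R.subgroupOf K)) : Set (↥K ⧸ R.subgroupOf K)) ≤ Cfsg.pCore p (↥K ⧸ R.subgroupOf K) → ∀ T : Sylow p (↥K ⧸ R.subgroupOf K), ¬ (Cfsg.inducedFunctor (G := (↥K ⧸ R.subgroupOf K)) W ((T : Subgroup (↥K ⧸ R.subgroupOf K)))).Normal → ∃ g : (↥K ⧸ R.subgroupOf K), g ∈ (T : Subgroup (↥K ⧸ R.subgroupOf K)) ∧ g ∉ Cfsg.pCore p (↥K ⧸ R.subgroupOf K) ∧ ∀ U V : Subgroup (↥K ⧸ R.subgroupOf K), Cfsg.IsChiefFactor U V → U ≤ Cfsg.pCore p (↥K ⧸ R.subgroupOf K) → Cfsg.iterCommutator U (Subgroup.zpowers g) (p - 1) ≤ V) : ∀ (K R : Subgroup G) [hR : (R.subgroupOf K).Normal], Cfsg.ControlsTransferIn p (Cfsg.inducedFunctor (G := (↥K ⧸ R.subgroupOf K)) W) ⊤ := by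
  intro K₀ R₀ hR₀
  have h𝓦 : ∀ V ∈ ({W} : Set (∀ (Q : Type u) [Group Q], Subgroup Q)),
      Cfsg.IsCharPFunctor.{u} p V := fun V hV => by
    rw [Set.mem_singleton_iff] at hV
    exact hV ▸ hW
  rw [← CfsgLib.Techniques.familyTransfer_singleton_iff,
    ← CfsgLib.Techniques.inducedSet_singleton]
  refine CfsgLib.Techniques.familyTransfer_of_sections h𝓦 (fun H _ _ hs hc ind indq => ?_) _
    (CfsgLib.Techniques.isSec_quotient K₀ R₀)
  haveI : (Cfsg.pCore p H).Normal := CfsgLib.Core.normal_pCore p H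
  obtain ⟨S⟩ : Nonempty (Sylow p H) := inferInstance
  by_cases hQ : Cfsg.pCore p H = ⊥
  · rw [hQ, Subgroup.coe_bot, Subgroup.centralizer_eq_top_iff_subset.mpr (by simp),
      le_bot_iff] at hc
    refine CfsgLib.Techniques.familyControlsTransfer_of_le S ?_
    exact (inf_le_left.trans (le_top.trans hc.le)).trans bot_le
  by_contra hG
  have hfail := CfsgLib.Techniques.not_pCore_inf_le h𝓦 ind (indq _ hQ) hG S
  obtain ⟨K, R, hn, ⟨e⟩⟩ := hs.exists_quotient
  obtain ⟨T⟩ : Nonempty (Sylow p (↥K ⧸ R.subgroupOf K)) := inferInstance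
  have hTe : CfsgLib.Techniques.IsSylowSub p ((T : Subgroup (↥K ⧸ R.subgroupOf K)).map
      e.toMonoidHom) ⊤ :=
    CfsgLib.Techniques.isSylowSub_sylow (T.mapSurjective (f := e.toMonoidHom) e.surjective)
  obtain ⟨n, -, hn'⟩ := hTe.exists_conj_eq (CfsgLib.Techniques.isSylowSub_sylow S)
  let e' := e.trans (MulAut.conj n⁻¹)
  have hQe := CfsgLib.Core.map_equiv_pCore (p := p) e'
  have hmap : (T : Subgroup (↥K ⧸ R.subgroupOf K)).map e'.toMonoidHom = (S : Subgroup H) := by
    refine Eq.trans ?_ (CfsgLib.Techniques.map_conj_inv_conj (S : Subgroup H) n)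
    rw [hn', Subgroup.map_map]
    rfl
  have hnn : ¬ (Cfsg.inducedFunctor (G := ↥K ⧸ R.subgroupOf K) W
      (T : Subgroup (↥K ⧸ R.subgroupOf K))).Normal := by
    intro hnorm
    have hSn := hnorm.map e'.toMonoidHom e'.surjective
    rw [← CfsgLib.Techniques.inducedFunctor_map hW T.2 _ e'.injective.injOn, hmap] at hSn
    refine hfail (le_trans ?_ (le_of_eq (CfsgLib.Techniques.transferPart_singleton W _).symm))
    rw [Subgroup.normalizer_eq_top_iff.mpr hSn, top_inf_eq]
    exact inf_le_inf (CfsgLib.Core.pCore_le_sylow S) le_rfl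
  obtain ⟨g, hgT, hgQ, hgE⟩ :=
    hloc K R (CfsgLib.PLocal.centralizer_pCore_le_congr e'.symm hc) T hnn
  obtain ⟨U, V, hUV, hUQ, hUV'⟩ := CfsgLib.Techniques.exists_chiefFactor_not_engel h𝓦 ind S
    (Set.singleton_nonempty W) hfail (e'.toMonoidHom g) (hmap.le ⟨g, hgT, rfl⟩) (fun h => by
      rw [← hQe] at h
      exact hgQ ((Subgroup.mem_map_iff_mem (show Function.Injective e'.toMonoidHom from e'.injective)).mp h))
  have hsm : ∀ X : Subgroup H, (X.map e'.symm.toMonoidHom).map e'.toMonoidHom = X := fun X => by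
    rw [Subgroup.map_map, show e'.toMonoidHom.comp e'.symm.toMonoidHom = MonoidHom.id H from
      MonoidHom.ext fun x => e'.apply_symm_apply x, Subgroup.map_id]
  apply hUV'
  have h := Subgroup.map_mono (f := e'.toMonoidHom) (hgE (U.map e'.symm.toMonoidHom)
    (V.map e'.symm.toMonoidHom) (CfsgLib.Techniques.isChiefFactor_map e'.symm hUV)
    ((Subgroup.map_mono hUQ).trans (CfsgLib.Core.map_equiv_pCore (p := p) e'.symm).le))
  rwa [CfsgLib.Techniques.iterCommutator_map, hsm, hsm] at h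

end Cfsg.Agent.S1972
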