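import Cfsg.Statements.S1250
import Cfsg.Agent.Lib.TwoGroups.Closed

set_option autoImplicit false
open Cfsg

namespace Cfsg.Agent.S1250

/-- Let S be a Sylow p-subgroup of the finite group G, A ≤ S strongly closed in S, and N a normal subgroup. Then the image of A in G ⧸ N is strongly closed in the image of S (which is a Sylow p-subgroup of G ⧸ N). -/
theorem result {G : Type*} [Group G] [Finite G] {p : ℕ} [Fact p.Prime] (S : Sylow p G) (A : Subgroup G) (hA : Cfsg.IsStronglyClosed A (S : Subgroup G)) (N : Subgroup G) [N.Normal] : Cfsg.IsStronglyClosed (A.map (QuotientGroup.mk' N)) ((S : Subgroup G).map (QuotientGroup.mk' N)) := by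
  refine ⟨Subgroup.map_mono hA.1, ?_⟩
  rintro _ ⟨a, ha, rfl⟩ q hq
  obtain ⟨g, rfl⟩ := QuotientGroup.mk'_surjective N q
  have hmem : g * a * g⁻¹ ∈ (S : Subgroup G) ⊔ N := by
    have h : g * a * g⁻¹ ∈ ((S : Subgroup G).map (QuotientGroup.mk' N)).comap (QuotientGroup.mk' N) := by
      rw [Subgroup.mem_comap]; simpa using hq
    rwa [Subgroup.comap_map_eq, QuotientGroup.ker_mk'] at h
  have hpw : ∃ k : ℕ, (g * a * g⁻¹) ^ (p ^ k) = 1 := by
    obtain ⟨k, hk⟩ := S.isPGroup' ⟨a, hA.1 ha⟩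
    have hk' : a ^ p ^ k = 1 := congrArg Subtype.val hk
    exact ⟨k, by rw [conj_pow, hk', mul_one, mul_inv_cancel]⟩
  obtain ⟨n, hn, hn'⟩ := CfsgLib.TwoGroups.exists_conj_mem_sylow_of_mem_sup S N hpw hmem
  have h1 := hA.2 a ha (n * g) (by simpa [mul_assoc] using hn')
  refine ⟨n * g * a * (n * g)⁻¹, h1, ?_⟩
  have hn1 : (QuotientGroup.mk' N) n = 1 := (QuotientGroup.eq_one_iff n).2 hn
  simp only [map_mul, map_inv, hn1, one_mul]

end Cfsg.Agent.S1250
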