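import Cfsg.Statements.S1960
import Cfsg.Agent.Lib.Techniques.Control
import Cfsg.Agent.Lib.Transfer.Fusion

set_option autoImplicit false
open Cfsg

namespace Cfsg.Agent.S1960

/-- Let p be a prime, G a finite group with Sylow p-subgroup S, and 𝓦 a set of conjugacy functors for p on G. Suppose that 𝓦 controls transfer in N_G(T) for every nonidentity subgroup T of S for which N_S(T) is a Sylow p-subgroup of N_G(T): for a Sylow p-subgroup T' of N_G(T), the intersection of T' with the derived subgroup of N_G(T) is generated by its intersections with the derived subgroups of the normalizers in N_G(T) of the W(T'), W ∈ 𝓦. Then 𝓦 controls transfer in G: S ∩ G' is generated by the subgroups S ∩ (N_G(W(S)))', W ∈ 𝓦. -/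
theorem result {G : Type*} [Group G] [Finite G] {p : ℕ} [Fact p.Prime] (S : Sylow p G) (𝓦 : Set (Subgroup G → Subgroup G)) (h𝓦 : ∀ W ∈ 𝓦, Cfsg.IsConjugacyFunctor p W) (hloc : ∀ T : Subgroup G, T ≤ (S : Subgroup G) → T ≠ ⊥ → ¬ p ∣ ((S : Subgroup G) ⊓ Subgroup.normalizer ((T : Subgroup G) : Set G)).relIndex (Subgroup.normalizer ((T : Subgroup G) : Set G)) → Cfsg.FamilyControlsTransferIn p 𝓦 (Subgroup.normalizer ((T : Subgroup G) : Set G))) : Cfsg.FamilyControlsTransferIn p 𝓦 ⊤ := by
  have hSp : IsPGroup p (S : Subgroup G) := S.2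
  set Z := ⨆ W ∈ 𝓦, (S : Subgroup G) ⊓
    ⁅(⊤ : Subgroup G) ⊓ Subgroup.normalizer ((W (S : Subgroup G) : Subgroup G) : Set G),
      (⊤ : Subgroup G) ⊓ Subgroup.normalizer ((W (S : Subgroup G) : Subgroup G) : Set G)⁆ with hZ
  have main := CfsgLib.Techniques.downward_induction S
    (fun A g => ∀ a ∈ A, g * a * g⁻¹ * a⁻¹ ∈ Z)
    (fun U => (S : Subgroup G) ⊓ Subgroup.normalizer (U : Set G) ⊓
      ⁅Subgroup.normalizer (U : Set G), Subgroup.normalizer (U : Set G)⁆ ≤ Z)
    (fun A g h B hB a ha => h a (hB ha))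
    (fun A g k h1 h2 a ha => by
      have := Z.mul_mem (h2 _ ⟨a, ha, rfl⟩) (h1 a ha)
      simpa [mul_assoc] using this)
    (fun g a ha => by
      rw [Subgroup.coe_bot, Set.mem_singleton_iff] at ha
      subst ha; simp)
    ?_ ?_
  · refine ⟨(S : Subgroup G), le_top, S.2, (CfsgLib.Techniques.isSylowSub_sylow S).2.2,
      le_antisymm ?_ (iSup₂_le fun W _ => inf_le_inf le_rfl (Subgroup.commutator_mono le_top le_top))⟩
    have hfoc := CfsgLib.Transfer.commutator_inf_le_of_fusion S Z fun a ha g hg => by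
      have := main (Subgroup.zpowers a⁻¹) g⁻¹ (Subgroup.zpowers_le.mpr (inv_mem ha)) (by
        rw [Subgroup.map_le_iff_le_comap, Subgroup.zpowers_le]
        show g⁻¹ * a⁻¹ * g⁻¹⁻¹ ∈ (S : Subgroup G)
        simpa [mul_assoc] using (S : Subgroup G).inv_mem hg) _
          (Subgroup.mem_zpowers a⁻¹)
      simpa [mul_assoc] using Z.inv_mem this
    rw [commutator_def, inf_comm] at hfoc
    exact hfoc
  · intro U hUS hUne hfull hK hQ
    set P₀ := (S : Subgroup G) ⊓ Subgroup.normalizer (U : Set G) with hP₀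
    rw [CfsgLib.Techniques.familyControlsTransfer_at h𝓦 (hloc U hUS hUne hfull)
      (hfull.isSylowSub hSp)]
    refine iSup₂_le fun V hV => ?_
    rcases eq_or_lt_of_le (inf_le_left : P₀ ≤ (S : Subgroup G)) with he | hlt
    · rw [he, hZ]
      exact le_trans (inf_le_inf le_rfl (Subgroup.commutator_mono (inf_le_inf le_top le_rfl)
        (inf_le_inf le_top le_rfl))) (le_iSup₂_of_le V hV le_rfl)
    have hP₀p : IsPGroup p P₀ := hSp.to_le inf_le_left
    have hgrow := CfsgLib.Techniques.lt_inf_normalizer_functor (h𝓦 V hV) hSp hlt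
    have hl := CfsgLib.Transfer.card_lt_of_lt hgrow
    set P₁ := (S : Subgroup G) ⊓ Subgroup.normalizer (V P₀ : Set G)
    have hU1S : V P₀ ≤ (S : Subgroup G) :=
      (CfsgLib.Techniques.functor_le (h𝓦 V hV) hP₀p).trans inf_le_left
    have hU1ne : V P₀ ≠ ⊥ := CfsgLib.Techniques.functor_ne_bot (h𝓦 V hV) hP₀p fun h =>
      hUne (le_bot_iff.mp (h ▸ le_inf hUS Subgroup.le_normalizer))
    obtain ⟨a, haS, hafull, haN⟩ := CfsgLib.Techniques.exists_fullyNormalized_conj S hU1S
    set U₁ := (V P₀).map (MulAut.conj a).toMonoidHom with hU₁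
    have hU₁ne : U₁ ≠ ⊥ := fun h => hU1ne (by
      rw [← CfsgLib.Techniques.map_conj_inv_conj (V P₀) a, ← hU₁, h, Subgroup.map_bot])
    have hbig : Nat.card P₁ ≤
        Nat.card ((S : Subgroup G) ⊓ Subgroup.normalizer (U₁ : Set G) : Subgroup G) := by
      rw [← CfsgLib.Techniques.card_map_conj P₁ a]
      exact Subgroup.card_le_of_le haN
    have hZ₁ := hK U₁ haS hU₁ne hafull (by simp only [hP₀] at *; omega)
    intro y hy
    obtain ⟨hy0, hyc⟩ := Subgroup.mem_inf.mp hy
    have hy1 : y ∈ P₁ := hgrow.le hy0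
    have h1 : a * y * a⁻¹ ∈ Z := by
      refine hZ₁ (Subgroup.mem_inf.mpr ⟨haN ⟨y, hy1, rfl⟩, ?_⟩)
      rw [hU₁, CfsgLib.Techniques.normalizer_map_conj', ← CfsgLib.Techniques.map_conj_commutator]
      exact ⟨y, Subgroup.commutator_mono inf_le_right inf_le_right hyc, rfl⟩
    have h2 := hQ P₁ a inf_le_left (haN.trans inf_le_left) hl y hy1
    have := Z.mul_mem (Z.inv_mem h2) h1
    simpa [mul_assoc] using this
  · intro U hUS hUne hfull hK x hx a ha
    have hxa : x * a * x⁻¹ ∈ U := (Subgroup.mem_normalizer_iff.mp hx a).mp ha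
    exact hK (Subgroup.mem_inf.mpr
      ⟨(le_inf hUS Subgroup.le_normalizer : U ≤ _) (mul_mem hxa (inv_mem ha)),
        Subgroup.commutator_mem_commutator hx (Subgroup.le_normalizer ha)⟩)

end Cfsg.Agent.S1960
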