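import Cfsg.Statements.S0439
-- import your own Cfsg.Agent.* helpers here

set_option autoImplicit false
open Cfsg

namespace Cfsg.Agent.S0439

/-- In the symmetric group of degree n ≥ 2, the set of transpositions is a conjugacy class of 3-transpositions which generates the group. -/
theorem result (n : ℕ) (hn : 2 ≤ n) : Cfsg.IsThreeTranspositionClass {σ : Equiv.Perm (Fin n) | σ.IsSwap} := by
  have hsq : ∀ s : Equiv.Perm (Fin n), s.IsSwap → orderOf s = 2 := by
    rintro s ⟨x, y, hxy, rfl⟩
    haveI : Fact (Nat.Prime 2) := ⟨Nat.prime_two⟩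
    exact orderOf_eq_prime (by rw [pow_two, Equiv.swap_mul_self]) (by
      rw [Ne, Equiv.swap_eq_one_iff]; exact hxy)
  refine ⟨⟨hsq, ?_⟩, ⟨Equiv.swap ⟨0, by omega⟩ ⟨1, by omega⟩, ⟨_, _, by simp, rfl⟩, ?_⟩, Equiv.Perm.closure_isSwap⟩
  · rintro s ⟨x, y, hxy, rfl⟩ t ⟨u, v, huv, rfl⟩
    have hcub : ∀ p q r : Fin n, p ≠ q → q ≠ r → p ≠ r →
        (Equiv.swap p q * Equiv.swap q r) ^ 3 = 1 := by
      intro p q r h1 h2 h3
      ext i
      simp only [pow_succ, pow_zero, one_mul, Equiv.Perm.mul_apply, Equiv.Perm.one_apply]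
      by_cases hp : i = p
      · subst hp; simp [Equiv.swap_apply_of_ne_of_ne, h1, h3, h1.symm, h2.symm, h3.symm, h2]
      by_cases hq : i = q
      · subst hq; simp [Equiv.swap_apply_of_ne_of_ne, h1, h3, h1.symm, h2.symm, h3.symm, h2]
      by_cases hr : i = r
      · subst hr; simp [Equiv.swap_apply_of_ne_of_ne, h1, h3, h1.symm, h2.symm, h3.symm, h2]
      · simp [Equiv.swap_apply_of_ne_of_ne, hp, hq, hr]
    by_cases hxu : x = u
    · subst hxu
      by_cases hyv : y = v
      · subst hyv; exact Or.inl (by rw [Equiv.swap_mul_self, one_pow])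
      · right; rw [Equiv.swap_comm x y]; exact hcub y x v hxy.symm huv hyv
    by_cases hxv : x = v
    · subst hxv
      by_cases hyu : y = u
      · subst hyu; exact Or.inl (by rw [Equiv.swap_comm x y, Equiv.swap_mul_self, one_pow])
      · right; rw [Equiv.swap_comm x y, Equiv.swap_comm u x]; exact hcub y x u hxy.symm hxu hyu
    by_cases hyu : y = u
    · subst hyu; right; exact hcub x y v hxy huv hxv
    by_cases hyv : y = v
    · subst hyv; right; rw [Equiv.swap_comm u y]; exact hcub x y u hxy huv.symm hxu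
    left
    have hd : Equiv.Perm.Disjoint (Equiv.swap x y) (Equiv.swap u v) := by
      intro i
      by_cases hx : i = x
      · right; subst hx; exact Equiv.swap_apply_of_ne_of_ne hxu hxv
      by_cases hy : i = y
      · right; subst hy; exact Equiv.swap_apply_of_ne_of_ne hyu hyv
      · left; exact Equiv.swap_apply_of_ne_of_ne hx hy
    rw [hd.commute.mul_pow, pow_two, pow_two, Equiv.swap_mul_self, Equiv.swap_mul_self, one_mul]
  · ext s
    show s.IsSwap ↔ IsConj _ s
    constructor
    · rintro ⟨x, y, hxy, rfl⟩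
      exact Equiv.Perm.isConj_swap (by simp) hxy
    · intro h
      obtain ⟨c, rfl⟩ := isConj_iff.1 h
      refine ⟨c ⟨0, by omega⟩, c ⟨1, by omega⟩, by simp, ?_⟩
      rw [← Equiv.swap_apply_apply]

end Cfsg.Agent.S0439
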