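import Cfsg.Statements.S5398
import Cfsg.Agent.Lib.Recog.FiM22.Factor.Classes

set_option autoImplicit false
open Cfsg

namespace Cfsg.Agent.S5398

/-- Let G be a finite group with trivial centre generated by a conjugation-invariant set D of 3-transpositions on which it acts primitively, such that for some d in D the subgroup generated by the members of D other than d commuting with d has central largest normal 2- and 3-subgroups, and suppose G with D is of type M(22). Then G has exactly 3 conjugacy classes of involutions: every involution is a product of m distinct pairwise commuting members of D for some m between 1 and 3; for each such m these products form one non-empty conjugacy class; and the value of m is determined by the involution. -/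
theorem result {G : Type*} [Group G] [Finite G] {D : Set G} (hD : Cfsg.IsThreeTranspositionGroup D) (hprim : Cfsg.IsPrimitiveUnderConj D) (d : G) (hd : d ∈ D) (h3 : Cfsg.pCore 3 ↥(Subgroup.closure {y : G | y ∈ D ∧ y ≠ d ∧ Commute d y}) ≤ Subgroup.center ↥(Subgroup.closure {y : G | y ∈ D ∧ y ≠ d ∧ Commute d y})) (h2 : Cfsg.pCore 2 ↥(Subgroup.closure {y : G | y ∈ D ∧ y ≠ d ∧ Commute d y}) ≤ Subgroup.center ↥(Subgroup.closure {y : G | y ∈ D ∧ y ≠ d ∧ Commute d y})) (ht : Cfsg.IsOfTypeM22 G D) : (∀ x : G, orderOf x = 2 → ∃ m : ℕ, 1 ≤ m ∧ m ≤ 3 ∧ (∃ l : List G, l.Nodup ∧ l.length = m ∧ (∀ a ∈ l, a ∈ D) ∧ (∀ a ∈ l, ∀ b ∈ l, Commute a b) ∧ l.prod = x)) ∧ (∀ m : ℕ, 1 ≤ m → m ≤ 3 → (∃ x : G, orderOf x = 2 ∧ (∃ l : List G, l.Nodup ∧ l.length = m ∧ (∀ a ∈ l, a ∈ D) ∧ (∀ a ∈ l, ∀ b ∈ l, Commute a b) ∧ l.prod = x)) ∧ ∀ x y : G, (∃ l : List G, l.Nodup ∧ l.length = m ∧ (∀ a ∈ l, a ∈ D) ∧ (∀ a ∈ l, ∀ b ∈ l, Commute a b) ∧ l.prod = x) → (∃ l : List G, l.Nodup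 ∧ l.length = m ∧ (∀ a ∈ l, a ∈ D) ∧ (∀ a ∈ l, ∀ b ∈ l, Commute a b) ∧ l.prod = y) → IsConj x y) ∧ ∀ (m m' : ℕ) (x : G), 1 ≤ m → m ≤ 3 → 1 ≤ m' → m' ≤ 3 → (∃ l : List G, l.Nodup ∧ l.length = m ∧ (∀ a ∈ l, a ∈ D) ∧ (∀ a ∈ l, ∀ b ∈ l, Commute a b) ∧ l.prod = x) → (∃ l : List G, l.Nodup ∧ l.length = m' ∧ (∀ a ∈ l, a ∈ D) ∧ (∀ a ∈ l, ∀ b ∈ l, Commute a b) ∧ l.prod = x) → m = m' := by
  have hS := hD.1
  have hd1 := CfsgLib.Recog.FiM22.Factor.diff_one (D := D) hS
  obtain ⟨a, b, ⟨P⟩⟩ := CfsgLib.Recog.FiM22.Factor.exists_pre ht (by rw [hd1]; exact hD)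
  rw [hd1] at P
  obtain ⟨a', ⟨B⟩⟩ := CfsgLib.Recog.FiM22.exists_base hD hprim ht
  have hB : Nonempty (CfsgLib.Recog.FiM22.Base D a) := ⟨{
    grp := hD
    prim := hprim
    centre := P.centre
    mem := P.mema
    proj := P.iso.toMonoidHom.comp (QuotientGroup.mk' _)
    surj := P.iso.surjective.comp (QuotientGroup.mk'_surjective _)
    kerLe := fun x hx => (QuotientGroup.eq_one_iff x).1 (P.iso.map_eq_one_iff.1 hx) }⟩
  obtain ⟨B₀⟩ := hB
  obtain ⟨lab, L⟩ := B₀.exists_labelled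
  obtain ⟨ht3, hta⟩ := CfsgLib.Recog.FiM22.Factor.third0_spec
  obtain ⟨hne03, hc03⟩ := CfsgLib.Recog.FiM22.adj_iff.1 hta
  have hl0 := L.mem 0 (by norm_num)
  have hl3 := L.mem _ ht3
  have h03 : lab 0 ≠ lab CfsgLib.Recog.FiM22.Factor.third0 := fun e => hne03 (L.inj 0 (by norm_num) _ ht3 e)
  have hstd : CfsgLib.Recog.FiM22.Factor.ComList D [a, lab 0, lab CfsgLib.Recog.FiM22.Factor.third0] := by
    refine ⟨by simp [hl0.2.1.symm, hl3.2.1.symm, h03], by simp [P.mema, hl0.1, hl3.1], ?_⟩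
    simp only [List.mem_cons, List.not_mem_nil, or_false]
    rintro p (rfl | rfl | rfl) q (rfl | rfl | rfl)
    exacts [Commute.refl _, hl0.2.2, hl3.2.2, hl0.2.2.symm, Commute.refl _, (L.commute_iff (by norm_num) ht3).2 hc03,
      hl3.2.2.symm, ((L.commute_iff (by norm_num) ht3).2 hc03).symm, Commute.refl _]
  have h3' := P.noRel (k := 3) le_rfl (by norm_num)
  have h4' := P.noRel (k := 4) (by norm_num) (by norm_num)
  have h5' := P.noRel (k := 5) (by norm_num) le_rfl
  -- a product of at most three is an involution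
  have hord : ∀ l : List G, CfsgLib.Recog.FiM22.Factor.ComList D l → 1 ≤ l.length → l.length ≤ 3 →
      orderOf l.prod = 2 := by
    intro l hl h1 h3l
    refine orderOf_eq_prime (by rw [pow_two]; exact hl.prod_sq hS) fun e => ?_
    match l, hl, h1, h3l, e with
    | [x], hl, _, _, e => exact CfsgLib.ThreeTrans.ne_one hS (hl.mem x (by simp)) (by simpa using e)
    | [x, y], hl, _, _, e => exact CfsgLib.Recog.FiM22.Factor.noRel_two hS _ hl rfl e
    | [x, y, z], hl, _, _, e => exact h3' _ hl rfl e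
    | _ :: _ :: _ :: _ :: _, _, _, h3l, _ => simp only [List.length_cons] at h3l; omega
  refine ⟨?_, ?_, ?_⟩
  · intro x hx
    obtain ⟨d', hd', hc⟩ := CfsgLib.Recog.FiM22.Factor.exists_fixed B₀ hx
    obtain ⟨g, hg⟩ := hprim.1 d' hd' a P.mema
    have hxg : orderOf (g * x * g⁻¹) = 2 := by
      rw [← hx]; exact orderOf_injective (MulAut.conj g).toMonoidHom (MulAut.conj g).injective x
    have hca : Commute (g * x * g⁻¹) a := by
      rw [← hg, CfsgLib.ThreeTrans.commute_conj_iff]; exact hc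
    obtain ⟨l, hl, h1, h3l, hp⟩ :=
      CfsgLib.Recog.FiM22.Factor.involution_short hD hprim d hd h3 h2 ht B₀ P hxg hca
    have hl' := hl.conj hD.2.1 g⁻¹
    refine ⟨l.length, h1, h3l, l.map (MulAut.conj g⁻¹), hl'.nodup, List.length_map _, hl'.mem, hl'.comm, ?_⟩
    rw [← map_list_prod, hp, MulAut.conj_apply]; group
  · intro m h1 h3m
    obtain ⟨l₀, hl₀, hlen₀⟩ : ∃ l₀, CfsgLib.Recog.FiM22.Factor.ComList D l₀ ∧ l₀.length = m := by
      refine ⟨[a, lab 0, lab CfsgLib.Recog.FiM22.Factor.third0].take m, hstd.sub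
        (hstd.nodup.sublist (List.take_sublist _ _)) fun x hx => List.mem_of_mem_take hx, ?_⟩
      simp; omega
    refine ⟨⟨l₀.prod, hord l₀ hl₀ (by omega) (by omega), l₀, hl₀.nodup, hlen₀, hl₀.mem, hl₀.comm, rfl⟩, ?_⟩
    rintro x y ⟨l, n, k, md, cm, rfl⟩ ⟨l', n', k', md', cm', rfl⟩
    -- extend to triples
    obtain ⟨g, hg⟩ : ∃ g : G, l.map (MulAut.conj g) = l' := by
      interval_cases m
      · match l, k, l', k' with
        | [p], _, [q], _ =>
          obtain ⟨g, hg⟩ := hprim.1 p (md p (by simp)) q (md' q (by simp))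
          exact ⟨g, by simp [hg]⟩
      · match l, k, l', k' with
        | [p, p'], _, [q, q'], _ =>
          obtain ⟨g, hg⟩ := hprim.1 p (md p (by simp)) q (md' q (by simp))
          simp only [List.nodup_cons, List.mem_singleton] at n n'
          obtain ⟨k, hk, hkp⟩ := B₀.setting.commute_transitive (md' q (by simp)) (hD.2.1 g p' (md p' (by simp)))
            (fun e => n.1 (mul_left_cancel (mul_right_cancel (hg.trans e.symm))))
            (by rw [← hg, CfsgLib.ThreeTrans.commute_conj_iff]; exact cm p (by simp) p' (by simp))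
            (md' q' (by simp)) (Ne.symm n'.1) (cm' q (by simp) q' (by simp))
          refine ⟨k * g, ?_⟩
          simp only [List.map_cons, List.map_nil, List.cons.injEq, and_true, MulAut.conj_apply]
          refine ⟨?_, ?_⟩
          · rw [show k * g * p * (k * g)⁻¹ = k * (g * p * g⁻¹) * k⁻¹ by group, hg, hk.eq, mul_inv_cancel_right]
          · rw [← hkp]; group
      · exact CfsgLib.Recog.FiM22.Factor.triple_conj B₀ ⟨⟨n, md, cm⟩, k⟩ ⟨⟨n', md', cm'⟩, k'⟩
    exact isConj_iff.2 ⟨g, by rw [← hg, ← map_list_prod, MulAut.conj_apply]⟩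
  · rintro m m' x h1 h3m h1' h3m' ⟨l, n, k, md, cm, hp⟩ ⟨l', n', k', md', cm', hp'⟩
    by_contra hne
    rcases Nat.lt_or_gt_of_ne hne with h | h
    · exact CfsgLib.Recog.FiM22.Factor.length_unique hS h3' h4' h5' ⟨n, md, cm⟩ ⟨n', md', cm'⟩
        (by omega) (by omega) (by omega) (hp.trans hp'.symm)
    · exact CfsgLib.Recog.FiM22.Factor.length_unique hS h3' h4' h5' ⟨n', md', cm'⟩ ⟨n, md, cm⟩
        (by omega) (by omega) (by omega) (hp'.trans hp.symm)

end Cfsg.Agent.S5398
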