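import Cfsg.Statements.S5400
import Cfsg.Agent.Lib.Recog.FiM24Inv.Classes
-- import your own Cfsg.Agent.* helpers here

set_option autoImplicit false
open Cfsg

namespace Cfsg.Agent.S5400

/-- Let G be a finite group with trivial centre generated by a conjugation-invariant set D of 3-transpositions on which it acts primitively, such that for some d in D the subgroup generated by the members of D other than d commuting with d has central largest normal 2- and 3-subgroups, and suppose G with D is of type M(24). Then G has exactly 4 conjugacy classes of involutions: every involution is a product of m distinct pairwise commuting members of D for some m between 1 and 4; for each such m these products form one non-empty conjugacy class; and the value of m is determined by the involution. -/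
theorem result {G : Type*} [Group G] [Finite G] {D : Set G} (hD : Cfsg.IsThreeTranspositionGroup D) (hprim : Cfsg.IsPrimitiveUnderConj D) (d : G) (hd : d ∈ D) (h3 : Cfsg.pCore 3 ↥(Subgroup.closure {y : G | y ∈ D ∧ y ≠ d ∧ Commute d y}) ≤ Subgroup.center ↥(Subgroup.closure {y : G | y ∈ D ∧ y ≠ d ∧ Commute d y})) (h2 : Cfsg.pCore 2 ↥(Subgroup.closure {y : G | y ∈ D ∧ y ≠ d ∧ Commute d y}) ≤ Subgroup.center ↥(Subgroup.closure {y : G | y ∈ D ∧ y ≠ d ∧ Commute d y})) (ht : Cfsg.IsOfTypeM24 G D) : (∀ x : G, orderOf x = 2 → ∃ m : ℕ, 1 ≤ m ∧ m ≤ 4 ∧ (∃ l : List G, l.Nodup ∧ l.length = m ∧ (∀ a ∈ l, a ∈ D) ∧ (∀ a ∈ l, ∀ b ∈ l, Commute a b) ∧ l.prod = x)) ∧ (∀ m : ℕ, 1 ≤ m → m ≤ 4 → (∃ x : G, orderOf x = 2 ∧ (∃ l : List G, l.Nodup ∧ l.length = m ∧ (∀ a ∈ l, a ∈ D) ∧ (∀ a ∈ l, ∀ b ∈ l, Commute a b) ∧ l.prod = x)) ∧ ∀ x y : G, (∃ l : List G, l.Nodup ∧ l.length = m ∧ (∀ a ∈ l, a ∈ D) ∧ (∀ a ∈ l, ∀ b ∈ l, Commute a b) ∧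 l.prod = x) → (∃ l : List G, l.Nodup ∧ l.length = m ∧ (∀ a ∈ l, a ∈ D) ∧ (∀ a ∈ l, ∀ b ∈ l, Commute a b) ∧ l.prod = y) → IsConj x y) ∧ ∀ (m m' : ℕ) (x : G), 1 ≤ m → m ≤ 4 → 1 ≤ m' → m' ≤ 4 → (∃ l : List G, l.Nodup ∧ l.length = m ∧ (∀ a ∈ l, a ∈ D) ∧ (∀ a ∈ l, ∀ b ∈ l, Commute a b) ∧ l.prod = x) → (∃ l : List G, l.Nodup ∧ l.length = m' ∧ (∀ a ∈ l, a ∈ D) ∧ (∀ a ∈ l, ∀ b ∈ l, Commute a b) ∧ l.prod = x) → m = m' := by
  obtain ⟨d', S⟩ := CfsgLib.Recog.FiM24.exists_sec23 hD hprim ht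
  have hS := CfsgLib.Recog.FiM24Inv.Sec.set3 S
  have hrel := fun k h3 h7 => CfsgLib.Recog.FiM24Inv.Sec.noRel S hprim ht (k := k) h3 h7
  refine ⟨?_, ?_, ?_⟩
  · intro x hx
    obtain ⟨l, hl, h1, h4, hp⟩ := CfsgLib.Recog.FiM24Inv.Sec.involution_factor S ht.1 hx
    exact ⟨l.length, h1, h4, l, hl.nodup, rfl, hl.mem, hl.comm, hp⟩
  · intro m h1 h4
    obtain ⟨l, hl, hlen⟩ := CfsgLib.Recog.FiM24Inv.Sec.exists_four S
    have hl' : CfsgLib.Recog.FiM22.Factor.ComList D (l.take m) :=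
      hl.sub (hl.nodup.sublist (List.take_sublist _ _)) fun x hx => List.mem_of_mem_take hx
    have hlen' : (l.take m).length = m := by simp [hlen]; omega
    refine ⟨⟨_, orderOf_eq_prime (by rw [pow_two]; exact hl'.prod_sq hS) (fun e => ?_), _, hl'.nodup, hlen',
      hl'.mem, hl'.comm, rfl⟩, ?_⟩
    · exact CfsgLib.Recog.FiM24Inv.length_four hS hrel ⟨List.nodup_nil, by simp, by simp⟩ hl'
        (by rw [hlen']; simp; omega) (by omega) (by rw [e, List.prod_nil])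
    rintro x y ⟨l, n, k, md, cm, rfl⟩ ⟨l', n', k', md', cm', rfl⟩
    obtain ⟨g, hg⟩ := CfsgLib.Recog.FiM24Inv.Sec.list_conj S ⟨n, md, cm⟩ ⟨n', md', cm'⟩
      (by omega) (by omega) (by omega)
    exact isConj_iff.2 ⟨g, by rw [← hg, ← map_list_prod, MulAut.conj_apply]⟩
  · rintro m m' x h1 h4 h1' h4' ⟨l, n, k, md, cm, hp⟩ ⟨l', n', k', md', cm', hp'⟩
    by_contra hne
    rcases Nat.lt_or_gt_of_ne hne with q | q
    · exact CfsgLib.Recog.FiM24Inv.length_four hS hrel ⟨n, md, cm⟩ ⟨n', md', cm'⟩ (by omega) (by omega)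
        (hp.trans hp'.symm)
    · exact CfsgLib.Recog.FiM24Inv.length_four hS hrel ⟨n', md', cm'⟩ ⟨n, md, cm⟩ (by omega) (by omega)
        (hp'.trans hp.symm)

end Cfsg.Agent.S5400
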