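import Cfsg.Statements.S5408
import Cfsg.Agent.Lib.ThreeTrans.LeechForm
import Cfsg.Agent.Lib.ThreeTrans.LeechSub
import Cfsg.Agent.Lib.PGroups.Extraspecial

set_option autoImplicit false
open Cfsg

namespace Cfsg.Agent.S5408

open scoped commutatorElement
open CfsgLib.PGroups CfsgLib.ThreeTrans.Leech

section sq

variable {P : Type*} [Group P]

open scoped Classical in
/-- Zero at the identity, one elsewhere. -/
noncomputable def bit (x : P) : ZMod 2 := if x = 1 then 0 else 1

theorem bit_mul (hZ : Nat.card (Subgroup.center P) = 2) {a b : P} (ha : a ∈ Subgroup.center P)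
    (hb : b ∈ Subgroup.center P) : bit (a * b) = bit a + bit b := by
  by_cases h1 : a = 1
  · rw [h1, one_mul]; simp [bit]
  by_cases h2 : b = 1
  · rw [h2, mul_one]; simp [bit]
  obtain ⟨y, -, hy⟩ := (Nat.card_eq_two_iff' (1 : Subgroup.center P)).1 hZ
  have e1 := hy ⟨a, ha⟩ fun h => h1 (congrArg Subtype.val h)
  have e2 := hy ⟨b, hb⟩ fun h => h2 (congrArg Subtype.val h)
  have hab : a = b := congrArg Subtype.val (e1.trans e2.symm)
  subst hab
  have h3 : a * a = 1 := by
    by_contra h3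
    have e3 := hy ⟨a * a, mul_mem ha ha⟩ fun h => h3 (congrArg Subtype.val h)
    exact h1 (mul_eq_left.1 (congrArg Subtype.val (e3.trans e1.symm)))
  simp [bit, h1, h3, CharTwo.add_self_eq_zero]

variable [Finite P]

theorem bit_sq_mul (hE : Cfsg.IsExtraspecial 2 P) (u v : P) :
    bit ((u * v) ^ 2) = bit (u ^ 2) + bit (v ^ 2) + bit ⁅u, v⁆ := by
  have hu := IsExtraspecial.pow_mem_center hE u
  have hv := IsExtraspecial.pow_mem_center hE v
  have hc := IsExtraspecial.comm_mem hE v u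
  have hc2 : ⁅v, u⁆ = ⁅u, v⁆ := by
    have := IsExtraspecial.comm_pow hE u v
    rw [← commutatorElement_inv, inv_eq_of_mul_eq_one_right (by rwa [← sq])]
  have e : (u * v) ^ 2 = ⁅v, u⁆ * (u ^ 2 * v ^ 2) := by
    have h := Subgroup.mem_center_iff.1 hc u
    calc (u * v) ^ 2 = u * ⁅v, u⁆ * u * v * v := by simp only [commutatorElement_def, sq]; group
      _ = ⁅v, u⁆ * u * u * v * v := by rw [h]
      _ = ⁅v, u⁆ * (u ^ 2 * v ^ 2) := by simp only [sq, mul_assoc]
  have hZ := IsExtraspecial.card_center hE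
  rw [e, bit_mul hZ hc (mul_mem hu hv), bit_mul hZ hu hv, hc2]
  ring

theorem bit_comm_mul (hE : Cfsg.IsExtraspecial 2 P) (u v w : P) :
    bit ⁅u * v, w⁆ = bit ⁅u, w⁆ + bit ⁅v, w⁆ := by
  rw [comm_mul_left_of_central (IsExtraspecial.comm_mem hE v w),
    bit_mul (IsExtraspecial.card_center hE) (IsExtraspecial.comm_mem hE u w)
      (IsExtraspecial.comm_mem hE v w)]

theorem bit_sq_cubic (hE : Cfsg.IsExtraspecial 2 P) (u v w : P) :
    bit ((u * v * w) ^ 2) + bit (u ^ 2) + bit (v ^ 2) + bit (w ^ 2) =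
      bit ((u * v) ^ 2) + bit ((u * w) ^ 2) + bit ((v * w) ^ 2) := by
  rw [bit_sq_mul hE (u * v) w, bit_comm_mul hE, bit_sq_mul hE u v, bit_sq_mul hE u w,
    bit_sq_mul hE v w]
  ring_nf
  try simp [CharTwo.two_eq_zero]

theorem comm_sq {A : Type*} [Group A] (h : ∀ x : A, x ^ 2 = 1) (a b : A) : a * b = b * a := by
  have hi : ∀ x : A, x⁻¹ = x := fun x => inv_eq_of_mul_eq_one_right (by rw [← sq]; exact h x)
  calc a * b = (a * b)⁻¹ := (hi _).symm
    _ = b * a := by rw [mul_inv_rev, hi, hi]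

/-- The square, read on the quotient by the centre. -/
noncomputable def sqBit (a : P ⧸ Subgroup.center P) : ZMod 2 := bit (a.out ^ 2)

theorem sqBit_mk (hE : Cfsg.IsExtraspecial 2 P) (x : P) :
    sqBit (QuotientGroup.mk x : P ⧸ Subgroup.center P) = bit (x ^ 2) := by
  obtain ⟨⟨c, hc⟩, e⟩ := QuotientGroup.mk_out_eq_mul (Subgroup.center P) x
  rw [sqBit, e]
  show bit ((x * c) ^ 2) = _
  rw [bit_sq_mul hE x c, IsExtraspecial.center_pow hE hc,
    commutatorElement_eq_one_iff_mul_comm.2 (Subgroup.mem_center_iff.1 hc x)]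
  simp [bit]

theorem sq_eq_one_of_sqBit (hE : Cfsg.IsExtraspecial 2 P) {x : P}
    (h : sqBit (QuotientGroup.mk x : P ⧸ Subgroup.center P) = 0) : x ^ 2 = 1 := by
  rw [sqBit_mk hE, bit] at h
  by_contra hx
  simp [hx] at h

end sq

/-- Let G be a finite group of Monster type at the involution z with Q the extraspecial normal subgroup of order 2^25 of C = C_G(z) (so C/Q is identified with the first Conway group with Q modulo its centre the Leech lattice modulo 2, and z is not weakly closed in Q). Then Q is of plus type: it contains an elementary abelian subgroup of order 2^13. -/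
theorem result {G : Type*} [Group G] [Finite G] (z : G) (Q : Subgroup (Subgroup.centralizer ({z} : Set G))) [Q.Normal] (hM : Cfsg.IsOfMonsterType z Q) : ∃ E : Subgroup Q, Cfsg.IsElementaryAbelian 2 E ∧ Nat.card E = 2 ^ 13 := by
  classical
  obtain ⟨⟨-, -, hE, hcard, -⟩, e, ψ, hψm, hψs, hψk, hψe⟩ := hM
  haveI : Fact (Nat.Prime 2) := ⟨Nat.prime_two⟩
  let R : leechLattice → ZMod 2 := fun v => sqBit (ψ v)
  have hR : ∀ v, ∃ q : Q, ψ v = QuotientGroup.mk q ∧ R v = bit (q ^ 2) := by
    intro v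
    obtain ⟨q, hq⟩ := QuotientGroup.mk_surjective (ψ v)
    exact ⟨q, hq.symm, by simp only [R, ← hq, sqBit_mk hE]⟩
  have hcoset : ∀ v w : leechLattice, R (v + (w + w)) = R v := fun v w => by
    simp only [R, hψm v (w + w), (hψk (w + w)).2 ⟨w, rfl⟩, mul_one]
  have hquad : ∀ u v w : leechLattice,
      R (u + v + w) + R u + R v + R w = R (u + v) + R (u + w) + R (v + w) := by
    intro u v w
    obtain ⟨a, ha, -⟩ := hR u
    obtain ⟨b, hb, -⟩ := hR v
    obtain ⟨c, hc, -⟩ := hR w
    simp only [R, hψm, ha, hb, hc, ← QuotientGroup.mk_mul, sqBit_mk hE]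
    exact bit_sq_cubic hE a b c
  have hinv : ∀ (g : Co0) (v : leechLattice), R (g • v) = R v := by
    intro g v
    obtain ⟨h, hh⟩ := QuotientGroup.mk_surjective (e.symm (QuotientGroup.mk g))
    obtain ⟨q, hq, hq2⟩ := hR v
    rw [hq2]
    show sqBit (ψ (g • v)) = _
    rw [hψe h g (by rw [hh, MulEquiv.apply_symm_apply]) v q hq, sqBit_mk hE, bit, bit]
    congr 1
    rw [eq_iff_iff]
    rw [Subtype.ext_iff, Subtype.ext_iff (a1 := q ^ 2)]
    simp [conj_pow]
  have hne : ∃ v, R v ≠ 0 := by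
    by_contra hc
    push Not at hc
    have h1 : ∀ x : Q, x ^ 2 = 1 := fun x => by
      obtain ⟨v, hv⟩ := hψs (QuotientGroup.mk x)
      exact sq_eq_one_of_sqBit hE (hv ▸ hc v)
    exact IsExtraspecial.not_comm hE ⟨⟨fun a b => comm_sq h1 a b⟩⟩
  have hsub : ∀ v : leechLattice, (v : GolayPt → ℤ) ∈ sub → R v = 0 := by
    intro v hv
    rw [form_unique R hcoset hquad hinv hne v, ZMod.intCast_zmod_eq_zero_iff_dvd _ 2]
    have := sub_norm hv
    omega
  let φ : Multiplicative leechLattice →* Q ⧸ Subgroup.center Q :=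
    MonoidHom.mk' (fun v => ψ v.toAdd) fun a b => hψm _ _
  let T : Subgroup (Multiplicative leechLattice) :=
    AddSubgroup.toSubgroup (sub.addSubgroupOf leechLattice)
  have hker : φ.ker ≤ T := by
    intro v hv
    obtain ⟨w, hw⟩ := (hψk v.toAdd).1 hv
    show (v.toAdd : GolayPt → ℤ) ∈ sub
    rw [hw, AddSubgroup.coe_add, ← two_smul ℤ]
    exact two_mem_sub w.2
  refine ⟨(T.map φ).comap (QuotientGroup.mk' (Subgroup.center Q)), ?_, ?_⟩
  · have h1 : ∀ x ∈ (T.map φ).comap (QuotientGroup.mk' (Subgroup.center Q)), x ^ 2 = 1 := by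
      rintro x ⟨v, hv, hx⟩
      refine sq_eq_one_of_sqBit hE ?_
      have hx' : ψ v.toAdd = QuotientGroup.mk x := hx
      rw [← hx']
      exact hsub _ hv
    exact ⟨⟨⟨fun a b => comm_sq (fun y => Subtype.ext (h1 y.1 y.2)) a b⟩⟩, h1⟩
  · have hi : ((T.map φ).comap (QuotientGroup.mk' (Subgroup.center Q))).index = 2 ^ 12 := by
      rw [Subgroup.index_comap_of_surjective _ (QuotientGroup.mk'_surjective _),
        Subgroup.index_map_eq _ (fun a => (hψs a).imp' Multiplicative.ofAdd fun _ h => h) hker,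
        AddSubgroup.index_toSubgroup, sub_index]
    have := Subgroup.card_mul_index ((T.map φ).comap (QuotientGroup.mk' (Subgroup.center Q)))
    rw [hi, hcard] at this
    have h25 : (2 : ℕ) ^ (2 * 12 + 1) = 2 ^ 13 * 2 ^ 12 := by norm_num
    exact Nat.eq_of_mul_eq_mul_right (by norm_num) (this.trans h25)

end Cfsg.Agent.S5408
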