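import Cfsg.Statements.S3745
import Mathlib
import Cfsg.Agent.Lib.Core.Hall

set_option autoImplicit false
open Cfsg

namespace Cfsg.Agent.S3745

open Subgroup CfsgLib.Core
open scoped Pointwise
set_option linter.style.haveILetI false

universe u

variable {X : Type u} [Group X] [Finite X]

theorem of_coe {π : Set ℕ} {H G : Subgroup X} (hle : H ≤ G) (h : Cfsg.IsPiHall π (H.subgroupOf G)) :
    Cfsg.IsPiHallOf π H G :=
  ⟨hle, fun p hp hd => h.1 p hp (by rwa [Nat.card_congr (subgroupOfEquivOfLe hle).toEquiv]), h.2⟩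

theorem to_coe {π : Set ℕ} {H G : Subgroup X} (h : Cfsg.IsPiHallOf π H G) :
    Cfsg.IsPiHall π (H.subgroupOf G) :=
  ⟨fun p hp hd => h.2.1 p hp (by rwa [← Nat.card_congr (subgroupOfEquivOfLe h.1).toEquiv]), h.2.2⟩

theorem subgroupOf_conj (G H : Subgroup X) (k : G) :
    (MulAut.conj (k : X) • H).subgroupOf G = MulAut.conj k • H.subgroupOf G := by
  ext x
  rw [mem_subgroupOf, mem_conj_smul_iff, mem_conj_smul_iff, mem_subgroupOf]
  simp

theorem hall_conj {π : Set ℕ} {G H : Subgroup X} (h : Cfsg.IsPiHallOf π H G) {k : X} (hk : k ∈ G) :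
    Cfsg.IsPiHallOf π (MulAut.conj k • H : Subgroup X) G := by
  refine of_coe (fun x hx => ?_) ?_
  · rw [mem_conj_smul_iff] at hx
    simpa [mul_assoc] using G.mul_mem (G.mul_mem hk (h.1 hx)) (G.inv_mem hk)
  · rw [show (MulAut.conj k • H : Subgroup X).subgroupOf G =
      MulAut.conj (⟨k, hk⟩ : G) • H.subgroupOf G from subgroupOf_conj G H ⟨k, hk⟩]
    exact isPiHall_conj_smul (to_coe h) _

theorem exists_conj_hall {π : Set ℕ} {G H₁ H₂ : Subgroup X} [Group.IsSolvable G]
    (h1 : Cfsg.IsPiHallOf π H₁ G) (h2 : Cfsg.IsPiHallOf π H₂ G) :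
    ∃ k ∈ G, MulAut.conj k • H₁ = H₂ := by
  obtain ⟨k, hk⟩ := piHall_conj (to_coe h1) (to_coe h2)
  rw [← subgroupOf_conj] at hk
  refine ⟨k, k.2, ?_⟩
  have := congrArg (Subgroup.map G.subtype) hk
  rwa [map_subgroupOf_eq_of_le (hall_conj h1 k.2).1, map_subgroupOf_eq_of_le h2.1] at this

theorem exists_hallOf (π : Set ℕ) (G : Subgroup X) [Group.IsSolvable G] :
    ∃ H : Subgroup X, Cfsg.IsPiHallOf π H G := by
  obtain ⟨H, hH⟩ := exists_piHall (G := G) π
  refine ⟨H.map G.subtype, of_coe (map_subtype_le H) ?_⟩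
  rwa [subgroupOf, comap_map_eq_self_of_injective G.subtype_injective]

theorem conj_invariant {π : Set ℕ} {A G H : Subgroup X} (hAG : A ≤ normalizer (G : Set X))
    (h : Cfsg.IsPiHallOf π H G) {a : X} (ha : a ∈ A) :
    Cfsg.IsPiHallOf π (MulAut.conj a • H : Subgroup X) G := by
  have hG : MulAut.conj a • G = G := mem_normalizer_iff_conj_smul_eq.mp (hAG ha)
  refine ⟨(conj_smul_mono h.1).trans hG.le, ?_, ?_⟩
  · rw [card_conj_smul]; exact h.2.1
  · intro p hp hπ
    rw [← hG, conj_smul_eq_map, conj_smul_eq_map, ← Subgroup.relIndex_comap,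
      comap_map_eq_self_of_injective (MulAut.conj a).injective]
    exact h.2.2 p hp hπ

theorem exists_invariant_hall {π : Set ℕ} {A G : Subgroup X} (hAG : A ≤ normalizer (G : Set X))
    (hcop : (Nat.card A).Coprime (Nat.card G)) (hsolv : Group.IsSolvable G) :
    ∃ H : Subgroup X, Cfsg.IsPiHallOf π H G ∧ A ≤ normalizer (H : Set X) := by
  obtain ⟨H, hH⟩ := exists_hallOf π G
  obtain ⟨k, hk, hkA⟩ := exists_invariant_conj hAG hcop (Or.inr hsolv) (P := H) (fun a ha => by
    obtain ⟨k, hk, e⟩ := exists_conj_hall hH (conj_invariant hAG hH ha)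
    exact ⟨k, hk, e.symm⟩)
  exact ⟨_, hall_conj hH hk, hkA⟩

theorem aux (π : Set ℕ) (n : ℕ) : ∀ (X : Type u) [Group X] [Finite X] (A G U : Subgroup X),
    Nat.card G = n → A ≤ normalizer (G : Set X) → (Nat.card A).Coprime (Nat.card G) →
    Group.IsSolvable G → U ≤ G → A ≤ normalizer (U : Set X) →
    (∀ p : ℕ, p.Prime → p ∣ Nat.card U → p ∈ π) →
    ∃ H : Subgroup X, Cfsg.IsPiHallOf π H G ∧ A ≤ normalizer (H : Set X) ∧ U ≤ H := by
  induction n using Nat.strongRecOn with
  | ind n ih =>
    intro X _ _ A G U hn hAG hcop hsolv hUG hUA hUπ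
    subst hn
    by_cases hG1 : G = ⊥
    · subst hG1
      obtain ⟨H, hH, hHA⟩ := exists_invariant_hall (π := π) hAG hcop hsolv
      exact ⟨H, hH, hHA, hUG.trans bot_le⟩
    haveI : Nontrivial G := G.nontrivial_iff_ne_bot.mpr hG1
    -- a nontrivial characteristic `r`-subgroup of `G`
    obtain ⟨r, hr, hrb⟩ := exists_pCore_ne_bot (G := G)
    haveI := Fact.mk hr
    set M : Subgroup X := (Cfsg.pCore r G).map G.subtype with hM
    have hMG : M ≤ G := map_subtype_le _
    have hMp : IsPGroup r M := (isPGroup_pCore r G).map G.subtype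
    have hMb : M ≠ ⊥ := fun h => hrb ((map_eq_bot_iff_of_injective _ G.subtype_injective).mp h)
    have hGM : normalizer (G : Set X) ≤ normalizer (M : Set X) := by
      intro g hg
      rw [mem_normalizer_iff_conj_smul_eq, hM, conj_smul_eq_map, map_map]
      have hG : MulAut.conj g • G = G := mem_normalizer_iff_conj_smul_eq.mp hg
      let σ : G ≃* G := ((MulAut.conj g).subgroupMap G).trans
        (MulEquiv.subgroupCongr ((conj_smul_eq_map g G).symm.trans hG))
      conv_rhs => rw [← characteristic_iff_map_eq.mp (characteristic_pCore r G) σ, map_map]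
      rfl
    set Y := normalizer (M : Set X) with hY
    have hGY : G ≤ Y := le_normalizer.trans hGM
    have hAY : A ≤ Y := hAG.trans hGM
    haveI : (M.subgroupOf Y).Normal := normal_subgroupOf_of_le_normalizer le_rfl
    let φ := QuotientGroup.mk' (M.subgroupOf Y)
    have hcard : Nat.card ((G.subgroupOf Y).map φ) * Nat.card M = Nat.card G := by
      have h1 := card_mul_card_map_mk' (M.subgroupOf Y) (G.subgroupOf Y) (comap_mono hMG)
      rw [Nat.card_congr (subgroupOfEquivOfLe (le_normalizer : M ≤ Y)).toEquiv,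
        Nat.card_congr (subgroupOfEquivOfLe hGY).toEquiv] at h1
      rw [mul_comm]
      exact h1
    have hlt : Nat.card ((G.subgroupOf Y).map φ) < Nat.card G := by
      rw [← hcard]
      exact lt_mul_of_one_lt_right Nat.card_pos ((M.one_lt_card_iff_ne_bot).mpr hMb)
    have hdvd : ∀ {S : Subgroup X}, S ≤ Y → Nat.card ((S.subgroupOf Y).map φ) ∣ Nat.card S :=
      fun {S} hS => Nat.card_congr (subgroupOfEquivOfLe hS).toEquiv ▸ card_map_dvd _ φ
    have hnorm : ∀ {S : Subgroup X}, S ≤ Y → A ≤ normalizer (S : Set X) →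
        (A.subgroupOf Y).map φ ≤ normalizer (((S.subgroupOf Y).map φ : Subgroup _) : Set _) := by
      intro S hSY hS
      refine (map_mono ?_).trans (le_normalizer_map φ)
      rw [← subgroupOf_normalizer_eq hSY]
      exact comap_mono hS
    obtain ⟨Hq, hHq, hHqA, hUq⟩ := ih _ hlt (↥Y ⧸ M.subgroupOf Y) ((A.subgroupOf Y).map φ)
      ((G.subgroupOf Y).map φ) ((U.subgroupOf Y).map φ) rfl (hnorm hGY hAG)
      ((hcop.coprime_dvd_left (hdvd hAY)).coprime_dvd_right (hdvd hGY))
      (by
        haveI : Group.IsSolvable (G.subgroupOf Y) :=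
          Group.isSolvable_of_surjective (f := (subgroupOfEquivOfLe hGY).symm.toMonoidHom)
            (subgroupOfEquivOfLe hGY).symm.surjective
        exact Group.isSolvable_of_surjective (f := φ.subgroupMap (G.subgroupOf Y))
          (φ.subgroupMap_surjective _))
      (map_mono (comap_mono hUG)) (hnorm (hUG.trans hGY) hUA)
      (fun p hp hd => hUπ p hp (hd.trans (hdvd (hUG.trans hGY))))
    set L : Subgroup X := (Hq.comap φ).map Y.subtype with hL
    have hLG : L ≤ G := by
      rintro _ ⟨y, hy, rfl⟩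
      obtain ⟨z, hz, hze⟩ := hHq.1 hy
      have h1 : ((y : X))⁻¹ * z ∈ M := by
        have := (QuotientGroup.eq (s := M.subgroupOf Y)).mp hze.symm
        exact this
      have := G.mul_mem (show (z : X) ∈ G from hz) (G.inv_mem (hMG h1))
      simpa [mul_assoc] using this
    have hUL : U ≤ L := fun x hx => ⟨⟨x, hGY (hUG hx)⟩, hUq ⟨_, hx, rfl⟩, rfl⟩
    have hML : M ≤ L := fun x hx => ⟨⟨x, hGY (hMG hx)⟩, by
      change φ _ ∈ Hq
      rw [show φ ⟨x, hGY (hMG hx)⟩ = 1 from (QuotientGroup.eq_one_iff _).mpr hx]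
      exact one_mem _, rfl⟩
    have hLA : A ≤ normalizer (L : Set X) := by
      intro a ha
      have h1 := hHqA ⟨⟨a, hAY ha⟩, ha, rfl⟩
      rw [mem_normalizer_iff_conj_smul_eq] at h1 ⊢
      refine Subgroup.eq_of_le_of_card_ge ?_ (card_conj_smul a L).ge
      intro x hx
      rw [mem_conj_smul_iff] at hx
      obtain ⟨y, hy, hye⟩ := hx
      refine ⟨⟨a, hAY ha⟩ * y * ⟨a, hAY ha⟩⁻¹, ?_, ?_⟩
      · change φ _ ∈ Hq
        rw [← h1, mem_conj_smul_iff, map_mul, map_mul, map_inv]
        simpa [mul_assoc] using hy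
      · simp only [map_mul, map_inv, hye]
        simp [mul_assoc]
    have hLidx : ∀ p : ℕ, p.Prime → p ∈ π → ¬ p ∣ L.relIndex G := by
      intro p hp hπ
      have e : L.relIndex G = Hq.relIndex ((G.subgroupOf Y).map φ) := by
        have h1 : L.subgroupOf Y = Hq.comap φ := by
          rw [hL, subgroupOf, comap_map_eq_self_of_injective Y.subtype_injective]
        rw [← relIndex_subgroupOf hGY, h1, Subgroup.relIndex_comap]
      rw [e]
      exact hHq.2.2 p hp hπ
    by_cases hrπ : r ∈ π
    · refine ⟨L, ⟨hLG, fun p hp hd => ?_, hLidx⟩, hLA, hUL⟩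
      have hLc : Nat.card L = Nat.card M * Nat.card Hq := by
        rw [hL, ← Nat.card_congr ((Hq.comap φ).equivMapOfInjective _ Y.subtype_injective).toEquiv,
          card_comap_mk', Nat.card_congr (subgroupOfEquivOfLe (le_normalizer : M ≤ Y)).toEquiv]
      rw [hLc] at hd
      rcases (Nat.Prime.dvd_mul hp).mp hd with h | h
      · obtain ⟨j, hj⟩ := IsPGroup.iff_card.mp hMp
        rw [hj] at h
        exact (Nat.prime_dvd_prime_iff_eq hp hr).mp (hp.dvd_of_dvd_pow h) ▸ hrπ
      · exact hHq.2.1 p hp h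
    · -- `M` is a `π'`-group
      have hcopL : (Nat.card A).Coprime (Nat.card L) := hcop.coprime_dvd_right (card_dvd_of_le hLG)
      have hsolL : Group.IsSolvable L := isSolvable_of_le hsolv hLG
      obtain ⟨H₀, hH₀, hH₀A⟩ := exists_invariant_hall (π := π) hLA hcopL hsolL
      have hUM : U ≤ normalizer (M : Set X) := hUG.trans hGY
      set T := U ⊔ M with hT
      have hTA : A ≤ normalizer (T : Set X) := by
        intro a ha
        rw [mem_normalizer_iff_conj_smul_eq, hT, Subgroup.smul_sup,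
          mem_normalizer_iff_conj_smul_eq.mp (hUA ha), mem_normalizer_iff_conj_smul_eq.mp (hAY ha)]
      have hTL : T ≤ L := sup_le hUL hML
      haveI : Group.IsSolvable T := isSolvable_of_le hsolL hTL
      have hcopUM : (Nat.card U).Coprime (Nat.card M) := by
        refine coprime_of_pi hUπ fun p hp hd => ?_
        obtain ⟨j, hj⟩ := IsPGroup.iff_card.mp hMp
        rw [hj] at hd
        rw [(Nat.prime_dvd_prime_iff_eq hp hr).mp (hp.dvd_of_dvd_pow hd)]
        exact hrπ
      have hTc : Nat.card T = Nat.card U * Nat.card M := card_sup_of_coprime U M hUM hcopUM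
      have hUT : Cfsg.IsPiHallOf π U T := by
        refine ⟨le_sup_left, hUπ, fun p hp hπ hd => ?_⟩
        have hrel : U.relIndex T = Nat.card M := by
          refine Nat.eq_of_mul_eq_mul_left (Nat.card_pos (α := U)) ?_
          rw [← hTc, ← Nat.card_congr (subgroupOfEquivOfLe (le_sup_left : U ≤ T)).toEquiv]
          exact (U.subgroupOf T).card_mul_index
        obtain ⟨j, hj⟩ := IsPGroup.iff_card.mp hMp
        rw [hrel, hj] at hd
        exact hrπ ((Nat.prime_dvd_prime_iff_eq hp hr).mp (hp.dvd_of_dvd_pow hd) ▸ hπ)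
      -- `H₀ ⊓ T` is a second invariant Hall subgroup of `T`
      have hH₀M : ∀ x ∈ L, ∃ y ∈ H₀, ∃ m ∈ M, x = y * m := by
        have hMx : H₀ ≤ normalizer (M : Set X) := (hH₀.1.trans hLG).trans hGY
        intro x hx
        refine (mem_sup_iff_mul hMx).mp ?_
        have hsup : H₀ ⊔ M = L := by
          refine Subgroup.eq_of_le_of_card_ge (sup_le hH₀.1 hML) (Nat.le_of_dvd Nat.card_pos ?_)
          have hc : (Nat.card H₀).Coprime (Nat.card M) := by
            refine coprime_of_pi hH₀.2.1 fun p hp hd => ?_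
            obtain ⟨j, hj⟩ := IsPGroup.iff_card.mp hMp
            rw [hj] at hd
            rw [(Nat.prime_dvd_prime_iff_eq hp hr).mp (hp.dvd_of_dvd_pow hd)]
            exact hrπ
          have hLc : Nat.card L = Nat.card M * Nat.card Hq := by
            rw [hL, ← Nat.card_congr ((Hq.comap φ).equivMapOfInjective _ Y.subtype_injective).toEquiv,
              card_comap_mk', Nat.card_congr (subgroupOfEquivOfLe (le_normalizer : M ≤ Y)).toEquiv]
          rw [card_sup_of_coprime H₀ M hMx hc, hLc, mul_comm]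
          refine Nat.mul_dvd_mul ?_ dvd_rfl
          have h1 := card_mul_index (H₀.subgroupOf L)
          rw [Nat.card_congr (subgroupOfEquivOfLe hH₀.1).toEquiv] at h1
          refine (coprime_of_pi hHq.2.1 fun p hp hd hπ => hH₀.2.2 p hp hπ hd :
            (Nat.card Hq).Coprime (H₀.relIndex L)).dvd_of_dvd_mul_right ?_
          rw [Subgroup.relIndex, h1, hLc]
          exact dvd_mul_left _ _
        exact hsup ▸ hx
      set U₂ := H₀ ⊓ T with hU₂
      have hU₂T : Cfsg.IsPiHallOf π U₂ T := by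
        refine ⟨inf_le_right, fun p hp hd => hH₀.2.1 p hp (hd.trans (card_dvd_of_le inf_le_left)),
          fun p hp hπ hd => ?_⟩
        have hsup : U₂ ⊔ M = T := by
          refine le_antisymm (sup_le inf_le_right le_sup_right) fun x hx => ?_
          obtain ⟨y, hy, m, hm, rfl⟩ := hH₀M x (hTL hx)
          refine mul_mem (mem_sup_left ⟨hy, ?_⟩) (mem_sup_right hm)
          simpa using T.mul_mem hx (T.inv_mem (mem_sup_right hm))
        have hMx : U₂ ≤ normalizer (M : Set X) := (inf_le_right.trans (hTL.trans hLG)).trans hGY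
        have h3 : U₂.relIndex T ∣ Nat.card M := by
          have h1 := card_sup_dvd U₂ M hMx
          rw [hsup, ← card_mul_index (U₂.subgroupOf T),
            Nat.card_congr (subgroupOfEquivOfLe (inf_le_right : U₂ ≤ T)).toEquiv] at h1
          exact (Nat.mul_dvd_mul_iff_left Nat.card_pos).mp h1
        obtain ⟨j, hj⟩ := IsPGroup.iff_card.mp hMp
        exact hrπ ((Nat.prime_dvd_prime_iff_eq hp hr).mp (hp.dvd_of_dvd_pow (hj ▸ hd.trans h3)) ▸ hπ)
      have hU₂A : A ≤ normalizer (U₂ : Set X) :=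
        (le_inf hH₀A hTA).trans inf_normalizer_le_normalizer_inf
      obtain ⟨c, hc, hce⟩ := exists_centralizing_conj hTA
        (hcopL.coprime_dvd_right (card_dvd_of_le hTL)) (Or.inr inferInstance) hU₂A hUA
        (exists_conj_hall hU₂T hUT)
      have hh := hall_conj hH₀ (hTL hc.1)
      refine ⟨MulAut.conj c • H₀, ⟨hh.1.trans hLG, hh.2.1, fun p hp hπ hd => ?_⟩, fun a ha => ?_, ?_⟩
      · rw [← relIndex_mul_relIndex _ _ _ hh.1 hLG] at hd
        exact ((Nat.Prime.dvd_mul hp).mp hd).elim (hh.2.2 p hp hπ) (hLidx p hp hπ)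
      · rw [mem_normalizer_iff_conj_smul_eq, conj_smul_conj_smul,
          (mem_centralizer_iff.mp hc.2 a ha), ← conj_smul_conj_smul,
          mem_normalizer_iff_conj_smul_eq.mp (hH₀A ha)]
      · rw [← hce]
        exact conj_smul_mono inf_le_left

/-- Coprime action on a solvable group and Hall subgroups. Let A and G be subgroups of a finite group with A normalizing G, the orders of A and G coprime, and G solvable, and let π be a set of primes. Then (a) G has an A-invariant Hall π-subgroup; (b) any two A-invariant Hall π-subgroups of G are conjugate by an element of C_G(A); (c) every A-invariant π-subgroup of G lies in an A-invariant Hall π-subgroup of G. -/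
theorem result {X : Type*} [Group X] [Finite X] (A G : Subgroup X) (hAG : A ≤ Subgroup.normalizer (G : Set X)) (hcop : (Nat.card A).Coprime (Nat.card G)) (hsolv : Group.IsSolvable G) (π : Set ℕ) : (∃ H : Subgroup X, Cfsg.IsPiHallOf π H G ∧ A ≤ Subgroup.normalizer (H : Set X)) ∧ (∀ H₁ H₂ : Subgroup X, Cfsg.IsPiHallOf π H₁ G → A ≤ Subgroup.normalizer (H₁ : Set X) → Cfsg.IsPiHallOf π H₂ G → A ≤ Subgroup.normalizer (H₂ : Set X) → ∃ c ∈ G ⊓ Subgroup.centralizer (A : Set X), H₂ = H₁.map (MulAut.conj c).toMonoidHom) ∧ (∀ U : Subgroup X, U ≤ G → A ≤ Subgroup.normalizer (U : Set X) → (∀ p : ℕ, p.Prime → p ∣ Nat.card U → p ∈ π) → ∃ H : Subgroup X, Cfsg.IsPiHallOf π H G ∧ A ≤ Subgroup.normalizer (H : Set X) ∧ U ≤ H) := by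
  refine ⟨exists_invariant_hall hAG hcop hsolv, fun H₁ H₂ h1 a1 h2 a2 => ?_, fun U hU hUA hπ => ?_⟩
  · obtain ⟨c, hc, hce⟩ := exists_centralizing_conj hAG hcop (Or.inr hsolv) a1 a2 (exists_conj_hall h1 h2)
    exact ⟨c, hc, hce.symm.trans (conj_smul_eq_map c H₁)⟩
  · exact aux π _ X A G U rfl hAG hcop hsolv hU hUA hπ

end Cfsg.Agent.S3745
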