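import Cfsg.Statements.S1448
import Cfsg.Agent.Lib.OddLocal.RankTwoExtraspecial
import Cfsg.Agent.Lib.OddLocal.RankTwoAut

set_option autoImplicit false
open Cfsg

namespace Cfsg.Agent.S1448

open scoped commutatorElement

/-- Let G be a finite group, p an odd prime, R a nontrivial p-subgroup with no elementary abelian subgroup of order p ^ 3, and A a subgroup of odd order coprime to p normalizing R with [R, A] = R. Then 3 < p, and either R is abelian or R is generated by two elementwise-commuting subgroups R₁, R₂ with R₁ non-abelian of order p ^ 3 and exponent p, R₂ cyclic, and the elements of R₂ of order dividing p generating exactly [R₁, R₁]. -/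
theorem result {G : Type*} [Group G] [Finite G] (p : ℕ) [Fact p.Prime] (hp : p ≠ 2) (R A : Subgroup G) (hR : IsPGroup p R) (hR1 : R ≠ ⊥) (hr : Cfsg.PRankLE p 2 R)
    (hA : (A ≤ Subgroup.normalizer (R : Set G))) (hcop : (Nat.card A).Coprime p) (hAodd : Odd (Nat.card A)) (hRA : ⁅R, A⁆ = R) :
    3 < p ∧ (IsMulCommutative R ∨ ∃ R₁ R₂ : Subgroup G, R₁ ⊔ R₂ = R ∧ (∀ a ∈ R₁, ∀ b ∈ R₂, a * b = b * a) ∧
        ¬ IsMulCommutative R₁ ∧ Nat.card R₁ = p ^ 3 ∧ Monoid.exponent R₁ = p ∧ IsCyclic R₂ ∧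
        Subgroup.closure {x : G | x ∈ R₂ ∧ x ^ p = 1} = ⁅R₁, R₁⁆) := by
  let ψ : A →* MulAut R := R.normalizerMonoidHom.comp (Subgroup.inclusion hA)
  have hres : CfsgLib.OddLocal.RankTwoNoFixed.NoFixed ψ := by
    intro N hNn hNa hNd
    have hle : ⁅R, A⁆ ≤ N.map R.subtype := Subgroup.commutator_le.2 fun r hr b hb => by
      refine ⟨⟨r, hr⟩ * ψ ⟨b, hb⟩ (⟨r, hr⟩ : R)⁻¹, ?_, ?_⟩
      · simpa using hNd ⟨b, hb⟩ (⟨r, hr⟩ : R)⁻¹
      · show r * (b * r⁻¹ * b⁻¹) = ⁅r, b⁆
        simp only [commutatorElement_def, mul_assoc]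
    refine eq_top_iff.2 fun r _ => ?_
    obtain ⟨x, hx, hxr⟩ := hle (hRA.ge r.2)
    rwa [← (Subtype.ext hxr : x = r)]
  have hp3 : 3 < p := by
    by_contra hle
    have hp3' : p = 3 := by
      have := (Fact.out : p.Prime).two_le
      omega
    have htriv : ∀ a, ψ a = 1 := by
      intro a
      by_contra hne
      set B := Subgroup.zpowers (ψ a)
      have hBc : IsMulCommutative B := inferInstance
      have : Group.IsSolvable B := Group.isSolvable_of_comm fun u v => hBc.is_comm.comm u v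
      have hd : orderOf (ψ a) ∣ Nat.card A := (orderOf_map_dvd ψ a).trans (orderOf_dvd_natCard a)
      have hBodd : Odd (Nat.card B) := hAodd.of_dvd_nat (by rw [Nat.card_zpowers]; exact hd)
      obtain ⟨-, hq⟩ := CfsgLib.OddLocal.RankTwoAut.rankTwo_aut (A := B) hBodd hp hR hr B.subtype
        fun b hb _ => Subtype.ext hb
      have hn1 : orderOf (ψ a) ≠ 1 := fun h => hne (orderOf_eq_one_iff.1 h)
      obtain ⟨q, hqp, hqd⟩ := Nat.exists_prime_and_dvd hn1
      obtain ⟨b, hb⟩ := exists_prime_orderOf_dvd_card' (G := B) (hp := ⟨hqp⟩) q (by rwa [Nat.card_zpowers])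
      have hqA : q ∣ Nat.card A := hqd.trans hd
      have hq3 : q ≠ p := fun h => hqp.ne_one (Nat.dvd_one.1 (hcop ▸ Nat.dvd_gcd hqA (h ▸ dvd_rfl)))
      have hlt := hq b (hb.symm ▸ hqp) (hb.symm ▸ hq3)
      have hq2 : q ≠ 2 := fun h => by
        have := hAodd.of_dvd_nat (h ▸ hqA)
        exact absurd this (by decide)
      rw [hb] at hlt
      have := hqp.two_le
      omega
    have htop := hres ⊥ inferInstance (fun a x hx => by
        rw [Subgroup.mem_bot] at hx ⊢; rw [hx, map_one])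
      fun a x => by rw [htriv, MulAut.one_apply, inv_mul_cancel]; exact one_mem _
    refine hR1 (eq_bot_iff.2 fun r hr => ?_)
    have : (⟨r, hr⟩ : R) ∈ (⊥ : Subgroup R) := htop ▸ Subgroup.mem_top _
    exact Subgroup.mem_bot.2 (congrArg Subtype.val (Subgroup.mem_bot.1 this) :)
  refine ⟨hp3, ?_⟩
  by_cases hnc : IsMulCommutative R
  · exact Or.inl hnc
  obtain ⟨R₁, R₂, h12, hcomm, hn1, hc1, he1, hcyc, hcl⟩ :=
    CfsgLib.OddLocal.RankTwoExtraspecial.exists_factors hp3 hR hr ψ hcop hAodd hres hnc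
  let e₁ := R₁.equivMapOfInjective R.subtype R.subtype_injective
  let e₂ := R₂.equivMapOfInjective R.subtype R.subtype_injective
  refine Or.inr ⟨R₁.map R.subtype, R₂.map R.subtype, ?_, ?_, fun h => hn1 ?_, ?_, ?_, ?_, ?_⟩
  · rw [← Subgroup.map_sup, h12, ← MonoidHom.range_eq_map, Subgroup.range_subtype]
  · rintro _ ⟨a, ha, rfl⟩ _ ⟨b, hb, rfl⟩
    rw [← map_mul, ← map_mul, hcomm a ha b hb]
  · exact ⟨⟨fun a b => e₁.injective (by rw [map_mul, map_mul]; exact h.is_comm.comm _ _)⟩⟩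
  · rw [Subgroup.card_map_of_injective R.subtype_injective]; exact hc1
  · rw [← Monoid.exponent_eq_of_mulEquiv e₁]; exact he1
  · exact isCyclic_of_surjective e₂ e₂.surjective
  · rw [← Subgroup.map_commutator, ← hcl, MonoidHom.map_closure]
    congr 1
    ext x
    constructor
    · rintro ⟨⟨y, hy, rfl⟩, hx⟩
      exact ⟨y, ⟨hy, Subtype.ext hx⟩, rfl⟩
    · rintro ⟨y, ⟨hy, hy'⟩, rfl⟩
      exact ⟨⟨y, hy, rfl⟩, by rw [← map_pow, hy', map_one]⟩

end Cfsg.Agent.S1448
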