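import Cfsg.Statements.S1461
import Cfsg.Agent.Lib.OddLocal.Supplement

set_option autoImplicit false
open Cfsg

namespace Cfsg.Agent.S1461

/-- Let G be a finite solvable group, p a prime with G = O_{p',p,p'}(G), and S a Sylow p-subgroup. Then: if S ≤ G' then S ≤ [N_G(S), N_G(S)]; if Y ⊆ S and xYx⁻¹ ⊆ S then x = g c for some g ∈ N_G(S) and c centralizing Y; and for every p-subgroup Q there is x ∈ C_G(Q ∩ S) with xQx⁻¹ ≤ S. -/
theorem result {G : Type*} [Group G] [Finite G] [Group.IsSolvable G] (p : ℕ) [Fact p.Prime] (hpl : Cfsg.PLengthLE p 1 G) (S : Sylow p G) :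
    ((S : Subgroup G) ≤ commutator G → (S : Subgroup G) ≤ ⁅Subgroup.normalizer ((S : Subgroup G) : Set G), Subgroup.normalizer ((S : Subgroup G) : Set G)⁆) ∧
      (∀ (Y : Set G) (x : G), Y ⊆ (S : Subgroup G) → (fun y => x * y * x⁻¹) '' Y ⊆ (S : Subgroup G) →
        ∃ g ∈ Subgroup.normalizer ((S : Subgroup G) : Set G), ∃ c ∈ Subgroup.centralizer Y, g * c = x) ∧
      ∀ Q : Subgroup G, IsPGroup p Q → ∃ x ∈ Subgroup.centralizer ((Q ⊓ (S : Subgroup G) : Subgroup G) : Set G), Q.map (MulAut.conj x).toMonoidHom ≤ (S : Subgroup G) := by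
  obtain ⟨hSn, htop⟩ := CfsgLib.OddLocal.pLengthOne_sylow hpl S
  have hcopS : ∀ H : Subgroup G, H ≤ (S : Subgroup G) →
      (Nat.card H).Coprime (Nat.card (Cfsg.pPrimeCore p G)) := fun H hH =>
    CfsgLib.OddLocal.coprime_card_sylow_pPrimeCore (S.isPGroup'.to_le hH)
  have hS : (S : Subgroup G) ≤ Subgroup.normalizer ((S : Subgroup G) : Set G) := Subgroup.le_normalizer
  have hfus : ∀ (Y : Set G) (x : G), Y ⊆ (S : Subgroup G) → (fun y => x * y * x⁻¹) '' Y ⊆ (S : Subgroup G) →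
      ∃ g ∈ Subgroup.normalizer ((S : Subgroup G) : Set G), ∃ c ∈ Subgroup.centralizer Y, g * c = x := by
    intro Y x hY hxY
    have hle : Subgroup.closure Y ≤ (S : Subgroup G) := (Subgroup.closure_le _).mpr hY
    obtain ⟨u, hu, c, hc, hx⟩ := CfsgLib.OddLocal.supplement_fusion htop (hle.trans hS) (hcopS _ hle) (g := x)
      (fun h hh => by
        have h1 : Subgroup.closure Y ≤ (S : Subgroup G).comap (MulAut.conj x).toMonoidHom := by
          rw [Subgroup.closure_le]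
          intro y hy
          exact hxY ⟨y, hy, rfl⟩
        exact hS (by simpa using h1 hh))
    exact ⟨u, hu, c, Subgroup.centralizer_le Subgroup.subset_closure (Subgroup.mem_inf.mp hc).2, hx.symm⟩
  refine ⟨fun hle => ?_, hfus, fun Q hQ => ?_⟩
  · have h := CfsgLib.OddLocal.supplement_focal htop hS (hcopS _ le_rfl)
    rw [inf_eq_left.mpr hle] at h
    exact h.le.trans inf_le_right
  · obtain ⟨T, hQT⟩ := hQ.exists_le_sylow
    obtain ⟨y, rfl⟩ := MulAction.exists_smul_eq G S T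
    have hin : ∀ q ∈ Q, y⁻¹ * q * y ∈ (S : Subgroup G) := by
      intro q hq
      have := hQT hq
      rw [Sylow.coe_subgroup_smul, CfsgLib.Core.mem_conj_smul_iff] at this
      exact this
    obtain ⟨n, hn, c, hc, hnc⟩ := hfus ((Q ⊓ (S : Subgroup G) : Subgroup G) : Set G) y⁻¹
      (fun q hq => (Subgroup.mem_inf.mp hq).2)
      (by
        rintro _ ⟨q, hq, rfl⟩
        show y⁻¹ * q * y⁻¹⁻¹ ∈ (S : Subgroup G)
        rw [inv_inv]; exact hin q (Subgroup.mem_inf.mp hq).1)
    refine ⟨c, hc, ?_⟩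
    rintro _ ⟨q, hq, rfl⟩
    have h1 := CfsgLib.OddLocal.conj_mem_of_normalizes (inv_mem hn) (hin q hq)
    have h2 : c = n⁻¹ * y⁻¹ := by rw [← hnc]; group
    simp only [MulEquiv.coe_toMonoidHom, MulAut.conj_apply, h2]
    simpa [mul_assoc] using h1

end Cfsg.Agent.S1461
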