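import Cfsg.Statements.S0125
import Cfsg.Agent.Lib.Transfer.Tate
import Cfsg.Agent.Lib.PGroups.Extraspecial
import Cfsg.Agent.Lib.Core.Basic

set_option autoImplicit false
open Cfsg

namespace Cfsg.Agent.S0125

/-- The centralizer of a self-centralizing normal subgroup A of a Sylow p-subgroup is the direct product of A with a normal p'-subgroup. -/
theorem result {G : Type*} [Group G] [Finite G] {p : ℕ} [Fact p.Prime] (R : Sylow p G) (A : Subgroup G) (hAR : A ≤ (R : Subgroup G)) (hAn : (R : Subgroup G) ≤ Subgroup.normalizer (A : Set G)) (hC : (R : Subgroup G) ⊓ Subgroup.centralizer (A : Set G) = A) : ∃ H : Subgroup G, H ≤ Subgroup.centralizer (A : Set G) ∧ Nat.Coprime (Nat.card H) p ∧ Subgroup.centralizer (A : Set G) ≤ Subgroup.normalizer (H : Set G) ∧ H ⊓ A = ⊥ ∧ H ⊔ A = Subgroup.centralizer (A : Set G) := by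
  classical
  set C := Subgroup.centralizer (A : Set G) with hCdef
  have hp : p.Prime := Fact.out
  have hAC : A ≤ C := hC ▸ inf_le_right
  have hndvd : ¬ p ∣ A.relIndex C := by
    have h1 : (R : Subgroup G) ≤ Subgroup.normalizer (C : Set G) :=
      hAn.trans (CfsgLib.Transfer.normalizer_le_normalizer_centralizer A)
    have h2 := CfsgLib.Core.card_sup_mul_card_inf (R : Subgroup G) C h1
    rw [hC, ← CfsgLib.PGroups.card_mul_relIndex hAC,
      ← CfsgLib.PGroups.card_mul_relIndex (le_sup_left : (R : Subgroup G) ≤ (R : Subgroup G) ⊔ C)] at h2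
    have h3 : (R : Subgroup G).relIndex ((R : Subgroup G) ⊔ C) = A.relIndex C := by
      have hpos : 0 < Nat.card (R : Subgroup G) * Nat.card A :=
        Nat.mul_pos Nat.card_pos Nat.card_pos
      refine Nat.eq_of_mul_eq_mul_left hpos ?_
      linarith [h2]
    intro hd
    rw [← h3] at hd
    exact R.not_dvd_index (hd.trans (Subgroup.relIndex_dvd_index_of_le le_sup_left))
  set AC := A.subgroupOf C with hACdef
  set S := ((R.2.to_le hAR).comap_subtype (K := C)).toSylow hndvd
  have hcen : Subgroup.normalizer ((S : Subgroup C) : Set C) ≤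
      Subgroup.centralizer ((S : Subgroup C) : Set C) := by
    intro x _
    rw [Subgroup.mem_centralizer_iff]
    intro a ha
    exact Subtype.ext (Subgroup.mem_centralizer_iff.mp x.2 a ha)
  have hnc : Cfsg.HasNormalPComplement p C := ⟨S, _, inferInstance,
    MonoidHom.ker_transferSylow_isComplement' S hcen⟩
  set K := pResidual p C with hK
  set H := K.map C.subtype with hH
  have hcop : (Nat.card H).Coprime p := by
    rw [hH, Subgroup.card_map_of_injective C.subtype_injective]
    exact CfsgLib.Transfer.hasNormalPComplement_iff_coprime.mp hnc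
  refine ⟨H, Subgroup.map_subtype_le _, hcop, ?_, ?_, ?_⟩
  · intro c hc
    rw [Subgroup.mem_normalizer_iff]
    intro y
    constructor
    · rintro ⟨z, hz, rfl⟩
      exact ⟨⟨c, hc⟩ * z * ⟨c, hc⟩⁻¹, CfsgLib.Transfer.pResidual_normal.conj_mem z hz _, rfl⟩
    · rintro ⟨z, hz, he⟩
      refine ⟨⟨c, hc⟩⁻¹ * z * ⟨c, hc⟩⁻¹⁻¹, CfsgLib.Transfer.pResidual_normal.conj_mem z hz _, ?_⟩
      simp only [Subgroup.coe_subtype] at he
      simp [he, mul_assoc]
  · obtain ⟨j, hj⟩ := IsPGroup.iff_card.mp (R.2.to_le hAR)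
    exact (Subgroup.disjoint_of_coprime_natCard (hj ▸ hcop.pow_right j)).eq_bot
  · refine le_antisymm (sup_le (Subgroup.map_subtype_le _) hAC) fun c hc => ?_
    obtain ⟨s, hs, k, hk, he⟩ := CfsgLib.Transfer.exists_mul_mem_pResidual S (⟨c, hc⟩ : C)
    rw [show c = (s : G) * k from congrArg Subtype.val he]
    exact mul_mem (Subgroup.mem_sup_right hs) (Subgroup.mem_sup_left ⟨k, hk, rfl⟩)

end Cfsg.Agent.S0125
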