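import Cfsg.Statements.S1302
import Cfsg.Agent.Lib.Signalizer.BaerTrick
import Cfsg.Agent.Lib.PLocal.PConstrained
import Cfsg.Agent.Lib.OddLocal.Coprime
import Cfsg.Agent.Lib.PGroups.Omega
import Cfsg.Agent.Lib.LocalEvenB.Basic
import Cfsg.Agent.Lib.Core.MinNormal

set_option autoImplicit false
open Cfsg

namespace Cfsg.Agent.S1302

open Subgroup CfsgLib
open scoped commutatorElement

theorem signalizer_le_centralizer {G : Type*} [Group G] [Finite G] {p : ℕ} [Fact p.Prime]
    (hp : p ≠ 2) {A Q R : Subgroup G} (hAp : IsPGroup p A) (hQ : ¬ p ∣ Nat.card Q)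
    (hAQ : A ≤ normalizer (Q : Set G)) (hR : IsPGroup p R) [R.Normal]
    (hΩ : ∀ x ∈ centralizer (A : Set G), x ^ p = 1 → x ∈ A) :
    Q ≤ centralizer (R : Set G) := by
  by_contra hcon
  obtain ⟨R0, ⟨hR0, hQR, hAR, hne⟩, hmin⟩ := WellFounded.has_min (wellFounded_lt (α := Subgroup G))
    {X : Subgroup G | X ≤ R ∧ Q ≤ normalizer (X : Set G) ∧ A ≤ normalizer (X : Set G) ∧
      ¬ Q ≤ centralizer (X : Set G)}
    ⟨R, le_rfl, by rw [normalizer_eq_top]; exact le_top, by rw [normalizer_eq_top]; exact le_top, hcon⟩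
  have hsmall : ∀ X : Subgroup G, X ≤ R0 → Q ≤ normalizer (X : Set G) →
      A ≤ normalizer (X : Set G) → X ≠ R0 → Q ≤ centralizer (X : Set G) := fun X h1 h2 h3 h4 => by
    by_contra hc
    exact hmin X ⟨h1.trans hR0, h2, h3, hc⟩ (lt_of_le_of_ne h1 h4)
  have hR0p : IsPGroup p R0 := hR.to_le hR0
  have hnil := hR0p.isNilpotent
  have hR0s : Group.IsSolvable R0 := inferInstance
  have hR0b : R0 ≠ ⊥ := by
    rintro rfl
    exact hne (fun q _ => mem_centralizer_iff.mpr fun y hy => by rw [mem_bot.mp hy, one_mul, mul_one])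
  have hmap : ∀ g ∈ normalizer (R0 : Set G), R0.map (MulAut.conj g).toMonoidHom = R0 := fun g hg =>
    LocalEvenB.map_conj_eq_self_iff_mem_normalizer.mpr hg
  -- the commutator subgroup is centralized by `Q`
  have hN : ∀ g ∈ normalizer (R0 : Set G), g ∈ normalizer ((⁅R0, R0⁆ : Subgroup G) : Set G) := fun g hg => by
    rw [← LocalEvenB.map_conj_eq_self_iff_mem_normalizer, map_commutator, hmap g hg]
  have hD : Q ≤ centralizer ((⁅R0, R0⁆ : Subgroup G) : Set G) :=
    hsmall _ (commutator_le_self R0) (fun q hq => hN q (hQR hq)) (fun a ha => hN a (hAR ha))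
      (Core.commutator_self_lt hR0s hR0b).ne
  -- `R0 = [R0, Q]`
  have hcop : (Nat.card Q).Coprime (Nat.card R0) := by
    obtain ⟨k, hk⟩ := hR0p.exists_card_eq
    rw [hk]
    exact ((Fact.out : p.Prime).coprime_iff_not_dvd.mpr hQ).symm.pow_right k
  have hRQ : ⁅R0, Q⁆ = R0 := by
    by_contra hlt
    have hle := Core.commutator_le_of_normalizes hQR
    have hc := hsmall _ hle (normalizer_commutator_ge_right R0 Q) (fun a ha => by
      rw [← LocalEvenB.map_conj_eq_self_iff_mem_normalizer, map_commutator, hmap a (hAR ha),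
        LocalEvenB.map_conj_eq_self_iff_mem_normalizer.mpr (hAQ ha)]) hlt
    have h2 : ⁅⁅R0, Q⁆, Q⁆ = ⊥ :=
      commutator_eq_bot_iff_le_centralizer.mpr (le_centralizer_iff.mp hc)
    rw [Core.commutator_commutator_eq hQR hcop (Or.inr hR0s)] at h2
    exact hne (le_centralizer_iff.mp (commutator_eq_bot_iff_le_centralizer.mp h2))
  have hcls : ⁅R0, ⁅R0, R0⁆⁆ = ⊥ := by
    have h := commutator_commutator_eq_bot_of_rotate (H₁ := R0) (H₂ := Q) (H₃ := ⁅R0, R0⁆)
      (by rw [commutator_eq_bot_iff_le_centralizer.mpr hD, commutator_bot_left])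
      (by
        refine le_bot_iff.mp ((commutator_mono (le_normalizer_iff_commutator_le_left.mp
          (le_normalizer.trans fun g hg => hN g hg)) le_rfl).trans ?_)
        rw [commutator_eq_bot_iff_le_centralizer.mpr (le_centralizer_iff.mp hD)])
    rwa [hRQ] at h
  have hcen : ∀ x y : ↥R0, ⁅x, y⁆ ∈ center ↥R0 := fun x y => mem_center_iff.mpr fun z =>
    Subtype.ext (mem_centralizer_iff.mp (commutator_eq_bot_iff_le_centralizer.mp hcls z.2)
      _ (commutator_mem_commutator x.2 y.2)).symm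
  -- exponent `p`
  have hOmega : Cfsg.omegaOne p R0 = R0 := by
    by_contra hlt
    have hnorm : ∀ g ∈ normalizer (R0 : Set G), g ∈ normalizer (Cfsg.omegaOne p R0 : Set G) := fun g hg => by
      rw [← LocalEvenB.map_conj_eq_self_iff_mem_normalizer,
        PGroups.omegaOne_map _ (MulAut.conj g).injective, hmap g hg]
    have hc := hsmall _ (PGroups.omegaOne_le R0) (fun q hq => hnorm q (hQR hq))
      (fun a ha => hnorm a (hAR ha)) hlt
    refine hne fun q hq => OddLocal.centralizes_of_fixes_order_p hp (n := Nat.card Q)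
      (orderOf_dvd_iff_pow_eq_one.mp (Subgroup.orderOf_dvd_natCard _ hq))
      ((Fact.out : p.Prime).coprime_iff_not_dvd.mpr hQ).symm hR0p (hQR hq) fun x hx hxo => ?_
    exact (mem_centralizer_iff.mp (hc hq) x
      (PGroups.mem_omegaOne hx (by rw [← hxo, pow_orderOf_eq_one]))).symm
  have hexp : ∀ x : ↥R0, x ^ p = 1 := by
    suffices h : ∀ x ∈ Cfsg.omegaOne p R0, ∃ hx : x ∈ R0, (⟨x, hx⟩ : ↥R0) ^ p = 1 from fun x => by
      obtain ⟨_, h'⟩ := h x (hOmega.ge x.2)
      exact h'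
    intro x hx
    induction hx using closure_induction with
    | mem x hx => exact ⟨hx.1, Subtype.ext hx.2⟩
    | one => exact ⟨one_mem _, one_pow p⟩
    | mul x y _ _ hx hy =>
      obtain ⟨hx, hx'⟩ := hx
      obtain ⟨hy, hy'⟩ := hy
      refine ⟨mul_mem hx hy, ?_⟩
      show ((⟨x, hx⟩ : ↥R0) * ⟨y, hy⟩) ^ p = 1
      rw [PGroups.mul_pow_of_central_odd (hcen _ _) ((Fact.out : p.Prime).odd_of_ne_two hp), hx', hy',
        mul_one]
      rw [← PGroups.comm_pow_left_of_central (hcen _ _), hy', commutatorElement_one_left]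
    | inv x _ hx =>
      obtain ⟨hx, hx'⟩ := hx
      exact ⟨inv_mem hx, by show (⟨x, hx⟩ : ↥R0)⁻¹ ^ p = 1; rw [inv_pow, hx', inv_one]⟩
  -- a fixed point of `A` moved by `Q`
  let φ := R0.normalizerMonoidHom
  obtain ⟨h, hfix, -, ⟨qN, hq, rfl⟩, hqh⟩ := Signalizer.exists_fixed_moved hp hcen hexp
    (A := (A.subgroupOf _).map φ) (Q := (Q.subgroupOf _).map φ)
    (((hAp.of_equiv (subgroupOfEquivOfLe hAR).symm)).map φ)
    (fun hd => hQ ((hd.trans ((Q.subgroupOf _).card_map_dvd φ)).trans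
      (dvd_of_eq (Nat.card_congr (subgroupOfEquivOfLe hQR).toEquiv))))
    (by
      rintro _ ⟨a, ha, rfl⟩
      refine LocalEvenB.mem_normalizer_of_forall ?_
      rintro _ ⟨q, hq, rfl⟩
      exact ⟨a * q * a⁻¹, (mem_normalizer_iff.mp (hAQ ha) _).mp hq, by simp⟩)
    (by
      by_contra hall
      push Not at hall
      refine hne fun q hq => mem_centralizer_iff.mpr fun y hy => ?_
      have e : q * y * q⁻¹ = y :=
        congrArg Subtype.val (hall (φ ⟨q, hQR hq⟩) (mem_map_of_mem φ hq) ⟨y, hy⟩)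
      exact (mul_inv_eq_iff_eq_mul.mp e).symm)
  have hhC : (h : G) ∈ centralizer (A : Set G) := mem_centralizer_iff.mpr fun a ha => by
    have e : a * (h : G) * a⁻¹ = h :=
      congrArg Subtype.val (hfix (φ ⟨a, hAR ha⟩) (mem_map_of_mem φ ha))
    exact mul_inv_eq_iff_eq_mul.mp e
  have hhA : (h : G) ∈ A := hΩ _ hhC (congrArg Subtype.val (hexp h))
  refine hqh (Subtype.ext ?_)
  show (qN : G) * (h : G) * (qN : G)⁻¹ = h
  set q := (qN : G)
  have hRQ' : R0 ⊓ Q = ⊥ := disjoint_iff.mp (disjoint_of_coprime_natCard hcop.symm)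
  have : q * (h : G) * q⁻¹ * (h : G)⁻¹ ∈ R0 ⊓ Q := by
    refine ⟨R0.mul_mem ((mem_normalizer_iff.mp qN.2 _).mp h.2) (R0.inv_mem h.2), ?_⟩
    rw [show q * (h : G) * q⁻¹ * (h : G)⁻¹ = q * ((h : G) * q⁻¹ * (h : G)⁻¹) by group]
    exact Q.mul_mem hq ((mem_normalizer_iff.mp (hAQ hhA) _).mp (Q.inv_mem hq))
  rw [hRQ', mem_bot, mul_inv_eq_one] at this
  exact this

/-- Let X be a finite p-constrained group, p an odd prime, and A an abelian p-subgroup of X containing every element of order p of C_X(A). Then every subgroup of X of order prime to p that is normalized by A lies in O_{p'}(X). -/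
theorem result {X : Type*} [Group X] [Finite X] (p : ℕ) [Fact p.Prime] (hp : p ≠ 2) (hX : Cfsg.IsPConstrained p X) (A : Subgroup X) (hA : IsMulCommutative ↥A) (hAp : IsPGroup p ↥A) (hΩ : ∀ x ∈ Subgroup.centralizer (A : Set X), orderOf x = p → x ∈ A) (Q : Subgroup X) (hQ : ¬ p ∣ Nat.card ↥Q) (hAQ : A ≤ Subgroup.normalizer (Q : Set X)) : Q ≤ Cfsg.pPrimeCore p X := by
  set O := Cfsg.pPrimeCore p X
  have hO : (Nat.card O).Coprime p := Core.coprime_card_pPrimeCore p X
  let π := QuotientGroup.mk' O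
  have hC : Q.map π ≤ centralizer (Cfsg.pCore p (X ⧸ O) : Set (X ⧸ O)) := by
    refine signalizer_le_centralizer hp (hAp.map π) (fun hd => hQ (hd.trans (Q.card_map_dvd π)))
      ((map_mono hAQ).trans (le_normalizer_map π)) (Core.isPGroup_pCore p _) ?_
    intro x hx hxp
    rw [← PLocal.map_centralizer_eq O hO hAp] at hx
    obtain ⟨g, hg, rfl⟩ := hx
    have hgO : g ^ p ∈ O := (QuotientGroup.eq_one_iff _).mp ((map_pow π g p).trans hxp)
    -- replace `g` by a `p`-power part of order `p`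
    obtain ⟨m, hm⟩ : ∃ m : ℕ, (g ^ p) ^ m = 1 ∧ m.Coprime p :=
      ⟨Nat.card O, orderOf_dvd_iff_pow_eq_one.mp (Subgroup.orderOf_dvd_natCard _ hgO), hO⟩
    have h1 : (g ^ m) ^ p = 1 := by rw [← pow_mul, mul_comm, pow_mul]; exact hm.1
    have h2 : g ^ m ∈ A := by
      rcases eq_or_ne (g ^ m) 1 with he | he
      · rw [he]; exact one_mem A
      · exact hΩ _ (pow_mem hg m) (orderOf_eq_prime h1 he)
    obtain ⟨k, hk⟩ := exists_pow_eq_self_of_coprime (x := π g) (n := m)
      (hm.2.coprime_dvd_right (orderOf_dvd_of_pow_eq_one hxp))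
    rw [← hk, ← map_pow, ← map_pow]
    exact mem_map_of_mem π (pow_mem h2 k)
  have hR := (PLocal.isPConstrained_iff).mp hX
  intro x hx
  obtain ⟨k, hk⟩ := Core.isPGroup_pCore p (X ⧸ O) ⟨π x, hR (hC (mem_map_of_mem π hx))⟩
  have hcq : (orderOf x).Coprime p := ((Fact.out : p.Prime).coprime_iff_not_dvd.mpr fun hd =>
    hQ (hd.trans (Subgroup.orderOf_dvd_natCard _ hx))).symm
  exact (QuotientGroup.eq_one_iff _).mp (orderOf_eq_one_iff.mp
    (Nat.eq_one_of_dvd_coprimes (hcq.pow_right k) (orderOf_map_dvd π _)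
      (orderOf_dvd_of_pow_eq_one (congrArg Subtype.val hk))))

end Cfsg.Agent.S1302
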