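import Cfsg.Statements.S1396
import Cfsg.Agent.Lib.TwoGroups.TransitivityHyp
import Cfsg.Agent.S1302
import Cfsg.Agent.S0125
import Cfsg.Agent.Lib.Core.SolvableStruct

set_option autoImplicit false
open Cfsg

namespace Cfsg.Agent.S1396

/-- Let G be a minimal simple group of odd order, p a prime dividing the order of G and A an abelian p-subgroup. Suppose either (1) A consists exactly of the elements x of C_G(A) with x^p = 1, and every proper subgroup of G has p-length at most one, or (2) A is normal and self-centralizing in some Sylow p-subgroup of G and has rank at least 2. Then A satisfies the transitivity hypothesis. -/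
theorem result {G : Type*} [Group G] [Finite G] (hG : Cfsg.IsMinSimpleOddOrder G)
    (p : ℕ) [Fact p.Prime] (hp : p ∣ Nat.card G) (A : Subgroup G) (hAp : IsPGroup p A) (hAc : IsMulCommutative A)
    (h : (∀ x ∈ Subgroup.centralizer (A : Set G), x ^ p = 1 ↔ x ∈ A) ∧ (∀ H : Subgroup G, H ≠ ⊤ → Cfsg.PLengthLE p 1 H) ∨
      ∃ P : Sylow p G, Cfsg.IsSCN (P : Subgroup G) A ∧ ¬ Cfsg.PRankLE p 1 A) :
    Cfsg.TransitivityHypothesis A := by
  have hp2 : p ≠ 2 := by
    rintro rfl
    obtain ⟨t, ht⟩ := hG.1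
    omega
  have hfull : ∀ x ∈ Subgroup.centralizer (A : Set G), orderOf x = p → x ∈ A := by
    intro x hx hxo
    rcases h with ⟨h1, -⟩ | ⟨P, ⟨hAP, hPN, hPC⟩, -⟩
    · exact (h1 x hx).mp (hxo ▸ pow_orderOf_eq_one x)
    · obtain ⟨H, hH, hHp, -, -, hsup⟩ := Cfsg.Agent.S0125.result P A hAP hPN hPC
      have hAH : A ≤ Subgroup.normalizer (H : Set G) := fun b hb =>
        Subgroup.centralizer_le_normalizer _ (Subgroup.mem_centralizer_iff.mpr fun h hh =>
          (Subgroup.mem_centralizer_iff.mp (hH hh) b hb).symm)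
      obtain ⟨u, hu, b, hb, rfl⟩ :=
        (CfsgLib.Core.mem_sup_iff_mul' hAH).mp (show x ∈ A ⊔ H by rw [sup_comm, hsup]; exact hx)
      obtain ⟨k, hk⟩ := hAp ⟨b, hb⟩
      have hcm : Commute u b := (Subgroup.mem_centralizer_iff.mp (hH hu) b hb).symm
      have h1 : (u * b) ^ p ^ (k + 1) = 1 :=
        orderOf_dvd_iff_pow_eq_one.mp (hxo.symm ▸ dvd_pow_self p (Nat.succ_ne_zero k))
      have hbk : b ^ p ^ (k + 1) = 1 := by
        rw [pow_succ, pow_mul, show b ^ p ^ k = 1 from congrArg Subtype.val hk, one_pow]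
      rw [hcm.mul_pow, hbk, mul_one] at h1
      have hu1 : u = 1 := orderOf_eq_one_iff.mp (Nat.eq_one_of_dvd_coprimes
        (hHp.pow_right (k + 1)) (H.orderOf_dvd_natCard hu) (orderOf_dvd_of_pow_eq_one h1))
      rw [hu1, one_mul]
      exact hb
  have hA0 : A ≠ ⊥ := by
    rintro rfl
    obtain ⟨x, hx⟩ := exists_prime_orderOf_dvd_card' p hp
    have := hfull x (by simp [Subgroup.mem_centralizer_iff]) hx
    rw [Subgroup.mem_bot] at this
    rw [this, orderOf_one] at hx
    exact (Fact.out : p.Prime).ne_one hx.symm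
  refine ⟨hA0, fun ht => hG.2.2.1 ?_, fun X hX hAX => le_antisymm (sSup_le ?_) (le_sSup ?_)⟩
  · subst ht
    exact ⟨⟨fun a b => congrArg Subtype.val
      (hAc.is_comm.comm (⟨a, Subgroup.mem_top a⟩ : (⊤ : Subgroup G)) ⟨b, Subgroup.mem_top b⟩)⟩⟩
  · rintro Y ⟨hYX, hYπ, hAY⟩
    have := hG.2.2.2 X hX
    have hcon : Cfsg.IsPConstrained p ↥X := CfsgLib.PLocal.isPConstrained_iff.mpr
      (CfsgLib.Core.centralizer_pCore_le_of_pPrimeCore_eq_bot
        (CfsgLib.Core.pPrimeCore_quotient_pPrimeCore p ↥X))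
    obtain ⟨j, hj⟩ := IsPGroup.iff_card.mp hAp
    have hj0 : j ≠ 0 := by
      rintro rfl
      exact hA0 (Subgroup.eq_bot_of_card_eq A (by simpa using hj))
    have hpA : p ∣ Nat.card A := hj ▸ dvd_pow_self p hj0
    have hle := Cfsg.Agent.S1302.result p hp2 hcon (A.subgroupOf X)
      ⟨⟨fun u v => Subtype.ext (Subtype.ext (congrArg (fun z : A => (z : G))
        (hAc.is_comm.comm (⟨u.1.1, u.2⟩ : A) ⟨v.1.1, v.2⟩)))⟩⟩
      (hAp.of_injective ((X.subtype.comp (A.subgroupOf X).subtype).codRestrict A fun x => x.2)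
        fun x y h => Subtype.ext (Subtype.ext (congrArg (fun z : A => (z : G)) h)))
      (fun x hx hxo => hfull x (Subgroup.mem_centralizer_iff.mpr fun e he =>
        congrArg Subtype.val (Subgroup.mem_centralizer_iff.mp hx ⟨e, hAX he⟩ he))
        (by rw [Subgroup.orderOf_coe, hxo]))
      (Y.subgroupOf X)
      (fun hd => (hYπ p Fact.out (by
        rwa [Nat.card_congr (Subgroup.subgroupOfEquivOfLe hYX).toEquiv] at hd)).2 hpA)
      (fun e he => Subgroup.mem_normalizer_iff.mpr fun y =>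
        Subgroup.mem_normalizer_iff.mp (hAY he) (y : G))
    intro y hy
    refine ⟨⟨y, hYX hy⟩, (CfsgLib.Components.le_piCore inferInstance fun r hr hd => ⟨hr, fun hrA => ?_⟩ :
      Cfsg.pPrimeCore p ↥X ≤ Cfsg.piCore (Cfsg.primesNotDvd (Nat.card A)) ↥X) (hle hy), rfl⟩
    rw [hj] at hrA
    rw [(Nat.prime_dvd_prime_iff_eq hr Fact.out).mp (hr.dvd_of_dvd_pow hrA)] at hd
    exact (Fact.out : p.Prime).coprime_iff_not_dvd.mp
      (CfsgLib.Core.coprime_card_pPrimeCore p ↥X).symm hd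
  · exact ⟨Subgroup.map_subtype_le _, CfsgLib.TwoGroups.TransitivityHyp.isPiSubgroup_piCoreOf _ X,
      hAX.trans (CfsgLib.TwoGroups.TransitivityHyp.le_normalizer_piCoreOf _ X)⟩

end Cfsg.Agent.S1396
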