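import Cfsg.Statements.S1395
import Cfsg.Agent.Lib.TwoGroups.TransitivityOver

set_option autoImplicit false
open Cfsg

namespace Cfsg.Agent.S1395

open CfsgLib.TwoGroups.TransitivityHyp CfsgLib.TwoGroups.Transitivity Subgroup

theorem main {G : Type*} [Group G] [Finite G] (hG : Cfsg.IsMinSimpleOddOrder G)
    {A : Subgroup G} (hA : Cfsg.TransitivityHypothesis A) (q : ℕ) [Fact q.Prime] (hqA : ¬ q ∣ Nat.card A)
    (P : Subgroup G) (hP : P ≠ ⊤) (hPπ : (∀ r : ℕ, r.Prime → r ∣ Nat.card P → r ∣ Nat.card A)) (hAP : A ≤ P) (hsn : (A.subgroupOf P).IsSubnormal)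
    (htr : ∀ Q₁ ∈ Cfsg.maxInvSubgroups ⊤ A {q}, ∀ Q₂ ∈ Cfsg.maxInvSubgroups ⊤ A {q}, ∃ k ∈ Cfsg.piCoreOf (Cfsg.primesNotDvd (Nat.card A)) (centralizer (A : Set G)), Q₂ = Q₁.map (MulAut.conj k).toMonoidHom) :
    Cfsg.piCoreOf (Cfsg.primesNotDvd (Nat.card A)) (centralizer (A : Set G)) ⊓ centralizer (P : Set G) = Cfsg.piCoreOf (Cfsg.primesNotDvd (Nat.card A)) (centralizer (P : Set G)) ∧
      (∀ Q₁ ∈ Cfsg.maxInvSubgroups ⊤ P {q}, ∀ Q₂ ∈ Cfsg.maxInvSubgroups ⊤ P {q}, ∃ k ∈ Cfsg.piCoreOf (Cfsg.primesNotDvd (Nat.card A)) (centralizer (P : Set G)), Q₂ = Q₁.map (MulAut.conj k).toMonoidHom) ∧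
      Cfsg.maxInvSubgroups ⊤ P {q} ⊆ Cfsg.maxInvSubgroups ⊤ A {q} ∧
      ∀ Q ∈ Cfsg.maxInvSubgroups ⊤ P {q},
        P ⊓ ⁅normalizer (P : Set G), normalizer (P : Set G)⁆ ≤ ⁅normalizer (Q : Set G), normalizer (Q : Set G)⁆ ∧
        normalizer (P : Set G) = Cfsg.piCoreOf (Cfsg.primesNotDvd (Nat.card A)) (centralizer (P : Set G)) ⊔ (normalizer (P : Set G) ⊓ normalizer (Q : Set G)) := by
  have hq : ∀ {B R : Subgroup G}, IsMaxInv B q R → R ∈ Cfsg.maxInvSubgroups ⊤ B {q} := by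
    intro B R hR
    refine ⟨⟨le_top, fun r hr hd => ?_, hR.2.1⟩, fun U hU hle => hR.2.2 U ?_ hU.2.2 hle⟩
    · obtain ⟨k, hk⟩ := IsPGroup.iff_card.mp hR.1
      rw [hk] at hd
      exact (Nat.prime_dvd_prime_iff_eq hr Fact.out).mp (hr.dvd_of_dvd_pow hd)
    · exact IsPGroup.of_card (n := (Nat.card U).primeFactorsList.length)
        (Nat.eq_prime_pow_of_unique_prime_dvd Nat.card_pos.ne' (fun {d} hd hdd => hU.2.1 d hd hdd))
  obtain ⟨hc, hb⟩ := good hG hA hqA hP hPπ hAP hsn (fun Q₁ Q₂ h₁ h₂ => by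
    obtain ⟨k, hk, e⟩ := htr Q₁ (hq h₁) Q₂ (hq h₂)
    exact ⟨k, hk, e.symm⟩)
  have hb' : ∀ Q₁ ∈ Cfsg.maxInvSubgroups ⊤ P {q}, ∀ Q₂ ∈ Cfsg.maxInvSubgroups ⊤ P {q}, ∃ k ∈ Cfsg.piCoreOf (Cfsg.primesNotDvd (Nat.card A)) (centralizer (P : Set G)), Q₂ = Q₁.map (MulAut.conj k).toMonoidHom := by
    intro Q₁ h₁ Q₂ h₂
    obtain ⟨k, hk, e⟩ := hb Q₁ Q₂ (isMaxInv_of_mem h₁) (isMaxInv_of_mem h₂)
    exact ⟨k, hk, e.symm⟩
  refine ⟨inf_centralizer_eq hG hA hAP, hb', fun Q hQ => hq (hc Q (isMaxInv_of_mem hQ)), fun Q hQ => ?_⟩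
  set K := Cfsg.piCoreOf (Cfsg.primesNotDvd (Nat.card A)) (centralizer (P : Set G)) with hK
  set N := normalizer (P : Set G) with hN
  set NQ := normalizer (Q : Set G) with hNQ
  have hKN : K ≤ N := (map_subtype_le _).trans (centralizer_le_normalizer _)
  have hKn : ∀ n ∈ N, ∀ x ∈ K, n * x * n⁻¹ ∈ K := by
    intro n hn x hx
    have hle : K.map (MulAut.conj n).toMonoidHom ≤ centralizer (P : Set G) := by
      rintro _ ⟨y, hy, rfl⟩
      refine mem_centralizer_iff.mpr fun z hz => ?_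
      have hz' := mem_centralizer_iff.mp (map_subtype_le _ hy) (n⁻¹ * z * n)
        ((mem_normalizer_iff''.mp hn z).mp hz)
      show z * (n * y * n⁻¹) = n * y * n⁻¹ * z
      calc z * (n * y * n⁻¹) = n * (n⁻¹ * z * n * y) * n⁻¹ := by group
        _ = n * (y * (n⁻¹ * z * n)) * n⁻¹ := by rw [hz']
        _ = n * y * n⁻¹ * z := by group
    have h1 := le_coreCentralizer hG hA (U := K.map (MulAut.conj n).toMonoidHom)
      (fun r hr hd => (isPiSubgroup_piCoreOf (Cfsg.primesNotDvd (Nat.card A)) (centralizer (P : Set G)) r hr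
        (by rwa [CfsgLib.Transfer.card_map_conj] at hd)).2)
      (hle.trans (centralizer_le (fun x hx => hAP hx)))
    exact (inf_centralizer_eq hG hA hAP).le ⟨h1 ⟨x, hx, rfl⟩, hle ⟨x, hx, rfl⟩⟩
  have hsplit : N = K ⊔ (N ⊓ NQ) := by
    refine le_antisymm (fun n hn => ?_) (sup_le hKN inf_le_left)
    have hQn : IsMaxInv P q (Q.map (MulAut.conj n).toMonoidHom) := by
      have hnorm : ∀ d ∈ N, ∀ U : Subgroup G, P ≤ normalizer (U : Set G) →
          P ≤ normalizer (U.map (MulAut.conj d).toMonoidHom : Set G) := by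
        intro d hd U hU e he
        rw [mem_normalizer_iff]
        intro y
        rw [CfsgLib.Transfer.mem_map_conj, CfsgLib.Transfer.mem_map_conj,
          show d⁻¹ * (e * y * e⁻¹) * d = (d⁻¹ * e * d) * (d⁻¹ * y * d) * (d⁻¹ * e * d)⁻¹ by group]
        exact mem_normalizer_iff.mp (hU ((mem_normalizer_iff''.mp hd e).mp he)) _
      have hQm := isMaxInv_of_mem hQ
      refine ⟨hQm.1.map _, hnorm n hn Q hQm.2.1, fun U hU hUE hle => ?_⟩
      have e := hQm.2.2 _ (hU.map (MulAut.conj n⁻¹).toMonoidHom) (hnorm n⁻¹ (inv_mem hn) U hUE)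
        (fun x hx => by
          refine ⟨n * x * n⁻¹, hle ⟨x, hx, rfl⟩, ?_⟩
          show n⁻¹ * (n * x * n⁻¹) * n⁻¹⁻¹ = x
          group)
      rw [← e]
      ext x
      rw [CfsgLib.Transfer.mem_map_conj, CfsgLib.Transfer.mem_map_conj, inv_inv,
        show n * (n⁻¹ * x * n) * n⁻¹ = x by group]
    obtain ⟨k, hk, e⟩ := hb Q _ (isMaxInv_of_mem hQ) hQn
    have hkn : k⁻¹ * n ∈ NQ := by
      rw [hNQ, ← CfsgLib.Transfer.map_conj_eq_self_iff]
      ext x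
      rw [CfsgLib.Transfer.mem_map_conj]
      have h1 : k * x * k⁻¹ ∈ Q.map (MulAut.conj n).toMonoidHom ↔ x ∈ Q := by
        rw [← e, CfsgLib.Transfer.mem_map_conj, show k⁻¹ * (k * x * k⁻¹) * k = x by group]
      rw [← h1, CfsgLib.Transfer.mem_map_conj]
      refine iff_of_eq (congrArg (· ∈ Q) ?_)
      group
    have h2 : k * (k⁻¹ * n) ∈ K ⊔ N ⊓ NQ := Subgroup.mul_mem _ (mem_sup_left hk)
      (mem_sup_right (Subgroup.mem_inf.2 ⟨N.mul_mem (N.inv_mem (hKN hk)) hn, hkn⟩))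
    rwa [mul_inv_cancel_left] at h2
  refine ⟨?_, hsplit⟩
  set N0 := N ⊓ NQ with hN0
  have hcomm : ⁅N, N⁆ ≤ ⁅N0, N0⁆ ⊔ K := by
    have hKnorm : (K.subgroupOf N).Normal := ⟨fun x hx g => hKn g g.2 x hx⟩
    set f := QuotientGroup.mk' (K.subgroupOf N)
    set N1 := N0.subgroupOf N
    have htop : N1.map f = (⊤ : Subgroup N).map f := by
      refine le_antisymm (map_mono le_top) ?_
      have e : (⊤ : Subgroup N) = N1 ⊔ K.subgroupOf N := by
        rw [← subgroupOf_sup inf_le_left hKN, sup_comm N0, ← hsplit, subgroupOf_self]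
      rw [e, Subgroup.map_sup, QuotientGroup.map_mk'_self, sup_bot_eq]
    have h2 : ⁅(⊤ : Subgroup N), (⊤ : Subgroup N)⁆ ≤ ⁅N1, N1⁆ ⊔ K.subgroupOf N := by
      have h3 : (⁅(⊤ : Subgroup N), (⊤ : Subgroup N)⁆).map f ≤ (⁅N1, N1⁆).map f := by
        rw [map_commutator, map_commutator, htop]
      rw [Subgroup.map_le_map_iff, QuotientGroup.ker_mk'] at h3
      exact h3
    have h4 := map_mono (f := N.subtype) h2
    rwa [map_commutator, Subgroup.map_sup, map_commutator, ← MonoidHom.range_eq_map,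
      Subgroup.range_subtype, map_subgroupOf_eq_of_le inf_le_left, map_subgroupOf_eq_of_le hKN] at h4
  have hN0N : ⁅N0, N0⁆ ≤ N := (commutator_le_self N0).trans inf_le_left
  have hKnorm' : ⁅N0, N0⁆ ≤ normalizer (K : Set G) := fun d hd => by
    rw [mem_normalizer_iff]
    exact fun x => ⟨hKn d (hN0N hd) x, fun hx => by
      simpa [mul_assoc] using hKn d⁻¹ (inv_mem (hN0N hd)) _ hx⟩
  rintro x ⟨hxP, hx⟩
  obtain ⟨k, hk, d, hd, hkd⟩ := (CfsgLib.Core.mem_sup_iff_mul' hKnorm').mp (hcomm hx)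
  set W := ⁅NQ, NQ⁆ with hW
  have hdW : d ∈ W := commutator_mono inf_le_right inf_le_right hd
  have hxNQ : x ∈ NQ := (isMaxInv_of_mem hQ).2.1 hxP
  have hkNQ : k ∈ NQ := by
    have : k = x * d⁻¹ := by rw [hkd, mul_inv_cancel_right]
    rw [this]
    exact mul_mem hxNQ (inv_mem ((commutator_le_self NQ) hdW))
  have hWn : (W.subgroupOf NQ).Normal := by
    refine ⟨fun y hy g => ?_⟩
    have h1 : (MulAut.conj (g : G)).toMonoidHom y ∈ W.map (MulAut.conj (g : G)).toMonoidHom :=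
      mem_map_of_mem _ hy
    rw [hW, map_commutator, CfsgLib.Transfer.map_conj_eq_self_iff.mpr (le_normalizer g.2)] at h1
    exact h1
  set φ := QuotientGroup.mk' (W.subgroupOf NQ)
  have hφd : φ ⟨d, (commutator_le_self NQ) hdW⟩ = 1 := (QuotientGroup.eq_one_iff _).mpr hdW
  have hφ : φ ⟨x, hxNQ⟩ = φ ⟨k, hkNQ⟩ := by
    rw [show (⟨x, hxNQ⟩ : NQ) = ⟨k, hkNQ⟩ * ⟨d, (commutator_le_self NQ) hdW⟩ from Subtype.ext hkd,
      map_mul, hφd, mul_one]
  have hcop : (Nat.card P).Coprime (Nat.card K) :=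
    Nat.coprime_of_dvd fun r hr hrP hrK => (isPiSubgroup_piCoreOf _ _ r hr hrK).2 (hPπ r hr hrP)
  have h1 : orderOf (φ ⟨x, hxNQ⟩) ∣ Nat.card P :=
    (orderOf_map_dvd φ _).trans (by rw [orderOf_mk]; exact P.orderOf_dvd_natCard hxP)
  have h2 : orderOf (φ ⟨x, hxNQ⟩) ∣ Nat.card K := by
    rw [hφ]
    exact (orderOf_map_dvd φ _).trans (by rw [orderOf_mk]; exact K.orderOf_dvd_natCard hk)
  exact (QuotientGroup.eq_one_iff (⟨x, hxNQ⟩ : NQ)).mp (orderOf_eq_one_iff.mp (Nat.eq_one_of_dvd_coprimes hcop h1 h2))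

/-- Let G be a minimal simple group of odd order, A a subgroup satisfying the transitivity hypothesis with K = O_{π(A)'}(C_G(A)), q a prime not dividing the order of A, and P a proper subgroup all of whose prime divisors divide the order of A, containing A as a subnormal subgroup, such that any two maximal A-invariant q-subgroups are conjugate under K. Then (a) K ∩ C_G(P) = O_{π(A)'}(C_G(P)); (b) any two maximal P-invariant q-subgroups are conjugate under O_{π(A)'}(C_G(P)); (c) every maximal P-invariant q-subgroup is a maximal A-invariant q-subgroup; (d) for every maximal P-invariant q-subgroup Q, P ∩ N_G(P)' ≤ N_G(Q)' and N_G(P) is generated by O_{π(A)'}(C_G(P)) and N_G(P) ∩ N_G(Q). -/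
theorem result {G : Type*} [Group G] [Finite G] (hG : Cfsg.IsMinSimpleOddOrder G)
    (A : Subgroup G) (hA : Cfsg.TransitivityHypothesis A) (q : ℕ) (hq : q.Prime) (hqA : ¬ q ∣ Nat.card A)
    (P : Subgroup G) (hP : P ≠ ⊤) (hPπ : (∀ r : ℕ, r.Prime → r ∣ Nat.card P → r ∣ Nat.card A)) (hAP : A ≤ P) (hsn : (A.subgroupOf P).IsSubnormal)
    (htr : ∀ Q₁ ∈ Cfsg.maxInvSubgroups ⊤ A {q}, ∀ Q₂ ∈ Cfsg.maxInvSubgroups ⊤ A {q}, ∃ k ∈ Cfsg.piCoreOf (Cfsg.primesNotDvd (Nat.card A)) (Subgroup.centralizer (A : Set G)), Q₂ = Q₁.map (MulAut.conj k).toMonoidHom) :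
    Cfsg.piCoreOf (Cfsg.primesNotDvd (Nat.card A)) (Subgroup.centralizer (A : Set G)) ⊓ Subgroup.centralizer (P : Set G) = Cfsg.piCoreOf (Cfsg.primesNotDvd (Nat.card A)) (Subgroup.centralizer (P : Set G)) ∧
      (∀ Q₁ ∈ Cfsg.maxInvSubgroups ⊤ P {q}, ∀ Q₂ ∈ Cfsg.maxInvSubgroups ⊤ P {q}, ∃ k ∈ Cfsg.piCoreOf (Cfsg.primesNotDvd (Nat.card A)) (Subgroup.centralizer (P : Set G)), Q₂ = Q₁.map (MulAut.conj k).toMonoidHom) ∧
      Cfsg.maxInvSubgroups ⊤ P {q} ⊆ Cfsg.maxInvSubgroups ⊤ A {q} ∧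
      ∀ Q ∈ Cfsg.maxInvSubgroups ⊤ P {q},
        P ⊓ ⁅Subgroup.normalizer (P : Set G), Subgroup.normalizer (P : Set G)⁆ ≤ ⁅Subgroup.normalizer (Q : Set G), Subgroup.normalizer (Q : Set G)⁆ ∧
        Subgroup.normalizer (P : Set G) = Cfsg.piCoreOf (Cfsg.primesNotDvd (Nat.card A)) (Subgroup.centralizer (P : Set G)) ⊔ (Subgroup.normalizer (P : Set G) ⊓ Subgroup.normalizer (Q : Set G)) := by
  have := Fact.mk hq
  open CfsgLib.TwoGroups.TransitivityHyp CfsgLib.TwoGroups.Transitivity in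
  exact main hG hA q hqA P hP hPπ hAP hsn htr

end Cfsg.Agent.S1395
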