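import Cfsg.Statements.S0011
import Cfsg.Agent.Lib.Core.Cores

set_option linter.all false

set_option autoImplicit false
open Cfsg

namespace Cfsg.Agent.S0011

/-- If the Frattini quotient of a finite group is nilpotent then the group is nilpotent. -/
theorem result {G : Type*} [Group G] [Finite G]
    (h : Group.IsNilpotent (G ⧸ frattini G)) : Group.IsNilpotent G := by
  haveI := h
  refine ((Group.isNilpotent_of_finite_tfae (G := G)).out 0 2).mpr fun M hM => ?_
  have hle : frattini G ≤ M := frattini_le_coatom hM
  have hcm : (M.map (QuotientGroup.mk' (frattini G))).comap (QuotientGroup.mk' (frattini G)) = M :=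
    Subgroup.comap_map_eq_self (by rwa [QuotientGroup.ker_mk'])
  have hN : IsCoatom (M.map (QuotientGroup.mk' (frattini G))) := by
    refine ⟨fun h' => hM.1 ?_, fun X hX => ?_⟩
    · rw [← hcm, h', Subgroup.comap_top]
    · have hlt : M < X.comap (QuotientGroup.mk' (frattini G)) := by
        rw [← hcm]
        exact (Subgroup.comap_lt_comap_of_surjective (QuotientGroup.mk'_surjective _)).mpr hX
      rw [← Subgroup.map_comap_eq_self_of_surjective (QuotientGroup.mk'_surjective (frattini G)) X,
        hM.2 _ hlt, Subgroup.map_top_of_surjective _ (QuotientGroup.mk'_surjective _)]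
  have h' : ∀ X : Subgroup (G ⧸ frattini G), IsCoatom X → X.Normal :=
    ((Group.isNilpotent_of_finite_tfae (G := G ⧸ frattini G)).out 0 2).mp h
  have := h' _ hN
  rw [← hcm]
  exact Subgroup.Normal.comap this _

end Cfsg.Agent.S0011
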