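import Cfsg.Statements.S0031
import Cfsg.Agent.Lib.Core.Basic

set_option linter.all false

set_option autoImplicit false
open Cfsg
open Pointwise

namespace Cfsg.Agent.S0031

/-- A fixed-point-free automorphism of a finite group maps some Sylow p-subgroup to itself. -/
theorem result {G : Type*} [Group G] [Finite G] (φ : G ≃* G)
    (hφ : MonoidHom.FixedPointFree (φ : G →* G)) (p : ℕ) [Fact p.Prime] :
    ∃ P : Sylow p G, (P : Subgroup G).map (φ : G →* G) = P := by
  obtain ⟨P⟩ := (Sylow.nonempty : Nonempty (Sylow p G))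
  have hcard : Nat.card ((P : Subgroup G).map (φ : G →* G)) = p ^ (Nat.card G).factorization p := by
    rw [← P.card_eq_multiplicity]
    exact (Nat.card_congr ((P : Subgroup G).equivMapOfInjective (φ : G →* G) φ.injective).toEquiv).symm
  obtain ⟨g, hg⟩ := MulAction.exists_smul_eq G P (Sylow.ofCard _ hcard)
  have hg' : MulAut.conj g • (P : Subgroup G) = (P : Subgroup G).map (φ : G →* G) := by
    have h := congrArg (fun Q : Sylow p G => (Q : Subgroup G)) hg
    exact h
  have hinj : Function.Injective (fun y : G => (φ y)⁻¹ * y) := by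
    intro a b h
    have h1 : φ a * (φ b)⁻¹ = a * b⁻¹ := by
      simp only at h
      have := congrArg (fun z => φ a * z * b⁻¹) h
      simpa [mul_assoc] using this.symm
    exact eq_of_mul_inv_eq_one (hφ (a * b⁻¹) (by simpa using h1))
  obtain ⟨y, hy⟩ := (Finite.surjective_of_injective hinj) g
  refine ⟨y • P, ?_⟩
  simp only at hy
  rw [Sylow.coe_subgroup_smul]
  have h2 : (MulAut.conj y • (P : Subgroup G)).map (φ : G →* G) =
      MulAut.conj (φ y) • (P : Subgroup G).map (φ : G →* G) := by
    rw [CfsgLib.Core.conj_smul_eq_map, CfsgLib.Core.conj_smul_eq_map, Subgroup.map_map,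
      Subgroup.map_map]
    congr 1
    ext x
    simp [map_inv]
  rw [h2, ← hg', CfsgLib.Core.conj_smul_conj_smul, ← hy, mul_inv_cancel_left]

end Cfsg.Agent.S0031
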