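import Cfsg.Statements.S0032
import Cfsg.Agent.Lib.Core.Basic

set_option linter.all false

set_option autoImplicit false
open Cfsg

namespace Cfsg.Agent.S0032

/-- If an automorphism of a finite group fixes only the identity and maps a normal subgroup N into itself, then the only cosets of N it fixes are those in N: a fixed coset xN forces x ∈ N. -/
theorem result {G : Type*} [Group G] [Finite G] (φ : G ≃* G)
    (hφ : MonoidHom.FixedPointFree (φ : G →* G)) (N : Subgroup G) [N.Normal] (hN : ∀ n ∈ N, φ n ∈ N)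
    (x : G) (hx : (φ x)⁻¹ * x ∈ N) : x ∈ N := by
  have hinj : Function.Injective (fun y : N => (⟨(φ y)⁻¹ * y, N.mul_mem (N.inv_mem (hN _ y.2)) y.2⟩ : N)) := by
    intro a b h
    have h' : (φ (a : G))⁻¹ * a = (φ (b : G))⁻¹ * b := congrArg Subtype.val h
    have h1 : φ (a : G) * (φ (b : G))⁻¹ = (a : G) * (b : G)⁻¹ := by
      have := congrArg (fun z => φ (a : G) * z * (b : G)⁻¹) h'
      simpa [mul_assoc] using this.symm
    exact Subtype.ext (eq_of_mul_inv_eq_one (hφ _ (by simpa using h1)))
  obtain ⟨m, hm⟩ := (Finite.surjective_of_injective hinj) ⟨_, hx⟩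
  have hm' : (φ (m : G))⁻¹ * m = (φ x)⁻¹ * x := congrArg Subtype.val hm
  have h1 : φ x * (φ (m : G))⁻¹ = x * (m : G)⁻¹ := by
    have := congrArg (fun z => φ x * z * (m : G)⁻¹) hm'
    simpa [mul_assoc] using this
  have := hφ (x * (m : G)⁻¹) (by simpa using h1)
  rw [eq_of_mul_inv_eq_one this]
  exact m.2

end Cfsg.Agent.S0032
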