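import Cfsg.Statements.S0039
import Cfsg.Agent.Lib.Core.Coprime

set_option linter.all false

set_option autoImplicit false
open Cfsg
open Pointwise

namespace Cfsg.Agent.S0039

/-- In a finite group that is a semidirect product of a normal subgroup K by a nontrivial subgroup H, H is a Frobenius complement exactly when each nonidentity element of H acts without nonidentity fixed points on K by conjugation. -/
theorem result {G : Type*} [Group G] [Finite G] (K H : Subgroup G) [K.Normal]
    (hc : Subgroup.IsComplement' K H) (hK : K ≠ ⊥) (hH : H ≠ ⊥) :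
    Cfsg.IsFrobeniusComplement H ↔ ∀ h ∈ H, h ≠ 1 → K ⊓ Subgroup.centralizer {h} = ⊥ := by
  constructor
  · rintro hF h hh h1
    rw [eq_bot_iff]
    rintro k ⟨hkK, hkC⟩
    rw [Subgroup.mem_bot]
    by_contra hk
    have hkH : k ∉ H := fun hkH => hk (Subgroup.mem_bot.mp (hc.disjoint.le_bot ⟨hkK, hkH⟩))
    refine h1 (Subgroup.mem_bot.mp ((hF.2.2 k hkH) ▸ ⟨hh, ?_⟩))
    show h ∈ MulAut.conj k • H
    rw [CfsgLib.Core.mem_conj_smul_iff]
    have := Subgroup.mem_centralizer_iff.mp hkC h rfl
    rw [mul_assoc, this, inv_mul_cancel_left]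
    exact hh
  · intro hfpf
    refine ⟨hH, ?_, fun g hg => ?_⟩
    · rintro rfl
      exact hK (disjoint_top.mp hc.disjoint)
    rw [eq_bot_iff]
    rintro x ⟨hxH, hxg⟩
    rw [Subgroup.mem_bot]
    by_contra hx
    obtain ⟨⟨k, h⟩, hkh, -⟩ := hc.existsUnique g
    simp only at hkh
    have hy : (k : G)⁻¹ * x * k ∈ H := by
      have h2 := CfsgLib.Core.mem_conj_smul_iff.mp hxg
      rw [← hkh] at h2
      have := H.mul_mem (H.mul_mem h.2 h2) (H.inv_mem h.2)
      simpa [mul_assoc] using this
    have hd : x⁻¹ * ((k : G)⁻¹ * x * k) = 1 := Subgroup.mem_bot.mp (hc.disjoint.le_bot ⟨by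
      have := K.mul_mem (Subgroup.Normal.conj_mem inferInstance _ (K.inv_mem k.2) x⁻¹) k.2
      simpa [mul_assoc] using this, H.mul_mem (H.inv_mem hxH) hy⟩)
    have hcomm : x * (k : G) = k * x := by
      have := congrArg (fun z => (k : G) * x * z) hd
      simpa [mul_assoc] using this
    have hk1 : (k : G) = 1 := by
      have := (hfpf x hxH hx).le ⟨k.2, Subgroup.mem_centralizer_singleton_iff.mpr hcomm.symm⟩
      exact Subgroup.mem_bot.mp this
    refine hg ?_
    rw [← hkh, hk1, one_mul]
    exact h.2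

end Cfsg.Agent.S0039
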