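import Cfsg.Statements.S0572
import Mathlib.GroupTheory.Solvable
import Mathlib.Tactic.Group
import Cfsg.Agent.Lib.Components.Subnormal

set_option autoImplicit false
open Cfsg

namespace Cfsg.Agent.S0572

open scoped commutatorElement

theorem comm_inv_of_factor {X : Type*} [Group X] {A B : Subgroup X}
    (hAB : ∀ g : X, ∃ a ∈ A, ∃ b ∈ B, g = a * b) (g : X) : ∃ b ∈ B, ∃ a ∈ A, g = b * a := by
  obtain ⟨a, ha, b, hb, e⟩ := hAB g⁻¹
  exact ⟨b⁻¹, inv_mem hb, a⁻¹, inv_mem ha, by rw [← mul_inv_rev, ← e, inv_inv]⟩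


/-- Itô's Theorem: if a group G is the product AB of two abelian subgroups, then the commutator subgroup of G is abelian, i.e. the second term of the derived series is trivial. -/
theorem result {G : Type*} [Group G] (A B : Subgroup G) [IsMulCommutative A] [IsMulCommutative B] (hAB : ∀ g : G, ∃ a ∈ A, ∃ b ∈ B, g = a * b) : derivedSeries G 2 = ⊥ := by
  have cA : ∀ a ∈ A, ∀ a' ∈ A, a * a' = a' * a := fun a ha a' ha' =>
    congrArg Subtype.val (mul_comm' (⟨a, ha⟩ : A) ⟨a', ha'⟩)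
  have cB : ∀ a ∈ B, ∀ a' ∈ B, a * a' = a' * a := fun a ha a' ha' =>
    congrArg Subtype.val (mul_comm' (⟨a, ha⟩ : B) ⟨a', ha'⟩)
  have sA : ∀ a ∈ A, ∀ x ∈ A, ∀ b ∈ B, ∀ b1 ∈ B, ∀ a1 ∈ A, x * b * x⁻¹ = b1 * a1 →
      x * ⁅a, b⁆ * x⁻¹ = ⁅a, b1⁆ := by
    intro a ha x hx b hb b1 hb1 a1 ha1 e
    rw [conjugate_commutatorElement, e, cA x hx a ha, mul_inv_cancel_right,
      commutatorElement_mul_right_eq_mul_conj,
      commutatorElement_eq_one_iff_mul_comm.mpr (cA a ha a1 ha1)]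
    group
  have sB : ∀ a ∈ A, ∀ y ∈ B, ∀ b ∈ B, ∀ a2 ∈ A, ∀ b2 ∈ B, y * a * y⁻¹ = a2 * b2 →
      y * ⁅a, b⁆ * y⁻¹ = ⁅a2, b⁆ := by
    intro a ha y hy b hb a2 ha2 b2 hb2 e
    rw [conjugate_commutatorElement, e, cB y hy b hb, mul_inv_cancel_right,
      commutatorElement_mul_left_eq_conj_mul,
      commutatorElement_eq_one_iff_mul_comm.mpr (cB b2 hb2 b hb)]
    group
  have main : ∀ x ∈ A, ∀ y ∈ B, ∀ a ∈ A, ∀ b ∈ B,
      ⁅x, y⁆ * ⁅a, b⁆ = ⁅a, b⁆ * ⁅x, y⁆ := by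
    intro x hx y hy a ha b hb
    set c := ⁅a, b⁆ with hc
    -- pull back along `x⁻¹ y⁻¹`
    have key : ∀ u ∈ A, ∀ v ∈ B, u * (v * c * v⁻¹) * u⁻¹ = v * (u * c * u⁻¹) * v⁻¹ := by
      intro u hu v hv
      obtain ⟨b1, hb1, a1, ha1, e1⟩ := comm_inv_of_factor hAB (u * b * u⁻¹)
      obtain ⟨a2, ha2, b2, hb2, e2⟩ := hAB (v * a * v⁻¹)
      rw [hc, sB a ha v hv b hb a2 ha2 b2 hb2 e2, sA a2 ha2 u hu b hb b1 hb1 a1 ha1 e1,
        sA a ha u hu b hb b1 hb1 a1 ha1 e1, sB a ha v hv b1 hb1 a2 ha2 b2 hb2 e2]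
    have h := key x⁻¹ (inv_mem hx) y⁻¹ (inv_mem hy)
    have h' : (x * y) * (x⁻¹ * (y⁻¹ * c * y⁻¹⁻¹) * x⁻¹⁻¹) * (x * y)⁻¹ =
        (x * y) * (y⁻¹ * (x⁻¹ * c * x⁻¹⁻¹) * y⁻¹⁻¹) * (x * y)⁻¹ := by rw [h]
    have h'' : ⁅x, y⁆ * c * ⁅x, y⁆⁻¹ = c := by
      calc ⁅x, y⁆ * c * ⁅x, y⁆⁻¹
          = (x * y) * (x⁻¹ * (y⁻¹ * c * y⁻¹⁻¹) * x⁻¹⁻¹) * (x * y)⁻¹ := by
            rw [commutatorElement_def]; group
        _ = _ := h'
        _ = c := by group
    exact mul_inv_eq_iff_eq_mul.mp h''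
  set N := ⁅A, B⁆ with hN
  have hNab : ⁅N, N⁆ = ⊥ := by
    rw [Subgroup.commutator_eq_bot_iff_le_centralizer, hN, Subgroup.commutator_def,
      Subgroup.centralizer_closure]
    rw [Subgroup.closure_le]
    rintro _ ⟨x, hx, y, hy, rfl⟩
    refine Subgroup.mem_centralizer_iff.mpr ?_
    rintro _ ⟨a, ha, b, hb, rfl⟩
    exact (main x hx y hy a ha b hb).symm
  have htop : A ⊔ B = ⊤ := eq_top_iff.mpr fun g _ => by
    obtain ⟨a, ha, b, hb, rfl⟩ := hAB g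
    exact Subgroup.mul_mem_sup ha hb
  haveI : N.Normal := by
    rw [← Subgroup.normalizer_eq_top_iff, eq_top_iff, ← htop]
    exact sup_le (Subgroup.normalizer_commutator_ge_left A B) (Subgroup.normalizer_commutator_ge_right A B)
  have hle : derivedSeries G 1 ≤ N := by
    rw [derivedSeries_one, commutator_def, ← QuotientGroup.ker_mk' N, ← Subgroup.map_eq_bot_iff,
      Subgroup.map_commutator, ← htop, Subgroup.map_sup]
    have h1 : ⁅A.map (QuotientGroup.mk' N), B.map (QuotientGroup.mk' N)⁆ = ⊥ := by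
      rw [← Subgroup.map_commutator, Subgroup.map_eq_bot_iff, QuotientGroup.ker_mk']
    have hAA : ⁅A, A⁆ = ⊥ := (Subgroup.commutator_self_eq_bot_iff).mpr inferInstance
    have hBB : ⁅B, B⁆ = ⊥ := (Subgroup.commutator_self_eq_bot_iff).mpr inferInstance
    simp only [CfsgLib.Components.commutator_sup_left_eq_bot,
      CfsgLib.Components.commutator_sup_right_eq_bot]
    refine ⟨⟨?_, ?_⟩, ⟨?_, ?_⟩⟩
    · rw [← Subgroup.map_commutator, hAA, Subgroup.map_bot]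
    · rw [Subgroup.commutator_comm]; exact h1
    · exact h1
    · rw [← Subgroup.map_commutator, hBB, Subgroup.map_bot]
  rw [derivedSeries_succ]
  exact le_bot_iff.mp ((Subgroup.commutator_mono hle hle).trans hNab.le)

end Cfsg.Agent.S0572
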