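import Cfsg.Statements.S0054
import Cfsg.Agent.Lib.Core.Nilpotent

set_option linter.all false

set_option autoImplicit false
open Cfsg

namespace Cfsg.Agent.S0054

/-- A regular normal subgroup of a finite 2-transitive group is elementary abelian: it is commutative and all its elements have order dividing one prime. -/
theorem result {G : Type*} [Group G] [Finite G]
    {X : Type*} [Nonempty X] [MulAction G X] (h2 : MulAction.IsMultiplyPretransitive G X 2)
    (N : Subgroup G) [N.Normal] (htrans : MulAction.IsPretransitive N X) (hreg : ∀ x : X, MulAction.stabilizer N x = ⊥) :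
    IsMulCommutative N ∧ ∃ p : ℕ, p.Prime ∧ ∀ n ∈ N, n ^ p = 1 := by
  classical
  obtain ⟨x⟩ := ‹Nonempty X›
  have hfree : ∀ n : G, n ∈ N → n • x = x → n = 1 := fun n hn h => by
    have h1 : (⟨n, hn⟩ : N) ∈ MulAction.stabilizer N x := h
    rw [hreg x, Subgroup.mem_bot] at h1
    exact congrArg Subtype.val h1
  have hconj : ∀ n ∈ N, n ≠ 1 → ∀ m ∈ N, m ≠ 1 → ∃ g : G, g * n * g⁻¹ = m := by
    intro n hn hn1 m hm hm1
    have hne : x ≠ n • x := fun h => hn1 (hfree n hn h.symm)
    have hne' : x ≠ m • x := fun h => hm1 (hfree m hm h.symm)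
    obtain ⟨g, hgx, hgn⟩ := MulAction.is_two_pretransitive_iff.mp h2 hne hne'
    refine ⟨g, ?_⟩
    have hgx' : g⁻¹ • x = x := by
      conv_lhs => rw [← hgx]
      rw [inv_smul_smul]
    have he : (g * n * g⁻¹) • x = m • x := by rw [mul_smul, mul_smul, hgx', hgn]
    have := hfree (m⁻¹ * (g * n * g⁻¹)) (N.mul_mem (N.inv_mem hm) (Subgroup.Normal.conj_mem inferInstance n hn g))
      (by rw [mul_smul, he, inv_smul_smul])
    exact (inv_mul_eq_one.mp this).symm
  by_cases hN : N = ⊥
  · subst hN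
    refine ⟨inferInstance, 2, Nat.prime_two, fun n hn => ?_⟩
    rw [Subgroup.mem_bot.mp hn, one_pow]
  obtain ⟨p, hp, hpd⟩ := Nat.exists_prime_and_dvd (n := Nat.card N) fun h => hN (Subgroup.card_eq_one.mp h)
  haveI := Fact.mk hp
  obtain ⟨z, hz⟩ := exists_prime_orderOf_dvd_card' (G := N) p hpd
  have hz1 : (z : G) ≠ 1 := fun h => by
    rw [← Subgroup.orderOf_coe, h, orderOf_one] at hz
    exact hp.ne_one hz.symm
  have hexp : ∀ n ∈ N, n ^ p = 1 := by
    intro n hn
    by_cases hn1 : n = 1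
    · rw [hn1, one_pow]
    obtain ⟨g, hg⟩ := hconj z z.2 hz1 n hn hn1
    rw [← hg, conj_pow, ← hz, ← Subgroup.orderOf_coe, pow_orderOf_eq_one, mul_one, mul_inv_cancel]
  refine ⟨?_, p, hp, hexp⟩
  have hNp : IsPGroup p N := fun a => ⟨1, Subtype.ext (by simpa using hexp _ a.2)⟩
  haveI : Nontrivial N := N.nontrivial_iff_ne_bot.mpr hN
  obtain ⟨⟨c, hc⟩, hc1⟩ := Subgroup.ne_bot_iff_exists_ne_one.mp hNp.bot_lt_center.ne'
  refine ⟨⟨fun a b => ?_⟩⟩
  have hcen : ∀ a : N, a ∈ Subgroup.center N := by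
    intro a
    by_cases ha : (a : G) = 1
    · rw [show a = 1 from Subtype.ext ha]
      exact one_mem _
    have hcne : (c : G) ≠ 1 := fun h => hc1 (Subtype.ext (Subtype.ext h))
    obtain ⟨g, hg⟩ := hconj c c.2 hcne a a.2 ha
    rw [Subgroup.mem_center_iff]
    intro d
    have hd : g⁻¹ * (d : G) * g ∈ N := by
      simpa using Subgroup.Normal.conj_mem (inferInstance : N.Normal) (d : G) d.2 g⁻¹
    have h1 := congrArg Subtype.val (Subgroup.mem_center_iff.mp hc ⟨_, hd⟩)
    have h2 : g⁻¹ * (d : G) * g * (c : G) = (c : G) * (g⁻¹ * (d : G) * g) := h1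
    apply Subtype.ext
    rw [Subgroup.coe_mul, Subgroup.coe_mul, ← hg]
    have h3 := congrArg (fun y => g * y * g⁻¹) h2
    simpa [mul_assoc] using h3
  exact (Subgroup.mem_center_iff.mp (hcen b) a)

end Cfsg.Agent.S0054
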