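import Cfsg.Statements.S0060
import Cfsg.Agent.Lib.Core.Basic

set_option linter.all false

set_option autoImplicit false
open Pointwise
open Cfsg

namespace Cfsg.Agent.S0060

/-- Brodkey's Theorem: in a finite group with abelian Sylow p-subgroups and no nontrivial normal p-subgroup, some conjugate of a Sylow p-subgroup meets it trivially. -/
theorem result {G : Type*} [Group G] [Finite G] (p : ℕ) [Fact p.Prime]
    (S : Sylow p G) (hS : IsMulCommutative S) (hOp : Cfsg.pCore p G = ⊥) :
    ∃ g : G, (S : Subgroup G) ⊓ MulAut.conj g • (S : Subgroup G) = ⊥ := by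
    classical
    haveI := hS
    generalize hS' : (S : Subgroup G) = S'
    have hSp : IsPGroup p S' := hS' ▸ S.isPGroup'
    have hSc : S' ≤ Subgroup.centralizer (S' : Set G) := hS' ▸ Subgroup.le_centralizer _
    haveI := Fintype.ofFinite G
    obtain ⟨g, -, hg⟩ := Finset.univ.exists_min_image (fun g : G => Nat.card (S' ⊓ MulAut.conj g • S' : Subgroup G)) Finset.univ_nonempty
    refine ⟨g, ?_⟩
    have hmin : ∀ a b : G, Nat.card (S' ⊓ MulAut.conj g • S' : Subgroup G) ≤
        Nat.card (MulAut.conj a • S' ⊓ MulAut.conj b • S' : Subgroup G) := by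
      intro a b
      refine (hg (a⁻¹ * b) (Finset.mem_univ _)).trans (le_of_eq ?_)
      rw [← CfsgLib.Core.card_conj_smul a (S' ⊓ MulAut.conj (a⁻¹ * b) • S'), Subgroup.smul_inf,
        ← mul_smul, ← map_mul, mul_inv_cancel_left]
    generalize hD : S' ⊓ MulAut.conj g • S' = D at hmin ⊢
    generalize hT : MulAut.conj g • S' = T at hD
    have hSC : S' ≤ Subgroup.centralizer (D : Set G) :=
      hSc.trans (Subgroup.centralizer_le (hD ▸ inf_le_left : D ≤ S'))
    have hTC : T ≤ Subgroup.centralizer (D : Set G) := by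
      refine le_trans ?_ (Subgroup.centralizer_le (hD ▸ inf_le_right : D ≤ T))
      rw [← hT]
      intro x hx
      rw [Subgroup.mem_centralizer_iff]
      intro y hy
      rw [SetLike.mem_coe, CfsgLib.Core.mem_conj_smul_iff] at hy
      rw [CfsgLib.Core.mem_conj_smul_iff] at hx
      have h := congrArg (fun z => g * z * g⁻¹) (Subgroup.mem_centralizer_iff.mp (hSc hx) _ hy)
      simpa [mul_assoc] using h
    have hall : ∀ x : G, D ≤ MulAut.conj x • S' := by
      intro x
      generalize hC : Subgroup.centralizer (D : Set G) = C at hSC hTC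
      obtain ⟨Q, hQ⟩ := IsPGroup.exists_le_sylow
        (P := (MulAut.conj x • S' ⊓ C).subgroupOf C)
        ((((hSp.map (MulAut.conj x).toMonoidHom)).to_le inf_le_left).comap_subtype)
      obtain ⟨c, hc⟩ := MulAction.exists_smul_eq C Q (S.subtype (hS'.symm ▸ hSC))
      have hle : ∀ y ∈ MulAut.conj x • S', y ∈ C → (c : G) * y * (c : G)⁻¹ ∈ S' := by
        intro y hy hyC
        have h : c * ⟨y, hyC⟩ * c⁻¹ ∈ ((S.subtype (hS'.symm ▸ hSC) : Sylow p C) : Subgroup C) := by
          rw [← hc, Sylow.coe_subgroup_smul]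
          exact CfsgLib.Core.conj_mem_conj_smul (hQ (Subgroup.mem_subgroupOf.mpr ⟨hy, hyC⟩))
        rw [Sylow.coe_subtype, Subgroup.mem_subgroupOf, hS'] at h
        exact h
      have hsub : MulAut.conj ((c : G) * x) • S' ⊓ T ≤ D := by
        rw [← hD, map_mul, mul_smul]
        rintro z ⟨hz, hzT⟩
        refine ⟨?_, hzT⟩
        have h1 := CfsgLib.Core.mem_conj_smul_iff.mp hz
        have h2 : (c : G)⁻¹ * z * (c : G) ∈ C :=
          C.mul_mem (C.mul_mem (C.inv_mem c.2) (hTC hzT)) c.2
        simpa [mul_assoc] using hle _ h1 h2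
      have heq : MulAut.conj ((c : G) * x) • S' ⊓ T = D := by
        refine Subgroup.eq_of_le_of_card_ge hsub ?_
        rw [← hT]
        exact hmin _ _
      intro d hd
      have h1 : d ∈ MulAut.conj (c : G) • (MulAut.conj x • S') := by
        rw [← mul_smul, ← map_mul]
        exact (heq.ge hd).1
      rw [CfsgLib.Core.mem_conj_smul_iff] at h1
      have h2 : d * c = c * d := Subgroup.mem_centralizer_iff.mp (hC.ge c.2) d hd
      rwa [mul_assoc, h2, inv_mul_cancel_left] at h1
    have hcore : D ≤ S'.normalCore := by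
      intro d hd y
      have := CfsgLib.Core.mem_conj_smul_iff.mp (hall y⁻¹ hd)
      simpa using this
    have hle : S'.normalCore ≤ Cfsg.pCore p G :=
      le_sSup ⟨Subgroup.normalCore_normal S', hSp.to_le (Subgroup.normalCore_le S')⟩
    exact le_bot_iff.mp (hOp ▸ hcore.trans hle)

end Cfsg.Agent.S0060
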