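import Cfsg.Statements.S0073
import Cfsg.Agent.Lib.Transfer.SmallSylow

set_option autoImplicit false
open Cfsg

namespace Cfsg.Agent.S0073

/-- For a finite non-abelian simple group, either the cube of the least prime divisor of the order divides the order, or 12 does. -/
theorem result {G : Type*} [Group G] [Finite G] [IsSimpleGroup G] (hG : ∃ x y : G, x * y ≠ y * x) : (Nat.card G).minFac ^ 3 ∣ Nat.card G ∨ 12 ∣ Nat.card G := by
  rcases Classical.em ((Nat.card G).minFac ^ 3 ∣ Nat.card G) with h3 | h3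
  · exact Or.inl h3
  refine Or.inr ?_
  obtain ⟨x, y, hxy⟩ := hG
  have hne : Nat.card G ≠ 1 := (Finite.one_lt_card (α := G)).ne'
  obtain ⟨p, hpdef⟩ : ∃ p, p = (Nat.card G).minFac := ⟨_, rfl⟩
  rw [← hpdef] at h3
  have := Fact.mk (hpdef ▸ Nat.minFac_prime hne : p.Prime)
  have hp : p.Prime := Fact.out
  have hpG : p ∣ Nat.card G := hpdef ▸ Nat.minFac_dvd _
  obtain ⟨P⟩ : Nonempty (Sylow p G) := inferInstance
  obtain ⟨n, hn⟩ := IsPGroup.iff_card.mp P.2
  have hn2 : n ≤ 2 := by
    by_contra hc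
    exact h3 ((pow_dvd_pow p (by omega : 3 ≤ n)).trans (hn ▸ Subgroup.card_subgroup_dvd_card _))
  have hn1 : 1 ≤ n := by
    by_contra hc
    have : n = 0 := by omega
    subst this
    rw [pow_zero] at hn
    have := P.dvd_card_of_dvd_card hpG
    rw [hn] at this
    exact hp.not_dvd_one this
  have hcomm : IsMulCommutative (P : Subgroup G) := by
    rcases (by omega : n = 1 ∨ n = 2) with rfl | rfl
    · have := isCyclic_of_prime_card (α := (P : Subgroup G)) (by simpa using hn)
      exact ⟨⟨IsCyclic.commGroup.mul_comm⟩⟩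
    · exact IsPGroup.isMulCommutative_of_card_eq_prime_sq hn
  have hnc : ¬ HasNormalPComplement p G := by
    intro h
    rcases (CfsgLib.Transfer.pResidual_normal (p := p) (G := G)).eq_bot_or_eq_top with hb | ht
    · have hG : IsPGroup p G := by
        refine isPGroup_iff_pow_pow_eq_one.mpr fun g => ?_
        obtain ⟨k, hk⟩ := CfsgLib.Transfer.exists_pow_prime_pow_coprime (p := p) g
        have := CfsgLib.Transfer.mem_pResidual_of_coprime hk
        rw [hb, Subgroup.mem_bot] at this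
        exact ⟨k, this⟩
      have := hG.isNilpotent
      have := hG.center_nontrivial
      rcases (inferInstance : (Subgroup.center G).Normal).eq_bot_or_eq_top with hb' | ht'
      · exact (Subgroup.nontrivial_iff_ne_bot _).mp ‹_› hb'
      · exact hxy ((Subgroup.mem_center_iff.mp (ht' ▸ Subgroup.mem_top y) x))
    · have h2 := CfsgLib.Transfer.hasNormalPComplement_iff_coprime.mp h
      rw [ht, Subgroup.card_top] at h2
      exact hp.not_dvd_one (h2.gcd_eq_one ▸ Nat.dvd_gcd hpG dvd_rfl)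
  obtain ⟨q, hq, hqp, hqG, C, hC, hqd⟩ :=
    CfsgLib.Transfer.exists_prime_dvd_card_sub P hcomm hnc
  have hpq : p < q := lt_of_le_of_ne (hpdef ▸ Nat.minFac_le_of_dvd hq.two_le hqG) (Ne.symm hqp)
  obtain ⟨j, hj⟩ := IsPGroup.iff_card.mp (P.2.to_le hC.le)
  have hjn : j < n := by
    have h1 := CfsgLib.Transfer.card_lt_of_lt hC
    rw [hj, hn] at h1
    exact (Nat.pow_lt_pow_iff_right hp.one_lt).mp h1
  rw [hn, hj] at hqd
  have hp1 : ¬ q ∣ p - 1 := fun hd => by
    have := Nat.le_of_dvd (by have := hp.two_le; omega) hd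
    omega
  have hqdp : ¬ q ∣ p := fun hd => hqp ((Nat.prime_dvd_prime_iff_eq hq hp).mp hd)
  rcases (by omega : (j = 0 ∧ n = 1) ∨ (j = 1 ∧ n = 2) ∨ (j = 0 ∧ n = 2)) with
    ⟨rfl, rfl⟩ | ⟨rfl, rfl⟩ | ⟨rfl, rfl⟩
  · exact absurd (by simpa using hqd) hp1
  · rw [show p ^ 2 - p ^ 1 = p * (p - 1) by rw [Nat.mul_sub]; ring_nf] at hqd
    exact absurd hqd (fun hd => (hq.dvd_mul.mp hd).elim hqdp hp1)
  · rw [show p ^ 2 - p ^ 0 = (p + 1) * (p - 1) by rw [← Nat.sq_sub_sq]; simp] at hqd
    have hd := (hq.dvd_mul.mp hqd).resolve_right hp1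
    have hq1 : q = p + 1 := le_antisymm (Nat.le_of_dvd (Nat.succ_pos p) hd) hpq
    have hp2 : p = 2 := by
      rcases hp.eq_two_or_odd with h | h
      · exact h
      · have := hq.eq_two_or_odd
        have := hp.two_le
        omega
    subst hp2
    subst hq1
    have h4 : 4 ∣ Nat.card G := by
      have := Subgroup.card_subgroup_dvd_card (P : Subgroup G)
      rw [hn] at this
      simpa using this
    exact Nat.Coprime.mul_dvd_of_dvd_of_dvd (by norm_num : Nat.Coprime 4 3) h4 hqG

end Cfsg.Agent.S0073
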