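import Cfsg.Statements.S0077
import Cfsg.Agent.Lib.Transfer.Fusion

set_option autoImplicit false
open Cfsg

namespace Cfsg.Agent.S0077

/-- If a subgroup Z of the centre of a Sylow p-subgroup P is weakly closed in P, then P meets the derived subgroup of G exactly where it meets the derived subgroup of the normalizer of Z. -/
theorem result {G : Type*} [Group G] [Finite G] {p : ℕ} [Fact p.Prime] (P : Sylow p G) (Z : Subgroup G) (hZ : Z ≤ Subgroup.centralizer (P : Set G)) (hW : Cfsg.IsWeaklyClosed Z P) : commutator G ⊓ (P : Subgroup G) = ⁅Subgroup.normalizer (Z : Set G), Subgroup.normalizer (Z : Set G)⁆ ⊓ (P : Subgroup G) := by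
  have hPN : (P : Subgroup G) ≤ Subgroup.normalizer (Z : Set G) := by
    intro x hx
    rw [Subgroup.mem_normalizer_iff'']
    intro z
    constructor
    · intro hz
      have h1 := Subgroup.mem_centralizer_iff.mp (hZ hz) x hx
      rwa [mul_assoc, ← h1, inv_mul_cancel_left]
    · intro hz
      have h1 := Subgroup.mem_centralizer_iff.mp (hZ hz) x hx
      have h2 : z = x⁻¹ * z * x := by
        have h3 : z * x = x * (x⁻¹ * z * x) := by group
        rw [h1] at h3
        simpa using mul_right_cancel h3
      rwa [h2]
  refine CfsgLib.Transfer.commutator_inf_eq_of_controls P hPN fun x hx g hg => ?_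
  obtain ⟨n, hn, hne⟩ := CfsgLib.Transfer.exists_normalizer_conj_of_weaklyClosed P hW hZ
    (X := {x}) (Set.singleton_subset_iff.mpr hx)
    (by rw [Set.image_singleton]; exact Set.singleton_subset_iff.mpr hg)
  exact ⟨n, hn, hne x rfl⟩

end Cfsg.Agent.S0077
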