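import Cfsg.Statements.S0078
import Cfsg.Agent.Lib.Transfer.Fusion

set_option autoImplicit false
open Cfsg

namespace Cfsg.Agent.S0078

/-- In a p-normal group, a Sylow p-subgroup P meets O^p(G) exactly where it meets O^p(V), for any subgroup V containing the normalizer of the centre of P. -/
theorem result {G : Type*} [Group G] [Finite G] {p : ℕ} [Fact p.Prime] (P : Sylow p G) (hn : ∀ Q : Sylow p G, (P : Subgroup G) ⊓ Subgroup.centralizer (P : Set G) ≤ (Q : Subgroup G) → (Q : Subgroup G) ⊓ Subgroup.centralizer (Q : Set G) = (P : Subgroup G) ⊓ Subgroup.centralizer (P : Set G)) (V : Subgroup G) (hV : Subgroup.normalizer (((P : Subgroup G) ⊓ Subgroup.centralizer (P : Set G) : Subgroup G) : Set G) ≤ V) : (P : Subgroup G) ⊓ Cfsg.pResidual p G = (P : Subgroup G) ⊓ (Cfsg.pResidual p V).map V.subtype := by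
  set Z : Subgroup G := (P : Subgroup G) ⊓ Subgroup.centralizer ((P : Subgroup G) : Set G) with hZ
  have hW : IsWeaklyClosed Z (P : Subgroup G) := by
    refine ⟨inf_le_left, fun g hg => ?_⟩
    have hQ := hn (g⁻¹ • P) fun x hx => by
      rw [CfsgLib.Transfer.mem_inv_smul_sylow]
      exact hg (CfsgLib.Transfer.conj_mem_map_conj hx)
    refine Subgroup.eq_of_le_of_card_ge ?_ (CfsgLib.Transfer.card_map_conj g Z).ge
    intro y hy
    rw [CfsgLib.Transfer.mem_map_conj] at hy
    have hmem : g⁻¹ * y * g ∈ ((g⁻¹ • P : Sylow p G) : Subgroup G) ⊓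
        Subgroup.centralizer ((g⁻¹ • P : Sylow p G) : Set G) := by
      rw [hQ]; exact hy
    refine Subgroup.mem_inf.mpr ⟨?_, ?_⟩
    · simpa [mul_assoc] using CfsgLib.Transfer.mem_inv_smul_sylow.mp (Subgroup.mem_inf.mp hmem).1
    · rw [Subgroup.mem_centralizer_iff]
      intro x hx
      have h1 := Subgroup.mem_centralizer_iff.mp (Subgroup.mem_inf.mp hmem).2 (g⁻¹ * x * g)
        (CfsgLib.Transfer.mem_inv_smul_sylow.mpr (by simp [mul_assoc]; exact hx))
      calc x * y = g * ((g⁻¹ * x * g) * (g⁻¹ * y * g)) * g⁻¹ := by group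
        _ = g * ((g⁻¹ * y * g) * (g⁻¹ * x * g)) * g⁻¹ := by rw [h1]
        _ = y * x := by group
  have hPV : (P : Subgroup G) ≤ V := by
    refine le_trans ?_ hV
    refine (le_inf le_rfl ?_).trans CfsgLib.Transfer.normalizer_le_normalizer_inf |>.trans' ?_
    · exact CfsgLib.Transfer.normalizer_le_normalizer_centralizer _
    · exact Subgroup.le_normalizer
  refine CfsgLib.Transfer.inf_pResidual_eq_of_controls P hPV fun x hx g hg => ?_
  obtain ⟨n, hn, hne⟩ := CfsgLib.Transfer.exists_normalizer_conj_of_weaklyClosed P hW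
    (Z := Z) inf_le_right (X := {x}) (Set.singleton_subset_iff.mpr hx)
    (by rw [Set.image_singleton]; exact Set.singleton_subset_iff.mpr hg)
  exact ⟨n, hV hn, hne x rfl⟩

end Cfsg.Agent.S0078
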