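import Cfsg.Statements.S0080
import Cfsg.Agent.Lib.Transfer.Abelian

set_option autoImplicit false
open Cfsg

namespace Cfsg.Agent.S0080

/-- When the index of H is prime to the order of H/H', the focal subgroup of H is G' ∩ H, and H/(G' ∩ H) has a normal complement. -/
theorem result {G : Type*} [Group G] [Finite G] (H : Subgroup G) (h : Nat.Coprime H.index (⁅H, H⁆.relIndex H)) : Subgroup.focalSubgroup H = commutator G ⊓ H ∧ ∃ N : Subgroup G, N.Normal ∧ N ⊓ H = commutator G ⊓ H ∧ N ⊔ H = ⊤ := by
  have hinj : ∀ x : H ⧸ H.focalSubgroupOf, x ^ H.index = 1 → x = 1 := by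
    have hd : Nat.card (H ⧸ H.focalSubgroupOf) ∣ ⁅H, H⁆.relIndex H := by
      rw [← Subgroup.index_eq_card, Subgroup.relIndex]
      exact Subgroup.index_dvd_of_le (Subgroup.comap_mono H.commutator_le_focalSubgroup)
    have hcop : (Nat.card (H ⧸ H.focalSubgroupOf)).Coprime H.index :=
      (h.coprime_dvd_right hd).symm
    intro x hx
    exact (powCoprime hcop).injective
      (show powCoprime hcop x = powCoprime hcop 1 by simpa using hx)
  have hker : (Subgroup.transferFocal H).ker ⊓ H = H.focalSubgroup := by
    refine le_antisymm ?_ (le_inf ?_ H.focalSubgroup_le)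
    · rintro x ⟨hx1, hx2⟩
      have h1 := hinj _ ((H.transferFocal_eq_pow ⟨x, hx2⟩).symm.trans hx1)
      exact Subgroup.mem_subgroupOf.mp (show (⟨x, hx2⟩ : H) ∈ H.focalSubgroupOf from (QuotientGroup.eq_one_iff _).mp h1)
    · refine H.focalSubgroup_le_commutator.trans ?_
      intro x hx
      rw [MonoidHom.mem_ker]
      open scoped IsMulCommutative in
      exact Abelianization.commutator_subset_ker (Subgroup.transferFocal H) hx
  have hfoc : H.focalSubgroup = commutator G ⊓ H := by
    refine le_antisymm (le_inf H.focalSubgroup_le_commutator H.focalSubgroup_le) ?_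
    rw [← hker]
    open scoped IsMulCommutative in
    exact inf_le_inf_right _ (Abelianization.commutator_subset_ker (Subgroup.transferFocal H))
  refine ⟨hfoc, (Subgroup.transferFocal H).ker, inferInstance, hker.trans hfoc, ?_⟩
  refine eq_top_iff.mpr fun g _ => ?_
  have hcop : (Nat.card (H ⧸ H.focalSubgroupOf)).Coprime H.index := by
    refine (h.coprime_dvd_right ?_).symm
    rw [← Subgroup.index_eq_card, Subgroup.relIndex]
    exact Subgroup.index_dvd_of_le (Subgroup.comap_mono H.commutator_le_focalSubgroup)
  obtain ⟨y, hy⟩ := QuotientGroup.mk_surjective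
    ((powCoprime hcop).symm (Subgroup.transferFocal H g))
  have hy' : Subgroup.transferFocal H (y : G) = Subgroup.transferFocal H g := by
    rw [H.transferFocal_eq_pow, hy]
    exact (powCoprime hcop).apply_symm_apply _
  rw [show g = g * (y : G)⁻¹ * y by group]
  refine mul_mem (Subgroup.mem_sup_left ?_) (Subgroup.mem_sup_right y.2)
  rw [MonoidHom.mem_ker, map_mul, map_inv, hy', mul_inv_cancel]

end Cfsg.Agent.S0080
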