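import Cfsg.Statements.S0082
import Cfsg.Agent.Lib.Transfer.Abelian

set_option autoImplicit false
open Cfsg

namespace Cfsg.Agent.S0082

/-- With a cyclic Sylow p-subgroup, either there is a normal p-complement or the elements of order prime to p generate the whole group. -/
theorem result {G : Type*} [Group G] [Finite G] {p : ℕ} [Fact p.Prime] (P : Sylow p G) (hP : IsCyclic P) : Cfsg.HasNormalPComplement p G ∨ Cfsg.pResidual p G = ⊤ := by
  have hcomm : IsMulCommutative (P : Subgroup G) :=
    ⟨⟨(@IsCyclic.commGroup _ _ hP).mul_comm⟩⟩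
  obtain ⟨h1, h2⟩ := CfsgLib.Transfer.commutator_normalizer_inf_sup P hcomm
  have h3 := CfsgLib.Transfer.inf_pResidual_eq_commutator_normalizer P hcomm
  rw [← h3] at h1 h2
  set R := (P : Subgroup G) ⊓ pResidual p G with hR
  set C := (P : Subgroup G) ⊓ Subgroup.centralizer
    ((Subgroup.normalizer ((P : Subgroup G) : Set G) : Subgroup G) : Set G)
  by_cases hRb : R = ⊥
  · exact Or.inl (CfsgLib.Transfer.hasNormalPComplement_of_inf_pResidual P hRb)
  refine Or.inr ?_
  have hCb : C = ⊥ := by
    by_contra hCb
    classical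
    have key : ∀ A : Subgroup G, A ≤ (P : Subgroup G) → A ≠ ⊥ →
        ∃ z : (P : Subgroup G), orderOf z = p ∧ (z : G) ∈ A := by
      intro A hA hne
      have hd : p ∣ Nat.card A :=
        (P.2.to_le hA).card_eq_or_dvd.resolve_left fun h => hne (Subgroup.card_eq_one.mp h)
      obtain ⟨z, hz⟩ := exists_prime_orderOf_dvd_card' (G := A) p hd
      exact ⟨⟨z, hA z.2⟩, by rw [Subgroup.orderOf_mk, Subgroup.orderOf_coe, hz], z.2⟩
    obtain ⟨a, ha, haR⟩ := key R inf_le_left hRb
    obtain ⟨b, hb, hbC⟩ := key C inf_le_left hCb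
    have hab : b ∈ Subgroup.zpowers a := by
      have hsub : Subgroup.zpowers a = Subgroup.zpowers b := by
        have hsingle : ∀ A B : Subgroup (P : Subgroup G), Nat.card A = Nat.card B → A = B := by
          intro A B hAB
          have hfin : Fintype (P : Subgroup G) := Fintype.ofFinite _
          have hA : ∀ E : Subgroup (P : Subgroup G), Nat.card E = Nat.card A →
              (E : Set (P : Subgroup G)) =
                {x : (P : Subgroup G) | x ^ Nat.card A = 1} := by
            intro E hE
            refine Set.eq_of_subset_of_ncard_le (fun x hx => ?_) ?_ (Set.toFinite _)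
            · show x ^ Nat.card A = 1
              rw [← hE]
              exact congrArg Subtype.val (pow_card_eq_one' (x := (⟨x, hx⟩ : E)))
            · rw [Set.ncard_eq_toFinset_card', Set.toFinset_setOf]
              refine (IsCyclic.card_pow_eq_one_le Nat.card_pos).trans ?_
              rw [← hE, ← Nat.card_coe_set_eq]
              exact le_rfl
          exact SetLike.coe_injective ((hA A rfl).trans (hA B hAB.symm).symm)
        exact hsingle _ _ (by rw [Nat.card_zpowers, Nat.card_zpowers, ha, hb])
      rw [hsub]; exact Subgroup.mem_zpowers b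
    obtain ⟨k, hk⟩ := Subgroup.mem_zpowers_iff.mp hab
    have hbR : (b : G) ∈ R := by
      rw [← hk, Subgroup.coe_zpow]
      exact zpow_mem haR k
    have : (b : G) ∈ R ⊓ C := ⟨hbR, hbC⟩
    rw [h1, Subgroup.mem_bot] at this
    have hb1 : b = 1 := Subtype.ext this
    rw [hb1, orderOf_one] at hb
    exact (Fact.out : p.Prime).ne_one hb.symm
  rw [hCb, sup_bot_eq] at h2
  rw [← CfsgLib.Transfer.pResidual_sup_sylow P, eq_comm, sup_eq_left]
  exact h2.ge.trans inf_le_right

end Cfsg.Agent.S0082
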