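import Cfsg.Statements.S0083
import Cfsg.Agent.Lib.Transfer.Abelian

set_option autoImplicit false
open Cfsg

namespace Cfsg.Agent.S0083

/-- For an abelian Sylow p-subgroup P, a normal p-complement exists exactly when the normalizer of P is an internal direct product of P with some subgroup. -/
theorem result {G : Type*} [Group G] [Finite G] {p : ℕ} [Fact p.Prime] (P : Sylow p G) (hP : IsMulCommutative P) : Cfsg.HasNormalPComplement p G ↔ ∃ Q : Subgroup G, Q ≤ Subgroup.centralizer (P : Set G) ∧ Q ⊓ (P : Subgroup G) = ⊥ ∧ Q ⊔ (P : Subgroup G) = Subgroup.normalizer (P : Set G) := by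
  constructor
  · intro h
    set N := Subgroup.normalizer ((P : Subgroup G) : Set G) with hN
    refine ⟨N ⊓ pResidual p G, fun x hx => ?_, ?_, ?_⟩
    · exact CfsgLib.Transfer.mem_centralizer_of_hasNormalPComplement h P.2 hx.1
        ((CfsgLib.Transfer.mem_pResidual_iff_coprime h).mp hx.2)
    · rw [inf_assoc, inf_comm (pResidual p G),
        (CfsgLib.Transfer.hasNormalPComplement_iff_inf P).mp h, inf_bot_eq]
    · refine le_antisymm (sup_le inf_le_left Subgroup.le_normalizer) fun n hn => ?_
      obtain ⟨s, hs, k, hk, rfl⟩ := CfsgLib.Transfer.exists_mul_mem_pResidual P n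
      refine mul_mem (Subgroup.mem_sup_right hs) (Subgroup.mem_sup_left ⟨?_, hk⟩)
      have h1 := mul_mem (inv_mem (Subgroup.le_normalizer hs : s ∈ N)) hn
      rwa [inv_mul_cancel_left] at h1
  · rintro ⟨Q, hQ, -, hsup⟩
    have hle : Subgroup.normalizer (P : Set G) ≤ Subgroup.centralizer (P : Set G) := by
      rw [← hsup]
      exact sup_le hQ fun x hx => Subgroup.mem_centralizer_iff.mpr fun y hy =>
        congrArg Subtype.val (hP.is_comm.comm ⟨y, hy⟩ ⟨x, hx⟩)
    exact (CfsgLib.Transfer.exists_complement_iff P).mp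
      ⟨_, inferInstance, MonoidHom.ker_transferSylow_isComplement' P hle⟩

end Cfsg.Agent.S0083
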