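import Cfsg.Statements.S0084
import Cfsg.Agent.Lib.Transfer.SmallSylow

set_option autoImplicit false
open Cfsg

namespace Cfsg.Agent.S0084

/-- A group whose Sylow 2-subgroups are Klein four-groups and whose order is prime to 3 has a normal 2-complement. -/
theorem result {G : Type*} [Group G] [Finite G] (T : Sylow 2 G) (hT : IsKleinFour T) (h3 : ¬ 3 ∣ Nat.card G) : Cfsg.HasNormalPComplement 2 G := by
  by_contra h
  have hcomm : IsMulCommutative (T : Subgroup G) :=
    IsPGroup.isMulCommutative_of_card_eq_prime_sq (p := 2) (hT.card_four.trans (by norm_num))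
  obtain ⟨q, hq, hq2, hqG, C, hC, hqd⟩ :=
    CfsgLib.Transfer.exists_prime_dvd_card_sub T hcomm h
  have h4 : Nat.card (T : Subgroup G) = 4 := hT.card_four
  have hCd : Nat.card C ∣ 4 := h4 ▸ Subgroup.card_dvd_of_le hC.le
  have hC4 : Nat.card C < 4 := h4 ▸ CfsgLib.Transfer.card_lt_of_lt hC
  rw [h4] at hqd
  have : Nat.card C = 1 ∨ Nat.card C = 2 := by
    generalize Nat.card C = c at hCd hC4 ⊢
    interval_cases c <;> omega
  rcases this with hc | hc <;> rw [hc] at hqd <;> simp only [Nat.reduceSub] at hqd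
  · exact h3 (((Nat.prime_dvd_prime_iff_eq hq (by decide)).mp hqd) ▸ hqG)
  · exact hq2 ((Nat.prime_dvd_prime_iff_eq hq (by decide)).mp hqd)

end Cfsg.Agent.S0084
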