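import Cfsg.Statements.S0085
import Cfsg.Agent.Lib.Transfer.SmallSylow

set_option autoImplicit false
open Cfsg

namespace Cfsg.Agent.S0085

theorem mul_comm_of_mem_of_exponent_two {M : Type*} [Group M] (a b : M)
    (he : ∀ x : M, x * x = 1) : a * b = b * a := by
  have h := fun x => inv_eq_of_mul_eq_one_right (he x)
  calc a * b = (a * b)⁻¹ := (h _).symm
    _ = b * a := by rw [mul_inv_rev, h, h]

/-- A group whose Sylow 2-subgroups are elementary abelian of order 8 and whose order is prime to 3 and to 7 has a normal 2-complement. -/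
theorem result {G : Type*} [Group G] [Finite G] (T : Sylow 2 G) (h8 : Nat.card T = 8) (he : ∀ x : T, x * x = 1) (h3 : ¬ 3 ∣ Nat.card G) (h7 : ¬ 7 ∣ Nat.card G) : Cfsg.HasNormalPComplement 2 G := by
  by_contra h
  have hcomm : IsMulCommutative (T : Subgroup G) :=
    ⟨⟨fun a b => mul_comm_of_mem_of_exponent_two a b he⟩⟩
  obtain ⟨q, hq, hq2, hqG, C, hC, hqd⟩ :=
    CfsgLib.Transfer.exists_prime_dvd_card_sub T hcomm h
  have hCd : Nat.card C ∣ 8 := h8 ▸ Subgroup.card_dvd_of_le hC.le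
  have hC8 : Nat.card C < 8 := h8 ▸ CfsgLib.Transfer.card_lt_of_lt hC
  rw [h8] at hqd
  have : Nat.card C = 1 ∨ Nat.card C = 2 ∨ Nat.card C = 4 := by
    generalize Nat.card C = c at hCd hC8 ⊢
    interval_cases c <;> omega
  have hq3 : q ∣ 3 → False := fun hd =>
    h3 (((Nat.prime_dvd_prime_iff_eq hq (by decide)).mp hd) ▸ hqG)
  have hq2' : q ∣ 2 → False := fun hd => hq2 ((Nat.prime_dvd_prime_iff_eq hq (by decide)).mp hd)
  rcases this with hc | hc | hc <;> rw [hc] at hqd <;> simp only [Nat.reduceSub] at hqd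
  · exact h7 (((Nat.prime_dvd_prime_iff_eq hq (by decide)).mp hqd) ▸ hqG)
  · exact (hq.dvd_mul.mp (show q ∣ 2 * 3 from hqd)).elim hq2' hq3
  · exact (hq.dvd_mul.mp (show q ∣ 2 * 2 from hqd)).elim hq2' hq2'

end Cfsg.Agent.S0085
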