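import Cfsg.Statements.S0089
import Cfsg.Agent.Lib.Transfer.Abelian

set_option autoImplicit false
open Cfsg

namespace Cfsg.Agent.S0089

/-- When all Sylow subgroups are abelian, the derived subgroup meets the centre trivially. -/
theorem result {G : Type*} [Group G] [Finite G] (h : ∀ p : ℕ, p.Prime → ∀ P : Sylow p G, IsMulCommutative P) : commutator G ⊓ Subgroup.center G = ⊥ := by
  by_contra hne
  obtain ⟨p, hp, hpd⟩ := Nat.exists_prime_and_dvd fun h1 => hne (Subgroup.card_eq_one.mp h1)
  have := Fact.mk hp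
  obtain ⟨z, hz⟩ := exists_prime_orderOf_dvd_card' p hpd
  obtain ⟨P, hP⟩ := (IsPGroup.of_card (n := 1)
    (by rw [Nat.card_zpowers, Subgroup.orderOf_coe, hz, pow_one]) :
    IsPGroup p (Subgroup.zpowers (z : G))).exists_le_sylow
  have := h p hp P
  have h1 : (z : G) ∈ (⊥ : Subgroup G) :=
    (CfsgLib.Transfer.inf_commutator_inf_center_eq_bot (P : Subgroup G)
      P.card_coprime_index).le ⟨⟨hP (Subgroup.mem_zpowers _), z.2.1⟩, z.2.2⟩
  rw [← Subgroup.orderOf_coe, Subgroup.mem_bot.mp h1, orderOf_one] at hz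
  exact hp.ne_one hz.symm

end Cfsg.Agent.S0089
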