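import Cfsg.Statements.S0091
import Cfsg.Agent.Lib.Transfer.Fusion

set_option autoImplicit false
open Cfsg

namespace Cfsg.Agent.S0091

/-- If a nontrivial Sylow p-subgroup controls its own fusion then it is not contained in the derived subgroup. -/
theorem result {G : Type*} [Group G] [Finite G] {p : ℕ} [Fact p.Prime] (P : Sylow p G) (hp : p ∣ Nat.card G) (h : ∀ x ∈ P, ∀ y ∈ P, (∃ g : G, g * x * g⁻¹ = y) → ∃ z ∈ P, z * x * z⁻¹ = y) : ¬ (P : Subgroup G) ≤ commutator G := by
  intro hle
  have h1 : (P : Subgroup G) ≤ ⁅(P : Subgroup G), (P : Subgroup G)⁆ := by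
    refine (le_inf hle le_rfl).trans ?_
    refine ((CfsgLib.Transfer.commutator_inf_eq_of_controls P le_rfl fun x hx g hg => ?_).le).trans
      inf_le_left
    obtain ⟨z, hz, hze⟩ := h x hx _ hg ⟨g⁻¹, by rw [inv_inv]⟩
    exact ⟨z⁻¹, inv_mem hz, by rwa [inv_inv]⟩
  have : Group.IsNilpotent (P : Subgroup G) := P.2.isNilpotent
  have hne : Nontrivial (P : Subgroup G) :=
    (Subgroup.nontrivial_iff_ne_bot _).mpr (P.ne_bot_of_dvd_card hp)
  have h2 : _root_.commutator (P : Subgroup G) = ⊤ := by
    refine eq_top_iff.mpr fun x _ => ?_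
    have := h1 x.2
    rw [← Subgroup.map_subtype_commutator] at this
    exact (Subgroup.mem_map_iff_mem (P : Subgroup G).subtype_injective).mp this
  exact (Group.IsSolvable.commutator_lt_top_of_nontrivial (P : Subgroup G)).ne h2

end Cfsg.Agent.S0091
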