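import Cfsg.Statements.S0092
import Cfsg.Agent.Lib.Transfer.Abelian
import Cfsg.Agent.Lib.Core.SchurZassenhaus

set_option autoImplicit false
open Cfsg
open scoped Pointwise

namespace Cfsg.Agent.S0092

/-- If the Sylow p-subgroups of O^p(G) are abelian then G splits over O^p(G). -/
theorem result {G : Type*} [Group G] [Finite G] {p : ℕ} [Fact p.Prime] (h : ∀ Q : Sylow p (Cfsg.pResidual p G), IsMulCommutative Q) : ∃ K : Subgroup G, K.IsComplement' (Cfsg.pResidual p G) := by
  classical
  set R := pResidual p G with hRdef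
  obtain ⟨Q⟩ : Nonempty (Sylow p R) := inferInstance
  have hQc : IsMulCommutative (Q : Subgroup R) := h Q
  set A : Subgroup G := (Q : Subgroup R).map R.subtype with hA
  have hAR : A ≤ R := Subgroup.map_subtype_le _
  have hAc : IsMulCommutative A := Subgroup.map_isMulCommutative _ _
  set N := Subgroup.normalizer (A : Set G) with hN
  have hfr : N ⊔ R = ⊤ := Q.normalizer_sup_eq_top
  set W := N ⊓ R with hW
  have hAW : A ≤ W := le_inf Subgroup.le_normalizer hAR
  have hWN : W ≤ Subgroup.normalizer (A : Set G) := inf_le_left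
  have hmemA : ∀ x : R, (x : G) ∈ A ↔ x ∈ (Q : Subgroup R) :=
    fun x => Subgroup.mem_map_iff_mem R.subtype_injective
  have hnorm : ∀ x : R,
      x ∈ Subgroup.normalizer ((Q : Subgroup R) : Set R) → (x : G) ∈ N := by
    intro x hx
    rw [hN, Subgroup.mem_normalizer_iff]
    intro y
    constructor
    · rintro ⟨y, hy, rfl⟩
      exact ⟨x * y * x⁻¹, (Subgroup.mem_normalizer_iff.mp hx y).mp hy, rfl⟩
    · intro hy
      have hyR : y ∈ R := by
        have := mul_mem (mul_mem (inv_mem x.2) (hAR hy)) x.2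
        simpa [mul_assoc] using this
      have h1 := (hmemA (x * ⟨y, hyR⟩ * x⁻¹)).mp hy
      exact (hmemA ⟨y, hyR⟩).mpr ((Subgroup.mem_normalizer_iff.mp hx _).mpr h1)
  -- `C_Q(N_R(Q)) = 1`
  have hC : ∀ a ∈ A, (∀ w ∈ W, w * a = a * w) → a = 1 := by
    intro a ha hcomm
    obtain ⟨x, hx, rfl⟩ := ha
    obtain ⟨e1, e2⟩ := CfsgLib.Transfer.commutator_normalizer_inf_sup Q hQc
    have hRR : pResidual p R = ⊤ := CfsgLib.Transfer.pResidual_pResidual
    rw [← CfsgLib.Transfer.inf_pResidual_eq_commutator_normalizer Q hQc, hRR, inf_top_eq] at e1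
    have hx2 : x ∈ (Q : Subgroup R) ⊓ ((Q : Subgroup R) ⊓ Subgroup.centralizer
        ((Subgroup.normalizer ((Q : Subgroup R) : Set R) : Subgroup R) : Set R)) :=
      ⟨hx, hx, Subgroup.mem_centralizer_iff.mpr fun n hn =>
        Subtype.ext (hcomm n ⟨hnorm n hn, n.2⟩)⟩
    rw [e1, Subgroup.mem_bot] at hx2
    rw [hx2]
    rfl
  -- a complement of `A` in `W`
  set AW := A.subgroupOf W with hAWdef
  have : AW.Normal := Subgroup.normal_subgroupOf_of_le_normalizer hWN
  have hAp : IsPGroup p A := Q.2.map _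
  have hcopW : Nat.Coprime (Nat.card AW) AW.index := by
    obtain ⟨j, hj⟩ := IsPGroup.iff_card.mp hAp
    rw [Nat.card_congr (Subgroup.subgroupOfEquivOfLe hAW).toEquiv, hj]
    refine Nat.Coprime.pow_left j ((Nat.Prime.coprime_iff_not_dvd Fact.out).mpr fun hd => ?_)
    have h1 : AW.index ∣ (A.subgroupOf R).index :=
      Dvd.intro _ (Subgroup.relIndex_mul_relIndex A W R hAW inf_le_right)
    have h2 : A.subgroupOf R = (Q : Subgroup R) := by
      ext x; exact hmemA x
    rw [h2] at h1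
    exact Q.not_dvd_index (hd.trans h1)
  obtain ⟨L', hL'⟩ := Subgroup.exists_right_complement'_of_coprime hcopW
  set L := L'.map W.subtype with hL
  have hLW : L ≤ W := Subgroup.map_subtype_le _
  have hALinf : A ⊓ L = ⊥ := by
    rw [eq_bot_iff]
    rintro x ⟨hx, y, hy, rfl⟩
    have h1 : y ∈ AW ⊓ L' := ⟨hx, hy⟩
    rw [hL'.disjoint.eq_bot, Subgroup.mem_bot] at h1
    rw [h1]
    exact Subgroup.one_mem _
  have hALW : W ≤ A ⊔ L := by
    intro w hw
    obtain ⟨⟨⟨a, ha⟩, ⟨l, hl⟩⟩, he⟩ := hL'.2 ⟨w, hw⟩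
    have he' : (a : G) * l = w := congrArg Subtype.val he
    rw [← he']
    exact mul_mem (Subgroup.mem_sup_left ha) (Subgroup.mem_sup_right ⟨l, hl, rfl⟩)
  have hLcard : (Nat.card L).Coprime (Nat.card A) := by
    rw [hL, Subgroup.card_map_of_injective W.subtype_injective,
      ← Nat.card_congr (Subgroup.subgroupOfEquivOfLe hAW).toEquiv, ← hL'.symm.index_eq_card]
    exact hcopW.symm
  set M := N ⊓ Subgroup.normalizer (L : Set G) with hM
  have hMtop : R ⊔ M = ⊤ := by
    refine eq_top_iff.mpr ?_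
    rw [← hfr]
    refine sup_le (fun n hn => ?_) le_sup_left
    have hconj : MulAut.conj n • L ≤ L ⊔ A := by
      intro y hy
      rw [CfsgLib.Transfer.mem_conj_smul] at hy
      obtain ⟨hyN, hyR⟩ := Subgroup.mem_inf.mp (hLW hy)
      have hyW : y ∈ W := by
        refine ⟨?_, ?_⟩
        · have := mul_mem (mul_mem hn hyN) (inv_mem hn)
          simpa [mul_assoc] using this
        · have := CfsgLib.Transfer.pResidual_normal.conj_mem _ hyR n
          simpa [mul_assoc] using this
      rw [sup_comm]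
      exact hALW hyW
    obtain ⟨b, hb, hbe⟩ := CfsgLib.Core.exists_conj_eq_of_coprime (hLW.trans hWN) hconj
      (CfsgLib.Transfer.card_map_conj n L) hLcard
      (Or.inl (Group.isSolvable_of_comm fun u v => hAc.is_comm.comm u v))
    have hbn : b⁻¹ * n ∈ M := by
      refine Subgroup.mem_inf.mpr ⟨mul_mem (inv_mem (Subgroup.le_normalizer hb)) hn,
        CfsgLib.Transfer.map_conj_eq_self_iff.mp ?_⟩
      show MulAut.conj (b⁻¹ * n) • L = L
      rw [map_mul, mul_smul, ← hbe, map_inv, inv_smul_smul]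
    rw [show n = b * (b⁻¹ * n) by group]
    exact mul_mem (Subgroup.mem_sup_left (hAR hb)) (Subgroup.mem_sup_right hbn)
  have hMA : M ⊓ A = ⊥ := by
    rw [eq_bot_iff]
    rintro x ⟨hxM, hxA⟩
    refine Subgroup.mem_bot.mpr (hC x hxA fun w hw => ?_)
    have hcent : L ⊔ A ≤ Subgroup.centralizer {x} := by
      refine sup_le (fun l hl => ?_) fun a ha => ?_
      · have h1 : x * l * x⁻¹ * l⁻¹ ∈ A ⊓ L := by
          refine Subgroup.mem_inf.mpr
            ⟨?_, mul_mem ((Subgroup.mem_normalizer_iff.mp hxM.2 l).mp hl) (inv_mem hl)⟩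
          have := mul_mem hxA ((Subgroup.mem_normalizer_iff.mp (hWN (hLW hl)) x⁻¹).mp (inv_mem hxA))
          simpa [mul_assoc] using this
        rw [hALinf, Subgroup.mem_bot, mul_inv_eq_one, mul_inv_eq_iff_eq_mul] at h1
        exact Subgroup.mem_centralizer_iff.mpr fun y hy => by
          rw [Set.mem_singleton_iff.mp hy]; exact h1
      · exact Subgroup.mem_centralizer_iff.mpr fun y hy => by
          rw [Set.mem_singleton_iff.mp hy]
          exact congrArg Subtype.val (hAc.is_comm.comm ⟨x, hxA⟩ ⟨a, ha⟩)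
    exact (Subgroup.mem_centralizer_iff.mp (hcent (sup_comm A L ▸ hALW hw)) x rfl).symm
  obtain ⟨S, -, hSM, hSp, hSi⟩ :=
    CfsgLib.Transfer.exists_sylow_of_le (bot_le (a := M)) (IsPGroup.of_bot (p := p))
  refine ⟨S, Subgroup.isComplement'_of_disjoint_and_mul_eq_univ (disjoint_iff.mpr ?_) ?_⟩
  · have hle : S ⊓ R ≤ A := by
      have hp' : IsPGroup p ((S ⊓ R) ⊔ A : Subgroup G) :=
        IsPGroup.to_sup_of_normal_right' hSp.to_inf_left hAp
          (inf_le_left.trans (hSM.trans inf_le_left))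
      have hRle : (S ⊓ R) ⊔ A ≤ R := sup_le inf_le_right hAR
      have h3 := Q.is_maximal' (hp'.comap_subtype (K := R)) fun x hx =>
        Subgroup.mem_sup_right ((hmemA x).mpr hx)
      intro x hx
      have hmem : (⟨x, hx.2⟩ : R) ∈ (Q : Subgroup R) := h3.le (Subgroup.mem_sup_left hx)
      exact (hmemA _).mpr hmem
    rw [eq_bot_iff, ← hMA]
    exact le_inf (inf_le_left.trans hSM) hle
  · rw [← Subgroup.mul_normal, ← Subgroup.coe_top]
    refine congrArg _ (eq_top_iff.mpr ?_)
    rw [← hMtop]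
    refine sup_le le_sup_right fun y hy => ?_
    obtain ⟨s, hs, k, hk, hsk⟩ := CfsgLib.Transfer.exists_mul_mem_pResidual
      ((hSp.comap_subtype (K := M)).toSylow hSi) (⟨y, hy⟩ : M)
    have hsk' : y = (s : G) * k := congrArg Subtype.val hsk
    rw [hsk']
    exact mul_mem (Subgroup.mem_sup_left hs)
      (Subgroup.mem_sup_right (CfsgLib.Transfer.map_subtype_pResidual_le M ⟨k, hk, rfl⟩))

end Cfsg.Agent.S0092
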