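import Cfsg.Statements.S0094
import Cfsg.Agent.Lib.PGroups.Basic
import Cfsg.Agent.Lib.PGroups.ClassTwo

set_option autoImplicit false
open Cfsg
open scoped commutatorElement

namespace Cfsg.Agent.S0094

/-- In a special p-group every central element has order dividing p. -/
theorem result {P : Type*} [Group P] [Finite P] {p : ℕ} [Fact p.Prime] (h : Cfsg.IsSpecial p P) (z : P) (hz : z ∈ Subgroup.center P) : z ^ p = 1 := by
  obtain ⟨hP, hfr, hcm⟩ := h
  rw [← hcm, _root_.commutator_eq_closure] at hz
  have hle : Subgroup.closure (commutatorSet P) ≤ Subgroup.center P := by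
    rw [← _root_.commutator_eq_closure, hcm]
  induction hz using Subgroup.closure_induction with
  | mem x hx =>
      obtain ⟨a, b, rfl⟩ := hx
      have hab : ⁅a, b⁆ ∈ Subgroup.center P :=
        hcm ▸ Subgroup.commutator_mem_commutator (Subgroup.mem_top a) (Subgroup.mem_top b)
      rw [← CfsgLib.PGroups.comm_pow_left_of_central hab, commutatorElement_eq_one_iff_mul_comm]
      exact (Subgroup.mem_center_iff.mp (hfr ▸ CfsgLib.PGroups.pow_mem_frattini hP a) b).symm
  | one => exact one_pow p
  | mul a b ha hb h1 h2 =>
      rw [(show Commute a b from Subgroup.mem_center_iff.mp (hle hb) a).mul_pow, h1, h2, one_mul]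
  | inv a _ h1 => rw [inv_pow, h1, inv_one]

end Cfsg.Agent.S0094
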