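import Cfsg.Statements.S0097
import Cfsg.Agent.Lib.Transfer.SmallClass
import Cfsg.Agent.Lib.PGroups.Extraspecial

set_option autoImplicit false
open Cfsg

namespace Cfsg.Agent.S0097

/-- For odd p and E extraspecial, the subgroup generated by the elements of order dividing p has exponent dividing p and index at most p. -/
theorem result {E : Type*} [Group E] [Finite E] {p : ℕ} [Fact p.Prime] (hp : p ≠ 2) (h : Cfsg.IsExtraspecial p E) : (Subgroup.closure {x : E | x ^ p = 1}).index ≤ p ∧ ∀ g ∈ Subgroup.closure {x : E | x ^ p = 1}, g ^ p = 1 := by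
  have hP : IsPGroup p E := CfsgLib.PGroups.IsExtraspecial.isPGroup h
  have hcm := CfsgLib.PGroups.IsExtraspecial.commutator_eq h
  have hsc : CfsgLib.Transfer.SmallClass p E := by
    refine Or.inl ⟨hp, ?_⟩
    rw [hcm, Subgroup.commutator_eq_bot_iff_le_centralizer]
    exact Subgroup.center_le_centralizer _
  refine ⟨?_, fun g hg => hsc.pow_eq_one_of_mem_closure hP hg⟩
  have hder : _root_.commutator E ≤ Subgroup.closure {x : E | x ^ p = 1} := by
    rw [hcm]
    exact fun z hz => Subgroup.subset_closure (CfsgLib.PGroups.IsExtraspecial.center_pow h hz)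
  let f : E →* E :=
    { toFun := fun x => x ^ p, map_one' := one_pow p,
      map_mul' := hsc.mul_pow_of_commutator_le hP hder }
  have h1 : f.range ≤ Subgroup.center E := by
    rintro _ ⟨x, rfl⟩
    exact CfsgLib.PGroups.IsExtraspecial.pow_mem_center h x
  have h2 : f.ker ≤ Subgroup.closure {x : E | x ^ p = 1} :=
    fun x hx => Subgroup.subset_closure hx
  calc (Subgroup.closure {x : E | x ^ p = 1}).index ≤ f.ker.index :=
        Nat.le_of_dvd (Nat.pos_of_ne_zero Subgroup.index_ne_zero_of_finite)
          (Subgroup.index_dvd_of_le h2)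
    _ = Nat.card f.range := Subgroup.index_ker f
    _ ≤ Nat.card (Subgroup.center E) := Subgroup.card_le_of_le h1
    _ = p := CfsgLib.PGroups.IsExtraspecial.card_center h

end Cfsg.Agent.S0097
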