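import Cfsg.Statements.S0101
import Cfsg.Agent.Lib.PGroups.Basic
import Cfsg.Agent.Lib.Transfer.Abelian

set_option autoImplicit false
open Cfsg

namespace Cfsg.Agent.S0101

/-- In a perfect central extension, the kernel meets each Sylow p-subgroup P inside the Frattini subgroup of P. -/
theorem result {H : Type*} {G : Type*} [Group H] [Group G] [Finite H] (σ : H →* G) (hσ : Function.Surjective σ) (hc : σ.ker ≤ Subgroup.center H) (hH : commutator H = ⊤) {p : ℕ} [Fact p.Prime] (P : Sylow p H) : σ.ker ⊓ (P : Subgroup H) ≤ (frattini P).map (P : Subgroup H).subtype := by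
  rintro z ⟨hzk, hzP⟩
  refine ⟨⟨z, hzP⟩, ?_, rfl⟩
  show (⟨z, hzP⟩ : (P : Subgroup H)) ∈ frattini P
  simp only [frattini, Order.radical, Subgroup.mem_iInf]
  intro L hL
  by_contra hzL
  have hn : L.Normal := CfsgLib.PGroups.normal_of_isCoatom' P.2 hL
  have hi : L.index = p := CfsgLib.PGroups.index_of_isCoatom P.2 hL
  let _ : CommGroup ((P : Subgroup H) ⧸ L) :=
    haveI := isCyclic_of_prime_card (p := p) (α := (P : Subgroup H) ⧸ L)
      (by rw [← Subgroup.index_eq_card, hi])
    IsCyclic.commGroup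
  have hker := Abelianization.commutator_subset_ker
    (MonoidHom.transfer (QuotientGroup.mk' L)) (hH ▸ Subgroup.mem_top z : z ∈ _root_.commutator H)
  rw [MonoidHom.mem_ker, MonoidHom.transfer_eq_pow (QuotientGroup.mk' L) z fun k g₀ _ =>
    Commute.inv_mul_cancel (Commute.pow_right (Subgroup.mem_center_iff.mp (hc hzk) g₀) k)] at hker
  have h2 : ((⟨z, hzP⟩ : (P : Subgroup H)) : (P : Subgroup H) ⧸ L) ^ (P : Subgroup H).index = 1 :=
    (congrArg (QuotientGroup.mk' L) (Subtype.ext rfl)).trans hker
  have hcop : (Nat.card ((P : Subgroup H) ⧸ L)).Coprime (P : Subgroup H).index := by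
    rw [← Subgroup.index_eq_card, hi]
    exact (Nat.Prime.coprime_iff_not_dvd Fact.out).mpr P.not_dvd_index
  exact hzL ((QuotientGroup.eq_one_iff _).mp ((powCoprime hcop).injective
    (show powCoprime hcop (_ : (P : Subgroup H) ⧸ L) = powCoprime hcop 1 by simpa using h2)))

end Cfsg.Agent.S0101
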