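import Cfsg.Statements.S0104
import Cfsg.Agent.Lib.Transfer.Fusion

set_option autoImplicit false
open Cfsg

namespace Cfsg.Agent.S0104

/-- A subgroup Z of a Sylow p-subgroup P that is normalized by N_G(P) is weakly closed in P exactly when it is normal in every Sylow p-subgroup containing it. -/
theorem result {G : Type*} [Group G] [Finite G] {p : ℕ} [Fact p.Prime] (P : Sylow p G) (Z : Subgroup G) (hZP : Z ≤ (P : Subgroup G)) (hZN : Subgroup.normalizer (P : Set G) ≤ Subgroup.normalizer (Z : Set G)) : Cfsg.IsWeaklyClosed Z P ↔ ∀ R : Sylow p G, Z ≤ (R : Subgroup G) → (R : Subgroup G) ≤ Subgroup.normalizer (Z : Set G) := by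
  constructor
  · intro hW R hR r hr
    refine CfsgLib.Transfer.map_conj_eq_self_iff.mp ?_
    have h1 : Z.map (MulAut.conj (1 : G)).toMonoidHom = Z := by ext; simp
    refine (CfsgLib.Transfer.map_conj_eq_of_le_pGroup hW R.2 (a := r) (b := 1) ?_ ?_).trans h1
    · rintro _ ⟨z, hz, rfl⟩
      exact mul_mem (mul_mem hr (hR hz)) (inv_mem hr)
    · rw [h1]; exact hR
  · intro h
    refine ⟨hZP, fun g hg => ?_⟩
    have hR := h (g⁻¹ • P) fun z hz => by
      rw [CfsgLib.Transfer.mem_inv_smul_sylow]
      exact hg (CfsgLib.Transfer.conj_mem_map_conj hz)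
    have hP : (P : Subgroup G) ≤ Subgroup.normalizer (Z : Set G) :=
      Subgroup.le_normalizer.trans hZN
    obtain ⟨m, hm⟩ := MulAction.exists_smul_eq (Subgroup.normalizer (Z : Set G))
      (P.subtype hP) ((g⁻¹ • P).subtype hR)
    simp_rw [Sylow.smul_subtype, Subgroup.smul_def] at hm
    have h2 := Sylow.subtype_injective hm
    rw [eq_inv_smul_iff, ← mul_smul] at h2
    have h3 := hZN (Sylow.smul_eq_iff_mem_normalizer.mp h2)
    exact CfsgLib.Transfer.map_conj_eq_self_iff.mpr
      (by simpa using mul_mem h3 (inv_mem m.2))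

end Cfsg.Agent.S0104
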