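import Cfsg.Statements.S0105
import Cfsg.Agent.Lib.Transfer.Abelian

set_option autoImplicit false
open Cfsg

namespace Cfsg.Agent.S0105

/-- With an abelian Sylow p-subgroup P, some quotient of G is isomorphic to the part of P central in N_G(P). -/
theorem result {G : Type*} [Group G] [Finite G] {p : ℕ} [Fact p.Prime] (P : Sylow p G) (hP : IsMulCommutative P) : ∃ (N : Subgroup G) (hN : N.Normal), Nonempty (G ⧸ N ≃* ((P : Subgroup G) ⊓ Subgroup.centralizer (Subgroup.normalizer (P : Set G) : Set G) : Subgroup G)) := by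
  have : IsMulCommutative (P : Subgroup G) := hP
  set C : Subgroup G := (P : Subgroup G) ⊓
    Subgroup.centralizer ((Subgroup.normalizer ((P : Subgroup G) : Set G) : Subgroup G) : Set G)
  obtain ⟨h1, h2⟩ := CfsgLib.Transfer.commutator_normalizer_inf_sup P hP
  rw [← CfsgLib.Transfer.commutator_inf_eq_commutator_normalizer P hP,
    Subgroup.commutator_inf_eq_focalSubgroup] at h1 h2
  refine ⟨(Subgroup.transferFocal (P : Subgroup G)).ker, inferInstance, ⟨?_⟩⟩
  have hcompl : (Subgroup.focalSubgroupOf (P : Subgroup G)).IsComplement'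
      (C.subgroupOf (P : Subgroup G)) := by
    refine Subgroup.isComplement'_of_disjoint_and_mul_eq_univ (disjoint_iff.mpr ?_) ?_
    · rw [Subgroup.focalSubgroupOf_def, Subgroup.subgroupOf, Subgroup.subgroupOf,
        ← Subgroup.comap_inf, h1, MonoidHom.comap_bot, Subgroup.ker_subtype]
    · rw [← Subgroup.normal_mul, Subgroup.focalSubgroupOf_def,
        ← Subgroup.subgroupOf_sup (Subgroup.focalSubgroup_le _) inf_le_left, h2,
        Subgroup.subgroupOf_self, Subgroup.coe_top]
  exact (Subgroup.transferFocal.quotientKerMulEquivQuotientFocalSubroupOf P).trans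
    (hcompl.symm.QuotientMulEquiv.trans (Subgroup.subgroupOfEquivOfLe inf_le_left))

end Cfsg.Agent.S0105
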