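import Cfsg.Statements.S0107
import Cfsg.Agent.Lib.Transfer.ThompsonTransfer
import Cfsg.Agent.Lib.Transfer.PResidual

set_option autoImplicit false
open Cfsg

namespace Cfsg.Agent.S0107

/-- A finite group with no nontrivial 2-group quotient and dihedral Sylow 2-subgroups of order at least 8 has a single class of involutions. -/
theorem result {G : Type*} [Group G] [Finite G] (T : Sylow 2 G) (n : ℕ) (hn : 2 ≤ n) (hT : Nonempty ((T : Subgroup G) ≃* DihedralGroup (2 ^ n))) (hO : Cfsg.pResidual 2 G = ⊤) (x y : G) (hx : orderOf x = 2) (hy : orderOf y = 2) : ∃ g : G, g * x * g⁻¹ = y := by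
  classical
  obtain ⟨e⟩ := hT
  set r₀ : DihedralGroup (2 ^ n) := DihedralGroup.r 1
  set Q : Subgroup G :=
    ((Subgroup.zpowers r₀).map e.symm.toMonoidHom).map (T : Subgroup G).subtype with hQ
  have : NeZero (2 ^ n) := ⟨by positivity⟩
  have hcard : Nat.card Q = 2 ^ n := by
    rw [hQ, Subgroup.card_map_of_injective (T : Subgroup G).subtype_injective,
      Subgroup.card_map_of_injective e.symm.injective, Nat.card_zpowers,
      DihedralGroup.orderOf_r_one]
  have hTc : Nat.card (T : Subgroup G) = 2 * 2 ^ n := by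
    rw [Nat.card_congr e.toEquiv, DihedralGroup.nat_card]
  have hrel : Q.relIndex (T : Subgroup G) = 2 := by
    have h1 : Nat.card (Q.subgroupOf (T : Subgroup G)) = 2 ^ n :=
      (Nat.card_congr (Subgroup.subgroupOfEquivOfLe (Subgroup.map_subtype_le _)).toEquiv).trans hcard
    have h2 := (Q.subgroupOf (T : Subgroup G)).card_mul_index
    rw [h1, hTc, mul_comm 2] at h2
    exact Nat.eq_of_mul_eq_mul_left (by positivity) h2
  have huniq : ∀ u v : G, u ∈ Q → v ∈ Q → orderOf u = 2 → orderOf v = 2 → u = v := by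
    intro u v hu hv h2u h2v
    have hcyc : IsCyclic Q := by
      rw [hQ, Subgroup.map_map, MonoidHom.map_zpowers]
      exact Subgroup.isCyclic_zpowers _
    have : Fintype Q := Fintype.ofFinite _
    have hle : ∀ w : Q, orderOf w = 2 →
        (Finset.univ.filter fun a : Q => orderOf a = 2) = {w} := by
      intro w hw
      have hcardf : (Finset.univ.filter fun a : Q => orderOf a = 2).card = 1 := by
        rw [IsCyclic.card_orderOf_eq_totient (hw ▸ orderOf_dvd_card)]
        rfl
      obtain ⟨a, ha⟩ := Finset.card_eq_one.mp hcardf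
      have hwa : w ∈ (Finset.univ.filter fun a : Q => orderOf a = 2) := by simp [hw]
      rw [ha, Finset.mem_singleton] at hwa
      rw [ha, hwa]
    have h1 := hle ⟨u, hu⟩ (by rwa [Subgroup.orderOf_mk])
    have hmem : (⟨v, hv⟩ : Q) ∈ (Finset.univ.filter fun a : Q => orderOf a = 2) := by
      simp [Subgroup.orderOf_mk, h2v]
    rw [h1, Finset.mem_singleton] at hmem
    exact (congrArg Subtype.val hmem).symm
  have key : ∀ u : G, orderOf u = 2 → ∃ g : G, g * u * g⁻¹ ∈ Q := by
    intro u hu
    refine (CfsgLib.Transfer.thompson_transfer T Q hrel hu).resolve_left ?_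
    rintro ⟨M, hM, hMi, huM⟩
    have h1 : pResidual 2 G ≤ M := CfsgLib.Transfer.pResidual_le_of_isPGroup_quotient
      (IsPGroup.of_card (n := 1) (by rw [← Subgroup.index_eq_card, hMi, pow_one]))
    exact huM (h1 (hO ▸ Subgroup.mem_top u))
  obtain ⟨a, ha⟩ := key x hx
  obtain ⟨b, hb⟩ := key y hy
  have heq := huniq _ _ ha hb
    ((orderOf_injective (MulAut.conj a).toMonoidHom (MulAut.conj a).injective x).trans hx)
    ((orderOf_injective (MulAut.conj b).toMonoidHom (MulAut.conj b).injective y).trans hy)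
  refine ⟨b⁻¹ * a, ?_⟩
  calc b⁻¹ * a * x * (b⁻¹ * a)⁻¹ = b⁻¹ * (a * x * a⁻¹) * b := by group
    _ = y := by rw [heq]; group

end Cfsg.Agent.S0107
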