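import Cfsg.Statements.S0110
import Cfsg.Agent.Lib.PGroups.MaxAbelian
import Cfsg.Agent.Lib.Core.Basic

set_option autoImplicit false
open Cfsg
open scoped commutatorElement

namespace Cfsg.Agent.S0110

/-- In a p-group G, an extraspecial subgroup E with [G, E] ≤ Z(E) satisfies G = E C_G(E). -/
theorem result {G : Type*} [Group G] [Finite G] {p : ℕ} [Fact p.Prime] (hG : IsPGroup p G) (E : Subgroup G) (hE : Cfsg.IsExtraspecial p E) (h : ⁅(⊤ : Subgroup G), E⁆ ≤ E ⊓ Subgroup.centralizer (E : Set G)) : E ⊔ Subgroup.centralizer (E : Set G) = ⊤ := by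
  classical
  set C := Subgroup.centralizer (E : Set G) with hC
  have hcE : Nat.card (Subgroup.center E) = p := hE.2
  set Z : Subgroup G := E ⊓ C with hZdef
  have hZ : Z = (Subgroup.center E).map E.subtype := by
    ext z
    constructor
    · rintro ⟨hz1, hz2⟩
      exact ⟨⟨z, hz1⟩, Subgroup.mem_center_iff.mpr fun w =>
        Subtype.ext (Subgroup.mem_centralizer_iff.mp hz2 w w.2), rfl⟩
    · rintro ⟨w, hw, rfl⟩
      exact ⟨w.2, Subgroup.mem_centralizer_iff.mpr fun v hv =>
        congrArg Subtype.val (Subgroup.mem_center_iff.mp hw ⟨v, hv⟩)⟩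
  have hZc : Nat.card Z = p := by
    rw [hZ, Subgroup.card_map_of_injective E.subtype_injective, hcE]
  have hidx : ∀ a ∈ E, (Subgroup.centralizer {a}).index ≤ p := by
    intro a ha
    have hm : ∀ g : G, ⁅g, a⁆ ∈ Z :=
      fun g => h (Subgroup.commutator_mem_commutator (Subgroup.mem_top g) ha)
    rw [← hZc, Subgroup.index_eq_card]
    refine Nat.card_le_card_of_injective
      (fun q : G ⧸ Subgroup.centralizer {a} => (⟨⁅q.out, a⁆, hm q.out⟩ : Z)) fun q r hqr => ?_
    have h1 : ⁅q.out, a⁆ = ⁅r.out, a⁆ := congrArg Subtype.val hqr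
    rw [← q.out_eq, ← r.out_eq, QuotientGroup.eq, Subgroup.mem_centralizer_singleton_iff]
    rw [commutatorElement_def, commutatorElement_def] at h1
    have h2 := mul_right_cancel h1
    calc q.out⁻¹ * r.out * a = q.out⁻¹ * (r.out * a * r.out⁻¹) * r.out := by group
      _ = q.out⁻¹ * (q.out * a * q.out⁻¹) * r.out := by rw [h2]
      _ = a * (q.out⁻¹ * r.out) := by group
  obtain ⟨A, hA, hmax⟩ : ∃ A, (Z ≤ A ∧ A ≤ E ∧
      (Subgroup.centralizer (A : Set G)).index * p ≤ Nat.card A) ∧
      ∀ B, (Z ≤ B ∧ B ≤ E ∧ (Subgroup.centralizer (B : Set G)).index * p ≤ Nat.card B) →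
        A ≤ B → B ≤ A := by
    obtain ⟨A, hA⟩ := (Set.toFinite {A : Subgroup G | Z ≤ A ∧ A ≤ E ∧
      (Subgroup.centralizer (A : Set G)).index * p ≤ Nat.card A}).exists_maximal ⟨Z, le_rfl,
        inf_le_left, by
          have hle : E ⊔ C ≤ Subgroup.centralizer (Z : Set G) := by
            refine sup_le (fun e he => Subgroup.mem_centralizer_iff.mpr fun z hz =>
              (Subgroup.mem_centralizer_iff.mp hz.2 e he).symm) fun c hc =>
              Subgroup.mem_centralizer_iff.mpr fun z hz =>
                Subgroup.mem_centralizer_iff.mp hc z hz.1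
          have hn : Z.Normal := ⟨fun z hz g => by
            have h1 : ⁅g, z⁆ ∈ Z :=
              h (Subgroup.commutator_mem_commutator (Subgroup.mem_top g) hz.1)
            have := mul_mem h1 hz
            simpa [commutatorElement_def, mul_assoc] using this⟩
          have hcen : Z ≤ Subgroup.center G := CfsgLib.PGroups.le_center_of_card_prime hG hZc
          have : Subgroup.centralizer (Z : Set G) = ⊤ := eq_top_iff.mpr fun g _ =>
            Subgroup.mem_centralizer_iff.mpr fun z hz =>
              (Subgroup.mem_center_iff.mp (hcen hz) g).symm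
          rw [this, Subgroup.index_top, one_mul, hZc]⟩
    exact ⟨A, hA.1, fun B hB hle => hA.2 hB hle⟩
  have hAE : A = E := by
    refine le_antisymm hA.2.1 fun a ha => ?_
    by_contra hna
    have hlt : A < A ⊔ Subgroup.zpowers a :=
      lt_of_le_of_ne le_sup_left fun he =>
        hna (he ▸ Subgroup.mem_sup_right (Subgroup.mem_zpowers a))
    have hle : A ⊔ Subgroup.zpowers a ≤ E := sup_le hA.2.1 (Subgroup.zpowers_le.mpr ha)
    refine absurd (hmax _ ⟨hA.1.trans le_sup_left, hle, ?_⟩ le_sup_left) (not_le_of_gt hlt)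
    have hc : Subgroup.centralizer (A : Set G) ⊓ Subgroup.centralizer {a} ≤
        Subgroup.centralizer ((A ⊔ Subgroup.zpowers a : Subgroup G) : Set G) := by
      rw [← Subgroup.le_centralizer_iff]
      refine sup_le (fun b hb => Subgroup.mem_centralizer_iff.mpr fun c hc =>
        (Subgroup.mem_centralizer_iff.mp hc.1 b hb).symm) ?_
      rw [Subgroup.zpowers_le]
      exact Subgroup.mem_centralizer_iff.mpr fun c hc =>
        (Subgroup.mem_centralizer_iff.mp hc.2 a rfl).symm
    calc (Subgroup.centralizer ((A ⊔ Subgroup.zpowers a : Subgroup G) : Set G)).index * p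
        ≤ (Subgroup.centralizer (A : Set G) ⊓ Subgroup.centralizer {a}).index * p :=
          Nat.mul_le_mul_right _ (Nat.le_of_dvd
            (Nat.pos_of_ne_zero Subgroup.index_ne_zero_of_finite) (Subgroup.index_dvd_of_le hc))
      _ ≤ ((Subgroup.centralizer (A : Set G)).index * (Subgroup.centralizer {a}).index) * p :=
          Nat.mul_le_mul_right _ Subgroup.index_inf_le
      _ ≤ (Subgroup.centralizer (A : Set G)).index * p * p := by
          rw [mul_assoc, mul_assoc]
          exact Nat.mul_le_mul_left _ (Nat.mul_le_mul_right _ (hidx a ha))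
      _ ≤ Nat.card A * p := Nat.mul_le_mul_right _ hA.2.2
      _ ≤ _ := by
          rw [mul_comm]
          exact CfsgLib.PGroups.mul_card_le_of_lt (hG.to_subgroup _) hlt
  have hb := hA.2.2
  rw [hAE] at hb
  apply Subgroup.eq_top_of_le_card
  have h1 := CfsgLib.Core.card_sup_mul_card_inf E C (fun e he => by
    rw [Subgroup.mem_normalizer_iff]
    exact fun c => by
      constructor
      · intro hc
        refine Subgroup.mem_centralizer_iff.mpr fun v hv => ?_
        have h2 := Subgroup.mem_centralizer_iff.mp hc (e⁻¹ * v * e)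
          (mul_mem (mul_mem (inv_mem he) hv) he)
        calc v * (e * c * e⁻¹) = e * ((e⁻¹ * v * e) * c) * e⁻¹ := by group
          _ = e * (c * (e⁻¹ * v * e)) * e⁻¹ := by rw [h2]
          _ = e * c * e⁻¹ * v := by group
      · intro hc
        refine Subgroup.mem_centralizer_iff.mpr fun v hv => ?_
        have h2 := Subgroup.mem_centralizer_iff.mp hc (e * v * e⁻¹)
          (mul_mem (mul_mem he hv) (inv_mem he))
        calc v * c = e⁻¹ * ((e * v * e⁻¹) * (e * c * e⁻¹)) * e := by group
          _ = e⁻¹ * ((e * c * e⁻¹) * (e * v * e⁻¹)) * e := by rw [h2]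
          _ = c * v := by group)
  rw [show E ⊓ C = Z from rfl, hZc] at h1
  have h3 := C.card_mul_index
  nlinarith [hb, h1, h3, Nat.zero_le (Nat.card C), (Fact.out : p.Prime).pos]

end Cfsg.Agent.S0110
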