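import Cfsg.Statements.S0129
import Cfsg.Agent.Lib.Transfer.Tate
import Cfsg.Agent.Lib.PGroups.MaxAbelian
import Cfsg.Agent.Lib.Core.Basic

set_option autoImplicit false
open Cfsg
open scoped commutatorElement

namespace Cfsg.Agent.S0129

/-- The order of a p-group is bounded by p^(a(a+1)/2) when it has a maximal normal abelian subgroup of order p^a. -/
theorem result {G : Type*} [Group G] [Finite G] {p : ℕ} [Fact p.Prime] (hG : IsPGroup p G) (A : Subgroup G) [A.Normal] (hA : IsMulCommutative A) (hmax : ∀ B : Subgroup G, B.Normal → IsMulCommutative B → A ≤ B → B = A) (a : ℕ) (ha : Nat.card A = p ^ a) : Nat.card G ≤ p ^ (a * (a + 1) / 2) := by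
  classical
  have hC : Subgroup.centralizer (A : Set G) = A :=
    have := hA; CfsgLib.PGroups.centralizer_eq_of_maximal_normal_abelian hG hmax
  have key : ∀ i ≤ a, ∃ B : Subgroup G, B.Normal ∧ B ≤ A ∧ Nat.card B = p ^ i ∧
      (Subgroup.centralizer (B : Set G)).index ≤ p ^ (i * (i - 1) / 2) := by
    intro i hi
    induction i with
    | zero => exact ⟨⊥, inferInstance, bot_le, by simp, by
        have : Subgroup.centralizer ((⊥ : Subgroup G) : Set G) = ⊤ := eq_top_iff.mpr fun g _ =>
          Subgroup.mem_centralizer_iff.mpr fun z hz => by simp [Subgroup.mem_bot.mp hz]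
        rw [this, Subgroup.index_top]
        exact Nat.one_le_pow _ _ (Fact.out : p.Prime).pos⟩
    | succ i ih =>
        obtain ⟨B, hBn, hBA, hBc, hBi⟩ := ih (by omega)
        set π := QuotientGroup.mk' B
        have hπ : Function.Surjective π := QuotientGroup.mk'_surjective B
        have hne : A.map π ≠ ⊥ := by
          intro hb
          rw [Subgroup.map_eq_bot_iff, QuotientGroup.ker_mk'] at hb
          have := Subgroup.card_le_of_le hb
          rw [ha, hBc] at this
          exact absurd ((Nat.pow_le_pow_iff_right (Fact.out : p.Prime).one_lt).mp this) (by omega)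
        have : (A.map π).Normal := Subgroup.Normal.map ‹_› π hπ
        obtain ⟨z, hzA, hzc, hzo⟩ :=
          CfsgLib.Transfer.exists_mem_center_orderOf_eq (hG.to_quotient B) hne
        set B' := (Subgroup.zpowers z).comap π
        have hzn : (Subgroup.zpowers z).Normal := ⟨fun y hy g => by
          rw [Subgroup.mem_center_iff.mp (Subgroup.zpowers_le.mpr hzc hy) g, mul_inv_cancel_right]
          exact hy⟩
        have hB'A : B' ≤ A := by
          refine (Subgroup.comap_mono (Subgroup.zpowers_le.mpr hzA)).trans ?_
          rw [Subgroup.comap_map_eq, QuotientGroup.ker_mk', sup_eq_left.mpr hBA]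
        have hB'c : Nat.card B' = p ^ (i + 1) := by
          have h1 := CfsgLib.Core.card_comap_mk' B (Subgroup.zpowers z)
          rw [Nat.card_zpowers, hzo, hBc] at h1
          rw [pow_succ]
          linarith [h1]
        refine ⟨B', hzn.comap π, hB'A, hB'c, ?_⟩
        obtain ⟨b, hb, hbz⟩ : ∃ b ∈ B', π b = z := by
          obtain ⟨b, hb⟩ := hπ z
          exact ⟨b, by rw [Subgroup.mem_comap, hb]; exact Subgroup.mem_zpowers z, hb⟩
        have hgen : B' ≤ B ⊔ Subgroup.zpowers b := by
          intro y hy
          obtain ⟨k, hk⟩ := Subgroup.mem_zpowers_iff.mp (Subgroup.mem_comap.mp hy)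
          have h1 : y * (b ^ k)⁻¹ ∈ B := by
            rw [← QuotientGroup.ker_mk' B, MonoidHom.mem_ker]
            show π _ = 1
            rw [map_mul, map_inv, map_zpow, hbz, hk, mul_inv_cancel]
          rw [show y = y * (b ^ k)⁻¹ * b ^ k by group]
          exact mul_mem (Subgroup.mem_sup_left h1) (Subgroup.mem_sup_right ⟨k, rfl⟩)
        have hcB : Subgroup.centralizer (B : Set G) ⊓ Subgroup.centralizer {b} ≤
            Subgroup.centralizer (B' : Set G) := by
          refine le_trans ?_ (Subgroup.centralizer_le hgen)
          rw [← Subgroup.le_centralizer_iff]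
          refine sup_le (fun v hv => Subgroup.mem_centralizer_iff.mpr fun c hc =>
            (Subgroup.mem_centralizer_iff.mp hc.1 v hv).symm) ?_
          rw [Subgroup.zpowers_le]
          exact Subgroup.mem_centralizer_iff.mpr fun c hc =>
            (Subgroup.mem_centralizer_iff.mp hc.2 b rfl).symm
        have hidx : (Subgroup.centralizer {b}).index ≤ p ^ i := by
          rw [← hBc, Subgroup.index_eq_card]
          have hm : ∀ g : G, ⁅g, b⁆ ∈ B := by
            intro g
            rw [← QuotientGroup.ker_mk' B, MonoidHom.mem_ker, map_commutatorElement,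
              commutatorElement_eq_one_iff_mul_comm]
            show π g * π b = π b * π g
            rw [hbz, Subgroup.mem_center_iff.mp hzc]
          refine Nat.card_le_card_of_injective
            (fun q : G ⧸ Subgroup.centralizer {b} => (⟨⁅q.out, b⁆, hm q.out⟩ : B)) fun q r hqr => ?_
          have h1 : ⁅q.out, b⁆ = ⁅r.out, b⁆ := congrArg Subtype.val hqr
          rw [← q.out_eq, ← r.out_eq, QuotientGroup.eq, Subgroup.mem_centralizer_singleton_iff]
          rw [commutatorElement_def, commutatorElement_def] at h1
          have h2 := mul_right_cancel h1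
          calc q.out⁻¹ * r.out * b = q.out⁻¹ * (r.out * b * r.out⁻¹) * r.out := by group
            _ = q.out⁻¹ * (q.out * b * q.out⁻¹) * r.out := by rw [h2]
            _ = b * (q.out⁻¹ * r.out) := by group
        calc (Subgroup.centralizer (B' : Set G)).index
            ≤ (Subgroup.centralizer (B : Set G) ⊓ Subgroup.centralizer {b}).index :=
              Nat.le_of_dvd (Nat.pos_of_ne_zero Subgroup.index_ne_zero_of_finite)
                (Subgroup.index_dvd_of_le hcB)
          _ ≤ _ * _ := Subgroup.index_inf_le
          _ ≤ p ^ (i * (i - 1) / 2) * p ^ i := Nat.mul_le_mul hBi hidx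
          _ = p ^ ((i + 1) * (i + 1 - 1) / 2) := by
              rw [← pow_add]
              congr 1
              rw [Nat.triangle_succ]
  obtain ⟨B, -, hBA, hBc, hBi⟩ := key a le_rfl
  rw [Subgroup.eq_of_le_of_card_ge hBA (by rw [ha, hBc]), hC] at hBi
  calc Nat.card G = Nat.card A * A.index := A.card_mul_index.symm
    _ ≤ p ^ a * p ^ (a * (a - 1) / 2) := by
        rw [ha]; exact Nat.mul_le_mul_left _ hBi
    _ = p ^ ((a + 1) * (a + 1 - 1) / 2) := by
        rw [← pow_add, Nat.triangle_succ, add_comm]
    _ = _ := by rw [Nat.add_sub_cancel, mul_comm]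

end Cfsg.Agent.S0129
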