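import Cfsg.Statements.S0131
import Cfsg.Agent.Lib.Transfer.Fusion

set_option autoImplicit false
open Cfsg

namespace Cfsg.Agent.S0131

/-- P/P' has a normal complement in G exactly when the focal subgroup G' ∩ P is as small as possible, namely P'. -/
theorem result {G : Type*} [Group G] [Finite G] {p : ℕ} [Fact p.Prime] (P : Sylow p G) : (∃ N : Subgroup G, N.Normal ∧ N ⊓ (P : Subgroup G) = ⁅(P : Subgroup G), (P : Subgroup G)⁆ ∧ N ⊔ (P : Subgroup G) = ⊤) ↔ commutator G ⊓ (P : Subgroup G) = ⁅(P : Subgroup G), (P : Subgroup G)⁆ := by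
  constructor
  · rintro ⟨N, hN, hNP, hsup⟩
    refine le_antisymm ?_ (le_inf (Subgroup.commutator_mono le_top le_top)
      (Subgroup.commutator_le_self _))
    rw [← hNP]
    refine le_inf (le_trans inf_le_left ?_) inf_le_right
    have hsurj : Function.Surjective ((QuotientGroup.mk' N).comp (P : Subgroup G).subtype) := by
      intro y
      obtain ⟨g, rfl⟩ := QuotientGroup.mk_surjective y
      have hg : g ∈ N ⊔ (P : Subgroup G) := hsup ▸ Subgroup.mem_top g
      obtain ⟨a, ha, b, hb, rfl⟩ := Subgroup.mem_sup_of_normal_left.mp hg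
      refine ⟨⟨b, hb⟩, ?_⟩
      simp [(QuotientGroup.eq_one_iff a).mpr ha]
    refine Subgroup.Normal.quotient_commutative_iff_commutator_le.mp ⟨⟨fun a b => ?_⟩⟩
    obtain ⟨a, rfl⟩ := hsurj a
    obtain ⟨b, rfl⟩ := hsurj b
    show ((a : G) : G ⧸ N) * ((b : G) : G ⧸ N) = ((b : G) : G ⧸ N) * ((a : G) : G ⧸ N)
    rw [← QuotientGroup.mk_mul, ← QuotientGroup.mk_mul, QuotientGroup.eq]
    have : ((a : G) * b)⁻¹ * (b * a) ∈ ⁅(P : Subgroup G), (P : Subgroup G)⁆ := by
      have := Subgroup.commutator_mem_commutator (inv_mem b.2) (inv_mem a.2)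
      simpa [commutatorElement_def, mul_assoc] using this
    rw [← hNP] at this
    exact this.1
  · intro h
    refine ⟨(Subgroup.transferFocal (P : Subgroup G)).ker, inferInstance, ?_, ?_⟩
    · rw [Subgroup.ker_transferFocal_inf_eq_focalSubgroup,
        ← Subgroup.commutator_inf_eq_focalSubgroup, h]
    · exact CfsgLib.Transfer.sup_sylow_eq_top ((P.2.to_quotient _).of_equiv
        (Subgroup.transferFocal.quotientKerMulEquivQuotientFocalSubroupOf P).symm) P

end Cfsg.Agent.S0131
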