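import Cfsg.Statements.S0136
import Cfsg.Agent.Lib.Char.Complete
-- import your own Cfsg.Agent.* helpers here

set_option autoImplicit false
open Cfsg

namespace Cfsg.Agent.S0136

/-- Two elements of a finite group are conjugate if and only if no irreducible complex character separates them. -/
theorem result {G : Type*} [Group G] [Finite G] (g h : G) : IsConj g h ↔ ∀ χ : Cfsg.IrrCharacter G, (χ : G → ℂ) g = (χ : G → ℂ) h := by
  classical
  haveI := Fintype.ofFinite (Cfsg.IrrCharacter G)
  constructor
  · intro hc χ
    exact CfsgLib.Char.isClassFunction_iff_isConj.mp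
      (CfsgLib.Char.IsIrr.isClassFunction χ.2) g h hc
  · intro hall
    by_contra hc
    have h1 := CfsgLib.Char.column_orthogonality g h
    rw [if_neg hc] at h1
    have h2 := CfsgLib.Char.column_orthogonality g g
    rw [if_pos (IsConj.refl g)] at h2
    rw [show (∑ χ : Cfsg.IrrCharacter G, (χ : G → ℂ) g * starRingEnd ℂ ((χ : G → ℂ) h)) =
      ∑ χ : Cfsg.IrrCharacter G, (χ : G → ℂ) g * starRingEnd ℂ ((χ : G → ℂ) g) from
        Finset.sum_congr rfl fun χ _ => by rw [hall χ], h2] at h1
    exact Nat.card_pos.ne' (Nat.cast_eq_zero.mp h1)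

end Cfsg.Agent.S0136
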