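import Cfsg.Statements.S0154
import Cfsg.Agent.Lib.Char.Basic
import Mathlib.GroupTheory.FiniteAbelian.Duality
import Mathlib.GroupTheory.Abelianization.Finite
import Mathlib.Analysis.Complex.Polynomial.Basic
import Mathlib.RingTheory.RootsOfUnity.AlgebraicallyClosed
-- import your own Cfsg.Agent.* helpers here

set_option autoImplicit false
open Cfsg

namespace Cfsg.Agent.S0154

/-- A finite group has exactly as many irreducible complex characters of degree 1 as the index of its commutator subgroup. -/
theorem result {G : Type*} [Group G] [Finite G] : Nat.card {χ : Cfsg.IrrCharacter G // (χ : G → ℂ) 1 = 1} = (commutator G).index := by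
  classical
  haveI := Fintype.ofFinite G
  let e : {χ : Cfsg.IrrCharacter G // (χ : G → ℂ) 1 = 1} ≃ (G →* ℂˣ) :=
    (Equiv.ofBijective
      (fun l : G →* ℂˣ => (⟨⟨fun g => (l g : ℂ), CfsgLib.Char.isIrrCharacter_linear l⟩, by simp⟩ :
        {χ : Cfsg.IrrCharacter G // (χ : G → ℂ) 1 = 1}))
      ⟨fun a b hab => MonoidHom.ext fun g => Units.ext
        (congrFun (congrArg (fun z : {χ : Cfsg.IrrCharacter G // (χ : G → ℂ) 1 = 1} =>
          (z.1 : G → ℂ)) hab) g),
      fun χ => by
        obtain ⟨l, hl⟩ := CfsgLib.Char.exists_linear_of_degree_one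
          (CfsgLib.Char.IsIrr.isCharacter χ.1.2) χ.2
        exact ⟨l, Subtype.ext (Subtype.ext hl.symm)⟩⟩).symm
  rw [Nat.card_congr e, Nat.card_congr (Abelianization.lift (G := G) (A := ℂˣ))]
  haveI : NeZero (Monoid.exponent (Abelianization G)) :=
    ⟨Monoid.exponent_ne_zero_of_finite⟩
  rw [CommGroup.card_monoidHom_of_hasEnoughRootsOfUnity]
  rfl

end Cfsg.Agent.S0154
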