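import Cfsg.Statements.S0162
import Mathlib.Data.ZMod.Basic
import Cfsg.Agent.Lib.Char.Real
import Cfsg.Agent.Lib.Char.Integral
import Cfsg.Agent.Lib.Char.DegreeCenter
import Cfsg.Agent.Lib.Char.Central
-- import your own Cfsg.Agent.* helpers here

set_option autoImplicit false
open Cfsg

namespace Cfsg.Agent.S0162

/-- If a finite group has odd order, its order is congruent to its number of conjugacy classes modulo 16. -/
theorem result {G : Type*} [Group G] [Finite G] (hodd : Odd (Nat.card G)) : Nat.card G ≡ Nat.card (ConjClasses G) [MOD 16] := by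
  classical
  have := Fintype.ofFinite G
  have := Fintype.ofFinite (Cfsg.IrrCharacter G)
  choose d hd using fun χ : Cfsg.IrrCharacter G => CfsgLib.Char.IsIrr.exists_degree χ.2
  have hdodd : ∀ χ, Odd (d χ) := fun χ => by
    obtain ⟨n, ρ, hρ, hc⟩ := χ.2
    have h1 : (d χ : ℂ) = (Module.finrank ℂ (Fin n → ℂ) : ℂ) := by
      rw [← (hd χ).2, ← hc, Representation.char_one]
    rw [Nat.cast_injective h1]
    exact hodd.of_dvd_nat (CfsgLib.CharIntegral.finrank_dvd_card ρ)
  have hconj : ∀ χ, d (CfsgLib.Char.conjIrr χ) = d χ := fun χ => by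
    apply Nat.cast_injective (R := ℂ)
    rw [← (hd _).2, CfsgLib.Char.conjIrr_apply, (hd χ).2, map_natCast]
  have hd1 : d (CfsgLib.Char.trivChar G) = 1 := by
    apply Nat.cast_injective (R := ℂ)
    rw [← (hd _).2]
    simp
  have hsum : Nat.card G = ∑ χ, d χ ^ 2 := by
    apply Nat.cast_injective (R := ℂ)
    push_cast
    rw [← CfsgLib.Char.sum_sq_degree (G := G)]
    exact Finset.sum_congr rfl fun χ _ => by rw [(hd χ).2]
  have h16 : ∀ x : ZMod 16, ((2 * x + 1) ^ 2 - 1) + ((2 * x + 1) ^ 2 - 1) = 0 := by decide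
  have hzero : ∑ χ : Cfsg.IrrCharacter G, (((d χ : ZMod 16)) ^ 2 - 1) = 0 := by
    refine Finset.sum_involution (fun χ _ => CfsgLib.Char.conjIrr χ) ?_ ?_
      (fun χ _ => Finset.mem_univ _) (fun χ _ => CfsgLib.Char.conjIrr_conjIrr χ)
    · intro χ _
      obtain ⟨k, hk⟩ := hdodd χ
      rw [hconj, hk]
      push_cast
      exact h16 k
    · intro χ _ hne heq
      have := CfsgLib.Char.real_irr_eq_one_of_odd hodd χ
        ((CfsgLib.Char.conjIrr_eq_iff χ).mp heq)
      rw [this, hd1] at hne
      simp at hne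
  rw [← ZMod.natCast_eq_natCast_iff, hsum, ← CfsgLib.Char.card_irrCharacter,
    Nat.card_eq_fintype_card (α := Cfsg.IrrCharacter G)]
  push_cast
  rw [Finset.sum_sub_distrib, Finset.sum_const, Finset.card_univ, sub_eq_zero] at hzero
  rw [hzero]
  simp

end Cfsg.Agent.S0162
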