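import Cfsg.Statements.S0170
import Cfsg.Agent.S0198
import Cfsg.Agent.S0150
import Cfsg.Agent.Lib.Char.Induced

set_option autoImplicit false
open Cfsg

namespace Cfsg.Agent.S0170

/-- Exceptional characters. Let S be a subset of a finite group contained in its normalizer N and meeting its conjugates by elements outside N only in the identity. Given n ≥ 2 distinct irreducible characters of N of equal degree that vanish on N away from S, there exist a sign ε and n distinct irreducible characters θ_i of G such that inducing χ_i − χ_j to G gives ε (θ_i − θ_j) for all i, j. -/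
theorem result {G : Type*} [Group G] [Fintype G] (S : Set G) (hSN : S ⊆ Subgroup.normalizer S) (hTI : ∀ g : G, g ∉ Subgroup.normalizer S → ∀ s ∈ S, g * s * g⁻¹ ∈ S → s = 1) (n : ℕ) (hn : 2 ≤ n) (χ : Fin n → (Subgroup.normalizer S → ℂ)) (hirr : ∀ i, Cfsg.IsIrrCharacter (Subgroup.normalizer S) (χ i)) (hinj : Function.Injective χ) (hvan : ∀ i, ∀ x : Subgroup.normalizer S, (x : G) ∉ S → χ i x = 0) (hdeg : ∀ i j, χ i 1 = χ j 1) : ∃ ε : ℂ, (ε = 1 ∨ ε = -1) ∧ ∃ θ : Fin n → (G → ℂ), (∀ i, Cfsg.IsIrrCharacter G (θ i)) ∧ Function.Injective θ ∧ ∀ i j, Cfsg.indFun (Subgroup.normalizer S) (χ i) - Cfsg.indFun (Subgroup.normalizer S) (χ j) = ε • (θ i - θ j) := by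
  classical
  have := Fintype.ofFinite (Subgroup.normalizer S)
  let i₀ : Fin n := ⟨0, by omega⟩
  let N := Subgroup.normalizer S
  have hvan' : ∀ i j, ∀ x : Subgroup.normalizer S, (x : G) ∉ S → (χ i - χ j) x = 0 :=
    fun i j x hx => by simp [hvan i x hx, hvan j x hx]
  have hirr2 : ∀ i j, Cfsg.classInner (χ i) (χ j) = if i = j then 1 else 0 := by
    intro i j
    have h := CfsgLib.Char.classInner_irr (G := N) ⟨χ i, hirr i⟩ ⟨χ j, hirr j⟩
    rw [h]
    exact if_congr ⟨fun e => hinj (congrArg Subtype.val e), fun e => by subst e; rfl⟩ rfl rfl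
  obtain ⟨ε, hε, μ, hμ, hμi, hτ⟩ := Cfsg.Agent.S0198.result n i₀
    (fun i => Cfsg.indFun (Subgroup.normalizer S) (χ i - χ i₀))
    (by simp [CfsgLib.Char.indFun_zero])
    (fun i => by
      rw [CfsgLib.Char.indFun_sub]
      exact ⟨_, _, CfsgLib.Char.isCharacter_indFun _ (CfsgLib.Char.IsIrr.isCharacter (hirr i)),
        CfsgLib.Char.isCharacter_indFun _ (CfsgLib.Char.IsIrr.isCharacter (hirr i₀)), rfl⟩)
    (fun i => by rw [CfsgLib.Char.indFun_apply_one, Pi.sub_apply, hdeg i i₀, sub_self, mul_zero])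
    (fun i j hi hj => by
      have hcl : ∀ k, Cfsg.IsClassFunction (Subgroup.normalizer S) (χ k - χ i₀) := fun k g x => by
        simp only [Pi.sub_apply, CfsgLib.Char.IsIrr.isClassFunction (hirr k) g x,
          CfsgLib.Char.IsIrr.isClassFunction (hirr i₀) g x]
      rw [Cfsg.Agent.S0150.result S hTI hSN _ _ (hcl i) (hcl j) (hvan' i i₀) (hvan' j i₀)
        (by rw [Pi.sub_apply, hdeg i i₀, sub_self]),
        CfsgLib.Char.classInner_sub_left, CfsgLib.Char.classInner_sub_right,
        CfsgLib.Char.classInner_sub_right, hirr2, hirr2, hirr2, hirr2, if_neg hi, if_neg (Ne.symm hj),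
        if_pos rfl]
      split_ifs <;> norm_num)
  refine ⟨ε, hε, μ, hμ, hμi, fun i j => ?_⟩
  have h1 := hτ i
  have h2 := hτ j
  simp only [CfsgLib.Char.indFun_sub] at h1 h2
  rw [← sub_sub_sub_cancel_right _ _ (Cfsg.indFun (Subgroup.normalizer S) (χ i₀)), h1, h2,
    ← smul_sub, sub_sub_sub_cancel_right]

end Cfsg.Agent.S0170
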