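import Cfsg.Statements.S0175
import Cfsg.Agent.Lib.Char.Complete
import Cfsg.Agent.Lib.Char.Induced
import Mathlib.GroupTheory.Solvable

set_option autoImplicit false
open Cfsg
open scoped commutatorElement

namespace Cfsg.Agent.S0175

/-- Taketa's Theorem on M-groups: if every irreducible complex character of a finite group is induced from a linear character (a homomorphism to ℂˣ) of some subgroup, the group is solvable. -/
theorem result {G : Type*} [Group G] [Fintype G] (hM : ∀ χ : G → ℂ, Cfsg.IsIrrCharacter G χ → ∃ (H : Subgroup G) (lam : H →* ℂˣ), χ = Cfsg.indFun H (fun h => (lam h : ℂ))) : Group.IsSolvable G := by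
  classical
  have := Fintype.ofFinite (Cfsg.IrrCharacter G)
  -- the `d`-th derived subgroup lies in the kernel of every irreducible character of degree `d`
  have key : ∀ (d : ℕ) (χ : Cfsg.IrrCharacter G), (χ : G → ℂ) 1 = d →
      ∀ x ∈ derivedSeries G d, (χ : G → ℂ) x = (χ : G → ℂ) 1 := by
    intro d
    induction d using Nat.strongRecOn with
    | ind d ih =>
      intro χ hd x hx
      obtain ⟨H, lam, hχ⟩ := hM (χ : G → ℂ) χ.2
      have hidx : H.index = d := by
        have h := CfsgLib.Char.indFun_apply_one H (fun h => (lam h : ℂ))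
        rw [← hχ, hd, map_one, Units.val_one, mul_one] at h
        exact_mod_cast h.symm
      obtain ⟨e, rfl⟩ : ∃ e, d = e + 1 := Nat.exists_eq_succ_of_ne_zero
        (hidx ▸ Subgroup.index_ne_zero_of_finite)
      set π := Cfsg.indFun H (fun _ : H => (1 : ℂ)) with hπ
      have hπ1 : π 1 = ((e + 1 : ℕ) : ℂ) := by
        rw [hπ, CfsgLib.Char.indFun_apply_one, hidx, mul_one]
      have hsum := CfsgLib.Char.classFunction_eq_sum
        (CfsgLib.Char.isClassFunction_indFun H (fun _ : H => (1 : ℂ)))
      rw [← hπ] at hsum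
      have hcoef : ∀ ψ : Cfsg.IrrCharacter G, ∃ m : ℕ, Cfsg.classInner π (ψ : G → ℂ) = m :=
        fun ψ => CfsgLib.Char.IsChar.classInner_eq_natCast
          (CfsgLib.Char.isCharacter_indFun H CfsgLib.Char.isCharacter_one)
          (CfsgLib.Char.IsIrr.isCharacter ψ.2)
      choose m hm using hcoef
      choose f hf0 hf using fun ψ : Cfsg.IrrCharacter G => CfsgLib.Char.IsIrr.exists_degree ψ.2
      simp only [hm] at hsum
      have htriv : m (CfsgLib.Char.trivChar G) = 1 := by
        have h := hm (CfsgLib.Char.trivChar G)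
        rw [hπ, CfsgLib.Char.frobenius_reciprocity H _ (CfsgLib.Char.IsIrr.isClassFunction
          (CfsgLib.Char.trivChar G).2)] at h
        have h2 := CfsgLib.Char.classInner_irr_self (CfsgLib.Char.trivChar H)
        exact_mod_cast (h.symm.trans h2)
      have hdeg : ∑ ψ, m ψ * f ψ = e + 1 := by
        have h := congrFun hsum 1
        rw [hπ1] at h
        simp only [Finset.sum_apply, Pi.smul_apply, hf, smul_eq_mul] at h
        exact_mod_cast h.symm
      have hfix : ∀ y ∈ derivedSeries G e, π y = π 1 := by
        intro y hy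
        rw [hsum]
        simp only [Finset.sum_apply, Pi.smul_apply]
        refine Finset.sum_congr rfl fun ψ _ => ?_
        by_cases hm0 : m ψ = 0
        · simp [hm0]
        congr 1
        by_cases hψ : ψ = CfsgLib.Char.trivChar G
        · rw [hψ]; rfl
        have hle : f ψ ≤ e := by
          rw [← Finset.add_sum_erase _ _ (Finset.mem_univ (CfsgLib.Char.trivChar G)), htriv,
            one_mul, ← Finset.add_sum_erase _ _
              (Finset.mem_erase.mpr ⟨hψ, Finset.mem_univ ψ⟩)] at hdeg
          have h1 : f ψ ≤ m ψ * f ψ := Nat.le_mul_of_pos_left _ (Nat.pos_of_ne_zero hm0)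
          have h2 := hf0 (CfsgLib.Char.trivChar G)
          omega
        exact ih (f ψ) (by omega) ψ (hf ψ) y (derivedSeries_antitone G hle hy)
      have hmem : derivedSeries G e ≤ H := by
        intro y hy
        by_contra hyH
        have h := hfix y hy
        rw [hπ1, hπ, Cfsg.indFun, inv_mul_eq_iff_eq_mul₀ (Nat.cast_ne_zero.mpr Nat.card_pos.ne')] at h
        have hval : ∀ z : G, Cfsg.extendByZero H (fun _ => (1 : ℂ)) (z⁻¹ * y * z) =
            if z⁻¹ * y * z ∈ H then 1 else 0 := by
          intro z
          split_ifs with hz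
          · exact CfsgLib.Char.extendByZero_of_mem H _ hz
          · exact CfsgLib.Char.extendByZero_of_notMem H _ hz
        simp only [hval, Finset.sum_boole] at h
        have hc : (Finset.univ.filter fun z : G => z⁻¹ * y * z ∈ H).card = Nat.card G := by
          rw [← H.card_mul_index, hidx]
          exact_mod_cast h
        rw [Nat.card_eq_fintype_card, Finset.card_eq_iff_eq_univ] at hc
        have h1 := Finset.eq_univ_iff_forall.mp hc 1
        simp [hyH] at h1
      rw [hχ, Cfsg.indFun, Cfsg.indFun]
      congr 1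
      refine Finset.sum_congr rfl fun z _ => ?_
      rw [derivedSeries_succ] at hx
      have hx' : z⁻¹ * x * z ∈ ⁅derivedSeries G e, derivedSeries G e⁆ := by
        have hn : (⁅derivedSeries G e, derivedSeries G e⁆).Normal := by
          rw [← derivedSeries_succ]; exact derivedSeries_normal G (e + 1)
        have := hn.conj_mem x hx z⁻¹
        rwa [inv_inv] at this
      have hle : ⁅derivedSeries G e, derivedSeries G e⁆ ≤ (MonoidHom.ker lam).map H.subtype := by
        rw [Subgroup.commutator_le]
        intro a ha b hb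
        refine ⟨⁅(⟨a, hmem ha⟩ : H), (⟨b, hmem hb⟩ : H)⁆, ?_, rfl⟩
        rw [SetLike.mem_coe, MonoidHom.mem_ker, map_commutatorElement, commutatorElement_eq_one_iff_mul_comm]
        exact mul_comm _ _
      obtain ⟨w, hw, hwe⟩ := hle hx'
      rw [mul_one, inv_mul_cancel, ← hwe]
      rw [Subgroup.coe_subtype, CfsgLib.Char.extendByZero_coe,
        CfsgLib.Char.extendByZero_of_mem H _ H.one_mem, MonoidHom.mem_ker.mp hw]
      exact (congrArg Units.val (map_one lam)).symm
  choose f hf0 hf using fun ψ : Cfsg.IrrCharacter G => CfsgLib.Char.IsIrr.exists_degree ψ.2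
  refine ⟨∑ ψ, f ψ, ?_⟩
  rw [Subgroup.eq_bot_iff_forall]
  intro x hx
  by_contra hx1
  have hz := CfsgLib.Char.sum_degree_mul_apply_of_ne_one hx1
  rw [Finset.sum_congr rfl (g := fun χ : Cfsg.IrrCharacter G => (χ : G → ℂ) 1 ^ 2),
    CfsgLib.Char.sum_sq_degree] at hz
  · exact Nat.cast_ne_zero.mpr Nat.card_pos.ne' hz
  · intro χ _
    rw [sq, key (f χ) χ (hf χ) x (derivedSeries_antitone G
      (Finset.single_le_sum (fun ψ _ => Nat.zero_le (f ψ)) (Finset.mem_univ χ)) hx)]

end Cfsg.Agent.S0175
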