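import Cfsg.Statements.S0180
import Cfsg.Agent.Lib.Char.Rationality
import Cfsg.Agent.Lib.CharDegree.Counting

set_option autoImplicit false
open Cfsg

namespace Cfsg.Agent.S0180

/-- Every irreducible complex character of a finite group takes only rational values if and only if g is conjugate to g ^ m for every element g and every m coprime to the group order. -/
theorem result {G : Type*} [Group G] [Finite G] : (∀ χ : Cfsg.IrrCharacter G, ∀ g : G, ∃ q : ℚ, (χ : G → ℂ) g = (q : ℂ)) ↔ ∀ m : ℕ, m.Coprime (Nat.card G) → ∀ g : G, IsConj g (g ^ m) := by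
  have := Fintype.ofFinite G
  constructor
  · intro h m hm g
    refine (CfsgLib.CharDegree.isConj_of_forall_eq fun χ => ?_)
    obtain ⟨q, hq⟩ := h χ g
    obtain ⟨n, ρ, -, hρ⟩ := χ.2
    rw [← hρ] at hq ⊢
    rw [hq, CfsgLib.CharRational.apply_pow_eq_of_eq_rat ρ g hq hm]
  · intro h χ g
    obtain ⟨n, ρ, -, hρ⟩ := χ.2
    rw [← hρ]
    refine CfsgLib.CharRational.exists_rat_of_apply_pow_eq ρ g fun m hm => ?_
    obtain ⟨c, hc⟩ := isConj_iff.mp (h m hm g)
    rw [← hc, ρ.char_conj]

end Cfsg.Agent.S0180
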