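import Cfsg.Statements.S0181
import Cfsg.Agent.Lib.Char.Weights

set_option autoImplicit false
open Cfsg

namespace Cfsg.Agent.S0181

/-- Let H be a normal subgroup of a finite group G and ρ an irreducible complex representation whose kernel does not contain H. If g commutes with no non-identity element of H, then the character of ρ vanishes at g. -/
theorem result {G : Type*} [Group G] [Finite G] {V : Type*} [AddCommGroup V] [Module ℂ V] [FiniteDimensional ℂ V] (ρ : Representation ℂ G V) [ρ.IsIrreducible] (H : Subgroup G) [H.Normal] (hker : ∃ h ∈ H, ρ h ≠ LinearMap.id) (g : G) (hg : ∀ h ∈ H, h * g = g * h → h = 1) : ρ.character g = 0 := by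
  classical
  have := Fintype.ofFinite H
  have hfix : ∀ v : V, (∀ h : H, ρ (h : G) v = v) → v = 0 := by
    let I : Submodule ℂ V :=
      { carrier := {v | ∀ h : H, ρ (h : G) v = v}
        add_mem' := fun {a b} ha hb h => by rw [map_add, ha h, hb h]
        zero_mem' := fun h => map_zero _
        smul_mem' := fun c a ha h => by rw [map_smul, ha h] }
    intro v hv
    by_contra hv0
    have htop : I = ⊤ := by
      refine CfsgLib.CharWeights.eq_top_of_invariant ρ I (fun x w hw h => ?_)
        fun hb => hv0 ((Submodule.mem_bot ℂ).mp (hb ▸ (hv : v ∈ I)))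
      have hmem : x⁻¹ * (h : G) * x ∈ H := by
        have := ‹H.Normal›.conj_mem (h : G) h.2 x⁻¹
        rwa [inv_inv] at this
      have e := hw ⟨_, hmem⟩
      rw [← Module.End.mul_apply, ← map_mul, show (h : G) * x = x * (x⁻¹ * (h : G) * x) by group,
        map_mul, Module.End.mul_apply, e]
    obtain ⟨a, ha, hne⟩ := hker
    exact hne (LinearMap.ext fun w => (htop ▸ Submodule.mem_top : w ∈ I) ⟨a, ha⟩)
  have hsum : (∑ h : H, ρ (h : G)) = 0 := by
    refine LinearMap.ext fun v => hfix _ fun k => ?_
    rw [LinearMap.sum_apply, map_sum]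
    refine Fintype.sum_equiv (Equiv.mulLeft k) _ _ fun h => ?_
    rw [Equiv.coe_mulLeft, Subgroup.coe_mul, map_mul, Module.End.mul_apply]
  let f : H → H := fun h => ⟨(h : G) * g * (h : G)⁻¹ * g⁻¹, by
    have h1 := ‹H.Normal›.conj_mem _ (H.inv_mem h.2) g
    have h2 := H.mul_mem h.2 h1
    rwa [show (h : G) * (g * (h : G)⁻¹ * g⁻¹) = (h : G) * g * (h : G)⁻¹ * g⁻¹ by group] at h2⟩
  have hf : Function.Injective f := by
    intro a b e
    have e' : (a : G) * g * (a : G)⁻¹ = (b : G) * g * (b : G)⁻¹ :=
      mul_right_cancel (congrArg Subtype.val e)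
    have h1 := hg _ (H.mul_mem (H.inv_mem b.2) a.2) (by
      calc (b : G)⁻¹ * a * g = (b : G)⁻¹ * ((a : G) * g * (a : G)⁻¹) * a := by group
        _ = (b : G)⁻¹ * ((b : G) * g * (b : G)⁻¹) * a := by rw [e']
        _ = g * ((b : G)⁻¹ * a) := by group)
    exact (Subtype.ext (inv_mul_eq_one.mp h1)).symm
  have hall : ∀ h : H, ρ.character ((h : G) * g) = ρ.character g := by
    intro h
    obtain ⟨a, rfl⟩ := (Finite.injective_iff_surjective.mp hf) h
    simp only [f, inv_mul_cancel_right]
    exact ρ.char_conj g a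
  have h0 : ∑ h : H, ρ.character ((h : G) * g) = 0 := by
    simp only [Representation.character, map_mul]
    rw [← map_sum, ← Finset.sum_mul, hsum, zero_mul, map_zero]
  rw [Finset.sum_congr rfl (g := fun _ => ρ.character g) (fun h _ => hall h), Finset.sum_const,
    nsmul_eq_mul, mul_eq_zero, Nat.cast_eq_zero] at h0
  exact h0.resolve_left (Finset.card_ne_zero.mpr Finset.univ_nonempty)

end Cfsg.Agent.S0181
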