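import Cfsg.Statements.S0182
import Cfsg.Agent.Lib.Char.CATheorem

set_option autoImplicit false
open Cfsg

namespace Cfsg.Agent.S0182

/-- The CA-Theorem for odd order: a finite group of odd order in which every non-identity element has an abelian centralizer is solvable. -/
theorem result {G : Type*} [Group G] [Finite G] (hodd : Odd (Nat.card G)) (hCA : ∀ x : G, x ≠ 1 → ∀ a ∈ Subgroup.centralizer ({x} : Set G), ∀ b ∈ Subgroup.centralizer ({x} : Set G), a * b = b * a) : Group.IsSolvable G := by
  classical
  generalize hn : Nat.card G = n
  induction n using Nat.strong_induction_on generalizing G with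
  | _ n ih =>
    subst hn
    by_cases hperf : commutator G = ⊤
    · have := Fintype.ofFinite G
      have := CfsgLib.CA.subsingleton_of_perfect hperf hodd hCA
      exact Group.isSolvable_of_comm fun a b => Subsingleton.elim _ _
    · have hlt : Nat.card (commutator G) < Nat.card G :=
        lt_of_le_of_ne (Nat.le_of_dvd Nat.card_pos (commutator G).card_subgroup_dvd_card)
          fun e => hperf ((commutator G).eq_top_of_card_eq e)
      have hC : Group.IsSolvable (commutator G) := by
        refine ih _ hlt (hodd.of_dvd_nat (commutator G).card_subgroup_dvd_card) ?_ rfl
        intro x hx a ha b hb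
        rw [Subgroup.mem_centralizer_singleton_iff] at ha hb
        exact Subtype.ext (hCA x (fun e => hx (Subtype.ext e)) a
          (Subgroup.mem_centralizer_singleton_iff.mpr (congrArg Subtype.val ha)) b
          (Subgroup.mem_centralizer_singleton_iff.mpr (congrArg Subtype.val hb)))
      have : Group.IsSolvable (Abelianization G) := Group.isSolvable_of_comm mul_comm
      exact Group.isSolvable_of_ker_le_range (commutator G).subtype Abelianization.of
        (by rw [Abelianization.ker_of, Subgroup.range_subtype])

end Cfsg.Agent.S0182
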