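import Cfsg.Statements.S0184
import Cfsg.Agent.Lib.Char.DegreeCenter
import Cfsg.Agent.Lib.Char.Complete
import Mathlib.GroupTheory.PGroup
import Mathlib.RingTheory.IntegralDomain

set_option autoImplicit false
open Cfsg

namespace Cfsg.Agent.S0184

/-- A finite p-group admits a faithful irreducible complex representation if and only if its centre is cyclic. -/
theorem result {G : Type*} [Group G] [Finite G] (p : ℕ) [Fact p.Prime] (hG : IsPGroup p G) : (∃ (n : ℕ) (ρ : Representation ℂ G (Fin n → ℂ)), ρ.IsIrreducible ∧ Function.Injective ρ) ↔ IsCyclic (Subgroup.center G) := by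
  classical
  constructor
  · rintro ⟨n, ρ, hρ, hinj⟩
    choose c hc using fun z : Subgroup.center G =>
      CfsgLib.CharIntegral.exists_scalar_of_mem_center ρ z.2
    have hn := CfsgLib.CharIntegral.finrank_cast_ne_zero ρ
    have hχ : ∀ z : Subgroup.center G, c z = ρ.character (z : G) / (Module.finrank ℂ (Fin n → ℂ) : ℂ) := by
      intro z
      rw [Representation.character, hc z, map_smul, LinearMap.trace_id, smul_eq_mul,
        mul_div_cancel_right₀ _ hn]
    let f : Subgroup.center G →* ℂ :=
      { toFun := c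
        map_one' := by rw [hχ, Subgroup.coe_one, Representation.char_one, div_self hn]
        map_mul' := fun a b => by
          rw [hχ (a * b), Subgroup.coe_mul,
            CfsgLib.CharIntegral.character_smul_of_scalar ρ (hc a), hχ b, mul_div_assoc] }
    refine isCyclic_of_injective_ringHom f fun a b h => Subtype.ext (hinj ?_)
    rw [hc a, hc b, show c a = c b from h]
  · intro hcyc
    rcases subsingleton_or_nontrivial G with hG1 | hG1
    · obtain ⟨n, ρ, hρ, -⟩ := (CfsgLib.Char.trivChar G).2
      exact ⟨n, ρ, hρ, fun a b _ => Subsingleton.elim a b⟩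
    have hdvd : p ∣ Nat.card (Subgroup.center G) := by
      have := hG.center_nontrivial
      obtain ⟨k, hk, hk'⟩ := (hG.to_subgroup (Subgroup.center G)).nontrivial_iff_card.mp this
      exact hk' ▸ dvd_pow_self p hk.ne'
    obtain ⟨z, hz⟩ := exists_prime_orderOf_dvd_card' p hdvd
    have hz1 : (z : G) ≠ 1 := fun h => (Fact.out : p.Prime).ne_one (by
      rw [← hz, orderOf_eq_one_iff]; exact Subtype.ext h)
    have := Fintype.ofFinite (Cfsg.IrrCharacter G)
    obtain ⟨χ, hχ⟩ : ∃ χ : Cfsg.IrrCharacter G, (χ : G → ℂ) z ≠ (χ : G → ℂ) 1 := by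
      by_contra hcon
      push Not at hcon
      have h := CfsgLib.Char.sum_degree_mul_apply_of_ne_one hz1
      rw [Finset.sum_congr rfl (g := fun χ : Cfsg.IrrCharacter G => (χ : G → ℂ) 1 ^ 2),
        CfsgLib.Char.sum_sq_degree] at h
      · exact Nat.cast_ne_zero.mpr Nat.card_pos.ne' h
      · exact fun χ _ => by rw [hcon χ, sq]
    obtain ⟨n, ρ, hρ, hχρ⟩ := χ.2
    refine ⟨n, ρ, hρ, (MonoidHom.ker_eq_bot_iff ρ).mp ?_⟩
    by_contra hker
    set K := MonoidHom.ker ρ with hK
    have hKn : Nontrivial K := K.nontrivial_iff_ne_bot.mpr hker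
    obtain ⟨k, hk, hk'⟩ := (hG.to_subgroup K).nontrivial_iff_card.mp hKn
    have hfix1 : (1 : K) ∈ MulAction.fixedPoints (ConjAct G) K := fun g => smul_one g
    obtain ⟨b, hb, hb1⟩ := (hG.of_equiv ConjAct.toConjAct).exists_fixed_point_of_prime_dvd_card_of_fixed_point
      K (hk' ▸ dvd_pow_self p hk.ne') hfix1
    have hbc : (b : G) ∈ Subgroup.center G := by
      rw [Subgroup.mem_center_iff]
      intro g
      have h : g * (b : G) * g⁻¹ = b := congrArg Subtype.val (hb (ConjAct.toConjAct g))
      exact mul_inv_eq_iff_eq_mul.mp h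
    -- `K ∩ Z(G)` is a nontrivial subgroup of the cyclic `p`-group `Z(G)`, so contains `z`
    let B : Subgroup (Subgroup.center G) := Subgroup.zpowers ⟨(b : G), hbc⟩
    have hB : Nontrivial B := B.nontrivial_iff_ne_bot.mpr fun h => hb1 (by
      rw [Subgroup.zpowers_eq_bot] at h
      exact (Subtype.ext (show (b : G) = ((1 : K) : G) from congrArg (fun x : Subgroup.center G => (x : G)) h)).symm)
    obtain ⟨j, hj, hj'⟩ := ((hG.to_subgroup (Subgroup.center G)).to_subgroup B).nontrivial_iff_card.mp hB
    obtain ⟨w, hw⟩ := exists_prime_orderOf_dvd_card' (G := B) p (hj' ▸ dvd_pow_self p hj.ne')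
    have := Fintype.ofFinite (Subgroup.center G)
    have hzB : z ∈ B := by
      have hsub : Finset.univ.filter (fun x => x ∈ Subgroup.zpowers (w : Subgroup.center G)) ⊆
          Finset.univ.filter (fun x : Subgroup.center G => x ^ p = 1) := by
        intro x hx
        rw [Finset.mem_filter] at hx ⊢
        refine ⟨hx.1, orderOf_dvd_iff_pow_eq_one.mp ?_⟩
        exact (orderOf_dvd_of_mem_zpowers hx.2).trans (dvd_of_eq ((Subgroup.orderOf_coe w).trans hw))
      have heq := Finset.eq_of_subset_of_card_le hsub (by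
        rw [← Fintype.card_subtype fun x => x ∈ Subgroup.zpowers (w : Subgroup.center G),
          ← Nat.card_eq_fintype_card, Nat.card_zpowers, Subgroup.orderOf_coe, hw]
        exact IsCyclic.card_pow_eq_one_le (Fact.out : p.Prime).pos)
      have hzm : z ∈ Finset.univ.filter (fun x : Subgroup.center G => x ^ p = 1) := by
        rw [Finset.mem_filter, ← hz]
        exact ⟨Finset.mem_univ _, pow_orderOf_eq_one z⟩
      rw [← heq, Finset.mem_filter] at hzm
      exact Subgroup.zpowers_le.mpr w.2 hzm.2
    obtain ⟨i, hi⟩ := Subgroup.mem_zpowers_iff.mp hzB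
    have hzK : (z : G) ∈ K := by
      rw [← hi, Subgroup.coe_zpow]
      exact K.zpow_mem b.2 i
    refine hχ ?_
    rw [← hχρ, Representation.char_one, Representation.character, MonoidHom.mem_ker.mp hzK,
      LinearMap.trace_one]

end Cfsg.Agent.S0184
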