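import Cfsg.Statements.S0185
import Cfsg.Agent.Lib.Char.Basic
import Cfsg.Agent.Lib.Char.Central

set_option autoImplicit false
open Cfsg

namespace Cfsg.Agent.S0185

/-- If a finite group has a faithful complex representation of degree less than the smallest prime dividing its order, the group is abelian. -/
theorem result {G : Type*} [Group G] [Finite G] {V : Type*} [AddCommGroup V] [Module ℂ V] [FiniteDimensional ℂ V] (ρ : Representation ℂ G V) (hfaithful : Function.Injective ρ) (hdeg : ∀ p : ℕ, p.Prime → p ∣ Nat.card G → Module.finrank ℂ V < p) (a b : G) : a * b = b * a := by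
  classical
  obtain ⟨s, hs⟩ := CfsgLib.Char.exists_multiset ρ
  have hlin : ∀ χ ∈ s, (χ : G → ℂ) 1 = 1 := by
    intro χ hχ
    obtain ⟨n, σ, hσ, hχσ⟩ := χ.2
    have hdvd := CfsgLib.CharIntegral.finrank_dvd_card σ
    have hle : Module.finrank ℂ (Fin n → ℂ) ≤ Module.finrank ℂ V := by
      obtain ⟨t, rfl⟩ := Multiset.exists_cons_of_mem hχ
      have hnat : ∀ u : Multiset (Cfsg.IrrCharacter G),
          ∃ m : ℕ, (u.map Subtype.val).sum (1 : G) = (m : ℂ) := by
        intro u
        induction u using Multiset.induction with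
        | empty => exact ⟨0, by simp⟩
        | cons a u ih =>
          obtain ⟨m, hm⟩ := ih
          obtain ⟨k, -, hk⟩ := CfsgLib.Char.IsIrr.exists_degree a.2
          exact ⟨k + m, by simp [hk, hm]⟩
      obtain ⟨m, hm⟩ := hnat t
      have h1 := congrFun hs 1
      rw [Multiset.map_cons, Multiset.sum_cons, Pi.add_apply, ← hχσ, Representation.char_one,
        Representation.char_one, hm, ← Nat.cast_add, Nat.cast_inj] at h1
      omega
    rw [← hχσ, Representation.char_one]
    by_contra h1
    obtain ⟨p, hp, hpd⟩ := Nat.exists_prime_and_dvd (n := Module.finrank ℂ (Fin n → ℂ))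
      (fun h => h1 (by rw [h, Nat.cast_one]))
    have := Nat.le_of_dvd (CfsgLib.CharIntegral.finrank_pos_of_irreducible σ) hpd
    have := hdeg p hp (hpd.trans hdvd)
    omega
  have hc : ρ.character (a * b * a⁻¹ * b⁻¹) = ρ.character 1 := by
    rw [hs]
    clear hs
    induction s using Multiset.induction with
    | empty => rfl
    | cons χ t ih =>
      rw [Multiset.map_cons, Multiset.sum_cons, Pi.add_apply, Pi.add_apply,
        ih fun ψ hψ => hlin ψ (Multiset.mem_cons_of_mem hψ)]
      obtain ⟨l, hl⟩ := CfsgLib.Char.exists_linear_of_degree_one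
        (CfsgLib.Char.IsIrr.isCharacter χ.2) (hlin χ (Multiset.mem_cons_self χ t))
      have hone : l (a * b * a⁻¹ * b⁻¹) = 1 := by
        rw [map_mul, map_mul, map_mul, map_inv, map_inv, mul_inv_cancel_comm, mul_inv_cancel]
      rw [hl]
      simp [hone]
  rw [Representation.char_one] at hc
  have h := (CfsgLib.CharIntegral.character_eq_finrank_iff ρ _).mp hc
  have h2 : a * b * a⁻¹ * b⁻¹ = 1 := hfaithful (h.trans (map_one ρ).symm)
  exact mul_inv_eq_iff_eq_mul.mp (mul_inv_eq_one.mp h2)

end Cfsg.Agent.S0185
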