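import Cfsg.Statements.S0186
import Cfsg.Agent.S0185
import Cfsg.Agent.Lib.Char.Complete
import Cfsg.Agent.Lib.Char.Integral
import Mathlib.GroupTheory.Sylow
import Mathlib.GroupTheory.SpecificGroups.Cyclic

set_option autoImplicit false
open Cfsg

namespace Cfsg.Agent.S0186

/-- Let G be a finite simple group of order n and p a prime dividing n. If G has more than n / p^2 conjugacy classes, then every Sylow p-subgroup of G is abelian. -/
theorem result {G : Type*} [Group G] [Finite G] [IsSimpleGroup G] (p : ℕ) [Fact p.Prime] (hp : p ∣ Nat.card G) (hmany : Nat.card G < p ^ 2 * Nat.card (ConjClasses G)) (P : Sylow p G) (a b : G) (ha : a ∈ P) (hb : b ∈ P) : a * b = b * a := by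
  classical
  by_cases hp2 : p ^ 2 ∣ Nat.card G
  swap
  · have hP : Nat.card P = p := by
      rw [P.card_eq_multiplicity]
      have h1 : (Nat.card G).factorization p = 1 := by
        refine le_antisymm ?_ ((Fact.out : p.Prime).factorization_pos_of_dvd Nat.card_pos.ne' hp)
        by_contra h
        exact hp2 (((Fact.out : p.Prime).pow_dvd_iff_le_factorization Nat.card_pos.ne').mpr (by omega))
      rw [h1, pow_one]
    have : IsCyclic P := isCyclic_of_prime_card hP
    exact congrArg Subtype.val
      ((IsCyclic.isMulCommutative (α := P)).is_comm.comm (⟨a, ha⟩ : P) ⟨b, hb⟩)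
  have := Fintype.ofFinite (Cfsg.IrrCharacter G)
  obtain ⟨χ, hne, hlt⟩ : ∃ χ : Cfsg.IrrCharacter G, χ ≠ CfsgLib.Char.trivChar G ∧
      ∃ n : ℕ, (χ : G → ℂ) 1 = n ∧ n < p := by
    by_contra hcon
    push Not at hcon
    choose d hd0 hd using fun χ : Cfsg.IrrCharacter G => CfsgLib.Char.IsIrr.exists_degree χ.2
    have hsum : ∑ χ, d χ ^ 2 = Nat.card G := by
      have h := CfsgLib.Char.sum_sq_degree (G := G)
      simp only [hd] at h
      exact_mod_cast h
    rw [← Finset.add_sum_erase _ _ (Finset.mem_univ (CfsgLib.Char.trivChar G))] at hsum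
    have hk : Fintype.card (Cfsg.IrrCharacter G) = Nat.card (ConjClasses G) := by
      rw [← CfsgLib.Char.card_irrCharacter, Nat.card_eq_fintype_card]
    have h1 : d (CfsgLib.Char.trivChar G) = 1 := by
      have h := hd (CfsgLib.Char.trivChar G)
      rw [CfsgLib.Char.trivChar_apply] at h
      exact_mod_cast h.symm
    have h2 : (Finset.univ.erase (CfsgLib.Char.trivChar G)).card • p ^ 2 ≤
        ∑ χ ∈ Finset.univ.erase (CfsgLib.Char.trivChar G), d χ ^ 2 :=
      Finset.card_nsmul_le_sum _ _ _ fun χ hχ =>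
        Nat.pow_le_pow_left (hcon χ (Finset.mem_erase.mp hχ).1 _ (hd χ)) 2
    rw [Finset.card_erase_of_mem (Finset.mem_univ _), Finset.card_univ, hk, smul_eq_mul,
      Nat.sub_mul, one_mul] at h2
    obtain ⟨m, hm⟩ := hp2
    have h5 : m < Nat.card (ConjClasses G) := by
      rw [hm] at hmany
      exact Nat.lt_of_mul_lt_mul_left hmany
    have h6 := Nat.mul_le_mul_left (p ^ 2) (Nat.succ_le_of_lt h5)
    have h7 : Nat.card (ConjClasses G) * p ^ 2 = p ^ 2 * Nat.card (ConjClasses G) := Nat.mul_comm _ _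
    rw [Nat.mul_succ, ← hm] at h6
    rw [h1, one_pow] at hsum
    omega
  obtain ⟨n, ρ, hρ, hχ⟩ := χ.2
  obtain ⟨d, hd, hdp⟩ := hlt
  rw [← hχ, Representation.char_one, Nat.cast_inj] at hd
  have hinj : Function.Injective ρ := by
    rcases IsSimpleGroup.eq_bot_or_eq_top_of_normal (MonoidHom.ker ρ) inferInstance with h | h
    · exact (MonoidHom.ker_eq_bot_iff ρ).mp h
    · exfalso
      refine hne (Subtype.ext (funext fun g => ?_))
      have := Fintype.ofFinite G
      have hall : ∀ x : G, ρ x = 1 := fun x => MonoidHom.mem_ker.mp (h ▸ Subgroup.mem_top x)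
      have h2 := CfsgLib.Char.classInner_irr_self χ
      rw [← hχ] at h2
      simp only [Cfsg.classInner, Representation.character, hall, LinearMap.trace_one,
        Complex.conj_natCast, Finset.sum_const, Finset.card_univ, nsmul_eq_mul,
        ← Nat.card_eq_fintype_card] at h2
      rw [← mul_assoc, inv_mul_cancel₀ (Nat.cast_ne_zero.mpr Nat.card_pos.ne'), one_mul] at h2
      have h3 : Module.finrank ℂ (Fin n → ℂ) * Module.finrank ℂ (Fin n → ℂ) = 1 := by exact_mod_cast h2
      rw [CfsgLib.Char.trivChar_apply, ← hχ, Representation.character, hall, LinearMap.trace_one,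
        Nat.eq_one_of_mul_eq_one_right h3, Nat.cast_one]
  have h := Cfsg.Agent.S0185.result (G := P) (ρ.comp (P : Subgroup G).subtype)
    (hinj.comp Subtype.val_injective) (fun q hq hqd => ?_) ⟨a, ha⟩ ⟨b, hb⟩
  · exact congrArg Subtype.val h
  · obtain ⟨k, hk⟩ := IsPGroup.iff_card.mp P.2
    rw [show Nat.card P = p ^ k from hk] at hqd
    rw [hd, (Nat.prime_dvd_prime_iff_eq hq Fact.out).mp (hq.dvd_of_dvd_pow hqd)]
    exact hdp

end Cfsg.Agent.S0186
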