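import Cfsg.Statements.S0187
import Cfsg.Agent.Lib.Char.Complete

set_option autoImplicit false
open Cfsg

namespace Cfsg.Agent.S0187

/-- A finite group is commutative if and only if every irreducible complex character has degree 1. -/
theorem result {G : Type*} [Group G] [Finite G] : (∀ a b : G, a * b = b * a) ↔ ∀ χ : Cfsg.IrrCharacter G, (χ : G → ℂ) 1 = 1 := by
  classical
  constructor
  · intro hcomm χ
    obtain ⟨n, ρ, hρ, hχ⟩ := χ.2
    have : IsMulCommutative G := ⟨⟨hcomm⟩⟩
    rw [← hχ, Representation.char_one,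
      Representation.IsIrreducible.finrank_eq_one_of_isMulCommutative ρ, Nat.cast_one]
  · intro h a b
    have := Fintype.ofFinite (Cfsg.IrrCharacter G)
    by_contra hab
    have hc : a * b * a⁻¹ * b⁻¹ ≠ 1 := fun hc =>
      hab (mul_inv_eq_iff_eq_mul.mp (mul_inv_eq_one.mp hc))
    have hz := CfsgLib.Char.sum_degree_mul_apply_of_ne_one hc
    rw [Finset.sum_congr rfl (g := fun χ : Cfsg.IrrCharacter G => (χ : G → ℂ) 1 ^ 2),
      CfsgLib.Char.sum_sq_degree] at hz
    · exact Nat.cast_ne_zero.mpr Nat.card_pos.ne' hz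
    · intro χ _
      obtain ⟨l, hl⟩ := CfsgLib.Char.exists_linear_of_degree_one
        (CfsgLib.Char.IsIrr.isCharacter χ.2) (h χ)
      have hone : l (a * b * a⁻¹ * b⁻¹) = 1 := by
        rw [map_mul, map_mul, map_mul, map_inv, map_inv, mul_inv_cancel_comm, mul_inv_cancel]
      rw [sq, hl]
      simp [hone]

end Cfsg.Agent.S0187
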