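import Cfsg.Statements.S0188
import Cfsg.Agent.Lib.Char.Complete

set_option autoImplicit false
open Cfsg
open scoped ComplexConjugate

namespace Cfsg.Agent.S0188

/-- The irreducible complex characters of G × H are precisely the functions (g, h) ↦ φ g * ψ h with φ, ψ irreducible characters of G and H. -/
theorem result {G : Type*} [Group G] [Finite G] {H : Type*} [Group H] [Finite H] (θ : G × H → ℂ) : Cfsg.IsIrrCharacter (G × H) θ ↔ ∃ (φ : G → ℂ) (ψ : H → ℂ), Cfsg.IsIrrCharacter G φ ∧ Cfsg.IsIrrCharacter H ψ ∧ θ = fun x => φ x.1 * ψ x.2 := by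
  classical
  have := Fintype.ofFinite G
  have := Fintype.ofFinite H
  have hinner : ∀ (a c : G → ℂ) (b d : H → ℂ),
      Cfsg.classInner (fun x : G × H => a x.1 * b x.2) (fun x : G × H => c x.1 * d x.2) =
        Cfsg.classInner a c * Cfsg.classInner b d := by
    intro a c b d
    simp only [Cfsg.classInner, Nat.card_prod, Nat.cast_mul, map_mul, Fintype.sum_prod_type]
    rw [mul_inv, mul_mul_mul_comm _ (∑ g, a g * _), Finset.sum_mul_sum]
    congr 1
    refine Finset.sum_congr rfl fun g _ => Finset.sum_congr rfl fun h _ => ?_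
    ring
  have hback : ∀ (φ : G → ℂ) (ψ : H → ℂ), Cfsg.IsIrrCharacter G φ → Cfsg.IsIrrCharacter H ψ →
      Cfsg.IsIrrCharacter (G × H) (fun x => φ x.1 * ψ x.2) := by
    intro φ ψ hφ hψ
    refine CfsgLib.Char.IsChar.isIrr_of_classInner_eq_one
      (CfsgLib.Char.IsChar.mul
        (CfsgLib.Char.IsChar.comp (MonoidHom.fst G H) (CfsgLib.Char.IsIrr.isCharacter hφ))
        (CfsgLib.Char.IsChar.comp (MonoidHom.snd G H) (CfsgLib.Char.IsIrr.isCharacter hψ))) ?_
    exact (hinner φ φ ψ ψ).trans (by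
      rw [CfsgLib.Char.classInner_irr_self ⟨φ, hφ⟩, CfsgLib.Char.classInner_irr_self ⟨ψ, hψ⟩,
        one_mul])
  refine ⟨fun hθ => ?_, ?_⟩
  swap
  · rintro ⟨φ, ψ, hφ, hψ, rfl⟩
    exact hback φ ψ hφ hψ
  by_contra hcon
  push Not at hcon
  have horth : ∀ (φ : Cfsg.IrrCharacter G) (ψ : Cfsg.IrrCharacter H),
      Cfsg.classInner θ (fun x : G × H => (φ : G → ℂ) x.1 * (ψ : H → ℂ) x.2) = 0 := fun φ ψ =>
    CfsgLib.Char.classInner_irr_of_ne (χ := ⟨θ, hθ⟩) (ψ := ⟨_, hback φ ψ φ.2 ψ.2⟩)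
      fun h => hcon φ ψ φ.2 ψ.2 (congrArg Subtype.val h)
  have hθc := CfsgLib.Char.IsIrr.isClassFunction hθ
  have hz : ∀ (g : G) (h : H), θ (g, h) = 0 := by
    have h1 : ∀ ψ : Cfsg.IrrCharacter H,
        (fun g => ∑ h, θ (g, h) * conj ((ψ : H → ℂ) h)) = 0 := by
      intro ψ
      refine CfsgLib.Char.eq_zero_of_classInner_eq_zero (fun g k => ?_) fun φ => ?_
      · refine Finset.sum_congr rfl fun h _ => ?_
        have := hθc (g, h) (k, 1)
        simp only [Prod.mk_mul_mk, Prod.inv_mk, inv_one, mul_one, one_mul] at this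
        rw [this]
      · have h := horth φ ψ
        simp only [Cfsg.classInner, Fintype.sum_prod_type, map_mul, Nat.card_prod, Nat.cast_mul,
          mul_eq_zero, inv_eq_zero, Nat.cast_eq_zero, Nat.card_pos.ne', or_self, false_or] at h ⊢
        rw [← h]
        refine Finset.sum_congr rfl fun g _ => ?_
        rw [Finset.sum_mul]
        exact Finset.sum_congr rfl fun k _ => by ring
    intro g
    refine fun h => congrFun (CfsgLib.Char.eq_zero_of_classInner_eq_zero (θ := fun h => θ (g, h))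
      (fun a b => ?_) fun ψ => ?_) h
    · have := hθc (g, a) (1, b)
      simpa using this
    · rw [Cfsg.classInner, show ∑ k, θ (g, k) * conj ((ψ : H → ℂ) k) = 0 from congrFun (h1 ψ) g,
        mul_zero]
  exact CfsgLib.Char.IsIrr.ne_zero hθ (funext fun x => hz x.1 x.2)

end Cfsg.Agent.S0188
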