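import Cfsg.Statements.S0191
import Cfsg.Agent.Lib.CharAction.Galois
import Cfsg.Agent.Lib.Char.Central

set_option autoImplicit false
open Cfsg

namespace Cfsg.Agent.S0191

/-- An irreducible complex representation of a finite group of degree greater than 1 has a character that vanishes somewhere. -/
theorem result {G : Type*} [Group G] [Finite G] {V : Type*} [AddCommGroup V] [Module ℂ V] [FiniteDimensional ℂ V] (ρ : Representation ℂ G V) [ρ.IsIrreducible] (hdeg : 1 < Module.finrank ℂ V) : ∃ g : G, ρ.character g = 0 := by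
  classical
  by_contra hcon
  push Not at hcon
  have := Fintype.ofFinite G
  obtain ⟨S, ⟨k₀, hk₀⟩, hS, w, hw, hkey⟩ := CfsgLib.CharAction.exists_galois_conjugates G
  have hnorm : ∑ g : G, ‖ρ.character g‖ ^ 2 = (Nat.card G : ℝ) := by
    have h := CfsgLib.CharIntegral.sum_character_mul_character_inv ρ
    simp only [CfsgLib.CharIntegral.character_inv, Complex.mul_conj, Complex.normSq_eq_norm_sq] at h
    exact_mod_cast h
  have hperm : ∀ k ∈ S, ∑ g ∈ Finset.univ.erase (1 : G), ‖ρ.character (g ^ k)‖ ^ 2 =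
      (Nat.card G : ℝ) - (Module.finrank ℂ V : ℝ) ^ 2 := by
    intro k hk
    have h := Fintype.sum_equiv (powCoprime (hS k hk).symm) (fun g => ‖ρ.character (g ^ k)‖ ^ 2)
      (fun g => ‖ρ.character g‖ ^ 2) (fun g => rfl)
    rw [hnorm, ← Finset.add_sum_erase _ _ (Finset.mem_univ (1 : G)), one_pow,
      Representation.char_one, Complex.norm_natCast] at h
    linarith
  set W : ℕ := ∑ k ∈ S, w k with hW
  have hWpos : (0 : ℝ) < W := by
    rw [hW, Nat.cast_pos]
    exact lt_of_lt_of_le (hw k₀ hk₀) (Finset.single_le_sum (fun k _ => Nat.zero_le _) hk₀)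
  have h1 : (Finset.univ.erase (1 : G)).card • (W : ℝ) ≤
      ∑ g ∈ Finset.univ.erase (1 : G), ∑ k ∈ S, (w k : ℝ) * ‖ρ.character (g ^ k)‖ ^ 2 :=
    Finset.card_nsmul_le_sum _ _ _ fun g _ => hkey ρ.character g
      (CfsgLib.Char.isCharacter_rep ρ) (hcon g)
  rw [Finset.sum_comm, Finset.sum_congr rfl (g := fun k =>
    (w k : ℝ) * ((Nat.card G : ℝ) - (Module.finrank ℂ V : ℝ) ^ 2)), ← Finset.sum_mul,
    ← Nat.cast_sum, ← hW, nsmul_eq_mul, Finset.card_erase_of_mem (Finset.mem_univ 1),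
    Finset.card_univ, ← Nat.card_eq_fintype_card, Nat.cast_sub Nat.card_pos, Nat.cast_one] at h1
  · have hn : (2 : ℝ) ≤ (Module.finrank ℂ V : ℝ) := by exact_mod_cast hdeg
    have h2 : (4 : ℝ) ≤ (Module.finrank ℂ V : ℝ) ^ 2 := by nlinarith
    nlinarith
  · intro k hk
    rw [← Finset.mul_sum, hperm k hk]

end Cfsg.Agent.S0191
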