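import Cfsg.Statements.S0192
import Cfsg.Agent.Lib.Char.Complete
import Cfsg.Agent.Lib.Char.Weights
import Mathlib.LinearAlgebra.Dimension.RankNullity

set_option autoImplicit false
open Cfsg

namespace Cfsg.Agent.S0192

/-- Brauer's generation criterion. Let G be a finite simple group, H₁ and H₂ subgroups, and χ a non-principal irreducible character. If the multiplicity of the principal character in χ restricted to H₁ ⊓ H₂ is less than the sum of the corresponding multiplicities for H₁ and H₂, then H₁ and H₂ do not generate G. -/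
theorem result {G : Type*} [Group G] [Fintype G] [IsSimpleGroup G] (H₁ H₂ : Subgroup G) [Fintype H₁] [Fintype H₂] [Fintype ↥(H₁ ⊓ H₂)] (χ : G → ℂ) (hχ : Cfsg.IsIrrCharacter G χ) (hχ1 : χ ≠ fun _ => 1) (hlt : (Cfsg.classInner (fun x : ↥(H₁ ⊓ H₂) => χ x) (fun _ => 1)).re < (Cfsg.classInner (fun x : H₁ => χ x) (fun _ => 1)).re + (Cfsg.classInner (fun x : H₂ => χ x) (fun _ => 1)).re) : H₁ ⊔ H₂ ≠ ⊤ := by
  classical
  intro htop
  obtain ⟨n, ρ, hρ, rfl⟩ := hχ
  have hfix : ∀ (K : Subgroup G) [Fintype K],
      Cfsg.classInner (fun x : K => ρ.character x) (fun _ => 1) =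
        (Module.finrank ℂ (Representation.invariants (ρ.comp K.subtype)) : ℂ) := by
    intro K _
    have : Invertible (Nat.card K : ℂ) :=
      invertibleOfNonzero (Nat.cast_ne_zero.mpr Nat.card_pos.ne')
    rw [Cfsg.classInner, ← Representation.card_inv_mul_sum_char_eq_finrank]
    simp only [map_one, mul_one]
    rfl
  rw [hfix, hfix, hfix, Complex.natCast_re, Complex.natCast_re, Complex.natCast_re] at hlt
  set A := Representation.invariants (ρ.comp H₁.subtype) with hA
  set B := Representation.invariants (ρ.comp H₂.subtype) with hB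
  set C := Representation.invariants (ρ.comp (H₁ ⊓ H₂).subtype) with hC
  have hAC : A ≤ C := fun v hv x => hv ⟨x.1, x.2.1⟩
  have hBC : B ≤ C := fun v hv x => hv ⟨x.1, x.2.2⟩
  have hbot : A ⊓ B = ⊥ := by
    by_contra h0
    obtain ⟨v, hv, hv0⟩ := (Submodule.ne_bot_iff _).mp h0
    have hall : ∀ g : G, ρ g v = v := by
      intro g
      let S : Subgroup G :=
        { carrier := {g | ρ g v = v}
          mul_mem' := fun {a b} (ha : ρ a v = v) (hb : ρ b v = v) => by
            change ρ (a * b) v = v
            rw [map_mul, Module.End.mul_apply, hb, ha]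
          one_mem' := by simp
          inv_mem' := fun {a} (ha : ρ a v = v) => by
            change ρ a⁻¹ v = v
            conv_lhs => rw [← ha]
            rw [← Module.End.mul_apply, ← map_mul, inv_mul_cancel, map_one, Module.End.one_apply] }
      have : H₁ ⊔ H₂ ≤ S := sup_le (fun x hx => hv.1 ⟨x, hx⟩) (fun x hx => hv.2 ⟨x, hx⟩)
      exact this (htop ▸ Subgroup.mem_top g)
    have htopv : ℂ ∙ v = ⊤ := CfsgLib.CharWeights.eq_top_of_invariant ρ _ (fun g x hx => by
      obtain ⟨c, rfl⟩ := Submodule.mem_span_singleton.mp hx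
      rw [map_smul, hall g]
      exact Submodule.smul_mem _ c (Submodule.mem_span_singleton_self v))
      (by simpa [Submodule.span_singleton_eq_bot] using hv0)
    refine hχ1 (funext fun g => ?_)
    have h1 : ρ g = 1 := LinearMap.ext fun w => by
      obtain ⟨c, rfl⟩ := Submodule.mem_span_singleton.mp (htopv ▸ Submodule.mem_top (x := w))
      rw [map_smul, hall g, Module.End.one_apply]
    have hdim : Module.finrank ℂ (Fin n → ℂ) = 1 := by
      rw [← finrank_top ℂ (Fin n → ℂ), ← htopv, finrank_span_singleton hv0]
    rw [Representation.character, h1, LinearMap.trace_one, hdim, Nat.cast_one]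
  have h := Submodule.finrank_sup_add_finrank_inf_eq A B
  rw [hbot, finrank_bot, add_zero] at h
  have h2 := Submodule.finrank_mono (sup_le hAC hBC)
  have h3 : Module.finrank ℂ C < Module.finrank ℂ A + Module.finrank ℂ B := by exact_mod_cast hlt
  omega

end Cfsg.Agent.S0192
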