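import Cfsg.Statements.S0196
import Mathlib.GroupTheory.GroupAction.Quotient
import Mathlib.Tactic.Group
import Mathlib.Algebra.BigOperators.Ring.Finset

set_option autoImplicit false
open Cfsg

namespace Cfsg.Agent.S0196

/-- Let A be a subgroup of a finite group G that equals the centralizer of each of its non-identity elements, and let N be its normalizer. Then the index of A in N divides |A| − 1 (N/A permutes the non-identity elements of A in orbits of full length). -/
theorem result {G : Type*} [Group G] [Finite G] (A : Subgroup G) (hA : ∀ x ∈ A, x ≠ 1 → Subgroup.centralizer ({x} : Set G) = A) : (A.subgroupOf (Subgroup.normalizer (A : Set G))).index ∣ Nat.card A - 1 := by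
  classical
  have := Fintype.ofFinite G
  set N := Subgroup.normalizer (A : Set G) with hN
  -- `N` acts on the non-identity elements of `A`; every stabiliser is `A`.
  let _ : MulAction N {a : A // a ≠ 1} :=
    { smul := fun n a => ⟨⟨(n : G) * ((a : A) : G) * (n : G)⁻¹,
          (Subgroup.mem_normalizer_iff.mp n.2 _).mp a.1.2⟩, fun h => a.2 (Subtype.ext
            (conj_eq_one_iff.mp (congrArg Subtype.val h)))⟩
      one_smul := fun a => Subtype.ext (Subtype.ext (show (1 : G) * _ * (1 : G)⁻¹ = _ by simp))
      mul_smul := fun m n a => Subtype.ext (Subtype.ext (show ((m : G) * n) * _ * ((m : G) * n)⁻¹ =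
        (m : G) * ((n : G) * _ * (n : G)⁻¹) * (m : G)⁻¹ by group)) }
  have hstab : ∀ a : {a : A // a ≠ 1}, MulAction.stabilizer N a = A.subgroupOf N := by
    intro a
    ext n
    rw [MulAction.mem_stabilizer_iff, Subgroup.mem_subgroupOf]
    have h := hA _ a.1.2 (fun h => a.2 (Subtype.ext h))
    constructor
    · intro hn
      have h2 : (n : G) * ((a : A) : G) * (n : G)⁻¹ = ((a : A) : G) :=
        congrArg (fun b : {a : A // a ≠ 1} => ((b : A) : G)) hn
      have h3 := Subgroup.mem_centralizer_singleton_iff.mpr (mul_inv_eq_iff_eq_mul.mp h2)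
      rwa [h] at h3
    · intro hn
      rw [← h, Subgroup.mem_centralizer_singleton_iff] at hn
      exact Subtype.ext (Subtype.ext (show (n : G) * ((a : A) : G) * (n : G)⁻¹ = ((a : A) : G) by
        rw [hn]; simp))
  have hcard : Nat.card A - 1 = Nat.card {a : A // a ≠ 1} := by
    simp [Nat.card_eq_fintype_card]
  rw [hcard, Nat.card_congr (MulAction.selfEquivSigmaOrbitsQuotientStabilizer N {a : A // a ≠ 1}),
    Nat.card_sigma]
  exact Finset.dvd_sum fun ω _ => by rw [hstab]; exact dvd_rfl

end Cfsg.Agent.S0196
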