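import Cfsg.Statements.S0211
import Cfsg.Agent.Lib.Signalizer.Involutions

set_option autoImplicit false
open Cfsg

namespace Cfsg.Agent.S0211

/-- Let x, y be involutions with xy of even order n and z = (xy)^(n/2). Then xz is conjugate to x by an element of the subgroup generated by x, y if and only if 4 divides n. -/
theorem result {G : Type*} [Group G] [Finite G] (x y : G) (hx : orderOf x = 2) (hy : orderOf y = 2) (heven : Even (orderOf (x * y))) : (∃ d ∈ Subgroup.closure ({x, y} : Set G), d * x * d⁻¹ = x * (x * y) ^ (orderOf (x * y) / 2)) ↔ 4 ∣ orderOf (x * y) := by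
  obtain ⟨h1, h2, h3⟩ := CfsgLib.Signalizer.central_involution hx hy heven
  have he := h2.eq.symm
  obtain ⟨m, hm⟩ := heven
  have hdiv : orderOf (x * y) / 2 = m := by omega
  rw [hdiv] at he ⊢
  rw [he, ← zpow_natCast]
  constructor
  · rintro ⟨d, hd, h⟩
    obtain ⟨j, hj⟩ := CfsgLib.Signalizer.conj_left_cases hx hy hd
    rw [hj, mul_left_inj, zpow_eq_zpow_iff_modEq, Int.modEq_iff_dvd, hm] at h
    obtain ⟨q, hq⟩ := h
    push_cast at hq
    have h2m : (2 : ℤ) ∣ m := ⟨(m : ℤ) * q + j, by linarith [hq]⟩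
    omega
  · intro h4
    obtain ⟨d, hd, h⟩ := CfsgLib.Signalizer.exists_conj_pair_zpow hx hy ((m / 2 : ℕ) : ℤ)
    refine ⟨d, hd, h.trans ?_⟩
    congr 2
    omega

end Cfsg.Agent.S0211
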