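import Cfsg.Statements.S0212
import Cfsg.Agent.Lib.Signalizer.BrauerFowler

set_option autoImplicit false
open Cfsg

namespace Cfsg.Agent.S0212

/-- The Brauer–Fowler bound: if G is a finite simple group and t an involution of G whose centralizer has order n, then |G| ≤ (2n^2)!. -/
theorem result {G : Type*} [Group G] [Finite G] [IsSimpleGroup G] (t : G) (ht : orderOf t = 2) : Nat.card G ≤ Nat.factorial (2 * (Nat.card (Subgroup.centralizer ({t} : Set G))) ^ 2) := by
  haveI : Nontrivial G := IsSimpleGroup.toNontrivial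
  set c := Nat.card (Subgroup.centralizer ({t} : Set G)) with hc
  have hc1 : 1 ≤ c := Nat.card_pos
  rcases Subgroup.Normal.eq_bot_or_eq_top (inferInstance : (Subgroup.center G).Normal) with hZ | hZ
  swap
  · have hle : Nat.card G ≤ c := by
      have : Subgroup.centralizer ({t} : Set G) = ⊤ := by
        rw [eq_top_iff]
        intro g _
        rw [Subgroup.mem_centralizer_singleton_iff]
        exact Subgroup.mem_center_iff.mp (hZ ▸ Subgroup.mem_top t) g
      rw [hc, this, Subgroup.card_top]
    exact hle.trans ((Nat.le_self_pow (by norm_num) c).trans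
      ((Nat.le_mul_of_pos_left _ (by norm_num)).trans (Nat.self_le_factorial _)))
  have hne : ∀ x : G, x ≠ 1 → Subgroup.centralizer ({x} : Set G) ≠ ⊤ := by
    intro x hx e
    apply hx
    rw [← Subgroup.mem_bot, ← hZ, Subgroup.mem_center_iff]
    exact fun g => Subgroup.mem_centralizer_singleton_iff.mp (e ▸ Subgroup.mem_top g)
  classical
  haveI := Fintype.ofFinite G
  obtain ⟨x0, hx0, hmax⟩ := (Finset.univ.filter fun x : G => x ≠ 1).exists_max_image
    (fun x => Nat.card (Subgroup.centralizer ({x} : Set G)))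
    ⟨t, by simp [CfsgLib.Signalizer.involution_ne_one ht]⟩
  set H := Subgroup.centralizer ({x0} : Set G) with hH
  have hsq := CfsgLib.Signalizer.brauer_fowler_sq (H := H) fun x hx => hmax x (by simp [hx])
  set m := Nat.card {t : G // orderOf t = 2} with hm
  have hgm := CfsgLib.Signalizer.card_le_mul_card_involutions ht
  have hm2 : 2 ≤ m := by
    obtain ⟨g, hg⟩ : ∃ g : G, g * t * g⁻¹ ≠ t := by
      by_contra hcon
      push Not at hcon
      refine hne t (CfsgLib.Signalizer.involution_ne_one ht) (eq_top_iff.mpr fun g _ => ?_)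
      exact Subgroup.mem_centralizer_singleton_iff.mpr (mul_inv_eq_iff_eq_mul.mp (hcon g))
    haveI : Nontrivial {t : G // orderOf t = 2} :=
      ⟨⟨⟨t, ht⟩, ⟨g * t * g⁻¹, (CfsgLib.Signalizer.orderOf_conj g t).trans ht⟩,
        fun e => hg (congrArg Subtype.val e).symm⟩⟩
    exact Finite.one_lt_card
  have hi : H.index ≤ 2 * c ^ 2 := by
    by_contra hcon
    push Not at hcon
    have h1 := H.card_mul_index
    have h2 : m ^ 2 ≤ 2 * (Nat.card G * Nat.card H) := by nlinarith
    have hpos : 0 < Nat.card G * Nat.card H := Nat.mul_pos Nat.card_pos Nat.card_pos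
    have h3 : Nat.card G * Nat.card G ≤ m * c * (m * c) := Nat.mul_le_mul hgm hgm
    have h4 : Nat.card G * Nat.card H * (2 * c ^ 2) < Nat.card G * Nat.card H * H.index :=
      Nat.mul_lt_mul_of_pos_left hcon hpos
    rw [mul_assoc (Nat.card G) (Nat.card H) H.index, h1] at h4
    nlinarith [Nat.mul_le_mul_right (c ^ 2) h2]
  have hinj : Function.Injective (MulAction.toPermHom G (G ⧸ H)) := by
    rw [← MonoidHom.ker_eq_bot_iff, ← Subgroup.normalCore_eq_ker]
    refine (Subgroup.normalCore_normal H).eq_bot_or_eq_top.resolve_right fun e => ?_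
    exact hne x0 (Finset.mem_filter.mp hx0).2 (top_le_iff.mp (e ▸ Subgroup.normalCore_le H))
  refine (Nat.card_le_card_of_injective _ hinj).trans ?_
  rw [Nat.card_perm, ← Subgroup.index_eq_card]
  exact Nat.factorial_le hi

end Cfsg.Agent.S0212
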