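import Cfsg.Statements.S0216
import Cfsg.Agent.Lib.Signalizer.Involutions

set_option autoImplicit false
open Cfsg

namespace Cfsg.Agent.S0216

/-- For an involution u in a Sylow 2-subgroup P of a finite group G, the following are equivalent: no G-conjugate of u other than u lies in P; every commutator of u with an element of G has odd order. -/
theorem result {G : Type*} [Group G] [Finite G] (P : Sylow 2 G) (u : G) (hu : orderOf u = 2) (huP : u ∈ P) : (∀ g : G, g * u * g⁻¹ ∈ P → g * u * g⁻¹ = u) ↔ (∀ g : G, Odd (orderOf (u * g * u⁻¹ * g⁻¹))) := by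
  constructor
  · intro hiso g
    have h := CfsgLib.Signalizer.odd_orderOf_mul_of_isolated P hu huP hiso
      (v := g * u * g⁻¹) (isConj_iff.mpr ⟨g, rfl⟩)
    have e : u * g * u⁻¹ * g⁻¹ = u * (g * u * g⁻¹) := by
      rw [CfsgLib.Signalizer.involution_inv hu]; group
    rwa [e]
  · intro h g hg
    refine CfsgLib.Signalizer.eq_of_odd_orderOf_mul P.isPGroup' huP hg hu ?_
    have e : u * (g * u * g⁻¹) = u * g * u⁻¹ * g⁻¹ := by
      rw [CfsgLib.Signalizer.involution_inv hu]; group
    rw [e]; exact h g

end Cfsg.Agent.S0216
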