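import Cfsg.Statements.S0218
import Cfsg.Agent.Lib.Signalizer.Involutions

set_option autoImplicit false
open Cfsg

namespace Cfsg.Agent.S0218

/-- The generalized quaternion group of order 2^(n+3) contains exactly one element of order 2. -/
theorem result (n : ℕ) : Nat.card {x : QuaternionGroup (2 ^ (n + 1)) // orderOf x = 2} = 1 := by
  rw [Nat.card_eq_one_iff_exists]
  set m : ℕ := 2 ^ (n + 1) with hm
  have hmpos : 0 < m := by rw [hm]; positivity
  have hne : QuaternionGroup.a (m : ZMod (2 * m)) ≠ 1 := by
    rw [QuaternionGroup.one_def]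
    simp only [ne_eq, QuaternionGroup.a.injEq]
    rw [ZMod.natCast_eq_zero_iff]
    intro h
    have := Nat.le_of_dvd hmpos h
    omega
  refine ⟨⟨.a (m : ZMod (2 * m)), ?_⟩, ?_⟩
  · refine CfsgLib.Signalizer.orderOf_eq_two_of hne ?_
    rw [QuaternionGroup.a_mul_a, ← Nat.cast_add, ← two_mul, ZMod.natCast_self,
      QuaternionGroup.a_zero]
  · rintro ⟨i | i, hi⟩
    · apply Subtype.ext
      show QuaternionGroup.a i = _
      haveI : NeZero (2 * m) := ⟨by omega⟩
      have h2 := CfsgLib.Signalizer.involution_sq hi
      rw [QuaternionGroup.a_mul_a, QuaternionGroup.one_def, QuaternionGroup.a.injEq,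
        ← ZMod.natCast_zmod_val i, ← Nat.cast_add, ZMod.natCast_eq_zero_iff] at h2
      have h1 := CfsgLib.Signalizer.involution_ne_one hi
      have hlt := ZMod.val_lt i
      obtain ⟨k, hk⟩ := h2
      have hv : i.val ≠ 0 := fun h => h1 (by rw [(ZMod.val_eq_zero i).mp h, QuaternionGroup.a_zero])
      have hk1 : k = 1 := by
        rcases k with _ | _ | k
        · omega
        · rfl
        · rw [show 2 * m * (k + 1 + 1) = 2 * m * k + 2 * m + 2 * m by ring] at hk
          omega
      subst hk1
      rw [← ZMod.natCast_zmod_val i]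
      congr 2
      omega
    · exfalso
      haveI : NeZero m := ⟨by omega⟩
      rw [QuaternionGroup.orderOf_xa] at hi
      omega

end Cfsg.Agent.S0218
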