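import Cfsg.Statements.S0221
import Cfsg.Agent.Lib.Signalizer.NormalSquare
import Cfsg.Agent.Lib.Transfer.ThompsonTransfer

set_option autoImplicit false
open Cfsg

namespace Cfsg.Agent.S0221

open Subgroup CfsgLib CfsgLib.Signalizer

/-- Let G be a finite group with no subgroup of index 2 whose 2-rank is at least 3 (it contains an elementary abelian subgroup of order 8). Then the centralizer of every involution of G also contains an elementary abelian subgroup of order 8. -/
theorem result {G : Type*} [Group G] [Finite G] (hno : ∀ H : Subgroup G, H.index ≠ 2) (hrank : ∃ E : Subgroup G, Nat.card E = 8 ∧ ∀ e ∈ E, e ^ 2 = 1) (x : G) (hx : orderOf x = 2) : ∃ E : Subgroup G, E ≤ Subgroup.centralizer ({x} : Set G) ∧ Nat.card E = 8 ∧ ∀ e ∈ E, e ^ 2 = 1 := by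
  obtain ⟨E, hE8, hEe⟩ := hrank
  have hEel : Cfsg.IsElementaryAbelian 2 E := ⟨⟨⟨fun a b => Subtype.ext (by
    have h := fun u (hu : u ∈ E) => inv_eq_of_mul_eq_one_right ((pow_two u).symm.trans (hEe u hu))
    show (a : G) * b = b * a
    rw [← h _ (mul_mem a.2 b.2), mul_inv_rev, h _ a.2, h _ b.2])⟩⟩, hEe⟩
  obtain ⟨S, hES⟩ := (elementary_isPGroup hEel).exists_le_sylow
  set E' := E.subgroupOf (S : Subgroup G)
  have hE' : Cfsg.IsElementaryAbelian 2 E' :=
    ⟨⟨⟨fun a b => Subtype.ext (Subtype.ext (elementary_comm hEel a.2 b.2))⟩⟩,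
      fun a ha => Subtype.ext (hEe a ha)⟩
  have hE'c : 2 ^ 3 ≤ Nat.card E' := by
    rw [Nat.card_congr (subgroupOfEquivOfLe hES).toEquiv, hE8]; norm_num
  obtain ⟨U, hUn, hU, hUc⟩ := exists_normal_square S.isPGroup' hE' hE'c
  set C := Subgroup.centralizer (U : Set ↥(S : Subgroup G))
  set Q := C.map (S : Subgroup G).subtype
  -- every involution of `Q` has a centralizer of rank three
  have hfin : ∀ y ∈ C, y ^ 2 = 1 → ∃ W : Subgroup ↥(S : Subgroup G), Cfsg.IsElementaryAbelian 2 W ∧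
      2 ^ 3 ≤ Nat.card W ∧ W ≤ Subgroup.centralizer {y} := by
    intro y hy hy2
    have hUy : U ≤ Subgroup.centralizer {y} := fun u hu =>
      mem_centralizer_singleton_iff.mpr (mem_centralizer_iff.mp hy u hu)
    by_cases hyU : y ∈ U
    · by_cases hle : C ⊓ E' ≤ U
      · have heq : C ⊓ E' = U := eq_of_le_of_card_ge hle
          (hUc.le.trans (square_le_inf_centralizer S.isPGroup' hUc hE'c))
        exact ⟨E', hE', hE'c, elementary_le_centralizer hE' (heq.ge hyU).2⟩
      · have hcomm : ∀ a ∈ U, ∀ b ∈ C ⊓ E', a * b = b * a := fun a ha b hb => mem_centralizer_iff.mp hb.1 a ha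
        refine ⟨U ⊔ C ⊓ E', isElementary_sup hU (elementary_of_le hE' inf_le_right) hcomm,
          sup_gt hU (elementary_of_le hE' inf_le_right) hcomm hle hUc.ge, sup_le hUy fun b hb => ?_⟩
        exact mem_centralizer_singleton_iff.mpr (mem_centralizer_iff.mp hb.1 y hyU).symm
    · have hz : Cfsg.IsElementaryAbelian 2 (zpowers y) := ⟨inferInstance, fun a ha => by
        obtain ⟨n, rfl⟩ := ha
        rw [← zpow_natCast, zpow_comm, zpow_natCast, hy2, one_zpow]⟩
      have hcomm : ∀ a ∈ U, ∀ b ∈ zpowers y, a * b = b * a := by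
        rintro a ha b ⟨n, rfl⟩
        exact ((show Commute a y from mem_centralizer_iff.mp hy a ha).zpow_right n).eq
      refine ⟨U ⊔ zpowers y, isElementary_sup hU hz hcomm, sup_gt hU hz hcomm
        (fun h => hyU (h (mem_zpowers y))) hUc.ge, sup_le hUy (zpowers_le.mpr ?_)⟩
      exact mem_centralizer_singleton_iff.mpr rfl
  obtain ⟨g, hg⟩ : ∃ g : G, g * x * g⁻¹ ∈ Q := by
    have hle := centralizer_index_le S.isPGroup' (A := U) hUc.le
    have hne : C.index ≠ 0 := index_ne_zero_of_finite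
    rcases (show C.index = 1 ∨ C.index = 2 by change C.index ≤ 2 at hle; omega) with h | h
    · have hQS : Q = (S : Subgroup G) := by
        rw [show Q = C.map (S : Subgroup G).subtype from rfl, index_eq_one.mp h,
          ← MonoidHom.range_eq_map, range_subtype]
      obtain ⟨T, hT⟩ := (IsPGroup.of_card (p := 2) (n := 1)
        (by rw [Nat.card_zpowers, hx, pow_one] : Nat.card (zpowers x) = 2 ^ 1)).exists_le_sylow
      obtain ⟨g, hg⟩ := MulAction.exists_smul_eq G T S
      exact ⟨g, by rw [hQS, ← hg]; exact ⟨x, hT (mem_zpowers x), rfl⟩⟩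
    · have hQi : Q.relIndex (S : Subgroup G) = 2 := by
        rw [relIndex, subgroupOf, comap_map_eq_self_of_injective (Subgroup.subtype_injective _)]
        exact h
      rcases Transfer.thompson_transfer S Q hQi hx with ⟨M, -, hM, -⟩ | hc
      · exact (hno M hM).elim
      · exact hc
  obtain ⟨y, hy, hyg⟩ := hg
  have hy2 : y ^ 2 = 1 := Subtype.ext (by
    rw [SubmonoidClass.coe_pow, show (y : G) = g * x * g⁻¹ from hyg, conj_pow,
      orderOf_dvd_iff_pow_eq_one.mp (dvd_of_eq hx)]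
    simp)
  obtain ⟨W, hW, hW3, hWC⟩ := hfin y hy hy2
  obtain ⟨W1, hW1⟩ := Sylow.exists_subgroup_card_pow_prime (G := ↥W) 2 (n := 3) (by
    obtain ⟨k, hk⟩ := (elementary_isPGroup hW).exists_card_eq
    rw [hk] at hW3 ⊢
    exact pow_dvd_pow 2 ((Nat.pow_le_pow_iff_right (by norm_num)).mp hW3))
  let f : ↥W →* G := (MulAut.conj g⁻¹).toMonoidHom.comp ((S : Subgroup G).subtype.comp W.subtype)
  have hf : Function.Injective f := (MulAut.conj g⁻¹).injective.comp
    ((Subgroup.subtype_injective _).comp W.subtype_injective)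
  refine ⟨W1.map f, ?_, by rw [card_map_of_injective hf, hW1]; norm_num, ?_⟩
  · rintro _ ⟨w, _, rfl⟩
    have h1 : (w.1.1 : G) * y = y * w.1.1 :=
      congrArg Subtype.val (mem_centralizer_singleton_iff.mp (hWC w.2))
    rw [show (y : G) = g * x * g⁻¹ from hyg] at h1
    refine mem_centralizer_singleton_iff.mpr ?_
    show g⁻¹ * (w.1.1 : G) * g⁻¹⁻¹ * x = x * (g⁻¹ * (w.1.1 : G) * g⁻¹⁻¹)
    calc g⁻¹ * (w.1.1 : G) * g⁻¹⁻¹ * x = g⁻¹ * ((w.1.1 : G) * (g * x * g⁻¹)) * g := by group
      _ = g⁻¹ * (g * x * g⁻¹ * w.1.1) * g := by rw [h1]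
      _ = _ := by group
  · rintro _ ⟨w, _, rfl⟩
    rw [← map_pow, show w ^ 2 = 1 from Subtype.ext (hW.2 _ w.2), map_one]

end Cfsg.Agent.S0221
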