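import Cfsg.Statements.S0223
import Cfsg.Agent.Lib.Signalizer.Embedded

set_option autoImplicit false
open Cfsg

namespace Cfsg.Agent.S0223

/-- Let H be a proper subgroup of even order of the finite group G. Then H is strongly embedded if and only if (i) C_G(t) ≤ H for every involution t of H and (ii) H controls fusion of its involutions: involutions of H conjugate in G are conjugate in H. -/
theorem result {G : Type*} [Group G] [Finite G] (H : Subgroup G) (hH : H ≠ ⊤) (heven : Even (Nat.card H)) : Cfsg.IsStronglyEmbedded H ↔ ((∀ t ∈ H, orderOf t = 2 → Subgroup.centralizer ({t} : Set G) ≤ H) ∧ (∀ t ∈ H, ∀ s ∈ H, orderOf t = 2 → orderOf s = 2 → IsConj t s → ∃ h ∈ H, h * t * h⁻¹ = s)) := by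
  rw [CfsgLib.Signalizer.stronglyEmbedded_iff_conj]
  constructor
  · rintro ⟨-, -, h⟩
    refine ⟨fun t htH ht g hg => h t htH ht g ?_, fun t htH s hsH ht _ hc => ?_⟩
    · rw [Subgroup.mem_centralizer_singleton_iff.mp hg, mul_inv_cancel_right]
      exact htH
    · obtain ⟨g, hg⟩ := isConj_iff.mp hc
      exact ⟨g, h t htH ht g (hg ▸ hsH), hg⟩
  · rintro ⟨h1, h2⟩
    refine ⟨hH, heven, fun t htH ht g hg => ?_⟩
    obtain ⟨k, hk, hkt⟩ := h2 t htH _ hg ht ((CfsgLib.Signalizer.orderOf_conj g t).trans ht)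
      (isConj_iff.mpr ⟨g, rfl⟩)
    have hc : k⁻¹ * g ∈ Subgroup.centralizer ({t} : Set G) := by
      rw [Subgroup.mem_centralizer_singleton_iff, ← mul_inv_eq_iff_eq_mul,
        show k⁻¹ * g * t * (k⁻¹ * g)⁻¹ = k⁻¹ * (g * t * g⁻¹) * k by group, ← hkt]
      group
    simpa using mul_mem hk (h1 t htH ht hc)

end Cfsg.Agent.S0223
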