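import Cfsg.Statements.S0224
import Cfsg.Agent.Lib.Signalizer.Embedded

set_option autoImplicit false
open Cfsg

namespace Cfsg.Agent.S0224

/-- Let H be a proper subgroup of even order of the finite group G. Then H is strongly embedded if and only if each involution of H fixes exactly one point (namely the coset H) in the action of G on the cosets of H. -/
theorem result {G : Type*} [Group G] [Finite G] (H : Subgroup G) (hH : H ≠ ⊤) (heven : Even (Nat.card H)) : Cfsg.IsStronglyEmbedded H ↔ ∀ t ∈ H, orderOf t = 2 → Nat.card {c : G ⧸ H // t • c = c} = 1 := by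
  rw [CfsgLib.Signalizer.stronglyEmbedded_iff_conj]
  have key : ∀ (t g : G), t • (g : G ⧸ H) = (g : G ⧸ H) ↔ g⁻¹ * t * g ∈ H := by
    intro t g
    rw [MulAction.Quotient.smul_mk, QuotientGroup.eq, ← inv_mem_iff]
    simp [mul_assoc]
  constructor
  · rintro ⟨-, -, h⟩ t htH ht
    rw [Nat.card_eq_one_iff_exists]
    refine ⟨⟨((1 : G) : G ⧸ H), (key t 1).mpr (by simpa using htH)⟩, ?_⟩
    rintro ⟨c, hc⟩
    obtain ⟨g, rfl⟩ := QuotientGroup.mk_surjective c
    have hg : g⁻¹ ∈ H := h t htH ht g⁻¹ (by simpa using (key t g).mp hc)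
    exact Subtype.ext (QuotientGroup.eq.mpr (by simpa using hg))
  · intro h
    refine ⟨hH, heven, fun t htH ht g hg => ?_⟩
    obtain ⟨⟨c, hc⟩, huniq⟩ := Nat.card_eq_one_iff_exists.mp (h t htH ht)
    have e1 := congrArg Subtype.val (huniq ⟨((1 : G) : G ⧸ H), (key t 1).mpr (by simpa using htH)⟩)
    have e2 := congrArg Subtype.val (huniq ⟨((g⁻¹ : G) : G ⧸ H),
      (key t g⁻¹).mpr (by simpa using hg)⟩)
    simpa using QuotientGroup.eq.mp (e1.trans e2.symm)

end Cfsg.Agent.S0224
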