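import Cfsg.Statements.S0229
import Cfsg.Agent.Lib.Signalizer.Involutions

set_option autoImplicit false
open Cfsg

namespace Cfsg.Agent.S0229

/-- Let t be an involution of a Sylow 2-subgroup S of a finite group G, conjugate in G to no other element of S, and let s be an involution of G not conjugate to t. Then the order of st is twice an odd number. -/
theorem result {G : Type*} [Group G] [Finite G] (S : Sylow 2 G) (t : G) (ht : orderOf t = 2) (htS : t ∈ S) (hiso : ∀ g : G, g * t * g⁻¹ ∈ S → g * t * g⁻¹ = t) (s : G) (hs : orderOf s = 2) (hns : ¬ IsConj s t) : orderOf (s * t) % 4 = 2 := by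
  have hnc : ¬ IsConj t s := fun h => hns h.symm
  rcases Nat.even_or_odd (orderOf (s * t)) with he | ho
  · rcases Nat.lt_or_ge (orderOf (s * t) % 4) 1 with h4 | h4
    · exfalso
      obtain ⟨h1, h2, h3⟩ := CfsgLib.Signalizer.central_involution hs ht he
      have hord : orderOf (t * s) = orderOf (s * t) := by
        rw [← orderOf_inv (t * s), mul_inv_rev, CfsgLib.Signalizer.involution_inv ht,
          CfsgLib.Signalizer.involution_inv hs]
      have he' : Even (orderOf (t * s)) := hord ▸ he
      obtain ⟨k1, k2, k3⟩ := CfsgLib.Signalizer.central_involution ht hs he'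
      obtain ⟨d, -, hd⟩ : ∃ d ∈ Subgroup.closure ({t, s} : Set G),
          d * t * d⁻¹ = t * (t * s) ^ (orderOf (t * s) / 2) := by
        rw [k2.eq.symm]
        obtain ⟨d, hd, h⟩ := CfsgLib.Signalizer.exists_conj_pair_zpow ht hs
          ((orderOf (t * s) / 4 : ℕ) : ℤ)
        refine ⟨d, hd, h.trans ?_⟩
        rw [← zpow_natCast]
        congr 2
        omega
      have hodd := CfsgLib.Signalizer.odd_orderOf_mul_of_isolated S ht htS hiso
        (v := t * (t * s) ^ (orderOf (t * s) / 2)) (isConj_iff.mpr ⟨d, hd⟩)
      rw [← mul_assoc, CfsgLib.Signalizer.involution_sq ht, one_mul, k1] at hodd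
      exact absurd hodd (by decide)
    · obtain ⟨m, hm⟩ := he
      omega
  · obtain ⟨d, -, hd⟩ := CfsgLib.Signalizer.exists_conj_of_odd hs ht ho
    exact absurd (isConj_iff.mpr ⟨d, hd⟩) hns

end Cfsg.Agent.S0229
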