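import Cfsg.Statements.S0230
import Cfsg.Agent.Lib.Signalizer.Count

set_option autoImplicit false
open Cfsg

namespace Cfsg.Agent.S0230

/-- Let G be a finite group with two non-conjugate involutions, and let t be an involution whose centralizer has maximal order among centralizers of involutions. Then |G| < |C_G(t)|^3. -/
theorem result {G : Type*} [Group G] [Finite G] (s t : G) (hs : orderOf s = 2) (ht : orderOf t = 2) (hnc : ¬ IsConj s t) (hmax : ∀ u : G, orderOf u = 2 → Nat.card (Subgroup.centralizer ({u} : Set G)) ≤ Nat.card (Subgroup.centralizer ({t} : Set G))) : Nat.card G < Nat.card (Subgroup.centralizer ({t} : Set G)) ^ 3 := by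
  set C := Subgroup.centralizer ({t} : Set G) with hC
  set Z := {z : G // z ∈ Subgroup.centralizer ({s} : Set G) ∧ orderOf z = 2} with hZ
  have hcov : ∀ y : {y : G // IsConj t y}, ∃ z : Z, y.1 * z.1 = z.1 * y.1 := by
    intro y
    have hy : orderOf y.1 = 2 := by
      obtain ⟨g, hg⟩ := isConj_iff.mp y.2
      rw [← hg, CfsgLib.Signalizer.orderOf_conj, ht]
    obtain ⟨z, hz, hzs, hzy⟩ := CfsgLib.Signalizer.exists_central_involution_of_not_conj hs hy
      (fun h => hnc (h.trans y.2.symm))
    exact ⟨⟨z, Subgroup.mem_centralizer_singleton_iff.mpr hzs, hz⟩, hzy.symm⟩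
  choose ζ hζ using hcov
  have hcard : Nat.card {y : G // IsConj t y} ≤ Nat.card Z * Nat.card C := by
    haveI := Fintype.ofFinite Z
    rw [← Nat.card_congr (Equiv.sigmaFiberEquiv ζ), Nat.card_sigma]
    calc ∑ z : Z, _ ≤ ∑ _z : Z, Nat.card C := Finset.sum_le_sum fun z _ => by
          refine le_trans ?_ (hmax z.1 z.2.2)
          refine Nat.card_le_card_of_injective (fun y => ⟨y.1.1,
            Subgroup.mem_centralizer_singleton_iff.mpr (by have h := hζ y.1; rwa [y.2] at h)⟩) ?_
          intro a b h
          exact Subtype.ext (Subtype.ext (congrArg Subtype.val h : _))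
      _ = Nat.card Z * Nat.card C := by
          rw [Finset.sum_const, Finset.card_univ, smul_eq_mul, Nat.card_eq_fintype_card (α := Z)]
  have hZlt : Nat.card Z < Nat.card C := by
    refine lt_of_lt_of_le ?_ (hmax s hs)
    let F : Z → Subgroup.centralizer ({s} : Set G) := fun z => ⟨z.1, z.2.1⟩
    refine lt_of_le_of_ne (Nat.card_le_card_of_injective F (fun a b h =>
      Subtype.ext (congrArg Subtype.val h : _))) fun heq => ?_
    have hb : Function.Bijective F := (Nat.bijective_iff_injective_and_card F).mpr
      ⟨fun a b h => Subtype.ext (congrArg Subtype.val h : _), heq⟩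
    obtain ⟨z, hz⟩ := hb.2 1
    exact CfsgLib.Signalizer.involution_ne_one z.2.2 (congrArg Subtype.val hz)
  rw [← CfsgLib.Signalizer.card_conj_class t]
  calc Nat.card {y : G // IsConj t y} * Nat.card C ≤ Nat.card Z * Nat.card C * Nat.card C :=
        Nat.mul_le_mul_right _ hcard
    _ < Nat.card C * Nat.card C * Nat.card C := by
        have : 0 < Nat.card C := Nat.card_pos
        exact Nat.mul_lt_mul_of_pos_right (Nat.mul_lt_mul_of_pos_right hZlt this) this
    _ = Nat.card C ^ 3 := by ring

end Cfsg.Agent.S0230
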