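import Cfsg.Statements.S0231
import Cfsg.Agent.Lib.Signalizer.Count
import Cfsg.Agent.Lib.Transfer.Conj

set_option autoImplicit false
open scoped Pointwise
open Cfsg

namespace Cfsg.Agent.S0231

/-- Let T be a Sylow 2-subgroup of the finite group G which is not normal and which intersects every other Sylow 2-subgroup trivially. Then G has a single conjugacy class of involutions. -/
theorem result {G : Type*} [Group G] [Finite G] (T : Sylow 2 G) (hnn : ¬ (T : Subgroup G).Normal) (hTI : ∀ g : G, MulAut.conj g • (T : Subgroup G) ≠ T → MulAut.conj g • (T : Subgroup G) ⊓ T = ⊥) (s t : G) (hs : orderOf s = 2) (ht : orderOf t = 2) : IsConj s t := by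
  open scoped Pointwise in
  by_contra hne
  have inv_mem_sylow : ∀ u : G, orderOf u = 2 → ∃ Q : Sylow 2 G, u ∈ (Q : Subgroup G) := by
    intro u hu
    obtain ⟨Q, hQ⟩ := (IsPGroup.of_card (p := 2) (G := Subgroup.zpowers u) (n := 1)
      (by rw [Nat.card_zpowers, hu, pow_one])).exists_le_sylow
    exact ⟨Q, hQ (Subgroup.mem_zpowers u)⟩
  have conj_T : ∀ u : G, orderOf u = 2 → ∃ g : G, g * u * g⁻¹ ∈ (T : Subgroup G) := by
    intro u hu
    obtain ⟨Q, hQ⟩ := inv_mem_sylow u hu
    obtain ⟨g, rfl⟩ := MulAction.exists_smul_eq G T Q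
    exact ⟨g⁻¹, by rw [inv_inv]; exact CfsgLib.Transfer.mem_sylow_smul.mp hQ⟩
  have hNinv : ∀ z ∈ Subgroup.normalizer ((T : Subgroup G) : Set G), orderOf z = 2 →
      z ∈ (T : Subgroup G) := by
    intro z hz hzo
    have hzp : IsPGroup 2 (Subgroup.zpowers z) :=
      IsPGroup.of_card (n := 1) (by rw [Nat.card_zpowers, hzo, pow_one])
    exact (hzp.inf_normalizer_sylow T).le ⟨Subgroup.mem_zpowers z, hz⟩ |>.2
  have hcent : ∀ a ∈ (T : Subgroup G), a ≠ 1 → ∀ c : G, c * a = a * c →
      c ∈ Subgroup.normalizer ((T : Subgroup G) : Set G) := by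
    intro a ha ha1 c hca
    by_contra hc
    have h1 : MulAut.conj c • (T : Subgroup G) ≠ T := fun h =>
      hc (CfsgLib.Transfer.map_conj_eq_self_iff.mp h)
    have h2 : a ∈ MulAut.conj c • (T : Subgroup G) ⊓ T :=
      ⟨CfsgLib.Transfer.mem_conj_smul.mpr (by rwa [mul_assoc, ← hca, inv_mul_cancel_left]), ha⟩
    rw [hTI c h1] at h2
    exact ha1 (Subgroup.mem_bot.mp h2)
  obtain ⟨gs, hgs⟩ := conj_T s hs
  set a := gs * s * gs⁻¹ with ha
  have hao : orderOf a = 2 := (CfsgLib.Signalizer.orderOf_conj gs s).trans hs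
  have hsa : IsConj s a := isConj_iff.mpr ⟨gs, rfl⟩
  have hall : ∀ u : G, IsConj t u → u ∈ (T : Subgroup G) := by
    intro u htu
    have huo : orderOf u = 2 := by
      obtain ⟨g, hg⟩ := isConj_iff.mp htu
      rw [← hg, CfsgLib.Signalizer.orderOf_conj, ht]
    obtain ⟨z, hzo, hza, hzu⟩ := CfsgLib.Signalizer.exists_central_involution_of_not_conj hao huo
      (fun h => hne (hsa.trans (h.trans htu.symm)))
    have hzT : z ∈ (T : Subgroup G) :=
      hNinv z (hcent a hgs (CfsgLib.Signalizer.involution_ne_one hao) z hza) hzo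
    exact hNinv u (hcent z hzT (CfsgLib.Signalizer.involution_ne_one hzo) u hzu.symm) huo
  apply hnn
  rw [← Subgroup.normalizer_eq_top_iff, eq_top_iff]
  intro g _
  by_contra hg
  have h1 : MulAut.conj g • (T : Subgroup G) ≠ T := fun h =>
    hg (CfsgLib.Transfer.map_conj_eq_self_iff.mp h)
  have h2 : t ∈ MulAut.conj g • (T : Subgroup G) ⊓ T :=
    ⟨CfsgLib.Transfer.mem_conj_smul.mpr (hall _ (isConj_iff.mpr ⟨g⁻¹, by rw [inv_inv]⟩)),
      hall t (IsConj.refl t)⟩
  rw [hTI g h1] at h2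
  exact CfsgLib.Signalizer.involution_ne_one ht (Subgroup.mem_bot.mp h2)

end Cfsg.Agent.S0231
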