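import Cfsg.Statements.S0232
import Cfsg.Agent.Lib.Signalizer.BrauerFowler

set_option autoImplicit false
open Cfsg

namespace Cfsg.Agent.S0232

/-- A finite group G of even order greater than 2 has a proper subgroup H with |G| < |H|^3. -/
theorem result {G : Type*} [Group G] [Finite G] (heven : Even (Nat.card G)) (hgt : 2 < Nat.card G) : ∃ H : Subgroup G, H ≠ ⊤ ∧ Nat.card G < (Nat.card H) ^ 3 := by
  induction hn : Nat.card G using Nat.strong_induction_on generalizing G with
  | _ n ih =>
    subst hn
    by_cases h2 : ∃ K : Subgroup G, K.index = 2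
    · obtain ⟨K, hK⟩ := h2
      refine ⟨K, fun e => by rw [e, Subgroup.index_top] at hK; omega, ?_⟩
      have := K.card_mul_index
      rw [hK] at this
      have h2k : 2 ≤ Nat.card K := by omega
      have h4 : 4 ≤ Nat.card K * Nat.card K := Nat.mul_le_mul h2k h2k
      rw [← this, pow_three]
      nlinarith
    push Not at h2
    haveI : Nontrivial G := by rw [← Finite.one_lt_card_iff_nontrivial]; omega
    rcases Nat.even_or_odd (Nat.card (Subgroup.center G)) with hZ | hZ
    · obtain ⟨z, hz⟩ := exists_prime_orderOf_dvd_card' (G := Subgroup.center G) 2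
        (even_iff_two_dvd.mp hZ)
      set N := Subgroup.zpowers (z : G) with hN
      have hNc : Nat.card N = 2 := by rw [hN, Nat.card_zpowers, Subgroup.orderOf_coe, hz]
      haveI : N.Normal := ⟨fun n hn g => by
        have hnc : n ∈ Subgroup.center G := (Subgroup.zpowers_le.mpr z.2 : N ≤ _) hn
        rw [Subgroup.mem_center_iff.mp hnc g, mul_inv_cancel_right]
        exact hn⟩
      have hq : 2 * Nat.card (G ⧸ N) = Nat.card G := by
        rw [← Subgroup.index_eq_card, ← hNc, Subgroup.card_mul_index]
      rcases Nat.even_or_odd (Nat.card (G ⧸ N)) with he | ho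
      · by_cases hq2 : 2 < Nat.card (G ⧸ N)
        · obtain ⟨K, hK, hKlt⟩ := ih _ (by omega) (G := G ⧸ N) he hq2 rfl
          refine ⟨K.comap (QuotientGroup.mk' N), fun e => hK ?_, ?_⟩
          · rw [← Subgroup.map_comap_eq_self_of_surjective (QuotientGroup.mk'_surjective N) K, e,
              Subgroup.map_top_of_surjective _ (QuotientGroup.mk'_surjective N)]
          · have h1 := (K.comap (QuotientGroup.mk' N)).card_mul_index
            have h3 := K.card_mul_index
            rw [Subgroup.index_comap_of_surjective _ (QuotientGroup.mk'_surjective N)] at h1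
            have hpos : 0 < K.index := Nat.pos_of_ne_zero Subgroup.index_ne_zero_of_finite
            have h4 : Nat.card (K.comap (QuotientGroup.mk' N)) = 2 * Nat.card K :=
              Nat.eq_of_mul_eq_mul_right hpos (by rw [h1, mul_assoc, h3, hq])
            rw [h4, mul_pow, ← hq]
            nlinarith
        · exfalso
          obtain ⟨j, hj⟩ := he
          have hj' : Nat.card (G ⧸ N) = 2 := by
            have : 0 < Nat.card (G ⧸ N) := Nat.card_pos
            omega
          exact h2 N (by rw [Subgroup.index_eq_card, hj'])
      · exfalso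
        obtain ⟨T⟩ := (inferInstance : Nonempty (Sylow 2 G))
        have hdvd : Nat.card (T : Subgroup G) ∣ 2 :=
          (Nat.Coprime.dvd_of_dvd_mul_right ((IsPGroup.iff_card.mp T.2).elim fun k hk => by
            rw [hk]
            exact Nat.Coprime.pow_left k (Nat.coprime_two_left.mpr ho))
            (hq.symm ▸ Subgroup.card_subgroup_dvd_card _))
        have hT : IsCyclic (T : Subgroup G) := by
          rcases (Nat.dvd_prime Nat.prime_two).mp hdvd with h | h
          · haveI : Subsingleton (T : Subgroup G) := (Nat.card_eq_one_iff_unique.mp h).1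
            exact isCyclic_of_subsingleton
          · exact isCyclic_of_prime_card h
        obtain ⟨K, hK⟩ := CfsgLib.Signalizer.index_two_of_cyclic_sylow heven T hT
        exact h2 K hK
    · obtain ⟨H, hH, hmax⟩ := CfsgLib.Signalizer.exists_max_proper_subgroup (G := G) inferInstance
      refine ⟨H, hH, ?_⟩
      have hbf := CfsgLib.Signalizer.brauer_fowler heven hZ h2 hH hmax
      obtain ⟨t, ht⟩ := exists_prime_orderOf_dvd_card' 2 (even_iff_two_dvd.mp heven)
      have hCt : Subgroup.centralizer ({t} : Set G) ≠ ⊤ := fun e => by
        have htZ : t ∈ Subgroup.center G := Subgroup.mem_center_iff.mpr fun g =>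
          Subgroup.mem_centralizer_singleton_iff.mp (e ▸ Subgroup.mem_top g)
        exact absurd (hZ.of_dvd_nat (ht ▸ Subgroup.orderOf_dvd_natCard _ htZ)) (by decide)
      have hgm := (CfsgLib.Signalizer.card_le_mul_card_involutions ht).trans
        (Nat.mul_le_mul_left _ (hmax _ hCt))
      by_contra hcon
      push Not at hcon
      set m := Nat.card {t : G // orderOf t = 2}
      have hgi := H.card_mul_index
      have hh : 0 < Nat.card H := Nat.card_pos
      set h := Nat.card H
      set i := H.index
      rw [← hgi] at hgm hcon hbf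
      have him : i ≤ m := Nat.le_of_mul_le_mul_left (by rw [mul_comm h m]; exact hgm) hh
      have hhi : h ^ 2 ≤ i := Nat.le_of_mul_le_mul_left (by rw [← pow_succ']; exact hcon) hh
      have hh1 : h ≤ h ^ 2 := Nat.le_self_pow (by norm_num) h
      have a1 : h ^ 2 * i ≤ m ^ 2 := by rw [sq m]; exact Nat.mul_le_mul (hhi.trans him) him
      have a2 : h * m ≤ m ^ 2 := by rw [sq m]; exact Nat.mul_le_mul_right _ ((hh1.trans hhi).trans him)
      nlinarith [Nat.mul_le_mul_left i a1, Nat.mul_le_mul_left i a2]

end Cfsg.Agent.S0232
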