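import Cfsg.Statements.S0233
import Cfsg.Agent.Lib.Signalizer.BrauerFowler

set_option autoImplicit false
open Cfsg

namespace Cfsg.Agent.S0233

/-- Let G be a finite group of even order with exactly n involutions whose centre has odd order, and put a = |G|/n. Then G has a proper subgroup H with |G : H| = 2 or |G : H| < a(a+1)/2; over ℕ the latter reads 2·|G:H|·n² < |G|·(|G| + n). -/
theorem result {G : Type*} [Group G] [Finite G] (heven : Even (Nat.card G)) (hZ : Odd (Nat.card (Subgroup.center G))) : ∃ H : Subgroup G, H ≠ ⊤ ∧ (H.index = 2 ∨ 2 * H.index * (Nat.card {t : G // orderOf t = 2}) ^ 2 < Nat.card G * (Nat.card G + Nat.card {t : G // orderOf t = 2})) := by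
  haveI : Nontrivial G := by
    rw [← Finite.one_lt_card_iff_nontrivial]
    have h2 := Nat.le_of_dvd Nat.card_pos (even_iff_two_dvd.mp heven)
    omega
  by_cases h : ∀ K : Subgroup G, K.index ≠ 2
  · obtain ⟨H, hH, hmax⟩ := CfsgLib.Signalizer.exists_max_proper_subgroup (G := G) inferInstance
    exact ⟨H, hH, Or.inr (CfsgLib.Signalizer.brauer_fowler heven hZ h hH hmax)⟩
  · push Not at h
    obtain ⟨K, hK⟩ := h
    exact ⟨K, fun e => by rw [e, Subgroup.index_top] at hK; omega, Or.inl hK⟩

end Cfsg.Agent.S0233
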