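import Cfsg.Statements.S0234
import Cfsg.Agent.Lib.Signalizer.BrauerFowler

set_option autoImplicit false
open Cfsg

namespace Cfsg.Agent.S0234

/-- In a finite simple group G of even order greater than 2, the number n of involutions satisfies 3n < |G|. -/
theorem result {G : Type*} [Group G] [Finite G] [IsSimpleGroup G] (heven : Even (Nat.card G)) (hgt : 2 < Nat.card G) : 3 * Nat.card {t : G // orderOf t = 2} < Nat.card G := by
  haveI : Nontrivial G := IsSimpleGroup.toNontrivial
  have hno : ∀ K : Subgroup G, K.index ≠ 2 := by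
    intro K hK
    rcases (Subgroup.normal_of_index_eq_two hK).eq_bot_or_eq_top with rfl | rfl
    · rw [Subgroup.index_bot] at hK; omega
    · rw [Subgroup.index_top] at hK; omega
  have hZ : Subgroup.center G = ⊥ := by
    refine (inferInstance : (Subgroup.center G).Normal).eq_bot_or_eq_top.resolve_right fun e => ?_
    obtain ⟨x, hx⟩ := exists_prime_orderOf_dvd_card' 2 (even_iff_two_dvd.mp heven)
    have hn : (Subgroup.zpowers x).Normal := ⟨fun n hn g => by
      rw [Subgroup.mem_center_iff.mp (e ▸ Subgroup.mem_top n) g, mul_inv_cancel_right]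
      exact hn⟩
    rcases hn.eq_bot_or_eq_top with h | h
    · have := congrArg (fun K : Subgroup G => Nat.card K) h
      simp only [Nat.card_zpowers, hx, Subgroup.card_bot] at this
      omega
    · have := congrArg (fun K : Subgroup G => Nat.card K) h
      simp only [Nat.card_zpowers, hx, Subgroup.card_top] at this
      omega
  obtain ⟨H, hH, hmax⟩ := CfsgLib.Signalizer.exists_max_proper_subgroup (G := G) inferInstance
  have hbf := CfsgLib.Signalizer.brauer_fowler heven (by rw [hZ, Subgroup.card_bot]; exact odd_one)
    hno hH hmax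
  have hi : 3 ≤ H.index := by
    have h0 : H.index ≠ 0 := Subgroup.index_ne_zero_of_finite
    have h1 : H.index ≠ 1 := fun h => hH (Subgroup.index_eq_one.mp h)
    have := hno H
    omega
  set m := Nat.card {t : G // orderOf t = 2}
  rcases Nat.lt_or_ge H.index 6 with hsmall | hbig
  swap
  · by_contra hcon
    push Not at hcon
    have h12 : 12 * m ^ 2 ≤ 2 * H.index * m ^ 2 := Nat.mul_le_mul_right _ (by omega)
    nlinarith [Nat.mul_le_mul hcon hcon, Nat.mul_le_mul_right m hcon]
  · -- a simple group with a subgroup of index at most five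
    have hinj : Function.Injective (MulAction.toPermHom G (G ⧸ H)) := by
      rw [← MonoidHom.ker_eq_bot_iff, ← Subgroup.normalCore_eq_ker]
      refine (Subgroup.normalCore_normal H).eq_bot_or_eq_top.resolve_right fun e => ?_
      exact hH (top_le_iff.mp (e ▸ Subgroup.normalCore_le H))
    obtain ⟨emb⟩ : Nonempty (G ⧸ H ↪ Fin 5) := by
      haveI := Fintype.ofFinite (G ⧸ H)
      refine Function.Embedding.nonempty_of_card_le (α := G ⧸ H) (β := Fin 5) ?_
      rw [← Nat.card_eq_fintype_card, ← Subgroup.index_eq_card, Fintype.card_fin]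
      omega
    classical
    haveI := Fintype.ofFinite (G ⧸ H)
    let f : G →* Equiv.Perm (Fin 5) :=
      (Equiv.Perm.viaEmbeddingHom emb).comp (MulAction.toPermHom G (G ⧸ H))
    have hf : Function.Injective f :=
      (Equiv.Perm.viaEmbeddingHom_injective emb).comp hinj
    have halt : f.range ≤ alternatingGroup (Fin 5) := by
      rintro _ ⟨g, rfl⟩
      rcases (inferInstance : (Equiv.Perm.sign.comp f).ker.Normal).eq_bot_or_eq_top with h | h
      · exfalso
        have := Nat.card_le_card_of_injective _ ((MonoidHom.ker_eq_bot_iff _).mp h)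
        rw [Nat.card_eq_fintype_card (α := ℤˣ), Fintype.card_units_int] at this
        omega
      · exact Equiv.Perm.mem_alternatingGroup.mpr (MonoidHom.mem_ker.mp
          (show g ∈ (Equiv.Perm.sign.comp f).ker from h ▸ Subgroup.mem_top g))
    have hcardA : Nat.card (alternatingGroup (Fin 5)) = 60 := by
      rw [Nat.card_eq_fintype_card]; decide
    have hg60 : Nat.card G ∣ 60 := by
      rw [Nat.card_congr (MonoidHom.ofInjective hf).toEquiv, ← hcardA]
      exact Subgroup.card_dvd_of_le halt
    have hnocyc : ∀ T : Sylow 2 G, ¬ IsCyclic (T : Subgroup G) := fun T hT => by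
      obtain ⟨K, hK⟩ := CfsgLib.Signalizer.index_two_of_cyclic_sylow heven T hT
      exact hno K hK
    obtain ⟨T⟩ := (inferInstance : Nonempty (Sylow 2 G))
    have hT4 : Nat.card (T : Subgroup G) = 4 := by
      obtain ⟨k, hk⟩ := IsPGroup.iff_card.mp T.2
      have hd := (Subgroup.card_subgroup_dvd_card (T : Subgroup G)).trans hg60
      rw [hk] at hd ⊢
      rcases k with _ | _ | _ | k
      · exact absurd (haveI : Subsingleton (T : Subgroup G) :=
          (Nat.card_eq_one_iff_unique.mp hk).1; isCyclic_of_subsingleton) (hnocyc T)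
      · exact absurd (isCyclic_of_prime_card (p := 2) hk) (hnocyc T)
      · norm_num
      · exfalso
        have h8 : 8 ∣ 60 := dvd_trans ⟨2 ^ k, by ring⟩ hd
        omega
    have hdiv4 : 4 ∣ Nat.card G := hT4 ▸ Subgroup.card_subgroup_dvd_card _
    have hcases : Nat.card G = 4 ∨ Nat.card G = 12 ∨ Nat.card G = 20 ∨ Nat.card G = 60 := by
      have hle := Nat.le_of_dvd (by norm_num) hg60
      obtain ⟨j, hj⟩ := hdiv4
      rw [hj] at hle hg60 hgt ⊢
      have hj15 : j ≤ 15 := by omega
      interval_cases j <;> omega
    have hT4' : (T : Subgroup G) ≠ ⊤ → 4 ≤ Nat.card H := fun h => hT4 ▸ hmax _ h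
    have hgi := H.card_mul_index
    rcases hcases with h | h | h | h
    · exfalso
      have hTtop : (T : Subgroup G) = ⊤ := Subgroup.eq_top_of_card_eq _ (by omega)
      haveI : Nontrivial G := inferInstance
      haveI := (IsPGroup.of_card (p := 2) (n := 2) (G := G) (by omega)).center_nontrivial
      exact (Subgroup.nontrivial_iff_ne_bot _).mp this hZ
    · exfalso
      have h4 := hT4' fun e => by
        have := congrArg (fun K : Subgroup G => Nat.card K) e
        simp only [Subgroup.card_top] at this
        omega
      have hi3 : H.index = 3 := by nlinarith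
      have := Nat.card_le_card_of_injective _ hinj
      rw [Nat.card_perm, ← Subgroup.index_eq_card, hi3, h] at this
      norm_num [Nat.factorial] at this
    · exfalso
      haveI : Fact (Nat.Prime 5) := ⟨by norm_num⟩
      obtain ⟨P⟩ := (inferInstance : Nonempty (Sylow 5 G))
      have h1 := card_sylow_modEq_one 5 G
      have h2 : Nat.card (Sylow 5 G) ∣ 20 := by
        rw [P.card_eq_index_normalizer, ← h]
        exact Subgroup.index_dvd_card _
      have h3 : ¬ 5 ∣ Nat.card (Sylow 5 G) := not_dvd_card_sylow 5 G
      have h4 : Nat.card (Sylow 5 G) ∣ 4 :=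
        ((Nat.Prime.coprime_iff_not_dvd (by norm_num)).mpr h3).symm.dvd_of_dvd_mul_left
          (show Nat.card (Sylow 5 G) ∣ 5 * 4 from h2)
      have h5 : Nat.card (Sylow 5 G) = 1 := by
        have h6 := Nat.le_of_dvd (by norm_num) h4
        have h7 : 0 < Nat.card (Sylow 5 G) := Nat.card_pos
        unfold Nat.ModEq at h1
        omega
      haveI : Subsingleton (Sylow 5 G) := (Nat.card_eq_one_iff_unique.mp h5).1
      rcases (P.normal_of_subsingleton).eq_bot_or_eq_top with e | e
      · exact P.ne_bot_of_dvd_card (by omega) e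
      · have hd := IsPGroup.iff_card.mp P.2
        obtain ⟨k, hk⟩ := hd
        rw [e, Subgroup.card_top, h] at hk
        rcases k with _ | k
        · omega
        · have : 5 ∣ 20 := ⟨4, rfl⟩
          have h2' : 2 ∣ 5 ^ (k + 1) := hk ▸ (by norm_num)
          exact absurd (Nat.prime_two.dvd_of_dvd_pow h2') (by norm_num)
    · have hEq : f.range = alternatingGroup (Fin 5) := Subgroup.eq_of_le_of_card_ge halt (by
        rw [hcardA, ← Nat.card_congr (MonoidHom.ofInjective hf).toEquiv, h])
      have e : G ≃* alternatingGroup (Fin 5) :=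
        (MonoidHom.ofInjective hf).trans (MulEquiv.subgroupCongr hEq)
      have hm15 : m = Nat.card {x : alternatingGroup (Fin 5) // x ≠ 1 ∧ x * x = 1} :=
        Nat.card_congr (e.toEquiv.subtypeEquiv fun x => by
          show orderOf x = 2 ↔ e x ≠ 1 ∧ e x * e x = 1
          rw [← map_mul, map_ne_one_iff e e.injective, EmbeddingLike.map_eq_one_iff]
          exact ⟨fun hx => ⟨CfsgLib.Signalizer.involution_ne_one hx,
            CfsgLib.Signalizer.involution_sq hx⟩,
            fun hx => CfsgLib.Signalizer.orderOf_eq_two_of hx.1 hx.2⟩)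
      have hcount : Nat.card {x : alternatingGroup (Fin 5) // x ≠ 1 ∧ x * x = 1} = 15 := by
        rw [Nat.card_eq_fintype_card, Fintype.card_subtype]
        decide
      omega

end Cfsg.Agent.S0234
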