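import Cfsg.Statements.S0238
import Cfsg.Agent.Lib.Signalizer.Involutions

set_option autoImplicit false
open Cfsg

namespace Cfsg.Agent.S0238

/-- For every x in a finite group G, the number c of ordered pairs (u, v) of involutions with uv = x is at most |C_G(x)|; c = 0 when x is not conjugate to x⁻¹; and c + 2 ≤ |C_G(x)| when x is an involution. -/
theorem result {G : Type*} [Group G] [Finite G] (x : G) : Nat.card {p : G × G // orderOf p.1 = 2 ∧ orderOf p.2 = 2 ∧ p.1 * p.2 = x} ≤ Nat.card (Subgroup.centralizer ({x} : Set G)) ∧ (¬ IsConj x x⁻¹ → Nat.card {p : G × G // orderOf p.1 = 2 ∧ orderOf p.2 = 2 ∧ p.1 * p.2 = x} = 0) ∧ (orderOf x = 2 → Nat.card {p : G × G // orderOf p.1 = 2 ∧ orderOf p.2 = 2 ∧ p.1 * p.2 = x} + 2 ≤ Nat.card (Subgroup.centralizer ({x} : Set G))) := by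
  refine ⟨?_, ?_, ?_⟩
  · by_cases hreal : IsConj x x⁻¹
    · rw [← CfsgLib.Signalizer.card_inverting x hreal]
      refine Nat.card_le_card_of_injective
        (fun p => ⟨p.1.1, CfsgLib.Signalizer.pair_fst_inverts p.2.1 p.2.2.1 p.2.2.2⟩) ?_
      intro p q h
      exact CfsgLib.Signalizer.pair_fst_injective x (congrArg Subtype.val h)
    · rw [show Nat.card _ = 0 from Nat.card_eq_zero.mpr (Or.inl ⟨fun p => hreal (isConj_iff.mpr
        ⟨p.1.1, CfsgLib.Signalizer.pair_fst_inverts p.2.1 p.2.2.1 p.2.2.2⟩)⟩)]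
      exact Nat.zero_le _
  · intro hreal
    exact Nat.card_eq_zero.mpr (Or.inl ⟨fun p => hreal (isConj_iff.mpr
      ⟨p.1.1, CfsgLib.Signalizer.pair_fst_inverts p.2.1 p.2.2.1 p.2.2.2⟩)⟩)
  · intro hx
    rw [show ∀ a : ℕ, a + 2 = a + 1 + 1 from fun a => rfl,
      CfsgLib.Signalizer.card_pairs_involution x hx, ← Finite.card_option]
    refine Nat.card_le_card_of_injective (fun o => o.elim ⟨1, one_mem _⟩
      fun t => ⟨t.1, Subgroup.mem_centralizer_singleton_iff.mpr t.2.2.eq⟩) ?_
    rintro (_ | t) (_ | t') h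
    · rfl
    · exact absurd (congrArg Subtype.val h).symm (CfsgLib.Signalizer.involution_ne_one t'.2.1)
    · exact absurd (congrArg Subtype.val h) (CfsgLib.Signalizer.involution_ne_one t.2.1)
    · exact congrArg some (Subtype.ext (congrArg Subtype.val h : _))

end Cfsg.Agent.S0238
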