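import Cfsg.Statements.S0239
import Cfsg.Agent.Lib.Signalizer.Involutions

set_option autoImplicit false
open Cfsg

namespace Cfsg.Agent.S0239

/-- If some nontrivial element x of a finite group G is conjugate to x⁻¹, then |G| is even. -/
theorem result {G : Type*} [Group G] [Finite G] (x : G) (hx : x ≠ 1) (hreal : IsConj x x⁻¹) : Even (Nat.card G) := by
  obtain ⟨g, hg⟩ := isConj_iff.mp hreal
  by_contra h
  rw [Nat.not_even_iff_odd] at h
  obtain ⟨m, hm⟩ := h.of_dvd_nat (orderOf_dvd_natCard g)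
  have hg2 : Commute (g ^ 2) x := by
    show _ = _
    rw [← mul_inv_eq_iff_eq_mul, sq, mul_inv_rev,
      show g * g * x * (g⁻¹ * g⁻¹) = g * (g * x * g⁻¹) * g⁻¹ by group, hg, ← conj_inv, hg,
      inv_inv]
  have hgx : Commute g x := by
    have e : g = (g ^ 2) ^ (m + 1) := by
      rw [← pow_mul, show 2 * (m + 1) = 2 * m + 1 + 1 by ring, pow_succ, ← hm, pow_orderOf_eq_one,
        one_mul]
    rw [e]; exact hg2.pow_left _
  rw [hgx.eq, mul_inv_cancel_right] at hg
  have h2 : orderOf x = 2 := CfsgLib.Signalizer.orderOf_eq_two_of hx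
    (mul_eq_one_iff_eq_inv.mpr hg)
  have h3 := h.of_dvd_nat (h2 ▸ orderOf_dvd_natCard x)
  exact absurd h3 (by decide)

end Cfsg.Agent.S0239
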