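import Cfsg.Statements.S0240
import Cfsg.Agent.Lib.Signalizer.Involutions

set_option autoImplicit false
open Cfsg

namespace Cfsg.Agent.S0240

/-- Let G be a finite group with n involutions and H a subgroup with |H|·(n+1) > |G|. Then some nontrivial h ∈ H is strongly real in G: an involution t of G satisfies t h t⁻¹ = h⁻¹. -/
theorem result {G : Type*} [Group G] [Finite G] (H : Subgroup G) (hH : Nat.card G < Nat.card H * (Nat.card {t : G // orderOf t = 2} + 1)) : ∃ h : G, h ∈ H ∧ h ≠ 1 ∧ ∃ t : G, orderOf t = 2 ∧ t * h * t⁻¹ = h⁻¹ := by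
  have hlt : H.index < Nat.card {t : G // orderOf t = 2} + 1 := by
    rw [← H.card_mul_index] at hH
    exact Nat.lt_of_mul_lt_mul_left hH
  rw [← Finite.card_option] at hlt
  let F : Option {t : G // orderOf t = 2} → G ⧸ H :=
    fun o => o.elim (QuotientGroup.mk 1) fun t => QuotientGroup.mk t.1
  have hninj : ¬ Function.Injective F := fun hi =>
    absurd (Nat.card_le_card_of_injective F hi) (not_le.mpr hlt)
  simp only [Function.Injective, not_forall] at hninj
  obtain ⟨a, b, hab, hne⟩ := hninj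
  have key : ∀ (t u : G), orderOf t = 2 → orderOf u = 2 → t ≠ u → (t⁻¹ * u) ∈ H →
      ∃ h : G, h ∈ H ∧ h ≠ 1 ∧ ∃ t : G, orderOf t = 2 ∧ t * h * t⁻¹ = h⁻¹ := by
    intro t u ht hu hne hmem
    refine ⟨t⁻¹ * u, hmem, fun h => hne (inv_mul_eq_one.mp h), t, ht, ?_⟩
    rw [CfsgLib.Signalizer.involution_inv ht]
    have := CfsgLib.Signalizer.conj_mul_eq_inv ht hu
    rwa [CfsgLib.Signalizer.involution_inv ht] at this
  have key' : ∀ t : G, orderOf t = 2 → t ∈ H →
      ∃ h : G, h ∈ H ∧ h ≠ 1 ∧ ∃ t : G, orderOf t = 2 ∧ t * h * t⁻¹ = h⁻¹ :=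
    fun t ht htH => ⟨t, htH, CfsgLib.Signalizer.involution_ne_one ht, t, ht, by
      rw [mul_inv_cancel_right, CfsgLib.Signalizer.involution_inv ht]⟩
  rcases a with _ | t <;> rcases b with _ | u
  · exact absurd rfl hne
  · exact key' u u.2 (by simpa [F, QuotientGroup.eq] using hab)
  · exact key' t t.2 (by simpa [F, QuotientGroup.eq] using hab.symm)
  · exact key t u t.2 u.2 (fun h => hne (congrArg some (Subtype.ext h)))
      (QuotientGroup.eq.mp hab)

end Cfsg.Agent.S0240
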