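import Cfsg.Statements.S0307
import Cfsg.Agent.Lib.Classical.LinearOrder

set_option autoImplicit false
open Cfsg

namespace Cfsg.Agent.S0307

/-- PSL_n(q) is normal in PGL_n(q) with cyclic quotient of order gcd(n, q-1): the image of the natural map PSL_n → PGL_n is the kernel of a surjective homomorphism onto the cyclic group of that order. -/
theorem result {F : Type*} [Field F] [Fintype F] {q : ℕ} (hF : Fintype.card F = q) (n : ℕ) (hn : 1 ≤ n) : ∃ g : Matrix.ProjGenLinGroup (Fin n) F →* Multiplicative (ZMod (Nat.gcd n (q - 1))), Function.Surjective g ∧ g.ker = (Matrix.ProjectiveSpecialLinearGroup.toPGL : Matrix.ProjectiveSpecialLinearGroup (Fin n) F →* Matrix.ProjGenLinGroup (Fin n) F).range := by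
  subst hF
  have hne : Nonempty (Fin n) := ⟨⟨0, hn⟩⟩
  let R : Subgroup Fˣ := (powMonoidHom n : Fˣ →* Fˣ).range
  have hcard : Nat.card (Fˣ ⧸ R) = Nat.gcd n (Fintype.card F - 1) := by
    rw [← Subgroup.index_eq_card, IsCyclic.index_powMonoidHom_range,
      CfsgLib.Classical.card_units_field, Nat.gcd_comm]
  have hcyc : IsCyclic (Fˣ ⧸ R) := inferInstance
  let e : Multiplicative (ZMod (Nat.gcd n (Fintype.card F - 1))) ≃* Fˣ ⧸ R :=
    hcard ▸ zmodCyclicMulEquiv hcyc
  let g : Matrix.ProjGenLinGroup (Fin n) F →* Fˣ ⧸ R :=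
    Matrix.ProjGenLinGroup.lift ((QuotientGroup.mk' R).comp Matrix.GeneralLinearGroup.det) (by
      apply MonoidHom.ext
      intro u
      simp only [MonoidHom.comp_apply, QuotientGroup.mk'_apply, MonoidHom.one_apply,
        QuotientGroup.eq_one_iff]
      exact ⟨u, by simp [Matrix.GeneralLinearGroup.det_scalar]⟩)
  refine ⟨e.symm.toMonoidHom.comp g, ?_, ?_⟩
  · intro x
    obtain ⟨y, hy⟩ := QuotientGroup.mk'_surjective R (e x)
    obtain ⟨A, hA⟩ := Matrix.GeneralLinearGroup.det_surjective (n := Fin n) y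
    exact ⟨Matrix.ProjGenLinGroup.mk A, by simp [g, hA, show (y : Fˣ ⧸ R) = e x from hy]⟩
  · rw [CfsgLib.Classical.range_toPGL_eq]
    ext x
    induction x using Matrix.ProjGenLinGroup.induction_on with
    | mk A =>
      simp only [MonoidHom.mem_ker, MonoidHom.comp_apply, MulEquiv.coe_toMonoidHom,
        EmbeddingLike.map_eq_one_iff, g, Matrix.ProjGenLinGroup.lift_mk, QuotientGroup.mk'_apply,
        QuotientGroup.eq_one_iff, Subgroup.mem_map]
      constructor
      · rintro ⟨u, hu⟩
        refine ⟨A * Matrix.GeneralLinearGroup.scalar (Fin n) u⁻¹, ?_, by simp⟩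
        have hu' : u ^ n = Matrix.GeneralLinearGroup.det A := hu
        simp [Matrix.GeneralLinearGroup.det_scalar, ← hu']
      · rintro ⟨B, hB, hBA⟩
        obtain ⟨u, rfl⟩ := Matrix.ProjGenLinGroup.mk_eq_mk_iff.1 hBA
        exact ⟨u, by simp [Matrix.GeneralLinearGroup.det_scalar, hB]⟩

end Cfsg.Agent.S0307
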