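import Cfsg.Statements.S0313
import Cfsg.Agent.Lib.Lie.BNPair

set_option autoImplicit false
open Cfsg

namespace Cfsg.Agent.S0313

/-- Two standard parabolic subgroups of a group with a (B,N)-pair which are conjugate in `G` coincide. -/
theorem result {G : Type*} [Group G] (P : Cfsg.BNPair G) {J K : Set G}
    (hJ : J ⊆ P.S) (hK : K ⊆ P.S) (g : G)
    (h : (P.parabolic J).map (MulAut.conj g).toMonoidHom = P.parabolic K) :
    P.parabolic J = P.parabolic K := by
  have hg : g ∈ P.parabolic K := CfsgLib.Lie.BN.mem_parabolic_of_conj_mem P fun b hb => by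
    rw [← h]
    exact ⟨b, Subgroup.mem_sup_left hb, rfl⟩
  have h2 : (P.parabolic K).map (MulAut.conj g).toMonoidHom = P.parabolic K := by
    ext x
    constructor
    · rintro ⟨y, hy, rfl⟩
      exact mul_mem (mul_mem hg hy) (inv_mem hg)
    · intro hx
      exact ⟨g⁻¹ * x * g, mul_mem (mul_mem (inv_mem hg) hx) hg, by simp [mul_assoc]⟩
  exact Subgroup.map_injective (MulAut.conj g).injective (h.trans h2.symm)

end Cfsg.Agent.S0313
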