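import Cfsg.Statements.S0315
import Cfsg.Agent.Lib.Lie.BNPair

set_option autoImplicit false
open Cfsg

namespace Cfsg.Agent.S0315

/-- Standard parabolic subgroups intersect as the index sets do: `P_J ⊓ P_K = P_{J ∩ K}`. -/
theorem result {G : Type*} [Group G] (P : Cfsg.BNPair G) {J K : Set G}
    (hJ : J ⊆ P.S) (hK : K ⊆ P.S) : P.parabolic J ⊓ P.parabolic K = P.parabolic (J ∩ K) := by
  have h0 : J ∩ K ⊆ P.S := fun x hx => hJ hx.1
  rw [CfsgLib.Lie.BN.overgroup_eq_parabolic P (M := P.parabolic J ⊓ P.parabolic K) (le_inf le_sup_left le_sup_left)]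
  congr 1
  ext x
  simp only [Set.mem_setOf_eq, Set.mem_inter_iff, Subgroup.mem_inf]
  constructor
  · rintro ⟨hx, h1, h2⟩
    exact ⟨(CfsgLib.Lie.BN.mem_parabolic_of_coe P hJ (s := ⟨x, hx⟩)).1 h1,
      (CfsgLib.Lie.BN.mem_parabolic_of_coe P hK (s := ⟨x, hx⟩)).1 h2⟩
  · rintro ⟨h1, h2⟩
    exact ⟨hJ h1, Subgroup.mem_sup_right (Subgroup.subset_closure h1),
      Subgroup.mem_sup_right (Subgroup.subset_closure h2)⟩

end Cfsg.Agent.S0315
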