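import Cfsg.Statements.S0316
import Cfsg.Agent.Lib.Lie.BNPair

set_option autoImplicit false
open Cfsg

namespace Cfsg.Agent.S0316

/-- The map `J ↦ P_J` is a lattice isomorphism from the power set of the set of distinguished generators onto the
subgroups containing `B`. -/
theorem result {G : Type*} [Group G] (P : Cfsg.BNPair G) :
    ∃ e : Set P.S ≃o {M : Subgroup G // P.B ≤ M},
      ∀ J : Set P.S, ((e J : {M : Subgroup G // P.B ≤ M}) : Subgroup G) = P.parabolic (Subtype.val '' J) := by
  have hsub : ∀ J : Set P.S, Subtype.val '' J ⊆ P.S := by rintro J _ ⟨s, _, rfl⟩; exact s.2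
  have hmem : ∀ (J : Set P.S) (s : P.S), (s : G) ∈ P.parabolic (Subtype.val '' J) ↔ s ∈ J := fun J s =>
    (CfsgLib.Lie.BN.mem_parabolic_of_coe P (hsub J)).trans Subtype.val_injective.mem_set_image
  refine ⟨
    { toFun := fun J => ⟨P.parabolic (Subtype.val '' J), le_sup_left⟩
      invFun := fun M => {s | (s : G) ∈ (M : Subgroup G)}
      left_inv := fun J => by ext s; exact hmem J s
      right_inv := fun M => by
        apply Subtype.ext
        show P.parabolic _ = (M : Subgroup G)
        conv_rhs => rw [CfsgLib.Lie.BN.overgroup_eq_parabolic P M.2]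
        congr 1
        ext x
        constructor
        · rintro ⟨s, hs, rfl⟩; exact ⟨s.2, hs⟩
        · rintro ⟨h1, h2⟩; exact ⟨⟨x, h1⟩, h2, rfl⟩
      map_rel_iff' := fun {J K} => ?_ }, fun J => rfl⟩
  show P.parabolic (Subtype.val '' J) ≤ P.parabolic (Subtype.val '' K) ↔ J ⊆ K
  exact ⟨fun h s hs => (hmem K s).1 (h ((hmem J s).2 hs)),
    fun h => sup_le_sup_left (Subgroup.closure_mono (Set.image_mono h)) _⟩

end Cfsg.Agent.S0316
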