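import Cfsg.Statements.S0319
import Cfsg.Agent.Lib.Lie.BNPair

set_option autoImplicit false
open Cfsg

namespace Cfsg.Agent.S0319

/-- Simplicity criterion for groups with a (B,N)-pair: if the distinguished generators admit no
splitting into two non-empty mutually commuting parts, `B` is solvable, `G` is perfect and the intersection
of all conjugates of `B` is trivial, then `G` is simple. -/
theorem result {G : Type*} [Group G] [Nontrivial G]
    (P : Cfsg.BNPair G) (hirr : P.Irreducible) (hsolv : Group.IsSolvable P.B) (hperf : commutator G = ⊤)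
    (hcore : P.B.normalCore = ⊥) : IsSimpleGroup G := by
  have := hsolv
  refine ⟨fun H hH => ?_⟩
  rcases CfsgLib.Lie.BN.normal_le_core_or_sup_eq_top P hirr H with h | h
  · left; rwa [hcore, le_bot_iff] at h
  · right
    let φ : P.B →* G ⧸ H := (QuotientGroup.mk' H).comp P.B.subtype
    have hφ : Function.Surjective φ := by
      intro x
      obtain ⟨g, rfl⟩ := QuotientGroup.mk'_surjective H x
      have hg : g ∈ H ⊔ P.B := by rw [h]; trivial
      obtain ⟨a, ha, b, hb, rfl⟩ := Subgroup.mem_sup_of_normal_left.1 hg
      refine ⟨⟨b, hb⟩, ?_⟩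
      show QuotientGroup.mk' H b = _
      rw [map_mul, show QuotientGroup.mk' H a = 1 from (QuotientGroup.eq_one_iff a).2 ha, one_mul]
    have hsol : Group.IsSolvable (G ⧸ H) := Group.isSolvable_of_surjective hφ
    have hp : commutator (G ⧸ H) = ⊤ := by
      rw [commutator_def, ← Subgroup.map_top_of_surjective _ (QuotientGroup.mk'_surjective H),
        ← Subgroup.map_commutator, ← commutator_def, hperf]
    rcases subsingleton_or_nontrivial (G ⧸ H) with hs | hs
    · exact QuotientGroup.subgroup_eq_top_of_subsingleton H hs
    · exact absurd hp (Group.IsSolvable.commutator_lt_top_of_nontrivial (G ⧸ H)).ne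

end Cfsg.Agent.S0319
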