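import Cfsg.Statements.S0321
import Cfsg.Agent.Lib.Lie.BNPair

set_option autoImplicit false
open Cfsg

namespace Cfsg.Agent.S0321

/-- For `n ∈ N` not in `B`, the union `B ∪ B n B` is (the underlying set of) a subgroup exactly when `n` agrees
modulo `B ⊓ N` with one of the distinguished representatives; thus the distinguished involutions are
determined by `B` and `N`. -/
theorem result {G : Type*} [Group G] (P : Cfsg.BNPair G) {n : G}
    (hn : n ∈ P.N) (hnB : n ∉ P.B) :
    (∃ H : Subgroup G, (H : Set G) = (P.B : Set G) ∪ DoubleCoset.doubleCoset n (P.B : Set G) P.B) ↔ ∃ s ∈ P.S, s⁻¹ * n ∈ P.B := by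
  open CfsgLib.Lie.BN in
  constructor
  · rintro ⟨H, hH⟩
    have hB : P.B ≤ H := fun b hb => by
      show b ∈ (H : Set G)
      rw [hH]; exact Or.inl hb
    have hnH : n ∈ H := by
      show n ∈ (H : Set G)
      rw [hH]; exact Or.inr (by simpa [cell_eq_doubleCoset] using coe_mem_cell P ⟨n, hn⟩)
    by_cases hJ : ∃ s ∈ P.S, s ∈ H
    · obtain ⟨s, hs, hsH⟩ := hJ
      have hsH' : s ∈ (H : Set G) := hsH
      rw [hH] at hsH'
      rcases hsH' with h | h
      · exact absurd h (simple_not_mem_B P hs)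
      · refine ⟨s, hs, ?_⟩
        have e := cell_inj P (w := wmk P ⟨n, hn⟩) (by rwa [cell_eq_doubleCoset]) (coe_mem_cell P (sgen P ⟨s, hs⟩))
        exact (wmk_eq_iff P (sgen P ⟨s, hs⟩) ⟨n, hn⟩).1 e.symm
    · exfalso
      simp only [not_exists, not_and] at hJ
      rw [overgroup_eq_parabolic P hB] at hnH
      have e : {x | x ∈ P.S ∧ x ∈ H} = (∅ : Set G) :=
        Set.eq_empty_of_forall_notMem fun x hx => hJ x hx.1 hx.2
      rw [e] at hnH
      unfold Cfsg.BNPair.parabolic at hnH
      rw [Subgroup.closure_empty, sup_bot_eq] at hnH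
      exact hnB hnH
  · rintro ⟨s, hs, h⟩
    have e : wmk P ⟨n, hn⟩ = wgen P ⟨s, hs⟩ := ((wmk_eq_iff P (sgen P ⟨s, hs⟩) ⟨n, hn⟩).2 h).symm
    refine ⟨cellUnion P {s}, ?_⟩
    ext g
    rw [Set.mem_union, ← cell_eq_doubleCoset P ⟨n, hn⟩, e]
    have hidx : idxSet P ({s} : Set G) = {⟨s, hs⟩} := by
      ext x; simp [idxSet, Subtype.ext_iff]
    have hW : ∀ w, w ∈ wPar P ({s} : Set G) ↔ w = 1 ∨ w = wgen P ⟨s, hs⟩ := by
      intro w
      constructor
      · intro hw
        obtain ⟨l, hl, he, hr⟩ := (wgen_exSys P).exists_reduced_of_mem_closure hw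
        have hl' : ∀ x ∈ l, x = ⟨s, hs⟩ := fun x hx => by
          have := hl x hx; rwa [hidx] at this
        match l with
        | [] => left; rw [← he]; rfl
        | [a] => right; rw [← he, hl' a (by simp)]; simp
        | a :: b :: r =>
          exfalso
          have h1 := CfsgLib.Lie.Exchange.wlen_le (wgen P) r
          unfold CfsgLib.Lie.Exchange.WReduced at hr
          simp only [CfsgLib.Lie.Exchange.wprod_cons, hl' a (by simp), hl' b (by simp),
            (wgen_genInv P).cancel, List.length_cons] at hr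
          omega
      · rintro (rfl | rfl)
        · exact one_mem _
        · exact (wgen_mem_wPar_iff P).2 rfl
    constructor
    · rintro ⟨w, hw, hg⟩
      rcases (hW w).1 hw with rfl | rfl
      · exact Or.inl ((mem_cell_one P).1 hg)
      · exact Or.inr hg
    · rintro (hg | hg)
      · exact ⟨1, one_mem _, (mem_cell_one P).2 hg⟩
      · exact ⟨_, (hW _).2 (Or.inr rfl), hg⟩

end Cfsg.Agent.S0321
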