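import Cfsg.Statements.S0323
import Cfsg.Agent.Lib.Lie.BNPair

set_option autoImplicit false
open scoped Pointwise
open Cfsg

namespace Cfsg.Agent.S0323

/-- A doubly transitive action on a set with at least three points yields a (B,N)-pair of rank one:
`B` is the stabiliser of a point `x`, `N` the setwise stabiliser of a pair `{x, y}`. -/
theorem result {G Ω : Type*} [Group G] [MulAction G Ω]
    (h2 : MulAction.IsMultiplyPretransitive G Ω 2) {x y z : Ω} (hxy : x ≠ y) (hyz : y ≠ z) (hxz : x ≠ z) :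
    ∃ P : Cfsg.BNPair G, P.B = MulAction.stabilizer G x ∧
      P.N = MulAction.stabilizer G ({x, y} : Set Ω) ∧ P.rank = 1 := by
  classical
  rw [MulAction.is_two_pretransitive_iff] at h2
  obtain ⟨s, hsx, hsy⟩ := h2 hxy hxy.symm
  obtain ⟨b, hbx, hby⟩ := h2 hxy hxz
  let B : Subgroup G := MulAction.stabilizer G x
  let N : Subgroup G := MulAction.stabilizer G ({x, y} : Set Ω)
  open Pointwise in
  have hN : ∀ n : G, n ∈ N → (n • x = x ∧ n • y = y) ∨ (n • x = y ∧ n • y = x) := by
    intro n hn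
    have h : n • ({x, y} : Set Ω) = {x, y} := hn
    have h1 : n • x ∈ ({x, y} : Set Ω) := h ▸ Set.smul_mem_smul_set (Set.mem_insert x {y})
    have h3 : n • y ∈ ({x, y} : Set Ω) := h ▸ Set.smul_mem_smul_set (Set.mem_insert_of_mem x rfl)
    simp only [Set.mem_insert_iff, Set.mem_singleton_iff] at h1 h3
    have hne : n • x ≠ n • y := fun e => hxy (smul_left_cancel n e)
    rcases h1 with h1 | h1 <;> rcases h3 with h3 | h3
    · exact absurd (h1.trans h3.symm) hne
    · exact Or.inl ⟨h1, h3⟩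
    · exact Or.inr ⟨h1, h3⟩
    · exact absurd (h1.trans h3.symm) hne
  open Pointwise in
  have hsN : s ∈ N := by
    show s • ({x, y} : Set Ω) = {x, y}
    rw [← Set.image_smul, Set.image_pair, hsx, hsy, Set.pair_comm]
  have hsB : s * s ∈ B := by
    show (s * s) • x = x
    rw [mul_smul, hsx, hsy]
  have hG : ∀ g : G, g ∈ B ∨ ∃ c ∈ B, ∃ c' ∈ B, g = c * s * c' := by
    intro g
    by_cases hg : g • x = x
    · exact Or.inl hg
    · right
      obtain ⟨c, hcx, hcy⟩ := h2 hxy (Ne.symm hg)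
      refine ⟨c, hcx, (c * s)⁻¹ * g, ?_, by group⟩
      show ((c * s)⁻¹ * g) • x = x
      rw [mul_smul, inv_smul_eq_iff, mul_smul, hsx, hcy]
  refine ⟨{ B := B, N := N, S := {s}, sup_eq_top := ?_, conj_mem := ?_, «subset» := ?_, sq_mem := ?_, inj := ?_, closure_sup := ?_, mul_mem_union := ?_, conj_ne := ?_ }, rfl, rfl, ?_⟩
  · rw [eq_top_iff]
    intro g _
    rcases hG g with h | ⟨c, hc, c', hc', rfl⟩
    · exact Subgroup.mem_sup_left h
    · exact mul_mem (mul_mem (Subgroup.mem_sup_left hc) (Subgroup.mem_sup_right hsN)) (Subgroup.mem_sup_left hc')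
  · intro n hn t ht
    have htx : t • x = x := ht.1
    have hty : t • y = y := by
      rcases hN t ht.2 with ⟨_, h⟩ | ⟨h, _⟩
      · exact h
      · exact absurd (htx.symm.trans h) hxy
    show (n * t * n⁻¹) • x = x
    rcases hN n hn with ⟨h1, h3⟩ | ⟨h1, h3⟩
    · rw [mul_smul, mul_smul, inv_smul_eq_iff.2 h1.symm, htx, h1]
    · rw [mul_smul, mul_smul, inv_smul_eq_iff.2 h3.symm, hty, h3]
  · exact Set.singleton_subset_iff.2 hsN
  · rintro _ rfl; exact hsB
  · rintro _ rfl _ rfl _; rfl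
  · refine le_antisymm (sup_le ((Subgroup.closure_le _).2 (Set.singleton_subset_iff.2 hsN)) inf_le_right) ?_
    intro n hn
    rcases hN n hn with ⟨h1, _⟩ | ⟨h1, h3⟩
    · exact Subgroup.mem_sup_right ⟨h1, hn⟩
    · have e : n = s * (s⁻¹ * n) := by group
      rw [e]
      refine mul_mem (Subgroup.mem_sup_left (Subgroup.subset_closure rfl)) (Subgroup.mem_sup_right ⟨?_, N.mul_mem (N.inv_mem hsN) hn⟩)
      show (s⁻¹ * n) • x = x
      rw [mul_smul, h1, inv_smul_eq_iff, hsx]
  · intro s' hs' n hn c _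
    obtain rfl : s = s' := (Set.mem_singleton_iff.1 hs').symm
    have key : ∀ m : G, m ∈ B → ∀ g : G, g ∈ DoubleCoset.doubleCoset m (B : Set G) B ↔ g ∈ B := by
      intro m hm g
      rw [DoubleCoset.mem_doubleCoset]
      constructor
      · rintro ⟨c, hc, c', hc', rfl⟩
        exact mul_mem (mul_mem hc hm) hc'
      · intro hg
        exact ⟨g * m⁻¹, mul_mem hg (inv_mem hm), 1, one_mem _, by group⟩
    have key' : ∀ m : G, m • x = y → ∀ g : G, g ∉ B → g ∈ DoubleCoset.doubleCoset m (B : Set G) B := by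
      intro m hm g hg
      rw [DoubleCoset.mem_doubleCoset]
      rcases hG g with h | ⟨d, hd, d', hd', rfl⟩
      · exact absurd h hg
      · refine ⟨d, hd, m⁻¹ * s * d', mul_mem ?_ hd', by group⟩
        show (m⁻¹ * s) • x = x
        rw [mul_smul, hsx, inv_smul_eq_iff, hm]
    rcases hN n hn with ⟨h1, h3⟩ | ⟨h1, h3⟩
    · by_cases hg : s * c * n ∈ B
      · exact Or.inr ((key n h1 _).2 hg)
      · exact Or.inl (key' (s * n) (by rw [mul_smul, h1, hsx]) _ hg)
    · by_cases hg : s * c * n ∈ B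
      · exact Or.inl ((key (s * n) (by show (s * n) • x = x; rw [mul_smul, h1, hsy]) _).2 hg)
      · exact Or.inr (key' n h1 _ hg)
  · intro s' hs' h
    obtain rfl : s = s' := (Set.mem_singleton_iff.1 hs').symm
    have hmem : s * b * s ∈ (B : Set G) := h ▸ ⟨b, hbx, rfl⟩
    have : (s * b * s) • x = x := hmem
    rw [mul_smul, mul_smul, hsx, hby, ← eq_inv_smul_iff] at this
    have hinv : s⁻¹ • x = y := by rw [inv_smul_eq_iff, hsy]
    exact hyz (hinv.symm.trans this.symm)
  · simp [Cfsg.BNPair.rank]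

end Cfsg.Agent.S0323
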