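import Cfsg.Statements.S0326
import Mathlib.LinearAlgebra.Projectivization.Basic

set_option autoImplicit false
open Cfsg

namespace Cfsg.Agent.S0326

/-- The Suzuki–Tits ovoid over a finite field with `q` elements has `q² + 1` points. -/
theorem result {F : Type*} [Field F] [Fintype F] (m : ℕ) :
    Nat.card (Cfsg.suzukiOvoid F m) = Fintype.card F ^ 2 + 1 := by

  classical
  let v : Option (F × F) → (Fin 4 → F) := fun o => o.elim ![1, 0, 0, 0]
    fun p => ![p.1 * p.2 + p.1 ^ (2 ^ (m + 1) + 2) + p.2 ^ (2 ^ (m + 1)), p.2, p.1, 1]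
  have hv : ∀ o, v o ≠ 0 := by
    rintro (_ | p) h
    · simpa [v] using congrFun h 0
    · simpa [v] using congrFun h 3
  let f : Option (F × F) → Cfsg.suzukiOvoid F m := fun o => ⟨Projectivization.mk F (v o) (hv o), v o, hv o, rfl, by
    rcases o with _ | p
    · exact Or.inl rfl
    · exact Or.inr ⟨p.1, p.2, rfl⟩⟩
  have hf : Function.Bijective f := by
    refine ⟨fun o o' e => ?_, fun ⟨q, w, hw, hq, h⟩ => ?_⟩
    · obtain ⟨c, hc⟩ := (Projectivization.mk_eq_mk_iff' F _ _ (hv o) (hv o')).1 (congrArg Subtype.val e)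
      rcases o with _ | p <;> rcases o' with _ | p'
      · rfl
      · have h3 : c = 0 := by simpa [v] using congrFun hc 3
        have h0 := congrFun hc 0
        simp [v, h3] at h0
      · have h3 := congrFun hc 3
        simp [v] at h3
      · have h3 : c = 1 := by simpa [v] using congrFun hc 3
        have h1 := congrFun hc 1
        have h2 := congrFun hc 2
        simp [v, h3] at h1 h2
        exact congrArg some (Prod.ext h2.symm h1.symm)
    · subst hq
      rcases h with rfl | ⟨x, y, rfl⟩
      · exact ⟨none, rfl⟩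
      · exact ⟨some (x, y), rfl⟩
  rw [← Nat.card_eq_of_bijective f hf]
  simp [sq]

end Cfsg.Agent.S0326
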