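import Cfsg.Statements.S0328
import Cfsg.Agent.Lib.Lie.Suzuki.Group

set_option autoImplicit false
open Cfsg
open CfsgLib.Lie.Suzuki

namespace Cfsg.Agent.S0328

/-- The stabiliser in the Suzuki group of the two ovoid points spanned by `(1,0,0,0)` and `(0,0,0,1)` is
isomorphic to the multiplicative group of the field (cyclic of order `q - 1`). -/
theorem result {F : Type*} [Field F] [Fintype F] {m : ℕ} (hm : 1 ≤ m)
    (hF : Fintype.card F = 2 ^ (2 * m + 1)) :
    Nonempty (↥(MulAction.stabilizer (Cfsg.Sz F m) (Cfsg.suzukiPointInfinity F) ⊓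
        MulAction.stabilizer (Cfsg.Sz F m) (Cfsg.suzukiPointZero F)) ≃* Fˣ) := by
  haveI := CfsgLib.Lie.Suzuki.charTwo_of_card hF
  rw [qpt_inf (m := m), qpt_zero (m := m), stab_qpt, stab_qpt]
  let φ : Fˣ →* ↥(MulAction.stabilizer (Cfsg.Sz F m) (pt F m none) ⊓
      MulAction.stabilizer (Cfsg.Sz F m) (pt F m (some ((0 : F), (0 : F))))) :=
    (tS hF).codRestrict _ fun t => ⟨tS_none hF t, tS_zero hF t⟩
  refine ⟨(MulEquiv.ofBijective φ ⟨fun s t h => ?_, fun g => ?_⟩).symm⟩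
  · refine (uS_tS_inj hF (a := 0) (b := 0) (a' := 0) (b' := 0) ?_).2.2
    rw [show tS hF s = tS hF t from congrArg Subtype.val h]
  · obtain ⟨t, ht⟩ := stab_two hF hm g.2.1 g.2.2
    exact ⟨t, Subtype.ext ht.symm⟩

end Cfsg.Agent.S0328
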