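import Cfsg.Statements.S0335
import Cfsg.Agent.Lib.Lie.Suzuki.Structure

set_option autoImplicit false
open Cfsg
open CfsgLib.Lie.Suzuki

namespace Cfsg.Agent.S0335

/-- The Suzuki–Tits point set is an ovoid: any three distinct points of it are projectively independent
(no line of projective 3-space meets it in more than two points). -/
theorem result {F : Type*} [Field F] [Fintype F] {m : ℕ} (hm : 1 ≤ m)
    (hF : Fintype.card F = 2 ^ (2 * m + 1)) (p : Fin 3 ↪ Cfsg.suzukiOvoid F m) :
    Projectivization.Independent (fun i => (p i : Projectivization F (Fin 4 → F))) := by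
  haveI := CfsgLib.Lie.Suzuki.charTwo_of_card hF
  obtain ⟨g, hg0, hg1⟩ := exists_move hF (p.injective.ne (show (0 : Fin 3) ≠ 1 by decide))
  obtain ⟨_ | ⟨x, y⟩, ho⟩ := (pt F m).surjective (g⁻¹ • p 2)
  · exact absurd (p.injective ((hg0.symm.trans (by rw [ho, smul_inv_smul])) : p 0 = p 2)) (by decide)
  have hp2 : g • pt F m (some (x, y)) = p 2 := by rw [ho, smul_inv_smul]
  have hxy : ¬(x = 0 ∧ y = 0) := by
    rintro ⟨rfl, rfl⟩
    exact absurd (p.injective (hg1.symm.trans hp2)) (by decide)
  let o : Fin 3 → Option (F × F) := ![none, some ((0 : F), (0 : F)), some (x, y)]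
  have hpo : ∀ i, g • pt F m (o i) = p i := fun i => by
    fin_cases i <;> assumption
  obtain ⟨M, hM⟩ : ∃ M, M = ((g : Matrix.SpecialLinearGroup (Fin 4) F) : Matrix (Fin 4) (Fin 4) F) := ⟨_, rfl⟩
  have hne : ∀ i, M.mulVec (pvec (th F m) (o i)) ≠ 0 := fun i =>
    hM ▸ (sl_smul_mk (g : Matrix.SpecialLinearGroup (Fin 4) F) (pvec_ne_zero (θ := th F m) (o i))).1
  have heq : (fun i => (p i : Projectivization F (Fin 4 → F))) =
      fun i => Projectivization.mk F (M.mulVec (pvec (th F m) (o i))) (hne i) := by
    funext i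
    rw [← hpo i]
    subst hM
    rfl
  rw [heq]
  refine Projectivization.Independent.mk _ hne ?_
  have hli : LinearIndependent F fun i => pvec (th F m) (o i) := by
    refine Fintype.linearIndependent_iff.2 fun c hc => ?_
    have e0 := congrFun hc 0
    have e1 := congrFun hc 1
    have e2 := congrFun hc 2
    have e3 := congrFun hc 3
    simp [Fin.sum_univ_three, o, pvec, fQ] at e0 e1 e2 e3
    have c2 : c 2 = 0 := by
      by_contra h
      exact hxy ⟨e2.resolve_left h, e1.resolve_left h⟩
    simp [c2] at e0 e3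
    intro i
    fin_cases i <;> assumption
  exact hli.map' M.mulVecLin (Matrix.ker_mulVecLin_eq_bot_iff.2 fun v hv => by
    by_contra h
    exact (sl_smul_mk (g : Matrix.SpecialLinearGroup (Fin 4) F) h).1 (hM ▸ hv))

end Cfsg.Agent.S0335
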