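import Cfsg.Statements.S0386
import Cfsg.Agent.Lib.Sporadic.Mathieu
-- import your own Cfsg.Agent.* helpers here

set_option autoImplicit false
open Cfsg
open scoped Pointwise

namespace Cfsg.Agent.S0386

/-- For a fixed dodecad, 132 octads meet it in 6 points, 132 in 2 points and 495 in 4 points. -/
theorem result (d : Finset Cfsg.GolayPt) (hd : d ∈ Cfsg.dodecads) : {o : Finset Cfsg.GolayPt | o ∈ Cfsg.octads ∧ (o ∩ d).card = 6}.ncard = 132 ∧ {o : Finset Cfsg.GolayPt | o ∈ Cfsg.octads ∧ (o ∩ d).card = 2}.ncard = 132 ∧ {o : Finset Cfsg.GolayPt | o ∈ Cfsg.octads ∧ (o ∩ d).card = 4}.ncard = 495 := by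
  obtain ⟨g, rfl⟩ := CfsgLib.Sporadic.exists_smul_stdD hd
  have key : ∀ n : ℕ, {o : Finset GolayPt | o ∈ octads ∧ (o ∩ g • CfsgLib.Sporadic.setOfMask CfsgLib.Sporadic.stdD).card = n}.ncard
      = CfsgLib.Sporadic.countLt 4096 (fun k => Nat.beq (CfsgLib.Sporadic.popc (CfsgLib.Sporadic.enc k)) 8 &&
          Nat.beq (CfsgLib.Sporadic.popc (Nat.land (CfsgLib.Sporadic.enc k) CfsgLib.Sporadic.stdD)) n) := by
    intro n
    rw [← CfsgLib.Sporadic.ncard_smul_congr g (P := fun o => o ∈ octads ∧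
      (o ∩ CfsgLib.Sporadic.setOfMask CfsgLib.Sporadic.stdD).card = n) (Q := fun o => o ∈ octads ∧ (o ∩ g • CfsgLib.Sporadic.setOfMask CfsgLib.Sporadic.stdD).card = n) fun o => by
      rw [CfsgLib.Sporadic.smul_mem_octads', CfsgLib.Sporadic.card_inter_smul]]
    refine CfsgLib.Sporadic.ncard_eq_countLt (fun m => Nat.beq (CfsgLib.Sporadic.popc m) 8 &&
      Nat.beq (CfsgLib.Sporadic.popc (Nat.land m CfsgLib.Sporadic.stdD)) n) fun s => ?_
    rw [Set.mem_ofPred_eq, CfsgLib.Sporadic.mem_octads_iff, and_assoc, Bool.and_eq_true, Nat.beq_eq,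
      Nat.beq_eq]
    refine and_congr_right fun _ => and_congr_right fun _ => ?_
    rw [← CfsgLib.Sporadic.popc_maskOf (s ∩ _), CfsgLib.Sporadic.maskOf_inter,
      CfsgLib.Sporadic.maskOf_setOfMask (by decide)]
    rfl
  refine ⟨?_, ?_, ?_⟩ <;> rw [key] <;> decide +kernel

end Cfsg.Agent.S0386
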