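import Cfsg.Statements.S0402
import Cfsg.Agent.Lib.Sporadic.ConwayTwoSimple
-- import your own Cfsg.Agent.* helpers here

set_option autoImplicit false
open Cfsg CfsgLib.Sporadic
open scoped Pointwise

namespace Cfsg.Agent.S0402

/-- Stabiliser of a minimal vector is simple of order 42305421312000. -/
theorem result (v : Cfsg.leechLattice) (hv : Cfsg.sqNorm (v : Cfsg.GolayPt → ℤ) = 32) : Cfsg.IsCo2 (MulAction.stabilizer Cfsg.Co0 v) := by
  obtain ⟨g, hg⟩ := Conway.to_pair hv
  have hm : [v].map (g • ·) = [Conway.pairElt] := by simp [hg]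
  have e : MulAction.stabilizer Cfsg.Co0 v = Conway.fixGroup [v] := by
    ext a
    simp [Conway.mem_fixGroup]
  rw [e]
  refine ⟨?_, ?_⟩
  · exact isSimple_congr ((Conway.fixConj [v] g).trans (MulEquiv.subgroupCongr (congrArg Conway.fixGroup hm))).symm Conway.simple_coTwo
  · rw [← Conway.card_fix_map [v] g, hm, Conway.card_fix_pair]

end Cfsg.Agent.S0402
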