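import Cfsg.Statements.S0404
import Cfsg.Agent.Lib.Sporadic.ConwaySmallSimple
-- import your own Cfsg.Agent.* helpers here

set_option autoImplicit false
open Cfsg CfsgLib.Sporadic
open scoped Pointwise

namespace Cfsg.Agent.S0404

/-- Joint stabiliser of two minimal vectors with coordinate dot product −8 is simple of order 898128000. -/
theorem result (v w : Cfsg.leechLattice) (hv : Cfsg.sqNorm (v : Cfsg.GolayPt → ℤ) = 32) (hw : Cfsg.sqNorm (w : Cfsg.GolayPt → ℤ) = 32) (hvw : Cfsg.dotInt (v : Cfsg.GolayPt → ℤ) (w : Cfsg.GolayPt → ℤ) = -8) : Cfsg.IsMcL ↥(MulAction.stabilizer Cfsg.Co0 v ⊓ MulAction.stabilizer Cfsg.Co0 w) := by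
  have hu : Cfsg.sqNorm ((v + w : ↥Cfsg.leechLattice) : Cfsg.GolayPt → ℤ) = 48 := by
    rw [AddSubgroup.coe_add, Conway.sq_add_dot, hv, hw, hvw]
    norm_num
  obtain ⟨g, hg1, hg2⟩ := Conway.to_mcl hu (v := v) ⟨hv, by rw [AddSubgroup.coe_add, add_sub_cancel_left]; exact hw⟩
  have hm : [v + w, v].map (g • ·) = [Conway.fiveElt, Conway.pairElt] := by simp [hg1, hg2]
  have e : MulAction.stabilizer Cfsg.Co0 v ⊓ MulAction.stabilizer Cfsg.Co0 w = Conway.fixGroup [v + w, v] := by
    ext a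
    simp only [Subgroup.mem_inf, MulAction.mem_stabilizer_iff, Conway.mem_fixGroup, List.forall_mem_cons, List.not_mem_nil, false_imp_iff, implies_true, and_true]
    have hadd : a • (v + w) = a • v + a • w := map_add (Conway.linOf a) v w
    constructor
    · rintro ⟨h1, h2⟩
      exact ⟨by rw [hadd, h1, h2], h1⟩
    · rintro ⟨h1, h2⟩
      rw [hadd, h2, add_right_inj] at h1
      exact ⟨h2, h1⟩
  rw [e]
  refine ⟨?_, ?_⟩
  · exact isSimple_congr ((Conway.fixConj [v + w, v] g).trans (MulEquiv.subgroupCongr (congrArg Conway.fixGroup hm))).symm Conway.simple_mcl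
  · rw [← Conway.card_fix_map [v + w, v] g, hm, Conway.card_fix_mcl]

end Cfsg.Agent.S0404
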