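import Cfsg.Statements.S0405
import Cfsg.Agent.Lib.Sporadic.ConwaySmallSimple
-- import your own Cfsg.Agent.* helpers here

set_option autoImplicit false
open Cfsg CfsgLib.Sporadic
open scoped Pointwise

namespace Cfsg.Agent.S0405

/-- Joint stabiliser of two vectors of sum of squares 48 with coordinate dot product −32 is simple of order 44352000. -/
theorem result (v w : Cfsg.leechLattice) (hv : Cfsg.sqNorm (v : Cfsg.GolayPt → ℤ) = 48) (hw : Cfsg.sqNorm (w : Cfsg.GolayPt → ℤ) = 48) (hvw : Cfsg.dotInt (v : Cfsg.GolayPt → ℤ) (w : Cfsg.GolayPt → ℤ) = -32) : Cfsg.IsHS ↥(MulAction.stabilizer Cfsg.Co0 v ⊓ MulAction.stabilizer Cfsg.Co0 w) := by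
  obtain ⟨g, hg1, hg2⟩ := Conway.to_hs hv hw hvw
  have hm : [v, w].map (g • ·) = [Conway.fiveElt, Conway.hsElt] := by simp [hg1, hg2]
  have e : MulAction.stabilizer Cfsg.Co0 v ⊓ MulAction.stabilizer Cfsg.Co0 w = Conway.fixGroup [v, w] := by
    ext a
    simp [Conway.mem_fixGroup]
  rw [e]
  refine ⟨?_, ?_⟩
  · exact isSimple_congr ((Conway.fixConj [v, w] g).trans (MulEquiv.subgroupCongr (congrArg Conway.fixGroup hm))).symm Conway.simple_hs
  · rw [← Conway.card_fix_map [v, w] g, hm, Conway.card_fix_hs]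

end Cfsg.Agent.S0405
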