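import Cfsg.Statements.S0427
import Cfsg.Agent.Lib.Sporadic.Design
-- import your own Cfsg.Agent.* helpers here

set_option autoImplicit false
open Cfsg CfsgLib.Sporadic
open scoped Pointwise

namespace Cfsg.Agent.S0427

/-- The block graph (adjacent = disjoint) of an S(3, 6, 22) is strongly regular with parameters (77, 16, 0, 4). -/
theorem result {α : Type*} [Fintype α] (hα : Fintype.card α = 22) {B : Set (Finset α)} (hB : Cfsg.IsSteinerSystem 3 6 B) [Fintype B] [DecidableRel (Cfsg.blockGraph B).Adj] : (Cfsg.blockGraph B).IsSRGWith 77 16 0 4 := by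
  classical
  have hcard : Fintype.card B = 77 := by
    have h := CfsgLib.Sporadic.Design.card_above22 hα hB (s := ∅) (by simp)
    rw [show CfsgLib.Sporadic.Design.above B (∅ : Finset α) = CfsgLib.Sporadic.Design.blocks B by simp [CfsgLib.Sporadic.Design.above]] at h
    rw [Fintype.card_eq_nat_card, Nat.card_coe_set_eq, ← CfsgLib.Sporadic.Design.card_blocks]
    simpa using h
  have hne : ∀ b : B, ¬ Disjoint (b : Finset α) b := fun b h => by
    have := hB.1 b b.2
    simp [disjoint_self.1 h] at this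
  have hadj : ∀ b c : B, (blockGraph B).Adj b c ↔ Disjoint (b : Finset α) c := fun b c => by
    rw [blockGraph, SimpleGraph.fromRel_adj]
    refine ⟨fun h => h.2.elim id (fun h' => h'.symm), fun h => ⟨fun e => ?_, Or.inl h⟩⟩
    subst e; exact hne b h
  have hcommon : ∀ b c : B, b ≠ c → Fintype.card ((blockGraph B).commonNeighbors b c) =
      if Disjoint (b : Finset α) c then 0 else 4 := fun b c hbc => by
    rw [← CfsgLib.Sporadic.Design.card_apart_both hα hB b.2 c.2 (Subtype.coe_injective.ne hbc),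
      Fintype.card_eq_nat_card, Nat.card_coe_set_eq,
      ← Set.ncard_image_of_injective _ Subtype.coe_injective, ← Set.ncard_coe_finset]
    congr 1
    ext d
    simp only [Set.mem_image, Finset.coe_filter, Set.mem_ofPred_eq, CfsgLib.Sporadic.Design.mem_apart,
      SimpleGraph.commonNeighbors, Set.mem_inter_iff, SimpleGraph.mem_neighborSet, hadj]
    exact ⟨fun ⟨e, he, hd⟩ => hd ▸ ⟨⟨e.2, he.1⟩, he.2⟩, fun ⟨⟨h1, h2⟩, h3⟩ => ⟨⟨d, h1⟩, ⟨h2, h3⟩, rfl⟩⟩
  refine ⟨hcard, fun b => ?_, fun b c h => ?_, fun b c hbc h => ?_⟩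
  · rw [← SimpleGraph.card_neighborSet_eq_degree, Fintype.card_eq_nat_card, Nat.card_coe_set_eq,
      ← Set.ncard_image_of_injective _ Subtype.coe_injective,
      show (16 : ℕ) = (CfsgLib.Sporadic.Design.apart B (b : Finset α)).card by
        rw [CfsgLib.Sporadic.Design.apart, CfsgLib.Sporadic.Design.card_meet22 hα hB b.2 (Finset.empty_subset _)]; rfl,
      ← Set.ncard_coe_finset]
    congr 1
    ext d
    simp only [Set.mem_image, SimpleGraph.mem_neighborSet, hadj, Finset.mem_coe, CfsgLib.Sporadic.Design.mem_apart]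
    exact ⟨fun ⟨e, he, hd⟩ => hd ▸ ⟨e.2, he⟩, fun ⟨h1, h2⟩ => ⟨⟨d, h1⟩, h2, rfl⟩⟩
  · rw [hcommon b c h.ne, if_pos ((hadj b c).1 h)]
  · rw [hcommon b c hbc, if_neg fun hd => h ((hadj b c).2 hd)]

end Cfsg.Agent.S0427
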