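import Cfsg.Statements.S0440
import Cfsg.Agent.Lib.Classical.Symplectic.MatrixTransvection
import Mathlib.Algebra.Field.ZMod
-- import your own Cfsg.Agent.* helpers here

set_option autoImplicit false
open Cfsg

namespace Cfsg.Agent.S0440

open CfsgLib.Classical CfsgLib.Classical.Symp
open scoped Matrix

variable {n : ℕ}

abbrev V (n : ℕ) := Fin n ⊕ Fin n → ZMod 2

abbrev hA (n : ℕ) := sympBil_isAlt n (ZMod 2)

/-- The transvection with centre `v`, as a matrix in the symplectic group. -/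
noncomputable def tv (v : V n) : Matrix.symplecticGroup (Fin n) (ZMod 2) :=
  (symplecticEquiv n (ZMod 2)).symm (tr (hA n) v 1)

theorem two_cases (c : ZMod 2) : c = 0 ∨ c = 1 := by revert c; decide

theorem tv_mulVec (v x : V n) :
    (tv v : Matrix (Fin n ⊕ Fin n) (Fin n ⊕ Fin n) (ZMod 2)) *ᵥ x =
      x + sympBil n (ZMod 2) x v • v := by
  rw [tv, symplecticEquiv_symm_mulVec, tr_apply, one_mul]

theorem exists_pair {v : V n} (hv : v ≠ 0) : ∃ x, sympBil n (ZMod 2) x v = 1 := by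
  obtain ⟨y, -, hy⟩ := exists_partner (nondeg_top (sympBil_nondegenerate n (ZMod 2)))
    (Submodule.mem_top : v ∈ (⊤ : Submodule (ZMod 2) (V n))) hv
  refine ⟨y, ?_⟩
  rw [swap (hA n), hy]
  decide

theorem tv_rank {v : V n} (hv : v ≠ 0) :
    ((tv v : Matrix (Fin n ⊕ Fin n) (Fin n ⊕ Fin n) (ZMod 2)) - 1).rank = 1 := by
  rw [Matrix.rank]
  have h : LinearMap.range
      (Matrix.mulVecLin ((tv v : Matrix (Fin n ⊕ Fin n) (Fin n ⊕ Fin n) (ZMod 2)) - 1)) =
      Submodule.span (ZMod 2) {v} := by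
    apply le_antisymm
    · rintro _ ⟨x, rfl⟩
      rw [Matrix.mulVecLin_apply, Matrix.sub_mulVec, Matrix.one_mulVec, tv_mulVec,
        add_sub_cancel_left]
      exact Submodule.smul_mem _ _ (Submodule.mem_span_singleton_self v)
    · rw [Submodule.span_singleton_le_iff_mem]
      obtain ⟨x, hx⟩ := exists_pair hv
      exact ⟨x, by rw [Matrix.mulVecLin_apply, Matrix.sub_mulVec, Matrix.one_mulVec, tv_mulVec,
        hx, one_smul, add_sub_cancel_left]⟩
  rw [h, finrank_span_singleton hv]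

theorem eq_tv {g : Matrix.symplecticGroup (Fin n) (ZMod 2)}
    (h : ((g : Matrix (Fin n ⊕ Fin n) (Fin n ⊕ Fin n) (ZMod 2)) - 1).rank = 1) :
    ∃ v : V n, v ≠ 0 ∧ g = tv v := by
  rw [Matrix.rank] at h
  obtain ⟨⟨w, hwm⟩, hw0, hall⟩ := finrank_eq_one_iff'.1 h
  have hw : w ≠ 0 := fun e => hw0 (Subtype.ext e)
  let e := symplecticEquiv n (ZMod 2) g
  have hspan : ∀ x : V n, ∃ c : ZMod 2, (e : V n ≃ₗ[ZMod 2] V n) x = x + c • w := by
    intro x
    obtain ⟨c, hc⟩ := hall ⟨_, x, rfl⟩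
    refine ⟨c, ?_⟩
    have hc' := congrArg Subtype.val hc
    simp only [SetLike.val_smul] at hc'
    rw [Matrix.mulVecLin_apply, Matrix.sub_mulVec, Matrix.one_mulVec] at hc'
    rw [symplecticEquiv_apply, hc', add_sub_cancel]
  choose f hf using hspan
  have hiso : ∀ x y, f x * sympBil n (ZMod 2) w y + f y * sympBil n (ZMod 2) x w = 0 := by
    intro x y
    have he : sympBil n (ZMod 2) ((e : V n ≃ₗ[ZMod 2] V n) x) ((e : V n ≃ₗ[ZMod 2] V n) y) =
        sympBil n (ZMod 2) x y := e.2 x y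
    simp only [hf, map_add, LinearMap.map_smul, LinearMap.add_apply, LinearMap.smul_apply,
      smul_eq_mul, hA n w, mul_zero, add_zero] at he
    rw [add_assoc] at he
    simpa [add_comm] using add_eq_left.mp he
  obtain ⟨y, hy⟩ := exists_pair hw
  have hy' : sympBil n (ZMod 2) w y = 1 := by rw [swap (hA n), hy]; decide
  have hfx : ∀ x, f x = f y * sympBil n (ZMod 2) x w := by
    intro x
    have := hiso x y
    rw [hy', mul_one] at this
    rw [eq_neg_of_add_eq_zero_left this]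
    exact ZMod.neg_eq_self_mod_two _
  have heq : g = (symplecticEquiv n (ZMod 2)).symm (tr (hA n) w (f y)) := by
    rw [MulEquiv.eq_symm_apply]
    apply Subtype.ext
    refine LinearEquiv.ext fun x => ?_
    rw [tr_apply, hf, hfx x]
  rcases two_cases (f y) with hc | hc
  · exfalso
    rw [hc, tr_zero, map_one] at heq
    apply hw
    obtain ⟨x, hx⟩ := hwm
    rw [← hx, heq]
    simp
  · exact ⟨w, hw, by rw [heq, hc]; rfl⟩

theorem mem_iff {g : Matrix.symplecticGroup (Fin n) (ZMod 2)} :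
    ((g : Matrix (Fin n ⊕ Fin n) (Fin n ⊕ Fin n) (ZMod 2)) - 1).rank = 1 ↔
      ∃ v : V n, v ≠ 0 ∧ g = tv v :=
  ⟨eq_tv, by rintro ⟨v, hv, rfl⟩; exact tv_rank hv⟩

theorem tv_conj (g : Matrix.symplecticGroup (Fin n) (ZMod 2)) (v : V n) :
    g * tv v * g⁻¹ = tv ((g : Matrix (Fin n ⊕ Fin n) (Fin n ⊕ Fin n) (ZMod 2)) *ᵥ v) := by
  have key := congrArg (symplecticEquiv n (ZMod 2)).symm
    (conj_tr (hA n) (symplecticEquiv n (ZMod 2) g) v 1)
  rw [map_mul, map_mul, map_inv, MulEquiv.symm_apply_apply, symplecticEquiv_apply] at key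
  exact key

theorem tv_sq (v : V n) : tv v * tv v = 1 := by
  rw [tv, ← map_mul, tr_mul]
  have : (1 : ZMod 2) + 1 = 0 := by decide
  rw [this, tr_zero, map_one]

theorem tv_inv (v : V n) : (tv v)⁻¹ = tv v := inv_eq_of_mul_eq_one_right (tv_sq v)

theorem tv_products (u v : V n) :
    (tv u * tv v) ^ 2 = 1 ∨ (tv u * tv v) ^ 3 = 1 := by
  have hc : ∀ a b : V n, tv a * tv b * tv a = tv (b + sympBil n (ZMod 2) b a • a) := by
    intro a b
    have := tv_conj (tv a) b
    rwa [tv_inv, tv_mulVec] at this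
  rcases two_cases (sympBil n (ZMod 2) v u) with h | h
  · left
    have h1 := hc u v
    rw [h, zero_smul, add_zero] at h1
    rw [pow_two, ← mul_assoc, h1, tv_sq]
  · right
    have h' : sympBil n (ZMod 2) u v = 1 := by rw [swap (hA n), h]; decide
    have h1 := hc u v
    have h2 := hc v u
    rw [h, one_smul] at h1
    rw [h', one_smul, add_comm] at h2
    calc (tv u * tv v) ^ 3 = (tv u * tv v * tv u) * (tv v * tv u * tv v) := by
          simp only [pow_succ, pow_zero, one_mul, mul_assoc]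
      _ = 1 := by rw [h1, h2, tv_sq]

theorem closure_tv :
    Subgroup.closure {g : Matrix.symplecticGroup (Fin n) (ZMod 2) |
      ∃ v : V n, v ≠ 0 ∧ g = tv v} = ⊤ := by
  rw [eq_top_iff, ← closure_sympTransvection_eq_top (m := n) (F := ZMod 2), Subgroup.closure_le]
  rintro A ⟨w, c, hAc⟩
  have hAeq : A = (symplecticEquiv n (ZMod 2)).symm (tr (hA n) w c) :=
    Subtype.ext (hAc.trans (symplecticEquiv_symm_tr w c).symm)
  rcases two_cases c with rfl | rfl
  · rw [hAeq, tr_zero, map_one]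
    exact Subgroup.one_mem _
  · by_cases hw : w = 0
    · subst hw
      have : tr (hA n) (0 : V n) 1 = 1 := by
        apply Subtype.ext
        refine LinearEquiv.ext fun x => ?_
        rw [tr_apply]
        simp
      rw [hAeq, this, map_one]
      exact Subgroup.one_mem _
    · exact Subgroup.subset_closure ⟨w, hw, hAeq⟩

/-- In the symplectic group in dimension 2n ≥ 2 over the field with two elements, the elements g for which g - 1 has rank one (the symplectic transvections) form a conjugacy class of 3-transpositions generating the group. -/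
theorem result (n : ℕ) (hn : 1 ≤ n) : Cfsg.IsThreeTranspositionClass {g : Matrix.symplecticGroup (Fin n) (ZMod 2) | ((g : Matrix (Fin n ⊕ Fin n) (Fin n ⊕ Fin n) (ZMod 2)) - 1).rank = 1} := by
  have hset : {g : Matrix.symplecticGroup (Fin n) (ZMod 2) |
      ((g : Matrix (Fin n ⊕ Fin n) (Fin n ⊕ Fin n) (ZMod 2)) - 1).rank = 1} =
      {g | ∃ v : V n, v ≠ 0 ∧ g = tv v} := Set.ext fun g => mem_iff
  rw [hset]
  haveI : Nonempty (Fin n) := ⟨⟨0, hn⟩⟩
  obtain ⟨v₀, hv₀⟩ := exists_ne (0 : V n)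
  refine ⟨⟨?_, ?_⟩, ⟨tv v₀, ⟨v₀, hv₀, rfl⟩, ?_⟩, closure_tv⟩
  · rintro d ⟨v, hv, rfl⟩
    refine orderOf_eq_prime (by rw [pow_two, tv_sq]) fun h1 => ?_
    have := tv_rank hv
    rw [h1] at this
    simp at this
  · rintro d ⟨u, hu, rfl⟩ e ⟨v, hv, rfl⟩
    exact tv_products u v
  · ext g
    show (∃ v : V n, v ≠ 0 ∧ g = tv v) ↔ IsConj (tv v₀) g
    rw [isConj_iff]
    constructor
    · rintro ⟨v, hv, rfl⟩
      obtain ⟨t, -, ht⟩ := sp_transitive_ne_zero (hA n) (sympBil_nondegenerate n (ZMod 2)) hv₀ hv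
      exact ⟨(symplecticEquiv n (ZMod 2)).symm t, by rw [tv_conj, symplecticEquiv_symm_mulVec, ht]⟩
    · rintro ⟨c, rfl⟩
      refine ⟨_, ?_, tv_conj c v₀⟩
      intro h0
      rw [← symplecticEquiv_apply] at h0
      exact hv₀ ((LinearEquiv.map_eq_zero_iff _).1 h0)

end Cfsg.Agent.S0440
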