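import Cfsg.Statements.S0441
import Cfsg.Agent.Lib.ThreeTrans.RankThree

set_option autoImplicit false
open Cfsg

namespace Cfsg.Agent.S0441

/-- Fischer's rank-three property. Let a finite group be generated by a conjugacy class D of 3-transpositions, with non-abelian simple commutator subgroup. Then for a in D there are members of D other than a commuting with a and members not commuting with a, and the centraliser of a acts transitively on each of these two sets. -/
theorem result {G : Type*} [Group G] [Finite G] {D : Set G} (hD : Cfsg.IsThreeTranspositionClass D) (hsimple : IsSimpleGroup (commutator G)) (hnonab : ∃ x y : commutator G, x * y ≠ y * x) {a : G} (ha : a ∈ D) : (∃ b ∈ D, b ≠ a ∧ Commute a b) ∧ (∃ c ∈ D, ¬ Commute a c) ∧ (∀ b ∈ D, ∀ b' ∈ D, b ≠ a → b' ≠ a → Commute a b → Commute a b' → ∃ g : G, Commute g a ∧ g * b * g⁻¹ = b') ∧ (∀ c ∈ D, ∀ c' ∈ D, ¬ Commute a c → ¬ Commute a c' → ∃ g : G, Commute g a ∧ g * c * g⁻¹ = c') := by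
  haveI := hsimple
  have S := CfsgLib.ThreeTrans.RankThree.setting_of_simple hD hnonab
  refine ⟨?_, CfsgLib.ThreeTrans.exists_not_commute hD S.nontriv ha,
    fun b hb b' hb' hba hb'a hab hab' => S.commute_transitive ha hb hba hab hb' hb'a hab',
    fun c hc c' hc' hac hac' => S.noncommute_transitive ha hc hac hc' hac'⟩
  obtain ⟨p, hp, q, hq, hpq, hc⟩ := S.width
  obtain ⟨g, rfl⟩ := CfsgLib.ThreeTrans.class_trans hD hp ha
  exact ⟨g * q * g⁻¹, CfsgLib.ThreeTrans.class_conj hD g q hq,
    fun h => hpq (mul_left_cancel (mul_right_cancel h)).symm, CfsgLib.ThreeTrans.commute_conj_iff.2 hc⟩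

end Cfsg.Agent.S0441
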