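import Cfsg.Statements.S0442
-- import your own Cfsg.Agent.* helpers here

set_option autoImplicit false
open Cfsg

namespace Cfsg.Agent.S0442

/-- A standard trick for producing elements of an involution centraliser: for an involution a and an element g, let b be the conjugate g⁻¹ * a * g. If a * b has odd order 2m + 1 then g * (a * b) ^ m commutes with a; if a * b has even order 2m then (a * b) ^ m and (a * (g * a * g⁻¹)) ^ m commute with a. -/
theorem result {G : Type*} [Group G] (a g : G) (ha : orderOf a = 2) : (∀ m : ℕ, orderOf (a * (g⁻¹ * a * g)) = 2 * m + 1 → Commute (g * (a * (g⁻¹ * a * g)) ^ m) a) ∧ (∀ m : ℕ, orderOf (a * (g⁻¹ * a * g)) = 2 * m → Commute ((a * (g⁻¹ * a * g)) ^ m) a ∧ Commute ((a * (g * a * g⁻¹)) ^ m) a) := by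
  have haa : a * a = 1 := by rw [← pow_two, ← ha]; exact pow_orderOf_eq_one a
  have hainv : a⁻¹ = a := inv_eq_of_mul_eq_one_right haa
  set a' := g⁻¹ * a * g with ha'def
  have ha'inv : a'⁻¹ = a' := by simp [ha'def, hainv, mul_assoc]
  -- conjugating a product of two involutions by the first one inverts it
  have key : ∀ (b : G), b⁻¹ = b → ∀ k : ℕ, a * (a * b) ^ k = ((a * b) ^ k)⁻¹ * a := by
    intro b hb k
    have h1 : a * (a * b) * a⁻¹ = (a * b)⁻¹ := by
      rw [mul_inv_rev, hb, hainv, ← mul_assoc a a b, haa, one_mul]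
    have h2 := congrArg (· * a) (conj_pow (i := k) (a := a) (b := a * b)).symm
    simp only [inv_mul_cancel_right] at h2
    rw [h2, h1, inv_pow]
  refine ⟨fun m hm => ?_, fun m hm => ?_⟩
  · set w := a * a' with hw
    have hwm : w ^ (2 * m + 1) = 1 := by rw [← hm]; exact pow_orderOf_eq_one w
    have h3 : w ^ (m + 1) = (w ^ m)⁻¹ := eq_inv_of_mul_eq_one_left (by
      rw [← pow_add]; rw [show m + 1 + m = 2 * m + 1 by omega]; exact hwm)
    show g * w ^ m * a = a * (g * w ^ m)
    symm
    calc a * (g * w ^ m) = g * (a' * w ^ m) := by simp only [ha'def, mul_assoc, mul_inv_cancel_left]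
      _ = g * (a * (w * w ^ m)) := by
          rw [hw]; simp only [← mul_assoc, haa, one_mul]
      _ = g * (a * w ^ (m + 1)) := by rw [_root_.pow_succ' w m]
      _ = g * ((w ^ (m + 1))⁻¹ * a) := by rw [hw, key a' ha'inv]
      _ = g * w ^ m * a := by rw [h3, inv_inv, mul_assoc]
  · have gen : ∀ b : G, b⁻¹ = b → (a * b) ^ (2 * m) = 1 → Commute ((a * b) ^ m) a := by
      intro b hb hp
      have h3 : (a * b) ^ m = ((a * b) ^ m)⁻¹ := eq_inv_of_mul_eq_one_left (by
        rw [← pow_add, show m + m = 2 * m by omega]; exact hp)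
      show (a * b) ^ m * a = a * (a * b) ^ m
      rw [key b hb m, ← h3]
    refine ⟨gen a' ha'inv (by rw [← hm]; exact pow_orderOf_eq_one _), gen _ ?_ ?_⟩
    · simp [hainv, mul_assoc]
    · have : a * (g * a * g⁻¹) = g * (a * a')⁻¹ * g⁻¹ := by
        rw [mul_inv_rev, ha'inv, hainv, ha'def]
        simp only [mul_assoc, mul_inv_cancel_left]
      rw [this, conj_pow, inv_pow, ← hm, pow_orderOf_eq_one]
      simp

end Cfsg.Agent.S0442
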