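import Cfsg.Statements.S0443
-- import your own Cfsg.Agent.* helpers here

set_option autoImplicit false
open Cfsg

namespace Cfsg.Agent.S0443

/-- Two definitions of a 2-central involution agree: an element t of order 2 of a finite group lies in the centre of some Sylow 2-subgroup if and only if its centraliser contains some Sylow 2-subgroup. -/
theorem result {G : Type*} [Group G] [Finite G] (t : G) (ht : orderOf t = 2) : Cfsg.IsTwoCentralInvolution t ↔ ∃ P : Sylow 2 G, (P : Subgroup G) ≤ Subgroup.centralizer ({t} : Set G) := by
  constructor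
  · rintro ⟨-, P, -, hP⟩
    refine ⟨P, fun x hx => ?_⟩
    rw [Subgroup.mem_centralizer_iff]
    rintro h rfl
    exact (hP x hx).symm
  · rintro ⟨P, hP⟩
    have hcomm : ∀ x ∈ P, x * t = t * x := fun x hx =>
      ((Subgroup.mem_centralizer_iff.1 (hP hx)) t rfl).symm
    refine ⟨ht, P, ?_, hcomm⟩
    have hn : Subgroup.zpowers t ≤ Subgroup.normalizer ((P : Subgroup G) : Set G) := by
      refine le_trans ?_ (Subgroup.centralizer_le_normalizer (s := ((P : Subgroup G) : Set G)))
      rw [Subgroup.zpowers_le, Subgroup.mem_centralizer_iff]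
      exact fun h hh => hcomm h hh
    have hp : IsPGroup 2 ↥((P : Subgroup G) ⊔ Subgroup.zpowers t) :=
      P.isPGroup'.to_sup_of_normal_left' (IsPGroup.of_card (n := 1) (by rw [Nat.card_zpowers, ht, pow_one])) hn
    have := P.is_maximal' hp le_sup_left
    show t ∈ (P : Subgroup G)
    rw [← this]
    exact Subgroup.mem_sup_right (Subgroup.mem_zpowers t)

end Cfsg.Agent.S0443
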