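import Cfsg.Statements.S0445
-- import your own Cfsg.Agent.* helpers here

set_option autoImplicit false
open Cfsg

namespace Cfsg.Agent.S0445

abbrev M5 := Matrix (Fin 5) (Fin 5) (ZMod 2)

/-- The general element commuting with the transvection. -/
def mk (a : ZMod 2) (u w : Fin 3 → ZMod 2) (B : Matrix (Fin 3) (Fin 3) (ZMod 2)) : M5 :=
  !![1, a, u 0, u 1, u 2;
     0, 1, 0, 0, 0;
     0, w 0, B 0 0, B 0 1, B 0 2;
     0, w 1, B 1 0, B 1 1, B 1 2;
     0, w 2, B 2 0, B 2 1, B 2 2]

theorem det_mk (a : ZMod 2) (u w : Fin 3 → ZMod 2) (B : Matrix (Fin 3) (Fin 3) (ZMod 2)) :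
    (mk a u w B).det = B.det := by
  rw [Matrix.det_succ_column_zero, Fin.sum_univ_succ, Matrix.det_fin_three]
  simp [mk, Fin.sum_univ_succ, Matrix.det_succ_row_zero (n := 3), Matrix.det_fin_three,
    Matrix.submatrix_apply, Fin.succAbove, Fin.ext_iff]

/-- `mk` as an element of the special linear group. -/
def toSL (p : ZMod 2 × (Fin 3 → ZMod 2) × (Fin 3 → ZMod 2) ×
    {B : Matrix (Fin 3) (Fin 3) (ZMod 2) // B.det = 1}) :
    Matrix.SpecialLinearGroup (Fin 5) (ZMod 2) :=
  ⟨mk p.1 p.2.1 p.2.2.1 p.2.2.2.1, by rw [det_mk]; exact p.2.2.2.2⟩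

theorem card_sl3 :
    Nat.card {B : Matrix (Fin 3) (Fin 3) (ZMod 2) // B.det = 1} = 168 := by
  rw [Nat.card_eq_fintype_card]
  simp only [Matrix.det_fin_three]
  decide +kernel

theorem mk_comm (a : ZMod 2) (u w : Fin 3 → ZMod 2) (B : Matrix (Fin 3) (Fin 3) (ZMod 2)) :
    mk a u w B * Matrix.transvection 0 1 1 = Matrix.transvection 0 1 1 * mk a u w B := by
  rw [Matrix.transvection, mul_add, add_mul, mul_one, one_mul]
  congr 1
  ext i j
  fin_cases i <;> fin_cases j <;> simp [mk, Matrix.mul_apply, Matrix.single]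

theorem comm_single {M : M5}
    (h : M * Matrix.transvection 0 1 1 = Matrix.transvection 0 1 1 * M) (i j : Fin 5) :
    (M * Matrix.single (0 : Fin 5) (1 : Fin 5) (1 : ZMod 2) : M5) i j =
      (Matrix.single (0 : Fin 5) (1 : Fin 5) (1 : ZMod 2) * M : M5) i j := by
  rw [Matrix.transvection, mul_add, add_mul, mul_one, one_mul] at h
  have e := congrFun (congrFun h i) j
  simp only [Matrix.add_apply] at e
  exact add_left_cancel e

theorem comm_shape {M : M5}
    (h : M * Matrix.transvection 0 1 1 = Matrix.transvection 0 1 1 * M) (hd : M.det = 1) :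
    M 0 0 = 1 ∧ M 1 1 = 1 ∧ (∀ i, i ≠ 0 → M i 0 = 0) ∧ (∀ j, j ≠ 1 → M 1 j = 0) := by
  have hs := comm_single h
  have col : ∀ i, i ≠ 0 → M i 0 = 0 := fun i hi => by
    have := hs i 1
    simpa [Matrix.mul_apply, Matrix.single, hi, Ne.symm hi] using this
  have row : ∀ j, j ≠ 1 → M 1 j = 0 := fun j hj => by
    have := hs 0 j
    simpa [Matrix.mul_apply, Matrix.single, hj, Ne.symm hj, eq_comm] using this
  have eq : M 0 0 = M 1 1 := by
    simpa [Matrix.mul_apply, Matrix.single] using hs 0 1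
  have h00 : M 0 0 = 1 := by
    by_contra hne
    have hz : M 0 0 = 0 := by
      revert hne; generalize M 0 0 = c; revert c; decide
    have := Matrix.det_eq_zero_of_column_eq_zero (A := M) 0 fun i => by
      by_cases hi : i = 0
      · rw [hi, hz]
      · exact col i hi
    rw [this] at hd
    exact zero_ne_one hd
  exact ⟨h00, eq ▸ h00, col, row⟩

/-- In the special linear group of dimension 5 over the field with two elements, the centraliser of a transvection has order 21504 = 2 ^ 7 · 168 (it is an extension of an extraspecial group of order 2 ^ 7 by the simple group of order 168). -/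
theorem result (s : Matrix.SpecialLinearGroup (Fin 5) (ZMod 2)) (hs : (s : Matrix (Fin 5) (Fin 5) (ZMod 2)) = Matrix.transvection 0 1 1) : Nat.card (Subgroup.centralizer ({s} : Set (Matrix.SpecialLinearGroup (Fin 5) (ZMod 2)))) = 21504 := by
  let f : ZMod 2 × (Fin 3 → ZMod 2) × (Fin 3 → ZMod 2) ×
      {B : Matrix (Fin 3) (Fin 3) (ZMod 2) // B.det = 1} →
      Subgroup.centralizer ({s} : Set (Matrix.SpecialLinearGroup (Fin 5) (ZMod 2))) := fun p =>
    ⟨toSL p, by
      rw [Subgroup.mem_centralizer_singleton_iff]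
      apply Subtype.ext
      have h := mk_comm p.1 p.2.1 p.2.2.1 p.2.2.2.1
      rw [← hs] at h
      exact h⟩
  have hinj : Function.Injective f := by
    rintro ⟨a, u, w, B, hB⟩ ⟨a', u', w', B', hB'⟩ h
    have h' : mk a u w B = mk a' u' w' B' := congrArg (fun x => x.1.1) h
    have e := fun i j => congrFun (congrFun h' i) j
    refine Prod.ext (e 0 1) (Prod.ext ?_ (Prod.ext ?_ (Subtype.ext ?_)))
    · funext i; fin_cases i
      exacts [e 0 2, e 0 3, e 0 4]
    · funext i; fin_cases i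
      exacts [e 2 1, e 3 1, e 4 1]
    · ext i j; fin_cases i <;> fin_cases j
      exacts [e 2 2, e 2 3, e 2 4, e 3 2, e 3 3, e 3 4, e 4 2, e 4 3, e 4 4]
  have hsurj : Function.Surjective f := by
    rintro ⟨g, hg⟩
    rw [Subgroup.mem_centralizer_singleton_iff] at hg
    have hg' := congrArg Subtype.val hg
    simp only [Matrix.SpecialLinearGroup.coe_mul, hs] at hg'
    obtain ⟨h00, h11, col, row⟩ := comm_shape hg' g.2
    let u : Fin 3 → ZMod 2 := ![g.1 0 2, g.1 0 3, g.1 0 4]
    let w : Fin 3 → ZMod 2 := ![g.1 2 1, g.1 3 1, g.1 4 1]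
    let B : Matrix (Fin 3) (Fin 3) (ZMod 2) := !![g.1 2 2, g.1 2 3, g.1 2 4;
      g.1 3 2, g.1 3 3, g.1 3 4; g.1 4 2, g.1 4 3, g.1 4 4]
    have hm : mk (g.1 0 1) u w B = g.1 := by
      ext i j
      fin_cases i <;> fin_cases j <;> simp [mk, u, w, B, h00, h11, col, row]
    refine ⟨⟨g.1 0 1, u, w, B, ?_⟩, Subtype.ext (Subtype.ext hm)⟩
    rw [← det_mk (g.1 0 1) u w B, hm]
    exact g.2
  rw [← Nat.card_congr (Equiv.ofBijective f ⟨hinj, hsurj⟩), Nat.card_prod, Nat.card_prod,
    Nat.card_prod, card_sl3, Nat.card_fun]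
  simp

end Cfsg.Agent.S0445
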