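import Cfsg.Statements.S0446
-- import your own Cfsg.Agent.* helpers here

set_option autoImplicit false
open Cfsg

namespace Cfsg.Agent.S0446

/-- Every finite group of even order contains a 2-central involution, i.e. an element of order 2 in the centre of some Sylow 2-subgroup. -/
theorem result {G : Type*} [Group G] [Finite G] (h : Even (Nat.card G)) : ∃ t : G, Cfsg.IsTwoCentralInvolution t := by
  haveI : Fact (Nat.Prime 2) := ⟨Nat.prime_two⟩
  obtain ⟨P⟩ : Nonempty (Sylow 2 G) := inferInstance
  have hne : Nontrivial ↥(P : Subgroup G) := by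
    rw [Subgroup.nontrivial_iff_ne_bot]
    intro h'
    have h2 := P.not_dvd_index
    rw [h', Subgroup.index_bot] at h2
    exact h2 (even_iff_two_dvd.1 h)
  haveI := P.isPGroup'.center_nontrivial
  have hd : 2 ∣ Nat.card (Subgroup.center ↥(P : Subgroup G)) := by
    obtain ⟨k, hk⟩ := IsPGroup.iff_card.1 (P.isPGroup'.to_subgroup (Subgroup.center _))
    rcases k with _ | k
    · rw [pow_zero] at hk
      exact absurd hk (Finite.one_lt_card).ne'
    · exact hk ▸ dvd_pow_self 2 (Nat.succ_ne_zero k)
  obtain ⟨x, hx⟩ := exists_prime_orderOf_dvd_card' 2 hd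
  refine ⟨((x : ↥(P : Subgroup G)) : G), ?_, P, (x : ↥(P : Subgroup G)).2, fun y hy => ?_⟩
  · rw [Subgroup.orderOf_coe, Subgroup.orderOf_coe, hx]
  · exact congrArg Subtype.val (Subgroup.mem_center_iff.1 x.2 ⟨y, hy⟩)

end Cfsg.Agent.S0446
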