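import Cfsg.Statements.S0447
import Cfsg.Agent.Lib.ThreeTrans.DoubleCoverAlt
-- import your own Cfsg.Agent.* helpers here

set_option autoImplicit false
open Cfsg

namespace Cfsg.Agent.S0447

/-- Involutions in double covers of alternating groups: for n ≤ 7, a finite non-split double cover of the alternating group of degree n has exactly one element of order 2 (the central one); for degree 8 there is a non-split double cover with two distinct involutions. -/
theorem result : (∀ (n : ℕ) (H : Type) (_ : Group H) (_ : Finite H), n ≤ 7 → Cfsg.IsNonsplitDoubleCover H (alternatingGroup (Fin n)) → ∀ x y : H, orderOf x = 2 → orderOf y = 2 → x = y) ∧ ∃ (H : Type) (_ : Group H) (_ : Finite H), Cfsg.IsNonsplitDoubleCover H (alternatingGroup (Fin 8)) ∧ ∃ x y : H, x ≠ y ∧ orderOf x = 2 ∧ orderOf y = 2 := by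
  refine ⟨fun n H _ _ hn hH x y hx hy => ?_, CfsgLib.ThreeTrans.DoubleCoverAlt.exists_eight⟩
  have hx' := CfsgLib.ThreeTrans.DoubleCoverAlt.unique_involution hn hH hx
  have hy' := CfsgLib.ThreeTrans.DoubleCoverAlt.unique_involution hn hH hy
  obtain ⟨u, v, huv, hset⟩ := Nat.card_eq_two_iff.1 hH.1
  have h1 : (1 : Subgroup.center H) ∈ ({u, v} : Set _) := hset ▸ Set.mem_univ _
  have hne : ∀ a : H, orderOf a = 2 → a ≠ 1 := fun a ha e => by rw [e, orderOf_one] at ha; omega
  have hxs : (⟨x, hx'⟩ : Subgroup.center H) ∈ ({u, v} : Set _) := hset ▸ Set.mem_univ _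
  have hys : (⟨y, hy'⟩ : Subgroup.center H) ∈ ({u, v} : Set _) := hset ▸ Set.mem_univ _
  simp only [Set.mem_insert_iff, Set.mem_singleton_iff] at h1 hxs hys
  have hx1 : (⟨x, hx'⟩ : Subgroup.center H) ≠ 1 := fun e => hne x hx (congrArg Subtype.val e)
  have hy1 : (⟨y, hy'⟩ : Subgroup.center H) ≠ 1 := fun e => hne y hy (congrArg Subtype.val e)
  exact congrArg Subtype.val (show (⟨x, hx'⟩ : Subgroup.center H) = ⟨y, hy'⟩ by grind)

end Cfsg.Agent.S0447
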