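import Cfsg.Statements.S0455
import Cfsg.Agent.Lib.Recog.JankoThree.Adapter
import Cfsg.Agent.Lib.Recog.JankoThree.Iso
import Cfsg.Agent.Lib.Recog.JankoTwoType.Order

set_option autoImplicit false
open Cfsg

namespace Cfsg.Agent.S0455

/-- Janko's second and third groups: let G be finite simple with a 2-central involution t whose centraliser C contains a normal extraspecial subgroup E of order 32 with C/E isomorphic to the alternating group of degree 5. Then G has order 604800 or 50232960. -/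
theorem result {G : Type*} [Group G] [Finite G] [IsSimpleGroup G] (t : G) (ht : Cfsg.IsTwoCentralInvolution t) (E : Subgroup (Subgroup.centralizer ({t} : Set G))) [E.Normal] (hE : Nat.card E = 32) (hX : Cfsg.IsExtraspecial 2 E) (e : (Subgroup.centralizer ({t} : Set G)) ⧸ E ≃* alternatingGroup (Fin 5)) : Cfsg.IsJ2 G ∨ Cfsg.IsJ3 G := by
  obtain ⟨Q₀, h⟩ := CfsgLib.Recog.J3T.local_of_statement t ht.1 E hX hE e
  by_cases hone : ∀ x y : G, orderOf x = 2 → orderOf y = 2 → IsConj x y
  · right
    obtain ⟨F, _, _, ω, hF, hω, ⟨φ⟩⟩ := CfsgLib.Recog.J3T.isoJ3 (⟨h, hone⟩ : CfsgLib.Recog.J3T.Hyp t Q₀)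
    haveI := CfsgLib.Sporadic.J3.charTwo hF
    exact ⟨inferInstance, (Nat.card_congr φ.toEquiv).trans (CfsgLib.Sporadic.J3.card_J3 hω hF)⟩
  · left
    push Not at hone
    exact ⟨inferInstance,
      (⟨h, CfsgLib.Recog.J3T.fus_of_local h, hone⟩ : CfsgLib.Recog.HJType.Hyp t Q₀).card_group⟩

end Cfsg.Agent.S0455
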