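import Cfsg.Statements.S0472
import Cfsg.Agent.Lib.Recog.FiThree.Cover

set_option autoImplicit false
set_option maxRecDepth 20000
open Cfsg

namespace Cfsg.Agent.S0472

open CfsgLib.Recog.FiThree

theorem transport {H H' K : Type*} [Group H] [Group H'] [Group K] (φ : H ≃* H')
    (h : IsNonsplitDoubleCover H K) : IsNonsplitDoubleCover H' K := by
  obtain ⟨h1, ⟨e⟩, h3⟩ := h
  have hc : (Subgroup.center H).map φ.toMonoidHom = Subgroup.center H' := by
    ext x
    simp only [Subgroup.mem_map, Subgroup.mem_center_iff, MulEquiv.coe_toMonoidHom]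
    constructor
    · rintro ⟨y, hy, rfl⟩ g
      rw [← φ.apply_symm_apply g, ← map_mul, ← map_mul, hy]
    · intro hx
      exact ⟨φ.symm x, fun g => φ.injective (by simp [hx]), φ.apply_symm_apply x⟩
  refine ⟨?_, ⟨(QuotientGroup.congr _ _ φ hc).symm.trans e⟩, fun L hL => ?_⟩
  · rw [← hc, ← h1]
    exact (Nat.card_congr ((Subgroup.center H).equivMapOfInjective φ.toMonoidHom φ.injective).toEquiv).symm
  · refine h3 (L.comap φ.toMonoidHom) ?_
    rw [Subgroup.isComplement'_def, Subgroup.isComplement_iff_existsUnique] at hL ⊢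
    intro g
    obtain ⟨⟨⟨c, hcm⟩, ⟨l, hl⟩⟩, hcl, huniq⟩ := hL (φ g)
    obtain ⟨c', hc', rfl⟩ := (hc ▸ hcm : c ∈ (Subgroup.center H).map φ.toMonoidHom)
    refine ⟨⟨⟨c', hc'⟩, ⟨φ.symm l, by simpa using hl⟩⟩, φ.injective (by simpa using hcl), ?_⟩
    rintro ⟨⟨a, ha⟩, ⟨b, hb⟩⟩ hab
    have := huniq ⟨⟨φ a, hc ▸ Subgroup.mem_map_of_mem _ ha⟩, ⟨φ b, hb⟩⟩ (by simpa using congrArg φ hab)
    simp only [Prod.mk.injEq, Subtype.mk.injEq, MulEquiv.coe_toMonoidHom] at this
    exact Prod.ext (Subtype.ext (φ.injective this.1)) (Subtype.ext (φ.injective (by simpa using congrArg Subtype.val this.2)))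

theorem centralizer_conj {G : Type*} [Group G] (g x : G) :
    (Subgroup.centralizer {x}).map (MulAut.conj g).toMonoidHom = Subgroup.centralizer ({g * x * g⁻¹} : Set G) := by
  ext y
  simp only [Subgroup.mem_map, Subgroup.mem_centralizer_iff, Set.mem_singleton_iff, forall_eq, MulEquiv.coe_toMonoidHom,
    MulAut.conj_apply]
  constructor
  · rintro ⟨c, hc, rfl⟩
    calc g * x * g⁻¹ * (g * c * g⁻¹) = g * (x * c) * g⁻¹ := by group
      _ = _ := by rw [hc]; group
  · intro hy
    refine ⟨g⁻¹ * y * g, ?_, by group⟩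
    calc x * (g⁻¹ * y * g) = g⁻¹ * (g * x * g⁻¹ * y) * g := by group
      _ = _ := by rw [hy]; group

/-- The Fischer group of order 4089470473293004800 exists as a 3-transposition group: a simple group of that order generated by a conjugacy class of 31671 3-transpositions, the centraliser of each being a non-split double cover of a simple group of order 64561751654400. -/
theorem result : ∃ (G : Type) (_ : Group G) (_ : Finite G), Cfsg.IsFi23 G ∧ ∃ D : Set G, Cfsg.IsThreeTranspositionClass D ∧ Nat.card D = 31671 ∧ ∀ d ∈ D, ∃ (K : Type) (_ : Group K), Cfsg.IsFi22 K ∧ Cfsg.IsNonsplitDoubleCover (Subgroup.centralizer ({d} : Set G)) K := by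
  haveI := finite_fi23'
  refine ⟨Spor.Fi23, inferInstance, inferInstance, isFi23, trans, trans_class, card_trans, fun d hd => ?_⟩
  obtain ⟨g, rfl⟩ := mem_trans.1 hd
  refine ⟨Spor.Fi22, inferInstance, isFi22_fi22, transport ?_ doubleCover⟩
  exact ((MulEquiv.subgroupCongr centralizer_zz).symm.trans
    ((Subgroup.centralizer {zz}).equivMapOfInjective _ (MulAut.conj g).injective)).trans
    (MulEquiv.subgroupCongr (centralizer_conj g zz))

end Cfsg.Agent.S0472
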