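import Cfsg.Statements.S0481
import Cfsg.Agent.Lib.ThreeTrans.LargeSetting
-- import your own Cfsg.Agent.* helpers here

set_option autoImplicit false
open Cfsg

namespace Cfsg.Agent.S0481

/-- Large extraspecial subgroups: let z be an involution of a finite group G whose centraliser C contains a normal 2-subgroup Q with centre of order 2 and all squares central, such that every element of G centralising Q lies in Q. Then C contains a Sylow 2-subgroup of G, and any involution of G whose centraliser contains a Sylow 2-subgroup of G is conjugate to z. -/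
theorem result {G : Type*} [Group G] [Finite G] (z : G) (hz : orderOf z = 2) (Q : Subgroup G) (hQC : Q ≤ Subgroup.centralizer ({z} : Set G)) (hQn : ∀ g ∈ Subgroup.centralizer ({z} : Set G), ∀ q ∈ Q, g * q * g⁻¹ ∈ Q) (hQ2 : IsPGroup 2 Q) (hZ : Nat.card (Subgroup.center Q) = 2) (hsq : ∀ x : Q, x ^ 2 ∈ Subgroup.center Q) (hlarge : Subgroup.centralizer (Q : Set G) ≤ Q) : (∃ P : Sylow 2 G, (P : Subgroup G) ≤ Subgroup.centralizer ({z} : Set G)) ∧ ∀ u : G, orderOf u = 2 → (∃ P : Sylow 2 G, (P : Subgroup G) ≤ Subgroup.centralizer ({u} : Set G)) → IsConj z u := by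
  have hzC : z ∈ Subgroup.centralizer (Q : Set G) := by
    rw [Subgroup.mem_centralizer_iff]
    exact fun q hq => CfsgLib.ThreeTrans.mem_centralizer_singleton_iff'.1 (hQC hq)
  have hzQ : z ∈ Q := hlarge hzC
  have hzc : (⟨z, hzQ⟩ : Q) ∈ Subgroup.center Q :=
    Subgroup.mem_center_iff.2 fun g => Subtype.ext ((Subgroup.mem_centralizer_iff.1 hzC) g g.2)
  have hC : Subgroup.centralizer (Q : Set G) ≤ Subgroup.zpowers z := by
    intro x hx
    have hxc : (⟨x, hlarge hx⟩ : Q) ∈ Subgroup.center Q :=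
      Subgroup.mem_center_iff.2 fun g => Subtype.ext ((Subgroup.mem_centralizer_iff.1 hx) g g.2)
    have hle : Subgroup.zpowers (⟨z, hzQ⟩ : Q) ≤ Subgroup.center Q := Subgroup.zpowers_le.2 hzc
    have heq := Subgroup.eq_of_le_of_card_ge hle (by
      rw [hZ, Nat.card_zpowers, ← Subgroup.orderOf_coe]; exact hz.ge)
    rw [← heq] at hxc
    obtain ⟨n, hn⟩ := Subgroup.mem_zpowers_iff.1 hxc
    exact Subgroup.mem_zpowers_iff.2 ⟨n, by simpa using congrArg Subtype.val hn⟩
  obtain ⟨P, hQP, hP⟩ := CfsgLib.ThreeTrans.exists_sylow_between hz hQC hQ2 hzQ hC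
  exact ⟨⟨P, hP⟩, fun u hu ⟨P', hP'⟩ =>
    CfsgLib.ThreeTrans.isConj_of_two_central hz hC P hQP hu P' hP'⟩

end Cfsg.Agent.S0481
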