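import Cfsg.Statements.S0493
import Cfsg.Agent.Lib.Perm.SimpleCount
import Cfsg.Agent.Lib.Char.Burnside

set_option autoImplicit false
set_option linter.style.haveILetI false
open Cfsg
open scoped commutatorElement

namespace Cfsg.Agent.S0493

/-- A finite simple group of order at most 100 that is not cyclic has order 60. -/
theorem result {G : Type*} [Group G] [Finite G] [IsSimpleGroup G]
    (hG : ¬ IsCyclic G) (h : Nat.card G ≤ 100) : Nat.card G = 60 := by
  have hprime : ¬ (Nat.card G).Prime := fun hp => by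
    haveI := Fact.mk hp
    exact hG (isCyclic_of_prime_card rfl)
  have hns : ¬ Group.IsSolvable G := by
    intro hs
    haveI := hs
    have hlt : commutator G < ⊤ := Group.IsSolvable.commutator_lt_top_of_nontrivial G
    have hb : commutator G = ⊥ :=
      (IsSimpleGroup.eq_bot_or_eq_top_of_normal (commutator G) inferInstance).resolve_right hlt.ne
    have hcomm : IsMulCommutative G := by
      refine ⟨⟨fun a b => ?_⟩⟩
      have hm : ⁅a, b⁆ ∈ commutator G :=
        Subgroup.commutator_mem_commutator (Subgroup.mem_top a) (Subgroup.mem_top b)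
      rw [hb, Subgroup.mem_bot] at hm
      exact commutatorElement_eq_one_iff_mul_comm.1 hm
    exact CfsgLib.Perm.not_comm_of_not_prime hprime hcomm
  have hpq : ∀ p q a b : ℕ, p.Prime → q.Prime → Nat.card G ≠ p ^ a * q ^ b :=
    fun p q a b hp hq hc => hns (CfsgLib.Burnside.isSolvable_of_card_eq hp hq hc)
  have hcases : ∀ n < 101, n = 0 ∨ n = 60 ∨ n = 84 ∨ n % 4 = 2 ∨
      ∃ p ∈ [2, 3, 5, 7], ∃ q ∈ [2, 3, 5, 7, 11, 13, 17, 19, 23, 29, 31, 37, 41, 43, 47, 53,
        59, 61, 67, 71, 73, 79, 83, 89, 97], ∃ a < 7, ∃ b < 5, p ^ a * q ^ b = n := by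
    decide +kernel
  rcases hcases (Nat.card G) (by omega) with h0 | h60 | h84 | h2 | ⟨p, hp, q, hq, a, -, b, -, heq⟩
  · exact absurd h0 Nat.card_pos.ne'
  · exact h60
  · exfalso
    haveI : Fact (Nat.Prime 7) := ⟨by norm_num⟩
    have h7 : (7 : ℕ) ∣ Nat.card G := ⟨12, h84⟩
    have hdvd : Nat.card (Sylow 7 G) ∣ 12 :=
      CfsgLib.Perm.card_sylow_dvd_of_card_eq (k := 1) (by rw [h84]; norm_num)
    have hmod : Nat.card (Sylow 7 G) % 7 = 1 := card_sylow_modEq_one 7 G
    have hne := CfsgLib.Perm.card_sylow_ne_one h7 (CfsgLib.Perm.not_isPGroup_of_dvd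
      (q := 2) Nat.prime_two (by norm_num) ⟨42, h84⟩)
    have hle := Nat.le_of_dvd (by norm_num) hdvd
    interval_cases (Nat.card (Sylow 7 G)) <;> omega
  · exfalso
    haveI : Fact (Nat.Prime 2) := ⟨Nat.prime_two⟩
    obtain ⟨P⟩ := (inferInstance : Nonempty (Sylow 2 G))
    have hP : Nat.card (P : Subgroup G) = 2 ^ 1 :=
      CfsgLib.Perm.sylow_card_eq P (m := Nat.card G / 2) (by rw [pow_one]; omega) (by omega)
    rw [pow_one] at hP
    have h2d : 2 ∣ Nat.card G := by omega
    refine CfsgLib.Perm.not_normalizer_le_centralizer P h2d ?_ (IsCyclic.normalizer_le_centralizer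
      ((Nat.minFac_eq_two_iff _).2 h2d) (isCyclic_of_prime_card hP))
    intro hP2
    obtain ⟨k, hk⟩ := IsPGroup.iff_card.1 hP2
    rcases Nat.lt_or_ge k 2 with hk2 | hk2
    · interval_cases k
      · simp [hk] at h2d
      · exact hprime (by rw [hk]; norm_num)
    · have : 4 ∣ Nat.card G := hk ▸ pow_dvd_pow 2 hk2
      omega
  · exfalso
    have hp' : p.Prime := by fin_cases hp <;> norm_num
    have hq' : q.Prime := by fin_cases hq <;> norm_num
    exact hpq p q a b hp' hq' heq.symm

end Cfsg.Agent.S0493
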