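import Cfsg.Statements.S0502
import Cfsg.Agent.Lib.TwoGroups.FourSubgroups

set_option autoImplicit false
open Cfsg

namespace Cfsg.Agent.S0502

/-- If a finite 2-group has a normal elementary abelian subgroup of order at least 8, then any two of its Klein
four-subgroups are joined by a chain of Klein four-subgroups with consecutive members commuting elementwise. -/
theorem result {P : Type*} [Group P] [Finite P] (hP : IsPGroup 2 P)
    (E : Subgroup P) [E.Normal] (hE : IsMulCommutative E) (hE2 : ∀ e ∈ E, e ^ 2 = 1) (hE8 : 8 ≤ Nat.card E) :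
    Cfsg.IsFourConnected P := by
  open CfsgLib.TwoGroups in
  haveI : Fact (Nat.Prime 2) := ⟨Nat.prime_two⟩
  have hEsq : ∀ e ∈ E, e * e = 1 := fun e he => by rw [← pow_two]; exact hE2 e he
  have hEc : ∀ a ∈ E, ∀ b ∈ E, a * b = b * a := fun a ha b hb =>
    mul_comm_of_mul_self hEsq ha hb
  have hdiv : 2 ∣ Nat.card E := by
    obtain ⟨n, hn⟩ := IsPGroup.iff_card.1 (hP.to_subgroup E)
    rcases Nat.eq_zero_or_pos n with h | h
    · rw [h, pow_zero] at hn; omega
    · exact hn ▸ dvd_pow_self 2 h.ne'
  have hne : E ≠ ⊥ := fun h => by rw [h, Subgroup.card_bot] at hE8; omega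
  -- a central involution in `E`
  obtain ⟨z, hzE, hzc, hz1⟩ : ∃ z ∈ E, (∀ g : P, g * z = z * g) ∧ z ≠ 1 := by
    have hfix : ∃ z : E, z ∈ MulAction.fixedPoints (ConjAct P) E ∧ (1 : E) ≠ z := by
      refine (hP.of_equiv (ConjAct.toConjAct (G := P))).exists_fixed_point_of_prime_dvd_card_of_fixed_point
        E hdiv ?_
      intro g
      exact Subtype.ext (smul_one g)
    obtain ⟨z, hz, hz1⟩ := hfix
    refine ⟨z, z.2, fun g => ?_, fun h => hz1 (Subtype.ext h.symm)⟩
    have h : ConjAct.toConjAct g • (z : P) = z :=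
      congrArg Subtype.val (hz (ConjAct.toConjAct g))
    rw [ConjAct.toConjAct_smul, mul_inv_eq_iff_eq_mul] at h
    exact h
  -- every four-subgroup is joined to one inside `E`
  have main : ∀ U : Subgroup P, IsKleinFour U → ∃ W : Subgroup P, W ≤ E ∧ IsKleinFour W ∧
      FourChain U W := by
    intro U hU
    obtain ⟨u, huU, hu1, huz⟩ : ∃ u ∈ U, u ≠ 1 ∧ u ≠ z := by
      by_contra hno
      push Not at hno
      have hsub : (U : Set P) ⊆ {1, z} := fun x hx => by
        rcases eq_or_ne x 1 with h | h
        · exact Or.inl h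
        · exact Or.inr (hno x hx h)
      have h2 := Set.ncard_le_ncard hsub (Set.toFinite _)
      rw [← Nat.card_coe_set_eq, SetLike.coe_sort_coe, hU.card_four, Set.ncard_pair hz1.symm] at h2
      omega
    have hu2 : u * u = 1 := klein_mul_self hU huU
    have hui : u⁻¹ = u := inv_eq_of_mul_eq_one_right hu2
    have hconj : ∀ e ∈ E, u * e * u ∈ E := fun e he => by
      simpa [hui] using (inferInstance : E.Normal).conj_mem e he u
    let C : Subgroup P := E ⊓ Subgroup.centralizer {u}
    let φ : E →* E :=
      { toFun := fun e => ⟨e * (u * e * u), mul_mem e.2 (hconj e e.2)⟩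
        map_one' := Subtype.ext (by simp [hu2])
        map_mul' := fun a b => Subtype.ext (by
          show (a : P) * b * (u * (a * b) * u) = a * (u * a * u) * (b * (u * b * u))
          have h1 : u * ((a : P) * b) * u = (u * a * u) * (u * b * u) := by
            simp only [mul_assoc]; rw [← mul_assoc u u, hu2, one_mul]
          rw [h1]
          calc (a : P) * b * (u * a * u * (u * b * u))
              = a * ((b : P) * (u * a * u)) * (u * b * u) := by simp only [mul_assoc]
            _ = a * (u * a * u * b) * (u * b * u) := by rw [hEc b b.2 _ (hconj a a.2)]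
            _ = _ := by simp only [mul_assoc]) }
    have hmemC : ∀ x : E, (x : P) ∈ C ↔ u * x * u = x := fun x => by
      rw [Subgroup.mem_inf, Subgroup.mem_centralizer_singleton_iff]
      constructor
      · rintro ⟨-, h⟩; rw [← h, mul_assoc, hu2, mul_one]
      · intro h
        refine ⟨x.2, ?_⟩
        conv_lhs => rw [← h]
        rw [mul_assoc, hu2, mul_one]
    have hker : φ.ker ≤ C.subgroupOf E := fun x hx => by
      rw [Subgroup.mem_subgroupOf, hmemC]
      have h : (x : P) * (u * x * u) = 1 := congrArg Subtype.val (MonoidHom.mem_ker.1 hx)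
      exact (mul_left_cancel ((hEsq x x.2).trans h.symm)).symm
    have hrange : φ.range ≤ C.subgroupOf E := by
      rintro _ ⟨x, rfl⟩
      rw [Subgroup.mem_subgroupOf, hmemC]
      show u * ((x : P) * (u * x * u)) * u = x * (u * x * u)
      have h1 : u * ((x : P) * (u * x * u)) * u = (u * x * u) * x := by
        simp only [mul_assoc, hu2, mul_one]
      rw [h1, hEc _ (hconj x x.2) x x.2]
    have hcard : Nat.card E ≤ Nat.card C * Nat.card C := by
      have hCE : Nat.card (C.subgroupOf E) = Nat.card C :=
        Nat.card_congr (Subgroup.subgroupOfEquivOfLe inf_le_left).toEquiv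
      rw [← φ.ker.card_mul_index, Subgroup.index_ker, ← hCE]
      exact Nat.mul_le_mul (Subgroup.card_le_of_le hker) (Subgroup.card_le_of_le hrange)
    have hC3 : 3 ≤ Nat.card C := by
      by_contra hlt
      have : Nat.card C * Nat.card C ≤ 2 * 2 := Nat.mul_le_mul (by omega) (by omega)
      omega
    obtain ⟨W, hWC, hW⟩ := exists_klein_le (fun a ha => hE2 a (Subgroup.mem_inf.1 ha).1) hC3
    have huz' := isKleinFour_fourOf hu2 (hEsq z hzE) (hzc u) hu1 hz1 huz
    refine ⟨W, hWC.trans inf_le_left, hW, ?_⟩
    refine (Relation.ReflTransGen.single (?_ : FourStep U _)).tail ⟨huz', hW, ?_⟩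
    · refine ⟨hU, huz', fun x hx y hy => ?_⟩
      rcases hy with rfl | rfl | rfl | rfl
      · rw [mul_one, one_mul]
      · exact klein_comm hU hx huU
      · exact hzc x
      · rw [← mul_assoc, klein_comm hU hx huU, mul_assoc, hzc x, mul_assoc]
    · intro x hx y hy
      have hyu : y * u = u * y :=
        Subgroup.mem_centralizer_singleton_iff.1 (Subgroup.mem_inf.1 (hWC hy)).2
      rcases hx with rfl | rfl | rfl | rfl
      · rw [mul_one, one_mul]
      · exact hyu.symm
      · exact (hzc y).symm
      · rw [mul_assoc, ← hzc y, ← mul_assoc, ← hyu, mul_assoc]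
  intro U V hU hV
  obtain ⟨W, hWE, hW, hUW⟩ := main U hU
  obtain ⟨W', hWE', hW', hVW⟩ := main V hV
  exact (hUW.tail ⟨hW, hW', fun a ha b hb => hEc a (hWE ha) b (hWE' hb)⟩).trans hVW.symm

end Cfsg.Agent.S0502
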