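import Cfsg.Statements.S0505
import Cfsg.Agent.Lib.TwoGroups.CharPType
import Cfsg.Agent.Lib.ZStar.Main

set_option autoImplicit false
open Cfsg

namespace Cfsg.Agent.S0505

/-- Let G be a finite group of even order in which the centralizer of every involution is solvable and has trivial
core (no nontrivial normal subgroup of odd order). Then G is of characteristic 2 type. -/
theorem result {G : Type*} [Group G] [Finite G]
    (h2 : Even (Nat.card G))
    (hs : ∀ t : G, orderOf t = 2 → Group.IsSolvable (Subgroup.centralizer ({t} : Set G)))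
    (hc : ∀ t : G, orderOf t = 2 → Cfsg.oddCore (Subgroup.centralizer ({t} : Set G)) = ⊥) :
    Cfsg.IsCharacteristicTwoType G := by
  haveI : Fact (Nat.Prime 2) := ⟨Nat.prime_two⟩
  refine ⟨h2, fun T hT hT1 => ?_⟩
  show Subgroup.centralizer (Cfsg.pCore 2 ↥(Subgroup.normalizer (T : Set G)) : Set ↥(Subgroup.normalizer (T : Set G))) ≤ Cfsg.pCore 2 ↥(Subgroup.normalizer (T : Set G))
  -- a central involution of `T`
  haveI : Nontrivial T := (Subgroup.nontrivial_iff_ne_bot T).2 hT1
  haveI : Nontrivial (Subgroup.center T) := hT.center_nontrivial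
  have hd : 2 ∣ Nat.card (Subgroup.center T) := by
    obtain ⟨k, hk⟩ := IsPGroup.iff_card.1 (hT.to_subgroup (Subgroup.center T))
    rcases Nat.eq_zero_or_pos k with h | h
    · have := Finite.one_lt_card (α := Subgroup.center T); rw [hk, h, pow_zero] at this; omega
    · exact hk ▸ dvd_pow_self 2 h.ne'
  obtain ⟨z, hz⟩ := exists_prime_orderOf_dvd_card' 2 hd
  have hz2 : orderOf ((z : T) : G) = 2 := by rw [Subgroup.orderOf_coe, Subgroup.orderOf_coe, hz]
  set V := Subgroup.zpowers ((z : T) : G) with hV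
  have hVT : V ≤ T := Subgroup.zpowers_le.2 (z : T).2
  have hVC : Subgroup.centralizer (V : Set G) = Subgroup.centralizer ({((z : T) : G)} : Set G) := by
    rw [hV, Subgroup.zpowers_eq_closure, Subgroup.centralizer_closure]
  have hK : Subgroup.centralizer (Cfsg.pCore 2 (Subgroup.centralizer (V : Set G)) :
      Set (Subgroup.centralizer (V : Set G))) ≤ Cfsg.pCore 2 _ := by
    rw [hVC]
    haveI := hs _ hz2
    rw [← CfsgLib.TwoGroups.isPGroup_gFitting_iff, CfsgLib.Components.gFitting_eq_fitting_of_isSolvable]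
    haveI hFn := CfsgLib.Components.fitting_normal
      (G := Subgroup.centralizer ({((z : T) : G)} : Set G))
    haveI := CfsgLib.Components.fitting_isNilpotent
      (G := Subgroup.centralizer ({((z : T) : G)} : Set G))
    set F := Cfsg.fittingSubgroup (Subgroup.centralizer ({((z : T) : G)} : Set G)) with hF
    refine CfsgLib.TwoGroups.isPGroup_of_no_other_prime fun q hq hq2 x hx => ?_
    haveI := Fact.mk hq
    obtain ⟨Q, hQ⟩ := (IsPGroup.of_card (n := 1)
      (show Nat.card (Subgroup.zpowers x) = q ^ 1 by rw [Nat.card_zpowers, hx, pow_one])).exists_le_sylow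
    have hQn : (Q : Subgroup F).Normal := by
      have h03 : Group.IsNilpotent F ↔ ∀ (r : ℕ) (_ : Fact r.Prime) (S : Sylow r F),
          (S : Subgroup F).Normal := (Group.isNilpotent_of_finite_tfae (G := F)).out 0 3
      exact h03.mp ‹_› q ⟨hq⟩ Q
    haveI : (Q : Subgroup F).Characteristic := Sylow.characteristic_of_normal Q hQn
    obtain ⟨k, hk⟩ := IsPGroup.iff_card.1 Q.2
    have hle := CfsgLib.ZStar.le_oddCore (N := (Q : Subgroup F).map F.subtype) inferInstance (by
        rw [Subgroup.card_map_of_injective (Subgroup.subtype_injective _), hk]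
        exact (hq.odd_of_ne_two hq2).pow)
    rw [hc _ hz2, le_bot_iff, Subgroup.map_eq_bot_iff_of_injective _ (Subgroup.subtype_injective _)] at hle
    have : x = 1 := Subgroup.mem_bot.1 (hle ▸ hQ (Subgroup.mem_zpowers x))
    rw [this, orderOf_one] at hx
    exact hq.ne_one hx.symm
  have hCT := CfsgLib.TwoGroups.centralizer_pCore_le_of_le hK T hT hVT
  set N := Subgroup.normalizer (T : Set G) with hN
  set C := Subgroup.centralizer (T : Set G) with hC
  have hCN : C ≤ N := Subgroup.centralizer_le_normalizer _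
  have hTN : T ≤ N := Subgroup.le_normalizer
  haveI : (C.subgroupOf N).Normal := ⟨fun c hc n => by
    rw [Subgroup.mem_subgroupOf, hC, Subgroup.mem_centralizer_iff] at hc ⊢
    intro v hv
    have h1 := hc _ ((Subgroup.mem_normalizer_iff''.1 n.2 v).1 hv)
    push_cast
    calc v * ((n : G) * c * (n : G)⁻¹) = n * ((n : G)⁻¹ * v * n * c) * (n : G)⁻¹ := by group
      _ = n * (c * ((n : G)⁻¹ * v * n)) * (n : G)⁻¹ := by rw [h1]
      _ = n * c * (n : G)⁻¹ * v := by group⟩
  have hC' := CfsgLib.PLocal.centralizer_pCore_le_congr (Subgroup.subgroupOfEquivOfLe hCN).symm hCT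
  haveI : (T.subgroupOf N).Normal := (Subgroup.normal_subgroupOf_iff_le_normalizer hTN).2 le_rfl
  have hT2 : T.subgroupOf N ≤ Cfsg.pCore 2 N := CfsgLib.Components.le_pCore inferInstance
    (hT.comap_of_injective N.subtype N.subtype_injective)
  have hOC := CfsgLib.Components.pCore_subnormal (G := N) 2 (K := C.subgroupOf N)
    (Subgroup.Normal.isSubnormal inferInstance)
  intro x hx
  have hxC : x ∈ C.subgroupOf N := by
    rw [Subgroup.mem_subgroupOf, hC, Subgroup.mem_centralizer_iff]
    exact fun v hv => congrArg Subtype.val (Subgroup.mem_centralizer_iff.1 hx ⟨v, hTN hv⟩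
      (hT2 (Subgroup.mem_subgroupOf.2 hv)))
  have hx2 : (⟨x, hxC⟩ : C.subgroupOf N) ∈ Cfsg.pCore 2 (C.subgroupOf N) := hC' (by
    rw [Subgroup.mem_centralizer_iff]
    intro y hy
    have hy2 : (y : N) ∈ (Cfsg.pCore 2 (C.subgroupOf N)).map (C.subgroupOf N).subtype :=
      Subgroup.mem_map_of_mem _ hy
    rw [hOC] at hy2
    exact Subtype.ext (Subgroup.mem_centralizer_iff.1 hx _ (Subgroup.mem_inf.1 hy2).1))
  have hx3 : x ∈ (Cfsg.pCore 2 (C.subgroupOf N)).map (C.subgroupOf N).subtype :=
    Subgroup.mem_map_of_mem _ hx2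
  rw [hOC] at hx3
  exact (Subgroup.mem_inf.1 hx3).1

end Cfsg.Agent.S0505
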