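import Cfsg.Statements.S0520
import Cfsg.Agent.Lib.TwoGroups.FourSubgroups
import Cfsg.Agent.Lib.TwoGroups.Closed
import Cfsg.Agent.Lib.Transfer.Conj

set_option autoImplicit false
open Cfsg

namespace Cfsg.Agent.S0520

/-- Let G be a finite group of 2-rank at least 2 and S a Sylow 2-subgroup whose commuting graph of Klein four-subgroups is
connected. Then the commuting graph of Klein four-subgroups of G is disconnected if and only if the 2-generated core — the
subgroup generated by the normalizers N_G(Q) of the subgroups Q of S that contain a Klein four-group — is a proper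
subgroup of G. -/
theorem result {G : Type*} [Group G] [Finite G] (h2 : ¬ Cfsg.PRankLE 2 1 G)
    (S : Sylow 2 G) (hS : Cfsg.IsFourConnected (S : Subgroup G)) :
    ¬ Cfsg.IsFourConnected G ↔
      (⨆ Q : {Q : Subgroup G // Q ≤ (S : Subgroup G) ∧ ¬ Cfsg.PRankLE 2 1 Q},
          Subgroup.normalizer ((Q : Subgroup G) : Set G)) ≠ ⊤ := by
  open CfsgLib.TwoGroups in
  haveI : Fact (Nat.Prime 2) := ⟨Nat.prime_two⟩
  set Γ : Subgroup G := ⨆ Q : {Q : Subgroup G // Q ≤ (S : Subgroup G) ∧ ¬ Cfsg.PRankLE 2 1 Q},
    Subgroup.normalizer ((Q : Subgroup G) : Set G) with hΓdef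
  have hΓ : ∀ {Q W : Subgroup G}, Q ≤ (S : Subgroup G) → W ≤ Q → IsKleinFour W →
      Subgroup.normalizer (Q : Set G) ≤ Γ := fun {Q W} hQS hWQ hW =>
    le_iSup_of_le (⟨Q, hQS, (not_pRankLE_iff_exists_klein Q).2 ⟨W, hWQ, hW⟩⟩ :
      {Q : Subgroup G // Q ≤ (S : Subgroup G) ∧ ¬ Cfsg.PRankLE 2 1 Q}) le_rfl
  have hSyl : ∀ {W : Subgroup G}, IsKleinFour W → ∃ g : G,
      W.map (MulAut.conj g).toMonoidHom ≤ (S : Subgroup G) := by
    intro W hW
    obtain ⟨T, hT⟩ := (klein_isPGroup hW).exists_le_sylow
    obtain ⟨g, hg⟩ := MulAction.exists_smul_eq G T S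
    refine ⟨g, ?_⟩
    rintro _ ⟨w, hw, rfl⟩
    rw [← hg, CfsgLib.Transfer.mem_sylow_smul]
    simpa [mul_assoc] using hT hw
  obtain ⟨U₀, hU₀⟩ := not_pRankLE_top_iff_exists_klein.1 h2
  obtain ⟨g₀, hg₀⟩ := hSyl hU₀
  have hU : IsKleinFour (U₀.map (MulAut.conj g₀).toMonoidHom) :=
    isKleinFour_map (MulAut.conj g₀).injective hU₀
  revert hg₀ hU
  generalize U₀.map (MulAut.conj g₀).toMonoidHom = U
  intro hUS hU
  rw [not_iff_comm]
  constructor
  · intro hΓtop
    rw [not_not] at hΓtop
    let K : Subgroup G :=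
      { carrier := {g | FourChain U (U.map (MulAut.conj g).toMonoidHom)}
        one_mem' := by
          show FourChain U (U.map (MulAut.conj (1 : G)).toMonoidHom)
          rw [map_conj_one]
        mul_mem' := fun {a b} ha hb => by
          have h := FourChain.conj a hb
          rw [← map_conj_mul] at h
          exact Relation.ReflTransGen.trans ha h
        inv_mem' := fun {a} ha => by
          have h := FourChain.conj a⁻¹ ha
          rw [← map_conj_mul, inv_mul_cancel, map_conj_one] at h
          exact h.symm }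
    have hK : Γ ≤ K := by
      refine iSup_le fun Q g hg => ?_
      obtain ⟨W, hWQ, hW⟩ := (not_pRankLE_iff_exists_klein Q.1).1 Q.2.2
      have hgW : W.map (MulAut.conj g).toMonoidHom ≤ Q.1 := by
        rintro _ ⟨w, hw, rfl⟩
        exact (Subgroup.mem_normalizer_iff.1 hg w).1 (hWQ hw)
      have h1 := fourChain_of_isFourConnected hS hU hW hUS (hWQ.trans Q.2.1)
      have h2 := fourChain_of_isFourConnected hS hW
        (isKleinFour_map (MulAut.conj g).injective hW) (hWQ.trans Q.2.1) (hgW.trans Q.2.1)
      exact (h1.trans h2).trans (FourChain.conj g h1.symm)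
    have main : ∀ V : Subgroup G, IsKleinFour V → FourChain U V := by
      intro V hV
      obtain ⟨g, hg⟩ := hSyl hV
      have h1 := fourChain_of_isFourConnected hS hU
        (isKleinFour_map (MulAut.conj g).injective hV) hUS hg
      have h2 : g⁻¹ ∈ K := hK (hΓtop ▸ Subgroup.mem_top _)
      have h3 := FourChain.conj g⁻¹ h1
      rw [← map_conj_mul, inv_mul_cancel, map_conj_one] at h3
      exact Relation.ReflTransGen.trans h2 h3
    exact fun A B hA hB => (main A hA).symm.trans (main B hB)
  · intro hconn
    rw [not_not]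
    -- Sylow subgroups sharing a four-subgroup with `S`
    have step : ∀ n : ℕ, ∀ (T : Sylow 2 G) (W : Subgroup G), IsKleinFour W →
        W ≤ (S : Subgroup G) ⊓ (T : Subgroup G) →
        Nat.card G - Nat.card ↥((S : Subgroup G) ⊓ (T : Subgroup G)) = n →
        ∃ h ∈ Γ, T = h • S := by
      intro n
      induction n using Nat.strong_induction_on with
      | _ n ih =>
        intro T W hW hWD hn
        rcases eq_or_ne T S with rfl | hTS
        · exact ⟨1, one_mem _, (one_smul G T).symm⟩
        have hlt1 : (S : Subgroup G) ⊓ (T : Subgroup G) < (S : Subgroup G) :=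
          lt_of_le_of_ne inf_le_left fun he =>
            hTS (Sylow.ext (S.3 T.2 (inf_eq_left.1 he)))
        have hlt2 : (S : Subgroup G) ⊓ (T : Subgroup G) < (T : Subgroup G) :=
          lt_of_le_of_ne inf_le_right fun he =>
            hTS (Sylow.ext (T.3 S.2 (inf_eq_right.1 he)).symm)
        have hgS := CfsgLib.Transfer.lt_inf_normalizer S.2 hlt1
        have hgT := CfsgLib.Transfer.lt_inf_normalizer T.2 hlt2
        have hND : Subgroup.normalizer
            (((S : Subgroup G) ⊓ (T : Subgroup G) : Subgroup G) : Set G) ≤ Γ :=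
          hΓ inf_le_left hWD hW
        generalize hDdef : (S : Subgroup G) ⊓ (T : Subgroup G) = D at *
        obtain ⟨R, hR1, -, hR3, hR4⟩ := CfsgLib.Transfer.exists_sylow_of_le (p := 2)
          (N := Subgroup.normalizer (D : Set G))
          (inf_le_right : (S : Subgroup G) ⊓ Subgroup.normalizer (D : Set G) ≤ _)
          (S.2.to_le inf_le_left)
        obtain ⟨x, hxN, hx⟩ := CfsgLib.Transfer.exists_conj_le hR3 hR4
          (inf_le_right : (T : Subgroup G) ⊓ Subgroup.normalizer (D : Set G) ≤ _)
          (T.2.to_le inf_le_left)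
        obtain ⟨M, hM⟩ := hR3.exists_le_sylow
        have hSM : (S : Subgroup G) ⊓ Subgroup.normalizer (D : Set G) ≤
            (S : Subgroup G) ⊓ (M : Subgroup G) := le_inf inf_le_left (hR1.trans hM)
        obtain ⟨h, hh, hhM⟩ := ih _ (by
          have h1 := CfsgLib.Transfer.card_lt_of_lt (hgS.trans_le hSM)
          have h2 := Subgroup.card_le_card_group ((S : Subgroup G) ⊓ (M : Subgroup G))
          omega) M W hW (hWD.trans (hgS.le.trans hSM)) rfl
        set y : G := h⁻¹ * x⁻¹ with hy
        have hle : ((T : Subgroup G) ⊓ Subgroup.normalizer (D : Set G)).map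
            (MulAut.conj y).toMonoidHom ≤ (S : Subgroup G) ⊓ ((y • T : Sylow 2 G) : Subgroup G) := by
          rintro _ ⟨t, ht, rfl⟩
          refine Subgroup.mem_inf.2 ⟨?_, ?_⟩
          · have h5 : x⁻¹ * t * x ∈ (M : Subgroup G) := hM (hx t ht)
            rw [hhM, CfsgLib.Transfer.mem_sylow_smul] at h5
            simpa [hy, mul_assoc] using h5
          · rw [CfsgLib.Transfer.mem_sylow_smul]
            simpa [mul_assoc] using (Subgroup.mem_inf.1 ht).1
        obtain ⟨k, hk, hkT⟩ := ih _ (by
          have h1 := CfsgLib.Transfer.card_lt_of_lt hgT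
          have h2 := Subgroup.card_le_of_le hle
          rw [CfsgLib.Transfer.card_map_conj] at h2
          have h3 := Subgroup.card_le_card_group
            ((S : Subgroup G) ⊓ ((y • T : Sylow 2 G) : Subgroup G))
          omega) (y • T) (W.map (MulAut.conj y).toMonoidHom)
          (isKleinFour_map (MulAut.conj y).injective hW)
          ((Subgroup.map_mono (hWD.trans hgT.le)).trans hle) rfl
        refine ⟨y⁻¹ * k, mul_mem (inv_mem (mul_mem (inv_mem hh) (inv_mem (hND hxN)))) hk, ?_⟩
        rw [mul_smul, ← hkT, inv_smul_smul]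
    have reach : ∀ V : Subgroup G, FourChain U V → ∀ T : Sylow 2 G, V ≤ (T : Subgroup G) →
        ∃ h ∈ Γ, T = h • S := by
      intro V hV
      induction hV with
      | refl => exact fun T hT => step _ T U hU (le_inf hUS hT) rfl
      | @tail A B _ hs ih =>
        intro T hT
        have hsup : IsPGroup 2 (A ⊔ B : Subgroup G) :=
          IsPGroup.to_sup_of_normal_right' (klein_isPGroup hs.1) (klein_isPGroup hs.2.1)
            fun a ha => Subgroup.mem_normalizer_iff.2 fun b => by
              constructor
              · intro hb; rwa [hs.2.2 a ha b hb, mul_inv_cancel_right]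
              · intro hb
                have h' := hs.2.2 a ha _ hb
                have : b = a * b * a⁻¹ := by
                  calc b = a⁻¹ * (a * b * a⁻¹ * a) := by group
                    _ = a⁻¹ * (a * (a * b * a⁻¹)) := by rw [h']
                    _ = a * b * a⁻¹ := by group
                rwa [this]
        obtain ⟨T', hT'⟩ := hsup.exists_le_sylow
        obtain ⟨h, hh, hT'eq⟩ := ih T' (le_sup_left.trans hT')
        have hW : B.map (MulAut.conj h⁻¹).toMonoidHom ≤
            (S : Subgroup G) ⊓ ((h⁻¹ • T : Sylow 2 G) : Subgroup G) := by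
          rintro _ ⟨b, hb, rfl⟩
          have h1 : b ∈ (T' : Subgroup G) := hT' (Subgroup.mem_sup_right hb)
          rw [hT'eq, CfsgLib.Transfer.mem_sylow_smul] at h1
          refine Subgroup.mem_inf.2 ⟨?_, ?_⟩
          · simpa [mul_assoc] using h1
          · rw [CfsgLib.Transfer.mem_sylow_smul]
            simpa [mul_assoc] using hT hb
        obtain ⟨k, hk, hkT⟩ := step _ (h⁻¹ • T) _
          (isKleinFour_map (MulAut.conj h⁻¹).injective hs.2.1) hW rfl
        exact ⟨h * k, mul_mem hh hk, by rw [mul_smul, ← hkT, smul_inv_smul]⟩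
    refine (Subgroup.eq_top_iff' Γ).2 fun g => ?_
    obtain ⟨h, hh, hgS⟩ := reach (U.map (MulAut.conj g).toMonoidHom)
      (hconn U _ hU (isKleinFour_map (MulAut.conj g).injective hU)) (g • S) (by
        rintro _ ⟨u, hu, rfl⟩
        rw [CfsgLib.Transfer.mem_sylow_smul]
        simpa [mul_assoc] using hUS hu)
    have hn : h⁻¹ * g ∈ Γ := hΓ le_rfl hUS hU (Sylow.smul_eq_iff_mem_normalizer.1
      (by rw [mul_smul, hgS, inv_smul_smul]))
    simpa using mul_mem hh hn

end Cfsg.Agent.S0520
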