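import Cfsg.Statements.S0522
import Cfsg.Agent.Lib.TwoGroups.Transitivity
import Cfsg.Agent.S0125
import Cfsg.Agent.Lib.Core.SolvableStruct

set_option autoImplicit false
open Cfsg

namespace Cfsg.Agent.S0522

/-- Transitivity Theorem (odd-order setting). Let X be a finite group of odd order in which the normalizer of every
nontrivial p-subgroup is solvable, P a Sylow p-subgroup, and B an abelian subgroup of P, normalized by P, with
C_P(B) = B and containing an elementary abelian subgroup of order p^3. Then for every prime q ≠ p, any two q-subgroups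
that are maximal among the q-subgroups normalized by B are conjugate by an element of the centralizer of B. -/
theorem result {X : Type*} [Group X] [Finite X] (hX : Odd (Nat.card X)) (p : ℕ)
    [Fact p.Prime] (hloc : ∀ T : Subgroup X, IsPGroup p T → T ≠ ⊥ → Group.IsSolvable (Subgroup.normalizer (T : Set X)))
    (P : Sylow p X) (B : Subgroup X) (hBP : B ≤ (P : Subgroup X))
    (hBn : ∀ x ∈ (P : Subgroup X), ∀ b ∈ B, x * b * x⁻¹ ∈ B) (hBa : IsMulCommutative B)
    (hBc : (P : Subgroup X) ⊓ Subgroup.centralizer (B : Set X) = B)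
    (hB3 : ∃ E : Subgroup X, E ≤ B ∧ (∀ e ∈ E, e ^ p = 1) ∧ p ^ 3 ≤ Nat.card E)
    (q : ℕ) [Fact q.Prime] (hqp : q ≠ p) (Q₁ Q₂ : Subgroup X)
    (h₁ : IsPGroup q Q₁ ∧ B ≤ Subgroup.normalizer (Q₁ : Set X) ∧
      ∀ R : Subgroup X, IsPGroup q R → B ≤ Subgroup.normalizer (R : Set X) → Q₁ ≤ R → R = Q₁)
    (h₂ : IsPGroup q Q₂ ∧ B ≤ Subgroup.normalizer (Q₂ : Set X) ∧
      ∀ R : Subgroup X, IsPGroup q R → B ≤ Subgroup.normalizer (R : Set X) → Q₂ ≤ R → R = Q₂) :
    ∃ c ∈ Subgroup.centralizer (B : Set X), Q₂ = Q₁.map (MulAut.conj c).toMonoidHom := by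
  have hBp : IsPGroup p B := P.2.to_le hBP
  obtain ⟨A, hAB, hAp, hA3⟩ := hB3
  have hA : Cfsg.IsElementaryAbelian p A :=
    ⟨⟨⟨fun u v => Subtype.ext (congrArg (fun z : B => (z : X))
      (hBa.is_comm.comm (⟨u.1, hAB u.2⟩ : B) ⟨v.1, hAB v.2⟩))⟩⟩, hAp⟩
  have hp2 : p ≠ 2 := by
    rintro rfl
    obtain ⟨k, hk⟩ := IsPGroup.iff_card.mp (hBp.to_le hAB)
    rw [hk] at hA3
    have hk3 : 3 ≤ k := (Nat.pow_le_pow_iff_right one_lt_two).mp hA3
    have hd : 2 ∣ Nat.card X :=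
      ((dvd_pow_self 2 (by omega : k ≠ 0)).trans hk.symm.dvd).trans A.card_subgroup_dvd_card
    obtain ⟨t, ht⟩ := hX
    omega
  have hBn' : (P : Subgroup X) ≤ Subgroup.normalizer (B : Set X) := fun x hx =>
    Subgroup.mem_normalizer_iff.mpr fun b => ⟨hBn x hx b, fun hb => by
      have := hBn x⁻¹ (inv_mem hx) _ hb
      simpa [mul_assoc] using this⟩
  obtain ⟨H, hH, hHp, -, -, hsup⟩ := Cfsg.Agent.S0125.result P B hBP hBn' hBc
  have hfull : ∀ x ∈ Subgroup.centralizer (B : Set X), orderOf x = p → x ∈ B := by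
    intro x hx hxo
    have hBH : B ≤ Subgroup.normalizer (H : Set X) := fun b hb =>
      Subgroup.centralizer_le_normalizer _ (Subgroup.mem_centralizer_iff.mpr fun h hh =>
        (Subgroup.mem_centralizer_iff.mp (hH hh) b hb).symm)
    obtain ⟨h, hh, b, hb, rfl⟩ :=
      (CfsgLib.Core.mem_sup_iff_mul' hBH).mp (show x ∈ B ⊔ H by rw [sup_comm, hsup]; exact hx)
    obtain ⟨k, hk⟩ := hBp ⟨b, hb⟩
    have hcm : Commute h b := (Subgroup.mem_centralizer_iff.mp (hH hh) b hb).symm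
    have h1 : (h * b) ^ p ^ (k + 1) = 1 :=
      orderOf_dvd_iff_pow_eq_one.mp (hxo.symm ▸ dvd_pow_self p (Nat.succ_ne_zero k))
    have hbk : b ^ p ^ (k + 1) = 1 := by
      rw [pow_succ, pow_mul, show b ^ p ^ k = 1 from congrArg Subtype.val hk, one_pow]
    rw [hcm.mul_pow, hbk, mul_one] at h1
    have hh1 : h = 1 := orderOf_eq_one_iff.mp (Nat.eq_one_of_dvd_coprimes
      (hHp.pow_right (k + 1)) (H.orderOf_dvd_natCard hh) (orderOf_dvd_of_pow_eq_one h1))
    rw [hh1, one_mul]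
    exact hb
  suffices hsig : ∀ a ∈ A, a ≠ 1 → ∀ Q : Subgroup ↥(Subgroup.normalizer (Subgroup.zpowers a : Set X)),
      ¬ p ∣ Nat.card Q → B.subgroupOf (Subgroup.normalizer (Subgroup.zpowers a : Set X)) ≤
        Subgroup.normalizer (Q : Set ↥(Subgroup.normalizer (Subgroup.zpowers a : Set X))) →
        Q ≤ Cfsg.pPrimeCore p ↥(Subgroup.normalizer (Subgroup.zpowers a : Set X)) by
    obtain ⟨c, hc, he⟩ := CfsgLib.TwoGroups.Transitivity.transitivity_piCore hqp hBp hBa hAB hA hA3 hsig h₁ h₂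
    exact ⟨c, Subgroup.map_subtype_le _ hc, he.symm⟩
  intro a ha ha1
  set N := Subgroup.normalizer (Subgroup.zpowers a : Set X) with hN
  intro Q hQ hEQ
  have := hloc _ (hBp.to_le (Subgroup.zpowers_le.mpr (hAB ha)))
    (fun h => ha1 (Subgroup.zpowers_eq_bot.mp h))
  have hcon : Cfsg.IsPConstrained p ↥N := CfsgLib.PLocal.isPConstrained_iff.mpr
    (CfsgLib.Core.centralizer_pCore_le_of_pPrimeCore_eq_bot
      (CfsgLib.Core.pPrimeCore_quotient_pPrimeCore p ↥N))
  have hBN : B ≤ N := fun e he => Subgroup.centralizer_le_normalizer _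
    (Subgroup.mem_centralizer_iff.mpr fun y hy =>
      congrArg Subtype.val (hBa.is_comm.comm (⟨y, Subgroup.zpowers_le.mpr (hAB ha) hy⟩ : B) ⟨e, he⟩))
  refine Cfsg.Agent.S1302.result p hp2 hcon _
    ⟨⟨fun u v => Subtype.ext (Subtype.ext (congrArg (fun z : B => (z : X))
      (hBa.is_comm.comm (⟨u.1.1, u.2⟩ : B) ⟨v.1.1, v.2⟩)))⟩⟩
    (hBp.of_injective ((N.subtype.comp (B.subgroupOf N).subtype).codRestrict B fun x => x.2)
      fun x y h => Subtype.ext (Subtype.ext (congrArg (fun z : B => (z : X)) h)))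
    (fun x hx hxo => hfull x (Subgroup.mem_centralizer_iff.mpr fun e he =>
      congrArg Subtype.val (Subgroup.mem_centralizer_iff.mp hx ⟨e, hBN he⟩ he))
      (by rw [Subgroup.orderOf_coe, hxo])) Q hQ hEQ

end Cfsg.Agent.S0522
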