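import Cfsg.Statements.S0532
import Mathlib.GroupTheory.IndexNormal
import Mathlib.GroupTheory.Sylow

set_option autoImplicit false
open Cfsg

namespace Cfsg.Agent.S0532

theorem hasSubgroupOfEveryOrder_congr {A B : Type*} [Group A] [Group B] (e : A ≃* B)
    (h : Cfsg.HasSubgroupOfEveryOrder A) : Cfsg.HasSubgroupOfEveryOrder B := fun d hd => by
  obtain ⟨H, hH⟩ := h d (by rwa [Nat.card_congr e.toEquiv])
  exact ⟨H.map e.toMonoidHom, by rw [Subgroup.card_map_of_injective e.injective, hH]⟩


/-- If each subgroup of a finite group satisfies the converse of Lagrange's theorem, then a Sylow subgroup for the largest prime dividing the group order is normal. -/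
theorem result {G : Type*} [Group G] [Finite G] (h : ∀ H : Subgroup G, Cfsg.HasSubgroupOfEveryOrder H) (p : ℕ) [Fact p.Prime] (hdvd : p ∣ Nat.card G) (hmax : ∀ q : ℕ, q.Prime → q ∣ Nat.card G → q ≤ p) (P : Sylow p G) : (P : Subgroup G).Normal := by
  induction hn : Nat.card G using Nat.strong_induction_on generalizing G with
  | _ n ih =>
    subst hn
    have h1 : 1 < Nat.card G :=
      lt_of_lt_of_le (Fact.out : p.Prime).one_lt (Nat.le_of_dvd Nat.card_pos hdvd)
    set q := (Nat.card G).minFac with hq
    have hqp : q.Prime := Nat.minFac_prime h1.ne'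
    have hqd : q ∣ Nat.card G := Nat.minFac_dvd _
    by_cases hqe : q = p
    · have hall : ∀ r : ℕ, r.Prime → r ∣ Nat.card G → r = p := fun r hr hd =>
        le_antisymm (hmax r hr hd) (hqe ▸ Nat.minFac_le_of_dvd hr.two_le hd)
      have hG : IsPGroup p G := by
        refine IsPGroup.of_card (n := (Nat.card G).factorization p) ?_
        have := Nat.eq_prime_pow_of_unique_prime_dvd Nat.card_pos.ne' (fun {d} hd hdd => hall d hd hdd)
        rw [this, (Fact.out : p.Prime).factorization_pow, Finsupp.single_eq_same]
      have : (P : Subgroup G) = ⊤ :=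
        top_le_iff.mp ((hG.to_subgroup ⊤).le_sylow_of_normal P)
      rw [this]
      infer_instance
    obtain ⟨H, hH⟩ := hasSubgroupOfEveryOrder_congr Subgroup.topEquiv (h ⊤) (Nat.card G / q)
      (Nat.div_dvd_of_dvd hqd)
    have hHi : H.index = q := by
      refine Nat.eq_of_mul_eq_mul_left (Nat.card_pos (α := H)) ?_
      rw [H.card_mul_index, hH, Nat.div_mul_cancel hqd]
    haveI hHn : H.Normal := Subgroup.normal_of_index_eq_minFac_card hHi
    have hPH : (P : Subgroup G) ≤ H := by
      intro x hx
      rw [← QuotientGroup.ker_mk' H, MonoidHom.mem_ker, ← orderOf_eq_one_iff]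
      have h2 : orderOf (QuotientGroup.mk' H x) ∣ q := by
        rw [← hHi, Subgroup.index_eq_card]
        exact orderOf_dvd_natCard _
      rcases hqp.eq_one_or_self_of_dvd _ h2 with h3 | h3
      · exact h3
      · exfalso
        obtain ⟨k, hk⟩ := P.isPGroup'.exists_card_eq
        have h4 : q ∣ Nat.card (P : Subgroup G) :=
          h3 ▸ (orderOf_map_dvd (QuotientGroup.mk' H) x).trans (Subgroup.orderOf_dvd_natCard _ hx)
        rw [hk] at h4
        exact hqe ((Nat.prime_dvd_prime_iff_eq hqp Fact.out).mp (hqp.dvd_of_dvd_pow h4))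
    have hsub : ∀ K : Subgroup H, Cfsg.HasSubgroupOfEveryOrder K := fun K =>
      hasSubgroupOfEveryOrder_congr (K.equivMapOfInjective _ H.subtype_injective).symm (h _)
    have hpH : p ∣ Nat.card H := by
      have hp' := P.dvd_card_of_dvd_card hdvd
      exact hp'.trans (Subgroup.card_dvd_of_le hPH)
    have hlt : Nat.card H < Nat.card G := by
      rw [hH]; exact Nat.div_lt_self Nat.card_pos hqp.one_lt
    have hn := ih _ hlt (G := H) hsub hpH
      (fun r hr hd => hmax r hr (hd.trans H.card_subgroup_dvd_card)) (P.subtype hPH) rfl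
    haveI := (P.subtype hPH).characteristic_of_normal hn
    have : (((P.subtype hPH : Sylow p H) : Subgroup H).map H.subtype).Normal := inferInstance
    rwa [Sylow.coe_subtype, Subgroup.map_subgroupOf_eq_of_le hPH] at this

end Cfsg.Agent.S0532
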