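import Cfsg.Statements.S0533
import Cfsg.Agent.S0532
import Cfsg.Agent.Lib.SolvStruct.Supersolvable
import Cfsg.Agent.Lib.Core.Cores
import Cfsg.Agent.Lib.Transfer.Tate

set_option autoImplicit false
open Cfsg

namespace Cfsg.Agent.S0533

open CfsgLib.SolvStruct in
theorem of_pGroup_and_subgroup {X : Type*} [Group X] [Finite X] (p : ℕ) [Fact p.Prime]
    (P H : Subgroup X) (hP : P.Normal) (hPp : IsPGroup p P) (hH : Cfsg.IsSupersolvable H)
    (htop : P ⊔ H = ⊤) (hidx : H.index ∣ p) : Cfsg.IsSupersolvable X := by
  induction hn : Nat.card X using Nat.strong_induction_on generalizing X with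
  | _ n ih =>
    subst hn
    haveI := hP
    rcases (Nat.dvd_prime (Fact.out : p.Prime)).mp hidx with h1 | h1
    · rw [Subgroup.index_eq_one] at h1
      subst h1
      exact (isSupersolvable_congr Subgroup.topEquiv).mp hH
    set R := P ⊓ H with hR
    have hRidx : R.relIndex P = p := by
      rw [hR, inf_comm, Subgroup.inf_relIndex_right, ← h1]
      have h2 := CfsgLib.Core.card_sup_mul_card_inf H P Subgroup.le_normalizer_of_normal
      rw [sup_comm, htop, Subgroup.card_top, ← H.card_mul_index, mul_assoc] at h2
      have h3 : Nat.card ↥(H ⊓ P) * H.relIndex P = Nat.card P := by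
        rw [← Subgroup.inf_relIndex_right H P, ← Subgroup.relIndex_bot_left (H ⊓ P),
          Subgroup.relIndex_mul_relIndex _ _ _ bot_le inf_le_right, Subgroup.relIndex_bot_left]
      rw [← h3, mul_comm (Nat.card ↥(H ⊓ P))] at h2
      exact (Nat.eq_of_mul_eq_mul_right Nat.card_pos (Nat.eq_of_mul_eq_mul_left Nat.card_pos h2)).symm
    haveI hRn : R.Normal := by
      have h2 : (R.subgroupOf P).Normal := by
        obtain ⟨k, hk⟩ := hPp.exists_card_eq
        rcases k with _ | k
        · exfalso
          have h3 : R.relIndex P ∣ Nat.card P := Subgroup.index_dvd_card _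
          rw [hRidx, hk, pow_zero] at h3
          exact (Fact.out : p.Prime).not_dvd_one h3
        refine Subgroup.normal_of_index_eq_minFac_card ?_
        rw [hk, (Fact.out : p.Prime).pow_minFac (Nat.succ_ne_zero k)]
        exact hRidx
      rw [← Subgroup.normalizer_eq_top_iff, eq_top_iff, ← htop]
      exact sup_le ((Subgroup.normal_subgroupOf_iff_le_normalizer inf_le_left).mp h2)
        ((le_inf Subgroup.le_normalizer_of_normal Subgroup.le_normalizer).trans
          Subgroup.inf_normalizer_le_normalizer_inf)
    by_cases hR0 : R = ⊥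
    · haveI : IsCyclic P := by
        refine isCyclic_of_prime_card (p := p) ?_
        rw [← hRidx, hR0, Subgroup.relIndex_bot_left]
      refine isSupersolvable_of_quotient_cyclic P (isSupersolvable_of_surjective
        (f := (QuotientGroup.mk' P).comp H.subtype) ?_ hH)
      rw [← MonoidHom.range_eq_top, MonoidHom.range_comp, Subgroup.range_subtype]
      have h2 := congrArg (Subgroup.map (QuotientGroup.mk' P)) htop
      rwa [Subgroup.map_sup, Subgroup.map_top_of_surjective _ (QuotientGroup.mk'_surjective P),
        (Subgroup.map_eq_bot_iff _).mpr (QuotientGroup.ker_mk' P).ge, bot_sup_eq] at h2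
    obtain ⟨D, hDn, hDH, hDc, hDp⟩ : ∃ D : Subgroup X, D.Normal ∧ D ≤ H ∧ IsCyclic D ∧ D ≠ ⊥ := by
      set Z := R ⊓ Subgroup.centralizer (P : Set X) with hZ
      have hZ0 : Z ≠ ⊥ := by
        intro h0
        have hne : R.subgroupOf P ≠ ⊥ := fun h => hR0 (by
          rw [← Subgroup.map_subgroupOf_eq_of_le (show R ≤ P from inf_le_left), h, Subgroup.map_bot])
        obtain ⟨z, hzR, hzc, hzo⟩ := CfsgLib.Transfer.exists_mem_center_orderOf_eq hPp hne
        have hmem : (z : X) ∈ Z := Subgroup.mem_inf.mpr ⟨hzR,
          Subgroup.mem_centralizer_iff.mpr fun y hy =>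
            congrArg Subtype.val (Subgroup.mem_center_iff.mp hzc ⟨y, hy⟩)⟩
        rw [h0, Subgroup.mem_bot] at hmem
        rw [show z = 1 from Subtype.ext hmem, orderOf_one] at hzo
        exact (Fact.out : p.Prime).ne_one hzo.symm
      haveI : Z.Normal := by rw [hZ]; infer_instance
      have hZH : Z ≤ H := inf_le_left.trans inf_le_right
      obtain ⟨D₀, hD₀n, hD₀Z, hD₀p⟩ := exists_prime_normal_le hH
        (inferInstance : (Z.subgroupOf H).Normal) (fun h => hZ0 (by
          rw [← Subgroup.map_subgroupOf_eq_of_le hZH, h, Subgroup.map_bot]))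
      have hDZ : D₀.map H.subtype ≤ Z := by
        rw [← Subgroup.map_subgroupOf_eq_of_le hZH]; exact Subgroup.map_mono hD₀Z
      have hcard : (Nat.card (D₀.map H.subtype)).Prime := by
        rwa [Subgroup.card_map_of_injective H.subtype_injective]
      haveI := Fact.mk hcard
      refine ⟨D₀.map H.subtype, ?_, Subgroup.map_subtype_le _, isCyclic_of_prime_card rfl,
        fun h => by rw [h, Subgroup.card_bot] at hcard; exact Nat.not_prime_one hcard⟩
      rw [← Subgroup.normalizer_eq_top_iff, eq_top_iff, ← htop]
      refine sup_le ?_ ?_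
      · exact (Subgroup.le_centralizer_iff.mp (hDZ.trans inf_le_right)).trans
          (Subgroup.centralizer_le_normalizer _)
      · rw [← Subgroup.normal_subgroupOf_iff_le_normalizer (Subgroup.map_subtype_le _),
          Subgroup.subgroupOf, Subgroup.comap_map_eq_self_of_injective H.subtype_injective]
        exact hD₀n
    haveI := hDn; haveI := hDc
    set f := QuotientGroup.mk' D with hf
    refine isSupersolvable_of_quotient_cyclic D (ih _ (CfsgLib.Components.card_quotient_lt hDp)
      (P.map f) (H.map f) (hP.map f (QuotientGroup.mk'_surjective D)) (hPp.map f)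
      (isSupersolvable_of_surjective (f.subgroupMap_surjective H) hH) ?_ ?_ rfl)
    · rw [← Subgroup.map_sup, htop, Subgroup.map_top_of_surjective f (QuotientGroup.mk'_surjective D)]
    · rw [hf, Subgroup.index_map_eq H (QuotientGroup.mk'_surjective D)
        (by rwa [QuotientGroup.ker_mk'])]
      exact hidx


/-- If every subgroup of a finite group has subgroups of all orders dividing its order, then the group is supersolvable. -/
theorem result {G : Type*} [Group G] [Finite G] (h : ∀ H : Subgroup G, Cfsg.HasSubgroupOfEveryOrder H) : Cfsg.IsSupersolvable G := by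
  induction hn : Nat.card G using Nat.strong_induction_on generalizing G with
  | _ n ih =>
    subst hn
    rcases subsingleton_or_nontrivial G with h' | h'
    · exact CfsgLib.SolvStruct.isSupersolvable_of_subsingleton
    obtain ⟨p, hpmem, hmax⟩ := (Nat.card G).primeFactors.exists_maximal
      (Nat.nonempty_primeFactors.mpr (Finite.one_lt_card (α := G)))
    obtain ⟨hp, hpd, -⟩ := Nat.mem_primeFactors.mp hpmem
    have hmax' : ∀ q : ℕ, q.Prime → q ∣ Nat.card G → q ≤ p := by
      intro q hq hd
      rcases le_total q p with h'' | h''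
      · exact h''
      · exact hmax (Nat.mem_primeFactors.mpr ⟨hq, hd, Nat.card_pos.ne'⟩) h''
    haveI := Fact.mk hp
    obtain ⟨P⟩ : Nonempty (Sylow p G) := inferInstance
    have hPn := Cfsg.Agent.S0532.result h p hpd hmax' P
    obtain ⟨H, hH⟩ := Cfsg.Agent.S0532.hasSubgroupOfEveryOrder_congr Subgroup.topEquiv (h ⊤)
      (Nat.card G / p) (Nat.div_dvd_of_dvd hpd)
    have hHi : H.index = p := by
      refine Nat.eq_of_mul_eq_mul_left (Nat.card_pos (α := H)) ?_
      rw [H.card_mul_index, hH, Nat.div_mul_cancel hpd]
    refine of_pGroup_and_subgroup p (P : Subgroup G) H hPn P.isPGroup' ?_ ?_ hHi.dvd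
    · refine ih _ (by rw [hH]; exact Nat.div_lt_self Nat.card_pos hp.one_lt) (fun K => ?_) rfl
      exact Cfsg.Agent.S0532.hasSubgroupOfEveryOrder_congr
        (K.equivMapOfInjective _ H.subtype_injective).symm (h _)
    · rw [← Subgroup.index_eq_one]
      have hd := Subgroup.index_dvd_of_le (le_sup_right : H ≤ (P : Subgroup G) ⊔ H)
      rw [hHi] at hd
      refine (hp.eq_one_or_self_of_dvd _ hd).resolve_right
        fun he => P.not_dvd_index ?_
      calc p = ((P : Subgroup G) ⊔ H).index := he.symm
        _ ∣ (P : Subgroup G).index := Subgroup.index_dvd_of_le le_sup_left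

end Cfsg.Agent.S0533
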