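import Cfsg.Statements.S0534
import Cfsg.Agent.Lib.SolvStruct.Supersolvable
import Cfsg.Agent.Lib.Core.Hall

set_option autoImplicit false
open Cfsg

namespace Cfsg.Agent.S0534

/-- Let G be a finite solvable group and A a finite abelian group such that every prime dividing the order of A divides the order of G and, for each prime p dividing the order of G, the exponent of p in the order of A is one less than its exponent in the order of G. Then G × A has a subgroup of every order dividing its order. -/
theorem result {G A : Type*} [Group G] [CommGroup A] [Finite G] [Finite A] [Group.IsSolvable G] (hA : ∀ p : ℕ, p.Prime → p ∣ Nat.card A → p ∣ Nat.card G) (hexp : ∀ p : ℕ, p.Prime → p ∣ Nat.card G → (Nat.card A).factorization p + 1 = (Nat.card G).factorization p) : Cfsg.HasSubgroupOfEveryOrder (G × A) := by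
  intro d hd
  rw [Nat.card_prod] at hd
  have hd0 : d ≠ 0 := fun h => by
    rw [h, zero_dvd_iff, Nat.mul_eq_zero] at hd
    exact hd.elim Nat.card_pos.ne' Nat.card_pos.ne'
  obtain ⟨H, hH⟩ := CfsgLib.Core.exists_piHall (G := G)
    {p | (Nat.card G).factorization p ≤ d.factorization p}
  have hdle : ∀ p, d.factorization p ≤
      (Nat.card G).factorization p + (Nat.card A).factorization p := by
    intro p
    have := (Nat.factorization_le_iff_dvd hd0 (Nat.mul_pos Nat.card_pos Nat.card_pos).ne').mpr hd p
    rwa [Nat.factorization_mul Nat.card_pos.ne' Nat.card_pos.ne', Finsupp.add_apply] at this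
  have hv : ∀ p, p.Prime → (Nat.card H).factorization p =
      if (Nat.card G).factorization p ≤ d.factorization p then (Nat.card G).factorization p else 0 := by
    intro p hp
    split_ifs with h
    · rw [← H.card_mul_index, Nat.factorization_mul Nat.card_pos.ne'
        Subgroup.index_ne_zero_of_finite, Finsupp.add_apply,
        Nat.factorization_eq_zero_of_not_dvd (n := H.index) (hH.2 p hp h), add_zero]
    · exact Nat.factorization_eq_zero_of_not_dvd fun hd' => h (hH.1 p hp hd')
  have hHd : Nat.card H ∣ d := by
    rw [← Nat.factorization_le_iff_dvd Nat.card_pos.ne' hd0]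
    intro p
    by_cases hp : p.Prime
    · rw [hv p hp]
      split_ifs with h
      · exact h
      · exact Nat.zero_le _
    · rw [Nat.factorization_eq_zero_of_not_prime _ hp]
      exact Nat.zero_le _
  obtain ⟨m, rfl⟩ := hHd
  have hm0 : m ≠ 0 := right_ne_zero_of_mul hd0
  have hmA : m ∣ Nat.card A := by
    rw [← Nat.factorization_le_iff_dvd hm0 Nat.card_pos.ne']
    intro p
    by_cases hp : p.Prime
    · have h1 := hdle p
      have h2 := hv p hp
      rw [Nat.factorization_mul Nat.card_pos.ne' hm0, Finsupp.add_apply] at h1 h2
      split_ifs at h2 with h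
      · omega
      · by_cases hpG : p ∣ Nat.card G
        · have := hexp p hp hpG
          omega
        · have := Nat.factorization_eq_zero_of_not_dvd hpG
          omega
    · rw [Nat.factorization_eq_zero_of_not_prime _ hp]
      exact Nat.zero_le _
  obtain ⟨B, hB⟩ := CfsgLib.SolvStruct.hasSubgroupOfEveryOrder
    (CfsgLib.SolvStruct.isSupersolvable_of_isNilpotent (G := A)) m hmA
  exact ⟨H.prod B, by rw [Nat.card_congr (H.prodEquiv B).toEquiv, Nat.card_prod, hB]⟩

end Cfsg.Agent.S0534
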