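import Cfsg.Statements.S0535
import Cfsg.Agent.S0006

set_option autoImplicit false
open Cfsg

namespace Cfsg.Agent.S0535

/-- Suppose that for every nontrivial subgroup H of a finite group and every prime p dividing the order of H there is a proper subgroup of H whose index in H is a power of p. Then the group is solvable. -/
theorem result {G : Type*} [Group G] [Finite G] (h : ∀ H : Subgroup G, H ≠ ⊥ → ∀ p : ℕ, p.Prime → p ∣ Nat.card H → ∃ K : Subgroup H, K ≠ ⊤ ∧ ∃ k : ℕ, K.index = p ^ k) : Group.IsSolvable G := by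
  refine Cfsg.Agent.S0006.result fun p hp => ?_
  obtain ⟨K, ⟨⟨k, hk⟩, hmin⟩⟩ := Set.Finite.exists_minimal
    (s := {K : Subgroup G | ∃ k : ℕ, K.index = p ^ k}) (Set.toFinite _) ⟨⊤, 0, by simp⟩
  have hnd : ¬ p ∣ Nat.card K := by
    intro hd
    have hK0 : K ≠ ⊥ := fun h0 => hp.not_dvd_one (by rwa [h0, Subgroup.card_bot] at hd)
    obtain ⟨L, hL, j, hj⟩ := h K hK0 p hp hd
    apply hL
    have hle : K ≤ L.map K.subtype := hmin ⟨j + k, by
      rw [Subgroup.index_map_subtype, hj, hk, pow_add]⟩ (Subgroup.map_subtype_le L)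
    rw [eq_top_iff]
    intro x _
    obtain ⟨y, hy, hyx⟩ := hle x.2
    exact K.subtype_injective hyx ▸ hy
  refine ⟨K, ?_⟩
  rw [hk, ← K.card_mul_index, hk, Nat.factorization_mul Nat.card_pos.ne' (pow_ne_zero k hp.ne_zero),
    Finsupp.add_apply, Nat.factorization_eq_zero_of_not_dvd hnd, hp.factorization_pow,
    Finsupp.single_eq_same, zero_add]

end Cfsg.Agent.S0535
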