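import Cfsg.Statements.S0537
import Cfsg.Agent.Lib.SolvStruct.MinNonNil

set_option autoImplicit false
open Cfsg

namespace Cfsg.Agent.S0537

open Pointwise CfsgLib.SolvStruct

theorem fixed_of_pow_fixed {X : Type*} [Group X] {g x : X} {q n : ℕ} (hg : g ^ n = 1)
    (hc : Commute x (g * x * g⁻¹)) (hqf : Commute g (x ^ q)) (hgc : (g * x * g⁻¹ * x⁻¹) ^ q = 1 →
      Commute g (g * x * g⁻¹ * x⁻¹)) (hcop : q.Coprime n) : Commute g x := by
  set c := g * x * g⁻¹ * x⁻¹ with hcdef
  have hcx : Commute c x := (hc.symm).mul_left (Commute.inv_left rfl)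
  have hcq : c ^ q = 1 := by
    have h1 : Commute (g * x * g⁻¹) x⁻¹ := hc.symm.inv_right
    rw [hcdef, h1.mul_pow, conj_pow, hqf.eq, mul_inv_cancel_right, inv_pow, mul_inv_cancel]
  have hgc' := hgc hcq
  have hiter : ∀ k : ℕ, g ^ k * x * (g ^ k)⁻¹ = c ^ k * x := by
    intro k
    induction k with
    | zero => simp
    | succ k ih =>
      calc g ^ (k + 1) * x * (g ^ (k + 1))⁻¹ = g * (g ^ k * x * (g ^ k)⁻¹) * g⁻¹ := by
            rw [pow_succ']; group
        _ = g * c ^ k * g⁻¹ * (g * x * g⁻¹) := by rw [ih]; group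
        _ = c ^ k * (g * x * g⁻¹) := by
            rw [(hgc'.pow_right k).eq, mul_inv_cancel_right]
        _ = c ^ k * (c * x) := by rw [hcdef]; group
        _ = c ^ (k + 1) * x := by rw [pow_succ]; group
  have hcn : c ^ n = 1 := by
    have := hiter n
    rw [hg, inv_one, one_mul, mul_one] at this
    exact mul_eq_right.mp this.symm
  have hc1 : c = 1 := by
    rw [← orderOf_eq_one_iff]
    exact Nat.eq_one_of_dvd_coprimes hcop (orderOf_dvd_of_pow_eq_one hcq)
      (orderOf_dvd_of_pow_eq_one hcn)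
  exact mul_inv_eq_iff_eq_mul.mp (mul_inv_eq_one.mp hc1)


/-- A finite non-abelian group in which every proper subgroup is abelian is either of prime-power order, or is generated by a cyclic Sylow p-subgroup and a normal Sylow q-subgroup that is elementary abelian, for distinct primes p and q. -/
theorem result {G : Type*} [Group G] [Finite G] (hna : ¬ IsMulCommutative G) (h : ∀ H : Subgroup G, H ≠ ⊤ → IsMulCommutative H) : (∃ p : ℕ, p.Prime ∧ IsPGroup p G) ∨ ∃ p q : ℕ, p.Prime ∧ q.Prime ∧ p ≠ q ∧ ∃ (P : Sylow p G) (Q : Sylow q G), IsCyclic P ∧ (Q : Subgroup G).Normal ∧ Cfsg.IsElementaryAbelian q (Q : Subgroup G) ∧ (P : Subgroup G) ⊔ Q = ⊤ := by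
  by_cases hnil : Group.IsNilpotent G
  · left
    haveI := hnil
    haveI : Nontrivial G := by
      rcases subsingleton_or_nontrivial G with h' | h'
      · exact absurd ⟨⟨fun a b => Subsingleton.elim _ _⟩⟩ hna
      · exact h'
    obtain ⟨p, hp, hpd⟩ := Nat.exists_prime_and_dvd (Finite.one_lt_card (α := G)).ne'
    haveI := Fact.mk hp
    obtain ⟨P⟩ : Nonempty (Sylow p G) := inferInstance
    refine ⟨p, hp, ?_⟩
    by_cases hPt : (P : Subgroup G) = ⊤
    · exact P.isPGroup'.of_equiv ((MulEquiv.subgroupCongr hPt).trans Subgroup.topEquiv)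
    exfalso
    let e := Sylow.directProductOfNormal (G := G)
      (fun P => P.normal_of_normalizerCondition Group.normalizerCondition_of_isNilpotent)
    refine hna ⟨⟨fun x y => ?_⟩⟩
    obtain ⟨u, rfl⟩ := e.surjective x
    obtain ⟨v, rfl⟩ := e.surjective y
    rw [← map_mul, ← map_mul]
    congr 1
    funext r R
    haveI := Fact.mk (Nat.prime_of_mem_primeFactors r.2)
    have hRt : (R : Subgroup G) ≠ ⊤ := by
      intro hRt
      apply hPt
      have h1 : Nat.card (R : Subgroup G) = Nat.card G := by rw [hRt, Subgroup.card_top]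
      rw [R.card_eq_multiplicity] at h1
      have hd : p ∣ (r : ℕ) ^ (Nat.card G).factorization r := by rw [h1]; exact hpd
      have hpr : p = (r : ℕ) := (Nat.prime_dvd_prime_iff_eq hp Fact.out).mp (hp.dvd_of_dvd_pow hd)
      refine Subgroup.eq_top_of_card_eq _ ?_
      rw [P.card_eq_multiplicity, hpr, h1]
    exact (h _ hRt).is_comm.comm (u r R) (v r R)
  · right
    have hG : Cfsg.IsMinimalNonNilpotent G := ⟨hnil, fun H hH => by
      haveI := h H hH
      letI : CommGroup H := IsMulCommutative.instCommGroup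
      infer_instance⟩
    obtain ⟨p, q, hp, hq, hpq, P, Q, hPc, hQn, hsup, hcard⟩ := minNonNil_structure hG
    haveI := Fact.mk hp
    haveI := Fact.mk hq
    have hQt : (Q : Subgroup G) ≠ ⊤ := fun e => hnil (by
      haveI := Q.isPGroup'.isNilpotent
      exact Group.nilpotent_of_mulEquiv ((MulEquiv.subgroupCongr e).trans Subgroup.topEquiv))
    haveI hQc := h _ hQt
    refine ⟨p, q, hp, hq, hpq, P, Q, hPc, hQn, ⟨hQc, ?_⟩, hsup⟩
    by_contra hne
    push Not at hne
    obtain ⟨b, hb, hbq⟩ := hne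
    -- the elements of order dividing `q` form a proper normal subgroup
    let W : Subgroup G :=
      { carrier := {x | x ∈ (Q : Subgroup G) ∧ x ^ q = 1}
        one_mem' := ⟨one_mem _, one_pow _⟩
        mul_mem' := fun {x y} hx hy => ⟨mul_mem hx.1 hy.1, by
          have hc : Commute x y := setLike_mul_comm hx.1 hy.1
          rw [hc.mul_pow, hx.2, hy.2, one_mul]⟩
        inv_mem' := fun {x} hx => ⟨inv_mem hx.1, by rw [inv_pow, hx.2, inv_one]⟩ }
    haveI hWn : W.Normal := ⟨fun x hx g => ⟨hQn.conj_mem x hx.1 g, by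
      rw [conj_pow, hx.2, mul_one, mul_inv_cancel]⟩⟩
    set J := (P : Subgroup G) ⊔ W with hJ
    have hJt : J ≠ ⊤ := by
      intro e
      have h1 := CfsgLib.Core.card_sup_dvd (P : Subgroup G) W Subgroup.le_normalizer_of_normal
      rw [← hJ, e, Subgroup.card_top, hcard] at h1
      have h2 : W = (Q : Subgroup G) := Subgroup.eq_of_le_of_card_ge (fun x hx => hx.1)
        (Nat.le_of_dvd Nat.card_pos (Nat.dvd_of_mul_dvd_mul_left Nat.card_pos h1))
      exact hbq ((h2.ge hb : b ∈ W)).2
    haveI hJc := h J hJt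
    refine hnil (isNilpotent_of_sup_commute P.isPGroup'.isNilpotent Q.isPGroup'.isNilpotent ?_ hsup)
    intro g hg
    rw [Subgroup.mem_centralizer_iff]
    suffices key : ∀ k : ℕ, ∀ x ∈ (Q : Subgroup G), x ^ q ^ k = 1 → Commute g x by
      intro x hx
      obtain ⟨k, hk⟩ := Q.isPGroup' ⟨x, hx⟩
      exact (key k x hx (congrArg Subtype.val hk)).eq.symm
    intro k
    induction k with
    | zero =>
      intro x _ hx1
      rw [pow_zero, pow_one] at hx1
      rw [hx1]
      exact Commute.one_right g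
    | succ k ih =>
      intro x hx hxk
      obtain ⟨i, hi⟩ := IsPGroup.iff_orderOf.mp P.isPGroup' ⟨g, hg⟩
      rw [Subgroup.orderOf_mk] at hi
      have hcx : Commute x (g * x * g⁻¹) := setLike_mul_comm hx (hQn.conj_mem x hx g)
      refine fixed_of_pow_fixed (q := q) (n := p ^ i) (hi ▸ pow_orderOf_eq_one g) hcx
        (ih (x ^ q) (pow_mem hx q) (by rwa [← pow_mul, ← pow_succ'])) (fun hcq => ?_)
        (Nat.Coprime.pow_right _ ((Nat.coprime_primes hq hp).mpr hpq.symm))
      exact setLike_mul_comm (S := Subgroup G) (s := J) (Subgroup.mem_sup_left hg)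
        (Subgroup.mem_sup_right ⟨mul_mem (hQn.conj_mem x hx g) (inv_mem hx), hcq⟩)

end Cfsg.Agent.S0537
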