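import Cfsg.Statements.S0539
import Cfsg.Agent.Lib.Components.Subnormal

set_option autoImplicit false
open Pointwise
open Cfsg

namespace Cfsg.Agent.S0539

open scoped Pointwise

theorem exists_conj_in_normalizer {X : Type*} [Group X] (W : Subgroup X) (A : Subgroup X)
    (hA : A.IsSubnormal) (hWA : W ≤ A) (hAN : A ≤ Subgroup.normalizer (W : Set X)) :
    W.Normal ∨ ∃ g : X, MulAut.conj g • W ≤ Subgroup.normalizer (W : Set X) ∧
      MulAut.conj g • W ≠ W := by
  induction hA with
  | top => exact Or.inl (Subgroup.normalizer_eq_top_iff.mp (top_le_iff.mp hAN))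
  | step H K hHK _ hn ih =>
    by_cases hK : K ≤ Subgroup.normalizer (W : Set X)
    · exact ih (hWA.trans hHK) hK
    · obtain ⟨g, hgK, hg⟩ := SetLike.not_le_iff_exists.mp hK
      refine Or.inr ⟨g, ?_, fun he => hg (CfsgLib.Components.mem_normalizer_of_smul_eq_self he)⟩
      refine le_trans ?_ hAN
      rw [← CfsgLib.Components.smul_eq_self_of_mem_normalizer
        ((Subgroup.normal_subgroupOf_iff_le_normalizer hHK).mp hn hgK)]
      exact Subgroup.pointwise_smul_le_pointwise_smul_iff.mpr hWA


/-- Let S be a family of subnormal subgroups of a finite group that is closed under conjugation, and S₀ a proper subfamily. Then some member of S not in S₀ normalizes the join of S₀. -/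
theorem result {G : Type*} [Group G] [Finite G] (S S₀ : Set (Subgroup G)) (hS : ∀ U ∈ S, U.IsSubnormal) (hconj : ∀ U ∈ S, ∀ g : G, MulAut.conj g • U ∈ S) (h₀ : S₀ ⊂ S) : ∃ X ∈ S, X ∉ S₀ ∧ X ≤ Subgroup.normalizer ((sSup S₀ : Subgroup G) : Set G) := by
  set W := sSup S₀ with hW
  have hsn : W.IsSubnormal := CfsgLib.Components.isSubnormal_sSup fun A hA => hS A (h₀.subset hA)
  rcases exists_conj_in_normalizer W W hsn le_rfl Subgroup.le_normalizer with hn | ⟨g, hg, hne⟩
  · obtain ⟨X, hX, hX'⟩ := Set.exists_of_ssubset h₀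
    exact ⟨X, hX, hX', by rw [Subgroup.normalizer_eq_top]; exact le_top⟩
  · by_contra hall
    push Not at hall
    apply hne
    refine Subgroup.eq_of_le_of_card_ge ?_
      (Nat.card_congr (Subgroup.equivSMul (MulAut.conj g) W).toEquiv).le
    rw [CfsgLib.Components.conj_smul_eq_map, hW, Subgroup.map_le_iff_le_comap]
    refine sSup_le fun A hA => ?_
    rw [← Subgroup.map_le_iff_le_comap, ← CfsgLib.Components.conj_smul_eq_map]
    refine le_sSup ?_
    by_contra hnot
    exact hall _ (hconj A (h₀.subset hA) g) hnot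
      ((Subgroup.pointwise_smul_le_pointwise_smul_iff.mpr (le_sSup hA)).trans hg)

end Cfsg.Agent.S0539
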