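import Cfsg.Statements.S0540
import Cfsg.Agent.Lib.Components.Subnormal
import Cfsg.Agent.Lib.SolvStruct.NilFactor
import Cfsg.Agent.Lib.Core.Basic

set_option autoImplicit false
open Pointwise
open Cfsg

namespace Cfsg.Agent.S0540

open CfsgLib.SolvStruct

theorem exists_ge_maximal {G : Type*} [Group G] [Finite G] {U : Set (Subgroup G)} {X : Subgroup G}
    (hX : X ∈ U) : ∃ M, X ≤ M ∧ M ∈ U ∧ ∀ Y ∈ U, M ≤ Y → Y = M := by
  obtain ⟨M, hXM, hM⟩ := (Set.toFinite U).exists_le_maximal hX
  exact ⟨M, hXM, hM.1, fun Y hY h => le_antisymm (hM.2 hY h) h⟩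


/-- A uniqueness lemma of zipper type. Let A be a subgroup of a finite group G and U a nonempty family of subgroups. For V in U write S(V) for the set of conjugates of A that lie in V and are subnormal in V. Assume: A belongs to S(V) for every V in U; a member of some S(W) that lies in V belongs to S(V); and for all V, W in U the normalizer of the join of S(V) ∩ S(W) lies in some member of U. Then U has a greatest element. -/
theorem result {G : Type*} [Group G] [Finite G] (A : Subgroup G) (U : Set (Subgroup G)) (hU : U.Nonempty) (S : Subgroup G → Set (Subgroup G)) (hS : ∀ V B : Subgroup G, B ∈ S V ↔ (∃ g : G, B = MulAut.conj g • A) ∧ B ≤ V ∧ (B.subgroupOf V).IsSubnormal) (h1 : ∀ V ∈ U, A ∈ S V) (h2 : ∀ V ∈ U, ∀ W ∈ U, ∀ B ∈ S W, B ≤ V → B ∈ S V) (h3 : ∀ V ∈ U, ∀ W ∈ U, ∃ X ∈ U, Subgroup.normalizer ((sSup (S V ∩ S W) : Subgroup G) : Set G) ≤ X) : ∃ M ∈ U, ∀ V ∈ U, V ≤ M := by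
  classical
  have hconj : ∀ V : Subgroup G, ∀ B ∈ S V, ∀ v ∈ V, MulAut.conj v • B ∈ S V := by
    intro V B hB v hv
    obtain ⟨⟨g, rfl⟩, hBV, hsn⟩ := (hS V B).mp hB
    refine (hS V _).mpr ⟨⟨v * g, by rw [map_mul, mul_smul]⟩, fun y hy => ?_, ?_⟩
    · rw [mem_conj_smul] at hy
      have := mul_mem (mul_mem hv (hBV hy)) (inv_mem hv)
      rwa [show v * (v⁻¹ * y * v) * v⁻¹ = y by group] at this
    · have h := CfsgLib.Components.isSubnormal_map_equiv (MulAut.conj (⟨v, hv⟩ : V)) hsn
      convert h using 1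
      ext ⟨y, hy⟩
      rw [Subgroup.mem_subgroupOf, mem_conj_smul, Subgroup.mem_map_equiv, Subgroup.mem_subgroupOf,
        MulAut.conj_symm_apply]
      rfl
  have hD : ∀ V : Subgroup G, ∀ 𝒮 ⊆ S V, ((sSup 𝒮).subgroupOf V).IsSubnormal ∧ sSup 𝒮 ≤ V := by
    intro V 𝒮 h𝒮
    have key : ∀ s : Finset (Subgroup G), (∀ B ∈ s, B ∈ S V) →
        ((s.sup id).subgroupOf V).IsSubnormal ∧ s.sup id ≤ V := by
      intro s
      induction s using Finset.induction with
      | empty =>
        intro _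
        rw [Finset.sup_empty]
        exact ⟨by rw [Subgroup.bot_subgroupOf]; exact Subgroup.Normal.isSubnormal inferInstance, bot_le⟩
      | insert B s _ ih =>
        intro h
        obtain ⟨h1, h2⟩ := ih fun C hC => h C (Finset.mem_insert_of_mem hC)
        obtain ⟨-, hBV, hsn⟩ := (hS V B).mp (h B (Finset.mem_insert_self _ _))
        rw [Finset.sup_insert, id, Subgroup.subgroupOf_sup hBV h2]
        exact ⟨CfsgLib.Components.isSubnormal_sup hsn h1, sup_le hBV h2⟩
    have h := key (Set.toFinite 𝒮).toFinset fun B hB => h𝒮 ((Set.Finite.mem_toFinset _).mp hB)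
    rwa [Finset.sup_id_eq_sSup, Set.Finite.coe_toFinset] at h
  have hnormS : ∀ V ∈ U, (∀ Y ∈ U, V ≤ Y → Y = V) →
      Subgroup.normalizer ((sSup (S V) : Subgroup G) : Set G) ≤ V := by
    intro V hV hmax
    obtain ⟨X, hXU, hX⟩ := h3 V hV V hV
    rw [Set.inter_self] at hX
    refine hX.trans (hmax X hXU (le_trans ?_ hX)).le
    intro v hv
    refine mem_normalizer_of_conj_le ?_
    rw [Subgroup.pointwise_smul_subset_iff]
    refine sSup_le fun B hB => ?_
    rw [← Subgroup.pointwise_smul_subset_iff]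
    exact le_sSup (hconj V B hB v hv)
  -- an element of `S V` outside `S W` normalising the join of the common ones
  have hfind : ∀ V ∈ U, ∀ W ∈ U, ¬ S V ⊆ S W → ∃ B ∈ S V, B ∉ S W ∧
      B ≤ Subgroup.normalizer ((sSup (S V ∩ S W) : Subgroup G) : Set G) := by
    intro V hV W hW hne
    set D := sSup (S V ∩ S W) with hDdef
    obtain ⟨hsn, hDV⟩ := hD V (S V ∩ S W) Set.inter_subset_left
    have hout : ∀ B ∈ S V, B ≤ D → B ∈ S W := fun B hB hBD =>
      h2 W hW V hV B hB (hBD.trans ((hD W _ Set.inter_subset_right).2))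
    by_cases hn : V ≤ Subgroup.normalizer (D : Set G)
    · obtain ⟨B, hB, hBW⟩ := Set.not_subset.mp hne
      exact ⟨B, hB, hBW, ((hS V B).mp hB).2.1.trans hn⟩
    obtain ⟨n, f, hmono, hfnorm, hf0, hfn⟩ := hsn.exists_chain
    have hex : ∃ i, ¬ (f i).map V.subtype ≤ Subgroup.normalizer (D : Set G) :=
      ⟨n, fun hc => hn (by rwa [hfn, ← MonoidHom.range_eq_map, Subgroup.range_subtype] at hc)⟩
    have hfD : (f 0).map V.subtype = D := by rw [hf0, Subgroup.map_subgroupOf_eq_of_le hDV]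
    generalize hidef : Nat.find hex = i
    have hi := Nat.find_spec hex
    rw [hidef] at hi
    obtain ⟨j, rfl⟩ : ∃ j, i = j + 1 := by
      refine Nat.exists_eq_succ_of_ne_zero fun h0 => hi ?_
      rw [h0, hfD]
      exact Subgroup.le_normalizer
    have hj : (f j).map V.subtype ≤ Subgroup.normalizer (D : Set G) :=
      not_not.mp (Nat.find_min hex (hidef ▸ Nat.lt_succ_self j))
    obtain ⟨x, hx, hxD⟩ := SetLike.not_le_iff_exists.mp hi
    obtain ⟨x, hxf, rfl⟩ := hx
    by_contra hno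
    push Not at hno
    refine hxD (mem_normalizer_of_conj_le ?_)
    rw [Subgroup.pointwise_smul_subset_iff]
    refine sSup_le fun B hB => ?_
    rw [← Subgroup.pointwise_smul_subset_iff]
    show MulAut.conj (x : G) • B ≤ D
    have hBV := hconj V B hB.1 x x.2
    by_contra hnot
    have hBW : MulAut.conj (x : G) • B ∉ S W := fun h => hnot (le_sSup ⟨hBV, h⟩)
    refine hno _ hBV hBW ((le_trans ?_ hj : MulAut.conj (x : G) • B ≤ _))
    intro y hy
    rw [mem_conj_smul] at hy
    have hyD : (x : G)⁻¹ * y * x ∈ (f j).map V.subtype :=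
      Subgroup.map_mono (hmono (Nat.zero_le j)) (hfD.ge ((le_sSup hB : B ≤ D) hy))
    obtain ⟨w, hw, hwy⟩ := hyD
    refine ⟨x * w * x⁻¹, ?_, ?_⟩
    · have := (hfnorm j).conj_mem ⟨w, hmono (Nat.le_succ j) hw⟩ (Subgroup.mem_subgroupOf.mpr hw)
        ⟨x, hxf⟩
      exact Subgroup.mem_subgroupOf.mp this
    · simp only [Subgroup.subtype_apply, Subgroup.coe_mul, Subgroup.coe_inv] at hwy ⊢
      rw [hwy]
      group
  have key : ∀ k : ℕ, ∀ V ∈ U, ∀ W ∈ U, (∀ Y ∈ U, V ≤ Y → Y = V) → (∀ Y ∈ U, W ≤ Y → Y = W) →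
      Nat.card (Subgroup G) - (S V ∩ S W).ncard = k → V = W := by
    intro k
    induction k using Nat.strong_induction_on with
    | _ k ih =>
    intro V hV W hW hVm hWm hk
    subst hk
    by_cases hSVW : S V = S W
    · refine le_antisymm ?_ ?_
      · intro v hv
        refine hnormS W hW hWm ?_
        rw [← hSVW]
        refine mem_normalizer_of_conj_le ?_
        rw [Subgroup.pointwise_smul_subset_iff]
        refine sSup_le fun B hB => ?_
        rw [← Subgroup.pointwise_smul_subset_iff]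
        exact le_sSup (hconj V B hB v hv)
      · intro v hv
        refine hnormS V hV hVm ?_
        rw [hSVW]
        refine mem_normalizer_of_conj_le ?_
        rw [Subgroup.pointwise_smul_subset_iff]
        refine sSup_le fun B hB => ?_
        rw [← Subgroup.pointwise_smul_subset_iff]
        exact le_sSup (hconj W B hB v hv)
    obtain ⟨X, hXU, hX⟩ := h3 V hV W hW
    obtain ⟨X', hXX', hX'U, hX'm⟩ := exists_ge_maximal hXU
    have sub : ∀ {V' W' : Subgroup G}, V' ∈ U → S V' ∩ S W' = S V ∩ S W →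
        ∀ B ∈ S V', B ≤ Subgroup.normalizer ((sSup (S V ∩ S W) : Subgroup G) : Set G) → B ∉ S W' →
        (∀ Y ∈ U, V' ≤ Y → Y = V') → V' = X' := by
      intro V' W' hV' he B hB hBN hBW hV'm
      refine ih _ ?_ V' hV' X' hX'U hV'm hX'm rfl
      have hss : S V ∩ S W ⊂ S V' ∩ S X' := by
        refine Set.ssubset_iff_exists.mpr ⟨fun C hC => ⟨(he.ge hC).1, ?_⟩, B, ⟨hB, ?_⟩, ?_⟩
        · exact h2 X' hX'U V' hV' C (he.ge hC).1
            ((le_sSup hC).trans (Subgroup.le_normalizer.trans (hX.trans hXX')))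
        · exact h2 X' hX'U V' hV' B hB (hBN.trans (hX.trans hXX'))
        · exact fun h => hBW (he.ge h).2
      have := Set.ncard_lt_ncard hss (Set.toFinite _)
      have h4 : (S V' ∩ S X').ncard ≤ Nat.card (Subgroup G) := by
        rw [← Set.ncard_univ]
        exact Set.ncard_le_ncard (Set.subset_univ _) (Set.toFinite _)
      omega
    have hVW : ¬ S V ⊆ S W := fun hsub => hSVW <| Set.Subset.antisymm hsub <| by
      by_contra hne
      obtain ⟨B, hB, hBV, hBN⟩ := hfind W hW V hV hne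
      rw [Set.inter_eq_right.mpr hsub] at hBN
      exact hBV (h2 V hV W hW B hB (hBN.trans (hnormS V hV hVm)))
    have hWV : ¬ S W ⊆ S V := fun hsub => hSVW <| Set.Subset.antisymm (by
      by_contra hne
      obtain ⟨B, hB, hBV, hBN⟩ := hfind V hV W hW hne
      rw [Set.inter_eq_right.mpr hsub] at hBN
      exact hBV (h2 W hW V hV B hB (hBN.trans (hnormS W hW hWm)))) hsub
    obtain ⟨B, hB, hBW, hBN⟩ := hfind V hV W hW hVW
    obtain ⟨C, hC, hCV, hCN⟩ := hfind W hW V hV hWV
    rw [Set.inter_comm] at hCN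
    exact (sub hV rfl B hB hBN hBW hVm).trans
      (sub hW (Set.inter_comm _ _) C hC hCN hCV hWm).symm
  obtain ⟨V₀, hV₀⟩ := hU
  obtain ⟨M, -, hMU, hMm⟩ := exists_ge_maximal hV₀
  refine ⟨M, hMU, fun V hV => ?_⟩
  obtain ⟨M', hVM', hM'U, hM'm⟩ := exists_ge_maximal hV
  exact hVM'.trans (key _ M' hM'U M hMU hM'm hMm rfl).le

end Cfsg.Agent.S0540
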