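import Cfsg.Statements.S0541
import Cfsg.Agent.Lib.SolvStruct.NilFactor
import Cfsg.Agent.Lib.Core.Basic

set_option autoImplicit false
open Pointwise
open Cfsg

namespace Cfsg.Agent.S0541

open CfsgLib.SolvStruct


/-- Let Z and Y be subgroups of a finite group G and p a prime. Suppose that for every g in G the subgroup generated by the conjugates of g Z g⁻¹ under Y is a p-group. Then there is a Sylow p-subgroup P of G such that Y normalizes the subgroup generated by all conjugates of Z contained in P. -/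
theorem result {G : Type*} [Group G] [Finite G] (p : ℕ) [Fact p.Prime] (Z Y : Subgroup G) (h : ∀ g : G, IsPGroup p ↥(⨆ y ∈ Y, MulAut.conj (y * g) • Z)) : ∃ P : Sylow p G, Y ≤ Subgroup.normalizer ((⨆ g ∈ {g : G | MulAut.conj g • Z ≤ (P : Subgroup G)}, MulAut.conj g • Z : Subgroup G) : Set G) := by
  classical
  have hnil : ∀ Q : Subgroup G, IsPGroup p Q → Group.IsNilpotent Q := fun Q hQ => hQ.isNilpotent
  set cand : Set (Subgroup G) := {Q | IsPGroup p Q ∧ Y ≤ Subgroup.normalizer (Q : Set G) ∧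
    Q ≤ ⨆ g ∈ {g : G | MulAut.conj g • Z ≤ Q}, MulAut.conj g • Z} with hcand
  have h0 : (⊥ : Subgroup G) ∈ cand :=
    ⟨IsPGroup.of_bot, by rw [Subgroup.normalizer_eq_top]; exact le_top, bot_le⟩
  obtain ⟨Q, -, hQ, hQmax⟩ := (Set.toFinite cand).exists_le_maximal h0
  obtain ⟨P, hQP⟩ := hQ.1.exists_le_sylow
  refine ⟨P, ?_⟩
  suffices hW : (⨆ g ∈ {g : G | MulAut.conj g • Z ≤ (P : Subgroup G)}, MulAut.conj g • Z) = Q by
    rw [hW]; exact hQ.2.1
  refine le_antisymm (iSup₂_le fun g hg => ?_)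
    (hQ.2.2.trans (iSup₂_le fun g hg => le_iSup₂_of_le g (le_trans hg hQP) le_rfl))
  set M := (P : Subgroup G) ⊓ Subgroup.normalizer (Q : Set G) with hM
  have hall : ∀ g : G, MulAut.conj g • Z ≤ M → MulAut.conj g • Z ≤ Q := by
    intro g hgM
    set R := ⨆ y ∈ Y, MulAut.conj (y * g) • Z with hR
    have hRN : R ≤ Subgroup.normalizer (Q : Set G) := by
      refine iSup₂_le fun y hy z hz => ?_
      rw [mem_conj_smul] at hz
      have hz2 : g * ((y * g)⁻¹ * z * (y * g)) * g⁻¹ ∈ Subgroup.normalizer (Q : Set G) := by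
        refine (hgM.trans inf_le_right) ?_
        rw [mem_conj_smul]
        simpa [mul_assoc] using hz
      have h3 := mul_mem (mul_mem (hQ.2.1 hy) hz2) (inv_mem (hQ.2.1 hy))
      rwa [show y * (g * ((y * g)⁻¹ * z * (y * g)) * g⁻¹) * y⁻¹ = z by group] at h3
    have hYR : Y ≤ Subgroup.normalizer (R : Set G) := by
      intro y hy
      refine mem_normalizer_of_conj_le ?_
      rw [Subgroup.pointwise_smul_subset_iff]
      refine iSup₂_le fun y' hy' => ?_
      rw [← Subgroup.pointwise_smul_subset_iff, ← mul_smul, ← map_mul, ← mul_assoc]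
      exact le_iSup₂_of_le (y * y') (mul_mem hy hy') le_rfl
    have hQR : Q ⊔ R ∈ cand := by
      refine ⟨?_, ?_, ?_⟩
      · have := (h g).to_sup_of_normal_right' hQ.1 hRN
        rwa [sup_comm] at this
      · intro y hy
        refine mem_normalizer_of_conj_le ?_
        rw [Subgroup.smul_sup, conj_smul_self_of_mem (hQ.2.1 hy), conj_smul_self_of_mem (hYR hy)]
      · refine sup_le (hQ.2.2.trans ?_) (iSup₂_le fun y hy => ?_)
        · exact iSup₂_le fun a ha => le_iSup₂_of_le a ((show MulAut.conj a • Z ≤ Q from ha).trans le_sup_left) le_rfl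
        · exact le_iSup₂_of_le (y * g) ((le_iSup₂_of_le y hy le_rfl : _ ≤ R).trans le_sup_right) le_rfl
    have hle : Q ⊔ R ≤ Q := hQmax hQR le_sup_left
    refine le_trans ?_ hle
    refine le_trans ?_ le_sup_right
    exact le_iSup₂_of_le 1 (one_mem Y) (by rw [one_mul])
  have hPM : (P : Subgroup G) ≤ M := by
    by_contra hne
    haveI := hnil _ P.isPGroup'
    have h1 := Group.normalizerCondition_of_isNilpotent (G := (P : Subgroup G))
      (M.subgroupOf (P : Subgroup G))
      (lt_top_iff_ne_top.mpr fun e => hne (Subgroup.subgroupOf_eq_top.mp e))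
    obtain ⟨x, hx, hxM⟩ := SetLike.exists_of_lt h1
    refine hxM (Subgroup.mem_subgroupOf.mpr ⟨x.2, mem_normalizer_of_conj_le ?_⟩)
    refine ((Subgroup.pointwise_smul_le_pointwise_smul_iff (a := MulAut.conj (x : G))).mpr hQ.2.2).trans ?_
    rw [Subgroup.pointwise_smul_subset_iff]
    refine iSup₂_le fun a ha => ?_
    rw [← Subgroup.pointwise_smul_subset_iff, ← mul_smul, ← map_mul]
    refine hall _ fun z hz => ?_
    rw [map_mul, mul_smul, mem_conj_smul] at hz
    have hzQ := (show MulAut.conj a • Z ≤ Q from ha) hz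
    have hwM : (x : G)⁻¹ * z * x ∈ M := ⟨hQP hzQ, Subgroup.le_normalizer hzQ⟩
    have := Subgroup.mem_subgroupOf.mp ((Subgroup.mem_normalizer_iff.mp hx
      (⟨(x : G)⁻¹ * z * x, hQP hzQ⟩ : (P : Subgroup G))).mp (Subgroup.mem_subgroupOf.mpr hwM))
    simpa [mul_assoc] using this
  exact hall g (le_trans hg hPM)

end Cfsg.Agent.S0541
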