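import Cfsg.Statements.S0542
import Cfsg.Agent.Lib.Components.Subnormal

set_option autoImplicit false
open Cfsg

namespace Cfsg.Agent.S0542

theorem not_dvd_relIndex_of_normal {X : Type*} [Group X] [Finite X] (p : ℕ) (Q N : Subgroup X)
    [N.Normal] (h : ¬ p ∣ Q.index) : ¬ p ∣ Q.relIndex N := by
  intro hp
  apply h
  refine hp.trans ?_
  have h1 : Nat.card ↥(Q ⊔ N) = Nat.card N * N.relIndex Q := by
    rw [← Subgroup.relIndex_sup_right Q N, ← Subgroup.relIndex_bot_left N,
      Subgroup.relIndex_mul_relIndex _ _ _ bot_le le_sup_right, Subgroup.relIndex_bot_left]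
  have h2 : Nat.card ↥(Q ⊔ N) = Nat.card Q * Q.relIndex (Q ⊔ N) := by
    rw [← Subgroup.relIndex_bot_left Q, Subgroup.relIndex_mul_relIndex _ _ _ bot_le le_sup_left,
      Subgroup.relIndex_bot_left]
  have h3 : Nat.card N = Nat.card ↥(Q ⊓ N) * Q.relIndex N := by
    rw [← Subgroup.inf_relIndex_right, ← Subgroup.relIndex_bot_left (Q ⊓ N),
      Subgroup.relIndex_mul_relIndex _ _ _ bot_le inf_le_right, Subgroup.relIndex_bot_left]
  have h4 : Nat.card Q = Nat.card ↥(Q ⊓ N) * N.relIndex Q := by
    rw [← Subgroup.inf_relIndex_left Q N, ← Subgroup.relIndex_bot_left (Q ⊓ N),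
      Subgroup.relIndex_mul_relIndex _ _ _ bot_le inf_le_left, Subgroup.relIndex_bot_left]
  have h5 : Q.relIndex N = Q.relIndex (Q ⊔ N) := by
    refine Nat.eq_of_mul_eq_mul_left (Nat.card_pos (α := Q)) ?_
    rw [← h2, h1, h3, h4]
    ring
  rw [h5]
  exact Subgroup.relIndex_dvd_index_of_le le_sup_left


/-- A Sylow p-subgroup of a finite group meets every subnormal subgroup H in a Sylow p-subgroup of H. -/
theorem result {G : Type*} [Group G] [Finite G] (p : ℕ) [Fact p.Prime] (H : Subgroup G) (hH : H.IsSubnormal) (S : Sylow p G) : ∃ Q : Sylow p H, (Q : Subgroup H) = (S : Subgroup G).subgroupOf H := by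
  suffices h : ¬ p ∣ (S : Subgroup G).relIndex H from
    ⟨(S.isPGroup'.comap_subtype (K := H)).toSylow h, rfl⟩
  induction hH with
  | top => simpa using S.not_dvd_index
  | step A B hAB _ hn ih =>
    haveI := hn
    have := not_dvd_relIndex_of_normal p ((S : Subgroup G).subgroupOf B) (A.subgroupOf B) ih
    rwa [Subgroup.relIndex_subgroupOf hAB] at this

end Cfsg.Agent.S0542
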