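import Cfsg.Statements.S0547
import Cfsg.Agent.Lib.SolvStruct.Primitive
import Mathlib.GroupTheory.GroupAction.Primitive

set_option autoImplicit false
open Cfsg

namespace Cfsg.Agent.S0547

/-- Let a finite solvable group G act faithfully and primitively on a set, and let M be a minimal normal subgroup of G. Then M is transitive with trivial point stabilizers, and the number of points equals the order of M, which is a prime power p ^ d with d ≥ 1. -/
theorem result {G : Type*} [Group G] [Finite G] [Group.IsSolvable G] {Ω : Type*} [Nonempty Ω] [MulAction G Ω] [FaithfulSMul G Ω] (hprim : MulAction.IsPreprimitive G Ω) (M : Subgroup G) [M.Normal] (hM : M ≠ ⊥) (hmin : ∀ K : Subgroup G, K.Normal → K ≤ M → K = ⊥ ∨ K = M) : MulAction.IsPretransitive M Ω ∧ (∀ ω : Ω, MulAction.stabilizer M ω = ⊥) ∧ ∃ p d : ℕ, p.Prime ∧ 0 < d ∧ Nat.card Ω = p ^ d ∧ Nat.card M = p ^ d := by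
  haveI := hprim.toIsPretransitive
  have hker : ∀ g : G, (∀ ω : Ω, g • ω = ω) → g = 1 := fun g hg =>
    eq_of_smul_eq_smul (α := Ω) fun ω => by rw [hg, one_smul]
  haveI : Nontrivial Ω := by
    by_contra h
    rw [not_nontrivial_iff_subsingleton] at h
    exact hM ((Subgroup.eq_bot_iff_forall M).mpr fun x _ => hker x fun ω => Subsingleton.elim _ _)
  have hcore : ∀ ω : Ω, (MulAction.stabilizer G ω).normalCore = ⊥ := fun ω => by
    rw [Subgroup.eq_bot_iff_forall]
    intro x hx
    refine hker x fun ω' => ?_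
    obtain ⟨g, rfl⟩ := MulAction.exists_smul_eq G ω ω'
    have := (Subgroup.normalCore_le _) ((Subgroup.normalCore_normal _).conj_mem x hx g⁻¹)
    rw [MulAction.mem_stabilizer_iff, inv_inv, mul_smul, mul_smul, inv_smul_eq_iff] at this
    exact this
  obtain ⟨ω₀⟩ := ‹Nonempty Ω›
  have hco := fun ω : Ω => (MulAction.IsPreprimitive.isCoatom_stabilizer_of_isPreprimitive G ω)
  obtain ⟨p, hp, hMp, hMc, -, -, -⟩ :=
    CfsgLib.SolvStruct.solvable_minimal_normal (hco ω₀) (hcore ω₀) inferInstance hM hmin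
  have hcomp : ∀ ω : Ω, Subgroup.IsComplement' M (MulAction.stabilizer G ω) := fun ω =>
    (CfsgLib.SolvStruct.abelian_normal_structure (hco ω) (hcore ω) inferInstance hM hMc).2.1
  haveI := Fact.mk hp
  obtain ⟨d, hd⟩ := hMp.exists_card_eq
  refine ⟨⟨fun a b => ?_⟩, fun ω => ?_, p, d, hp, ?_, ?_, hd⟩
  · obtain ⟨g, rfl⟩ := MulAction.exists_smul_eq G a b
    obtain ⟨⟨m, u⟩, hmu, -⟩ := (hcomp a).existsUnique g
    refine ⟨m, ?_⟩
    change (m : G) • a = g • a
    rw [← hmu, mul_smul, (MulAction.mem_stabilizer_iff.mp u.2)]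
  · rw [Subgroup.eq_bot_iff_forall]
    intro m hm
    have : (m : G) ∈ M ⊓ MulAction.stabilizer G ω := Subgroup.mem_inf.mpr ⟨m.2, hm⟩
    rw [(hcomp ω).disjoint.eq_bot, Subgroup.mem_bot] at this
    exact Subtype.ext this
  · rcases Nat.eq_zero_or_pos d with rfl | h
    · rw [pow_zero] at hd
      exact absurd (Subgroup.card_eq_one.mp hd) hM
    · exact h
  · rw [← MulAction.index_stabilizer_of_transitive G ω₀, (hcomp ω₀).index_eq_card, hd]

end Cfsg.Agent.S0547
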