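import Cfsg.Statements.S0548
import Cfsg.Agent.Lib.SolvStruct.Primitive
import Mathlib.GroupTheory.GroupAction.Primitive

set_option autoImplicit false
open Cfsg

namespace Cfsg.Agent.S0548

/-- Let a finite solvable group G act faithfully and primitively on a set, let M be a minimal normal subgroup and H the stabilizer of a point. Then H is a complement to M, no non-identity element of H centralizes M, and the only subgroups of M normalized by H are the trivial subgroup and M. -/
theorem result {G : Type*} [Group G] [Finite G] [Group.IsSolvable G] {Ω : Type*} [MulAction G Ω] [FaithfulSMul G Ω] (hprim : MulAction.IsPreprimitive G Ω) (M : Subgroup G) [M.Normal] (hM : M ≠ ⊥) (hmin : ∀ K : Subgroup G, K.Normal → K ≤ M → K = ⊥ ∨ K = M) (ω : Ω) : Subgroup.IsComplement' M (MulAction.stabilizer G ω) ∧ MulAction.stabilizer G ω ⊓ Subgroup.centralizer (M : Set G) = ⊥ ∧ ∀ K : Subgroup G, K ≤ M → MulAction.stabilizer G ω ≤ Subgroup.normalizer (K : Set G) → K = ⊥ ∨ K = M := by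
  haveI := hprim.toIsPretransitive
  have hker : ∀ g : G, (∀ ω : Ω, g • ω = ω) → g = 1 := fun g hg =>
    eq_of_smul_eq_smul (α := Ω) fun ω => by rw [hg, one_smul]
  haveI : Nontrivial Ω := by
    by_contra h
    rw [not_nontrivial_iff_subsingleton] at h
    exact hM ((Subgroup.eq_bot_iff_forall M).mpr fun x _ => hker x fun ω => Subsingleton.elim _ _)
  have hcore : (MulAction.stabilizer G ω).normalCore = ⊥ := by
    rw [Subgroup.eq_bot_iff_forall]
    intro x hx
    refine hker x fun ω' => ?_
    obtain ⟨g, rfl⟩ := MulAction.exists_smul_eq G ω ω'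
    have := (Subgroup.normalCore_le _) ((Subgroup.normalCore_normal _).conj_mem x hx g⁻¹)
    rw [MulAction.mem_stabilizer_iff, inv_inv, mul_smul, mul_smul, inv_smul_eq_iff] at this
    exact this
  have hco := MulAction.IsPreprimitive.isCoatom_stabilizer_of_isPreprimitive G ω
  obtain ⟨p, hp, -, hMc, -, hC, hcomp⟩ :=
    CfsgLib.SolvStruct.solvable_minimal_normal hco hcore inferInstance hM hmin
  refine ⟨hcomp, ?_, fun K hKM hK => ?_⟩
  · rw [inf_comm]
    exact CfsgLib.SolvStruct.centralizer_inf_eq_bot hco hcore inferInstance hM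
  · exact hmin K (CfsgLib.SolvStruct.normal_map_subtype_of_le hC.ge hcomp.sup_eq_top hKM hK) hKM

end Cfsg.Agent.S0548
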