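import Cfsg.Statements.S0550
import Cfsg.Agent.Lib.SolvStruct.Primitive

set_option autoImplicit false
open Cfsg

namespace Cfsg.Agent.S0550

/-- Let U be a maximal subgroup with trivial normal core in a finite group G, and A ≠ B two minimal normal subgroups. Then A is the centralizer of B and B that of A, U complements each of them, A and B are non-abelian, and A, B and (A ⊔ B) ∩ U are pairwise isomorphic. -/
theorem result {G : Type*} [Group G] [Finite G] (U : Subgroup G) (hU : IsCoatom U) (hcore : U.normalCore = ⊥) (A B : Subgroup G) [A.Normal] [B.Normal] (hA : A ≠ ⊥) (hB : B ≠ ⊥) (hAmin : ∀ K : Subgroup G, K.Normal → K ≤ A → K = ⊥ ∨ K = A) (hBmin : ∀ K : Subgroup G, K.Normal → K ≤ B → K = ⊥ ∨ K = B) (hAB : A ≠ B) : Subgroup.centralizer (B : Set G) = A ∧ Subgroup.centralizer (A : Set G) = B ∧ Subgroup.IsComplement' A U ∧ Subgroup.IsComplement' B U ∧ ¬ IsMulCommutative A ∧ Nonempty (A ≃* B) ∧ Nonempty (A ≃* ↥((A ⊔ B) ⊓ U)) := by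
  have hd : A ⊓ B = ⊥ := by
    rcases hAmin (A ⊓ B) inferInstance inf_le_left with h | h
    · exact h
    · rcases hBmin (A ⊓ B) inferInstance inf_le_right with h' | h'
      · exact h'
      · exact absurd (h.symm.trans h') hAB
  have hc : ⁅A, B⁆ = ⊥ := Subgroup.commutator_eq_bot_of_disjoint (disjoint_iff.mpr hd)
  have hAB' : A = Subgroup.centralizer (B : Set G) :=
    CfsgLib.SolvStruct.eq_centralizer_of_le hU hcore inferInstance hB inferInstance hA
      (Subgroup.commutator_eq_bot_iff_le_centralizer.mp hc)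
  have hBA' : B = Subgroup.centralizer (A : Set G) :=
    CfsgLib.SolvStruct.eq_centralizer_of_le hU hcore inferInstance hA inferInstance hB
      (Subgroup.commutator_eq_bot_iff_le_centralizer.mp (by rwa [Subgroup.commutator_comm]))
  have dA : A ⊓ U = ⊥ := by
    rw [hAB']; exact CfsgLib.SolvStruct.centralizer_inf_eq_bot hU hcore inferInstance hB
  have dB : B ⊓ U = ⊥ := by
    rw [hBA']; exact CfsgLib.SolvStruct.centralizer_inf_eq_bot hU hcore inferInstance hA
  have cA : Subgroup.IsComplement' A U :=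
    Subgroup.isComplement'_of_disjoint_and_mul_eq_univ (disjoint_iff.mpr dA) (by
      rw [← Subgroup.normal_mul, sup_comm,
        CfsgLib.SolvStruct.sup_eq_top_of_normal hU hcore inferInstance hA, Subgroup.coe_top])
  have cB : Subgroup.IsComplement' B U :=
    Subgroup.isComplement'_of_disjoint_and_mul_eq_univ (disjoint_iff.mpr dB) (by
      rw [← Subgroup.normal_mul, sup_comm,
        CfsgLib.SolvStruct.sup_eq_top_of_normal hU hcore inferInstance hB, Subgroup.coe_top])
  set W := (A ⊔ B) ⊓ U with hW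
  have iso : ∀ (C D : Subgroup G) [C.Normal] [D.Normal], C ⊓ D = ⊥ → C ⊓ U = ⊥ → D ⊓ U = ⊥ →
      C ⊔ U = ⊤ → C ⊔ D = A ⊔ B → Nonempty (D ≃* W) := by
    intro C D _ _ h1 h2 h3 h4 h5
    set f := QuotientGroup.mk' C
    have hi : ∀ X : Subgroup G, C ⊓ X = ⊥ → Function.Injective (f.comp X.subtype) := by
      intro X hX
      rw [← MonoidHom.ker_eq_bot_iff, eq_bot_iff]
      intro x hx
      rw [MonoidHom.mem_ker] at hx
      have : (x : G) ∈ C ⊓ X := Subgroup.mem_inf.mpr ⟨(QuotientGroup.eq_one_iff _).mp hx, x.2⟩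
      rw [hX, Subgroup.mem_bot] at this
      exact Subtype.ext this
    have hr : (f.comp D.subtype).range = (f.comp W.subtype).range := by
      rw [MonoidHom.range_comp, MonoidHom.range_comp, Subgroup.range_subtype, Subgroup.range_subtype]
      have hfC : C.map f = ⊥ := (Subgroup.map_eq_bot_iff _).mpr (QuotientGroup.ker_mk' C).ge
      have e1 : (A ⊔ B).map f = D.map f := by
        rw [← h5, Subgroup.map_sup, hfC, bot_sup_eq]
      refine le_antisymm ?_ ((Subgroup.map_mono inf_le_left).trans e1.le)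
      rintro _ ⟨d, hd, rfl⟩
      obtain ⟨c, hc, u, hu, rfl⟩ := Subgroup.mem_sup_of_normal_left.mp
        (show d ∈ C ⊔ U by rw [h4]; trivial)
      refine ⟨u, Subgroup.mem_inf.mpr ⟨?_, hu⟩, ?_⟩
      · rw [← h5]
        exact ((C ⊔ D).mul_mem_cancel_left (Subgroup.mem_sup_left hc)).mp (Subgroup.mem_sup_right hd)
      · rw [map_mul, show f c = 1 from (QuotientGroup.eq_one_iff c).mpr hc, one_mul]
    exact ⟨(MonoidHom.ofInjective (hi D h1)).trans ((MulEquiv.subgroupCongr hr).trans
      (MonoidHom.ofInjective (hi W (le_bot_iff.mp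
        ((inf_le_inf_left C inf_le_right).trans h2.le)))).symm)⟩
  obtain ⟨e1⟩ := iso A B hd dA dB cA.sup_eq_top rfl
  obtain ⟨e2⟩ := iso B A (by rwa [inf_comm]) dB dA cB.sup_eq_top (sup_comm _ _)
  refine ⟨hAB'.symm, hBA'.symm, cA, cB, fun hcomm => hAB ?_, ⟨e2.trans e1.symm⟩, ⟨e2⟩⟩
  rw [hBA']
  exact CfsgLib.SolvStruct.eq_centralizer_of_le hU hcore inferInstance hA inferInstance hA
    (Subgroup.le_centralizer_iff_isMulCommutative.mpr hcomm)

end Cfsg.Agent.S0550
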