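import Cfsg.Statements.S0552
import Cfsg.Agent.Lib.Components.FStar

set_option autoImplicit false
open Cfsg

namespace Cfsg.Agent.S0552

/-- Let σ be an automorphism of a finite solvable group G fixing every element of the Fitting subgroup. If σ is not the identity then the order of σ and the order of G have a common prime factor. -/
theorem result {G : Type*} [Group G] [Finite G] [Group.IsSolvable G] (σ : G ≃* G) (hσ : ∀ x ∈ Cfsg.fittingSubgroup G, σ x = x) (hne : σ ≠ MulEquiv.refl G) : ¬ (orderOf σ).Coprime (Nat.card G) := by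
  intro hcop
  apply hne
  ext x
  set F := Cfsg.fittingSubgroup G
  haveI hFn : F.Normal := CfsgLib.Components.fitting_normal
  have hz : x⁻¹ * σ x ∈ F := by
    refine CfsgLib.Components.centralizer_fitting_le_of_isSolvable ?_
    rw [Subgroup.mem_centralizer_iff]
    intro f hf
    have h1 : σ (x * f * x⁻¹) = x * f * x⁻¹ := hσ _ (hFn.conj_mem f hf x)
    rw [map_mul, map_mul, map_inv, hσ f hf] at h1
    calc f * (x⁻¹ * σ x) = x⁻¹ * (x * f * x⁻¹) * σ x := by group
      _ = x⁻¹ * (σ x * f * (σ x)⁻¹) * σ x := by rw [h1]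
      _ = x⁻¹ * σ x * f := by group
  set z := x⁻¹ * σ x with hzdef
  have hx : σ x = x * z := by rw [hzdef, mul_inv_cancel_left]
  have key : ∀ n : ℕ, (σ ^ n : MulAut G) x = x * z ^ n := by
    intro n
    induction n with
    | zero => simp
    | succ n ih =>
      rw [pow_succ', MulAut.mul_apply, ih, map_mul, map_pow, hσ z hz, hx, mul_assoc, ← pow_succ']
  have h1 := key (orderOf σ)
  rw [pow_orderOf_eq_one, MulAut.one_apply, eq_comm, mul_eq_left] at h1
  have h2 : z = 1 := by
    rw [← orderOf_eq_one_iff]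
    exact Nat.dvd_one.mp (hcop.gcd_eq_one ▸
      Nat.dvd_gcd (orderOf_dvd_of_pow_eq_one h1) (orderOf_dvd_natCard z))
  rw [MulEquiv.refl_apply, hx, h2, mul_one]

end Cfsg.Agent.S0552
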