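import Cfsg.Statements.S0553
import Cfsg.Agent.Lib.Components.Subnormal
import Cfsg.Agent.Lib.Core.MinNormal

set_option autoImplicit false
open Cfsg

namespace Cfsg.Agent.S0553

/-- Let G be a nontrivial finite solvable group in which every maximal subgroup has order coprime to its index. Then for some prime p dividing the order of G the Sylow p-subgroups of G are normal. -/
theorem result {G : Type*} [Group G] [Finite G] [Group.IsSolvable G] [Nontrivial G] (h : ∀ M : Subgroup G, IsCoatom M → (Nat.card M).Coprime M.index) : ∃ p : ℕ, p.Prime ∧ p ∣ Nat.card G ∧ ∀ P : Sylow p G, (P : Subgroup G).Normal := by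
  induction hn : Nat.card G using Nat.strong_induction_on generalizing G with
  | _ n ih =>
    subst hn
    obtain ⟨N, hNn, hN0, hNmin⟩ := CfsgLib.Components.exists_minimal_normal (G := G)
    obtain ⟨p, hp, hNp, -, -⟩ := CfsgLib.Core.isPGroup_of_minimal_normal N inferInstance hN0 hNmin
    haveI := Fact.mk hp
    obtain ⟨l, hl⟩ := hNp.exists_card_eq
    have hpN : p ∣ Nat.card N := by
      rcases l with _ | l
      · exact absurd (Subgroup.card_eq_one.mp (by simpa using hl)) hN0
      · exact hl ▸ dvd_pow_self p (Nat.succ_ne_zero l)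
    have hpG := hpN.trans (Subgroup.card_subgroup_dvd_card N)
    suffices hex : ∃ q : ℕ, q.Prime ∧ q ∣ Nat.card G ∧ ∃ P : Sylow q G, (P : Subgroup G).Normal by
      obtain ⟨q, hq, hqd, P, hP⟩ := hex
      haveI := Fact.mk hq
      haveI := Sylow.unique_of_normal P hP
      exact ⟨q, hq, hqd, fun Q => by rwa [Subsingleton.elim Q P]⟩
    by_cases hNtop : N = ⊤
    · obtain ⟨P⟩ : Nonempty (Sylow p G) := inferInstance
      refine ⟨p, hp, hpG, P, ?_⟩
      rw [show (P : Subgroup G) = ⊤ from top_le_iff.mp (hNtop ▸ hNp.le_sylow_of_normal P)]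
      infer_instance
    set f := QuotientGroup.mk' N with hf
    have hfs : Function.Surjective f := QuotientGroup.mk'_surjective N
    haveI : Nontrivial (G ⧸ N) := by
      by_contra h'
      rw [not_nontrivial_iff_subsingleton] at h'
      exact hNtop (top_le_iff.mp fun x _ => (QuotientGroup.eq_one_iff x).mp (Subsingleton.elim _ _))
    obtain ⟨q, hq, hqd, hqn⟩ := ih _ (CfsgLib.Components.card_quotient_lt hN0) (G := G ⧸ N)
      (fun M hM => by
        have h1 : IsCoatom (M.comap f) := Subgroup.isCoatom_comap_of_surjective hfs hM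
        have h2 := h _ h1
        rw [Subgroup.index_comap_of_surjective _ hfs] at h2
        refine h2.coprime_dvd_left ?_
        rw [CfsgLib.Core.card_comap_mk']
        exact dvd_mul_left _ _) rfl
    haveI := Fact.mk hq
    obtain ⟨Q⟩ : Nonempty (Sylow q G) := inferInstance
    have hT : ((Q : Subgroup G) ⊔ N).Normal := by
      have h1 := (hqn (Q.mapSurjective hfs)).comap f
      rwa [Sylow.coe_mapSurjective, Subgroup.comap_map_eq, hf, QuotientGroup.ker_mk'] at h1
    by_cases hqp : q = p
    · subst hqp
      refine ⟨q, hq, hpG, Q, ?_⟩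
      rwa [sup_eq_left.mpr (hNp.le_sylow_of_normal Q)] at hT
    by_cases hNQ : Subgroup.normalizer ((Q : Subgroup G) : Set G) = ⊤
    · exact ⟨q, hq, hqd.trans (Subgroup.card_quotient_dvd_card N), Q,
        Subgroup.normalizer_eq_top_iff.mp hNQ⟩
    obtain ⟨M, hM, hle⟩ := (IsCoatomic.eq_top_or_exists_le_coatom
      (Subgroup.normalizer ((Q : Subgroup G) : Set G))).resolve_left hNQ
    have htop : M ⊔ N = ⊤ := by
      haveI := hT
      refine top_le_iff.mp ?_
      have h2 := Sylow.normalizer_sup_eq_top (Q.subtype (le_sup_left : (Q : Subgroup G) ≤ (Q : Subgroup G) ⊔ N))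
      rw [Sylow.coe_subtype, Subgroup.map_subgroupOf_eq_of_le le_sup_left] at h2
      rw [← h2]
      exact sup_le (hle.trans le_sup_left) (sup_le_sup_right (Subgroup.le_normalizer.trans hle) _)
    have hidx : M.index ∣ Nat.card N := by
      have h1 : N.relIndex M = N.index := by
        rw [← Subgroup.relIndex_sup_right M N, htop, Subgroup.relIndex_top_right]
      obtain ⟨c, hc⟩ : N.relIndex M ∣ Nat.card M := Subgroup.index_dvd_card _
      have h3 := M.card_mul_index
      rw [← N.card_mul_index, hc, h1, mul_assoc, mul_comm (Nat.card N)] at h3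
      exact Dvd.intro_left c (Nat.eq_of_mul_eq_mul_left (Nat.pos_of_ne_zero N.index_ne_zero_of_finite) h3)
    obtain ⟨j, -, hj⟩ := (Nat.dvd_prime_pow hp).mp (hl ▸ hidx)
    have hj0 : 0 < j := by
      rcases Nat.eq_zero_or_pos j with rfl | h0
      · exact absurd (Subgroup.index_eq_one.mp (by simpa using hj)) hM.1
      · exact h0
    have hcop := h M hM
    rw [hj, Nat.coprime_pow_right_iff hj0, Nat.coprime_comm, hp.coprime_iff_not_dvd] at hcop
    obtain ⟨P⟩ : Nonempty (Sylow p G) := inferInstance
    refine ⟨p, hp, hpG, P, ?_⟩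
    have hPN : N = (P : Subgroup G) := by
      refine Subgroup.eq_of_le_of_card_ge (hNp.le_sylow_of_normal P) ?_
      refine Nat.le_of_dvd Nat.card_pos ?_
      have hPd : Nat.card (P : Subgroup G) ∣ Nat.card M * M.index := by
        rw [Subgroup.card_mul_index]; exact Subgroup.card_subgroup_dvd_card _
      obtain ⟨k, hk⟩ := P.isPGroup'.exists_card_eq
      refine (Nat.Coprime.dvd_of_dvd_mul_left ?_ hPd).trans hidx
      rw [hk]
      exact Nat.Coprime.pow_left k (hp.coprime_iff_not_dvd.mpr hcop)
    rw [← hPN]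
    exact hNn

end Cfsg.Agent.S0553
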