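import Cfsg.Statements.S0554
import Cfsg.Agent.Lib.Components.Subnormal
import Cfsg.Agent.Lib.Core.MinNormal

set_option autoImplicit false
open Cfsg

namespace Cfsg.Agent.S0554

theorem absorb {X : Type*} [Group X] {N : Subgroup X} [N.Normal] :
    ∀ (t : ℕ) (s : Fin t → X) (S : Fin t → Subgroup X) (j : Fin t) (n : X), n ∈ N → N ≤ S j →
      (∀ i, s i ∈ S i) → ∃ s' : Fin t → X, (∀ i, s' i ∈ S i) ∧
        n * (List.ofFn s).prod = (List.ofFn s').prod := by
  intro t
  induction t with
  | zero => exact fun s S j => j.elim0
  | succ t ih =>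
    intro s S j n hn hle hs
    induction j using Fin.cases with
    | zero =>
      refine ⟨Fin.cons (n * s 0) (fun i => s i.succ), ?_, ?_⟩
      · intro i
        induction i using Fin.cases with
        | zero => simpa using mul_mem (hle hn) (hs 0)
        | succ i => simpa using hs i.succ
      · simp [List.ofFn_succ, mul_assoc]
    | succ j =>
      obtain ⟨s', hs', he⟩ := ih (fun i => s i.succ) (fun i => S i.succ) j ((s 0)⁻¹ * n * s 0)
        (by simpa using (inferInstance : N.Normal).conj_mem n hn (s 0)⁻¹) hle (fun i => hs i.succ)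
      refine ⟨Fin.cons (s 0) s', ?_, ?_⟩
      · intro i
        induction i using Fin.cases with
        | zero => simpa using hs 0
        | succ i => simpa using hs' i
      · simp only [List.ofFn_succ, List.prod_cons, Fin.cons_zero, Fin.cons_succ]
        rw [← he]
        group


/-- Let G be a finite solvable group and let S assign to each of t distinct primes, including every prime divisor of the order of G, a Sylow subgroup of G. Then every element of G is a product s_0 s_1 ⋯ s_(t-1) with s_i in S i, the factors taken in the given order. -/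
theorem result {G : Type*} [Group G] [Finite G] [Group.IsSolvable G] (t : ℕ) (p : Fin t → ℕ) (hp : ∀ i, (p i).Prime) (hinj : Function.Injective p) (hall : ∀ q : ℕ, q.Prime → q ∣ Nat.card G → ∃ i, p i = q) (S : (i : Fin t) → Sylow (p i) G) : ∀ g : G, ∃ s : (i : Fin t) → G, (∀ i, s i ∈ (S i : Subgroup G)) ∧ g = (List.ofFn s).prod := by
  induction hn : Nat.card G using Nat.strong_induction_on generalizing G with
  | _ n ih =>
    rcases subsingleton_or_nontrivial G with h | h
    · exact fun g => ⟨fun _ => 1, fun i => one_mem _, Subsingleton.elim _ _⟩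
    intro g
    obtain ⟨N, hNn, hN0, hNmin⟩ := CfsgLib.Components.exists_minimal_normal (G := G)
    obtain ⟨q, hq, hNq, -, -⟩ := CfsgLib.Core.isPGroup_of_minimal_normal N inferInstance hN0 hNmin
    haveI := Fact.mk hq
    obtain ⟨l, hl⟩ := hNq.exists_card_eq
    have hqN : q ∣ Nat.card N := by
      rcases l with _ | l
      · exact absurd (Subgroup.card_eq_one.mp (by simpa using hl)) hN0
      · exact hl ▸ dvd_pow_self q (Nat.succ_ne_zero l)
    obtain ⟨j, hj⟩ := hall q hq (hqN.trans (Subgroup.card_subgroup_dvd_card N))
    subst hj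
    have hfs : Function.Surjective (QuotientGroup.mk' N) := QuotientGroup.mk'_surjective N
    haveI : ∀ i, Fact (p i).Prime := fun i => ⟨hp i⟩
    obtain ⟨sb, hsb, hgb⟩ := ih _ (hn ▸ CfsgLib.Components.card_quotient_lt hN0) (G := G ⧸ N)
      (fun r hr hd => hall r hr (hd.trans (Subgroup.card_quotient_dvd_card N)))
      (fun i => (S i).mapSurjective hfs) rfl (QuotientGroup.mk' N g)
    choose s hs hse using fun i => (show ∃ x ∈ (S i : Subgroup G), QuotientGroup.mk' N x = sb i by
      simpa [Sylow.coe_mapSurjective, Subgroup.mem_map] using hsb i)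
    have hmem : g * (List.ofFn s).prod⁻¹ ∈ N := by
      rw [← QuotientGroup.ker_mk' N, MonoidHom.mem_ker, map_mul, map_inv, hgb, map_list_prod,
        List.map_ofFn, show (⇑(QuotientGroup.mk' N) ∘ s) = sb from funext hse, mul_inv_cancel]
    obtain ⟨s', hs', he⟩ := absorb t s (fun i => (S i : Subgroup G)) j _ hmem
      (hNq.le_sylow_of_normal (S j)) hs
    exact ⟨s', hs', by rw [← he, inv_mul_cancel_right]⟩

end Cfsg.Agent.S0554
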