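import Cfsg.Statements.S0555
import Cfsg.Agent.Lib.Components.Subnormal
import Mathlib.GroupTheory.SpecificGroups.Cyclic

set_option autoImplicit false
open Cfsg

namespace Cfsg.Agent.S0555

open scoped commutatorElement
theorem exists_gen_sup {X : Type*} [Group X] {K L : Subgroup X} [(L.subgroupOf K).Normal]
    (h : IsCyclic (↥K ⧸ L.subgroupOf K)) : ∃ g ∈ K, K ≤ Subgroup.zpowers g ⊔ L := by
  obtain ⟨q, hq⟩ := h
  induction q using QuotientGroup.induction_on with
  | _ g =>
    refine ⟨g, g.2, fun x hx => ?_⟩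
    obtain ⟨n, hn⟩ := Subgroup.mem_zpowers_iff.mp (hq (⟨x, hx⟩ : K))
    rw [← QuotientGroup.mk_zpow, QuotientGroup.eq, Subgroup.mem_subgroupOf] at hn
    have h2 := Subgroup.mul_mem_sup (Subgroup.zpow_mem_zpowers (g : X) n) hn
    simpa [← mul_assoc] using h2


/-- Let i ≥ 1. If in the derived series of a group the quotient of the i-th term by the (i+1)-st and the quotient of the (i+1)-st by the (i+2)-nd are both cyclic, then the (i+1)-st and (i+2)-nd terms coincide. -/
theorem result {G : Type*} [Group G] (i : ℕ) (hi : 1 ≤ i) (h₁ : IsCyclic (↥(derivedSeries G i) ⧸ (derivedSeries G (i + 1)).subgroupOf (derivedSeries G i))) (h₂ : IsCyclic (↥(derivedSeries G (i + 1)) ⧸ (derivedSeries G (i + 2)).subgroupOf (derivedSeries G (i + 1)))) : derivedSeries G (i + 1) = derivedSeries G (i + 2) := by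
  set N := derivedSeries G (i + 2) with hN
  haveI : N.Normal := derivedSeries_normal G (i + 2)
  haveI : (derivedSeries G (i+1)).Normal := derivedSeries_normal G (i + 1)
  obtain ⟨b, hb, hB⟩ := exists_gen_sup h₁
  obtain ⟨a, ha, hA⟩ := exists_gen_sup h₂
  refine le_antisymm ?_ (derivedSeries_antitone G (Nat.le_succ (i+1)))
  set f := QuotientGroup.mk' N with hf
  set A := (derivedSeries G (i + 1)).map f with hA'
  haveI : A.Normal := Subgroup.Normal.map inferInstance f (QuotientGroup.mk'_surjective N)
  have hAgen : A = Subgroup.zpowers (f a) := by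
    refine le_antisymm ((Subgroup.map_mono hA).trans ?_)
      (Subgroup.zpowers_le.mpr (Subgroup.mem_map_of_mem f ha))
    rw [Subgroup.map_sup, (Subgroup.map_eq_bot_iff N).mpr (QuotientGroup.ker_mk' N).ge, sup_bot_eq,
      MonoidHom.map_zpowers]
  haveI hAc : IsMulCommutative A := by rw [hAgen]; infer_instance
  -- the derived group centralizes the cyclic normal subgroup
  have hcent : ⁅(commutator G).map f, A⁆ = ⊥ := by
    rw [Subgroup.commutator_eq_bot_iff_le_centralizer, Subgroup.map_le_iff_le_comap, commutator_def,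
      Subgroup.commutator_le]
    intro x _ y _
    rw [Subgroup.mem_comap, map_commutatorElement, hAgen, Subgroup.zpowers_eq_closure,
      Subgroup.centralizer_closure, Subgroup.mem_centralizer_singleton_iff]
    obtain ⟨m, hm⟩ := Subgroup.mem_zpowers_iff.mp (hAgen ▸
      (inferInstance : A.Normal).conj_mem _ (hAgen ▸ Subgroup.mem_zpowers (f a) : f a ∈ A) (f x))
    obtain ⟨k, hk⟩ := Subgroup.mem_zpowers_iff.mp (hAgen ▸
      (inferInstance : A.Normal).conj_mem _ (hAgen ▸ Subgroup.mem_zpowers (f a) : f a ∈ A) (f y))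
    have hx : MulAut.conj (f x) (f a) = f a ^ m := hm.symm
    have hy : MulAut.conj (f y) (f a) = f a ^ k := hk.symm
    have hxy : MulAut.conj (f x * f y) (f a) = MulAut.conj (f y * f x) (f a) := by
      rw [map_mul, map_mul, MulAut.mul_apply, MulAut.mul_apply, hx, hy, map_zpow, map_zpow, hx, hy,
        ← zpow_mul, ← zpow_mul, mul_comm]
    rw [MulAut.conj_apply, MulAut.conj_apply] at hxy
    have e : ⁅f x, f y⁆ * f a * ⁅f x, f y⁆⁻¹ = f a := by
      have h3 : ⁅f x, f y⁆ = f x * f y * (f y * f x)⁻¹ := by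
        rw [commutatorElement_def]; group
      rw [h3]
      calc f x * f y * (f y * f x)⁻¹ * f a * (f x * f y * (f y * f x)⁻¹)⁻¹
          = f x * f y * ((f y * f x)⁻¹ * f a * (f y * f x)) * (f x * f y)⁻¹ := by group
        _ = f a := by
          have hxy' : ∀ z, f x * f y * z * (f x * f y)⁻¹ = f a →
              f x * f y * z * (f x * f y)⁻¹ = f a := fun _ hz => hz
          apply hxy'
          have hpre : ∀ z, f y * f x * z * (f y * f x)⁻¹ = f a → z = (f y * f x)⁻¹ * f a * (f y * f x) := by
            intro z hz; rw [← hz]; group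
          obtain ⟨z, hz⟩ : ∃ z, z ∈ A ∧ z = (f y * f x)⁻¹ * f a * (f y * f x) :=
            ⟨_, by
              simpa using (inferInstance : A.Normal).conj_mem _
                (hAgen ▸ Subgroup.mem_zpowers (f a) : f a ∈ A) (f y * f x)⁻¹, rfl⟩
          rw [← hz.2]
          obtain ⟨j, rfl⟩ := Subgroup.mem_zpowers_iff.mp (hAgen ▸ hz.1)
          rw [← MulAut.conj_apply, map_zpow, MulAut.conj_apply, hxy, ← MulAut.conj_apply,
            ← map_zpow, MulAut.conj_apply, hz.2]
          group
    exact mul_inv_eq_iff_eq_mul.mp e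
  have hle : derivedSeries G i ≤ commutator G := derivedSeries_one G ▸ derivedSeries_antitone G hi
  set B := (derivedSeries G i).map f with hB'
  have hBA : ⁅B, A⁆ = ⊥ :=
    le_bot_iff.mp ((Subgroup.commutator_mono (Subgroup.map_mono hle) le_rfl).trans hcent.le)
  have hBgen : B = A ⊔ Subgroup.zpowers (f b) := by
    refine le_antisymm ((Subgroup.map_mono hB).trans ?_) (sup_le
      (Subgroup.map_mono (derivedSeries_antitone G (Nat.le_succ i)))
      (Subgroup.zpowers_le.mpr (Subgroup.mem_map_of_mem f hb)))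
    rw [Subgroup.map_sup, MonoidHom.map_zpowers, sup_comm]
  have hBB : ⁅B, B⁆ = ⊥ := by
    nth_rewrite 1 [hBgen]
    rw [CfsgLib.Components.commutator_sup_left_eq_bot]
    refine ⟨by rw [Subgroup.commutator_comm]; exact hBA, ?_⟩
    rw [hBgen, CfsgLib.Components.commutator_sup_right_eq_bot]
    refine ⟨?_, Subgroup.commutator_self_eq_bot_iff.mpr inferInstance⟩
    exact le_bot_iff.mp ((Subgroup.commutator_mono (Subgroup.zpowers_le.mpr
      (Subgroup.mem_map_of_mem f hb)) le_rfl).trans hBA.le)
  rw [hB', ← Subgroup.map_commutator, ← derivedSeries_succ, Subgroup.map_eq_bot_iff, hf,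
    QuotientGroup.ker_mk'] at hBB
  exact hBB

end Cfsg.Agent.S0555
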