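import Cfsg.Statements.S0556
import Cfsg.Agent.Lib.SolvStruct.NilFactor
import Cfsg.Agent.Lib.Core.FPF
import Cfsg.Agent.Lib.Core.Coprime
import Cfsg.Agent.Lib.Char.Frobenius

set_option autoImplicit false
open Cfsg

namespace Cfsg.Agent.S0556

open CfsgLib.SolvStruct
open scoped Pointwise

/-- A quotient by a normal subgroup is commutative when an abelian subgroup supplements it. -/
theorem commutator_le_of_sup {G : Type*} [Group G] {N A : Subgroup G} [N.Normal]
    [IsMulCommutative A] (h : A ⊔ N = ⊤) : ⁅(⊤ : Subgroup G), (⊤ : Subgroup G)⁆ ≤ N := by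
  conv_rhs => rw [← QuotientGroup.ker_mk' N]
  rw [← Subgroup.map_eq_bot_iff, ← h, Subgroup.map_commutator, Subgroup.map_sup,
    QuotientGroup.map_mk'_self, sup_bot_eq, ← Subgroup.map_commutator,
    (CfsgLib.Core.isMulCommutative_iff_commutator_eq_bot (N := A)).mp inferInstance,
    Subgroup.map_bot]

/-- The Frobenius case. -/
theorem second_derived {G : Type*} [Group G] [Finite G] (A : Subgroup G) (hA : IsCoatom A)
    [IsMulCommutative A] (hfrob : Cfsg.IsFrobeniusComplement A) : derivedSeries G 2 = ⊥ := by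
  haveI := Fintype.ofFinite G
  obtain ⟨N, -, hN, hc⟩ := CfsgLib.Frobenius.exists_normal_complement hfrob
  haveI := hN
  have hinf : ∀ x ∈ N, x ∈ A → x = 1 := fun x h1 h2 => Subgroup.disjoint_def.mp hc.disjoint h1 h2
  have hfpf : ∀ a ∈ A, a ≠ 1 → N ⊓ Subgroup.centralizer {a} = ⊥ := by
    intro a ha ha1
    rw [eq_bot_iff]
    rintro n ⟨hnN, hnc⟩
    by_contra hn1
    have hnA : n ∉ A := fun h => hn1 (Subgroup.mem_bot.mpr (hinf n hnN h))
    refine ha1 (Subgroup.mem_bot.mp ?_)
    rw [← hfrob.2.2 n hnA]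
    refine Subgroup.mem_inf.mpr ⟨ha, ?_⟩
    have h1 : n * a = a * n := Subgroup.mem_centralizer_singleton_iff.mp hnc
    rw [mem_conj_smul, mul_assoc, ← h1, inv_mul_cancel_left]
    exact ha
  have hAN : A ≤ Subgroup.normalizer (N : Set G) := Subgroup.le_normalizer_of_normal
  have hcop := CfsgLib.Core.FPF.coprime_card hAN hfpf
  have hsup : A ⊔ N = ⊤ := by rw [sup_comm]; exact hc.sup_eq_top
  have hN0 : N ≠ ⊥ := fun h => hfrob.2.1 (by simpa [h] using hsup)
  obtain ⟨p, hp, hpN⟩ := Nat.exists_prime_and_dvd (mt Subgroup.card_eq_one.mp hN0)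
  haveI := Fact.mk hp
  obtain ⟨P, hP⟩ := CfsgLib.Core.exists_invariant_sylow hAN hcop
    (Or.inl (Group.isSolvable_of_comm fun a b : A => mul_comm' a b)) p
  have hgt : ∀ M : Subgroup G, M ≤ N → A ≤ Subgroup.normalizer (M : Set G) → M ≠ ⊥ → N ≤ M := by
    intro M hMN hAM hM0
    have htop : A ⊔ M = ⊤ := hA.2 _ (lt_of_le_of_ne le_sup_left fun e => hM0 (eq_bot_iff.mpr
      fun x hx => Subgroup.mem_bot.mpr (hinf x (hMN hx) (e ▸ Subgroup.mem_sup_right hx))))
    intro n hn
    have hn' : n ∈ ((A ⊔ M : Subgroup G) : Set G) := htop ▸ Subgroup.mem_top n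
    rw [Subgroup.coe_mul_of_left_le_normalizer_right A M hAM] at hn'
    obtain ⟨a, ha, m, hm, rfl⟩ := hn'
    have : a ∈ N := by simpa using mul_mem hn (inv_mem (hMN hm))
    simpa [hinf a this ha] using hm
  have hNP : N ≤ (P : Subgroup N).map N.subtype := hgt _ (Subgroup.map_subtype_le _) hP fun h => by
    rw [Subgroup.map_eq_bot_iff_of_injective _ N.subtype_injective] at h
    exact P.ne_bot_of_dvd_card hpN h
  have hNp : IsPGroup p N := (P.isPGroup'.map N.subtype).to_le hNP
  haveI := hNp.isNilpotent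
  have hcomm : ⁅N, N⁆ = ⊥ := by
    by_contra h0
    have hle := hgt _ (Subgroup.commutator_le_left N N)
      (Subgroup.le_normalizer_of_normal (K := A)) h0
    exact absurd (le_antisymm (Subgroup.commutator_le_left N N) hle)
      (CfsgLib.Core.commutator_self_lt inferInstance hN0).ne
  have h1 : derivedSeries G 1 ≤ N := by
    rw [derivedSeries_succ, derivedSeries_zero]
    exact commutator_le_of_sup hsup
  rw [derivedSeries_succ, eq_bot_iff, ← hcomm]
  exact Subgroup.commutator_mono h1 h1


/-- If a finite group has a maximal subgroup that is abelian, then the third term of its derived series is trivial (so the group is solvable of derived length at most three). -/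
theorem result {G : Type*} [Group G] [Finite G] (A : Subgroup G) (hA : IsCoatom A) [IsMulCommutative A] : derivedSeries G 3 = ⊥ := by
  by_cases hn : A.Normal
  · haveI := hn
    obtain ⟨g, hg⟩ : ∃ g : G, g ∉ A := by
      by_contra h
      push Not at h
      exact hA.1 (eq_top_iff.mpr fun x _ => h x)
    have hsup : Subgroup.zpowers g ⊔ A = ⊤ := hA.2 _ (lt_of_le_of_ne le_sup_right
      fun e => hg (e ▸ Subgroup.mem_sup_left (Subgroup.mem_zpowers g)))
    have h1 : derivedSeries G 1 ≤ A := by
      rw [derivedSeries_succ, derivedSeries_zero]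
      exact commutator_le_of_sup hsup
    have h2 : derivedSeries G 2 = ⊥ := by
      rw [derivedSeries_succ, eq_bot_iff,
        ← (CfsgLib.Core.isMulCommutative_iff_commutator_eq_bot (N := A)).mp inferInstance]
      exact Subgroup.commutator_mono h1 h1
    rw [derivedSeries_succ, h2, Subgroup.commutator_bot_left]
  set Z := Subgroup.center G with hZ
  have hNA : Subgroup.normalizer (A : Set G) = A := by
    refine le_antisymm ?_ Subgroup.le_normalizer
    by_contra h
    exact hn (Subgroup.normalizer_eq_top_iff.mp (hA.2 _ (lt_of_le_not_ge Subgroup.le_normalizer h)))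
  have hZA : Z ≤ A := fun z hz => hNA.le (Subgroup.center_le_normalizer _ hz)
  set f := QuotientGroup.mk' Z with hf
  have hker : ∀ x, f x ∈ A.map f → x ∈ A := fun x hx => by
    have := Subgroup.mem_comap.mpr hx
    rwa [Subgroup.comap_map_eq, hf, QuotientGroup.ker_mk', sup_eq_left.mpr hZA] at this
  haveI : IsMulCommutative (A.map f) := by
    rw [CfsgLib.Core.isMulCommutative_iff_commutator_eq_bot, ← Subgroup.map_commutator,
      (CfsgLib.Core.isMulCommutative_iff_commutator_eq_bot (N := A)).mp inferInstance,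
      Subgroup.map_bot]
  have hco : IsCoatom (A.map f) := by
    refine ⟨fun h => hA.1 (eq_top_iff.mpr fun x _ => hker x (h ▸ Subgroup.mem_top _)), fun K hK => ?_⟩
    have hlt : A < K.comap f := by
      refine lt_of_le_of_ne (Subgroup.map_le_iff_le_comap.mp hK.le) fun e => hK.ne ?_
      rw [e, Subgroup.map_comap_eq_self_of_surjective (QuotientGroup.mk'_surjective Z)]
    rw [← Subgroup.map_comap_eq_self_of_surjective (QuotientGroup.mk'_surjective Z) K, ← hf,
      hA.2 _ hlt, Subgroup.map_top_of_surjective f (QuotientGroup.mk'_surjective Z)]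
  have hfrob : Cfsg.IsFrobeniusComplement (A.map f) := by
    refine ⟨fun h => hn ?_, hco.1, fun y hy => ?_⟩
    · have : A ≤ Z := by
        rw [← QuotientGroup.ker_mk' Z]; exact (Subgroup.map_eq_bot_iff A).mp h
      rw [le_antisymm this hZA, hZ]; infer_instance
    obtain ⟨g, rfl⟩ := QuotientGroup.mk'_surjective Z y
    have hg : g ∉ A := fun h => hy (Subgroup.mem_map_of_mem f h)
    rw [eq_bot_iff]
    rintro y ⟨⟨x, hxA, rfl⟩, hyg⟩
    replace hyg : f x ∈ MulAut.conj (f g) • A.map f := hyg
    rw [mem_conj_smul, ← map_inv, ← map_mul, ← map_mul] at hyg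
    have hx : x ∈ MulAut.conj g • A := mem_conj_smul.mpr (hker _ hyg)
    refine Subgroup.mem_bot.mpr ((QuotientGroup.eq_one_iff _).mpr ?_)
    have hne : A < A ⊔ MulAut.conj g • A := lt_of_le_of_ne le_sup_left fun e => hg <| hNA.le <|
      mem_normalizer_of_conj_le (le_sup_right.trans e.ge)
    have hle : A ⊔ MulAut.conj g • A ≤ Subgroup.centralizer ({x} : Set G) := by
      refine sup_le (fun a ha => ?_) (fun a ha => ?_) <;> rw [Subgroup.mem_centralizer_singleton_iff]
      · exact congrArg Subtype.val (mul_comm' (⟨a, ha⟩ : A) ⟨x, hxA⟩)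
      · rw [mem_conj_smul] at ha
        have := congrArg Subtype.val (mul_comm' (⟨_, ha⟩ : A) ⟨_, hker _ hyg⟩)
        have h' : g⁻¹ * a * g * (g⁻¹ * x * g) = g⁻¹ * x * g * (g⁻¹ * a * g) := this
        calc a * x = g * (g⁻¹ * a * g * (g⁻¹ * x * g)) * g⁻¹ := by group
          _ = x * a := by rw [h']; group
    exact Subgroup.mem_center_iff.mpr fun a =>
      Subgroup.mem_centralizer_singleton_iff.mp (hle ((hA.2 _ hne).ge (Subgroup.mem_top a)))
  have h2 : derivedSeries G 2 ≤ Z := by
    rw [← QuotientGroup.ker_mk' Z, ← Subgroup.map_eq_bot_iff,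
      map_derivedSeries_eq (QuotientGroup.mk'_surjective Z)]
    exact second_derived _ hco hfrob
  rw [derivedSeries_succ, Subgroup.commutator_eq_bot_iff_le_centralizer]
  exact h2.trans (Subgroup.center_le_centralizer _)

end Cfsg.Agent.S0556
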