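import Cfsg.Statements.S0557
import Cfsg.Agent.Lib.Components.Subnormal
import Mathlib.GroupTheory.Focal

set_option autoImplicit false
open Cfsg

namespace Cfsg.Agent.S0557

open scoped commutatorElement IsMulCommutative

theorem focal_mono {X : Type*} [Group X] {A B : Subgroup X} (h : A ≤ B) :
    A.focalSubgroup ≤ B.focalSubgroup := by
  refine Subgroup.closure_mono ?_
  rintro z ⟨hz, x, hx, u, rfl⟩
  exact ⟨h hz, x, h hx, u, rfl⟩

theorem map_focal_le {X : Type*} [Group X] (K : Subgroup X) (A : Subgroup K) :
    A.focalSubgroup.map K.subtype ≤ (A.map K.subtype).focalSubgroup := by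
  rw [Subgroup.map_le_iff_le_comap, Subgroup.focalSubgroup_def, Subgroup.closure_le]
  rintro z ⟨hz, x, hx, u, rfl⟩
  refine Subgroup.mem_comap.mpr (Subgroup.subset_closure
    ⟨Subgroup.mem_map_of_mem K.subtype hz, K.subtype x, Subgroup.mem_map_of_mem K.subtype hx,
      K.subtype u, ?_⟩)
  exact map_commutatorElement K.subtype x u

theorem map_iterate_le {X : Type*} [Group X] (K : Subgroup X) (m : ℕ) :
    ∀ A : Subgroup K, ((fun L : Subgroup K => L.focalSubgroup)^[m] A).map K.subtype ≤
      (fun L : Subgroup X => L.focalSubgroup)^[m] (A.map K.subtype) := by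
  induction m with
  | zero => exact fun A => le_rfl
  | succ m ih =>
    intro A
    rw [Function.iterate_succ_apply', Function.iterate_succ_apply']
    exact (map_focal_le K _).trans (focal_mono (ih A))


/-- Let H be a subgroup of a finite group G with order coprime to its index. If iterating the focal-subgroup construction starting from H reaches the trivial subgroup after finitely many steps, then H has a normal complement in G. -/
theorem result {G : Type*} [Group G] [Finite G] (H : Subgroup G) (hHall : (Nat.card H).Coprime H.index) (n : ℕ) (hfoc : (fun K : Subgroup G => Subgroup.focalSubgroup K)^[n] H = ⊥) : ∃ N : Subgroup G, N.Normal ∧ Subgroup.IsComplement' N H := by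
  induction n generalizing G with
  | zero =>
    refine ⟨⊤, inferInstance, ?_⟩
    rw [show H = ⊥ from hfoc]
    exact Subgroup.isComplement'_top_bot
  | succ n ih =>
    set F := H.focalSubgroup with hF
    set V := Subgroup.transferFocal H with hV
    set q := QuotientGroup.mk' H.focalSubgroupOf with hq
    have hFH : F ≤ H := H.focalSubgroup_le
    have hcopQ : (Nat.card (↥H ⧸ H.focalSubgroupOf)).Coprime H.index :=
      hHall.coprime_dvd_left (Subgroup.card_quotient_dvd_card _)
    have hpow : ∀ x : H, V x = q x ^ H.index := fun x => Subgroup.transferFocal_eq_pow H x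
    have hVs : Function.Surjective V := fun y => by
      obtain ⟨x, hx⟩ := QuotientGroup.mk'_surjective _ ((powCoprime hcopQ).symm y)
      exact ⟨x, by rw [hpow, hx]; exact (powCoprime hcopQ).apply_symm_apply y⟩
    set K := V.ker with hK
    have hFK : F ≤ K := H.focalSubgroup_le_commutator.trans (Abelianization.commutator_subset_ker V)
    have hKH : K ⊓ H ≤ F := by
      rintro x hx
      have h1 : q ⟨x, hx.2⟩ ^ H.index = 1 := (hpow ⟨x, hx.2⟩).symm.trans hx.1
      have h2 : q ⟨x, hx.2⟩ = 1 := (powCoprime hcopQ).injective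
        (show powCoprime hcopQ (q ⟨x, hx.2⟩) = powCoprime hcopQ 1 by simpa using h1)
      exact Subgroup.mem_subgroupOf.mp ((QuotientGroup.eq_one_iff (N := H.focalSubgroupOf) _).mp h2)
    have hKi : K.index = H.focalSubgroupOf.index := by
      rw [hK, Subgroup.index_ker, MonoidHom.range_eq_top.mpr hVs, Subgroup.card_top,
        Subgroup.index_eq_card]
    have hFc : Nat.card F * H.focalSubgroupOf.index = Nat.card H := by
      rw [← Subgroup.relIndex_bot_left F]
      show (⊥ : Subgroup G).relIndex F * F.relIndex H = _
      rw [Subgroup.relIndex_mul_relIndex _ _ _ bot_le hFH, Subgroup.relIndex_bot_left]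
    have hKc : Nat.card K = Nat.card F * H.index := by
      have h1 := K.card_mul_index
      rw [← H.card_mul_index, ← hFc, hKi, mul_right_comm] at h1
      exact Nat.eq_of_mul_eq_mul_right (Nat.pos_of_ne_zero Subgroup.index_ne_zero_of_finite) h1
    have hFKc : Nat.card (F.subgroupOf K) = Nat.card F :=
      Nat.card_congr (Subgroup.subgroupOfEquivOfLe hFK).toEquiv
    have hFKi : (F.subgroupOf K).index = H.index := by
      have h1 := (F.subgroupOf K).card_mul_index
      rw [hFKc, hKc] at h1
      exact Nat.eq_of_mul_eq_mul_left Nat.card_pos h1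
    obtain ⟨N, hNn, hN⟩ := ih (F.subgroupOf K)
      (by rw [hFKc, hFKi]; exact hHall.coprime_dvd_left (Subgroup.card_dvd_of_le hFH))
      (by
        refine Subgroup.map_injective K.subtype_injective (le_bot_iff.mp ?_ |>.trans (Subgroup.map_bot _).symm)
        refine (map_iterate_le K n _).trans ?_
        rw [Subgroup.map_subgroupOf_eq_of_le hFK]
        rw [Function.iterate_succ_apply] at hfoc
        exact hfoc.le)
    have hNc : Nat.card N = H.index := by rw [← hFKi, hN.index_eq_card]
    have hNi : N.index = Nat.card F := by rw [hN.symm.index_eq_card, hFKc]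
    refine ⟨N.map K.subtype, ⟨?_⟩, ?_⟩
    · rintro _ ⟨x, hx, rfl⟩ g
      have hKn : K.Normal := inferInstance
      refine ⟨⟨g * (x : G) * g⁻¹, hKn.conj_mem _ x.2 g⟩, ?_, rfl⟩
      set y : K := ⟨g * (x : G) * g⁻¹, hKn.conj_mem _ x.2 g⟩ with hy
      have ho : orderOf y ∣ Nat.card N := by
        rw [← Subgroup.orderOf_coe, hy]
        have : orderOf (g * (x : G) * g⁻¹) = orderOf x := by
          rw [← MulAut.conj_apply, MulEquiv.orderOf_eq, Subgroup.orderOf_coe]
        rw [this]
        exact Subgroup.orderOf_dvd_natCard N hx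
      show y ∈ N
      rw [← QuotientGroup.ker_mk' N, MonoidHom.mem_ker, ← orderOf_eq_one_iff]
      refine Nat.dvd_one.mp ((hHall.coprime_dvd_left (Subgroup.card_dvd_of_le hFH)).gcd_eq_one ▸
        Nat.dvd_gcd ?_ ?_)
      · rw [← hNi, Subgroup.index_eq_card]; exact orderOf_dvd_natCard _
      · rw [← hNc]; exact (orderOf_map_dvd _ y).trans ho
    · refine Subgroup.isComplement'_of_card_mul_and_disjoint ?_ (disjoint_iff.mpr (le_bot_iff.mp ?_))
      · rw [Subgroup.card_map_of_injective K.subtype_injective, hNc, mul_comm, H.card_mul_index]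
      · rintro x hx
        obtain ⟨⟨y, hy, rfl⟩, hxH⟩ := Subgroup.mem_inf.mp hx
        have : y ∈ N ⊓ F.subgroupOf K := Subgroup.mem_inf.mpr ⟨hy, hKH ⟨y.2, hxH⟩⟩
        rw [hN.disjoint.eq_bot, Subgroup.mem_bot] at this
        rw [this]; exact map_one _

end Cfsg.Agent.S0557
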