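import Cfsg.Statements.S0558
import Cfsg.Agent.Lib.SolvStruct.NilFactor
import Cfsg.Agent.Lib.Core.Carter
import Cfsg.Agent.Lib.Core.Coprime
import Cfsg.Agent.S0079

set_option autoImplicit false
open Cfsg

namespace Cfsg.Agent.S0558

open CfsgLib.SolvStruct
open scoped Pointwise

/-- In a nilpotent subgroup control of fusion for prime power elements gives it for all. -/
theorem fusion_all {G : Type*} [Group G] [Finite G] {H : Subgroup G} [Group.IsNilpotent H]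
    (hp : ∀ p : ℕ, p.Prime → ∀ x ∈ H, ∀ g : G, (∃ k : ℕ, orderOf x = p ^ k) →
      g * x * g⁻¹ ∈ H → ∃ h ∈ H, h * x * h⁻¹ = g * x * g⁻¹) :
    ∀ x ∈ H, ∀ g : G, g * x * g⁻¹ ∈ H → ∃ h ∈ H, h * x * h⁻¹ = g * x * g⁻¹ := by
  intro x
  induction hn : orderOf x using Nat.strong_induction_on generalizing x with
  | _ n ih =>
  subst hn
  intro hx g hy
  by_cases h1 : orderOf x = 1
  · exact ⟨1, one_mem _, by rw [orderOf_eq_one_iff.mp h1]; simp⟩
  obtain ⟨p, hpp, hpd⟩ := Nat.exists_prime_and_dvd h1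
  haveI := Fact.mk hpp
  obtain ⟨k, m, hm, hkm⟩ := Nat.exists_eq_pow_mul_and_not_dvd (orderOf_pos x).ne' p hpp.ne_one
  by_cases hm1 : m = 1
  · exact hp p hpp x hx g ⟨k, by rw [hkm, hm1, mul_one]⟩ hy
  have hk0 : k ≠ 0 := by
    rintro rfl
    exact hm (by rwa [hkm, pow_zero, one_mul] at hpd)
  have hcop : (p ^ k).Coprime m := (hpp.coprime_iff_not_dvd.mpr hm).pow_left k
  obtain ⟨u, v, huv⟩ : ∃ u v : ℤ, (p ^ k : ℕ) * u + (m : ℕ) * v = 1 :=
    ⟨_, _, (Nat.gcd_eq_gcd_ab (p ^ k) m).symm.trans (by rw [hcop.gcd_eq_one]; simp)⟩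
  set x₁ := x ^ ((m : ℤ) * v) with hx₁
  set x₂ := x ^ (((p ^ k : ℕ) : ℤ) * u) with hx₂
  have ho : (x : G) ^ ((orderOf x : ℕ) : ℤ) = 1 := by rw [zpow_natCast, pow_orderOf_eq_one]
  have ho1 : orderOf x₁ ∣ p ^ k := by
    refine orderOf_dvd_of_pow_eq_one ?_
    rw [hx₁, ← zpow_natCast, ← zpow_mul,
      show (m : ℤ) * v * ((p ^ k : ℕ) : ℤ) = ((orderOf x : ℕ) : ℤ) * v by rw [hkm]; push_cast; ring,
      zpow_mul, ho, one_zpow]
  have ho2 : orderOf x₂ ∣ m := by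
    refine orderOf_dvd_of_pow_eq_one ?_
    rw [hx₂, ← zpow_natCast, ← zpow_mul,
      show ((p ^ k : ℕ) : ℤ) * u * (m : ℤ) = ((orderOf x : ℕ) : ℤ) * u by rw [hkm]; push_cast; ring,
      zpow_mul, ho, one_zpow]
  have hx12 : x₁ * x₂ = x := by
    rw [hx₁, hx₂, ← zpow_add, show (m : ℤ) * v + ((p ^ k : ℕ) : ℤ) * u = 1 by
      rw [add_comm]; exact huv, zpow_one]
  have hm0 : m ≠ 0 := fun h => hm (h ▸ dvd_zero p)
  have hlt1 : orderOf x₁ < orderOf x := by
    refine lt_of_le_of_lt (Nat.le_of_dvd (pow_pos hpp.pos k) ho1) ?_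
    rw [hkm]
    exact lt_mul_of_one_lt_right (pow_pos hpp.pos k) (by omega)
  have hlt2 : orderOf x₂ < orderOf x := by
    refine lt_of_le_of_lt (Nat.le_of_dvd (Nat.pos_of_ne_zero hm0) ho2) ?_
    rw [hkm]
    exact lt_mul_of_one_lt_left (Nat.pos_of_ne_zero hm0) (Nat.one_lt_pow hk0 hpp.one_lt)
  have hpow : ∀ z : ℤ, g * x ^ z * g⁻¹ ∈ H := fun z => by
    rw [← conj_zpow]; exact zpow_mem hy z
  obtain ⟨h₁, hh₁, e₁⟩ := ih _ hlt1 x₁ rfl (zpow_mem hx _) g (hpow _)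
  obtain ⟨h₂, hh₂, e₂⟩ := ih _ hlt2 x₂ rfl (zpow_mem hx _) g (hpow _)
  obtain ⟨S, P, hSH, hPH, hScop, hPp, hSP, -, hsplit, -⟩ :=
    CfsgLib.Core.Carter.nilpotent_split (C := H) p
  obtain ⟨s₁, hs₁, a₁, ha₁, rfl⟩ := hsplit h₁ hh₁
  obtain ⟨s₂, hs₂, a₂, ha₂, rfl⟩ := hsplit h₂ hh₂
  have hnil : Group.IsNilpotent H := inferInstance
  have cS : ∀ s ∈ S, ∀ z ∈ H, orderOf z ∣ p ^ k → s * z = z * s := fun s hs z hz hd =>
    (commute_of_mem_nilpotent hnil (hSH hs) hz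
      (((hScop.coprime_dvd_left (S.orderOf_dvd_natCard hs)).pow_right k).coprime_dvd_right hd)).eq
  have cP : ∀ a ∈ P, ∀ z ∈ H, orderOf z ∣ m → a * z = z * a := by
    intro a ha z hz hd
    obtain ⟨j, hj⟩ := IsPGroup.iff_orderOf.mp hPp ⟨a, ha⟩
    rw [Subgroup.orderOf_mk] at hj
    refine (commute_of_mem_nilpotent hnil (hPH ha) hz ?_).eq
    rw [hj]
    exact ((hpp.coprime_iff_not_dvd.mpr hm).pow_left j).coprime_dvd_right hd
  have hz1 : orderOf (a₁ * x₁ * a₁⁻¹) ∣ p ^ k := by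
    rw [← MulAut.conj_apply, MulEquiv.orderOf_eq]
    exact ho1
  have m1 : a₁ * x₁ * a₁⁻¹ ∈ H :=
    mul_mem (mul_mem (hPH ha₁) (zpow_mem hx _)) (inv_mem (hPH ha₁))
  refine ⟨s₂ * a₁, mul_mem (hSH hs₂) (hPH ha₁), ?_⟩
  have f1 : s₂ * a₁ * x₁ * (s₂ * a₁)⁻¹ = g * x₁ * g⁻¹ := by
    rw [← e₁]
    calc s₂ * a₁ * x₁ * (s₂ * a₁)⁻¹ = (s₂ * (a₁ * x₁ * a₁⁻¹)) * s₂⁻¹ := by group
      _ = (s₁ * (a₁ * x₁ * a₁⁻¹)) * s₁⁻¹ := by
        rw [cS s₂ hs₂ _ m1 hz1, cS s₁ hs₁ _ m1 hz1]; group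
      _ = s₁ * a₁ * x₁ * (s₁ * a₁)⁻¹ := by group
  have f2 : s₂ * a₁ * x₂ * (s₂ * a₁)⁻¹ = g * x₂ * g⁻¹ := by
    rw [← e₂]
    calc s₂ * a₁ * x₂ * (s₂ * a₁)⁻¹ = s₂ * (a₁ * x₂) * a₁⁻¹ * s₂⁻¹ := by group
      _ = s₂ * (a₂ * x₂) * a₂⁻¹ * s₂⁻¹ := by
        rw [cP a₁ ha₁ x₂ (zpow_mem hx _) ho2, cP a₂ ha₂ x₂ (zpow_mem hx _) ho2]; group
      _ = s₂ * a₂ * x₂ * (s₂ * a₂)⁻¹ := by group
  rw [← hx12]
  calc _ = (s₂ * a₁ * x₁ * (s₂ * a₁)⁻¹) * (s₂ * a₁ * x₂ * (s₂ * a₁)⁻¹) := by group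
    _ = _ := by rw [f1, f2]; group


/-- Let H be a subgroup of a finite group G that is not a Sylow subgroup of G for any prime, and suppose that for every prime p dividing the order of H and every Sylow p-subgroup P of H the normalizer of P in G is exactly H. Then some normal subgroup of G is a complement to H. -/
theorem result {G : Type*} [Group G] [Finite G] (H : Subgroup G) (hnot : ∀ p : ℕ, p.Prime → ∀ P : Sylow p G, (P : Subgroup G) ≠ H) (hnorm : ∀ p : ℕ, p.Prime → p ∣ Nat.card H → ∀ P : Sylow p H, Subgroup.normalizer (((P : Subgroup H).map H.subtype : Subgroup G) : Set G) = H) : ∃ N : Subgroup G, N.Normal ∧ Subgroup.IsComplement' N H := by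
  classical
  have hsyl : ∀ p : ℕ, ∀ [Fact p.Prime], p ∣ Nat.card H → ∀ P : Sylow p H,
      (P : Subgroup H).Normal ∧ ∃ S : Sylow p G, (S : Subgroup G) = (P : Subgroup H).map H.subtype := by
    intro p hp hd P
    set P' := (P : Subgroup H).map H.subtype with hP'
    have hN : Subgroup.normalizer (P' : Set G) = H := hnorm p hp.out hd P
    have hn : (P : Subgroup H).Normal := by
      have := (Subgroup.normal_subgroupOf_iff_le_normalizer (Subgroup.map_subtype_le (P : Subgroup H))).mpr hN.ge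
      rwa [Subgroup.subgroupOf, Subgroup.comap_map_eq_self_of_injective H.subtype_injective] at this
    refine ⟨hn, ?_⟩
    obtain ⟨S, hS⟩ := (P.isPGroup'.map H.subtype).exists_le_sylow
    refine ⟨S, le_antisymm ?_ hS⟩
    by_contra hne
    haveI := S.isPGroup'.isNilpotent
    have hlt := Group.normalizerCondition_of_isNilpotent (G := (S : Subgroup G))
      (P'.subgroupOf (S : Subgroup G))
      (lt_top_iff_ne_top.mpr fun e => hne (Subgroup.subgroupOf_eq_top.mp e))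
    obtain ⟨x, hx, hxP⟩ := SetLike.exists_of_lt hlt
    rw [← Subgroup.subgroupOf_normalizer_eq hS, Subgroup.mem_subgroupOf] at hx
    have hxH : (x : G) ∈ H := hN.le hx
    refine hxP ?_
    have hle : (P : Subgroup H) ≤ (S : Subgroup G).subgroupOf H := Subgroup.map_le_iff_le_comap.mp hS
    have := P.is_maximal' (S.isPGroup'.comap_of_injective H.subtype H.subtype_injective) hle
    rw [Subgroup.mem_subgroupOf]
    exact ⟨⟨x, hxH⟩, (this ▸ x.2 : (⟨x, hxH⟩ : H) ∈ (P : Subgroup H)), rfl⟩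
  haveI hnilH : Group.IsNilpotent H := by
    refine ((Group.isNilpotent_of_finite_tfae (G := H)).out 0 3).mpr fun p hp P => ?_
    haveI := hp
    by_cases hd : p ∣ Nat.card H
    · exact (hsyl p hd P).1
    · have hbot : (P : Subgroup H) = ⊥ := by
        rw [← Subgroup.card_eq_one, P.card_eq_multiplicity,
          Nat.factorization_eq_zero_of_not_dvd hd, pow_zero]
      rw [hbot]; infer_instance
  have hHall : (Nat.card H).Coprime H.index := Nat.coprime_of_dvd fun p hp hd hdi => by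
    haveI := Fact.mk hp
    obtain ⟨P⟩ : Nonempty (Sylow p H) := inferInstance
    obtain ⟨-, S, hS⟩ := hsyl p hd P
    exact S.not_dvd_index (hdi.trans (Subgroup.index_dvd_of_le (hS.le.trans (Subgroup.map_subtype_le _))))
  refine (Cfsg.Agent.S0079.result H hnilH hHall).mpr ?_
  rintro x hx y hy ⟨g, rfl⟩
  refine fusion_all (fun p hp x hx g ⟨k, hk⟩ hy => ?_) x hx g hy
  by_cases hk0 : k = 0
  · exact ⟨1, one_mem _, by rw [hk0, pow_zero, orderOf_eq_one_iff] at hk; rw [hk]; simp⟩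
  haveI := Fact.mk hp
  have hpH : p ∣ Nat.card H :=
    (dvd_pow_self p hk0).trans (hk ▸ H.orderOf_dvd_natCard hx)
  obtain ⟨q, hq, hqp, hqH⟩ : ∃ q : ℕ, q.Prime ∧ q ≠ p ∧ q ∣ Nat.card H := by
    by_contra hno
    push Not at hno
    obtain ⟨P⟩ : Nonempty (Sylow p H) := inferInstance
    obtain ⟨-, S, hS⟩ := hsyl p hpH P
    refine hnot p hp S (le_antisymm (hS.le.trans (Subgroup.map_subtype_le _)) ?_)
    have hcard : Nat.card H = p ^ (Nat.card H).factorization p := by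
      exact Nat.eq_prime_pow_of_unique_prime_dvd Nat.card_pos.ne'
        (fun {d} hd hdd => by by_contra hne; exact hno d hd hne hdd) |>.trans (by
          congr 1
          conv_rhs => rw [Nat.eq_prime_pow_of_unique_prime_dvd Nat.card_pos.ne'
            (fun {d} hd hdd => by by_contra hne; exact hno d hd hne hdd : ∀ {d : ℕ}, d.Prime → d ∣ Nat.card H → d = p),
            hp.factorization_pow, Finsupp.single_eq_same])
    refine (Subgroup.eq_of_le_of_card_ge (hS.le.trans (Subgroup.map_subtype_le _)) (le_of_eq ?_)).ge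
    rw [hS, Subgroup.card_map_of_injective H.subtype_injective, P.card_eq_multiplicity]
    exact hcard
  haveI := Fact.mk hq
  obtain ⟨Q⟩ : Nonempty (Sylow q H) := inferInstance
  obtain ⟨-, T, hT⟩ := hsyl q hqH Q
  have hTH : (T : Subgroup G) ≤ H := hT.le.trans (Subgroup.map_subtype_le _)
  set C := Subgroup.centralizer ({g * x * g⁻¹} : Set G) with hC
  have hcomm : ∀ z ∈ H, (∃ i : ℕ, orderOf z = p ^ i) → ∀ t ∈ (T : Subgroup G), t * z = z * t := by
    rintro z hz ⟨i, hi⟩ t ht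
    obtain ⟨j, hj⟩ := IsPGroup.iff_orderOf.mp T.isPGroup' ⟨t, ht⟩
    rw [Subgroup.orderOf_mk] at hj
    refine (commute_of_mem_nilpotent hnilH (hTH ht) hz ?_).eq
    rw [hi, hj]
    exact Nat.Coprime.pow _ _ ((Nat.coprime_primes hq hp).mpr hqp)
  have hyo : orderOf (g * x * g⁻¹) = p ^ k := by
    rw [← MulAut.conj_apply, MulEquiv.orderOf_eq]; exact hk
  have hTC : (T : Subgroup G) ≤ C := fun t ht =>
    Subgroup.mem_centralizer_singleton_iff.mpr (hcomm _ hy ⟨k, hyo⟩ t ht)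
  have hgTC : ((g • T : Sylow q G) : Subgroup G) ≤ C := by
    intro t ht
    replace ht : t ∈ MulAut.conj g • (T : Subgroup G) := ht
    rw [mem_conj_smul] at ht
    refine Subgroup.mem_centralizer_singleton_iff.mpr ?_
    have := hcomm x hx ⟨k, hk⟩ _ ht
    calc t * (g * x * g⁻¹) = g * (g⁻¹ * t * g * x) * g⁻¹ := by group
      _ = g * x * g⁻¹ * t := by rw [this]; group
  obtain ⟨c, hc⟩ := MulAction.exists_smul_eq C ((g • T).subtype hgTC) (T.subtype hTC)
  have h2 : MulAut.conj ((c : G) * g) • (T : Subgroup G) = (T : Subgroup G) := by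
    have h3 := CfsgLib.Core.sylow_map_conj_smul ((g • T).subtype hgTC) c
    rw [hc, Sylow.coe_subtype, Sylow.coe_subtype, Subgroup.map_subgroupOf_eq_of_le hTC,
      Subgroup.map_subgroupOf_eq_of_le hgTC] at h3
    rw [map_mul, mul_smul]
    exact h3
  have hcgH : (c : G) * g ∈ H := by
    rw [← hnorm q hq hqH Q, ← hT]
    exact Subgroup.mem_normalizer_iff_map_conj_eq.mpr h2
  refine ⟨_, hcgH, ?_⟩
  have hcc := Subgroup.mem_centralizer_singleton_iff.mp c.2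
  calc (c : G) * g * x * ((c : G) * g)⁻¹ = ((c : G) * (g * x * g⁻¹)) * (c : G)⁻¹ := by group
    _ = g * x * g⁻¹ := by rw [hcc]; group

end Cfsg.Agent.S0558
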