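import Cfsg.Statements.S0560
import Mathlib.GroupTheory.Sylow

set_option autoImplicit false
open Pointwise
open Cfsg

namespace Cfsg.Agent.S0560

open scoped Pointwise


/-- Let the finite group G be the product HK of two subgroups and p a prime. Then there are Sylow p-subgroups P of H and Q of K and a Sylow p-subgroup R of G whose underlying set is the product set of P and Q. -/
theorem result {G : Type*} [Group G] [Finite G] (H K : Subgroup G) (hHK : ∀ g : G, ∃ h ∈ H, ∃ k ∈ K, g = h * k) (p : ℕ) [Fact p.Prime] : ∃ (P : Sylow p H) (Q : Sylow p K) (R : Sylow p G), ((R : Subgroup G) : Set G) = (((P : Subgroup H).map H.subtype : Subgroup G) : Set G) * (((Q : Subgroup K).map K.subtype : Subgroup G) : Set G) := by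
  obtain ⟨P₀⟩ : Nonempty (Sylow p H) := inferInstance
  obtain ⟨Q₀⟩ : Nonempty (Sylow p K) := inferInstance
  obtain ⟨R₁, hR₁⟩ := (P₀.isPGroup'.map H.subtype).exists_le_sylow
  obtain ⟨R₂, hR₂⟩ := (Q₀.isPGroup'.map K.subtype).exists_le_sylow
  obtain ⟨x, hx⟩ := MulAction.exists_smul_eq G R₁ R₂
  obtain ⟨h, hh, k, hk, e⟩ := hHK x⁻¹
  -- `x = k⁻¹ * h⁻¹`
  set R := h⁻¹ • R₁ with hR
  set P := (⟨h⁻¹, inv_mem hh⟩ : H) • P₀ with hP
  set Q := (⟨k, hk⟩ : K) • Q₀ with hQ
  refine ⟨P, Q, R, ?_⟩
  set P' := (P : Subgroup H).map H.subtype with hP'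
  set Q' := (Q : Subgroup K).map K.subtype with hQ'
  have hmap : ∀ (L : Subgroup G) (S : Sylow p L) (y : L) (T : Sylow p G),
      (S : Subgroup L).map L.subtype ≤ T →
      ((y • S : Sylow p L) : Subgroup L).map L.subtype ≤ ((y : G) • T : Sylow p G) := by
    intro L S y T hST
    rw [Sylow.coe_subgroup_smul, Sylow.coe_subgroup_smul]
    rintro _ ⟨_, ⟨a, ha, rfl⟩, rfl⟩
    exact ⟨(a : G), hST ⟨a, ha, rfl⟩, rfl⟩
  have hPR : P' ≤ R := hmap H P₀ ⟨h⁻¹, inv_mem hh⟩ R₁ hR₁
  have hQR : Q' ≤ R := by
    have h1 := hmap K Q₀ ⟨k, hk⟩ R₂ hR₂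
    have e2 : ((⟨k, hk⟩ : K) : G) • R₂ = R := by
      rw [hR, ← hx, ← mul_smul]
      congr 1
      calc k * x = h⁻¹ * (h * k) * x := by group
        _ = h⁻¹ * x⁻¹ * x := by rw [← e]
        _ = h⁻¹ := by group
    rwa [e2] at h1
  have hPH : P' ≤ H := Subgroup.map_subtype_le _
  have hQK : Q' ≤ K := Subgroup.map_subtype_le _
  -- the index comparison
  have hK : K.relIndex H = K.index := by
    refine Nat.card_congr (Equiv.ofBijective
      (fun q => Quotient.liftOn' q (fun a => ((a : G) : G ⧸ K)) ?_) ⟨?_, ?_⟩)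
    · intro a b hab
      rw [QuotientGroup.leftRel_apply] at hab
      exact QuotientGroup.eq.mpr hab
    · intro q₁ q₂
      induction q₁ using QuotientGroup.induction_on with
      | _ a =>
        induction q₂ using QuotientGroup.induction_on with
        | _ b =>
          intro hab
          exact QuotientGroup.eq.mpr (QuotientGroup.eq (s := K).mp hab :)
    · intro q
      induction q using QuotientGroup.induction_on with
      | _ g =>
        obtain ⟨a, ha, b, hb, rfl⟩ := hHK g
        exact ⟨((⟨a, ha⟩ : H) : H ⧸ K.subgroupOf H), QuotientGroup.eq.mpr (by simpa using hb)⟩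
  set f := fun m : ℕ => p ^ m.factorization p
  have hf : ∀ a b : ℕ, a ≠ 0 → b ≠ 0 → f (a * b) = f a * f b := fun a b ha hb =>
    Nat.ordProj_mul p ha hb
  have cP : Nat.card P' = f (Nat.card H) := by
    rw [hP', Subgroup.card_map_of_injective H.subtype_injective]; exact P.card_eq_multiplicity
  have cQ : Nat.card Q' = f (Nat.card K) := by
    rw [hQ', Subgroup.card_map_of_injective K.subtype_injective]; exact Q.card_eq_multiplicity
  have cR : Nat.card (R : Subgroup G) = f (Nat.card G) := R.card_eq_multiplicity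
  have hineq : Q'.relIndex (R : Subgroup G) ≤ Q'.relIndex P' := by
    have h1 : Nat.card Q' * Q'.relIndex (R : Subgroup G) = Nat.card (R : Subgroup G) := by
      rw [← Subgroup.relIndex_bot_left Q', Subgroup.relIndex_mul_relIndex _ _ _ bot_le hQR,
        Subgroup.relIndex_bot_left]
    have h2 : Nat.card ↥(Q' ⊓ P') * Q'.relIndex P' = Nat.card P' := by
      rw [← Subgroup.inf_relIndex_right Q' P', ← Subgroup.relIndex_bot_left (Q' ⊓ P'),
        Subgroup.relIndex_mul_relIndex _ _ _ bot_le inf_le_right, Subgroup.relIndex_bot_left]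
    have h3 : Nat.card G = Nat.card K * K.relIndex H := by rw [hK, Subgroup.card_mul_index]
    have h4 : Nat.card H = Nat.card ↥(K ⊓ H) * K.relIndex H := by
      rw [← Subgroup.inf_relIndex_right K H, ← Subgroup.relIndex_bot_left (K ⊓ H),
        Subgroup.relIndex_mul_relIndex _ _ _ bot_le inf_le_right, Subgroup.relIndex_bot_left]
    have hn : K.relIndex H ≠ 0 := hK ▸ Subgroup.index_ne_zero_of_finite
    have h5 : Q'.relIndex (R : Subgroup G) = f (K.relIndex H) := by
      rw [cR, cQ, h3, hf _ _ Nat.card_pos.ne' hn] at h1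
      exact Nat.eq_of_mul_eq_mul_left (Nat.ordProj_pos _ _) h1
    rw [cP, h4, hf _ _ Nat.card_pos.ne' hn] at h2
    have h6 : Nat.card ↥(Q' ⊓ P') ≤ f (Nat.card ↥(K ⊓ H)) := by
      obtain ⟨j, hj⟩ := (((Q.isPGroup'.map K.subtype)).to_le
        (inf_le_left : Q' ⊓ P' ≤ Q')).exists_card_eq
      rw [hj]
      refine Nat.pow_le_pow_right (Fact.out : p.Prime).pos ?_
      rw [← (Fact.out : p.Prime).pow_dvd_iff_le_factorization Nat.card_pos.ne', ← hj]
      exact Subgroup.card_dvd_of_le (inf_le_inf hQK hPH)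
    rw [h5]
    refine Nat.le_of_mul_le_mul_left ?_ (Nat.card_pos (α := ↥(Q' ⊓ P')))
    rw [h2]
    exact Nat.mul_le_mul_right _ h6
  refine Set.Subset.antisymm ?_ ?_
  · intro r hr
    let g : P' ⧸ Q'.subgroupOf P' → (R : Subgroup G) ⧸ Q'.subgroupOf (R : Subgroup G) :=
      Quotient.map' (Subgroup.inclusion hPR) fun a b hab => by
        rw [QuotientGroup.leftRel_apply] at hab ⊢
        exact hab
    have ginj : Function.Injective g := by
      intro q₁ q₂
      induction q₁ using QuotientGroup.induction_on with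
      | _ a =>
        induction q₂ using QuotientGroup.induction_on with
        | _ b =>
          intro hab
          exact QuotientGroup.eq.mpr
            (QuotientGroup.eq (s := Q'.subgroupOf (R : Subgroup G)).mp hab :)
    have gsurj : Function.Surjective g :=
      ((Nat.bijective_iff_injective_and_card g).mpr ⟨ginj, le_antisymm
        (Nat.card_le_card_of_injective g ginj) hineq⟩).2
    obtain ⟨q, hq⟩ := gsurj ((⟨r, hr⟩ : (R : Subgroup G)) : _ ⧸ _)
    induction q using QuotientGroup.induction_on with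
    | _ a =>
      have h1 := QuotientGroup.eq.mp (hq : ((Subgroup.inclusion hPR a : (R : Subgroup G)) : _ ⧸ Q'.subgroupOf (R : Subgroup G)) = _)
      exact ⟨a, a.2, (a : G)⁻¹ * r, h1, by simp⟩
  · rintro _ ⟨a, ha, b, hb, rfl⟩
    exact mul_mem (hPR ha) (hQR hb)

end Cfsg.Agent.S0560
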