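import Cfsg.Statements.S0561
import Cfsg.Agent.Lib.SolvStruct.NilFactor
import Cfsg.Agent.Lib.Core.Hall

set_option autoImplicit false
open Pointwise
open Cfsg

namespace Cfsg.Agent.S0561

open CfsgLib.SolvStruct


/-- Let the finite solvable group G be the product HK of subgroups, and let A be normal in H and B normal in K, where A and B are Hall subgroups of G (order coprime to index). Then for all x, y the product set of xAx⁻¹ and yBy⁻¹ is a subgroup of G. -/
theorem result {G : Type*} [Group G] [Finite G] [Group.IsSolvable G] (H K A B : Subgroup G) (hHK : ∀ g : G, ∃ h ∈ H, ∃ k ∈ K, g = h * k) (hA : A ≤ H) (hAn : (A.subgroupOf H).Normal) (hB : B ≤ K) (hBn : (B.subgroupOf K).Normal) (hAh : (Nat.card A).Coprime A.index) (hBh : (Nat.card B).Coprime B.index) (x y : G) : ∃ S : Subgroup G, (S : Set G) = ((MulAut.conj x • A : Subgroup G) : Set G) * ((MulAut.conj y • B : Subgroup G) : Set G) := by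
  classical
  refine exists_coe_eq_iff_permutes.mpr ?_
  have hnA : ∀ h ∈ H, MulAut.conj h • A = A := fun h hh => conj_smul_self_of_mem
    ((Subgroup.normal_subgroupOf_iff_le_normalizer hA).mp hAn hh)
  have hnB : ∀ k ∈ K, MulAut.conj k • B = B := fun k hk => conj_smul_self_of_mem
    ((Subgroup.normal_subgroupOf_iff_le_normalizer hB).mp hBn hk)
  have h0 : Permutes A B := by
    set τ : Set ℕ := {r | r ∣ Nat.card A ∨ r ∣ Nat.card B} with hτ
    obtain ⟨T₁, hT₁, hA1⟩ := CfsgLib.Core.exists_piHall_ge (π := τ) (K := A) fun r _ hd => Or.inl hd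
    obtain ⟨T₂, hT₂, hB2⟩ := CfsgLib.Core.exists_piHall_ge (π := τ) (K := B) fun r _ hd => Or.inr hd
    obtain ⟨g, hg⟩ := CfsgLib.Core.piHall_conj hT₁ hT₂
    obtain ⟨k, hk, h, hh, rfl⟩ := factor_symm hHK g
    set T := MulAut.conj h • T₁ with hT
    have hAT : A ≤ T := (hnA h hh).ge.trans (Subgroup.pointwise_smul_le_pointwise_smul_iff.mpr hA1)
    have hBT : B ≤ T := by
      rw [← hnB k⁻¹ (inv_mem hk), hT]
      refine (Subgroup.pointwise_smul_le_pointwise_smul_iff.mpr hB2).trans ?_
      rw [← hg, ← mul_smul, ← map_mul, inv_mul_cancel_left]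
    have hTπ := (CfsgLib.Core.isPiHall_conj_smul hT₁ h).1
    intro g hg
    have hgT : g ∈ T := sup_le hAT hBT hg
    obtain ⟨a, ha, b, hb, e⟩ := CfsgLib.Core.exists_mul_of_coprime_index
      (H := A.subgroupOf T) (K := B.subgroupOf T) (Nat.coprime_of_dvd fun r hr hra hrb => by
        have hra' : r ∣ A.index := hra.trans (Subgroup.relIndex_dvd_index_of_le hAT)
        have hrb' : r ∣ B.index := hrb.trans (Subgroup.relIndex_dvd_index_of_le hBT)
        have hrT : r ∣ Nat.card T := hra.trans (A.subgroupOf T).index_dvd_card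
        rcases hTπ r hr hrT with h1 | h1
        · exact hr.one_lt.ne' (Nat.eq_one_of_dvd_coprimes hAh h1 hra')
        · exact hr.one_lt.ne' (Nat.eq_one_of_dvd_coprimes hBh h1 hrb')) ⟨g, hgT⟩
    exact ⟨a, Subgroup.mem_subgroupOf.mp ha, b, Subgroup.mem_subgroupOf.mp hb,
      congrArg Subtype.val e⟩
  obtain ⟨h, hh, k, hk, e⟩ := hHK (x⁻¹ * y)
  have h1 : Permutes A (MulAut.conj (x⁻¹ * y) • B) := by
    have := h0.conj h
    rw [hnA h hh] at this
    rwa [e, map_mul, mul_smul, hnB k hk]
  have := h1.conj x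
  rwa [← mul_smul, ← map_mul, mul_inv_cancel_left] at this

end Cfsg.Agent.S0561
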