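import Cfsg.Statements.S0567
import Mathlib.GroupTheory.IsSubnormal
import Mathlib.GroupTheory.Commutator.Basic

set_option autoImplicit false
open Cfsg

namespace Cfsg.Agent.S0567

open scoped commutatorElement in
theorem sup_le_normalizer {X : Type*} [Group X] (A H : Subgroup X) :
    A ⊔ H ≤ Subgroup.normalizer ((⁅A, H⁆ ⊔ H : Subgroup X) : Set X) := by
  refine sup_le ?_ (le_trans le_sup_right Subgroup.le_normalizer)
  rw [Subgroup.le_normalizer_iff_commutator_le_right, Subgroup.commutator_le]
  intro a ha z hz
  have hc : ∀ x ∈ A, ∀ y ∈ ⁅A, H⁆ ⊔ H, x * y * x⁻¹ ∈ ⁅A, H⁆ ⊔ H := by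
    intro x hx y hy
    have hle : Subgroup.map (MulAut.conj x).toMonoidHom (⁅A, H⁆ ⊔ H) ≤ ⁅A, H⁆ ⊔ H := by
      rw [Subgroup.map_sup]
      refine sup_le ?_ ?_
      · exact le_trans (le_of_eq (Subgroup.mem_normalizer_iff_map_conj_eq.mp
          (Subgroup.normalizer_commutator_ge_left A H hx))) le_sup_left
      · rintro _ ⟨h, hh, rfl⟩
        have e : (MulAut.conj x).toMonoidHom h = ⁅x, h⁆ * h := by simp [commutatorElement_def]
        rw [e]
        exact mul_mem (Subgroup.mem_sup_left (Subgroup.commutator_mem_commutator hx hh))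
          (Subgroup.mem_sup_right hh)
    exact hle ⟨y, hy, rfl⟩
  rw [commutatorElement_def]
  exact mul_mem (hc a ha z hz) (inv_mem hz)


/-- A subgroup H of a group G is subnormal exactly when, for some m, the subgroup obtained from G by taking the commutator with H m times in succession is contained in H. -/
theorem result {G : Type*} [Group G] (H : Subgroup G) : H.IsSubnormal ↔ ∃ m : ℕ, (fun K : Subgroup G => ⁅K, H⁆)^[m] ⊤ ≤ H := by
  constructor
  · intro hH
    suffices h : ∀ K : Subgroup G, K.IsSubnormal → H ≤ K →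
        ∃ m : ℕ, (fun K : Subgroup G => ⁅K, H⁆)^[m] ⊤ ≤ K from h H hH le_rfl
    intro K hK
    induction hK with
    | top => exact fun _ => ⟨0, le_top⟩
    | step A B hAB _ hn ih =>
      intro hHA
      obtain ⟨m, hm⟩ := ih (hHA.trans hAB)
      refine ⟨m + 1, ?_⟩
      rw [Function.iterate_succ_apply']
      exact (Subgroup.commutator_mono hm hHA).trans
        (Subgroup.le_normalizer_iff_commutator_le_right.mp
          ((Subgroup.normal_subgroupOf_iff_le_normalizer hAB).mp hn))
  · rintro ⟨m, hm⟩
    have key : ∀ i : ℕ, ((fun K : Subgroup G => ⁅K, H⁆)^[i] ⊤ ⊔ H).IsSubnormal := by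
      intro i
      induction i with
      | zero => simp
      | succ i ih =>
        rw [Function.iterate_succ_apply']
        refine Subgroup.IsSubnormal.step _ _ ?_ ih
          (Subgroup.normal_subgroupOf_of_le_normalizer (sup_le_normalizer _ H))
        exact sup_le (Subgroup.commutator_le_sup _ _) le_sup_right
    have := key m
    rwa [sup_eq_right.mpr hm] at this

end Cfsg.Agent.S0567
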