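import Cfsg.Statements.S0574
import Cfsg.Agent.S0572
import Cfsg.Agent.Lib.SolvStruct.NilProduct
import Cfsg.Agent.Lib.Core.MinNormal

set_option autoImplicit false
open Cfsg

namespace Cfsg.Agent.S0574

open CfsgLib.SolvStruct
open scoped commutatorElement

universe u

theorem isMulCommutative_of {G : Type*} [Group G] {H : Subgroup G}
    (h : ∀ x ∈ H, ∀ y ∈ H, x * y = y * x) : IsMulCommutative H :=
  ⟨⟨fun x y => Subtype.ext (h x x.2 y y.2)⟩⟩

theorem second_derived_le {G : Type*} [Group G] {M : Subgroup G} (L : Subgroup G) (hML : M ≤ L)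
    (hL : derivedSeries L 2 = ⊥) : ⁅⁅M, M⁆, ⁅M, M⁆⁆ = ⊥ := by
  rw [derivedSeries_succ, derivedSeries_succ, derivedSeries_zero] at hL
  have := congrArg (Subgroup.map L.subtype) hL
  rw [Subgroup.map_bot, Subgroup.map_commutator, Subgroup.map_commutator, ← MonoidHom.range_eq_map,
    Subgroup.range_subtype] at this
  rw [eq_bot_iff, ← this]
  exact Subgroup.commutator_mono (Subgroup.commutator_mono hML hML) (Subgroup.commutator_mono hML hML)

theorem aux (n : ℕ) : ∀ (G : Type u) [Group G] [Finite G], ∀ A B : Subgroup G,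
    ∀ [IsMulCommutative A], ⁅⁅B, B⁆, B⁆ = ⊥ → (∀ g : G, ∃ a ∈ A, ∃ b ∈ B, g = a * b) →
    (Nat.card ↥(⁅B, B⁆ : Subgroup G)).primeFactorsList.length = n →
    derivedSeries G (2 * (1 + n)) = ⊥ := by
  induction n using Nat.strong_induction_on with
  | _ n ih =>
  intro G _ _ A B _ hB hAB hn
  subst hn
  by_cases h0 : ⁅B, B⁆ = ⊥
  · haveI : IsMulCommutative B := CfsgLib.Core.isMulCommutative_iff_commutator_eq_bot.mpr h0
    rw [h0, Subgroup.card_bot, Nat.primeFactorsList_one, List.length_nil]
    exact Cfsg.Agent.S0572.result A B hAB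
  haveI : Group.IsSolvable G := by
    refine isSolvable_of_nilpotent_factor A B ?_ ?_ hAB
    · exact @CommGroup.isNilpotent A
        { (inferInstance : Group A) with mul_comm := mul_comm' }
    · refine Group.of_quotient_center_nilpotent ?_
      refine @CommGroup.isNilpotent (B ⧸ Subgroup.center B)
        { (inferInstance : Group (B ⧸ Subgroup.center B)) with mul_comm := ?_ }
      intro u v
      induction u using QuotientGroup.induction_on with | _ x => ?_
      induction v using QuotientGroup.induction_on with | _ y => ?_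
      refine QuotientGroup.eq.mpr (Subgroup.mem_center_iff.mpr fun w => Subtype.ext ?_)
      have := Subgroup.mem_centralizer_iff.mp
        (Subgroup.commutator_eq_bot_iff_le_centralizer.mp hB
          (Subgroup.commutator_mem_commutator (inv_mem y.2) (inv_mem x.2))) w w.2
      simpa [commutatorElement_def, mul_assoc] using this
  obtain ⟨M, ⟨hMn, hMB⟩, hMmin⟩ : ∃ M : Subgroup G, (M.Normal ∧ M ⊓ ⁅B, B⁆ ≠ ⊥) ∧
      ∀ T : Subgroup G, T.Normal → T < M → T ⊓ ⁅B, B⁆ = ⊥ := by
    obtain ⟨M, hM, hmin⟩ := WellFounded.has_min (wellFounded_lt (α := Subgroup G))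
      {M | M.Normal ∧ M ⊓ ⁅B, B⁆ ≠ ⊥} ⟨⊤, inferInstance, by rwa [top_inf_eq]⟩
    exact ⟨M, hM, fun T hT hlt => by_contra fun h => hmin T ⟨hT, h⟩ hlt⟩
  haveI := hMn
  have hM0 : M ≠ ⊥ := fun h => hMB (by rw [h, bot_inf_eq])
  set M' := ⁅M, M⁆ with hM'
  have hM'B : M' ⊓ ⁅B, B⁆ = ⊥ :=
    hMmin M' inferInstance (CfsgLib.Core.commutator_self_lt inferInstance hM0)
  obtain ⟨⟨z, hz⟩, hz1⟩ := (Subgroup.ne_bot_iff_exists_ne_one).mp hMB
  have hzB : ∀ b ∈ B, z * b = b * z := fun b hb =>
    (Subgroup.mem_centralizer_iff.mp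
      (Subgroup.commutator_eq_bot_iff_le_centralizer.mp hB hz.2) b hb).symm
  have hMcl : M = Subgroup.normalClosure ({z} : Set G) := by
    have hle : Subgroup.normalClosure ({z} : Set G) ≤ M :=
      Subgroup.normalClosure_le_normal (Set.singleton_subset_iff.mpr hz.1)
    by_contra hne
    have := hMmin _ inferInstance (lt_of_le_of_ne hle (Ne.symm hne))
    exact hz1 (Subtype.ext (Subgroup.mem_bot.mp (this.le (Subgroup.mem_inf.mpr
      ⟨Subgroup.subset_normalClosure rfl, hz.2⟩))))
  set q := QuotientGroup.mk' M' with hq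
  have hqM : ∀ x ∈ M, ∀ y ∈ M, q x * q y = q y * q x := fun x hx y hy => by
    rw [← map_mul, ← map_mul]
    refine QuotientGroup.eq.mpr ?_
    have := Subgroup.commutator_mem_commutator (inv_mem hy) (inv_mem hx)
    simpa [commutatorElement_def, mul_assoc] using this
  set L := A ⊔ M with hL
  have hcent : ∀ b ∈ B ⊓ L, ∃ a ∈ A, ∃ m ∈ M, b = a * m ∧ ∀ x ∈ M, q a * q x = q x * q a := by
    rintro b ⟨hb, hbL⟩
    have hbL' : b ∈ ((A ⊔ M : Subgroup G) : Set G) := hbL
    rw [Subgroup.mul_normal] at hbL'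
    obtain ⟨a, ha, m, hm, rfl⟩ := hbL'
    refine ⟨a, ha, m, hm, rfl, ?_⟩
    have haz : q a * q z = q z * q a := by
      have h1 : q z * q (a * m) = q (a * m) * q z := by rw [← map_mul, hzB _ hb, map_mul]
      rw [map_mul] at h1
      refine mul_right_cancel (b := q m) ?_
      rw [mul_assoc, ← hqM m hm z hz.1, ← mul_assoc, ← h1, ← mul_assoc]
    intro x hx
    have hle : M ≤ (Subgroup.centralizer ({q a} : Set (G ⧸ M'))).comap q := by
      refine hMcl.le.trans ?_
      rw [Subgroup.normalClosure, Subgroup.closure_le]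
      intro w hw
      rw [Group.mem_conjugatesOfSet_iff] at hw
      obtain ⟨y, hy, hc⟩ := hw
      rw [Set.mem_singleton_iff] at hy
      subst hy
      obtain ⟨g, rfl⟩ := isConj_iff.mp hc
      obtain ⟨a', ha', b', hb', rfl⟩ := hAB g
      have e : a' * b' * y * (a' * b')⁻¹ = a' * y * a'⁻¹ := by
        calc a' * b' * y * (a' * b')⁻¹ = a' * (b' * y) * b'⁻¹ * a'⁻¹ := by group
          _ = a' * (y * b') * b'⁻¹ * a'⁻¹ := by rw [hzB b' hb']
          _ = a' * y * a'⁻¹ := by group
      have hca : q a * q a' = q a' * q a := by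
        rw [← map_mul, ← map_mul]
        exact congrArg q (congrArg Subtype.val (mul_comm' (⟨a, ha⟩ : A) ⟨a', ha'⟩))
      rw [SetLike.mem_coe, Subgroup.mem_comap, Subgroup.mem_centralizer_singleton_iff, e, map_mul,
        map_mul, map_inv]
      exact ((Commute.mul_right hca haz).mul_right (Commute.inv_right hca)).eq.symm
    exact (Subgroup.mem_centralizer_singleton_iff.mp (hle hx)).symm
  have hR : ∀ x ∈ B ⊓ L, ∀ y ∈ B ⊓ L, x * y = y * x := by
    intro x hx y hy
    have h1 : q x * q y = q y * q x := by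
      obtain ⟨a, ha, m, hm, rfl, hc⟩ := hcent x hx
      obtain ⟨a', ha', m', hm', rfl, hc'⟩ := hcent y hy
      have hca : Commute (q a) (q a') := by
        show q a * q a' = q a' * q a
        rw [← map_mul, ← map_mul]
        exact congrArg q (congrArg Subtype.val (mul_comm' (⟨a, ha⟩ : A) ⟨a', ha'⟩))
      rw [map_mul, map_mul]
      exact ((hca.mul_right (hc m' hm')).mul_left
        ((show Commute (q a') (q m) from hc' m hm).symm.mul_right (hqM m hm m' hm'))).eq
    have h2 : ⁅x, y⁆ ∈ M' ⊓ ⁅B, B⁆ := by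
      refine Subgroup.mem_inf.mpr ⟨?_, Subgroup.commutator_mem_commutator hx.1 hy.1⟩
      rw [← QuotientGroup.eq_one_iff]
      show q ⁅x, y⁆ = 1
      rw [map_commutatorElement, commutatorElement_eq_one_iff_mul_comm]
      exact h1
    rw [hM'B, Subgroup.mem_bot, commutatorElement_eq_one_iff_mul_comm] at h2
    exact h2
  haveI : IsMulCommutative (A.subgroupOf L) := isMulCommutative_of fun x hx y hy =>
    Subtype.ext (congrArg Subtype.val (mul_comm' (⟨x, hx⟩ : A) ⟨y, hy⟩) :)
  haveI : IsMulCommutative ((B ⊓ L).subgroupOf L) := isMulCommutative_of fun x hx y hy =>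
    Subtype.ext (hR x hx y hy)
  have hLd := Cfsg.Agent.S0572.result (A.subgroupOf L) ((B ⊓ L).subgroupOf L)
    (factor_inf hAB le_sup_left)
  have hM2 := second_derived_le L le_sup_right hLd
  -- the quotient
  set f := QuotientGroup.mk' M with hf
  haveI : IsMulCommutative (A.map f) := by
    rw [CfsgLib.Core.isMulCommutative_iff_commutator_eq_bot, ← Subgroup.map_commutator,
      CfsgLib.Core.isMulCommutative_iff_commutator_eq_bot.mp inferInstance, Subgroup.map_bot]
  set k := (Nat.card ↥(⁅B.map f, B.map f⁆ : Subgroup (G ⧸ M))).primeFactorsList.length with hk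
  have hklt : k < (Nat.card ↥(⁅B, B⁆ : Subgroup G)).primeFactorsList.length := by
    have h1 : Nat.card ↥(M ⊓ ⁅B, B⁆) * Nat.card ↥(⁅B.map f, B.map f⁆ : Subgroup (G ⧸ M)) =
        Nat.card ↥(⁅B, B⁆ : Subgroup G) := by
      rw [← Subgroup.map_commutator, hf, CfsgLib.Core.card_map_mk', ← Subgroup.inf_relIndex_right,
        ← Subgroup.relIndex_bot_left (M ⊓ ⁅B, B⁆),
        Subgroup.relIndex_mul_relIndex _ _ _ bot_le inf_le_right, Subgroup.relIndex_bot_left]
    have h2 : 0 < (Nat.card ↥(M ⊓ ⁅B, B⁆)).primeFactorsList.length := by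
      rw [List.length_pos_iff, Ne, Nat.primeFactorsList_eq_nil]
      rintro (h | h)
      · exact Nat.card_pos.ne' h
      · exact hMB (Subgroup.card_eq_one.mp h)
    rw [← h1, (Nat.perm_primeFactorsList_mul Nat.card_pos.ne' Nat.card_pos.ne').length_eq,
      List.length_append]
    omega
  have hind := ih k hklt (G ⧸ M) (A.map f) (B.map f)
    (by rw [← Subgroup.map_commutator, ← Subgroup.map_commutator, hB, Subgroup.map_bot])
    (factor_map (QuotientGroup.mk'_surjective M) hAB) hk.symm
  have hle : derivedSeries G (2 * (1 + k)) ≤ M := by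
    rw [← QuotientGroup.ker_mk' M, ← Subgroup.map_eq_bot_iff,
      map_derivedSeries_eq (QuotientGroup.mk'_surjective M)]
    exact hind
  refine le_bot_iff.mp (le_trans (derivedSeries_antitone G
    (show 2 * (1 + k) + 2 ≤ 2 * (1 + _) by omega)) ?_)
  rw [derivedSeries_succ, derivedSeries_succ, ← hM2]
  exact Subgroup.commutator_mono (Subgroup.commutator_mono hle hle) (Subgroup.commutator_mono hle hle)


/-- Let the finite group G be the product AB of an abelian subgroup A and a subgroup B of nilpotency class at most two, and let Ω be the number of prime factors, with multiplicity, of the order of the commutator subgroup of B. Then the term of index 2(1 + Ω) of the derived series of G is trivial. -/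
theorem result {G : Type*} [Group G] [Finite G] (A B : Subgroup G) [IsMulCommutative A] (hB : commutator ↥B ≤ Subgroup.center ↥B) (hAB : ∀ g : G, ∃ a ∈ A, ∃ b ∈ B, g = a * b) : derivedSeries G (2 * (1 + (Nat.card ↥(commutator ↥B)).primeFactorsList.length)) = ⊥ := by
  have hmap : (commutator B).map B.subtype = ⁅B, B⁆ := Subgroup.map_subtype_commutator B
  have hB' : ⁅⁅B, B⁆, B⁆ = ⊥ := by
    rw [Subgroup.commutator_eq_bot_iff_le_centralizer, ← hmap]
    rintro _ ⟨c, hc, rfl⟩
    rw [Subgroup.mem_centralizer_iff]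
    intro b hb
    exact congrArg Subtype.val (Subgroup.mem_center_iff.mp (hB hc) ⟨b, hb⟩)
  rw [← Subgroup.card_map_of_injective (K := commutator B) B.subtype_injective, hmap]
  exact aux _ G A B hB' hAB rfl

end Cfsg.Agent.S0574
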