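import Cfsg.Statements.S0575
import Mathlib.GroupTheory.Frattini

set_option autoImplicit false
open Cfsg

namespace Cfsg.Agent.S0575

/-- If H is a normal subgroup of a finite group G, then the Frattini subgroup of H, viewed in G, lies in the Frattini subgroup of G. -/
theorem result {G : Type*} [Group G] [Finite G] (H : Subgroup G) [H.Normal] : (frattini ↥H).map H.subtype ≤ frattini G := by
  by_contra hne
  set F := (frattini ↥H).map H.subtype with hF
  obtain ⟨M, hM, hFM⟩ : ∃ M : Subgroup G, IsCoatom M ∧ ¬ F ≤ M := by
    by_contra hall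
    push Not at hall
    exact hne (le_iInf₂ fun M hM => hall M hM)
  have htop : F ⊔ M = ⊤ := hM.2 _ (lt_of_le_of_ne le_sup_right fun h => hFM (h ▸ le_sup_left))
  have hmod : frattini ↥H ⊔ M.subgroupOf H = ⊤ := by
    rw [eq_top_iff]
    intro x _
    haveI : F.Normal := by rw [hF]; infer_instance
    obtain ⟨f, hf, m, hm, e⟩ := Subgroup.mem_sup_of_normal_left.mp
      (show (x : G) ∈ F ⊔ M by rw [htop]; trivial)
    obtain ⟨f', hf', rfl⟩ := hf
    have : f'⁻¹ * x ∈ M.subgroupOf H := by
      rw [Subgroup.mem_subgroupOf]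
      push_cast
      rw [← e]
      simpa [← mul_assoc] using hm
    have h2 := Subgroup.mul_mem_sup hf' this
    rwa [mul_inv_cancel_left] at h2
  have := frattini_nongenerating (K := M.subgroupOf H) (by rwa [sup_comm])
  rw [Subgroup.subgroupOf_eq_top] at this
  exact hFM ((Subgroup.map_subtype_le _).trans this)

end Cfsg.Agent.S0575
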