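import Cfsg.Statements.S0576
import Mathlib.GroupTheory.Frattini

set_option autoImplicit false
open Cfsg

namespace Cfsg.Agent.S0576

/-- Let H be a normal subgroup of a finite group G with H contained in the Frattini subgroup of G. Then the group of inner automorphisms of H is contained in the Frattini subgroup of the automorphism group of H. -/
theorem result {G : Type*} [Group G] [Finite G] (H : Subgroup G) [H.Normal] (hH : H ≤ frattini G) : (MulAut.conj : ↥H →* MulAut ↥H).range ≤ frattini (MulAut ↥H) := by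
  set ρ : G →* MulAut ↥H := MulAut.conjNormal with hρ
  set I := (MulAut.conj : ↥H →* MulAut ↥H).range with hI
  haveI hIn : I.Normal := by
    refine ⟨?_⟩
    rintro _ ⟨x, rfl⟩ φ
    refine ⟨φ x, ?_⟩
    ext y
    simp [MulAut.conj_apply]
  have hρI : H.map ρ = I := by
    ext φ
    constructor
    · rintro ⟨h, hh, rfl⟩
      refine ⟨⟨h, hh⟩, ?_⟩
      ext y
      simp [hρ]
    · rintro ⟨h, rfl⟩
      refine ⟨h, h.2, ?_⟩
      ext y
      simp [hρ]
  refine le_iInf₂ ?_
  intro M hM
  by_contra hle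
  have hsup : I ⊔ M = ⊤ := hM.2 _ (lt_of_le_of_ne le_sup_right fun e => hle (le_sup_left.trans e.ge))
  set U := M.comap ρ with hU
  have hUtop : U ⊔ H = ⊤ := by
    rw [eq_top_iff]
    intro g _
    have hg : ρ g ∈ ((I ⊔ M : Subgroup (MulAut ↥H)) : Set (MulAut ↥H)) := by rw [hsup]; trivial
    rw [Subgroup.normal_mul] at hg
    obtain ⟨i, hi, m, hm, e⟩ := hg
    rw [SetLike.mem_coe, ← hρI] at hi
    obtain ⟨h, hh, rfl⟩ := hi
    have hmem : h⁻¹ * g ∈ U := by
      rw [hU, Subgroup.mem_comap, map_mul, ← e, map_inv, inv_mul_cancel_left]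
      exact hm
    have h3 := mul_mem (Subgroup.mem_sup_right hh : h ∈ U ⊔ H) (Subgroup.mem_sup_left hmem)
    rwa [mul_inv_cancel_left] at h3
  have hUeq : U = ⊤ := frattini_nongenerating (eq_top_iff.mpr (hUtop.ge.trans (sup_le_sup_left hH U)))
  apply hle
  rw [← hρI]
  exact Subgroup.map_le_iff_le_comap.mpr (le_top.trans hUeq.ge)

end Cfsg.Agent.S0576
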