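import Cfsg.Statements.S0577
import Cfsg.Agent.Lib.SolvStruct.MinNonNil

set_option autoImplicit false
open Cfsg

namespace Cfsg.Agent.S0577

open Pointwise CfsgLib.SolvStruct
open scoped commutatorElement


/-- Let G be a finite minimal non-nilpotent group and Q a normal Sylow q-subgroup of G, and let D be the commutator subgroup of Q regarded in G (a normal subgroup). Then G modulo D is non-abelian and all its proper subgroups are abelian. -/
theorem result {G : Type*} [Group G] [Finite G] (hG : Cfsg.IsMinimalNonNilpotent G) (q : ℕ) [Fact q.Prime] (hq : q ∣ Nat.card G) (Q : Sylow q G) (hQ : (Q : Subgroup G).Normal) (D : Subgroup G) [D.Normal] (hD : D = (commutator ↥(Q : Subgroup G)).map (Q : Subgroup G).subtype) : ¬ IsMulCommutative (G ⧸ D) ∧ ∀ K : Subgroup (G ⧸ D), K ≠ ⊤ → IsMulCommutative K := by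
  obtain ⟨p, q₀, hp, hq₀, hpq, P, Q₀, hPc, hQ₀n, hsup, hcard⟩ := minNonNil_structure hG
  haveI := Fact.mk hp
  haveI := Fact.mk hq₀
  obtain rfl : q = q₀ := minNonNil_normal_prime hG P Q₀ Q hQ₀n hQ hcard hq
  haveI := hQ
  letI := Q.unique_of_normal hQ
  obtain rfl : Q₀ = Q := Subsingleton.elim _ _
  haveI := hPc
  have hcop : (Nat.card P).Coprime (Nat.card Q₀) :=
    IsPGroup.coprime_card_of_ne p q hpq (P : Subgroup G) (Q₀ : Subgroup G)
      P.isPGroup' Q₀.isPGroup'
  have hQ1 : (Q₀ : Subgroup G) ≠ ⊥ := Q₀.ne_bot_of_dvd_card hq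
  haveI : Nontrivial (Q₀ : Subgroup G) := (Subgroup.nontrivial_iff_ne_bot _).mpr hQ1
  haveI := Q₀.isPGroup'.isNilpotent
  have hDQ : D ≤ (Q₀ : Subgroup G) := hD ▸ Subgroup.map_subtype_le _
  have hDlt : Nat.card D < Nat.card (Q₀ : Subgroup G) := by
    rw [hD, Subgroup.card_map_of_injective (Q₀ : Subgroup G).subtype_injective]
    exact CfsgLib.Core.card_subgroup_lt _
      (Group.IsSolvable.commutator_lt_top_of_nontrivial _).ne
  have hQD : ∀ x ∈ (Q₀ : Subgroup G), ∀ y ∈ (Q₀ : Subgroup G), ⁅x, y⁆ ∈ D := by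
    intro x hx y hy
    rw [hD]
    exact ⟨⁅(⟨x, hx⟩ : (Q₀ : Subgroup G)), ⟨y, hy⟩⁆,
      Subgroup.commutator_mem_commutator (Subgroup.mem_top _) (Subgroup.mem_top _), rfl⟩
  refine ⟨fun hab => ?_, fun K hK => ?_⟩
  · set N := (P : Subgroup G) ⊔ D with hN
    have hNt : N ≠ ⊤ := by
      intro e
      have h1 := CfsgLib.Core.card_sup_dvd (P : Subgroup G) D Subgroup.le_normalizer_of_normal
      rw [← hN, e, Subgroup.card_top, hcard] at h1
      exact absurd (Nat.le_of_dvd Nat.card_pos (Nat.dvd_of_mul_dvd_mul_left Nat.card_pos h1))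
        (not_le.mpr hDlt)
    haveI hNn : N.Normal := by
      refine ⟨fun x hx g => ?_⟩
      have h1 : g * x * g⁻¹ * x⁻¹ ∈ N := by
        refine Subgroup.mem_sup_right ?_
        rw [← QuotientGroup.eq_one_iff]
        simp only [QuotientGroup.mk_mul, QuotientGroup.mk_inv]
        rw [hab.is_comm.comm (g : G ⧸ D) (x : G ⧸ D), mul_inv_cancel_right, mul_inv_cancel]
      have := mul_mem h1 hx
      rwa [inv_mul_cancel_right] at this
    haveI := hG.2 N hNt
    set P' : Sylow p N := P.subtype le_sup_left with hP'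
    haveI : (P' : Subgroup N).Normal :=
      P'.normal_of_normalizerCondition Group.normalizerCondition_of_isNilpotent
    haveI : (P' : Subgroup N).Characteristic := P'.characteristic_of_normal inferInstance
    have hPn : (P : Subgroup G).Normal := by
      have h1 : ((P' : Subgroup N).map N.subtype).Normal := inferInstance
      rwa [hP', Sylow.coe_subtype, Subgroup.map_subgroupOf_eq_of_le le_sup_left] at h1
    by_cases hpd : p ∣ Nat.card G
    · exact hpq (minNonNil_normal_prime hG P Q₀ P hQ hPn hcard hpd)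
    · have hP1 : Nat.card P = 1 := by
        rw [P.card_eq_multiplicity, Nat.factorization_eq_zero_of_not_dvd hpd, pow_zero]
      rw [hP1, one_mul] at hcard
      have : (Q₀ : Subgroup G) = ⊤ := Subgroup.eq_top_of_card_eq _ hcard.symm
      exact hG.1 (Group.nilpotent_of_mulEquiv ((MulEquiv.subgroupCongr this).trans Subgroup.topEquiv))
  · set U := K.comap (QuotientGroup.mk' D) with hU
    have hUt : U ≠ ⊤ := fun e => hK (by
      rw [← Subgroup.map_comap_eq_self_of_surjective (QuotientGroup.mk'_surjective D) K, ← hU, e,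
        Subgroup.map_top_of_surjective _ (QuotientGroup.mk'_surjective D)])
    haveI hUn := hG.2 U hUt
    obtain ⟨P₁⟩ : Nonempty (Sylow p U) := inferInstance
    set Up := (P₁ : Subgroup U).map U.subtype with hUp
    obtain ⟨T, hT⟩ := (P₁.isPGroup'.map U.subtype).exists_le_sylow
    haveI : IsCyclic (T : Subgroup G) := isCyclic_of_surjective
      (Sylow.equiv P T).toMonoidHom (Sylow.equiv P T).surjective
    haveI : IsCyclic Up := Subgroup.isCyclic_of_le hT
    set S : Set G := ((U ⊓ (Q₀ : Subgroup G) : Subgroup G) : Set G) ∪ (Up : Set G) with hS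
    have hclos : U = Subgroup.closure S := by
      refine le_antisymm ?_ ((Subgroup.closure_le _).mpr
        (Set.union_subset (fun x hx => hx.1) (Subgroup.map_subtype_le _)))
      rw [← Subgroup.subgroupOf_eq_top, ← Subgroup.index_eq_one]
      by_contra hne
      obtain ⟨r, hr, hrd⟩ := Nat.exists_prime_and_dvd hne
      haveI := Fact.mk hr
      have hrG : r ∣ Nat.card G :=
        (hrd.trans (Subgroup.index_dvd_card _)).trans (Subgroup.card_subgroup_dvd_card U)
      rw [hcard, P.card_eq_multiplicity, Q₀.card_eq_multiplicity] at hrG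
      rcases hr.dvd_mul.mp hrG with h | h
      · obtain rfl := (Nat.prime_dvd_prime_iff_eq hr hp).mp (hr.dvd_of_dvd_pow h)
        exact P₁.not_dvd_index (hrd.trans (Subgroup.index_dvd_of_le fun x hx =>
          Subgroup.subset_closure (Or.inr ⟨x, hx, rfl⟩)))
      · obtain rfl := (Nat.prime_dvd_prime_iff_eq hr Fact.out).mp (hr.dvd_of_dvd_pow h)
        obtain ⟨R⟩ : Nonempty (Sylow r U) := inferInstance
        refine R.not_dvd_index (hrd.trans (Subgroup.index_dvd_of_le fun x hx =>
          Subgroup.subset_closure (Or.inl ⟨x.2, ?_⟩)))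
        obtain ⟨R', hR'⟩ := (R.isPGroup'.map U.subtype).exists_le_sylow
        rw [Subsingleton.elim R' Q₀] at hR'
        exact hR' ⟨x, hx, rfl⟩
    have hpq' : ∀ x ∈ Up, ∀ y ∈ (U ⊓ (Q₀ : Subgroup G) : Subgroup G), Commute x y := by
      intro x hx y hy
      refine commute_of_mem_nilpotent hUn (Subgroup.map_subtype_le _ hx) hy.1 ?_
      obtain ⟨i, hi⟩ := IsPGroup.iff_orderOf.mp (P₁.isPGroup'.map U.subtype) ⟨x, hx⟩
      obtain ⟨j, hj⟩ := IsPGroup.iff_orderOf.mp Q₀.isPGroup' ⟨y, hy.2⟩
      rw [Subgroup.orderOf_mk] at hi hj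
      rw [hi, hj]
      exact Nat.Coprime.pow _ _ ((Nat.coprime_primes hp Fact.out).mpr hpq)
    have hcm : ∀ {x y : G}, Commute x y → (x : G ⧸ D) * y = y * x := fun h => by
      rw [← QuotientGroup.mk_mul, h.eq, QuotientGroup.mk_mul]
    have hgen : ∀ x ∈ S, ∀ y ∈ S, (x : G ⧸ D) * y = y * x := by
      intro x hx y hy
      rcases hx with hx | hx <;> rcases hy with hy | hy
      · have h1 := (QuotientGroup.eq_one_iff (N := D) _).mpr (hQD x hx.2 y hy.2)
        simp only [commutatorElement_def, QuotientGroup.mk_mul, QuotientGroup.mk_inv] at h1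
        exact mul_inv_eq_iff_eq_mul.mp (mul_inv_eq_one.mp h1)
      · exact hcm (hpq' y hy x hx).symm
      · exact hcm (hpq' x hx y hy)
      · exact hcm (congrArg Subtype.val
          (IsCyclic.commGroup.mul_comm (⟨x, hx⟩ : Up) ⟨y, hy⟩))
    have hKc : K ≤ Subgroup.centralizer (K : Set (G ⧸ D)) := by
      have hKS : K = Subgroup.closure ((fun x : G => (x : G ⧸ D)) '' S) := by
        rw [← Subgroup.map_comap_eq_self_of_surjective (QuotientGroup.mk'_surjective D) K, ← hU,
          hclos, MonoidHom.map_closure]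
        rfl
      conv_rhs => rw [hKS]
      rw [Subgroup.centralizer_closure]
      rw [hKS, Subgroup.closure_le]
      rintro _ ⟨x, hx, rfl⟩
      rw [SetLike.mem_coe, Subgroup.mem_centralizer_iff]
      rintro _ ⟨y, hy, rfl⟩
      exact (hgen y hy x hx)
    exact ⟨⟨fun a b => Subtype.ext (Subgroup.mem_centralizer_iff.mp (hKc b.2) a a.2)⟩⟩

end Cfsg.Agent.S0577
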