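import Cfsg.Statements.S0578
import Cfsg.Agent.Lib.Components.Subnormal
import Mathlib.GroupTheory.Transfer

set_option autoImplicit false
open Cfsg

namespace Cfsg.Agent.S0578

open scoped commutatorElement

/-- If in a finite group the normalizer of each abelian subgroup coincides with its centralizer, then the group is abelian. -/
theorem result {G : Type*} [Group G] [Finite G] (h : ∀ A : Subgroup G, IsMulCommutative A → Subgroup.normalizer (A : Set G) = Subgroup.centralizer (A : Set G)) : IsMulCommutative G := by
  have key : ∀ (p : ℕ) [Fact p.Prime] (P : Sylow p G), IsMulCommutative (P : Subgroup G) := by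
    intro p _ P
    by_contra hP
    have h0 : Subgroup.upperCentralSeries (P : Subgroup G) 2 ≠
        Subgroup.upperCentralSeries (P : Subgroup G) 1 := fun he => hP <| by
      haveI := P.isPGroup'.isNilpotent
      obtain ⟨n, hn⟩ := (inferInstance : Group.IsNilpotent (P : Subgroup G)).nilpotent
      have hstab : ∀ m, 1 ≤ m → Subgroup.upperCentralSeries (P : Subgroup G) m =
          Subgroup.upperCentralSeries (P : Subgroup G) 1 :=
        fun m hm => (Subgroup.upperCentralSeries.eq_ge_of_eq_succ hm he.symm).symm
      have htop : Subgroup.center (P : Subgroup G) = ⊤ := by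
        rw [← Subgroup.upperCentralSeries_one, ← hstab (n + 1) (Nat.le_add_left 1 n), eq_top_iff]
        exact hn.ge.trans (Subgroup.upperCentralSeries_mono _ (Nat.le_succ n))
      exact ⟨⟨fun a b => Subgroup.mem_center_iff.mp (htop ▸ Subgroup.mem_top b) a⟩⟩
    obtain ⟨x, hx2, hx1⟩ := SetLike.exists_of_lt
      (lt_of_le_of_ne (Subgroup.upperCentralSeries_mono _ (show 1 ≤ 2 by norm_num)) (Ne.symm h0))
    rw [Subgroup.upperCentralSeries_one] at hx1
    set Z := Subgroup.center (P : Subgroup G) with hZ
    set A := Z ⊔ Subgroup.zpowers x with hA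
    haveI hAc : IsMulCommutative A := by
      rw [← Subgroup.commutator_self_eq_bot_iff, hA,
        CfsgLib.Components.commutator_sup_left_eq_bot, CfsgLib.Components.commutator_sup_right_eq_bot,
        CfsgLib.Components.commutator_sup_right_eq_bot]
      refine ⟨⟨Subgroup.commutator_center_left _, Subgroup.commutator_center_left _⟩,
        Subgroup.commutator_center_right _, Subgroup.commutator_self_eq_bot_iff.mpr inferInstance⟩
    haveI hAn : A.Normal := by
      rw [← Subgroup.commutator_top_left_le_iff, Subgroup.commutator_le]
      intro y _ a ha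
      have ha2 : a ∈ Subgroup.upperCentralSeries (P : Subgroup G) 2 := by
        refine (sup_le ?_ (Subgroup.zpowers_le.mpr hx2) : A ≤ _) ha
        rw [hZ, ← Subgroup.upperCentralSeries_one]
        exact Subgroup.upperCentralSeries_mono _ (by norm_num)
      refine (le_sup_left : Z ≤ A) ?_
      rw [hZ, ← Subgroup.upperCentralSeries_one]
      have := Subgroup.commutator_upperCentralSeries_top_le (G := (P : Subgroup G)) 1
      rw [Subgroup.commutator_comm] at this
      exact this (Subgroup.commutator_mem_commutator (Subgroup.mem_top y) ha2)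
    haveI : IsMulCommutative (A.map (P : Subgroup G).subtype) := by
      rw [← Subgroup.commutator_self_eq_bot_iff, ← Subgroup.map_commutator,
        Subgroup.commutator_self_eq_bot_iff.mpr hAc, Subgroup.map_bot]
    apply hx1
    rw [Subgroup.mem_center_iff]
    intro y
    have hy : (y : G) ∈ Subgroup.normalizer ((A.map (P : Subgroup G).subtype : Subgroup G) : Set G) := by
      refine Subgroup.le_normalizer_map _ ⟨y, ?_, rfl⟩
      rw [Subgroup.normalizer_eq_top]
      trivial
    rw [h _ inferInstance, Subgroup.mem_centralizer_iff] at hy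
    exact Subtype.ext (hy x ⟨x, (le_sup_right : Subgroup.zpowers x ≤ A) (Subgroup.mem_zpowers x), rfl⟩).symm
  have hcm : commutator G = ⊥ := by
    apply Subgroup.eq_bot_of_card_eq
    by_contra hne
    obtain ⟨p, hp, hdvd⟩ := Nat.exists_prime_and_dvd hne
    haveI := Fact.mk hp
    obtain ⟨P⟩ : Nonempty (Sylow p G) := inferInstance
    have hP : Subgroup.normalizer ((P : Subgroup G) : Set G) ≤
        Subgroup.centralizer ((P : Subgroup G) : Set G) := (h _ (key p P)).le
    haveI := key p P
    have hle : commutator G ≤ (MonoidHom.transferSylow P hP).ker := by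
      rw [commutator_def, Subgroup.commutator_le]
      intro a _ b _
      rw [MonoidHom.mem_ker, map_commutatorElement, commutatorElement_eq_one_iff_mul_comm]
      exact mul_comm' _ _
    exact MonoidHom.not_dvd_card_ker_transferSylow P hP (hdvd.trans (Subgroup.card_dvd_of_le hle))
  rw [commutator_eq_bot_iff_center_eq_top] at hcm
  exact ⟨⟨fun a b => Subgroup.mem_center_iff.mp (hcm ▸ Subgroup.mem_top b) a⟩⟩

end Cfsg.Agent.S0578
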