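import Cfsg.Statements.S0580
import Cfsg.Agent.Lib.Components.Subnormal

set_option autoImplicit false
open Cfsg

namespace Cfsg.Agent.S0580

/-- If every maximal subgroup of a finite group has prime index, then the group is solvable. -/
theorem result {G : Type*} [Group G] [Finite G] (h : ∀ M : Subgroup G, IsCoatom M → M.index.Prime) : Group.IsSolvable G := by
  induction hn : Nat.card G using Nat.strong_induction_on generalizing G with
  | _ n ih =>
    subst hn
    rcases subsingleton_or_nontrivial G with h' | h'
    · infer_instance
    obtain ⟨p, hpmem, hmax⟩ := (Nat.card G).primeFactors.exists_maximal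
      (Nat.nonempty_primeFactors.mpr (Finite.one_lt_card (α := G)))
    obtain ⟨hp, hpd, -⟩ := Nat.mem_primeFactors.mp hpmem
    haveI := Fact.mk hp
    obtain ⟨P⟩ : Nonempty (Sylow p G) := inferInstance
    haveI hPn : (P : Subgroup G).Normal := by
      by_contra hPn
      have hne : Subgroup.normalizer ((P : Subgroup G) : Set G) ≠ ⊤ := fun he =>
        hPn (Subgroup.normalizer_eq_top_iff.mp he)
      obtain ⟨M, hM, hle⟩ := (IsCoatomic.eq_top_or_exists_le_coatom _).resolve_left hne
      have hq := h M hM
      have hqp : M.index ≤ p := by
        rcases le_total M.index p with h'' | h''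
        · exact h''
        · exact hmax (Nat.mem_primeFactors.mpr ⟨hq, Subgroup.index_dvd_card M, Nat.card_pos.ne'⟩) h''
      have hPM : (P : Subgroup G) ≤ M := Subgroup.le_normalizer.trans hle
      have e : Subgroup.normalizer (((P.subtype hPM : Sylow p M) : Subgroup M) : Set M) =
          (Subgroup.normalizer ((P : Subgroup G) : Set G)).subgroupOf M := by
        rw [Sylow.coe_subtype, Subgroup.subgroupOf_normalizer_eq hPM]
      have h2 := card_sylow_modEq_one p M
      rw [(P.subtype hPM).card_eq_index_normalizer] at h2
      have h2' : ((Subgroup.normalizer ((P : Subgroup G) : Set G)).subgroupOf M).index ≡ 1 [MOD p] := by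
        rw [← e]; exact h2
      have h1 := card_sylow_modEq_one p G
      rw [P.card_eq_index_normalizer] at h1
      have h1' : (Subgroup.normalizer ((P : Subgroup G) : Set G)).relIndex M * M.index ≡ 1 [MOD p] := by
        rw [Subgroup.relIndex_mul_index hle]; exact h1
      have h3 : M.index ≡ 1 [MOD p] := by
        have := (Nat.ModEq.mul_right M.index h2').symm
        rw [one_mul] at this
        exact this.trans h1'
      rw [Nat.ModEq, Nat.one_mod_eq_one.mpr hp.ne_one] at h3
      rcases lt_or_eq_of_le hqp with h4 | h4
      · rw [Nat.mod_eq_of_lt h4] at h3; exact hq.ne_one h3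
      · rw [h4, Nat.mod_self] at h3; exact zero_ne_one h3
    haveI : Group.IsNilpotent (P : Subgroup G) := P.isPGroup'.isNilpotent
    refine (Group.isSolvable_iff_subgroup_quotient (P : Subgroup G)).mpr ⟨inferInstance, ?_⟩
    refine ih _ (CfsgLib.Components.card_quotient_lt (P.ne_bot_of_dvd_card hpd)) (fun M hM => ?_) rfl
    have := h _ (Subgroup.isCoatom_comap_of_surjective
      (QuotientGroup.mk'_surjective (P : Subgroup G)) hM)
    rwa [Subgroup.index_comap_of_surjective _ (QuotientGroup.mk'_surjective _)] at this

end Cfsg.Agent.S0580
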