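import Cfsg.Statements.S0579
import Cfsg.Agent.S0580
import Cfsg.Agent.Lib.SolvStruct.Supersolvable
import Cfsg.Agent.Lib.SolvStruct.NilProduct
import Cfsg.Agent.Lib.SolvStruct.Primitive
import Cfsg.Agent.Lib.Core.SolvableStruct
import Cfsg.Agent.Lib.OddLocal.Coprime

set_option autoImplicit false
open Cfsg

namespace Cfsg.Agent.S0579

open CfsgLib.SolvStruct Pointwise

set_option linter.style.haveILetI false

theorem largest_sylow_normal {G : Type*} [Group G] [Finite G]
    (h : ∀ M : Subgroup G, IsCoatom M → M.index.Prime) {p : ℕ} [hp : Fact p.Prime]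
    (hmax : ∀ q : ℕ, q.Prime → q ∣ Nat.card G → q ≤ p) (P : Sylow p G) :
    (P : Subgroup G).Normal := by
  by_contra hPn
  have hne : Subgroup.normalizer ((P : Subgroup G) : Set G) ≠ ⊤ := fun he =>
    hPn (Subgroup.normalizer_eq_top_iff.mp he)
  obtain ⟨M, hM, hle⟩ := (IsCoatomic.eq_top_or_exists_le_coatom _).resolve_left hne
  have hq := h M hM
  have hqp : M.index ≤ p := hmax _ hq (Subgroup.index_dvd_card M)
  have hPM : (P : Subgroup G) ≤ M := Subgroup.le_normalizer.trans hle
  have e : Subgroup.normalizer (((P.subtype hPM : Sylow p M) : Subgroup M) : Set M) =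
      (Subgroup.normalizer ((P : Subgroup G) : Set G)).subgroupOf M := by
    rw [Sylow.coe_subtype, Subgroup.subgroupOf_normalizer_eq hPM]
  have h2 := card_sylow_modEq_one p M
  rw [(P.subtype hPM).card_eq_index_normalizer] at h2
  have h2' : ((Subgroup.normalizer ((P : Subgroup G) : Set G)).subgroupOf M).index ≡ 1 [MOD p] := by
    rw [← e]; exact h2
  have h1 := card_sylow_modEq_one p G
  rw [P.card_eq_index_normalizer] at h1
  have h1' : (Subgroup.normalizer ((P : Subgroup G) : Set G)).relIndex M * M.index ≡ 1 [MOD p] := by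
    rw [Subgroup.relIndex_mul_index hle]; exact h1
  have h3 : M.index ≡ 1 [MOD p] := by
    have := (Nat.ModEq.mul_right M.index h2').symm
    rw [one_mul] at this
    exact this.trans h1'
  rw [Nat.ModEq, Nat.one_mod_eq_one.mpr hp.out.ne_one] at h3
  rcases lt_or_eq_of_le hqp with h4 | h4
  · rw [Nat.mod_eq_of_lt h4] at h3; exact hq.ne_one h3
  · rw [h4, Nat.mod_self] at h3; exact zero_ne_one h3

/-- An element killed by every homomorphism into an abelian group of exponent `p - 1` centralises a
normal `p`-subgroup of a supersolvable group, if its order is prime to `p`. -/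
theorem centralizes_pGroup {X : Type*} [Group X] [Finite X] (hX : Cfsg.IsSupersolvable X) {p : ℕ}
    [Fact p.Prime] (R : Subgroup X) [R.Normal] (hR : IsPGroup p R) {a : X} {n : ℕ}
    (ha : a ^ n = 1) (hn : ¬ p ∣ n) (hkill : ∀ ψ : X →* (ZMod p)ˣ, ψ a = 1) :
    a ∈ Subgroup.centralizer (R : Set X) := by
  obtain ⟨k, H, h0, hl, hnorm, hstep, -⟩ := exists_prime_chief_series hX
  obtain ⟨m, hm⟩ := hR.exists_card_eq
  refine CfsgLib.OddLocal.centralizes_of_stabilizes_series ha
    (hm ▸ Nat.Coprime.pow_right m ((Fact.out : p.Prime).coprime_iff_not_dvd.mpr hn).symm)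
    (fun i => R ⊓ H (Fin.rev i)) ?_ ?_ (fun i => inf_le_left) ?_
  · show R ⊓ H (Fin.rev 0) = R
    rw [Fin.rev_zero, hl, inf_top_eq]
  · show R ⊓ H (Fin.rev (Fin.last k)) = ⊥
    rw [Fin.rev_last, h0, inf_bot_eq]
  intro i y hy
  have e1 : Fin.rev (i.castSucc) = (Fin.rev i).succ := Fin.rev_castSucc i
  have e2 : Fin.rev (i.succ) = (Fin.rev i).castSucc := Fin.rev_succ i
  show y⁻¹ * (a * y * a⁻¹) ∈ R ⊓ H (Fin.rev i.succ)
  change y ∈ R ⊓ H (Fin.rev i.castSucc) at hy
  rw [e1] at hy
  rw [e2]
  set A := R ⊓ H (Fin.rev i).castSucc with hA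
  set B := R ⊓ H (Fin.rev i).succ with hB
  haveI : (H (Fin.rev i).castSucc).Normal := hnorm _
  haveI : (H (Fin.rev i).succ).Normal := hnorm _
  haveI : A.Normal := by rw [hA]; infer_instance
  haveI : B.Normal := by rw [hB]; infer_instance
  set f := QuotientGroup.mk' A with hf
  rw [← QuotientGroup.eq]
  show f y = f (a * y * a⁻¹)
  set C := B.map f with hC
  haveI : C.Normal := Subgroup.Normal.map inferInstance f (QuotientGroup.mk'_surjective A)
  have hAB : A ≤ B := inf_le_inf_left R (hstep _).1
  have hCc : Nat.card C = A.relIndex B := by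
    rw [hC, hf, CfsgLib.Core.card_map_mk']
  have hd1 : A.relIndex B ∣ (H (Fin.rev i).castSucc).relIndex (H (Fin.rev i).succ) := by
    have e : A = B ⊓ H (Fin.rev i).castSucc := by
      rw [hA, hB, inf_assoc, inf_eq_right.mpr (hstep _).1]
    rw [e, Subgroup.inf_relIndex_left]
    rw [← Subgroup.relIndex_sup_right (H := B) (K := (H (Fin.rev i).castSucc))]
    exact Dvd.intro _ (Subgroup.relIndex_mul_relIndex _ _ _ le_sup_right
      (sup_le inf_le_right (hstep _).1))
  have hd2 : A.relIndex B ∣ p ^ m := hm ▸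
    ((Subgroup.relIndex_dvd_card A B).trans (Subgroup.card_dvd_of_le inf_le_left))
  obtain ⟨j, -, hj⟩ := (Nat.dvd_prime_pow Fact.out).mp hd2
  have hyC : f y ∈ C := ⟨y, hy, rfl⟩
  by_cases hj1 : j = 0
  · rw [hj1, pow_zero] at hj
    have hC1 : C = ⊥ := Subgroup.card_eq_one.mp (hCc.trans hj)
    rw [hC1, Subgroup.mem_bot] at hyC
    rw [map_mul, map_mul, hyC, mul_one, map_inv, mul_inv_cancel]
  have hCp : Nat.card C = p := by
    rw [hCc]
    rcases (Nat.dvd_prime (hstep _).2).mp hd1 with h | h
    · rw [h] at hj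
      exact absurd ((Nat.pow_eq_one.mp hj.symm).resolve_left (Fact.out : p.Prime).ne_one) hj1
    · have hpj : j = 1 := by
        have := (hstep (Fin.rev i)).2
        rw [← h, hj] at this
        exact Nat.Prime.eq_one_of_pow this
      rw [hj, hpj, pow_one]
  haveI : IsCyclic C := isCyclic_of_prime_card hCp
  have e := hkill (((IsCyclic.mulAutMulEquiv C).trans
    (Units.mapEquiv (ZMod.ringEquivCongr hCp).toMulEquiv)).toMonoidHom.comp
      ((MulAut.conjNormal : _ →* MulAut C).comp f))
  simp only [MonoidHom.coe_comp, Function.comp_apply, MulEquiv.coe_toMonoidHom,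
    EmbeddingLike.map_eq_one_iff] at e
  have e3 := congrArg Subtype.val (DFunLike.congr_fun e ⟨f y, hyC⟩)
  rw [MulAut.conjNormal_apply] at e3
  rw [map_mul, map_mul, map_inv]
  exact e3.symm

/-- An abelian group of exponent dividing `p - 1` acting on an elementary abelian `p`-group has an
eigenvector. -/
theorem exists_eigen {V : Type*} [CommGroup V] {p : ℕ} [hp : Fact p.Prime]
    (hV : ∀ v : V, v ^ p = 1) (φ : V ≃* V) (hφ : φ ^ (p - 1) = 1) {x : V} (hx : x ≠ 1) :
    ∃ v : V, v ≠ 1 ∧ ∃ s : ℕ, φ v = v ^ s := by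
  classical
  have hpow : ∀ (y : V) (a b : ℕ), (a : ZMod p) = b → y ^ a = y ^ b := fun y a b h =>
    pow_eq_pow_iff_modEq.mpr (((ZMod.natCast_eq_natCast_iff a b p).mp h).of_dvd
      (orderOf_dvd_of_pow_eq_one (hV y)))
  set y : ℕ → V := fun j => (φ ^ j) x with hy
  have hyφ : ∀ j, φ (y j) = y (j + 1) := fun j => by
    simp only [hy, pow_succ', MulAut.mul_apply]
  let e : (ZMod p)ˣ → ℕ → ℕ := fun t j => ((t : ZMod p) ^ j).val
  have hecast : ∀ t j, ((e t j : ℕ) : ZMod p) = (t : ZMod p) ^ j := fun t j =>
    ZMod.natCast_zmod_val _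
  let u : (ZMod p)ˣ → V := fun t => ∏ j ∈ Finset.range (p - 1), y j ^ e t j
  have hu : ∀ t, φ (u t) = u t ^ ((t⁻¹ : (ZMod p)ˣ) : ZMod p).val := by
    intro t
    simp only [u, map_prod, map_pow, hyφ]
    rw [← Finset.prod_pow]
    have h1 : ∀ j, y (j + 1) ^ e t j = y (j + 1) ^ (e t (j + 1) * ((t⁻¹ : (ZMod p)ˣ) : ZMod p).val) :=
      fun j => hpow _ _ _ (by
        rw [Nat.cast_mul, hecast, hecast, ZMod.natCast_zmod_val, pow_succ, mul_assoc,
          Units.mul_inv, mul_one])
    rw [Finset.prod_congr rfl fun j _ => h1 j]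
    simp only [← pow_mul]
    have h2 := Finset.prod_range_succ
      (fun j => y j ^ (e t j * ((t⁻¹ : (ZMod p)ˣ) : ZMod p).val)) (p - 1)
    have h3 := Finset.prod_range_succ'
      (fun j => y j ^ (e t j * ((t⁻¹ : (ZMod p)ˣ) : ZMod p).val)) (p - 1)
    rw [h2] at h3
    have h4 : y (p - 1) ^ (e t (p - 1) * ((t⁻¹ : (ZMod p)ˣ) : ZMod p).val) =
        y 0 ^ (e t 0 * ((t⁻¹ : (ZMod p)ˣ) : ZMod p).val) := by
      have e0 : y (p - 1) = y 0 := by simp [hy, hφ]
      have e1 : e t (p - 1) = e t 0 := by
        simp only [e, pow_zero, ZMod.pow_card_sub_one_eq_one (t.ne_zero)]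
      rw [e0, e1]
    rw [h4] at h3
    exact (mul_right_cancel h3).symm
  by_cases hex : ∃ t, u t ≠ 1
  · obtain ⟨t, ht⟩ := hex
    exact ⟨u t, ht, _, hu t⟩
  exfalso
  push Not at hex
  have h1 : (∏ t : (ZMod p)ˣ, u t) = 1 := Finset.prod_eq_one fun t _ => hex t
  simp only [u] at h1
  rw [Finset.prod_comm] at h1
  simp only [Finset.prod_pow_eq_pow_sum] at h1
  have hsum : ∀ j ∈ Finset.range (p - 1),
      y j ^ (∑ t : (ZMod p)ˣ, e t j) = if j = 0 then x ^ (p - 1) else 1 := by
    intro j hj
    split_ifs with h0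
    · subst h0
      simp [e, y, ZMod.val_one, Nat.totient_prime hp.out]
    · rw [← pow_zero (y j)]
      refine hpow _ _ _ ?_
      rw [Nat.cast_sum, Nat.cast_zero, Finset.sum_congr rfl fun t _ => hecast t j,
        FiniteField.sum_pow_units (K := ZMod p) j, ZMod.card, if_neg]
      intro hd
      exact absurd (Nat.le_of_dvd (Nat.pos_of_ne_zero h0) hd) (not_le.mpr (Finset.mem_range.mp hj))
  rw [Finset.prod_congr rfl hsum, Finset.prod_ite_eq' (Finset.range (p - 1)) 0 (fun _ => x ^ (p - 1)),
    if_pos (Finset.mem_range.mpr (Nat.sub_pos_of_lt hp.out.one_lt))] at h1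
  refine hx ?_
  have h2 := hV x
  rwa [← Nat.sub_add_cancel hp.out.one_le, pow_succ, h1, one_mul] at h2


/-- Huppert's supersolvability criterion: if every maximal subgroup of a finite group has prime index, then the group is supersolvable. -/
theorem result {G : Type*} [Group G] [Finite G] (h : ∀ M : Subgroup G, IsCoatom M → M.index.Prime) : Cfsg.IsSupersolvable G := by
  induction hn : Nat.card G using Nat.strong_induction_on generalizing G with
  | _ n ih =>
    subst hn
    rcases subsingleton_or_nontrivial G with h' | h'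
    · exact isSupersolvable_of_subsingleton
    haveI := Cfsg.Agent.S0580.result h
    have hquot : ∀ (M : Subgroup G) [M.Normal], M ≠ ⊥ → Cfsg.IsSupersolvable (G ⧸ M) := by
      intro M _ hM
      refine ih _ (CfsgLib.Components.card_quotient_lt hM) (fun L hL => ?_) rfl
      have := h _ (Subgroup.isCoatom_comap_of_surjective (QuotientGroup.mk'_surjective M) hL)
      rwa [Subgroup.index_comap_of_surjective _ (QuotientGroup.mk'_surjective M)] at this
    obtain ⟨N, hNn, hN0, hmin⟩ := CfsgLib.Components.exists_minimal_normal (G := G)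
    haveI := hNn
    by_cases huniq : ∀ K : Subgroup G, K.Normal → K ≠ ⊥ → N ≤ K
    swap
    · push Not at huniq
      obtain ⟨K, hKn, hK0, hNK⟩ := huniq
      haveI := hKn
      have hinf : N ⊓ K = ⊥ := (hmin _ inferInstance inf_le_left).resolve_right
        fun e => hNK (e.ge.trans inf_le_right)
      let f := (QuotientGroup.mk' N).prod (QuotientGroup.mk' K)
      have hf : Function.Injective f := by
        rw [injective_iff_map_eq_one]
        intro g hg
        rw [MonoidHom.prod_apply, Prod.mk_eq_one] at hg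
        rw [← Subgroup.mem_bot, ← hinf]
        exact ⟨(QuotientGroup.eq_one_iff _).mp hg.1, (QuotientGroup.eq_one_iff _).mp hg.2⟩
      exact isSupersolvable_of_surjective (f := (MonoidHom.ofInjective hf).symm.toMonoidHom)
        (MonoidHom.ofInjective hf).symm.surjective
        (isSupersolvable_subgroup (isSupersolvable_prod (hquot N hN0) (hquot K hK0)) f.range)
    obtain ⟨p', hp', hNp, hNc, hNe⟩ :=
      CfsgLib.Core.isPGroup_of_minimal_normal N inferInstance hN0 hmin
    haveI := hNc
    suffices hcyc : IsCyclic N by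
      haveI := hcyc
      exact isSupersolvable_of_quotient_cyclic N (hquot N hN0)
    by_cases hfr : ∀ M : Subgroup G, IsCoatom M → N ≤ M
    swap
    · push Not at hfr
      obtain ⟨M, hM, hNM⟩ := hfr
      have hsup : M ⊔ N = ⊤ := hM.2 _ (lt_of_le_of_ne le_sup_left fun e => hNM (e ▸ le_sup_right))
      have hMn : (M ⊓ N).Normal := by
        rw [← Subgroup.normalizer_eq_top_iff, eq_top_iff, ← hsup]
        refine sup_le ((le_inf Subgroup.le_normalizer Subgroup.le_normalizer_of_normal).trans
          Subgroup.inf_normalizer_le_normalizer_inf) (normalizer_le_of_le_centralizer ?_)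
        refine le_trans ?_ (Subgroup.centralizer_le (show ((M ⊓ N : Subgroup G) : Set G) ⊆ N from
          fun y hy => hy.2))
        exact fun u hu => Subgroup.mem_centralizer_iff.mpr fun v hv => setLike_mul_comm hv hu
      have hinf : M ⊓ N = ⊥ := (hmin _ hMn inf_le_right).resolve_right
        fun e => hNM (e.ge.trans inf_le_left)
      have hcard := CfsgLib.Core.card_sup_mul_card_inf M N Subgroup.le_normalizer_of_normal
      rw [hsup, hinf, Subgroup.card_bot, Subgroup.card_top, mul_one, ← M.card_mul_index] at hcard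
      have hNq := Nat.eq_of_mul_eq_mul_left Nat.card_pos hcard
      haveI := Fact.mk (h M hM)
      exact isCyclic_of_prime_card hNq.symm
    obtain ⟨p, hpmem, hmax⟩ := (Nat.card G).primeFactors.exists_maximal
      (Nat.nonempty_primeFactors.mpr (Finite.one_lt_card (α := G)))
    obtain ⟨hp, hpd, -⟩ := Nat.mem_primeFactors.mp hpmem
    haveI := Fact.mk hp
    obtain ⟨P⟩ : Nonempty (Sylow p G) := inferInstance
    haveI hPn : (P : Subgroup G).Normal := by
      refine largest_sylow_normal h (fun q hq hd => ?_) P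
      rcases le_total q p with h'' | h''
      · exact h''
      · exact hmax (Nat.mem_primeFactors.mpr ⟨hq, hd, Nat.card_pos.ne'⟩) h''
    have hP0 : (P : Subgroup G) ≠ ⊥ := P.ne_bot_of_dvd_card hpd
    have hNP : N ≤ (P : Subgroup G) := huniq _ hPn hP0
    have hNpp : IsPGroup p N := P.isPGroup'.to_le hNP
    haveI : Nontrivial N := (Subgroup.nontrivial_iff_ne_bot N).mpr hN0
    obtain ⟨m, hm0, hm⟩ := hNpp.nontrivial_iff_card.mp inferInstance
    have hpN : p ∣ Nat.card N := hm ▸ dvd_pow_self p (Nat.pos_iff_ne_zero.mp hm0)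
    have hOp : Cfsg.pPrimeCore p G = ⊥ := by
      by_contra hne
      exact (hp.coprime_iff_not_dvd.mp (CfsgLib.Core.coprime_card_pPrimeCore p G).symm)
        (hpN.trans (Subgroup.card_dvd_of_le (huniq _ inferInstance hne)))
    set f := QuotientGroup.mk' N with hf
    have hfs : Function.Surjective f := QuotientGroup.mk'_surjective N
    haveI := hquot N hN0
    have hOq : Cfsg.pPrimeCore p (G ⧸ N) = ⊥ := by
      by_contra hne
      set L := (Cfsg.pPrimeCore p (G ⧸ N)).comap f with hL
      haveI hLn : L.Normal := Subgroup.Normal.comap inferInstance f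
      have hNL : N ≤ L := by
        conv_lhs => rw [← QuotientGroup.ker_mk' N]
        exact Subgroup.ker_le_comap _ _
      have hLc : Nat.card L = Nat.card N * Nat.card (Cfsg.pPrimeCore p (G ⧸ N)) :=
        card_comap_mk N _
      have hidx : (N.subgroupOf L).index = Nat.card (Cfsg.pPrimeCore p (G ⧸ N)) := by
        refine Nat.eq_of_mul_eq_mul_left (Nat.card_pos (α := N.subgroupOf L)) ?_
        rw [Subgroup.card_mul_index, hLc, Nat.card_congr (Subgroup.subgroupOfEquivOfLe hNL).toEquiv]
      have hNc2 : Nat.card (N.subgroupOf L) = p ^ m := by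
        rw [Nat.card_congr (Subgroup.subgroupOfEquivOfLe hNL).toEquiv, hm]
      have hco : (Nat.card (N.subgroupOf L)).Coprime (N.subgroupOf L).index := by
        rw [hNc2, hidx]
        exact Nat.Coprime.pow_left m (CfsgLib.Core.coprime_card_pPrimeCore p (G ⧸ N)).symm
      obtain ⟨C, hC⟩ := Subgroup.exists_right_complement'_of_coprime hco
      set C' := C.map L.subtype with hC'
      have hC'c : Nat.card C' = Nat.card (Cfsg.pPrimeCore p (G ⧸ N)) := by
        rw [hC', Subgroup.card_map_of_injective L.subtype_injective, ← hC.symm.index_eq_card, hidx]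
      have hC'p : (Nat.card C').Coprime p := hC'c ▸ CfsgLib.Core.coprime_card_pPrimeCore p (G ⧸ N)
      have hC'L : C' ≤ L := Subgroup.map_subtype_le _
      have hNC : N ⊔ C' = L := by
        refine le_antisymm (sup_le hNL hC'L) fun y hy => ?_
        have h1 := hC.sup_eq_top.ge (Subgroup.mem_top (⟨y, hy⟩ : L))
        have h2 := Subgroup.mem_map_of_mem L.subtype h1
        rw [Subgroup.map_sup, Subgroup.map_subgroupOf_eq_of_le hNL] at h2
        exact h2
      have hCn : C'.Normal := by
        by_contra hCn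
        obtain ⟨M, hM, hle⟩ := (IsCoatomic.eq_top_or_exists_le_coatom _).resolve_left
          (fun e => hCn (Subgroup.normalizer_eq_top_iff.mp e))
        refine hM.1 (eq_top_iff.mpr fun g _ => ?_)
        obtain ⟨n', hn', e⟩ := CfsgLib.Core.exists_conj_eq_of_coprime (N := N) (H := C')
          (K := MulAut.conj g • C') Subgroup.le_normalizer_of_normal (by
            rw [sup_comm, hNC, ← conj_smul_self_of_mem
              (Subgroup.le_normalizer_of_normal (K := ⊤) (Subgroup.mem_top g) :
                g ∈ Subgroup.normalizer (L : Set G))]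
            exact Subgroup.pointwise_smul_le_pointwise_smul_iff.mpr hC'L)
          (card_conj g C') (hm ▸ hC'p.pow_right m) (Or.inl inferInstance)
        have hmem : n'⁻¹ * g ∈ Subgroup.normalizer (C' : Set G) := by
          refine mem_normalizer_of_conj_le ?_
          rw [map_mul, mul_smul, ← e, ← mul_smul, ← map_mul, inv_mul_cancel, map_one, one_smul]
        have := mul_mem (hfr M hM hn') (hle hmem)
        rwa [mul_inv_cancel_left] at this
      haveI := hCn
      have hC1 : C' = ⊥ := le_bot_iff.mp ((CfsgLib.Core.le_pPrimeCore hC'p).trans hOp.le)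
      rw [hC1, Subgroup.card_bot] at hC'c
      exact hne (Subgroup.card_eq_one.mp hC'c.symm)
    haveI : Group.IsSolvable (G ⧸ N) := inferInstance
    set Pb := (P : Subgroup G).map f with hPb
    haveI hPbn : Pb.Normal := Subgroup.Normal.map hPn f hfs
    have hcentPb : Subgroup.centralizer (Pb : Set (G ⧸ N)) ≤ Pb := by
      have hcore : Cfsg.pCore p (G ⧸ N) = Pb := by
        refine le_antisymm ?_ (CfsgLib.Core.le_pCore (P.isPGroup'.map f))
        have := CfsgLib.Core.pCore_le_sylow (P.mapSurjective hfs)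
        rwa [Sylow.coe_mapSurjective] at this
      have := CfsgLib.Core.centralizer_pCore_le_of_pPrimeCore_eq_bot hOq
      rwa [hcore] at this
    -- a complement of `P`
    have hPcop : (Nat.card (P : Subgroup G)).Coprime (P : Subgroup G).index := by
      rw [P.card_eq_multiplicity]
      exact Nat.Coprime.pow_left _ (hp.coprime_iff_not_dvd.mpr P.not_dvd_index)
    obtain ⟨H, hH⟩ := Subgroup.exists_right_complement'_of_coprime hPcop
    have hHp : ¬ p ∣ Nat.card H := hH.symm.index_eq_card ▸ P.not_dvd_index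
    have hHkill : ∀ a ∈ H, (∀ ψ : (G ⧸ N) →* (ZMod p)ˣ, ψ (f a) = 1) → a = 1 := by
      intro a ha hk
      have hn : f a ^ Nat.card H = 1 := by
        rw [← map_pow, show a ^ Nat.card H = 1 from
          congrArg Subtype.val (pow_card_eq_one' (x := (⟨a, ha⟩ : H))), map_one]
      have hmem := hcentPb (centralizes_pGroup (hquot N hN0) Pb (P.isPGroup'.map f) hn hHp hk)
      have haP : a ∈ (P : Subgroup G) := by
        obtain ⟨b, hb, e⟩ := hmem
        have hba : b⁻¹ * a ∈ N := by
          rw [← QuotientGroup.eq_one_iff, ← QuotientGroup.mk'_apply N, map_mul, map_inv, ← hf, e,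
            inv_mul_cancel]
        have := mul_mem hb (hNP hba)
        rwa [mul_inv_cancel_left] at this
      exact Subgroup.mem_bot.mp (hH.disjoint.le_bot ⟨haP, ha⟩)
    have hHab : ∀ a ∈ H, ∀ b ∈ H, a * b = b * a := by
      intro a ha b hb
      have := hHkill (a * b * a⁻¹ * b⁻¹) (mul_mem (mul_mem (mul_mem ha hb) (inv_mem ha)) (inv_mem hb))
        fun ψ => by simp [mul_comm (ψ (f a))]
      exact mul_inv_eq_iff_eq_mul.mp (mul_inv_eq_one.mp this)
    have hHexp : ∀ a ∈ H, a ^ (p - 1) = 1 := fun a ha =>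
      hHkill _ (pow_mem ha _) fun ψ => by
        rw [map_pow, map_pow, ← ZMod.card_units p, pow_card_eq_one]
    -- `P` centralises `N`
    have hPN : (P : Subgroup G) ≤ Subgroup.centralizer (N : Set G) := by
      haveI : (P : Subgroup G).Normal := hPn
      refine le_trans ?_ (minimal_normal_commutes_fitting hNn hN0 hmin)
      haveI := P.isPGroup'.isNilpotent
      exact CfsgLib.Core.le_fittingSubgroup inferInstance
    letI : CommGroup N := IsMulCommutative.instCommGroup
    have hNe' : ∀ v : N, v ^ p = 1 := by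
      intro v
      refine Subtype.ext ?_
      have hp'p : p' = p := by
        haveI := Fact.mk hp'
        obtain ⟨k, hk⟩ := hNp.exists_card_eq
        exact ((Nat.prime_dvd_prime_iff_eq hp hp').mp (hp.dvd_of_dvd_pow (hk ▸ hpN))).symm
      simpa [hp'p] using hNe v v.2
    have hscal : ∀ k ∈ H, ∃ s : ℕ, ∀ v : N, k * (v : G) * k⁻¹ = (v : G) ^ s := by
      intro k hk
      set φ : MulAut N := MulAut.conjNormal k with hφ
      have hφp : φ ^ (p - 1) = 1 := by rw [hφ, ← map_pow, hHexp k hk, map_one]
      obtain ⟨x, hx⟩ := exists_ne (1 : N)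
      obtain ⟨v, hv1, s, hs⟩ := exists_eigen (p := p) hNe' φ hφp hx
      let W : Subgroup G :=
        { carrier := {y | y ∈ N ∧ k * y * k⁻¹ = y ^ s}
          one_mem' := ⟨one_mem _, by simp⟩
          mul_mem' := fun {a b} ha hb => ⟨mul_mem ha.1 hb.1, by
            have hc : Commute a b := setLike_mul_comm ha.1 hb.1
            rw [hc.mul_pow, ← ha.2, ← hb.2]; group⟩
          inv_mem' := fun {a} ha => ⟨inv_mem ha.1, by rw [inv_pow, ← ha.2]; group⟩ }
      have hWn : W.Normal := by
        rw [← Subgroup.normalizer_eq_top_iff, eq_top_iff, ← hH.sup_eq_top]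
        refine sup_le (normalizer_le_of_le_centralizer ?_) (fun b hb => ?_)
        · exact hPN.trans (Subgroup.centralizer_le fun y hy => hy.1)
        · refine mem_normalizer_of_conj_le fun y hy => ?_
          rw [mem_conj_smul] at hy
          obtain ⟨hyN, hyk⟩ := hy
          have hyb : y = b * (b⁻¹ * y * b) * b⁻¹ := by group
          refine ⟨hyb ▸ hNn.conj_mem _ hyN b, ?_⟩
          rw [hyb, conj_pow, ← hyk]
          have hbk := hHab k hk b hb
          calc k * (b * (b⁻¹ * y * b) * b⁻¹) * k⁻¹
              = (k * b) * (b⁻¹ * y * b) * (k * b)⁻¹ := by group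
            _ = (b * k) * (b⁻¹ * y * b) * (b * k)⁻¹ := by rw [hbk]
            _ = b * (k * (b⁻¹ * y * b) * k⁻¹) * b⁻¹ := by group
      have hvW : (v : G) ∈ W := by
        refine ⟨v.2, ?_⟩
        have := congrArg Subtype.val hs
        simpa [hφ] using this
      have hWN : W = N := by
        refine (hmin W hWn fun y hy => hy.1).resolve_left fun e => hv1 (Subtype.ext ?_)
        rw [e, Subgroup.mem_bot] at hvW
        exact hvW
      exact ⟨s, fun y => (hWN.ge y.2).2⟩
    obtain ⟨x, hx⟩ := exists_ne (1 : N)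
    set W := Subgroup.zpowers (x : G) with hW
    have hWn : W.Normal := by
      rw [← Subgroup.normalizer_eq_top_iff, eq_top_iff, ← hH.sup_eq_top]
      refine sup_le (normalizer_le_of_le_centralizer ?_) (fun b hb => ?_)
      · exact hPN.trans (Subgroup.centralizer_le (Subgroup.zpowers_le.mpr x.2))
      · refine mem_normalizer_of_conj_le ?_
        show W.map (MulAut.conj b).toMonoidHom ≤ _
        rw [hW, MonoidHom.map_zpowers, Subgroup.zpowers_le]
        obtain ⟨s, hs⟩ := hscal b hb
        show b * (x : G) * b⁻¹ ∈ _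
        rw [hs x]
        exact Subgroup.npow_mem_zpowers _ _
    have hWN : W = N := (hmin W hWn (Subgroup.zpowers_le.mpr x.2)).resolve_left
      fun e => hx (Subtype.ext (Subgroup.zpowers_eq_bot.mp e))
    exact hWN ▸ inferInstance

end Cfsg.Agent.S0579
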