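import Cfsg.Statements.S0581
import Cfsg.Agent.Lib.SolvStruct.NilFactor
import Cfsg.Agent.Lib.Core.Misc

set_option autoImplicit false
open Pointwise
open Cfsg

namespace Cfsg.Agent.S0581

open Pointwise CfsgLib.SolvStruct
open scoped commutatorElement

theorem exists_prime_index {X : Type*} [Group X] [Finite X] [Group.IsSolvable X] [Nontrivial X] :
    ∃ (M : Subgroup X), M.Normal ∧ M.index.Prime := by
  have hne : commutator X ≠ ⊤ := (Group.IsSolvable.commutator_lt_top_of_nontrivial X).ne
  obtain ⟨M, hM, hle⟩ := (eq_top_or_exists_le_coatom (commutator X)).resolve_left hne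
  have hMn : M.Normal := by
    refine ⟨fun m hm g => ?_⟩
    have h1 : ⁅g, m⁆ ∈ M := hle (Subgroup.commutator_mem_commutator (Subgroup.mem_top g)
      (Subgroup.mem_top m))
    have := mul_mem h1 hm
    rwa [commutatorElement_def, inv_mul_cancel_right] at this
  haveI := hMn
  refine ⟨M, hMn, ?_⟩
  letI : CommGroup (X ⧸ M) :=
    { (inferInstance : Group (X ⧸ M)) with
      mul_comm := fun a b => by
        induction a using QuotientGroup.induction_on with
        | _ a =>
          induction b using QuotientGroup.induction_on with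
          | _ b =>
            rw [← QuotientGroup.mk_mul, ← QuotientGroup.mk_mul, QuotientGroup.eq]
            refine hle ?_
            have : (a * b)⁻¹ * (b * a) = ⁅b⁻¹, a⁻¹⁆ := by rw [commutatorElement_def]; group
            rw [this]
            exact Subgroup.commutator_mem_commutator (Subgroup.mem_top _) (Subgroup.mem_top _) }
  haveI : Nontrivial (X ⧸ M) := by
    rw [← Finite.one_lt_card_iff_nontrivial, ← Subgroup.index_eq_card]
    exact Subgroup.one_lt_index_of_ne_top hM.1
  haveI : IsSimpleGroup (X ⧸ M) := ⟨fun L _ => by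
    rcases hM.le_iff.mp (show M ≤ L.comap (QuotientGroup.mk' M) from
      (QuotientGroup.ker_mk' M).symm.le.trans (MonoidHom.ker_le_comap _ _)) with h | h
    · right
      rw [← Subgroup.map_comap_eq_self_of_surjective (QuotientGroup.mk'_surjective M) L, h,
        Subgroup.map_top_of_surjective _ (QuotientGroup.mk'_surjective M)]
    · left
      rw [← Subgroup.map_comap_eq_self_of_surjective (QuotientGroup.mk'_surjective M) L, h,
        QuotientGroup.map_mk'_self]⟩
  rw [Subgroup.index_eq_card]
  exact IsSimpleGroup.prime_card


/-- Let H be a nilpotent subgroup of a finite group G whose order is coprime to its index, and K a subgroup every prime divisor of whose order divides the order of H. Then K lies in some conjugate of H. -/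
theorem result {G : Type*} [Group G] [Finite G] (H K : Subgroup G) (hH : Group.IsNilpotent H) (hHall : (Nat.card H).Coprime H.index) (hK : ∀ p : ℕ, p.Prime → p ∣ Nat.card K → p ∣ Nat.card H) : ∃ x : G, K ≤ MulAut.conj x • H := by
  induction hn : Nat.card K using Nat.strong_induction_on generalizing K with
  | _ n ih =>
    subst hn
    by_cases hK0 : K = ⊥
    · exact ⟨1, hK0 ▸ bot_le⟩
    haveI := hH
    have hsub : ∀ L : Subgroup G, L ≤ K → L ≠ K → ∃ x : G, L ≤ MulAut.conj x • H := by
      intro L hL hne
      refine ih _ (lt_of_le_of_ne (Subgroup.card_le_of_le hL) fun e =>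
        hne (Subgroup.eq_of_le_of_card_ge hL e.ge)) L
        (fun p hp hd => hK p hp (hd.trans (Subgroup.card_dvd_of_le hL))) rfl
    haveI : Group.IsSolvable K := by
      refine CfsgLib.Core.isSolvable_of_maximal_nilpotent fun M hM => ?_
      obtain ⟨x, hx⟩ := hsub (M.map K.subtype) (Subgroup.map_subtype_le _) fun e => hM.1 (by
        refine Subgroup.map_injective K.subtype_injective ?_
        rw [e, ← MonoidHom.range_eq_map, Subgroup.range_subtype])
      haveI : Group.IsNilpotent (MulAut.conj x • H : Subgroup G) :=
        Group.nilpotent_of_mulEquiv (Subgroup.equivSMul (MulAut.conj x) H)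
      haveI := CfsgLib.Core.isNilpotent_of_le hx
      exact Group.nilpotent_of_mulEquiv
        (Subgroup.equivMapOfInjective M K.subtype K.subtype_injective).symm
    haveI : Nontrivial K := (Subgroup.nontrivial_iff_ne_bot K).mpr hK0
    obtain ⟨M, hMn, hMq⟩ := exists_prime_index (X := K)
    haveI := hMn
    set q := M.index with hq
    haveI := Fact.mk hMq
    obtain ⟨x, hx⟩ := hsub (M.map K.subtype) (Subgroup.map_subtype_le _) fun e => by
      have hMt : M = ⊤ := Subgroup.map_injective K.subtype_injective (by
        rw [e, ← MonoidHom.range_eq_map, Subgroup.range_subtype])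
      rw [hq, hMt, Subgroup.index_top] at hMq
      exact Nat.not_prime_one hMq
    set H' := MulAut.conj x • H with hH'
    haveI hH'n : Group.IsNilpotent H' :=
      Group.nilpotent_of_mulEquiv (Subgroup.equivSMul (MulAut.conj x) H)
    suffices h : ∃ y : G, K ≤ MulAut.conj y • H' by
      obtain ⟨y, hy⟩ := h
      exact ⟨y * x, by rwa [map_mul, mul_smul]⟩
    set C := ppart K q with hC
    have hCM : C ≤ M.map K.subtype := by
      refine (Subgroup.closure_le _).mpr ?_
      rintro y ⟨hy, hyq⟩
      refine ⟨⟨y, hy⟩, ?_, rfl⟩
      rw [SetLike.mem_coe, ← QuotientGroup.eq_one_iff, ← orderOf_eq_one_iff]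
      refine Nat.eq_one_of_dvd_coprimes (hMq.coprime_iff_not_dvd.mpr hyq) ?_ ?_
      · rw [hq, Subgroup.index_eq_card]; exact orderOf_dvd_natCard _
      · exact (orderOf_map_dvd (QuotientGroup.mk' M) (⟨y, hy⟩ : K)).trans
          (Subgroup.orderOf_mk _ _).dvd
    have hCH : C ≤ H' := hCM.trans hx
    have hCp : C ≤ ppart H' q := by
      refine (Subgroup.closure_le _).mpr ?_
      rintro y ⟨hy, hyq⟩
      exact mem_ppart (hCH (mem_ppart hy hyq)) hyq
    have hqH : q ∣ Nat.card H := hK q hMq (hq ▸ Subgroup.index_dvd_card M)
    obtain ⟨P⟩ : Nonempty (Sylow q K) := inferInstance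
    obtain ⟨S⟩ : Nonempty (Sylow q H') := inferInstance
    set L := Subgroup.normalizer (C : Set G) with hL
    have hSL : (S : Subgroup H').map H'.subtype ≤ L := by
      refine le_trans ?_ (Subgroup.centralizer_le_normalizer _)
      rw [Subgroup.le_centralizer_iff]
      exact hCp.trans (ppart_le_centralizer hH'n (S.isPGroup'.map _)
        (Subgroup.map_subtype_le _))
    have hSG : Nat.card ((S : Subgroup H').map H'.subtype) = q ^ (Nat.card L).factorization q := by
      rw [Subgroup.card_map_of_injective H'.subtype_injective, S.card_eq_multiplicity, hH', card_conj]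
      congr 1
      refine le_antisymm ?_ ?_
      · rw [← hMq.pow_dvd_iff_le_factorization Nat.card_pos.ne']
        refine dvd_trans (dvd_of_eq ?_) (Subgroup.card_dvd_of_le hSL)
        rw [Subgroup.card_map_of_injective H'.subtype_injective, S.card_eq_multiplicity, hH',
          card_conj]
      · have h1 : (Nat.card G).factorization q = (Nat.card H).factorization q := by
          rw [← H.card_mul_index, Nat.factorization_mul Nat.card_pos.ne'
            Subgroup.index_ne_zero_of_finite, Finsupp.add_apply,
            Nat.factorization_eq_zero_of_not_dvd fun hd => hMq.ne_one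
              (Nat.eq_one_of_dvd_coprimes hHall hqH hd), add_zero]
        rw [← h1]
        exact (Nat.factorization_le_iff_dvd Nat.card_pos.ne' Nat.card_pos.ne').mpr
          (Subgroup.card_subgroup_dvd_card L) q
    have hKL : K ≤ L := le_normalizer_ppart K q
    have hPL : (P : Subgroup K).map K.subtype ≤ L := (Subgroup.map_subtype_le _).trans hKL
    set P' := ((P : Subgroup K).map K.subtype).subgroupOf L with hP'
    have hSG' : Nat.card (((S : Subgroup H').map H'.subtype).subgroupOf L) =
        q ^ (Nat.card L).factorization q := by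
      rw [Nat.card_congr (Subgroup.subgroupOfEquivOfLe hSL).toEquiv, hSG]
    obtain ⟨T, hT⟩ := (IsPGroup.of_equiv (P.isPGroup'.map K.subtype)
      (Subgroup.subgroupOfEquivOfLe hPL).symm).exists_le_sylow
    obtain ⟨l, hl⟩ := MulAction.exists_smul_eq L (Sylow.ofCard _ hSG') T
    refine ⟨l, ?_⟩
    have hCl : C ≤ MulAut.conj (l : G) • H' := by
      rw [← conj_smul_self_of_mem l.2]
      exact Subgroup.pointwise_smul_le_pointwise_smul_iff.mpr hCH
    have hPl : (P : Subgroup K).map K.subtype ≤ MulAut.conj (l : G) • H' := by
      intro y hy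
      have h1 : (⟨y, hPL hy⟩ : L) ∈ (T : Subgroup L) := hT (Subgroup.mem_subgroupOf.mpr hy)
      rw [← hl, Sylow.coe_subgroup_smul, Sylow.coe_ofCard, mem_conj_smul] at h1
      rw [mem_conj_smul]
      exact Subgroup.map_subtype_le _ h1
    intro y hy
    set U := MulAut.conj (l : G) • H' with hU
    have hd : ∀ r : ℕ, r.Prime → r ∣ (U.subgroupOf K).index → False := by
      intro r hr hrd
      rcases eq_or_ne r q with rfl | hne
      · exact P.not_dvd_index (hrd.trans (Subgroup.index_dvd_of_le fun z hz =>
          hPl ⟨z, hz, rfl⟩))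
      · haveI := Fact.mk hr
        obtain ⟨R⟩ : Nonempty (Sylow r K) := inferInstance
        refine R.not_dvd_index (hrd.trans (Subgroup.index_dvd_of_le fun z hz => hCl ?_))
        refine mem_ppart z.2 ?_
        exact not_dvd_of_isPGroup (R.isPGroup'.map K.subtype) ⟨z, hz, rfl⟩ hMq hne.symm
    have htop : (U.subgroupOf K).index = 1 := by
      by_contra hne
      obtain ⟨r, hr, hrd⟩ := Nat.exists_prime_and_dvd hne
      exact hd r hr hrd
    exact Subgroup.subgroupOf_eq_top.mp (Subgroup.index_eq_one.mp htop) hy

end Cfsg.Agent.S0581
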