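import Cfsg.Statements.S0582
import Cfsg.Agent.Lib.SolvStruct.Supersolvable
import Cfsg.Agent.Lib.SolvStruct.NilFactor
import Cfsg.Agent.Lib.Core.Hall

set_option autoImplicit false
open Pointwise
open Cfsg

namespace Cfsg.Agent.S0582

open CfsgLib.SolvStruct

theorem exists_sylow_normal {G : Type*} [Group G] [Finite G] {p : ℕ} [hp : Fact p.Prime]
    {H : Subgroup G} (hH : Cfsg.IsSupersolvable H) (hHall : (Nat.card H).Coprime H.index)
    (hd : p ∣ Nat.card H) (hmax : ∀ q : ℕ, q.Prime → q ∣ Nat.card H → q ≤ p) :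
    ∃ P : Sylow p G, (P : Subgroup G) ≤ H ∧ H ≤ Subgroup.normalizer ((P : Subgroup G) : Set G) := by
  obtain ⟨S⟩ : Nonempty (Sylow p H) := inferInstance
  have hS := sylow_normal_of_largest_prime hH hmax S
  have hcard : Nat.card ((S : Subgroup H).map H.subtype) = p ^ (Nat.card G).factorization p := by
    rw [Subgroup.card_map_of_injective H.subtype_injective, S.card_eq_multiplicity]
    congr 1
    rw [← H.card_mul_index, Nat.factorization_mul Nat.card_pos.ne' Subgroup.index_ne_zero_of_finite,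
      Finsupp.add_apply, Nat.factorization_eq_zero_of_not_dvd (n := H.index) fun h =>
        hp.out.one_lt.ne' (Nat.eq_one_of_dvd_coprimes hHall hd h), add_zero]
  refine ⟨Sylow.ofCard _ hcard, ?_, ?_⟩
  · rw [Sylow.coe_ofCard]; exact Subgroup.map_subtype_le _
  · rw [Sylow.coe_ofCard]
    refine (Subgroup.normal_subgroupOf_iff_le_normalizer (Subgroup.map_subtype_le _)).mp ?_
    rw [Subgroup.subgroupOf, Subgroup.comap_map_eq_self_of_injective H.subtype_injective]
    exact hS

universe u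

theorem aux (n : ℕ) : ∀ (G : Type u) [Group G] [Finite G], ∀ H K : Subgroup G,
    Cfsg.IsSupersolvable H → Cfsg.IsSupersolvable K → Nat.card H = Nat.card K →
    (Nat.card H).Coprime H.index → Nat.card H = n → ∃ x : G, MulAut.conj x • H = K := by
  induction n using Nat.strong_induction_on with
  | _ n ih =>
  intro G _ _ H K hH hK hcard hHall hn
  subst hn
  by_cases h1 : Nat.card H = 1
  · refine ⟨1, ?_⟩
    rw [map_one, one_smul, Subgroup.card_eq_one.mp h1, Subgroup.card_eq_one.mp (hcard.symm.trans h1)]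
  obtain ⟨p, hpmem, hmax⟩ := (Nat.card H).primeFactors.exists_maximal
    (Nat.nonempty_primeFactors.mpr (lt_of_le_of_ne Nat.card_pos (Ne.symm h1)))
  have hp : p.Prime := Nat.prime_of_mem_primeFactors hpmem
  have hpd : p ∣ Nat.card H := Nat.dvd_of_mem_primeFactors hpmem
  have hmax' : ∀ q : ℕ, q.Prime → q ∣ Nat.card H → q ≤ p := fun q hq hd =>
    (le_total q p).elim id (hmax (Nat.mem_primeFactors.mpr ⟨hq, hd, Nat.card_pos.ne'⟩))
  haveI := Fact.mk hp
  have hKidx : K.index = H.index := by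
    have := K.card_mul_index.trans H.card_mul_index.symm
    rw [← hcard] at this
    exact Nat.eq_of_mul_eq_mul_left Nat.card_pos this
  obtain ⟨P, hPH, hPn⟩ := exists_sylow_normal hH hHall hpd hmax'
  obtain ⟨Q, hQK, hQn⟩ := exists_sylow_normal hK (by rw [← hcard, hKidx]; exact hHall)
    (hcard ▸ hpd) (fun q hq hd => hmax' q hq (hcard ▸ hd))
  obtain ⟨x, hx⟩ := MulAction.exists_smul_eq G P Q
  have hxQ : MulAut.conj x • (P : Subgroup G) = (Q : Subgroup G) := by
    rw [← hx]; rfl
  set H₁ := MulAut.conj x • H with hH₁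
  set N := Subgroup.normalizer ((Q : Subgroup G) : Set G) with hN
  have hQH : (Q : Subgroup G) ≤ H₁ :=
    hxQ ▸ Subgroup.pointwise_smul_le_pointwise_smul_iff.mpr hPH
  have hH₁N : H₁ ≤ N := by
    intro y hy
    rw [hH₁, mem_conj_smul] at hy
    rw [hN, ← hxQ]
    refine mem_normalizer_of_conj_le fun z hz => ?_
    rw [mem_conj_smul, mem_conj_smul] at hz
    rw [mem_conj_smul]
    have := (Subgroup.mem_normalizer_iff.mp (hPn hy) _).mp hz
    have e : x⁻¹ * z * x = x⁻¹ * y * x * (x⁻¹ * (y⁻¹ * z * y) * x) * (x⁻¹ * y * x)⁻¹ := by group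
    rwa [← e] at this
  haveI : ((Q : Subgroup G).subgroupOf N).Normal := Subgroup.normal_in_normalizer
  set f := QuotientGroup.mk' ((Q : Subgroup G).subgroupOf N) with hf
  have hsup1 : Cfsg.IsSupersolvable H₁ :=
    (isSupersolvable_congr (Subgroup.equivSMul (MulAut.conj x) H)).mp hH
  have key : ∀ {A : Subgroup G}, A ≤ N → (Q : Subgroup G) ≤ A → Cfsg.IsSupersolvable A →
      Cfsg.IsSupersolvable ((A.subgroupOf N).map f) ∧
      ((Q : Subgroup G).subgroupOf N) ≤ A.subgroupOf N ∧
      Nat.card (Q : Subgroup G) * Nat.card ((A.subgroupOf N).map f) = Nat.card A := by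
    intro A hAN hQA hA
    refine ⟨isSupersolvable_of_surjective (f := f.subgroupMap (A.subgroupOf N))
      (MonoidHom.subgroupMap_surjective f _)
      ((isSupersolvable_congr (Subgroup.subgroupOfEquivOfLe hAN)).mpr hA),
      Subgroup.comap_mono hQA, ?_⟩
    have h2 := CfsgLib.Core.card_mul_card_map_mk' ((Q : Subgroup G).subgroupOf N) (A.subgroupOf N)
      (Subgroup.comap_mono hQA)
    rwa [Nat.card_congr (Subgroup.subgroupOfEquivOfLe (hQA.trans hAN)).toEquiv,
      Nat.card_congr (Subgroup.subgroupOfEquivOfLe hAN).toEquiv] at h2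
  obtain ⟨a1, a2, a3⟩ := key hH₁N hQH hsup1
  obtain ⟨b1, b2, b3⟩ := key hQn hQK hK
  have hc1 : Nat.card H₁ = Nat.card H := card_conj x H
  have hQ1 : 1 < Nat.card (Q : Subgroup G) := by
    rw [Q.card_eq_multiplicity]
    refine Nat.one_lt_pow ?_ hp.one_lt
    exact (hp.factorization_pos_of_dvd Nat.card_pos.ne'
      (hpd.trans H.card_subgroup_dvd_card)).ne'
  have hlt : Nat.card ((H₁.subgroupOf N).map f) < Nat.card H := by
    rw [← hc1, ← a3]
    exact lt_mul_of_one_lt_left Nat.card_pos hQ1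
  obtain ⟨y, hy⟩ := ih _ hlt _ ((H₁.subgroupOf N).map f) ((K.subgroupOf N).map f) a1 b1
    (Nat.eq_of_mul_eq_mul_left (Nat.card_pos (α := (Q : Subgroup G)))
      (by rw [a3, b3, hc1, hcard]))
    (by
      rw [CfsgLib.Core.index_map_mk' _ _ a2]
      refine (hHall.coprime_dvd_left (hc1 ▸ Dvd.intro_left _ a3)).coprime_dvd_right ?_
      refine (Subgroup.relIndex_dvd_index_of_le hH₁N).trans ?_
      rw [hH₁, CfsgLib.Core.index_conj_smul]) rfl
  obtain ⟨y, rfl⟩ := QuotientGroup.mk'_surjective _ y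
  refine ⟨(y : G) * x, ?_⟩
  rw [map_mul, mul_smul, ← hH₁]
  refine Subgroup.eq_of_le_of_card_ge ?_ (by rw [card_conj, hc1, hcard])
  intro z hz
  rw [mem_conj_smul] at hz
  have hzN : z ∈ N := by
    have := mul_mem (mul_mem y.2 (hH₁N hz)) (inv_mem y.2)
    rwa [show (y : G) * ((y : G)⁻¹ * z * y) * (y : G)⁻¹ = z by group] at this
  have h2 : f ⟨z, hzN⟩ ∈ MulAut.conj (f y) • (H₁.subgroupOf N).map f := by
    rw [mem_conj_smul, ← map_inv, ← map_mul, ← map_mul]
    exact Subgroup.mem_map_of_mem f (Subgroup.mem_subgroupOf.mpr hz)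
  rw [hy] at h2
  have h3 := Subgroup.mem_comap.mpr h2
  rw [Subgroup.comap_map_eq, hf, QuotientGroup.ker_mk', sup_eq_left.mpr b2] at h3
  exact Subgroup.mem_subgroupOf.mp h3


/-- Let H and K be supersolvable subgroups of a finite group G of the same order, that order being coprime to their index. Then H and K are conjugate in G. -/
theorem result {G : Type*} [Group G] [Finite G] (H K : Subgroup G) (hH : Cfsg.IsSupersolvable H) (hK : Cfsg.IsSupersolvable K) (hcard : Nat.card H = Nat.card K) (hHall : (Nat.card H).Coprime H.index) : ∃ x : G, MulAut.conj x • H = K := by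
  exact aux _ G H K hH hK hcard hHall rfl

end Cfsg.Agent.S0582
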