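import Cfsg.Statements.S0583
import Cfsg.Agent.Lib.Components.Radicals

set_option autoImplicit false
open Cfsg

namespace Cfsg.Agent.S0583

/-- In a finite group the Fitting subgroup is contained in the centralizer of each minimal normal subgroup. -/
theorem result {G : Type*} [Group G] [Finite G] (M : Subgroup G) [M.Normal] (hM : M ≠ ⊥) (hmin : ∀ K : Subgroup G, K.Normal → K ≤ M → K = ⊥ ∨ K = M) : Cfsg.fittingSubgroup G ≤ Subgroup.centralizer (M : Set G) := by
  set F := Cfsg.fittingSubgroup G with hF
  haveI : F.Normal := CfsgLib.Components.fitting_normal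
  haveI hFn : Group.IsNilpotent F := CfsgLib.Components.fitting_isNilpotent
  rw [← Subgroup.commutator_eq_bot_iff_le_centralizer]
  rcases hmin ⁅F, M⁆ inferInstance (Subgroup.commutator_le_right F M) with h | h
  · exact h
  · exfalso
    obtain ⟨n, hn⟩ := (Subgroup.isNilpotent_iff_lowerCentralSeries F).mp hFn
    have key : ∀ k : ℕ, M ≤ F.lowerCentralSeries k := by
      intro k
      induction k with
      | zero => exact h ▸ Subgroup.commutator_le_left F M
      | succ k ih =>
        rw [Subgroup.lowerCentralSeries_succ, ← h, Subgroup.commutator_comm F M]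
        exact Subgroup.commutator_mono ih le_rfl
    exact hM (le_bot_iff.mp ((key n).trans hn.le))

end Cfsg.Agent.S0583
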