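import Cfsg.Statements.S0585
import Mathlib.GroupTheory.Frattini
import Mathlib.GroupTheory.Complement

set_option autoImplicit false
open Cfsg

namespace Cfsg.Agent.S0585

/-- If the Frattini subgroup of a finite group G is trivial, then every abelian normal subgroup of G has a complement in G. -/
theorem result {G : Type*} [Group G] [Finite G] (hΦ : frattini G = ⊥) (A : Subgroup G) [A.Normal] [IsMulCommutative A] : ∃ H : Subgroup G, Subgroup.IsComplement' A H := by
  obtain ⟨H, hH, hmin⟩ := Set.Finite.exists_minimal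
    (s := {H : Subgroup G | A ⊔ H = ⊤}) (Set.toFinite _) ⟨⊤, sup_top_eq A⟩
  refine ⟨H, ?_⟩
  have hdis : A ⊓ H = ⊥ := by
    haveI hn : (A ⊓ H).Normal := by
      rw [← Subgroup.normalizer_eq_top_iff, eq_top_iff, ← (show A ⊔ H = ⊤ from hH)]
      refine sup_le ?_ ?_
      · refine le_trans ?_ (Subgroup.centralizer_le_normalizer _)
        intro a ha
        rw [Subgroup.mem_centralizer_iff]
        exact fun z hz => congrArg Subtype.val (mul_comm' (⟨z, hz.1⟩ : A) ⟨a, ha⟩)
      · refine le_trans ?_ Subgroup.inf_normalizer_le_normalizer_inf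
        exact le_inf Subgroup.le_normalizer_of_normal Subgroup.le_normalizer
    by_contra hne
    obtain ⟨M, hM, hAM⟩ : ∃ M : Subgroup G, IsCoatom M ∧ ¬ A ⊓ H ≤ M := by
      by_contra hall
      push Not at hall
      exact hne (le_bot_iff.mp (hΦ ▸ le_iInf₂ fun M hM => hall M hM))
    have htop : (A ⊓ H) ⊔ M = ⊤ :=
      hM.2 _ (lt_of_le_of_ne le_sup_right fun h => hAM (h ▸ le_sup_left))
    have hHle : H ≤ (A ⊓ H) ⊔ (M ⊓ H) := by
      intro x hx
      obtain ⟨a, ha, m, hm, e⟩ := Subgroup.mem_sup_of_normal_left.mp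
        (show x ∈ (A ⊓ H) ⊔ M by rw [htop]; trivial)
      subst e
      exact Subgroup.mul_mem_sup ha ⟨hm, (H.mul_mem_cancel_left ha.2).mp hx⟩
    have hA' : A ⊔ (M ⊓ H) = ⊤ := by
      rw [eq_top_iff, ← (show A ⊔ H = ⊤ from hH)]
      exact sup_le le_sup_left (hHle.trans (sup_le_sup_right inf_le_left _))
    exact hAM (inf_le_right.trans ((hmin hA' inf_le_right).trans inf_le_left))
  exact Subgroup.isComplement'_of_disjoint_and_mul_eq_univ (disjoint_iff.mpr hdis)
    (by rw [← Subgroup.normal_mul, show A ⊔ H = ⊤ from hH, Subgroup.coe_top])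

end Cfsg.Agent.S0585
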