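import Cfsg.Statements.S0586
import Mathlib.Algebra.Group.Subgroup.Order
import Cfsg.Agent.S0575
import Cfsg.Agent.S0585
import Cfsg.Agent.Lib.Components.Radicals

set_option autoImplicit false
open Cfsg

namespace Cfsg.Agent.S0586

/-- If the Frattini subgroup of a finite group G is trivial, then the Fitting subgroup of G equals the join of all abelian minimal normal subgroups of G. -/
theorem result {G : Type*} [Group G] [Finite G] (hΦ : frattini G = ⊥) : Cfsg.fittingSubgroup G = sSup {N : Subgroup G | N.Normal ∧ N ≠ ⊥ ∧ IsMulCommutative N ∧ ∀ K : Subgroup G, K.Normal → K ≤ N → K = ⊥ ∨ K = N} := by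
  set F := Cfsg.fittingSubgroup G with hF
  set S := sSup {N : Subgroup G | N.Normal ∧ N ≠ ⊥ ∧ IsMulCommutative N ∧
    ∀ K : Subgroup G, K.Normal → K ≤ N → K = ⊥ ∨ K = N} with hS
  haveI hFn : F.Normal := CfsgLib.Components.fitting_normal
  haveI hFnil : Group.IsNilpotent F := CfsgLib.Components.fitting_isNilpotent
  haveI hFc : IsMulCommutative F := by
    have h1 : commutator F ≤ frattini F := by
      refine le_iInf₂ fun M hM => ?_
      haveI : M.Normal := Subgroup.NormalizerCondition.normal_of_coatom M Group.normalizerCondition_of_isNilpotent hM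
      have hs : IsSimpleGroup (↥F ⧸ M) := by
        haveI : Nontrivial (↥F ⧸ M) := by
          by_contra h'
          rw [not_nontrivial_iff_subsingleton] at h'
          exact hM.1 (top_le_iff.mp fun x _ => (QuotientGroup.eq_one_iff x).mp (Subsingleton.elim _ _))
        refine ⟨fun K _ => ?_⟩
        have hle : M ≤ K.comap (QuotientGroup.mk' M) := by
          conv_lhs => rw [← QuotientGroup.ker_mk' M]
          exact Subgroup.ker_le_comap _ _
        rcases hM.le_iff.mp hle with h | h
        · right
          rw [← Subgroup.map_comap_eq_self_of_surjective (QuotientGroup.mk'_surjective M) K, h,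
            Subgroup.map_top_of_surjective _ (QuotientGroup.mk'_surjective M)]
        · left
          rw [← Subgroup.map_comap_eq_self_of_surjective (QuotientGroup.mk'_surjective M) K, h,
            Subgroup.map_eq_bot_iff, QuotientGroup.ker_mk']
      rw [← Subgroup.Normal.quotient_commutative_iff_commutator_le]
      exact ⟨⟨IsSimpleGroup.comm_iff_isSolvable.mpr inferInstance⟩⟩
    have h2 : (frattini ↥F).map F.subtype = ⊥ :=
      le_bot_iff.mp ((Cfsg.Agent.S0575.result F).trans hΦ.le)
    rw [← Subgroup.commutator_self_eq_bot_iff, ← Subgroup.map_subtype_commutator, ← le_bot_iff, ← h2]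
    exact Subgroup.map_mono h1
  have hSF : S ≤ F := sSup_le fun N hN => by
    haveI := hN.2.2.1
    exact CfsgLib.Components.le_fitting hN.1 (Subgroup.isNilpotent_of_lowerCentralSeries_eq_bot
      (n := 1) (by rw [Subgroup.lowerCentralSeries_succ, Subgroup.lowerCentralSeries_zero,
        Subgroup.commutator_self_eq_bot_iff]; infer_instance))
  haveI hSn : S.Normal := Subgroup.sSup_normal _ fun _ h => h.1
  haveI : IsMulCommutative S := ⟨⟨fun a b =>
    Subtype.ext (congrArg Subtype.val (mul_comm' (⟨a, hSF a.2⟩ : F) ⟨b, hSF b.2⟩) :)⟩⟩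
  obtain ⟨H, hH⟩ := Cfsg.Agent.S0585.result hΦ S
  refine le_antisymm ?_ hSF
  have hHF : F ⊓ H = ⊥ := by
    by_contra hne
    haveI : (F ⊓ H).Normal := by
      rw [← Subgroup.normalizer_eq_top_iff, eq_top_iff, ← hH.sup_eq_top]
      refine sup_le ?_ ((le_inf Subgroup.le_normalizer_of_normal Subgroup.le_normalizer).trans
        Subgroup.inf_normalizer_le_normalizer_inf)
      refine le_trans ?_ (Subgroup.centralizer_le_normalizer _)
      exact hSF.trans ((Subgroup.le_centralizer_iff_isMulCommutative.mpr hFc).trans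
        (Subgroup.centralizer_le (fun x hx => hx.1)))
    obtain ⟨N, hNn, hN0, hNle, hNmin⟩ :=
      CfsgLib.Components.exists_minimal_normal_le (N := F ⊓ H) inferInstance hne
    have hNS : N ≤ S := le_sSup ⟨hNn, hN0, ⟨⟨fun a b => Subtype.ext (congrArg Subtype.val
      (mul_comm' (⟨a, (hNle a.2).1⟩ : F) ⟨b, (hNle b.2).1⟩) :)⟩⟩, hNmin⟩
    exact hN0 (le_bot_iff.mp ((le_inf hNS (hNle.trans inf_le_right)).trans hH.disjoint.le_bot))
  intro x hx
  obtain ⟨s, hs, t, ht, rfl⟩ := Subgroup.mem_sup_of_normal_left.mp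
    (show x ∈ S ⊔ H by rw [hH.sup_eq_top]; trivial)
  have ht' : t ∈ F ⊓ H := Subgroup.mem_inf.mpr ⟨(F.mul_mem_cancel_left (hSF hs)).mp hx, ht⟩
  rw [hHF, Subgroup.mem_bot] at ht'
  rwa [ht', mul_one]

end Cfsg.Agent.S0586
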