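import Cfsg.Statements.S0587
import Cfsg.Agent.Lib.SolvStruct.Primitive

set_option autoImplicit false
open Cfsg

namespace Cfsg.Agent.S0587

/-- Let G be a finite group whose largest normal p-subgroup L is nontrivial, and M a maximal subgroup of G with trivial normal core. Then L is elementary abelian, M is a complement to L, L is a minimal normal subgroup of G, the centralizer of L is L, and for every prime q such that the largest normal q-subgroup of M is nontrivial, the order of L is congruent to 1 modulo q and q ≠ p. -/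
theorem result {G : Type*} [Group G] [Finite G] (p : ℕ) [Fact p.Prime] (hL : Cfsg.pCore p G ≠ ⊥) (M : Subgroup G) (hM : IsCoatom M) (hcore : M.normalCore = ⊥) : Cfsg.IsElementaryAbelian p (Cfsg.pCore p G) ∧ Subgroup.IsComplement' (Cfsg.pCore p G) M ∧ (∀ K : Subgroup G, K.Normal → K ≤ Cfsg.pCore p G → K = ⊥ ∨ K = Cfsg.pCore p G) ∧ Subgroup.centralizer ((Cfsg.pCore p G : Subgroup G) : Set G) = Cfsg.pCore p G ∧ ∀ (q : ℕ) [Fact q.Prime], Cfsg.pCore q ↥M ≠ ⊥ → Nat.card (Cfsg.pCore p G) % q = 1 % q ∧ q ≠ p := by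
  haveI hLn : (Cfsg.pCore p G).Normal := CfsgLib.Components.pCore_normal p
  have hLp : IsPGroup p (Cfsg.pCore p G) := CfsgLib.Components.pCore_isPGroup p
  obtain ⟨N, hNn, hN0, hNL, hNmin⟩ := CfsgLib.Components.exists_minimal_normal_le hLn hL
  haveI := hNn
  haveI : Group.IsNilpotent N := (hLp.to_le hNL).isNilpotent
  have hNc : IsMulCommutative N :=
    CfsgLib.Core.commutative_of_minimal_normal N inferInstance hN0 hNmin
  obtain ⟨hCN, hcomp, -⟩ := CfsgLib.SolvStruct.abelian_normal_structure hM hcore hNn hN0 hNc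
  have hLN : Cfsg.pCore p G = N := le_antisymm
    (((CfsgLib.Components.pCore_le_fitting p).trans
      (CfsgLib.SolvStruct.minimal_normal_commutes_fitting hNn hN0 hNmin)).trans hCN.le) hNL
  obtain ⟨r, hr, hrN⟩ := CfsgLib.Core.exists_prime_pow_eq_one_of_minimal_normal N hNc hN0 hNmin
  have hrp : r = p := by
    obtain ⟨⟨x, hx⟩, hx1⟩ := Subgroup.ne_bot_iff_exists_ne_one.mp hN0
    have hx1' : x ≠ 1 := fun h => hx1 (Subtype.ext h)
    have := Fact.mk hr
    have ho : orderOf x = r := orderOf_eq_prime (hrN x hx) hx1'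
    obtain ⟨k, hk⟩ := (hLp.to_le hNL) ⟨x, hx⟩
    have h2 : r ∣ p ^ k := ho ▸ orderOf_dvd_of_pow_eq_one (congrArg Subtype.val hk)
    exact (Nat.prime_dvd_prime_iff_eq hr Fact.out).mp (hr.dvd_of_dvd_pow h2)
  subst hrp
  refine ⟨?_, hLN ▸ hcomp, hLN ▸ hNmin, hLN ▸ hCN, ?_⟩
  · rw [hLN]
    exact ⟨hNc, hrN⟩
  intro q _ hQne
  rw [hLN]
  set Q := (Cfsg.pCore q ↥M).map M.subtype with hQ
  have hQp : IsPGroup q Q := (CfsgLib.Components.pCore_isPGroup q).map _
  have hQM : Q ≤ M := Subgroup.map_subtype_le _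
  have hQ0 : Q ≠ ⊥ := fun h => hQne (Subgroup.map_injective M.subtype_injective
    (h.trans (Subgroup.map_bot _).symm))
  have hMQ : M ≤ Subgroup.normalizer (Q : Set G) := by
    rw [← Subgroup.normal_subgroupOf_iff_le_normalizer hQM]
    rw [hQ, Subgroup.subgroupOf, Subgroup.comap_map_eq_self_of_injective M.subtype_injective]
    exact CfsgLib.Components.pCore_normal q
  have hfix : N ⊓ Subgroup.centralizer (Q : Set G) = ⊥ := by
    refine (hNmin _ (CfsgLib.SolvStruct.normal_map_subtype_of_le hCN.ge hcomp.sup_eq_top inf_le_left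
      ?_) inf_le_left).resolve_right fun h => hQ0 ?_
    · refine le_trans ?_ Subgroup.inf_normalizer_le_normalizer_inf
      refine le_inf Subgroup.le_normalizer_of_normal (hMQ.trans ?_)
      exact Subgroup.le_normalizer_iff.mpr fun g hg x hx => Subgroup.mem_centralizer_iff.mpr
        fun y hy => by
          have hy' : g⁻¹ * y * g ∈ Q :=
            (Subgroup.mem_normalizer_iff''.mp hg y).mp hy
          have := Subgroup.mem_centralizer_iff.mp hx _ hy'
          calc y * (g * x * g⁻¹) = g * (g⁻¹ * y * g * x) * g⁻¹ := by group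
            _ = g * (x * (g⁻¹ * y * g)) * g⁻¹ := by rw [this]
            _ = g * x * g⁻¹ * y := by group
    · have hNQ : N ≤ Subgroup.centralizer (Q : Set G) := h ▸ inf_le_right
      refine le_bot_iff.mp ((le_inf ((Subgroup.le_centralizer_iff.mp hNQ).trans hCN.le) hQM).trans
        hcomp.disjoint.le_bot)
  obtain ⟨⟨x, hx⟩, hx1⟩ := Subgroup.ne_bot_iff_exists_ne_one.mp hQ0
  let _ : MulAction Q N := MulAction.compHom N
    ((MulAut.conjNormal (H := N)).comp Q.subtype)
  have hfp : Nat.card (MulAction.fixedPoints Q N) = 1 := by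
    rw [Nat.card_eq_one_iff_unique]
    refine ⟨⟨fun a b => ?_⟩, ⟨⟨1, fun g => map_one (MulAut.conjNormal (H := N) (g : G))⟩⟩⟩
    suffices key : ∀ c : MulAction.fixedPoints Q N, ((c : N) : G) = 1 from
      Subtype.ext (Subtype.ext ((key a).trans (key b).symm))
    intro c
    have : ((c : N) : G) ∈ N ⊓ Subgroup.centralizer (Q : Set G) := by
      refine Subgroup.mem_inf.mpr ⟨(c : N).2, Subgroup.mem_centralizer_iff.mpr fun y hy => ?_⟩
      have h2 : y * ((c : N) : G) * y⁻¹ = ((c : N) : G) :=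
        congrArg (Subtype.val : N → G) (c.2 ⟨y, hy⟩)
      exact mul_inv_eq_iff_eq_mul.mp h2
    rwa [hfix, Subgroup.mem_bot] at this
  have hmod : Nat.card N % q = 1 % q := by
    have := hQp.card_modEq_card_fixedPoints N
    rwa [hfp] at this
  refine ⟨hmod, fun hqp => ?_⟩
  subst hqp
  obtain ⟨k, hk⟩ := (hLp.to_le hNL).exists_card_eq
  rcases k with _ | k
  · rw [pow_zero] at hk
    exact hN0 (Subgroup.card_eq_one.mp hk)
  · rw [hk, Nat.pow_mod, Nat.mod_self, zero_pow (Nat.succ_ne_zero k), Nat.zero_mod,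
      Nat.one_mod_eq_one.mpr (Fact.out : q.Prime).ne_one] at hmod
    exact zero_ne_one hmod

end Cfsg.Agent.S0587
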