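import Cfsg.Statements.S0588
import Mathlib.GroupTheory.Sylow

set_option autoImplicit false
open Cfsg

namespace Cfsg.Agent.S0588

/-- If a subgroup H of a finite group G contains the centralizer of every non-identity element of H, then the order of H is coprime to its index. -/
theorem result {G : Type*} [Group G] [Finite G] (H : Subgroup G) (h : ∀ x ∈ H, x ≠ 1 → Subgroup.centralizer ({x} : Set G) ≤ H) : (Nat.card H).Coprime H.index := by
  haveI : Finite H := inferInstance
  refine Nat.coprime_of_dvd fun p hp hpH hpI => ?_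
  haveI := Fact.mk hp
  obtain ⟨P⟩ : Nonempty (Sylow p H) := inferInstance
  obtain ⟨S, hPS⟩ := (P.isPGroup'.map H.subtype).exists_le_sylow
  haveI hSn : Nontrivial (S : Subgroup G) :=
    (Subgroup.nontrivial_iff_ne_bot _).mpr fun hb => by
      rw [hb, le_bot_iff, Subgroup.map_eq_bot_iff, Subgroup.ker_subtype, le_bot_iff] at hPS
      exact P.not_dvd_index (by rw [hPS, Subgroup.index_bot]; exact hpH)
  haveI := S.isPGroup'.center_nontrivial
  obtain ⟨⟨z, hzc⟩, hz1⟩ := exists_ne (1 : Subgroup.center (S : Subgroup G))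
  have hcen : ∀ y ∈ (S : Subgroup G), y * (z : G) = z * y := fun y hy =>
    congrArg Subtype.val (Subgroup.mem_center_iff.mp hzc ⟨y, hy⟩)
  have hzH : (z : G) ∈ H := by
    obtain ⟨x, hx, hx1⟩ := (Subgroup.ne_bot_iff_exists_ne_one).mp
      (show (P : Subgroup H) ≠ ⊥ from fun hb => P.not_dvd_index (by
        rw [hb, Subgroup.index_bot]; exact hpH)) |> fun ⟨x, hx⟩ => (⟨(x : H), x.2, fun h1 => hx (Subtype.ext h1)⟩ : ∃ x : H, x ∈ (P : Subgroup H) ∧ x ≠ 1)
    have hxS : (x : G) ∈ (S : Subgroup G) := hPS (Subgroup.mem_map_of_mem _ hx)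
    refine h x x.2 (fun h1 => hx1 (Subtype.ext h1)) ?_
    rw [Subgroup.mem_centralizer_singleton_iff]
    exact (hcen x hxS).symm
  have hSH : (S : Subgroup G) ≤ H := fun y hy => by
    refine h z hzH (fun h1 => hz1 (Subtype.ext (Subtype.ext h1))) ?_
    rw [Subgroup.mem_centralizer_singleton_iff]
    exact hcen y hy
  exact S.not_dvd_index (hpI.trans (Subgroup.index_dvd_of_le hSH))

end Cfsg.Agent.S0588
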