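import Cfsg.Statements.S0589
import Cfsg.Agent.Lib.Char.Frobenius
import Cfsg.Agent.S0588

set_option autoImplicit false
open Pointwise
open Cfsg

namespace Cfsg.Agent.S0589

open scoped Pointwise

/-- A subgroup TI family covers at least half of a group. -/
theorem half_cover {X : Type*} [Group X] [Finite X] (K : Subgroup X) (hK0 : K ≠ ⊥)
    (hTI : ∀ g : X, g ∉ K → K ⊓ (MulAut.conj g • K) = ⊥) :
    Nat.card X ≤ 2 * Nat.card {x : X // x ≠ 1 ∧ ∃ g : X, x ∈ MulAut.conj g • K} := by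
  set C := {x : X // x ≠ 1 ∧ ∃ g : X, x ∈ MulAut.conj g • K}
  let f : (X ⧸ K) × {k : K // k ≠ 1} → C := fun z =>
    ⟨z.1.out * (z.2.1 : X) * z.1.out⁻¹, by
      refine ⟨fun h => z.2.2 (Subtype.ext ?_), z.1.out, (z.2.1 : X), z.2.1.2, rfl⟩
      rw [mul_inv_eq_one, mul_eq_left] at h
      exact h⟩
  have hf : Function.Injective f := by
    rintro ⟨q₁, k₁, hk₁⟩ ⟨q₂, k₂, hk₂⟩ h
    have h' : q₁.out * (k₁ : X) * q₁.out⁻¹ = q₂.out * (k₂ : X) * q₂.out⁻¹ :=
      congrArg Subtype.val h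
    have hmem : q₁.out⁻¹ * q₂.out ∈ K := by
      by_contra hg
      refine hk₁ (Subtype.ext (Subgroup.mem_bot.mp ?_))
      rw [← hTI _ hg]
      refine Subgroup.mem_inf.mpr ⟨k₁.2, (k₂ : X), k₂.2, ?_⟩
      show (q₁.out⁻¹ * q₂.out) * (k₂ : X) * (q₁.out⁻¹ * q₂.out)⁻¹ = k₁
      calc _ = q₁.out⁻¹ * (q₂.out * (k₂ : X) * q₂.out⁻¹) * q₁.out := by group
        _ = k₁ := by rw [← h']; group
    have hq : q₁ = q₂ := by
      rw [← q₁.out_eq, ← q₂.out_eq]
      exact QuotientGroup.eq.mpr hmem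
    subst hq
    simp only [Prod.mk.injEq, true_and]
    exact Subtype.ext (Subtype.ext (mul_left_cancel (mul_right_cancel h')))
  have h1 := Nat.card_le_card_of_injective f hf
  rw [Nat.card_prod, ← Subgroup.index_eq_card] at h1
  have h2 : 1 < Nat.card K := K.one_lt_card_iff_ne_bot.mpr hK0
  have h3 : Nat.card {k : K // k ≠ 1} + 1 = Nat.card K := by
    classical
    have := Fintype.ofFinite K
    rw [Nat.card_eq_fintype_card, Nat.card_eq_fintype_card, Fintype.card_subtype_compl,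
      Fintype.card_subtype_eq]
    have : 0 < Fintype.card K := Fintype.card_pos
    omega
  calc Nat.card X = K.index * Nat.card K := (K.index_mul_card).symm
    _ ≤ K.index * (2 * Nat.card {k : K // k ≠ 1}) := Nat.mul_le_mul_left _ (by omega)
    _ ≤ 2 * Nat.card C := by rw [Nat.mul_left_comm]; exact Nat.mul_le_mul_left _ h1


/-- Let H be a Frobenius complement in a finite group G and L a subgroup of G whose order divides the order of H. Then L is contained in some conjugate of H. -/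
theorem result {G : Type*} [Group G] [Finite G] (H : Subgroup G) (hH : Cfsg.IsFrobeniusComplement H) (L : Subgroup G) (hL : Nat.card L ∣ Nat.card H) : ∃ x : G, L ≤ MulAut.conj x • H := by
  have := Fintype.ofFinite G
  obtain ⟨N, hN, hNn, hNc⟩ := CfsgLib.Frobenius.exists_normal_complement hH
  -- every nontrivial element of `L` lies in a conjugate of `H`
  have hcop : (Nat.card H).Coprime H.index := by
    refine Cfsg.Agent.S0588.result H fun x hx hx1 y hy => ?_
    refine CfsgLib.Frobenius.mem_of_conj_mem hH hx hx1 ?_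
    have h2 : y * x = x * y := Subgroup.mem_centralizer_singleton_iff.mp hy
    rwa [show y⁻¹ * x * y = x by rw [mul_assoc, ← h2, inv_mul_cancel_left]]
  have hcov : ∀ x ∈ L, x ≠ 1 → ∃ g : G, x ∈ MulAut.conj g • H := by
    intro x hx hx1
    by_contra hno
    push Not at hno
    have hxN : x ∈ N := by
      rw [← SetLike.mem_coe, hN]
      exact Or.inr hno
    apply hx1
    rw [← orderOf_eq_one_iff]
    refine Nat.dvd_one.mp (hcop.gcd_eq_one ▸ Nat.dvd_gcd
      ((Subgroup.orderOf_dvd_natCard L hx).trans hL) ?_)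
    rw [hNc.index_eq_card]
    exact Subgroup.orderOf_dvd_natCard N hxN
  by_cases hL1 : L = ⊥
  · exact ⟨1, hL1 ▸ bot_le⟩
  obtain ⟨⟨x, hx⟩, hx1⟩ := Subgroup.ne_bot_iff_exists_ne_one.mp hL1
  obtain ⟨a, ha⟩ := hcov x hx (fun h => hx1 (Subtype.ext h))
  refine ⟨a, ?_⟩
  -- subgroups of the form `L ⊓ H^c` are TI in `L`
  have hTI : ∀ (c : G) (g : L), g ∉ (MulAut.conj c • H).subgroupOf L →
      (MulAut.conj c • H).subgroupOf L ⊓ (MulAut.conj g • (MulAut.conj c • H).subgroupOf L) = ⊥ := by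
    intro c g hg
    rw [Subgroup.eq_bot_iff_forall]
    intro z hz
    obtain ⟨hz1, w, hw, hwz⟩ := Subgroup.mem_inf.mp hz
    have hgc : c⁻¹ * (g : G) * c ∉ H := fun hh => hg (by
      rw [Subgroup.mem_subgroupOf, CfsgLib.Frobenius.mem_conj_smul]; exact hh)
    have hh := hH.2.2 _ hgc
    refine Subtype.ext ?_
    have hmem : c⁻¹ * (z : G) * c ∈ H ⊓ (MulAut.conj (c⁻¹ * (g : G) * c) • H) := by
      refine Subgroup.mem_inf.mpr ⟨CfsgLib.Frobenius.mem_conj_smul.mp hz1, ?_⟩
      rw [CfsgLib.Frobenius.mem_conj_smul, ← hwz]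
      have := CfsgLib.Frobenius.mem_conj_smul.mp hw
      simpa [mul_assoc] using this
    rw [hh, Subgroup.mem_bot, mul_eq_one_iff_eq_inv, mul_eq_left] at hmem
    simpa using hmem
  by_contra hle
  set Ka := (MulAut.conj a • H).subgroupOf L with hKa
  have hKa0 : Ka ≠ ⊥ := fun h => hx1 (Subgroup.mem_bot.mp (h ▸ (ha : (⟨x, hx⟩ : L) ∈ Ka)))
  have h1 := half_cover Ka hKa0 (hTI a)
  set C := {z : L // z ≠ 1 ∧ ∃ g : L, z ∈ MulAut.conj g • Ka}
  -- an element outside the conjugates of `Ka`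
  obtain ⟨y, hy1, hy⟩ : ∃ y : L, y ≠ 1 ∧ ∀ g : L, y ∉ MulAut.conj g • Ka := by
    by_contra hall
    push Not at hall
    -- a group is not the union of the conjugates of a proper subgroup
    have hne : Ka ≠ ⊤ := fun h => hle (Subgroup.subgroupOf_eq_top.mp h)
    let f : (L ⧸ Ka) × {k : Ka // k ≠ 1} → {z : L // z ≠ 1} := fun u =>
      ⟨u.1.out * (u.2.1 : L) * u.1.out⁻¹, fun h => u.2.2 (Subtype.ext (by
        rw [mul_inv_eq_one, mul_eq_left] at h; exact h))⟩
    have hsurj : Function.Surjective f := by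
      rintro ⟨z, hz⟩
      obtain ⟨g, w, hw, hwz⟩ := hall z hz
      have hk : (QuotientGroup.mk g : L ⧸ Ka).out⁻¹ * z * (QuotientGroup.mk g : L ⧸ Ka).out ∈ Ka := by
        obtain ⟨k, hk⟩ := QuotientGroup.mk_out_eq_mul Ka g
        rw [hk, ← hwz]
        show (g * (k : L))⁻¹ * (g * w * g⁻¹) * (g * k) ∈ Ka
        rw [show (g * (k : L))⁻¹ * (g * w * g⁻¹) * (g * k) = (k : L)⁻¹ * w * k by group]
        exact mul_mem (mul_mem (inv_mem k.2) hw) k.2
      refine ⟨(QuotientGroup.mk g, ⟨⟨_, hk⟩, fun h => hz ?_⟩), Subtype.ext ?_⟩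
      · have h' := congrArg Subtype.val h
        rwa [Subgroup.coe_one, mul_eq_one_iff_eq_inv, mul_eq_left] at h'
      · show _ * _ * _ = z
        group
    have h2 := Nat.card_le_card_of_surjective f hsurj
    classical
    have := Fintype.ofFinite L
    have := Fintype.ofFinite Ka
    rw [Nat.card_prod, ← Subgroup.index_eq_card] at h2
    simp only [Nat.card_eq_fintype_card, Fintype.card_subtype_compl, Fintype.card_subtype_eq] at h2
    have h3 := Ka.index_mul_card
    simp only [Nat.card_eq_fintype_card] at h3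
    have h4 : 1 < Ka.index := Subgroup.one_lt_index_of_ne_top hne
    have h5 : 0 < Fintype.card Ka := Fintype.card_pos
    rw [Nat.mul_sub, mul_one, h3] at h2
    have h6 : Ka.index ≤ Fintype.card L := h3 ▸ Nat.le_mul_of_pos_right _ h5
    omega
  obtain ⟨b, hb⟩ := hcov y y.2 (fun h => hy1 (Subtype.ext h))
  set Kb := (MulAut.conj b • H).subgroupOf L
  have hKb0 : Kb ≠ ⊥ := fun h => hy1 (Subgroup.mem_bot.mp (h ▸ (hb : y ∈ Kb)))
  have h2 := half_cover Kb hKb0 (hTI b)
  set D := {z : L // z ≠ 1 ∧ ∃ g : L, z ∈ MulAut.conj g • Kb}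
  have hdisj : ∀ z : L, z ≠ 1 → (∃ g : L, z ∈ MulAut.conj g • Ka) →
      ¬ ∃ g : L, z ∈ MulAut.conj g • Kb := by
    rintro z hz ⟨g, u, hu, rfl⟩ ⟨g', v, hv, e⟩
    apply hy (g'⁻¹ * g)
    rw [CfsgLib.Frobenius.mem_conj_smul]
    have e' : (g' : G) * v * (g' : G)⁻¹ = g * u * (g : G)⁻¹ := congrArg Subtype.val e
    have hu0 := CfsgLib.Frobenius.mem_conj_smul.mp hu
    have hv0 := CfsgLib.Frobenius.mem_conj_smul.mp hv
    simp only [Subgroup.coe_subtype] at hu0 hv0
    have hu1 : a⁻¹ * (u : G) * a ≠ 1 := fun h1 => hz (by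
      rw [mul_eq_one_iff_eq_inv, mul_eq_left] at h1
      rw [show u = 1 from Subtype.ext h1]; exact map_one _)
    have hc : a⁻¹ * ((g : G)⁻¹ * g') * b ∈ H := by
      refine CfsgLib.Frobenius.mem_of_conj_mem hH hu0 hu1 ?_
      rw [show (a⁻¹ * ((g : G)⁻¹ * g') * b)⁻¹ * (a⁻¹ * (u : G) * a) *
          (a⁻¹ * ((g : G)⁻¹ * g') * b) = b⁻¹ * (g' : G)⁻¹ * ((g : G) * u * (g : G)⁻¹) * g' * b by group,
        ← e']
      rw [show b⁻¹ * (g' : G)⁻¹ * ((g' : G) * v * (g' : G)⁻¹) * g' * b = b⁻¹ * v * b by group]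
      exact hv0
    rw [Subgroup.mem_subgroupOf, CfsgLib.Frobenius.mem_conj_smul]
    have hy' := CfsgLib.Frobenius.mem_conj_smul.mp hb
    have h3 := mul_mem (mul_mem hc hy') (inv_mem hc)
    simp only [Subgroup.coe_mul, Subgroup.coe_inv]
    rw [show a⁻¹ * (((g' : G)⁻¹ * g)⁻¹ * y * ((g' : G)⁻¹ * g)) * a =
      a⁻¹ * ((g : G)⁻¹ * g') * b * (b⁻¹ * (y : G) * b) * (a⁻¹ * ((g : G)⁻¹ * g') * b)⁻¹ by group]
    exact h3
  classical
  have hsum : Nat.card C + Nat.card D + 1 ≤ Nat.card L := by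
    let f : Option (C ⊕ D) → L := fun o => o.elim 1 (Sum.elim (fun c => c.1) (fun d => d.1))
    have hf : Function.Injective f := by
      rintro (_ | (c | d)) (_ | (c' | d')) h <;> simp only [f, Option.elim, Sum.elim_inl, Sum.elim_inr] at h
      · rfl
      · exact absurd h.symm c'.2.1
      · exact absurd h.symm d'.2.1
      · exact absurd h c.2.1
      · rw [Subtype.ext h]
      · exact absurd (h ▸ d'.2.2) (hdisj _ c.2.1 c.2.2)
      · exact absurd h d.2.1
      · exact absurd (h ▸ d.2.2) (hdisj _ c'.2.1 c'.2.2)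
      · rw [Subtype.ext h]
    have := Nat.card_le_card_of_injective f hf
    rwa [Finite.card_option, Nat.card_sum] at this
  omega

end Cfsg.Agent.S0589
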