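import Cfsg.Statements.S0592
import Cfsg.Agent.Lib.PLocal.SLTwo.Rep
import Mathlib.FieldTheory.Finite.Basic

set_option autoImplicit false
open Cfsg
open Subgroup CfsgLib.PLocal
open scoped commutatorElement

namespace Cfsg.Agent.S0592

/-- Two quadratically acting generators of a linear group that is not a p-group, with the p'-part of the order of their product dividing q - 1, give a homomorphism onto a subgroup of SL(2, q) that is not a p-group. -/
theorem result {K : Type*} [Field K] [Fintype K] {p : ℕ} [Fact p.Prime] [CharP K p] {W : Type*} [AddCommGroup W] [Module K W] [FiniteDimensional K W] [Finite W] [Nontrivial W] (H : Subgroup (W ≃ₗ[K] W)) (a b : W ≃ₗ[K] W) (hH : H = Subgroup.closure {a, b}) (ha : ∀ w : W, a (a w - w) = a w - w) (hb : ∀ w : W, b (b w - w) = b w - w) (hnp : ¬ IsPGroup p H) (hk : ∃ e k : ℕ, orderOf (a * b) = p ^ e * k ∧ k ∣ Fintype.card K - 1) : ∃ φ : H →* Matrix.SpecialLinearGroup (Fin 2) K, ¬ IsPGroup p φ.range := by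
  classical
  subst hH
  set S : Subgroup (W ≃ₗ[K] W) := closure {a, b}
  let ρ : S →* Module.End K W :=
    { toFun := fun h => ((h : W ≃ₗ[K] W) : W →ₗ[K] W)
      map_one' := rfl
      map_mul' := fun x y => rfl }
  have haS : a ∈ S := subset_closure (Set.mem_insert _ _)
  have hbS : b ∈ S := subset_closure (Set.mem_insert_of_mem _ (Set.mem_singleton _))
  have hgen : closure ({⟨a, haS⟩, ⟨b, hbS⟩} : Set S) = ⊤ := by
    refine map_injective S.subtype_injective ?_
    rw [MonoidHom.map_closure, Set.image_pair, ← MonoidHom.range_eq_map, S.range_subtype]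
    rfl
  have hquad : ∀ (c : W ≃ₗ[K] W) (hc : c ∈ S), (∀ w : W, c (c w - w) = c w - w) →
      (ρ ⟨c, hc⟩ - 1) * (ρ ⟨c, hc⟩ - 1) = 0 := by
    intro c hc h
    refine LinearMap.ext fun w => ?_
    show c (c w - w) - (c w - w) = 0
    rw [h, sub_self]
  obtain ⟨e, k, hk, hdvd⟩ := hk
  set c : S := ⟨a, haS⟩ * ⟨b, hbS⟩ with hc
  have hcpow : ρ c ^ (p ^ e * (Fintype.card K - 1)) = 1 := by
    have h0 : (c : W ≃ₗ[K] W) ^ (p ^ e * (Fintype.card K - 1)) = 1 := by
      refine orderOf_dvd_iff_pow_eq_one.1 ?_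
      show orderOf (a * b) ∣ _
      rw [hk]
      exact mul_dvd_mul_left _ hdvd
    rw [← map_pow, show c ^ (p ^ e * (Fintype.card K - 1)) = 1 from Subtype.ext (by simpa using h0),
      map_one]
  haveI : CharP (Module.End K W) p :=
    charP_of_injective_algebraMap (algebraMap K (Module.End K W)).injective p
  set q := Fintype.card K with hq
  have hq1 : 1 < q := Fintype.one_lt_card
  let f : Polynomial K := (Polynomial.X ^ q - Polynomial.X) ^ p ^ e
  have hfsplit : (Polynomial.X ^ q - Polynomial.X : Polynomial K).Splits := by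
    rw [Polynomial.splits_iff_card_roots, hq, FiniteField.roots_X_pow_card_sub_X,
      FiniteField.X_pow_card_sub_X_natDegree_eq K hq1]
    rfl
  have hfe : Polynomial.aeval (ρ c) f = 0 := by
    simp only [f, map_pow, map_sub, Polynomial.aeval_X]
    rw [show ρ c ^ q - ρ c = ρ c * (ρ c ^ (q - 1) - 1) by
      rw [mul_sub, mul_one, ← pow_succ', Nat.sub_add_cancel hq1.le]]
    rw [Commute.mul_pow ((Commute.self_pow _ _).sub_right (Commute.one_right _))]
    rw [sub_pow_char_pow_of_commute p e (Commute.one_right _), one_pow, ← pow_mul, mul_comm (q - 1),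
      hcpow, sub_self, mul_zero]
  obtain ⟨φ, -, hφ⟩ := SLTwo.exists_hom_two (p := p) hgen ρ (hquad a haS ha) (hquad b hbS hb) f
    (pow_ne_zero _ (FiniteField.X_pow_card_sub_X_ne_zero K hq1)) (hfsplit.pow _) hfe
    (fun hA => hnp fun h => by
      obtain ⟨i, hi⟩ := hA h
      exact ⟨i, Subtype.ext (LinearEquiv.toLinearMap_injective (by
        rw [← map_pow] at hi
        exact hi))⟩)
  exact ⟨φ, hφ⟩

end Cfsg.Agent.S0592
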