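import Cfsg.Statements.S0594
import Cfsg.Agent.Lib.PLocal.SLTwo.QuadPair
import Cfsg.Agent.Lib.Core.Cores

set_option autoImplicit false
open Cfsg
open Subgroup CfsgLib.PLocal
open scoped commutatorElement

namespace Cfsg.Agent.S0594

/-- For odd p, two quadratic generators of a faithful group that is not a p-group, one of which acts nontrivially on a normal subgroup of order prime to p, force p = 3 and a section isomorphic to SL(2,3). -/
theorem result {G : Type*} [Group G] [Finite G] {p : ℕ} [Fact p.Prime] (hp : p ≠ 2) (V H : Subgroup G) (hV : Cfsg.IsElementaryAbelian p V) (hHV : H ≤ Subgroup.normalizer (V : Set G)) (hf : H ⊓ Subgroup.centralizer (V : Set G) = ⊥) (a b : G) (hab : H = Subgroup.closure {a, b}) (ha : ⁅⁅V, Subgroup.zpowers a⁆, Subgroup.zpowers a⁆ = ⊥) (hb : ⁅⁅V, Subgroup.zpowers b⁆, Subgroup.zpowers b⁆ = ⊥) (hnp : ¬ IsPGroup p H) (Q : Subgroup G) (hQH : Q ≤ H) (hQn : H ≤ Subgroup.normalizer (Q : Set G)) (hQ : (Nat.card Q).Coprime p) (hQa : ⁅Q, Subgroup.zpowers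 a⁆ ≠ ⊥) : p = 3 ∧ ∃ (K L : Subgroup G) (hL : (L.subgroupOf K).Normal), K ≤ H ∧ Nonempty ((K ⧸ L.subgroupOf K) ≃* Matrix.SpecialLinearGroup (Fin 2) (ZMod 3)) := by
  classical
  have haH : a ∈ H := hab ▸ subset_closure (Set.mem_insert _ _)
  set H' : Subgroup G := Q ⊔ zpowers a with hH'
  have hH'H : H' ≤ H := sup_le hQH (zpowers_le.2 haH)
  have haH' : a ∈ H' := mem_sup_right (mem_zpowers a)
  have hQH' : Q ≤ H' := le_sup_left
  haveI hN : (Q.subgroupOf H').Normal :=
    normal_subgroupOf_of_le_normalizer (sup_le le_normalizer ((zpowers_le.2 haH).trans hQn))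
  have hap : a ^ p = 1 := SLTwo.pow_p_eq_one_of_quad hV hHV hf haH ha
  have hQc : Nat.card (Q.subgroupOf H') = Nat.card Q :=
    Nat.card_congr (subgroupOfEquivOfLe hQH').toEquiv
  have hsep : Cfsg.IsPSolvable p H' := by
    refine ⟨2, ![⊥, Q.subgroupOf H', ⊤], rfl, rfl, ?_, ?_, ?_⟩
    · refine Fin.monotone_iff_le_succ.2 fun i => ?_
      fin_cases i
      · exact bot_le
      · exact le_top
    · intro i
      fin_cases i
      · exact (inferInstance : (⊥ : Subgroup H').Normal)
      · exact hN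
      · exact (inferInstance : (⊤ : Subgroup H').Normal)
    · intro i
      fin_cases i
      · right
        show ((⊥ : Subgroup H').relIndex (Q.subgroupOf H')).Coprime p
        rw [relIndex_bot_left, hQc]
        exact hQ
      · left
        show ∃ m : ℕ, (Q.subgroupOf H').relIndex ⊤ = p ^ m
        rw [relIndex_top_right, index_eq_card]
        let π : ↥(zpowers a) →* ↥H' ⧸ Q.subgroupOf H' :=
          (QuotientGroup.mk' _).comp (Subgroup.inclusion le_sup_right)
        refine IsPGroup.iff_card.1 (IsPGroup.of_surjective ?_ π ?_)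
        · refine IsPGroup.iff_card.2 ?_
          rw [Nat.card_zpowers]
          obtain ⟨k, -, hk⟩ := (Nat.dvd_prime_pow Fact.out).1
            (orderOf_dvd_of_pow_eq_one (show a ^ p ^ 1 = 1 by rw [pow_one]; exact hap))
          exact ⟨k, hk⟩
        · intro z
          obtain ⟨⟨z, hz⟩, rfl⟩ := QuotientGroup.mk'_surjective _ z
          have hle : zpowers a ≤ normalizer (Q : Set G) := (zpowers_le.2 haH).trans hQn
          have hz' : z ∈ ((Q ⊔ zpowers a : Subgroup G) : Set G) := hz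
          rw [coe_mul_of_right_le_normalizer_left _ _ hle] at hz'
          obtain ⟨q, hq, y, hy, rfl⟩ := hz'
          refine ⟨⟨y, hy⟩, ?_⟩
          refine QuotientGroup.eq.2 ?_
          rw [mem_subgroupOf]
          show y⁻¹ * (q * y) ∈ Q
          have := (mem_normalizer_iff''.1 (hle hy) q).1 hq
          simpa [mul_assoc] using this
  have hna : a ∉ (Cfsg.pCore p H').map H'.subtype := by
    rintro ⟨⟨a', ha'⟩, hcore, (rfl : a' = a)⟩
    refine hQa ?_
    rw [commutator_eq_bot_iff_le_centralizer]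
    intro q hq
    rw [zpowers_eq_closure, centralizer_closure, mem_centralizer_singleton_iff]
    have h1 : ⁅(⟨q, hQH' hq⟩ : H'), ⟨a', ha'⟩⁆ ∈ Cfsg.pCore p H' :=
      Subgroup.commutator_le_right (⊤ : Subgroup H') _
        (commutator_mem_commutator (mem_top _) hcore)
    have h2 : ⁅(⟨q, hQH' hq⟩ : H'), ⟨a', ha'⟩⁆ ∈ Q.subgroupOf H' :=
      Subgroup.commutator_le_left _ (⊤ : Subgroup H')
        (commutator_mem_commutator hq (mem_top _))
    obtain ⟨k, hk⟩ := CfsgLib.Core.isPGroup_pCore p H' ⟨_, h1⟩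
    have ho1 : orderOf ⁅(⟨q, hQH' hq⟩ : H'), (⟨a', ha'⟩ : H')⁆ ∣ p ^ k :=
      orderOf_dvd_of_pow_eq_one (congrArg Subtype.val hk)
    have ho2 : orderOf ⁅(⟨q, hQH' hq⟩ : H'), (⟨a', ha'⟩ : H')⁆ ∣ Nat.card Q :=
      hQc ▸ (Q.subgroupOf H').orderOf_dvd_natCard h2
    have h3 := orderOf_eq_one_iff.1 (Nat.eq_one_of_dvd_coprimes (hQ.pow_right k) ho2 ho1)
    exact commutatorElement_eq_one_iff_mul_comm.1 (congrArg Subtype.val h3)
  have h := SLTwo.hasSLTwo_of_not_mem hp V H' hV (hH'H.trans hHV)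
    (le_bot_iff.1 ((inf_le_inf_right _ hH'H).trans hf.le)) haH' ha hna
  obtain rfl := SLTwo.eq_three_of_hasSLTwo hp hsep h
  exact ⟨rfl, h.mono hH'H⟩

end Cfsg.Agent.S0594
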