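import Cfsg.Statements.S0636
import Cfsg.Agent.Lib.Transfer.RankTwo
import Cfsg.Agent.Lib.PGroups.ClassTwo
import Cfsg.Agent.Lib.PGroups.MaxAbelian

set_option autoImplicit false
open Cfsg
open scoped commutatorElement

namespace Cfsg.Agent.S0636

/-- For odd p, every non-cyclic normal subgroup of a p-group contains a normal elementary abelian subgroup of the whole group of order p². -/
theorem result {R : Type*} [Group R] [Finite R] {p : ℕ} [Fact p.Prime] (hp : p ≠ 2) (hR : IsPGroup p R) (S : Subgroup R) [S.Normal] (hS : ¬ IsCyclic S) : ∃ A : Subgroup R, A ≤ S ∧ A.Normal ∧ Cfsg.IsElementaryAbelian p A ∧ Nat.card A = p ^ 2 := by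
  classical
  have hp0 : Fact p.Prime := inferInstance
  have hodd : Odd p := hp0.out.odd_of_ne_two hp
  have hSp : IsPGroup p S := hR.to_subgroup S
  let X0 : Subgroup S :=
    { carrier := {x | x ^ p = 1 ∧ ∀ s, ⁅x, s⁆ ∈ Subgroup.center S}
      one_mem' := ⟨one_pow p, fun s => by rw [commutatorElement_one_left]; exact one_mem _⟩
      mul_mem' := fun {x y} hx hy => ⟨by
          rw [CfsgLib.PGroups.mul_pow_of_central_odd (hy.2 x) hodd (by
            rw [← CfsgLib.PGroups.comm_pow_left_of_central (hy.2 x), hy.1,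
              commutatorElement_one_left]), hx.1, hy.1, one_mul],
        fun s => by
          rw [CfsgLib.PGroups.comm_mul_left_of_central (hy.2 s)]
          exact mul_mem (hx.2 s) (hy.2 s)⟩
      inv_mem' := fun {x} hx => ⟨by rw [inv_pow, hx.1, inv_one], fun s => by
        rw [CfsgLib.PGroups.comm_inv_left_of_central (hx.2 s)]
        exact inv_mem (hx.2 s)⟩ }
  haveI : X0.Characteristic := by
    refine Subgroup.characteristic_iff_le_comap.2 fun φ x hx => ⟨?_, fun s => ?_⟩
    · show (φ x) ^ p = 1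
      rw [← map_pow, hx.1, map_one]
    · obtain ⟨r, rfl⟩ := φ.surjective s
      show ⁅φ x, φ r⁆ ∈ Subgroup.center S
      rw [← map_commutatorElement]
      refine Subgroup.mem_center_iff.2 fun g => ?_
      obtain ⟨g, rfl⟩ := φ.surjective g
      rw [← map_mul, ← map_mul, Subgroup.mem_center_iff.1 (hx.2 r) g]
  obtain ⟨T, hTn, hT, hTc⟩ := CfsgLib.Transfer.exists_normal_elementary_card_sq hp hSp hS
  have hTX : T ≤ X0 := by
    haveI := hTn
    intro x hx
    refine ⟨hT.2 x hx, fun s => ?_⟩
    have hle : ⁅T, (⊤ : Subgroup S)⁆ ≤ T := Subgroup.commutator_le_left _ _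
    have hn : (⁅T, (⊤ : Subgroup S)⁆).Normal := inferInstance
    obtain ⟨k, hk⟩ := IsPGroup.iff_card.1 (hSp.to_subgroup ⁅T, (⊤ : Subgroup S)⁆)
    have hk2 : k ≤ 1 := by
      by_contra hk2
      have he : ⁅T, (⊤ : Subgroup S)⁆ = T := Subgroup.eq_of_le_of_card_ge hle (by
        rw [hTc, hk]; exact Nat.pow_le_pow_right hp0.out.pos (by omega))
      have hst : ∀ n, T ≤ (⊤ : Subgroup S).lowerCentralSeries n := by
        intro n
        induction n with
        | zero => exact le_top
        | succ n ih =>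
          calc T = ⁅T, (⊤ : Subgroup S)⁆ := he.symm
            _ ≤ _ := Subgroup.commutator_mono ih le_rfl
      obtain ⟨m, hm⟩ := Subgroup.nilpotent_iff_lowerCentralSeries.1 hSp.isNilpotent
      have h1 := (hst m).trans hm.le
      rw [le_bot_iff] at h1
      rw [h1, Subgroup.card_bot] at hTc
      exact absurd hTc (Nat.one_lt_pow (by norm_num) hp0.out.one_lt).ne
    rcases (show k = 0 ∨ k = 1 by omega) with rfl | rfl
    · have hb : ⁅T, (⊤ : Subgroup S)⁆ = ⊥ := Subgroup.card_eq_one.1 (by simpa using hk)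
      have h1 := Subgroup.commutator_mem_commutator hx (Subgroup.mem_top s)
      rw [hb, Subgroup.mem_bot] at h1
      rw [h1]
      exact one_mem _
    · exact CfsgLib.PGroups.le_center_of_card_prime hSp (by simpa using hk)
        (Subgroup.commutator_mem_commutator hx (Subgroup.mem_top s))
  have hc : p ^ 2 ≤ Nat.card (X0.map S.subtype) := by
    rw [Subgroup.card_map_of_injective S.subtype_injective, ← hTc]
    exact Subgroup.card_le_of_le hTX
  obtain ⟨B, hBn, hBX, hBc, -⟩ :=
    CfsgLib.Transfer.exists_normal_card hR (X0.map S.subtype) 2 hc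
  refine ⟨B, hBX.trans (Subgroup.map_subtype_le X0), hBn, ⟨?_, fun b hb => ?_⟩, hBc⟩
  · exact ⟨⟨fun a b => IsPGroup.commutative_of_card_eq_prime_sq hBc a b⟩⟩
  · obtain ⟨x, hx, rfl⟩ := hBX hb
    exact congrArg Subtype.val hx.1

end Cfsg.Agent.S0636
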