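import Cfsg.Statements.S0638
import Cfsg.Agent.Lib.Transfer.RankTwo
import Cfsg.Agent.Lib.PGroups.ClassTwo
import Cfsg.Agent.Lib.PGroups.Omega
import Cfsg.Agent.Lib.PGroups.MaxAbelian

set_option autoImplicit false
open Cfsg
open scoped commutatorElement

namespace Cfsg.Agent.S0638

/-- For odd p, in a non-cyclic metacyclic p-group the elements of order dividing p generate an elementary abelian subgroup of order p². -/
theorem result {R : Type*} [Group R] [Finite R] {p : ℕ} [Fact p.Prime] (hp : p ≠ 2) (hR : IsPGroup p R) (hm : Cfsg.IsMetacyclic R) (hnc : ¬ IsCyclic R) : Cfsg.IsElementaryAbelian p (Cfsg.omegaOne p (⊤ : Subgroup R)) ∧ Nat.card ↥(Cfsg.omegaOne p (⊤ : Subgroup R)) = p ^ 2 := by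
  classical
  have hp0 : Fact p.Prime := inferInstance
  have hodd : Odd p := hp0.out.odd_of_ne_two hp
  obtain ⟨N, hN, hNc, hQc⟩ := hm
  have := hN
  obtain ⟨T, hTn, hT, hTc⟩ := CfsgLib.Transfer.exists_normal_elementary_card_sq hp hR hnc
  have := hTn
  have hcyc : ∀ (A : Type _) [Group A] [Finite A] [IsCyclic A] (H : Subgroup A),
      (∀ h ∈ H, h ^ p = 1) → Nat.card H ≤ p := by
    intro A _ _ _ H hH
    obtain ⟨g, hg⟩ := IsCyclic.exists_generator (α := H)
    rw [← orderOf_eq_card_of_forall_mem_zpowers hg]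
    exact orderOf_le_of_pow_eq_one hp0.out.pos (Subtype.ext (hH g g.2))
  have hexp : ∀ H : Subgroup R, (∀ h ∈ H, h ^ p = 1) → Nat.card H ≤ p ^ 2 := by
    intro H hH
    have h1 := Subgroup.relIndex_ker H (QuotientGroup.mk' N)
    rw [QuotientGroup.ker_mk'] at h1
    have h2 := Subgroup.relIndex_mul_relIndex ⊥ (N ⊓ H) H bot_le inf_le_right
    rw [Subgroup.relIndex_bot_left, Subgroup.relIndex_bot_left, Subgroup.inf_relIndex_right, h1] at h2
    rw [← h2, pow_two]
    refine Nat.mul_le_mul ?_ ?_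
    · rw [← Nat.card_congr (Subgroup.subgroupOfEquivOfLe (inf_le_left : N ⊓ H ≤ N)).toEquiv]
      exact hcyc N _ fun h hh => Subtype.ext (hH _ (Subgroup.mem_subgroupOf.1 hh).2)
    · refine hcyc (R ⧸ N) _ ?_
      rintro _ ⟨h, hh, rfl⟩
      rw [← map_pow, hH h hh, map_one]
  have hall : ∀ x : R, x ^ p = 1 → x ∈ T := by
    intro x hx
    have hcen : ∀ u ∈ T, ⁅x, u⁆ ∈ Subgroup.center R ∧ ⁅x, u⁆ ^ p = 1 := by
      intro u hu
      have hle : ⁅(⊤ : Subgroup R), T⁆ ≤ T := Subgroup.commutator_le_right _ _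
      have hmem := Subgroup.commutator_mem_commutator (Subgroup.mem_top x) hu
      refine ⟨?_, hT.2 _ (hle hmem)⟩
      obtain ⟨k, hk⟩ := IsPGroup.iff_card.1 (hR.to_subgroup ⁅(⊤ : Subgroup R), T⁆)
      have hk2 : k ≤ 1 := by
        by_contra hk2
        have he : ⁅(⊤ : Subgroup R), T⁆ = T := Subgroup.eq_of_le_of_card_ge hle (by
          rw [hTc, hk]; exact Nat.pow_le_pow_right hp0.out.pos (by omega))
        have hst : ∀ n, T ≤ (⊤ : Subgroup R).lowerCentralSeries n := by
          intro n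
          induction n with
          | zero => exact le_top
          | succ n ih =>
            calc T = ⁅(⊤ : Subgroup R), T⁆ := he.symm
              _ = ⁅T, (⊤ : Subgroup R)⁆ := Subgroup.commutator_comm _ _
              _ ≤ _ := Subgroup.commutator_mono ih le_rfl
        obtain ⟨m, hm⟩ := Subgroup.nilpotent_iff_lowerCentralSeries.1 hR.isNilpotent
        have h1 := (hst m).trans hm.le
        rw [le_bot_iff] at h1
        rw [h1, Subgroup.card_bot] at hTc
        exact absurd hTc (Nat.one_lt_pow (by norm_num) hp0.out.one_lt).ne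
      rcases (show k = 0 ∨ k = 1 by omega) with rfl | rfl
      · have hb : ⁅(⊤ : Subgroup R), T⁆ = ⊥ := Subgroup.card_eq_one.1 (by simpa using hk)
        rw [hb, Subgroup.mem_bot] at hmem
        rw [hmem]
        exact one_mem _
      · exact CfsgLib.PGroups.le_center_of_card_prime hR (by simpa using hk) hmem
    have hH : ∀ h ∈ T ⊔ Subgroup.zpowers x, h ^ p = 1 := by
      intro h hh
      obtain ⟨u, hu, v, hv, rfl⟩ := Subgroup.mem_sup_of_normal_left.1 hh
      obtain ⟨i, rfl⟩ := mem_powers_iff_mem_zpowers.2 hv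
      have hc := CfsgLib.PGroups.comm_pow_left_of_central (hcen u hu).1 i
      show (u * x ^ i) ^ p = 1
      rw [CfsgLib.PGroups.mul_pow_of_central_odd (by rw [hc]; exact pow_mem (hcen u hu).1 i) hodd
        (by rw [hc, ← pow_mul, mul_comm, pow_mul, (hcen u hu).2, one_pow]), hT.2 u hu, one_mul,
        ← pow_mul, mul_comm, pow_mul, hx, one_pow]
    rw [Subgroup.eq_of_le_of_card_ge (le_sup_left : T ≤ T ⊔ Subgroup.zpowers x)
      (hTc.symm ▸ hexp _ hH)]
    exact Subgroup.mem_sup_right (Subgroup.mem_zpowers x)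
  have heq : Cfsg.omegaOne p (⊤ : Subgroup R) = T := by
    refine le_antisymm ((Subgroup.closure_le _).2 ?_) fun x hx =>
      CfsgLib.PGroups.mem_omegaOne (Subgroup.mem_top x) (hT.2 x hx)
    intro x hx
    exact hall x hx.2
  rw [heq]
  exact ⟨hT, hTc⟩

end Cfsg.Agent.S0638
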