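import Cfsg.Statements.S0640
import Cfsg.Agent.Lib.OddLocal.RankTwoAut

set_option autoImplicit false
open Cfsg
open scoped commutatorElement

namespace Cfsg.Agent.S0640

/-- For odd p, a prime q ≠ p dividing the order of the automorphism group of a p-group of rank at most 2 divides p² - 1 and is less than p. -/
theorem result {R : Type*} [Group R] [Finite R] {p : ℕ} [Fact p.Prime] (hp : p ≠ 2) (hR : IsPGroup p R) (hrk : Cfsg.PRankLE p 2 R) (q : ℕ) (hq : q.Prime) (hqp : q ≠ p) (hdvd : q ∣ Nat.card (MulAut R)) : q ∣ p ^ 2 - 1 ∧ q < p := by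
  classical
  have hp0 : Fact p.Prime := inferInstance
  have : Finite (MulAut R) := Finite.of_injective (fun φ : MulAut R => (φ : R → R))
    fun φ ψ h => MulEquiv.ext (congrFun h)
  have : Fact q.Prime := ⟨hq⟩
  obtain ⟨φ, hφ⟩ := exists_prime_orderOf_dvd_card' q hdvd
  obtain ⟨S, Z, hZn, hSc, hZc, hcm, hexp, hcard, hfaith⟩ :=
    CfsgLib.OddLocal.RankTwoAut.exists_small_section hp hR hrk
  let ρ : MulAut R →* MulAut S :=
    { toFun := fun φ => ((φ : R ≃* R).subgroupMap S).trans
        (MulEquiv.subgroupCongr (Subgroup.characteristic_iff_map_eq.1 hSc φ))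
      map_one' := rfl
      map_mul' := fun φ φ' => rfl }
  let σ : MulAut S →* MulAut (S ⧸ Z) :=
    { toFun := fun φ => QuotientGroup.congr Z Z φ (Subgroup.characteristic_iff_map_eq.1 hZc φ)
      map_one' := by ext v; obtain ⟨x, rfl⟩ := QuotientGroup.mk_surjective v; rfl
      map_mul' := fun φ φ' => by ext v; obtain ⟨x, rfl⟩ := QuotientGroup.mk_surjective v; rfl }
  let χ := σ.comp ρ
  have hord : orderOf (χ φ) = q := by
    rcases (Nat.dvd_prime hq).1 (hφ ▸ orderOf_map_dvd χ φ) with h | h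
    · exfalso
      have hcop : (orderOf φ).Coprime p := hφ ▸ (Nat.coprime_primes hq hp0.out).2 hqp
      have h1 : φ = 1 := hfaith φ hcop fun x => by
        have hx : (QuotientGroup.mk (ρ φ x) : S ⧸ Z) = QuotientGroup.mk x :=
          DFunLike.congr_fun (orderOf_eq_one_iff.1 h) (QuotientGroup.mk x)
        refine ⟨x⁻¹ * ρ φ x, QuotientGroup.eq.1 hx.symm, ?_⟩
        show φ (x : R) = (x : R) * ((x : R)⁻¹ * φ (x : R))
        rw [mul_inv_cancel_left]
      rw [h1, orderOf_one] at hφ
      exact hq.ne_one hφ.symm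
    · exact h
  let : CommGroup (S ⧸ Z) := { (inferInstance : Group (S ⧸ Z)) with mul_comm := hcm.is_comm.comm }
  have hVp : IsPGroup p (S ⧸ Z) := fun v => ⟨1, by rw [pow_one]; exact hexp v⟩
  obtain ⟨k, hk⟩ := IsPGroup.iff_card.1 hVp
  have hk2 : k ≤ 2 := (Nat.pow_le_pow_iff_right hp0.out.one_lt).1 (hk ▸ hcard)
  have hp3 : 3 ≤ p := by have := hp0.out.two_le; omega
  have e1 : p ^ 2 - 1 = (p + 1) * (p - 1) := by rw [← Nat.sq_sub_sq, one_pow]
  rcases (show k ≤ 1 ∨ k = 2 by omega) with hk1 | rfl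
  · have : IsCyclic (S ⧸ Z) := by
      rcases (show k = 0 ∨ k = 1 by omega) with rfl | rfl
      · have := (Nat.card_eq_one_iff_unique.1 (by simpa using hk)).1
        exact isCyclic_of_subsingleton
      · exact isCyclic_of_prime_card (p := p) (by simpa using hk)
    have hd := hord ▸ orderOf_dvd_natCard (χ φ)
    rw [IsCyclic.card_mulAut, hk] at hd
    rcases (show k = 0 ∨ k = 1 by omega) with rfl | rfl
    · rw [pow_zero, Nat.totient_one, Nat.dvd_one] at hd
      exact absurd hd hq.ne_one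
    · rw [pow_one, Nat.totient_prime hp0.out] at hd
      have := Nat.le_of_dvd (by omega) hd
      exact ⟨e1 ▸ dvd_mul_of_dvd_right hd _, by omega⟩
  · obtain ⟨ι, hι⟩ := CfsgLib.OddLocal.RankTwoAut.exists_hom_GL hexp hk
    have hx : orderOf (ι (χ φ)) = q := by rw [orderOf_injective ι hι, hord]
    refine ⟨?_, ?_⟩
    · have hd := orderOf_dvd_natCard (ι (χ φ))
      rw [hx, Matrix.card_GL_field, ZMod.card, Fin.prod_univ_two] at hd
      simp only [Fin.val_zero, pow_zero, Fin.val_one, pow_one] at hd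
      rw [show p ^ 2 - p = p * (p - 1) by rw [pow_two, Nat.mul_sub, mul_one]] at hd
      rcases (Nat.Prime.dvd_mul hq).1 hd with h | h
      · exact h
      · rcases (Nat.Prime.dvd_mul hq).1 h with h | h
        · exact absurd ((Nat.prime_dvd_prime_iff_eq hq hp0.out).1 h) hqp
        · exact e1 ▸ dvd_mul_of_dvd_right h _
    · by_cases hq2 : q = 2
      · omega
      · exact CfsgLib.OddLocal.RankTwoAut.orderOf_lt_of_GL hp hq hq2 hqp _ hx

end Cfsg.Agent.S0640
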