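import Cfsg.Statements.S0642
import Cfsg.Agent.Lib.PGroups.Omega
import Cfsg.Agent.Lib.ClassSizes.RegularPGroup

set_option autoImplicit false
open Cfsg
open scoped commutatorElement

namespace Cfsg.Agent.S0642

/-- Among finite 2-groups the regular ones are exactly the abelian ones. -/
theorem result {G : Type*} [Group G] [Finite G] (hG : IsPGroup 2 G) : Cfsg.IsRegularPGroup 2 G ↔ ∀ a b : G, a * b = b * a := by
  classical
  refine ⟨fun h a b => ?_, fun h => ⟨hG, fun a b n => ⟨1, one_mem _, ?_⟩⟩⟩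
  swap
  · rw [mul_one]; exact Commute.mul_pow (h a b) _
  by_contra hab
  set K := Subgroup.closure ({a, b} : Set G) with hK
  have ha : a ∈ K := Subgroup.subset_closure (Or.inl rfl)
  have hb : b ∈ K := Subgroup.subset_closure (Or.inr rfl)
  set C := ⁅K, K⁆ with hC
  set W := Cfsg.powerClosure 2 1 C with hW
  obtain ⟨c, hc, habc⟩ := h.2 a b 1
  rw [← hK, ← hC, ← hW] at hc
  have hWC : W ≤ C := CfsgLib.PGroups.powerClosure_le C
  have hCK : C ≤ K := Subgroup.commutator_le_self K
  have hWn : ∀ g ∈ K, ∀ w ∈ W, g * w * g⁻¹ ∈ W := by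
    intro g hg w hw
    refine Subgroup.closure_induction (p := fun w _ => g * w * g⁻¹ ∈ W) ?_ ?_ ?_ ?_ hw
    · rintro _ ⟨u, hu, rfl⟩
      rw [← conj_pow]
      refine Subgroup.subset_closure ⟨g * u * g⁻¹, ?_, rfl⟩
      refine Subgroup.closure_induction (p := fun u _ => g * u * g⁻¹ ∈ C) ?_ ?_ ?_ ?_
        (show u ∈ Subgroup.closure {x | ∃ g₁ ∈ K, ∃ g₂ ∈ K, ⁅g₁, g₂⁆ = x} from hu)
      · rintro _ ⟨y, hy, z, hz, rfl⟩
        rw [conjugate_commutatorElement]
        exact Subgroup.commutator_mem_commutator (mul_mem (mul_mem hg hy) (inv_mem hg))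
          (mul_mem (mul_mem hg hz) (inv_mem hg))
      · simp
      · intro y z _ _ hy hz
        simpa [mul_assoc] using mul_mem hy hz
      · intro y _ hy
        simpa [mul_assoc] using inv_mem hy
    · simp
    · intro y z _ _ hy hz
      simpa [mul_assoc] using mul_mem hy hz
    · intro y _ hy
      simpa [mul_assoc] using inv_mem hy
  -- `⁅a⁻¹, b⁆` is a product of squares in `C`
  have hkey : ⁅a⁻¹, b⁆ ∈ W := by
    have h1 : ⁅a⁻¹, b⁆ = b ^ 2 * c * (b ^ 2)⁻¹ := by
      norm_num at habc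
      have h2 : c = (b ^ 2)⁻¹ * (a ^ 2)⁻¹ * (a * b) ^ 2 := by rw [habc]; group
      rw [h2, commutatorElement_def]
      simp only [pow_two]
      group
    rw [h1]
    exact hWn _ (pow_mem hb 2) c hc
  haveI hn : (W.subgroupOf K).Normal :=
    ⟨fun w hw g => Subgroup.mem_subgroupOf.2 (hWn g g.2 w (Subgroup.mem_subgroupOf.1 hw))⟩
  -- hence `C = W`
  have hCW : C ≤ W := by
    let π := QuotientGroup.mk' (W.subgroupOf K)
    have hcomm : Commute (π ⟨a, ha⟩) (π ⟨b, hb⟩) := by
      rw [← Commute.inv_left_iff, ← commutatorElement_eq_one_iff_commute, ← map_inv,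
        ← map_commutatorElement]
      exact (QuotientGroup.eq_one_iff _).2 hkey
    set D : Subgroup (K ⧸ W.subgroupOf K) := Subgroup.closure {π ⟨a, ha⟩, π ⟨b, hb⟩} with hD
    have hDc : ∀ x ∈ D, ∀ y ∈ D, Commute x y := fun x hx y hy => by
      have hle : D ≤ Subgroup.centralizer (D : Set _) := by
        rw [hD, Subgroup.centralizer_closure, Subgroup.closure_le]
        rintro u (rfl | rfl) <;> refine Subgroup.mem_centralizer_iff.2 ?_ <;> rintro v (rfl | rfl)
        exacts [rfl, hcomm.eq.symm, hcomm.eq, rfl]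
      exact Subgroup.mem_centralizer_iff.1 (hle hy) x hx
    have hall : ∀ x : K, π x ∈ D := by
      rintro ⟨x, hx⟩
      refine Subgroup.closure_induction (p := fun x hx => π ⟨x, hx⟩ ∈ D) ?_ ?_ ?_ ?_ hx
      · rintro u (rfl | rfl)
        exacts [Subgroup.subset_closure (Or.inl rfl), Subgroup.subset_closure (Or.inr rfl)]
      · exact (map_one π).symm ▸ one_mem D
      · exact fun y z hy hz h1 h2 => (map_mul π ⟨y, hy⟩ ⟨z, hz⟩).symm ▸ mul_mem h1 h2
      · exact fun y hy h1 => (map_inv π ⟨y, hy⟩).symm ▸ inv_mem h1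
    refine Subgroup.commutator_le.2 fun y hy z hz => ?_
    exact (QuotientGroup.eq_one_iff (⁅(⟨y, hy⟩ : K), (⟨z, hz⟩ : K)⁆)).1 (by
      show π _ = 1
      rw [map_commutatorElement, commutatorElement_eq_one_iff_commute]
      exact hDc _ (hall _) _ (hall _))
  -- but squares of a 2-group lie in its Frattini subgroup
  haveI : Nontrivial C := (Subgroup.nontrivial_iff_ne_bot C).2 fun hb' =>
    hab (commutatorElement_eq_one_iff_mul_comm.1
      (Subgroup.mem_bot.1 (hb' ▸ Subgroup.commutator_mem_commutator ha hb)))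
  refine CfsgLib.PGroups.frattini_ne_top (G := C) (eq_top_iff.2 fun x _ => ?_)
  have hle : W ≤ (frattini C).map C.subtype := by
    rw [hW]
    refine (Subgroup.closure_le _).2 ?_
    rintro _ ⟨u, hu, rfl⟩
    exact ⟨⟨u, hu⟩ ^ 2 ^ 1, by
      rw [pow_one]; exact CfsgLib.PGroups.pow_mem_frattini (hG.to_subgroup C) _, by simp⟩
  obtain ⟨y, hy, hyx⟩ := hle (hCW x.2)
  rwa [← Subtype.ext hyx]

end Cfsg.Agent.S0642
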