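import Cfsg.Statements.S0643
import Cfsg.Agent.Lib.PGroups.RegularPowers

set_option autoImplicit false
open Cfsg
open scoped commutatorElement

namespace Cfsg.Agent.S0643

/-- Kemhadze's criterion: a finite p-group is regular exactly when (ab)^p = a^p b^p c^p always holds for some c in the derived subgroup of the subgroup generated by a and b. -/
theorem result {G : Type*} [Group G] [Finite G] {p : ℕ} [Fact p.Prime] (hG : IsPGroup p G) : Cfsg.IsRegularPGroup p G ↔ ∀ a b : G, ∃ c ∈ ⁅Subgroup.closure ({a, b} : Set G), Subgroup.closure ({a, b} : Set G)⁆, (a * b) ^ p = a ^ p * b ^ p * c ^ p := by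
  constructor
  · intro h a b
    have hc : CfsgLib.PGroups.RegularPowers.PowCond p 1 G := fun a b => h.2 a b 1
    obtain ⟨c, hc', he⟩ := h.2 a b 1
    obtain ⟨d, hd, rfl⟩ := (CfsgLib.PGroups.RegularPowers.mem_powerClosure_iff hG hc).1 hc'
    exact ⟨d, hd, by simpa using he⟩
  · intro h
    have hc : CfsgLib.PGroups.RegularPowers.PowCond p 1 G := fun a b => by
      obtain ⟨c, hc', he⟩ := h a b
      exact ⟨c ^ p ^ 1, Subgroup.subset_closure ⟨c, hc', rfl⟩, by simpa using he⟩
    exact ⟨hG, fun a b n => CfsgLib.PGroups.RegularPowers.powCond_of_one hG hc _ n ⊤ le_rfl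
      a (Subgroup.mem_top a) b (Subgroup.mem_top b)⟩

end Cfsg.Agent.S0643
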