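import Cfsg.Statements.S0663
import Cfsg.Agent.Lib.PGroups.Uniserial

set_option autoImplicit false
open Cfsg
open scoped commutatorElement

namespace Cfsg.Agent.S0663

/-- A p-group acts uniserially on a p-group N of order p^n exactly when the iterated commutator chain from N has length n; in that case the chain terms are all the invariant subgroups of N and they are normal in N. -/
theorem result {L : Type*} [Group L] [Finite L] {p : ℕ} [Fact p.Prime] (N G : Subgroup L) (hN : IsPGroup p N) (hG : IsPGroup p G) (hGN : G ≤ Subgroup.normalizer (N : Set L)) (n : ℕ) (hn : Nat.card N = p ^ n) : ((∀ H : Subgroup L, H ≤ N → G ≤ Subgroup.normalizer (H : Set L) → H ≠ ⊥ → (⁅H, G⁆).relIndex H = p) ↔ Cfsg.iterCommutator N G (n - 1) ≠ ⊥ ∨ n = 0) ∧ ((∀ H : Subgroup L, H ≤ N → G ≤ Subgroup.normalizer (H : Set L) → H ≠ ⊥ → (⁅H, G⁆).relIndex H = p) → ∀ H : Subgroup L, H ≤ N → G ≤ Subgroup.normalizer (H : Set L) → (∃ i ≤ n, H = Cfsg.iterCommutator N G i) ∧ N ≤ Subgroup.normalizer (H : Set L))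 := by
  have hp0 : Fact p.Prime := inferInstance
  have hN0 : n = 0 → ∀ H : Subgroup L, H ≤ N → H = ⊥ := by
    intro h0 H hH
    have : N = ⊥ := Subgroup.card_eq_one.1 (by rw [hn, h0, pow_zero])
    exact le_bot_iff.1 (this ▸ hH)
  refine ⟨⟨fun h => ?_, fun h => ?_⟩, fun h H hH hGH => ?_⟩
  · by_cases h0 : n = 0
    · exact Or.inr h0
    · exact Or.inl (CfsgLib.PGroups.Uniserial.chain_of_uniserial hN hG hGN hn h h0)
  · intro H hH hGH hne
    rcases h with h | h
    · obtain ⟨j, hj, rfl⟩ := CfsgLib.PGroups.Uniserial.eq_iter hN hG hGN hn h n 0 (by omega) H hGH hH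
      have hc := CfsgLib.PGroups.Uniserial.card_iter_eq hN hG hGN hn h
      have hjn : j < n := by
        refine lt_of_le_of_ne hj fun he => hne (Subgroup.card_eq_one.1 ?_)
        rw [hc j hj, he, Nat.sub_self, pow_zero]
      have h3 := Subgroup.relIndex_mul_relIndex ⊥ (Cfsg.iterCommutator N G (j + 1))
        (Cfsg.iterCommutator N G j) bot_le
        (CfsgLib.PGroups.Uniserial.comm_le_self (CfsgLib.PGroups.Uniserial.invariant_iter hGN j))
      rw [Subgroup.relIndex_bot_left, Subgroup.relIndex_bot_left, hc j hj, hc (j + 1) hjn,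
        show n - j = n - (j + 1) + 1 by omega, pow_succ] at h3
      exact Nat.eq_of_mul_eq_mul_left (pow_pos hp0.out.pos _) h3
    · exact absurd (hN0 h H hH) hne
  · by_cases h0 : n = 0
    · have hb := hN0 h0 H hH
      have hNb : N = ⊥ := hN0 h0 N le_rfl
      refine ⟨⟨0, Nat.zero_le _, hb.trans hNb.symm⟩, ?_⟩
      rw [hNb]
      exact bot_le
    · have hch := CfsgLib.PGroups.Uniserial.chain_of_uniserial hN hG hGN hn h h0
      obtain ⟨j, hj, rfl⟩ := CfsgLib.PGroups.Uniserial.eq_iter hN hG hGN hn hch n 0 (by omega) H hGH hH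
      exact ⟨⟨j, hj, rfl⟩, CfsgLib.PGroups.Uniserial.normal_iter hN hG hGN hn hch j⟩

end Cfsg.Agent.S0663
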