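import Cfsg.Statements.S0666
import Cfsg.Agent.Lib.Core.FrobeniusConj
import Cfsg.Agent.Lib.Char.Frobenius
import Cfsg.Agent.Lib.OddLocal.Coprime

set_option autoImplicit false
open Cfsg
open scoped commutatorElement

namespace Cfsg.Agent.S0666

/-- A Frobenius group acting on a nontrivial abelian group of order prime to that of its kernel, with the kernel acting without nontrivial fixed points, has a complement with a nontrivial fixed point. -/
theorem result {G : Type*} [Group G] [Finite G] (V F : Subgroup G) (hVab : IsMulCommutative V) (hV1 : V ≠ ⊥) (hFV : F ≤ Subgroup.normalizer (V : Set G)) (H : Subgroup ↥F) (hH : Cfsg.IsFrobeniusComplement H) (hcop : (Nat.card V).Coprime (Nat.card (Cfsg.frobeniusKernel H))) (hCK : V ⊓ Subgroup.centralizer (Subtype.val '' Cfsg.frobeniusKernel H : Set G) = ⊥) : V ⊓ Subgroup.centralizer ((H.map F.subtype : Subgroup G) : Set G) ≠ ⊥ := by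
  classical
  intro hbot
  have : Fintype F := Fintype.ofFinite F
  obtain ⟨K, hK, hKn, hc, -, -⟩ := CfsgLib.Core.FrobeniusConj.exists_kernel hH
  let : CommGroup V := { (inferInstance : Group V) with mul_comm := hVab.is_comm.comm }
  let act : F → V → V := fun g v => ⟨g * v * (g : G)⁻¹,
    CfsgLib.OddLocal.conj_mem_of_normalizes (hFV g.2) v.2⟩
  have hmul : ∀ g g' v, act (g * g') v = act g (act g' v) := fun g g' v =>
    Subtype.ext (by simp only [act, Subgroup.coe_mul]; group)
  have hone : ∀ v, act 1 v = v := fun v => Subtype.ext (by simp [act])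
  let actH : F → V →* V := fun g => MonoidHom.mk' (act g) fun u v => Subtype.ext (by
    simp only [act, Subgroup.coe_mul]; group)
  have hfix : ∀ (A : Subgroup F) (v : V), ∀ a ∈ A,
      act a (∏ x ∈ Finset.univ.filter (· ∈ A), act x v) =
        ∏ x ∈ Finset.univ.filter (· ∈ A), act x v := by
    intro A v a ha
    show actH a (∏ x ∈ _, act x v) = _
    rw [map_prod]
    refine Finset.prod_nbij' (fun x => a * x) (fun x => a⁻¹ * x) ?_ ?_ ?_ ?_ ?_
    · intro x hx
      simp only [Finset.coe_filter, Finset.mem_filter, Finset.mem_univ, true_and, Set.mem_setOf_eq] at hx ⊢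
      exact mul_mem ha hx
    · intro x hx
      simp only [Finset.coe_filter, Finset.mem_filter, Finset.mem_univ, true_and, Set.mem_setOf_eq] at hx ⊢
      exact mul_mem (inv_mem ha) hx
    · intro x _; exact inv_mul_cancel_left a x
    · intro x _; exact mul_inv_cancel_left a x
    · intro x _; exact (hmul a x v).symm
  have hfixK : ∀ w : V, (∀ a ∈ K, act a w = w) → w = 1 := by
    intro w hw
    have hm : (w : G) ∈ V ⊓ Subgroup.centralizer (Subtype.val '' Cfsg.frobeniusKernel H : Set G) := by
      refine ⟨w.2, Subgroup.mem_centralizer_iff.2 ?_⟩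
      rintro _ ⟨a, ha, rfl⟩
      exact mul_inv_eq_iff_eq_mul.1 (congrArg Subtype.val (hw a (hK.ge ha)))
    rw [hCK, Subgroup.mem_bot] at hm
    exact Subtype.ext hm
  have hH1 : ∀ v, ∏ x ∈ Finset.univ.filter (· ∈ H), act x v = 1 := by
    intro v
    have hm : ((∏ x ∈ Finset.univ.filter (· ∈ H), act x v : V) : G) ∈
        V ⊓ Subgroup.centralizer ((H.map F.subtype : Subgroup G) : Set G) := by
      refine ⟨SetLike.coe_mem _, Subgroup.mem_centralizer_iff.2 ?_⟩
      rintro _ ⟨a, ha, rfl⟩
      exact mul_inv_eq_iff_eq_mul.1 (congrArg Subtype.val (hfix H v a ha))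
    rw [hbot, Subgroup.mem_bot] at hm
    exact Subtype.ext hm
  have hKone : ∀ v, ∏ x ∈ Finset.univ.filter (· ∈ K), act x v = 1 := fun v =>
    hfixK _ (hfix K v)
  have hall : ∀ v, ∏ x : F, act x v = 1 := by
    intro v
    have h1 := hfix ⊤ v
    simp only [Subgroup.mem_top, Finset.filter_true, forall_const] at h1
    exact hfixK _ fun a _ => h1 a
  have hnK : ∀ v, ∏ x ∈ Finset.univ.filter (fun x => x ∉ K), act x v = 1 := by
    intro v
    have h1 := Finset.prod_filter_mul_prod_filter_not Finset.univ (· ∈ K) (fun x => act x v)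
    rwa [hKone, hall, one_mul] at h1
  have key : ∀ v, ∏ k ∈ Finset.univ.filter (· ∈ K), v = (1 : V) := by
    intro v
    have h0 : ∀ k : F, ∏ h ∈ Finset.univ.filter (· ∈ H), act (k * h * k⁻¹) v = 1 := by
      intro k
      rw [Finset.prod_congr rfl fun h _ => (show act (k * h * k⁻¹) v = actH k (act h (act k⁻¹ v)) by
        show _ = act k (act h (act k⁻¹ v))
        rw [← hmul, ← hmul, mul_assoc]), ← map_prod, hH1, map_one]
    have h1 : ∀ k : F, (∏ h ∈ (Finset.univ.filter (· ∈ H)).erase 1, act (k * h * k⁻¹) v) = v⁻¹ := by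
      intro k
      have h2 := h0 k
      rw [← Finset.mul_prod_erase _ _ (show (1 : F) ∈ Finset.univ.filter (· ∈ H) by simp [one_mem]),
        mul_one, mul_inv_cancel, hone] at h2
      exact (inv_eq_of_mul_eq_one_right h2).symm
    have h3 : ∏ k ∈ Finset.univ.filter (· ∈ K), ∏ h ∈ (Finset.univ.filter (· ∈ H)).erase 1,
        act (k * h * k⁻¹) v = ∏ x ∈ Finset.univ.filter (fun x => x ∉ K), act x v := by
      rw [← Finset.prod_product']
      refine Finset.prod_bij (fun kh _ => kh.1 * kh.2 * kh.1⁻¹) ?_ ?_ ?_ ?_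
      · rintro ⟨k, h⟩ hkh
        simp only [Finset.mem_product, Finset.mem_filter, Finset.mem_erase, Finset.mem_univ,
          true_and] at hkh ⊢
        intro hmem
        have h4 : h ∈ K := by
          have h5 := hKn.conj_mem _ hmem k⁻¹
          rwa [show k⁻¹ * (k * h * k⁻¹) * k⁻¹⁻¹ = h by group] at h5
        exact hkh.2.1 (Subgroup.mem_bot.1 (hc.disjoint.le_bot ⟨h4, hkh.2.2⟩))
      · rintro ⟨k, h⟩ hkh ⟨k', h'⟩ hkh' he
        simp only [Finset.mem_product, Finset.mem_filter, Finset.mem_erase, Finset.mem_univ,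
          true_and] at hkh hkh' he
        have hm : k⁻¹ * k' ∈ H := CfsgLib.Frobenius.mem_of_conj_mem hH hkh.2.2 hkh.2.1 (by
          rw [show (k⁻¹ * k')⁻¹ * h * (k⁻¹ * k') = k'⁻¹ * (k * h * k⁻¹) * k' by group, he,
            show k'⁻¹ * (k' * h' * k'⁻¹) * k' = h' by group]
          exact hkh'.2.2)
        have hk : k⁻¹ * k' = 1 := Subgroup.mem_bot.1
          (hc.disjoint.le_bot ⟨K.mul_mem (K.inv_mem hkh.1) hkh'.1, hm⟩)
        obtain rfl : k = k' := inv_mul_eq_one.1 hk
        simp only [mul_left_inj, mul_right_inj] at he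
        rw [he]
      · intro x hx
        simp only [Finset.mem_filter, Finset.mem_univ, true_and] at hx
        have hx1 : x ∉ Cfsg.frobeniusKernel H := fun h => hx (hK.ge h)
        simp only [Cfsg.frobeniusKernel, Set.mem_setOf_eq, not_or, not_forall, not_not] at hx1
        obtain ⟨hne, g, hg⟩ := hx1
        rw [CfsgLib.Frobenius.mem_conj_smul] at hg
        obtain ⟨⟨⟨k, hk⟩, ⟨h0, hh0⟩⟩, rfl⟩ := hc.2 g
        refine ⟨(k, k⁻¹ * x * k), ?_, ?_⟩
        · simp only [Finset.mem_product, Finset.mem_filter, Finset.mem_erase, Finset.mem_univ, true_and]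
          refine ⟨hk, fun he => hne ?_, ?_⟩
          · calc x = k * (k⁻¹ * x * k) * k⁻¹ := by group
              _ = 1 := by rw [he]; group
          · have h6 := mul_mem (mul_mem hh0 hg) (inv_mem hh0)
            rwa [show h0 * ((k * h0)⁻¹ * x * (k * h0)) * h0⁻¹ = k⁻¹ * x * k by group] at h6
        · show k * (k⁻¹ * x * k) * k⁻¹ = x
          group
      · intros; rfl
    rw [Finset.prod_congr rfl fun k _ => h1 k, hnK, Finset.prod_inv_distrib, inv_eq_one] at h3
    exact h3
  obtain ⟨v, hv⟩ : ∃ v : V, v ≠ 1 := (Subgroup.ne_bot_iff_exists_ne_one).1 hV1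
  refine hv ?_
  have h1 := key v
  have hcard : (Finset.univ.filter (· ∈ K)).card = Nat.card (Cfsg.frobeniusKernel H) := by
    rw [← hK, ← Fintype.card_subtype, ← Nat.card_eq_fintype_card]
    rfl
  rw [Finset.prod_const, hcard] at h1
  exact orderOf_eq_one_iff.1 (Nat.eq_one_of_dvd_coprimes hcop
    (orderOf_dvd_natCard v) (orderOf_dvd_of_pow_eq_one h1))

end Cfsg.Agent.S0666
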