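import Cfsg.Statements.S0668
import Mathlib.RepresentationTheory.Invariants
import Mathlib.Tactic

set_option autoImplicit false
open Cfsg

namespace Cfsg.Agent.S0668

/-- The equivariant linear maps between the permutation modules of two finite `G`-sets form a space whose dimension is the number of `G`-orbits on the product of the two sets. -/
theorem result {G : Type*} [Group G] {K : Type*} [Field K] {Ω₁ Ω₂ : Type*} [Fintype Ω₁] [Fintype Ω₂] [MulAction G Ω₁] [MulAction G Ω₂] : Module.finrank K ((Cfsg.permRep K G Ω₁).linHom (Cfsg.permRep K G Ω₂)).invariants = Nat.card (MulAction.orbitRel.Quotient G (Ω₁ × Ω₂)) := by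
  classical
  set V := (Cfsg.permRep K G Ω₁).linHom (Cfsg.permRep K G Ω₂) with hV
  set Q := MulAction.orbitRel.Quotient G (Ω₁ × Ω₂) with hQ
  let M : ((Ω₁ → K) →ₗ[K] (Ω₂ → K)) → Ω₁ × Ω₂ → K := fun T p => T (Pi.single p.1 1) p.2
  have hgact : ∀ (g : G) (x : Ω₁), Cfsg.permRep K G Ω₁ g⁻¹ (Pi.single x 1) = Pi.single (g⁻¹ • x) 1 := by
    intro g x
    funext y
    show (Pi.single x (1 : K) : Ω₁ → K) ((g⁻¹)⁻¹ • y) = _
    rw [Pi.single_apply, Pi.single_apply]
    simp only [inv_inv, eq_inv_smul_iff]
  have hinv : ∀ T, T ∈ V.invariants ↔ ∀ (g : G) (p : Ω₁ × Ω₂), M T (g⁻¹ • p) = M T p := by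
    intro T
    rw [Representation.mem_invariants]
    constructor
    · intro h g p
      conv_rhs => rw [← h g]
      show T (Pi.single (g⁻¹ • p.1) 1) (g⁻¹ • p.2) =
        (Cfsg.permRep K G Ω₂ g) (T (Cfsg.permRep K G Ω₁ g⁻¹ (Pi.single p.1 1))) p.2
      rw [hgact]
      rfl
    · intro h g
      apply LinearMap.pi_ext'
      intro x
      apply LinearMap.ext_ring
      funext y
      have := h g (x, y)
      show (Cfsg.permRep K G Ω₂ g) (T (Cfsg.permRep K G Ω₁ g⁻¹ (Pi.single x 1))) y = _
      rw [hgact]
      exact this
  let E : V.invariants →ₗ[K] (Q → K) :=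
  { toFun := fun T => Quotient.lift (M T.1) (fun p q hpq => by
      obtain ⟨g, rfl⟩ := MulAction.orbitRel_apply.1 hpq
      have := (hinv T.1).1 T.2 g⁻¹ q
      rwa [inv_inv] at this)
    map_add' := fun S T => by
      funext o
      induction o using Quotient.inductionOn' with
      | h p => rfl
    map_smul' := fun c T => by
      funext o
      induction o using Quotient.inductionOn' with
      | h p => rfl }
  have hbij : Function.Bijective E := by
    constructor
    · intro S T h
      apply Subtype.ext
      apply LinearMap.pi_ext'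
      intro x
      apply LinearMap.ext_ring
      funext y
      exact congrFun h (Quotient.mk'' (x, y))
    · intro f
      let T : (Ω₁ → K) →ₗ[K] (Ω₂ → K) :=
      { toFun := fun v y => ∑ x, v x * f (Quotient.mk'' (x, y))
        map_add' := fun u v => by
          funext y; simp only [Pi.add_apply, add_mul, Finset.sum_add_distrib]
        map_smul' := fun c v => by
          funext y; simp only [Pi.smul_apply, smul_eq_mul, RingHom.id_apply, mul_assoc, Finset.mul_sum] }
      have hT : ∀ p, M T p = f (Quotient.mk'' p) := by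
        rintro ⟨x, y⟩
        show ∑ z, (Pi.single x (1 : K) : Ω₁ → K) z * _ = _
        simp [Pi.single_apply]
      refine ⟨⟨T, (hinv T).2 fun g p => ?_⟩, ?_⟩
      · rw [hT, hT]
        congr 1
        apply Quotient.sound'
        rw [MulAction.orbitRel_apply]
        exact ⟨g⁻¹, rfl⟩
      · funext o
        induction o using Quotient.inductionOn' with
        | h p => exact hT p
  let _ := Fintype.ofFinite Q
  rw [(LinearEquiv.ofBijective E hbij).finrank_eq, Module.finrank_pi, Nat.card_eq_fintype_card]

end Cfsg.Agent.S0668
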