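import Cfsg.Statements.S0669

set_option autoImplicit false
open Cfsg

namespace Cfsg.Agent.S0669

/-- The rank of a transitive action: orbits on ordered pairs correspond to orbits of a point stabiliser. -/
theorem result {G : Type*} [Group G] {Ω : Type*} [Finite Ω] [MulAction G Ω] [MulAction.IsPretransitive G Ω] (a : Ω) : Nat.card (MulAction.orbitRel.Quotient G (Ω × Ω)) = Nat.card (MulAction.orbitRel.Quotient (MulAction.stabilizer G a) Ω) := by
  refine (Nat.card_congr (Equiv.ofBijective
    (Quotient.map' (fun b : Ω => (a, b)) ?_) ⟨?_, ?_⟩)).symm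
  · intro b c h
    obtain ⟨g, hg⟩ := MulAction.orbitRel_apply.1 h
    rw [MulAction.orbitRel_apply]
    exact ⟨(g : G), Prod.ext g.2 hg⟩
  · intro x y h
    induction x using Quotient.inductionOn' with
    | h b =>
    induction y using Quotient.inductionOn' with
    | h c =>
    obtain ⟨g, hg⟩ := MulAction.orbitRel_apply.1 (Quotient.eq''.1 h)
    apply Quotient.sound'
    rw [MulAction.orbitRel_apply]
    exact ⟨⟨g, congrArg Prod.fst hg⟩, congrArg Prod.snd hg⟩
  · intro x
    induction x using Quotient.inductionOn' with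
    | h p =>
    obtain ⟨g, hg⟩ := MulAction.exists_smul_eq G p.1 a
    refine ⟨Quotient.mk'' (g • p.2), ?_⟩
    apply Quotient.sound'
    rw [MulAction.orbitRel_apply]
    exact ⟨g, Prod.ext hg rfl⟩

end Cfsg.Agent.S0669
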