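import Cfsg.Statements.S0671
import Cfsg.Agent.Lib.Perm.PermModule

set_option autoImplicit false
open Cfsg

namespace Cfsg.Agent.S0671

/-- If the heart of the permutation module in characteristic `p` of a transitive action of degree `p ^ f` has no trivial composition factor, the action is doubly transitive. The hypothesis is phrased without composition series: no invariant subspaces `W < W'` between the constants and the sum-zero functions with trivial action on the quotient. -/
theorem result {G : Type*} [Group G] [Finite G] {K : Type*} [Field K] {p f : ℕ} [Fact p.Prime] [CharP K p] {Ω : Type*} [Fintype Ω] [MulAction G Ω] [MulAction.IsPretransitive G Ω] (hf : 1 ≤ f) (hcard : Fintype.card Ω = p ^ f) (h : ∀ W W' : Subrepresentation (Cfsg.permRep K G Ω), (Cfsg.permConstants K G Ω).toSubmodule ≤ W.toSubmodule → W.toSubmodule < W'.toSubmodule → W'.toSubmodule ≤ (Cfsg.permSumZero K G Ω).toSubmodule → ∃ g : G, ∃ v ∈ W'.toSubmodule, Cfsg.permRep K G Ω g v - v ∉ W.toSubmodule) : MulAction.IsMultiplyPretransitive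 G Ω 2 := by
  classical
  rw [MulAction.is_two_pretransitive_iff]
  by_contra hcon
  push Not at hcon
  obtain ⟨a₀, b₀, c₀, d₀, hab, hcd, hno⟩ := hcon
  obtain ⟨g₀, hg₀⟩ := MulAction.exists_smul_eq G c₀ a₀
  set x₀ := a₀
  set y₀ := b₀
  set y₁ := g₀ • d₀ with hy₁def
  have hy₁ : x₀ ≠ y₁ := fun e => hcd (MulAction.injective g₀ (hg₀.trans e))
  let R : Ω → Ω → Prop := fun x y => ∃ g : G, g • x₀ = x ∧ g • y₀ = y
  have hR0 : R x₀ y₀ := ⟨1, one_smul _ _, one_smul _ _⟩
  have hR1 : ¬ R x₀ y₁ := by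
    rintro ⟨g, hgx, hgy⟩
    refine hno (g₀⁻¹ * g) ?_ ?_
    · rw [mul_smul, hgx, inv_smul_eq_iff, hg₀]
    · rw [mul_smul, hgy, hy₁def, inv_smul_smul]
  have hRinv : ∀ (g : G) x y, R (g • x) (g • y) ↔ R x y := by
    intro g x y
    constructor
    · rintro ⟨k, hk, hk'⟩
      exact ⟨g⁻¹ * k, by rw [mul_smul, hk, inv_smul_smul], by rw [mul_smul, hk', inv_smul_smul]⟩
    · rintro ⟨k, hk, hk'⟩
      exact ⟨g * k, by rw [mul_smul, hk], by rw [mul_smul, hk']⟩
  let k : K := ((Finset.univ.filter fun y => R x₀ y).card : K)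
  let a : Ω → Ω → K := fun x y => (if R x y then 1 else 0) - (if x = y then k else 0)
  have hainv : ∀ (g : G) x y, a (g • x) (g • y) = a x y := fun g x y => by
    simp only [a, hRinv, smul_left_cancel_iff]
  let A : (Ω → K) →ₗ[K] (Ω → K) :=
    { toFun := fun v x => ∑ y, a x y * v y
      map_add' := fun u v => by funext x; simp [mul_add, Finset.sum_add_distrib]
      map_smul' := fun c v => by funext x; simp [Finset.mul_sum, mul_left_comm] }
  have hAg : ∀ (g : G) v, A (Cfsg.permRep K G Ω g v) = Cfsg.permRep K G Ω g (A v) := by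
    intro g v
    funext x
    show ∑ y, a x y * v (g⁻¹ • y) = ∑ y, a (g⁻¹ • x) y * v y
    rw [← Equiv.sum_comp (MulAction.toPerm g)]
    refine Finset.sum_congr rfl fun y _ => ?_
    rw [MulAction.toPerm_apply, inv_smul_smul]
    conv_lhs => rw [← hainv g⁻¹, inv_smul_smul]
  have hAone : A (fun _ => 1) = 0 := by
    funext x
    obtain ⟨g, rfl⟩ := MulAction.exists_smul_eq G x₀ x
    show ∑ y, a (g • x₀) y * 1 = 0
    rw [← Equiv.sum_comp (MulAction.toPerm g)]
    simp only [MulAction.toPerm_apply, hainv, mul_one, a, Finset.sum_sub_distrib,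
      Finset.sum_ite_eq, Finset.mem_univ, if_true, Finset.sum_boole]
    exact sub_self k
  have hsingle : ∀ y x, A (Pi.single y 1) x = a x y := by
    intro y x
    show ∑ z, a x z * (Pi.single y (1 : K) : Ω → K) z = a x y
    simp [Pi.single_apply]
  have ha0 : a x₀ y₀ = 1 := by simp [a, hR0, hab]
  have ha1 : a x₀ y₁ = 0 := by simp [a, hR1, hy₁]
  let W : Subrepresentation (Cfsg.permRep K G Ω) :=
    { toSubmodule := (Cfsg.permSumZero K G Ω).toSubmodule.map A
      apply_mem_toSubmodule := fun g v hv => by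
        obtain ⟨u, hu, rfl⟩ := hv
        exact ⟨_, (Cfsg.permSumZero K G Ω).apply_mem_toSubmodule g hu, hAg g u⟩ }
  let W' : Subrepresentation (Cfsg.permRep K G Ω) :=
    { toSubmodule := LinearMap.range A
      apply_mem_toSubmodule := fun g v hv => by
        obtain ⟨u, rfl⟩ := hv
        exact ⟨_, hAg g u⟩ }
  let N : Subrepresentation (Cfsg.permRep K G Ω) :=
    { toSubmodule := LinearMap.ker A
      apply_mem_toSubmodule := fun g v hv => by
        rw [LinearMap.mem_ker] at hv ⊢
        rw [hAg, hv, map_zero] }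
  have hW : W.toSubmodule ≠ ⊥ := by
    intro hbot
    have hmem : A (Pi.single y₀ 1 - Pi.single y₁ 1) ∈ W.toSubmodule :=
      ⟨_, show ∑ z, (Pi.single y₀ (1 : K) - Pi.single y₁ 1 : Ω → K) z = 0 by simp, rfl⟩
    rw [hbot, Submodule.mem_bot, map_sub] at hmem
    have := congrFun hmem x₀
    rw [Pi.sub_apply, hsingle, hsingle, ha0, ha1, sub_zero] at this
    exact one_ne_zero this
  have hW' : W'.toSubmodule ≠ ⊤ := by
    intro htop
    have hinj : Function.Injective A :=
      LinearMap.injective_iff_surjective.2 (LinearMap.range_eq_top.1 htop)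
    exact one_ne_zero (congrFun (hinj (hAone.trans A.map_zero.symm)) x₀)
  have hN : N.toSubmodule ≠ ⊤ := by
    intro htop
    have : A (Pi.single y₀ 1) = 0 := LinearMap.mem_ker.1 (htop ▸ Submodule.mem_top : _ ∈ N.toSubmodule)
    have h' := congrFun this x₀
    rw [hsingle, ha0] at h'
    exact one_ne_zero h'
  have hle : W.toSubmodule ≤ W'.toSubmodule := LinearMap.map_le_range
  have hlt : W.toSubmodule < W'.toSubmodule := by
    refine lt_of_le_of_ne hle fun he => ?_
    obtain ⟨s, hs, hs'⟩ := (he.ge ⟨Pi.single x₀ 1, rfl⟩ : A (Pi.single x₀ 1) ∈ W.toSubmodule)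
    have hk : Pi.single x₀ 1 - s ∈ N.toSubmodule := by
      rw [LinearMap.mem_ker, map_sub, hs', sub_self]
    have := Submodule.add_mem _ (CfsgLib.Perm.PermModule.le_sumZero hcard N hN hk) hs
    rw [sub_add_cancel] at this
    have h1 : ∑ z, (Pi.single x₀ (1 : K) : Ω → K) z = 0 := this
    simp at h1
  obtain ⟨g, v, hv, hgv⟩ := h W W' (CfsgLib.Perm.PermModule.constants_le hcard W hW) hlt
    (CfsgLib.Perm.PermModule.le_sumZero hcard W' hW')
  obtain ⟨u, rfl⟩ := hv
  refine hgv ⟨Cfsg.permRep K G Ω g u - u, ?_, by rw [map_sub, hAg]⟩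
  show ∑ z, (u (g⁻¹ • z) - u z) = 0
  rw [Finset.sum_sub_distrib, sub_eq_zero]
  exact Equiv.sum_comp (MulAction.toPerm g⁻¹) u

end Cfsg.Agent.S0671
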