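import Cfsg.Statements.S0677
import Cfsg.Agent.Lib.Perm.PrimeNormalizer

set_option autoImplicit false
open Cfsg

namespace Cfsg.Agent.S0677

open scoped Pointwise

/-- In a transitive permutation group of prime degree `p` whose Sylow `p`-normaliser has even order, the point stabilisers are the only subgroups of index `p`. -/
theorem result {α : Type*} [Fintype α] [DecidableEq α] {p : ℕ} [Fact p.Prime] (hα : Fintype.card α = p) (G : Subgroup (Equiv.Perm α)) [MulAction.IsPretransitive G α] (P : Sylow p G) (heven : Even (Nat.card (Subgroup.normalizer ((P : Subgroup G) : Set G)))) (H : Subgroup G) (hH : H.index = p) : ∃ a : α, H = MulAction.stabilizer G a := by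
  classical
  have hidx : ∀ a : α, (MulAction.stabilizer G a).index = p := fun a => by
    rw [MulAction.index_stabilizer_of_transitive, Nat.card_eq_fintype_card, hα]
  suffices hfix : ∃ a : α, ∀ h ∈ H, h • a = a by
    obtain ⟨a, ha⟩ := hfix
    refine ⟨a, ?_⟩
    refine Subgroup.eq_of_le_of_card_ge (fun h hh => ha h hh) (le_of_eq ?_)
    have h1 := Subgroup.index_mul_card H
    have h2 := Subgroup.index_mul_card (MulAction.stabilizer G a)
    rw [hH] at h1
    rw [hidx] at h2
    exact Nat.eq_of_mul_eq_mul_left (Fact.out : p.Prime).pos (h2.trans h1.symm)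
  have hp := (Fact.out : p.Prime)
  have hpH : ¬ p ∣ Nat.card H := by
    intro h
    have h1 : p ^ 2 ∣ Nat.card (Equiv.Perm α) := by
      refine dvd_trans ?_ (Subgroup.card_subgroup_dvd_card G)
      rw [← Subgroup.index_mul_card H, hH, pow_two]
      exact Nat.mul_dvd_mul_left p h
    rw [Nat.card_perm, Nat.card_eq_fintype_card, hα, ← Nat.mul_factorial_pred hp.ne_zero, pow_two] at h1
    have := hp.dvd_factorial.1 (Nat.dvd_of_mul_dvd_mul_left hp.pos h1)
    have := hp.pos
    omega
  by_cases hp2 : p = 2
  · subst hp2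
    obtain ⟨a⟩ : Nonempty α := Fintype.card_pos_iff.1 (by omega)
    refine ⟨a, fun h hh => ?_⟩
    have h1 : Nat.card G ∣ 2 := by
      have := Subgroup.card_subgroup_dvd_card G
      rwa [Nat.card_perm, Nat.card_eq_fintype_card (α := α), hα] at this
    have h2 : Nat.card H = 1 := by
      have h3 : Nat.card H ∣ 2 := (Subgroup.card_subgroup_dvd_card H).trans h1
      rcases (Nat.dvd_prime Nat.prime_two).1 h3 with h | h
      · exact h
      · exact absurd (h ▸ dvd_rfl) hpH
    rw [Subgroup.card_eq_one.1 h2, Subgroup.mem_bot] at hh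
    rw [hh, one_smul]
  obtain ⟨e, σ, t, hσ, ht, htne, htt⟩ :=
    CfsgLib.Perm.PrimeNormalizer.exists_inverting_coords hα hp2 P heven
  rcases CfsgLib.Perm.PrimeNormalizer.affine_or_two_pretransitive e hσ with haff | h2
  · exact CfsgLib.Perm.PrimeNormalizer.exists_fixed_of_affine e H hpH haff
  by_contra hno
  push Not at hno
  rw [MulAction.is_two_pretransitive_iff] at h2
  haveI := Fintype.ofFinite H
  -- an orbit of `H` gives a cyclic difference set with multiplier `-1`
  let D : Finset α := (Finset.univ : Finset H).image fun h => h • e 0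
  have hHD : ∀ h ∈ H, ∀ x ∈ D, h • x ∈ D := by
    intro h hh x hx
    simp only [D, Finset.mem_image, Finset.mem_univ, true_and] at hx ⊢
    obtain ⟨k, rfl⟩ := hx
    exact ⟨⟨h, hh⟩ * k, mul_smul (⟨h, hh⟩ : H) k (e 0)⟩
  have he0 : e 0 ∈ D := Finset.mem_image.2 ⟨1, Finset.mem_univ _, one_smul _ _⟩
  have hDorb : (D : Set α) = MulAction.orbit H (e 0) := by
    ext x; simp [D, MulAction.mem_orbit_iff]
  have hDcard : Nat.card (MulAction.orbit H (e 0)) = D.card := by
    rw [← hDorb, Nat.card_coe_set_eq, Set.ncard_coe_finset]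
  have hne : D ≠ Finset.univ := by
    intro h
    apply hpH
    rw [show p = (MulAction.stabilizer H (e 0)).index by
      rw [MulAction.index_stabilizer, ← Nat.card_coe_set_eq, hDcard, h, Finset.card_univ, hα]]
    exact Subgroup.index_dvd_card _
  have hsmall : 2 ≤ D.card := by
    by_contra hlt
    obtain ⟨h, hh, hhe⟩ := hno (e 0)
    exact hhe (Finset.card_le_one.1 (by omega) _ (hHD h hh _ he0) _ he0)
  have hlarge : D.card + 2 ≤ p := by
    by_contra hlt
    have hle := Finset.card_le_univ D
    rw [hα] at hle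
    have hne' : D.card ≠ p := fun h => hne (Finset.eq_univ_of_card D (by rw [h, hα]))
    have h1 : Dᶜ.card = 1 := by rw [Finset.card_compl, hα]; omega
    obtain ⟨z, hz⟩ := Finset.card_eq_one.1 h1
    obtain ⟨h, hh, hhz⟩ := hno z
    have hz' : z ∉ D := Finset.mem_compl.1 (hz ▸ Finset.mem_singleton_self z)
    have hin : h • z ∈ D := by
      by_contra hh'
      exact hhz (Finset.mem_singleton.1 (hz ▸ Finset.mem_compl.2 hh'))
    have := hHD h⁻¹ (H.inv_mem hh) _ hin
    rw [inv_smul_smul] at this
    exact hz' this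
  -- blocks
  let B : ZMod p → Finset α := fun i => D.image fun x => e (e.symm x + i)
  have hBmem : ∀ i z, e z ∈ B i ↔ e (z - i) ∈ D := by
    intro i z
    simp only [B, Finset.mem_image]
    constructor
    · rintro ⟨x, hx, hxz⟩
      rwa [← eq_sub_of_add_eq (e.injective hxz), e.apply_symm_apply]
    · intro h
      exact ⟨_, h, by rw [e.symm_apply_apply, sub_add_cancel]⟩
  have hpow : ∀ (n : ℕ) x, σ ^ n • x = e (e.symm x + n) := fun n x => by
    conv_lhs => rw [← e.apply_symm_apply x]
    rw [← CfsgLib.Perm.PrimeNormalizer.coordHom_apply, CfsgLib.Perm.PrimeNormalizer.coordHom_pow e hσ]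
  have hblock : ∀ g : G, ∃ i, g • D = B i := by
    intro g
    obtain ⟨h, hh, n, rfl⟩ : ∃ h ∈ H, ∃ n : ℕ, g = σ ^ n * h := by
      -- `σ` generates a complement to `H`
      have hσp : σ ^ p = 1 := CfsgLib.Perm.PrimeNormalizer.coordHom_injective e (Equiv.ext fun i => by
        rw [CfsgLib.Perm.PrimeNormalizer.coordHom_pow e hσ]; simp)
      have hσ1 : σ ≠ 1 := fun h => by
        have := hσ 0
        rw [h, one_smul] at this
        exact zero_ne_one (α := ZMod p) ((e.injective this).trans (zero_add _))
      have hord : orderOf σ = p := orderOf_eq_prime hσp hσ1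
      have hcompl : Subgroup.IsComplement' (Subgroup.zpowers σ) H := by
        refine Subgroup.isComplement'_of_coprime ?_ ?_
        · rw [Nat.card_zpowers, hord, ← Subgroup.index_mul_card H, hH]
        · rw [Nat.card_zpowers, hord]
          exact (hp.coprime_iff_not_dvd).2 hpH
      obtain ⟨⟨⟨z, hz⟩, ⟨h, hh⟩⟩, hzh⟩ := hcompl.2 g
      obtain ⟨n, rfl⟩ := (isOfFinOrder_of_finite σ).mem_powers_iff_mem_zpowers.2 hz
      exact ⟨h, hh, n, hzh.symm⟩
    refine ⟨(n : ZMod p), ?_⟩
    have hhD : h • D = D := by
      refine Finset.eq_of_subset_of_card_le ?_ (by rw [Finset.card_smul_finset])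
      intro x hx
      obtain ⟨y, hy, rfl⟩ := Finset.mem_smul_finset.1 hx
      exact hHD h hh y hy
    rw [mul_smul, hhD]
    ext x
    simp [B, Finset.mem_smul_finset, hpow]
  -- the count of blocks through a pair is constant
  let f : α → α → ℕ := fun x y => ((Finset.univ.image B).filter fun b => x ∈ b ∧ y ∈ b).card
  have hfinv : ∀ (g : G) x y, f x y ≤ f (g • x) (g • y) := by
    intro g x y
    refine Finset.card_le_card_of_injOn (fun b => g • b) (fun b hb => ?_) (fun b _ b' _ h => smul_left_cancel g h)
    simp only [Finset.coe_filter, Finset.mem_image, Finset.mem_univ, true_and, Set.mem_setOf_eq] at hb ⊢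
    obtain ⟨⟨i, rfl⟩, hx, hy⟩ := hb
    refine ⟨?_, Finset.smul_mem_smul_finset hx, Finset.smul_mem_smul_finset hy⟩
    have hBi : B i = σ ^ i.val • D := by
      ext z; simp [B, Finset.mem_smul_finset, hpow]
    obtain ⟨j, hj⟩ := hblock (g * σ ^ i.val)
    exact ⟨j, by rw [← hj, hBi, mul_smul]⟩
  have hBinj : Function.Injective B := by
    intro i j hij
    by_contra hne'
    have hsh : ∀ z, e z ∈ D → e (z + (i - j)) ∈ D := fun z hz => by
      have : e (z + i) ∈ B i := (hBmem i _).2 (by rwa [add_sub_cancel_right])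
      rw [hij, hBmem] at this
      rwa [← add_sub_assoc]
    refine hne (Finset.eq_univ_of_forall fun x => ?_)
    have hmul : ∀ n : ℕ, e ((n : ZMod p) * (i - j)) ∈ D := by
      intro n
      induction n with
      | zero => simpa using he0
      | succ n ih => simpa [add_mul] using hsh _ ih
    have := hmul ((e.symm x / (i - j))).val
    rwa [ZMod.natCast_zmod_val, div_mul_cancel₀ _ (sub_ne_zero.2 hne'), e.apply_symm_apply] at this
  let Dz : Finset (ZMod p) := Finset.univ.filter fun z => e z ∈ D
  have hcount : ∀ d, f (e 0) (e d) = (Dz.filter fun x => x + d ∈ Dz).card := by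
    intro d
    show ((Finset.univ.image B).filter _).card = _
    rw [Finset.filter_image, Finset.card_image_of_injective _ hBinj]
    refine Finset.card_bij (fun i _ => -i) (fun i hi => ?_) (fun i _ j _ h => neg_injective h) (fun x hx => ⟨-x, ?_, neg_neg x⟩)
    · simp only [Finset.mem_filter, Finset.mem_univ, true_and, hBmem, zero_sub] at hi
      simp only [Dz, Finset.mem_filter, Finset.mem_univ, true_and]
      exact ⟨hi.1, by rw [neg_add_eq_sub]; exact hi.2⟩
    · simp only [Dz, Finset.mem_filter, Finset.mem_univ, true_and] at hx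
      simp only [Finset.mem_filter, Finset.mem_univ, true_and, hBmem, zero_sub, neg_neg, sub_neg_eq_add]
      exact ⟨hx.1, by rw [add_comm]; exact hx.2⟩
  have hconst : ∀ d : ZMod p, d ≠ 0 → (Dz.filter fun x => x + d ∈ Dz).card = f (e 0) (e 1) := by
    intro d hd
    rw [← hcount]
    refine le_antisymm ?_ ?_
    · obtain ⟨g, hg0, hg1⟩ := h2 (fun h => hd (e.injective h).symm : e 0 ≠ e d)
        (fun h => zero_ne_one (e.injective h) : e 0 ≠ e 1)
      calc f (e 0) (e d) ≤ f (g • e 0) (g • e d) := hfinv g _ _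
        _ = _ := by rw [hg0, hg1]
    · obtain ⟨g, hg0, hg1⟩ := h2 (fun h => zero_ne_one (e.injective h) : e 0 ≠ e 1)
        (fun h => hd (e.injective h).symm : e 0 ≠ e d)
      calc f (e 0) (e 1) ≤ f (g • e 0) (g • e 1) := hfinv g _ _
        _ = _ := by rw [hg0, hg1]
  -- `-Dz` is a translate of `Dz`
  obtain ⟨c, hc⟩ := hblock t
  have hsym : ∀ z, z ∈ Dz → -z - c ∈ Dz := by
    intro z hz
    simp only [Dz, Finset.mem_filter, Finset.mem_univ, true_and] at hz ⊢
    rw [← hBmem, ← hc, ← ht]
    exact Finset.smul_mem_smul_finset hz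
  have h2' : (2 : ZMod p) ≠ 0 := by
    intro h
    have h' : ((2 : ℕ) : ZMod p) = 0 := by exact_mod_cast h
    rw [ZMod.natCast_eq_zero_iff] at h'
    exact hp2 ((Nat.prime_dvd_prime_iff_eq hp Nat.prime_two).1 h')
  let D' : Finset (ZMod p) := Dz.image fun z => z + c / 2
  have hD'mem : ∀ z, z ∈ D' ↔ z - c / 2 ∈ Dz := by
    intro z
    simp only [D', Finset.mem_image]
    exact ⟨by rintro ⟨y, hy, rfl⟩; rwa [add_sub_cancel_right], fun h => ⟨_, h, sub_add_cancel _ _⟩⟩
  have hres := CfsgLib.Perm.PrimeNormalizer.symmetric_difference_set hp2 D' (fun x hx => by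
    rw [hD'mem] at hx ⊢
    have := hsym _ hx
    rwa [show -(x - c / 2) - c = -x - c / 2 by field_simp; ring] at this) (f (e 0) (e 1))
    fun d hd => by
      rw [← hconst d hd]
      refine Finset.card_bij (fun x _ => x - c / 2) (fun x hx => ?_) (fun x _ y _ h => sub_left_injective h)
        (fun y hy => ⟨y + c / 2, ?_, add_sub_cancel_right _ _⟩)
      · rw [Finset.mem_filter] at hx ⊢
        rw [hD'mem, hD'mem] at hx
        exact ⟨hx.1, by rw [sub_add_eq_add_sub]; exact hx.2⟩
      · rw [Finset.mem_filter] at hy ⊢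
        rw [hD'mem, hD'mem]
        exact ⟨by rw [add_sub_cancel_right]; exact hy.1,
          by rw [show y + c / 2 + d - c / 2 = y + d by ring]; exact hy.2⟩
  have hcard : D'.card = D.card := by
    rw [Finset.card_image_of_injective _ (add_left_injective _)]
    refine Finset.card_bij (fun z _ => e z) (fun z hz => by simpa [Dz] using hz)
      (fun a _ b _ h => e.injective h) (fun x hx => ⟨e.symm x, by simp [Dz, hx], by simp⟩)
  omega

end Cfsg.Agent.S0677
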