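import Cfsg.Statements.S0680
import Cfsg.Agent.Lib.Perm.SharplyTwo

set_option autoImplicit false
open Cfsg

namespace Cfsg.Agent.S0680

theorem fix_two {α : Type*} (G : Subgroup (Equiv.Perm α))
    (hsharp : ∀ x : Fin 2 ↪ α, MulAction.stabilizer G x = ⊥) :
    ∀ n : G, ∀ c d : α, c ≠ d → n • c = c → n • d = d → n = 1 := by
  intro n c d hcd hc hd
  have hm : n ∈ MulAction.stabilizer G (⟨![c, d], by
      intro i j hij
      fin_cases i <;> fin_cases j <;> simp [hcd, Ne.symm hcd] at hij ⊢⟩ : Fin 2 ↪ α) := by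
    refine Function.Embedding.ext fun i => ?_
    fin_cases i
    · exact hc
    · exact hd
  rwa [hsharp, Subgroup.mem_bot] at hm

/-- A finite sharply doubly transitive permutation group has degree a prime power `p ^ j`; a Sylow `p`-subgroup is normal, elementary abelian and regular, and consists of the identity together with the elements without fixed points. (Frobenius' Theorem is not needed.) -/
theorem result {α : Type*} [Fintype α] [DecidableEq α] (G : Subgroup (Equiv.Perm α)) [MulAction.IsMultiplyPretransitive G α 2] (hsharp : ∀ x : Fin 2 ↪ α, MulAction.stabilizer G x = ⊥) (h2 : 2 ≤ Fintype.card α) : ∃ p j : ℕ, p.Prime ∧ 1 ≤ j ∧ Fintype.card α = p ^ j ∧ ∀ (hp : Fact p.Prime) (P : Sylow p G), (P : Subgroup G).Normal ∧ IsMulCommutative (P : Subgroup G) ∧ (∀ x ∈ (P : Subgroup G), x ^ p = 1) ∧ MulAction.IsPretransitive (P : Subgroup G) α ∧ (∀ a : α, MulAction.stabilizer (P : Subgroup G) a = ⊥) ∧ ∀ g : G, g ∈ (P : Subgroup G) ↔ g = 1 ∨ ∀ a : α, g • a ≠ a := by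
  classical
  obtain ⟨p, j, K, hp, hj, hcard, hKn, hcomm, hexp, hKcard, hKmem, htr, hreg, hidx⟩ :=
    CfsgLib.Perm.SharplyTwo.exists_kernel ‹MulAction.IsMultiplyPretransitive G α 2› h2 (fix_two G hsharp)
  refine ⟨p, j, hp, hj, hcard, fun hpf P => ?_⟩
  have hKp : IsPGroup p K := fun n => ⟨1, by rw [pow_one]; exact Subtype.ext (hexp n n.2)⟩
  let S : Sylow p G := hKp.toSylow hidx
  haveI : (S : Subgroup G).Normal := hKn
  haveI : Unique (Sylow p G) := Sylow.unique_of_normal S hKn
  have hPK : (P : Subgroup G) = K := by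
    rw [Subsingleton.elim P S]
    rfl
  subst hPK
  exact ⟨hKn, hcomm, hexp, htr, hreg, hKmem⟩

end Cfsg.Agent.S0680
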