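import Cfsg.Statements.S0681
import Mathlib.GroupTheory.GroupAction.MultipleTransitivity

set_option autoImplicit false
open Cfsg

namespace Cfsg.Agent.S0681

/-- The affine maps `x ↦ x * a + b`, `a ≠ 0`, of a near-field form a sharply doubly transitive permutation group. -/
theorem result {F : Type*} [Cfsg.NearField F] : ∃ H : Subgroup (Equiv.Perm F), (∀ σ : Equiv.Perm F, σ ∈ H ↔ ∃ a b : F, a ≠ 0 ∧ ∀ x : F, σ x = x * a + b) ∧ MulAction.IsMultiplyPretransitive H F 2 ∧ ∀ x : Fin 2 ↪ F, MulAction.stabilizer H x = ⊥ := by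
  classical
  have hzero : ∀ c : F, (0 : F) * c = 0 := fun c => by
    have := NearField.right_distrib (0 : F) 0 c
    rw [add_zero] at this
    exact left_eq_add.1 this
  have hneg : ∀ a c : F, (-a) * c = -(a * c) := fun a c => by
    have := NearField.right_distrib a (-a) c
    rw [add_neg_cancel, hzero] at this
    exact (neg_eq_of_add_eq_zero_right this.symm).symm
  have hnz : ∀ a c : F, a ≠ 0 → c ≠ 0 → a * c ≠ 0 := by
    intro a c ha hc h
    obtain ⟨c', hc', -⟩ := NearField.exists_inv c hc
    apply ha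
    rw [← mul_one a, ← hc', ← mul_assoc, h, hzero]
  have hone : (1 : F) ≠ 0 := fun h => NearField.zero_ne_one h.symm
  let P : Equiv.Perm F → Prop := fun σ => ∃ a b : F, a ≠ 0 ∧ ∀ x : F, σ x = x * a + b
  let H : Subgroup (Equiv.Perm F) :=
  { carrier := {σ | P σ}
    one_mem' := ⟨1, 0, hone, fun x => by simp⟩
    mul_mem' := by
      rintro σ τ ⟨a, b, ha, hσ⟩ ⟨c, d, hc, hτ⟩
      refine ⟨c * a, d * a + b, hnz _ _ hc ha, fun x => ?_⟩
      rw [Equiv.Perm.mul_apply, hτ, hσ, NearField.right_distrib, mul_assoc, add_assoc]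
    inv_mem' := by
      rintro σ ⟨a, b, ha, hσ⟩
      obtain ⟨a', h1, h2⟩ := NearField.exists_inv a ha
      refine ⟨a', -b * a', fun h => ?_, fun x => ?_⟩
      · rw [h, NearField.mul_zero] at h1
        exact NearField.zero_ne_one h1
      · apply σ.injective
        rw [Equiv.Perm.inv_def, Equiv.apply_symm_apply, hσ, ← NearField.right_distrib,
          mul_assoc, h2, mul_one, neg_add_cancel_right] }
  have hmem : ∀ σ, σ ∈ H ↔ ∃ a b : F, a ≠ 0 ∧ ∀ x : F, σ x = x * a + b := fun σ => Iff.rfl
  refine ⟨H, hmem, ?_, ?_⟩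
  · rw [MulAction.is_two_pretransitive_iff]
    intro u v s t huv hst
    have hd : u + -v ≠ 0 := fun h => huv (by
      rw [← sub_eq_add_neg, sub_eq_zero] at h; exact h)
    have he : s + -t ≠ 0 := fun h => hst (by
      rw [← sub_eq_add_neg, sub_eq_zero] at h; exact h)
    obtain ⟨d', hd', hd''⟩ := NearField.exists_inv _ hd
    have hd0 : d' ≠ 0 := fun h => by
      rw [h, NearField.mul_zero] at hd'
      exact NearField.zero_ne_one hd'
    set a := d' * (s + -t) with ha
    have ha0 : a ≠ 0 := hnz _ _ hd0 he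
    obtain ⟨a', ha', ha''⟩ := NearField.exists_inv a ha0
    have hua : u * a + -(v * a) = s + -t := by
      rw [← hneg, ← NearField.right_distrib, ha, ← mul_assoc, hd', one_mul]
    let σ : Equiv.Perm F :=
    { toFun := fun x => x * a + (-(u * a) + s)
      invFun := fun y => (y + -(-(u * a) + s)) * a'
      left_inv := fun x => by
        simp only
        rw [add_neg_cancel_right, mul_assoc, ha', mul_one]
      right_inv := fun y => by
        simp only
        rw [mul_assoc, ha'', mul_one, neg_add_cancel_right] }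
    refine ⟨⟨σ, a, _, ha0, fun x => rfl⟩, ?_, ?_⟩
    · show u * a + (-(u * a) + s) = s
      rw [add_neg_cancel_left]
    · show v * a + (-(u * a) + s) = t
      have h1 : v * a + -(u * a) = t + -s := by
        have := congrArg Neg.neg hua
        rwa [neg_add_rev, neg_neg, neg_add_rev, neg_neg] at this
      rw [← add_assoc, h1, neg_add_cancel_right]
  · intro x
    rw [eq_bot_iff]
    rintro ⟨σ, a, b, ha, hσ⟩ hg
    rw [Subgroup.mem_bot]
    apply Subtype.ext
    apply Equiv.ext
    intro y
    have h0 : x 0 * a + b = x 0 := (hσ _).symm.trans (congrArg (fun e : Fin 2 ↪ F => e 0) hg)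
    have h1 : x 1 * a + b = x 1 := (hσ _).symm.trans (congrArg (fun e : Fin 2 ↪ F => e 1) hg)
    have hd : x 0 + -(x 1) ≠ 0 := fun h => by
      rw [← sub_eq_add_neg, sub_eq_zero] at h
      exact absurd (x.injective h) (by decide)
    have h2 : (x 0 + -(x 1)) * a = x 0 + -(x 1) := by
      rw [NearField.right_distrib, hneg]
      conv_rhs => rw [← h0, ← h1]
      rw [neg_add_rev, add_assoc, add_neg_cancel_left]
    obtain ⟨d', -, hd'⟩ := NearField.exists_inv _ hd
    have ha1 : a = 1 := by
      have := congrArg (d' * ·) h2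
      simp only [← mul_assoc, hd', one_mul] at this
      exact this
    rw [ha1, mul_one] at h0
    show σ y = y
    rw [hσ, ha1, mul_one, left_eq_add.1 h0.symm, add_zero]

end Cfsg.Agent.S0681
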