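import Cfsg.Statements.S0682
import Mathlib.GroupTheory.PGroup
import Mathlib.Tactic

set_option autoImplicit false
open Cfsg

namespace Cfsg.Agent.S0682

/-- A finite near-field has prime-power order; its additive group is commutative of prime exponent. -/
theorem result {F : Type*} [Cfsg.NearField F] [Finite F] : ∃ p j : ℕ, p.Prime ∧ 1 ≤ j ∧ Nat.card F = p ^ j ∧ (∀ x y : F, x + y = y + x) ∧ ∀ x : F, p • x = 0 := by
  classical
  have hzero : ∀ c : F, (0 : F) * c = 0 := fun c => by
    have := NearField.right_distrib (0 : F) 0 c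
    rw [add_zero] at this
    exact left_eq_add.1 this
  let R : F → (F →+ F) := fun c =>
    { toFun := fun x => x * c
      map_zero' := hzero c
      map_add' := fun x y => NearField.right_distrib x y c }
  have hmove : ∀ x y : F, x ≠ 0 → ∃ c : F, x * c = y := by
    intro x y hx
    obtain ⟨x', hx', -⟩ := NearField.exists_inv x hx
    exact ⟨x' * y, by rw [← mul_assoc, hx', one_mul]⟩
  have hone : (1 : F) ≠ 0 := fun h => NearField.zero_ne_one h.symm
  have hnt : Nontrivial F := ⟨⟨1, 0, hone⟩⟩
  have hord : ∀ x : F, x ≠ 0 → addOrderOf x = addOrderOf (1 : F) := by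
    intro x hx
    obtain ⟨c, hc⟩ := hmove 1 x hone
    obtain ⟨d, hd⟩ := hmove x 1 hx
    apply Nat.dvd_antisymm
    · exact hc ▸ addOrderOf_map_dvd (R c) 1
    · exact hd ▸ addOrderOf_map_dvd (R d) x
  set p := addOrderOf (1 : F) with hpdef
  have hp1 : p ≠ 1 := fun h => hone (AddMonoid.addOrderOf_eq_one_iff.1 h)
  have hppos : 0 < p := addOrderOf_pos (1 : F)
  have hprime : p.Prime := by
    by_contra hnp
    obtain ⟨m, hmd, hm1, hmp⟩ := Nat.exists_dvd_of_not_prime (by omega) hnp
    obtain ⟨k, hk⟩ := hmd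
    have hm0 : m ≠ 0 := fun h => by rw [h, zero_mul] at hk; omega
    have hne : m • (1 : F) ≠ 0 := by
      intro h
      have h1 := addOrderOf_dvd_of_nsmul_eq_zero h
      rw [← hpdef] at h1
      exact hmp (Nat.dvd_antisymm ⟨k, hk⟩ h1)
    have h2 := hord _ hne
    rw [addOrderOf_nsmul' _ hm0, ← hpdef] at h2
    have hg : Nat.gcd p m = m := Nat.gcd_eq_right ⟨k, hk⟩
    rw [hg] at h2
    have h3 : p / m < p := Nat.div_lt_self hppos (by omega)
    omega
  have hexp : ∀ x : F, p • x = 0 := by
    intro x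
    by_cases hx : x = 0
    · rw [hx, smul_zero]
    · exact hord x hx ▸ addOrderOf_nsmul_eq_zero x
  have : Fact p.Prime := ⟨hprime⟩
  have hpg : IsPGroup p (Multiplicative F) := fun x => ⟨1, by
    rw [pow_one]; exact hexp x.toAdd⟩
  have hcomm : ∀ x y : F, x + y = y + x := by
    have hcen : Nontrivial (Subgroup.center (Multiplicative F)) := hpg.center_nontrivial
    obtain ⟨⟨z, hz⟩, hz1⟩ := exists_ne (1 : Subgroup.center (Multiplicative F))
    have hz' : ∀ w : F, w + z.toAdd = z.toAdd + w := fun w =>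
      congrArg Multiplicative.toAdd (Subgroup.mem_center_iff.1 hz (Multiplicative.ofAdd w))
    have hz0 : z.toAdd ≠ 0 := fun h => hz1 (Subtype.ext h)
    intro x y
    by_cases hy : y = 0
    · rw [hy, add_zero, zero_add]
    obtain ⟨c, hc⟩ := hmove _ y hz0
    obtain ⟨d, hd⟩ := hmove y z.toAdd hy
    -- write x as w * c
    by_cases hcz : c = 0
    · exact absurd (by rw [← hc, hcz, NearField.mul_zero]) hy
    obtain ⟨c', -, hc'⟩ := NearField.exists_inv c hcz
    have hx : x * c' * c = x := by rw [mul_assoc, hc', mul_one]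
    rw [← hx, ← hc, ← NearField.right_distrib, ← NearField.right_distrib, hz']
  obtain ⟨j, hj⟩ := IsPGroup.iff_card.1 hpg
  have hj' : Nat.card F = p ^ j := hj
  refine ⟨p, j, hprime, ?_, hj', hcomm, hexp⟩
  by_contra hj0
  have h2 := Finite.one_lt_card (α := F)
  rw [hj', show j = 0 by omega, pow_zero] at h2
  omega

end Cfsg.Agent.S0682
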