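import Cfsg.Statements.S0683
import Cfsg.Agent.Lib.Perm.SharplyTwo

set_option autoImplicit false
open Cfsg

namespace Cfsg.Agent.S0683

theorem fix_two {α : Type*} (G : Subgroup (Equiv.Perm α))
    (hsharp : ∀ x : Fin 2 ↪ α, MulAction.stabilizer G x = ⊥) :
    ∀ n : G, ∀ c d : α, c ≠ d → n • c = c → n • d = d → n = 1 := by
  intro n c d hcd hc hd
  have hm : n ∈ MulAction.stabilizer G (⟨![c, d], by
      intro i j hij
      fin_cases i <;> fin_cases j <;> simp [hcd, Ne.symm hcd] at hij ⊢⟩ : Fin 2 ↪ α) := by
    refine Function.Embedding.ext fun i => ?_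
    fin_cases i
    · exact hc
    · exact hd
  rwa [hsharp, Subgroup.mem_bot] at hm

/-- A finite sharply doubly transitive permutation group is the affine group of a near-field: the permuted set carries a near-field structure for which the group consists exactly of the maps `x ↦ x * a + b` with `a ≠ 0`. -/
theorem result {α : Type*} [Fintype α] [DecidableEq α] (H : Subgroup (Equiv.Perm α)) [MulAction.IsMultiplyPretransitive H α 2] (hsharp : ∀ x : Fin 2 ↪ α, MulAction.stabilizer H x = ⊥) (h2 : 2 ≤ Fintype.card α) : ∃ _ : Cfsg.NearField α, ∀ σ : Equiv.Perm α, σ ∈ H ↔ ∃ a b : α, a ≠ 0 ∧ ∀ x : α, σ x = x * a + b := by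
  classical
  obtain ⟨p, j, K, hp, hj, hcard, hKn, hcomm, hexp, hKcard, hKmem, htr, hreg, hidx⟩ :=
    CfsgLib.Perm.SharplyTwo.exists_kernel ‹MulAction.IsMultiplyPretransitive H α 2› h2 (fix_two H hsharp)
  have hfix := fix_two H hsharp
  haveI : Nontrivial α := Fintype.one_lt_card_iff_nontrivial.1 (by omega)
  obtain ⟨o, e, hoe⟩ := exists_pair_ne α
  have h2' := ‹MulAction.IsMultiplyPretransitive H α 2›
  rw [MulAction.is_two_pretransitive_iff] at h2'
  -- the translations
  have hKbij : Function.Bijective (fun k : Additive K => ((Additive.toMul k : K) : H) • o) := by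
    refine ⟨fun k l hkl => ?_, fun y => ?_⟩
    · have h1 : (Additive.toMul l)⁻¹ * Additive.toMul k ∈ MulAction.stabilizer K o := by
        rw [MulAction.mem_stabilizer_iff, mul_smul, inv_smul_eq_iff]
        exact hkl
      rw [hreg, Subgroup.mem_bot, inv_mul_eq_one] at h1
      exact Additive.toMul.injective h1.symm
    · obtain ⟨k, hk⟩ := MulAction.exists_smul_eq K o y
      exact ⟨Additive.ofMul k, hk⟩
  let eK : Additive K ≃ α := Equiv.ofBijective _ hKbij
  let τ : α → H := fun y => ((Additive.toMul (eK.symm y) : K) : H)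
  have hτo : ∀ y, τ y • o = y := fun y => eK.apply_symm_apply y
  have hτK : ∀ y, τ y ∈ K := fun y => (Additive.toMul (eK.symm y)).2
  have hτuniq : ∀ k ∈ K, τ (k • o) = k := by
    intro k hk
    have : eK.symm (k • o) = Additive.ofMul ⟨k, hk⟩ := by rw [Equiv.symm_apply_eq]; rfl
    show ((Additive.toMul (eK.symm (k • o)) : K) : H) = k
    rw [this]; rfl
  -- the dilations
  have hex : ∀ y : α, ∃ h : H, h • o = o ∧ (y ≠ o → h • e = y) := by
    intro y
    by_cases hy : y = o
    · exact ⟨1, one_smul _ _, fun h => absurd hy h⟩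
    · obtain ⟨h, h1, h2⟩ := h2' hoe (Ne.symm hy)
      exact ⟨h, h1, fun _ => h2⟩
  choose δ hδo hδe using hex
  have hδuniq : ∀ h : H, h • o = o → δ (h • e) = h := by
    intro h ho
    have hne : h • e ≠ o := fun he => hoe ((MulAction.injective h (he.trans ho.symm))).symm
    have h1 : h⁻¹ * δ (h • e) = 1 := hfix _ o e hoe
      (by rw [mul_smul, hδo, inv_smul_eq_iff, ho])
      (by rw [mul_smul, hδe _ hne, inv_smul_smul])
    exact (inv_mul_eq_one.1 h1).symm
  let mulF : α → α → α := fun x y => if y = o then o else δ y • x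
  letI iAdd : AddGroup α := eK.symm.addGroup
  have hzero : (0 : α) = o := by
    show eK 0 = o
    exact one_smul K o
  have hadd : ∀ x y : α, x + y = (τ x * τ y) • o := fun x y => by
    show eK (eK.symm x + eK.symm y) = _
    rfl
  have hmul0 : ∀ x : α, mulF x o = o := fun x => by simp [mulF]
  have h0mul : ∀ y : α, mulF o y = o := fun y => by
    simp only [mulF]; split_ifs <;> simp [hδo]
  have hmulne : ∀ x y : α, x ≠ o → y ≠ o → mulF x y ≠ o := fun x y hx hy h => by
    simp only [mulF, if_neg hy] at h
    exact hx (MulAction.injective (δ y) (h.trans (hδo y).symm))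
  letI : Monoid α :=
    { mul := mulF
      one := e
      one_mul := fun y => by
        show mulF e y = y
        simp only [mulF]
        split_ifs with hy
        · exact hy.symm
        · exact hδe y hy
      mul_one := fun x => by
        show mulF x e = x
        have he : δ e = 1 := by
          have := hδuniq 1 (one_smul _ _)
          rwa [one_smul] at this
        simp [mulF, Ne.symm hoe, he]
      mul_assoc := fun x y z => by
        show mulF (mulF x y) z = mulF x (mulF y z)
        by_cases hy : y = o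
        · subst hy; rw [hmul0, h0mul, hmul0]
        by_cases hz : z = o
        · subst hz; rw [hmul0, hmul0, hmul0]
        have hyz := hmulne y z hy hz
        simp only [mulF, if_neg hy, if_neg hz] at hyz ⊢
        rw [if_neg hyz]
        have : δ (δ z • y) = δ z * δ y := by
          have h3 := hδuniq (δ z * δ y) (by rw [mul_smul, hδo, hδo])
          rwa [mul_smul, hδe y hy] at h3
        rw [this, mul_smul] }
  have hmul : ∀ x y : α, x * y = mulF x y := fun _ _ => rfl
  -- dilations are additive
  have hdist : ∀ g : H, g • o = o → ∀ x y : α, g • (x + y) = g • x + g • y := by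
    intro g hg x y
    have hg' : g⁻¹ • o = o := inv_smul_eq_iff.2 hg.symm
    have key : ∀ z, τ (g • z) = g * τ z * g⁻¹ := by
      intro z
      have h1 := hτuniq (g * τ z * g⁻¹) (hKn.conj_mem _ (hτK z) g)
      rwa [mul_smul, mul_smul, hg', hτo] at h1
    rw [hadd, hadd, key, key, show g * τ x * g⁻¹ * (g * τ y * g⁻¹) = g * (τ x * τ y) * g⁻¹ by group]
    simp only [mul_smul, hg']
  let inst : Cfsg.NearField α :=
    { right_distrib := fun a b c => by
        rw [hmul, hmul, hmul]
        simp only [mulF]
        split_ifs with hc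
        · rw [← hzero, add_zero]
        · exact hdist _ (hδo c) a b
      mul_zero := fun a => by rw [hmul, hzero, hmul0]
      zero_ne_one := by
        rw [hzero]; exact hoe
      exists_inv := fun a ha => by
        rw [hzero] at ha
        have hb : (δ a)⁻¹ • e ≠ o := fun h => hoe (by
          rw [inv_smul_eq_iff, hδo] at h; exact h.symm)
        have hδb : δ ((δ a)⁻¹ • e) = (δ a)⁻¹ := hδuniq _ (inv_smul_eq_iff.2 (hδo a).symm)
        refine ⟨(δ a)⁻¹ • e, ?_, ?_⟩
        · rw [hmul]
          simp only [mulF, if_neg hb, hδb]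
          show (δ a)⁻¹ • a = e
          rw [inv_smul_eq_iff, hδe a ha]
        · rw [hmul]
          simp only [mulF, if_neg ha, smul_inv_smul]
          rfl }
  refine ⟨inst, fun σ => ⟨fun hσ => ?_, ?_⟩⟩
  · let g : H := ⟨σ, hσ⟩
    set b := g • o with hb
    have hgo : ((τ b)⁻¹ * g) • o = o := by rw [mul_smul, ← hb, inv_smul_eq_iff, hτo]
    set a := ((τ b)⁻¹ * g) • e with ha
    have hao : a ≠ o := fun h => hoe (MulAction.injective ((τ b)⁻¹ * g) (hgo.trans h.symm))
    have hδa : δ a = (τ b)⁻¹ * g := hδuniq _ hgo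
    refine ⟨a, b, fun h => hao (h.trans hzero), fun x => ?_⟩
    show g • x = x * a + b
    rw [hmul, hadd]
    simp only [mulF, if_neg hao, hδa]
    have hc : τ (((τ b)⁻¹ * g) • x) * τ b = τ b * τ (((τ b)⁻¹ * g) • x) :=
      congrArg Subtype.val (hcomm.is_comm.comm ⟨_, hτK _⟩ ⟨_, hτK b⟩)
    rw [hc, mul_smul, hτo, mul_smul, smul_inv_smul]
  · rintro ⟨a, b, ha, hσ⟩
    have hao : a ≠ o := fun h => ha (h.trans hzero.symm)
    have : σ = ((τ b * δ a : H) : Equiv.Perm α) := by
      refine Equiv.ext fun x => ?_
      rw [hσ x]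
      show x * a + b = (τ b * δ a) • x
      rw [hmul, hadd]
      simp only [mulF, if_neg hao]
      have hc : τ (δ a • x) * τ b = τ b * τ (δ a • x) :=
        congrArg Subtype.val (hcomm.is_comm.comm ⟨_, hτK _⟩ ⟨_, hτK b⟩)
      rw [hc, mul_smul, hτo, mul_smul]
    rw [this]
    exact (τ b * δ a).2

end Cfsg.Agent.S0683
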