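import Cfsg.Statements.S0684
import Cfsg.Agent.Lib.Perm.RegularLinear
import Mathlib.RingTheory.Adjoin.Basic

set_option autoImplicit false
open Cfsg

namespace Cfsg.Agent.S0684

/-- Point stabiliser of a sharply doubly transitive group not of semilinear type: a maximal normal abelian subgroup `A` of a linear group `H` that is regular on non-zero vectors and has no irreducible cyclic normal subgroup is cyclic and reducible, and the order of `A` divides `p ^ k - 1` for `k` the dimension of a minimal `A`-invariant subspace. -/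
theorem result {p : ℕ} [Fact p.Prime] {V : Type*} [AddCommGroup V] [Module (ZMod p) V] [Finite V] (H : Subgroup (V ≃ₗ[ZMod p] V)) (hreg : ∀ v w : V, v ≠ 0 → w ≠ 0 → ∃! h : H, (h : V ≃ₗ[ZMod p] V) v = w) (hI : ∀ A : Subgroup H, A.Normal → IsCyclic A → ∃ W : Submodule (ZMod p) V, W ≠ ⊥ ∧ W ≠ ⊤ ∧ ∀ a ∈ A, ∀ v ∈ W, ((a : H) : V ≃ₗ[ZMod p] V) v ∈ W) (A : Subgroup H) (hAn : A.Normal) (hAc : IsMulCommutative A) (hAmax : ∀ B : Subgroup H, B.Normal → IsMulCommutative B → A ≤ B → B = A) : IsCyclic A ∧ ∃ W : Submodule (ZMod p) V, W ≠ ⊥ ∧ W ≠ ⊤ ∧ (∀ a ∈ A, ∀ v ∈ W, ((a : H) : V ≃ₗ[ZMod p] V) v ∈ W) ∧ (∀ W' : Submodule (ZMod p) V, W' ≤ W → (∀ a ∈ A, ∀ v ∈ W', ((a : H) : V ≃ₗ[ZMod p] V) v ∈ W') → W' = ⊥ ∨ W' = W) ∧ Nat.card A ∣ p ^ Module.finrank (ZMod p) W - 1 := by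
  have := CfsgLib.Perm.RegularLinear.finite_group (H := H)
  have hcyc : IsCyclic A := by
    by_cases hs : Subsingleton V
    · have : Subsingleton A := ⟨fun a b => Subtype.ext (Subtype.ext (LinearEquiv.ext fun v => Subsingleton.elim _ _))⟩
      infer_instance
    · have : Nontrivial V := not_subsingleton_iff_nontrivial.1 hs
      obtain ⟨W, -, hW⟩ := CfsgLib.Perm.RegularLinear.exists_irr A (top_ne_bot : (⊤ : Submodule (ZMod p) V) ≠ ⊥)
        (fun _ _ _ _ => trivial)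
      exact CfsgLib.Perm.RegularLinear.isCyclic_of_irr hreg hAc hW
  obtain ⟨W₀, hb, ht, hinv⟩ := hI A hAn hcyc
  obtain ⟨W, hle, hW⟩ := CfsgLib.Perm.RegularLinear.exists_irr A hb hinv
  refine ⟨hcyc, W, hW.ne_bot, fun e => ht (top_le_iff.1 (e ▸ hle)), hW.inv, hW.min, ?_⟩
  have := CfsgLib.Perm.RegularLinear.card_dvd hreg hW.inv
  rwa [Module.natCard_eq_pow_finrank (K := ZMod p) (V := W), Nat.card_zmod] at this

end Cfsg.Agent.S0684
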