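import Cfsg.Statements.S0685
import Cfsg.Agent.Lib.Perm.RegularLinear
import Mathlib.RingTheory.Adjoin.Basic

set_option autoImplicit false
open Cfsg

namespace Cfsg.Agent.S0685

/-- In a linear group over the prime field that is regular on non-zero vectors and has no irreducible cyclic normal subgroup, a maximal normal abelian subgroup is properly contained in its centraliser, which is non-abelian. -/
theorem result {p : ℕ} [Fact p.Prime] {V : Type*} [AddCommGroup V] [Module (ZMod p) V] [Finite V] (H : Subgroup (V ≃ₗ[ZMod p] V)) (hreg : ∀ v w : V, v ≠ 0 → w ≠ 0 → ∃! h : H, (h : V ≃ₗ[ZMod p] V) v = w) (hI : ∀ A : Subgroup H, A.Normal → IsCyclic A → ∃ W : Submodule (ZMod p) V, W ≠ ⊥ ∧ W ≠ ⊤ ∧ ∀ a ∈ A, ∀ v ∈ W, ((a : H) : V ≃ₗ[ZMod p] V) v ∈ W) (A : Subgroup H) (hAn : A.Normal) (hAc : IsMulCommutative A) (hAmax : ∀ B : Subgroup H, B.Normal → IsMulCommutative B → A ≤ B → B = A) : A < Subgroup.centralizer (A : Set H) ∧ ¬ IsMulCommutative (Subgroup.centralizer (A : Set H)) :=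 by
  classical
  have := CfsgLib.Perm.RegularLinear.finite_group (H := H)
  set C := Subgroup.centralizer (A : Set H) with hC
  have hAC : A ≤ C := fun a ha => Subgroup.mem_centralizer_iff.2 fun b hb =>
    congrArg Subtype.val (hAc.is_comm.comm ⟨b, hb⟩ ⟨a, ha⟩)
  suffices hne : C ≠ A by
    refine ⟨lt_of_le_of_ne hAC (Ne.symm hne), fun hcc => hne (hAmax C ⟨fun c hc g => ?_⟩ hcc hAC)⟩
    rw [hC, Subgroup.mem_centralizer_iff] at hc ⊢
    intro n hn
    have h := hc (g⁻¹ * n * g) (by simpa using hAn.conj_mem n hn g⁻¹)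
    calc n * (g * c * g⁻¹) = g * (g⁻¹ * n * g * c) * g⁻¹ := by group
      _ = g * (c * (g⁻¹ * n * g)) * g⁻¹ := by rw [h]
      _ = g * c * g⁻¹ * n := by group
  intro heq
  rcases subsingleton_or_nontrivial V with hs | hnt
  · have hss : Subsingleton A :=
      ⟨fun a b => Subtype.ext (Subtype.ext (LinearEquiv.ext fun v => Subsingleton.elim _ _))⟩
    obtain ⟨W, hb, -⟩ := hI A hAn inferInstance
    exact hb (Submodule.eq_bot_iff _ |>.2 fun x _ => Subsingleton.elim _ _)
  obtain ⟨W', -, hW'⟩ := CfsgLib.Perm.RegularLinear.exists_irr A (top_ne_bot : (⊤ : Submodule (ZMod p) V) ≠ ⊥)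
    (fun _ _ _ _ => trivial)
  have hcyc := CfsgLib.Perm.RegularLinear.isCyclic_of_irr hreg hAc hW'
  obtain ⟨W₀, hb, ht, hinv⟩ := hI A hAn hcyc
  obtain ⟨W, hle, hW⟩ := CfsgLib.Perm.RegularLinear.exists_irr A hb hinv
  have hWt : W ≠ ⊤ := fun e => ht (top_le_iff.1 (e ▸ hle))
  have hdim := CfsgLib.Perm.RegularLinear.two_mul_finrank_le hreg hAn hW hWt
  obtain ⟨a, ha⟩ := hcyc.exists_generator
  set n := Module.finrank (ZMod p) V with hn
  set d := Module.finrank (ZMod p) W with hd
  have hd0 : 0 < d := Nat.pos_of_ne_zero fun e => hW.ne_bot (Submodule.finrank_eq_zero.1 e)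
  have := CfsgLib.Perm.RegularLinear.commutant_isDomain hW
  have : Finite (Module.End (ZMod p) W) := Finite.of_injective _ DFunLike.coe_injective
  let _ : CommRing (CfsgLib.Perm.RegularLinear.commutant hW.inv) :=
    { (inferInstance : Ring (CfsgLib.Perm.RegularLinear.commutant hW.inv)) with
      mul_comm := fun a b => Subtype.ext (CfsgLib.Perm.RegularLinear.commutant_comm hW a.2 b.2) }
  let K := CfsgLib.Perm.RegularLinear.commutant hW.inv
  let T : H → (A : Subgroup H) := fun h => ⟨h * a * h⁻¹, hAn.conj_mem _ a.2 h⟩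
  let R : H → K := fun h => ⟨CfsgLib.Perm.RegularLinear.res hW.inv (T h),
    (CfsgLib.Perm.RegularLinear.mem_commutant _).2 fun b => by
      rw [← map_mul, ← map_mul, hAc.is_comm.comm]⟩
  let P : Polynomial (ZMod p) := minpoly (ZMod p) (((a : H) : V ≃ₗ[ZMod p] V) : V →ₗ[ZMod p] V)
  have hP0 : P ≠ 0 := minpoly.ne_zero (Algebra.IsIntegral.isIntegral _)
  have hPdeg : P.natDegree ≤ n := by
    rw [hn, ← LinearMap.charpoly_natDegree (((a : H) : V ≃ₗ[ZMod p] V) : V →ₗ[ZMod p] V)]
    exact Polynomial.natDegree_le_of_dvd (LinearMap.minpoly_dvd_charpoly _) (LinearMap.charpoly_monic _).ne_zero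
  have hpow : ∀ (h : H) (x : Polynomial (ZMod p)) (v : W),
      ((Polynomial.aeval (CfsgLib.Perm.RegularLinear.res hW.inv (T h)) x v : W) : V) =
        (h : V ≃ₗ[ZMod p] V) (Polynomial.aeval (((a : H) : V ≃ₗ[ZMod p] V) : V →ₗ[ZMod p] V) x
          (((h⁻¹ : H) : V ≃ₗ[ZMod p] V) v)) := by
    intro h x
    have hinvh : ∀ u : V, (h : V ≃ₗ[ZMod p] V) (((h⁻¹ : H) : V ≃ₗ[ZMod p] V) u) = u := fun u => by
      have e : ((h * h⁻¹ : H) : V ≃ₗ[ZMod p] V) = ((1 : H) : V ≃ₗ[ZMod p] V) := by rw [mul_inv_cancel]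
      exact LinearEquiv.congr_fun e u
    have hinvh' : ∀ u : V, ((h⁻¹ : H) : V ≃ₗ[ZMod p] V) ((h : V ≃ₗ[ZMod p] V) u) = u := fun u => by
      have e : ((h⁻¹ * h : H) : V ≃ₗ[ZMod p] V) = ((1 : H) : V ≃ₗ[ZMod p] V) := by rw [inv_mul_cancel]
      exact LinearEquiv.congr_fun e u
    induction x using Polynomial.induction_on with
    | C c =>
      intro v
      simp only [Polynomial.aeval_C, Module.algebraMap_end_apply, Submodule.coe_smul, map_smul, hinvh]
    | add x y hx hy =>
      intro v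
      simp only [map_add, LinearMap.add_apply, Submodule.coe_add, hx v, hy v]
    | monomial m c ih =>
      intro v
      rw [pow_succ, ← mul_assoc, map_mul (Polynomial.aeval _) _ Polynomial.X,
        map_mul (Polynomial.aeval _) _ Polynomial.X, Polynomial.aeval_X, Polynomial.aeval_X,
        Module.End.mul_apply, Module.End.mul_apply, ih]
      congr 2
      show ((h⁻¹ : H) : V ≃ₗ[ZMod p] V) ((((h * (a : H) * h⁻¹ : H)) : V ≃ₗ[ZMod p] V) v.1) = _
      exact hinvh' _
  have hroot : ∀ h : H, Polynomial.aeval (R h) P = 0 := by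
    intro h
    apply Subtype.ext
    rw [Polynomial.aeval_subalgebra_coe]
    apply LinearMap.ext
    intro v
    apply Subtype.ext
    rw [hpow h P v, minpoly.aeval, LinearMap.zero_apply, map_zero]
    rfl
  have hidx : A.index ≤ n := by
    let S := (P.map (algebraMap (ZMod p) K)).roots.toFinset
    have hmem : ∀ h : H, R h ∈ S := by
      intro h
      rw [Multiset.mem_toFinset, Polynomial.mem_roots_map_of_injective (algebraMap (ZMod p) K).injective hP0]
      exact hroot h
    let f : H ⧸ A → S := fun q => ⟨R q.out, hmem _⟩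
    have hf : Function.Injective f := by
      intro q q' e
      have e1 : T q.out = T q'.out :=
        CfsgLib.Perm.RegularLinear.res_injective hreg hW.ne_bot hW.inv
          (congrArg Subtype.val (congrArg Subtype.val e))
      have e2 : q.out * (a : H) * q.out⁻¹ = q'.out * (a : H) * q'.out⁻¹ := congrArg Subtype.val e1
      rw [← q.out_eq, ← q'.out_eq]
      refine QuotientGroup.eq.2 (le_of_eq heq ?_)
      rw [hC, Subgroup.mem_centralizer_iff]
      intro b hb
      obtain ⟨i, hi⟩ := ha ⟨b, hb⟩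
      have hcom : Commute (q.out⁻¹ * q'.out) (a : H) := by
        show q.out⁻¹ * q'.out * (a : H) = (a : H) * (q.out⁻¹ * q'.out)
        calc q.out⁻¹ * q'.out * (a : H) = q.out⁻¹ * (q'.out * (a : H) * q'.out⁻¹) * q'.out := by group
          _ = q.out⁻¹ * (q.out * (a : H) * q.out⁻¹) * q'.out := by rw [e2]
          _ = (a : H) * (q.out⁻¹ * q'.out) := by group
      have : b = (a : H) ^ i := by rw [← SubgroupClass.coe_zpow]; exact (congrArg Subtype.val hi).symm
      rw [this]
      exact (hcom.zpow_right i).eq.symm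
    calc A.index = Nat.card (H ⧸ A) := Subgroup.index_eq_card A
      _ ≤ Nat.card S := Nat.card_le_card_of_injective f hf
      _ ≤ n := by
        rw [Nat.card_eq_finsetCard]
        exact ((Multiset.toFinset_card_le _).trans (Polynomial.card_roots' _)).trans
          ((Polynomial.natDegree_map_le).trans hPdeg)
  have hA : Nat.card A ≤ p ^ d - 1 := by
    have h1 := CfsgLib.Perm.RegularLinear.card_dvd hreg hW.inv
    rw [Module.natCard_eq_pow_finrank (K := ZMod p) (V := W), Nat.card_zmod, ← hd] at h1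
    exact Nat.le_of_dvd (Nat.sub_pos_of_lt (Nat.one_lt_pow hd0.ne' (Fact.out : p.Prime).one_lt)) h1
  have hH := CfsgLib.Perm.RegularLinear.card_eq hreg
  rw [Module.natCard_eq_pow_finrank (K := ZMod p) (V := V), Nat.card_zmod, ← hn, ← A.card_mul_index] at hH
  have h1 : Nat.card A * A.index ≤ (p ^ d - 1) * n := Nat.mul_le_mul hA hidx
  obtain ⟨m, hm⟩ : ∃ m, n = d + m := ⟨n - d, by omega⟩
  have h2 : n < p ^ m + 1 := by
    have h3 : 2 ^ m ≤ p ^ m := Nat.pow_le_pow_left (Fact.out : p.Prime).two_le m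
    have h4 : ∀ m : ℕ, 2 * (m + 1) ≤ 2 ^ (m + 1) := by
      intro m
      induction m with
      | zero => norm_num
      | succ k ih => rw [pow_succ]; omega
    have h5 := h4 (m - 1)
    rw [show m - 1 + 1 = m by omega] at h5
    omega
  have hp1 : 1 ≤ p ^ d := Nat.one_le_pow _ _ (Fact.out : p.Prime).pos
  have hp2 : 1 < p ^ m := Nat.one_lt_pow (by omega) (Fact.out : p.Prime).one_lt
  obtain ⟨x, hx⟩ : ∃ x, p ^ d = x + 1 := ⟨p ^ d - 1, by omega⟩
  rw [hH, hx, Nat.add_sub_cancel] at h1
  have h6 : x * n ≤ x * p ^ m := Nat.mul_le_mul_left x (by omega)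
  have h7 : p ^ n = x * p ^ m + p ^ m := by rw [hm, pow_add, hx, add_mul, one_mul]
  omega

end Cfsg.Agent.S0685
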