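import Cfsg.Statements.S0687
import Cfsg.Agent.Lib.Perm.RegularLinear
import Mathlib.RingTheory.Adjoin.Basic

set_option autoImplicit false
open Cfsg

namespace Cfsg.Agent.S0687

/-- In a linear group over the prime field that is regular on non-zero vectors and has no irreducible cyclic normal subgroup, a normal subgroup `N` minimal among the non-abelian normal subgroups centralising a maximal normal abelian subgroup `A` is irreducible on `V`, and its centraliser is `A`. -/
theorem result {p : ℕ} [Fact p.Prime] {V : Type*} [AddCommGroup V] [Module (ZMod p) V] [Finite V] (H : Subgroup (V ≃ₗ[ZMod p] V)) (hreg : ∀ v w : V, v ≠ 0 → w ≠ 0 → ∃! h : H, (h : V ≃ₗ[ZMod p] V) v = w) (hI : ∀ A : Subgroup H, A.Normal → IsCyclic A → ∃ W : Submodule (ZMod p) V, W ≠ ⊥ ∧ W ≠ ⊤ ∧ ∀ a ∈ A, ∀ v ∈ W, ((a : H) : V ≃ₗ[ZMod p] V) v ∈ W) (A : Subgroup H) (hAn : A.Normal) (hAc : IsMulCommutative A) (hAmax : ∀ B : Subgroup H, B.Normal → IsMulCommutative B → A ≤ B → B = A) (N : Subgroup H) (hNn : N.Normal)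 (hNle : N ≤ Subgroup.centralizer (A : Set H)) (hNna : ¬ IsMulCommutative N) (hNmin : ∀ M : Subgroup H, M.Normal → M ≤ N → ¬ IsMulCommutative M → M = N) : (∀ W : Submodule (ZMod p) V, (∀ n ∈ N, ∀ v ∈ W, ((n : H) : V ≃ₗ[ZMod p] V) v ∈ W) → W = ⊥ ∨ W = ⊤) ∧ Subgroup.centralizer (N : Set H) = A := by
  have key : ∀ W : Submodule (ZMod p) V, CfsgLib.Perm.RegularLinear.Irr N W → W = ⊤ :=
    fun W hW => CfsgLib.Perm.RegularLinear.eq_top_of_irr hreg hNn hNna hW
  refine ⟨fun W hW => ?_, ?_⟩
  · by_contra hcon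
    push Not at hcon
    obtain ⟨W₁, hle, hW₁⟩ := CfsgLib.Perm.RegularLinear.exists_irr N hcon.1 hW
    exact hcon.2 (top_le_iff.1 (key W₁ hW₁ ▸ hle))
  · have : Nontrivial V := by
      by_contra hs
      rw [not_nontrivial_iff_subsingleton] at hs
      exact hNna ⟨⟨fun a b => Subtype.ext (Subtype.ext (LinearEquiv.ext fun v => Subsingleton.elim _ _))⟩⟩
    obtain ⟨W, -, hW⟩ := CfsgLib.Perm.RegularLinear.exists_irr N (top_ne_bot : (⊤ : Submodule (ZMod p) V) ≠ ⊥)
      (fun _ _ _ _ => trivial)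
    obtain rfl := key W hW
    set C := Subgroup.centralizer (N : Set H) with hC
    have hCn : C.Normal := ⟨fun c hc g => by
      rw [hC, Subgroup.mem_centralizer_iff] at hc ⊢
      intro n hn
      have h := hc (g⁻¹ * n * g) (by simpa using hNn.conj_mem n hn g⁻¹)
      calc n * (g * c * g⁻¹) = g * (g⁻¹ * n * g * c) * g⁻¹ := by group
        _ = g * (c * (g⁻¹ * n * g)) * g⁻¹ := by rw [h]
        _ = g * c * g⁻¹ * n := by group⟩
    have hi : CfsgLib.Perm.RegularLinear.Inv C (⊤ : Submodule (ZMod p) V) := fun _ _ _ _ => trivial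
    have hCc : IsMulCommutative C := ⟨⟨fun x y => by
      apply CfsgLib.Perm.RegularLinear.res_injective hreg (top_ne_bot) hi
      rw [map_mul, map_mul]
      refine CfsgLib.Perm.RegularLinear.commutant_comm hW ?_ ?_
      all_goals
        rw [CfsgLib.Perm.RegularLinear.mem_commutant]
        intro n
      · exact LinearMap.ext fun v => Subtype.ext (LinearEquiv.congr_fun
          (congrArg Subtype.val (Subgroup.mem_centralizer_iff.1 x.2 n n.2)) v.1)
      · exact LinearMap.ext fun v => Subtype.ext (LinearEquiv.congr_fun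
          (congrArg Subtype.val (Subgroup.mem_centralizer_iff.1 y.2 n n.2)) v.1)⟩⟩
    exact hAmax C hCn hCc fun a ha => Subgroup.mem_centralizer_iff.2 fun n hn =>
      (Subgroup.mem_centralizer_iff.1 (hNle hn) a ha).symm

end Cfsg.Agent.S0687
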