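import Cfsg.Statements.S0688
import Cfsg.Agent.Lib.Perm.RegularExceptional
import Cfsg.Agent.S3742

set_option autoImplicit false
open Cfsg
open CfsgLib.Perm.RegularLinear

namespace Cfsg.Agent.S0688

/-- Degrees of the soluble exceptional sharply doubly transitive groups: if a solvable linear group over the prime field is regular on the non-zero vectors of `V` and has no irreducible cyclic normal subgroup, then `V` has 25, 49, 121 or 529 elements. -/
theorem result {p : ℕ} [Fact p.Prime] {V : Type*} [AddCommGroup V] [Module (ZMod p) V] [Finite V] (H : Subgroup (V ≃ₗ[ZMod p] V)) (hreg : ∀ v w : V, v ≠ 0 → w ≠ 0 → ∃! h : H, (h : V ≃ₗ[ZMod p] V) v = w) (hI : ∀ A : Subgroup H, A.Normal → IsCyclic A → ∃ W : Submodule (ZMod p) V, W ≠ ⊥ ∧ W ≠ ⊤ ∧ ∀ a ∈ A, ∀ v ∈ W, ((a : H) : V ≃ₗ[ZMod p] V) v ∈ W) (hsolv : Group.IsSolvable H) : Nat.card V = 25 ∨ Nat.card V = 49 ∨ Nat.card V = 121 ∨ Nat.card V = 529 := by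
  classical
  haveI := nontrivial_of_hI hreg hI
  haveI := finite_group (H := H)
  obtain ⟨A, N, k, m, hAn, hAc, hAmax, hNn, hNle, hNna, hNmin, hk, hm, hAdvd, hV, hH⟩ := exists_data hreg hI
  obtain ⟨e⟩ : Nonempty (N ≃* QuaternionGroup 2) := by
    refine (perfect_or_quaternion hreg hAn hAc hAmax hNn hNle hNna hNmin).resolve_left fun hperf => ?_
    haveI : Group.IsSolvable N := inferInstance
    haveI : Nontrivial N := by
      by_contra hs
      rw [not_nontrivial_iff_subsingleton] at hs
      exact hNna ⟨⟨fun a b => Subsingleton.elim _ _⟩⟩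
    exact (Group.IsSolvable.commutator_lt_top_of_nontrivial N).ne hperf
  have hCN := centralizer_eq hreg hAc hAmax hNn hNle hNna
  haveI := hNn
  -- the involution
  obtain ⟨z, hz2, hz1⟩ : ∃ z : H, z * z = 1 ∧ z ≠ 1 := by
    refine ⟨(e.symm (QuaternionGroup.a 2) : N), ?_, fun h => ?_⟩
    · rw [← Subgroup.coe_mul, ← map_mul, show (QuaternionGroup.a 2 : QuaternionGroup 2) * QuaternionGroup.a 2 = 1 by decide,
        map_one, Subgroup.coe_one]
    · have h1 : e.symm (QuaternionGroup.a 2) = 1 := Subtype.ext h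
      rw [MulEquiv.map_eq_one_iff] at h1
      exact absurd h1 (by decide)
  have hp2 : p ≠ 2 := not_two_of_sq hreg hz2 hz1
  have hzA : z ∈ A := hCN ▸ Subgroup.mem_centralizer_iff.2 fun y _ =>
    Subgroup.mem_center_iff.1 (mem_center_of_sq hreg hz2) y
  have hA2 : 2 ∣ Nat.card A := by
    have h1 := orderOf_dvd_natCard (⟨z, hzA⟩ : A)
    rwa [← Subgroup.orderOf_coe, orderOf_eq_prime (p := 2) (by rw [pow_two, hz2]) hz1] at h1
  -- the action on `N`
  let φ : H →* MulAut N := MulAut.conjNormal
  have hker : φ.ker = A := by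
    rw [← hCN]
    ext g
    rw [MonoidHom.mem_ker, Subgroup.mem_centralizer_iff]
    constructor
    · intro h y hy
      have h1 := congrArg Subtype.val (DFunLike.congr_fun h (⟨y, hy⟩ : N))
      rw [MulAut.conjNormal_apply, MulAut.one_apply] at h1
      exact (mul_inv_eq_iff_eq_mul.1 h1).symm
    · intro h
      refine MulEquiv.ext fun y => Subtype.ext ?_
      rw [MulAut.conjNormal_apply, MulAut.one_apply, mul_inv_eq_iff_eq_mul]
      exact (h y y.2).symm
  have hr : Nat.card φ.range ∣ 24 := by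
    refine (Subgroup.card_subgroup_dvd_card _).trans (dvd_of_eq ?_)
    obtain ⟨e4⟩ := Cfsg.Agent.S3742.result
    rw [Nat.card_congr (MulAut.congr e).toEquiv, Nat.card_congr e4.toEquiv, Nat.card_eq_fintype_card,
      Fintype.card_perm, Fintype.card_fin]
    rfl
  have hcard : Nat.card H = Nat.card φ.range * Nat.card A := by
    rw [← hker, ← Subgroup.index_ker, Subgroup.index_mul_card]
  have h8 : 8 ∣ Nat.card H := by
    have h1 := Subgroup.card_subgroup_dvd_card N
    rwa [Nat.card_congr e.toEquiv, Nat.card_eq_fintype_card, QuaternionGroup.card] at h1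
  -- arithmetic
  have hp := (Fact.out : p.Prime)
  have hq3 : 3 ≤ p ^ k := le_trans (by have := hp.two_le; omega) (Nat.le_self_pow hk.ne' p)
  have hqodd : p ^ k % 2 = 1 := Nat.odd_iff.1 ((hp.odd_of_ne_two hp2).pow)
  have hpp : p ^ k = 9 → p = 3 := fun h =>
    (Nat.prime_dvd_prime_iff_eq hp Nat.prime_three).1
      (hp.dvd_of_dvd_pow (show p ∣ 3 ^ 2 by rw [show (3 : ℕ) ^ 2 = p ^ k by omega]; exact dvd_pow_self p hk.ne'))
  have hAle := Nat.le_of_dvd (by omega) hAdvd
  have hrle := Nat.le_of_dvd (by norm_num) hr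
  obtain ⟨q, hq⟩ : ∃ q, p ^ k = q := ⟨_, rfl⟩
  rw [hq] at hq3 hqodd hAdvd hAle hH hV
  have hb : q ^ m - 1 ≤ 24 * (q - 1) := by
    rw [← hH, hcard]; exact Nat.mul_le_mul hrle hAle
  have hm3 : m ≤ 3 := by
    by_contra hlt
    have h1 : q ^ 4 ≤ q ^ m := Nat.pow_le_pow_right (by omega) (by omega)
    have h2 : 27 * q ≤ q ^ 4 := by
      rw [show q ^ 4 = q * q * q * q by ring]
      exact Nat.mul_le_mul_right q (Nat.mul_le_mul (Nat.mul_le_mul hq3 hq3) hq3)
    omega
  have hq23 : q ≤ 23 := by
    by_contra hlt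
    have h1 : q ^ 2 ≤ q ^ m := Nat.pow_le_pow_right (by omega) hm
    have h2 : 24 * q ≤ q ^ 2 := by rw [pow_two]; exact Nat.mul_le_mul_right q (by omega)
    omega
  rw [hcard] at hH h8
  obtain ⟨r, hrr⟩ : ∃ r, Nat.card φ.range = r := ⟨_, rfl⟩
  obtain ⟨s, hss⟩ : ∃ s, Nat.card A = s := ⟨_, rfl⟩
  rw [hrr] at hH h8 hr hrle
  rw [hss] at hH h8 hA2 hAdvd hAle
  have hrcases : r = 1 ∨ r = 2 ∨ r = 3 ∨ r = 4 ∨ r = 6 ∨ r = 8 ∨ r = 12 ∨ r = 24 := by
    interval_cases r <;> first | omega | norm_num at hr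
  have hr4 : 4 ∣ r := by
    have h1 : 4 ≤ Nat.card (N.map φ) := by
      have hc : Nat.card (φ.comp N.subtype).ker ≤ 2 := by
        have hsub : ∀ x : (φ.comp N.subtype).ker, (e (x : N)) = 1 ∨ e (x : N) = QuaternionGroup.a 2 := by
          intro x
          have hx : ∀ y : N, (x : N) * y = y * x := fun y => Subtype.ext (by
            have h1 := congrArg Subtype.val (DFunLike.congr_fun (MonoidHom.mem_ker.1 x.2) y)
            rw [MonoidHom.comp_apply, MulAut.conjNormal_apply, MulAut.one_apply] at h1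
            exact mul_inv_eq_iff_eq_mul.1 h1)
          have hx' : ∀ w : QuaternionGroup 2, e (x : N) * w = w * e (x : N) := fun w => by
            obtain ⟨y, rfl⟩ := e.surjective w
            rw [← map_mul, ← map_mul, hx]
          revert hx'
          generalize e (x : N) = u
          revert u
          decide
        refine (Nat.card_le_card_of_injective (fun x : (φ.comp N.subtype).ker => (⟨e (x : N), hsub x⟩ :
          {u : QuaternionGroup 2 // u = 1 ∨ u = QuaternionGroup.a 2})) fun a b h => Subtype.ext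
            (e.injective (congrArg Subtype.val h))).trans (le_of_eq ?_)
        rw [Nat.card_eq_fintype_card]
        decide
      have h1 := (φ.comp N.subtype).ker.index_mul_card
      rw [Subgroup.index_ker, Nat.card_congr e.toEquiv, Nat.card_eq_fintype_card (α := QuaternionGroup 2), QuaternionGroup.card] at h1
      have h2 : (φ.comp N.subtype).range = N.map φ := by rw [MonoidHom.range_comp, Subgroup.range_subtype]
      rw [h2] at h1
      by_contra hlt
      have := Nat.mul_le_mul (Nat.le_of_lt_succ (not_le.1 hlt)) hc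
      omega
    have h2 : Nat.card (N.map φ) ∣ r := hrr ▸ Subgroup.card_dvd_of_le (Subgroup.map_le_range φ N)
    have h3 : Nat.card (N.map φ) ∣ 2 ^ 3 := by
      have h4 := Subgroup.card_map_dvd N φ
      rwa [Nat.card_congr e.toEquiv, Nat.card_eq_fintype_card (α := QuaternionGroup 2), QuaternionGroup.card] at h4
    obtain ⟨j, -, hj⟩ := (Nat.dvd_prime_pow Nat.prime_two).1 h3
    rw [hj] at h1 h2
    exact (pow_dvd_pow 2 (show 2 ≤ j by by_contra hj2; interval_cases j <;> omega)).trans h2
  have hq3' : q ≠ 3 ∨ m = 3 := by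
    by_contra hcon
    push Not at hcon
    obtain ⟨rfl, hm'⟩ := hcon
    obtain rfl : m = 2 := by omega
    -- `|V| = 9`: a cyclic subgroup of order four is irreducible
    obtain rfl : p = 3 := (Nat.prime_dvd_prime_iff_eq hp Nat.prime_three).1 (hq ▸ dvd_pow_self p hk.ne')
    have hN8 : N = ⊤ := Subgroup.eq_top_of_card_eq N (by
      rw [hcard, hrr, hss, hH, Nat.card_congr e.toEquiv, Nat.card_eq_fintype_card, QuaternionGroup.card]; rfl)
    have htop : ∀ g : H, g ∈ N := fun g => hN8 ▸ Subgroup.mem_top g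
    set i : H := ((e.symm (QuaternionGroup.a 1) : N) : H) with hi
    have hnorm : (Subgroup.zpowers i).Normal := ⟨fun x hx g => by
      obtain ⟨t, rfl⟩ := Subgroup.mem_zpowers_iff.1 hx
      rw [← conj_zpow]
      refine zpow_mem ?_ t
      have hqd : ∀ w : QuaternionGroup 2, w * QuaternionGroup.a 1 * w⁻¹ = QuaternionGroup.a 1 ∨
          w * QuaternionGroup.a 1 * w⁻¹ = (QuaternionGroup.a 1)⁻¹ := by decide
      have key : g * i * g⁻¹ = ((e.symm (e ⟨g, htop g⟩ * QuaternionGroup.a 1 * (e ⟨g, htop g⟩)⁻¹) : N) : H) := by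
        rw [map_mul, map_mul, map_inv, e.symm_apply_apply]; rfl
      rw [key]
      rcases hqd (e ⟨g, htop g⟩) with h | h <;> rw [h]
      · exact Subgroup.mem_zpowers i
      · rw [map_inv]; exact inv_mem (Subgroup.mem_zpowers i)⟩
    obtain ⟨W, h0, h1, hW⟩ := hI _ hnorm inferInstance
    haveI : Module.Finite (ZMod 3) V := Module.Finite.of_finite
    have hW1 : Module.finrank (ZMod 3) W = 1 := by
      have ha := Submodule.finrank_lt h1
      have hb : Module.finrank (ZMod 3) W ≠ 0 := fun h => h0 (Submodule.finrank_eq_zero.1 h)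
      have hc : (3 : ℕ) ^ Module.finrank (ZMod 3) V = 3 ^ 2 := by
        rw [← hV, Module.natCard_eq_pow_finrank (K := ZMod 3), Nat.card_zmod]
      have := Nat.pow_right_injective (le_refl 2 |>.trans (by norm_num)) hc
      omega
    obtain ⟨w, hwW, hw⟩ := Submodule.exists_mem_ne_zero_of_ne_bot h0
    obtain ⟨c, hc⟩ := (finrank_eq_one_iff_of_nonzero' (⟨w, hwW⟩ : W) (fun h => hw (congrArg Subtype.val h))).1 hW1
      ⟨_, hW i (Subgroup.mem_zpowers i) w hwW⟩
    have hc' : c • w = (i : V ≃ₗ[ZMod 3] V) w := congrArg Subtype.val hc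
    have hc2 : c * c = 1 := by
      have hc0 : c ≠ 0 := fun h => hw (by
        rw [h, zero_smul] at hc'
        exact (LinearEquiv.map_eq_zero_iff _).1 hc'.symm)
      have := ZMod.pow_card_sub_one_eq_one hc0
      rwa [show 3 - 1 = 2 from rfl, pow_two] at this
    have hii : i * i = 1 := eq_one_of_fix hreg hw (by
      show (i : V ≃ₗ[ZMod 3] V) ((i : V ≃ₗ[ZMod 3] V) w) = w
      rw [← hc', map_smul, ← hc', smul_smul, hc2, one_smul])
    have h2 : QuaternionGroup.a 1 * QuaternionGroup.a 1 = (1 : QuaternionGroup 2) := by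
      apply e.symm.injective
      rw [map_mul, map_one]
      exact Subtype.ext hii
    exact absurd h2 (by decide)
  rw [hV]
  have hgood : m = 2 ∧ (q = 5 ∨ q = 7 ∨ q = 11 ∨ q = 23) := by
    clear hpp hq hV hcard hk
    interval_cases m <;> interval_cases q <;> first | omega | skip
    all_goals
      rcases hrcases with rfl | rfl | rfl | rfl | rfl | rfl | rfl | rfl <;>
        first
          | omega
          | (norm_num at hH
             obtain ⟨t, ht⟩ := hAdvd
             norm_num at ht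
             have hs1 : t ≤ 28 := by nlinarith
             interval_cases t <;> omega)
  obtain ⟨rfl, rfl | rfl | rfl | rfl⟩ := hgood <;> norm_num

end Cfsg.Agent.S0688
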