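import Cfsg.Statements.S0689
import Cfsg.Agent.Lib.Perm.RegularInsoluble

set_option autoImplicit false
open Cfsg
open CfsgLib.Perm.RegularLinear
open scoped MatrixGroups

namespace Cfsg.Agent.S0689

/-- The insoluble sharply doubly transitive groups: a non-solvable linear group over the prime field that is regular on the non-zero vectors of `V` occurs only for `|V| = 11², 29², 59²`, and is `SL(2,5) × C_m` with `m = 1, 7, 29` respectively. -/
theorem result {p : ℕ} [Fact p.Prime] {V : Type*} [AddCommGroup V] [Module (ZMod p) V] [Finite V] (H : Subgroup (V ≃ₗ[ZMod p] V)) (hreg : ∀ v w : V, v ≠ 0 → w ≠ 0 → ∃! h : H, (h : V ≃ₗ[ZMod p] V) v = w) (hsolv : ¬ Group.IsSolvable H) : (Nat.card V = 121 ∧ Nonempty (H ≃* Matrix.SpecialLinearGroup (Fin 2) (ZMod 5))) ∨ (Nat.card V = 841 ∧ Nonempty (H ≃* Matrix.SpecialLinearGroup (Fin 2) (ZMod 5) × Multiplicative (ZMod 7))) ∨ (Nat.card V = 3481 ∧ Nonempty (H ≃* Matrix.SpecialLinearGroup (Fin 2) (ZMod 5) × Multiplicative (ZMod 29))) := by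
  classical
  haveI := finite_group (H := H)
  haveI : Nontrivial V := by
    by_contra hs
    rw [not_nontrivial_iff_subsingleton] at hs
    haveI : Subsingleton H := ⟨fun a b => Subtype.ext (LinearEquiv.ext fun v => Subsingleton.elim _ _)⟩
    exact hsolv inferInstance
  have hI := hI_of_not_solvable hreg hsolv
  obtain ⟨A, N, k, m, hAn, hAc, hAmax, hNn, hNle, hNna, hNmin, hk, hm, hAdvd, hV, hH⟩ := exists_data hreg hI
  have hCN := centralizer_eq hreg hAc hAmax hNn hNle hNna
  haveI := hNn
  let φ : H →* MulAut N := MulAut.conjNormal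
  have hker : φ.ker = A := ker_conjNormal hCN
  have hcard : Nat.card H = Nat.card φ.range * Nat.card A := by
    rw [← hker, ← Subgroup.index_ker, Subgroup.index_mul_card]
  obtain ⟨e⟩ : Nonempty (N ≃* SL(2, ZMod 5)) := by
    rcases perfect_or_quaternion hreg hAn hAc hAmax hNn hNle hNna hNmin with h | ⟨⟨eq⟩⟩
    · exact perfect_iso hreg hNna h
    · exfalso
      apply hsolv
      obtain ⟨e4⟩ := Cfsg.Agent.S3742.result
      haveI : Group.IsSolvable (Equiv.Perm (Fin 4)) := CfsgLib.Classical.Dickson.isSolvable_perm_four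
      haveI : Group.IsSolvable (MulAut N) :=
        Group.isSolvable_of_isSolvable_injective (f := ((MulAut.congr eq).trans e4).toMonoidHom)
          ((MulAut.congr eq).trans e4).injective
      haveI : Group.IsSolvable A := Group.isSolvable_of_comm hAc.is_comm.comm
      exact Group.isSolvable_of_ker_le_range A.subtype φ (by rw [hker, Subgroup.range_subtype])
  have hA := fpf_torus hreg hCN hker e hk hAdvd hm hV hH hcard
  obtain ⟨hm2, hqcases⟩ := hA
  subst hm2
  rw [hV]
  rcases hqcases with ⟨hq, hs⟩ | ⟨hq, hs⟩ | ⟨hq, hs⟩ <;> rw [hq]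
  · refine Or.inl ⟨by norm_num, ?_⟩
    have hN : N = ⊤ := Subgroup.eq_top_of_card_eq N (by
      rw [Nat.card_congr e.toEquiv, CfsgLib.Perm.SLTwoFive.card_eq, hH, hq]; rfl)
    exact ⟨(Subgroup.topEquiv.symm.trans (MulEquiv.subgroupCongr hN).symm).trans e⟩
  · exact Or.inr (Or.inl ⟨by norm_num, exists_prod hreg hAn hAc hNle e (m := 7) (by decide) hs
      (by rw [hH, hq]; norm_num)⟩)
  · exact Or.inr (Or.inr ⟨by norm_num, exists_prod hreg hAn hAc hNle e (m := 29) (by decide) hs
      (by rw [hH, hq]; norm_num)⟩)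

end Cfsg.Agent.S0689
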