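import Cfsg.Statements.S0691
import Cfsg.Agent.Lib.Perm.MatrixClosure
import Mathlib.Tactic.NormNum.Prime

set_option autoImplicit false
open Cfsg

namespace Cfsg.Agent.S0691

open CfsgLib.Perm.MatrixClosure

/-- The generators. -/
def gens : List M4 := [
  (2, 0, 0, 3), (0, 4, 1, 0), (1, 2, 1, 3)]

/-- The elements of the group, each after the ones used to produce it. -/
def elems : List M4 := [
  (4, 1, 2, 2), (4, 4, 3, 2), (2, 3, 4, 4), (2, 2, 1, 4), (1, 1, 2, 3), (3, 4, 3, 1),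
  (3, 2, 1, 1), (1, 3, 4, 3), (1, 4, 3, 3), (3, 1, 2, 1), (4, 3, 4, 2), (0, 1, 4, 0),
  (3, 0, 0, 2), (3, 3, 4, 1), (4, 2, 1, 2), (2, 4, 3, 4), (0, 3, 3, 0), (2, 1, 2, 4),
  (0, 2, 2, 0), (4, 0, 0, 4), (1, 2, 1, 3), (0, 4, 1, 0), (2, 0, 0, 3), (1, 0, 0, 1)]

theorem elems_closed : closedList 5 gens elems = true := by decide +kernel

theorem elems_fpf : fpf 5 1 elems = true := by decide +kernel

/-- An exceptional sharply doubly transitive group of degree 5^2: the listed matrices generate a subgroup of GL(2,5) of order 24 acting regularly on the non-zero vectors. -/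
theorem result (A : Matrix.GeneralLinearGroup (Fin 2) (ZMod 5)) (B : Matrix.GeneralLinearGroup (Fin 2) (ZMod 5)) (C : Matrix.GeneralLinearGroup (Fin 2) (ZMod 5)) (hA : (A : Matrix (Fin 2) (Fin 2) (ZMod 5)) = !![2, 0; 0, -2]) (hB : (B : Matrix (Fin 2) (Fin 2) (ZMod 5)) = !![0, -1; 1, 0]) (hC : (C : Matrix (Fin 2) (Fin 2) (ZMod 5)) = !![1, 2; 1, -2]) : Nat.card (Subgroup.closure ({A, B, C} : Set (Matrix.GeneralLinearGroup (Fin 2) (ZMod 5)))) = 24 ∧ ∀ v w : Fin 2 → ZMod 5, v ≠ 0 → w ≠ 0 → ∃! h : Subgroup.closure ({A, B, C} : Set (Matrix.GeneralLinearGroup (Fin 2) (ZMod 5))), Matrix.mulVec ((h : Matrix.GeneralLinearGroup (Fin 2) (ZMod 5)) : Matrix (Fin 2) (Fin 2) (ZMod 5)) v = w := by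
  have : Fact (Nat.Prime 5) := ⟨by norm_num⟩
  have eA : (A : Matrix (Fin 2) (Fin 2) (ZMod 5)) = toMat 5 (2, 0, 0, 3) := by
    rw [hA]; decide
  have eB : (B : Matrix (Fin 2) (Fin 2) (ZMod 5)) = toMat 5 (0, 4, 1, 0) := by
    rw [hB]; decide
  have eC : (C : Matrix (Fin 2) (Fin 2) (ZMod 5)) = toMat 5 (1, 2, 1, 3) := by
    rw [hC]; decide
  have hS : ∀ s ∈ ({A, B, C} : Set (Matrix.GeneralLinearGroup (Fin 2) (ZMod 5))),
      ∃ g ∈ gens, (s : Matrix (Fin 2) (Fin 2) (ZMod 5)) = toMat 5 g := by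
    intro s hs
    rcases hs with rfl | rfl | rfl
    · exact ⟨_, by simp [gens], eA⟩
    · exact ⟨_, by simp [gens], eB⟩
    · exact ⟨_, by simp [gens], eC⟩
  have hg : ∀ g ∈ gens, ∃ s ∈ ({A, B, C} : Set (Matrix.GeneralLinearGroup (Fin 2) (ZMod 5))),
      (s : Matrix (Fin 2) (Fin 2) (ZMod 5)) = toMat 5 g := by
    intro g hg
    simp only [gens, List.mem_cons, List.not_mem_nil, or_false] at hg
    rcases hg with rfl | rfl | rfl
    · exact ⟨A, by simp, eA⟩
    · exact ⟨B, by simp, eB⟩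
    · exact ⟨C, by simp, eC⟩
  have hcard : Nat.card (Subgroup.closure ({A, B, C} : Set (Matrix.GeneralLinearGroup (Fin 2) (ZMod 5)))) = 24 := by
    rw [card_closure elems_closed hS hg]
    rfl
  refine ⟨hcard, fun v w hv hw => existsUnique_mulVec _ (by rw [hcard]; norm_num) (fun h hh u hu hfix => ?_) v w hv hw⟩
  obtain ⟨x, hx, hxh⟩ := (mem_closure_iff elems_closed hS hg h).1 hh
  exact Units.ext (eq_one_of_fix elems_fpf hx (by rw [hxh, Nat.cast_one, one_smul]) hu hfix)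

end Cfsg.Agent.S0691
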