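import Cfsg.Statements.S0693
import Cfsg.Agent.Lib.Perm.MatrixClosure
import Mathlib.Tactic.NormNum.Prime
import Mathlib.GroupTheory.SpecificGroups.Cyclic
import Mathlib.Tactic

set_option autoImplicit false
open Cfsg

namespace Cfsg.Agent.S0693

open CfsgLib.Perm.MatrixClosure
open scoped Pointwise

/-- The generators. -/
def gens : List M4 := [
  (0, 58, 1, 0), (9, 15, 49, 49)]

/-- The elements of the group, each after the ones used to produce it. -/
def elems : List M4 := [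
  (3, 7, 7, 56), (7, 56, 56, 52), (41, 14, 40, 18), (34, 17, 43, 25), (52, 3, 3, 7), (45, 41, 41, 40),
  (43, 25, 25, 42), (53, 21, 21, 5), (48, 40, 40, 10), (42, 34, 34, 43), (56, 52, 52, 3), (40, 18, 18, 45),
  (18, 45, 19, 41), (25, 42, 16, 34), (41, 40, 14, 18), (34, 43, 17, 25), (38, 53, 54, 21), (19, 48, 49, 40),
  (21, 5, 6, 38), (40, 10, 11, 19), (14, 18, 18, 19), (17, 25, 25, 16), (38, 30, 31, 54), (19, 41, 41, 14),
  (16, 34, 34, 17), (6, 38, 38, 54), (11, 19, 19, 49), (29, 38, 5, 31), (54, 21, 21, 6), (49, 40, 40, 11),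
  (31, 54, 21, 29), (32, 25, 24, 28), (54, 29, 28, 38), (25, 28, 27, 35), (18, 19, 45, 41), (25, 16, 42, 34),
  (21, 6, 5, 38), (40, 11, 10, 19), (21, 29, 28, 5), (38, 54, 53, 21), (19, 49, 48, 40), (5, 31, 30, 21),
  (34, 32, 31, 24), (30, 54, 21, 28), (31, 25, 24, 27), (24, 28, 27, 34), (28, 38, 5, 30), (27, 35, 34, 31),
  (30, 21, 54, 28), (5, 38, 38, 53), (10, 19, 19, 48), (28, 5, 38, 30), (27, 34, 35, 31), (5, 30, 31, 21),
  (34, 31, 32, 24), (31, 24, 25, 27), (21, 28, 29, 5), (24, 27, 28, 34), (39, 14, 48, 46), (4, 36, 11, 55),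
  (58, 55, 30, 1), (46, 11, 45, 39), (54, 28, 29, 38), (25, 27, 28, 35), (29, 5, 38, 31), (28, 34, 35, 32),
  (35, 31, 32, 25), (31, 21, 54, 29), (32, 24, 25, 28), (45, 39, 13, 48), (23, 4, 4, 11), (4, 58, 58, 30),
  (48, 46, 20, 45), (11, 55, 55, 23), (30, 1, 1, 4), (45, 13, 39, 48), (28, 35, 34, 32), (38, 31, 30, 54),
  (35, 32, 31, 25), (20, 45, 11, 13), (55, 23, 48, 4), (1, 4, 29, 58), (13, 48, 14, 20), (4, 11, 36, 55),
  (58, 30, 55, 1), (46, 45, 11, 39), (9, 49, 15, 49), (39, 48, 14, 46), (14, 20, 46, 11), (36, 55, 55, 48),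
  (55, 1, 1, 29), (11, 13, 39, 14), (48, 4, 4, 36), (29, 58, 58, 55), (14, 46, 20, 11), (10, 9, 10, 15),
  (11, 39, 13, 14), (15, 49, 50, 10), (49, 10, 44, 9), (55, 48, 23, 4), (1, 29, 4, 58), (13, 14, 48, 20),
  (50, 10, 44, 10), (20, 11, 45, 13), (10, 15, 49, 50), (49, 49, 50, 44), (44, 9, 10, 49), (49, 50, 49, 44),
  (48, 20, 46, 45), (44, 10, 9, 49), (10, 49, 15, 50), (50, 44, 10, 10), (0, 1, 58, 0), (49, 44, 10, 9),
  (10, 10, 9, 15), (15, 50, 49, 10), (58, 0, 0, 58), (9, 15, 49, 49), (0, 58, 1, 0), (1, 0, 0, 1)]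

theorem elems_closed : closedList 59 gens elems = true := by decide +kernel

theorem four_scalar : (!![4, 0; 0, 4] : Matrix (Fin 2) (Fin 2) (ZMod 59)) = (4 : ZMod 59) • 1 := by
  decide

theorem four_pow : (4 : ZMod 59) ^ 29 = 1 := by decide

theorem four_ne : (4 : ZMod 59) ≠ 1 := by decide

theorem elems_fpf : ∀ k ∈ List.range 29, fpf 59 (4 ^ k % 59) elems = true := by decide +kernel

/-- An exceptional sharply doubly transitive group of degree 59^2: the listed matrices generate a subgroup of GL(2,59) of order 3480 acting regularly on the non-zero vectors. -/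
theorem result (A : Matrix.GeneralLinearGroup (Fin 2) (ZMod 59)) (B : Matrix.GeneralLinearGroup (Fin 2) (ZMod 59)) (C : Matrix.GeneralLinearGroup (Fin 2) (ZMod 59)) (hA : (A : Matrix (Fin 2) (Fin 2) (ZMod 59)) = !![0, -1; 1, 0]) (hB : (B : Matrix (Fin 2) (Fin 2) (ZMod 59)) = !![9, 15; -10, -10]) (hC : (C : Matrix (Fin 2) (Fin 2) (ZMod 59)) = !![4, 0; 0, 4]) : Nat.card (Subgroup.closure ({A, B, C} : Set (Matrix.GeneralLinearGroup (Fin 2) (ZMod 59)))) = 3480 ∧ ∀ v w : Fin 2 → ZMod 59, v ≠ 0 → w ≠ 0 → ∃! h : Subgroup.closure ({A, B, C} : Set (Matrix.GeneralLinearGroup (Fin 2) (ZMod 59))), Matrix.mulVec ((h : Matrix.GeneralLinearGroup (Fin 2) (ZMod 59)) : Matrix (Fin 2) (Fin 2) (ZMod 59)) v = w := by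
  classical
  have : Fact (Nat.Prime 59) := ⟨by norm_num⟩
  have eA : (A : Matrix (Fin 2) (Fin 2) (ZMod 59)) = toMat 59 (0, 58, 1, 0) := by
    rw [hA]; decide
  have eB : (B : Matrix (Fin 2) (Fin 2) (ZMod 59)) = toMat 59 (9, 15, 49, 49) := by
    rw [hB]; decide
  have hS : ∀ s ∈ ({A, B} : Set (Matrix.GeneralLinearGroup (Fin 2) (ZMod 59))),
      ∃ g ∈ gens, (s : Matrix (Fin 2) (Fin 2) (ZMod 59)) = toMat 59 g := by
    intro s hs
    rcases hs with rfl | rfl
    · exact ⟨_, by simp [gens], eA⟩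
    · exact ⟨_, by simp [gens], eB⟩
  have hg : ∀ g ∈ gens, ∃ s ∈ ({A, B} : Set (Matrix.GeneralLinearGroup (Fin 2) (ZMod 59))),
      (s : Matrix (Fin 2) (Fin 2) (ZMod 59)) = toMat 59 g := by
    intro g hg
    simp only [gens, List.mem_cons, List.not_mem_nil, or_false] at hg
    rcases hg with rfl | rfl
    · exact ⟨A, by simp, eA⟩
    · exact ⟨B, by simp, eB⟩
  set S := Subgroup.closure ({A, B} : Set (Matrix.GeneralLinearGroup (Fin 2) (ZMod 59))) with hSdef
  set Z := Subgroup.zpowers C with hZdef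
  have hS120 : Nat.card S = 120 := by
    rw [hSdef, card_closure elems_closed hS hg]
    rfl
  have hCs : (C : Matrix (Fin 2) (Fin 2) (ZMod 59)) = (4 : ZMod 59) • 1 := by
    rw [hC]; exact four_scalar
  have hCpow : ∀ k : ℕ, ((C ^ k : Matrix.GeneralLinearGroup (Fin 2) (ZMod 59)) :
      Matrix (Fin 2) (Fin 2) (ZMod 59)) = (4 : ZMod 59) ^ k • 1 := by
    intro k
    rw [Units.val_pow_eq_pow_val, hCs, smul_pow, one_pow]
  have hC29 : C ^ 29 = 1 := by
    apply Units.ext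
    rw [hCpow, four_pow, one_smul]
    rfl
  have hC1 : C ≠ 1 := by
    intro h
    have := congrArg (fun u : Matrix.GeneralLinearGroup (Fin 2) (ZMod 59) =>
      (u : Matrix (Fin 2) (Fin 2) (ZMod 59)) 0 0) h
    simp [hC] at this
    exact four_ne this
  have : Fact (Nat.Prime 29) := ⟨by norm_num⟩
  have hord : orderOf C = 29 := orderOf_eq_prime hC29 hC1
  have hcomm : ∀ u : Matrix.GeneralLinearGroup (Fin 2) (ZMod 59), Commute C u := by
    intro u
    apply Units.ext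
    rw [Units.val_mul, Units.val_mul, hCs]
    simp
  have hset3 : ({A, B, C} : Set (Matrix.GeneralLinearGroup (Fin 2) (ZMod 59))) = {A, B} ∪ {C} := by
    ext
    simp
    tauto
  have hsup : Subgroup.closure ({A, B, C} : Set (Matrix.GeneralLinearGroup (Fin 2) (ZMod 59))) =
      S ⊔ Z := by
    rw [hSdef, hZdef, Subgroup.zpowers_eq_closure, ← Subgroup.closure_union]
    rw [hset3]
  have hnorm : S ≤ Subgroup.normalizer (Z : Set (Matrix.GeneralLinearGroup (Fin 2) (ZMod 59))) := by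
    rw [Subgroup.le_normalizer_iff]
    intro s _ z hz
    have : Commute z s := by
      obtain ⟨i, rfl⟩ := hz
      exact (hcomm s).zpow_left i
    rw [← this.eq, mul_inv_cancel_right]
    exact hz
  have hmem : ∀ h, h ∈ Subgroup.closure ({A, B, C} : Set (Matrix.GeneralLinearGroup (Fin 2) (ZMod 59))) →
      ∃ x ∈ elems, ∃ k ∈ List.range 29,
        (h : Matrix (Fin 2) (Fin 2) (ZMod 59)) = ((4 ^ k % 59 : ℕ) : ZMod 59) • toMat 59 x := by
    intro h hh
    rw [hsup, ← SetLike.mem_coe, Subgroup.coe_mul_of_left_le_normalizer_right S Z hnorm] at hh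
    obtain ⟨s, hs, z, hz, rfl⟩ := hh
    obtain ⟨x, hx, hxs⟩ := (mem_closure_iff elems_closed hS hg s).1 hs
    have hz' : z ∈ Submonoid.powers C := mem_powers_iff_mem_zpowers.2 hz
    obtain ⟨k, rfl⟩ := hz'
    refine ⟨x, hx, k % 29, List.mem_range.2 (Nat.mod_lt _ (by norm_num)), ?_⟩
    show ((s * C ^ k : Matrix.GeneralLinearGroup (Fin 2) (ZMod 59)) : Matrix (Fin 2) (Fin 2) (ZMod 59)) = _
    rw [← pow_mod_orderOf, hord, Units.val_mul, hCpow, hxs, ZMod.natCast_mod, Nat.cast_pow,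
      Matrix.mul_smul, Matrix.mul_one]
    rfl
  have hcard : Nat.card (Subgroup.closure ({A, B, C} : Set (Matrix.GeneralLinearGroup (Fin 2) (ZMod 59)))) = 3480 := by
    have hle1 : S ≤ Subgroup.closure ({A, B, C} : Set (Matrix.GeneralLinearGroup (Fin 2) (ZMod 59))) :=
      hsup ▸ le_sup_left
    have hle2 : Z ≤ Subgroup.closure ({A, B, C} : Set (Matrix.GeneralLinearGroup (Fin 2) (ZMod 59))) :=
      hsup ▸ le_sup_right
    have d1 := Subgroup.card_dvd_of_le hle1
    have d2 := Subgroup.card_dvd_of_le hle2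
    rw [hS120] at d1
    rw [Nat.card_zpowers, hord] at d2
    have hlow : 3480 ∣ Nat.card (Subgroup.closure ({A, B, C} : Set (Matrix.GeneralLinearGroup (Fin 2) (ZMod 59)))) :=
      Nat.Coprime.mul_dvd_of_dvd_of_dvd (by norm_num) d1 d2
    refine le_antisymm ?_ (Nat.le_of_dvd Nat.card_pos hlow)
    have hset : Nat.card (Subgroup.closure ({A, B, C} : Set (Matrix.GeneralLinearGroup (Fin 2) (ZMod 59)))) =
        Set.ncard ((S : Set (Matrix.GeneralLinearGroup (Fin 2) (ZMod 59))) * (Z : Set (Matrix.GeneralLinearGroup (Fin 2) (ZMod 59)))) := by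
      rw [hsup, ← Subgroup.coe_mul_of_left_le_normalizer_right S Z hnorm]
      rfl
    rw [hset]
    refine le_trans (Finset.card_mul_le (s := (Set.toFinite (S : Set (Matrix.GeneralLinearGroup (Fin 2) (ZMod 59)))).toFinset)
      (t := (Set.toFinite (Z : Set (Matrix.GeneralLinearGroup (Fin 2) (ZMod 59)))).toFinset) |>.trans' (le_of_eq ?_)) (le_of_eq ?_)
    · rw [← Set.ncard_coe_finset, Finset.coe_mul, Set.Finite.coe_toFinset, Set.Finite.coe_toFinset]
    · rw [← Set.ncard_eq_toFinset_card, ← Set.ncard_eq_toFinset_card, ← Nat.card_coe_set_eq,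
        ← Nat.card_coe_set_eq, SetLike.coe_sort_coe, SetLike.coe_sort_coe, hS120, Nat.card_zpowers, hord]
  refine ⟨hcard, fun v w hv hw => existsUnique_mulVec _ (by rw [hcard]; norm_num) (fun h hh u hu hfix => ?_) v w hv hw⟩
  obtain ⟨x, hx, k, hk, hxh⟩ := hmem h hh
  exact Units.ext (eq_one_of_fix (elems_fpf k hk) hx hxh hu hfix)

end Cfsg.Agent.S0693
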