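import Cfsg.Statements.S0694
import Mathlib

set_option autoImplicit false
open Cfsg

namespace Cfsg.Agent.S0694

open Finset in
theorem val_pow_sub_one_odd {q i : ℕ} (hq : 1 < q) (hodd : ¬ 2 ∣ q) (hi : Odd i) :
    padicValNat 2 (q ^ i - 1) = padicValNat 2 (q - 1) := by
  have hS : (∑ k ∈ range i, q ^ k) * (q - 1) = q ^ i - 1 := geom_sum_mul_of_one_le hq.le i
  have hodd' : ¬ 2 ∣ ∑ k ∈ range i, q ^ k := by
    intro h
    rw [← ZMod.natCast_eq_zero_iff] at h
    have hq1 : (q : ZMod 2) = 1 := by
      rw [show (1 : ZMod 2) = ((1 : ℕ) : ZMod 2) by simp, ZMod.natCast_eq_natCast_iff']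
      omega
    simp [hq1] at h
    rw [ZMod.natCast_eq_zero_iff] at h
    exact (Nat.not_even_iff_odd.2 hi) (even_iff_two_dvd.2 h)
  have hne : q - 1 ≠ 0 := by omega
  have hne' : (∑ k ∈ range i, q ^ k) ≠ 0 := fun e => hodd' (e ▸ dvd_zero 2)
  haveI : Fact (Nat.Prime 2) := ⟨Nat.prime_two⟩
  rw [← hS, padicValNat.mul hne' hne, padicValNat.eq_zero_of_not_dvd hodd', zero_add]

theorem modEq_one_iff {q i M : ℕ} (hq : 1 ≤ q) : q ^ i ≡ 1 [MOD M] ↔ M ∣ q ^ i - 1 := by
  rw [Nat.ModEq.comm, Nat.modEq_iff_dvd' (Nat.one_le_pow _ _ hq)]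

/-- Divisibility checked on valuations. -/
theorem dvd_iff_val {a b : ℕ} (ha : a ≠ 0) (hb : b ≠ 0) :
    a ∣ b ↔ ∀ r : ℕ, r.Prime → padicValNat r a ≤ padicValNat r b := by
  rw [← Nat.factorization_le_iff_dvd ha hb]
  constructor
  · intro h r hr
    have := h r
    rwa [Nat.factorization_def a hr, Nat.factorization_def b hr] at this
  · intro h r
    by_cases hr : r.Prime
    · rw [Nat.factorization_def a hr, Nat.factorization_def b hr]; exact h r hr
    · rw [Nat.factorization_eq_zero_of_not_prime a hr]; exact Nat.zero_le _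

/-- In a cyclic situation a divisor of `n` missing the `r`-part divides `n / r`. -/
theorem dvd_div_of_not_pow_dvd {d n r : ℕ} (hr : r.Prime) (hn : n ≠ 0) (hdn : d ∣ n) (hrn : r ∣ n)
    (h : ¬ r ^ (padicValNat r n) ∣ d) : d ∣ n / r := by
  have hd : d ≠ 0 := ne_zero_of_dvd_ne_zero hn hdn
  have hn' : n / r ≠ 0 := (Nat.div_pos (Nat.le_of_dvd (by omega) hrn) hr.pos).ne'
  haveI := Fact.mk hr
  rw [dvd_iff_val hd hn']
  intro s hs
  haveI := Fact.mk hs
  have hle := (dvd_iff_val hd hn).1 hdn s hs
  by_cases hsr : s = r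
  · subst hsr
    have hlt : padicValNat s d < padicValNat s n := by
      by_contra hcon
      exact h ((padicValNat_dvd_iff_le hd).2 (by omega))
    rw [padicValNat.div hrn]
    omega
  · have e : padicValNat s n = padicValNat s (n / r) := by
      conv_lhs => rw [← Nat.div_mul_cancel hrn]
      rw [padicValNat.mul hn' hr.ne_zero, padicValNat_primes hsr, add_zero]
    omega

theorem val_n_mul {q n r : ℕ} (hr : r.Prime) (hn : n ≠ 0) (hq : 1 < q) :
    padicValNat r (n * (q - 1)) = padicValNat r n + padicValNat r (q - 1) := by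
  haveI := Fact.mk hr
  exact padicValNat.mul hn (by omega)

/-- The Dickson pair condition: for a prime power `q` and `n > 1`, (every prime factor of `n` divides `q - 1`, and `4 ∣ n → 4 ∣ q - 1`) holds exactly when `q ^ n ≡ 1` modulo `n * (q - 1)` but `q ^ i` is not, for `0 < i < n`. -/
theorem result (q n : ℕ) (hq : IsPrimePow q) (hn : 1 < n) : ((∀ r : ℕ, r.Prime → r ∣ n → r ∣ q - 1) ∧ (4 ∣ n → 4 ∣ q - 1)) ↔ (q ^ n ≡ 1 [MOD n * (q - 1)] ∧ ∀ i : ℕ, 0 < i → i < n → ¬ q ^ i ≡ 1 [MOD n * (q - 1)]) := by
  have hq1 : 1 < q := hq.one_lt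
  have hN : n * (q - 1) ≠ 0 := Nat.mul_ne_zero (by omega) (by omega)
  have hpowne : ∀ i, 0 < i → q ^ i - 1 ≠ 0 := fun i hi => by
    have : 1 < q ^ i := Nat.one_lt_pow hi.ne' hq1
    omega
  have hqdvd : ∀ i, q - 1 ∣ q ^ i - 1 := fun i => Nat.sub_one_dvd_pow_sub_one q i
  -- odd primes dividing `q - 1`
  have hodd : ∀ r, r.Prime → r ≠ 2 → r ∣ q - 1 → ∀ i, i ≠ 0 →
      padicValNat r (q ^ i - 1) = padicValNat r (q - 1) + padicValNat r i := by
    intro r hr hr2 hrq i hi
    haveI := Fact.mk hr
    have := padicValNat.pow_sub_pow (p := r) (hr.odd_of_ne_two hr2) (x := q) (y := 1) hq1 hrq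
      (fun h => hr.one_lt.ne' (Nat.eq_one_of_dvd_one ((Nat.dvd_sub h hrq).trans (dvd_of_eq (by omega))))) hi
    rwa [one_pow] at this
  have h2odd : 2 ∣ q - 1 → ¬ 2 ∣ q := fun h h' => by omega
  constructor
  · rintro ⟨hpr, h4⟩
    constructor
    · rw [modEq_one_iff hq1.le, dvd_iff_val hN (hpowne n (by omega))]
      intro r hr
      haveI := Fact.mk hr
      rw [val_n_mul hr (by omega) hq1]
      have hle : padicValNat r (q - 1) ≤ padicValNat r (q ^ n - 1) :=
        (dvd_iff_val (by omega) (hpowne n (by omega))).1 (hqdvd n) r hr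
      by_cases hrn : r ∣ n
      · by_cases hr2 : r = 2
        · subst hr2
          have h := padicValNat.pow_two_sub_one hq1 (h2odd (hpr 2 hr hrn)) (n := n) (by omega)
            (even_iff_two_dvd.2 hrn)
          have : 1 ≤ padicValNat 2 (q + 1) :=
            one_le_padicValNat_of_dvd (by omega) (by have := hpr 2 hr hrn; omega)
          omega
        · rw [hodd r hr hr2 (hpr r hr hrn) n (by omega)]
          omega
      · rw [padicValNat.eq_zero_of_not_dvd hrn]
        omega
    · intro i hi hin hmod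
      rw [modEq_one_iff hq1.le, dvd_iff_val hN (hpowne i hi)] at hmod
      refine absurd (Nat.le_of_dvd hi ((dvd_iff_val (by omega) (by omega)).2 fun r hr => ?_))
        (not_le.2 hin)
      haveI := Fact.mk hr
      by_cases hrn : r ∣ n
      · have h := hmod r hr
        rw [val_n_mul hr (by omega) hq1] at h
        by_cases hr2 : r = 2
        · subst hr2
          have hqodd := h2odd (hpr 2 hr hrn)
          rcases Nat.even_or_odd i with he | ho
          · by_cases h4n : 4 ∣ n
            · have h' := padicValNat.pow_two_sub_one hq1 hqodd (n := i) (by omega) he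
              have h41 := h4 h4n
              have : padicValNat 2 (q + 1) = 1 := by
                have e : q + 1 = 2 * ((q + 1) / 2) := by omega
                rw [e, padicValNat.mul (by omega) (by omega), padicValNat.self (by omega),
                  padicValNat.eq_zero_of_not_dvd (by omega)]
              omega
            · have : padicValNat 2 n ≤ 1 := by
                by_contra hcon
                exact h4n ((padicValNat_dvd_iff_le (p := 2) (n := 2) (by omega : n ≠ 0)).2 (by omega))
              have := one_le_padicValNat_of_dvd (p := 2) (n := i) (by omega) (even_iff_two_dvd.1 he)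
              omega
          · rw [val_pow_sub_one_odd hq1 hqodd ho] at h
            omega
        · rw [hodd r hr hr2 (hpr r hr hrn) i (by omega)] at h
          omega
      · rw [padicValNat.eq_zero_of_not_dvd hrn]
        omega
  · rintro ⟨hmod, hmin⟩
    have hdvd := (modEq_one_iff hq1.le).1 hmod
    have hpr : ∀ r : ℕ, r.Prime → r ∣ n → r ∣ q - 1 := by
      by_contra hcon
      push Not at hcon
      classical
      obtain ⟨r₀, hr₀⟩ := hcon
      obtain ⟨r, hr, hmax⟩ := Finset.exists_max_image
        (n.primeFactors.filter fun r => ¬ r ∣ q - 1) id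
        ⟨r₀, by simp [hr₀.1, hr₀.2.1, hr₀.2.2, (show n ≠ 0 by omega)]⟩
      simp only [Finset.mem_filter, Nat.mem_primeFactors, id_eq] at hr hmax
      obtain ⟨⟨hrp, hrn, -⟩, hrq⟩ := hr
      haveI := Fact.mk hrp
      refine hmin (n / r) (Nat.div_pos (Nat.le_of_dvd (by omega) hrn) hrp.pos)
        (Nat.div_lt_self (by omega) hrp.one_lt) ?_
      rw [modEq_one_iff hq1.le, Nat.dvd_iff_prime_pow_dvd_dvd]
      intro s k hs hsk
      rcases Nat.eq_zero_or_pos k with rfl | hk
      · simp
      haveI := Fact.mk hs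
      rw [← ZMod.natCast_eq_zero_iff, Nat.cast_sub (Nat.one_le_pow _ _ (by omega)), Nat.cast_pow,
        Nat.cast_one, sub_eq_zero, ← orderOf_dvd_iff_pow_eq_one]
      have hone : ∀ j, ((q : ZMod (s ^ k)) ^ j = 1) ↔ s ^ k ∣ q ^ j - 1 := fun j => by
        rw [← ZMod.natCast_eq_zero_iff, Nat.cast_sub (Nat.one_le_pow _ _ (by omega)), Nat.cast_pow,
          Nat.cast_one, sub_eq_zero]
      set d := orderOf (q : ZMod (s ^ k))
      have hdn : d ∣ n := orderOf_dvd_iff_pow_eq_one.2 ((hone n).2 (hsk.trans hdvd))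
      refine dvd_div_of_not_pow_dvd hrp (by omega) hdn hrn fun hrd => ?_
      have hra : r ∣ d := (dvd_pow_self r (by
        have := one_le_padicValNat_of_dvd (p := r) (n := n) (by omega) hrn; omega)).trans hrd
      by_cases hsq : s ∣ q - 1
      · have h1 : d ∣ s ^ k := by
          refine orderOf_dvd_iff_pow_eq_one.2 ((hone _).2 ?_)
          have hz : ((s : ℤ) ∣ (q : ℤ) - 1) := by
            have := Int.natCast_dvd_natCast.2 hsq
            rwa [Nat.cast_sub hq1.le, Nat.cast_one] at this
          have := dvd_sub_pow_of_dvd_sub hz k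
          rw [one_pow] at this
          have h2 : ((s ^ (k + 1) : ℕ) : ℤ) ∣ ((q ^ (s ^ k) - 1 : ℕ) : ℤ) := by
            rw [Nat.cast_sub (Nat.one_le_pow _ _ (by omega))]
            push_cast
            exact this
          exact (pow_dvd_pow s (Nat.le_succ k)).trans (Int.natCast_dvd_natCast.1 h2)
        have := (Nat.prime_dvd_prime_iff_eq hrp hs).1 (hrp.dvd_of_dvd_pow (hra.trans h1))
        exact hrq (this ▸ hsq)
      · have hsn : s ^ k ∣ n := by
          exact ((Nat.Coprime.pow_left k ((Nat.Prime.coprime_iff_not_dvd hs).2 hsq)).dvd_of_dvd_mul_right hsk)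
        have hsn1 : s ∣ n := (dvd_pow_self s hk.ne').trans hsn
        have hsr : s ≤ r := hmax s ⟨⟨hs, hsn1, by omega⟩, hsq⟩
        have hcop : Nat.Coprime q (s ^ k) := by
          have h1 : s ^ k ∣ q ^ n - 1 := hsk.trans hdvd
          refine Nat.Coprime.pow_right k (((Nat.Prime.coprime_iff_not_dvd hs).2 fun hsq' => ?_).symm)
          have h2 : s ∣ q ^ n - 1 := (dvd_pow_self s hk.ne').trans h1
          have h3 : s ∣ q ^ n := dvd_pow hsq' (by omega)
          have := Nat.dvd_sub h3 h2
          rw [show q ^ n - (q ^ n - 1) = 1 by have := Nat.one_le_pow n q (by omega); omega] at this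
          exact hs.one_lt.ne' (Nat.eq_one_of_dvd_one this)
        have hphi : d ∣ s ^ (k - 1) * (s - 1) := by
          rw [← Nat.totient_prime_pow hs hk]
          refine orderOf_dvd_iff_pow_eq_one.2 ?_
          have h := (ZMod.natCast_eq_natCast_iff _ _ _).2 (Nat.ModEq.pow_totient hcop)
          simpa using h
        have hs1 : ¬ r ∣ s - 1 := fun h => absurd (Nat.le_of_dvd (by have := hs.two_le; omega) h)
          (by have := hs.two_le; omega)
        rcases (hrp.dvd_mul).1 (hra.trans hphi) with h | h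
        · have := (Nat.prime_dvd_prime_iff_eq hrp hs).1 (hrp.dvd_of_dvd_pow h)
          subst this
          have hk' : k ≤ padicValNat r n := (padicValNat_dvd_iff_le (by omega)).1 hsn
          have h2 := (Nat.Coprime.pow_left (padicValNat r n)
            ((Nat.Prime.coprime_iff_not_dvd hrp).2 hs1)).dvd_of_dvd_mul_right (hrd.trans hphi)
          have := (Nat.pow_dvd_pow_iff_le_right hrp.one_lt).1 h2
          omega
        · exact hs1 h
    refine ⟨hpr, fun h4 => ?_⟩
    by_contra h4q
    have h2q := hpr 2 Nat.prime_two ((by decide : 2 ∣ 4).trans h4)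
    refine hmin (n / 2) (by omega) (by omega) ?_
    rw [modEq_one_iff hq1.le, dvd_iff_val hN (hpowne _ (by omega))]
    intro r hr
    haveI := Fact.mk hr
    rw [val_n_mul hr (by omega) hq1]
    by_cases hr2 : r = 2
    · subst hr2
      have h := padicValNat.pow_two_sub_one hq1 (h2odd h2q) (n := n / 2) (by omega)
        (even_iff_two_dvd.2 (by omega))
      have h' : padicValNat 2 (n / 2) = padicValNat 2 n - 1 := padicValNat.div (by omega)
      have h'' : 1 ≤ padicValNat 2 n := one_le_padicValNat_of_dvd (by omega) (by omega)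
      have : 2 ≤ padicValNat 2 (q + 1) :=
        (padicValNat_dvd_iff_le (by omega)).1 (by norm_num; omega)
      omega
    · have hval : padicValNat r (n / 2) = padicValNat r n := by
        conv_rhs => rw [← Nat.div_mul_cancel (show 2 ∣ n by omega)]
        rw [padicValNat.mul (by omega) (by norm_num), padicValNat_primes hr2, add_zero]
      by_cases hrn : r ∣ n
      · rw [hodd r hr hr2 (hpr r hr hrn) _ (by omega), hval]
        omega
      · rw [padicValNat.eq_zero_of_not_dvd hrn, zero_add]
        exact (dvd_iff_val (by omega) (hpowne _ (by omega))).1 (hqdvd _) r hr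

end Cfsg.Agent.S0694
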