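import Cfsg.Statements.S0695
import Cfsg.Agent.Lib.Perm.RegularNormal

set_option autoImplicit false
open Cfsg

namespace Cfsg.Agent.S0695

/-- A regular normal subgroup of a doubly primitive group of finite degree at least 2 is an elementary abelian 2-group (and the degree is a power of 2), unless the degree is 3. -/
theorem result {G : Type*} [Group G] {X : Type*} [Fintype X] [MulAction G X] (hX : 2 ≤ Fintype.card X) (h2 : MulAction.IsMultiplyPreprimitive G X 2) (N : Subgroup G) [N.Normal] (htrans : MulAction.IsPretransitive N X) (hreg : ∀ x : X, MulAction.stabilizer N x = ⊥) : Fintype.card X = 3 ∨ (IsMulCommutative N ∧ (∀ n ∈ N, n ^ 2 = 1) ∧ ∃ m : ℕ, Fintype.card X = 2 ^ m) := by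
  rcases CfsgLib.Perm.regular_normal_two_primitive N h2 hX htrans hreg with h | ⟨hsq, hm⟩
  · exact Or.inl h
  · refine Or.inr ⟨⟨⟨fun a b => Subtype.ext ?_⟩⟩, hsq, hm⟩
    have ha : (a : G)⁻¹ = a := inv_eq_of_mul_eq_one_right (by rw [← pow_two]; exact hsq a a.2)
    have hb : (b : G)⁻¹ = b := inv_eq_of_mul_eq_one_right (by rw [← pow_two]; exact hsq b b.2)
    have hab : ((a : G) * b)⁻¹ = a * b :=
      inv_eq_of_mul_eq_one_right (by rw [← pow_two]; exact hsq _ (mul_mem a.2 b.2))
    show (a : G) * b = b * a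
    rw [← hab, mul_inv_rev, ha, hb]

end Cfsg.Agent.S0695
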