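import Cfsg.Statements.S0700
import Cfsg.Agent.Lib.Perm.Burnside2

set_option autoImplicit false
open Cfsg

namespace Cfsg.Agent.S0700

/-- Burnside's Theorem on doubly transitive groups: a minimal normal subgroup of a finite doubly transitive permutation group is elementary abelian and regular, or simple and primitive. -/
theorem result {α : Type*} [Fintype α] [DecidableEq α] (G : Subgroup (Equiv.Perm α)) (hG : MulAction.IsMultiplyPretransitive G α 2) (N : Subgroup G) [N.Normal] (hN : N ≠ ⊥) (hmin : ∀ M : Subgroup G, M.Normal → M ≤ N → M = ⊥ ∨ M = N) : (IsMulCommutative N ∧ (∃ p : ℕ, p.Prime ∧ ∀ n ∈ N, n ^ p = 1) ∧ ∀ a : α, MulAction.stabilizer N a = ⊥) ∨ (IsSimpleGroup N ∧ MulAction.IsPreprimitive N α) := by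
  classical
  haveI : Nonempty α := by
    by_contra h
    rw [not_nonempty_iff] at h
    exact hN (Subsingleton.elim _ _)
  haveI : MulAction.IsPreprimitive G α := MulAction.isPreprimitive_of_is_two_pretransitive hG
  haveI : MulAction.IsPretransitive N α := by
    refine MulAction.IsQuasiPreprimitive.isPretransitive_of_normal fun h => hN ?_
    refine N.eq_bot_iff_forall.2 fun n hn => FaithfulSMul.eq_of_smul_eq_smul (α := α) fun y => ?_
    rw [one_smul]
    exact Set.eq_univ_iff_forall.1 h y ⟨n, hn⟩
  by_cases hab : IsMulCommutative N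
  · exact Or.inl ⟨hab, CfsgLib.Core.exists_prime_pow_eq_one_of_minimal_normal N hab hN hmin,
      fun a => CfsgLib.Perm.Regular.stabilizer_eq_bot_of_commute (α := α) N N
        (fun s hs t ht => congrArg Subtype.val (hab.is_comm.comm ⟨s, hs⟩ ⟨t, ht⟩)) a⟩
  refine Or.inr ?_
  obtain ⟨a⟩ := ‹Nonempty α›
  have hnreg : MulAction.stabilizer N a ≠ ⊥ := by
    intro h
    obtain ⟨p, hp, hpg⟩ := CfsgLib.Perm.Burnside2.isPGroup_of_regular hG N a h
    haveI := Fact.mk hp
    haveI := hpg.isNilpotent
    exact hab (CfsgLib.Core.commutative_of_minimal_normal N inferInstance hN hmin)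
  haveI := CfsgLib.Perm.Burnside2.isPreprimitive_of_minimal_normal hG N hmin a hnreg
  exact ⟨CfsgLib.Perm.Burnside2.isSimpleGroup_of_primitive hG N hN hmin, inferInstance⟩

end Cfsg.Agent.S0700
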