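import Cfsg.Statements.S0701

set_option autoImplicit false
open Cfsg

namespace Cfsg.Agent.S0701

/-- The centraliser in the full symmetric group of a transitive permutation group `G` is semiregular, and it is transitive if and only if `G` is regular. -/
theorem result {α : Type*} (G : Subgroup (Equiv.Perm α)) [MulAction.IsPretransitive G α] : (∀ c ∈ Subgroup.centralizer (G : Set (Equiv.Perm α)), ∀ a : α, c a = a → c = 1) ∧ (MulAction.IsPretransitive (Subgroup.centralizer (G : Set (Equiv.Perm α))) α ↔ ∀ a : α, MulAction.stabilizer G a = ⊥) := by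
  have hcom : ∀ c ∈ Subgroup.centralizer (G : Set (Equiv.Perm α)), ∀ (g : G) (x : α),
      c ((g : Equiv.Perm α) x) = (g : Equiv.Perm α) (c x) := by
    intro c hc g x
    exact (Equiv.ext_iff.1 (Subgroup.mem_centralizer_iff.1 hc _ g.2) x).symm
  refine ⟨fun c hc a ha => ?_, ?_, ?_⟩
  · ext x
    obtain ⟨g, rfl⟩ := MulAction.exists_smul_eq G a x
    show c ((g : Equiv.Perm α) a) = (g : Equiv.Perm α) a
    rw [hcom c hc, ha]
  · intro htr a
    rw [eq_bot_iff]
    intro g hg
    rw [Subgroup.mem_bot]
    apply Subtype.ext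
    apply Equiv.ext
    intro x
    obtain ⟨⟨c, hc⟩, rfl⟩ := MulAction.exists_smul_eq (Subgroup.centralizer (G : Set (Equiv.Perm α))) a x
    show (g : Equiv.Perm α) (c a) = c a
    rw [← hcom c hc, show (g : Equiv.Perm α) a = a from hg]
  · intro hreg
    refine ⟨fun a b => ?_⟩
    have hbij : ∀ y : α, Function.Bijective (fun g : G => g • y) := by
      intro y
      refine ⟨fun g h hgh => ?_, fun z => MulAction.exists_smul_eq G y z⟩
      have : h⁻¹ * g ∈ MulAction.stabilizer G y := by
        rw [MulAction.mem_stabilizer_iff, mul_smul, inv_smul_eq_iff]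
        exact hgh
      rw [hreg y, Subgroup.mem_bot, inv_mul_eq_one] at this
      exact this.symm
    let ea := Equiv.ofBijective _ (hbij a)
    let eb := Equiv.ofBijective _ (hbij b)
    have hc : ∀ g : G, (ea.symm.trans eb) (g • a) = g • b := by
      intro g
      show eb (ea.symm (ea g)) = _
      rw [Equiv.symm_apply_apply]
      rfl
    refine ⟨⟨ea.symm.trans eb, ?_⟩, ?_⟩
    · rw [Subgroup.mem_centralizer_iff]
      intro g hg
      ext x
      obtain ⟨k, rfl⟩ := MulAction.exists_smul_eq G a x
      show g ((ea.symm.trans eb) (k • a)) = (ea.symm.trans eb) (g (k • a))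
      rw [show g (k • a) = ((⟨g, hg⟩ : G) * k) • a from rfl, hc, hc]
      rfl
    · have := hc 1
      rw [one_smul, one_smul] at this
      exact this

end Cfsg.Agent.S0701
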