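import Cfsg.Statements.S0702
import Mathlib.GroupTheory.Sylow
import Mathlib.GroupTheory.GroupAction.Quotient

set_option autoImplicit false
open Cfsg

namespace Cfsg.Agent.S0702

/-- For a transitive permutation group `G` on a finite set, the centraliser of `G` in the symmetric group is isomorphic to `N_G(G_ω)/G_ω`, and its orbit of `ω` is the set of fixed points of `G_ω`. -/
theorem result {α : Type*} [Finite α] (G : Subgroup (Equiv.Perm α)) [MulAction.IsPretransitive G α] (a : α) : Nonempty (Subgroup.centralizer (G : Set (Equiv.Perm α)) ≃* Subgroup.normalizer ((MulAction.stabilizer G a : Subgroup G) : Set G) ⧸ (MulAction.stabilizer G a).subgroupOf (Subgroup.normalizer ((MulAction.stabilizer G a : Subgroup G) : Set G))) ∧ MulAction.orbit (Subgroup.centralizer (G : Set (Equiv.Perm α))) a = MulAction.fixedPoints (MulAction.stabilizer G a) α := by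
  classical
  set S := MulAction.stabilizer G a with hS
  set N := Subgroup.normalizer (S : Set G) with hN
  set C := Subgroup.centralizer (G : Set (Equiv.Perm α)) with hC
  have hcom : ∀ c : C, ∀ (g : G) (x : α),
      (c : Equiv.Perm α) (g • x) = g • (c : Equiv.Perm α) x := by
    intro c g x
    exact (Equiv.ext_iff.1 (Subgroup.mem_centralizer_iff.1 c.2 _ g.2) x).symm
  have huniq : ∀ c d : C, (c : Equiv.Perm α) a = (d : Equiv.Perm α) a → c = d := by
    intro c d h
    apply Subtype.ext
    apply Equiv.ext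
    intro x
    obtain ⟨g, rfl⟩ := MulAction.exists_smul_eq G a x
    rw [hcom, hcom, h]
  have hfix : ∀ n : N, ∀ g : G, g ∈ S → g • ((n : G)⁻¹ • a) = (n : G)⁻¹ • a := by
    intro n g hg
    have h1 : (n : G) * g * (n : G)⁻¹ ∈ S := (Subgroup.mem_normalizer_iff.1 n.2 g).1 hg
    rw [hS, MulAction.mem_stabilizer_iff] at h1
    rw [eq_inv_smul_iff, ← mul_smul, ← mul_smul]
    exact h1
  choose σ hσ using fun x : α => MulAction.exists_smul_eq G a x
  have hwd : ∀ (n : N) (g : G), σ (g • a) • ((n : G)⁻¹ • a) = g • ((n : G)⁻¹ • a) := by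
    intro n g
    have h1 : g⁻¹ * σ (g • a) ∈ S := by
      rw [hS, MulAction.mem_stabilizer_iff, mul_smul, hσ, inv_smul_smul]
    have h2 := hfix n _ h1
    rw [mul_smul, inv_smul_eq_iff] at h2
    exact h2
  let f : N → α → α := fun n x => σ x • ((n : G)⁻¹ • a)
  have hfbij : ∀ n : N, Function.Bijective (f n) := by
    intro n
    refine Finite.surjective_iff_bijective.1 fun y => ?_
    obtain ⟨g, rfl⟩ := MulAction.exists_smul_eq G ((n : G)⁻¹ • a) y
    exact ⟨g • a, hwd n g⟩
  have hfmem : ∀ n : N, Equiv.ofBijective _ (hfbij n) ∈ C := by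
    intro n
    rw [hC, Subgroup.mem_centralizer_iff]
    intro g hg
    ext x
    obtain ⟨k, rfl⟩ := MulAction.exists_smul_eq G a x
    show g (f n (k • a)) = f n (g (k • a))
    rw [show g (k • a) = ((⟨g, hg⟩ : G) * k) • a from rfl]
    show g (σ (k • a) • _) = σ _ • _
    rw [hwd, hwd, mul_smul]
    rfl
  let Φ' : N → C := fun n => ⟨_, hfmem n⟩
  have hΦa : ∀ n : N, (Φ' n : Equiv.Perm α) a = (n : G)⁻¹ • a := by
    intro n
    have := hwd n 1
    rw [one_smul, one_smul] at this
    exact this
  let Φ : N →* C := MonoidHom.mk' Φ' (by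
    intro m n
    apply huniq
    rw [hΦa]
    show _ = (Φ' m : Equiv.Perm α) ((Φ' n : Equiv.Perm α) a)
    rw [hΦa, hcom, hΦa, Subgroup.coe_mul, mul_inv_rev, mul_smul])
  have hsurj : Function.Surjective Φ := by
    intro c
    obtain ⟨g, hg⟩ := MulAction.exists_smul_eq G ((c : Equiv.Perm α) a) a
    have hst : ∀ k : G, k ∈ S ↔ k • (c : Equiv.Perm α) a = (c : Equiv.Perm α) a := by
      intro k
      rw [← hcom, hS, MulAction.mem_stabilizer_iff, EmbeddingLike.apply_eq_iff_eq]
    have hgN : g ∈ N := by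
      rw [hN, Subgroup.mem_normalizer_iff]
      intro k
      rw [hst k]
      rw [hS, MulAction.mem_stabilizer_iff, mul_smul, mul_smul]
      rw [← eq_inv_smul_iff (g := g), inv_smul_eq_iff.2 hg.symm]
    refine ⟨⟨g, hgN⟩, ?_⟩
    apply huniq
    show (Φ' _ : Equiv.Perm α) a = _
    rw [hΦa]
    exact inv_smul_eq_iff.2 hg.symm
  have hker : Φ.ker = S.subgroupOf N := by
    ext n
    rw [MonoidHom.mem_ker, Subgroup.mem_subgroupOf]
    constructor
    · intro h
      have h1 : (Φ' n : Equiv.Perm α) a = ((1 : C) : Equiv.Perm α) a := by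
        rw [show Φ' n = 1 from h]
      rw [hΦa] at h1
      rw [hS, MulAction.mem_stabilizer_iff]
      exact (inv_smul_eq_iff.1 h1).symm
    · intro h
      apply huniq
      show (Φ' n : Equiv.Perm α) a = a
      rw [hΦa, inv_smul_eq_iff]
      exact h.symm
  refine ⟨⟨(QuotientGroup.quotientKerEquivOfSurjective Φ hsurj).symm.trans
    (QuotientGroup.quotientMulEquivOfEq hker)⟩, ?_⟩
  ext x
  constructor
  · rintro ⟨c, rfl⟩ k
    show (k : G) • (c : Equiv.Perm α) a = (c : Equiv.Perm α) a
    rw [← hcom]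
    exact congrArg _ k.2
  · intro hx
    obtain ⟨g, hg⟩ := MulAction.exists_smul_eq G x a
    have hle : S ≤ MulAction.stabilizer G x := fun k hk => hx ⟨k, hk⟩
    have heq : S = MulAction.stabilizer G x := by
      apply Subgroup.eq_of_le_of_card_ge hle
      have h1 := MulAction.index_stabilizer_of_transitive G x
      have h2 := MulAction.index_stabilizer_of_transitive G a
      have h3 := Subgroup.card_mul_index (MulAction.stabilizer G x)
      have h4 := Subgroup.card_mul_index S
      rw [h1, ← h4, hS, h2] at h3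
      have : Nonempty α := ⟨a⟩
      exact le_of_eq (Nat.eq_of_mul_eq_mul_right Nat.card_pos h3)
    have hgN : g ∈ N := by
      rw [hN, Subgroup.mem_normalizer_iff]
      intro k
      conv_lhs => rw [heq]
      rw [hS, MulAction.mem_stabilizer_iff, MulAction.mem_stabilizer_iff, mul_smul, mul_smul,
        ← eq_inv_smul_iff (g := g), inv_smul_eq_iff.2 hg.symm]
    exact ⟨Φ ⟨g, hgN⟩, (hΦa ⟨g, hgN⟩).trans (inv_smul_eq_iff.2 hg.symm)⟩

end Cfsg.Agent.S0702
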