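import Cfsg.Statements.S0705
import Mathlib.GroupTheory.GroupAction.MultipleTransitivity
import Mathlib.Algebra.Group.Action.Pointwise.Finset
import Mathlib.Tactic

set_option autoImplicit false
open scoped Pointwise
open Cfsg

namespace Cfsg.Agent.S0705

/-- A generously `k`-transitive permutation group (every `(k+1)`-subset has its full symmetric group induced by the setwise stabiliser) of degree greater than `k` is `k`-transitive, and for a `k`-subset the setwise and pointwise stabilisers have the same orbits outside it. -/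
theorem result {α : Type*} [Fintype α] [DecidableEq α] (G : Subgroup (Equiv.Perm α)) {k : ℕ} (hk : k < Fintype.card α) (hgen : ∀ s : Finset α, s.card = k + 1 → ∀ σ : Equiv.Perm ↥s, ∃ g ∈ G, ∀ x : ↥s, g (x : α) = σ x) : MulAction.IsMultiplyPretransitive G α k ∧ ∀ s : Finset α, s.card = k → ∀ a b : α, a ∉ s → b ∉ s → (∃ g ∈ G, g • s = s ∧ g a = b) → ∃ g ∈ G, (∀ x ∈ s, g x = x) ∧ g a = b := by
  classical
  have pick : ∀ (s : Finset α), s.card = k → ∀ a, a ∉ s → ∀ σ : Equiv.Perm α,
      (∀ x, σ x ∈ insert a s ↔ x ∈ insert a s) →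
        ∃ g ∈ G, ∀ x ∈ insert a s, g x = σ x := by
    intro s hs a ha σ hσ
    obtain ⟨g, hg, hgσ⟩ := hgen (insert a s) (by rw [Finset.card_insert_of_notMem ha, hs])
      (σ.subtypePerm hσ)
    exact ⟨g, hg, fun x hx => hgσ ⟨x, hx⟩⟩
  have hex : ∀ s : Finset α, s.card = k → ∃ a, a ∉ s := by
    intro s hs
    by_contra hcon
    push Not at hcon
    rw [Finset.eq_univ_of_forall hcon, Finset.card_univ] at hs
    omega
  refine ⟨?_, ?_⟩
  · rw [MulAction.isMultiplyPretransitive_iff]
    suffices H : ∀ (m : ℕ) (x y : Fin k ↪ α),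
        ((Finset.univ.map y) \ (Finset.univ.map x)).card = m → ∃ g ∈ G, ∀ i, g (x i) = y i by
      intro x y
      obtain ⟨g, hg, hgx⟩ := H _ x y rfl
      exact ⟨⟨g, hg⟩, Function.Embedding.ext fun i => hgx i⟩
    intro m
    induction m using Nat.strong_induction_on with
    | _ m ih =>
      intro x y hm
      set s := Finset.univ.map x with hsdef
      set t := Finset.univ.map y with htdef
      have hs : s.card = k := by rw [hsdef, Finset.card_map, Finset.card_univ, Fintype.card_fin]
      have ht : t.card = k := by rw [htdef, Finset.card_map, Finset.card_univ, Fintype.card_fin]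
      by_cases hts : t ⊆ s
      · have heq := Finset.eq_of_subset_of_card_le hts (hs.trans ht.symm).le
        obtain ⟨a, ha⟩ := hex s hs
        -- the permutation of s taking x i to y i
        let ex : Fin k ≃ {z // z ∈ s} := Equiv.ofBijective (fun i => ⟨x i, by simp [hsdef]⟩)
          ⟨fun i j h => x.injective (congrArg Subtype.val h), fun z => by
            obtain ⟨i, -, hi⟩ := Finset.mem_map.1 z.2
            exact ⟨i, Subtype.ext hi⟩⟩
        let ey : Fin k ≃ {z // z ∈ s} := Equiv.ofBijective (fun i => ⟨y i, heq ▸ by simp [htdef]⟩)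
          ⟨fun i j h => y.injective (congrArg Subtype.val h), fun z => by
            obtain ⟨i, -, hi⟩ := Finset.mem_map.1 (show (z : α) ∈ t from heq.symm ▸ z.2)
            exact ⟨i, Subtype.ext hi⟩⟩
        let σ : Equiv.Perm α := Equiv.Perm.ofSubtype (ex.symm.trans ey)
        have hin : ∀ z : α, z ∉ s → σ z = z := fun z hz =>
          Equiv.Perm.ofSubtype_apply_of_not_mem _ hz
        have hsmem : ∀ z : α, σ z ∈ s ↔ z ∈ s := by
          intro z
          by_cases hz : z ∈ s
          · rw [Equiv.Perm.ofSubtype_apply_of_mem _ hz]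
            exact iff_of_true (Subtype.prop _) hz
          · rw [hin z hz]
        have hσ : ∀ z, σ z ∈ insert a s ↔ z ∈ insert a s := by
          intro z
          by_cases hz : z ∈ s
          · exact iff_of_true (Finset.mem_insert_of_mem ((hsmem z).2 hz)) (Finset.mem_insert_of_mem hz)
          · rw [hin z hz]
        obtain ⟨g, hg, hgs⟩ := pick s hs a ha σ hσ
        refine ⟨g, hg, fun i => ?_⟩
        rw [hgs _ (Finset.mem_insert_of_mem (by simp [hsdef]))]
        show Equiv.Perm.ofSubtype (ex.symm.trans ey) ((ex i : {z // z ∈ s}) : α) = _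
        rw [Equiv.Perm.ofSubtype_apply_coe, Equiv.trans_apply, Equiv.symm_apply_apply]
        rfl
      · obtain ⟨u, hut, hus⟩ := Finset.not_subset.1 hts
        obtain ⟨v, hvs, hvt⟩ := Finset.not_subset.1 (fun hst : s ⊆ t =>
          hts (Finset.eq_of_subset_of_card_le hst (ht.trans hs.symm).le).symm.subset)
        have hσ : ∀ z, Equiv.swap u v z ∈ insert u s ↔ z ∈ insert u s := by
          intro z
          rcases eq_or_ne z u with rfl | hzu
          · simp [hvs]
          rcases eq_or_ne z v with rfl | hzv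
          · simp [hvs]
          rw [Equiv.swap_apply_of_ne_of_ne hzu hzv]
        obtain ⟨g, hg, hgs⟩ := pick s hs u hus _ hσ
        let x' : Fin k ↪ α := x.trans g.toEmbedding
        have hlt : (Finset.univ.map y \ Finset.univ.map x').card < m := by
          rw [← hm]
          apply Finset.card_lt_card
          rw [Finset.ssubset_iff_of_subset]
          · refine ⟨u, Finset.mem_sdiff.2 ⟨hut, hus⟩, fun hu => (Finset.mem_sdiff.1 hu).2 ?_⟩
            obtain ⟨i, -, hi⟩ := Finset.mem_map.1 hvs
            refine Finset.mem_map.2 ⟨i, Finset.mem_univ _, ?_⟩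
            show g (x i) = u
            rw [hgs _ (Finset.mem_insert_of_mem (by simp [hsdef])), hi, Equiv.swap_apply_right]
          · intro z hz
            rw [Finset.mem_sdiff] at hz ⊢
            refine ⟨hz.1, fun hzs => hz.2 ?_⟩
            obtain ⟨i, -, hi⟩ := Finset.mem_map.1 hzs
            refine Finset.mem_map.2 ⟨i, Finset.mem_univ _, ?_⟩
            show g (x i) = z
            rw [hgs _ (Finset.mem_insert_of_mem (by simp [hsdef])), hi]
            exact Equiv.swap_apply_of_ne_of_ne (fun h => hus (h ▸ hzs)) (fun h => hvt (h ▸ hz.1))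
        obtain ⟨h, hh, hhx⟩ := ih _ hlt x' y rfl
        exact ⟨h * g, mul_mem hh hg, fun i => hhx i⟩
  · intro s hs a b ha hb ⟨g, hg, hgs, hgab⟩
    have hgmem : ∀ z, g z ∈ s ↔ z ∈ s := by
      intro z
      conv_lhs => rw [← hgs]
      exact Finset.smul_mem_smul_finset_iff g
    have hgi : ∀ z, g⁻¹ z ∈ s ↔ z ∈ s := by
      intro z
      conv_rhs => rw [show z = g (g⁻¹ z) from (g.apply_symm_apply z).symm, hgmem]
    let σ : Equiv.Perm α := Equiv.Perm.ofSubtype ((g⁻¹).subtypePerm hgi : Equiv.Perm {z // z ∈ s})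
    have hσb : σ b = b := Equiv.Perm.ofSubtype_apply_of_not_mem _ hb
    have hσ : ∀ z, σ z ∈ insert b s ↔ z ∈ insert b s := by
      intro z
      by_cases hz : z ∈ s
      · refine iff_of_true (Finset.mem_insert_of_mem ?_) (Finset.mem_insert_of_mem hz)
        rw [Equiv.Perm.ofSubtype_apply_of_mem _ hz]
        exact Subtype.prop _
      · rw [Equiv.Perm.ofSubtype_apply_of_not_mem _ hz]
    obtain ⟨h, hh, hhs⟩ := pick s hs b hb σ hσ
    refine ⟨h * g, mul_mem hh hg, fun x hx => ?_, ?_⟩
    · rw [Equiv.Perm.mul_apply, hhs _ (Finset.mem_insert_of_mem ((hgmem x).2 hx)),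
        Equiv.Perm.ofSubtype_apply_of_mem _ ((hgmem x).2 hx)]
      exact g.symm_apply_apply x
    · rw [Equiv.Perm.mul_apply, hgab, hhs _ (Finset.mem_insert_self _ _), hσb]

end Cfsg.Agent.S0705
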