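import Cfsg.Statements.S0706
import Mathlib

set_option autoImplicit false
open Cfsg

namespace Cfsg.Agent.S0706

/-- In a generously transitive setting any two sets of the same small size are conjugate. -/
theorem exists_map_set {α : Type*} [DecidableEq α] (G : Subgroup (Equiv.Perm α)) {k : ℕ}
    (hgen : ∀ s : Finset α, s.card = k + 1 → ∀ σ : Equiv.Perm ↥s, ∃ g ∈ G, ∀ x : ↥s, g (x : α) = σ x) :
    ∀ (m : ℕ) (S T : Finset α), S.card = k → T.card = k → (S \ T).card = m →
      ∃ g ∈ G, ∀ x ∈ T, g x ∈ S := by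
  intro m
  induction m with
  | zero =>
    intro S T hS hT hm
    have hST : S = T := Finset.eq_of_subset_of_card_le
      (Finset.sdiff_eq_empty_iff_subset.1 (Finset.card_eq_zero.1 hm)) (by omega)
    exact ⟨1, G.one_mem, fun x hx => hST ▸ hx⟩
  | succ m ih =>
    intro S T hS hT hm
    obtain ⟨b, hb⟩ : (S \ T).Nonempty := Finset.card_pos.1 (by omega)
    obtain ⟨hbS, hbT⟩ := Finset.mem_sdiff.1 hb
    obtain ⟨a, ha⟩ : (T \ S).Nonempty := Finset.card_pos.1 (by
      rw [Finset.card_sdiff_comm (hT.trans hS.symm)]; omega)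
    obtain ⟨haT, haS⟩ := Finset.mem_sdiff.1 ha
    let S' := insert a (S.erase b)
    have hS' : S'.card = k := by
      rw [Finset.card_insert_of_notMem (fun h => haS (Finset.mem_of_mem_erase h)),
        Finset.card_erase_of_mem hbS, hS]
      have := Finset.card_pos.2 ⟨b, hbS⟩
      omega
    have hdiff : S' \ T = (S \ T).erase b := by
      ext x
      simp only [S', Finset.mem_sdiff, Finset.mem_insert, Finset.mem_erase]
      constructor
      · rintro ⟨rfl | ⟨h1, h2⟩, h3⟩
        · exact absurd haT h3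
        · exact ⟨h1, h2, h3⟩
      · rintro ⟨h1, h2, h3⟩
        exact ⟨Or.inr ⟨h1, h2⟩, h3⟩
    obtain ⟨g, hg, hgT⟩ := ih S' T hS' hT (by
      rw [hdiff, Finset.card_erase_of_mem hb]; omega)
    obtain ⟨h, hh, hhs⟩ := hgen (insert a S) (by rw [Finset.card_insert_of_notMem haS, hS])
      (Equiv.swap ⟨a, Finset.mem_insert_self _ _⟩ ⟨b, Finset.mem_insert_of_mem hbS⟩)
    refine ⟨h * g, G.mul_mem hh hg, fun x hx => ?_⟩
    rw [Equiv.Perm.mul_apply]
    rcases Finset.mem_insert.1 (hgT x hx) with e | e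
    · rw [e]
      have := hhs ⟨a, Finset.mem_insert_self _ _⟩
      rw [this, Equiv.swap_apply_left]
      exact hbS
    · obtain ⟨hne, hmem⟩ := Finset.mem_erase.1 e
      have hne' : g x ≠ a := fun e' => haS (e' ▸ hmem)
      have := hhs ⟨g x, Finset.mem_insert_of_mem hmem⟩
      rw [this, Equiv.swap_apply_of_ne_of_ne]
      · exact hmem
      · exact fun e' => hne' (congrArg Subtype.val e')
      · exact fun e' => hne (congrArg Subtype.val e')

/-- In a generously `k`-transitive permutation group, for a prime `p ≤ k` and a `k`-set `Γ`, there are no `p` points outside `Γ` lying in distinct orbits of the pointwise stabiliser of `Γ` all of length prime to `p` (at most `p - 1` such orbits). -/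
theorem result {α : Type*} [Fintype α] [DecidableEq α] (G : Subgroup (Equiv.Perm α)) {k : ℕ} (hk : k < Fintype.card α) (hgen : ∀ s : Finset α, s.card = k + 1 → ∀ σ : Equiv.Perm ↥s, ∃ g ∈ G, ∀ x : ↥s, g (x : α) = σ x) {p : ℕ} (hp : p.Prime) (hpk : p ≤ k) (Γ : Finset α) (hΓ : Γ.card = k) (f : Fin p → α) (hf : ∀ i, f i ∉ Γ) (hdist : ∀ i j, i ≠ j → f j ∉ MulAction.orbit (fixingSubgroup G (Γ : Set α)) (f i)) : ∃ i, p ∣ Nat.card (MulAction.orbit (fixingSubgroup G (Γ : Set α)) (f i)) := by
  classical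
  by_contra hcon
  push Not at hcon
  haveI := Fact.mk hp
  haveI : NeZero p := ⟨hp.ne_zero⟩
  set K : Subgroup G := fixingSubgroup G (Γ : Set α) with hKdef
  have hKmem : ∀ g : G, g ∈ K ↔ ∀ x ∈ Γ, (g : Equiv.Perm α) x = x := fun g => by
    rw [hKdef, mem_fixingSubgroup_iff]; rfl
  have hfinj : Function.Injective f := fun i j e => by
    by_contra hne
    exact hdist i j hne (e ▸ MulAction.mem_orbit_self _)
  -- the cycle on `C ⊆ Γ`
  obtain ⟨C, hCΓ, hC⟩ := Finset.exists_subset_card_eq (hΓ ▸ hpk : p ≤ Γ.card)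
  let e : Fin p ↪ α := (finCongr hC.symm).toEmbedding.trans
    (C.equivFin.symm.toEmbedding.trans (Function.Embedding.subtype _))
  have he : ∀ i, e i ∈ C := fun i => (C.equivFin.symm _).2
  let c : Equiv.Perm α := (finRotate p).viaFintypeEmbedding e
  have hce : ∀ i, c (e i) = e (finRotate p i) := fun i => Equiv.Perm.viaFintypeEmbedding_apply_image _ _ i
  have hco : ∀ x, x ∉ C → c x = x := fun x hx => Equiv.Perm.viaFintypeEmbedding_apply_notMem_range _ _
    (by rintro ⟨i, rfl⟩; exact hx (he i))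
  have hcp : ∀ (n : ℕ) i, (c ^ n) (e i) = e ((finRotate p ^ n) i) := by
    intro n
    induction n with
    | zero => simp
    | succ n ih => intro i; rw [pow_succ', pow_succ', Equiv.Perm.mul_apply, ih, hce, Equiv.Perm.mul_apply]
  have hrot : (finRotate p) ^ p = 1 := by
    have h := (isCycle_finRotate_of_le hp.two_le).orderOf
    rw [support_finRotate_of_le hp.two_le, Finset.card_univ, Fintype.card_fin] at h
    have h' := pow_orderOf_eq_one (finRotate p)
    rwa [h] at h'
  have hcpow : c ^ p = 1 := by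
    ext x
    by_cases hx : x ∈ Set.range e
    · obtain ⟨i, rfl⟩ := hx
      rw [hcp, hrot]; rfl
    · have : ∀ n, (c ^ n) x = x := by
        intro n
        induction n with
        | zero => simp
        | succ n ih =>
          rw [pow_succ', Equiv.Perm.mul_apply, ih]
          exact Equiv.Perm.viaFintypeEmbedding_apply_notMem_range _ _ hx
      simp [this]
  have hcΓ : ∀ x, x ∈ Γ → c x ∈ Γ := by
    intro x hx
    by_cases h : x ∈ Set.range e
    · obtain ⟨i, rfl⟩ := h
      rw [hce]; exact hCΓ (he _)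
    · rw [show c x = x from Equiv.Perm.viaFintypeEmbedding_apply_notMem_range _ _ h]; exact hx
  -- realise it
  have hreal : ∀ (d : α), d ∉ Γ → ∀ σ : Equiv.Perm α, (∀ x ∈ Γ, σ x ∈ Γ) →
      ∃ g : G, (g : Equiv.Perm α) d = d ∧ ∀ x ∈ Γ, (g : Equiv.Perm α) x = σ x := by
    intro d hd σ hσ
    let τ0 : ↥(insert d Γ) → ↥(insert d Γ) := fun x => if h : (x : α) ∈ Γ then
      ⟨σ x, Finset.mem_insert_of_mem (hσ x h)⟩ else x
    have hτ : Function.Injective τ0 := by
      intro x y h
      simp only [τ0] at h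
      split_ifs at h with hx hy hy
      · exact Subtype.ext (σ.injective (congrArg Subtype.val h))
      · exact absurd (congrArg Subtype.val h ▸ hσ x hx) hy
      · exact absurd ((congrArg Subtype.val h).symm ▸ hσ y hy) hx
      · exact h
    obtain ⟨g, hg, hgs⟩ := hgen (insert d Γ) (by rw [Finset.card_insert_of_notMem hd, hΓ])
      (Equiv.ofBijective τ0 (Finite.injective_iff_bijective.1 hτ))
    refine ⟨⟨g, hg⟩, ?_, fun x hx => ?_⟩
    · have := hgs ⟨d, Finset.mem_insert_self _ _⟩
      simpa [τ0, hd] using this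
    · have := hgs ⟨x, Finset.mem_insert_of_mem hx⟩
      simpa [τ0, hx] using this
  let H : Subgroup G :=
    { carrier := {g | (∀ x ∈ Γ, (g : Equiv.Perm α) x ∈ Γ) ∧ ∀ x ∈ Γ, x ∉ C → (g : Equiv.Perm α) x = x}
      one_mem' := ⟨fun x hx => hx, fun x _ _ => rfl⟩
      mul_mem' := fun {g h} hg hh => ⟨fun x hx => hg.1 _ (hh.1 x hx), fun x hx hxC => by
        show (g : Equiv.Perm α) ((h : Equiv.Perm α) x) = x
        rw [hh.2 x hx hxC, hg.2 x hx hxC]⟩
      inv_mem' := fun {g} hg => by
        have hsurj : ∀ x ∈ Γ, ∃ y ∈ Γ, (g : Equiv.Perm α) y = x := fun x hx => by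
          obtain ⟨y, hy, e⟩ := Finset.surj_on_of_inj_on_of_card_le (fun a _ => (g : Equiv.Perm α) a)
            hg.1 (fun a b _ _ e => (g : Equiv.Perm α).injective e) le_rfl x hx
          exact ⟨y, hy, e.symm⟩
        refine ⟨fun x hx => ?_, fun x hx hxC => ?_⟩
        · obtain ⟨y, hy, rfl⟩ := hsurj x hx
          simpa using hy
        · have := congrArg (g⁻¹ : G).1 (hg.2 x hx hxC)
          simpa using this.symm }
  let res : H →* Equiv.Perm ↥Γ :=
    { toFun := fun g => Equiv.ofBijective (fun x => (⟨(g : Equiv.Perm α) x, g.2.1 x x.2⟩ : ↥Γ))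
        (Finite.injective_iff_bijective.1 fun x y h => Subtype.ext
          ((g : Equiv.Perm α).injective (congrArg Subtype.val h)))
      map_one' := by ext; rfl
      map_mul' := fun g h => by ext; rfl }
  have hKH : K ≤ H := fun g hg => ⟨fun x hx => by rw [(hKmem g).1 hg x hx]; exact hx,
    fun x hx _ => (hKmem g).1 hg x hx⟩
  have hker : res.ker = K.subgroupOf H := by
    ext g
    rw [MonoidHom.mem_ker, Subgroup.mem_subgroupOf, hKmem]
    constructor
    · intro h x hx
      exact congrArg Subtype.val (Equiv.ext_iff.1 h ⟨x, hx⟩)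
    · intro h
      ext x
      exact h x x.2
  have hpH : p * Nat.card K ∣ Nat.card H := by
    obtain ⟨g, -, hg⟩ := hreal (f 0) (hf 0) c hcΓ
    have hgH : g ∈ H := ⟨fun x hx => by rw [hg x hx]; exact hcΓ x hx,
      fun x hx hxC => by rw [hg x hx]; exact hco x hxC⟩
    have hord : orderOf (res ⟨g, hgH⟩) = p := by
      refine orderOf_eq_prime ?_ ?_
      · have key : ∀ (n : ℕ) (x : ↥Γ), ((res ⟨g, hgH⟩ ^ n) x : α) = (c ^ n) x := by
          intro n
          induction n with
          | zero => simp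
          | succ n ih =>
            intro x
            rw [pow_succ', pow_succ', Equiv.Perm.mul_apply, Equiv.Perm.mul_apply, ← ih]
            exact hg _ ((res ⟨g, hgH⟩ ^ n) x).2
        ext x
        rw [key, hcpow]; rfl
      · intro h1
        have h2 : (g : Equiv.Perm α) (e 0) = e 0 :=
          congrArg Subtype.val (Equiv.ext_iff.1 h1 ⟨e 0, hCΓ (he 0)⟩)
        rw [hg _ (hCΓ (he 0)), hce] at h2
        have := (isCycle_finRotate_of_le hp.two_le)
        have h3 : (0 : Fin p) ∈ (finRotate p).support := by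
          rw [support_finRotate_of_le hp.two_le]; exact Finset.mem_univ _
        exact (Equiv.Perm.mem_support.1 h3) (e.injective h2)
    have h1 := Subgroup.card_eq_card_quotient_mul_card_subgroup res.ker
    rw [Nat.card_congr (QuotientGroup.quotientKerEquivRange res).toEquiv, hker,
      Nat.card_congr (Subgroup.subgroupOfEquivOfLe hKH).toEquiv] at h1
    rw [h1]
    refine mul_dvd_mul_right ?_ _
    have h2 := orderOf_dvd_natCard (⟨res ⟨g, hgH⟩, ⟨_, rfl⟩⟩ : res.range)
    rw [← Subgroup.orderOf_coe] at h2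
    simpa [hord] using h2
  obtain ⟨v, w, hwp, hK⟩ := Nat.exists_eq_pow_mul_and_not_dvd
    (Nat.card_pos (α := K)).ne' p hp.ne_one
  obtain ⟨Q, hQ⟩ := Sylow.exists_subgroup_card_pow_prime (G := H) p (n := v + 1) (by
    refine dvd_trans ?_ hpH
    rw [hK, pow_succ']
    exact mul_dvd_mul_left _ (dvd_mul_right _ _))
  -- fixed points of `Q`
  have hfix : ∀ i, ∃ d ∈ MulAction.orbit K (f i), ∀ q ∈ Q, ((q : G) : Equiv.Perm α) d = d := by
    intro i
    have hdΓ : ∀ d ∈ MulAction.orbit K (f i), d ∉ Γ := by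
      rintro d ⟨k', rfl⟩ hd
      have h1 := (hKmem _).1 (K.inv_mem k'.2) _ hd
      have h2 : (((k' : G)⁻¹ : G) : Equiv.Perm α) (k' • f i) = f i := inv_smul_smul (k' : G) (f i)
      exact hf i ((h1.symm.trans h2) ▸ hd)
    have hinv : ∀ (q : Q) (d : α), d ∈ MulAction.orbit K (f i) →
        (((q : H) : G) : Equiv.Perm α) d ∈ MulAction.orbit K (f i) := by
      intro q d hd
      obtain ⟨h, hhd, hhΓ⟩ := hreal d (hdΓ d hd) ((q : H) : G) (q : H).2.1
      have hk' : ((q : H) : G) * h⁻¹ ∈ K := by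
        rw [hKmem]
        intro x hx
        obtain ⟨y, hy, hxy⟩ := Finset.surj_on_of_inj_on_of_card_le (fun a _ => (h : Equiv.Perm α) a)
          (fun a ha => by rw [hhΓ a ha]; exact (q : H).2.1 a ha)
          (fun a b _ _ e => (h : Equiv.Perm α).injective e) le_rfl x hx
        subst hxy
        show (((q : H) : G) : Equiv.Perm α) ((h : Equiv.Perm α)⁻¹ ((h : Equiv.Perm α) y)) = (h : Equiv.Perm α) y
        rw [show ((h : Equiv.Perm α)⁻¹ ((h : Equiv.Perm α) y)) = y by simp]
        exact (hhΓ y hy).symm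
      rw [← MulAction.orbit_eq_iff.2 hd]
      refine ⟨⟨_, hk'⟩, ?_⟩
      show (((q : H) : G) : Equiv.Perm α) ((h : Equiv.Perm α)⁻¹ d) = _
      congr 1
      exact Equiv.Perm.inv_eq_iff_eq.2 hhd.symm
    let _ : MulAction Q (MulAction.orbit K (f i)) :=
      { smul := fun q d => ⟨_, hinv q d d.2⟩
        one_smul := fun d => Subtype.ext rfl
        mul_smul := fun q q' d => Subtype.ext rfl }
    have hQp : IsPGroup p Q := IsPGroup.of_card hQ
    obtain ⟨d, hd⟩ := hQp.nonempty_fixed_point_of_prime_not_dvd_card (MulAction.orbit K (f i)) (hcon i)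
    exact ⟨d, d.2, fun q hq => congrArg Subtype.val (hd ⟨q, hq⟩)⟩
  choose d hd hdfix using hfix
  have hdinj : Function.Injective d := fun i j e => by
    by_contra hne
    refine hdist i j hne ?_
    rw [← MulAction.orbit_eq_iff.2 (hd i), e, MulAction.orbit_eq_iff.2 (hd j)]
    exact MulAction.mem_orbit_self _
  have hdΓ : ∀ i, d i ∉ Γ := by
    intro i h
    obtain ⟨k', hk'⟩ := hd i
    change k' • f i = d i at hk'
    have h1 := (hKmem _).1 (K.inv_mem k'.2) _ h
    have h2 : (((k' : G)⁻¹ : G) : Equiv.Perm α) (k' • f i) = f i := inv_smul_smul (k' : G) (f i)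
    rw [hk'] at h2
    exact hf i ((h1.symm.trans h2) ▸ h)
  let S : Finset α := (Γ \ C) ∪ Finset.univ.image d
  have hS : S.card = k := by
    rw [Finset.card_union_of_disjoint, Finset.card_sdiff_of_subset hCΓ, hΓ, hC,
      Finset.card_image_of_injective _ hdinj, Finset.card_univ, Fintype.card_fin]
    · omega
    · rw [Finset.disjoint_left]
      intro x hx hx'
      obtain ⟨i, -, rfl⟩ := Finset.mem_image.1 hx'
      exact hdΓ i (Finset.mem_sdiff.1 hx).1
  obtain ⟨g0, hg0, hg0S⟩ := exists_map_set G hgen _ S Γ hS hΓ rfl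
  have hconj : ∀ q : Q, (⟨g0, hg0⟩ : G)⁻¹ * ((q : H) : G) * ⟨g0, hg0⟩ ∈ K := by
    intro q
    rw [hKmem]
    intro x hx
    show g0⁻¹ ((((q : H) : G) : Equiv.Perm α) (g0 x)) = x
    have : (((q : H) : G) : Equiv.Perm α) (g0 x) = g0 x := by
      rcases Finset.mem_union.1 (hg0S x hx) with h | h
      · exact (q : H).2.2 _ (Finset.mem_sdiff.1 h).1 (Finset.mem_sdiff.1 h).2
      · obtain ⟨i, -, hi⟩ := Finset.mem_image.1 h
        rw [← hi]; exact hdfix i _ q.2
    rw [this]; simp
  let φ : Q →* K :=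
    { toFun := fun q => ⟨_, hconj q⟩
      map_one' := by ext; simp
      map_mul' := fun q q' => by
        apply Subtype.ext
        simp [mul_assoc] }
  have hφ : Function.Injective φ := fun q q' e => by
    have := congrArg Subtype.val e
    change _ * _ * _ = _ * _ * _ at this
    exact Subtype.ext (Subtype.ext (by simpa using this))
  have hdvd := Subgroup.card_dvd_of_injective φ hφ
  rw [hQ, hK, pow_succ, Nat.mul_dvd_mul_iff_left (pow_pos hp.pos v)] at hdvd
  exact hwp hdvd

end Cfsg.Agent.S0706
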