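import Cfsg.Statements.S0707
import Mathlib.GroupTheory.GroupAction.Primitive
import Mathlib.GroupTheory.SpecificGroups.Cyclic

set_option autoImplicit false
open Cfsg

namespace Cfsg.Agent.S0707

/-- In a primitive permutation group, distinct points have distinct stabilisers unless the group is regular of prime degree. -/
theorem result {α : Type*} (G : Subgroup (Equiv.Perm α)) [MulAction.IsPreprimitive G α] (h : ¬ (Nat.card α).Prime ∨ ∃ a : α, MulAction.stabilizer G a ≠ ⊥) {a b : α} (hab : a ≠ b) : MulAction.stabilizer G a ≠ MulAction.stabilizer G b := by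
  intro hst
  have : Nontrivial α := ⟨⟨a, b, hab⟩⟩
  set B : Set α := {x | MulAction.stabilizer G x = MulAction.stabilizer G a} with hB
  have hconj : ∀ (g : G) (x : α), MulAction.stabilizer G (g • x) =
      (MulAction.stabilizer G x).map (MulAut.conj g).toMonoidHom :=
    fun g x => MulAction.stabilizer_smul_eq_stabilizer_map_conj g x
  have hblock : MulAction.IsBlock G B := by
    rw [MulAction.isBlock_iff_smul_eq_of_mem]
    intro g x hx hgx
    have hx' : MulAction.stabilizer G x = MulAction.stabilizer G a := hx
    have h1 : (MulAction.stabilizer G a).map (MulAut.conj g).toMonoidHom = MulAction.stabilizer G a := by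
      rw [← hx', ← hconj, hgx, hx']
    have hiff : ∀ y : α, g • y ∈ B ↔ y ∈ B := by
      intro y
      show MulAction.stabilizer G (g • y) = _ ↔ MulAction.stabilizer G y = _
      rw [hconj]
      conv_lhs => rw [← h1]
      exact Subgroup.map_injective (MulAut.conj g).injective |>.eq_iff
    ext y
    rw [Set.mem_smul_set_iff_inv_smul_mem, ← hiff, smul_inv_smul]
  rcases MulAction.IsPreprimitive.isTrivialBlock_of_isBlock hblock with hs | hu
  · exact hab (hs (show a ∈ B from rfl) (show b ∈ B from hst.symm))
  · have hbot : ∀ x : α, MulAction.stabilizer G x = ⊥ := by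
      intro x
      rw [eq_bot_iff]
      intro g hg
      rw [Subgroup.mem_bot]
      apply Subtype.ext
      apply Equiv.ext
      intro y
      have hy : y ∈ B := hu ▸ Set.mem_univ y
      have hx : x ∈ B := hu ▸ Set.mem_univ x
      have : g ∈ MulAction.stabilizer G y := by
        rw [show MulAction.stabilizer G y = MulAction.stabilizer G a from hy,
          ← show MulAction.stabilizer G x = MulAction.stabilizer G a from hx]
        exact hg
      exact this
    rcases h with h | ⟨c, hc⟩
    swap
    · exact hc (hbot c)
    apply h
    have hco : IsCoatom (⊥ : Subgroup G) := hbot a ▸ MulAction.IsPreprimitive.isCoatom_stabilizer_of_isPreprimitive G a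
    have hdich : ∀ H : Subgroup G, H = ⊥ ∨ H = ⊤ := fun H => by
      rcases eq_or_lt_of_le (bot_le : ⊥ ≤ H) with h1 | h1
      · exact Or.inl h1.symm
      · exact Or.inr (hco.2 H h1)
    have hnt : Nontrivial G := by
      by_contra hne
      rw [not_nontrivial_iff_subsingleton] at hne
      exact hco.1 (Subsingleton.elim _ _)
    have : IsSimpleGroup G := { eq_bot_or_eq_top_of_normal := fun H _ => hdich H }
    obtain ⟨g, hg⟩ := exists_ne (1 : G)
    have hcyc : IsCyclic G := isCyclic_iff_exists_zpowers_eq_top.2
      ⟨g, (hdich _).resolve_left (by rwa [Subgroup.zpowers_eq_bot])⟩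
    let _ : CommGroup G := IsCyclic.commGroup
    have hcard : Nat.card α = Nat.card G := by
      rw [← MulAction.index_stabilizer_of_transitive G a, hbot a, Subgroup.index_bot]
    rw [hcard]
    exact IsSimpleGroup.prime_card

end Cfsg.Agent.S0707
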