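import Cfsg.Statements.S0708
import Mathlib.GroupTheory.GroupAction.MultipleTransitivity
import Mathlib.GroupTheory.Perm.Cycle.Type
import Mathlib.GroupTheory.SpecificGroups.Cyclic
import Mathlib.Tactic

set_option autoImplicit false
open Cfsg

namespace Cfsg.Agent.S0708

variable {G : Type*} [Group G] {Ω : Type*} [MulAction G Ω]

theorem exists_map (h4 : MulAction.IsMultiplyPretransitive G Ω 4) {a b c d a' b' c' d' : Ω}
    (h : [a, b, c, d].Nodup) (h' : [a', b', c', d'].Nodup) :
    ∃ g : G, g • a = a' ∧ g • b = b' ∧ g • c = c' ∧ g • d = d' := by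
  have hi : ∀ {a b c d : Ω}, [a, b, c, d].Nodup → Function.Injective ![a, b, c, d] := by
    intro a b c d h
    simp only [List.nodup_cons, List.mem_cons, List.not_mem_nil, or_false, not_or, List.nodup_nil, and_true,
      not_false_eq_true] at h
    obtain ⟨⟨h1, h2, h3⟩, ⟨h4, h5⟩, h6⟩ := h
    intro i j e
    fin_cases i <;> fin_cases j <;> first | rfl | exact absurd e (by simp [h1, h2, h3, h4, h5, h6, Ne.symm h1, Ne.symm h2, Ne.symm h3, Ne.symm h4, Ne.symm h5, Ne.symm h6])
  obtain ⟨g, hg⟩ := MulAction.isMultiplyPretransitive_iff.1 h4 ⟨_, hi h⟩ ⟨_, hi h'⟩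
  exact ⟨g, DFunLike.congr_fun hg 0, DFunLike.congr_fun hg 1, DFunLike.congr_fun hg 2, DFunLike.congr_fun hg 3⟩

theorem eq_one_of_fix (hsharp : ∀ x : Fin 4 ↪ Ω, MulAction.stabilizer G x = ⊥) {g : G} {a b c d : Ω}
    (h : [a, b, c, d].Nodup) (ha : g • a = a) (hb : g • b = b) (hc : g • c = c) (hd : g • d = d) : g = 1 := by
  simp only [List.nodup_cons, List.mem_cons, List.not_mem_nil, or_false, not_or, List.nodup_nil, and_true,
    not_false_eq_true] at h
  obtain ⟨⟨h1, h2, h3⟩, ⟨h4, h5⟩, h6⟩ := h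
  have hi : Function.Injective ![a, b, c, d] := by
    intro i j e
    fin_cases i <;> fin_cases j <;> first | rfl | exact absurd e (by simp [h1, h2, h3, h4, h5, h6, Ne.symm h1, Ne.symm h2, Ne.symm h3, Ne.symm h4, Ne.symm h5, Ne.symm h6])
  have : g ∈ MulAction.stabilizer G (⟨_, hi⟩ : Fin 4 ↪ Ω) := by
    rw [MulAction.mem_stabilizer_iff]
    ext i
    fin_cases i
    exacts [ha, hb, hc, hd]
  rwa [hsharp, Subgroup.mem_bot] at this

theorem eq_of_agree (hsharp : ∀ x : Fin 4 ↪ Ω, MulAction.stabilizer G x = ⊥) {g g' : G} {a b c d : Ω}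
    (h : [a, b, c, d].Nodup) (ha : g • a = g' • a) (hb : g • b = g' • b) (hc : g • c = g' • c)
    (hd : g • d = g' • d) : g = g' := by
  rw [← inv_mul_eq_one.1 (eq_one_of_fix hsharp (g := g'⁻¹ * g) h ?_ ?_ ?_ ?_)]
  all_goals rw [mul_smul, inv_smul_eq_iff]
  exacts [ha, hb, hc, hd]

theorem not_card_ten [Finite Ω] (h4 : MulAction.IsMultiplyPretransitive G Ω 4)
    (hsharp : ∀ x : Fin 4 ↪ Ω, MulAction.stabilizer G x = ⊥) (h10 : Nat.card Ω = 10) : False := by
  classical
  obtain ⟨e⟩ : Nonempty (Fin 10 ≃ Ω) := ⟨(Finite.equivFinOfCardEq h10).symm⟩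
  have hnd : ∀ (i j k l : Fin 10), [i, j, k, l].Nodup → [e i, e j, e k, e l].Nodup := fun i j k l h =>
    h.map e.injective
  set x := e 0
  set y := e 1
  set z := e 2
  obtain ⟨u, hux, huy, huz, -⟩ := exists_map h4 (hnd 0 1 2 3 (by decide)) (hnd 1 0 2 3 (by decide))
  obtain ⟨v, hvx, hvy, hvz, -⟩ := exists_map h4 (hnd 0 1 2 3 (by decide)) (hnd 0 2 1 3 (by decide))
  change u • x = y at hux
  change u • y = x at huy
  change u • z = z at huz
  change v • x = x at hvx
  change v • y = z at hvy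
  change v • z = y at hvz
  let K : Subgroup G := MulAction.stabilizer G x ⊓ MulAction.stabilizer G y ⊓ MulAction.stabilizer G z
  have hK : ∀ g, g ∈ K ↔ g • x = x ∧ g • y = y ∧ g • z = z := fun g => by
    simp only [K, Subgroup.mem_inf, MulAction.mem_stabilizer_iff, and_assoc]
  have hdist : ∀ p, p ≠ x → p ≠ y → p ≠ z → [x, y, z, p].Nodup := by
    intro p h1 h2 h3
    simp [x, y, z, Ne.symm h1, Ne.symm h2, Ne.symm h3]
  have hcard : Nat.card K = 7 := by
    let f : K → {p : Ω // p ≠ x ∧ p ≠ y ∧ p ≠ z} := fun g =>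
      ⟨(g : G) • e 3, fun h => by
        have := MulAction.injective (g : G) (h.trans ((hK g).1 g.2).1.symm); simp [x] at this,
       fun h => by
        have := MulAction.injective (g : G) (h.trans ((hK g).1 g.2).2.1.symm); simp [y] at this,
       fun h => by
        have := MulAction.injective (g : G) (h.trans ((hK g).1 g.2).2.2.symm); simp [z] at this⟩
    have hf : Function.Bijective f := by
      refine ⟨fun g g' h => Subtype.ext (eq_of_agree hsharp (hnd 0 1 2 3 (by decide)) ?_ ?_ ?_ (congrArg Subtype.val h)), fun p => ?_⟩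
      · exact ((hK g).1 g.2).1.trans ((hK g').1 g'.2).1.symm
      · exact ((hK g).1 g.2).2.1.trans ((hK g').1 g'.2).2.1.symm
      · exact ((hK g).1 g.2).2.2.trans ((hK g').1 g'.2).2.2.symm
      · obtain ⟨g, g1, g2, g3, g4⟩ := exists_map h4 (hnd 0 1 2 3 (by decide)) (hdist p.1 p.2.1 p.2.2.1 p.2.2.2)
        exact ⟨⟨g, (hK g).2 ⟨g1, g2, g3⟩⟩, Subtype.ext g4⟩
    rw [Nat.card_eq_of_bijective f hf,
      Nat.card_congr ((e.subtypeEquiv (p := fun i : Fin 10 => i ≠ 0 ∧ i ≠ 1 ∧ i ≠ 2)
        (q := fun p => p ≠ x ∧ p ≠ y ∧ p ≠ z) (fun i => by simp [x, y, z])).symm),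
      Nat.card_eq_fintype_card]
    decide
  have : Fact (Nat.Prime 7) := ⟨by norm_num⟩
  obtain ⟨⟨s, hs⟩, hgen⟩ := (isCyclic_of_prime_card hcard).exists_generator
  have hzpow : ∀ g ∈ K, ∃ i : ℤ, g = s ^ i := fun g hg => by
    obtain ⟨i, hi⟩ := hgen ⟨g, hg⟩
    exact ⟨i, (congrArg Subtype.val hi).symm⟩
  have hui : u⁻¹ • x = y ∧ u⁻¹ • y = x ∧ u⁻¹ • z = z :=
    ⟨inv_smul_eq_iff.2 huy.symm, inv_smul_eq_iff.2 hux.symm, inv_smul_eq_iff.2 huz.symm⟩
  have hvi : v⁻¹ • x = x ∧ v⁻¹ • y = z ∧ v⁻¹ • z = y :=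
    ⟨inv_smul_eq_iff.2 hvx.symm, inv_smul_eq_iff.2 hvz.symm, inv_smul_eq_iff.2 hvy.symm⟩
  obtain ⟨i, hi⟩ := hzpow (u * s * u⁻¹) ((hK _).2 (by
    have := (hK s).1 hs
    simp only [mul_smul, hui.1, hui.2.1, hui.2.2, this.1, this.2.1, this.2.2]
    exact ⟨huy, hux, huz⟩))
  obtain ⟨j, hj⟩ := hzpow (v * s * v⁻¹) ((hK _).2 (by
    have := (hK s).1 hs
    simp only [mul_smul, hvi.1, hvi.2.1, hvi.2.2, this.1, this.2.1, this.2.2]
    exact ⟨hvx, hvz, hvy⟩))
  set w := (v * u)⁻¹ * (u * v) with hw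
  have hws : Commute w s := by
    have h1 : u * v * s * (u * v)⁻¹ = v * u * s * (v * u)⁻¹ := by
      calc u * v * s * (u * v)⁻¹ = u * (v * s * v⁻¹) * u⁻¹ := by group
        _ = (u * s * u⁻¹) ^ j := by rw [hj, conj_zpow]
        _ = (v * s * v⁻¹) ^ i := by rw [hi, hj, ← zpow_mul, ← zpow_mul, mul_comm]
        _ = v * (u * s * u⁻¹) * v⁻¹ := by rw [hi, conj_zpow]
        _ = v * u * s * (v * u)⁻¹ := by group
    show w * s = s * w
    calc w * s = (v * u)⁻¹ * (u * v * s * (u * v)⁻¹) * (u * v) := by rw [hw]; group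
      _ = (v * u)⁻¹ * (v * u * s * (v * u)⁻¹) * (u * v) := by rw [h1]
      _ = s * w := by rw [hw]; group
  have hwx : w • x ≠ x := by
    rw [hw, mul_smul, Ne, inv_smul_eq_iff, mul_smul u v x, hvx, hux, mul_smul, hux, hvy]
    simp [y, z]
  have hw' : ∀ p : Ω, p = x ∨ p = y ∨ p = z → (w⁻¹ • p = x ∨ w⁻¹ • p = y ∨ w⁻¹ • p = z) := by
    intro p hp
    rw [hw, mul_inv_rev, inv_inv, mul_inv_rev, mul_smul, mul_smul, mul_smul]
    rcases hp with h | h | h <;> rw [h]
    all_goals simp [hux, huy, huz, hvx, hvy, hvz, hui, hvi]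
  set p := e 3
  have hp : p ≠ x ∧ p ≠ y ∧ p ≠ z := by simp [p, x, y, z]
  have hwp : w • p ≠ x ∧ w • p ≠ y ∧ w • p ≠ z := by
    refine ⟨fun h => ?_, fun h => ?_, fun h => ?_⟩
    all_goals
      have h' := hw' (w • p) (by tauto)
      rw [inv_smul_smul] at h'
      tauto
  obtain ⟨g, g1, g2, g3, g4⟩ := exists_map h4 (hdist p hp.1 hp.2.1 hp.2.2) (hdist _ hwp.1 hwp.2.1 hwp.2.2)
  obtain ⟨l, hl⟩ := hzpow g ((hK g).2 ⟨g1, g2, g3⟩)
  set w' := g⁻¹ * w with hw'def
  have hc : Commute w' s := by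
    rw [hw'def, hl]
    exact ((Commute.refl s).zpow_left l).inv_left.mul_left hws
  have hfix : ∀ q, q ≠ x → q ≠ y → q ≠ z → w' • q = q := by
    intro q q1 q2 q3
    obtain ⟨g', a1, a2, a3, a4⟩ := exists_map h4 (hdist p hp.1 hp.2.1 hp.2.2) (hdist q q1 q2 q3)
    obtain ⟨l', hl'⟩ := hzpow g' ((hK g').2 ⟨a1, a2, a3⟩)
    rw [← a4, smul_smul, hl', (hc.zpow_right l').eq, ← hl', mul_smul, hw'def, mul_smul, inv_smul_eq_iff.2 g4.symm]
  have h1 : w' = 1 := eq_one_of_fix hsharp (hnd 3 4 5 6 (by decide))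
    (hfix _ (by simp [x]) (by simp [y]) (by simp [z])) (hfix _ (by simp [x]) (by simp [y]) (by simp [z]))
    (hfix _ (by simp [x]) (by simp [y]) (by simp [z])) (hfix _ (by simp [x]) (by simp [y]) (by simp [z]))
  exact hwx (by rw [← inv_mul_eq_one.1 h1, g1])

theorem even_fixed [Finite Ω] (g : G) (hg : g * g = 1) (h : Even (Nat.card Ω)) :
    Even (Set.ncard {x : Ω | g • x = x}) := by
  classical
  let _ := Fintype.ofFinite Ω
  let σ : Equiv.Perm Ω := MulAction.toPermHom G Ω g
  have hσ : σ ^ 2 ^ 1 = 1 := by rw [pow_one, sq, ← map_mul, hg, map_one]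
  have h1 := Equiv.Perm.card_compl_support_modEq (p := 2) (hp := ⟨Nat.prime_two⟩) hσ
  have h2 : (σ.support)ᶜ.card = Set.ncard {x : Ω | g • x = x} := by
    rw [Set.ncard_eq_toFinset_card']
    congr 1
    ext q
    simp [σ]
  rw [h2, ← Nat.card_eq_fintype_card (α := Ω)] at h1
  rw [Nat.even_iff] at h ⊢
  exact h1.trans (show Nat.card Ω ≡ 0 [MOD 2] from h)

/-- Tits' argument: a sharply 4-transitive group (no finiteness assumed) has finite degree at most 11, and at most 6 when the degree is even. -/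
theorem result {G : Type*} [Group G] {Ω : Type*} [MulAction G Ω] (h4 : MulAction.IsMultiplyPretransitive G Ω 4) (hsharp : ∀ x : Fin 4 ↪ Ω, MulAction.stabilizer G x = ⊥) (hne : Nonempty (Fin 4 ↪ Ω)) : Finite Ω ∧ Nat.card Ω ≤ 11 ∧ (Even (Nat.card Ω) → Nat.card Ω ≤ 6) := by
  classical
  obtain ⟨f⟩ := hne
  have hP : ∀ i j k l : Fin 4, [i, j, k, l].Nodup → [f i, f j, f k, f l].Nodup := fun i j k l h =>
    h.map f.injective
  obtain ⟨a, a1, a2, a3, a4⟩ := exists_map h4 (hP 0 1 2 3 (by decide)) (hP 1 0 2 3 (by decide))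
  obtain ⟨b, b1, b2, b3, b4⟩ := exists_map h4 (hP 0 1 2 3 (by decide)) (hP 0 1 3 2 (by decide))
  have ha : a * a = 1 := eq_one_of_fix hsharp (hP 0 1 2 3 (by decide))
    (by rw [mul_smul, a1, a2]) (by rw [mul_smul, a2, a1]) (by rw [mul_smul, a3, a3]) (by rw [mul_smul, a4, a4])
  have hb : b * b = 1 := eq_one_of_fix hsharp (hP 0 1 2 3 (by decide))
    (by rw [mul_smul, b1, b1]) (by rw [mul_smul, b2, b2]) (by rw [mul_smul, b3, b4]) (by rw [mul_smul, b4, b3])
  have hab : a * b = b * a := eq_of_agree hsharp (hP 0 1 2 3 (by decide))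
    (by simp only [mul_smul, a1, b1, b2]) (by simp only [mul_smul, a2, b2, b1])
    (by simp only [mul_smul, a3, b3, a4]) (by simp only [mul_smul, a4, b4, a3])
  set p1 := f 0
  set p2 := f 1
  set p3 := f 2
  set p4 := f 3
  have hne12 : p1 ≠ p2 := by simp [p1, p2]
  have hne34 : p3 ≠ p4 := by simp [p3, p4]
  have hn4 : [p1, p2, p3, p4].Nodup := hP 0 1 2 3 (by decide)
  have sa : ∀ x : Ω, a • a • x = x := fun x => by rw [smul_smul, ha, one_smul]
  have sb : ∀ x : Ω, b • b • x = x := fun x => by rw [smul_smul, hb, one_smul]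
  have sab : ∀ x : Ω, a • b • x = b • a • x := fun x => by rw [smul_smul, hab, mul_smul]
  obtain ⟨c, hc⟩ : ∃ c, c = a * b := ⟨_, rfl⟩
  have sc : ∀ x : Ω, c • x = a • b • x := fun x => by rw [hc, mul_smul]
  have hane : a ≠ 1 := fun h => hne12 (by rw [← a1, h, one_smul])
  have hbne : b ≠ 1 := fun h => hne34 (by rw [← b3, h, one_smul])
  have hcne : c ≠ 1 := fun h => hne12 (by
    have : c • p1 = p1 := by rw [h, one_smul]
    rw [sc, b1, a1] at this
    exact this.symm)
  -- four fixed points force the identity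
  have four : ∀ {g : G}, g ≠ 1 → ∀ {x y z w : Ω}, g • x = x → g • y = y → g • z = z → g • w = w →
      [x, y, z, w].Nodup → False := fun hg _ _ _ _ hx hy hz hw hnd =>
    hg (eq_one_of_fix hsharp hnd hx hy hz hw)
  -- the points fixed by the two involutions
  obtain ⟨A, hA, hA2, hAa⟩ : ∃ A : Finset Ω, (∀ x, a • x = x ↔ x ∈ A) ∧ 2 ≤ A.card ∧ A.card ≤ 3 := by
    by_cases h : ∃ q : Ω, a • q = q ∧ q ≠ p3 ∧ q ≠ p4
    · obtain ⟨q, hq, q3, q4⟩ := h
      refine ⟨{p3, p4, q}, fun x => ?_, ?_, Finset.card_le_three⟩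
      · simp only [Finset.mem_insert, Finset.mem_singleton]
        refine ⟨fun hx => ?_, by rintro (rfl | rfl | rfl) <;> assumption⟩
        by_contra hcon
        push Not at hcon
        exact four hane a3 a4 hq hx (by simp [hne34, Ne.symm q3, Ne.symm q4, Ne.symm hcon.1, Ne.symm hcon.2.1, Ne.symm hcon.2.2])
      · calc 2 = ({p3, p4} : Finset Ω).card := (Finset.card_pair hne34).symm
          _ ≤ _ := Finset.card_le_card (by intro; simp; tauto)
    · push Not at h
      refine ⟨{p3, p4}, fun x => ?_, (Finset.card_pair hne34).ge, Finset.card_le_two.trans (by norm_num)⟩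
      simp only [Finset.mem_insert, Finset.mem_singleton]
      exact ⟨fun hx => or_iff_not_imp_left.2 (h x hx), by rintro (rfl | rfl) <;> assumption⟩
  obtain ⟨B, hB, hBb⟩ : ∃ B : Finset Ω, (∀ x, b • x = x ↔ x ∈ B) ∧ B.card ≤ 3 := by
    by_cases h : ∃ q, b • q = q ∧ q ≠ p1 ∧ q ≠ p2
    · obtain ⟨q, hq, q3, q4⟩ := h
      refine ⟨{p1, p2, q}, fun x => ?_, Finset.card_le_three⟩
      simp only [Finset.mem_insert, Finset.mem_singleton]
      refine ⟨fun hx => ?_, by rintro (rfl | rfl | rfl) <;> assumption⟩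
      by_contra hcon
      push Not at hcon
      exact four hbne b1 b2 hq hx (by simp [hne12, Ne.symm q3, Ne.symm q4, Ne.symm hcon.1, Ne.symm hcon.2.1, Ne.symm hcon.2.2])
    · push Not at h
      refine ⟨{p1, p2}, fun x => ?_, Finset.card_le_two.trans (by norm_num)⟩
      simp only [Finset.mem_insert, Finset.mem_singleton]
      exact ⟨fun hx => or_iff_not_imp_left.2 (h x hx), by rintro (rfl | rfl) <;> assumption⟩
  obtain ⟨C, hC, hC3⟩ : ∃ C : Finset Ω, (∀ x, c • x = x ↔ x ∈ C) ∧ C.card ≤ 3 := by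
    have hsub : ∀ T : Finset Ω, (∀ x ∈ T, c • x = x) → T.card ≤ 3 := by
      intro T hT
      by_contra hlt
      push Not at hlt
      obtain ⟨T', hT', hT'c⟩ := Finset.exists_subset_card_eq (show 4 ≤ T.card by omega)
      obtain ⟨x, y, z, w, h1, h2, h3, h4, h5, h6, rfl⟩ := Finset.card_eq_four.1 hT'c
      exact four hcne (hT x (hT' (by simp))) (hT y (hT' (by simp))) (hT z (hT' (by simp))) (hT w (hT' (by simp)))
        (by simp [h1, h2, h3, h4, h5, h6])
    have hfin : {x : Ω | c • x = x}.Finite := by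
      by_contra hinf
      obtain ⟨T, hT, hTc⟩ := Set.Infinite.exists_subset_card_eq hinf 4
      have := hsub T fun x hx => hT hx
      omega
    exact ⟨hfin.toFinset, fun x => by simp, hsub _ fun x hx => by simpa using hx⟩
  -- regular orbits
  let O : Ω → Finset Ω := fun h => {h, a • h, b • h, c • h}
  have hO : ∀ h : Ω, a • h ≠ h → b • h ≠ h → c • h ≠ h → [h, a • h, b • h, c • h].Nodup := by
    intro h h1 h2 h3
    have e1 : a • h ≠ b • h := fun e => h3 (by rw [sc, ← e, sa])
    have e2 : a • h ≠ c • h := fun e => h2 (MulAction.injective a (show a • b • h = a • h by rw [← sc, ← e]))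
    have e3 : b • h ≠ c • h := fun e => h1 (MulAction.injective b (show b • a • h = b • h by rw [← sab, ← sc, ← e]))
    simp [Ne.symm h1, Ne.symm h2, Ne.symm h3, e1, e2, e3]
  have hreg2 : ∀ h h' : Ω, a • h ≠ h → b • h ≠ h → c • h ≠ h → a • h' ≠ h' → b • h' ≠ h' → c • h' ≠ h' →
      h' ∈ O h := by
    intro h h' h1 h2 h3 k1 k2 k3
    by_contra hno
    simp only [O, Finset.mem_insert, Finset.mem_singleton, not_or] at hno
    have n1 := hO h h1 h2 h3
    have n2 := hO h' k1 k2 k3
    -- the transposition attached to an orbit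
    have htr : ∀ k : Ω, [k, a • k, b • k, c • k].Nodup → ∃ u : G, u • k = k ∧ u • a • k = a • k ∧
        u • b • k = c • k ∧ u • c • k = b • k ∧ u * a = a * u ∧ u * b = c * u ∧ u * c = b * u ∧ u * u = 1 := by
      intro k nk
      have nk' : [k, a • k, c • k, b • k].Nodup := (List.Perm.nodup_iff (by
        exact List.Perm.cons _ (List.Perm.cons _ (List.Perm.swap _ _ _)))).2 nk
      obtain ⟨u, u1, u2, u3, u4⟩ := exists_map h4 nk nk'
      have e1 : u * a = a * u := eq_of_agree hsharp nk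
        (by rw [mul_smul, mul_smul, u1, u2]) (by rw [mul_smul, mul_smul, sa, u2, u1, sa])
        (by rw [mul_smul, mul_smul, u3, ← sc, u4, sc, sa]) (by rw [mul_smul, mul_smul, u4, sc, sa, u3, sc])
      have e2 : u * b = c * u := eq_of_agree hsharp nk
        (by rw [mul_smul, mul_smul, u1, u3])
        (by rw [mul_smul, mul_smul, u2, ← sab, ← sc, u4, sc (a • k), ← sab, sa])
        (by rw [mul_smul, mul_smul, sb, u1, u3, sc, sc, ← sab, sb, sa])
        (by rw [mul_smul, mul_smul, u4, sc, ← sab, sb, u2, sc, sb])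
      have e4 : u * u = 1 := eq_one_of_fix hsharp nk
        (by rw [mul_smul, u1, u1]) (by rw [mul_smul, u2, u2]) (by rw [mul_smul, u3, u4]) (by rw [mul_smul, u4, u3])
      have e3 : u * c = b * u := by
        rw [hc, ← mul_assoc, e1, mul_assoc, e2, hc, ← mul_assoc, ← mul_assoc, ha, one_mul]
      exact ⟨u, u1, u2, u3, u4, e1, e2, e3, e4⟩
    obtain ⟨u, u1, u2, u3, u4, ua, ub, uc, uu⟩ := htr h n1
    obtain ⟨u', v1, v2, v3, v4, va, vb, vc, vv⟩ := htr h' n2
    set z := u' * u with hz
    have za : z * a = a * z := by rw [hz, mul_assoc, ua, ← mul_assoc, va, mul_assoc]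
    have zb : z * b = b * z := by rw [hz, mul_assoc, ub, ← mul_assoc, vc, mul_assoc]
    have zsa : ∀ x : Ω, z • a • x = a • z • x := fun x => by rw [smul_smul, za, mul_smul]
    have zsb : ∀ x : Ω, z • b • x = b • z • x := fun x => by rw [smul_smul, zb, mul_smul]
    -- points fixed by `a` or `b` alone
    have hzV : ∃ v : G, (v = 1 ∨ v = a ∨ v = b ∨ v = c) ∧ z = v := by
      have z1 : z • p1 = p1 ∨ z • p1 = p2 := by
        by_contra hcon
        push Not at hcon
        have hz2 : z • p2 = a • z • p1 := by rw [← zsa, a1]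
        have hB1 : b • z • p1 = z • p1 := by rw [← zsb, b1]
        have hB2 : b • z • p2 = z • p2 := by rw [← zsb, b2]
        exact four hbne b1 b2 hB1 hB2 (by
          simp [hne12, Ne.symm hcon.1, Ne.symm hcon.2, (MulAction.injective z).ne hne12]
          refine ⟨fun e => hcon.2 ?_, fun e => hcon.1 ?_⟩
          · rw [← sa (z • p1), ← hz2, ← e, a1]
          · rw [← sa (z • p1), ← hz2, ← e, a2])
      have z3 : z • p3 = p3 ∨ z • p3 = p4 := by
        by_contra hcon
        push Not at hcon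
        have hz4 : z • p4 = b • z • p3 := by rw [← zsb, b3]
        have hA1 : a • z • p3 = z • p3 := by rw [← zsa, a3]
        have hA4 : a • z • p4 = z • p4 := by rw [← zsa, a4]
        exact four hane a3 a4 hA1 hA4 (by
          simp [hne34, Ne.symm hcon.1, Ne.symm hcon.2, (MulAction.injective z).ne hne34]
          refine ⟨fun e => hcon.2 ?_, fun e => hcon.1 ?_⟩
          · rw [← sb (z • p3), ← hz4, ← e, b3]
          · rw [← sb (z • p3), ← hz4, ← e, b4])
      have fin : ∀ v, (v = 1 ∨ v = a ∨ v = b ∨ v = c) → z • p1 = v • p1 → z • p3 = v • p3 → z = v := by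
        intro v hv e1 e3
        have hva : v * a = a * v := by
          rcases hv with rfl | rfl | rfl | rfl
          · simp
          · rfl
          · exact hab.symm
          · rw [hc, mul_assoc, ← hab]
        have hvb : v * b = b * v := by
          rcases hv with rfl | rfl | rfl | rfl
          · simp
          · exact hab
          · rfl
          · rw [hc, ← mul_assoc b, ← hab]
        refine eq_of_agree hsharp hn4 e1 ?_ e3 ?_
        · show z • p2 = v • p2
          rw [← a1, zsa, e1, smul_smul, ← hva, mul_smul]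
        · show z • p4 = v • p4
          rw [← b3, zsb, e3, smul_smul, ← hvb, mul_smul]
      rcases z1 with e1 | e1 <;> rcases z3 with e3 | e3
      · exact ⟨1, by simp, fin 1 (by simp) (by simp [e1]) (by simp [e3])⟩
      · exact ⟨b, by simp, fin b (by simp) (e1.trans b1.symm) (e3.trans b3.symm)⟩
      · exact ⟨a, by simp, fin a (by simp) (e1.trans a1.symm) (e3.trans a3.symm)⟩
      · exact ⟨c, by simp, fin c (by simp) (by rw [e1, sc, b1, a1]) (by rw [e3, sc, b3]; exact a4.symm)⟩
    obtain ⟨v, hv, hzv⟩ := hzV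
    have hu : u = u' * v := by rw [← hzv, hz, ← mul_assoc, vv, one_mul]
    have hune : u ≠ 1 := fun e => by
      have h5 : b • h = c • h := by rw [← u3, e, one_smul]
      simp [h5] at n1
    rcases hv with e | e | e | e <;> rw [e] at hu
    · rw [mul_one] at hu
      exact four hune u1 u2 (hu ▸ v1) (hu ▸ v2) (by
        simp only [List.nodup_cons, List.mem_cons, List.not_mem_nil, or_false, not_or, List.nodup_nil, and_true]
        exact ⟨⟨h1.symm, Ne.symm hno.1, fun e => hno.2.1 (by rw [e, sa])⟩, ⟨Ne.symm hno.2.1,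
          fun e => hno.1 (MulAction.injective a e).symm⟩, k1.symm, not_false⟩)
    · have f1 : u • b • h' = b • h' := by
        rw [hu, mul_smul, ← sc, v4]
      have f2 : u • c • h' = c • h' := by
        rw [hu, mul_smul, sc, sa, v3, sc]
      exact four hune u1 u2 f1 f2 (by
        simp only [List.nodup_cons, List.mem_cons, List.not_mem_nil, or_false, not_or, List.nodup_nil, and_true]
        refine ⟨⟨h1.symm, fun e => hno.2.2.1 (by rw [e, sb]), fun e => hno.2.2.2 ?_⟩, ⟨fun e => hno.2.2.2 ?_,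
          fun e => hno.2.2.1 ?_⟩, ?_, not_false⟩
        · rw [e, sc, sc, ← sab, sa, sb]
        · rw [sc, sab, e, sb]
        · rw [MulAction.injective a (e.trans (sc h')), sb]
        · exact fun e => k1 (MulAction.injective b (show b • a • h' = b • h' by rw [← sab, ← sc, ← e])))
    all_goals
      have e5 : u • u • h' = h' := by rw [smul_smul, uu, one_smul]
      rw [hu, mul_smul, mul_smul] at e5
    · rw [v3, show b • c • h' = a • h' by rw [sc, ← sab, sb], v2] at e5
      exact k1 e5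
    · rw [v4, show c • b • h' = a • h' by rw [sc, sb], v2] at e5
      exact k1 e5
  -- the points outside the regular orbits
  have hR : ∀ h : Ω, a • h ≠ h → b • h ≠ h → c • h ≠ h → ∀ x, x ∈ A ∪ B ∪ C ∪ O h := by
    intro h h1 h2 h3 x
    simp only [Finset.mem_union]
    by_cases x1 : a • x = x
    · exact Or.inl (Or.inl (Or.inl ((hA x).1 x1)))
    by_cases x2 : b • x = x
    · exact Or.inl (Or.inl (Or.inr ((hB x).1 x2)))
    by_cases x3 : c • x = x
    · exact Or.inl (Or.inr ((hC x).1 x3))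
    exact Or.inr (hreg2 h x h1 h2 h3 x1 x2 x3)
  -- counts
  have hABC : ∀ q : Ω, a • q = q → b • q = q → A = {p3, p4, q} ∧ B = {p1, p2, q} ∧ q ∈ C := by
    intro q qa qb
    have q1 : q ≠ p1 := fun e => hne12 (by rw [← a1, ← e, qa, e])
    have q2 : q ≠ p2 := fun e => hne12 (by rw [← a2, ← e, qa, e])
    have q3 : q ≠ p3 := fun e => hne34 (by rw [← b3, ← e, qb, e])
    have q4 : q ≠ p4 := fun e => hne34 (by rw [← b4, ← e, qb, e])
    refine ⟨(Finset.eq_of_subset_of_card_le ?_ ?_).symm, (Finset.eq_of_subset_of_card_le ?_ ?_).symm, (hC q).1 (by rw [sc, qb, qa])⟩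
    · intro x hx
      simp only [Finset.mem_insert, Finset.mem_singleton] at hx
      rcases hx with rfl | rfl | rfl
      exacts [(hA _).1 a3, (hA _).1 a4, (hA _).1 qa]
    · exact hAa.trans (Finset.card_eq_three.2 ⟨p3, p4, q, hne34, Ne.symm q3, Ne.symm q4, rfl⟩).ge
    · intro x hx
      simp only [Finset.mem_insert, Finset.mem_singleton] at hx
      rcases hx with rfl | rfl | rfl
      exacts [(hB _).1 b1, (hB _).1 b2, (hB _).1 qb]
    · exact hBb.trans (Finset.card_eq_three.2 ⟨p1, p2, q, hne12, Ne.symm q1, Ne.symm q2, rfl⟩).ge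
  have hU : ∀ q : Ω, a • q = q → b • q = q → (A ∪ B ∪ C).card ≤ 7 := by
    intro q qa qb
    obtain ⟨eA, eB, hqC⟩ := hABC q qa qb
    have : A ∪ B ∪ C = {p1, p2, p3, p4} ∪ C := by
      ext x
      simp only [eA, eB, Finset.mem_union, Finset.mem_insert, Finset.mem_singleton]
      constructor
      · rintro (((h | h | h) | (h | h | h)) | h) <;> first | tauto | (subst h; tauto)
      · tauto
    rw [this]
    exact (Finset.card_union_le _ _).trans (add_le_add Finset.card_le_four hC3)
  have hAeq : (∀ q : Ω, a • q = q → b • q ≠ q) → A = {p3, p4} ∧ B = {p1, p2} ∧ C.card ≤ 2 := by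
    intro h0
    refine ⟨?_, ?_, ?_⟩
    · ext x
      rw [← hA]
      simp only [Finset.mem_insert, Finset.mem_singleton]
      refine ⟨fun hx => ?_, by rintro (rfl | rfl) <;> assumption⟩
      by_contra hcon
      push Not at hcon
      exact four hane a3 a4 hx (show a • b • x = b • x by rw [sab, hx]) (by
        simp [hne34, Ne.symm hcon.1, Ne.symm hcon.2, Ne.symm (h0 x hx)]
        exact ⟨fun e => hcon.2 (by rw [← sb x, ← e, b3]), fun e => hcon.1 (by rw [← sb x, ← e, b4])⟩)
    · ext x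
      rw [← hB]
      simp only [Finset.mem_insert, Finset.mem_singleton]
      refine ⟨fun hx => ?_, by rintro (rfl | rfl) <;> assumption⟩
      by_contra hcon
      push Not at hcon
      exact four hbne b1 b2 hx (show b • a • x = a • x by rw [← sab, hx]) (by
        simp [hne12, Ne.symm hcon.1, Ne.symm hcon.2, show x ≠ a • x from fun e => h0 x e.symm hx]
        exact ⟨fun e => hcon.2 (by rw [← sa x, ← e, a1]), fun e => hcon.1 (by rw [← sa x, ← e, a2])⟩)
    · by_contra hlt
      push Not at hlt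
      obtain ⟨x, y, z, hxy, hxz, hyz, e⟩ := Finset.card_eq_three.1 (by omega : C.card = 3)
      have hinv : ∀ w ∈ C, a • w ∈ C ∧ a • w ≠ w := fun w hw => by
        have hw' := (hC w).2 hw
        refine ⟨(hC _).1 (by rw [sc, ← sab, ← sc, hw']), fun hf => h0 w hf ?_⟩
        rw [sc, sab, hf] at hw'
        exact hw'
      have hx := hinv x (by simp [e])
      have hy := hinv y (by simp [e])
      have hz := hinv z (by simp [e])
      simp only [e, Finset.mem_insert, Finset.mem_singleton] at hx hy hz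
      rcases hx.1 with h | h | h
      · exact hx.2 h
      · rcases hz.1 with h' | h' | h'
        · exact hyz (by rw [← h, ← h', sa])
        · exact hxz (MulAction.injective a (h.trans h'.symm))
        · exact hz.2 h'
      · rcases hy.1 with h' | h' | h'
        · exact hyz.symm (by rw [← h, ← h', sa])
        · exact hy.2 h'
        · exact hxy (MulAction.injective a (h.trans h'.symm))
  have hU3 : (A ∪ B ∪ C).card ≤ 7 := by
    by_cases h : ∃ q : Ω, a • q = q ∧ b • q = q
    · obtain ⟨q, qa, qb⟩ := h; exact hU q qa qb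
    · push Not at h
      obtain ⟨eA, eB, eC⟩ := hAeq h
      have := Finset.card_union_le (A ∪ B) C
      have := Finset.card_union_le A B
      have : A.card ≤ 2 := eA ▸ Finset.card_le_two
      have : B.card ≤ 2 := eB ▸ Finset.card_le_two
      omega
  obtain ⟨S, hS, hScard⟩ : ∃ S : Finset Ω, (∀ x, x ∈ S) ∧ S.card ≤ 11 := by
    by_cases h : ∃ h : Ω, a • h ≠ h ∧ b • h ≠ h ∧ c • h ≠ h
    · obtain ⟨h, h1, h2, h3⟩ := h
      refine ⟨_, hR h h1 h2 h3, ?_⟩
      have := Finset.card_union_le (A ∪ B ∪ C) (O h)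
      have : (O h).card ≤ 4 := Finset.card_le_four
      omega
    · push Not at h
      refine ⟨A ∪ B ∪ C, fun x => ?_, by omega⟩
      simp only [Finset.mem_union]
      by_cases x1 : a • x = x
      · exact Or.inl (Or.inl ((hA x).1 x1))
      by_cases x2 : b • x = x
      · exact Or.inl (Or.inr ((hB x).1 x2))
      exact Or.inr ((hC x).1 (h x x1 x2))
  have hfin : Finite Ω := @Finite.of_fintype Ω ⟨S, hS⟩
  let _ : Fintype Ω := ⟨S, hS⟩
  have hcard : Nat.card Ω = S.card := Nat.card_eq_fintype_card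
  refine ⟨hfin, hcard ▸ hScard, fun heven => ?_⟩
  by_contra hlt
  push Not at hlt
  have hAeven : Even A.card := by
    have := even_fixed a ha heven
    rwa [show {x : Ω | a • x = x} = (A : Set Ω) by ext; simp [hA], Set.ncard_coe_finset] at this
  have h0 : ∀ q : Ω, a • q = q → b • q ≠ q := fun q qa qb => by
    obtain ⟨eA, -, -⟩ := hABC q qa qb
    have h3 : A.card = 3 := by
      rw [eA, Finset.card_eq_three]
      exact ⟨p3, p4, q, hne34, fun e => hne34 (by rw [← b3, e, qb]), fun e => hne34 (by rw [← b4, e, qb]), rfl⟩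
    rw [h3] at hAeven
    exact absurd hAeven (by decide)
  obtain ⟨eA, eB, eC⟩ := hAeq h0
  have cA : A.card = 2 := eA ▸ Finset.card_pair hne34
  have cB : B.card = 2 := eB ▸ Finset.card_pair hne12
  have hABle : (A ∪ B ∪ C).card ≤ 6 := by
    have := Finset.card_union_le (A ∪ B) C
    have := Finset.card_union_le A B
    omega
  obtain ⟨h, h1, h2, h3⟩ : ∃ h : Ω, a • h ≠ h ∧ b • h ≠ h ∧ c • h ≠ h := by
    by_contra hno
    push Not at hno
    have : Finset.univ ⊆ A ∪ B ∪ C := fun x _ => by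
      simp only [Finset.mem_union]
      by_cases x1 : a • x = x
      · exact Or.inl (Or.inl ((hA x).1 x1))
      by_cases x2 : b • x = x
      · exact Or.inl (Or.inr ((hB x).1 x2))
      exact Or.inr ((hC x).1 (hno x x1 x2))
    have := Finset.card_le_card this
    rw [Finset.card_univ, ← Nat.card_eq_fintype_card] at this
    omega
  have nh := hO h h1 h2 h3
  have cO : (O h).card = 4 := by
    simp only [List.nodup_cons, List.mem_cons, List.not_mem_nil, or_false, not_or, List.nodup_nil, and_true,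
      not_false_eq_true] at nh
    exact Finset.card_eq_four.2 ⟨h, a • h, b • h, c • h, nh.1.1, nh.1.2.1, nh.1.2.2, nh.2.1.1, nh.2.1.2, nh.2.2, rfl⟩
  -- `c` is conjugate to `a`, so it fixes two points
  obtain ⟨g, g1, g2, g3, g4⟩ := exists_map h4 hn4 nh
  have hconj : g * c = a * g := eq_of_agree hsharp hn4
    (by rw [mul_smul, mul_smul, sc, b1, a1, g1, g2]) (by rw [mul_smul, mul_smul, sc, b2, a2, g1, g2, sa])
    (by rw [mul_smul, mul_smul, sc, b3, a4, g3, g4, sc]) (by rw [mul_smul, mul_smul, sc, b4, a3, g3, g4, sc, sa])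
  have hcfix : ∀ w : Ω, a • w = w → g⁻¹ • w ∈ C := fun w hw => by
    refine (hC _).1 ?_
    rw [eq_inv_smul_iff, smul_smul g c, hconj, mul_smul, smul_inv_smul, hw]
  have cC : C.card = 2 := by
    refine le_antisymm eC ?_
    calc 2 = ({g⁻¹ • p3, g⁻¹ • p4} : Finset Ω).card :=
          (Finset.card_pair ((MulAction.injective g⁻¹).ne hne34)).symm
      _ ≤ C.card := Finset.card_le_card (by
        intro x hx
        simp only [Finset.mem_insert, Finset.mem_singleton] at hx
        rcases hx with rfl | rfl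
        exacts [hcfix _ a3, hcfix _ a4])
  have d1 : Disjoint A B := Finset.disjoint_left.2 fun x x1 x2 => h0 x ((hA x).2 x1) ((hB x).2 x2)
  have d2 : Disjoint (A ∪ B) C := Finset.disjoint_left.2 fun x x1 x3 => by
    have x3' := (hC x).2 x3
    rw [sc] at x3'
    rcases Finset.mem_union.1 x1 with x1 | x1
    · have e := (hA x).2 x1
      rw [sab, e] at x3'
      exact h0 x e x3'
    · have e := (hB x).2 x1
      rw [e] at x3'
      exact h0 x x3' e
  have d3 : Disjoint (A ∪ B ∪ C) (O h) := Finset.disjoint_left.2 fun x x1 x3 => by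
    have hx : a • x ≠ x ∧ b • x ≠ x ∧ c • x ≠ x := by
      have haut : ∀ w : G, w * a = a * w → w * b = b * w → ∀ y : Ω, (a • y ≠ y ∧ b • y ≠ y ∧ c • y ≠ y) →
          (a • w • y ≠ w • y ∧ b • w • y ≠ w • y ∧ c • w • y ≠ w • y) := by
        rintro w wa wb y ⟨y1, y2, y3⟩
        have fa : ∀ q : Ω, a • w • q = w • a • q := fun q => by rw [smul_smul, ← wa, mul_smul]
        have fb : ∀ q : Ω, b • w • q = w • b • q := fun q => by rw [smul_smul, ← wb, mul_smul]
        refine ⟨fun e => y1 ?_, fun e => y2 ?_, fun e => y3 ?_⟩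
        · rw [fa] at e; exact MulAction.injective w e
        · rw [fb] at e; exact MulAction.injective w e
        · rw [sc, fb, fa, ← sc] at e; exact MulAction.injective w e
      simp only [O, Finset.mem_insert, Finset.mem_singleton] at x3
      rcases x3 with rfl | rfl | rfl | rfl
      · exact ⟨h1, h2, h3⟩
      · exact haut a rfl hab h ⟨h1, h2, h3⟩
      · exact haut b hab.symm rfl h ⟨h1, h2, h3⟩
      · rw [sc]; exact haut a rfl hab _ (haut b hab.symm rfl h ⟨h1, h2, h3⟩)
    simp only [Finset.mem_union] at x1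
    rcases x1 with (x1 | x1) | x1
    exacts [hx.1 ((hA x).2 x1), hx.2.1 ((hB x).2 x1), hx.2.2 ((hC x).2 x1)]
  apply not_card_ten h4 hsharp
  rw [Nat.card_eq_fintype_card, ← Finset.card_univ,
    show (Finset.univ : Finset Ω) = A ∪ B ∪ C ∪ O h from (Finset.eq_univ_of_forall (hR h h1 h2 h3)).symm,
    Finset.card_union_of_disjoint d3, Finset.card_union_of_disjoint d2, Finset.card_union_of_disjoint d1,
    cA, cB, cC, cO]

end Cfsg.Agent.S0708
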