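import Cfsg.Statements.S0709
import Mathlib.GroupTheory.GroupAction.MultipleTransitivity
import Mathlib.Tactic

set_option autoImplicit false
open Cfsg

namespace Cfsg.Agent.S0709

section Double

variable {P : Type*} [Group P]

/-- The double coset set attached to a subgroup and an element. -/
def DSet (A : Subgroup P) (s : P) : Set P := {x | x ∈ A ∨ ∃ a ∈ A, ∃ b ∈ A, x = a * s * b}

theorem mem_dset_of_mem_closure (A : Subgroup P) (s : P) (hsq : s ^ 2 ∈ A)
    (hsAs : ∀ x ∈ A, s * x * s ∈ DSet A s) {x : P}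
    (hx : x ∈ Subgroup.closure ((A : Set P) ∪ {s})) : x ∈ DSet A s := by
  have hmul : ∀ a ∈ A, ∀ y ∈ DSet A s, a * y ∈ DSet A s := by
    rintro a ha y (hy | ⟨c, hc, d, hd, rfl⟩)
    · exact Or.inl (A.mul_mem ha hy)
    · exact Or.inr ⟨a * c, A.mul_mem ha hc, d, hd, by group⟩
  have hmulr : ∀ a ∈ A, ∀ y ∈ DSet A s, y * a ∈ DSet A s := by
    rintro a ha y (hy | ⟨c, hc, d, hd, rfl⟩)
    · exact Or.inl (A.mul_mem hy ha)
    · exact Or.inr ⟨c, hc, d * a, A.mul_mem hd ha, by group⟩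
  induction hx using Subgroup.closure_induction with
  | mem y hy =>
    rcases hy with hy | hy
    · exact Or.inl hy
    · exact Or.inr ⟨1, A.one_mem, 1, A.one_mem, by simp [Set.mem_singleton_iff.1 hy]⟩
  | one => exact Or.inl A.one_mem
  | mul y z _ _ hy hz =>
    rcases hy with hy | ⟨a, ha, b, hb, rfl⟩
    · exact hmul y hy z hz
    rcases hz with hz | ⟨c, hc, d, hd, rfl⟩
    · exact hmulr z hz _ (Or.inr ⟨a, ha, b, hb, rfl⟩)
    · have : a * s * b * (c * s * d) = a * (s * (b * c) * s) * d := by group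
      rw [this]
      exact hmulr d hd _ (hmul a ha _ (hsAs _ (A.mul_mem hb hc)))
  | inv y _ hy =>
    rcases hy with hy | ⟨a, ha, b, hb, rfl⟩
    · exact Or.inl (A.inv_mem hy)
    · exact Or.inr ⟨b⁻¹ * (s ^ 2)⁻¹, A.mul_mem (A.inv_mem hb) (A.inv_mem hsq), a⁻¹, A.inv_mem ha, by group⟩

end Double

/-- Witt's Lemma for constructing transitive extensions. Points `q 1, …, q t` (`t ≥ 2`) of a finite set are given; `G` fixes `q i` for `i ≥ 3` and is doubly transitive on the remaining points; `s 1 ∈ G` swaps `q 1, q 2`; for `2 ≤ i ≤ t-1`, `s i` swaps `q i, q (i+1)` and fixes the other `q j`; with `H` the stabiliser of `q 1, q 2` in `G`: `s i ^ 2 ∈ H`, `(s i * s (i+1)) ^ 3 ∈ H`, `(s i * s j) ^ 2 ∈ H` for `j ≥ i + 2`, and `s i` (`i ≥ 2`) normalises the stabiliser of `q 2` in `G`. Then `G` and the `s i` generate a `t`-transitive group whose pointwise stabiliser of the `q`'s is `H`. -/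
theorem result {α : Type*} [Fintype α] [DecidableEq α] (t : ℕ) (ht : 2 ≤ t) (q : ℕ → α) (hq : ∀ i j : ℕ, 1 ≤ i → i ≤ t → 1 ≤ j → j ≤ t → q i = q j → i = j) (G : Subgroup (Equiv.Perm α)) (hfix : ∀ g ∈ G, ∀ i : ℕ, 3 ≤ i → i ≤ t → g (q i) = q i) (h2 : ∀ a b c d : α, (∀ i, 3 ≤ i → i ≤ t → a ≠ q i ∧ b ≠ q i ∧ c ≠ q i ∧ d ≠ q i) → a ≠ b → c ≠ d → ∃ g ∈ G, g a = c ∧ g b = d) (s : ℕ → Equiv.Perm α) (hs1 : s 1 ∈ G) (hs1q : s 1 (q 1) = q 2 ∧ s 1 (q 2) = q 1) (hsq : ∀ i : ℕ, 2 ≤ i → i + 1 ≤ t → s i (q i) = q (i + 1) ∧ s i (q (i + 1)) = q i ∧ ∀ j : ℕ, 1 ≤ j → j ≤ t → j ≠ i → j ≠ i + 1 → s i (q j) = q j) (H : Subgroup (Equiv.Perm α)) (hH : H = G ⊓ MulAction.stabilizer (Equiv.Perm α) (q 1) ⊓ MulAction.stabilizer (Equiv.Perm α) (q 2)) (hsq2 : ∀ i : ℕ, 1 ≤ i → i + 1 ≤ t → s i ^ 2 ∈ H) (hbraid : ∀ i : ℕ, 1 ≤ i → i + 2 ≤ t → (s i * s (i + 1)) ^ 3 ∈ H) (hcomm : ∀ i j : ℕ, 1 ≤ i → i + 2 ≤ j → j + 1 ≤ t → (s i * s j) ^ 2 ∈ H ∧ (s j * s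 i) ^ 2 ∈ H) (hnorm : ∀ i : ℕ, 2 ≤ i → i + 1 ≤ t → ∀ g ∈ G ⊓ MulAction.stabilizer (Equiv.Perm α) (q 2), s i * g * (s i)⁻¹ ∈ G ⊓ MulAction.stabilizer (Equiv.Perm α) (q 2)) : MulAction.IsMultiplyPretransitive ↥(Subgroup.closure ((G : Set (Equiv.Perm α)) ∪ {x | ∃ i : ℕ, 2 ≤ i ∧ i + 1 ≤ t ∧ x = s i})) α t ∧ Subgroup.closure ((G : Set (Equiv.Perm α)) ∪ {x | ∃ i : ℕ, 2 ≤ i ∧ i + 1 ≤ t ∧ x = s i}) ⊓ fixingSubgroup (Equiv.Perm α) {x | ∃ i : ℕ, 1 ≤ i ∧ i ≤ t ∧ x = q i} = H := by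
  classical
  set K := G ⊓ MulAction.stabilizer (Equiv.Perm α) (q 2) with hK
  have hmemK : ∀ x, x ∈ K ↔ x ∈ G ∧ x (q 2) = q 2 := fun x => by
    rw [hK, Subgroup.mem_inf, MulAction.mem_stabilizer_iff]; rfl
  have hmemH : ∀ x, x ∈ H ↔ x ∈ G ∧ x (q 1) = q 1 ∧ x (q 2) = q 2 := fun x => by
    rw [hH, Subgroup.mem_inf, Subgroup.mem_inf, MulAction.mem_stabilizer_iff, MulAction.mem_stabilizer_iff]
    exact and_assoc
  have hHK : H ≤ K := fun x hx => (hmemK x).2 ⟨((hmemH x).1 hx).1, ((hmemH x).1 hx).2.2⟩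
  let Γ : ℕ → Subgroup (Equiv.Perm α) := fun i =>
    Subgroup.closure ((K : Set (Equiv.Perm α)) ∪ {x | ∃ j, 1 ≤ j ∧ j ≤ i ∧ x = s j})
  have hKΓ : ∀ i, K ≤ Γ i := fun i x hx => Subgroup.subset_closure (Or.inl hx)
  have hsΓ : ∀ i j, 1 ≤ j → j ≤ i → s j ∈ Γ i := fun i j h1 h2 =>
    Subgroup.subset_closure (Or.inr ⟨j, h1, h2, rfl⟩)
  have hΓmono : ∀ i j, i ≤ j → Γ i ≤ Γ j := by
    intro i j hij
    refine Subgroup.closure_mono (Set.union_subset_union_right _ ?_)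
    rintro x ⟨l, h1, h2, rfl⟩
    exact ⟨l, h1, h2.trans hij, rfl⟩
  have hΓ0 : Γ 0 = K := by
    refine le_antisymm ?_ (hKΓ 0)
    rw [Subgroup.closure_le]
    rintro x (hx | ⟨l, h1, h2, rfl⟩)
    · exact hx
    · omega
  have hΓsucc : ∀ i, Γ (i + 1) = Subgroup.closure ((Γ i : Set (Equiv.Perm α)) ∪ {s (i + 1)}) := by
    intro i
    refine le_antisymm ?_ ?_
    · rw [Subgroup.closure_le]
      rintro x (hx | ⟨l, h1, h2, rfl⟩)
      · exact Subgroup.subset_closure (Or.inl (hKΓ i hx))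
      · rcases Nat.lt_or_ge l (i + 1) with h | h
        · exact Subgroup.subset_closure (Or.inl (hsΓ i l h1 (by omega)))
        · exact Subgroup.subset_closure (Or.inr (by rw [show l = i + 1 by omega]; rfl))
    · rw [Subgroup.closure_le]
      rintro x (hx | rfl)
      · exact hΓmono i (i + 1) (by omega) hx
      · exact hsΓ _ _ (by omega) le_rfl
  -- points avoided
  let Av : ℕ → α → Prop := fun i z => ∀ j, i + 2 ≤ j → j ≤ t → z ≠ q j
  have hq12 : q 1 ≠ q 2 := fun e => by have := hq 1 2 le_rfl (by omega) (by omega) ht e; omega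
  have hAvq : ∀ i j, 1 ≤ j → j ≤ i + 1 → j ≤ t → Av i (q j) := fun i j h1 h2' h3 l hl hlt e => by
    have := hq j l h1 h3 (by omega) hlt e
    omega
  -- `G` in terms of `K` and `s 1`
  have hGdec : ∀ g ∈ G, g ∈ DSet K (s 1) := by
    intro g hg
    by_cases hz : g (q 2) = q 2
    · exact Or.inl ((hmemK g).2 ⟨hg, hz⟩)
    · have hzf : ∀ i, 3 ≤ i → i ≤ t → g (q 2) ≠ q i := fun i h1 h2' e => by
        rw [← hfix g hg i h1 h2'] at e
        have := hq 2 i (by omega) ht (by omega) h2' (g.injective e)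
        omega
      obtain ⟨k, hk, hk1, hk2⟩ := h2 (q 2) (q 1) (q 2) (g (q 2))
        (fun i h1 h2' => ⟨hAvq 1 2 (by omega) le_rfl ht i h1 h2', hAvq 1 1 le_rfl (by omega) (by omega) i h1 h2',
          hAvq 1 2 (by omega) le_rfl ht i h1 h2', hzf i h1 h2'⟩) (Ne.symm hq12) (Ne.symm hz)
      refine Or.inr ⟨k, (hmemK k).2 ⟨hk, hk1⟩, (k * s 1)⁻¹ * g, (hmemK _).2 ⟨G.mul_mem (G.inv_mem (G.mul_mem hk hs1)) hg, ?_⟩, by group⟩
      show (k * s 1)⁻¹ (g (q 2)) = q 2
      rw [Equiv.Perm.inv_eq_iff_eq]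
      show g (q 2) = k (s 1 (q 2))
      rw [hs1q.2, hk2]
  have hΓ1 : Γ 1 = G := by
    refine le_antisymm ?_ fun g hg => ?_
    · rw [Subgroup.closure_le]
      rintro x (hx | ⟨l, h1, h2', rfl⟩)
      · exact ((hmemK x).1 hx).1
      · rw [show l = 1 by omega]; exact hs1
    · rcases hGdec g hg with h | ⟨a, ha, b, hb, rfl⟩
      · exact hKΓ 1 h
      · exact mul_mem (mul_mem (hKΓ 1 ha) (hsΓ 1 1 le_rfl le_rfl)) (hKΓ 1 hb)
  -- normalisation
  have hnm : ∀ i, 2 ≤ i → i + 1 ≤ t → ∀ a ∈ Γ (i - 2), s i * a * (s i)⁻¹ ∈ Γ (i - 2) := by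
    intro i hi hit a ha
    have hle : Γ (i - 2) ≤ (Γ (i - 2)).comap (MulAut.conj (s i)).toMonoidHom := by
      refine (Subgroup.closure_le _).2 ?_
      rintro x (hx | ⟨j, h1, h2', rfl⟩)
      · exact hKΓ _ (hnorm i hi hit x hx)
      · show s i * s j * (s i)⁻¹ ∈ Γ (i - 2)
        have : s i * s j * (s i)⁻¹ = (s i * s j) ^ 2 * (s j)⁻¹ * (s i ^ 2)⁻¹ := by
          simp [sq, mul_assoc]
        rw [this]
        exact mul_mem (mul_mem (hKΓ _ (hHK (hcomm j i h1 (by omega) hit).2)) (inv_mem (hsΓ _ _ h1 h2')))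
          (inv_mem (hKΓ _ (hHK (hsq2 i (by omega) hit))))
    exact hle ha
  -- the double coset decomposition
  have hdec : ∀ i, i + 2 ≤ t → ∀ x ∈ Γ (i + 1), x ∈ DSet (Γ i) (s (i + 1)) := by
    intro i
    induction i with
    | zero =>
      intro _ x hx
      rw [hΓ0]
      exact hGdec x (hΓ1 ▸ hx)
    | succ i ih =>
      intro hit x hx
      rw [hΓsucc] at hx
      refine mem_dset_of_mem_closure _ _ (hKΓ _ (hHK (hsq2 _ (by omega) (by omega)))) (fun y hy => ?_) hx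
      have hn := hnm (i + 2) (by omega) (by omega)
      simp only [Nat.add_sub_cancel] at hn
      have hsqm : ∀ {l}, s (i + 1 + 1) ^ 2 ∈ Γ l := fun {l} => hKΓ _ (hHK (hsq2 _ (by omega) (by omega)))
      rcases ih (by omega) y hy with hy | ⟨a, ha, b, hb, rfl⟩
      · left
        have : s (i + 1 + 1) * y * s (i + 1 + 1) = (s (i + 1 + 1) * y * (s (i + 1 + 1))⁻¹) * s (i + 1 + 1) ^ 2 := by group
        rw [this]
        exact mul_mem (hΓmono i (i + 1) (by omega) (hn y hy)) hsqm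
      · set u := s (i + 1) with hu
        set v := s (i + 1 + 1) with hv
        set h := (u * v) ^ 3 with hh
        have hhmem : h ∈ Γ (i + 1) := hKΓ _ (hHK (hbraid (i + 1) (by omega) (by omega)))
        right
        refine ⟨v * a * v⁻¹ * u⁻¹ * (v ^ 2)⁻¹, ?_, u⁻¹ * h * (v * ((v ^ 2)⁻¹ * b * v ^ 2) * v⁻¹), ?_, ?_⟩
        · exact mul_mem (mul_mem (hΓmono i (i + 1) (by omega) (hn a ha)) (inv_mem (hsΓ _ _ (by omega) le_rfl))) (inv_mem hsqm)
        · exact mul_mem (mul_mem (inv_mem (hsΓ _ _ (by omega) le_rfl)) hhmem)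
            (hΓmono i (i + 1) (by omega) (hn _ (mul_mem (mul_mem (inv_mem hsqm) hb) hsqm)))
        · simp [hh, sq, pow_three, mul_assoc]
  -- fixed points
  have hfixΓ : ∀ i, ∀ x ∈ Γ i, ∀ j, i + 2 ≤ j → j ≤ t → 2 ≤ j → x (q j) = q j := by
    intro i x hx j h1 h2' h3
    have hle : Γ i ≤ MulAction.stabilizer (Equiv.Perm α) (q j) := by
      refine (Subgroup.closure_le _).2 ?_
      rintro y (hy | ⟨l, l1, l2, rfl⟩)
      · rcases Nat.lt_or_ge j 3 with h | h
        · rw [show j = 2 by omega]; exact ((hmemK y).1 hy).2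
        · exact hfix y ((hmemK y).1 hy).1 j h h2'
      · rcases Nat.lt_or_ge l 2 with h | h
        · rw [show l = 1 by omega]; exact hfix _ hs1 j (by omega) h2'
        · exact (hsq l h (by omega)).2.2 j (by omega) h2' (by omega) (by omega)
    exact hle hx
  have hstab : ∀ i, i + 2 ≤ t → ∀ x ∈ Γ (i + 1), x (q (i + 2)) = q (i + 2) → x ∈ Γ i := by
    intro i hit x hx hxq
    rcases hdec i hit x hx with h | ⟨a, ha, b, hb, rfl⟩
    · exact h
    · exfalso
      have h1 : (a * s (i + 1) * b) (q (i + 2)) = a (q (i + 1)) := by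
        show a (s (i + 1) (b (q (i + 2)))) = _
        rw [hfixΓ i b hb (i + 2) le_rfl hit (by omega)]
        rcases Nat.eq_zero_or_pos i with rfl | hi
        · rw [hs1q.2]
        · rw [(hsq (i + 1) (by omega) hit).2.1]
      rw [h1, ← hfixΓ i a ha (i + 2) le_rfl hit (by omega)] at hxq
      have := hq (i + 1) (i + 2) (by omega) (by omega) (by omega) hit (a.injective hxq)
      omega
  have hpoint : ∀ i, i + 2 ≤ t → ∀ z, Av (i + 1) z → ∃ x ∈ Γ (i + 1), x z = q (i + 2) := by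
    intro i
    induction i with
    | zero =>
      intro _ z hz
      by_cases e : z = q 2
      · exact ⟨1, one_mem _, by simp [e]⟩
      · obtain ⟨g, hg, hg1, -⟩ := h2 z (q 2) (q 2) (q 1)
          (fun j h1 h2' => ⟨hz j h1 h2', hAvq 1 2 (by omega) le_rfl ht j h1 h2',
            hAvq 1 2 (by omega) le_rfl ht j h1 h2', hAvq 1 1 le_rfl (by omega) (by omega) j h1 h2'⟩) e (Ne.symm hq12)
        exact ⟨g, hΓ1.symm ▸ hg, hg1⟩
    | succ i ih =>
      intro hit z hz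
      by_cases e : z = q (i + 3)
      · exact ⟨1, one_mem _, by simp [e]⟩
      · obtain ⟨x, hx, hxz⟩ := ih (by omega) z (fun j h1 h2' => by
          rcases Nat.eq_or_lt_of_le h1 with h | h
          · rwa [← h]
          · exact hz j (by omega) h2')
        refine ⟨s (i + 2) * x, mul_mem (hsΓ _ _ (by omega) le_rfl) (hΓmono _ _ (by omega) hx), ?_⟩
        show s (i + 2) (x z) = _
        rw [hxz, (hsq (i + 2) (by omega) hit).1]
  have htuple : ∀ i, i + 2 ≤ t → ∀ f : Fin (i + 2) ↪ α, (∀ j, Av (i + 1) (f j)) →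
      ∃ x ∈ Γ (i + 1), ∀ j : Fin (i + 2), x (f j) = q (j + 1) := by
    intro i
    induction i with
    | zero =>
      intro _ f hf
      obtain ⟨g, hg, hg1, hg2⟩ := h2 (f 0) (f 1) (q 1) (q 2)
        (fun j h1 h2' => ⟨hf 0 j h1 h2', hf 1 j h1 h2',
          hAvq 1 1 le_rfl (by omega) (by omega) j h1 h2', hAvq 1 2 (by omega) le_rfl ht j h1 h2'⟩)
        (fun e => by have := f.injective e; simp at this) hq12
      refine ⟨g, hΓ1.symm ▸ hg, fun j => ?_⟩
      fin_cases j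
      · exact hg1
      · exact hg2
    | succ i ih =>
      intro hit f hf
      obtain ⟨x, hx, hxz⟩ := hpoint (i + 1) hit (f (Fin.last _)) (hf _)
      obtain ⟨y, hy, hyz⟩ := ih (by omega) ((Fin.castSuccEmb.trans f).trans x.toEmbedding) (fun j l h1 h2' e => by
        rcases Nat.eq_or_lt_of_le h1 with h | h
        · subst h
          change x (f j.castSucc) = q (i + 3) at e
          rw [← hxz] at e
          exact absurd (f.injective (x.injective e)) (Fin.castSucc_lt_last j).ne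
        · change x (f j.castSucc) = q l at e
          rw [← hfixΓ (i + 2) x hx l (by omega) h2' (by omega)] at e
          exact hf _ l (by omega) h2' (x.injective e))
      refine ⟨y * x, mul_mem (hΓmono _ _ (by omega) hy) hx, fun j => ?_⟩
      induction j using Fin.lastCases with
      | last =>
        show y (x (f (Fin.last _))) = _
        rw [hxz, hfixΓ (i + 1) y hy (i + 3) (by omega) hit (by omega)]
        rfl
      | cast j => exact hyz j
  obtain ⟨r, rfl⟩ : ∃ r, t = r + 2 := ⟨t - 2, by omega⟩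
  have hL : Subgroup.closure ((G : Set (Equiv.Perm α)) ∪ {x | ∃ i : ℕ, 2 ≤ i ∧ i + 1 ≤ r + 2 ∧ x = s i}) = Γ (r + 1) := by
    refine le_antisymm ?_ ?_
    · rw [Subgroup.closure_le]
      rintro x (hx | ⟨l, l1, l2, rfl⟩)
      · exact hΓmono 1 _ (by omega) (hΓ1.symm ▸ hx)
      · exact hsΓ _ _ (by omega) (by omega)
    · rw [Subgroup.closure_le]
      rintro x (hx | ⟨l, l1, l2, rfl⟩)
      · exact Subgroup.subset_closure (Or.inl ((hmemK x).1 hx).1)
      · rcases Nat.lt_or_ge l 2 with h | h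
        · rw [show l = 1 by omega]; exact Subgroup.subset_closure (Or.inl hs1)
        · exact Subgroup.subset_closure (Or.inr ⟨l, h, by omega, rfl⟩)
  rw [hL]
  refine ⟨(MulAction.isMultiplyPretransitive_iff).2 fun f g => ?_, le_antisymm ?_ ?_⟩
  · obtain ⟨x, hx, hxf⟩ := htuple r le_rfl f (fun j l h1 h2' => absurd h1 (by omega))
    obtain ⟨y, hy, hyg⟩ := htuple r le_rfl g (fun j l h1 h2' => absurd h1 (by omega))
    refine ⟨⟨y⁻¹ * x, mul_mem (inv_mem hy) hx⟩, ?_⟩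
    ext j
    show y⁻¹ (x (f j)) = g j
    rw [hxf j, ← hyg j, Equiv.Perm.inv_eq_iff_eq]
  · intro x hx
    have hxq : ∀ j, 1 ≤ j → j ≤ r + 2 → x (q j) = q j := fun j h1 h2' =>
      (mem_fixingSubgroup_iff _).1 hx.2 (q j) ⟨j, h1, h2', rfl⟩
    have hdown : ∀ i, i ≤ r → x ∈ Γ (r + 1 - i) := by
      intro i hi
      induction i with
      | zero => exact hx.1
      | succ i ih =>
        have h1 := ih (by omega)
        rw [show r + 1 - i = (r - i) + 1 by omega] at h1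
        rw [show r + 1 - (i + 1) = r - i by omega]
        exact hstab (r - i) (by omega) x h1 (hxq _ (by omega) (by omega))
    have h1 := hdown r le_rfl
    rw [show r + 1 - r = 1 by omega, hΓ1] at h1
    exact (hmemH x).2 ⟨h1, hxq 1 le_rfl (by omega), hxq 2 (by omega) (by omega)⟩
  · intro x hx
    refine ⟨hΓmono 0 _ (by omega) (hKΓ 0 (hHK hx)), (mem_fixingSubgroup_iff _).2 ?_⟩
    rintro _ ⟨j, h1, h2', rfl⟩
    obtain ⟨hxG, hx1, hx2⟩ := (hmemH x).1 hx
    rcases Nat.lt_or_ge j 3 with h | h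
    · interval_cases j
      · exact hx1
      · exact hx2
    · exact hfix x hxG j h h2'

end Cfsg.Agent.S0709
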