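import Cfsg.Statements.S0710
import Cfsg.Agent.Lib.Perm.SimpleCount
import Cfsg.Agent.Lib.Perm.SylowNormalizer
import Cfsg.Agent.S0989
import Mathlib.Tactic

set_option autoImplicit false
open Cfsg

namespace Cfsg.Agent.S0710

/-- No transitive permutation group on 13 points has order `13 * 12 * 11 * 10 * 9 * 8`. -/
theorem result {α : Type*} [Fintype α] [DecidableEq α] (hα : Fintype.card α = 13) (G : Subgroup (Equiv.Perm α)) [MulAction.IsPretransitive G α] : Nat.card G ≠ 13 * 12 * 11 * 10 * 9 * 8 := by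
  intro h
  classical
  have : Fact (Nat.Prime 13) := ⟨by norm_num⟩
  have h' : Nat.card G = 13 ^ 1 * 95040 := by rw [h]; norm_num
  obtain ⟨P⟩ := (inferInstance : Nonempty (Sylow 13 G))
  have hP : Nat.card (P : Subgroup G) = 13 := by
    rw [CfsgLib.Perm.sylow_card_eq P h' (by norm_num), pow_one]
  set P' : Subgroup (Equiv.Perm α) := (P : Subgroup G).map G.subtype with hP'
  have hP'c : Nat.card P' = 13 := by
    rw [hP', Subgroup.card_map_of_injective G.subtype_injective, hP]
  have hS : Nat.card (Equiv.Perm α) = 13 ^ 1 * 479001600 := by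
    rw [Nat.card_perm, Nat.card_eq_fintype_card, hα]; decide
  obtain ⟨Q, hQ⟩ := (IsPGroup.of_card (n := 1) (by rw [pow_one, hP'c] : Nat.card P' = 13 ^ 1)).exists_le_sylow
  have hQe : P' = (Q : Subgroup (Equiv.Perm α)) := Subgroup.eq_of_le_of_card_ge hQ (by
    rw [CfsgLib.Perm.sylow_card_eq Q hS (by norm_num), hP'c, pow_one])
  have h156 : Nat.card (Subgroup.normalizer ((Q : Subgroup (Equiv.Perm α)) : Set (Equiv.Perm α))) = 156 :=
    Cfsg.Agent.S0989.result 13 (Or.inl hα) Q
  have hdvd : Nat.card (Subgroup.normalizer ((P : Subgroup G) : Set G)) ∣ 156 := by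
    rw [← h156, ← Subgroup.card_map_of_injective (f := G.subtype) G.subtype_injective]
    refine Subgroup.card_dvd_of_le ((Subgroup.le_normalizer_map G.subtype).trans ?_)
    rw [← hP', hQe]
  have hN := CfsgLib.Perm.card_normalizer_mul_card_sylow P
  have hmod := card_sylow_modEq_one 13 G
  have hdiv := CfsgLib.Perm.card_sylow_dvd_of_card_eq h'
  obtain ⟨d, hd⟩ : 13 ∣ Nat.card (Subgroup.normalizer ((P : Subgroup G) : Set G)) :=
    hP.symm.dvd.trans (Subgroup.card_dvd_of_le Subgroup.le_normalizer)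
  rw [hd, h] at hN
  rw [hd] at hdvd
  have hd12 : d ∣ 12 := (Nat.mul_dvd_mul_iff_left (by norm_num : 0 < 13)).1 hdvd
  have hd0 : d ≤ 12 := Nat.le_of_dvd (by norm_num) hd12
  rw [Nat.ModEq] at hmod
  generalize Nat.card (Sylow 13 G) = n at *
  interval_cases d <;> omega

end Cfsg.Agent.S0710
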