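import Cfsg.Statements.S0712
import Mathlib.GroupTheory.GroupAction.Jordan
import Mathlib.Tactic

set_option autoImplicit false
open Cfsg

namespace Cfsg.Agent.S0712

/-- Jordan: a primitive group in which the pointwise stabiliser of a set `s` is doubly transitive on the complement of `s` (which has at least 2 points) is `(|s| + 2)`-transitive. -/
theorem result {α : Type*} [Fintype α] [DecidableEq α] (G : Subgroup (Equiv.Perm α)) (hG : MulAction.IsPreprimitive G α) (s : Set α) {m : ℕ} (hsm : s.ncard = m) (hm : m + 2 ≤ Fintype.card α) (h2 : MulAction.IsMultiplyPretransitive (fixingSubgroup G s) (SubMulAction.ofFixingSubgroup G s) 2) : MulAction.IsMultiplyPretransitive G α (m + 2) := by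
  classical
  rcases Nat.eq_zero_or_pos m with rfl | hm0
  · obtain rfl : s = ∅ := (Set.ncard_eq_zero (s.toFinite)).1 hsm
    exact MulAction.IsPretransitive.of_embedding
      (SubMulAction.ofFixingSubgroupEmpty_equivariantMap_bijective (M := G) (α := α)).surjective
  obtain ⟨n, rfl⟩ : ∃ n, m = n + 1 := ⟨m - 1, by omega⟩
  have hprim : MulAction.IsPreprimitive (fixingSubgroup G s) (SubMulAction.ofFixingSubgroup G s) :=
    MulAction.isPreprimitive_of_is_two_pretransitive h2
  have hmp := MulAction.IsPreprimitive.isMultiplyPreprimitive hG hsm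
    (by rw [Nat.card_eq_fintype_card]; omega) hprim
  have ht : MulAction.IsMultiplyPretransitive G α (n + 2) := hmp.isMultiplyPretransitive
  have hm' : MulAction.IsMultiplyPretransitive G α (n + 1) :=
    MulAction.isMultiplyPretransitive_of_le (n := n + 2) (by omega)
      (by rw [Nat.card_eq_fintype_card]; omega)
  rw [MulAction.isMultiplyPretransitive_iff] at hm' ⊢
  let e : Fin (n + 1) ↪ α :=
    ((Finite.equivFinOfCardEq (show Nat.card s = n + 1 by rw [Nat.card_coe_set_eq, hsm])).symm.toEmbedding).trans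
      (Function.Embedding.subtype _)
  have he : ∀ z, z ∈ s → ∃ i, e i = z := fun z hz =>
    ⟨(Finite.equivFinOfCardEq (show Nat.card s = n + 1 by rw [Nat.card_coe_set_eq, hsm])) ⟨z, hz⟩,
      congrArg Subtype.val (Equiv.symm_apply_apply _ _)⟩
  intro x y
  obtain ⟨g, hg⟩ := hm' ((Fin.castAddEmb 2).trans x) e
  obtain ⟨h, hh⟩ := hm' ((Fin.castAddEmb 2).trans y) e
  have hgi : ∀ i : Fin (n + 1), g • x (Fin.castAdd 2 i) = e i :=
    fun i => congrArg (fun f : Fin (n + 1) ↪ α => f i) hg
  have hhi : ∀ i : Fin (n + 1), h • y (Fin.castAdd 2 i) = e i :=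
    fun i => congrArg (fun f : Fin (n + 1) ↪ α => f i) hh
  have hxo : ∀ i : Fin 2, g • x (Fin.natAdd (n + 1) i) ∉ s := by
    intro i hi
    obtain ⟨j, hj⟩ := he _ hi
    rw [← hgi] at hj
    have := x.injective (MulAction.injective g hj)
    rw [Fin.ext_iff, Fin.val_castAdd, Fin.val_natAdd] at this
    omega
  have hyo : ∀ i : Fin 2, h • y (Fin.natAdd (n + 1) i) ∉ s := by
    intro i hi
    obtain ⟨j, hj⟩ := he _ hi
    rw [← hhi] at hj
    have := y.injective (MulAction.injective h hj)
    rw [Fin.ext_iff, Fin.val_castAdd, Fin.val_natAdd] at this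
    omega
  rw [MulAction.is_two_pretransitive_iff] at h2
  obtain ⟨k, hk1, hk2⟩ := h2 (a := ⟨_, hxo 0⟩) (b := ⟨_, hxo 1⟩) (c := ⟨_, hyo 0⟩) (d := ⟨_, hyo 1⟩)
    (fun he' => by
      have := x.injective (MulAction.injective g (congrArg Subtype.val he'))
      simp [Fin.ext_iff] at this)
    (fun he' => by
      have := y.injective (MulAction.injective h (congrArg Subtype.val he'))
      simp [Fin.ext_iff] at this)
  have hk1' : (k : G) • g • x (Fin.natAdd (n + 1) 0) = h • y (Fin.natAdd (n + 1) 0) :=
    congrArg Subtype.val hk1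
  have hk2' : (k : G) • g • x (Fin.natAdd (n + 1) 1) = h • y (Fin.natAdd (n + 1) 1) :=
    congrArg Subtype.val hk2
  refine ⟨h⁻¹ * k * g, Function.Embedding.ext fun i => ?_⟩
  show (h⁻¹ * k * g : G) • x i = y i
  rw [mul_smul, mul_smul, inv_smul_eq_iff]
  induction i using Fin.addCases with
  | left i =>
    rw [hgi, hhi]
    refine (mem_fixingSubgroup_iff G).1 k.2 _ ?_
    exact ((Finite.equivFinOfCardEq (show Nat.card s = n + 1 by rw [Nat.card_coe_set_eq, hsm])).symm i).2
  | right i =>
    fin_cases i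
    · exact hk1'
    · exact hk2'

end Cfsg.Agent.S0712
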