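import Cfsg.Statements.S0714
import Mathlib

set_option autoImplicit false
open Cfsg

namespace Cfsg.Agent.S0714

/-- Over any field, the permutation module of the alternating group of degree at least 5 has exactly four invariant subspaces: zero, the constant functions, the functions with coordinate sum zero, and everything. -/
theorem result {α : Type*} [Fintype α] [DecidableEq α] (hα : 5 ≤ Fintype.card α) {K : Type*} [Field K] (W : Subrepresentation (Cfsg.permRep K (alternatingGroup α) α)) : W.toSubmodule = ⊥ ∨ W = Cfsg.permConstants K (alternatingGroup α) α ∨ W = Cfsg.permSumZero K (alternatingGroup α) α ∨ W.toSubmodule = ⊤ := by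
  classical
  haveI h2 : MulAction.IsMultiplyPretransitive (alternatingGroup α) α (Nat.card α - 2) :=
    alternatingGroup.isMultiplyPretransitive α
  have h2A : MulAction.IsMultiplyPretransitive (alternatingGroup α) α 2 :=
    MulAction.isMultiplyPretransitive_of_le (n := Nat.card α - 2) (by rw [Nat.card_eq_fintype_card]; omega)
      (Nat.sub_le _ _)
  rw [MulAction.is_two_pretransitive_iff] at h2A
  have hmemW : ∀ (g : Equiv.Perm α), Equiv.Perm.sign g = 1 → ∀ v ∈ W.toSubmodule,
      (fun x => v (g⁻¹ x) - v x) ∈ W.toSubmodule := by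
    intro g hg v hv
    exact W.toSubmodule.sub_mem (W.apply_mem_toSubmodule (⟨g, Equiv.Perm.mem_alternatingGroup.2 hg⟩ : (alternatingGroup α)) hv) hv
  by_cases hconst : ∀ v ∈ W.toSubmodule, ∀ a b, v a = v b
  · have hle : W.toSubmodule ≤ (Cfsg.permConstants K (alternatingGroup α) α).toSubmodule := by
      intro v hv
      obtain ⟨a⟩ : Nonempty α := Fintype.card_pos_iff.1 (by omega)
      exact Submodule.mem_span_singleton.2 ⟨v a, funext fun x => by
        rw [Pi.smul_apply, smul_eq_mul, mul_one]; exact hconst v hv a x⟩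
    by_cases hb : W.toSubmodule = ⊥
    · exact Or.inl hb
    · refine Or.inr (Or.inl (Subrepresentation.toSubmodule_injective (le_antisymm hle ?_)))
      obtain ⟨v, hv, hv0⟩ := W.toSubmodule.ne_bot_iff.1 hb
      obtain ⟨c, rfl⟩ := Submodule.mem_span_singleton.1 (hle hv)
      have hc : c ≠ 0 := fun h => hv0 (by rw [h, zero_smul])
      refine Submodule.span_le.2 (Set.singleton_subset_iff.2 ?_)
      have := W.toSubmodule.smul_mem c⁻¹ hv
      rwa [smul_smul, inv_mul_cancel₀ hc, one_smul] at this
  · push Not at hconst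
    obtain ⟨v, hv, a, b, hab⟩ := hconst
    have hne : a ≠ b := fun h => hab (h ▸ rfl)
    have hpick : ∀ t : Finset α, t.card < 5 → ∃ y, y ∉ t := by
      intro t ht
      by_contra hcon
      push Not at hcon
      rw [Finset.eq_univ_of_forall hcon, Finset.card_univ] at ht
      omega
    obtain ⟨c, hc⟩ := hpick {a, b} (by have := Finset.card_le_two (a := a) (b := b); omega)
    obtain ⟨d, hd⟩ := hpick {a, b, c} (by have := Finset.card_le_three (a := a) (b := b) (c := c); omega)
    obtain ⟨f, hf⟩ := hpick {a, b, c, d} (by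
      have := Finset.card_le_four (a := a) (b := b) (c := c) (d := d); omega)
    simp only [Finset.mem_insert, Finset.mem_singleton, not_or] at hc hd hf
    have hcyc : ∀ x y z : α, x ≠ y → y ≠ z → x ≠ z →
        Equiv.Perm.sign (Equiv.swap x y * Equiv.swap y z) = 1 := fun x y z h1 h2 h3 => by
      rw [map_mul, Equiv.Perm.sign_swap h1, Equiv.Perm.sign_swap h2]; rfl
    -- `w` lives on `{a, b, c}`
    set g := (Equiv.swap b a * Equiv.swap a c)⁻¹ with hg
    set w := fun x => v (g⁻¹ x) - v x with hw
    have hwW : w ∈ W.toSubmodule := hmemW g (by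
      rw [hg, map_inv, hcyc b a c (Ne.symm hne) (Ne.symm hc.1) (Ne.symm hc.2), inv_one]) v hv
    have hgout : ∀ x, x ≠ a → x ≠ b → x ≠ c → g⁻¹ x = x := by
      intro x h1 h2 h3
      simp [hg, Equiv.swap_apply_of_ne_of_ne, h1, h2, h3]
    have hwout : ∀ x, x ≠ a → x ≠ b → x ≠ c → w x = 0 := fun x h1 h2 h3 => by
      show v (g⁻¹ x) - v x = 0; rw [hgout x h1 h2 h3, sub_self]
    have hwb : w b = v a - v b := by
      have : g⁻¹ b = a := by
        simp [hg, Equiv.swap_apply_of_ne_of_ne, Ne.symm hne, Ne.symm hc.2]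
      show v (g⁻¹ b) - v b = _; rw [this]
    -- moving `b` gives a difference of two basis vectors
    set h := Equiv.swap b d * Equiv.swap d f with hh
    have hhinv : ∀ x, h⁻¹ x = Equiv.swap d f (Equiv.swap b d x) := fun x => by
      simp [hh, mul_inv_rev]
    have hbf : b ≠ f := fun e => hf.2.1 e.symm
    have hdf : d ≠ f := fun e => hf.2.2.2 e.symm
    have hu := hmemW h (hcyc b d f (Ne.symm hd.2.1) hdf hbf) w hwW
    have hudiff : ∃ x y : α, ∃ s : K, x ≠ y ∧ s ≠ 0 ∧
        s • ((Pi.single x 1 : α → K) - Pi.single y 1) ∈ W.toSubmodule := by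
      have hwd : w d = 0 := hwout d hd.1 hd.2.1 hd.2.2
      have hwf : w f = 0 := hwout f hf.1 hf.2.1 hf.2.2.1
      have hvals : ∀ x, w (h⁻¹ x) - w x =
          (w b) • ((if h⁻¹ x = b then (1 : K) else 0) - (if x = b then 1 else 0)) := by
        intro x
        by_cases hxb : x = b
        · subst hxb
          have e1 : h⁻¹ x = f := by
            rw [hhinv, Equiv.swap_apply_left, Equiv.swap_apply_left]
          simp [e1, hwf, Ne.symm hbf]
        by_cases hxd : x = d
        · subst hxd
          have e1 : h⁻¹ x = b := by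
            rw [hhinv, Equiv.swap_apply_right, Equiv.swap_apply_of_ne_of_ne (Ne.symm hd.2.1) hbf]
          simp [e1, hwd, hd.2.1]
        by_cases hxf : x = f
        · subst hxf
          have e1 : h⁻¹ x = d := by
            rw [hhinv, Equiv.swap_apply_of_ne_of_ne hxb hxd, Equiv.swap_apply_right]
          simp [e1, hwd, hwf, hd.2.1, hxb]
        · have e1 : h⁻¹ x = x := by
            rw [hhinv, Equiv.swap_apply_of_ne_of_ne hxb hxd, Equiv.swap_apply_of_ne_of_ne hxd hxf]
          simp [e1]
      refine ⟨d, b, w b, hd.2.1, by rw [hwb]; exact sub_ne_zero.2 hab, ?_⟩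
      convert hu using 1
      funext x
      rw [hvals]
      have hiff : h⁻¹ x = b ↔ x = d := by
        rw [Equiv.Perm.inv_eq_iff_eq]
        have : h b = d := by
          simp [hh, Equiv.swap_apply_of_ne_of_ne (Ne.symm hd.2.1) hbf]
        rw [this]
      simp only [Pi.smul_apply, Pi.sub_apply, Pi.single_apply, hiff]
    obtain ⟨x, y, s, hxy, hs, hsu⟩ := hudiff
    have hxyW : (Pi.single x 1 : α → K) - Pi.single y 1 ∈ W.toSubmodule := by
      have := W.toSubmodule.smul_mem s⁻¹ hsu
      rwa [smul_smul, inv_mul_cancel₀ hs, one_smul] at this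
    have hdiff : ∀ x' y' : α, (Pi.single x' 1 : α → K) - Pi.single y' 1 ∈ W.toSubmodule := by
      intro x' y'
      by_cases hxy' : x' = y'
      · simp [hxy']
      obtain ⟨k, hk1, hk2⟩ := h2A hxy hxy'
      convert W.apply_mem_toSubmodule k hxyW using 1
      funext z
      show _ = (((Pi.single x 1 : α → K) - Pi.single y 1 : α → K)) (k⁻¹ • z)
      simp only [Pi.sub_apply, Pi.single_apply, inv_smul_eq_iff, hk1, hk2]
    have hS : (Cfsg.permSumZero K (alternatingGroup α) α).toSubmodule ≤ W.toSubmodule := by
      intro u hu'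
      have hu0 : ∑ z, u z = 0 := hu'
      have : u = ∑ z, u z • ((Pi.single z 1 : α → K) - Pi.single a 1) := by
        simp only [smul_sub, Finset.sum_sub_distrib, ← Finset.sum_smul, hu0, zero_smul, sub_zero]
        funext z
        simp [Finset.sum_apply, Pi.single_apply]
      rw [this]
      exact W.toSubmodule.sum_mem fun z _ => W.toSubmodule.smul_mem _ (hdiff z a)
    by_cases hWle : W.toSubmodule ≤ (Cfsg.permSumZero K (alternatingGroup α) α).toSubmodule
    · exact Or.inr (Or.inr (Or.inl (Subrepresentation.toSubmodule_injective (le_antisymm hWle hS))))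
    · refine Or.inr (Or.inr (Or.inr (eq_top_iff.2 fun u _ => ?_)))
      obtain ⟨z, hz, hz0⟩ := Set.not_subset.1 hWle
      have hz0' : ∑ x, z x ≠ 0 := hz0
      have h1 : u - ((∑ x, u x) / (∑ x, z x)) • z ∈ W.toSubmodule := hS (by
        show ∑ x, (u - ((∑ x, u x) / (∑ x, z x)) • z) x = 0
        simp [Finset.sum_sub_distrib, ← Finset.mul_sum, div_mul_cancel₀ _ hz0'])
      have := W.toSubmodule.add_mem h1 (W.toSubmodule.smul_mem ((∑ x, u x) / (∑ x, z x)) hz)
      rwa [sub_add_cancel] at this

end Cfsg.Agent.S0714
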