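import Cfsg.Statements.S0715
import Cfsg.Agent.Lib.Perm.OrbitalOp

set_option autoImplicit false
open Cfsg

namespace Cfsg.Agent.S0715

/-- If a natural number `f` divides the degree of every non-principal irreducible constituent of the permutation character of a transitive group, then `f` divides every non-trivial subdegree. -/
theorem result {G : Type*} [Group G] [Fintype G] {Ω : Type*} [Fintype Ω] [MulAction G Ω] [MulAction.IsPretransitive G Ω] (f : ℕ) (hf : ∀ χ : G → ℂ, Cfsg.IsIrrCharacter G χ → χ ≠ (fun _ => 1) → Cfsg.classInner (fun g : G => (Nat.card (MulAction.fixedBy Ω g) : ℂ)) χ ≠ 0 → ∃ m : ℕ, χ 1 = (f : ℂ) * m) (a b : Ω) (hab : b ≠ a) : f ∣ Nat.card (MulAction.orbit (MulAction.stabilizer G a) b) := by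
  classical
  haveI := Fintype.ofFinite (Cfsg.IrrCharacter G)
  haveI : Nonempty Ω := ⟨a⟩
  set T := CfsgLib.Perm.OrbitalOp.orbOp G a b with hTdef
  have hTe := CfsgLib.Perm.OrbitalOp.isEquivariant_orbOp (G := G) a b
  set k := Nat.card (MulAction.orbit (MulAction.stabilizer G a) b) with hk
  set one : Ω → ℂ := fun _ => 1 with hone
  have hT1 : T one = (k : ℂ) • one := CfsgLib.Perm.OrbitalOp.orbOp_one a b
  have hone0 : one ≠ 0 := fun e => one_ne_zero (congrFun e a)
  have hev : Module.End.HasEigenvalue T (k : ℂ) :=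
    Module.End.hasEigenvalue_of_hasEigenvector
      (Module.End.hasEigenvector_iff.2 ⟨Module.End.mem_eigenspace_iff.2 hT1, hone0⟩)
  have hfin : {μ : ℂ | Module.End.HasEigenvalue T μ}.Finite := Module.End.finite_hasEigenvalue T
  have hmem : ∀ μ, Module.End.HasEigenvalue T μ → μ ∈ hfin.toFinset := fun μ h => hfin.mem_toFinset.2 h
  have hdata : ∀ μ : ℂ, ∃ m : ℕ, (Module.finrank ℂ (Module.End.maxGenEigenspace T μ) : ℂ) =
      (if μ = (k : ℂ) then 1 else 0) + (f : ℂ) * m := by
    intro μ
    obtain ⟨t, m, hd, ht, hiff⟩ := CfsgLib.Perm.CentralizerRing.exists_finrank_subrep (CfsgLib.Perm.OrbitalOp.genSubrep hTe μ) f hf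
    have hd' : Module.finrank ℂ (Module.End.maxGenEigenspace T μ) = t + f * m := hd
    have hval : t = if μ = (k : ℂ) then 1 else 0 := by
      have hk' : one ∈ Module.End.maxGenEigenspace T (k : ℂ) :=
        Module.End.eigenspace_le_maxGenEigenspace (Module.End.mem_eigenspace_iff.2 hT1)
      by_cases hμ : μ = (k : ℂ)
      · rw [if_pos hμ]
        exact hiff.1 (show one ∈ Module.End.maxGenEigenspace T μ from hμ ▸ hk')
      · rw [if_neg hμ]
        rcases ht with ht | ht
        · exact ht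
        · exact absurd (Submodule.disjoint_def.1
            ((Module.End.independent_maxGenEigenspace T).pairwiseDisjoint hμ) one (hiff.2 ht) hk') hone0
    exact ⟨m, by rw [hd', hval]; push_cast; split_ifs <;> simp⟩
  choose m hm using hdata
  have htr := CfsgLib.Perm.OrbitalOp.trace_eq_sum_finrank T hfin.toFinset hmem
  rw [CfsgLib.Perm.OrbitalOp.trace_orbOp hab] at htr
  simp only [hm, mul_add, Finset.sum_add_distrib, mul_ite, mul_one, mul_zero, Finset.sum_ite_eq',
    if_pos (hmem _ hev)] at htr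
  set z := ∑ μ ∈ hfin.toFinset, μ * (m μ : ℂ) with hz
  have hint : IsIntegral ℤ z := IsIntegral.sum _ fun μ hμ =>
    (CfsgLib.Perm.OrbitalOp.isIntegral_of_hasEigenvalue (hfin.mem_toFinset.1 hμ)).mul (isIntegral_algebraMap (x := (m μ : ℤ)))
  have heq : (k : ℂ) = - ((f : ℂ) * z) := by
    have h4 : ∑ μ ∈ hfin.toFinset, μ * ((f : ℂ) * (m μ : ℂ)) = (f : ℂ) * z := by
      rw [hz, Finset.mul_sum]
      exact Finset.sum_congr rfl fun μ _ => by ring
    rw [h4] at htr
    linear_combination -htr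
  rcases Nat.eq_zero_or_pos f with rfl | hf0
  · rw [Nat.cast_zero, zero_mul, neg_zero, Nat.cast_eq_zero] at heq
    rw [heq]
  · have hq : z = (algebraMap ℚ ℂ) (-(k : ℚ) / f) := by
      rw [map_div₀, map_neg, map_natCast, map_natCast, eq_div_iff (Nat.cast_ne_zero.2 hf0.ne')]
      linear_combination heq
    rw [hq, isIntegral_algebraMap_iff (algebraMap ℚ ℂ).injective] at hint
    obtain ⟨j, hj⟩ := IsIntegrallyClosed.isIntegral_iff.1 hint
    have hfq : (f : ℚ) ≠ 0 := Nat.cast_ne_zero.2 hf0.ne'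
    rw [eq_div_iff hfq] at hj
    have hZ : (f : ℤ) ∣ (k : ℤ) := ⟨-j, by
      have h5 : ((j * (f : ℤ) : ℤ) : ℚ) = ((-(k : ℤ) : ℤ) : ℚ) := by
        push_cast
        rw [← hj]
        simp
      have := Int.cast_injective h5
      linarith⟩
    exact Int.natCast_dvd_natCast.1 hZ

end Cfsg.Agent.S0715
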