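import Cfsg.Statements.S0716
import Cfsg.Agent.Lib.Perm.OrbitalOp
import Cfsg.Agent.S0715

set_option autoImplicit false
open Cfsg

namespace Cfsg.Agent.S0716

theorem multFree_part {G : Type*} [Group G] [Fintype G] {Ω : Type*} [Fintype Ω] [MulAction G Ω]
    [MulAction.IsPretransitive G Ω] (a : Ω) (f : ℕ)
    (hf : ∀ χ : G → ℂ, Cfsg.IsIrrCharacter G χ → χ ≠ (fun _ => 1) → Cfsg.classInner (fun g : G => (Nat.card (MulAction.fixedBy Ω g) : ℂ)) χ ≠ 0 → χ 1 = f) :
    (∀ χ : G → ℂ, Cfsg.IsIrrCharacter G χ → Cfsg.classInner (fun g : G => (Nat.card (MulAction.fixedBy Ω g) : ℂ)) χ = 0 ∨ Cfsg.classInner (fun g : G => (Nat.card (MulAction.fixedBy Ω g) : ℂ)) χ = 1) ∧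
      ∀ b : Ω, b ≠ a → Nat.card (MulAction.orbit (MulAction.stabilizer G a) b) = f := by
  classical
  haveI := Fintype.ofFinite (Cfsg.IrrCharacter G)
  haveI : Nonempty Ω := ⟨a⟩
  obtain ⟨m, hm, hm1, hmc⟩ := CfsgLib.Perm.CentralizerRing.exists_perm_decomp (G := G) (Ω := Ω)
  set E := Finset.univ.erase (CfsgLib.Char.trivChar G) with hE
  have hdeg : ∀ χ ∈ E, (m χ : ℂ) * (χ : G → ℂ) 1 = (f : ℂ) * m χ := by
    intro χ hχ
    by_cases h0 : m χ = 0
    · simp [h0]
    · rw [hf χ χ.2 (fun e => Finset.ne_of_mem_erase hχ (Subtype.ext e)) (by rw [hmc]; exact_mod_cast h0)]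
      ring
  have hn : Fintype.card Ω = 1 + f * ∑ χ ∈ E, m χ := by
    have h := congrFun hm 1
    have hfix : Nat.card (MulAction.fixedBy Ω (1 : G)) = Fintype.card Ω := by
      rw [Nat.card_coe_set_eq, show MulAction.fixedBy Ω (1 : G) = Set.univ from
        Set.eq_univ_of_forall fun x => one_smul G x, Set.ncard_univ, Nat.card_eq_fintype_card]
    simp only [hfix, Finset.sum_apply, Pi.smul_apply, smul_eq_mul] at h
    rw [← Finset.add_sum_erase _ _ (Finset.mem_univ (CfsgLib.Char.trivChar G)), hm1, ← hE,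
      Finset.sum_congr rfl hdeg, ← Finset.mul_sum, CfsgLib.Char.trivChar_apply, Nat.cast_one, one_mul] at h
    exact_mod_cast h
  have hr : Nat.card (MulAction.orbitRel.Quotient (MulAction.stabilizer G a) Ω) = 1 + ∑ χ ∈ E, m χ * m χ := by
    have h := CfsgLib.Perm.CentralizerRing.classInner_perm_self (G := G) a
    conv_lhs at h => arg 2; rw [hm]
    rw [CfsgLib.Char.classInner_sum_right] at h
    simp only [CfsgLib.Char.classInner_smul_right, hmc, map_natCast] at h
    rw [← Finset.add_sum_erase _ _ (Finset.mem_univ (CfsgLib.Char.trivChar G)), hm1, ← hE] at h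
    have h' : ((1 + ∑ χ ∈ E, m χ * m χ : ℕ) : ℂ) =
        (Nat.card (MulAction.orbitRel.Quotient (MulAction.stabilizer G a) Ω) : ℂ) := by
      rw [← h]; push_cast; ring
    exact_mod_cast h'.symm
  -- the suborbits
  haveI := Fintype.ofFinite (MulAction.orbitRel.Quotient (MulAction.stabilizer G a) Ω)
  set q : Ω → MulAction.orbitRel.Quotient (MulAction.stabilizer G a) Ω := Quotient.mk'' with hq
  let F : MulAction.orbitRel.Quotient (MulAction.stabilizer G a) Ω → ℕ :=
    fun o => (Finset.univ.filter fun x => q x = o).card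
  have hF : ∀ b, F (q b) = Nat.card (MulAction.orbit (MulAction.stabilizer G a) b) := by
    intro b
    rw [Nat.card_coe_set_eq]
    simp only [F]
    rw [← Set.ncard_coe_finset]
    congr 1
    ext x
    simp only [Finset.coe_filter, Finset.mem_univ, true_and, Set.mem_setOf_eq, hq]
    exact ⟨fun h => MulAction.orbitRel_apply.1 (Quotient.exact' h),
      fun h => Quotient.sound' (MulAction.orbitRel_apply.2 h)⟩
  have hsum : Fintype.card Ω = ∑ o, F o := Finset.card_eq_sum_card_fiberwise (fun x _ => Finset.mem_univ (q x))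
  have ha : F (q a) = 1 := by
    rw [hF, Nat.card_coe_set_eq, Set.ncard_eq_one]
    refine ⟨a, Set.eq_singleton_iff_unique_mem.2 ⟨MulAction.mem_orbit_self a, ?_⟩⟩
    rintro _ ⟨g, rfl⟩
    exact g.2
  have hbig : ∀ o ∈ Finset.univ.erase (q a), f ≤ F o := by
    intro o ho
    induction o using Quotient.inductionOn' with
    | h b =>
      change f ≤ F (q b)
      rw [hF]
      have hba : b ≠ a := fun e => Finset.ne_of_mem_erase ho (by rw [e])
      refine Nat.le_of_dvd ?_ (Cfsg.Agent.S0715.result f (fun χ h1 h2 h3 => ⟨1, by rw [hf χ h1 h2 h3]; simp⟩) a b hba)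
      haveI : Nonempty (MulAction.orbit (MulAction.stabilizer G a) b) := ⟨⟨b, MulAction.mem_orbit_self b⟩⟩
      exact Nat.card_pos
  rw [← Finset.add_sum_erase _ _ (Finset.mem_univ (q a)), ha, hn] at hsum
  have hcard : (Finset.univ.erase (q a)).card = ∑ χ ∈ E, m χ * m χ := by
    rw [Finset.card_erase_of_mem (Finset.mem_univ _), Finset.card_univ, ← Nat.card_eq_fintype_card, hr]
    omega
  have hge : (Finset.univ.erase (q a)).card * f ≤ ∑ o ∈ Finset.univ.erase (q a), F o := by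
    simpa using Finset.sum_le_sum hbig
  have hmle : ∀ χ ∈ E, m χ ≤ m χ * m χ := fun χ _ => Nat.le_mul_self _
  have hfm : ∀ χ ∈ E, m χ ≤ 1 := by
    intro χ hχ
    rcases Nat.eq_zero_or_pos f with hf0 | hf0
    · by_contra hlt
      have h0 := hf χ χ.2 (fun e => Finset.ne_of_mem_erase hχ (Subtype.ext e))
        (by rw [hmc, Nat.cast_ne_zero]; omega)
      obtain ⟨n, σ, hσ, hσc⟩ := χ.2
      rw [← hσc, Representation.char_one, hf0, Nat.cast_inj] at h0
      have := CfsgLib.Char.finrank_pos_of_irreducible σ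
      omega
    · have hle : (∑ χ ∈ E, m χ * m χ) ≤ ∑ χ ∈ E, m χ := by
        refine Nat.le_of_mul_le_mul_left ?_ hf0
        rw [mul_comm f (∑ χ ∈ E, m χ * m χ), ← hcard]
        omega
      have he := (Finset.sum_eq_sum_iff_of_le hmle).1 (le_antisymm (Finset.sum_le_sum hmle) hle) χ hχ
      nlinarith
  have hmf : ∀ χ : Cfsg.IrrCharacter G, m χ ≤ 1 := by
    intro χ
    by_cases hχ : χ = CfsgLib.Char.trivChar G
    · rw [hχ, hm1]
    · exact hfm χ (Finset.mem_erase.2 ⟨hχ, Finset.mem_univ χ⟩)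
  refine ⟨fun χ hχ => ?_, fun b hb => ?_⟩
  · rw [hmc ⟨χ, hχ⟩]
    have := hmf ⟨χ, hχ⟩
    norm_cast
    omega
  · have hsq : ∑ χ ∈ E, m χ * m χ = ∑ χ ∈ E, m χ := Finset.sum_congr rfl fun χ hχ => by
      have h := hfm χ hχ
      rcases (show m χ = 0 ∨ m χ = 1 by omega) with h | h <;> simp [h]
    have heq : ∑ o ∈ Finset.univ.erase (q a), f = ∑ o ∈ Finset.univ.erase (q a), F o := by
      rw [Finset.sum_const, smul_eq_mul, hcard, hsq, mul_comm]
      omega
    have hbmem : q b ∈ Finset.univ.erase (q a) := by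
      refine Finset.mem_erase.2 ⟨fun e => hb ?_, Finset.mem_univ _⟩
      obtain ⟨g, hg⟩ := MulAction.orbitRel_apply.1 (Quotient.exact' e)
      rw [← hg]
      exact g.2
    rw [← hF]
    exact ((Finset.sum_eq_sum_iff_of_le hbig).1 heq (q b) hbmem).symm

/-- (a) If all non-principal irreducible constituents of the permutation character of a transitive group have the same degree `f`, the character is multiplicity-free and all non-trivial subdegrees equal `f`. (b) A transitive group of rank at most 5 has multiplicity-free permutation character. -/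
theorem result {G : Type*} [Group G] [Fintype G] {Ω : Type*} [Fintype Ω] [MulAction G Ω] [MulAction.IsPretransitive G Ω] (a : Ω) : ((f : ℕ) → (∀ χ : G → ℂ, Cfsg.IsIrrCharacter G χ → χ ≠ (fun _ => 1) → Cfsg.classInner (fun g : G => (Nat.card (MulAction.fixedBy Ω g) : ℂ)) χ ≠ 0 → χ 1 = f) → (∀ χ : G → ℂ, Cfsg.IsIrrCharacter G χ → Cfsg.classInner (fun g : G => (Nat.card (MulAction.fixedBy Ω g) : ℂ)) χ = 0 ∨ Cfsg.classInner (fun g : G => (Nat.card (MulAction.fixedBy Ω g) : ℂ)) χ = 1) ∧ ∀ b : Ω, b ≠ a → Nat.card (MulAction.orbit (MulAction.stabilizer G a) b) = f) ∧ (Nat.card (MulAction.orbitRel.Quotient (MulAction.stabilizer G a) Ω) ≤ 5 → ∀ χ : G → ℂ, Cfsg.IsIrrCharacter G χ → Cfsg.classInner (fun g : G => (Nat.card (MulAction.fixedBy Ω g) : ℂ)) χ = 0 ∨ Cfsg.classInner (fun g : G => (Nat.card (MulAction.fixedBy Ω g) : ℂ)) χ = 1) := by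
  classical
  refine ⟨fun f hf => multFree_part a f hf, fun h5 => ?_⟩
  haveI := Fintype.ofFinite (Cfsg.IrrCharacter G)
  haveI : Nonempty Ω := ⟨a⟩
  obtain ⟨m, hm, hm1, hmc⟩ := CfsgLib.Perm.CentralizerRing.exists_perm_decomp (G := G) (Ω := Ω)
  have hr : ∑ χ, m χ * m χ ≤ 5 := by
    have h := CfsgLib.Perm.CentralizerRing.classInner_perm_self (G := G) a
    conv_lhs at h => arg 2; rw [hm]
    rw [CfsgLib.Char.classInner_sum_right] at h
    simp only [CfsgLib.Char.classInner_smul_right, hmc, map_natCast] at h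
    have h' : ∑ χ, m χ * m χ = Nat.card (MulAction.orbitRel.Quotient (MulAction.stabilizer G a) Ω) := by
      exact_mod_cast h
    omega
  intro χ hχ
  rw [hmc ⟨χ, hχ⟩, Nat.cast_eq_zero, Nat.cast_eq_one]
  by_contra hcon
  push Not at hcon
  set χ' : Cfsg.IrrCharacter G := ⟨χ, hχ⟩
  have hne : χ' ≠ CfsgLib.Char.trivChar G := fun e => hcon.2 (by rw [e, hm1])
  have hpair : ∀ ψ, ψ ≠ CfsgLib.Char.trivChar G → ψ ≠ χ' → m ψ = 0 ∧ m χ' = 2 := by
    intro ψ h1 h2
    have h3 : ∑ x ∈ ({CfsgLib.Char.trivChar G, χ', ψ} : Finset (Cfsg.IrrCharacter G)), m x * m x ≤ 5 :=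
      le_trans (Finset.sum_le_sum_of_subset (Finset.subset_univ _)) hr
    rw [Finset.sum_insert (by simp [Ne.symm hne, Ne.symm h1]), Finset.sum_insert (by simp [Ne.symm h2]),
      Finset.sum_singleton, hm1] at h3
    have h4 : 2 ≤ m χ' := by omega
    constructor <;> nlinarith
  obtain ⟨n, σ, hσ, hσc⟩ := hχ
  have hd : χ 1 = (n : ℂ) := by
    rw [← hσc, Representation.char_one, Module.finrank_fin_fun]
  obtain ⟨hmf, -⟩ := multFree_part a n fun ψ hψ hψ1 hψ0 => by
    rw [hmc ⟨ψ, hψ⟩, Nat.cast_ne_zero] at hψ0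
    by_cases he : (⟨ψ, hψ⟩ : Cfsg.IrrCharacter G) = χ'
    · rw [show ψ = χ from congrArg Subtype.val he, hd]
    · exact absurd (hpair ⟨ψ, hψ⟩ (fun e => hψ1 (congrArg Subtype.val e)) he).1 hψ0
  rcases hmf χ χ'.2 with h | h <;> rw [hmc χ'] at h <;> norm_cast at h
  · exact hcon.1 h
  · exact hcon.2 h

end Cfsg.Agent.S0716
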