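import Cfsg.Statements.S0717
import Cfsg.Agent.Lib.Perm.OrbitalOp

set_option autoImplicit false
open Cfsg

namespace Cfsg.Agent.S0717

/-- All suborbits of a transitive group are self-paired (every pair of points is interchanged by some group element) if and only if the permutation character is multiplicity-free and each of its irreducible constituents is real-valued. -/
theorem result {G : Type*} [Group G] [Fintype G] {Ω : Type*} [Fintype Ω] [MulAction G Ω] [MulAction.IsPretransitive G Ω] : (∀ a b : Ω, ∃ g : G, g • a = b ∧ g • b = a) ↔ ∀ χ : G → ℂ, Cfsg.IsIrrCharacter G χ → Cfsg.classInner (fun g : G => (Nat.card (MulAction.fixedBy Ω g) : ℂ)) χ ≠ 0 → Cfsg.classInner (fun g : G => (Nat.card (MulAction.fixedBy Ω g) : ℂ)) χ = 1 ∧ ∀ g : G, (starRingEnd ℂ) (χ g) = χ g := by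
  classical
  haveI := Fintype.ofFinite (Cfsg.IrrCharacter G)
  open CfsgLib.Perm.CentralizerRing in
  set ρ := Cfsg.permRep ℂ G Ω with hρ
  let M : ((Ω → ℂ) →ₗ[ℂ] (Ω → ℂ)) → Ω → Ω → ℂ := fun T x y => T (Pi.single y 1) x
  have hMinv : ∀ T, CfsgLib.Perm.CentralizerRing.IsEquivariant ρ ρ T → ∀ (g : G) x y, M T (g • x) (g • y) = M T x y := by
    intro T hT g x y
    have h1 : ρ g (Pi.single y 1) = Pi.single (g • y) 1 := by
      funext z
      show (Pi.single y (1 : ℂ) : Ω → ℂ) (g⁻¹ • z) = _
      rw [Pi.single_apply, Pi.single_apply]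
      exact if_congr inv_smul_eq_iff rfl rfl
    show T (Pi.single (g • y) 1) (g • x) = T (Pi.single y 1) x
    rw [← h1, show T (ρ g (Pi.single y 1)) = ρ g (T (Pi.single y 1)) from LinearMap.congr_fun (hT g) _]
    show T (Pi.single y 1) (g⁻¹ • g • x) = _
    rw [inv_smul_smul]
  have hMcomp : ∀ S T x y, M (S ∘ₗ T) x y = ∑ z, M S x z * M T z y := by
    intro S T x y
    show S (T (Pi.single y 1)) x = _
    conv_lhs => rw [pi_eq_sum_univ' (T (Pi.single y 1))]
    simp only [map_sum, map_smul, Finset.sum_apply, Pi.smul_apply, smul_eq_mul, M]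
    exact Finset.sum_congr rfl fun z _ => mul_comm _ _
  have hMext : ∀ S T, (∀ x y, M S x y = M T x y) → S = T := fun S T h =>
    LinearMap.pi_ext' fun y => LinearMap.ext_ring (funext fun x => h x y)
  have hMsum : ∀ (c : G → ℂ) x y, M (∑ g, c g • ρ g) x y = ∑ g, c g * (if g • y = x then 1 else 0) := by
    intro c x y
    simp only [M, LinearMap.sum_apply, LinearMap.smul_apply, Finset.sum_apply, Pi.smul_apply, smul_eq_mul]
    refine Finset.sum_congr rfl fun g _ => congrArg _ ?_
    show (Pi.single y (1 : ℂ) : Ω → ℂ) (g⁻¹ • x) = _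
    rw [Pi.single_apply]
    exact if_congr (inv_smul_eq_iff.trans eq_comm) rfl rfl
  constructor
  · intro hsp χ hχ hne
    have hsym : ∀ T, CfsgLib.Perm.CentralizerRing.IsEquivariant ρ ρ T → ∀ x y, M T x y = M T y x := by
      intro T hT x y
      obtain ⟨g, hx, hy⟩ := hsp x y
      conv_lhs => rw [← hMinv T hT g, hx, hy]
    have hcomm : ∀ S T, CfsgLib.Perm.CentralizerRing.IsEquivariant ρ ρ S → CfsgLib.Perm.CentralizerRing.IsEquivariant ρ ρ T → S ∘ₗ T = T ∘ₗ S := by
      intro S T hS hT
      refine hMext _ _ fun x y => ?_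
      have hST : CfsgLib.Perm.CentralizerRing.IsEquivariant ρ ρ (S ∘ₗ T) := fun g => by
        rw [LinearMap.comp_assoc, hT g, ← LinearMap.comp_assoc, hS g, LinearMap.comp_assoc]
      rw [hsym _ hST, hMcomp, hMcomp]
      exact Finset.sum_congr rfl fun z _ => by rw [hsym S hS y z, hsym T hT z x, mul_comm]
    have h1 := CfsgLib.Perm.CentralizerRing.classInner_le_one_of_commute ρ hcomm hχ
    rw [hρ, CfsgLib.Perm.CentralizerRing.permRep_character] at h1
    refine ⟨h1.resolve_left hne, ?_⟩
    by_contra hreal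
    -- an antisymmetric element of the centraliser
    obtain ⟨n, σ, i, hσ, hσc, hi, hinj⟩ := CfsgLib.Perm.CentralizerRing.exists_embedding hχ ρ
      (by rw [hρ, CfsgLib.Perm.CentralizerRing.permRep_character]; exact hne)
    have hcl : Cfsg.IsClassFunction G (fun g => (starRingEnd ℂ) (χ g) - χ g) := fun g x => by
      simp only [← hσc, Representation.char_conj]
    have hD : CfsgLib.Perm.CentralizerRing.IsEquivariant ρ ρ (∑ g, ((starRingEnd ℂ) (χ g) - χ g) • ρ g) := fun h =>
      CfsgLib.Char.sum_smul_commute hcl ρ h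
    have hD0 : (∑ g, ((starRingEnd ℂ) (χ g) - χ g) • ρ g) = 0 := by
      refine hMext _ _ fun x y => ?_
      have h2 : M (∑ g, ((starRingEnd ℂ) (χ g) - χ g) • ρ g) x y =
          - M (∑ g, ((starRingEnd ℂ) (χ g) - χ g) • ρ g) y x := by
        rw [hMsum, hMsum, ← Finset.sum_neg_distrib]
        refine Fintype.sum_equiv (Equiv.inv G) _ _ fun g => ?_
        rw [Equiv.inv_apply, CfsgLib.Char.IsIrr.map_inv hχ, Complex.conj_conj,
          if_congr (inv_smul_eq_iff.trans eq_comm : g⁻¹ • x = y ↔ g • y = x) rfl rfl]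
        ring
      rw [← hsym _ hD x y] at h2
      show _ = (0 : ℂ)
      linear_combination h2 / 2
    have hS0 : (∑ g, ((starRingEnd ℂ) (χ g) - χ g) • σ g) = 0 := by
      refine LinearMap.ext fun w => hinj ?_
      simp only [LinearMap.sum_apply, LinearMap.smul_apply, map_sum, map_smul, LinearMap.zero_apply, map_zero]
      have := LinearMap.congr_fun hD0 (i w)
      simp only [LinearMap.sum_apply, LinearMap.smul_apply, LinearMap.zero_apply] at this
      rw [← this]
      exact Finset.sum_congr rfl fun g _ => congrArg _ (LinearMap.congr_fun (hi g) w)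
    have htr := congrArg (LinearMap.trace ℂ (Fin n → ℂ)) hS0
    simp only [map_sum, map_smul, map_zero, smul_eq_mul] at htr
    let χ' : Cfsg.IrrCharacter G := ⟨χ, hχ⟩
    have hne' : CfsgLib.Char.conjIrr χ' ≠ χ' := fun e => hreal fun g => by
      have := congrArg (fun ψ : Cfsg.IrrCharacter G => (ψ : G → ℂ) g) e
      simpa [CfsgLib.Char.conjIrr_apply] using this
    have e1 := CfsgLib.Char.classInner_irr_self χ'
    have e2 := CfsgLib.Char.classInner_irr_of_ne hne'
    simp only [Cfsg.classInner, CfsgLib.Char.conjIrr_apply] at e1 e2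
    have hN : ((Nat.card G : ℂ))⁻¹ ≠ 0 := inv_ne_zero (Nat.cast_ne_zero.2 Nat.card_pos.ne')
    have hz : ∑ g, ((starRingEnd ℂ) (χ g) - χ g) * χ g = 0 := by
      rw [← htr]
      exact Finset.sum_congr rfl fun g _ => congrArg _ (congrFun hσc g).symm
    have e2' : ∑ g, χ g * χ g = 0 := by
      have h3 := congrArg (starRingEnd ℂ) ((mul_eq_zero.1 e2).resolve_left hN)
      simpa [map_sum, χ'] using h3
    simp only [sub_mul, Finset.sum_sub_distrib, e2', sub_zero] at hz
    rw [show ∑ g, (χ' : G → ℂ) g * (starRingEnd ℂ) ((χ' : G → ℂ) g) = 0 by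
      rw [← hz]; exact Finset.sum_congr rfl fun g _ => mul_comm _ _, mul_zero] at e1
    exact zero_ne_one e1
  · intro h a b
    have hmf : ∀ χ : Cfsg.IrrCharacter G, Cfsg.classInner ρ.character (χ : G → ℂ) = 0 ∨
        Cfsg.classInner ρ.character (χ : G → ℂ) = 1 := by
      intro χ
      rw [hρ, CfsgLib.Perm.CentralizerRing.permRep_character]
      exact or_iff_not_imp_left.2 fun hne => (h χ χ.2 hne).1
    set R := CfsgLib.Perm.OrbitalOp.orbOp G a b with hR
    have hRe : CfsgLib.Perm.CentralizerRing.IsEquivariant ρ ρ R := CfsgLib.Perm.OrbitalOp.isEquivariant_orbOp a b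
    set R' := CfsgLib.Perm.OrbitalOp.orbOp G b a with hR'
    have hR'e : CfsgLib.Perm.CentralizerRing.IsEquivariant ρ ρ R' := CfsgLib.Perm.OrbitalOp.isEquivariant_orbOp b a
    have hMR : ∀ u v x y, M (CfsgLib.Perm.OrbitalOp.orbOp G u v) x y = if CfsgLib.Perm.OrbitalOp.Rel G u v x y then 1 else 0 := by
      intro u v x y
      show CfsgLib.Perm.OrbitalOp.orbOp G u v (Pi.single y 1) x = _
      rw [CfsgLib.Perm.OrbitalOp.orbOp_apply]
      simp [Pi.single_apply]
    have hswap : ∀ x y, M R' x y = M R y x := by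
      intro x y
      rw [hR, hR', hMR, hMR]
      exact if_congr ⟨fun ⟨g, h1, h2⟩ => ⟨g, h2, h1⟩, fun ⟨g, h1, h2⟩ => ⟨g, h2, h1⟩⟩ rfl rfl
    have hDe : CfsgLib.Perm.CentralizerRing.IsEquivariant ρ ρ (R - R') := fun g => by
      rw [LinearMap.sub_comp, LinearMap.comp_sub, hRe g, hR'e g]
    have hMsub : ∀ x y, M (R - R') x y = M R x y - M R y x := fun x y => by
      rw [← hswap x y]; rfl
    have hzero : ∀ χ : Cfsg.IrrCharacter G, (R - R') ∘ₗ CfsgLib.Perm.CentralizerRing.charSum ρ (χ : G → ℂ) = 0 := by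
      intro χ
      rcases hmf χ with h0 | h1
      · rw [CfsgLib.Perm.CentralizerRing.charSum_eq_zero ρ χ h0, LinearMap.comp_zero]
      · have h1' := h1
        rw [hρ, CfsgLib.Perm.CentralizerRing.permRep_character] at h1'
        have hreal := (h χ χ.2 (by rw [h1']; exact one_ne_zero)).2
        have hcl : Cfsg.IsClassFunction G (χ : G → ℂ) := by
          obtain ⟨n, σ, -, hσc⟩ := χ.2
          intro g x
          rw [← hσc, Representation.char_conj]
        have hEe := CfsgLib.Perm.CentralizerRing.isEquivariant_charSum ρ hcl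
        obtain ⟨hE0, c, hc⟩ := CfsgLib.Perm.CentralizerRing.exists_smul_charSum ρ χ h1 hDe
        have hEsym : ∀ x y, M (CfsgLib.Perm.CentralizerRing.charSum ρ (χ : G → ℂ)) x y = M (CfsgLib.Perm.CentralizerRing.charSum ρ (χ : G → ℂ)) y x := by
          intro x y
          rw [CfsgLib.Perm.CentralizerRing.charSum, hMsum, hMsum]
          refine Fintype.sum_equiv (Equiv.inv G) _ _ fun g => ?_
          rw [Equiv.inv_apply, CfsgLib.Char.IsIrr.map_inv χ.2, Complex.conj_conj, hreal g,
            if_congr (inv_smul_eq_iff.trans eq_comm : g⁻¹ • x = y ↔ g • y = x) rfl rfl]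
        have hcomm := CfsgLib.Perm.CentralizerRing.commute_of_multFree ρ hmf hDe hEe
        have hanti : ∀ x y, M ((R - R') ∘ₗ CfsgLib.Perm.CentralizerRing.charSum ρ (χ : G → ℂ)) x y =
            - M ((R - R') ∘ₗ CfsgLib.Perm.CentralizerRing.charSum ρ (χ : G → ℂ)) y x := by
          intro x y
          conv_rhs => rw [hcomm]
          rw [hMcomp, hMcomp, ← Finset.sum_neg_distrib]
          refine Finset.sum_congr rfl fun z _ => ?_
          rw [hMsub, hMsub, hEsym y z]
          ring
        have hsmul : ∀ x y, M ((R - R') ∘ₗ CfsgLib.Perm.CentralizerRing.charSum ρ (χ : G → ℂ)) x y = c * M (CfsgLib.Perm.CentralizerRing.charSum ρ (χ : G → ℂ)) x y :=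
          fun x y => by rw [hc]; rfl
        refine hMext _ _ fun x y => ?_
        have h3 := hanti x y
        rw [hsmul y x, hEsym y x, ← hsmul x y] at h3
        show _ = (0 : ℂ)
        linear_combination h3 / 2
    have hD : R - R' = 0 := by
      have h2 := congrArg (fun T => (R - R') ∘ₗ T) (CfsgLib.Perm.CentralizerRing.sum_charSum ρ)
      rw [LinearMap.comp_smul, LinearMap.comp_id] at h2
      have h3 : (R - R') ∘ₗ (∑ χ : Cfsg.IrrCharacter G, (χ : G → ℂ) 1 • CfsgLib.Perm.CentralizerRing.charSum ρ (χ : G → ℂ)) = 0 := by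
        refine LinearMap.ext fun v => ?_
        simp only [LinearMap.comp_apply, LinearMap.sum_apply, LinearMap.smul_apply, map_sum, map_smul,
          LinearMap.zero_apply]
        exact Finset.sum_eq_zero fun χ _ => by
          rw [show (R - R') (CfsgLib.Perm.CentralizerRing.charSum ρ (χ : G → ℂ) v) = 0 from LinearMap.congr_fun (hzero χ) v, smul_zero]
      rw [h3] at h2
      exact (smul_eq_zero.1 h2.symm).resolve_left (Nat.cast_ne_zero.2 Nat.card_pos.ne')
    have hab := hMsub a b
    rw [hD, show M 0 a b = (0 : ℂ) from rfl, hR, hMR, hMR, if_pos ⟨1, one_smul _ _, one_smul _ _⟩] at hab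
    by_contra hno
    rw [if_neg] at hab
    · exact one_ne_zero (by linear_combination -hab)
    · rintro ⟨g, hga, hgb⟩
      exact hno ⟨g, hga, hgb⟩

end Cfsg.Agent.S0717
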