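import Cfsg.Statements.S0724
import Mathlib.GroupTheory.GroupAction.Quotient
import Mathlib.Tactic

set_option autoImplicit false
open Cfsg

namespace Cfsg.Agent.S0724

/-- Blichfeldt's Theorem: if a finite set `L` of natural numbers contains the number of fixed points of every non-identity element of a permutation group `G` of degree `n`, then the order of `G` divides `∏ (n - l)` over `l ∈ L`. -/
theorem result {α : Type*} [Fintype α] [DecidableEq α] (G : Subgroup (Equiv.Perm α)) (L : Finset ℕ) (hL : ∀ g ∈ G, g ≠ 1 → Nat.card (MulAction.fixedBy α g) ∈ L) : Nat.card G ∣ ∏ l ∈ L, (Fintype.card α - l) := by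
  classical
  have key : ∀ (L : List ℕ) (j : ℕ), (Nat.card G : ℤ) ∣ ∑ g : G,
      (Nat.card (MulAction.fixedBy α g) : ℤ) ^ j *
        (L.map fun l : ℕ => (Nat.card (MulAction.fixedBy α g) : ℤ) - (l : ℤ)).prod := by
    intro L
    induction L with
    | nil =>
      intro j
      refine ⟨(Nat.card (MulAction.orbitRel.Quotient G (Fin j → α)) : ℤ), ?_⟩
      let _ := Fintype.ofFinite (MulAction.orbitRel.Quotient G (Fin j → α))
      have h := MulAction.sum_card_fixedBy_eq_card_orbits_mul_card_group G (Fin j → α)
      have hfix : ∀ g : G, Nat.card (MulAction.fixedBy α g) ^ j =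
          Fintype.card (MulAction.fixedBy (Fin j → α) g) := by
        intro g
        conv_lhs => rw [← Nat.card_fin j]
        rw [← Nat.card_fun, ← Nat.card_eq_fintype_card]
        exact Nat.card_congr
          { toFun := fun f => ⟨fun i => f i, funext fun i => (f i).2⟩
            invFun := fun F i => ⟨F.1 i, congrFun F.2 i⟩
            left_inv := fun f => rfl
            right_inv := fun F => rfl }
      simp only [List.map_nil, List.prod_nil, mul_one]
      rw [← Nat.cast_mul]
      have : ∑ g : G, (Nat.card (MulAction.fixedBy α g) : ℤ) ^ j =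
          ((∑ g : G, Fintype.card (MulAction.fixedBy (Fin j → α) g) : ℕ) : ℤ) := by
        push_cast
        refine Finset.sum_congr rfl fun g _ => ?_
        rw [← hfix g]
        push_cast
        rfl
      rw [this, h, mul_comm, Nat.card_eq_fintype_card, Nat.card_eq_fintype_card]
    | cons l L ih =>
      intro j
      have h1 := dvd_sub (ih (j + 1)) ((ih j).mul_left (l : ℤ))
      rw [Finset.mul_sum, ← Finset.sum_sub_distrib] at h1
      refine (Finset.sum_congr rfl fun g _ => ?_).subst (motive := fun t => (Nat.card G : ℤ) ∣ t) h1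
      rw [List.map_cons, List.prod_cons]
      ring
  have hmain := key L.toList 0
  rw [Finset.sum_eq_single (1 : G)] at hmain
  · have hfix1 : Nat.card (MulAction.fixedBy α (1 : G)) = Fintype.card α := by
      rw [MulAction.fixedBy_one_eq_univ, Nat.card_univ, Nat.card_eq_fintype_card]
    rw [pow_zero, one_mul, hfix1] at hmain
    by_cases hle : ∀ l ∈ L, l ≤ Fintype.card α
    · have : ((L.toList.map fun l : ℕ => (Fintype.card α : ℤ) - (l : ℤ)).prod) =
          ((∏ l ∈ L, (Fintype.card α - l) : ℕ) : ℤ) := by
        rw [Finset.prod_map_toList, Nat.cast_prod]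
        exact Finset.prod_congr rfl fun l hl => by rw [Nat.cast_sub (hle l hl)]
      rw [this] at hmain
      exact_mod_cast hmain
    · push Not at hle
      obtain ⟨l, hl, hlt⟩ := hle
      rw [Finset.prod_eq_zero hl (by omega)]
      exact dvd_zero _
  · intro g _ hg
    have hl := hL g g.2 (fun h => hg (Subtype.ext h))
    rw [pow_zero, one_mul]
    refine List.prod_eq_zero (List.mem_map.2 ⟨_, Finset.mem_toList.2 hl, ?_⟩)
    exact sub_eq_zero.2 rfl
  · intro h
    exact absurd (Finset.mem_univ _) h

end Cfsg.Agent.S0724
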