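import Cfsg.Statements.S0726

set_option autoImplicit false
open Cfsg

namespace Cfsg.Agent.S0726

/-- The left and right regular permutation representations of a group are each other's centralisers in the symmetric group: the centraliser of the left regular image is the right regular image, and a transitive subgroup centralising the left regular image is the whole right regular image. -/
theorem result {G : Type*} [Group G] : Subgroup.centralizer ((MulAction.toPermHom G G).range : Set (Equiv.Perm G)) = (MulAction.toPermHom Gᵐᵒᵖ G).range ∧ ∀ H : Subgroup (Equiv.Perm G), H ≤ Subgroup.centralizer ((MulAction.toPermHom G G).range : Set (Equiv.Perm G)) → MulAction.IsPretransitive H G → H = (MulAction.toPermHom Gᵐᵒᵖ G).range := by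
  have key : ∀ σ : Equiv.Perm G,
      σ ∈ Subgroup.centralizer ((MulAction.toPermHom G G).range : Set (Equiv.Perm G)) ↔
        ∀ g x : G, σ (g * x) = g * σ x := by
    intro σ
    rw [Subgroup.mem_centralizer_iff]
    constructor
    · intro h g x
      exact (Equiv.ext_iff.1 (h _ ⟨g, rfl⟩) x).symm
    · rintro h _ ⟨g, rfl⟩
      ext x
      exact (h g x).symm
  have hmem : ∀ σ : Equiv.Perm G,
      σ ∈ Subgroup.centralizer ((MulAction.toPermHom G G).range : Set (Equiv.Perm G)) →
        σ = MulAction.toPermHom Gᵐᵒᵖ G (MulOpposite.op (σ 1)) := by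
    intro σ h
    ext x
    have := (key σ).1 h x 1
    rw [mul_one] at this
    exact this
  have heq : Subgroup.centralizer ((MulAction.toPermHom G G).range : Set (Equiv.Perm G)) =
      (MulAction.toPermHom Gᵐᵒᵖ G).range := by
    apply le_antisymm
    · intro σ h
      exact ⟨_, (hmem σ h).symm⟩
    · rintro _ ⟨a, rfl⟩
      rw [key]
      intro g x
      exact mul_assoc g x a.unop
  refine ⟨heq, fun H hH htr => le_antisymm (hH.trans heq.le) ?_⟩
  rintro _ ⟨a, rfl⟩
  obtain ⟨⟨h, hh⟩, hha⟩ := MulAction.exists_smul_eq H (1 : G) a.unop
  have h1 := hmem h (hH hh)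
  have h2 : h 1 = a.unop := hha
  rw [h2, MulOpposite.op_unop] at h1
  exact h1 ▸ hh

end Cfsg.Agent.S0726
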