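import Cfsg.Statements.S0727
import Cfsg.Agent.Lib.Perm.SharplyThree

set_option autoImplicit false
open Cfsg

namespace Cfsg.Agent.S0727

/-- A sharply triply transitive permutation group of degree `2^f + 1` is isomorphic to the projective general linear group of degree 2 over the field with `2^f` elements. -/
theorem result {α : Type*} [Fintype α] [DecidableEq α] {f : ℕ} (hf : 1 ≤ f) (hα : Fintype.card α = 2 ^ f + 1) (G : Subgroup (Equiv.Perm α)) (h3 : MulAction.IsMultiplyPretransitive G α 3) (hsharp : ∀ x : Fin 3 ↪ α, MulAction.stabilizer G x = ⊥) : ∃ (F : Type) (_ : Field F) (_ : Fintype F), Fintype.card F = 2 ^ f ∧ Nonempty (G ≃* Matrix.ProjGenLinGroup (Fin 2) F) := by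
  classical
  have hcard3 : 2 < Fintype.card α := by
    have : 2 ≤ 2 ^ f := Nat.le_self_pow (by omega) 2
    omega
  obtain ⟨a, b, c, hab, hac, hbc⟩ := Fintype.two_lt_card_iff.1 hcard3
  obtain ⟨s, hsa, hsb, hsc⟩ := CfsgLib.Perm.SharplyThree.exists_triple h3 hab hac hbc hab.symm hbc hac
  have hs2 : s * s = 1 := CfsgLib.Perm.SharplyThree.eq_one_of_fix hsharp hab hac hbc
    (by rw [mul_smul, hsa, hsb]) (by rw [mul_smul, hsb, hsa]) (by rw [mul_smul, hsc, hsc])
  -- `s` fixes no further point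
  have hsfix : ∀ x : α, s • x = x → x = c := by
    intro x hx
    by_contra hxc
    have hset : {y : α | s • y = y} = {c, x} := by
      ext y
      simp only [Set.mem_ofPred_eq, Set.mem_insert_iff, Set.mem_singleton_iff]
      refine ⟨fun hy => ?_, fun h => ?_⟩
      · by_contra hcon
        push Not at hcon
        have : s = 1 := CfsgLib.Perm.SharplyThree.eq_one_of_fix hsharp (Ne.symm hxc) (Ne.symm hcon.1)
          (Ne.symm hcon.2) hsc hx hy
        rw [this, one_smul] at hsa
        exact hab hsa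
      · rcases h with rfl | rfl <;> assumption
    let σ : Equiv.Perm α := MulAction.toPermHom G α s
    have hσ : σ ^ 2 ^ 1 = 1 := by rw [pow_one, sq, ← map_mul, hs2, map_one]
    have h1 := Equiv.Perm.card_compl_support_modEq (p := 2) (hp := ⟨Nat.prime_two⟩) hσ
    have h2 : (σ.support)ᶜ.card = 2 := by
      rw [← Set.ncard_pair (Ne.symm hxc), ← hset, Set.ncard_eq_toFinset_card']
      congr 1
      ext y
      simp [σ]
    rw [h2, hα, Nat.ModEq, Nat.add_mod, Nat.pow_mod] at h1
    simp [show f ≠ 0 by omega] at h1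
  let H : Subgroup G := MulAction.stabilizer G a ⊓ MulAction.stabilizer G b
  have hconj : ∀ h : H, s * (h : G) * s⁻¹ ∈ H := by
    intro h
    have e1 : s⁻¹ • a = b := inv_smul_eq_iff.2 hsb.symm
    have e2 : s⁻¹ • b = a := inv_smul_eq_iff.2 hsa.symm
    refine ⟨?_, ?_⟩
    · show (s * (h : G) * s⁻¹) • a = a
      rw [mul_smul, mul_smul, e1, h.2.2, hsb]
    · show (s * (h : G) * s⁻¹) • b = b
      rw [mul_smul, mul_smul, e2, h.2.1, hsa]
  -- the automorphism of `H` has no fixed point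
  let ψ : H → H := fun h => ⟨(h : G)⁻¹ * (s * (h : G) * s⁻¹), H.mul_mem (H.inv_mem h.2) (hconj h)⟩
  have hψ : Function.Bijective ψ := by
    refine (Finite.injective_iff_bijective).1 fun h k e => ?_
    have e' : (h : G)⁻¹ * (s * (h : G) * s⁻¹) = (k : G)⁻¹ * (s * (k : G) * s⁻¹) := congrArg Subtype.val e
    set d := (k : G) * (h : G)⁻¹ with hd
    have hds : s * d * s⁻¹ = d := by
      calc s * d * s⁻¹ = (s * (k : G) * s⁻¹) * (s * (h : G) * s⁻¹)⁻¹ := by rw [hd]; group
        _ = ((k : G) * ((k : G)⁻¹ * (s * (k : G) * s⁻¹))) * ((h : G) * ((h : G)⁻¹ * (s * (h : G) * s⁻¹)))⁻¹ := by group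
        _ = d := by rw [← e', hd]; group
    have hdH : d ∈ H := H.mul_mem k.2 (H.inv_mem h.2)
    have hdc : d • c = c := hsfix _ (by
      rw [mul_inv_eq_iff_eq_mul] at hds
      rw [← mul_smul, hds, mul_smul, hsc])
    have : d = 1 := CfsgLib.Perm.SharplyThree.eq_one_of_fix hsharp hab hac hbc hdH.1 hdH.2 hdc
    exact Subtype.ext (mul_inv_eq_one.1 this).symm
  have hinv : ∀ h : G, h • a = a → h • b = b → s * h * s⁻¹ = h⁻¹ := by
    intro h ha hb
    obtain ⟨x, hx⟩ := hψ.2 ⟨h, ha, hb⟩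
    have hx' : (x : G)⁻¹ * (s * (x : G) * s⁻¹) = h := congrArg Subtype.val hx
    have hsinv : s⁻¹ = s := inv_eq_of_mul_eq_one_right hs2
    rw [← hx', hsinv]
    calc s * ((x : G)⁻¹ * (s * (x : G) * s)) * s = s * (x : G)⁻¹ * s * (x : G) * (s * s) := by group
      _ = s * (x : G)⁻¹ * s * (x : G) := by rw [hs2, mul_one]
      _ = ((x : G)⁻¹ * (s * (x : G) * s))⁻¹ := by rw [mul_inv_rev, mul_inv_rev, mul_inv_rev, inv_inv, hsinv]; group
  have hcomm : ∀ h k : G, h • a = a → h • b = b → k • a = a → k • b = b → h * k = k * h := by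
    intro h k ha hb ka kb
    have e := hinv (h * k) (by rw [mul_smul, ka, ha]) (by rw [mul_smul, kb, hb])
    have e2 : s * (h * k) * s⁻¹ = (s * h * s⁻¹) * (s * k * s⁻¹) := by group
    rw [e2, hinv h ha hb, hinv k ka kb, mul_inv_rev] at e
    calc h * k = h * (k * (h⁻¹ * k⁻¹) * (k * h)) := by group
      _ = h * (k * (k⁻¹ * h⁻¹) * (k * h)) := by rw [e]
      _ = k * h := by group
  obtain ⟨p, j, hp, hpj, ⟨e⟩⟩ := CfsgLib.Perm.SharplyThree.iso_pgl h3 hsharp hab hac hbc hsa hsb hsc hcomm hinv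
  let _ := Fintype.ofFinite (GaloisField p j)
  refine ⟨GaloisField p j, inferInstance, inferInstance, ?_, ⟨e⟩⟩
  have hj : j ≠ 0 := fun h => by
    rw [h, pow_zero] at hpj
    omega
  rw [← Nat.card_eq_fintype_card, GaloisField.card p j hj]
  omega

end Cfsg.Agent.S0727
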