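import Cfsg.Statements.S0728
import Mathlib.GroupTheory.GroupAction.MultipleTransitivity
import Mathlib.GroupTheory.PGroup
import Mathlib.Data.Fintype.CardEmbedding
import Mathlib.Tactic

set_option autoImplicit false
open Cfsg

namespace Cfsg.Agent.S0728

/-- Two distinct points as an embedding. -/
def emb2 {α : Type*} (x y : α) (h : x ≠ y) : Fin 2 ↪ α :=
  ⟨![x, y], fun i j hij => by
    fin_cases i <;> fin_cases j
    · rfl
    · exact absurd hij h
    · exact absurd hij.symm h
    · rfl⟩

/-- Three distinct points as an embedding. -/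
def emb3 {α : Type*} (x y z : α) (hxy : x ≠ y) (hxz : x ≠ z) (hyz : y ≠ z) : Fin 3 ↪ α :=
  ⟨![x, y, z], fun i j hij => by
    fin_cases i <;> fin_cases j
    · rfl
    · exact absurd hij hxy
    · exact absurd hij hxz
    · exact absurd hij.symm hxy
    · rfl
    · exact absurd hij hyz
    · exact absurd hij.symm hxz
    · exact absurd hij.symm hyz
    · rfl⟩

/-- In a sharply triply transitive group of even degree at least 6 (degree `q + 1`, `q` odd), a two-point stabiliser has at most one subgroup of order 3. -/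
theorem result {α : Type*} [Fintype α] [DecidableEq α] (heven : Even (Fintype.card α)) (h6 : 6 ≤ Fintype.card α) (G : Subgroup (Equiv.Perm α)) (h3 : MulAction.IsMultiplyPretransitive G α 3) (hsharp : ∀ x : Fin 3 ↪ α, MulAction.stabilizer G x = ⊥) {a b : α} (hab : a ≠ b) (A B : Subgroup G) (hA : A ≤ MulAction.stabilizer G a ⊓ MulAction.stabilizer G b) (hB : B ≤ MulAction.stabilizer G a ⊓ MulAction.stabilizer G b) (hA3 : Nat.card A = 3) (hB3 : Nat.card B = 3) : A = B := by
  classical
  have h3' := MulAction.isMultiplyPretransitive_iff.1 h3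
  set n := Fintype.card α with hn
  -- only the identity fixes three points
  have hfix3 : ∀ (g : G) (x y z : α), x ≠ y → x ≠ z → y ≠ z →
      g • x = x → g • y = y → g • z = z → g = 1 := by
    intro g x y z hxy hxz hyz hx hy hz
    let e : Fin 3 ↪ α := emb3 x y z hxy hxz hyz
    have : g ∈ MulAction.stabilizer G e := Function.Embedding.ext fun i => by
      fin_cases i
      · exact hx
      · exact hy
      · exact hz
    rwa [hsharp e, Subgroup.mem_bot] at this
  let O := {g : G // orderOf g = 3}
  have : Fact (Nat.Prime 3) := ⟨Nat.prime_three⟩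
  -- the generator of A
  obtain ⟨u₀, hu₀⟩ := exists_prime_orderOf_dvd_card' (G := A) 3 hA3.symm.dvd
  have hu₀' : orderOf (u₀ : G) = 3 := by rw [Subgroup.orderOf_coe, hu₀]
  have hfp : ∀ g : G, orderOf g = 3 →
      Fintype.card α % 3 = Nat.card (MulAction.fixedBy α g) % 3 ∧ Nat.card (MulAction.fixedBy α g) ≤ 2 := by
    intro g hg
    constructor
    · have hp : IsPGroup 3 (Subgroup.zpowers g) :=
        IsPGroup.of_card (n := 1) (by rw [pow_one, Nat.card_zpowers, hg])
      have h := hp.card_modEq_card_fixedPoints α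
      rw [Nat.card_eq_fintype_card] at h
      refine Eq.trans h ?_
      congr 1
      apply Nat.card_congr
      apply Equiv.setCongr
      ext x
      constructor
      · intro hx
        exact hx ⟨g, Subgroup.mem_zpowers g⟩
      · rintro hx ⟨v, hv⟩
        exact (Subgroup.zpowers_le.2 (show g ∈ MulAction.stabilizer G x from hx)) hv
    · by_contra hlt
      push Not at hlt
      rw [Nat.card_coe_set_eq, Set.two_lt_ncard_iff] at hlt
      obtain ⟨x, y, z, hx, hy, hz, hxy, hxz, hyz⟩ := hlt
      have := hfix3 g x y z hxy hxz hyz hx hy hz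
      rw [this, orderOf_one] at hg
      omega
  have hn3 : n % 3 = 2 := by
    obtain ⟨h1, h2⟩ := hfp _ hu₀'
    have h0 := hA u₀.2
    have : 2 ≤ Nat.card (MulAction.fixedBy α (u₀ : G)) := by
      rw [Nat.card_coe_set_eq, ← Set.ncard_pair hab]
      refine Set.ncard_le_ncard ?_
      rintro x (rfl | rfl)
      · exact h0.1
      · exact h0.2
    omega
  have htwo : ∀ g : O, Nat.card (MulAction.fixedBy α g.1) = 2 := by
    intro g
    obtain ⟨h1, h2⟩ := hfp g.1 g.2
    omega
  -- ordered distinct triples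
  let Tr := Fin 3 ↪ α
  let rot : Tr → Tr := fun e => (finRotate 3).toEmbedding.trans e
  have hex : ∀ e : Tr, ∃! g : G, g • e = rot e := by
    intro e
    obtain ⟨g, hg⟩ := h3' e (rot e)
    refine ⟨g, hg, fun k hk => ?_⟩
    have : g⁻¹ * k ∈ MulAction.stabilizer G e := by
      rw [MulAction.mem_stabilizer_iff, mul_smul]
      exact inv_smul_eq_iff.2 (hk.trans hg.symm)
    rw [hsharp e, Subgroup.mem_bot, inv_mul_eq_one] at this
    exact this.symm
  choose γ hγ hγu using hex
  have hcyc : ∀ e : Tr, γ e • e 0 = e 1 ∧ γ e • e 1 = e 2 ∧ γ e • e 2 = e 0 := by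
    intro e
    have h := fun i => congrArg (fun f : Tr => f i) (hγ e)
    exact ⟨h 0, h 1, h 2⟩
  have hne : ∀ (e : Tr) (i j : Fin 3), i ≠ j → e i ≠ e j := fun e i j h he => h (e.injective he)
  have hγ3 : ∀ e : Tr, orderOf (γ e) = 3 := by
    intro e
    obtain ⟨h0, h1, h2⟩ := hcyc e
    refine orderOf_eq_prime ?_ ?_
    · refine hfix3 _ (e 0) (e 1) (e 2) (hne e 0 1 (by decide)) (hne e 0 2 (by decide))
        (hne e 1 2 (by decide)) ?_ ?_ ?_ <;>
        simp only [pow_succ, pow_zero, one_mul, mul_smul, h0, h1, h2]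
    · intro h
      rw [h, one_smul] at h0
      exact hne e 0 1 (by decide) h0
  let e₁ : Tr ≃ Σ g : O, {x : α // g.1 • x ≠ x} :=
  { toFun := fun e => ⟨⟨γ e, hγ3 e⟩, e 0, by
      rw [(hcyc e).1]; exact hne e 1 0 (by decide)⟩
    invFun := fun q => emb3 q.2.1 (q.1.1 • q.2.1) (q.1.1 • q.1.1 • q.2.1)
      (fun h => q.2.2 h.symm)
      (fun h => q.2.2 (by
        have hg3 : q.1.1 • q.1.1 • q.1.1 • q.2.1 = q.2.1 := by
          have h3 := pow_orderOf_eq_one q.1.1
          rw [q.1.2] at h3
          rw [← mul_smul, ← mul_smul, ← pow_three', h3, one_smul]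
        rw [← h] at hg3
        exact hg3))
      (fun h => q.2.2 (MulAction.injective q.1.1 h.symm))
    left_inv := fun e => by
      obtain ⟨h0, h1, h2⟩ := hcyc e
      apply Function.Embedding.ext
      intro i
      fin_cases i
      · rfl
      · exact h0
      · show γ e • γ e • e 0 = e 2
        rw [h0, h1]
    right_inv := fun q => by
      obtain ⟨⟨g, hg⟩, x, hx⟩ := q
      have hg3 : g • g • g • x = x := by
        rw [← mul_smul, ← mul_smul, ← pow_three', ← hg, pow_orderOf_eq_one, one_smul]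
      refine Sigma.subtype_ext (Subtype.ext ?_) rfl
      refine (hγu _ g (Function.Embedding.ext fun i => ?_)).symm
      fin_cases i
      · rfl
      · rfl
      · exact hg3 }
  let e₂ : (Σ g : O, {x : α // g.1 • x ≠ x}) ≃ {p : O × α // p.1.1 • p.2 ≠ p.2} :=
  { toFun := fun q => ⟨(q.1, q.2.1), q.2.2⟩
    invFun := fun p => ⟨p.1.1, p.1.2, p.2⟩
    left_inv := fun q => rfl
    right_inv := fun p => rfl }
  have hcount : Nat.card O * (n - 2) = n * (n - 1) * (n - 2) := by
    let _ := Fintype.ofFinite O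
    have h1 := Nat.card_congr e₁
    rw [Nat.card_sigma] at h1
    have h2 : ∀ g : O, Nat.card {x : α // g.1 • x ≠ x} = n - 2 := by
      intro g
      rw [Nat.card_eq_fintype_card, Fintype.card_subtype_compl, ← Nat.card_eq_fintype_card
        (α := {x // g.1 • x = x})]
      exact congrArg (n - ·) (htwo g)
    rw [Finset.sum_congr rfl (fun g _ => h2 g), Finset.sum_const, Finset.card_univ, smul_eq_mul,
      ← Nat.card_eq_fintype_card, Nat.card_eq_fintype_card (α := Tr), Fintype.card_embedding_eq,
      Fintype.card_fin] at h1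
    simp only [Nat.descFactorial] at h1
    rw [← h1, ← hn]
    simp only [mul_one, Nat.sub_zero]
    ring
  have hO : Nat.card O = n * (n - 1) := Nat.eq_of_mul_eq_mul_right (by omega) hcount
  -- pairs of fixed points
  let P := Fin 2 ↪ α
  let O₂ : P → Type _ := fun q => {g : O // g.1 • q 0 = q 0 ∧ g.1 • q 1 = q 1}
  let e₃ : (Σ g : O, Fin 2 ↪ MulAction.fixedBy α g.1) ≃ Σ q : P, O₂ q :=
  { toFun := fun s => ⟨s.2.trans (Function.Embedding.subtype _), s.1, (s.2 0).2, (s.2 1).2⟩
    invFun := fun s => ⟨s.2.1, ⟨fun i => ⟨s.1 i, by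
        fin_cases i
        · exact s.2.2.1
        · exact s.2.2.2⟩, fun i j h => s.1.injective (congrArg Subtype.val h)⟩⟩
    left_inv := fun s => rfl
    right_inv := fun s => rfl }
  let q₀ : P := emb2 a b hab
  have hsame : ∀ q : P, Nat.card (O₂ q) = Nat.card (O₂ q₀) := by
    intro q
    have h2' : MulAction.IsMultiplyPretransitive G α 2 :=
      MulAction.isMultiplyPretransitive_of_le (n := 3) (by norm_num)
        (by rw [Nat.card_eq_fintype_card]; omega)
    rw [MulAction.isMultiplyPretransitive_iff] at h2'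
    obtain ⟨c, hc⟩ := h2' q q₀
    have hc0 : c • q 0 = q₀ 0 := congrArg (fun f : P => f 0) hc
    have hc1 : c • q 1 = q₀ 1 := congrArg (fun f : P => f 1) hc
    have hord : ∀ (d : G) (g : G), orderOf (d * g * d⁻¹) = orderOf g := fun d g =>
      orderOf_injective (MulAut.conj d).toMonoidHom (MulAut.conj d).injective g
    exact Nat.card_congr
      { toFun := fun g => ⟨⟨c * g.1.1 * c⁻¹, by rw [hord]; exact g.1.2⟩,
          by simp only [mul_smul]; rw [inv_smul_eq_iff.2 hc0.symm, g.2.1, hc0],
          by simp only [mul_smul]; rw [inv_smul_eq_iff.2 hc1.symm, g.2.2, hc1]⟩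
        invFun := fun g => ⟨⟨c⁻¹ * g.1.1 * c⁻¹⁻¹, by rw [hord]; exact g.1.2⟩,
          by simp only [inv_inv, mul_smul]; rw [hc0, g.2.1, inv_smul_eq_iff.2 hc0.symm],
          by simp only [inv_inv, mul_smul]; rw [hc1, g.2.2, inv_smul_eq_iff.2 hc1.symm]⟩
        left_inv := fun g => Subtype.ext (Subtype.ext (by simp [mul_assoc]))
        right_inv := fun g => Subtype.ext (Subtype.ext (by simp [mul_assoc])) }
  have hk : Nat.card (O₂ q₀) = 2 := by
    let _ := Fintype.ofFinite O
    have h := Nat.card_congr e₃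
    rw [Nat.card_sigma, Nat.card_sigma] at h
    have h1 : ∀ g : O, Nat.card (Fin 2 ↪ MulAction.fixedBy α g.1) = 2 := by
      intro g
      let _ := Fintype.ofFinite (MulAction.fixedBy α g.1)
      rw [Nat.card_eq_fintype_card, Fintype.card_embedding_eq, Fintype.card_fin,
        ← Nat.card_eq_fintype_card, htwo g]
      rfl
    rw [Finset.sum_congr rfl (fun g _ => h1 g), Finset.sum_congr rfl (fun q _ => hsame q),
      Finset.sum_const, Finset.sum_const, Finset.card_univ, Finset.card_univ, smul_eq_mul,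
      smul_eq_mul, ← Nat.card_eq_fintype_card, hO, Fintype.card_embedding_eq, Fintype.card_fin] at h
    simp only [Nat.descFactorial, mul_one, Nat.sub_zero, ← hn] at h
    have hpos : 0 < n * (n - 1) := Nat.mul_pos (by omega) (by omega)
    refine (Nat.eq_of_mul_eq_mul_left hpos ?_).symm
    rw [h, mul_comm n (n - 1)]
  -- the non-trivial elements of a subgroup of order three exhaust them
  have hall : ∀ C : Subgroup G, C ≤ MulAction.stabilizer G a ⊓ MulAction.stabilizer G b →
      Nat.card C = 3 → ∀ g : O₂ q₀, g.1.1 ∈ C := by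
    intro C hC hC3
    obtain ⟨w, hw⟩ := exists_prime_orderOf_dvd_card' (G := C) 3 hC3.symm.dvd
    have hw' : orderOf (w : G) = 3 := by rw [Subgroup.orderOf_coe, hw]
    let f : {w : C // w ≠ 1} → O₂ q₀ := fun w => ⟨⟨(w.1 : G), by
      rcases (Nat.dvd_prime Nat.prime_three).1
        ((Subgroup.orderOf_coe w.1).symm ▸ hC3 ▸ orderOf_dvd_natCard w.1) with h | h
      · exact absurd (Subtype.ext (orderOf_eq_one_iff.1 h)) w.2
      · exact h⟩, (hC w.1.2).1, (hC w.1.2).2⟩
    have hf : Function.Injective f := fun u v h =>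
      Subtype.ext (Subtype.ext (congrArg (fun z : O₂ q₀ => z.1.1) h))
    have hbij : Function.Bijective f := (Nat.bijective_iff_injective_and_card f).2 ⟨hf, by
      let _ := Fintype.ofFinite C
      rw [hk, Nat.card_eq_fintype_card, Fintype.card_subtype_compl, Fintype.card_subtype_eq,
        ← Nat.card_eq_fintype_card, hC3]⟩
    intro g
    obtain ⟨u, hu⟩ := hbij.2 g
    rw [← hu]
    exact u.1.2
  apply Subgroup.eq_of_le_of_card_ge _ (by rw [hA3, hB3])
  intro x hx
  by_cases hx1 : x = 1
  · rw [hx1]; exact one_mem _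
  refine hall B hB hB3 ⟨⟨x, ?_⟩, (hA hx).1, (hA hx).2⟩
  rcases (Nat.dvd_prime Nat.prime_three).1
    ((Subgroup.orderOf_coe (⟨x, hx⟩ : A)).symm ▸ hA3 ▸ orderOf_dvd_natCard (⟨x, hx⟩ : A)) with h | h
  · exact absurd (orderOf_eq_one_iff.1 h) hx1
  · exact h

end Cfsg.Agent.S0728
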