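import Cfsg.Statements.S0729
import Cfsg.Agent.Lib.Perm.SharplyThreeEven

set_option autoImplicit false
open Cfsg

namespace Cfsg.Agent.S0729

/-- In a sharply triply transitive group of even degree at least 6, the two-point stabiliser `H = G_{a,b}` has a normal subgroup of index 2 that is normalised by the element `s` interchanging `a, b` and fixing a third point `c`. -/
theorem result {α : Type*} [Fintype α] [DecidableEq α] (heven : Even (Fintype.card α)) (h6 : 6 ≤ Fintype.card α) (G : Subgroup (Equiv.Perm α)) (h3 : MulAction.IsMultiplyPretransitive G α 3) (hsharp : ∀ x : Fin 3 ↪ α, MulAction.stabilizer G x = ⊥) {a b c : α} (hab : a ≠ b) (hac : a ≠ c) (hbc : b ≠ c) (s : G) (hsa : s • a = b) (hsb : s • b = a) (hsc : s • c = c) : ∃ N : Subgroup G, N ≤ MulAction.stabilizer G a ⊓ MulAction.stabilizer G b ∧ (N.subgroupOf (MulAction.stabilizer G a ⊓ MulAction.stabilizer G b)).Normal ∧ N.relIndex (MulAction.stabilizer G a ⊓ MulAction.stabilizer G b) = 2 ∧ ∀ n ∈ N, s * n * s⁻¹ ∈ N := by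
  have hex := CfsgLib.Perm.SharplyThree.exists_invariant_char h3 hsharp heven hab hac hbc hsa hsb hsc
  set H := MulAction.stabilizer G a ⊓ MulAction.stabilizer G b with hH
  obtain ⟨χ, ⟨x, hx⟩, hχ⟩ := hex
  have hsub : (χ.ker.map H.subtype).subgroupOf H = χ.ker :=
    Subgroup.comap_map_eq_self_of_injective H.subtype_injective _
  refine ⟨χ.ker.map H.subtype, Subgroup.map_subtype_le _, ?_, ?_, ?_⟩
  · rw [hsub]
    exact χ.normal_ker
  · show ((χ.ker.map H.subtype).subgroupOf H).index = 2
    rw [hsub, Subgroup.index_ker]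
    have hr : χ.range = ⊤ := by
      rw [eq_top_iff]
      intro u _
      rcases Int.units_eq_one_or u with rfl | rfl
      · exact one_mem _
      · exact ⟨x, hx⟩
    rw [hr, Subgroup.card_top, Nat.card_eq_fintype_card, Fintype.card_units_int]
  · rintro _ ⟨n, hn, rfl⟩
    have hmem : s * (n : G) * s⁻¹ ∈ H := by
      refine ⟨?_, ?_⟩
      · show (s * (n : G) * s⁻¹) • a = a
        rw [mul_smul, mul_smul, inv_smul_eq_iff.2 hsb.symm, show (n : G) • b = b from n.2.2, hsb]
      · show (s * (n : G) * s⁻¹) • b = b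
        rw [mul_smul, mul_smul, inv_smul_eq_iff.2 hsa.symm, show (n : G) • a = a from n.2.1, hsa]
    exact ⟨⟨_, hmem⟩, (hχ n ⟨_, hmem⟩ rfl).trans hn, rfl⟩

end Cfsg.Agent.S0729
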