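import Cfsg.Statements.S0733
import Mathlib.GroupTheory.GroupAction.Primitive
import Mathlib.Algebra.Module.ZMod
import Mathlib.Tactic

set_option autoImplicit false
open Cfsg

namespace Cfsg.Agent.S0733

/-- A permutation group of affine type — generated by the translations of a finite vector space `V` over `ZMod p` together with a group `G₀` of linear automorphisms — is primitive on `V` if and only if `G₀` is irreducible on `V`. -/
theorem result {p : ℕ} [Fact p.Prime] {V : Type*} [AddCommGroup V] [Module (ZMod p) V] [Finite V] [Nontrivial V] (G₀ : Subgroup (V ≃ₗ[ZMod p] V)) (G : Subgroup (Equiv.Perm V)) (hG : ∀ σ : Equiv.Perm V, σ ∈ G ↔ ∃ g ∈ G₀, ∃ b : V, ∀ x : V, σ x = (g : V ≃ₗ[ZMod p] V) x + b) : MulAction.IsPreprimitive G V ↔ ∀ W : Submodule (ZMod p) V, (∀ g ∈ G₀, ∀ v ∈ W, (g : V ≃ₗ[ZMod p] V) v ∈ W) → W = ⊥ ∨ W = ⊤ := by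
  classical
  have hmemT : ∀ b : V, Equiv.addRight b ∈ G := fun b =>
    (hG _).2 ⟨1, one_mem _, b, fun x => by simp⟩
  have htr : MulAction.IsPretransitive G V := ⟨fun x y =>
    ⟨⟨Equiv.addRight (-x + y), hmemT _⟩, add_neg_cancel_left x y⟩⟩
  constructor
  · intro hprim W hW
    have hblock : MulAction.IsBlock G (W : Set V) := by
      rw [MulAction.isBlock_iff_smul_eq_of_mem]
      intro σ x hx hσx
      obtain ⟨g, hg, b, hb⟩ := (hG _).1 σ.2
      have hσ : ∀ z, σ • z = (g : V ≃ₗ[ZMod p] V) z + b := hb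
      have hbW : b ∈ W := by
        have h1 : (g : V ≃ₗ[ZMod p] V) x + b ∈ W := hσ x ▸ hσx
        have h2 := W.sub_mem h1 (hW g hg x hx)
        simpa using h2
      ext z
      constructor
      · rintro ⟨y, hy, rfl⟩
        show σ • y ∈ W
        rw [hσ]
        exact W.add_mem (hW g hg y hy) hbW
      · intro hz
        refine ⟨σ⁻¹ • z, ?_, smul_inv_smul σ z⟩
        have h1 : (g : V ≃ₗ[ZMod p] V) (σ⁻¹ • z) + b = z := by rw [← hσ, smul_inv_smul]
        have h2 : σ⁻¹ • z = (g⁻¹ : V ≃ₗ[ZMod p] V) (z - b) := by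
          show σ⁻¹ • z = (g : V ≃ₗ[ZMod p] V).symm (z - b)
          rw [LinearEquiv.eq_symm_apply, eq_sub_iff_add_eq]
          exact h1
        rw [SetLike.mem_coe, h2]
        exact hW g⁻¹ (inv_mem hg) _ (W.sub_mem hz hbW)
    rcases hprim.isTrivialBlock_of_isBlock hblock with hs | hu
    · left
      rw [Submodule.eq_bot_iff]
      exact fun x hx => hs hx W.zero_mem
    · right
      exact SetLike.coe_injective (by simpa using hu)
  · intro hirr
    refine MulAction.IsPreprimitive.of_isTrivialBlock_base (0 : V) fun {B} h0 hB => ?_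
    have hB' := MulAction.isBlock_iff_smul_eq_of_mem.1 hB
    have hT : ∀ b ∈ B, ∀ x, x + b ∈ B ↔ x ∈ B := by
      intro b hb x
      have := hB' (g := (⟨Equiv.addRight b, hmemT b⟩ : G)) h0
        (show ((0 : V) + b) ∈ B by rw [zero_add]; exact hb)
      constructor
      · intro hx
        rw [← this] at hx
        obtain ⟨y, hy, hyx⟩ := hx
        have : y + b = x + b := hyx
        rwa [← add_right_cancel this]
      · intro hx
        rw [← this]
        exact ⟨x, hx, rfl⟩
    let A : AddSubgroup V :=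
      { carrier := B
        add_mem' := fun {x y} hx hy => (hT y hy x).2 hx
        zero_mem' := h0
        neg_mem' := fun {x} hx => (hT x hx (-x)).1 (by rw [neg_add_cancel]; exact h0) }
    let W : Submodule (ZMod p) V := AddSubgroup.toZModSubmodule p A
    have hW : ∀ g ∈ G₀, ∀ v ∈ W, (g : V ≃ₗ[ZMod p] V) v ∈ W := by
      intro g hg v hv
      have hm : (g : V ≃ₗ[ZMod p] V).toEquiv ∈ G := (hG _).2 ⟨g, hg, 0, fun x => by simp⟩
      have := hB' (g := (⟨_, hm⟩ : G)) h0 (show (g : V ≃ₗ[ZMod p] V) 0 ∈ B by rw [map_zero]; exact h0)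
      show (g : V ≃ₗ[ZMod p] V) v ∈ B
      rw [← this]
      exact ⟨v, hv, rfl⟩
    rcases hirr W hW with h | h
    · left
      intro x hx y hy
      have hx' : x ∈ W := hx
      have hy' : y ∈ W := hy
      rw [h, Submodule.mem_bot] at hx' hy'
      rw [hx', hy']
    · right
      refine Set.eq_univ_of_forall fun x => ?_
      have : x ∈ W := h ▸ Submodule.mem_top
      exact this

end Cfsg.Agent.S0733
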