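import Cfsg.Statements.S0734
import Mathlib.GroupTheory.GroupAction.Primitive
import Mathlib.Combinatorics.SimpleGraph.Connectivity.Connected

set_option autoImplicit false
open Cfsg

namespace Cfsg.Agent.S0734

/-- Higman's criterion for primitivity: a transitive action on a finite set is primitive if and only if every non-trivial orbital graph (edges = images of a fixed pair of distinct points) is connected. -/
theorem result {G : Type*} [Group G] {Ω : Type*} [Finite Ω] [MulAction G Ω] [MulAction.IsPretransitive G Ω] [Nontrivial Ω] : MulAction.IsPreprimitive G Ω ↔ ∀ a b : Ω, a ≠ b → (SimpleGraph.fromRel fun x y : Ω => ∃ g : G, g • a = x ∧ g • b = y).Connected := by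
  classical
  constructor
  · intro hprim a b hab
    set Gr := SimpleGraph.fromRel fun x y : Ω => ∃ g : G, g • a = x ∧ g • b = y with hGr
    have hadj : ∀ (g : G) (x y : Ω), Gr.Adj x y → Gr.Adj (g • x) (g • y) := by
      intro g x y h
      rw [hGr, SimpleGraph.fromRel_adj] at h ⊢
      refine ⟨fun he => h.1 (MulAction.injective g he), ?_⟩
      rcases h.2 with ⟨k, hk1, hk2⟩ | ⟨k, hk1, hk2⟩
      · exact Or.inl ⟨g * k, by rw [mul_smul, hk1], by rw [mul_smul, hk2]⟩
      · exact Or.inr ⟨g * k, by rw [mul_smul, hk1], by rw [mul_smul, hk2]⟩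
    have hreach : ∀ (g : G) (x y : Ω), Gr.Reachable x y → Gr.Reachable (g • x) (g • y) := by
      intro g x y h
      exact h.map (⟨fun z => g • z, hadj g _ _⟩ : Gr →g Gr)
    have hab' : Gr.Adj a b := by
      rw [hGr, SimpleGraph.fromRel_adj]
      exact ⟨hab, Or.inl ⟨1, one_smul _ _, one_smul _ _⟩⟩
    have hblock : MulAction.IsBlock G {y | Gr.Reachable a y} := by
      rw [MulAction.isBlock_iff_smul_eq_of_mem]
      intro g x hx hgx
      have h1 : Gr.Reachable a (g • a) :=
        (show Gr.Reachable a (g • x) from hgx).trans (hreach g x a (SimpleGraph.Reachable.symm hx))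
      ext y
      rw [Set.mem_smul_set_iff_inv_smul_mem]
      constructor
      · intro h
        have := hreach g _ _ h
        rw [smul_inv_smul] at this
        exact h1.trans this
      · intro h
        show Gr.Reachable a (g⁻¹ • y)
        have h2 : Gr.Reachable (g • a) y := h1.symm.trans h
        have := hreach g⁻¹ _ _ h2
        rwa [inv_smul_smul] at this
    refine (SimpleGraph.connected_iff_exists_forall_reachable _).2 ⟨a, fun y => ?_⟩
    rcases hprim.isTrivialBlock_of_isBlock hblock with hs | hu
    · exact absurd (hs (show a ∈ {y | Gr.Reachable a y} from SimpleGraph.Reachable.refl _)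
        (show b ∈ {y | Gr.Reachable a y} from hab'.reachable)) hab
    · exact (hu ▸ Set.mem_univ y : y ∈ {y | Gr.Reachable a y})
  · intro h
    obtain ⟨a⟩ := (inferInstance : Nonempty Ω)
    refine MulAction.IsPreprimitive.of_isTrivialBlock_base a fun {B} haB hB => ?_
    by_cases hs : B.Subsingleton
    · exact Or.inl hs
    right
    obtain ⟨b, hbB, hba⟩ := (Set.not_subsingleton_iff.1 hs).exists_ne a
    obtain ⟨hconn⟩ := h a b (Ne.symm hba)
    refine Set.eq_univ_of_forall fun y => ?_
    obtain ⟨w⟩ := hconn a y
    suffices H : ∀ u v (_ : (SimpleGraph.fromRel fun x y : Ω => ∃ g : G, g • a = x ∧ g • b = y).Walk u v),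
        u ∈ B → v ∈ B from H a y w haB
    intro u v w
    induction w with
    | nil => exact id
    | cons hadj _ ih =>
      intro hu
      apply ih
      rw [SimpleGraph.fromRel_adj] at hadj
      rcases hadj.2 with ⟨g, hg1, hg2⟩ | ⟨g, hg1, hg2⟩
      · have := (MulAction.isBlock_iff_smul_eq_of_mem.1 hB) haB (show g • a ∈ B by rw [hg1]; exact hu)
        rw [← this, ← hg2]
        exact Set.smul_mem_smul_set hbB
      · have := (MulAction.isBlock_iff_smul_eq_of_mem.1 hB) hbB (show g • b ∈ B by rw [hg2]; exact hu)
        rw [← this, ← hg1]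
        exact Set.smul_mem_smul_set haB

end Cfsg.Agent.S0734
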