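import Cfsg.Statements.S0736
import Mathlib.Data.Nat.Choose.Lucas
import Mathlib.GroupTheory.GroupAction.SubMulAction.Combination
import Mathlib.Tactic

set_option autoImplicit false
open Cfsg

namespace Cfsg.Agent.S0736

open Finset in
theorem not_dvd_choose {p a k : ℕ} [hp : Fact p.Prime] (hk : p ^ a ∣ k) :
    ¬ p ∣ (k + (p ^ a - 1)).choose (p ^ a - 1) := by
  intro h
  have hq : 0 < p ^ a := pow_pos hp.out.pos a
  have h1 := Choose.choose_modEq_choose_mul_prod_range_choose (p := p) (n := k + (p ^ a - 1)) (k := p ^ a - 1) a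
  have h2 : ∀ i ∈ range a, (k + (p ^ a - 1)) / p ^ i % p = (p ^ a - 1) / p ^ i % p := by
    intro i hi
    rw [← Nat.mod_mul_right_div_self, ← Nat.mod_mul_right_div_self]
    congr 1
    have hd : p ^ i * p ∣ k := by
      rw [← pow_succ]
      exact (pow_dvd_pow p (Finset.mem_range.1 hi)).trans hk
    obtain ⟨w, rfl⟩ := hd
    rw [add_comm, Nat.add_mul_mod_self_left]
  rw [Nat.div_eq_of_lt (Nat.sub_lt hq one_pos), Nat.choose_zero_right, Nat.cast_one, one_mul] at h1
  have h3 : ∏ i ∈ range a, ((k + (p ^ a - 1)) / p ^ i % p).choose ((p ^ a - 1) / p ^ i % p) = 1 :=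
    Finset.prod_eq_one fun i hi => by rw [h2 i hi, Nat.choose_self]
  have h4 : (((k + (p ^ a - 1)).choose (p ^ a - 1) : ℕ) : ℤ) ≡ ((1 : ℕ) : ℤ) [ZMOD p] := by
    push_cast at h1
    rw [← Nat.cast_prod, h3] at h1
    exact h1
  have h5 := (Int.natCast_modEq_iff.1 h4).symm
  exact hp.out.not_dvd_one ((Nat.modEq_zero_iff_dvd).1 (h5.trans (Nat.modEq_zero_iff_dvd.2 h)))

/-- A `k`-homogeneous permutation group of degree `n`, `k ≥ 2`, with `k + q - 1 ≤ n` for every prime power `q` dividing `k`, is `(k-1)`-homogeneous. -/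
theorem result {α : Type*} [Fintype α] [DecidableEq α] (G : Subgroup (Equiv.Perm α)) {k : ℕ} (hk : 2 ≤ k) (hG : MulAction.IsPretransitive G (Set.powersetCard α k)) (hq : ∀ q : ℕ, IsPrimePow q → q ∣ k → k + q - 1 ≤ Fintype.card α) : MulAction.IsPretransitive G (Set.powersetCard α (k - 1)) := by
  classical
  open Pointwise in
  obtain ⟨p₀, hp₀, hp₀k⟩ := Nat.exists_prime_and_dvd (show k ≠ 1 by omega)
  have hkn : k ≤ Fintype.card α := by
    have := hq p₀ hp₀.isPrimePow hp₀k
    have := hp₀.two_le
    omega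
  open Pointwise in
  refine (MulAction.isPretransitive_iff G (Set.powersetCard α (k - 1))).2 fun U₀ V => ?_
  let O : Finset α → Prop := fun U => ∃ g : G, Finset.image (fun x => g • x) (U₀ : Finset α) = U
  have hOcard : ∀ U, O U → U.card = k - 1 := by
    rintro U ⟨g, rfl⟩
    rw [Finset.card_image_of_injective _ (MulAction.injective g)]
    exact U₀.2
  have hOinv : ∀ (g : G) U, O U ↔ O (Finset.image (fun x => g • x) U) := by
    intro g U
    constructor
    · rintro ⟨h, rfl⟩
      exact ⟨g * h, by rw [Finset.image_image]; exact Finset.image_congr fun x _ => mul_smul g h x⟩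
    · rintro ⟨h, hh⟩
      refine ⟨g⁻¹ * h, ?_⟩
      apply Finset.image_injective (MulAction.injective g)
      rw [← hh, Finset.image_image]
      exact Finset.image_congr fun x _ => by
        show g • (g⁻¹ * h) • x = h • x
        rw [mul_smul, smul_inv_smul]
  let c : Finset α → ℕ := fun S => (S.filter fun x => O (S.erase x)).card
  have hcinv : ∀ (g : G) S, c (Finset.image (fun x => g • x) S) = c S := by
    intro g S
    symm
    refine Finset.card_bij (fun x _ => g • x) (fun x hx => ?_) (fun x _ y _ e => MulAction.injective g e) (fun y hy => ?_)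
    · simp only [Finset.mem_filter] at hx ⊢
      refine ⟨Finset.mem_image_of_mem _ hx.1, ?_⟩
      rw [← Finset.image_erase (MulAction.injective g)]
      exact (hOinv g _).1 hx.2
    · simp only [Finset.mem_filter] at hy
      obtain ⟨x, hx, rfl⟩ := Finset.mem_image.1 hy.1
      refine ⟨x, Finset.mem_filter.2 ⟨hx, ?_⟩, rfl⟩
      rw [← Finset.image_erase (MulAction.injective g)] at hy
      exact (hOinv g _).2 hy.2
  have hext : ∀ U : Finset α, U.card = k - 1 → ∃ x, x ∉ U ∧ (insert x U).card = k := by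
    intro U hU
    obtain ⟨x, -, hx⟩ := Finset.exists_mem_notMem_of_card_lt_card (s := U) (t := Finset.univ)
      (by rw [Finset.card_univ]; omega)
    exact ⟨x, hx, by rw [Finset.card_insert_of_notMem hx]; omega⟩
  obtain ⟨x₀, hx₀, hS₀⟩ := hext (U₀ : Finset α) U₀.2
  set S₀ := insert x₀ (U₀ : Finset α) with hS₀def
  have hconst : ∀ S : Finset α, S.card = k → c S = c S₀ := by
    intro S hS
    obtain ⟨g, hg⟩ := hG.exists_smul_eq ⟨S₀, hS₀⟩ ⟨S, hS⟩
    rw [← hcinv g S₀]
    congr 1
    exact (congrArg Subtype.val hg).symm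
  have hcpos : 0 < c S₀ := by
    refine Finset.card_pos.2 ⟨x₀, Finset.mem_filter.2 ⟨Finset.mem_insert_self _ _, 1, ?_⟩⟩
    rw [hS₀def, Finset.erase_insert hx₀]
    simp
  have hdvd : k ∣ c S₀ := by
    rw [Nat.dvd_iff_prime_pow_dvd_dvd]
    intro p a hp hpa
    rcases Nat.eq_zero_or_pos a with rfl | ha
    · simp
    have := Fact.mk hp
    set q := p ^ a with hqdef
    have hqn : k + q - 1 ≤ Fintype.card α := hq q (hp.isPrimePow.pow ha.ne') hpa
    have hq1 : 1 ≤ q := Nat.one_le_pow _ _ hp.pos
    obtain ⟨T, -, hT⟩ := Finset.exists_subset_card_eq (s := (Finset.univ : Finset α)) (n := k + (q - 1))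
      (by rw [Finset.card_univ]; omega)
    let OT := (T.powersetCard (k - 1)).filter O
    have hcount : ((T.powersetCard k).sigma fun S => S.filter fun x => O (S.erase x)).card =
        (OT.sigma fun U => T \ U).card := by
      refine Finset.card_nbij' (fun y => ⟨y.1.erase y.2, y.2⟩) (fun y => ⟨insert y.2 y.1, y.2⟩) ?_ ?_ ?_ ?_
      · rintro ⟨S, x⟩ h
        simp only [Finset.mem_coe, Finset.mem_sigma, Finset.mem_powersetCard, Finset.mem_filter] at h
        simp only [Finset.mem_coe, Finset.mem_sigma, OT, Finset.mem_powersetCard, Finset.mem_filter, Finset.mem_sdiff]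
        refine ⟨⟨⟨(Finset.erase_subset _ _).trans h.1.1, ?_⟩, h.2.2⟩, h.1.1 h.2.1, by simp⟩
        rw [Finset.card_erase_of_mem h.2.1, h.1.2]
      · rintro ⟨U, x⟩ h
        simp only [Finset.mem_coe, Finset.mem_sigma, OT, Finset.mem_powersetCard, Finset.mem_filter, Finset.mem_sdiff] at h
        simp only [Finset.mem_coe, Finset.mem_sigma, Finset.mem_powersetCard, Finset.mem_filter]
        refine ⟨⟨Finset.insert_subset h.2.1 h.1.1.1, ?_⟩, Finset.mem_insert_self _ _, ?_⟩
        · rw [Finset.card_insert_of_notMem h.2.2, h.1.1.2]; omega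
        · rw [Finset.erase_insert h.2.2]; exact h.1.2
      · rintro ⟨S, x⟩ h
        simp only [Finset.mem_coe, Finset.mem_sigma, Finset.mem_filter] at h
        simp only [Sigma.mk.injEq, heq_eq_eq, and_true]
        exact Finset.insert_erase h.2.1
      · rintro ⟨U, x⟩ h
        simp only [Finset.mem_coe, Finset.mem_sigma, Finset.mem_sdiff] at h
        simp only [Sigma.mk.injEq, heq_eq_eq, and_true]
        exact Finset.erase_insert h.2.2
    rw [Finset.card_sigma, Finset.card_sigma,
      Finset.sum_congr rfl (fun S hS => hconst S (Finset.mem_powersetCard.1 hS).2),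
      Finset.sum_congr rfl (fun U hU => show (T \ U).card = q by
        have hU' := Finset.mem_powersetCard.1 (Finset.mem_filter.1 hU).1
        rw [Finset.card_sdiff_of_subset hU'.1, hT, hU'.2]; omega),
      Finset.sum_const, Finset.sum_const, Finset.card_powersetCard, hT, smul_eq_mul, smul_eq_mul,
      show (k + (q - 1)).choose k = (k + (q - 1)).choose (q - 1) from Nat.choose_symm_add] at hcount
    exact (Nat.Coprime.pow_left a ((Nat.Prime.coprime_iff_not_dvd hp).2 (not_dvd_choose hpa))).dvd_of_dvd_mul_left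
      ⟨OT.card, hcount.trans (mul_comm _ _)⟩
  have hck : c S₀ = k := by
    have h1 : c S₀ ≤ S₀.card := Finset.card_filter_le _ _
    have h2 := Nat.le_of_dvd hcpos hdvd
    omega
  obtain ⟨y, hy, hS⟩ := hext (V : Finset α) V.2
  set S := insert y (V : Finset α) with hSdef
  have hfull : (S.filter fun x => O (S.erase x)) = S := by
    apply Finset.eq_of_subset_of_card_le (Finset.filter_subset _ _)
    show S.card ≤ c S
    rw [hconst S hS, hck, hS]
  have hV := (Finset.filter_eq_self.1 hfull) y (Finset.mem_insert_self _ _)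
  rw [hSdef, Finset.erase_insert hy] at hV
  obtain ⟨g, hg⟩ := hV
  exact ⟨g, Subtype.ext hg⟩

end Cfsg.Agent.S0736
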