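import Cfsg.Statements.S0740
import Mathlib.GroupTheory.Perm.Cycle.Type
import Mathlib.GroupTheory.GroupAction.MultipleTransitivity
import Mathlib.GroupTheory.PGroup
import Mathlib.GroupTheory.SpecificGroups.Cyclic
import Mathlib.Tactic

set_option autoImplicit false
open Cfsg

namespace Cfsg.Agent.S0740

/-- In a finite Zassenhaus group any two points `a ≠ b` are swapped by an involution; every such involution has exactly one fixed point when the degree is odd and 0 or 2 fixed points when the degree is even; and if the two-point stabiliser has even order, some such involution has exactly 2 fixed points. -/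
theorem result {G Ω : Type*} [Group G] [Finite G] [MulAction G Ω] [Fintype Ω] (hZ : Cfsg.IsZassenhausGroup G Ω) {a b : Ω} (hab : a ≠ b) : (∃ s : G, orderOf s = 2 ∧ s • a = b ∧ s • b = a) ∧ (∀ s : G, orderOf s = 2 → s • a = b → s • b = a → (Odd (Fintype.card Ω) → Nat.card (MulAction.fixedBy Ω s) = 1) ∧ (Even (Fintype.card Ω) → Nat.card (MulAction.fixedBy Ω s) = 0 ∨ Nat.card (MulAction.fixedBy Ω s) = 2)) ∧ (Even (Fintype.card Ω) → Even (Nat.card ↥(MulAction.stabilizer G a ⊓ MulAction.stabilizer G b)) → ∃ s : G, orderOf s = 2 ∧ s • a = b ∧ s • b = a ∧ Nat.card (MulAction.fixedBy Ω s) = 2) := by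
  classical
  obtain ⟨hfaith, h2, hfix3, -, -⟩ := hZ
  rw [MulAction.is_two_pretransitive_iff] at h2
  have hswap : ∀ t : G, orderOf t = 2 → ∀ x : Ω, t • t • x = x := fun t ht x => by
    rw [← mul_smul, ← pow_two, ← ht, pow_orderOf_eq_one, one_smul]
  have hmove : ∀ t : G, orderOf t = 2 → ∃ x : Ω, t • x ≠ x := by
    intro t ht
    by_contra hcon
    push Not at hcon
    have : t = 1 := hfaith.eq_of_smul_eq_smul fun x => by rw [hcon x, one_smul]
    rw [this, orderOf_one] at ht
    omega
  have hconj : ∀ t : G, orderOf t = 2 → ∃ g : G, orderOf (g * t * g⁻¹) = 2 ∧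
      (g * t * g⁻¹) • a = b ∧ (g * t * g⁻¹) • b = a := by
    intro t ht
    obtain ⟨x, hx⟩ := hmove t ht
    obtain ⟨g, hg1, hg2⟩ := h2 (Ne.symm hx) hab
    refine ⟨g, ?_, ?_, ?_⟩
    · rw [← ht]; exact orderOf_injective (MulAut.conj g).toMonoidHom (MulAut.conj g).injective t
    · rw [mul_smul, mul_smul, inv_smul_eq_iff.2 hg1.symm, hg2]
    · rw [mul_smul, mul_smul, inv_smul_eq_iff.2 hg2.symm, hswap t ht, hg1]
  have hfixed : ∀ t : G, orderOf t = 2 →
      Nat.card (MulAction.fixedBy Ω t) ≤ 2 ∧ Fintype.card Ω % 2 = Nat.card (MulAction.fixedBy Ω t) % 2 := by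
    intro t ht
    constructor
    · by_contra hlt
      push Not at hlt
      rw [Nat.card_coe_set_eq, Set.two_lt_ncard_iff] at hlt
      obtain ⟨x, y, z, hx, hy, hz, hxy, hxz, hyz⟩ := hlt
      have := hfix3 t x y z hxy hyz hxz hx hy hz
      rw [this, orderOf_one] at ht
      omega
    · have : Fact (Nat.Prime 2) := ⟨Nat.prime_two⟩
      have hp : IsPGroup 2 (Subgroup.zpowers t) :=
        IsPGroup.of_card (n := 1) (by rw [pow_one, Nat.card_zpowers, ht])
      have h := hp.card_modEq_card_fixedPoints Ω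
      rw [Nat.card_eq_fintype_card] at h
      refine Eq.trans h ?_
      congr 1
      apply Nat.card_congr
      apply Equiv.setCongr
      ext x
      constructor
      · intro hx
        exact hx ⟨t, Subgroup.mem_zpowers t⟩
      · rintro hx ⟨u, hu⟩
        exact (Subgroup.zpowers_le.2 (show t ∈ MulAction.stabilizer G x from hx)) hu
  obtain ⟨g, hg1, hg2⟩ := h2 hab (Ne.symm hab)
  have heven : 2 ∣ Nat.card G := by
    have hdvd : 2 ∣ orderOf g := by
      by_contra hodd
      have h1 : g ^ 2 ∈ MulAction.stabilizer G a := by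
        rw [MulAction.mem_stabilizer_iff, pow_two, mul_smul, hg1, hg2]
      have hmem : g ∈ Subgroup.zpowers (g ^ 2) := by
        have hco : (orderOf g).Coprime 2 :=
          ((Nat.Prime.coprime_iff_not_dvd Nat.prime_two).2 hodd).symm
        obtain ⟨m, hm⟩ := exists_pow_eq_self_of_coprime (x := g) hco.symm
        have := Subgroup.pow_mem _ (Subgroup.mem_zpowers (g ^ 2)) m
        rwa [hm] at this
      have := (Subgroup.zpowers_le.2 h1) hmem
      rw [MulAction.mem_stabilizer_iff] at this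
      exact hab (this.symm.trans hg1)
    exact hdvd.trans (orderOf_dvd_natCard g)
  refine ⟨?_, ?_, ?_⟩
  · have : Fact (Nat.Prime 2) := ⟨Nat.prime_two⟩
    obtain ⟨t, ht⟩ := exists_prime_orderOf_dvd_card' 2 heven
    obtain ⟨k, hk⟩ := hconj t ht
    exact ⟨_, hk⟩
  · intro s hs _ _
    obtain ⟨h1, h2'⟩ := hfixed s hs
    constructor
    · rintro ⟨m, hm⟩; omega
    · rintro ⟨m, hm⟩; omega
  · intro hn hd
    have : Fact (Nat.Prime 2) := ⟨Nat.prime_two⟩
    obtain ⟨zz, hz⟩ := exists_prime_orderOf_dvd_card' 2 (even_iff_two_dvd.1 hd)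
    obtain ⟨hza, -⟩ := zz.2
    rw [← Subgroup.orderOf_coe] at hz
    set z := (zz : G) with hzdef
    obtain ⟨k, hk⟩ := hconj z hz
    refine ⟨_, hk.1, hk.2.1, hk.2.2, ?_⟩
    obtain ⟨h1, h2'⟩ := hfixed _ hk.1
    obtain ⟨m, hm⟩ := hn
    have hne : Nat.card (MulAction.fixedBy Ω (k * z * k⁻¹)) ≠ 0 := by
      rw [← Nat.pos_iff_ne_zero, Nat.card_pos_iff]
      refine ⟨⟨⟨k • a, ?_⟩⟩, inferInstance⟩
      rw [MulAction.mem_fixedBy, mul_smul, mul_smul, inv_smul_smul]
      exact congrArg _ hza
    omega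

end Cfsg.Agent.S0740
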