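import Cfsg.Statements.S0743
import Cfsg.Agent.Lib.Perm.FixingTransitive
import Mathlib.GroupTheory.PGroup
import Mathlib.Tactic

set_option autoImplicit false
open Cfsg

namespace Cfsg.Agent.S0743

/-- Gleason's Lemma: let `p` be a prime and `1 ≤ k < n`; if every `k`-subset of the `n` points is exactly the fixed-point set of some `p`-subgroup of `G`, then `G` is `k`-transitive. -/
theorem result {α : Type*} [Fintype α] [DecidableEq α] (G : Subgroup (Equiv.Perm α)) {p k : ℕ} (hp : p.Prime) (hk : 1 ≤ k) (hkn : k < Fintype.card α) (h : ∀ s : Finset α, s.card = k → ∃ P : Subgroup G, IsPGroup p P ∧ MulAction.fixedPoints P α = (s : Set α)) : MulAction.IsMultiplyPretransitive G α k := by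
  classical
  have : Fact p.Prime := ⟨hp⟩
  obtain ⟨j, rfl⟩ : ∃ j, k = j + 1 := ⟨k - 1, by omega⟩
  refine CfsgLib.Perm.isMultiplyPretransitive_of_fixing_transitive G hkn ?_
  intro Δ hΔ
  set K := fixingSubgroup G (Δ : Set α) with hK
  have key : ∀ c : α, c ∉ Δ → ∀ d : α,
      Nat.card (MulAction.orbit K d) ≡ Nat.card ↥({x | x ∈ insert c Δ} ∩ MulAction.orbit K d) [MOD p] := by
    intro c hc d
    obtain ⟨P, hP, hfix⟩ := h (insert c Δ) (by rw [Finset.card_insert_of_notMem hc, hΔ])
    have hmem : ∀ x ∈ Δ, ∀ g : P, (g : G) • x = x := by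
      intro x hx g
      have : x ∈ MulAction.fixedPoints P α := by
        rw [hfix]; simp [hx]
      exact this g
    have hPK : P ≤ K := fun g hg => by
      rw [hK, mem_fixingSubgroup_iff]
      exact fun x hx => hmem x hx ⟨g, hg⟩
    let T : SubMulAction P α := ⟨MulAction.orbit K d, fun g {x} hx =>
      MulAction.mem_orbit_of_mem_orbit (⟨(g : G), hPK g.2⟩ : K) hx⟩
    have h1 := hP.card_modEq_card_fixedPoints T
    refine h1.trans ?_
    rw [Nat.card_congr]
    exact
    { toFun := fun x => ⟨(x.1 : α), by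
          have h2 : (x.1 : α) ∈ MulAction.fixedPoints P α := fun g => congrArg Subtype.val (x.2 g)
          rw [hfix] at h2
          exact h2, x.1.2⟩
      invFun := fun y => ⟨⟨y.1, y.2.2⟩, fun g => Subtype.ext (by
          have h2 : y.1 ∈ MulAction.fixedPoints P α := by
            rw [hfix]; exact y.2.1
          exact h2 g)⟩
      left_inv := fun x => rfl
      right_inv := fun y => rfl }
  intro a b ha hb
  by_cases hab : b ∈ MulAction.orbit K a
  · obtain ⟨⟨g, hg⟩, hgab⟩ := hab
    rw [mem_fixingSubgroup_iff] at hg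
    exact ⟨g, g.2, fun x hx => hg x hx, hgab⟩
  exfalso
  have hout : ∀ c ∈ Δ, ∀ d, c ∈ MulAction.orbit K d → d ∈ Δ := by
    intro c hc d hd
    obtain ⟨g, hg⟩ := hd
    have hgK := (mem_fixingSubgroup_iff G).1 g.2
    have h1 : (g : G) • c = c := hgK c hc
    have h2 : (g : G) • d = (g : G) • c := hg.trans h1.symm
    exact (MulAction.injective (g : G) h2) ▸ hc
  have hA := key a ha a
  have hB := key b hb a
  have e1 : ({x | x ∈ insert a Δ} ∩ MulAction.orbit K a : Set α) = {a} := by
    ext x
    simp only [Set.mem_inter_iff, Set.mem_ofPred_eq, Finset.mem_insert, Set.mem_singleton_iff]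
    constructor
    · rintro ⟨rfl | hx, hxo⟩
      · rfl
      · exact absurd (hout x hx a hxo) ha
    · rintro rfl
      exact ⟨Or.inl rfl, MulAction.mem_orbit_self _⟩
  have e2 : ({x | x ∈ insert b Δ} ∩ MulAction.orbit K a : Set α) = ∅ := by
    ext x
    simp only [Set.mem_inter_iff, Set.mem_ofPred_eq, Finset.mem_insert, Set.mem_empty_iff_false, iff_false]
    rintro ⟨rfl | hx, hxo⟩
    · exact hab hxo
    · exact ha (hout x hx a hxo)
  rw [e1] at hA
  rw [e2] at hB
  have h3 := hA.symm.trans hB
  simp only [Nat.card_coe_set_eq, Set.ncard_singleton, Set.ncard_empty] at h3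
  rw [Nat.ModEq, Nat.one_mod_eq_one.2 hp.ne_one, Nat.zero_mod] at h3
  exact one_ne_zero h3

end Cfsg.Agent.S0743
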