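import Cfsg.Statements.S0744
import Cfsg.Agent.Lib.Perm.FixingTransitive
import Mathlib.GroupTheory.Index
import Mathlib.Tactic

set_option autoImplicit false
open Cfsg

namespace Cfsg.Agent.S0744

/-- If for some `k > 1` the pointwise stabilisers of all `(k-1)`-subsets have the same order `> 1` and those of all `k`-subsets have the same order, then the group is `(k-1)`-transitive. -/
theorem result {α : Type*} [Fintype α] [DecidableEq α] (G : Subgroup (Equiv.Perm α)) {k : ℕ} (hk : 1 < k) (hkn : k ≤ Fintype.card α) (l m : ℕ) (hl : 1 < l) (hkm1 : ∀ s : Finset α, s.card = k - 1 → Nat.card (fixingSubgroup G (s : Set α)) = l) (hkm : ∀ s : Finset α, s.card = k → Nat.card (fixingSubgroup G (s : Set α)) = m) : MulAction.IsMultiplyPretransitive G α (k - 1) := by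
  classical
  obtain ⟨j, rfl⟩ : ∃ j, k = j + 2 := ⟨k - 2, by omega⟩
  show MulAction.IsMultiplyPretransitive G α (j + 1)
  refine CfsgLib.Perm.isMultiplyPretransitive_of_fixing_transitive G hkn ?_
  intro Δ hΔ
  set K := fixingSubgroup G (Δ : Set α) with hK
  suffices htr : ∀ a b : α, a ∉ Δ → b ∉ Δ → b ∈ MulAction.orbit K a by
    intro a b ha hb
    obtain ⟨⟨g, hg⟩, hgab⟩ := htr a b ha hb
    rw [mem_fixingSubgroup_iff] at hg
    exact ⟨g, g.2, fun x hx => hg x hx, hgab⟩
  -- two-point orders
  have hdvd : ∀ a b : α, a ∉ Δ → b ∉ Δ → b ≠ a →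
      Nat.card (MulAction.orbit (fixingSubgroup G ((insert a Δ : Finset α) : Set α)) b) * m = l := by
    intro a b ha hb hba
    set H := fixingSubgroup G ((insert a Δ : Finset α) : Set α) with hH
    have hHc : Nat.card H = l := hkm1 _ (by rw [Finset.card_insert_of_notMem ha, hΔ]; omega)
    have hb' : b ∉ insert a Δ := by simp [hba, hb]
    have hSc : Nat.card (MulAction.stabilizer H b) = m := by
      rw [← hkm (insert b (insert a Δ))
        (by rw [Finset.card_insert_of_notMem hb', Finset.card_insert_of_notMem ha, hΔ])]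
      rw [← Subgroup.card_map_of_injective H.subtype_injective]
      congr 2
      congr 1
      ext g
      rw [Subgroup.mem_map]
      constructor
      · rintro ⟨⟨g, hg⟩, hgb, rfl⟩
        rw [hH, mem_fixingSubgroup_iff] at hg
        rw [mem_fixingSubgroup_iff]
        intro x hx
        rw [Finset.coe_insert, Set.mem_insert_iff] at hx
        rcases hx with rfl | hx
        · exact hgb
        · exact hg x hx
      · intro hg
        rw [mem_fixingSubgroup_iff] at hg
        refine ⟨⟨g, ?_⟩, hg b (by simp), rfl⟩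
        rw [hH, mem_fixingSubgroup_iff]
        intro x hx
        exact hg x (by simp at hx ⊢; tauto)
    rw [Nat.card_coe_set_eq, ← MulAction.index_stabilizer, ← hSc, ← hHc, Subgroup.index_mul_card]
  have hKa : ∀ a : α, a ∉ Δ →
      (MulAction.stabilizer K a).map K.subtype = fixingSubgroup G ((insert a Δ : Finset α) : Set α) := by
    intro a ha
    ext g
    rw [Subgroup.mem_map]
    constructor
    · rintro ⟨⟨g, hg⟩, hga, rfl⟩
      rw [hK, mem_fixingSubgroup_iff] at hg
      rw [mem_fixingSubgroup_iff]
      intro x hx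
      rw [Finset.coe_insert, Set.mem_insert_iff] at hx
      rcases hx with rfl | hx
      · exact hga
      · exact hg x hx
    · intro hg
      rw [mem_fixingSubgroup_iff] at hg
      refine ⟨⟨g, ?_⟩, hg a (by simp), rfl⟩
      rw [hK, mem_fixingSubgroup_iff]
      intro x hx
      exact hg x (by simp at hx ⊢; tauto)
  intro a b ha hb
  by_contra hnb
  set O := MulAction.orbit K a with hO
  set O' := MulAction.orbit K b with hO'
  have hcard : ∀ c : α, c ∉ Δ → Nat.card (MulAction.orbit K c) * l = Nat.card K := by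
    intro c hc
    rw [Nat.card_coe_set_eq, ← MulAction.index_stabilizer,
      ← hkm1 (insert c Δ) (by rw [Finset.card_insert_of_notMem hc, hΔ]; omega), ← hKa c hc,
      Subgroup.card_map_of_injective K.subtype_injective, Subgroup.index_mul_card]
  have houu : Nat.card O = Nat.card O' :=
    Nat.eq_of_mul_eq_mul_right (by omega : 0 < l) ((hcard a ha).trans (hcard b hb).symm)
  -- the stabiliser of a partitions O' and O \ {a} into orbits of the same length
  set H := fixingSubgroup G ((insert a Δ : Finset α) : Set α) with hH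
  have hba : b ≠ a := fun h => hnb (h ▸ MulAction.mem_orbit_self a)
  set r := Nat.card (MulAction.orbit H b) with hr
  have hrm := hdvd a b ha hb hba
  have hHK : ∀ h : H, (h : G) ∈ K ∧ (h : G) • a = a := by
    intro h
    have := (mem_fixingSubgroup_iff G).1 h.2
    refine ⟨?_, this a (by simp)⟩
    rw [hK, mem_fixingSubgroup_iff]
    intro x hx
    exact this x (by simp at hx ⊢; tauto)
  have hKout : ∀ c, c ∈ Δ → ∀ d, c ∈ MulAction.orbit K d → d ∈ Δ := by
    intro c hc d hd
    obtain ⟨g, hg⟩ := hd
    have hgK := (mem_fixingSubgroup_iff G).1 g.2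
    have h1 : (g : G) • c = c := hgK c hc
    have h2 : (g : G) • d = (g : G) • c := hg.trans h1.symm
    exact (MulAction.injective (g : G) h2) ▸ hc
  have hsum : ∀ S : Set α, (∀ h : H, ∀ x ∈ S, h • x ∈ S) → (∀ x ∈ S, x ∉ Δ ∧ x ≠ a) →
      r ∣ Nat.card S := by
    intro S hS hSout
    let T : SubMulAction H α := ⟨S, fun h {x} hx => hS h x hx⟩
    let _ := Fintype.ofFinite (MulAction.orbitRel.Quotient H T)
    show r ∣ Nat.card T
    rw [Nat.card_congr (MulAction.selfEquivSigmaOrbits' H T), Nat.card_sigma]
    refine Finset.dvd_sum fun o _ => dvd_of_eq ?_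
    induction o using Quotient.inductionOn' with
    | h x =>
      rw [MulAction.orbitRel.Quotient.orbit_mk, Nat.card_coe_set_eq,
        ← Set.ncard_image_of_injective _ Subtype.val_injective]
      have himg : Subtype.val '' MulAction.orbit H x = MulAction.orbit H (x : α) := by
        ext y
        constructor
        · rintro ⟨_, ⟨g, rfl⟩, rfl⟩
          exact ⟨g, rfl⟩
        · rintro ⟨g, rfl⟩
          exact ⟨g • x, ⟨g, rfl⟩, rfl⟩
      rw [himg, ← Nat.card_coe_set_eq]
      obtain ⟨h1, h2⟩ := hSout _ x.2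
      refine Nat.eq_of_mul_eq_mul_right (Nat.pos_of_ne_zero ?_)
        (hrm.trans (hdvd a x ha h1 h2).symm)
      intro hm0
      rw [hm0, mul_zero] at hrm
      omega
  have hd1 : r ∣ Nat.card O' := by
    refine hsum O' (fun h x hx => ?_) (fun x hx => ⟨fun hxd => hb (hKout x hxd b hx), ?_⟩)
    · exact MulAction.mem_orbit_of_mem_orbit (⟨(h : G), (hHK h).1⟩ : K) hx
    · rintro rfl
      exact hnb (MulAction.mem_orbit_symm.1 hx)
  have hd2 : r ∣ Nat.card (O \ {a} : Set α) := by
    refine hsum _ (fun h x hx => ⟨MulAction.mem_orbit_of_mem_orbit (⟨(h : G), (hHK h).1⟩ : K) hx.1, ?_⟩)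
      (fun x hx => ⟨fun hxd => ha (hKout x hxd a hx.1), hx.2⟩)
    intro hxa
    apply hx.2
    have h1 : (h : G) • x = (h : G) • a := Eq.trans hxa (hHK h).2.symm
    exact MulAction.injective _ h1
  have hO1 : Nat.card (O \ {a} : Set α) + 1 = Nat.card O' := by
    rw [← houu, Nat.card_coe_set_eq, Nat.card_coe_set_eq]
    exact Set.ncard_diff_singleton_add_one (MulAction.mem_orbit_self a)
  have hr1 : r = 1 := Nat.dvd_one.1 ((Nat.dvd_add_right hd2).1 (hO1.symm ▸ hd1))
  -- hence the stabiliser of a (k-1)-set fixes everything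
  have hfixall : ∀ h : H, h = 1 := by
    intro h
    apply Subtype.ext
    apply Subtype.ext
    apply Equiv.ext
    intro x
    by_cases hx : x ∈ insert a Δ
    · exact (mem_fixingSubgroup_iff G).1 h.2 x hx
    · simp only [Finset.mem_insert, not_or] at hx
      have h1 := hdvd a x ha hx.2 hx.1
      rw [← hr, hr1, one_mul] at hrm
      have h2 : Nat.card (MulAction.orbit H x) = 1 := by
        refine Nat.eq_of_mul_eq_mul_right (by omega : 0 < m) ?_
        rw [h1, one_mul, hrm]
      have := (Nat.card_eq_one_iff_unique.1 h2).1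
      exact congrArg Subtype.val (Subsingleton.elim
        (⟨h • x, MulAction.mem_orbit x h⟩ : MulAction.orbit H x) ⟨x, MulAction.mem_orbit_self x⟩)
  have : Nat.card H = 1 := Nat.card_eq_one_iff_unique.2 ⟨⟨fun g h => (hfixall g).trans (hfixall h).symm⟩, ⟨1⟩⟩
  rw [hkm1 (insert a Δ) (by rw [Finset.card_insert_of_notMem ha, hΔ]; omega)] at this
  omega

end Cfsg.Agent.S0744
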