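import Cfsg.Statements.S0745
import Cfsg.Agent.Lib.Perm.HomogeneousMain

set_option autoImplicit false
open Cfsg

namespace Cfsg.Agent.S0745

open Equiv in
theorem mono {α : Type*} [Fintype α] [DecidableEq α] {H G : Subgroup (Equiv.Perm α)} {j : ℕ}
    (hle : H ≤ G) (h : MulAction.IsMultiplyPretransitive H α j) :
    MulAction.IsMultiplyPretransitive G α j := by
  refine ⟨fun x y => ?_⟩
  obtain ⟨g, hg⟩ := h.exists_smul_eq x y
  exact ⟨⟨g.1, hle g.2⟩, hg⟩

/-- Let `G` have degree `n` and `3 ≤ k ≤ n`; suppose `G` is `(k-2)`-transitive but not `(k-1)`-transitive, and is `(k-1)`-homogeneous and `k`-homogeneous. Then `k = n` and `G` is the alternating group, or `n = 5, k = 4, |G| = 20`, or `n = 6, k = 5, |G| = 120`, or `n = 9, k = 5, |G| ∈ {504, 1512}`. -/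
theorem result {α : Type*} [Fintype α] [DecidableEq α] (G : Subgroup (Equiv.Perm α)) {k : ℕ} (hk : 3 ≤ k) (hkn : k ≤ Fintype.card α) (ht : MulAction.IsMultiplyPretransitive G α (k - 2)) (hnt : ¬ MulAction.IsMultiplyPretransitive G α (k - 1)) (hh1 : MulAction.IsPretransitive G (Set.powersetCard α (k - 1))) (hh : MulAction.IsPretransitive G (Set.powersetCard α k)) : (k = Fintype.card α ∧ G = alternatingGroup α) ∨ (Fintype.card α = 5 ∧ k = 4 ∧ Nat.card G = 20) ∨ (Fintype.card α = 6 ∧ k = 5 ∧ Nat.card G = 120) ∨ (Fintype.card α = 9 ∧ k = 5 ∧ (Nat.card G = 504 ∨ Nat.card G = 1512)) := by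
  classical
  rcases eq_or_lt_of_le hkn with hkeq | hlt
  · left
    refine ⟨hkeq, ?_⟩
    have hA : alternatingGroup α ≤ G := IsMultiplyPretransitive.alternatingGroup_le α G
      (by rwa [Nat.card_eq_fintype_card, ← hkeq])
    haveI : Nontrivial α := Fintype.one_lt_card_iff_nontrivial.1 (by omega)
    have hdvd := Subgroup.index_dvd_of_le hA
    rw [alternatingGroup.index_eq_two] at hdvd
    rcases (Nat.dvd_prime Nat.prime_two).1 hdvd with h | h
    · exfalso
      refine hnt (mono (H := ⊤) ?_ ⟨fun x y => ?_⟩)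
      · rw [Subgroup.index_eq_one.1 h]
      · obtain ⟨g, hg⟩ := (Equiv.Perm.isMultiplyPretransitive α (k - 1)).exists_smul_eq x y
        exact ⟨⟨g, Subgroup.mem_top g⟩, hg⟩
    · exact Equiv.Perm.eq_alternatingGroup_of_index_eq_two h
  right
  rcases Nat.lt_or_ge k 4 with h3 | h4
  · have h3' : k = 3 := by omega
    subst h3'
    exact (CfsgLib.Perm.homog_case_three ht hlt hh1 hh hnt).elim
  rcases eq_or_lt_of_le (Nat.succ_le_of_lt hlt) with hk1 | hk2
  · obtain ⟨X, -, hX⟩ := Finset.exists_subset_card_eq (s := (Finset.univ : Finset α)) (n := k - 2)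
      (by rw [Finset.card_univ]; omega)
    have h1 := CfsgLib.Perm.ktrans_card ht hX
    have h2 : Nat.card G * G.index = (Fintype.card α).factorial := by
      rw [Subgroup.card_mul_index, Nat.card_perm, Nat.card_eq_fintype_card]
    rw [show Fintype.card α - (k - 2) = 3 by omega, show Nat.factorial 3 = 6 from rfl, ← h2,
      mul_assoc] at h1
    have hdvd : G.index ∣ 6 := ⟨_, Nat.eq_of_mul_eq_mul_left Nat.card_pos h1⟩
    have hidx : Fintype.card α ≤ G.index := by
      by_contra hcon
      refine hnt (mono (CfsgLib.Perm.alternating_le_of_index_lt (by omega) (by omega)) ?_)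
      have := alternatingGroup.isMultiplyPretransitive α
      rwa [Nat.card_eq_fintype_card, show Fintype.card α - 2 = k - 1 by omega] at this
    have h6 := Nat.le_of_dvd (by norm_num) hdvd
    have hidx6 : G.index = 6 := by
      interval_cases hG : G.index <;> omega
    rw [hidx6] at h2
    rcases (show Fintype.card α = 5 ∨ Fintype.card α = 6 by omega) with h5 | h5
    · left
      rw [h5, show Nat.factorial 5 = 120 from rfl] at h2
      exact ⟨h5, by omega, by omega⟩
    · right; left
      rw [h5, show Nat.factorial 6 = 720 from rfl] at h2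
      exact ⟨h5, by omega, by omega⟩
  rcases Nat.lt_or_ge k 6 with h5 | h6
  · rcases (show k = 4 ∨ k = 5 by omega) with rfl | rfl
    · exact (CfsgLib.Perm.homog_case_four ht (by omega) hh1 hh hnt).elim
    · obtain ⟨h9, hG⟩ := CfsgLib.Perm.homog_case_five ht (by omega) hh1 hh hnt
      exact Or.inr (Or.inr ⟨h9, rfl, hG⟩)
  exfalso
  obtain ⟨Δ, hΔ, halt⟩ := CfsgLib.Perm.exists_alt_subset (k - 2) (by omega) _ α rfl (by omega) G ht
  rw [show k - 2 + 1 = k - 1 by omega] at hΔ
  refine CfsgLib.Perm.no_odd_false ht (by omega) (by omega) fun S hS g hg σ hσ => ?_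
  exact CfsgLib.Perm.not_odd_of_alt hh1 hnt hΔ halt (by omega) hg σ hσ

end Cfsg.Agent.S0745
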