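import Cfsg.Statements.S0746
import Cfsg.Agent.S0736
import Cfsg.Agent.S0745

set_option autoImplicit false
open Cfsg

namespace Cfsg.Agent.S0746

/-- The Livingstone–Wagner Theorem, first form: a `k`-homogeneous group of degree `n` with `4 ≤ 2k ≤ n` is `(k-1)`-transitive. -/
theorem result {α : Type*} [Fintype α] [DecidableEq α] (G : Subgroup (Equiv.Perm α)) {k : ℕ} (hk : 2 ≤ k) (hkn : 2 * k ≤ Fintype.card α) (hh : MulAction.IsPretransitive G (Set.powersetCard α k)) : MulAction.IsMultiplyPretransitive G α (k - 1) := by
  induction k, hk using Nat.le_induction with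
  | base =>
    have h1 := Cfsg.Agent.S0736.result G le_rfl hh (fun q _ hq => by
      have := Nat.le_of_dvd (by norm_num) hq; omega)
    obtain ⟨a⟩ : Nonempty α := Fintype.card_pos_iff.1 (by omega)
    haveI : Subsingleton ↥({a} : Finset α) :=
      Fintype.card_le_one_iff_subsingleton.1 (by simp)
    exact CfsgLib.Perm.ktrans_of_sym h1 (Δ := {a}) (Finset.card_singleton a)
      fun σ => ⟨1, G.one_mem, fun x => by rw [Equiv.Perm.one_apply, Subsingleton.elim (σ x) x]⟩
  | succ k hk ih =>
    have h1 := Cfsg.Agent.S0736.result G (by omega) hh (fun q _ hq => by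
      have := Nat.le_of_dvd (by omega) hq; omega)
    have h2 := ih (by omega) h1
    by_contra hnt
    rcases Cfsg.Agent.S0745.result G (k := k + 1) (by omega) (by omega) h2 hnt h1 hh with
      h | h | h | h <;> omega

end Cfsg.Agent.S0746
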