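import Cfsg.Statements.S0753
import Cfsg.Agent.Lib.Classical.LinearOrder

set_option autoImplicit false
open Cfsg

namespace Cfsg.Agent.S0753

/-- If σ is a ring endomorphism of the field F other than the identity and B is a σ-sesquilinear conjugate-symmetric form with B v v = 0 for every v, then B = 0. -/
theorem result {F V : Type*} [Field F] [AddCommGroup V] [Module F V] (σ : F →+* F) (hσ : σ ≠ RingHom.id F) (B : V →ₛₗ[σ] V →ₗ[F] F) (hS : B.IsSymm) (h0 : ∀ v : V, B v v = 0) : B = 0 := by
  refine LinearMap.ext fun u => LinearMap.ext fun v => ?_
  simp only [LinearMap.zero_apply]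
  by_contra hne
  apply hσ
  have key : ∀ x y : V, σ (B x y) = -B x y := fun x y => by
    have h := h0 (x + y)
    simp only [map_add, LinearMap.add_apply, h0 x, h0 y, zero_add, add_zero] at h
    have h' : σ (B x y) = B y x := hS.eq x y
    rw [h']
    linear_combination h
  refine RingHom.ext fun a => ?_
  have h := key u (a • v)
  simp only [map_smul, smul_eq_mul, map_mul, key u v] at h
  exact mul_right_cancel₀ hne (by rw [RingHom.id_apply]; linear_combination (-1 : F) * h)

end Cfsg.Agent.S0753
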