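import Cfsg.Statements.S0779
import Cfsg.Agent.Lib.Classical.Unitary.Matrix

set_option autoImplicit false
open Cfsg

namespace Cfsg.Agent.S0779

/-- Unitary transvections: let |F| = q², h the standard Hermitian form Σ x_i y_i^q and v ≠ 0 with h(v, v) = 0. The linear map x ↦ x + c h(x, v) v is an isometry of h if and only if c = 0 or c^(q−1) = −1. -/
theorem result {F : Type*} [Field F] [Fintype F] {q : ℕ} (hF : Fintype.card F = q ^ 2) (n : ℕ) (v : Fin n → F) (hv : v ≠ 0) (hv0 : Cfsg.hermForm n F q v v = 0) (c : F) : (∀ x y : Fin n → F, Cfsg.hermForm n F q ((Cfsg.unitaryTransvection n q v c).mulVec x) ((Cfsg.unitaryTransvection n q v c).mulVec y) = Cfsg.hermForm n F q x y) ↔ (c = 0 ∨ c ^ (q - 1) = -1) := by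
  set B := CfsgLib.Classical.Herm.hermStd n hF with hB
  have hH : CfsgLib.Classical.Herm.IsHerm B := CfsgLib.Classical.Herm.hermStd_isHerm hF
  have hvv : B v v = 0 := hv0
  have key : ∀ x y : Fin n → F,
      B ((Cfsg.unitaryTransvection n q v c).mulVec x) ((Cfsg.unitaryTransvection n q v c).mulVec y) =
        B x y + (c + c ^ q) * (B x v * B v y) := by
    intro x y
    rw [CfsgLib.Classical.Herm.unitaryTransvection_mulVec hF,
      CfsgLib.Classical.Herm.unitaryTransvection_mulVec hF, ← hB]
    simp only [map_add, LinearMap.add_apply, CfsgLib.Classical.Herm.smul_left,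
      CfsgLib.Classical.Herm.smul_right, map_mul, hH.symm, hvv,
      CfsgLib.Classical.Herm.powHom_apply]
    ring
  have hq : 1 ≤ q := by
    have := CfsgLib.Classical.two_le_of_card_sq hF
    omega
  have hiff : (c = 0 ∨ c ^ (q - 1) = -1) ↔ c + c ^ q = 0 := by
    rw [show c + c ^ q = c * (1 + c ^ (q - 1)) by
      rw [mul_add, mul_one, ← pow_succ', Nat.sub_add_cancel hq], mul_eq_zero,
      add_eq_zero_iff_eq_neg']
  rw [hiff]
  constructor
  · intro h
    obtain ⟨w, hw⟩ := hH.exists_apply_eq_one hv
    have h1 : B w v = 1 := by rw [← hH.symm v w, hw, map_one]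
    have h2 : B ((Cfsg.unitaryTransvection n q v c).mulVec w)
      ((Cfsg.unitaryTransvection n q v c).mulVec w) = B w w := h w w
    rw [key, h1, hw] at h2
    simpa using h2
  · intro h x y
    have h2 := key y x
    rw [h, zero_mul, add_zero] at h2
    exact h2

end Cfsg.Agent.S0779
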