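import Cfsg.Statements.S0796
import Cfsg.Agent.Lib.Classical.SimpleQuot

set_option autoImplicit false
open Cfsg

namespace Cfsg.Agent.S0796

/-- If G is finite and acts faithfully and primitively on X, H is the stabiliser of a point, A is a normal subgroup of H whose normal closure in G is G, then for every non-trivial normal subgroup K of G the quotient G ⧸ K is isomorphic to A ⧸ B for some normal subgroup B of A. -/
theorem result {G X : Type*} [Group G] [Finite G] [MulAction G X] [FaithfulSMul G X] (hprim : MulAction.IsPreprimitive G X) (x : X) (A : Subgroup G) (hA : A ≤ MulAction.stabilizer G x) (hAn : (A.subgroupOf (MulAction.stabilizer G x)).Normal) (hgen : Subgroup.normalClosure (A : Set G) = ⊤) (K : Subgroup G) [K.Normal] (hK : K ≠ ⊥) : ∃ (B : Subgroup A) (_ : B.Normal), Nonempty (G ⧸ K ≃* A ⧸ B) := by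
  have : MulAction.IsPreprimitive G X := hprim
  have hnt : MulAction.fixedPoints K X ≠ Set.univ := fun h => hK (by
    refine K.eq_bot_iff_forall.2 fun k hk => FaithfulSMul.eq_of_smul_eq_smul (α := X) fun y => ?_
    rw [one_smul]
    exact Set.eq_univ_iff_forall.1 h y ⟨k, hk⟩)
  have htrans : MulAction.IsPretransitive K X :=
    MulAction.IsQuasiPreprimitive.isPretransitive_of_normal hnt
  have hsurj : Function.Surjective ((QuotientGroup.mk' K).comp A.subtype) := by
    rw [← MonoidHom.range_eq_top, MonoidHom.range_comp, Subgroup.range_subtype]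
    have hn : (A.map (QuotientGroup.mk' K)).Normal := by
      refine ⟨?_⟩
      rintro _ ⟨a, ha, rfl⟩ g'
      obtain ⟨g, rfl⟩ := QuotientGroup.mk'_surjective K g'
      obtain ⟨k, hk⟩ := MulAction.exists_smul_eq K x (g • x)
      have hh : (k : G)⁻¹ * g ∈ MulAction.stabilizer G x := by
        rw [MulAction.mem_stabilizer_iff, mul_smul, ← hk]
        exact inv_smul_smul (k : G) x
      have hconj := hAn.conj_mem ⟨a, hA ha⟩ ha ⟨_, hh⟩
      rw [Subgroup.mem_subgroupOf] at hconj
      refine ⟨_, hconj, ?_⟩
      have hk1 : QuotientGroup.mk' K (k : G) = 1 := (QuotientGroup.eq_one_iff _).2 k.2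
      simp [hk1]
    have h := Subgroup.normalClosure_le_normal (s := (A : Set G))
      (N := (A.map (QuotientGroup.mk' K)).comap (QuotientGroup.mk' K))
      (fun a ha => Subgroup.mem_map_of_mem _ ha)
    rw [hgen, top_le_iff] at h
    rw [← Subgroup.map_comap_eq_self_of_surjective (QuotientGroup.mk'_surjective K)
      (A.map (QuotientGroup.mk' K)), h]
    exact Subgroup.map_top_of_surjective _ (QuotientGroup.mk'_surjective K)
  exact ⟨_, inferInstance, ⟨(QuotientGroup.quotientKerEquivOfSurjective _ hsurj).symm⟩⟩

end Cfsg.Agent.S0796
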