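import Cfsg.Statements.S0818
import Cfsg.Agent.Lib.Known.AutPOmega.OutMinus
import Cfsg.Agent.Lib.Known.AutPOmega.Transport

set_option autoImplicit false
open Cfsg

namespace Cfsg.Agent.S0818

/-- |Aut(PΩ⁻_2m(q))| for q = p^f, m ≥ 4 (form quadFormMinus (m−1) with anisotropic binary part): |PΩ⁻_2m(q)| times f, times 2 if p = 2, and times 4 or 8 if p is odd according as m(q−1)/2 is even or odd. -/
theorem result {F : Type*} [Field F] [Fintype F] (p f : ℕ) [Fact p.Prime] (hf : 1 ≤ f) (hF : Fintype.card F = p ^ f) (m : ℕ) (hm : 4 ≤ m) (a b : F) (hab : ∀ z₁ z₂ : F, z₁ ^ 2 + a * z₁ * z₂ + b * z₂ ^ 2 = 0 → z₁ = 0 ∧ z₂ = 0) : Nat.card (MulAut (Cfsg.POmega F (Cfsg.quadFormMinus (m - 1) F a b))) = (if p = 2 then 2 else (if Even (m * (p ^ f - 1) / 2) then 4 else 8)) * f * Nat.card (Cfsg.POmega F (Cfsg.quadFormMinus (m - 1) F a b)) := by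
  classical
  rw [← CfsgLib.Classical.Quad.coe_qMinus]
  by_cases hp : p = 2
  · subst hp
    obtain ⟨a', b', hab', -, -, h⟩ :=
      CfsgLib.Known.AutPOmega.out_minus_two_std (F := F) hf hF (m := m - 1) (by omega)
    obtain ⟨e⟩ := CfsgLib.Known.AutPOmega.pOmega_minus_congr (m - 1) a b a' b' hab hab'
    rw [if_pos rfl, Nat.card_congr e.toEquiv, Nat.card_congr (MulAut.congr e).toEquiv, h]
  · have hpo : Odd p := (Fact.out : p.Prime).odd_of_ne_two hp
    obtain ⟨a', b', hab', h1, h2⟩ :=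
      CfsgLib.Known.AutPOmega.out_minus_odd_std (F := F) hf hF hpo (m := m - 1) (by omega)
    obtain ⟨e⟩ := CfsgLib.Known.AutPOmega.pOmega_minus_congr (m - 1) a b a' b' hab hab'
    have hq : p ^ f % 2 = 1 := Nat.odd_iff.1 hpo.pow
    have key : Even (m * (p ^ f - 1) / 2) ↔ ¬ (Even (m - 1) ∧ p ^ f % 4 = 3) := by
      obtain ⟨k, hk⟩ : ∃ k, p ^ f = 2 * k + 1 := ⟨p ^ f / 2, by omega⟩
      rw [hk, Nat.add_sub_cancel, Nat.mul_left_comm, Nat.mul_div_cancel_left _ two_pos,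
        Nat.even_mul, Nat.even_iff, Nat.even_iff, Nat.even_iff]
      omega
    rw [if_neg hp, Nat.card_congr e.toEquiv, Nat.card_congr (MulAut.congr e).toEquiv]
    by_cases hc : Even (m - 1) ∧ p ^ f % 4 = 3
    · rw [if_neg fun h => key.1 h hc, (h1 hc).2]
    · rw [if_pos (key.2 hc), (h2 hc).2]

end Cfsg.Agent.S0818
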