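import Cfsg.Statements.S0821
import Cfsg.Agent.Lib.Classical.SignExtension
import Cfsg.Agent.Lib.Classical.ClassicalTwoRank
import Cfsg.Agent.Lib.Classical.OmegaTwoRank
import Cfsg.Agent.Lib.Classical.Quad.POmega
import Cfsg.Agent.Lib.Classical.Symplectic.MatrixStructure

set_option autoImplicit false
open Cfsg

namespace Cfsg.Agent.S0821

/-- PSp_2m(q) ≇ PΩ_(2m+1)(q) for q odd and m ≥ 3 (they have the same order). -/
theorem result {F : Type*} [Field F] [Fintype F] (hodd : Odd (Fintype.card F)) (m : ℕ) (hm : 3 ≤ m) : IsEmpty (Cfsg.PSp m F ≃* Cfsg.POmega F (Cfsg.quadFormOdd m F)) := by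
  open CfsgLib.Classical in
  classical
  refine ⟨fun φ => ?_⟩
  have h2 : (2 : F) ≠ 0 := Quad.two_ne_zero_of_odd rfl hodd
  -- the elementary abelian subgroup of `PΩ`
  obtain ⟨⟨A, hAc, hAe, hAcard⟩, -⟩ := OmegaTwoRank.rank_omega_odd hodd m
  have hQ := Quad.qOdd_nondeg (F := F) h2 m
  have hno : ¬ ∃ g : ↥(Cfsg.isometryGroup F (⇑(Quad.qOdd m F))), g ∈ Cfsg.Omega F (⇑(Quad.qOdd m F)) ∧
      ((g : Matrix.GeneralLinearGroup (Unit ⊕ (Fin m ⊕ Fin m)) F) :
        Matrix (Unit ⊕ (Fin m ⊕ Fin m)) (Unit ⊕ (Fin m ⊕ Fin m)) F) = -1 := by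
    rintro ⟨g, hg, hval⟩
    have hle := Quad.Omega_le_squares hQ (Quad.hex_of_two_ne_zero h2) hg
    have hdet : g ∈ Cfsg.specialIsometryGroup F (⇑(Quad.qOdd m F)) :=
      (Subgroup.closure_le _).2 (by rintro _ ⟨x, hx, rfl⟩; exact mul_mem hx hx) hle
    have h3 := congrArg (fun u : Fˣ => (u : F)) (show Matrix.GeneralLinearGroup.det
      (g : Matrix.GeneralLinearGroup (Unit ⊕ (Fin m ⊕ Fin m)) F) = 1 from hdet)
    simp only [Matrix.GeneralLinearGroup.val_det_apply, hval, Matrix.det_neg, Matrix.det_one,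
      Units.val_one, Fintype.card_sum, Fintype.card_unit, Fintype.card_fin, mul_one] at h3
    rw [Odd.neg_one_pow ⟨m, by ring⟩] at h3
    exact h2 (by linear_combination -h3)
  have hZ' := Quad.card_center_Omega hQ (by rw [Module.finrank_pi]; simp; omega) False
    ⟨False.elim, fun h => hno ((Quad.negIsom_mem_iff hQ).1 h.1)⟩
  rw [if_neg not_false, Subgroup.card_eq_one] at hZ'
  have hZ : Subgroup.center (Cfsg.Omega F (⇑(Quad.qOdd m F))) = ⊥ := by
    apply Subgroup.map_injective (f := (Quad.omegaEquiv (Quad.qOdd m F)).toMonoidHom)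
      (Quad.omegaEquiv (Quad.qOdd m F)).injective
    rw [Subgroup.map_bot, Quad.map_center_eq, hZ']
  rw [Quad.coe_qOdd] at hZ
  let π : ↥(Cfsg.Omega F (Cfsg.quadFormOdd m F)) →* Cfsg.PSp m F :=
    φ.symm.toMonoidHom.comp (QuotientGroup.mk' _)
  have hπ : Function.Injective π := φ.symm.injective.comp <| by
    rw [← MonoidHom.ker_eq_bot_iff, QuotientGroup.ker_mk', hZ]
  -- its preimage in `Sp`
  set Z := Subgroup.center (Matrix.symplecticGroup (Fin m) F)
  set E : Subgroup (Matrix.symplecticGroup (Fin m) F) :=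
    (A.map π).comap (QuotientGroup.mk' Z)
  have hF : Fintype.card F % 2 = 1 := Nat.odd_iff.1 hodd
  have hZcard : Nat.card Z = 2 := by
    rw [Symp.card_center_symplecticGroup (by omega)]
    refine Nat.gcd_eq_left ?_
    omega
  let N : Matrix.symplecticGroup (Fin m) F := ⟨-1, SymplecticGroup.neg_mem (one_mem _)⟩
  have hNZ : N ∈ Z := Subgroup.mem_center_iff.2 fun g => Subtype.ext (by
    show g.1 * (-1 : Matrix (Fin m ⊕ Fin m) (Fin m ⊕ Fin m) F) = -1 * g.1
    simp)
  have hN1 : N ≠ 1 := by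
    intro h
    have h' := congrFun (congrFun (congrArg Subtype.val h) (Sum.inl ⟨0, by omega⟩)) (Sum.inl ⟨0, by omega⟩)
    simp [N] at h'
    exact h2 (by linear_combination -h')
  have hZ2 : ∀ x ∈ Z, x = 1 ∨ x = N := by
    intro x hx
    by_contra h
    push Not at h
    obtain ⟨y, -, hy⟩ := (Nat.card_eq_two_iff' (1 : Z)).1 hZcard
    exact h.2 (congrArg Subtype.val ((hy ⟨x, hx⟩ fun e => h.1 (congrArg Subtype.val e)).trans
      (hy ⟨N, hNZ⟩ fun e => hN1 (congrArg Subtype.val e)).symm))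
  have hEcard : Nat.card E = Nat.card A * 2 := by
    have hk : (Z : Subgroup _) ≤ E := fun z hz => by
      show QuotientGroup.mk' Z z ∈ A.map π
      rw [show QuotientGroup.mk' Z z = 1 from (QuotientGroup.eq_one_iff z).2 hz]
      exact one_mem _
    have h := ((QuotientGroup.mk' Z).subgroupComap (A.map π)).ker.card_mul_index
    rw [Subgroup.index_ker] at h
    have hsurj : Function.Surjective ((QuotientGroup.mk' Z).subgroupComap (A.map π)) :=
      (QuotientGroup.mk' Z).subgroupComap_surjective_of_surjective _ (QuotientGroup.mk'_surjective Z)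
    rw [MonoidHom.range_eq_top.2 hsurj, Subgroup.card_top,
      Subgroup.card_map_of_injective hπ] at h
    have hker : ((QuotientGroup.mk' Z).subgroupComap (A.map π)).ker = Z.subgroupOf E := by
      ext x
      rw [MonoidHom.mem_ker, Subgroup.mem_subgroupOf, Subtype.ext_iff]
      exact QuotientGroup.eq_one_iff _
    rw [hker, Nat.card_congr (Subgroup.subgroupOfEquivOfLe hk).toEquiv, hZcard] at h
    exact h.symm.trans (mul_comm _ _)
  let ρ : E →* ((Fin m ⊕ Fin m → F) ≃ₗ[F] (Fin m ⊕ Fin m → F)) :=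
    (Symp.Sp (Symp.sympBil m F)).subtype.comp
      ((Symp.symplecticEquiv m F).toMonoidHom.comp E.subtype)
  have hρ : Function.Injective ρ :=
    Subtype.val_injective.comp ((Symp.symplecticEquiv m F).injective.comp E.subtype_injective)
  have hsq : SignExtension.SignSquares ρ := by
    intro e
    have he : (e : Matrix.symplecticGroup (Fin m) F) * e ∈ Z := by
      rw [← QuotientGroup.eq_one_iff, QuotientGroup.mk_mul]
      obtain ⟨a, ha, hae⟩ := e.2
      change π a = (((e : Matrix.symplecticGroup (Fin m) F)) :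
        Matrix.symplecticGroup (Fin m) F ⧸ Z) at hae
      rw [← hae, ← map_mul, ← pow_two, hAe a ha, map_one]
    have hv : ∀ v, ρ e (ρ e v) =
        (((e : Matrix.symplecticGroup (Fin m) F) * e : Matrix.symplecticGroup (Fin m) F) :
          Matrix _ _ F).mulVec v := fun v => by
      show (Symp.symplecticEquiv m F (e : Matrix.symplecticGroup (Fin m) F)).1
        ((Symp.symplecticEquiv m F (e : Matrix.symplecticGroup (Fin m) F)).1 v) = _
      rw [Symp.symplecticEquiv_apply, Symp.symplecticEquiv_apply, Matrix.mulVec_mulVec,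
        Submonoid.coe_mul]
    rcases hZ2 _ he with h | h
    · exact Or.inl fun v => by rw [hv, h]; exact Matrix.one_mulVec v
    · exact Or.inr fun v => by
        rw [hv, h]
        show (-1 : Matrix _ _ F).mulVec v = -v
        rw [Matrix.neg_mulVec, Matrix.one_mulVec]
  by_cases hc : ∀ a b : E, a * b = b * a
  · have hle := SignExtension.card_le_two_mul ρ hsq hρ hc (N := 2 ^ m) fun K hK => by
      have he := TwoRank.card_elementary_Sp (F := F) hodd m (K.map E.subtype) ⟨⟨⟨?_⟩⟩, ?_⟩
      · rwa [Subgroup.card_map_of_injective E.subtype_injective] at he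
      · rintro ⟨_, x, -, rfl⟩ ⟨_, y, -, rfl⟩
        exact Subtype.ext (by
          show E.subtype x * E.subtype y = E.subtype y * E.subtype x
          rw [← map_mul, ← map_mul, hc])
      · rintro _ ⟨x, hx, rfl⟩
        rw [← map_pow, pow_two, hK x hx, map_one]
    have h1 : 2 ^ m < 2 ^ (2 * m) := Nat.pow_lt_pow_right (by omega) (by omega)
    omega
  push Not at hc
  obtain ⟨a, b, hab⟩ := hc
  obtain ⟨C, W, τ, hτ, hτi, hd, hcard⟩ := SignExtension.halve ρ h2 hsq hρ hab
  rw [Symp.finrank_sympSpace] at hd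
  obtain ⟨hb, hb'⟩ := SignExtension.card_le h2 (Module.finrank F W) τ hτ hτi rfl
  have hWm : Module.finrank F W = m := by omega
  rw [hWm] at hb hb'
  rcases (Nat.lt_or_ge m 4) with h | h
  · have hm3 : m = 3 := by omega
    subst hm3
    have := hb' (by decide)
    rw [show (2 : ℕ) ^ (3 + 1) = 16 from rfl] at this
    rw [show (2 : ℕ) ^ (2 * 3) = 64 from rfl] at hAcard
    omega
  · have h1 : 2 ^ (m + 4) ≤ 2 ^ (2 * m) := Nat.pow_le_pow_right (by omega) (by omega)
    rw [show m + 4 = m + 2 + 2 by ring, pow_add] at h1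
    have : 0 < 2 ^ (2 * m) := Nat.two_pow_pos _
    omega

end Cfsg.Agent.S0821
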