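import Cfsg.Statements.S0839
import Cfsg.Agent.Lib.Classical.SLGroup

set_option autoImplicit false
open Cfsg

namespace Cfsg.Agent.S0839

/-- Every transvection t ∈ SL_(n+2)(F) (rank(t − 1) = 1, (t − 1)² = 0) is conjugate in SL_(n+2)(F) to 1 + v·e_0ᵀ for some column vector v with v_0 = 0 (the group A of matrices that are the identity except in the first column below the diagonal); the dimension is written n + 2 ≥ 2. -/
theorem result {F : Type*} [Field F] (n : ℕ) (t : Matrix.SpecialLinearGroup (Fin (n + 2)) F) (ht : Cfsg.IsTransvection (t : Matrix (Fin (n + 2)) (Fin (n + 2)) F)) : ∃ (g : Matrix.SpecialLinearGroup (Fin (n + 2)) F) (v : Fin (n + 2) → F), v 0 = 0 ∧ ((g⁻¹ * t * g : Matrix.SpecialLinearGroup (Fin (n + 2)) F) : Matrix (Fin (n + 2)) (Fin (n + 2)) F) = 1 + Matrix.vecMulVec v (Pi.single 0 1) := by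
  obtain ⟨hr, hsq⟩ := ht
  set N : Matrix (Fin (n + 2)) (Fin (n + 2)) F :=
    (t : Matrix (Fin (n + 2)) (Fin (n + 2)) F) - 1 with hN
  -- write N = u ⊗ φ
  obtain ⟨u, φ, hu, hφ, hNu⟩ : ∃ u φ : Fin (n + 2) → F, u ≠ 0 ∧ φ ≠ 0 ∧
      N = Matrix.vecMulVec u φ := by
    obtain ⟨⟨u, hu⟩, hu0, hspan⟩ := finrank_eq_one_iff'.1 hr
    have hu0' : u ≠ 0 := fun h => hu0 (Subtype.ext h)
    have hcol : ∀ j, ∃ c : F, c • u = N.mulVec (Pi.single j 1) := fun j => by
      obtain ⟨c, hc⟩ := hspan ⟨_, ⟨Pi.single j 1, rfl⟩⟩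
      exact ⟨c, congrArg Subtype.val hc⟩
    choose φ hφ using hcol
    have hNu : N = Matrix.vecMulVec u φ := by
      ext i j
      have := congrFun (hφ j) i
      simpa [Matrix.vecMulVec_apply, mul_comm] using this.symm
    refine ⟨u, φ, hu0', fun h => ?_, hNu⟩
    obtain ⟨x, hx⟩ := hu
    rw [hNu, h] at hx
    exact hu0' (by rw [← hx]; simp [Matrix.mulVecLin_apply])
  have hφu : φ ⬝ᵥ u = 0 := by
    obtain ⟨i, hi⟩ := Function.ne_iff.1 hu
    obtain ⟨j, hj⟩ := Function.ne_iff.1 hφ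
    have h := congrFun (congrFun hsq i) j
    rw [hNu, Matrix.vecMulVec_mul_vecMulVec] at h
    simp [Matrix.vecMulVec_apply] at h
    rcases h with h | h | h
    · exact absurd h hi
    · exact h
    · exact absurd h hj
  obtain ⟨h, hh⟩ := CfsgLib.Classical.exists_smul_eq_SL (n := n) hφ
    (Pi.single_ne_zero_iff.2 one_ne_zero : (Pi.single 0 1 : Fin (n + 2) → F) ≠ 0)
  -- g = hᵀ
  have hT : ((h.transpose : Matrix.SpecialLinearGroup (Fin (n + 2)) F) :
      Matrix (Fin (n + 2)) (Fin (n + 2)) F) =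
      (h : Matrix (Fin (n + 2)) (Fin (n + 2)) F).transpose := rfl
  set g := h.transpose with hg
  have hφg : Matrix.vecMul φ (g : Matrix (Fin (n + 2)) (Fin (n + 2)) F) = Pi.single 0 1 := by
    rw [hT, Matrix.vecMul_transpose]
    exact hh
  refine ⟨g, Matrix.mulVec ((g⁻¹ : Matrix.SpecialLinearGroup (Fin (n + 2)) F) :
      Matrix (Fin (n + 2)) (Fin (n + 2)) F) u, ?_, ?_⟩
  · have h1 : (Pi.single 0 1 : Fin (n + 2) → F) ⬝ᵥ Matrix.mulVec ((g⁻¹ :
        Matrix.SpecialLinearGroup (Fin (n + 2)) F) : Matrix (Fin (n + 2)) (Fin (n + 2)) F) u = 0 := by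
      rw [← hφg, ← Matrix.dotProduct_mulVec, Matrix.mulVec_mulVec,
        ← Matrix.SpecialLinearGroup.coe_mul, mul_inv_cancel, Matrix.SpecialLinearGroup.coe_one,
        Matrix.one_mulVec, hφu]
    simpa using h1
  · have ht1 : (t : Matrix (Fin (n + 2)) (Fin (n + 2)) F) = 1 + Matrix.vecMulVec u φ := by
      rw [← hNu, hN]; abel
    rw [← hφg, Matrix.SpecialLinearGroup.coe_mul, Matrix.SpecialLinearGroup.coe_mul, ht1,
      Matrix.mul_add, Matrix.add_mul, mul_one, ← Matrix.SpecialLinearGroup.coe_mul,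
      inv_mul_cancel, Matrix.SpecialLinearGroup.coe_one, Matrix.mul_vecMulVec,
      Matrix.vecMulVec_mul]

end Cfsg.Agent.S0839
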