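import Cfsg.Statements.S0840
import Mathlib
import Cfsg.Agent.Lib.CharDegree.Counting
import Cfsg.Agent.Lib.Char.Complete

set_option autoImplicit false
open scoped ComplexConjugate
open Cfsg

namespace Cfsg.Agent.S0840

/-- Class multiplication coefficients from the character table: for elements a, b, c of a finite group G, the number of ordered pairs (x, y) with x conjugate to a, y conjugate to b and x * y = c equals the product of the sizes of the conjugacy classes of a and b, divided by the order of G, times the sum over the irreducible characters χ of χ a * χ b * conj (χ c) / χ 1. -/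
theorem result {G : Type*} [Group G] [Finite G] (a b c : G) : (Nat.card {p : G × G // IsConj a p.1 ∧ IsConj b p.2 ∧ p.1 * p.2 = c} : ℂ) = (Nat.card {x : G // IsConj a x} : ℂ) * (Nat.card {x : G // IsConj b x} : ℂ) / (Nat.card G : ℂ) * ∑ᶠ χ : Cfsg.IrrCharacter G, (χ : G → ℂ) a * (χ : G → ℂ) b * conj ((χ : G → ℂ) c) / (χ : G → ℂ) 1 := by
  classical
  have := Fintype.ofFinite G
  have := Fintype.ofFinite (Cfsg.IrrCharacter G)
  have hsum := CfsgLib.CharDegree.sum_three a b c⁻¹
  have hfib : ∀ d : G, ∀ f : G → ℂ, (Nat.card {x : G // IsConj d x} : ℂ) * ∑ p : G, f (p * d * p⁻¹) =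
      (Nat.card G : ℂ) * ∑ x : {x : G // IsConj d x}, f x := by
    intro d f
    have hfibcard : ∀ x : {x : G // IsConj d x},
        Fintype.card {p : G // (⟨p * d * p⁻¹, isConj_iff.2 ⟨p, rfl⟩⟩ : {x : G // IsConj d x}) = x} =
          Fintype.card {p : G // p * d * p⁻¹ = d} := by
      intro x
      obtain ⟨q, hq⟩ := isConj_iff.1 x.2
      refine Fintype.card_congr ((Equiv.mulLeft q⁻¹).subtypeEquiv fun p => ?_)
      rw [Subtype.ext_iff]
      show p * d * p⁻¹ = x ↔ q⁻¹ * p * d * (q⁻¹ * p)⁻¹ = d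
      rw [← hq]
      constructor
      · intro h
        calc q⁻¹ * p * d * (q⁻¹ * p)⁻¹ = q⁻¹ * (p * d * p⁻¹) * q := by group
          _ = d := by rw [h]; group
      · intro h
        calc p * d * p⁻¹ = q * (q⁻¹ * p * d * (q⁻¹ * p)⁻¹) * q⁻¹ := by group
          _ = q * d * q⁻¹ := by rw [h]
    have key : ∀ f : G → ℂ, ∑ p : G, f (p * d * p⁻¹) =
        (Fintype.card {p : G // p * d * p⁻¹ = d} : ℂ) * ∑ x : {x : G // IsConj d x}, f x := by
      intro f
      rw [← Fintype.sum_fiberwise (fun p : G => (⟨p * d * p⁻¹, isConj_iff.2 ⟨p, rfl⟩⟩ : {x : G // IsConj d x}))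
        (fun p => f (p * d * p⁻¹)), Finset.mul_sum]
      refine Finset.sum_congr rfl fun x _ => ?_
      refine (Fintype.sum_congr _ (fun _ => f (x : G)) fun q => ?_).trans ?_
      · exact congrArg f (congrArg Subtype.val q.prop)
      · rw [Finset.sum_const, Finset.card_univ, nsmul_eq_mul, hfibcard x]
    have h1 := key fun _ => 1
    simp only [Finset.sum_const, Finset.card_univ, nsmul_eq_mul, mul_one] at h1
    rw [key f, ← mul_assoc, Nat.card_eq_fintype_card, Nat.card_eq_fintype_card (α := G), h1,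
      mul_comm (Fintype.card _ : ℂ)]
  have hcount : (Nat.card {x : G // IsConj a x} : ℂ) * (Nat.card {x : G // IsConj b x} : ℂ) *
      (Nat.card {p : G × G // p.1 * a * p.1⁻¹ * (p.2 * b * p.2⁻¹ * c⁻¹) = 1} : ℂ) =
      (Nat.card G : ℂ) ^ 2 * (Nat.card {p : G × G // IsConj a p.1 ∧ IsConj b p.2 ∧ p.1 * p.2 = c} : ℂ) := by
    have hl : (Nat.card {p : G × G // p.1 * a * p.1⁻¹ * (p.2 * b * p.2⁻¹ * c⁻¹) = 1} : ℂ) =
        ∑ p : G, ∑ q : G, if p * a * p⁻¹ * (q * b * q⁻¹) = c then (1 : ℂ) else 0 := by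
      rw [← Fintype.sum_prod_type' (f := fun p q : G => if p * a * p⁻¹ * (q * b * q⁻¹) = c then (1 : ℂ) else 0),
        Finset.sum_boole, Nat.card_eq_fintype_card, Fintype.card_subtype]
      congr 1
      refine congrArg Finset.card (Finset.filter_congr fun p _ => ?_)
      rw [← mul_assoc, mul_inv_eq_one]
    have hr : (Nat.card {p : G × G // IsConj a p.1 ∧ IsConj b p.2 ∧ p.1 * p.2 = c} : ℂ) =
        ∑ x : {x : G // IsConj a x}, ∑ y : {y : G // IsConj b y}, if (x : G) * y = c then (1 : ℂ) else 0 := by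
      rw [← Fintype.sum_prod_type' (f := fun (x : {x : G // IsConj a x}) (y : {y : G // IsConj b y}) =>
          if (x : G) * y = c then (1 : ℂ) else 0), Finset.sum_boole, ← Fintype.card_subtype,
        Nat.card_eq_fintype_card]
      congr 1
      exact Fintype.card_congr
        { toFun := fun p => ⟨(⟨p.1.1, p.2.1⟩, ⟨p.1.2, p.2.2.1⟩), p.2.2.2⟩
          invFun := fun p => ⟨(p.1.1.1, p.1.2.1), p.1.1.2, p.1.2.2, p.2⟩
          left_inv := fun p => rfl
          right_inv := fun p => rfl }
    rw [hl, hr, mul_right_comm,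
      hfib a (fun x => ∑ q : G, if x * (q * b * q⁻¹) = c then (1 : ℂ) else 0),
      mul_assoc, mul_comm _ (Nat.card {x : G // IsConj b x} : ℂ), Finset.mul_sum, pow_two, mul_assoc]
    congr 1
    rw [Finset.mul_sum]
    exact Finset.sum_congr rfl fun x _ => hfib b (fun y => if (x : G) * y = c then (1 : ℂ) else 0)
  have hN : (Nat.card G : ℂ) ≠ 0 := Nat.cast_ne_zero.2 Nat.card_pos.ne'
  rw [finsum_eq_sum_of_fintype]
  simp only [← CfsgLib.Char.IsIrr.map_inv (Subtype.prop _) c]
  rw [← hsum] at hcount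
  field_simp
  apply mul_left_cancel₀ hN
  linear_combination -hcount

end Cfsg.Agent.S0840
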