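import Cfsg.Statements.S0841
import Mathlib

set_option autoImplicit false
open scoped commutatorElement
open Cfsg

namespace Cfsg.Agent.S0841

/-- If the commutator subgroup of G lies in the centre, then for all x, y in G and every natural number n one has (x * y) ^ n = x ^ n * y ^ n * c ^ (n * (n - 1) / 2) with c = y⁻¹ * x⁻¹ * y * x. -/
theorem result {G : Type*} [Group G] (hG : commutator G ≤ Subgroup.center G) (x y : G) (n : ℕ) : (x * y) ^ n = x ^ n * y ^ n * (y⁻¹ * x⁻¹ * y * x) ^ (n * (n - 1) / 2) := by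
  set c := y⁻¹ * x⁻¹ * y * x with hc
  have hcm : c ∈ commutator G := by
    have h : c = ⁅y⁻¹, x⁻¹⁆ := by simp [commutatorElement_def, hc]
    rw [h, commutator_def]
    exact Subgroup.commutator_mem_commutator (Subgroup.mem_top _) (Subgroup.mem_top _)
  have hcc : ∀ g, g * c = c * g := fun g => Subgroup.mem_center_iff.1 (hG hcm) g
  have hcp : ∀ (k : ℕ) g, g * c ^ k = c ^ k * g := fun k g => (Commute.pow_right (hcc g) k).eq
  have hyx : y * x = x * y * c := by simp [hc, mul_assoc]
  have hk : ∀ k : ℕ, y ^ k * x = x * y ^ k * c ^ k := by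
    intro k
    induction k with
    | zero => simp
    | succ k ih =>
      calc y ^ (k + 1) * x = y ^ k * (y * x) := by rw [pow_succ, mul_assoc]
        _ = (y ^ k * x) * (y * c) := by rw [hyx]; group
        _ = x * y ^ k * (c ^ k * y) * c := by rw [ih]; group
        _ = x * y ^ k * (y * c ^ k) * c := by rw [hcp k y]
        _ = x * y ^ (k + 1) * c ^ (k + 1) := by rw [pow_succ, pow_succ]; group
  induction n with
  | zero => simp
  | succ m ih =>
    have hT : (m + 1) * (m + 1 - 1) / 2 = m + m * (m - 1) / 2 := by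
      rcases m with _ | j
      · rfl
      · have h2 : (j + 1 + 1) * (j + 1 + 1 - 1) = (j + 1) * (j + 1 - 1) + 2 * (j + 1) := by
          simp only [Nat.add_sub_cancel]; ring
        rw [h2, Nat.add_mul_div_left _ _ (by norm_num)]; ring
    rw [hT, pow_succ (x * y), ih]
    calc x ^ m * y ^ m * c ^ (m * (m - 1) / 2) * (x * y)
        = x ^ m * y ^ m * ((x * y) * c ^ (m * (m - 1) / 2)) := by rw [hcp _ (x * y)]; group
      _ = x ^ m * (y ^ m * x) * y * c ^ (m * (m - 1) / 2) := by group
      _ = x ^ m * x * y ^ m * (c ^ m * y) * c ^ (m * (m - 1) / 2) := by rw [hk]; group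
      _ = x ^ m * x * y ^ m * (y * c ^ m) * c ^ (m * (m - 1) / 2) := by rw [hcp m y]
      _ = x ^ (m + 1) * y ^ (m + 1) * (c ^ m * c ^ (m * (m - 1) / 2)) := by
          rw [pow_succ, pow_succ]; group
      _ = x ^ (m + 1) * y ^ (m + 1) * c ^ (m + m * (m - 1) / 2) := by rw [← pow_add]

end Cfsg.Agent.S0841
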