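import Cfsg.Statements.S0842
import Mathlib
import Cfsg.Agent.Lib.Char.Exceptional.Quaternion

set_option autoImplicit false
open Cfsg

namespace Cfsg.Agent.S0842

/-- Suppose a Sylow 2-subgroup S of the finite group G is generalized quaternion of order at least 16, and let D be the commutator subgroup of S, C its centralizer and N its normalizer in G. Then there is a subgroup K of odd order, contained in C and normalized by N, with K ⊔ S = N and K ⊔ (S ⊓ C) = C, and C has index 2 in N. -/
theorem result {G : Type*} [Group G] [Finite G] (S : Sylow 2 G) (n : ℕ) (e : (S : Subgroup G) ≃* QuaternionGroup (2 ^ (n + 2))) (D : Subgroup G) (hD : D = ⁅(S : Subgroup G), (S : Subgroup G)⁆) : ∃ K : Subgroup G, Odd (Nat.card K) ∧ K ≤ Subgroup.centralizer (D : Set G) ∧ Subgroup.normalizer (D : Set G) ≤ Subgroup.normalizer (K : Set G) ∧ K ⊔ (S : Subgroup G) = Subgroup.normalizer (D : Set G) ∧ K ⊔ ((S : Subgroup G) ⊓ Subgroup.centralizer (D : Set G)) = Subgroup.centralizer (D : Set G) ∧ ((Subgroup.centralizer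 (D : Set G)).subgroupOf (Subgroup.normalizer (D : Set G))).index = 2 := by
  classical
  obtain ⟨α, β, K, hQ⟩ := CfsgLib.Char.Exceptional.quat_local S e D hD
  have hCN : Subgroup.centralizer (D : Set G) ≤ Subgroup.normalizer (D : Set G) :=
    Subgroup.centralizer_le_normalizer _
  have hαS : α ∈ (S : Subgroup G) ⊓ Subgroup.centralizer (D : Set G) :=
    hQ.inf_eq ▸ Subgroup.mem_zpowers α
  refine ⟨K, hQ.odd_K, hQ.K_le, hQ.N_le, le_antisymm (sup_le (hQ.K_le.trans hCN) hQ.S_le) ?_,
    le_antisymm (sup_le hQ.K_le inf_le_right) ?_, ?_⟩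
  · intro y hy
    have hdec : ∀ z ∈ Subgroup.centralizer (D : Set G), z ∈ K ⊔ (S : Subgroup G) := by
      intro z hz
      obtain ⟨k, hk, i, rfl⟩ := hQ.C_decomp z hz
      exact Subgroup.mul_mem _ (Subgroup.mem_sup_left hk)
        (Subgroup.pow_mem _ (Subgroup.mem_sup_right hQ.α_mem) i)
    rcases hQ.N_decomp y hy with h | h
    · exact hdec y h
    · have := Subgroup.mul_mem _ (hdec _ h) (Subgroup.inv_mem _ (Subgroup.mem_sup_right (S := K) hQ.β_mem))
      simpa using this
  · intro y hy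
    obtain ⟨k, hk, i, rfl⟩ := hQ.C_decomp y hy
    exact Subgroup.mul_mem _ (Subgroup.mem_sup_left hk) (Subgroup.pow_mem _ (Subgroup.mem_sup_right hαS) i)
  · rw [Subgroup.index_eq_two_iff]
    refine ⟨⟨β, hQ.S_le hQ.β_mem⟩, fun y => ?_⟩
    simp only [Subgroup.mem_subgroupOf, Subgroup.coe_mul]
    rcases hQ.N_decomp y y.2 with h | h
    · exact Or.inr ⟨h, fun h' => hQ.β_not_mem ((Subgroup.mul_mem_cancel_left _ h).1 h')⟩
    · exact Or.inl ⟨h, fun h' => hQ.β_not_mem ((Subgroup.mul_mem_cancel_left _ h').1 h)⟩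

end Cfsg.Agent.S0842
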