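import Cfsg.Statements.S0850
import Mathlib
import Cfsg.Agent.Lib.Char.Exceptional.TIFN

set_option autoImplicit false
open Cfsg

namespace Cfsg.Agent.S0850

/-- Let K be a subgroup of the finite group G that meets each conjugate by an element outside its normalizer N trivially, is properly contained in N, and contains the centralizer of each of its non-identity elements (a T.I. subgroup with Frobenius normalizer). Then no element of N outside K is conjugate in G to an element of K, and for every class function ϑ of N that vanishes on N away from K and at the identity, the function induced from ϑ to G agrees with ϑ on all of N. -/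
theorem result {G : Type*} [Group G] [Fintype G] (K : Subgroup G) (hTI : ∀ g : G, g ∉ Subgroup.normalizer (K : Set G) → ∀ k ∈ K, g * k * g⁻¹ ∈ K → k = 1) (hlt : K < Subgroup.normalizer (K : Set G)) (hC : ∀ k ∈ K, k ≠ 1 → Subgroup.centralizer ({k} : Set G) ≤ K) : (∀ x ∈ Subgroup.normalizer (K : Set G), x ∉ K → ∀ g : G, g * x * g⁻¹ ∉ K) ∧ ∀ (ϑ : Subgroup.normalizer (K : Set G) → ℂ), Cfsg.IsClassFunction (Subgroup.normalizer (K : Set G)) ϑ → (∀ x : Subgroup.normalizer (K : Set G), (x : G) ∉ K → ϑ x = 0) → ϑ 1 = 0 → ∀ x : Subgroup.normalizer (K : Set G), Cfsg.indFun (Subgroup.normalizer (K : Set G)) ϑ x = ϑ x := by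
  have hnc : ∀ x ∈ Subgroup.normalizer (K : Set G), x ∉ K → ∀ g : G, g * x * g⁻¹ ∉ K :=
    fun x hx hxK g => CfsgLib.Char.Exceptional.tifn_not_conj hC hx hxK g
  set N := Subgroup.normalizer (K : Set G) with hN
  refine ⟨hnc, fun ϑ hϑ hsupp h1 x => ?_⟩
  let S : Set G := {s | s ∈ K ∧ s ≠ 1}
  have hTIS : ∀ g : G, g ∉ N → ∀ s ∈ S, g * s * g⁻¹ ∉ S :=
    fun g hg s hs hgs => hs.2 (hTI g hg s hs.1 hgs.1)
  have hS : ∀ y : N, (y : G) ∉ S → ϑ y = 0 := by
    intro y hy
    by_cases hyK : (y : G) ∈ K
    · have : y = 1 := by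
        by_contra h
        exact hy ⟨hyK, fun he => h (Subtype.ext he)⟩
      rw [this, h1]
    · exact hsupp y hyK
  by_cases hx : (x : G) ∈ S
  · exact CfsgLib.Char.Exceptional.ti_indFun_eq hTIS hϑ hS hx
  · rw [hS x hx]
    refine CfsgLib.Char.Exceptional.indFun_eq_zero_of_support hS fun y hy => ?_
    by_cases hxK : (x : G) ∈ K
    · by_cases hx1 : (x : G) = 1
      · exact hy.2 (by rw [hx1]; simp)
      · exact hx ⟨hxK, hx1⟩
    · exact hnc x x.2 hxK y⁻¹ (by simpa using hy.1)

end Cfsg.Agent.S0850
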