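import Cfsg.Statements.S0855
import Mathlib
import Cfsg.Agent.S0887
import Cfsg.Agent.Lib.CharDegree.Basic
import Cfsg.Agent.Lib.Char.CliffordCorr

set_option autoImplicit false
open Cfsg

namespace Cfsg.Agent.S0855

open scoped commutatorElement

theorem exists_index_eq_prime {Q : Type*} [CommGroup Q] [Finite Q] {p : ℕ} (hp : p.Prime) (h : p ∣ Nat.card Q) :
    ∃ M : Subgroup Q, M.index = p := by
  have : Fact p.Prime := ⟨hp⟩
  obtain ⟨n, hn, e⟩ : ∃ n m, Nat.card Q = p ^ n * m ∧ ¬ p ∣ m := by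
    exact ⟨_, _, (Nat.ordProj_mul_ordCompl_eq_self (Nat.card Q) p).symm, Nat.not_dvd_ordCompl hp Nat.card_pos.ne'⟩
  obtain ⟨P⟩ : Nonempty (Sylow p Q) := inferInstance
  obtain ⟨C, hC⟩ : ∃ C : Subgroup Q, C.IsComplement' (P : Subgroup Q) :=
    Subgroup.exists_left_complement'_of_coprime P.card_coprime_index
  have hPne : Nontrivial (P : Subgroup Q) := by
    rw [← Finite.one_lt_card_iff_nontrivial, P.card_eq_multiplicity]
    exact Nat.one_lt_pow (Nat.Prime.factorization_pos_of_dvd hp Nat.card_pos.ne' h).ne' hp.one_lt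
  obtain ⟨m, hm⟩ := IsPGroup.iff_card.1 P.2
  cases m with
  | zero =>
    rw [pow_zero] at hm
    exact absurd hm (Finite.one_lt_card_iff_nontrivial.2 hPne).ne'
  | succ m =>
    have hQC : Nat.card (Q ⧸ C) = p ^ (m + 1) := by
      have h1 := C.card_mul_index
      rw [← hC.card_mul_card, hm] at h1
      rw [← Subgroup.index_eq_card]
      exact Nat.eq_of_mul_eq_mul_left Nat.card_pos h1
    obtain ⟨M₀, hM₀⟩ := Sylow.exists_subgroup_card_pow_prime (G := Q ⧸ C) p (n := m)
      (by rw [hQC, pow_succ]; exact dvd_mul_right _ _)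
    refine ⟨M₀.comap (QuotientGroup.mk' C), ?_⟩
    rw [Subgroup.index_comap_of_surjective _ (QuotientGroup.mk'_surjective C)]
    have h2 := M₀.card_mul_index
    rw [hM₀, hQC, pow_succ] at h2
    exact Nat.eq_of_mul_eq_mul_left (pow_pos hp.pos m) h2

open scoped Classical in
theorem forward (p : ℕ) (hp : p.Prime) : ∀ (n : ℕ) (G : Type*) [Group G] [Finite G], Nat.card G ≤ n →
    (∀ χ : Cfsg.IrrCharacter G, ∃ k : ℕ, (χ : G → ℂ) 1 = (p : ℂ) ^ k) →
    ∃ A : Subgroup G, A.Normal ∧ (∀ a ∈ A, ∀ b ∈ A, a * b = b * a) ∧ Nat.Coprime (Nat.card A) p ∧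
      ∃ k : ℕ, A.index = p ^ k := by
  intro n
  induction n with
  | zero =>
    intro G _ _ hG _
    have := Nat.card_pos (α := G)
    omega
  | succ n ih =>
    intro G _ _ hG h
    have := Fintype.ofFinite G
    have := Fintype.ofFinite (Cfsg.IrrCharacter G)
    have hdvdG : ∀ χ : Cfsg.IrrCharacter G, ∀ k : ℕ, (χ : G → ℂ) 1 = (p : ℂ) ^ k → p ^ k ∣ Nat.card G := by
      intro χ k hk
      have := CfsgLib.CharDegree.charDegree_dvd_card χ
      rwa [CfsgLib.CharDegree.charDegree_eq_of_apply_one (n := p ^ k) (by rw [hk, Nat.cast_pow])] at this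
    by_cases hpG : p ∣ Nat.card G
    swap
    · have hlin : ∀ χ : Cfsg.IrrCharacter G, Cfsg.charDegree (χ : G → ℂ) = 1 := by
        intro χ
        obtain ⟨k, hk⟩ := h χ
        cases k with
        | zero => exact CfsgLib.CharDegree.charDegree_eq_of_apply_one (n := 1) (by rw [hk, pow_zero, Nat.cast_one])
        | succ k => exact absurd ((dvd_pow_self p k.succ_ne_zero).trans (hdvdG χ _ hk)) hpG
      have hG' : commutator G = ⊥ := by
        have h1 := CfsgLib.CharDegree.card_linear (G := G)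
        rw [Nat.card_congr (Equiv.subtypeUnivEquiv hlin)] at h1
        have h2 := CfsgLib.Char.sum_sq_degree (G := G)
        rw [Finset.sum_congr rfl (g := fun _ => (1 : ℂ)) (fun ψ _ => by
          rw [← CfsgLib.CharDegree.cast_irrDegree, hlin ψ]; norm_num), Finset.sum_const, Finset.card_univ,
          nsmul_eq_mul, mul_one, ← Nat.card_eq_fintype_card, h1, Nat.cast_inj] at h2
        rw [← Subgroup.card_eq_one]
        have h3 := (commutator G).card_mul_index
        rw [h2] at h3
        exact (mul_eq_right₀ Nat.card_pos.ne').1 h3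
      refine ⟨⊤, inferInstance, fun a _ b _ => ?_, ?_, 0, by simp⟩
      · have h1 : ⁅a, b⁆ ∈ commutator G := by
          rw [commutator_def]
          exact Subgroup.commutator_mem_commutator (Subgroup.mem_top _) (Subgroup.mem_top _)
        rw [hG', Subgroup.mem_bot, commutatorElement_eq_one_iff_mul_comm] at h1
        exact h1
      · rw [Subgroup.card_top]; exact ((hp.coprime_iff_not_dvd).2 hpG).symm
    have := Fact.mk hp
    -- the number of linear characters is divisible by p
    have hidx : p ∣ (commutator G).index := by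
      have h2 := CfsgLib.Char.sum_sq_degree (G := G)
      choose k hk using h
      have h3 : (Nat.card G : ℕ) = ∑ χ : Cfsg.IrrCharacter G, (p ^ k χ) ^ 2 := by
        apply Nat.cast_injective (R := ℂ)
        rw [← h2, Nat.cast_sum]
        exact Finset.sum_congr rfl fun χ _ => by rw [hk]; push_cast; rfl
      rw [← CfsgLib.CharDegree.card_linear, Nat.card_eq_fintype_card, Fintype.card_subtype]
      rw [← Finset.sum_filter_add_sum_filter_not Finset.univ
        (fun χ : Cfsg.IrrCharacter G => Cfsg.charDegree (χ : G → ℂ) = 1),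
        Finset.sum_congr rfl (g := fun _ => 1) (fun χ hχ => by
          rw [← CfsgLib.CharDegree.charDegree_eq_of_apply_one (χ := (χ : G → ℂ)) (n := p ^ k χ) (by rw [hk, Nat.cast_pow]),
            (Finset.mem_filter.1 hχ).2]; rfl), Finset.sum_const, smul_eq_mul, mul_one] at h3
      have h4 : p ∣ ∑ χ ∈ Finset.univ.filter (fun χ : Cfsg.IrrCharacter G => ¬ Cfsg.charDegree (χ : G → ℂ) = 1),
          (p ^ k χ) ^ 2 := Finset.dvd_sum fun χ hχ => by
        refine dvd_pow (dvd_pow_self p fun h0 => (Finset.mem_filter.1 hχ).2 ?_) two_ne_zero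
        exact CfsgLib.CharDegree.charDegree_eq_of_apply_one (n := 1) (by rw [hk, h0, pow_zero, Nat.cast_one])
      exact (Nat.dvd_add_left h4).1 (h3 ▸ hpG)
    obtain ⟨M, hMn, hMi⟩ : ∃ M : Subgroup G, M.Normal ∧ M.index = p := by
      let Q := G ⧸ commutator G
      let : CommGroup Q := { (inferInstance : Group Q) with mul_comm := CfsgLib.CharDegree.quotient_commutator_comm }
      obtain ⟨m, hm⟩ : p ∣ Nat.card Q := by rw [← Subgroup.index_eq_card]; exact hidx
      obtain ⟨M', hM'⟩ := exists_index_eq_prime (Q := Q) hp ⟨m, hm⟩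
      exact ⟨M'.comap (QuotientGroup.mk' (commutator G)), inferInstance, by
        rw [Subgroup.index_comap_of_surjective _ (QuotientGroup.mk'_surjective _), hM']⟩
    have := hMn
    have := Fintype.ofFinite M
    have hcard : Nat.card M ≤ n := by
      have h1 := M.card_mul_index
      rw [hMi] at h1
      have h2 : 0 < Nat.card M := Nat.card_pos
      have := hp.two_le
      nlinarith
    obtain ⟨A, hAn, hab, hcop, k, hk⟩ := ih M hcard fun θ => by
      obtain ⟨χ, hχ⟩ := CfsgLib.Clifford.exists_constituent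
        (CfsgLib.Char.isClassFunction_indFun M (θ : M → ℂ)) (fun h0 => by
          have h1 := congrFun h0 1
          rw [CfsgLib.Char.indFun_apply_one, Pi.zero_apply, mul_eq_zero] at h1
          rcases h1 with h1 | h1
          · exact Subgroup.index_ne_zero_of_finite (Nat.cast_eq_zero.1 h1)
          · exact CfsgLib.Char.IsIrr.apply_one_ne_zero θ.2 h1)
      have hcon : Cfsg.classInner (fun m : M => (χ : G → ℂ) m) (θ : M → ℂ) ≠ 0 := by
        rw [CfsgLib.Char.frobenius_reciprocity M _ (CfsgLib.Char.IsIrr.isClassFunction χ.2),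
          ← CfsgLib.Char.classInner_conj_symm] at hχ
        exact fun h0 => hχ (by rw [h0, map_zero])
      obtain ⟨j, hj⟩ := h χ
      obtain ⟨d, -, hd⟩ := CfsgLib.Char.IsIrr.exists_degree θ.2
      obtain ⟨hdvd, -⟩ := Cfsg.Agent.S0887.result M χ χ.2 θ θ.2 hcon (p ^ j) d (by rw [hj, Nat.cast_pow]) hd
      obtain ⟨i, -, hi⟩ := (Nat.dvd_prime_pow hp).1 hdvd
      exact ⟨i, by rw [hd, hi, Nat.cast_pow]⟩
    refine ⟨A.map M.subtype, ⟨fun x hx g => ?_⟩, ?_, ?_, k + 1, ?_⟩
    · obtain ⟨a, ha, rfl⟩ := hx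
      refine ⟨⟨g * a * g⁻¹, hMn.conj_mem _ a.2 g⟩, ?_, rfl⟩
      rw [SetLike.mem_coe, ← QuotientGroup.eq_one_iff, ← orderOf_eq_one_iff]
      have h1 : orderOf (QuotientGroup.mk' A (⟨g * a * g⁻¹, hMn.conj_mem _ a.2 g⟩ : M)) ∣ Nat.card A := by
        refine (orderOf_map_dvd _ _).trans ?_
        rw [← Subgroup.orderOf_coe]
        show orderOf (MulAut.conj g (a : G)) ∣ Nat.card A
        rw [MulEquiv.orderOf_eq, Subgroup.orderOf_coe]
        exact A.orderOf_dvd_natCard ha
      have h2 : orderOf (QuotientGroup.mk' A (⟨g * a * g⁻¹, hMn.conj_mem _ a.2 g⟩ : M)) ∣ p ^ k := by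
        rw [← hk, Subgroup.index_eq_card]; exact orderOf_dvd_natCard _
      exact Nat.eq_one_of_dvd_coprimes (Nat.Coprime.pow_right k hcop) h1 h2
    · rintro _ ⟨a, ha, rfl⟩ _ ⟨b, hb, rfl⟩
      rw [← map_mul, hab a ha b hb, map_mul]
    · rwa [Subgroup.card_map_of_injective M.subtype_injective]
    · rw [Subgroup.index_map, Subgroup.ker_subtype, Subgroup.range_subtype, sup_bot_eq, hk, hMi, pow_succ]


/-- For a finite group G and a prime p: every irreducible character of G has degree a power of p if and only if G has an abelian normal subgroup whose order is prime to p and whose index is a power of p. -/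
theorem result {G : Type*} [Group G] [Finite G] (p : ℕ) (hp : p.Prime) : (∀ χ : Cfsg.IrrCharacter G, ∃ k : ℕ, (χ : G → ℂ) 1 = (p : ℂ) ^ k) ↔ ∃ A : Subgroup G, A.Normal ∧ (∀ a ∈ A, ∀ b ∈ A, a * b = b * a) ∧ Nat.Coprime (Nat.card A) p ∧ ∃ k : ℕ, A.index = p ^ k := by
  have hdeg_one : ∀ (χ : Cfsg.IrrCharacter G), ∀ d : ℕ, (χ : G → ℂ) 1 = d → Cfsg.charDegree (χ : G → ℂ) = d :=
    fun χ d h => CfsgLib.CharDegree.charDegree_eq_of_apply_one h
  constructor
  · intro h
    exact forward p hp (Nat.card G) G le_rfl h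
  · rintro ⟨A, hAn, hab, -, k, hk⟩ χ
    classical
    have := Fintype.ofFinite G
    have := Fintype.ofFinite A
    obtain ⟨d, hd0, hd⟩ := CfsgLib.Char.IsIrr.exists_degree χ.2
    have hres := CfsgLib.Char.IsChar.restrict A (CfsgLib.Char.IsIrr.isCharacter χ.2)
    obtain ⟨θ, hθ⟩ := CfsgLib.Clifford.exists_constituent (CfsgLib.Char.IsChar.isClassFunction hres) (fun h => by
      have h1 := congrFun h 1
      simp only [OneMemClass.coe_one, Pi.zero_apply] at h1
      exact CfsgLib.Char.IsIrr.apply_one_ne_zero χ.2 h1)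
    have hab' : ∀ a b : A, a * b = b * a := fun a b => Subtype.ext (hab a a.2 b b.2)
    have hθ1 : (θ : A → ℂ) 1 = ((1 : ℕ) : ℂ) := by
      rw [← CfsgLib.CharDegree.cast_irrDegree θ, CfsgLib.CharDegree.charDegree_of_comm hab' θ]
    obtain ⟨-, hdvd⟩ := Cfsg.Agent.S0887.result A χ χ.2 θ θ.2 hθ d 1 hd hθ1
    rw [Nat.div_one, hk] at hdvd
    obtain ⟨j, -, hj⟩ := (Nat.dvd_prime_pow hp).1 hdvd
    exact ⟨j, by rw [hd, hj, Nat.cast_pow]⟩

end Cfsg.Agent.S0855
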