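import Cfsg.Statements.S0856
import Mathlib
import Cfsg.Agent.Lib.Char.Brauer
import Cfsg.Agent.Lib.Char.Exceptional.NormalInd

set_option autoImplicit false
open Cfsg

namespace Cfsg.Agent.S0856

/-- Let N be a normal subgroup of the finite group G and φ, ϑ irreducible characters of N that are invariant under conjugation by G, such that the pointwise product φ * ϑ is irreducible and ϑ is the restriction of an irreducible character χ of G. Then multiplication by χ is a bijection from the set of irreducible characters of G having nonzero inner product with the function induced from φ onto the set of those having nonzero inner product with the function induced from φ * ϑ. -/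
theorem result {G : Type*} [Group G] [Fintype G] (N : Subgroup G) [hN : N.Normal] (φ ϑ : N → ℂ) (hφ : Cfsg.IsIrrCharacter N φ) (hϑ : Cfsg.IsIrrCharacter N ϑ) (hφinv : ∀ (g : G) (n : N), φ ⟨g * n * g⁻¹, hN.conj_mem (n : G) n.2 g⟩ = φ n) (hϑinv : ∀ (g : G) (n : N), ϑ ⟨g * n * g⁻¹, hN.conj_mem (n : G) n.2 g⟩ = ϑ n) (hprod : Cfsg.IsIrrCharacter N (φ * ϑ)) (χ : G → ℂ) (hχ : Cfsg.IsIrrCharacter G χ) (hext : ∀ n : N, χ n = ϑ n) : Set.BijOn (fun β : G → ℂ => β * χ) {β : G → ℂ | Cfsg.IsIrrCharacter G β ∧ Cfsg.classInner (Cfsg.indFun N φ) β ≠ 0} {ψ : G → ℂ | Cfsg.IsIrrCharacter G ψ ∧ Cfsg.classInner (Cfsg.indFun N (φ * ϑ)) ψ ≠ 0} := by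
  classical
  have := Fintype.ofFinite N
  have := Fintype.ofFinite (Cfsg.IrrCharacter G)
  have hN0 : (Nat.card N : ℂ) ≠ 0 := Nat.cast_ne_zero.2 Nat.card_pos.ne'
  have hnorm : ∀ θ : N → ℂ, Cfsg.IsIrrCharacter N θ → (∀ g : G, CfsgLib.Char.Exceptional.cjFun N g θ = θ) →
      Cfsg.classInner (Cfsg.indFun N θ) (Cfsg.indFun N θ) = (N.index : ℂ) := by
    intro θ hθ hinv
    rw [CfsgLib.Char.Exceptional.classInner_indFun_normal,
      Finset.sum_congr rfl (g := fun _ => (1 : ℂ)) (fun g _ => by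
        rw [hinv g]; exact CfsgLib.Char.Exceptional.classInner_self_of_irr hθ),
      Finset.sum_const, Finset.card_univ, nsmul_eq_mul, mul_one, ← Nat.card_eq_fintype_card, ← N.card_mul_index,
      Nat.cast_mul, inv_mul_cancel_left₀ hN0]
  have hχc := CfsgLib.Char.IsIrr.isCharacter hχ
  have hΓc := CfsgLib.Char.isCharacter_indFun N (CfsgLib.Char.IsIrr.isCharacter hφ)
  choose e he using fun β : Cfsg.IrrCharacter G =>
    CfsgLib.Char.IsChar.classInner_eq_natCast hΓc (CfsgLib.Char.IsIrr.isCharacter β.2)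
  choose a ha using fun β γ : Cfsg.IrrCharacter G => CfsgLib.Char.IsChar.classInner_eq_natCast
    (CfsgLib.Char.IsChar.mul (CfsgLib.Char.IsIrr.isCharacter β.2) hχc)
    (CfsgLib.Char.IsChar.mul (CfsgLib.Char.IsIrr.isCharacter γ.2) hχc)
  have hprodeq : Cfsg.indFun N (φ * ϑ) = ∑ β : Cfsg.IrrCharacter G, (e β : ℂ) • ((β : G → ℂ) * χ) := by
    have h1 : Cfsg.indFun N (φ * ϑ) = Cfsg.indFun N φ * χ := by
      rw [CfsgLib.Brauer.indFun_mul N φ (CfsgLib.Char.IsChar.isClassFunction hχc)]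
      exact congrArg _ (funext fun n => by simp [hext n])
    rw [h1, CfsgLib.Char.classFunction_eq_sum (CfsgLib.Char.isClassFunction_indFun N φ), Finset.sum_mul]
    exact Finset.sum_congr rfl fun β _ => by rw [he β, smul_mul_assoc]
  have hinner : ∀ ψ : G → ℂ, Cfsg.classInner (Cfsg.indFun N (φ * ϑ)) ψ =
      ∑ β : Cfsg.IrrCharacter G, (e β : ℂ) * Cfsg.classInner ((β : G → ℂ) * χ) ψ := fun ψ => by
    rw [hprodeq, CfsgLib.Char.classInner_sum_left]
    simp only [CfsgLib.Char.classInner_smul_left]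
  have hes : ∑ β, e β * e β = N.index := by
    have h := hnorm φ hφ fun g => funext (hφinv g)
    rw [CfsgLib.Char.classInner_eq_sum (CfsgLib.Char.isClassFunction_indFun N φ)] at h
    apply Nat.cast_injective (R := ℂ)
    rw [← h, Nat.cast_sum]
    exact Finset.sum_congr rfl fun β _ => by rw [he β, map_natCast, Nat.cast_mul]
  have hga : ∑ β, ∑ γ, e β * (e γ * a β γ) = N.index := by
    have h := hnorm _ hprod fun g => funext fun n => by
      simp only [CfsgLib.Char.Exceptional.cjFun, Pi.mul_apply, hφinv, hϑinv]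
    rw [hinner] at h
    apply Nat.cast_injective (R := ℂ)
    rw [← h, Nat.cast_sum]
    refine Finset.sum_congr rfl fun β _ => ?_
    rw [hprodeq, CfsgLib.Char.classInner_sum_right, Finset.mul_sum, Nat.cast_sum]
    refine Finset.sum_congr rfl fun γ _ => ?_
    rw [CfsgLib.Char.classInner_smul_right, ha, map_natCast]
    push_cast; ring
  have hpos : ∀ β, 1 ≤ a β β := fun β => Nat.one_le_iff_ne_zero.2 fun h0 => by
    have h := ha β β
    rw [h0, Nat.cast_zero] at h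
    have := congrFun (CfsgLib.Char.IsChar.eq_zero_of_classInner_self
      (CfsgLib.Char.IsChar.mul (CfsgLib.Char.IsIrr.isCharacter β.2) hχc) h) 1
    exact mul_ne_zero (CfsgLib.Char.IsIrr.apply_one_ne_zero β.2) (CfsgLib.Char.IsIrr.apply_one_ne_zero hχ) this
  have hsplit : ∀ β, e β * e β ≤ ∑ γ, e β * (e γ * a β γ) := fun β =>
    le_trans (by nlinarith [hpos β, Nat.zero_le (e β * e β)])
      (Finset.single_le_sum (f := fun γ => e β * (e γ * a β γ)) (fun _ _ => Nat.zero_le _) (Finset.mem_univ β))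
  have heq : ∀ β, e β * e β = ∑ γ, e β * (e γ * a β γ) := fun β =>
    (Finset.sum_eq_sum_iff_of_le fun β _ => hsplit β).1 (hes.trans hga.symm) β (Finset.mem_univ _)
  have hdiag : ∀ β, e β ≠ 0 → a β β = 1 ∧ ∀ γ, γ ≠ β → e γ ≠ 0 → a β γ = 0 := by
    intro β hβ
    have h := heq β
    rw [← Finset.add_sum_erase _ _ (Finset.mem_univ β)] at h
    have h1 : e β * e β ≤ e β * (e β * a β β) := by nlinarith [hpos β, Nat.zero_le (e β * e β)]
    refine ⟨?_, fun γ hne hγ => ?_⟩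
    · have h2 : e β * (e β * a β β) = e β * (e β * 1) := by rw [mul_one]; omega
      exact mul_left_cancel₀ hβ (mul_left_cancel₀ hβ h2)
    · have h2 : ∑ x ∈ Finset.univ.erase β, e β * (e x * a β x) = 0 := by omega
      have h3 := Finset.sum_eq_zero_iff.1 h2 γ (Finset.mem_erase.2 ⟨hne, Finset.mem_univ _⟩)
      simpa [hβ, hγ] using h3
  have hmem : ∀ β : Cfsg.IrrCharacter G, Cfsg.classInner (Cfsg.indFun N φ) (β : G → ℂ) ≠ 0 ↔ e β ≠ 0 := fun β => by
    rw [he, Nat.cast_ne_zero]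
  have hirr : ∀ β : Cfsg.IrrCharacter G, e β ≠ 0 → Cfsg.IsIrrCharacter G ((β : G → ℂ) * χ) := fun β hβ =>
    CfsgLib.Char.IsChar.isIrr_of_classInner_eq_one
      (CfsgLib.Char.IsChar.mul (CfsgLib.Char.IsIrr.isCharacter β.2) hχc) (by rw [ha, (hdiag β hβ).1, Nat.cast_one])
  refine ⟨?_, ?_, ?_⟩
  · rintro β ⟨hβ, hne⟩
    have hβ0 := (hmem ⟨β, hβ⟩).1 hne
    refine ⟨hirr ⟨β, hβ⟩ hβ0, ?_⟩
    rw [hinner, Finset.sum_eq_single (⟨β, hβ⟩ : Cfsg.IrrCharacter G) (fun γ _ hγ => ?_)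
      (fun h => absurd (Finset.mem_univ _) h)]
    · show _ * Cfsg.classInner _ (((⟨β, hβ⟩ : Cfsg.IrrCharacter G) : G → ℂ) * χ) ≠ 0
      rw [ha, (hdiag _ hβ0).1]
      simpa using hβ0
    · by_cases h0 : e γ = 0
      · rw [h0, Nat.cast_zero, zero_mul]
      · show _ * Cfsg.classInner _ (((⟨β, hβ⟩ : Cfsg.IrrCharacter G) : G → ℂ) * χ) = 0
        rw [ha,
          (hdiag γ h0).2 _ (Ne.symm hγ) hβ0, Nat.cast_zero, mul_zero]
  · rintro β ⟨hβ, hne⟩ γ ⟨hγ, hne'⟩ heqβ
    by_contra hbg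
    have h := (hdiag ⟨β, hβ⟩ ((hmem ⟨β, hβ⟩).1 hne)).2 ⟨γ, hγ⟩ (fun e' => hbg (congrArg Subtype.val e').symm)
      ((hmem ⟨γ, hγ⟩).1 hne')
    have h1 := ha ⟨β, hβ⟩ ⟨γ, hγ⟩
    rw [h, Nat.cast_zero] at h1
    simp only at heqβ h1
    rw [← heqβ, CfsgLib.Char.Exceptional.classInner_self_of_irr (hirr ⟨β, hβ⟩ ((hmem ⟨β, hβ⟩).1 hne))] at h1
    exact one_ne_zero h1
  · rintro ψ ⟨hψ, hne⟩
    rw [hinner] at hne
    obtain ⟨β, -, hβ⟩ := Finset.exists_ne_zero_of_sum_ne_zero hne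
    have hβ0 : e β ≠ 0 := fun h0 => left_ne_zero_of_mul hβ (by rw [h0, Nat.cast_zero])
    refine ⟨β, ⟨β.2, (hmem β).2 hβ0⟩, ?_⟩
    by_contra hne'
    exact right_ne_zero_of_mul hβ (CfsgLib.Char.Exceptional.classInner_eq_zero_of_irr (hirr β hβ0) hψ hne')

end Cfsg.Agent.S0856
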