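import Cfsg.Statements.S0859
import Mathlib
import Cfsg.Agent.Lib.Char.Exceptional.RelativeMonomial

set_option autoImplicit false
open Cfsg

namespace Cfsg.Agent.S0859

/-- Let G be a finite solvable group and N a normal subgroup such that for every prime p every Sylow p-subgroup of N is abelian. Suppose every irreducible character of G is induced from an irreducible character of some subgroup containing N whose restriction to N is irreducible. Then every irreducible character of G is induced from a character of degree 1 of some subgroup. -/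
theorem result {G : Type*} [Group G] [Fintype G] [Group.IsSolvable G] (N : Subgroup G) [N.Normal] (hab : ∀ (p : ℕ) [Fact p.Prime] (P : Sylow p N), ∀ a ∈ P, ∀ b ∈ P, a * b = b * a) (hrel : ∀ χ : G → ℂ, Cfsg.IsIrrCharacter G χ → ∃ (H : Subgroup G) (hNH : N ≤ H) (ψ : H → ℂ), Cfsg.IsIrrCharacter H ψ ∧ Cfsg.indFun H ψ = χ ∧ Cfsg.IsIrrCharacter N (fun n : N => ψ ⟨(n : G), hNH n.2⟩)) (χ : G → ℂ) (hχ : Cfsg.IsIrrCharacter G χ) : ∃ (U : Subgroup G) (lam : U → ℂ), Cfsg.IsCharacter U lam ∧ lam 1 = 1 ∧ Cfsg.indFun U lam = χ := by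
  classical
  obtain ⟨H, hNH, ψ, hψ, rfl, hres⟩ := hrel χ hχ
  haveI := Fintype.ofFinite H
  have hNn : (N.subgroupOf H).Normal := (inferInstance : N.Normal).subgroupOf H
  have hsol : Group.IsSolvable (N.subgroupOf H) := inferInstance
  have hA : CfsgLib.Char.Exceptional.AbSylow (N.subgroupOf H) := by
    intro p hp Q hQ hQp a ha b hb
    refine Subtype.ext (CfsgLib.Char.Exceptional.AbSylow.of_sylow hab p hp (Q.map H.subtype) ?_
      (hQp.map H.subtype) _ ⟨a, ha, rfl⟩ _ ⟨b, hb, rfl⟩)
    rintro _ ⟨q, hq, rfl⟩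
    exact hQ hq
  have hres' : Cfsg.IsIrrCharacter (N.subgroupOf H) (fun n : N.subgroupOf H => ψ n) :=
    CfsgLib.Char.IsIrr.comp_surjective (Subgroup.subgroupOfEquivOfLe hNH).toMonoidHom
      (Subgroup.subgroupOfEquivOfLe hNH).surjective hres
  obtain ⟨U, lam, hU⟩ := CfsgLib.Clifford.monomial_of_indFun H
    (CfsgLib.Char.Exceptional.monomial_of_restrict_irr (N.subgroupOf H) hNn hsol hA ψ hψ hres')
  exact ⟨U, fun u => (lam u : ℂ), CfsgLib.Char.IsIrr.isCharacter (CfsgLib.Char.isIrrCharacter_linear lam),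
    by simp, hU.symm⟩

end Cfsg.Agent.S0859
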