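import Cfsg.Statements.S0861
import Mathlib
import Cfsg.Agent.S0887
import Cfsg.Agent.Lib.Char.GaloisMean
import Cfsg.Agent.Lib.Char.Exceptional.PElementValue
import Cfsg.Agent.Lib.CharDegree.Basic
import Cfsg.Agent.Lib.Char.CliffordCorr

set_option autoImplicit false
open Cfsg

namespace Cfsg.Agent.S0861

/-- Let P be a normal abelian Sylow p-subgroup of the finite group G and suppose some element g of P has centralizer exactly P. Then the number of irreducible characters of G is at most the order of P, and if equality holds then G / P is abelian (the commutator subgroup lies in P). -/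
theorem result {G : Type*} [Group G] [Finite G] (p : ℕ) [Fact p.Prime] (P : Sylow p G) [(P : Subgroup G).Normal] (hab : ∀ a ∈ P, ∀ b ∈ P, a * b = b * a) (g : G) (hg : g ∈ P) (hC : Subgroup.centralizer ({g} : Set G) = P) : Nat.card (Cfsg.IrrCharacter G) ≤ Nat.card P ∧ (Nat.card (Cfsg.IrrCharacter G) = Nat.card P → commutator G ≤ P) := by
  classical
  have := Fintype.ofFinite G
  have := Fintype.ofFinite (Cfsg.IrrCharacter G)
  have hp : p.Prime := Fact.out
  have := Fintype.ofFinite (P : Subgroup G)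
  have hab' : ∀ a b : (P : Subgroup G), a * b = b * a := fun a b => Subtype.ext (hab a a.2 b b.2)
  obtain ⟨k, hgk⟩ : ∃ k, g ^ p ^ k = 1 := by
    obtain ⟨k, hk⟩ := P.2 ⟨g, hg⟩
    exact ⟨k, by simpa using congrArg Subtype.val hk⟩
  have hdeg : ∀ χ : Cfsg.IrrCharacter G, ∃ d : ℕ, (χ : G → ℂ) 1 = d ∧ ¬ p ∣ d := by
    intro χ
    obtain ⟨d, hd0, hd⟩ := CfsgLib.Char.IsIrr.exists_degree χ.2
    have hres := CfsgLib.Char.IsChar.restrict (P : Subgroup G) (CfsgLib.Char.IsIrr.isCharacter χ.2)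
    obtain ⟨θ, hθ⟩ := CfsgLib.Clifford.exists_constituent (CfsgLib.Char.IsChar.isClassFunction hres) (fun h => by
      have h1 := congrFun h 1
      simp only [OneMemClass.coe_one, Pi.zero_apply] at h1
      exact CfsgLib.Char.IsIrr.apply_one_ne_zero χ.2 h1)
    have hθ1 : (θ : ↥(P : Subgroup G) → ℂ) 1 = ((1 : ℕ) : ℂ) := by
      rw [← CfsgLib.CharDegree.cast_irrDegree θ, CfsgLib.CharDegree.charDegree_of_comm hab' θ]
    obtain ⟨-, hdvd⟩ := Cfsg.Agent.S0887.result (P : Subgroup G) χ χ.2 θ θ.2 hθ d 1 hd hθ1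
    rw [Nat.div_one] at hdvd
    exact ⟨d, hd, fun h => P.not_dvd_index (h.trans hdvd)⟩
  obtain ⟨ι, hι, hne, kk, hkk, hgal⟩ := CfsgLib.Char.exists_galois_conjugates_norm G
  have hcol : ∀ i, ∑ χ : Cfsg.IrrCharacter G, ‖(χ : G → ℂ) (g ^ kk i)‖ ^ 2 = (Nat.card P : ℝ) := by
    intro i
    have hcent : Subgroup.centralizer ({g ^ kk i} : Set G) = (P : Subgroup G) := by
      rw [← hC, ← Subgroup.centralizer_closure, ← Subgroup.centralizer_closure ({g} : Set G),
        ← Subgroup.zpowers_eq_closure, ← Subgroup.zpowers_eq_closure]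
      congr 2
      refine le_antisymm (Subgroup.zpowers_le.2 (Subgroup.pow_mem _ (Subgroup.mem_zpowers g) _)) ?_
      refine Subgroup.zpowers_le.2 ?_
      obtain ⟨u, hu⟩ := exists_pow_eq_self_of_coprime
        ((hkk i).coprime_dvd_right (orderOf_dvd_natCard g))
      exact ⟨(u : ℤ), by simp only [zpow_natCast]; exact hu⟩
    have h := CfsgLib.Char.column_orthogonality (g ^ kk i) (g ^ kk i)
    rw [if_pos (IsConj.refl _), hcent] at h
    apply Complex.ofReal_injective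
    push_cast
    rw [← h]
    exact Finset.sum_congr rfl fun χ _ => (Complex.mul_conj' _).symm
  have hgal' : ∀ χ : Cfsg.IrrCharacter G, (Fintype.card ι : ℝ) ≤ ∑ i, ‖(χ : G → ℂ) (g ^ kk i)‖ := fun χ => by
    obtain ⟨d, hd, hpd⟩ := hdeg χ
    exact hgal χ g (CfsgLib.Char.IsIrr.isCharacter χ.2)
      (CfsgLib.Char.Exceptional.pElement_ne_zero (CfsgLib.Char.IsIrr.isCharacter χ.2) hp hgk hd hpd)
  have hsq : ∀ χ : Cfsg.IrrCharacter G, (Fintype.card ι : ℝ) + ∑ i, (‖(χ : G → ℂ) (g ^ kk i)‖ - 1) ^ 2 ≤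
      ∑ i, ‖(χ : G → ℂ) (g ^ kk i)‖ ^ 2 := by
    intro χ
    simp only [sub_sq, mul_one, one_pow, Finset.sum_add_distrib, Finset.sum_sub_distrib, ← Finset.mul_sum,
      Finset.sum_const, Finset.card_univ, nsmul_eq_mul, mul_one]
    linarith [hgal' χ]
  have htot : (Nat.card (Cfsg.IrrCharacter G) : ℝ) * Fintype.card ι +
      ∑ χ : Cfsg.IrrCharacter G, ∑ i, (‖(χ : G → ℂ) (g ^ kk i)‖ - 1) ^ 2 ≤ (Fintype.card ι : ℝ) * Nat.card P := by
    have h := Finset.sum_le_sum fun χ (_ : χ ∈ Finset.univ) => hsq χ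
    have hsw : ∑ χ : Cfsg.IrrCharacter G, ∑ i, ‖(χ : G → ℂ) (g ^ kk i)‖ ^ 2 = (Fintype.card ι : ℝ) * Nat.card P := by
      rw [Finset.sum_comm, Finset.sum_congr rfl (fun i _ => hcol i), Finset.sum_const, Finset.card_univ, nsmul_eq_mul]
    rw [Finset.sum_add_distrib, Finset.sum_const, Finset.card_univ, nsmul_eq_mul, hsw] at h
    rw [Nat.card_eq_fintype_card (α := Cfsg.IrrCharacter G)]
    linarith [h]
  have hnn : 0 ≤ ∑ χ : Cfsg.IrrCharacter G, ∑ i, (‖(χ : G → ℂ) (g ^ kk i)‖ - 1) ^ 2 := by positivity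
  have hι0 : (0 : ℝ) < Fintype.card ι := Nat.cast_pos.2 Fintype.card_pos
  have hle : (Nat.card (Cfsg.IrrCharacter G) : ℝ) ≤ Nat.card P :=
    le_of_mul_le_mul_left (by linarith) hι0
  refine ⟨by exact_mod_cast hle, fun heq => ?_⟩
  have hzero : ∑ χ : Cfsg.IrrCharacter G, ∑ i, (‖(χ : G → ℂ) (g ^ kk i)‖ - 1) ^ 2 = 0 := by
    rw [heq] at htot
    linarith
  obtain ⟨i₀⟩ := hne
  have hlin : ∀ ψ : Cfsg.IrrCharacter (G ⧸ (P : Subgroup G)), Cfsg.charDegree (ψ : G ⧸ (P : Subgroup G) → ℂ) = 1 := by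
    intro ψ
    set χ := CfsgLib.CharDegree.infl (P : Subgroup G) ψ with hχ
    have h0 := (Finset.sum_eq_zero_iff_of_nonneg (fun χ _ => Finset.sum_nonneg fun i _ => sq_nonneg _)).1 hzero χ
      (Finset.mem_univ _)
    have h1 := (Finset.sum_eq_zero_iff_of_nonneg (fun i _ => sq_nonneg _)).1 h0 i₀ (Finset.mem_univ _)
    rw [sq_eq_zero_iff, sub_eq_zero, hχ, CfsgLib.CharDegree.infl_ker _ ψ ((P : Subgroup G).pow_mem hg _),
      ← CfsgLib.CharDegree.cast_irrDegree, Complex.norm_natCast, CfsgLib.CharDegree.charDegree_infl,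
      Nat.cast_eq_one] at h1
    exact h1
  have hQ : commutator (G ⧸ (P : Subgroup G)) = ⊥ := by
    have := Fintype.ofFinite (Cfsg.IrrCharacter (G ⧸ (P : Subgroup G)))
    have h1 := CfsgLib.CharDegree.card_linear (G := G ⧸ (P : Subgroup G))
    rw [Nat.card_congr (Equiv.subtypeUnivEquiv hlin)] at h1
    have h2 := CfsgLib.Char.sum_sq_degree (G := G ⧸ (P : Subgroup G))
    rw [Finset.sum_congr rfl (g := fun _ => (1 : ℂ)) (fun ψ _ => by
      rw [← CfsgLib.CharDegree.cast_irrDegree, hlin ψ]; norm_num), Finset.sum_const, Finset.card_univ,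
      nsmul_eq_mul, mul_one, ← Nat.card_eq_fintype_card, h1, Nat.cast_inj] at h2
    rw [← Subgroup.card_eq_one]
    have h3 := (commutator (G ⧸ (P : Subgroup G))).card_mul_index
    rw [h2] at h3
    exact (mul_eq_right₀ Nat.card_pos.ne').1 h3
  rw [← QuotientGroup.ker_mk' (P : Subgroup G), ← Subgroup.map_eq_bot_iff, eq_bot_iff, ← hQ]
  rw [commutator_def, commutator_def, Subgroup.map_commutator]
  exact Subgroup.commutator_mono le_top le_top

end Cfsg.Agent.S0861
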