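import Cfsg.Statements.S0865
import Mathlib
import Cfsg.Agent.Lib.Char.Exceptional.DetExtension

set_option autoImplicit false
open Cfsg

namespace Cfsg.Agent.S0865

/-- Let N be a normal subgroup of the finite group G and λ a character of N of degree 1, invariant under conjugation by G, whose order (under pointwise multiplication) is coprime to the index of N. Then there is a character μ of G of degree 1 restricting to λ with the same order as λ, and μ is the only degree-1 character of G restricting to λ whose order is coprime to the index of N. -/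
theorem result {G : Type*} [Group G] [Finite G] (N : Subgroup G) [hN : N.Normal] (lam : N → ℂ) (hlam : Cfsg.IsCharacter N lam ∧ lam 1 = 1) (hinv : ∀ (g : G) (n : N), lam ⟨g * n * g⁻¹, hN.conj_mem (n : G) n.2 g⟩ = lam n) (hcop : Nat.Coprime N.index (orderOf lam)) : ∃ μ : G → ℂ, (Cfsg.IsCharacter G μ ∧ μ 1 = 1 ∧ (∀ n : N, μ n = lam n) ∧ orderOf μ = orderOf lam) ∧ ∀ μ' : G → ℂ, Cfsg.IsCharacter G μ' ∧ μ' 1 = 1 → (∀ n : N, μ' n = lam n) → Nat.Coprime N.index (orderOf μ') → μ' = μ := by
  obtain ⟨hirr, -, hord⟩ := CfsgLib.Char.Exceptional.linear_setup hlam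
  obtain ⟨χ, ⟨hχ, hχN, hχo⟩, huniq⟩ := CfsgLib.Char.Exceptional.canonical_extension (d := 1) hirr hinv
    (by rw [hlam.2, Nat.cast_one]) (by rw [hord, mul_one]; exact hcop)
  have h1 : χ 1 = 1 := by rw [show (1 : G) = ((1 : N) : G) from rfl, hχN, hlam.2]
  have hc := CfsgLib.Char.IsIrr.isCharacter hχ
  obtain ⟨-, -, hoχ⟩ := CfsgLib.Char.Exceptional.linear_setup (And.intro hc h1)
  refine ⟨χ, ⟨hc, h1, hχN, by rw [← hoχ, hχo, hord]⟩, fun μ' hμ' hμ'N hcop' => ?_⟩
  obtain ⟨hirr', -, ho'⟩ := CfsgLib.Char.Exceptional.linear_setup hμ'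
  exact huniq μ' hirr' hμ'N (by rw [ho']; exact hcop')

end Cfsg.Agent.S0865
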