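import Cfsg.Statements.S0869
import Mathlib

set_option autoImplicit false
open Cfsg

namespace Cfsg.Agent.S0869

/-- Let S be a nonempty finite type and R an additive subgroup of the integer-valued functions on S that is closed under pointwise multiplication. If the constant function 1 is not in R, then there exist a point x of S and a prime p such that p divides f x for every f in R. -/
theorem result {S : Type*} [Finite S] [Nonempty S] (R : AddSubgroup (S → ℤ)) (hmul : ∀ f ∈ R, ∀ g ∈ R, f * g ∈ R) (h1 : (1 : S → ℤ) ∉ R) : ∃ (x : S) (p : ℕ), p.Prime ∧ ∀ f ∈ R, (p : ℤ) ∣ f x := by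
  classical
  by_contra hcon
  push Not at hcon
  have key : ∀ x : S, ∃ f ∈ R, f x = 1 := by
    intro x
    let I : AddSubgroup ℤ := R.map (Pi.evalAddMonoidHom (fun _ : S => ℤ) x)
    obtain ⟨d, hd⟩ := Int.subgroup_cyclic I
    by_cases hd1 : d.natAbs = 1
    · have : (1 : ℤ) ∈ I := by
        rw [hd, AddSubgroup.mem_closure_singleton]
        refine ⟨d, ?_⟩
        rw [smul_eq_mul]
        rcases Int.natAbs_eq d with h | h <;> rw [h, hd1] <;> simp
      obtain ⟨f, hf, hfx⟩ := AddSubgroup.mem_map.1 this
      exact ⟨f, hf, hfx⟩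
    · obtain ⟨p, hp, hpd⟩ := Nat.exists_prime_and_dvd hd1
      obtain ⟨f, hf, hfx⟩ := hcon x p hp
      refine absurd ?_ hfx
      have : f x ∈ I := AddSubgroup.mem_map.2 ⟨f, hf, rfl⟩
      rw [hd, AddSubgroup.mem_closure_singleton] at this
      obtain ⟨k, hk⟩ := this
      rw [← hk]
      exact dvd_mul_of_dvd_right (Int.ofNat_dvd_left.2 hpd) _
  choose F hF hFx using key
  have := Fintype.ofFinite S
  have hprod : ∀ s : Finset S, (1 - ∏ x ∈ s, (1 - F x)) ∈ R := by
    intro s
    induction s using Finset.induction_on with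
    | empty => simp
    | insert a s ha ih =>
      rw [Finset.prod_insert ha]
      have e : (1 : S → ℤ) - (1 - F a) * ∏ x ∈ s, (1 - F x)
          = F a + (1 - ∏ x ∈ s, (1 - F x)) - F a * (1 - ∏ x ∈ s, (1 - F x)) := by ring
      rw [e]
      exact R.sub_mem (R.add_mem (hF a) ih) (hmul _ (hF a) _ ih)
  apply h1
  have h0 : (∏ x : S, ((1 : S → ℤ) - F x)) = 0 := by
    funext y
    rw [Finset.prod_apply, Pi.zero_apply]
    exact Finset.prod_eq_zero (Finset.mem_univ y) (by simp [hFx])
  simpa [h0] using hprod Finset.univ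

end Cfsg.Agent.S0869
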