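import Cfsg.Statements.S0873
import Mathlib

set_option autoImplicit false
open Cfsg

namespace Cfsg.Agent.S0873

/-- Let C be a normal subgroup of the finite group G of order prime to p and P a p-subgroup with C ⊔ P = G. Let λ be a character of C of degree 1 invariant under conjugation by G and equal to 1 at every element of C centralized by P. Then λ is identically 1. -/
theorem result {G : Type*} [Group G] [Finite G] (p : ℕ) [Fact p.Prime] (C P : Subgroup G) [hC : C.Normal] (hP : IsPGroup p P) (hcop : Nat.Coprime (Nat.card C) p) (hCP : C ⊔ P = ⊤) (lam : C → ℂ) (hlam : Cfsg.IsCharacter C lam ∧ lam 1 = 1) (hinv : ∀ (g : G) (c : C), lam ⟨g * c * g⁻¹, hC.conj_mem (c : G) c.2 g⟩ = lam c) (hker : ∀ c : C, (c : G) ∈ Subgroup.centralizer (P : Set G) → lam c = 1) : lam = fun _ => 1 := by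
  classical
  obtain ⟨⟨d, ρ, hρ⟩, h1⟩ := hlam
  have hd : d = 1 := by
    rw [← hρ] at h1
    simpa [Representation.character] using h1
  subst hd
  have hmul : ∀ a b : C, lam (a * b) = lam a * lam b := by
    intro a b
    rw [← hρ]
    simp only [Representation.character, map_mul]
    rw [LinearMap.trace_eq_matrix_trace ℂ (Pi.basisFun ℂ (Fin 1)),
      LinearMap.trace_eq_matrix_trace ℂ (Pi.basisFun ℂ (Fin 1)),
      LinearMap.trace_eq_matrix_trace ℂ (Pi.basisFun ℂ (Fin 1)), LinearMap.toMatrix_mul]
    simp [Matrix.trace, Matrix.mul_apply]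
  let φ : C →* ℂ := { toFun := lam, map_one' := h1, map_mul' := hmul }
  let K : Subgroup C := φ.ker
  have hPN : ∀ (g : G) (c : C), (⟨g * c * g⁻¹, hC.conj_mem (c : G) c.2 g⟩ : C) ∈ K ↔ c ∈ K := by
    intro g c
    simp only [K, MonoidHom.mem_ker, φ, MonoidHom.coe_mk, OneHom.coe_mk, hinv g c]
  funext c
  haveI := Fintype.ofFinite G
  -- `P` acts on the fibre of `lam` through `c`
  let X := {x : C // lam x = lam c}
  let act : MulAction P X :=
    { smul := fun g x => ⟨⟨(g : G) * (x.1 : G) * (g : G)⁻¹, hC.conj_mem _ x.1.2 _⟩, by rw [hinv, x.2]⟩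
      one_smul := fun x => by
        apply Subtype.ext; apply Subtype.ext
        show ((1 : P) : G) * (x.1 : G) * ((1 : P) : G)⁻¹ = x.1
        simp
      mul_smul := fun g h x => by
        apply Subtype.ext; apply Subtype.ext
        show ((g * h : P) : G) * (x.1 : G) * ((g * h : P) : G)⁻¹ =
          (g : G) * ((h : G) * (x.1 : G) * (h : G)⁻¹) * (g : G)⁻¹
        simp [mul_assoc] }
  have hXK : Nat.card X = Nat.card K := by
    refine Nat.card_congr
      { toFun := fun x => ⟨c⁻¹ * x.1, ?_⟩
        invFun := fun k => ⟨c * k.1, ?_⟩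
        left_inv := fun x => by simp
        right_inv := fun k => by simp }
    · show lam (c⁻¹ * x.1) = 1
      rw [hmul, x.2, ← hmul, inv_mul_cancel, h1]
    · have hk : lam k.1 = 1 := k.2
      rw [hmul, hk, mul_one]
  have hndvd : ¬ p ∣ Nat.card X := by
    rw [hXK]
    intro hp
    have := hp.trans (Subgroup.card_subgroup_dvd_card K)
    exact (Fact.out : p.Prime).not_dvd_one (hcop ▸ Nat.dvd_gcd this dvd_rfl)
  obtain ⟨x, hx⟩ := hP.nonempty_fixed_point_of_prime_not_dvd_card (α := X) hndvd
  have hxc : (x.1 : G) ∈ Subgroup.centralizer (P : Set G) := by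
    intro g hg
    have e := congrArg (fun y : X => (y.1 : G)) (hx ⟨g, hg⟩)
    change g * (x.1 : G) * g⁻¹ = x.1 at e
    calc g * (x.1 : G) = g * (x.1 : G) * g⁻¹ * g := by group
      _ = (x.1 : G) * g := by rw [e]
  rw [← x.2]
  exact hker x.1 hxc

end Cfsg.Agent.S0873
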