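import Cfsg.Statements.S0875
import Mathlib
import Cfsg.Agent.Lib.Char.Exceptional.SectionIndicator

set_option autoImplicit false
open Cfsg

namespace Cfsg.Agent.S0875

/-- Let G be a finite group of order m * n with m and n coprime, and g an element whose order is coprime to m. Every x in G factors uniquely as x = u * v with u, v commuting, the order of u coprime to n and the order of v coprime to m; let ϑ be the function on G equal to n at those x whose factor v is conjugate to g and equal to 0 elsewhere. Then ϑ is a linear combination of the irreducible characters of G with algebraic-integer coefficients. -/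
theorem result {G : Type*} [Group G] [Fintype G] (m n : ℕ) (hmn : Nat.card G = m * n) (hcop : Nat.Coprime m n) (g : G) (hg : Nat.Coprime (orderOf g) m) (ϑ : G → ℂ) (hϑ1 : ∀ x : G, (∃ v : G, IsConj v g ∧ (∃ u : G, x = u * v ∧ Commute u v ∧ Nat.Coprime (orderOf u) n ∧ Nat.Coprime (orderOf v) m)) → ϑ x = n) (hϑ0 : ∀ x : G, (¬ ∃ v : G, IsConj v g ∧ (∃ u : G, x = u * v ∧ Commute u v ∧ Nat.Coprime (orderOf u) n ∧ Nat.Coprime (orderOf v) m)) → ϑ x = 0) : ∃ c : Cfsg.IrrCharacter G → ℂ, (∀ χ, c χ ∈ Cfsg.AlgInt) ∧ ϑ = ∑ᶠ χ : Cfsg.IrrCharacter G, c χ • (χ : G → ℂ) := by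
  classical
  have := Fintype.ofFinite (Cfsg.IrrCharacter G)
  obtain ⟨k, hm, hk⟩ := CfsgLib.Char.Exceptional.exists_part_exponent hcop
  let F : G → ℂ := fun x => if IsConj x g then 1 else 0
  have hFc : Cfsg.IsClassFunction G F := by
    intro a h
    have : IsConj (h * a * h⁻¹) g ↔ IsConj a g := by
      have hc : IsConj a (h * a * h⁻¹) := isConj_iff.2 ⟨h, rfl⟩
      exact ⟨fun h1 => hc.trans h1, fun h1 => hc.symm.trans h1⟩
    simp only [F, this]
  have hϑ : ϑ = fun x => (n : ℂ) * F (x ^ k) := by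
    funext x
    by_cases hx : IsConj (x ^ k) g
    · obtain ⟨u, h1, h2, h3, h4⟩ :=
        CfsgLib.Char.Exceptional.exists_decomp hmn.dvd hcop hm hk x
      rw [hϑ1 x ⟨_, hx, u, h1, h2, h3, h4⟩]
      simp only [F, if_pos hx, mul_one]
    · have hn : ¬ ∃ v : G, IsConj v g ∧ (∃ u : G, x = u * v ∧ Commute u v ∧
          Nat.Coprime (orderOf u) n ∧ Nat.Coprime (orderOf v) m) := by
        rintro ⟨v, hv, u, rfl, h2, h3, h4⟩
        rw [CfsgLib.Char.Exceptional.pow_part_of_decomp hmn.dvd hm hk h2 h3 h4] at hx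
        exact hx hv
      rw [hϑ0 x hn]
      simp only [F, if_neg hx, mul_zero]
  refine ⟨fun χ => Cfsg.classInner ϑ (χ : G → ℂ), fun χ => ?_, ?_⟩
  · rw [hϑ]
    exact CfsgLib.Char.Exceptional.indicator_classInner_integral hmn.dvd hcop hm hk F hFc
      (fun x => by simp only [F]; split <;> simp [isIntegral_zero, isIntegral_one]) χ
  · rw [finsum_eq_sum_of_fintype]
    refine CfsgLib.Char.classFunction_eq_sum ?_
    rw [hϑ]
    intro a h
    simp only [conj_pow, hFc _ h]

end Cfsg.Agent.S0875
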