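import Cfsg.Statements.S0876
import Mathlib
import Cfsg.Agent.Lib.Char.Exceptional.SectionCongr

set_option autoImplicit false
open Cfsg

namespace Cfsg.Agent.S0876

/-- Let G be a finite group, p a prime and M a maximal ideal of the ring of algebraic integers containing p. Let x, y be elements with p-parts a and b (so a⁻¹ * x and b⁻¹ * y are their p-regular parts). Then a⁻¹ * x and b⁻¹ * y are conjugate in G if and only if, for every irreducible character χ, the difference χ x - χ y lies in the local ideal at M. -/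
theorem result {G : Type*} [Group G] [Finite G] (p : ℕ) (M : Ideal Cfsg.AlgInt) (hM : Cfsg.IsPModular p M) (x y a b : G) (ha : Cfsg.IsPPart p x a) (hb : Cfsg.IsPPart p y b) : IsConj (a⁻¹ * x) (b⁻¹ * y) ↔ ∀ χ : Cfsg.IrrCharacter G, Cfsg.MemLocalIdeal M ((χ : G → ℂ) x - (χ : G → ℂ) y) := by
  obtain ⟨y1, h1, hc1, ⟨i, hi⟩, hy1⟩ := ha
  obtain ⟨z1, h2, hc2, ⟨j, hj⟩, hz1⟩ := hb
  subst h1 h2
  simp only [inv_mul_cancel_left]
  constructor
  · intro hconj χ
    have := hM.2.1.isPrime
    have hch := CfsgLib.Char.IsIrr.isCharacter χ.2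
    have he : (χ : G → ℂ) y1 = (χ : G → ℂ) z1 := by
      obtain ⟨c, hc⟩ := isConj_iff.1 hconj
      rw [← hc]
      exact (CfsgLib.Char.IsIrr.isClassFunction χ.2 y1 c).symm
    have ha1 := CfsgLib.Char.Exceptional.congr_mod_pPart hch hM hc1 (j := i)
      (by rw [← hi]; exact pow_orderOf_eq_one a)
    have hb1 := CfsgLib.Char.Exceptional.congr_mod_pPart hch hM hc2 (j := j)
      (by rw [← hj]; exact pow_orderOf_eq_one b)
    have h := CfsgLib.Blocks.coe_memLocalIdeal_iff.2 (M.sub_mem ha1 hb1)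
    convert h using 1
    push_cast
    rw [he]
    ring
  · intro h
    exact CfsgLib.Char.Exceptional.isConj_of_congr hM hc1 ⟨i, hi⟩ hy1 hc2 ⟨j, hj⟩ hz1 h

end Cfsg.Agent.S0876
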