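import Cfsg.Statements.S0879
import Mathlib
import Cfsg.Agent.Lib.Char.Exceptional.Zassenhaus

set_option autoImplicit false
open Cfsg

namespace Cfsg.Agent.S0879

/-- Let G be a Zassenhaus group on the finite set Ω and E the stabilizer of two distinct points a, b. Then an element outside the normalizer of E conjugates no non-identity element of E into E, and E has index 2 in its normalizer. -/
theorem result {G Ω : Type*} [Group G] [Finite G] [MulAction G Ω] [Fintype Ω] (hZ : Cfsg.IsZassenhausGroup G Ω) {a b : Ω} (hab : a ≠ b) : (∀ g : G, g ∉ Subgroup.normalizer ((MulAction.stabilizer G a ⊓ MulAction.stabilizer G b : Subgroup G) : Set G) → ∀ x ∈ (MulAction.stabilizer G a ⊓ MulAction.stabilizer G b : Subgroup G), g * x * g⁻¹ ∈ (MulAction.stabilizer G a ⊓ MulAction.stabilizer G b : Subgroup G) → x = 1) ∧ ((MulAction.stabilizer G a ⊓ MulAction.stabilizer G b : Subgroup G).subgroupOf (Subgroup.normalizer ((MulAction.stabilizer G a ⊓ MulAction.stabilizer G b : Subgroup G) : Set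 G))).index = 2 := by
  constructor
  · intro g hg x hx hgx
    by_contra hx1
    exact hg (CfsgLib.Char.Exceptional.zass_swap_mem_normalizer
      (CfsgLib.Char.Exceptional.zass_pair_smul hZ hab hx1 hx.1 hx.2 hgx.1 hgx.2))
  · obtain ⟨x, hx1, hxa, hxb⟩ := CfsgLib.Char.Exceptional.zass_two_stab_ne_bot hZ hab
    obtain ⟨t, hta, htb⟩ := CfsgLib.Char.Exceptional.zass_pre hZ hab hab.symm
    set D := (MulAction.stabilizer G a ⊓ MulAction.stabilizer G b : Subgroup G) with hD
    have htN : t ∈ Subgroup.normalizer (D : Set G) :=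
      CfsgLib.Char.Exceptional.zass_swap_mem_normalizer (Or.inr ⟨hta, htb⟩)
    rw [Subgroup.index_eq_two_iff']
    refine ⟨⟨t, htN⟩, fun g => ?_⟩
    have hgx : (g : G) * x * (g : G)⁻¹ ∈ D :=
      (Subgroup.mem_set_normalizer_iff.1 g.2 x).1 ⟨hxa, hxb⟩
    simp only [Subgroup.mem_subgroupOf, Subgroup.coe_mul, hD, Subgroup.mem_inf,
      MulAction.mem_stabilizer_iff, mul_smul]
    rcases CfsgLib.Char.Exceptional.zass_pair_smul hZ hab hx1 hxa hxb hgx.1 hgx.2 with ⟨h1, h2⟩ | ⟨h1, h2⟩
    · exact Or.inr ⟨⟨h1, h2⟩, fun h => hab.symm (by rw [← hta]; rw [h1] at h; exact h.1)⟩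
    · refine Or.inl ⟨⟨?_, ?_⟩, fun h => hab.symm (by rw [← h1]; exact h.1)⟩
      · rw [h1, htb]
      · rw [h2, hta]

end Cfsg.Agent.S0879
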