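import Cfsg.Statements.S0880
import Mathlib
import Cfsg.Agent.Lib.Char.Exceptional.ZassenhausCount
import Cfsg.Agent.Lib.Char.Complete

set_option autoImplicit false
open Cfsg

namespace Cfsg.Agent.S0880

/-- Let G be a finite simple Zassenhaus group on Ω with n points whose two-point stabilizer E has odd order less than n - 2. Then there are two elements of G, each fixing no point of Ω, that are not conjugate. -/
theorem result {G Ω : Type*} [Group G] [Finite G] [MulAction G Ω] [Fintype Ω] (hZ : Cfsg.IsZassenhausGroup G Ω) {a b : Ω} (hab : a ≠ b) [IsSimpleGroup G] (hodd : Odd (Nat.card ↥(MulAction.stabilizer G a ⊓ MulAction.stabilizer G b : Subgroup G))) (hlt : Nat.card ↥(MulAction.stabilizer G a ⊓ MulAction.stabilizer G b : Subgroup G) < Fintype.card Ω - 2) : ∃ x y : G, (∀ c : Ω, x • c ≠ c) ∧ (∀ c : Ω, y • c ≠ c) ∧ ¬ IsConj x y := by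
  classical
  have := Fintype.ofFinite G
  have hF := CfsgLib.Char.Exceptional.zass_two_mul_fpf hZ hab
  have h3 := CfsgLib.Char.Exceptional.zass_three_le hZ
  have hG := CfsgLib.Char.Exceptional.zass_card hZ hab
  set E := (MulAction.stabilizer G a ⊓ MulAction.stabilizer G b : Subgroup G)
  set S := Finset.univ.filter fun g : G => ∀ c : Ω, g • c ≠ c
  have he : 3 ≤ Nat.card E := by
    obtain ⟨x, hx1, hxa, hxb⟩ := CfsgLib.Char.Exceptional.zass_two_stab_ne_bot hZ hab
    have h1 : Nat.card E ≠ 1 := fun h =>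
      hx1 (Subgroup.mem_bot.1 ((Subgroup.card_eq_one.1 h) ▸ (show x ∈ E from ⟨hxa, hxb⟩)))
    obtain ⟨j, hj⟩ := hodd
    omega
  rw [hG] at hF
  push_cast [show 1 ≤ Fintype.card Ω by omega] at hF
  have hpos : S.Nonempty := by
    rw [← Finset.card_pos]
    have h1 : (0 : ℤ) < (Fintype.card Ω : ℤ) - 1 := by omega
    have h2 : (3 : ℤ) ≤ Nat.card E := by exact_mod_cast he
    have h3' : (3 : ℤ) ≤ Fintype.card Ω := by exact_mod_cast h3
    have : (0 : ℤ) < S.card := by
      nlinarith [mul_nonneg (mul_nonneg (show (0 : ℤ) ≤ Fintype.card Ω by omega) h1.le)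
        (show (0 : ℤ) ≤ (Nat.card E : ℤ) - 1 by omega)]
    exact_mod_cast this
  obtain ⟨x, hx⟩ := hpos
  by_contra hcon
  push Not at hcon
  have hall : S = Finset.univ.filter fun g : G => IsConj x g := by
    ext g
    simp only [S, Finset.mem_filter, Finset.mem_univ, true_and]
    have hx' : ∀ c : Ω, x • c ≠ c := (Finset.mem_filter.1 hx).2
    refine ⟨fun h => hcon x g hx' h, fun h c hc => ?_⟩
    obtain ⟨k, rfl⟩ := isConj_iff.1 h
    rw [mul_smul, mul_smul, smul_eq_iff_eq_inv_smul] at hc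
    exact hx' _ hc
  have hx' : ∀ c : Ω, x • c ≠ c := (Finset.mem_filter.1 hx).2
  set C := Subgroup.centralizer ({x} : Set G)
  have hcl : S.card * Nat.card C = Nat.card G := by
    rw [hall, ← C.index_mul_card, ← CfsgLib.Char.card_carrier_eq_index]
    congr 1
    rw [← Fintype.card_subtype, ← Nat.card_eq_fintype_card]
    exact Nat.card_congr (Equiv.subtypeEquivRight fun g => by
      rw [ConjClasses.mem_carrier_iff_mk_eq, ConjClasses.mk_eq_mk_iff_isConj]
      exact ⟨fun h => h.symm, fun h => h.symm⟩)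
  have hc2 : 2 ≤ Nat.card C := by
    refine Finite.one_lt_card_iff_nontrivial.2 ⟨⟨⟨x, Subgroup.mem_centralizer_singleton_iff.2 rfl⟩, 1, ?_⟩⟩
    intro h
    exact hx' a (by rw [show x = 1 from congrArg Subtype.val h, one_smul])
  rw [hG] at hcl
  have hcl' : (S.card : ℤ) * (Nat.card C) =
      Fintype.card Ω * (((Fintype.card Ω : ℤ) - 1) * Nat.card E) := by
    have := congrArg (fun i : ℕ => (i : ℤ)) hcl
    push_cast [show 1 ≤ Fintype.card Ω by omega] at this
    exact this
  obtain ⟨n, hn⟩ : ∃ n : ℤ, n = Fintype.card Ω := ⟨_, rfl⟩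
  obtain ⟨e, he'⟩ : ∃ e : ℤ, e = Nat.card E := ⟨_, rfl⟩
  obtain ⟨c, hc⟩ : ∃ c : ℤ, c = Nat.card C := ⟨_, rfl⟩
  rw [← hn, ← he', ← hc] at hcl'
  rw [← hn, ← he'] at hF
  have hn3 : 3 ≤ n := by omega
  have he3 : 3 ≤ e := by omega
  have hc2' : 2 ≤ c := by omega
  have heq : c * (n * (e - 1) + 2) = 2 * n * e := by
    refine mul_left_cancel₀ (show n - 1 ≠ 0 by omega) ?_
    calc (n - 1) * (c * (n * (e - 1) + 2)) = c * (2 * (S.card : ℤ)) := by rw [hF]; ring
      _ = 2 * ((S.card : ℤ) * c) := by ring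
      _ = (n - 1) * (2 * n * e) := by rw [hcl']; ring
  rcases eq_or_lt_of_le hc2' with h | h
  · subst h
    nlinarith
  · have h4 : 3 * (n * (e - 1) + 2) ≤ c * (n * (e - 1) + 2) :=
      mul_le_mul_of_nonneg_right (by omega) (by nlinarith)
    nlinarith [mul_nonneg (show (0 : ℤ) ≤ n by omega) (show (0 : ℤ) ≤ e - 3 by omega)]

end Cfsg.Agent.S0880
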