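import Cfsg.Statements.S0888
import Cfsg.Agent.Lib.Char.Extension

set_option autoImplicit false
open Cfsg

namespace Cfsg.Agent.S0888

/-- Let N be a normal subgroup of the finite group G and ϑ an irreducible character of N invariant under conjugation by G. Suppose that for every prime p there are a subgroup P containing N, of index prime to p and with the index of N in P a power of p, and an irreducible character of P restricting to ϑ. Then ϑ is the restriction of an irreducible character of G. -/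
theorem result {G : Type*} [Group G] [Finite G] (N : Subgroup G) [hN : N.Normal] (ϑ : N → ℂ) (hϑ : Cfsg.IsIrrCharacter N ϑ) (hinv : ∀ (g : G) (n : N), ϑ ⟨g * n * g⁻¹, hN.conj_mem (n : G) n.2 g⟩ = ϑ n) (hsyl : ∀ p : ℕ, p.Prime → ∃ (P : Subgroup G) (hNP : N ≤ P) (η : P → ℂ), Nat.Coprime P.index p ∧ (∃ k : ℕ, N.relIndex P = p ^ k) ∧ Cfsg.IsIrrCharacter P η ∧ ∀ n : N, η ⟨(n : G), hNP n.2⟩ = ϑ n) : ∃ χ : G → ℂ, Cfsg.IsIrrCharacter G χ ∧ ∀ n : N, χ n = ϑ n := by
  classical
  obtain ⟨n, σ, hσirr, hσ⟩ := hϑ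
  subst hσ
  have := hσirr
  obtain ⟨ρ, hρ⟩ := CfsgLib.CharExt.exists_extension_of_family σ (fun g m => hinv g m) fun p hp => by
    obtain ⟨P, hNP, η, hcop, -, ⟨k, ηρ, hηirr, hη⟩, hres⟩ := hsyl p hp
    subst hη
    let ρN : Representation ℂ N (Fin k → ℂ) := ηρ.comp (Subgroup.inclusion hNP)
    obtain ⟨φ⟩ := CfsgLib.Char.nonempty_equiv_of_character_eq ρN σ (funext fun m => hres m)
    refine ⟨P, hNP, CfsgLib.Char.mapEquiv ηρ φ.toLinearEquiv, ?_, fun m => ?_⟩
    · exact (hp.coprime_iff_not_dvd).mp hcop.symm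
    · refine LinearMap.ext fun v => ?_
      rw [CfsgLib.Char.mapEquiv_apply]
      have h := φ.toIntertwiningMap.isIntertwining _ _ m (φ.toLinearEquiv.symm v)
      refine h.trans ?_
      show σ m (φ.toLinearEquiv (φ.toLinearEquiv.symm v)) = σ m v
      rw [LinearEquiv.apply_symm_apply]
  have : ρ.IsIrreducible := CfsgLib.CharExt.isIrreducible_of_restrict ρ N.subtype σ hρ
  refine ⟨ρ.character, CfsgLib.Char.isIrrCharacter_rep ρ, fun m => ?_⟩
  show LinearMap.trace ℂ _ (ρ m) = _
  rw [hρ]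
  rfl

end Cfsg.Agent.S0888
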