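import Cfsg.Statements.S0889
import Mathlib
import Cfsg.Agent.Lib.Char.Exceptional.BergerPrimitive
import Cfsg.Agent.Lib.Char.Exceptional.BergerInduced

set_option autoImplicit false
open Cfsg

namespace Cfsg.Agent.S0889

/-- Let G be a finite solvable group and χ an irreducible character of G such that for every normal subgroup N the restriction of χ to N is a natural-number multiple of one irreducible character of N. Then χ is not induced from a character of any proper subgroup. -/
theorem result {G : Type*} [Group G] [Fintype G] [Group.IsSolvable G] (χ : G → ℂ) (hχ : Cfsg.IsIrrCharacter G χ) (hqp : ∀ (N : Subgroup G), N.Normal → ∃ (ϑ : N → ℂ) (e : ℕ), Cfsg.IsIrrCharacter N ϑ ∧ (fun n : N => χ n) = (e : ℂ) • ϑ) (K : Subgroup G) (hK : K ≠ ⊤) (ψ : K → ℂ) (hψ : Cfsg.IsCharacter K ψ) : Cfsg.indFun K ψ ≠ χ := by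
  intro hind
  obtain ⟨m, ρ, hρ, rfl⟩ := hχ
  haveI := hρ
  haveI := CfsgLib.Char.nontrivial_of_irreducible ρ
  have hhom : ∀ M : Subgroup G, M.Normal → CfsgLib.Char.Exceptional.Berger.HomRep ρ M := fun M hM => by
    obtain ⟨ϑ, e, ⟨d, σ, hσ, rfl⟩, he⟩ := hqp M hM
    exact ⟨d, σ, e, hσ, fun h => by simpa using congrFun he h⟩
  obtain ⟨n, τ, rfl⟩ := hψ
  have hn : n ≠ 0 := by
    rintro rfl
    have h := congrFun hind 1
    rw [CfsgLib.Char.indFun_apply_one, Representation.char_one, Representation.char_one] at h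
    simp only [Module.finrank_fin_fun, Nat.cast_zero, mul_zero] at h
    exact (CfsgLib.Char.finrank_pos_of_irreducible ρ).ne'
      (by rw [Module.finrank_fin_fun]; exact_mod_cast h.symm)
  obtain ⟨φ⟩ := CfsgLib.Char.nonempty_equiv_of_character_eq
    (CfsgLib.Char.Exceptional.Berger.indRep K τ) ρ
    ((CfsgLib.Char.Exceptional.Berger.character_indRep K τ).trans hind)
  exact CfsgLib.Char.Exceptional.Berger.primitive_of_homogeneous (ρ := ρ) ⊥ inferInstance
    (fun M hM _ => hhom M hM) K _ bot_le hK
    (CfsgLib.Char.Exceptional.Berger.System.map_equiv φ.toLinearEquiv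
      (fun g v => φ.toIntertwiningMap.isIntertwining _ _ g v)
      (CfsgLib.Char.Exceptional.Berger.system_indRep K hn τ))

end Cfsg.Agent.S0889
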