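import Cfsg.Statements.S0890
import Mathlib
import Cfsg.Agent.Lib.Char.Exceptional.SuperMonomial

set_option autoImplicit false
open Cfsg

namespace Cfsg.Agent.S0890

/-- Let L ≤ H < G with L normal in G, H a maximal subgroup and G / L solvable. Let ϑ be an irreducible character of H whose restriction to L is irreducible and whose induction χ to G is irreducible. Then there is a normal subgroup M of G containing L such that the restriction of χ to M is not a natural-number multiple of a single irreducible character of M. -/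
theorem result {G : Type*} [Group G] [Fintype G] (L H : Subgroup G) [L.Normal] (hLH : L ≤ H) (hmax : IsCoatom H) (hsolv : Group.IsSolvable (G ⧸ L)) (ϑ : H → ℂ) (hϑ : Cfsg.IsIrrCharacter H ϑ) (hϑL : Cfsg.IsIrrCharacter L (fun x : L => ϑ ⟨(x : G), hLH x.2⟩)) (hind : Cfsg.IsIrrCharacter G (Cfsg.indFun H ϑ)) : ∃ M : Subgroup G, M.Normal ∧ L ≤ M ∧ ¬ ∃ (φ : M → ℂ) (e : ℕ), Cfsg.IsIrrCharacter M φ ∧ (fun m : M => Cfsg.indFun H ϑ m) = (e : ℂ) • φ := by
  classical
  haveI := hsolv
  set C := H.normalCore with hC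
  have hLC : L ≤ C := Subgroup.normal_le_normalCore.2 hLH
  have hCH : C ≤ H := Subgroup.normalCore_le H
  have hs : Group.IsSolvable (G ⧸ C) :=
    Group.isSolvable_of_surjective (f := QuotientGroup.map L C (MonoidHom.id G) hLC)
      (QuotientGroup.map_surjective_of_surjective L C (MonoidHom.id G)
        (QuotientGroup.mk_surjective) hLC)
  obtain ⟨M, A, B, hMn, hBn, hCA, hAH, hMB, hMH, hsup, hBH, hcop, hne, -⟩ :=
    CfsgLib.Char.Exceptional.exists_homog_data hmax hCH (fun K hK h => by
      haveI := hK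
      exact Subgroup.normal_le_normalCore.2 h) hs
  by_contra hcon
  push Not at hcon
  have hall : ∀ N : Subgroup G, N.Normal → L ≤ N →
      CfsgLib.Char.Exceptional.Homog N (Cfsg.indFun H ϑ) := fun N hN hLN => by
    obtain ⟨φ, e, h1, h2⟩ := hcon N hN hLN
    exact ⟨φ, e, h1, h2⟩
  have hLM : L ≤ M := hLC.trans (hMH ▸ inf_le_left)
  refine CfsgLib.Char.Exceptional.not_all_homog hCA hAH hMB hMH hsup hBH hmax.1 hcop hne ?_ hϑ ?_ hind
    (hall C inferInstance hLC) (hall M hMn hLM) (hall B hBn (hLM.trans hMB))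
  · intro a _ ha b
    simpa using ha b⁻¹
  · exact CfsgLib.Char.Exceptional.irr_of_restrict_irr (Subgroup.inclusion hLC)
      (CfsgLib.Char.IsChar.comp (Subgroup.inclusion hCH) (CfsgLib.Char.IsIrr.isCharacter hϑ)) hϑL

end Cfsg.Agent.S0890
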