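import Cfsg.Statements.S0895
import Mathlib
import Cfsg.Agent.Lib.Char.RealForm

set_option autoImplicit false
open Cfsg

namespace Cfsg.Agent.S0895

/-- Let χ be a real-valued irreducible character of a finite group G whose degree is an odd natural number. Then the average over s in G of χ (s * s) equals 1. -/
theorem result {G : Type*} [Group G] [Fintype G] (χ : G → ℂ) (hχ : Cfsg.IsIrrCharacter G χ) (hreal : ∀ g : G, (χ g).im = 0) (d : ℕ) (hd : χ 1 = d) (hodd : Odd d) : (Nat.card G : ℂ)⁻¹ * ∑ s : G, χ (s * s) = 1 := by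
  obtain ⟨n, ρ, hρ, rfl⟩ := hχ
  obtain ⟨M, hu, hM⟩ := CfsgLib.Char.exists_invariant_form ρ hreal
  have ht := CfsgLib.Char.invariant_form_transpose ρ hreal M hM
  have hn : n = d := by
    rw [Representation.char_one] at hd
    simpa using hd
  subst hn
  have hdet : M.det = CfsgLib.Char.fsInd ρ.character ^ n * M.det := by
    calc M.det = M.transpose.det := (Matrix.det_transpose M).symm
      _ = _ := by rw [ht, Matrix.det_smul, Fintype.card_fin]
  have hd0 : M.det ≠ 0 := hu.ne_zero
  show CfsgLib.Char.fsInd ρ.character = 1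
  rcases (CfsgLib.Char.fsInd_trichotomy ρ).1 with h | h | h
  · obtain ⟨s, hs⟩ := (CfsgLib.Char.fsInd_trichotomy ρ).2.1 h
    exact absurd (hreal s) hs
  · exact h
  · exfalso
    rw [h, hodd.neg_one_pow, neg_one_mul] at hdet
    exact hd0 (self_eq_neg.1 hdet)

end Cfsg.Agent.S0895
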