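import Cfsg.Statements.S0900
import Mathlib
import Cfsg.Agent.Lib.Char.CliffordRestrict
import Cfsg.Agent.Lib.Char.Exceptional.NormalInd

set_option autoImplicit false
open Cfsg

namespace Cfsg.Agent.S0900

/-- Let N be a normal subgroup of the finite group G, χ an irreducible character of G and ϑ an irreducible character of N having nonzero inner product with the restriction of χ. Consider: (a) the restriction of χ to N is e • ϑ for a natural number e with e ^ 2 equal to the index of N; (b) χ vanishes outside N and ϑ is invariant under conjugation by G; (c) ϑ is invariant and every irreducible character of G having nonzero inner product with the function induced from ϑ equals χ. Then (a) ↔ (b) and (a) ↔ (c). -/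
theorem result {G : Type*} [Group G] [Fintype G] (N : Subgroup G) [hN : N.Normal] [Fintype N] (χ : G → ℂ) (hχ : Cfsg.IsIrrCharacter G χ) (ϑ : N → ℂ) (hϑ : Cfsg.IsIrrCharacter N ϑ) (hcon : Cfsg.classInner (fun n : N => χ n) ϑ ≠ 0) : ((∃ e : ℕ, (fun n : N => χ n) = (e : ℂ) • ϑ ∧ e ^ 2 = N.index) ↔ ((∀ g : G, g ∉ N → χ g = 0) ∧ ∀ (g : G) (n : N), ϑ ⟨g * n * g⁻¹, hN.conj_mem (n : G) n.2 g⟩ = ϑ n)) ∧ ((∃ e : ℕ, (fun n : N => χ n) = (e : ℂ) • ϑ ∧ e ^ 2 = N.index) ↔ (∀ (g : G) (n : N), ϑ ⟨g * n * g⁻¹, hN.conj_mem (n : G) n.2 g⟩ = ϑ n ∧ ∀ ψ : G → ℂ, Cfsg.IsIrrCharacter G ψ → Cfsg.classInner (Cfsg.indFun N ϑ) ψ ≠ 0 → ψ = χ)) := by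
  classical
  have := Fintype.ofFinite (Cfsg.IrrCharacter G)
  have hN' : N.Normal := hN
  obtain ⟨e, he⟩ := CfsgLib.Char.IsChar.classInner_eq_natCast
    (CfsgLib.Char.IsChar.restrict N (CfsgLib.Char.IsIrr.isCharacter hχ)) (CfsgLib.Char.IsIrr.isCharacter hϑ)
  have he' : Cfsg.classInner (fun n : N => χ n) ϑ = (e : ℂ) := he
  have he0 : (e : ℂ) ≠ 0 := fun h => hcon (by rw [he', h])
  have hself := CfsgLib.Char.Exceptional.classInner_self_of_irr hϑ
  have hNc : (Nat.card N : ℂ) ≠ 0 := Nat.cast_ne_zero.2 Nat.card_pos.ne'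
  have hGc : (Nat.card G : ℂ) ≠ 0 := Nat.cast_ne_zero.2 Nat.card_pos.ne'
  have hcard : (Nat.card G : ℂ) = (Nat.card N : ℂ) * (N.index : ℂ) := by
    rw [← Nat.cast_mul, N.card_mul_index]
  have res_of_inv : (∀ (g : G) (n : N), ϑ ⟨g * n * g⁻¹, hN.conj_mem (n : G) n.2 g⟩ = ϑ n) →
      (fun n : N => χ n) = (e : ℂ) • ϑ := by
    intro hinv
    rw [CfsgLib.Clifford.restrict_eq_smul_orbit_sum hN' hχ hϑ hcon, he']
    have : (Finset.univ.image (CfsgLib.Clifford.conjFn hN' ϑ)) = {ϑ} := by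
      refine Finset.eq_singleton_iff_unique_mem.2 ⟨Finset.mem_image.2 ⟨1, Finset.mem_univ _, funext (hinv 1)⟩, ?_⟩
      intro φ hφ
      obtain ⟨g, -, rfl⟩ := Finset.mem_image.1 hφ
      exact funext (hinv g)
    congr 1
    rw [Finset.sum_congr (s₂ := ({ϑ} : Finset (N → ℂ))) (by convert this) (fun _ _ => rfl), Finset.sum_singleton]
  have hout : (fun n : N => χ n) = (e : ℂ) • ϑ →
      (Nat.card G : ℂ) = (Nat.card N : ℂ) * (e : ℂ) ^ 2 +
        ∑ g ∈ Finset.univ.filter (fun g => g ∉ N), χ g * (starRingEnd ℂ) (χ g) := by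
    intro h
    have h1 := CfsgLib.Char.Exceptional.classInner_self_of_irr hχ
    rw [Cfsg.classInner, inv_mul_eq_one₀ hGc] at h1
    rw [h1, ← Finset.sum_filter_add_sum_filter_not Finset.univ (fun g => g ∈ N)]
    congr 1
    rw [Finset.sum_subtype (Finset.univ.filter fun g => g ∈ N) (p := fun g => g ∈ N) (fun x => by simp)
      (fun g => χ g * (starRingEnd ℂ) (χ g))]
    rw [Cfsg.classInner, inv_mul_eq_one₀ hNc] at hself
    rw [hself, Finset.sum_mul]
    refine Finset.sum_congr rfl fun x _ => ?_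
    have hx : χ (x : G) = (e : ℂ) * ϑ x := congrFun h x
    rw [hx, map_mul, map_natCast]
    ring
  have hA : (∃ k : ℕ, (fun n : N => χ n) = (k : ℂ) • ϑ ∧ k ^ 2 = N.index) ↔
      ((fun n : N => χ n) = (e : ℂ) • ϑ ∧ e ^ 2 = N.index) := by
    refine ⟨fun ⟨k, hk, hk2⟩ => ?_, fun h => ⟨e, h⟩⟩
    have : k = e := by
      have h1 := he'
      rw [hk, CfsgLib.Char.classInner_smul_left, hself, mul_one] at h1
      exact_mod_cast h1
    subst this
    exact ⟨hk, hk2⟩
  have inv_of_res : (fun n : N => χ n) = (e : ℂ) • ϑ →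
      ∀ (g : G) (n : N), ϑ ⟨g * n * g⁻¹, hN.conj_mem (n : G) n.2 g⟩ = ϑ n := by
    intro h g n
    apply mul_left_cancel₀ he0
    have h1 := congrFun h ⟨g * n * g⁻¹, hN.conj_mem (n : G) n.2 g⟩
    have h2 := congrFun h n
    simp only [Pi.smul_apply, smul_eq_mul] at h1 h2
    rw [← h1, ← h2, CfsgLib.Char.IsIrr.isClassFunction hχ (n : G) g]
  rw [hA]
  refine ⟨⟨fun ⟨h, h2⟩ => ⟨?_, inv_of_res h⟩, fun ⟨hv, hinv⟩ => ⟨res_of_inv hinv, ?_⟩⟩, ?_⟩
  · intro g hg
    have h0 := hout h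
    rw [show ((e : ℂ) ^ 2) = (N.index : ℂ) by rw [← h2]; push_cast; rfl, ← hcard, left_eq_add] at h0
    have h' : ∑ x ∈ Finset.univ.filter (fun g => g ∉ N), Complex.normSq (χ x) = 0 := by
      have : ((∑ x ∈ Finset.univ.filter (fun g => g ∉ N), Complex.normSq (χ x) : ℝ) : ℂ) = 0 := by
        rw [Complex.ofReal_sum, ← h0]
        exact Finset.sum_congr rfl fun x _ => (Complex.mul_conj (χ x)).symm
      exact_mod_cast this
    exact Complex.normSq_eq_zero.1 ((Finset.sum_eq_zero_iff_of_nonneg (fun x _ => Complex.normSq_nonneg _)).1 h' g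
      (by simp [hg]))
  · have h0 := hout (res_of_inv hinv)
    rw [Finset.sum_eq_zero (fun x hx => by rw [hv x (Finset.mem_filter.1 hx).2, zero_mul]), add_zero, hcard] at h0
    have := mul_left_cancel₀ hNc h0
    exact_mod_cast this.symm
  · have hsq : (∀ (g : G) (n : N), ϑ ⟨g * n * g⁻¹, hN.conj_mem (n : G) n.2 g⟩ = ϑ n) →
        ∃ c : Cfsg.IrrCharacter G → ℕ, c ⟨χ, hχ⟩ = e ∧
          (∀ ψ : Cfsg.IrrCharacter G, Cfsg.classInner (Cfsg.indFun N ϑ) (ψ : G → ℂ) = c ψ) ∧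
          ∑ ψ, c ψ ^ 2 = N.index := by
      intro hinv
      choose c hc using fun ψ : Cfsg.IrrCharacter G => CfsgLib.Char.IsChar.classInner_eq_natCast
        (CfsgLib.Char.isCharacter_indFun N (CfsgLib.Char.IsIrr.isCharacter hϑ)) (CfsgLib.Char.IsIrr.isCharacter ψ.2)
      refine ⟨c, ?_, hc, ?_⟩
      · have h1 : Cfsg.classInner (Cfsg.indFun N ϑ) χ = (c ⟨χ, hχ⟩ : ℂ) := hc ⟨χ, hχ⟩
        rw [CfsgLib.Char.frobenius_reciprocity N ϑ (CfsgLib.Char.IsIrr.isClassFunction hχ),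
          ← CfsgLib.Char.classInner_conj_symm, he', map_natCast] at h1
        exact_mod_cast h1.symm
      · have h1 : Cfsg.classInner (Cfsg.indFun N ϑ) (Cfsg.indFun N ϑ) = (N.index : ℂ) := by
          rw [CfsgLib.Char.Exceptional.classInner_indFun_normal,
            Finset.sum_congr rfl (g := fun _ => (1 : ℂ)) (fun g _ => by
              rw [show CfsgLib.Char.Exceptional.cjFun N g ϑ = ϑ from funext (hinv g)]; exact hself),
            Finset.sum_const, Finset.card_univ, nsmul_eq_mul, mul_one, ← Nat.card_eq_fintype_card, hcard,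
            inv_mul_cancel_left₀ hNc]
        rw [CfsgLib.Char.classInner_eq_sum (CfsgLib.Char.isClassFunction_indFun N ϑ)] at h1
        apply Nat.cast_injective (R := ℂ)
        rw [← h1, Nat.cast_sum]
        refine Finset.sum_congr rfl fun ψ _ => ?_
        rw [hc, map_natCast]; push_cast; ring
    constructor
    · rintro ⟨h, h2⟩ g n
      refine ⟨inv_of_res h g n, fun ψ hψ hne => ?_⟩
      obtain ⟨c, hcχ, hc, hs⟩ := hsq (inv_of_res h)
      by_contra hne'
      rw [← Finset.add_sum_erase _ _ (Finset.mem_univ (⟨χ, hχ⟩ : Cfsg.IrrCharacter G)), hcχ, h2] at hs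
      have h3 := (Finset.sum_eq_zero_iff.1 (by omega :
        ∑ x ∈ Finset.univ.erase (⟨χ, hχ⟩ : Cfsg.IrrCharacter G), c x ^ 2 = 0)) ⟨ψ, hψ⟩
        (Finset.mem_erase.2 ⟨fun h' => hne' (congrArg Subtype.val h'), Finset.mem_univ _⟩)
      refine hne ((hc ⟨ψ, hψ⟩).trans ?_)
      rw [pow_eq_zero_iff two_ne_zero] at h3
      rw [h3, Nat.cast_zero]
    · intro hboth
      have hinv := fun g n => (hboth g n).1
      obtain ⟨c, hcχ, hc, hs⟩ := hsq hinv
      refine ⟨res_of_inv hinv, ?_⟩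
      rw [Finset.sum_eq_single (⟨χ, hχ⟩ : Cfsg.IrrCharacter G) (fun ψ _ hne => ?_) (fun h => absurd (Finset.mem_univ _) h),
        hcχ] at hs
      · exact hs
      · by_contra h0
        exact hne (Subtype.ext ((hboth 1 1).2 ψ ψ.2 (by
          rw [hc]; exact Nat.cast_ne_zero.2 (fun e0 => h0 (by rw [e0]; rfl)))))

end Cfsg.Agent.S0900
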