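import Cfsg.Statements.S0901
import Cfsg.Agent.Lib.Blocks.LocalRing
import Mathlib

set_option autoImplicit false
open Cfsg

namespace Cfsg.Agent.S0901

/-- Let M be a maximal ideal of the ring of algebraic integers containing the prime p, and let U be the set of complex roots of unity of order prime to p. Then reduction modulo M is injective on U, and every algebraic integer not in M is congruent modulo M to an element of U (so U maps bijectively onto the nonzero residues). -/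
theorem result (p : ℕ) [Fact p.Prime] (M : Ideal Cfsg.AlgInt) (hM : Cfsg.IsPModular p M) : (∀ ε₁ ε₂ : Cfsg.AlgInt, (∃ m : ℕ, ¬ p ∣ m ∧ (ε₁ : ℂ) ^ m = 1) → (∃ m : ℕ, ¬ p ∣ m ∧ (ε₂ : ℂ) ^ m = 1) → ε₁ - ε₂ ∈ M → ε₁ = ε₂) ∧ (∀ a : Cfsg.AlgInt, a ∉ M → ∃ ε : Cfsg.AlgInt, (∃ m : ℕ, ¬ p ∣ m ∧ (ε : ℂ) ^ m = 1) ∧ a - ε ∈ M) := by
  classical
  haveI := hM.2.1
  haveI := hM.2.1.isPrime
  haveI : Nontrivial (Cfsg.AlgInt ⧸ M) := Ideal.Quotient.nontrivial_iff.2 hM.2.1.ne_top
  have hp0 : (p : Cfsg.AlgInt ⧸ M) = 0 := by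
    rw [← map_natCast (Ideal.Quotient.mk M), Ideal.Quotient.eq_zero_iff_mem]
    exact hM.2.2
  haveI : CharP (Cfsg.AlgInt ⧸ M) p := (CharP.charP_iff_prime_eq_zero hM.1).2 hp0
  refine ⟨?_, fun a ha => ?_⟩
  · rintro ε₁ ε₂ ⟨m₁, hm₁, h₁⟩ ⟨m₂, hm₂, h₂⟩ hsub
    have hm : ¬ p ∣ m₁ * m₂ := fun h => (hM.1.dvd_mul.1 h).elim hm₁ hm₂
    set m := m₁ * m₂ with hmdef
    have e1 : (ε₁ : ℂ) ^ m = 1 := by rw [hmdef, pow_mul, h₁, one_pow]
    have e2 : (ε₂ : ℂ) ^ m = 1 := by rw [hmdef, mul_comm, pow_mul, h₂, one_pow]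
    have hm0 : m ≠ 0 := fun h => hm (h ▸ dvd_zero p)
    by_contra hne
    have h3 : ∑ i ∈ Finset.range m, ε₁ ^ i * ε₂ ^ (m - 1 - i) = 0 := by
      have h := geom_sum₂_mul ε₁ ε₂ m
      rw [show ε₁ ^ m = ε₂ ^ m from Subtype.ext (by push_cast; rw [e1, e2]), sub_self] at h
      exact (mul_eq_zero.1 h).resolve_right (sub_ne_zero.2 hne)
    have h4 := congrArg (Ideal.Quotient.mk M) h3
    rw [map_sum, map_zero, Finset.sum_congr rfl (g := fun _ => Ideal.Quotient.mk M ε₂ ^ (m - 1))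
      (fun i hi => by
        rw [map_mul, map_pow, map_pow, Ideal.Quotient.eq.2 hsub, ← pow_add]
        congr 1
        have := Finset.mem_range.1 hi
        omega), Finset.sum_const, Finset.card_range, nsmul_eq_mul] at h4
    have hne2 : Ideal.Quotient.mk M ε₂ ^ (m - 1) * Ideal.Quotient.mk M ε₂ = 1 := by
      rw [← pow_succ, ← map_pow, ← map_one (Ideal.Quotient.mk M)]
      congr 1
      refine Subtype.ext ?_
      push_cast
      rw [show m - 1 + 1 = m by omega, e2]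
    have h5 : (m : Cfsg.AlgInt ⧸ M) = 0 := by
      have := congrArg (· * Ideal.Quotient.mk M ε₂) h4
      simpa [mul_assoc, hne2] using this
    exact hm ((CharP.cast_eq_zero_iff _ p m).1 h5)
  · letI := ZMod.algebra (Cfsg.AlgInt ⧸ M) p
    set x : Cfsg.AlgInt ⧸ M := Ideal.Quotient.mk M a with hxdef
    have hx0 : x ≠ 0 := fun h => ha (Ideal.Quotient.eq_zero_iff_mem.1 h)
    have haint : IsIntegral ℤ a := isIntegral_algHom_iff (IsScalarTower.toAlgHom ℤ Cfsg.AlgInt ℂ)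
      Subtype.val_injective |>.1 a.2
    have hxint : IsIntegral ℤ x := haint.map (Ideal.Quotient.mkₐ ℤ M)
    haveI : IsScalarTower ℤ (ZMod p) (Cfsg.AlgInt ⧸ M) :=
      IsScalarTower.of_algebraMap_eq' (RingHom.ext_int _ _)
    have hxi : IsIntegral (ZMod p) x := hxint.tower_top
    haveI : Module.Finite (ZMod p) (Algebra.adjoin (ZMod p) {x}) :=
      Module.Finite.iff_fg.2 hxi.fg_adjoin_singleton
    haveI : Finite (Algebra.adjoin (ZMod p) {x}) := Module.finite_of_finite (ZMod p)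
    obtain ⟨i, j, hij, heq⟩ := Finite.exists_ne_map_eq_of_infinite
      (fun n : ℕ => (⟨x ^ n, pow_mem (Algebra.self_mem_adjoin_singleton _ x) n⟩ :
        Algebra.adjoin (ZMod p) {x}))
    obtain ⟨d, hd0, hd⟩ : ∃ d, 0 < d ∧ x ^ d = 1 := by
      have h : x ^ i = x ^ j := congrArg Subtype.val heq
      rcases Nat.lt_or_gt_of_ne hij with hl | hl
      · refine ⟨j - i, by omega, ?_⟩
        have : x ^ i * x ^ (j - i) = x ^ i * 1 := by
          rw [← pow_add, mul_one, h, Nat.add_sub_cancel' hl.le]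
        exact mul_left_cancel₀ (pow_ne_zero _ hx0) this
      · refine ⟨i - j, by omega, ?_⟩
        have : x ^ j * x ^ (i - j) = x ^ j * 1 := by
          rw [← pow_add, mul_one, ← h, Nat.add_sub_cancel' hl.le]
        exact mul_left_cancel₀ (pow_ne_zero _ hx0) this
    obtain ⟨m, hm, hmd⟩ : ∃ m, ¬ p ∣ m ∧ d = p ^ d.factorization p * m :=
      ⟨d / p ^ d.factorization p, Nat.not_dvd_ordCompl hM.1 hd0.ne',
        (Nat.ordProj_mul_ordCompl_eq_self d p).symm⟩
    have hxm : x ^ m = 1 := by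
      rw [hmd, mul_comm, pow_mul] at hd
      exact ((iterateFrobenius_inj (Cfsg.AlgInt ⧸ M) p (d.factorization p)) (by
        simp only [iterateFrobenius_def, hd, one_pow]) : x ^ m = 1)
    have hm0 : m ≠ 0 := fun h => hm (h ▸ dvd_zero p)
    have hz := Complex.isPrimitiveRoot_exp m hm0
    set z := Complex.exp (2 * Real.pi * Complex.I / m) with hzdef
    let ζ : Cfsg.AlgInt := ⟨z, IsIntegral.of_pow (Nat.pos_of_ne_zero hm0)
      (hz.pow_eq_one ▸ isIntegral_one)⟩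
    have hζ : IsPrimitiveRoot ζ m :=
      IsPrimitiveRoot.of_map_of_injective (f := Cfsg.AlgInt.val) hz Subtype.val_injective
    have hmem : ∏ i ∈ Finset.range m, (a - ζ ^ i) ∈ M := by
      have h := congrArg (Polynomial.eval a) (X_pow_sub_C_eq_prod hζ (Nat.pos_of_ne_zero hm0)
        (one_pow m : (1 : Cfsg.AlgInt) ^ m = 1))
      simp only [Polynomial.eval_sub, Polynomial.eval_pow, Polynomial.eval_X, Polynomial.eval_C,
        Polynomial.eval_prod, mul_one] at h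
      rw [← h, ← Ideal.Quotient.eq_zero_iff_mem, map_sub, map_pow, map_one, ← hxdef, hxm, sub_self]
    obtain ⟨i, -, hi⟩ := (Ideal.IsPrime.prod_mem_iff (hp := hM.2.1.isPrime)).1 hmem
    refine ⟨ζ ^ i, ⟨m, hm, ?_⟩, hi⟩
    push_cast
    show (z ^ i) ^ m = 1
    rw [← pow_mul, mul_comm, pow_mul, hz.pow_eq_one, one_pow]

end Cfsg.Agent.S0901
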