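import Cfsg.Statements.S0903
import Cfsg.Agent.Lib.Blocks.Defect

set_option autoImplicit false
open Cfsg

namespace Cfsg.Agent.S0903

/-- Let P be a p-subgroup of the finite group G, let c centralize P and let g, h ∈ G. The number of pairs (x, y) with x conjugate to g, y conjugate to h and x * y = c is congruent modulo p to the number of such pairs in which x and y both centralize P. (This is why the Brauer map on class sums is multiplicative.) -/
theorem result {G : Type*} [Group G] [Finite G] (p : ℕ) [Fact p.Prime] (P : Subgroup G) (hP : IsPGroup p P) (c : G) (hc : c ∈ Subgroup.centralizer (P : Set G)) (g h : G) : Nat.card {xy : G × G // IsConj g xy.1 ∧ IsConj h xy.2 ∧ xy.1 * xy.2 = c} ≡ Nat.card {xy : G × G // IsConj g xy.1 ∧ IsConj h xy.2 ∧ xy.1 * xy.2 = c ∧ xy.1 ∈ Subgroup.centralizer (P : Set G) ∧ xy.2 ∈ Subgroup.centralizer (P : Set G)} [MOD p] := by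
  classical
  have := Fintype.ofFinite G
  let act : MulAction P {xy : G × G // IsConj g xy.1 ∧ IsConj h xy.2 ∧ xy.1 * xy.2 = c} :=
    { smul := fun u x => ⟨((u : G) * x.1.1 * (u : G)⁻¹, (u : G) * x.1.2 * (u : G)⁻¹),
        x.2.1.trans (isConj_iff.2 ⟨u, rfl⟩), x.2.2.1.trans (isConj_iff.2 ⟨u, rfl⟩), by
          calc (u : G) * x.1.1 * (u : G)⁻¹ * ((u : G) * x.1.2 * (u : G)⁻¹)
              = u * (x.1.1 * x.1.2) * (u : G)⁻¹ := by group
            _ = c := by
              rw [x.2.2.2, show (u : G) * c = c * u from Subgroup.mem_centralizer_iff.1 hc u u.2,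
                mul_inv_cancel_right]⟩
      one_smul := fun x => Subtype.ext (Prod.ext
        (show ((1 : P) : G) * x.1.1 * ((1 : P) : G)⁻¹ = x.1.1 by simp)
        (show ((1 : P) : G) * x.1.2 * ((1 : P) : G)⁻¹ = x.1.2 by simp))
      mul_smul := fun u v x => Subtype.ext (Prod.ext
        (show ((u * v : P) : G) * x.1.1 * ((u * v : P) : G)⁻¹ =
          (u : G) * ((v : G) * x.1.1 * (v : G)⁻¹) * (u : G)⁻¹ by simp [mul_assoc])
        (show ((u * v : P) : G) * x.1.2 * ((u * v : P) : G)⁻¹ =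
          (u : G) * ((v : G) * x.1.2 * (v : G)⁻¹) * (u : G)⁻¹ by simp [mul_assoc])) }
  have h1 := @IsPGroup.card_modEq_card_fixedPoints p P _ hP _
    {xy : G × G // IsConj g xy.1 ∧ IsConj h xy.2 ∧ xy.1 * xy.2 = c} act _
  refine h1.trans (congrArg (· % p) ?_)
  refine Nat.card_congr
    { toFun := fun x => ⟨x.1.1, x.1.2.1, x.1.2.2.1, x.1.2.2.2,
        Subgroup.mem_centralizer_iff.2 fun u hu => mul_inv_eq_iff_eq_mul.1
          (congrArg (fun y : {xy : G × G // IsConj g xy.1 ∧ IsConj h xy.2 ∧ xy.1 * xy.2 = c} => y.1.1)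
            (x.2 ⟨u, hu⟩)),
        Subgroup.mem_centralizer_iff.2 fun u hu => mul_inv_eq_iff_eq_mul.1
          (congrArg (fun y : {xy : G × G // IsConj g xy.1 ∧ IsConj h xy.2 ∧ xy.1 * xy.2 = c} => y.1.2)
            (x.2 ⟨u, hu⟩))⟩
      invFun := fun x => ⟨⟨x.1, x.2.1, x.2.2.1, x.2.2.2.1⟩, fun u => Subtype.ext (Prod.ext
        (mul_inv_eq_iff_eq_mul.2 (Subgroup.mem_centralizer_iff.1 x.2.2.2.2.1 u u.2))
        (mul_inv_eq_iff_eq_mul.2 (Subgroup.mem_centralizer_iff.1 x.2.2.2.2.2 u u.2)))⟩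
      left_inv := fun _ => rfl
      right_inv := fun _ => rfl }

end Cfsg.Agent.S0903
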