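import Cfsg.Statements.S0905
import Cfsg.Agent.Lib.Blocks.BrauerMap
import Cfsg.Agent.Lib.Blocks.GroupAlg
import Cfsg.Agent.Lib.Core.Cores

set_option autoImplicit false
open Cfsg

namespace Cfsg.Agent.S0905

/-- Let F be a field of characteristic p and let g be an element of the finite group G no conjugate of which centralizes O_p(G). Then the class sum of g is a nilpotent element of the group algebra F[G]. -/
theorem result {G : Type*} [Group G] [Finite G] (p : ℕ) [Fact p.Prime] (F : Type*) [Field F] [CharP F p] (g : G) (hg : ∀ x : G, IsConj g x → x ∉ Subgroup.centralizer (Cfsg.pCore p G : Set G)) : IsNilpotent (∑ᶠ x ∈ ConjClasses.carrier (ConjClasses.mk g), MonoidAlgebra.single x (1 : F) : MonoidAlgebra F G) := by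
  classical
  have := Fintype.ofFinite G
  have hclass : (∑ᶠ x ∈ ConjClasses.carrier (ConjClasses.mk g), MonoidAlgebra.single x (1 : F) :
      MonoidAlgebra F G) = CfsgLib.Blocks.classSum F g := by
    rw [finsum_mem_eq_finite_toFinset_sum _ (Set.toFinite _)]
    ext y
    simp only [MonoidAlgebra.coeff_sum, Finsupp.coe_finsetSum, Finset.sum_apply,
      MonoidAlgebra.coeff_single, Finsupp.single_apply, Finset.sum_ite_eq',
      CfsgLib.Blocks.coeff_classSum]
    refine if_congr ?_ rfl rfl
    rw [Set.Finite.mem_toFinset, ConjClasses.mem_carrier_iff_mk_eq, ConjClasses.mk_eq_mk_iff_isConj]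
    exact ⟨IsConj.symm, IsConj.symm⟩
  rw [hclass]
  refine CfsgLib.Blocks.isNilpotent_of_vanish_centralizer (CfsgLib.Core.isPGroup_pCore p G)
    (CfsgLib.Blocks.isCentralElt_classSum F g) fun c hc => ?_
  rw [CfsgLib.Blocks.coeff_classSum, if_neg fun h => hg c h hc]

end Cfsg.Agent.S0905
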