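import Cfsg.Statements.S0911
import Cfsg.Agent.Lib.Blocks.Defect

set_option autoImplicit false
open Cfsg

namespace Cfsg.Agent.S0911

/-- The min–max Theorem for defect classes. Let B be a block of the finite group G relative to a maximal ideal M of the algebraic integers containing the prime p, let g represent a defect class of B and let D be a Sylow p-subgroup of the centralizer of g (viewed in G). For any h: (a) if the idempotent coefficient of B at h is a local integer outside the local ideal, then some conjugate of D contains a Sylow p-subgroup of the centralizer of h; (b) if the central character of some member of B at h is outside the local ideal, then some conjugate of D is contained in a Sylow p-subgroup of the centralizer of h. -/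
theorem result {G : Type*} [Group G] [Finite G] (p : ℕ) [Fact p.Prime] (M : Ideal Cfsg.AlgInt) (hM : Cfsg.IsPModular p M) (B : Set (Cfsg.IrrCharacter G)) (hB : Cfsg.IsPBlock M B) (g : G) (hg : Cfsg.IsDefectClass M B g) (D : Sylow p (Subgroup.centralizer ({g} : Set G))) (h : G) : (Cfsg.MemLocalRing M (Cfsg.blockCoeff B h) → ¬ Cfsg.MemLocalIdeal M (Cfsg.blockCoeff B h) → ∃ (x : G) (Q : Sylow p (Subgroup.centralizer ({h} : Set G))), (Q : Subgroup (Subgroup.centralizer ({h} : Set G))).map (Subgroup.centralizer ({h} : Set G)).subtype ≤ ((D : Subgroup (Subgroup.centralizer ({g} : Set G))).map (Subgroup.centralizer ({g} : Set G)).subtype).map (MulAut.conj x).toMonoidHom) ∧ ((∃ χ ∈ B, ¬ Cfsg.MemLocalIdeal M (Cfsg.centralChar (χ : G → ℂ) h)) → ∃ (x : G) (Q : Sylow p (Subgroup.centralizer ({h} : Set G))), ((D : Subgroup (Subgroup.centralizer ({g} : Set G))).map (Subgroup.centralizer ({g} : Set G)).subtype).map (MulAut.conj x).toMonoidHom ≤ (Q : Subgroup (Subgroup.centralizer ({h} : Set G))).map (Subgroup.centralizer ({h} : Set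 G)).subtype) := by
  classical
  have := Fintype.ofFinite G
  haveI := hM.2.1.isPrime
  have hs : CfsgLib.Fusion.IsSylowIn p
      ((D : Subgroup (Subgroup.centralizer ({g} : Set G))).map (Subgroup.centralizer ({g} : Set G)).subtype)
      (Subgroup.centralizer ({g} : Set G)) :=
    ⟨D, by rw [Subgroup.subgroupOf, Subgroup.comap_map_eq_self_of_injective
      (Subgroup.centralizer ({g} : Set G)).subtype_injective]⟩
  obtain ⟨Q⟩ := (inferInstance : Nonempty (Sylow p (Subgroup.centralizer ({h} : Set G))))
  have hQs : CfsgLib.Fusion.IsSylowIn p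
      ((Q : Subgroup (Subgroup.centralizer ({h} : Set G))).map (Subgroup.centralizer ({h} : Set G)).subtype)
      (Subgroup.centralizer ({h} : Set G)) :=
    ⟨Q, by rw [Subgroup.subgroupOf, Subgroup.comap_map_eq_self_of_injective
      (Subgroup.centralizer ({h} : Set G)).subtype_injective]⟩
  refine ⟨fun _ h2 => ?_, fun ⟨χ, hχ, h2⟩ => ?_⟩
  · obtain ⟨χ, hχ⟩ := CfsgLib.Blocks.IsPBlock.nonempty hB
    obtain ⟨x, hx⟩ := CfsgLib.Blocks.defLE_of_coeff_ne_zero hM hB hχ
      (CfsgLib.Blocks.IsDefectClass.centralCharBar_ne_zero hg hχ) (CfsgLib.Blocks.defLE_self hs)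
      (g := h) (fun e => h2 ((CfsgLib.Blocks.coeff_blockIdemBar_eq_zero_iff hB).1 e))
      _ (hQs.isPGroup (Subgroup.map_subtype_le _)) (Subgroup.map_subtype_le _)
    exact ⟨x⁻¹, Q, fun a ha => ⟨x * a * x⁻¹, hx a ha, by simp [mul_assoc]⟩⟩
  · obtain ⟨x, hx⟩ := CfsgLib.Blocks.subConj_of_centralCharBar_ne_zero hM hB hg
      (hs.isPGroup (Subgroup.map_subtype_le _)) (Subgroup.map_subtype_le _) hχ
      (fun e => h2 (CfsgLib.Blocks.centralCharBar_eq_zero_iff.1 e)) (CfsgLib.Blocks.defLE_self hQs)
    exact ⟨x, Q, CfsgLib.Blocks.SubConj.iff_map_le (P := _) |>.1 ⟨x, hx⟩ |>.elim fun _ _ => by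
      rintro _ ⟨a, ha, rfl⟩
      exact hx a ha⟩

end Cfsg.Agent.S0911
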