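import Cfsg.Statements.S0916
import Cfsg.Agent.Lib.Blocks.FirstMain

set_option autoImplicit false
open Cfsg

namespace Cfsg.Agent.S0916

/-- Let P be a p-subgroup of the finite group G, C its centralizer and N its normalizer. Say that a conjugacy class (of G, or of N) has defect group P when P is a Sylow p-subgroup of the centralizer (in G, respectively in N) of some element of the class. Then: (i) if the class of g in G has defect group P, the elements of that class lying in C form a single N-class, again with defect group P; (ii) every N-class with defect group P arises this way from exactly one G-class with defect group P. -/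
theorem result {G : Type*} [Group G] [Finite G] (p : ℕ) [Fact p.Prime] (P : Subgroup G) (hP : IsPGroup p P) : (∀ g : G, (∃ S : Sylow p (Subgroup.centralizer ({g} : Set G)), (S : Subgroup (Subgroup.centralizer ({g} : Set G))).map (Subgroup.centralizer ({g} : Set G)).subtype = P) → (∃ c : G, IsConj g c ∧ c ∈ Subgroup.centralizer (P : Set G)) ∧ (∀ c₁ c₂ : G, IsConj g c₁ → IsConj g c₂ → c₁ ∈ Subgroup.centralizer (P : Set G) → c₂ ∈ Subgroup.centralizer (P : Set G) → ∃ n ∈ Subgroup.normalizer (P : Set G), n * c₁ * n⁻¹ = c₂)) ∧ (∀ c : G, c ∈ Subgroup.centralizer (P : Set G) → (∃ S : Sylow p (Subgroup.centralizer ({c} : Set G) ⊓ Subgroup.normalizer (P : Set G) : Subgroup G), (S : Subgroup ↥(Subgroup.centralizer ({c} : Set G) ⊓ Subgroup.normalizer (P : Set G))).map (Subgroup.centralizer ({c} : Set G) ⊓ Subgroup.normalizer (P : Set G)).subtype = P) → ∃ S : Sylow p (Subgroup.centralizer ({c} : Set G)), (S : Subgroup (Subgroup.centralizer ({c} : Set G))).map (Subgroup.centralizer ({c} : Set G)).subtype = P) := by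
  classical
  refine ⟨fun g ⟨S, hS⟩ => ?_, fun c hc ⟨S, hS⟩ => ?_⟩
  · have hle : P ≤ Subgroup.centralizer ({g} : Set G) := hS ▸ Subgroup.map_subtype_le _
    have hs : CfsgLib.Fusion.IsSylowIn p P (Subgroup.centralizer ({g} : Set G)) :=
      ⟨S, by rw [← hS, Subgroup.subgroupOf, Subgroup.comap_map_eq_self_of_injective
        (Subgroup.centralizer ({g} : Set G)).subtype_injective]⟩
    refine ⟨⟨g, IsConj.refl g, CfsgLib.Blocks.mem_centralizer_iff_le.2 hle⟩,
      fun c₁ c₂ h1 h2 hc1 hc2 => ?_⟩
    refine CfsgLib.Blocks.exists_normalizer_conj hP (CfsgLib.Blocks.mem_centralizer_iff_le.1 hc1) ?_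
      (h1.symm.trans h2) hc2
    rw [CfsgLib.Fusion.isSylowIn_iff_card (CfsgLib.Blocks.mem_centralizer_iff_le.1 hc1),
      (CfsgLib.Fusion.isSylowIn_iff_card hle).1 hs]
    obtain ⟨x, rfl⟩ := isConj_iff.1 h1
    rw [Nat.card_congr (α := Subgroup.centralizer ({g} : Set G))
      (β := Subgroup.centralizer ({x * g * x⁻¹} : Set G)) ((MulAut.conj x).toEquiv.subtypeEquiv fun y => ?_)]
    simp only [CfsgLib.Blocks.mem_centralizer_singleton]
    constructor
    · intro h
      simpa using h.map (MulAut.conj x).toMonoidHom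
    · intro h
      simpa [mul_assoc] using h.map (MulAut.conj x).symm.toMonoidHom
  · have hle := CfsgLib.Blocks.mem_centralizer_iff_le.1 hc
    have hs : CfsgLib.Fusion.IsSylowIn p P
        (Subgroup.centralizer ({c} : Set G) ⊓ Subgroup.normalizer (P : Set G)) :=
      ⟨S, by
        refine Eq.trans ?_ (congrArg (fun Q : Subgroup G => Q.subgroupOf
          (Subgroup.centralizer ({c} : Set G) ⊓ Subgroup.normalizer (P : Set G))) hS)
        simp only [Subgroup.subgroupOf]
        rw [Subgroup.comap_map_eq_self_of_injective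
          (Subgroup.centralizer ({c} : Set G) ⊓ Subgroup.normalizer (P : Set G)).subtype_injective]⟩
    obtain ⟨T, hT⟩ := CfsgLib.Blocks.isSylowIn_centralizer_of_normalizer hP hle fun Q hQ hPQ hQc hQN =>
      hs.eq_of_le (le_inf hle Subgroup.le_normalizer) hPQ (le_inf hQc hQN) hQ
    exact ⟨T, by rw [hT, Subgroup.map_subgroupOf_eq_of_le hle]⟩

end Cfsg.Agent.S0916
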