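import Cfsg.Statements.S0918
import Cfsg.Agent.Lib.Blocks.Induced

set_option autoImplicit false
open Cfsg

namespace Cfsg.Agent.S0918

/-- Let P be a p-subgroup of the finite group G and H a subgroup with P·C_G(P) ≤ H ≤ N_G(P); let b be a block of H and B a block of G relative to a maximal ideal M of the algebraic integers containing p. Then b induces B if and only if, for every g ∈ G, every ξ ∈ b and every χ ∈ B, the central character of χ at g is congruent modulo the local ideal at M to the sum of ξ h / ξ 1 over the elements h of H conjugate in G to g and centralizing P. -/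
theorem result {G : Type*} [Group G] [Finite G] (p : ℕ) [Fact p.Prime] (M : Ideal Cfsg.AlgInt) (hM : Cfsg.IsPModular p M) (P H : Subgroup G) (hP : IsPGroup p P) (hPH : P ≤ H) (hCH : Subgroup.centralizer (P : Set G) ≤ H) (hHN : H ≤ Subgroup.normalizer (P : Set G)) (b : Set (Cfsg.IrrCharacter H)) (hb : Cfsg.IsPBlock M b) (B : Set (Cfsg.IrrCharacter G)) (hB : Cfsg.IsPBlock M B) : Cfsg.IsInducedBlock M H b B ↔ ∀ ξ ∈ b, ∀ χ ∈ B, ∀ g : G, Cfsg.MemLocalIdeal M (Cfsg.brauerCentralChar P H (ξ : H → ℂ) g - Cfsg.centralChar (χ : G → ℂ) g) := by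
  classical
  have := Fintype.ofFinite G
  haveI := hM.2.1.isPrime
  have := Fintype.ofFinite H
  have := CfsgLib.Blocks.charP_residueField hM
  have key : ∀ (ξ : Cfsg.IrrCharacter H) (χ : Cfsg.IrrCharacter G) (g : G),
      Cfsg.MemLocalIdeal M (Cfsg.brauerCentralChar P H (ξ : H → ℂ) g - Cfsg.centralChar (χ : G → ℂ) g) ↔
      Cfsg.MemLocalIdeal M (Cfsg.inducedCentralChar H (ξ : H → ℂ) g - Cfsg.centralChar (χ : G → ℂ) g) := by
    intro ξ χ g
    rw [CfsgLib.Blocks.memLocalIdeal_inducedCentralChar_sub_iff,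
      CfsgLib.Blocks.omegaBar_resElt_eq_brauerMap hM hP hPH hHN ξ (CfsgLib.Blocks.isCentralElt_classSum _ g)]
    let a : MonoidAlgebra (CfsgLib.Blocks.localRing M) H := CfsgLib.Blocks.ofFun fun h =>
      if (h : G) ∈ Subgroup.centralizer (P : Set G) then
        (CfsgLib.Blocks.classSum (CfsgLib.Blocks.localRing M) g).coeff h else 0
    have hared : CfsgLib.Blocks.red M a =
        CfsgLib.Blocks.brauerMap P H (CfsgLib.Blocks.classSum (CfsgLib.Blocks.Res M) g) := by
      refine MonoidAlgebra.ext (Finsupp.ext fun h => ?_)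
      rw [CfsgLib.Blocks.coeff_red, CfsgLib.Blocks.coeff_ofFun, CfsgLib.Blocks.coeff_brauerMap,
        CfsgLib.Blocks.coeff_classSum, CfsgLib.Blocks.coeff_classSum]
      split_ifs <;> simp
    have hac : CfsgLib.Blocks.IsCentralElt a := by
      intro h k
      have hn := hHN k.2
      simp only [a, CfsgLib.Blocks.coeff_ofFun, CfsgLib.Blocks.coeff_classSum]
      have e1 := CfsgLib.Blocks.isCentralElt_brauerMap (F := ℤ) hHN
        (CfsgLib.Blocks.isCentralElt_classSum ℤ g) h k
      simp only [CfsgLib.Blocks.coeff_brauerMap, CfsgLib.Blocks.coeff_classSum] at e1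
      split_ifs at e1 ⊢ <;> simp_all
    have homega : CfsgLib.Blocks.omega (ξ : H → ℂ) (CfsgLib.Blocks.inc M a) =
        Cfsg.brauerCentralChar P H (ξ : H → ℂ) g := by
      rw [Cfsg.brauerCentralChar, CfsgLib.Blocks.omega_apply, Finset.sum_div,
        finsum_mem_eq_finite_toFinset_sum _ (Set.toFinite _)]
      simp only [a, CfsgLib.Blocks.coeff_inc, CfsgLib.Blocks.coeff_ofFun,
        CfsgLib.Blocks.coeff_classSum, apply_ite Subtype.val, OneMemClass.coe_one, ZeroMemClass.coe_zero,
        ite_mul, one_mul, zero_mul, ite_div, zero_div, ← ite_and, ← Finset.sum_filter]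
      exact Finset.sum_congr (by ext; simp [and_comm]) fun _ _ => rfl
    rw [← hared, CfsgLib.Blocks.omegaBar_red ξ hac, ← homega]
    exact (CfsgLib.Blocks.residue_eq_iff (z := ⟨_, CfsgLib.Blocks.omega_inc_mem ξ hac⟩)
      (w := CfsgLib.Blocks.centralCharO M χ g)).symm
  exact ⟨fun h ξ hξ χ hχ g => (key ξ χ g).2 (h.2.2 ξ hξ χ hχ g),
    fun h => ⟨hb, hB, fun ξ hξ χ hχ g => (key ξ χ g).1 (h ξ hξ χ hχ g)⟩⟩

end Cfsg.Agent.S0918
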