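import Cfsg.Statements.S0932
import Cfsg.Agent.Lib.Blocks.GroupAlg
import Cfsg.Agent.Lib.Char.Induced

set_option autoImplicit false
open Cfsg

namespace Cfsg.Agent.S0932

/-- Let H be a subgroup of the finite group G and ξ a character of H. For every g ∈ G, the sum of ξ h / ξ 1 over the elements h ∈ H that are conjugate in G to g equals the central character at g of the character of G induced from ξ (class size times value divided by degree). -/
theorem result {G : Type*} [Group G] [Fintype G] (H : Subgroup G) (ξ : H → ℂ) (hξ : Cfsg.IsCharacter H ξ) (g : G) : Cfsg.inducedCentralChar H ξ g = Cfsg.centralChar (Cfsg.indFun H ξ) g := by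
  classical
  have hH : (Nat.card H : ℂ) ≠ 0 := Nat.cast_ne_zero.2 Nat.card_pos.ne'
  have hidx : (H.index : ℂ) ≠ 0 := Nat.cast_ne_zero.2 Subgroup.index_ne_zero_of_finite
  let C := Subgroup.centralizer ({g} : Set G)
  have hfib : ∀ y : G, IsConj g y → (Finset.univ.filter fun x : G => x⁻¹ * g * x = y).card = Nat.card C := by
    intro y hy
    obtain ⟨w, rfl⟩ := isConj_iff.1 hy
    rw [← Nat.card_eq_finsetCard]
    refine Nat.card_congr
      { toFun := fun x => ⟨x.1 * w, Subgroup.mem_centralizer_singleton_iff.2 ?_⟩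
        invFun := fun c => ⟨c.1 * w⁻¹, Finset.mem_filter.2 ⟨Finset.mem_univ _, ?_⟩⟩
        left_inv := fun x => Subtype.ext (mul_inv_cancel_right _ _)
        right_inv := fun c => Subtype.ext (inv_mul_cancel_right _ _) }
    · have h := (Finset.mem_filter.1 x.2).2
      calc x.1 * w * g = x.1 * (w * g * w⁻¹) * w := by group
        _ = x.1 * (x.1⁻¹ * g * x.1) * w := congrArg (fun z => x.1 * z * w) h.symm
        _ = g * (x.1 * w) := by group
    · have h : c.1 * g = g * c.1 := Subgroup.mem_centralizer_singleton_iff.1 c.2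
      calc (c.1 * w⁻¹)⁻¹ * g * (c.1 * w⁻¹) = w * c.1⁻¹ * (g * c.1) * w⁻¹ := by group
        _ = w * g * w⁻¹ := by rw [← h]; group
  have hsum : ∑ x : G, Cfsg.extendByZero H ξ (x⁻¹ * g * x) =
      (Nat.card C : ℂ) * ∑ᶠ h ∈ {h : H | IsConj g (h : G)}, ξ h := by
    rw [← Finset.sum_fiberwise (g := fun x : G => x⁻¹ * g * x),
      finsum_mem_eq_finite_toFinset_sum _ (Set.toFinite _), Finset.mul_sum]
    have hz : ∀ y : G, ¬ IsConj g y →
        (Finset.univ.filter fun x : G => x⁻¹ * g * x = y) = ∅ := fun y hy => by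
      refine Finset.filter_eq_empty_iff.2 fun x _ hx => hy (isConj_iff.2 ⟨x⁻¹, by rw [inv_inv]; exact hx⟩)
    rw [Finset.sum_congr rfl (g := fun y => if IsConj g y then (Nat.card C : ℂ) * Cfsg.extendByZero H ξ y else 0)
      fun y _ => ?_]
    · rw [← Finset.sum_filter]
      symm
      refine Finset.sum_of_injOn Subtype.val (fun _ _ _ _ h => Subtype.ext h) (fun h hh => by simpa using hh)
        (fun y hy hn => ?_) fun h _ => by rw [CfsgLib.Char.extendByZero_coe]
      rw [CfsgLib.Char.extendByZero_of_notMem H ξ fun hyH => hn ⟨⟨y, hyH⟩, by simpa using hy, rfl⟩,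
        mul_zero]
    · by_cases hy : IsConj g y
      · rw [if_pos hy, Finset.sum_congr rfl fun x hx => by rw [(Finset.mem_filter.1 hx).2],
          Finset.sum_const, hfib y hy, nsmul_eq_mul]
      · rw [if_neg hy, hz y hy, Finset.sum_empty]
  have hind : Cfsg.inducedCentralChar H ξ g = (∑ᶠ h ∈ {h : H | IsConj g (h : G)}, ξ h) / ξ 1 := by
    rw [Cfsg.inducedCentralChar, finsum_mem_eq_finite_toFinset_sum _ (Set.toFinite _),
      finsum_mem_eq_finite_toFinset_sum _ (Set.toFinite _), Finset.sum_div]
  rw [hind, Cfsg.centralChar, CfsgLib.Char.indFun_apply_one, Cfsg.indFun, hsum]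
  have hcard : ((Subgroup.centralizer ({g} : Set G)).index : ℂ) * Nat.card C =
      (H.index : ℂ) * Nat.card H := by
    norm_cast
    rw [Subgroup.index_mul_card, Subgroup.index_mul_card]
  by_cases h1 : ξ 1 = 0
  · simp [h1]
  · field_simp
    linear_combination -(∑ᶠ h ∈ {h : H | IsConj g (h : G)}, ξ h) * hcard

end Cfsg.Agent.S0932
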