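import Cfsg.Statements.S0934
import Cfsg.Agent.Lib.Blocks.IndCentral

set_option autoImplicit false
open Cfsg

namespace Cfsg.Agent.S0934

/-- Let H be a subgroup of the finite group G and fix a maximal ideal M of the algebraic integers containing the prime p. If the block b of H induces the block B of G and ξ ∈ b, then there is χ ∈ B whose restriction to H has nonzero inner product with ξ. -/
theorem result {G : Type*} [Group G] [Fintype G] (p : ℕ) [Fact p.Prime] (M : Ideal Cfsg.AlgInt) (hM : Cfsg.IsPModular p M) (H : Subgroup G) [Fintype H] (b : Set (Cfsg.IrrCharacter H)) (B : Set (Cfsg.IrrCharacter G)) (hind : Cfsg.IsInducedBlock M H b B) (ξ : Cfsg.IrrCharacter H) (hξ : ξ ∈ b) : ∃ χ ∈ B, Cfsg.classInner (fun h : H => (χ : G → ℂ) h) (ξ : H → ℂ) ≠ 0 := by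
  classical
  haveI := hM.2.1.isPrime
  obtain ⟨hb, hB, h⟩ := CfsgLib.Blocks.isInducedBlock_iff.1 hind
  obtain ⟨χ₀, hχ₀⟩ := CfsgLib.Blocks.IsPBlock.nonempty hB
  have hone : CfsgLib.Blocks.omegaBar ξ (CfsgLib.Blocks.resElt H (CfsgLib.Blocks.blockIdemBar M B)) = 1 := by
    rw [h ξ hξ χ₀ hχ₀ _ (CfsgLib.Blocks.isCentralElt_blockIdemBar hB),
      CfsgLib.Blocks.omegaBar_blockIdemBar hB, if_pos hχ₀]
  by_contra hcon
  push_neg at hcon
  have hc := CfsgLib.Blocks.isCentralElt_resElt H (CfsgLib.Blocks.isCentralElt_blockIdemO (M := M) hB)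
  have hred : CfsgLib.Blocks.red M (CfsgLib.Blocks.resElt H (CfsgLib.Blocks.blockIdemO M B))
      = CfsgLib.Blocks.resElt H (CfsgLib.Blocks.blockIdemBar M B) :=
    MonoidAlgebra.ext (Finsupp.ext fun x => by
      simp [CfsgLib.Blocks.blockIdemBar, CfsgLib.Blocks.coeff_red])
  rw [← hred, CfsgLib.Blocks.omegaBar_red ξ hc, ← map_one (CfsgLib.Blocks.resHom M)] at hone
  have hzero : CfsgLib.Blocks.omega (ξ : H → ℂ)
      (CfsgLib.Blocks.inc M (CfsgLib.Blocks.resElt H (CfsgLib.Blocks.blockIdemO M B))) = 0 := by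
    have := Fintype.ofFinite (IrrCharacter G)
    rw [CfsgLib.Blocks.omega_apply]
    have hco : ∀ x : H, (CfsgLib.Blocks.inc M (CfsgLib.Blocks.resElt H
        (CfsgLib.Blocks.blockIdemO M B))).coeff x = blockCoeff B (x : G) := fun x => by
      have h1 := congrArg (fun a : MonoidAlgebra ℂ G => a.coeff (x : G))
        (CfsgLib.Blocks.inc_blockIdemO (M := M) hB)
      simpa [CfsgLib.Blocks.coeff_inc] using h1
    simp only [hco, CfsgLib.Blocks.blockCoeff_eq_sum, mul_assoc, Finset.sum_mul, ← Finset.mul_sum]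
    rw [Finset.sum_comm, Finset.sum_eq_zero, mul_zero, zero_div]
    intro χ hχ
    have h0 := hcon χ (Finset.mem_filter.1 hχ).2
    rw [classInner, mul_eq_zero, inv_eq_zero, or_iff_right (Nat.cast_ne_zero.2 Nat.card_pos.ne')] at h0
    have h1 := congrArg (starRingEnd ℂ) h0
    simp only [map_sum, map_mul, map_zero, RingHomCompTriple.comp_apply, RingHom.id_apply] at h1
    rw [← Finset.mul_sum]
    simp only [CfsgLib.Char.IsIrr.map_inv χ.2]
    simp only [h1, mul_zero]
  rw [show (⟨_, CfsgLib.Blocks.omega_inc_mem (M := M) ξ hc⟩ : CfsgLib.Blocks.localRing M) = 0 from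
    Subtype.ext hzero, map_zero, map_one] at hone
  exact zero_ne_one hone

end Cfsg.Agent.S0934
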