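import Cfsg.Statements.S0944
import Cfsg.Agent.Lib.Char.Integral

set_option autoImplicit false
open Cfsg

namespace Cfsg.Agent.S0944

/-- Let χ be an irreducible character of the finite group G and u an involution. Then χ u is a rational integer n with n ≡ χ 1 (mod 2). -/
theorem result {G : Type*} [Group G] [Finite G] (χ : Cfsg.IrrCharacter G) (u : G) (hu : orderOf u = 2) : ∃ n : ℤ, (χ : G → ℂ) u = (n : ℂ) ∧ (2 : ℤ) ∣ (Cfsg.charDegree (χ : G → ℂ) : ℤ) - n := by
  classical
  obtain ⟨χ, n, ρ, hρ, rfl⟩ := χ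
  obtain ⟨b, μ, -, hpow, -, hsum, hp⟩ := CfsgLib.CharIntegral.exists_eigenbasis_apply ρ u
  rw [hu] at hpow
  have hs : ∀ i, ∃ z : ℤ, μ i = z ∧ (2 : ℤ) ∣ 1 - z := fun i => by
    rcases sq_eq_one_iff.1 (hpow i) with h | h
    · exact ⟨1, by simp [h], by simp⟩
    · exact ⟨-1, by simp [h], by norm_num⟩
  choose z hz hdvd using hs
  refine ⟨∑ i, z i, ?_, ?_⟩
  · show ρ.character u = _
    rw [hsum, Int.cast_sum]
    exact Finset.sum_congr rfl fun i _ => hz i
  · have hd : ∀ m : ℕ, ρ.character 1 = (m : ℂ) → charDegree ρ.character = m := fun m hm => by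
      simp [charDegree, hm]
    show (2 : ℤ) ∣ (charDegree ρ.character : ℤ) - _
    rw [hd _ ρ.char_one]
    have := Finset.dvd_sum (s := Finset.univ) fun i _ => hdvd i
    simpa using this

end Cfsg.Agent.S0944
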