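import Cfsg.Statements.S0947
import Cfsg.Agent.Lib.Blocks.Principal
import Cfsg.Agent.Lib.Core.Cores

set_option autoImplicit false
open Cfsg

namespace Cfsg.Agent.S0947

/-- Let z ≠ 1 be a p-element of the finite group G with centralizer H, and fix a maximal ideal M of the algebraic integers containing p. (i) For every y ∈ H of order prime to p, the sum over ζ in the principal block of G of |ζ (z * y)|² equals the sum over χ in the principal block of H of |χ y|². (ii) If moreover H has a normal p-complement (its largest normal subgroup of order prime to p has p-power index), that common value is the largest power of p dividing the order of H. -/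
theorem result {G : Type*} [Group G] [Finite G] (p : ℕ) [Fact p.Prime] (M : Ideal Cfsg.AlgInt) (hM : Cfsg.IsPModular p M) (z : G) (hz : ∃ k : ℕ, orderOf z = p ^ k) (hz1 : z ≠ 1) (y : Subgroup.centralizer ({z} : Set G)) (hy : ¬ p ∣ orderOf y) : (∑ᶠ ζ ∈ Cfsg.principalBlock M G, ‖(ζ : G → ℂ) (z * (y : G))‖ ^ 2 = ∑ᶠ χ ∈ Cfsg.principalBlock M (Subgroup.centralizer ({z} : Set G)), ‖(χ : Subgroup.centralizer ({z} : Set G) → ℂ) y‖ ^ 2) ∧ ((∃ k : ℕ, (Cfsg.pPrimeCore p (Subgroup.centralizer ({z} : Set G))).index = p ^ k) → ∑ᶠ ζ ∈ Cfsg.principalBlock M G, ‖(ζ : G → ℂ) (z * (y : G))‖ ^ 2 = ((p ^ (Nat.card (Subgroup.centralizer ({z} : Set G))).factorization p : ℕ) : ℝ)) := by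
  classical
  haveI := hM.2.1.isPrime
  have := Fintype.ofFinite G
  have := Fintype.ofFinite (Subgroup.centralizer ({z} : Set G))
  have h1 := CfsgLib.Blocks.sum_principalBlock_norm_sq hM hz hy
  refine ⟨h1, fun ⟨k, hk⟩ => ?_⟩
  rw [h1]
  have := Fintype.ofFinite (IrrCharacter (Subgroup.centralizer ({z} : Set G)))
  set N := pPrimeCore p (Subgroup.centralizer ({z} : Set G)) with hN
  have hNp : ¬ p ∣ Nat.card N :=
    (Nat.Prime.coprime_iff_not_dvd hM.1).1 (CfsgLib.Core.coprime_card_pPrimeCore p _).symm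
  have hyN : y ∈ N := by
    rw [← QuotientGroup.eq_one_iff, ← orderOf_eq_one_iff]
    have h2 : orderOf (y : _ ⧸ N) ∣ p ^ k := hk ▸ orderOf_dvd_natCard _
    exact Nat.eq_one_of_dvd_coprimes
      (((Nat.Prime.coprime_iff_not_dvd hM.1).2 hy).pow_left k) h2
      (orderOf_map_dvd (QuotientGroup.mk' N) y)
  have hfac : (Nat.card (Subgroup.centralizer ({z} : Set G))).factorization p = k := by
    rw [← N.index_mul_card, hk, Nat.factorization_mul (pow_ne_zero _ hM.1.ne_zero) Nat.card_pos.ne',
      Finsupp.add_apply, hM.1.factorization_pow, Finsupp.single_eq_same,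
      Nat.factorization_eq_zero_of_not_dvd hNp, add_zero]
  rw [hfac, ← hk, ← CfsgLib.Blocks.sum_degree_sq_trivial N, Nat.cast_sum,
    CfsgLib.Blocks.principalBlock_eq_of_complement N hM hNp hk,
    finsum_mem_eq_finite_toFinset_sum _ (Set.toFinite _)]
  refine Finset.sum_congr (by ext; simp) fun χ hχ => ?_
  rw [(Finset.mem_filter.1 hχ).2 y hyN, CfsgLib.Blocks.apply_one_eq_charDegree, Complex.norm_natCast,
    Nat.cast_pow]

end Cfsg.Agent.S0947
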