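import Cfsg.Statements.S0950
import Cfsg.Agent.Lib.Transfer.Fusion

set_option autoImplicit false
open Cfsg

namespace Cfsg.Agent.S0950

/-- Let S be a Sylow 2-subgroup of the finite group G that is isomorphic to the quaternion group of order 8, and suppose S has no normal complement in G. Then any two subgroups of order 4 of S are conjugate by an element of the normalizer of S. -/
theorem result {G : Type*} [Group G] [Finite G] (S : Sylow 2 G) (e : (S : Subgroup G) ≃* QuaternionGroup 2) (hnc : ∀ N : Subgroup G, N.Normal → ¬ Subgroup.IsComplement' N (S : Subgroup G)) (A B : Subgroup G) (hA : A ≤ S) (hB : B ≤ S) (hA4 : Nat.card A = 4) (hB4 : Nat.card B = 4) : ∃ n ∈ Subgroup.normalizer ((S : Subgroup G) : Set G), B = A.map (MulAut.conj n).toMonoidHom := by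
  classical
  have := Fintype.ofFinite G
  have hnc' : ¬ HasNormalPComplement 2 G := fun h => by
    obtain ⟨N, hN, hc⟩ := (CfsgLib.Transfer.exists_complement_iff S).2 h
    exact hnc N hN hc
  let f : Subgroup.normalizer ((S : Subgroup G) : Set G) →* MulAut (S : Subgroup G) :=
    (S : Subgroup G).normalizerMonoidHom
  let Q := QuaternionGroup 2
  let mk : Q → Q → Q → Q := fun i j x =>
    match x with
    | .a k => i ^ k.val
    | .xa k => j * i ^ k.val
  let r : MulAut (S : Subgroup G) → Q → Q := fun σ q => e (σ (e.symm q))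
  have hr : ∀ σ, r σ = mk (r σ (.a 1)) (r σ (.xa 0)) := fun σ => by
    let φ : Q →* Q := e.toMonoidHom.comp (σ.toMonoidHom.comp e.symm.toMonoidHom)
    funext x
    rcases x with k | k
    · show φ (.a k) = φ (.a 1) ^ k.val
      rw [← map_pow, QuaternionGroup.a_one_pow, ZMod.natCast_zmod_val]
    · show φ (.xa k) = φ (.xa 0) * φ (.a 1) ^ k.val
      rw [← map_pow, QuaternionGroup.a_one_pow, ZMod.natCast_zmod_val, ← map_mul,
        QuaternionGroup.xa_mul_a, zero_add]
  have key : ∀ i j : Q, (∀ x y, mk i j (x * y) = mk i j x * mk i j y) →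
      (∀ x y, mk i j x = mk i j y → x = y) → (∀ x, (mk i j)^[12] x = x) ∧
      ((∀ x, (mk i j)^[3] x = x) → (∃ x, mk i j x ≠ x) →
      ∀ s t : Q, s ^ 2 ≠ 1 → t ^ 2 ≠ 1 → ∃ k < 3, (mk i j)^[k] s = t ∨ (mk i j)^[k] s = t⁻¹) := by
    decide +kernel
  have hit : ∀ (σ : MulAut (S : Subgroup G)) (n : ℕ), r (σ ^ n) = (r σ)^[n] := fun σ n => by
    induction n with
    | zero => funext q; show e (e.symm q) = q; simp
    | succ n ih =>
      rw [pow_succ', Function.iterate_succ', ← ih]
      funext q
      show e ((σ * σ ^ n) (e.symm q)) = e (σ (e.symm (e ((σ ^ n) (e.symm q)))))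
      rw [MulAut.mul_apply, e.symm_apply_apply]
  have keyσ := fun σ : MulAut (S : Subgroup G) => key (r σ (.a 1)) (r σ (.xa 0))
    (fun x y => by
      rw [← hr]
      show e (σ (e.symm (x * y))) = e (σ (e.symm x)) * e (σ (e.symm y))
      simp only [map_mul])
    (fun x y h => by
      rw [← hr] at h
      exact e.symm.injective (σ.injective (e.injective h)))
  have hrinj : ∀ σ τ, r σ = r τ → σ = τ := fun σ τ h => MulEquiv.ext fun y => by
    have h1 : e (σ (e.symm (e y))) = e (τ (e.symm (e y))) := congrFun h (e y)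
    simpa using h1
  obtain ⟨σ, ⟨g₀, hg₀⟩, h3, hne⟩ : ∃ σ ∈ f.range, σ ^ 3 = 1 ∧ σ ≠ 1 := by
    by_contra hcon
    refine hnc' (CfsgLib.Transfer.hasNormalPComplement_of_centralizes S ?_)
    intro R hR g hg hco
    have hgodd : ¬ 2 ∣ orderOf g := fun hd => by
      have := Nat.eq_one_of_dvd_coprimes hco hd dvd_rfl
      omega
    rw [Subgroup.mem_centralizer_iff]
    intro y hy
    by_cases hRS : R = (S : Subgroup G)
    · subst hRS
      suffices f ⟨g, hg⟩ = 1 by
        have h1 : g * y * g⁻¹ = y := congrArg Subtype.val (DFunLike.congr_fun this (⟨y, hy⟩ : (S : Subgroup G)))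
        exact (mul_inv_eq_iff_eq_mul.1 h1).symm
      have h12 : f ⟨g, hg⟩ ^ 12 = 1 := hrinj _ _ (funext fun q => by
        rw [hit, show r 1 q = q from by show e (e.symm q) = q; simp, hr (f ⟨g, hg⟩)]
        exact (keyσ _).1 q)
      have hn : f ⟨g, hg⟩ ^ orderOf g = 1 := by
        rw [← map_pow, show (⟨g, hg⟩ : Subgroup.normalizer _) ^ orderOf g = 1 from
          Subtype.ext (pow_orderOf_eq_one g), map_one]
      have h13 : orderOf (f ⟨g, hg⟩) ∣ 3 := by
        have h4 : Nat.Coprime (orderOf (f ⟨g, hg⟩)) 4 := Nat.Coprime.coprime_dvd_left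
          (orderOf_dvd_of_pow_eq_one hn) (hco.pow_right 2)
        exact h4.dvd_of_dvd_mul_right (orderOf_dvd_of_pow_eq_one (h12) : _ ∣ 3 * 4)
      by_contra h1
      exact hcon ⟨_, ⟨⟨g, hg⟩, rfl⟩, orderOf_dvd_iff_pow_eq_one.1 h13, h1⟩
    · have hgen : ∀ y z : Q, y * z ≠ z * y → ∀ w : Q,
          w = 1 ∨ w = y ∨ w = z ∨ w = y * z ∨ w = z * y ∨ w = y * y ∨ w = y * y * y ∨ w = z * z * z := by
        decide +kernel
      have hpm : ∀ y z : Q, y * z = z * y → (y ^ 2 = 1 ↔ z ^ 2 = 1) → (y = 1 ↔ z = 1) →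
          z = y ∨ z = y⁻¹ := by
        decide +kernel
      have hz : g * y * g⁻¹ ∈ R := (Subgroup.mem_normalizer_iff.1 hg y).1 hy
      let a : (S : Subgroup G) := ⟨y, hR hy⟩
      let b : (S : Subgroup G) := ⟨g * y * g⁻¹, hR hz⟩
      have hcm : e a * e b = e b * e a := by
        by_contra hne2
        refine hRS (le_antisymm hR fun w hw => ?_)
        have hw2 : ∀ u : (S : Subgroup G), e ⟨w, hw⟩ = e u → (u : G) ∈ R → w ∈ R := fun u hu hu2 => by
          rwa [← show (⟨w, hw⟩ : (S : Subgroup G)) = u from e.injective hu] at hu2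
        rcases hgen _ _ hne2 (e ⟨w, hw⟩) with h | h | h | h | h | h | h | h <;>
          (try simp only [← map_one e, ← map_mul] at h) <;>
          refine hw2 _ h ?_ <;>
          (try simp only [Subgroup.coe_mul, Subgroup.coe_one, a, b]) <;>
          first
            | exact one_mem _
            | exact hy
            | exact hz
            | exact mul_mem hy hz
            | exact mul_mem hz hy
            | exact mul_mem hy hy
            | exact mul_mem (mul_mem hy hy) hy
            | exact mul_mem (mul_mem hz hz) hz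
      have hcase := hpm _ _ hcm
        (by rw [← map_pow, ← map_pow, MulEquiv.map_eq_one_iff, MulEquiv.map_eq_one_iff,
          Subtype.ext_iff, Subtype.ext_iff]; simp [a, b, conj_pow])
        (by rw [MulEquiv.map_eq_one_iff, MulEquiv.map_eq_one_iff, Subtype.ext_iff, Subtype.ext_iff]
            simp [a, b])
      rw [← map_inv] at hcase
      have hg2 : Commute (g ^ 2) y := by
        rcases hcase with h | h <;> have h' : g * y * g⁻¹ = _ := congrArg Subtype.val (e.injective h) <;>
          simp only [Subgroup.coe_inv, a] at h'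
        · exact (show Commute g y from mul_inv_eq_iff_eq_mul.1 h').pow_left 2
        · show g ^ 2 * y = y * g ^ 2
          refine mul_inv_eq_iff_eq_mul.1 ?_
          calc g ^ 2 * y * (g ^ 2)⁻¹ = g * (g * y * g⁻¹) * g⁻¹ := by simp [sq, mul_assoc]
            _ = (g * y * g⁻¹)⁻¹ := by rw [h', inv_inv, ← conj_inv, h', inv_inv]
            _ = y := by rw [h', inv_inv]
      obtain ⟨q, hq⟩ : ∃ q, orderOf g = 2 * q + 1 := ⟨orderOf g / 2, by omega⟩
      have hgg : (g ^ 2) ^ (q + 1) = g := by
        rw [← pow_mul, show 2 * (q + 1) = orderOf g + 1 by omega, pow_succ, pow_orderOf_eq_one,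
          one_mul]
      exact (hgg ▸ hg2.pow_left (q + 1)).eq.symm
  have hgenerator : ∀ C : Subgroup G, C ≤ (S : Subgroup G) → Nat.card C = 4 →
      ∃ c : (S : Subgroup G), (e c) ^ 2 ≠ 1 ∧ C = Subgroup.zpowers (c : G) := by
    intro C hC h4
    obtain ⟨c, hc, hc2⟩ : ∃ c : (S : Subgroup G), (c : G) ∈ C ∧ (e c) ^ 2 ≠ 1 := by
      by_contra hcon2
      have hcnt : (Finset.univ.filter fun w : Q => w ^ 2 = 1).card ≤ 2 := by decide +kernel
      let j : C → {w : Q // w ^ 2 = 1} := fun c => ⟨e ⟨c.1, hC c.2⟩, by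
        by_contra h; exact hcon2 ⟨⟨c.1, hC c.2⟩, c.2, h⟩⟩
      have := Nat.card_le_card_of_injective j fun x y h => Subtype.ext (congrArg Subtype.val
        (e.injective (congrArg Subtype.val h)) :)
      rw [h4, Nat.card_eq_fintype_card, Fintype.card_subtype] at this
      omega
    refine ⟨c, hc2, (Subgroup.eq_of_le_of_card_ge (Subgroup.zpowers_le.2 hc) ?_).symm⟩
    rw [h4, Nat.card_zpowers]
    have h24 : orderOf (c : G) = 2 ^ (1 + 1) := by
      refine orderOf_eq_prime_pow (fun h => hc2 ?_) ?_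
      · rw [pow_one] at h
        rw [← map_pow, show c ^ 2 = 1 from Subtype.ext h, map_one]
      · have hcard : (⟨(c : G), hc⟩ : C) ^ (4 : ℕ) = 1 := h4 ▸ pow_card_eq_one'
        exact congrArg Subtype.val hcard
    rw [h24]; norm_num
  obtain ⟨a, ha2, rfl⟩ := hgenerator A hA hA4
  obtain ⟨b, hb2, rfl⟩ := hgenerator B hB hB4
  obtain ⟨k, -, hk⟩ := (keyσ σ).2 (fun x => by
      rw [← hr, ← hit, h3]; show e (e.symm x) = x; simp)
    (by
      by_contra hall
      push_neg at hall
      refine hne (hrinj _ _ (funext fun x => ?_))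
      rw [hr σ, hall x]; show x = e (e.symm x); simp) (e a) (e b) ha2 hb2
  rw [← hr, ← hit, ← map_inv] at hk
  refine ⟨(g₀ ^ k : Subgroup.normalizer _), SetLike.coe_mem _, ?_⟩
  rw [MonoidHom.map_zpowers]
  generalize hn : g₀ ^ k = n
  have hb : (n : G) * a * (n : G)⁻¹ = b ∨ (n : G) * a * (n : G)⁻¹ = ((b : G))⁻¹ := by
    subst hn
    have hk' : e ((σ ^ k) (e.symm (e a))) = e b ∨ e ((σ ^ k) (e.symm (e a))) = e b⁻¹ := hk
    rw [e.symm_apply_apply, ← hg₀, ← map_pow] at hk'
    rcases hk' with h | h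
    · exact Or.inl (congrArg Subtype.val (e.injective h))
    · exact Or.inr (congrArg Subtype.val (e.injective h) :)
  show _ = Subgroup.zpowers ((n : G) * (a : G) * (n : G)⁻¹)
  rcases hb with h | h
  · rw [h]
  · rw [h, Subgroup.zpowers_inv]

end Cfsg.Agent.S0950
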