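import Cfsg.Statements.S0957


set_option autoImplicit false
open Cfsg

namespace Cfsg.Agent.S0957

/-- Let P be a Sylow p-subgroup of the finite group G, let g, h ∈ G and let p ^ d be the order of a Sylow p-subgroup of the centralizer of g. Then the number of pairs (y, z) with y conjugate to g, z conjugate to h and z * y⁻¹ ∈ P is divisible by the order of P divided by p ^ d. -/
theorem result {G : Type*} [Group G] [Finite G] (p : ℕ) [Fact p.Prime] (P : Sylow p G) (g h : G) (S : Sylow p (Subgroup.centralizer ({g} : Set G))) : Nat.card P / Nat.card S ∣ Nat.card {yz : G × G // IsConj g yz.1 ∧ IsConj h yz.2 ∧ yz.2 * yz.1⁻¹ ∈ (P : Subgroup G)} := by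
  classical
  have := Fintype.ofFinite G
  let X := {yz : G × G // IsConj g yz.1 ∧ IsConj h yz.2 ∧ yz.2 * yz.1⁻¹ ∈ (P : Subgroup G)}
  let act : MulAction (P : Subgroup G) X :=
  { smul := fun a x => ⟨((a : G) * x.1.1 * (a : G)⁻¹, (a : G) * x.1.2 * (a : G)⁻¹),
      x.2.1.trans (isConj_iff.2 ⟨a, rfl⟩), x.2.2.1.trans (isConj_iff.2 ⟨a, rfl⟩), by
        have h3 := mul_mem (mul_mem a.2 x.2.2.2) (inv_mem a.2)
        convert h3 using 1
        group⟩
    one_smul := fun x => by
      apply Subtype.ext
      show (_, _) = x.1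
      simp
    mul_smul := fun a b x => by
      apply Subtype.ext
      refine Prod.ext ?_ ?_ <;>
      · show ((a * b : (P : Subgroup G)) : G) * _ * _ = (a : G) * ((b : G) * _ * _) * _
        simp [mul_assoc] }
  show _ ∣ Nat.card X
  rw [Nat.card_congr (MulAction.selfEquivSigmaOrbits (P : Subgroup G) X), Nat.card_sigma]
  refine Finset.dvd_sum fun o _ => ?_
  generalize o.out = x
  rw [Nat.card_congr (MulAction.orbitEquivQuotientStabilizer (P : Subgroup G) x)]
  let T : Subgroup (P : Subgroup G) := MulAction.stabilizer (P : Subgroup G) x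
  show _ ∣ T.index
  obtain ⟨c, hc⟩ := isConj_iff.1 x.2.1
  have hT : ∀ a : T, c⁻¹ * ((a : (P : Subgroup G)) : G) * c ∈ Subgroup.centralizer ({g} : Set G) := by
    intro a
    have ha := congrArg (fun y : X => y.1.1) a.2
    change ((a : (P : Subgroup G)) : G) * x.1.1 * _⁻¹ = x.1.1 at ha
    rw [← hc] at ha
    rw [Subgroup.mem_centralizer_singleton_iff]
    calc _ = c⁻¹ * (((a : (P : Subgroup G)) : G) * (c * g * c⁻¹) * ((a : (P : Subgroup G)) : G)⁻¹)
          * ((a : (P : Subgroup G)) : G) * c := by group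
      _ = _ := by rw [ha]; group
  let f : T →* Subgroup.centralizer ({g} : Set G) :=
    ((MulAut.conj c⁻¹).toMonoidHom.comp ((P : Subgroup G).subtype.comp T.subtype)).codRestrict _
      fun a => by simpa using hT a
  have hf : Function.Injective f := fun a b hab => by
    have : MulAut.conj c⁻¹ ((a : (P : Subgroup G)) : G)
        = MulAut.conj c⁻¹ ((b : (P : Subgroup G)) : G) := congrArg Subtype.val hab
    exact Subtype.ext (Subtype.ext ((MulAut.conj c⁻¹).injective this))
  obtain ⟨S', hS'⟩ := ((P.2.to_subgroup T).of_surjective f.rangeRestrict f.rangeRestrict_surjective).exists_le_sylow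
  have hdvd : Nat.card T ∣ Nat.card S := by
    rw [Nat.card_congr (MonoidHom.ofInjective hf).toEquiv]
    exact (Subgroup.card_dvd_of_le hS').trans (dvd_of_eq (Sylow.card_eq_multiplicity S'
      |>.trans (Sylow.card_eq_multiplicity S).symm))
  obtain ⟨m, hm⟩ := hdvd
  rcases Nat.eq_zero_or_pos (Nat.card S) with h0 | h0
  · exact absurd h0 Nat.card_pos.ne'
  have hPT : Nat.card (P : Subgroup G) = T.index * Nat.card T := T.index_mul_card.symm
  show Nat.card (P : Subgroup G) / Nat.card S ∣ T.index
  obtain ⟨q, hq⟩ : Nat.card S ∣ Nat.card (P : Subgroup G) := by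
    obtain ⟨Q, hQ⟩ := (S.2.map (Subgroup.centralizer ({g} : Set G)).subtype).exists_le_sylow
    have := Subgroup.card_dvd_of_le hQ
    rw [Subgroup.card_map_of_injective Subtype.val_injective] at this
    exact this.trans (dvd_of_eq ((Sylow.card_eq_multiplicity Q).trans
      (Sylow.card_eq_multiplicity P).symm))
  refine ⟨m, ?_⟩
  rw [hq, Nat.mul_div_cancel_left q h0]
  rw [hm, mul_assoc] at hq
  have : Nat.card T * T.index = Nat.card T * (m * q) := by rw [← hq, hPT, mul_comm]
  rw [Nat.eq_of_mul_eq_mul_left Nat.card_pos this, mul_comm]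

end Cfsg.Agent.S0957
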