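import Cfsg.Statements.S0965
import Cfsg.Agent.Lib.Blocks.Covering

set_option autoImplicit false
open Cfsg

namespace Cfsg.Agent.S0965

/-- Let N be a normal subgroup of the finite group G and let B, b be blocks of G and of N relative to a maximal ideal M of the algebraic integers containing the prime p. Then some χ ∈ B has a constituent in b on restriction to N if and only if, for all χ ∈ B, θ ∈ b and n ∈ N, the central character of χ at n is congruent modulo the local ideal at M to the sum of θ m / θ 1 over the elements m ∈ N conjugate in G to n. -/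
theorem result {G : Type*} [Group G] [Fintype G] (p : ℕ) [Fact p.Prime] (M : Ideal Cfsg.AlgInt) (hM : Cfsg.IsPModular p M) (N : Subgroup G) [N.Normal] [Fintype N] (B : Set (Cfsg.IrrCharacter G)) (hB : Cfsg.IsPBlock M B) (b : Set (Cfsg.IrrCharacter N)) (hb : Cfsg.IsPBlock M b) : (∃ χ ∈ B, ∃ θ ∈ b, Cfsg.classInner (fun n : N => (χ : G → ℂ) n) (θ : N → ℂ) ≠ 0) ↔ ∀ χ ∈ B, ∀ θ ∈ b, ∀ n : N, Cfsg.MemLocalIdeal M (Cfsg.centralChar (χ : G → ℂ) (n : G) - Cfsg.inducedCentralChar N (θ : N → ℂ) (n : G)) := by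
  classical
  haveI := hM.2.1.isPrime
  constructor
  · rintro ⟨χ₀, hχ₀, θ₀, hθ₀, hc⟩ χ hχ θ hθ n
    have e := CfsgLib.Blocks.centralCharBar_eq_iff (M := M) (χ := χ) (ψ := χ₀) (g := (n : G)) (h := (n : G))
    have h1 := (Cfsg.Agent.S0963.result N χ₀ θ₀).1 hc n
    have hsupp : ∀ x, x ∉ N → (CfsgLib.Blocks.classSum (CfsgLib.Blocks.Res M) (n : G)).coeff x = 0 := by
      intro x hx
      rw [CfsgLib.Blocks.coeff_classSum, if_neg]
      intro hcj
      obtain ⟨c, rfl⟩ := isConj_iff.1 hcj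
      exact hx (Subgroup.Normal.conj_mem inferInstance _ n.2 c)
    have h2 : CfsgLib.Blocks.centralCharBar M χ (n : G) = CfsgLib.Blocks.omegaBar θ
        (CfsgLib.Blocks.resElt N (CfsgLib.Blocks.classSum (CfsgLib.Blocks.Res M) (n : G))) := by
      rw [← CfsgLib.Blocks.omegaBar_classSum,
        CfsgLib.Blocks.omegaBar_congr (CfsgLib.Blocks.IsPBlock.sameBlock hB hχ hχ₀),
        CfsgLib.Blocks.omegaBar_eq_omegaBar_resElt N hc
          (CfsgLib.Blocks.isCentralElt_classSum _ _) hsupp,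
        CfsgLib.Blocks.omegaBar_congr (CfsgLib.Blocks.IsPBlock.sameBlock hb hθ₀ hθ)]
    obtain ⟨hmem, hres⟩ := CfsgLib.Blocks.inducedCentralChar_mem_and_residue (M := M) θ (n : G)
    rw [← hres] at h2
    exact CfsgLib.Blocks.residue_eq_iff.1 h2
  · intro h
    obtain ⟨χ, hχ⟩ := CfsgLib.Blocks.IsPBlock.nonempty hB
    obtain ⟨θ, hθ⟩ := CfsgLib.Blocks.IsPBlock.nonempty hb
    obtain ⟨θ', hθ'⟩ := CfsgLib.Blocks.exists_constituent N χ
    obtain ⟨g, hg⟩ := CfsgLib.Blocks.exists_conj_mem_blockOf (M := M) N (θ := θ') (ψ := θ) fun a ha => by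
      have hc := CfsgLib.Blocks.isCentralElt_insideElt N ha
      have hs' := fun x (hx : x ∉ N) => CfsgLib.Blocks.coeff_insideElt_of_notMem N a hx
      rw [← CfsgLib.Blocks.resElt_insideElt N a,
        ← CfsgLib.Blocks.omegaBar_eq_omegaBar_resElt N hθ' hc hs']
      generalize CfsgLib.Blocks.insideElt N a = c at hc hs'
      have hr : CfsgLib.Blocks.resElt N c = ∑ C : ConjClasses G,
          c.coeff (Quotient.out C) • CfsgLib.Blocks.resElt N
            (CfsgLib.Blocks.classSum (CfsgLib.Blocks.Res M) (Quotient.out C)) := by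
        refine MonoidAlgebra.ext (Finsupp.ext fun x => ?_)
        conv_lhs => rw [CfsgLib.Blocks.coeff_resElt, CfsgLib.Blocks.central_eq_sum_classSum hc]
        simp only [MonoidAlgebra.coeff_sum, Finsupp.coe_finsetSum, Finset.sum_apply,
          MonoidAlgebra.coeff_smul, Finsupp.smul_apply, CfsgLib.Blocks.coeff_resElt]
      rw [hr, CfsgLib.Blocks.omegaBar_sum, CfsgLib.Blocks.omegaBar]
      refine Finset.sum_congr rfl fun C _ => ?_
      rw [CfsgLib.Blocks.omegaBar_smul]
      by_cases hC : Quotient.out C ∈ N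
      · congr 1
        obtain ⟨hmem, hres⟩ :=
          CfsgLib.Blocks.inducedCentralChar_mem_and_residue (M := M) θ (Quotient.out C)
        rw [← hres]
        exact CfsgLib.Blocks.residue_eq_iff.2 (h χ hχ θ hθ ⟨_, hC⟩)
      · rw [hs' _ hC, zero_mul, zero_mul]
    refine ⟨χ, hχ, CfsgLib.Blocks.conjIrr N g θ', ?_, by rwa [CfsgLib.Blocks.classInner_conjIrr]⟩
    rw [CfsgLib.Blocks.IsPBlock.eq_blockOf hb hθ]
    exact CfsgLib.Blocks.SameBlock.symm' hg

end Cfsg.Agent.S0965
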