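import Cfsg.Statements.S0970
import Cfsg.Agent.Lib.Blocks.CoveringDefect
import Cfsg.Agent.Lib.Blocks.DefectNumber
import Cfsg.Agent.Lib.Char.CliffordCorr

set_option autoImplicit false
open Cfsg

namespace Cfsg.Agent.S0970

/-- Let N be a normal subgroup of the finite group G and fix a maximal ideal M of the algebraic integers containing the prime p. Let b be a block of N that is invariant under conjugation by G, and B a block of G covering b (some χ ∈ B has a constituent in b) whose defect is at least that of every block covering b. If P is a defect group of B, then p does not divide the index of P ⊔ N, the subgroup P ∩ N of N is a defect group of b, and the defect of B equals the defect of b plus the exponent of p in the index of N. -/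
theorem result {G : Type*} [Group G] [Fintype G] (p : ℕ) [Fact p.Prime] (M : Ideal Cfsg.AlgInt) (hM : Cfsg.IsPModular p M) (N : Subgroup G) [hN : N.Normal] [Fintype N] (b : Set (Cfsg.IrrCharacter N)) (hb : Cfsg.IsPBlock M b) (hinv : ∀ g : G, ∀ θ ∈ b, ∀ θ' : Cfsg.IrrCharacter N, (∀ n : N, (θ' : N → ℂ) n = (θ : N → ℂ) ⟨g * n * g⁻¹, hN.conj_mem n n.2 g⟩) → θ' ∈ b) (B : Set (Cfsg.IrrCharacter G)) (hB : Cfsg.IsPBlock M B) (hcov : ∃ χ ∈ B, ∃ θ ∈ b, Cfsg.classInner (fun n : N => (χ : G → ℂ) n) (θ : N → ℂ) ≠ 0) (hmax : ∀ B' : Set (Cfsg.IrrCharacter G), Cfsg.IsPBlock M B' → (∃ χ ∈ B', ∃ θ ∈ b, Cfsg.classInner (fun n : N => (χ : G → ℂ) n) (θ : N → ℂ) ≠ 0) → Cfsg.blockDefect p B' ≤ Cfsg.blockDefect p B) (P : Subgroup G) (hP : Cfsg.IsDefectGroup p M B P) : ¬ p ∣ (P ⊔ N).index ∧ Cfsg.IsDefectGroup p M b ((P ⊓ N).subgroupOf N) ∧ Cfsg.blockDefect p B = Cfsg.blockDefect p b + N.index.factorization p := by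
  classical
  have : M.IsPrime := hM.2.1.isPrime
  have hst : ∀ g : G, g ∈ CfsgLib.Blocks.blockStab N M hb := fun g => by
    obtain ⟨θ, hθ⟩ := CfsgLib.Blocks.IsPBlock.nonempty hb
    exact CfsgLib.Blocks.IsPBlock.eq_of_mem (CfsgLib.Blocks.isPBlock_image_conjIrr N hb g) hb
      ⟨θ, hθ, rfl⟩ (hinv g θ hθ _ fun n => CfsgLib.Blocks.conjIrr_apply N g θ n)
  have key : ∀ (B' : Set (IrrCharacter G)) (P' : Subgroup G), IsPBlock M B' →
      CfsgLib.Blocks.Covers N B' b → IsDefectGroup p M B' P' →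
      IsDefectGroup p M b ((P' ⊓ N).subgroupOf N) ∧
      blockDefect p B' + (P' ⊔ N).index.factorization p =
        blockDefect p b + N.index.factorization p := by
    intro B' P' hB' hcov' hP'
    obtain ⟨c, hc, -, hcc, hcD⟩ := CfsgLib.Blocks.exists_stable_covered N hM hB' hP'
    obtain ⟨g, hg⟩ := CfsgLib.Blocks.exists_conj_of_covers N hB' hb hc hcov' hcc
    rw [(CfsgLib.Blocks.mem_blockStab N).1 (hst g)] at hg
    subst hg
    refine ⟨hcD, ?_⟩
    have h1 := CfsgLib.Blocks.IsDefectGroup.card_eq hM hB' hP'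
    have h2 : Nat.card ↥(P' ⊓ N) = p ^ blockDefect p c := by
      rw [← CfsgLib.Blocks.IsDefectGroup.card_eq hM hb hcD]
      exact (Nat.card_congr (Subgroup.subgroupOfEquivOfLe inf_le_right).toEquiv).symm
    have h3 : Nat.card ↥(P' ⊓ N) * N.relIndex P' = Nat.card P' := by
      have h4 : Nat.card (N.subgroupOf P') * N.relIndex P' = Nat.card P' :=
        Subgroup.card_mul_index (N.subgroupOf P')
      rw [← Nat.card_congr (Subgroup.subgroupOfEquivOfLe inf_le_left).toEquiv]
      rwa [show (P' ⊓ N).subgroupOf P' = N.subgroupOf P' by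
        ext; simp [Subgroup.mem_subgroupOf]]
    rw [← Subgroup.relIndex_sup_right] at h3
    rw [h1, h2] at h3
    have hr : N.relIndex (P' ⊔ N) ≠ 0 := Subgroup.index_ne_zero_of_finite
    have h5 := congrArg (fun n => n.factorization p) h3
    simp only [Nat.factorization_mul (pow_ne_zero _ (Fact.out : p.Prime).ne_zero) hr,
      Finsupp.add_apply, (Fact.out : p.Prime).factorization_pow, Finsupp.single_eq_same] at h5
    rw [← Subgroup.relIndex_mul_index (le_sup_right : N ≤ P' ⊔ N),
      Nat.factorization_mul hr Subgroup.index_ne_zero_of_finite, Finsupp.add_apply]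
    omega
  obtain ⟨h1, h2⟩ := key B P hB hcov hP
  obtain ⟨B₀, hB₀, hc₀, P₀, hP₀, hd₀⟩ := CfsgLib.Blocks.exists_covering_not_dvd N hM hb hst
  obtain ⟨-, h3⟩ := key B₀ P₀ hB₀ hc₀ hP₀
  rw [Nat.factorization_eq_zero_of_not_dvd hd₀, add_zero] at h3
  have h4 := hmax B₀ hB₀ hc₀
  refine ⟨fun hd => ?_, h1, by omega⟩
  have h5 := (Fact.out : p.Prime).factorization_pos_of_dvd
    (Subgroup.index_ne_zero_of_finite (H := P ⊔ N)) hd
  omega

end Cfsg.Agent.S0970
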