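import Cfsg.Statements.S0971
import Cfsg.Agent.Lib.Blocks.Covering
import Cfsg.Agent.Lib.Blocks.FirstMain

set_option autoImplicit false
open Cfsg

namespace Cfsg.Agent.S0971

/-- Let Q be a normal p-subgroup of the finite group G, let N = Q ⊔ C_G(Q) (a normal subgroup) and let b be a block of N relative to a maximal ideal M of the algebraic integers containing p. Then b induces some block of G, and every block B of G containing a character whose restriction to N has a constituent in b is induced by b. -/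
theorem result {G : Type*} [Group G] [Fintype G] (p : ℕ) [Fact p.Prime] (M : Ideal Cfsg.AlgInt) (hM : Cfsg.IsPModular p M) (Q : Subgroup G) [Q.Normal] (hQ : IsPGroup p Q) [Fintype ↥(Q ⊔ Subgroup.centralizer (Q : Set G))] (b : Set (Cfsg.IrrCharacter ↥(Q ⊔ Subgroup.centralizer (Q : Set G)))) (hb : Cfsg.IsPBlock M b) : Cfsg.InducedBlockDefined M (Q ⊔ Subgroup.centralizer (Q : Set G)) b ∧ ∀ B : Set (Cfsg.IrrCharacter G), Cfsg.IsPBlock M B → (∃ χ ∈ B, ∃ θ ∈ b, Cfsg.classInner (fun n : ↥(Q ⊔ Subgroup.centralizer (Q : Set G)) => (χ : G → ℂ) n) (θ : ↥(Q ⊔ Subgroup.centralizer (Q : Set G)) → ℂ) ≠ 0) → Cfsg.IsInducedBlock M (Q ⊔ Subgroup.centralizer (Q : Set G)) b B := by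
  classical
  haveI := hM.2.1.isPrime
  have hsup : Q ⊔ Subgroup.centralizer (Q : Set G) ≤ Subgroup.normalizer (Q : Set G) := by
    rw [Subgroup.normalizer_eq_top]; exact le_top
  refine ⟨CfsgLib.Blocks.exists_isInducedBlock hM hQ le_sup_left le_sup_right hsup hb, ?_⟩
  rintro B hB ⟨χ, hχ, θ, hθ, hc⟩
  refine CfsgLib.Blocks.isInducedBlock_of_rep hb hB hθ hχ fun a ha => ?_
  have hCn : (Subgroup.centralizer (Q : Set G)).Normal := inferInstance
  have := CfsgLib.Blocks.charP_residueField hM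
  have hin := CfsgLib.Blocks.isCentralElt_insideElt (Q ⊔ Subgroup.centralizer (Q : Set G)) ha
  rw [← CfsgLib.Blocks.resElt_insideElt (Q ⊔ Subgroup.centralizer (Q : Set G)) a, ← CfsgLib.Blocks.omegaBar_eq_omegaBar_resElt (Q ⊔ Subgroup.centralizer (Q : Set G)) hc hin
    (fun x hx => CfsgLib.Blocks.coeff_insideElt_of_notMem (Q ⊔ Subgroup.centralizer (Q : Set G)) a hx)]
  have hd : CfsgLib.Blocks.IsCentralElt (a - CfsgLib.Blocks.insideElt (Q ⊔ Subgroup.centralizer (Q : Set G)) a) := ha.sub hin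
  obtain ⟨n, hn⟩ := CfsgLib.Blocks.isNilpotent_of_vanish_centralizer hQ hd fun c hc => by
    have : c ∈ (Q ⊔ Subgroup.centralizer (Q : Set G)) := (le_sup_right : Subgroup.centralizer (Q : Set G) ≤ (Q ⊔ Subgroup.centralizer (Q : Set G))) hc
    simp [CfsgLib.Blocks.insideElt, this]
  have h0 := congrArg (CfsgLib.Blocks.omegaBar χ) hn
  rw [CfsgLib.Blocks.omegaBar_pow χ hd, CfsgLib.Blocks.omegaBar_zero] at h0
  have h1 := (pow_eq_zero_iff (fun e => by simp [e] at h0)).1 h0
  rw [CfsgLib.Blocks.omegaBar_sub, sub_eq_zero] at h1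
  exact h1.symm

end Cfsg.Agent.S0971
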