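import Cfsg.Statements.S0972
import Cfsg.Agent.S0887
import Cfsg.Agent.S0971
import Cfsg.Agent.Lib.Blocks.CentralizerDegrees
import Cfsg.Agent.Lib.Blocks.ExtendedFirst

set_option autoImplicit false
open Cfsg

namespace Cfsg.Agent.S0972

/-- Let B be a block of the finite group G (relative to a maximal ideal M of the algebraic integers containing the prime p) with a defect group P that is normal in G. Then P is commutative if and only if every member of B has height zero. -/
theorem result {G : Type*} [Group G] [Finite G] (p : ℕ) [Fact p.Prime] (M : Ideal Cfsg.AlgInt) (hM : Cfsg.IsPModular p M) (B : Set (Cfsg.IrrCharacter G)) (hB : Cfsg.IsPBlock M B) (P : Subgroup G) [P.Normal] (hP : Cfsg.IsDefectGroup p M B P) : (∀ a ∈ P, ∀ c ∈ P, a * c = c * a) ↔ ∀ χ ∈ B, Cfsg.blockHeight p B (χ : G → ℂ) = 0 := by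
  classical
  haveI := hM.2.1.isPrime
  have := Fintype.ofFinite G
  have hp : p.Prime := Fact.out
  have hPp := CfsgLib.Blocks.IsDefectGroup.isPGroup hP
  have : (P ⊔ Subgroup.centralizer (P : Set G)).Normal := Subgroup.sup_normal _ _
  have := Fintype.ofFinite ↥(P ⊔ Subgroup.centralizer (P : Set G))
  have := Fintype.ofFinite ↥(P.subgroupOf (P ⊔ Subgroup.centralizer (P : Set G)))
  have hPL : P ≤ P ⊔ Subgroup.centralizer (P : Set G) := le_sup_left
  have hCL : Subgroup.centralizer (P : Set G) ≤ P ⊔ Subgroup.centralizer (P : Set G) := le_sup_right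
  have hLN : P ⊔ Subgroup.centralizer (P : Set G) ≤ Subgroup.normalizer (P : Set G) := by
    rw [Subgroup.normalizer_eq_top]; exact le_top
  have hP'p : IsPGroup p ↥(P.subgroupOf (P ⊔ Subgroup.centralizer (P : Set G))) :=
    hPp.comap_of_injective _ (Subgroup.subtype_injective _)
  have hL : P.subgroupOf (P ⊔ Subgroup.centralizer (P : Set G)) ⊔ Subgroup.centralizer
      (P.subgroupOf (P ⊔ Subgroup.centralizer (P : Set G)) : Set ↥(P ⊔ Subgroup.centralizer (P : Set G))) = ⊤ := by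
    rw [eq_top_iff, ← Subgroup.subgroupOf_self (H := P ⊔ Subgroup.centralizer (P : Set G)),
      Subgroup.subgroupOf_sup hPL hCL]
    refine sup_le_sup_left ?_ _
    intro c hc
    exact Subgroup.mem_centralizer_iff.2 fun u hu =>
      Subtype.ext (Subgroup.mem_centralizer_iff.1 hc u hu)
  have hidx : ∀ (H : Subgroup G), Nat.card H = Nat.card P →
      H.index.factorization p = P.index.factorization p := fun H hH => by
    have h1 := CfsgLib.Blocks.factorization_card_eq_index_add (p := p) hM (G := G) P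
    have h2 := CfsgLib.Blocks.factorization_card_eq_index_add (p := p) hM (G := G) H
    rw [hH] at h2
    omega
  have hheight : ∀ χ ∈ B, Cfsg.blockHeight p B (χ : G → ℂ) = 0 ↔
      (Cfsg.charDegree (χ : G → ℂ)).factorization p ≤ P.index.factorization p := by
    obtain ⟨g, hg, hle, hs⟩ := CfsgLib.Blocks.isDefectGroup_iff.1 hP
    intro χ hχ
    have he : (Subgroup.centralizer ({g} : Set G)).index.factorization p = P.index.factorization p := by
      have h1 := CfsgLib.Blocks.factorization_card_eq_index_add (p := p) hM (G := G) P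
      have h2 := CfsgLib.Blocks.factorization_card_eq_index_add (p := p) hM (G := G)
        (Subgroup.centralizer ({g} : Set G))
      rw [show (Nat.card P).factorization p =
          (Nat.card (Subgroup.centralizer ({g} : Set G))).factorization p by
        rw [(CfsgLib.Fusion.isSylowIn_iff_card hle).1 hs]; simp [hp.factorization_self]] at h1
      omega
    have h3 := CfsgLib.Blocks.IsDefectClass.index_le hM hg hχ
    rw [he] at h3
    rw [CfsgLib.Blocks.blockHeight_eq_zero_iff hM hB hg hχ, he]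
    omega
  have hcover : ∀ (χ : Cfsg.IrrCharacter G) (θ : Cfsg.IrrCharacter ↥(P ⊔ Subgroup.centralizer (P : Set G))),
      Cfsg.classInner (fun n : ↥(P ⊔ Subgroup.centralizer (P : Set G)) => (χ : G → ℂ) n)
        (θ : ↥(P ⊔ Subgroup.centralizer (P : Set G)) → ℂ) ≠ 0 →
      Cfsg.IsInducedBlock M (P ⊔ Subgroup.centralizer (P : Set G))
        (Cfsg.blockOf M (θ : ↥(P ⊔ Subgroup.centralizer (P : Set G)) → ℂ))
        (Cfsg.blockOf M (χ : G → ℂ)) := fun χ θ h =>
    (Cfsg.Agent.S0971.result p M hM P hPp _ (CfsgLib.Blocks.isPBlock_blockOf θ)).2 _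
      (CfsgLib.Blocks.isPBlock_blockOf χ)
      ⟨χ, CfsgLib.Blocks.mem_blockOf_self χ, θ, CfsgLib.Blocks.mem_blockOf_self θ, h⟩
  constructor
  · intro hab χ hχ
    obtain ⟨θ, hθ⟩ := CfsgLib.Blocks.exists_constituent (P ⊔ Subgroup.centralizer (P : Set G)) χ
    have hind := hcover χ θ hθ
    rw [← CfsgLib.Blocks.IsPBlock.eq_blockOf hB hχ] at hind
    have hbD := CfsgLib.Blocks.isDefectGroup_of_induced_le hM hPL hLN hind hP
    have hb := hind.1
    obtain ⟨θ₀, hθ₀, hθ₀P, hdeg⟩ := CfsgLib.Blocks.exists_canonical hL hP'p hM hb hbD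
    obtain ⟨ψ, hψ⟩ := CfsgLib.Blocks.exists_constituent
      (P.subgroupOf (P ⊔ Subgroup.centralizer (P : Set G))) θ
    have hd := CfsgLib.Blocks.charDegree_eq_mul hL hP'p hM hb hbD hθ₀ hθ₀P
      (CfsgLib.Blocks.mem_blockOf_self θ) hψ
    rw [CfsgLib.CharDegree.charDegree_of_comm (fun a c => Subtype.ext (Subtype.ext
      (hab _ a.2 _ c.2))) ψ, mul_one] at hd
    rw [hheight χ hχ]
    obtain ⟨hdvd, hdiv⟩ := Cfsg.Agent.S0887.result (P ⊔ Subgroup.centralizer (P : Set G))
      (χ : G → ℂ) χ.2 (θ : ↥(P ⊔ Subgroup.centralizer (P : Set G)) → ℂ) θ.2 hθ _ _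
      (CfsgLib.Blocks.apply_one_eq_charDegree χ) (CfsgLib.Blocks.apply_one_eq_charDegree θ)
    obtain ⟨q, hq⟩ := hdvd
    rw [hq, Nat.mul_div_cancel_left _ (CfsgLib.Blocks.charDegree_pos θ)] at hdiv
    have hq0 : q ≠ 0 := fun e => (CfsgLib.Blocks.charDegree_pos χ).ne' (by rw [hq, e, mul_zero])
    rw [hq, Nat.factorization_mul (CfsgLib.Blocks.charDegree_pos θ).ne' hq0, Finsupp.add_apply,
      ← Subgroup.relIndex_mul_index hPL, Subgroup.relIndex, Nat.factorization_mul Subgroup.index_ne_zero_of_finite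
        Subgroup.index_ne_zero_of_finite, Finsupp.add_apply, hd, hdeg]
    exact Nat.add_le_add le_rfl
      ((Nat.factorization_le_iff_dvd hq0 Subgroup.index_ne_zero_of_finite).2 hdiv p)
  · intro h0
    by_contra hnab
    obtain ⟨χ₀, hχ₀⟩ := CfsgLib.Blocks.IsPBlock.nonempty hB
    obtain ⟨θ, hθ⟩ := CfsgLib.Blocks.exists_constituent (P ⊔ Subgroup.centralizer (P : Set G)) χ₀
    have hind := hcover χ₀ θ hθ
    rw [← CfsgLib.Blocks.IsPBlock.eq_blockOf hB hχ₀] at hind
    have hbD := CfsgLib.Blocks.isDefectGroup_of_induced_le hM hPL hLN hind hP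
    have hb := hind.1
    obtain ⟨θ₀, hθ₀, hθ₀P, hdeg⟩ := CfsgLib.Blocks.exists_canonical hL hP'p hM hb hbD
    obtain ⟨ψ, hψ⟩ := CfsgLib.Blocks.exists_charDegree_ne_one
      (K := ↥(P.subgroupOf (P ⊔ Subgroup.centralizer (P : Set G)))) fun hc => hnab fun a ha c hc' =>
        congrArg (fun z : ↥(P.subgroupOf (P ⊔ Subgroup.centralizer (P : Set G))) =>
            ((z : ↥(P ⊔ Subgroup.centralizer (P : Set G))) : G))
          (hc ⟨⟨a, hPL ha⟩, ha⟩ ⟨⟨c, hPL hc'⟩, hc'⟩)
    obtain ⟨θ₁, hθ₁, hd₁⟩ := CfsgLib.Blocks.exists_charDegree_eq_mul hL hP'p hM hb hbD hθ₀ hθ₀P ψ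
    obtain ⟨χ, hχc⟩ := CfsgLib.Blocks.exists_irr_over (P ⊔ Subgroup.centralizer (P : Set G)) θ₁
    have hind' := hcover χ θ₁ hχc
    rw [← CfsgLib.Blocks.IsPBlock.eq_blockOf hb hθ₁] at hind'
    have hχB : χ ∈ B := by
      rw [CfsgLib.Blocks.IsInducedBlock.eq hind hind']
      exact CfsgLib.Blocks.mem_blockOf_self χ
    obtain ⟨ξ, hξ, hξ0, n, hn, hpn⟩ :=
      CfsgLib.Blocks.exists_height_zero_constituent hM hind hχB (h0 χ hχB)
    have hN : (P ⊔ Subgroup.centralizer (P : Set G)).Normal := inferInstance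
    obtain ⟨g, hg⟩ : ∃ g, CfsgLib.Clifford.conjFn hN
        (θ₁ : ↥(P ⊔ Subgroup.centralizer (P : Set G)) → ℂ) g =
          (ξ : ↥(P ⊔ Subgroup.centralizer (P : Set G)) → ℂ) := by
      by_contra hno
      push Not at hno
      have h := CfsgLib.Clifford.restrict_eq_smul_orbit_sum hN χ.2 θ₁.2 hχc
      rw [h, CfsgLib.Char.classInner_smul_left, CfsgLib.Char.classInner_sum_left,
        Finset.sum_eq_zero fun φ hφ => ?_, mul_zero] at hn
      · exact hpn (by rw [Nat.cast_eq_zero.1 hn.symm]; exact dvd_zero p)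
      · obtain ⟨g, -, rfl⟩ := Finset.mem_image.1 hφ
        exact CfsgLib.Char.classInner_irr_of_ne
          (χ := ⟨_, CfsgLib.Clifford.isIrrCharacter_conjFn hN θ₁.2 g⟩) (ψ := ξ)
          fun e => hno g (congrArg Subtype.val e)
    have hdeq : Cfsg.charDegree (ξ : ↥(P ⊔ Subgroup.centralizer (P : Set G)) → ℂ) =
        Cfsg.charDegree (θ₁ : ↥(P ⊔ Subgroup.centralizer (P : Set G)) → ℂ) := by
      refine CfsgLib.Blocks.charDegree_eq ?_
      rw [← hg, ← CfsgLib.Blocks.apply_one_eq_charDegree θ₁, CfsgLib.Clifford.conjFn_apply]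
      exact congrArg _ (Subtype.ext (by simp))
    have hle := (CfsgLib.Blocks.blockHeight_eq_zero_iff_minExp hξ).1 hξ0
    have hmin := CfsgLib.Blocks.minExp_le (p := p) hθ₀
    rw [hdeq, hd₁, Nat.factorization_mul (CfsgLib.Blocks.charDegree_pos θ₀).ne'
      (CfsgLib.Blocks.charDegree_pos ψ).ne', Finsupp.add_apply] at hle
    have hψp : 0 < (Cfsg.charDegree
        (ψ : ↥(P.subgroupOf (P ⊔ Subgroup.centralizer (P : Set G))) → ℂ)).factorization p := by
      obtain ⟨j, hj⟩ := IsPGroup.iff_card.1 hP'p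
      obtain ⟨i, -, hi⟩ := (Nat.dvd_prime_pow hp).1 (hj ▸ CfsgLib.Blocks.charDegree_dvd_card ψ)
      rw [hi, Nat.factorization_pow, Finsupp.smul_apply, hp.factorization_self, smul_eq_mul, mul_one]
      exact Nat.pos_of_ne_zero fun h => hψ (by rw [hi, h, pow_zero])
    omega

end Cfsg.Agent.S0972
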