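import Cfsg.Statements.S0973
import Cfsg.Agent.Lib.Blocks.ExtendedFirst

set_option autoImplicit false
open Cfsg

namespace Cfsg.Agent.S0973

/-- Let B be a block of the finite group G with defect group P (relative to a maximal ideal M of the algebraic integers containing p), and let L = P ⊔ C_G(P). Then (i) some block b of L with defect group P (viewed in L) induces B, and (ii) if b and b' are blocks of L both inducing B, there is n ∈ N_G(P) carrying b to b': for every θ ∈ b there is θ' ∈ b' with θ' x = θ (n x n⁻¹) for all x ∈ L. -/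
theorem result {G : Type*} [Group G] [Finite G] (p : ℕ) [Fact p.Prime] (M : Ideal Cfsg.AlgInt) (hM : Cfsg.IsPModular p M) (B : Set (Cfsg.IrrCharacter G)) (hB : Cfsg.IsPBlock M B) (P : Subgroup G) (hP : Cfsg.IsDefectGroup p M B P) : (∃ b : Set (Cfsg.IrrCharacter ↥(P ⊔ Subgroup.centralizer (P : Set G))), Cfsg.IsDefectGroup p M b (P.subgroupOf (P ⊔ Subgroup.centralizer (P : Set G))) ∧ Cfsg.IsInducedBlock M (P ⊔ Subgroup.centralizer (P : Set G)) b B) ∧ ∀ b b' : Set (Cfsg.IrrCharacter ↥(P ⊔ Subgroup.centralizer (P : Set G))), Cfsg.IsInducedBlock M (P ⊔ Subgroup.centralizer (P : Set G)) b B → Cfsg.IsInducedBlock M (P ⊔ Subgroup.centralizer (P : Set G)) b' B → ∃ n ∈ Subgroup.normalizer (P : Set G), ∀ θ ∈ b, ∃ θ' ∈ b', ∀ x : ↥(P ⊔ Subgroup.centralizer (P : Set G)), ∀ hx : n * (x : G) * n⁻¹ ∈ P ⊔ Subgroup.centralizer (P : Set G), (θ' : ↥(P ⊔ Subgroup.centralizer (P : Set G)) → ℂ) x = (θ : ↥(P ⊔ Subgroup.centralizer (P : Set G)) → ℂ) ⟨n * (x :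 G) * n⁻¹, hx⟩ := by
  classical
  haveI := hM.2.1.isPrime
  have := Fintype.ofFinite G
  have hPp := CfsgLib.Blocks.IsDefectGroup.isPGroup hP
  have hPL : P ≤ P ⊔ Subgroup.centralizer (P : Set G) := le_sup_left
  have hCL : Subgroup.centralizer (P : Set G) ≤ P ⊔ Subgroup.centralizer (P : Set G) := le_sup_right
  have hLN : P ⊔ Subgroup.centralizer (P : Set G) ≤ Subgroup.normalizer (P : Set G) :=
    sup_le Subgroup.le_normalizer (CfsgLib.Blocks.centralizer_le_normalizer' P)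
  refine ⟨?_, ?_⟩
  · obtain ⟨b, hb⟩ := (CfsgLib.Blocks.exists_inducing_iff_subConj hM hPp hPL hCL hLN hB hP).2
      (CfsgLib.Blocks.SubConj.of_le le_rfl)
    exact ⟨b, CfsgLib.Blocks.isDefectGroup_of_induced_le hM hPL hLN hb hP, hb⟩
  intro b b' hb hb'
  have hnorm : ((P ⊔ Subgroup.centralizer (P : Set G)).subgroupOf
      (Subgroup.normalizer (P : Set G))).Normal := by
    rw [Subgroup.subgroupOf_sup Subgroup.le_normalizer (CfsgLib.Blocks.centralizer_le_normalizer' P)]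
    have h1 := CfsgLib.Blocks.normal_subgroupOf_normalizer P
    have h2 : ((Subgroup.centralizer (P : Set G)).subgroupOf
        (Subgroup.normalizer (P : Set G))).Normal := by
      refine ⟨fun c hc g => ?_⟩
      rw [Subgroup.mem_subgroupOf, Subgroup.mem_centralizer_iff] at hc ⊢
      intro u hu
      have h3 := hc _ ((Subgroup.mem_normalizer_iff''.1 g.2 u).1 hu)
      show u * ((g : G) * c * (g : G)⁻¹) = (g : G) * c * (g : G)⁻¹ * u
      calc u * ((g : G) * c * (g : G)⁻¹) = g * ((g : G)⁻¹ * u * g * c) * (g : G)⁻¹ := by group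
        _ = g * (c * ((g : G)⁻¹ * u * g)) * (g : G)⁻¹ := by rw [h3]
        _ = g * c * (g : G)⁻¹ * u := by group
    exact Subgroup.sup_normal _ _
  obtain ⟨θ, hθ⟩ := CfsgLib.Blocks.IsPBlock.nonempty hb.1
  obtain ⟨θ', hθ'⟩ := CfsgLib.Blocks.IsPBlock.nonempty hb'.1
  obtain ⟨χ, hχ, hi⟩ := CfsgLib.Blocks.exists_cover_normalizer hM hPp hPL hCL hLN hb hθ
  obtain ⟨χ', hχ', hi'⟩ := CfsgLib.Blocks.exists_cover_normalizer hM hPp hPL hCL hLN hb' hθ'
  have heq := CfsgLib.Blocks.eq_of_isInducedBlock_normalizer hM hPp hi hi'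
    (CfsgLib.Blocks.isDefectGroup_normalizer_of_induced hM hPp hi hP)
    (CfsgLib.Blocks.isDefectGroup_normalizer_of_induced hM hPp hi' hP)
  have hs : SameBlock M (χ : Subgroup.normalizer (P : Set G) → ℂ)
      (χ' : Subgroup.normalizer (P : Set G) → ℂ) := by
    have h := CfsgLib.Blocks.mem_blockOf_self (M := M) χ'
    rw [← heq] at h
    exact h
  obtain ⟨n, hn⟩ := CfsgLib.Blocks.exists_conj_of_sameBlock _ hs hχ hχ'
  let e := Subgroup.subgroupOfEquivOfLe hLN
  let c : ↥(P ⊔ Subgroup.centralizer (P : Set G)) ≃* ↥(P ⊔ Subgroup.centralizer (P : Set G)) :=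
    e.symm.trans ((MulAut.conjNormal n).trans e)
  have hc : ∀ x, (c x : G) = (n : G) * (x : G) * (n : G)⁻¹ := fun x => rfl
  have hbb : b' = CfsgLib.Blocks.pullEquiv c '' b := by
    rw [CfsgLib.Blocks.IsPBlock.eq_blockOf hb.1 hθ, CfsgLib.Blocks.image_pullEquiv_blockOf]
    have h := Set.mem_image_of_mem (CfsgLib.Blocks.pullEquiv e.symm) hn
    rw [CfsgLib.Blocks.image_pullEquiv_blockOf] at h
    refine CfsgLib.Blocks.IsPBlock.eq_of_mem hb'.1 (CfsgLib.Blocks.isPBlock_blockOf _) hθ' ?_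
    have e1 : CfsgLib.Blocks.pullEquiv e.symm (CfsgLib.Blocks.pullEquiv e θ') = θ' :=
      Subtype.ext (funext fun x => by simp)
    have e2 : CfsgLib.Blocks.pullEquiv e.symm (CfsgLib.Blocks.conjIrr _ n
        (CfsgLib.Blocks.pullEquiv e θ)) = CfsgLib.Blocks.pullEquiv c θ :=
      Subtype.ext (funext fun x => rfl)
    rw [e1, e2] at h
    exact h
  refine ⟨n, n.2, fun η hη => ⟨CfsgLib.Blocks.pullEquiv c η, hbb ▸ ⟨η, hη, rfl⟩, fun x hx => ?_⟩⟩
  exact congrArg (η : ↥(P ⊔ Subgroup.centralizer (P : Set G)) → ℂ) (Subtype.ext (hc x))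

end Cfsg.Agent.S0973
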