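import Cfsg.Statements.S0975
import Cfsg.Agent.Lib.Perm.DihedralNormalizer
import Mathlib.Tactic

set_option autoImplicit false
open Cfsg

namespace Cfsg.Agent.S0975

/-- No finite simple group has order 3744 = 2^5 * 3^2 * 13. -/
theorem result {G : Type*} [Group G] [Finite G] [IsSimpleGroup G] : Nat.card G ≠ 3744 := by
  intro h
  have : Fact (Nat.Prime 13) := ⟨by norm_num⟩
  have h' : Nat.card G = 13 ^ 1 * 288 := by rw [h]; norm_num
  obtain ⟨h1, h2, h3⟩ := CfsgLib.Perm.card_sylow_mem (q := 2) h' one_ne_zero Nat.prime_two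
    (by norm_num) (by norm_num)
  have hn : Nat.card (Sylow 13 G) = 144 := by
    have hmem := Nat.mem_divisors.2 ⟨h1, by norm_num⟩
    rw [show (288 : ℕ).divisors = ({1, 2, 3, 4, 6, 8, 9, 12, 16, 18, 24, 32, 36, 48, 72, 96, 144, 288} : Finset ℕ) from by decide +kernel] at hmem
    simp only [Finset.mem_insert, Finset.mem_singleton] at hmem
    omega
  obtain ⟨P⟩ := (inferInstance : Nonempty (Sylow 13 G))
  have hP : Nat.card (P : Subgroup G) = 13 := by
    rw [CfsgLib.Perm.sylow_card_eq P h' (by norm_num), pow_one]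
  have hN := CfsgLib.Perm.card_normalizer_mul_card_sylow P
  rw [hn, h] at hN
  obtain ⟨x, v, u, -, hx1, hx2, hd1, hd2, hm, -⟩ :=
    CfsgLib.Perm.exists_degree_of_card_normalizer_two_mul (by norm_num) P hP
      (CfsgLib.Perm.not_isPGroup_of_dvd Nat.prime_two (by norm_num) (by rw [h]; norm_num)) (by omega)
  rw [h] at hd1 hd2
  have key : ∀ d ∈ (3744 : ℕ).divisors, (d % 13 = 1 → d = 1 ∨ (¬(d + 1 ∣ 3744))) ∧
      (d % 13 = 13 - 1 → d = 1 ∨ (¬(d - 1 ∣ 3744))) := by decide +kernel
  obtain ⟨k1, k2⟩ := key x.natAbs (Nat.mem_divisors.2 ⟨hd1, by norm_num⟩)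
  rcases Int.natAbs_eq x with e | e
  · rcases k1 (by omega) with hh | hh
    · omega
    · exact hh (by rwa [show x.natAbs + 1 = (x + 1).natAbs by omega])
  · rcases k2 (by omega) with hh | hh
    · omega
    · exact hh (by rwa [show x.natAbs - 1 = (x + 1).natAbs by omega])

end Cfsg.Agent.S0975
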