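import Cfsg.Statements.S0976
import Cfsg.Agent.Lib.Perm.SylowFixed
import Cfsg.Agent.Lib.Perm.SylowTransfer
import Cfsg.Agent.Lib.Perm.DihedralNormalizer
import Mathlib.GroupTheory.PGroup
import Mathlib.GroupTheory.SpecificGroups.Cyclic
import Mathlib.Tactic

set_option autoImplicit false
open Cfsg

namespace Cfsg.Agent.S0976

/-- No finite simple group has order 4032 = 2^6 * 3^2 * 7. -/
theorem result {G : Type*} [Group G] [Finite G] [IsSimpleGroup G] : Nat.card G ≠ 4032 := by
  intro h
  classical
  have : Fact (Nat.Prime 7) := ⟨by norm_num⟩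
  have : Fact (Nat.Prime 3) := ⟨Nat.prime_three⟩
  have : Fact (Nat.Prime 2) := ⟨Nat.prime_two⟩
  have h' : Nat.card G = 7 ^ 1 * 576 := by rw [h]; norm_num
  have hG : ¬ IsMulCommutative G := CfsgLib.Perm.not_comm_of_not_prime (by rw [h]; norm_num)
  have hne : ¬ IsPGroup 7 G :=
    CfsgLib.Perm.not_isPGroup_of_dvd Nat.prime_two (by norm_num) (by rw [h]; norm_num)
  obtain ⟨h1, h2, h3⟩ := CfsgLib.Perm.card_sylow_mem (q := 2) h' one_ne_zero Nat.prime_two
    (by norm_num) (by norm_num)
  have hall : ∀ R : Sylow 7 G, Nat.card (R : Subgroup G) = 7 := fun R => by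
    rw [CfsgLib.Perm.sylow_card_eq R h' (by norm_num), pow_one]
  have hn : Nat.card (Sylow 7 G) = 8 ∨ Nat.card (Sylow 7 G) = 36 ∨ Nat.card (Sylow 7 G) = 64 ∨
      Nat.card (Sylow 7 G) = 288 := by
    have hmem := Nat.mem_divisors.2 ⟨h1, by norm_num⟩
    rw [show (576 : ℕ).divisors = ({1, 2, 3, 4, 6, 8, 9, 12, 16, 18, 24, 32, 36, 48, 64, 72, 96, 144, 192, 288, 576} : Finset ℕ) from by decide +kernel] at hmem
    simp only [Finset.mem_insert, Finset.mem_singleton] at hmem
    omega
  obtain ⟨P⟩ := (inferInstance : Nonempty (Sylow 7 G))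
  have hN := CfsgLib.Perm.card_normalizer_mul_card_sylow P
  set N := Subgroup.normalizer ((P : Subgroup G) : Set G) with hNdef
  set C := Subgroup.centralizer ((P : Subgroup G) : Set G) with hCdef
  have hCN : C ≤ N := Subgroup.centralizer_le_normalizer _
  have hPC : (P : Subgroup G) ≤ C := by
    have hcyc : IsCyclic (P : Subgroup G) := isCyclic_of_prime_card (hall P)
    intro x hx
    rw [hCdef, Subgroup.mem_centralizer_iff]
    intro y hy
    exact congrArg Subtype.val
      ((IsCyclic.commGroup (α := (P : Subgroup G))).mul_comm ⟨y, hy⟩ ⟨x, hx⟩)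
  have hCcard : ∀ {a : ℕ}, Nat.card N = 7 * a → ∃ r, r ∣ a ∧ r ∣ 6 ∧ r ≠ 1 ∧ r * Nat.card C = 7 * a := by
    intro a ha
    refine ⟨C.relIndex N, CfsgLib.Perm.relIndex_centralizer_dvd_div _ (hall P) ha,
      CfsgLib.Perm.relIndex_centralizer_dvd_sub_one _ (hall P), fun e => ?_, ?_⟩
    · rw [Subgroup.relIndex_eq_one] at e
      exact CfsgLib.Perm.not_normalizer_le_centralizer P (by rw [h]; norm_num) hne e
    · have h := Subgroup.index_mul_card (C.subgroupOf N)
      rw [Nat.card_congr (Subgroup.subgroupOfEquivOfLe hCN).toEquiv, ha] at h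
      exact h
  obtain ⟨y, hy⟩ := exists_prime_orderOf_dvd_card' (G := (P : Subgroup G)) 7 (by rw [hall])
  rcases hn with hn | hn | hn | hn <;> rw [hn, h] at hN
  · obtain ⟨r, hr1, hr2, -, hr⟩ := hCcard (a := 72) (by omega)
    have hr6 : r ≤ 6 := Nat.le_of_dvd (by norm_num) hr2
    have h2C : 2 ∣ Nat.card C := by
      interval_cases r <;> omega
    obtain ⟨z, hz⟩ := exists_prime_orderOf_dvd_card' (G := C) 2 h2C
    have hidx : N.index = 8 := by
      have := Subgroup.card_mul_index N
      rw [h, show Nat.card N = 504 by omega] at this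
      omega
    exact CfsgLib.Perm.false_of_small_index hG (by norm_num : (7 : ℕ) ≠ 2) N
      (fun e => by rw [e, Subgroup.index_top] at hidx; omega) (by omega) (by omega)
      (y := (y : G)) (z := (z : G)) (by rw [Subgroup.orderOf_coe, hy]) (Subgroup.le_normalizer y.2)
      (by rw [Subgroup.orderOf_coe, hz]) (hCN z.2) ((Subgroup.mem_centralizer_iff.1 z.2) y y.2).symm
  · obtain ⟨r, hr1, hr2, hr3, hr⟩ := hCcard (a := 16) (by omega)
    have hr6 : r ≤ 6 := Nat.le_of_dvd (by norm_num) hr2
    have hC : Nat.card C = 56 := by interval_cases r <;> omega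
    obtain ⟨Q⟩ := (inferInstance : Nonempty (Sylow 2 C))
    have hQ : Nat.card (Q : Subgroup C) = 2 ^ 3 := CfsgLib.Perm.sylow_card_eq Q (m := 7)
      (by rw [hC]; norm_num) (by norm_num)
    have hQne : Nontrivial (Q : Subgroup C) := Finite.one_lt_card_iff_nontrivial.1 (by rw [hQ]; norm_num)
    have := Q.isPGroup'.center_nontrivial
    obtain ⟨z0, hz0⟩ := exists_prime_orderOf_dvd_card' (G := Subgroup.center (Q : Subgroup C)) 2 (by
      obtain ⟨n, hn⟩ := (Q.isPGroup'.to_subgroup (Subgroup.center _)).exists_card_eq
      rcases n with _ | n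
      · have := Finite.one_lt_card (α := Subgroup.center (Q : Subgroup C))
        rw [hn, pow_zero] at this
        omega
      · rw [hn]; exact dvd_pow_self 2 (Nat.succ_ne_zero n))
    set z : (Q : Subgroup C) := z0.1 with hzdef
    set z' : G := ((z : C) : G) with hz'def
    have hzo : orderOf z' = 2 := by
      rw [hz'def, Subgroup.orderOf_coe, Subgroup.orderOf_coe, hzdef, Subgroup.orderOf_coe, hz0]
    have hd7 : 7 ∣ Nat.card ↥(C ⊓ Subgroup.centralizer ({z'} : Set G)) := by
      refine hall P ▸ Subgroup.card_dvd_of_le (le_inf hPC fun x hx => ?_)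
      rw [Subgroup.mem_centralizer_singleton_iff]
      exact (Subgroup.mem_centralizer_iff.1 (z : C).2) x hx
    have hd8 : 8 ∣ Nat.card ↥(C ⊓ Subgroup.centralizer ({z'} : Set G)) := by
      have hle : (Q : Subgroup C).map C.subtype ≤ C ⊓ Subgroup.centralizer ({z'} : Set G) := by
        rintro _ ⟨x, hx, rfl⟩
        refine ⟨x.2, ?_⟩
        show (x : G) ∈ Subgroup.centralizer ({z'} : Set G)
        rw [Subgroup.mem_centralizer_singleton_iff]
        exact congrArg (fun k : (Q : Subgroup C) => ((k : C) : G))
          ((Subgroup.mem_center_iff.1 z0.2) ⟨x, hx⟩)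
      refine dvd_trans ?_ (Subgroup.card_dvd_of_le hle)
      rw [← Nat.card_congr ((Q : Subgroup C).equivMapOfInjective C.subtype C.subtype_injective).toEquiv, hQ]
      norm_num
    exact CfsgLib.Perm.false_of_involution_centralizing hG (by norm_num : (7 : ℕ) ≠ 2) P (hall P) hall hzo
      (z : C).2 (b := 8) (c := 56)
      (fun F hF1 hF2 hF3 => by rw [hn] at hF1 hF3 ⊢; omega)
      (Nat.Coprime.mul_dvd_of_dvd_of_dvd (m := 7) (n := 8) (by norm_num) hd7 hd8)
      (fun m hm => by rw [h] at hm; omega)
  · -- an element of order three centralising `P`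
    obtain ⟨r, hr1, hr2, hr3, hr⟩ := hCcard (a := 9) (by omega)
    have hr6 : r ≤ 6 := Nat.le_of_dvd (by norm_num) hr2
    have hC : Nat.card C = 21 := by interval_cases r <;> omega
    obtain ⟨t', ht'⟩ := exists_prime_orderOf_dvd_card' (G := C) 3 (by rw [hC]; norm_num)
    set t : G := (t' : G) with htdef
    have hto : orderOf t = 3 := by rw [htdef, Subgroup.orderOf_coe, ht']
    have hty : t * y = y * t := ((Subgroup.mem_centralizer_iff.1 t'.2) y y.2).symm
    have hmod : Nat.card (CfsgLib.Perm.fixedSylows 7 t) % 7 = 1 :=
      CfsgLib.Perm.card_fixedSylows_modEq P (hall P) t'.2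
    have hmod3 : Nat.card (CfsgLib.Perm.fixedSylows 7 t) % 3 = 1 := by
      have hp3 : IsPGroup 3 (Subgroup.zpowers t) := IsPGroup.of_card (n := 1) (by
        rw [Nat.card_zpowers, hto, pow_one])
      have hm := hp3.card_modEq_card_fixedPoints (Sylow 7 G)
      rw [hn] at hm
      have he : Nat.card (MulAction.fixedPoints (Subgroup.zpowers t) (Sylow 7 G)) =
          Nat.card (CfsgLib.Perm.fixedSylows 7 t) := by
        refine Nat.card_congr (Equiv.subtypeEquivRight fun R => ?_)
        constructor
        · intro hR; exact hR ⟨t, Subgroup.mem_zpowers t⟩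
        · rintro hR ⟨g, k, rfl⟩
          have hmem : t ∈ MulAction.stabilizer G R := hR
          exact (MulAction.stabilizer G R).zpow_mem hmem k
      rw [he] at hm
      unfold Nat.ModEq at hm
      omega
    have hcent : ∀ g : G, g ∈ N → g * t = t * g := by
      intro g hg
      -- `t` generates the only subgroup of order three of the cyclic group `C`
      have hCn : ∀ x ∈ N, x * t * x⁻¹ = t ∨ x * t * x⁻¹ = t⁻¹ := by
        intro x hx
        have hxC : x * t * x⁻¹ ∈ C := by
          rw [hCdef, Subgroup.mem_centralizer_iff]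
          intro w hw
          have hw' : x⁻¹ * w * x ∈ (P : Subgroup G) :=
            (Subgroup.mem_normalizer_iff''.1 hx w).1 hw
          calc w * (x * t * x⁻¹) = x * ((x⁻¹ * w * x) * t) * x⁻¹ := by group
            _ = x * (t * (x⁻¹ * w * x)) * x⁻¹ := by rw [(Subgroup.mem_centralizer_iff.1 t'.2) _ hw']
            _ = x * t * x⁻¹ * w := by group
        obtain ⟨T⟩ := (inferInstance : Nonempty (Sylow 3 C))
        have h21 : Nat.card C = 3 ^ 1 * 7 := by rw [hC]; norm_num
        have hT : ∀ S : Sylow 3 C, Nat.card (S : Subgroup C) = 3 := fun S => by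
          rw [CfsgLib.Perm.sylow_card_eq S h21 (by norm_num), pow_one]
        have hab : IsMulCommutative C := by
          have : IsMulCommutative C := ⟨⟨fun a b => by
            obtain ⟨y', hy'⟩ : ∃ y' : C, (y' : G) = y := ⟨⟨y, hPC y.2⟩, rfl⟩
            have hyc : ∀ c : C, y' * c = c * y' := fun c => Subtype.ext (by
              show (y' : G) * c = c * y'
              rw [hy']; exact (Subgroup.mem_centralizer_iff.1 c.2) y y.2)
            have htc : ∀ c : C, c * t' = t' * c := by
              intro c
              have hgen : Subgroup.closure {y', t'} = ⊤ := by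
                refine Subgroup.eq_top_of_card_eq _ (le_antisymm (Subgroup.card_le_card_group _) ?_)
                rw [hC]
                refine Nat.le_of_dvd Nat.card_pos (Nat.Coprime.mul_dvd_of_dvd_of_dvd (m := 7) (n := 3)
                  (by norm_num) ?_ ?_)
                · have := Subgroup.orderOf_dvd_natCard (Subgroup.closure {y', t'})
                    (Subgroup.subset_closure (Set.mem_insert y' _))
                  rwa [← Subgroup.orderOf_coe, hy', Subgroup.orderOf_coe, hy] at this
                · have := Subgroup.orderOf_dvd_natCard (Subgroup.closure {y', t'})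
                    (Subgroup.subset_closure (Set.mem_insert_of_mem y' rfl))
                  rwa [ht'] at this
              have hle : Subgroup.closure {y', t'} ≤ Subgroup.centralizer ({t'} : Set C) := by
                rw [Subgroup.closure_le]
                rintro w (rfl | rfl)
                · exact Subgroup.mem_centralizer_singleton_iff.2 (hyc t')
                · exact Subgroup.mem_centralizer_singleton_iff.2 rfl
              rw [hgen] at hle
              exact Subgroup.mem_centralizer_singleton_iff.1 (hle (Subgroup.mem_top c))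
            have hle : Subgroup.closure {y', t'} ≤ Subgroup.center C := by
              rw [Subgroup.closure_le]
              rintro w (rfl | rfl)
              · exact Subgroup.mem_center_iff.2 fun c => (hyc c).symm
              · exact Subgroup.mem_center_iff.2 htc
            have hgen : Subgroup.center C = ⊤ := by
              refine Subgroup.eq_top_of_card_eq _ (le_antisymm (Subgroup.card_le_card_group _) ?_)
              rw [hC]
              refine Nat.le_of_dvd Nat.card_pos (Nat.Coprime.mul_dvd_of_dvd_of_dvd (m := 7) (n := 3)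
                (by norm_num) ?_ ?_)
              · have := Subgroup.orderOf_dvd_natCard (Subgroup.center C) (hle (Subgroup.subset_closure (Set.mem_insert y' _)))
                rwa [← Subgroup.orderOf_coe, hy', Subgroup.orderOf_coe, hy] at this
              · have := Subgroup.orderOf_dvd_natCard (Subgroup.center C) (hle (Subgroup.subset_closure (Set.mem_insert_of_mem y' rfl)))
                rwa [ht'] at this
            exact (Subgroup.mem_center_iff.1 (hgen ▸ Subgroup.mem_top b : b ∈ Subgroup.center C) a)⟩⟩
          exact this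
        have hz : (⟨x * t * x⁻¹, hxC⟩ : C) ∈ Subgroup.zpowers t' := by
          set w : C := ⟨x * t * x⁻¹, hxC⟩ with hw
          have hwo : orderOf w = 3 := by
            rw [← Subgroup.orderOf_coe]
            show orderOf (MulAut.conj x t) = 3
            rw [MulEquiv.orderOf_eq, hto]
          obtain ⟨S, hS⟩ := (IsPGroup.of_card (p := 3) (n := 1) (G := Subgroup.zpowers w) (by
            rw [Nat.card_zpowers, hwo, pow_one])).exists_le_sylow
          obtain ⟨S', hS'⟩ := (IsPGroup.of_card (p := 3) (n := 1) (G := Subgroup.zpowers t') (by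
            rw [Nat.card_zpowers, ht', pow_one])).exists_le_sylow
          have hSS : S = S' := by
            obtain ⟨g, hg⟩ := MulAction.exists_smul_eq C S S'
            rw [← hg, Sylow.smul_eq_iff_mem_normalizer.2 ?_]
            refine Subgroup.centralizer_le_normalizer _ (Subgroup.mem_centralizer_iff.2 fun k _ => ?_)
            exact hab.is_comm.comm k g
          have hS'eq : Subgroup.zpowers t' = (S' : Subgroup C) :=
            Subgroup.eq_of_le_of_card_ge hS' (by rw [hT, Nat.card_zpowers, ht'])
          rw [hS'eq, ← hSS]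
          exact hS (Subgroup.mem_zpowers w)
        obtain ⟨k, hk⟩ := Subgroup.mem_zpowers_iff.1 hz
        have hk' : t ^ k = x * t * x⁻¹ := by
          have := congrArg Subtype.val hk
          rwa [SubgroupClass.coe_zpow] at this
        rw [← hk', ← zpow_mod_orderOf t k, hto]
        have h0 : k % ((3 : ℕ) : ℤ) = 0 ∨ k % ((3 : ℕ) : ℤ) = 1 ∨ k % ((3 : ℕ) : ℤ) = 2 := by omega
        rcases h0 with e | e | e <;> rw [e]
        · exfalso
          rw [← zpow_mod_orderOf t k, hto, e, zpow_zero] at hk'
          have : t = 1 := by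
            calc t = x⁻¹ * (x * t * x⁻¹) * x := by group
              _ = 1 := by rw [← hk']; group
          rw [this, orderOf_one] at hto; omega
        · left; exact zpow_one t
        · right
          refine eq_inv_of_mul_eq_one_right ?_
          rw [zpow_two, ← mul_assoc, ← pow_two, ← pow_succ, show (2 + 1 : ℕ) = orderOf t by omega,
            pow_orderOf_eq_one]
      have hodd : Odd (orderOf g) := by
        have hd : orderOf g ∣ 63 := by
          have := Subgroup.orderOf_dvd_natCard N hg
          rwa [show Nat.card N = 63 by omega] at this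
        exact Odd.of_dvd_nat (by decide) hd
      obtain ⟨j, hj⟩ := hodd
      have hsq : g ^ 2 * t = t * g ^ 2 := by
        rcases hCn g hg with e | e
        · have : g * t = t * g := mul_inv_eq_iff_eq_mul.1 e
          exact ((Commute.pow_left (show Commute g t from this) 2)).eq
        · calc g ^ 2 * t = g * (g * t * g⁻¹) * g := by rw [pow_two]; group
            _ = g * t⁻¹ * g⁻¹ * g ^ 2 := by rw [e, pow_two]; group
            _ = (g * t * g⁻¹)⁻¹ * g ^ 2 := by group
            _ = t * g ^ 2 := by rw [e, inv_inv]
      have hgp : g = (g ^ 2) ^ (j + 1) := by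
        rw [← pow_mul, show 2 * (j + 1) = orderOf g + 1 by omega, pow_add, pow_orderOf_eq_one, one_mul,
          pow_one]
      rw [hgp]
      exact ((show Commute (g ^ 2) t from hsq).pow_left (j + 1)).eq
    have hhR : ∀ R : Sylow 7 G, t • R = R →
        7 * (Nat.card (CfsgLib.Perm.fixedSylows 7 t) - 1) + 1 ≤ 64 ∨
          t ∈ Subgroup.centralizer ((R : Subgroup G) : Set G) := by
      intro R hR
      by_cases hc : t ∈ Subgroup.centralizer ((R : Subgroup G) : Set G)
      · exact Or.inr hc
      · exact Or.inl (hn ▸ CfsgLib.Perm.card_fixedSylows_le R (hall R) hR hc)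
    have hFle : Nat.card (CfsgLib.Perm.fixedSylows 7 t) ≤ 64 := hn ▸ Finite.card_subtype_le _
    by_cases hF1 : Nat.card (CfsgLib.Perm.fixedSylows 7 t) = 1
    · -- `t` fixes only `P`, hence is isolated in a Sylow 3-subgroup
      have hCt : ∀ g : G, g⁻¹ * t * g ∈ N → g ∈ N := by
        intro g hg
        have hfix : t • (g • P) = g • P := by
          rw [smul_smul, show t * g = g * (g⁻¹ * t * g) by group, ← smul_smul,
            Sylow.smul_eq_iff_mem_normalizer.2 hg]
        have hP1 : t • P = P := Sylow.smul_eq_iff_mem_normalizer.2 (hCN t'.2)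
        have := (Nat.card_eq_one_iff_unique.1 hF1).1
        have he := congrArg Subtype.val (Subsingleton.elim
          (⟨g • P, hfix⟩ : CfsgLib.Perm.fixedSylows 7 t) ⟨P, hP1⟩)
        exact Sylow.smul_eq_iff_mem_normalizer.1 he
      have htz : Subgroup.zpowers t ≤ N := by
        rw [Subgroup.zpowers_le]; exact hCN t'.2
      obtain ⟨R₁, hR₁⟩ := (IsPGroup.of_card (p := 3) (n := 1) (G := (Subgroup.zpowers t).subgroupOf N) (by
        rw [Nat.card_congr (Subgroup.subgroupOfEquivOfLe htz).toEquiv, Nat.card_zpowers, hto,
          pow_one])).exists_le_sylow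
      have hR9 : Nat.card ((R₁ : Subgroup N).map N.subtype) = 3 ^ 2 := by
        rw [← Nat.card_congr ((R₁ : Subgroup N).equivMapOfInjective N.subtype N.subtype_injective).toEquiv]
        exact CfsgLib.Perm.sylow_card_eq R₁ (m := 7) (by omega) (by norm_num)
      let R : Sylow 3 G := Sylow.ofCard ((R₁ : Subgroup N).map N.subtype) (by
        rw [hR9, h]
        congr 1
        rw [show (4032 : ℕ) = 3 ^ 2 * 448 by norm_num, Nat.factorization_mul (by norm_num) (by norm_num),
          Finsupp.add_apply, Nat.Prime.factorization_pow Nat.prime_three, Finsupp.single_eq_same,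
          Nat.factorization_eq_zero_of_not_dvd (by norm_num : ¬ 3 ∣ 448)])
      have hRN : (R : Subgroup G) ≤ N := by
        rintro _ ⟨x, -, rfl⟩; exact x.2
      have htR : t ∈ (R : Subgroup G) :=
        ⟨⟨t, hCN t'.2⟩, hR₁ (Subgroup.mem_zpowers t), rfl⟩
      have ht1 := CfsgLib.Perm.eq_one_of_central_in_sylow_normalizer hG R
        ⟨⟨IsPGroup.commutative_of_card_eq_prime_sq hR9⟩⟩ htR (fun g hg => ?_)
      · rw [ht1, orderOf_one] at hto; omega
      · have hgt : g⁻¹ * t * g ∈ N := hRN ((Subgroup.mem_normalizer_iff''.1 hg t).1 htR)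
        exact hcent g (hCt g hgt)
    · -- many Sylow subgroups in the centraliser of `t`
      have hall' : ∀ R : Sylow 7 G, t • R = R → t ∈ Subgroup.centralizer ((R : Subgroup G) : Set G) :=
        fun R hR => (hhR R hR).resolve_left (by omega)
      have h22 : 22 ≤ Nat.card (Sylow 7 (Subgroup.centralizer ({t} : Set G))) :=
        le_trans (by omega) (CfsgLib.Perm.card_fixedSylows_le_centralizer hall')
      set K := Subgroup.centralizer ({t} : Set G) with hKdef
      have hPK : (P : Subgroup G) ≤ K := fun x hx => by
        rw [hKdef, Subgroup.mem_centralizer_singleton_iff]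
        exact (Subgroup.mem_centralizer_iff.1 t'.2) x hx
      let P' : Sylow 7 K := P.subtype hPK
      have h21 : 21 ∣ Nat.card (Subgroup.normalizer ((P' : Subgroup K) : Set K)) := by
        refine Nat.Coprime.mul_dvd_of_dvd_of_dvd (m := 7) (n := 3) (by norm_num) ?_ ?_
        · have := Subgroup.card_dvd_of_le (Subgroup.le_normalizer (H := (P' : Subgroup K)))
          rwa [show Nat.card (P' : Subgroup K) = 7 from
            (Nat.card_congr (Subgroup.subgroupOfEquivOfLe hPK).toEquiv).trans (hall P)] at this
        · have htK : t ∈ K := by rw [hKdef, Subgroup.mem_centralizer_singleton_iff]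
          have htN : (⟨t, htK⟩ : K) ∈ Subgroup.normalizer ((P' : Subgroup K) : Set K) :=
            Subgroup.centralizer_le_normalizer _ (Subgroup.mem_centralizer_iff.2 fun x hx =>
              Subtype.ext ((Subgroup.mem_centralizer_iff.1 t'.2) (x : G) hx))
          have := Subgroup.orderOf_dvd_natCard _ htN
          rwa [Subgroup.orderOf_mk, hto] at this
      have hKcard := CfsgLib.Perm.card_normalizer_mul_card_sylow P'
      have hK462 : 462 ≤ Nat.card K := by
        rw [← hKcard]
        calc 462 = 21 * 22 := by norm_num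
          _ ≤ _ := Nat.mul_le_mul (Nat.le_of_dvd Nat.card_pos h21) h22
      have hKtop : K ≠ ⊤ := fun e => by
        have hdc : t ∈ Subgroup.center G := by
          rw [Subgroup.mem_center_iff]
          intro g
          have hg : g ∈ K := e ▸ Subgroup.mem_top g
          exact Subgroup.mem_centralizer_singleton_iff.1 (hKdef ▸ hg)
        rcases (inferInstance : (Subgroup.center G).Normal).eq_bot_or_eq_top with hc | hc
        · rw [hc, Subgroup.mem_bot] at hdc
          rw [hdc, orderOf_one] at hto
          omega
        · exact hG ⟨⟨fun a b => (Subgroup.mem_center_iff.1 (hc ▸ Subgroup.mem_top b : b ∈ Subgroup.center G)) a⟩⟩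
      have hKi : K.index ≤ 8 := by
        have := Subgroup.card_mul_index K
        rw [h] at this
        have h2 : 462 * K.index ≤ 4032 := by
          calc 462 * K.index ≤ Nat.card K * K.index := Nat.mul_le_mul_right _ hK462
            _ = 4032 := this
        omega
      obtain ⟨h7, hdvd⟩ := CfsgLib.Perm.card_centralizer_dvd_of_small_index K hKtop (p := 7) (by omega)
        (y := (y : G)) (by rw [Subgroup.orderOf_coe, hy])
      have h3y : 3 ∣ Nat.card (Subgroup.centralizer ({(y : G)} : Set G)) := by
        have := Subgroup.orderOf_dvd_natCard (Subgroup.centralizer ({(y : G)} : Set G))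
          (Subgroup.mem_centralizer_singleton_iff.2 hty)
        rwa [hto] at this
      have h30 := h3y.trans hdvd
      interval_cases hKI : K.index <;> norm_num [Nat.factorial] at h30
  · -- dihedral normaliser
    obtain ⟨x, v, u, hu, hx1, hx2, hd1, hd2, hm, heq⟩ :=
      CfsgLib.Perm.exists_degree_of_card_normalizer_two_mul (by norm_num) P (hall P) hne
        (by rw [← hNdef]; omega)
    rw [h] at hd1 hd2 heq
    have hx : x = 8 := by
      have key : ∀ d ∈ (4032 : ℕ).divisors, (d % 7 = 1 → d = 1 ∨ d = 8 ∨ (¬(d + 1 ∣ 4032))) ∧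
          (d % 7 = 6 → d = 1 ∨ (¬(d - 1 ∣ 4032))) := by decide +kernel
      obtain ⟨k1, k2⟩ := key x.natAbs (Nat.mem_divisors.2 ⟨hd1, by norm_num⟩)
      rcases Int.natAbs_eq x with e | e
      · rcases k1 (by omega) with hh | hh | hh
        · omega
        · omega
        · exact absurd (by rwa [show x.natAbs + 1 = (x + 1).natAbs by omega]) hh
      · rcases k2 (by omega) with hh | hh
        · omega
        · exact absurd (by rwa [show x.natAbs - 1 = (x + 1).natAbs by omega]) hh
    subst hx
    set c : ℤ := (Nat.card (Subgroup.centralizer ({u} : Set G)) : ℤ) with hc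
    have hcpos : 0 < c := by rw [hc]; exact_mod_cast Nat.card_pos
    have h8 : 8 * (8 - v) ^ 2 = c ^ 2 := by push_cast at heq; linarith
    -- eight is not a rational square
    have h64 : (c.natAbs : ℕ) ^ 2 = 8 * (8 - v).natAbs ^ 2 := by
      zify
      rw [sq_abs, sq_abs]
      linarith
    have hw : (8 - v).natAbs ≠ 0 := fun e => by
      rw [e] at h64
      simp at h64
      omega
    have hfac := congrArg (fun n : ℕ => n.factorization 2) h64
    simp only [Nat.factorization_mul (by norm_num : (8 : ℕ) ≠ 0) (pow_ne_zero 2 hw),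
      Nat.factorization_pow, Finsupp.add_apply, Finsupp.smul_apply, smul_eq_mul,
      show (8 : ℕ).factorization 2 = 3 by
        rw [show (8 : ℕ) = 2 ^ 3 by norm_num, Nat.Prime.factorization_pow Nat.prime_two, Finsupp.single_eq_same]]
      at hfac
    omega

end Cfsg.Agent.S0976
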