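import Cfsg.Statements.S0982
import Cfsg.Agent.Lib.Perm.PrimeProjective

set_option autoImplicit false
open Cfsg

namespace Cfsg.Agent.S0982

/-- A simple group of order 6072 is isomorphic to the projective special linear group of dimension 2 over the field with 23 elements. -/
theorem result {G : Type*} [Group G] [Finite G] [IsSimpleGroup G] (h : Nat.card G = 6072) {F : Type*} [Field F] [Fintype F] (hF : Fintype.card F = 23) : Nonempty (G ≃* Matrix.ProjectiveSpecialLinearGroup (Fin 2) F) := by
  have : Fact (Nat.Prime 23) := ⟨by norm_num⟩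
  have h' : Nat.card G = 23 ^ 1 * 264 := by rw [h]; norm_num
  obtain ⟨h1, h2, h3⟩ := CfsgLib.Perm.card_sylow_mem (q := 2) h' one_ne_zero Nat.prime_two
    (by norm_num) (by norm_num)
  have hn : Nat.card (Sylow 23 G) = 23 + 1 := by
    have hmem := Nat.mem_divisors.2 ⟨h1, by norm_num⟩
    rw [show (264 : ℕ).divisors = ({1, 2, 3, 4, 6, 8, 11, 12, 22, 24, 33, 44, 66, 88, 132, 264} : Finset ℕ) from by decide +kernel] at hmem
    simp only [Finset.mem_insert, Finset.mem_singleton] at hmem
    omega
  exact CfsgLib.Perm.PrimeProjective.exists_iso (p := 23) (by norm_num) (d := 11) (by norm_num)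
    (by rw [h]) hn (ν := 5) (by decide) (by decide) (by decide +kernel) hF

end Cfsg.Agent.S0982
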