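import Cfsg.Statements.S0985

set_option autoImplicit false
open Cfsg

namespace Cfsg.Agent.S0985

/-- If the number of Sylow p-subgroups of a finite group is not congruent to 1 modulo p^k, then there are two distinct Sylow p-subgroups P and R such that the index of P ∩ R in P is at most p^(k-1). -/
theorem result {G : Type*} [Group G] [Finite G] (p k : ℕ) [Fact p.Prime] (h : ¬ Nat.card (Sylow p G) ≡ 1 [MOD p ^ k]) : ∃ P R : Sylow p G, P ≠ R ∧ ((R : Subgroup G).subgroupOf (P : Subgroup G)).index ≤ p ^ (k - 1) := by
  have hp : p.Prime := Fact.out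
  obtain ⟨P⟩ := (inferInstance : Nonempty (Sylow p G))
  by_contra hcon
  push Not at hcon
  apply h
  classical
  have : Fintype (Sylow p G) := Fintype.ofFinite _
  set Φ := MulAction.orbitRel.Quotient (P : Subgroup G) (Sylow p G) with hΦ
  -- every orbit other than {P} has length divisible by p ^ k
  have horb : ∀ R : Sylow p G, R ≠ P →
      p ^ k ∣ Nat.card (MulAction.orbit (P : Subgroup G) R) := by
    intro R hR
    have h1 := MulAction.index_stabilizer (P : Subgroup G) R
    have h2 : MulAction.stabilizer (P : Subgroup G) R =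
        (R : Subgroup G).subgroupOf (P : Subgroup G) := by
      ext g
      rw [MulAction.mem_stabilizer_iff, Subgroup.mem_subgroupOf]
      show (g : G) • R = R ↔ _
      rw [Sylow.smul_eq_iff_mem_normalizer]
      have h3 := P.isPGroup'.inf_normalizer_sylow R
      constructor
      · intro hg
        have : (g : G) ∈ (P : Subgroup G) ⊓ (R : Subgroup G) := h3 ▸ ⟨g.2, hg⟩
        exact this.2
      · intro hg
        exact Subgroup.le_normalizer hg
    have h4 := hcon P R (Ne.symm hR)
    rw [Nat.card_coe_set_eq, ← h1, h2]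
    obtain ⟨i, hi⟩ := P.isPGroup'.index ((R : Subgroup G).subgroupOf (P : Subgroup G))
    rw [hi] at h4 ⊢
    have := (Nat.pow_lt_pow_iff_right hp.one_lt).1 h4
    exact pow_dvd_pow p (by omega)
  have key : Nat.card (Sylow p G) ≡ 1 [MOD p ^ k] := by
    rw [Nat.card_congr (MulAction.selfEquivSigmaOrbits' (P : Subgroup G) (Sylow p G)),
      Nat.card_sigma]
    rw [← Finset.add_sum_erase _ _ (Finset.mem_univ (Quotient.mk'' P : Φ))]
    have h1 : Nat.card (MulAction.orbitRel.Quotient.orbit (Quotient.mk'' P : Φ)) = 1 := by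
      rw [MulAction.orbitRel.Quotient.orbit_mk]
      rw [Nat.card_eq_one_iff_unique]
      refine ⟨⟨?_⟩, ⟨⟨P, MulAction.mem_orbit_self P⟩⟩⟩
      rintro ⟨a, g, rfl⟩ ⟨b, g', rfl⟩
      apply Subtype.ext
      show (g : G) • P = (g' : G) • P
      rw [Sylow.smul_eq_iff_mem_normalizer.2 (Subgroup.le_normalizer g.2),
        Sylow.smul_eq_iff_mem_normalizer.2 (Subgroup.le_normalizer g'.2)]
    rw [h1]
    have h2 : p ^ k ∣ ∑ x ∈ Finset.univ.erase (Quotient.mk'' P : Φ),
        Nat.card (MulAction.orbitRel.Quotient.orbit x) := by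
      apply Finset.dvd_sum
      intro x hx
      induction x using Quotient.inductionOn' with
      | h R =>
        rw [MulAction.orbitRel.Quotient.orbit_mk]
        apply horb
        rintro rfl
        simp at hx
    rw [Nat.ModEq, Nat.add_mod, Nat.mod_eq_zero_of_dvd h2, add_zero, Nat.mod_mod]
  exact key

end Cfsg.Agent.S0985
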