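import Cfsg.Statements.S0986
import Mathlib.GroupTheory.Sylow
import Mathlib.GroupTheory.Nilpotent
import Mathlib.Tactic

set_option autoImplicit false
open Cfsg

namespace Cfsg.Agent.S0986

/-- Let P and Q be distinct Sylow p-subgroups of a finite group G chosen so that the order of P ∩ Q is as large as possible among intersections of two distinct Sylow p-subgroups, and let N be the normalizer of P ∩ Q. Then N has more than one Sylow p-subgroup, any two distinct Sylow p-subgroups of N intersect exactly in P ∩ Q, and each Sylow p-subgroup of N lies in exactly one Sylow p-subgroup of G. -/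
theorem result {G : Type*} [Group G] [Finite G] (p : ℕ) [Fact p.Prime] (P Q : Sylow p G) (hPQ : P ≠ Q) (hmax : ∀ P' Q' : Sylow p G, P' ≠ Q' → Nat.card ↥((P' : Subgroup G) ⊓ (Q' : Subgroup G)) ≤ Nat.card ↥((P : Subgroup G) ⊓ (Q : Subgroup G))) : 1 < Nat.card (Sylow p ↥(Subgroup.normalizer (((P : Subgroup G) ⊓ (Q : Subgroup G) : Subgroup G) : Set G))) ∧ (∀ S T : Sylow p ↥(Subgroup.normalizer (((P : Subgroup G) ⊓ (Q : Subgroup G) : Subgroup G) : Set G)), S ≠ T → (S : Subgroup _) ⊓ (T : Subgroup _) = ((P : Subgroup G) ⊓ (Q : Subgroup G)).subgroupOf (Subgroup.normalizer (((P : Subgroup G) ⊓ (Q : Subgroup G) : Subgroup G) : Set G))) ∧ ∀ S : Sylow p ↥(Subgroup.normalizer (((P : Subgroup G) ⊓ (Q : Subgroup G) : Subgroup G) : Set G)), ∃! T : Sylow p G, (S : Subgroup _).map (Subgroup.normalizer (((P : Subgroup G) ⊓ (Q : Subgroup G) : Subgroup G) : Set G)).subtype ≤ (T : Subgroup G) := by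
  classical
  set D := (P : Subgroup G) ⊓ (Q : Subgroup G) with hD
  set M := Subgroup.normalizer (D : Set G) with hM
  have heq : ∀ {P' Q' : Sylow p G} (H : Subgroup G),
      Nat.card D < Nat.card H → H ≤ (P' : Subgroup G) → H ≤ (Q' : Subgroup G) → P' = Q' := by
    intro P' Q' H hlt h1 h2
    by_contra hne
    have := Nat.le_of_dvd Nat.card_pos (Subgroup.card_dvd_of_le (le_inf h1 h2))
    have := hmax P' Q' hne
    omega
  -- D is properly contained in the normaliser inside each of P and Q
  have hgrow : ∀ R : Sylow p G, D < (R : Subgroup G) → D < (R : Subgroup G) ⊓ M := by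
    intro R hR
    refine lt_of_le_of_ne (le_inf hR.le Subgroup.le_normalizer) fun hcon => ?_
    have : Group.IsNilpotent (R : Subgroup G) := R.isPGroup'.isNilpotent
    have hlt : D.subgroupOf (R : Subgroup G) < ⊤ := by
      rw [lt_top_iff_ne_top, Ne, Subgroup.subgroupOf_eq_top]
      exact hR.not_ge
    have hn := normalizerCondition_of_isNilpotent (G := (R : Subgroup G)) _ hlt
    rw [← Subgroup.subgroupOf_normalizer_eq hR.le] at hn
    refine hn.ne ?_
    ext y
    rw [Subgroup.mem_subgroupOf, Subgroup.mem_subgroupOf]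
    exact ⟨fun hy => Subgroup.le_normalizer hy, fun hy => hcon ▸ ⟨y.2, hy⟩⟩
  have hDP : D < (P : Subgroup G) := by
    refine lt_of_le_of_ne inf_le_left fun hcon => hPQ ?_
    have hle : (P : Subgroup G) ≤ Q := hcon ▸ inf_le_right
    exact Sylow.ext (P.is_maximal' Q.isPGroup' hle).symm
  have hDQ : D < (Q : Subgroup G) := by
    refine lt_of_le_of_ne inf_le_right fun hcon => hPQ ?_
    have hle : (Q : Subgroup G) ≤ P := hcon ▸ inf_le_left
    exact Sylow.ext (Q.is_maximal' P.isPGroup' hle)
  -- every Sylow subgroup of M is larger than D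
  have hbig : ∀ (R : Sylow p G), D < (R : Subgroup G) → ∀ S : Sylow p M,
      Nat.card D < Nat.card ((S : Subgroup M).map M.subtype) := by
    intro R hR S
    have hp1 : IsPGroup p (((R : Subgroup G) ⊓ M).subgroupOf M) :=
      (R.isPGroup'.to_le inf_le_left).comap_subtype
    obtain ⟨S', hS'⟩ := hp1.exists_le_sylow
    rw [Subgroup.card_map_of_injective M.subtype_injective]
    rw [S.card_eq_multiplicity, ← S'.card_eq_multiplicity]
    refine lt_of_lt_of_le ?_ (Nat.le_of_dvd Nat.card_pos (Subgroup.card_dvd_of_le hS'))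
    rw [Nat.card_congr (Subgroup.subgroupOfEquivOfLe inf_le_right).toEquiv]
    by_contra hle
    push Not at hle
    exact (hgrow R hR).ne (Subgroup.eq_of_le_of_card_ge (hgrow R hR).le hle)
  have hexT : ∀ S : Sylow p M, ∃! T : Sylow p G,
      (S : Subgroup M).map M.subtype ≤ (T : Subgroup G) := by
    intro S
    obtain ⟨T, hT⟩ := (S.isPGroup'.map M.subtype).exists_le_sylow
    exact ⟨T, hT, fun T' hT' => heq _ (hbig P hDP S) hT' hT⟩
  refine ⟨?_, ?_, hexT⟩
  · rw [Finite.one_lt_card_iff_nontrivial, ← not_subsingleton_iff_nontrivial]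
    intro hsub
    obtain ⟨S₀⟩ := (inferInstance : Nonempty (Sylow p M))
    obtain ⟨T, hT, -⟩ := hexT S₀
    have key : ∀ R : Sylow p G, D < (R : Subgroup G) → R = T := by
      intro R hR
      have hlt : Nat.card D < Nat.card ↥((R : Subgroup G) ⊓ M) := by
        by_contra hle
        push Not at hle
        exact (hgrow R hR).ne (Subgroup.eq_of_le_of_card_ge (hgrow R hR).le hle)
      refine heq _ hlt inf_le_left ?_
      intro x hx
      have hp1 : IsPGroup p (((R : Subgroup G) ⊓ M).subgroupOf M) :=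
        (R.isPGroup'.to_le inf_le_left).comap_subtype
      obtain ⟨S', hS'⟩ := hp1.exists_le_sylow
      rw [Subsingleton.elim S' S₀] at hS'
      exact hT ⟨⟨x, hx.2⟩, hS' (Subgroup.mem_subgroupOf.2 hx), rfl⟩
    exact hPQ ((key P hDP).trans (key Q hDQ).symm)
  · intro S T hST
    have hDp : IsPGroup p (D.subgroupOf M) := (P.isPGroup'.to_le inf_le_left).comap_subtype
    have : (D.subgroupOf M).Normal := Subgroup.normal_in_normalizer
    have hDS := hDp.le_sylow_of_normal S
    have hDT := hDp.le_sylow_of_normal T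
    symm
    apply Subgroup.eq_of_le_of_card_ge (le_inf hDS hDT)
    rw [Nat.card_congr (Subgroup.subgroupOfEquivOfLe (Subgroup.le_normalizer : D ≤ M)).toEquiv,
      ← Subgroup.card_map_of_injective (f := M.subtype) M.subtype_injective]
    obtain ⟨S', hS', -⟩ := hexT S
    obtain ⟨T', hT', -⟩ := hexT T
    have hne : S' ≠ T' := by
      rintro rfl
      apply hST
      have h1 : IsPGroup p ((S' : Subgroup G).subgroupOf M) := S'.isPGroup'.comap_subtype
      have hS1 : (S : Subgroup M) ≤ (S' : Subgroup G).subgroupOf M :=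
        fun x hx => Subgroup.mem_subgroupOf.2 (hS' ⟨x, hx, rfl⟩)
      have hT1 : (T : Subgroup M) ≤ (S' : Subgroup G).subgroupOf M :=
        fun x hx => Subgroup.mem_subgroupOf.2 (hT' ⟨x, hx, rfl⟩)
      exact Sylow.ext ((S.is_maximal' h1 hS1).symm.trans (T.is_maximal' h1 hT1))
    refine le_trans (Nat.le_of_dvd Nat.card_pos (Subgroup.card_dvd_of_le ?_)) (hmax S' T' hne)
    exact le_inf ((Subgroup.map_mono inf_le_left).trans hS') ((Subgroup.map_mono inf_le_right).trans hT')

end Cfsg.Agent.S0986
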