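import Cfsg.Statements.S0987
import Cfsg.Agent.Lib.Perm.SimpleCount
import Mathlib.GroupTheory.SpecificGroups.Cyclic
import Mathlib.Tactic

set_option autoImplicit false
open Cfsg

namespace Cfsg.Agent.S0987

/-- If a finite group has order pqr for primes p < q < r, then its Sylow r-subgroups are normal. -/
theorem result {G : Type*} [Group G] [Finite G] (p q r : ℕ) (hp : p.Prime) (hq : q.Prime) [Fact r.Prime] (hpq : p < q) (hqr : q < r) (hG : Nat.card G = p * q * r) (R : Sylow r G) : (R : Subgroup G).Normal := by
  classical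
  have hr : r.Prime := Fact.out
  have hndvd : ¬ r ∣ p * q := by
    intro h
    rcases hr.dvd_mul.1 h with h | h
    · exact absurd (Nat.le_of_dvd hp.pos h) (by omega)
    · exact absurd (Nat.le_of_dvd hq.pos h) (by omega)
  have hG' : Nat.card G = r ^ 1 * (p * q) := by rw [hG]; ring
  have hRc : Nat.card (R : Subgroup G) = r := by
    rw [CfsgLib.Perm.sylow_card_eq R hG' hndvd, pow_one]
  set n := Nat.card (Sylow r G) with hn
  have hdiv : n ∣ p * q := CfsgLib.Perm.card_sylow_dvd_of_card_eq hG'
  have hmod : n % r = 1 := by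
    have := card_sylow_modEq_one r G
    rwa [Nat.ModEq, Nat.one_mod_eq_one.2 hr.ne_one] at this
  by_cases h1 : n = 1
  · have : Subsingleton (Sylow r G) := (Nat.card_eq_one_iff_unique.1 h1).1
    exact R.normal_of_subsingleton
  exfalso
  -- n = p * q, so R is self-normalising
  have hnpq : n = p * q := by
    obtain ⟨a, b, ha, hb, hab⟩ := (Nat.dvd_mul).1 hdiv
    rcases (Nat.dvd_prime hp).1 ha with rfl | rfl <;>
      rcases (Nat.dvd_prime hq).1 hb with rfl | rfl
    · simp at hab; omega
    · rw [one_mul] at hab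
      rw [← hab, Nat.mod_eq_of_lt hqr] at hmod
      exact absurd hmod hq.ne_one
    · rw [mul_one] at hab
      rw [← hab, Nat.mod_eq_of_lt (by omega)] at hmod
      exact absurd hmod hp.ne_one
    · exact hab.symm
  have hidx : (Subgroup.normalizer ((R : Subgroup G) : Set G)).index = p * q := by
    refine Eq.trans ?_ (hn ▸ hnpq)
    exact R.card_eq_index_normalizer.symm
  have hNR : Nat.card (Subgroup.normalizer ((R : Subgroup G) : Set G)) = r := by
    have := Subgroup.card_mul_index (Subgroup.normalizer ((R : Subgroup G) : Set G))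
    rw [hidx, hG] at this
    exact Nat.eq_of_mul_eq_mul_right (Nat.mul_pos hp.pos hq.pos) (this.trans (by ring))
  have hNeq : (R : Subgroup G) = Subgroup.normalizer ((R : Subgroup G) : Set G) :=
    Subgroup.eq_of_le_of_card_ge Subgroup.le_normalizer (by rw [hNR, hRc])
  have hcyc : IsCyclic (R : Subgroup G) := isCyclic_of_prime_card hRc
  have hNC : Subgroup.normalizer ((R : Subgroup G) : Set G) ≤
      Subgroup.centralizer ((R : Subgroup G) : Set G) := by
    rw [← hNeq]
    intro x hx
    let _ : CommGroup (R : Subgroup G) := IsCyclic.commGroup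
    rw [Subgroup.mem_centralizer_iff]
    intro y hy
    exact congrArg Subtype.val (mul_comm (⟨y, hy⟩ : (R : Subgroup G)) ⟨x, hx⟩)
  set K := (MonoidHom.transferSylow R hNC).ker with hK
  have hKc : Nat.card K = p * q := by
    have := (MonoidHom.ker_transferSylow_isComplement' R hNC).card_mul_card
    rw [hRc, hG] at this
    exact Nat.eq_of_mul_eq_mul_right hr.pos this
  -- the Sylow q-subgroup of K is normal
  have : Fact q.Prime := ⟨hq⟩
  obtain ⟨Q⟩ := (inferInstance : Nonempty (Sylow q K))
  have hqp : ¬ q ∣ p := fun h => absurd (Nat.le_of_dvd hp.pos h) (by omega)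
  have hKc' : Nat.card K = q ^ 1 * p := by rw [hKc]; ring
  have hQc : Nat.card (Q : Subgroup K) = q := by
    rw [CfsgLib.Perm.sylow_card_eq Q hKc' hqp, pow_one]
  have hQ1 : Subsingleton (Sylow q K) := by
    have hd := CfsgLib.Perm.card_sylow_dvd_of_card_eq (G := K) hKc'
    have hm := card_sylow_modEq_one q K
    rw [Nat.ModEq, Nat.one_mod_eq_one.2 hq.ne_one] at hm
    rcases (Nat.dvd_prime hp).1 hd with h | h
    · exact (Nat.card_eq_one_iff_unique.1 h).1
    · rw [h, Nat.mod_eq_of_lt hpq] at hm
      exact absurd hm hp.ne_one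
  have : (Q : Subgroup K).Normal := Q.normal_of_subsingleton
  have hQch : (Q : Subgroup K).Characteristic := Sylow.characteristic_of_normal Q this
  have : K.Normal := by rw [hK]; exact MonoidHom.normal_ker _
  set Qg := (Q : Subgroup K).map K.subtype with hQg
  have hQgn : Qg.Normal := ConjAct.normal_of_characteristic_of_normal
  have hQgc : Nat.card Qg = q := by
    rw [hQg, Subgroup.card_map_of_injective K.subtype_injective, hQc]
  -- R acts on Qg, all orbits are trivial
  let _ : MulAction (R : Subgroup G) Qg :=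
  { smul := fun g y => ⟨(g : G) * y * (g : G)⁻¹, hQgn.conj_mem _ y.2 _⟩
    one_smul := fun y => Subtype.ext (by show ((1 : (R : Subgroup G)) : G) * _ * _ = _; simp)
    mul_smul := fun g h y => Subtype.ext (by
      show ((g * h : (R : Subgroup G)) : G) * y * ((g * h : (R : Subgroup G)) : G)⁻¹
        = (g : G) * ((h : G) * y * (h : G)⁻¹) * (g : G)⁻¹
      simp only [Subgroup.coe_mul]; group) }
  have hfix := R.isPGroup'.card_modEq_card_fixedPoints Qg
  rw [hQgc] at hfix
  have hle : Nat.card (MulAction.fixedPoints (R : Subgroup G) Qg) ≤ q :=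
    hQgc ▸ Nat.card_le_card_of_injective Subtype.val Subtype.val_injective
  rw [Nat.ModEq, Nat.mod_eq_of_lt hqr, Nat.mod_eq_of_lt (by omega)] at hfix
  have hall : MulAction.fixedPoints (R : Subgroup G) Qg = Set.univ :=
    Set.eq_univ_of_forall fun y => by
      have := (Nat.bijective_iff_injective_and_card
        (Subtype.val : MulAction.fixedPoints (R : Subgroup G) Qg → Qg)).2
        ⟨Subtype.val_injective, by rw [← hfix, hQgc]⟩
      obtain ⟨z, rfl⟩ := this.2 y
      exact z.2
  have hQN : Qg ≤ Subgroup.normalizer ((R : Subgroup G) : Set G) := by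
    intro y hy
    have hcen : y ∈ Subgroup.centralizer ((R : Subgroup G) : Set G) := by
      rw [Subgroup.mem_centralizer_iff]
      intro g hg
      have hy' : (⟨y, hy⟩ : Qg) ∈ MulAction.fixedPoints (R : Subgroup G) Qg := hall ▸ Set.mem_univ _
      have := congrArg Subtype.val (hy' ⟨g, hg⟩)
      exact mul_inv_eq_iff_eq_mul.1 this
    exact Subgroup.centralizer_le_normalizer _ hcen
  have := Subgroup.card_dvd_of_le hQN
  rw [hQgc, hNR] at this
  exact absurd ((Nat.prime_dvd_prime_iff_eq hq hr).1 this) (by omega)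

end Cfsg.Agent.S0987
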