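import Cfsg.Statements.S0988
import Cfsg.Agent.Lib.Perm.SylowNormalizer
import Cfsg.Agent.Lib.Char.Burnside
import Cfsg.Agent.S0992
import Mathlib.GroupTheory.PGroup
import Mathlib.Tactic

set_option autoImplicit false
open Cfsg

namespace Cfsg.Agent.S0988

open Subgroup

theorem mulAut_eq_one {P : Type*} [Group P] [Finite P] {p q : ℕ} [Fact p.Prime] [Fact q.Prime]
    (hP : Nat.card P = p ^ 2) (hp : p ≠ 2) (hpq : p < q) (φ : MulAut P) (hφ : φ ^ q = 1) :
    φ = 1 := by
  classical
  have hp' : p.Prime := Fact.out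
  have hq' : q.Prime := Fact.out
  have hord : orderOf φ ∣ q ^ 1 := by rw [pow_one]; exact orderOf_dvd_of_pow_eq_one hφ
  obtain ⟨i, -, hi⟩ := (Nat.dvd_prime_pow hq').1 hord
  have hgrp : IsPGroup q (zpowers φ) := IsPGroup.of_card (by rw [Nat.card_zpowers, hi])
  have hmod := hgrp.card_modEq_card_fixedPoints (α := P)
  let K : Subgroup P := MonoidHom.eqLocus φ.toMonoidHom (MonoidHom.id P)
  have hK : ∀ x : P, x ∈ MulAction.fixedPoints (zpowers φ) P ↔ x ∈ K := by
    intro x
    constructor
    · intro h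
      exact h ⟨φ, mem_zpowers φ⟩
    · intro h
      rintro ⟨ψ, hψ⟩
      have h' : zpowers φ ≤ MulAction.stabilizer (MulAut P) x :=
        zpowers_le.2 (MulAction.mem_stabilizer_iff.2 h)
      exact h' hψ
  rw [Nat.card_congr (Equiv.subtypeEquivRight hK), hP] at hmod
  obtain ⟨j, hj2, hj⟩ := (Nat.dvd_prime_pow hp').1 (hP ▸ K.card_subgroup_dvd_card)
  rw [hj] at hmod
  have hnd : ∀ a, q ∣ p ^ a → False := fun a h => by
    have := (Nat.prime_dvd_prime_iff_eq hq' hp').1 (hq'.dvd_of_dvd_pow h)
    omega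
  have hd := (Nat.modEq_iff_dvd' (Nat.pow_le_pow_right hp'.pos hj2)).1 hmod.symm
  interval_cases j
  · exfalso
    have h1 : p ^ 2 - p ^ 0 = (p + 1) * (p - 1) := by rw [pow_zero]; exact (Nat.sq_sub_sq p 1)
    rw [h1] at hd
    rcases hq'.dvd_mul.1 hd with h | h
    · have := Nat.le_of_dvd (by omega) h
      obtain ⟨k, hk⟩ := hp'.odd_of_ne_two hp
      obtain ⟨l, hl⟩ := hq'.odd_of_ne_two (by have := hp'.two_le; omega)
      omega
    · have := hp'.two_le
      have := Nat.le_of_dvd (by omega) h
      omega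
  · exfalso
    have h1 : p ^ 2 - p ^ 1 = p ^ 1 * (p - 1) := by rw [pow_one, sq, Nat.mul_sub, mul_one]
    rw [h1] at hd
    rcases hq'.dvd_mul.1 hd with h | h
    · exact hnd 1 h
    · have := hp'.two_le
      have := Nat.le_of_dvd (by omega) h
      omega
  · have ht : K = ⊤ := by
      apply eq_top_of_card_eq
      rw [hj, hP]
    apply MulEquiv.ext
    intro x
    exact (ht ▸ mem_top x : x ∈ K)

/-- If a finite simple group has order p^2 * q * r with p, q and r prime, then its order is 60. -/
theorem result {G : Type*} [Group G] [Finite G] [IsSimpleGroup G] (p q r : ℕ) (hp : p.Prime) (hq : q.Prime) (hr : r.Prime) (hG : Nat.card G = p ^ 2 * q * r) : Nat.card G = 60 := by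
  classical
  have hcomp : ¬ (Nat.card G).Prime := fun h => by
    rw [hG, mul_assoc, sq, mul_assoc] at h
    rcases Nat.prime_mul_iff.1 h with ⟨-, h1⟩ | ⟨-, h1⟩
    · exact hp.ne_one (Nat.eq_one_of_mul_eq_one_right h1)
    · exact hp.ne_one h1
  have hnc : ¬ IsMulCommutative G := CfsgLib.Perm.not_comm_of_not_prime hcomp
  have hns : ∀ {s t a b : ℕ}, s.Prime → t.Prime → Nat.card G ≠ s ^ a * t ^ b := by
    intro s t a b hs ht h
    have := CfsgLib.Burnside.isSolvable_of_card_eq hs ht h
    exact hnc ⟨⟨fun a b => IsSimpleGroup.comm_iff_isSolvable.2 this a b⟩⟩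
  have hpq : p ≠ q := fun e => hns (a := 3) (b := 1) hp hr (by rw [hG, ← e]; ring)
  have hpr : p ≠ r := fun e => hns (a := 3) (b := 1) hp hq (by rw [hG, ← e]; ring)
  have hqr : q ≠ r := fun e => hns (a := 2) (b := 2) hp hq (by rw [hG, ← e]; ring)
  have key : ∀ q r : ℕ, q.Prime → r.Prime → q < r → p ≠ q → p ≠ r →
      Nat.card G = p ^ 2 * q * r → Nat.card G = 60 := by
    intro q r hq hr hqr hpq hpr hG
    have := Fact.mk hp
    have := Fact.mk hq
    have := Fact.mk hr
    have hne : ∀ (s : ℕ) [Fact s.Prime], s ∣ Nat.card G → ¬ IsPGroup s G := by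
      intro s _ hs
      by_cases e : s = p
      · exact CfsgLib.Perm.not_isPGroup_of_dvd hq (e ▸ hpq.symm) (by rw [hG]; exact ⟨p ^ 2 * r, by ring⟩)
      · exact CfsgLib.Perm.not_isPGroup_of_dvd hp (Ne.symm e) (by rw [hG]; exact ⟨p * q * r, by ring⟩)
    -- the least prime is p
    have hmin : ∀ (s : ℕ) [Fact s.Prime] (m : ℕ), Nat.card G = s ^ 1 * m → ¬ s ∣ m →
        (Nat.card G).minFac ≠ s := by
      intro s _ m h hm hmf
      have S : Sylow s G := default
      have hS : Nat.card (S : Subgroup G) = s := by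
        rw [CfsgLib.Perm.sylow_card_eq S h hm, pow_one]
      have hd : s ∣ Nat.card G := by rw [h, pow_one]; exact dvd_mul_right s m
      exact CfsgLib.Perm.not_normalizer_le_centralizer S hd (hne s hd)
        (IsCyclic.normalizer_le_centralizer hmf (isCyclic_of_prime_card hS))
    have h1 : Nat.card G ≠ 1 := fun h => by
      have := Finite.one_lt_card (α := G)
      omega
    have hmfp := Nat.minFac_prime h1
    have hmfd := Nat.minFac_dvd (Nat.card G)
    have hnq : ¬ q ∣ p ^ 2 * r := fun h => by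
      rcases hq.dvd_mul.1 h with h | h
      · exact hpq ((Nat.prime_dvd_prime_iff_eq hq hp).1 (hq.dvd_of_dvd_pow h)).symm
      · have := (Nat.prime_dvd_prime_iff_eq hq hr).1 h
        omega
    have hnr : ¬ r ∣ p ^ 2 * q := fun h => by
      rcases hr.dvd_mul.1 h with h | h
      · exact hpr ((Nat.prime_dvd_prime_iff_eq hr hp).1 (hr.dvd_of_dvd_pow h)).symm
      · have := (Nat.prime_dvd_prime_iff_eq hr hq).1 h
        omega
    have hGq : Nat.card G = q ^ 1 * (p ^ 2 * r) := by rw [hG]; ring
    have hGr : Nat.card G = r ^ 1 * (p ^ 2 * q) := by rw [hG]; ring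
    have hmf : (Nat.card G).minFac = p := by
      have hd : (Nat.card G).minFac ∣ p ^ 2 * q * r := hG ▸ hmfd
      rcases hmfp.dvd_mul.1 hd with h | h
      · rcases hmfp.dvd_mul.1 h with h | h
        · exact (Nat.prime_dvd_prime_iff_eq hmfp hp).1 (hmfp.dvd_of_dvd_pow h)
        · exact absurd ((Nat.prime_dvd_prime_iff_eq hmfp hq).1 h) (hmin q _ hGq hnq)
      · exact absurd ((Nat.prime_dvd_prime_iff_eq hmfp hr).1 h) (hmin r _ hGr hnr)
    have hpltq : p < q := by
      have := Nat.minFac_le_of_dvd hq.two_le (show q ∣ Nat.card G by rw [hGq, pow_one]; exact dvd_mul_right _ _)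
      omega
    have hpG : p ∣ Nat.card G := hmf ▸ hmfd
    have S : Sylow p G := default
    have hGp : Nat.card G = p ^ 2 * (q * r) := by rw [hG]; ring
    have hnp : ¬ p ∣ q * r := fun h => by
      rcases hp.dvd_mul.1 h with h | h
      · exact hpq ((Nat.prime_dvd_prime_iff_eq hp hq).1 h)
      · exact hpr ((Nat.prime_dvd_prime_iff_eq hp hr).1 h)
    have hS : Nat.card (S : Subgroup G) = p ^ 2 := CfsgLib.Perm.sylow_card_eq S hGp hnp
    have hBurn := CfsgLib.Perm.not_normalizer_le_centralizer S hpG (hne p hpG)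
    rcases hp.eq_two_or_odd' with rfl | hodd
    · have h8 : ¬ 8 ∣ Nat.card G := by
        rw [hGp]
        intro h
        exact hnp ((Nat.mul_dvd_mul_iff_left (by norm_num : 0 < 2 ^ 2)).1 (by simpa using h))
      have h3 := (Cfsg.Agent.S0992.result hnc (even_iff_two_dvd.2 hpG) h8 S).2
      have h3N : 3 ∣ Nat.card G := by
        refine dvd_trans ?_ (Subgroup.card_subgroup_dvd_card (normalizer ((S : Subgroup G) : Set G)))
        exact h3 ▸ Subgroup.index_dvd_card _
      have hq3 : q = 3 := by
        rw [hG] at h3N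
        rcases (Nat.prime_three).dvd_mul.1 h3N with h | h
        · rcases (Nat.prime_three).dvd_mul.1 h with h | h
          · omega
          · exact ((Nat.prime_dvd_prime_iff_eq Nat.prime_three hq).1 h).symm
        · have := (Nat.prime_dvd_prime_iff_eq Nat.prime_three hr).1 h
          omega
      subst hq3
      have R : Sylow r G := default
      have hRc : Nat.card (R : Subgroup G) = r := by
        rw [CfsgLib.Perm.sylow_card_eq R hGr hnr, pow_one]
      have hn1 := CfsgLib.Perm.card_sylow_dvd_of_card_eq hGr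
      have hrG : r ∣ Nat.card G := by rw [hGr, pow_one]; exact dvd_mul_right _ _
      have hn2 := CfsgLib.Perm.card_sylow_ne_one hrG (hne r hrG)
      have hn3 : r ∣ Nat.card (Sylow r G) - 1 :=
        (Nat.modEq_iff_dvd' Nat.card_pos).1 (card_sylow_modEq_one r G).symm
      have hN := CfsgLib.Perm.card_normalizer_mul_card_sylow R
      norm_num at hn1
      have hle := Nat.le_of_dvd (by norm_num) hn1
      have hlt := Nat.card_pos (α := Sylow r G)
      generalize Nat.card (Sylow r G) = n at *
      have hrle : r ≤ 11 := le_trans (Nat.le_of_dvd (by omega) hn3) (by omega)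
      have hrne : r = 5 ∨ r = 11 := by
        interval_cases r <;> first
          | exact Or.inl rfl
          | exact Or.inr rfl
          | (exfalso; norm_num at hr; done)
          | (exfalso; interval_cases n <;> omega)
      rcases hrne with rfl | rfl
      · rw [hG]; norm_num
      · exfalso
        have hn12 : n = 12 := by interval_cases n <;> omega
        subst hn12
        exact CfsgLib.Perm.false_of_normalizer_coprime R hRc (hne 11 hrG) (a := 1)
          (by rw [hG] at hN; omega) (Nat.coprime_one_left _)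
    · exfalso
      apply hBurn
      have hcomm : IsMulCommutative (S : Subgroup G) := ⟨⟨IsPGroup.commutative_of_card_eq_prime_sq hS⟩⟩
      intro g hg
      set φ := (S : Subgroup G).normalizerMonoidHom ⟨g, hg⟩ with hφ
      suffices h : φ = 1 by
        have hk : (⟨g, hg⟩ : normalizer ((S : Subgroup G) : Set G)) ∈ (S : Subgroup G).normalizerMonoidHom.ker := h
        rwa [normalizerMonoidHom_ker, Subgroup.mem_subgroupOf] at hk
      have hN := orderOf_dvd_natCard (⟨g, hg⟩ : normalizer ((S : Subgroup G) : Set G))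
      have hN' := hN.trans (Subgroup.card_subgroup_dvd_card _)
      have hp2 : p ≠ 2 := fun e => by subst e; exact absurd hodd (by decide)
      have hφo : φ ^ (p ^ 2 * q * r) = 1 :=
        orderOf_dvd_iff_pow_eq_one.1 ((orderOf_map_dvd _ _).trans (hG ▸ hN'))
      have e1 : (φ ^ (p ^ 2 * r)) = 1 := mulAut_eq_one hS hp2 hpltq _ (by rw [← pow_mul]; simpa [mul_right_comm] using hφo)
      have e2 : (φ ^ (p ^ 2 * q)) = 1 := mulAut_eq_one hS hp2 (hpltq.trans hqr) _ (by rw [← pow_mul]; exact hφo)
      have e3 : φ ^ (p ^ 2) = 1 := by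
        have hdvd := Nat.dvd_gcd (orderOf_dvd_of_pow_eq_one e1) (orderOf_dvd_of_pow_eq_one e2)
        rw [Nat.gcd_mul_left, Nat.Coprime.gcd_eq_one ((Nat.coprime_primes hr hq).2 (by omega)), mul_one] at hdvd
        exact orderOf_dvd_iff_pow_eq_one.1 hdvd
      -- φ has p-power order; its preimage part lies in the abelian group S
      have hpS : g ^ (q * r) ∈ (S : Subgroup G) := by
        have h1 : IsPGroup p (zpowers (g ^ (q * r))) := by
          obtain ⟨i, -, hi⟩ := (Nat.dvd_prime_pow hp).1 (orderOf_dvd_of_pow_eq_one (x := g ^ (q * r)) (n := p ^ 2)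
            (by rw [← pow_mul, show q * r * p ^ 2 = Nat.card G by rw [hG]; ring, pow_card_eq_one']))
          exact IsPGroup.of_card (by rw [Nat.card_zpowers, hi])
        have h2 : zpowers (g ^ (q * r)) ≤ normalizer ((S : Subgroup G) : Set G) :=
          zpowers_le.2 (pow_mem hg _)
        have h3 : IsPGroup p ((zpowers (g ^ (q * r)) ⊔ (S : Subgroup G) : Subgroup G)) :=
          h1.to_sup_of_normal_right' S.isPGroup' h2
        have h4 := S.is_maximal' h3 le_sup_right
        exact h4 ▸ (le_sup_left : zpowers (g ^ (q * r)) ≤ _) (mem_zpowers _)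
      have e4 : φ ^ (q * r) = 1 := by
        rw [hφ, ← map_pow]
        have hk : (⟨g, hg⟩ ^ (q * r) : normalizer ((S : Subgroup G) : Set G)) ∈ (S : Subgroup G).normalizerMonoidHom.ker := by
          rw [normalizerMonoidHom_ker, Subgroup.mem_subgroupOf, SubgroupClass.coe_pow, mem_centralizer_iff]
          intro y hy
          exact congrArg Subtype.val (hcomm.is_comm.comm (⟨y, hy⟩ : (S : Subgroup G)) ⟨_, hpS⟩)
        exact hk
      have hdvd := Nat.dvd_gcd (orderOf_dvd_of_pow_eq_one e3) (orderOf_dvd_of_pow_eq_one e4)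
      rw [Nat.Coprime.gcd_eq_one (Nat.Coprime.pow_left 2 ((Nat.Prime.coprime_iff_not_dvd hp).2 hnp))] at hdvd
      exact orderOf_eq_one_iff.1 (Nat.dvd_one.1 hdvd)
  rcases lt_or_gt_of_ne hqr with h | h
  · exact key q r hq hr h hpq hpr hG
  · exact key r q hr hq h hpr hpq (by rw [hG]; ring)

end Cfsg.Agent.S0988
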