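import Cfsg.Statements.S0994
import Cfsg.Agent.Lib.Perm.SylowNormalizer
import Mathlib.Tactic

set_option autoImplicit false
open Cfsg

namespace Cfsg.Agent.S0994

/-- No finite simple group has order 1188 = 2^2 * 3^3 * 11. -/
theorem result {G : Type*} [Group G] [Finite G] [IsSimpleGroup G] : Nat.card G ≠ 1188 := by
  intro h
  have : Fact (Nat.Prime 11) := ⟨by norm_num⟩
  have h' : Nat.card G = 11 ^ 1 * 108 := by rw [h]; norm_num
  obtain ⟨h1, h2, h3⟩ := CfsgLib.Perm.card_sylow_mem (q := 2) h' one_ne_zero Nat.prime_two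
    (by norm_num) (by norm_num)
  have hn : Nat.card (Sylow 11 G) = 12 := by
    have hle := Nat.le_of_dvd (by norm_num) h1
    generalize Nat.card (Sylow 11 G) = n at *
    interval_cases n <;> omega
  obtain ⟨P⟩ := (inferInstance : Nonempty (Sylow 11 G))
  have hP : Nat.card (P : Subgroup G) = 11 := by
    rw [CfsgLib.Perm.sylow_card_eq P h' (by norm_num), pow_one]
  have hN := CfsgLib.Perm.card_normalizer_mul_card_sylow P
  rw [hn, h] at hN
  exact CfsgLib.Perm.false_of_normalizer_coprime P hP
    (CfsgLib.Perm.not_isPGroup_of_dvd Nat.prime_two (by norm_num) (by rw [h]; norm_num))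
    (a := 9) (by omega) (by norm_num)

end Cfsg.Agent.S0994
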