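import Cfsg.Statements.S0995
import Cfsg.Agent.Lib.Perm.SylowNormalizer
import Mathlib.Tactic

set_option autoImplicit false
open Cfsg

namespace Cfsg.Agent.S0995

/-- Let G be a finite perfect group containing an element z of prime order p whose centralizer is the cyclic group it generates. Let t be the number of conjugacy classes of elements of order p. Then t divides p - 1, the number of Sylow p-subgroups has the form 1 + n * p, and |G| * t = (p - 1) * p * (1 + n * p). -/
theorem result {G : Type*} [Group G] [Finite G] (hperf : commutator G = ⊤) (p : ℕ) [Fact p.Prime] (z : G) (hz : orderOf z = p) (hC : Subgroup.centralizer ({z} : Set G) = Subgroup.zpowers z) : ∃ n t : ℕ, t = Nat.card {c : ConjClasses G // ∃ g : G, ConjClasses.mk g = c ∧ orderOf g = p} ∧ t ∣ p - 1 ∧ Nat.card (Sylow p G) = 1 + n * p ∧ Nat.card G * t = (p - 1) * p * (1 + n * p) := by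
  classical
  have hp : p.Prime := Fact.out
  have hzc : Nat.card (Subgroup.zpowers z) = p := by rw [Nat.card_zpowers, hz]
  obtain ⟨S, hS⟩ := (IsPGroup.of_card (n := 1) (G := Subgroup.zpowers z)
    (by rw [pow_one, hzc])).exists_le_sylow
  have hzS : z ∈ (S : Subgroup G) := hS (Subgroup.mem_zpowers z)
  -- the Sylow subgroup containing z is the cyclic group it generates
  have hSeq : (S : Subgroup G) = Subgroup.zpowers z := by
    refine le_antisymm ?_ hS
    have : Nontrivial (S : Subgroup G) := ⟨⟨⟨z, hzS⟩, 1, fun h => by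
      have h1 := congrArg Subtype.val h
      simp only [Subgroup.coe_one] at h1
      rw [h1, orderOf_one] at hz
      exact hp.ne_one hz.symm⟩⟩
    have hcen : Nontrivial (Subgroup.center (S : Subgroup G)) := S.isPGroup'.center_nontrivial
    obtain ⟨⟨⟨w, hwS⟩, hwc⟩, hw1⟩ := exists_ne (1 : Subgroup.center (S : Subgroup G))
    have hwz : w ∈ Subgroup.zpowers z := by
      rw [← hC, Subgroup.mem_centralizer_singleton_iff]
      exact (congrArg Subtype.val (Subgroup.mem_center_iff.1 hwc ⟨z, hzS⟩)).symm
    have hw1' : (⟨w, hwz⟩ : Subgroup.zpowers z) ≠ 1 := fun h => hw1 (by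
      apply Subtype.ext; apply Subtype.ext; exact congrArg (fun x : Subgroup.zpowers z => (x : G)) h)
    have htop := zpowers_eq_top_of_prime_card hzc hw1'
    intro x hx
    rw [← hC, Subgroup.mem_centralizer_singleton_iff]
    have hz' : (⟨z, Subgroup.mem_zpowers z⟩ : Subgroup.zpowers z) ∈
        Subgroup.zpowers (⟨w, hwz⟩ : Subgroup.zpowers z) := htop ▸ Subgroup.mem_top _
    obtain ⟨i, hi⟩ := hz'
    have hi' : w ^ i = z := by
      have := congrArg Subtype.val hi
      simpa using this
    have hcw : Commute x w := congrArg Subtype.val (Subgroup.mem_center_iff.1 hwc ⟨x, hx⟩)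
    rw [← hi']
    exact (hcw.zpow_right i).eq
  have hScard : Nat.card (S : Subgroup G) = p := by rw [hSeq, hzc]
  have hmod := card_sylow_modEq_one p G
  obtain ⟨n, hn⟩ : ∃ n, Nat.card (Sylow p G) = 1 + n * p := by
    refine ⟨Nat.card (Sylow p G) / p, ?_⟩
    rw [Nat.ModEq, Nat.one_mod_eq_one.2 hp.ne_one] at hmod
    have := Nat.div_add_mod (Nat.card (Sylow p G)) p
    rw [mul_comm]
    omega
  set E := {g : G // orderOf g = p} with hE
  set X := {c : ConjClasses G // ∃ g : G, ConjClasses.mk g = c ∧ orderOf g = p} with hX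
  have hmem : ∀ (Q : Sylow p G) (g : G), g ∈ (Q : Subgroup G) → g ≠ 1 →
      orderOf g = p ∧ (Q : Subgroup G) = Subgroup.zpowers g := by
    intro Q g hg hg1
    have hQc : Nat.card (Q : Subgroup G) = p := by
      rw [Q.card_eq_multiplicity, ← S.card_eq_multiplicity, hScard]
    have h1 : orderOf g = p := by
      rcases (Nat.dvd_prime hp).1
        ((Subgroup.orderOf_coe (⟨g, hg⟩ : (Q : Subgroup G))) ▸ hQc ▸ orderOf_dvd_natCard _) with h | h
      · exact absurd (orderOf_eq_one_iff.1 h) hg1
      · exact h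
    refine ⟨h1, (Subgroup.eq_of_le_of_card_ge (Subgroup.zpowers_le.2 hg) ?_).symm⟩
    rw [hQc, Nat.card_zpowers, h1]
  have hsyl : ∀ g : E, ∃ Q : Sylow p G, (g : G) ∈ (Q : Subgroup G) := by
    intro g
    obtain ⟨Q, hQ⟩ := (IsPGroup.of_card (n := 1) (G := Subgroup.zpowers (g : G))
      (by rw [pow_one, Nat.card_zpowers, g.2])).exists_le_sylow
    exact ⟨Q, hQ (Subgroup.mem_zpowers _)⟩
  choose τ hτ using hsyl
  have hne1 : ∀ g : E, (g : G) ≠ 1 := fun g h => by
    have := g.2
    rw [h, orderOf_one] at this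
    exact hp.ne_one this.symm
  -- elements of order p, counted by Sylow subgroups
  let e₁ : E ≃ Σ Q : Sylow p G, {g : (Q : Subgroup G) // g ≠ 1} :=
  { toFun := fun g => ⟨τ g, ⟨⟨g, hτ g⟩, fun h => hne1 g (congrArg Subtype.val h)⟩⟩
    invFun := fun q => ⟨((q.2 : (q.1 : Subgroup G)) : G),
      (hmem q.1 _ q.2.1.2 fun h => q.2.2 (Subtype.ext h)).1⟩
    left_inv := fun g => Subtype.ext rfl
    right_inv := fun q => by
      obtain ⟨Q, ⟨⟨g, hgQ⟩, hg1⟩⟩ := q
      have hg1' : g ≠ 1 := fun h => hg1 (Subtype.ext h)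
      have hQ : τ ⟨g, (hmem Q g hgQ hg1').1⟩ = Q := Sylow.ext
        ((hmem _ g (hτ _) hg1').2.trans (hmem Q g hgQ hg1').2.symm)
      have gen : ∀ (Q' : Sylow p G) (h : g ∈ (Q' : Subgroup G))
          (h1 : (⟨g, h⟩ : (Q' : Subgroup G)) ≠ 1), Q' = Q →
          (⟨Q', ⟨⟨g, h⟩, h1⟩⟩ : Σ R : Sylow p G, {y : (R : Subgroup G) // y ≠ 1}) =
            ⟨Q, ⟨⟨g, hgQ⟩, hg1⟩⟩ := by
        intro Q' h h1 he
        subst he
        rfl
      exact gen _ _ _ hQ }
  have hEcard : Nat.card E = (p - 1) * (1 + n * p) := by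
    let _ := Fintype.ofFinite (Sylow p G)
    rw [Nat.card_congr e₁, Nat.card_sigma]
    have : ∀ Q : Sylow p G, Nat.card {g : (Q : Subgroup G) // g ≠ 1} = p - 1 := by
      intro Q
      let _ := Fintype.ofFinite (Q : Subgroup G)
      rw [Nat.card_eq_fintype_card, Fintype.card_subtype_compl, Fintype.card_subtype_eq,
        ← Nat.card_eq_fintype_card, Q.card_eq_multiplicity, ← S.card_eq_multiplicity, hScard]
    rw [Finset.sum_congr rfl (fun Q _ => this Q), Finset.sum_const, Finset.card_univ,
      ← Nat.card_eq_fintype_card, hn, smul_eq_mul, mul_comm]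
  -- the centraliser of any element of order p has order p
  have hcent : ∀ g : E, Nat.card {y : G // IsConj (g : G) y} * p = Nat.card G := by
    intro g
    obtain ⟨c, hc⟩ := MulAction.exists_smul_eq G S (τ g)
    have hgS : c⁻¹ * (g : G) * c ∈ (S : Subgroup G) := by
      have := hτ g
      rw [← hc, Sylow.coe_subgroup_smul] at this
      obtain ⟨s, hs, hsg⟩ := this
      have hsg' : c * s * c⁻¹ = g := hsg
      rw [← hsg']
      simp [mul_assoc]
      exact hs
    set u := c⁻¹ * (g : G) * c with hu
    have hu1 : u ≠ 1 := fun h => hne1 g (by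
      have : (g : G) = c * u * c⁻¹ := by rw [hu]; group
      rw [this, h]; group)
    have hSu := (hmem S u hgS hu1).2
    have hCu : Subgroup.centralizer ({u} : Set G) = (S : Subgroup G) := by
      rw [hSeq, ← hC]
      ext y
      simp only [Subgroup.mem_centralizer_singleton_iff]
      have hzu : z ∈ Subgroup.zpowers u := hSu ▸ hzS
      have huz : u ∈ Subgroup.zpowers z := hSeq ▸ hgS
      obtain ⟨i, hi⟩ := hzu
      obtain ⟨j, hj⟩ := huz
      simp only at hi hj
      constructor
      · intro hy
        rw [← hi]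
        exact ((show Commute y u from hy).zpow_right i).eq
      · intro hy
        rw [← hj]
        exact ((show Commute y z from hy).zpow_right j).eq
    have hconj : IsConj u (g : G) := isConj_iff.2 ⟨c, by rw [hu]; group⟩
    rw [Nat.card_congr (Equiv.subtypeEquivRight fun y =>
      (⟨fun h => hconj.trans h, fun h => hconj.symm.trans h⟩ : IsConj (g : G) y ↔ IsConj u y))]
    have hidx := Subgroup.card_mul_index (Subgroup.centralizer ({u} : Set G))
    have horb : (Subgroup.centralizer ({u} : Set G)).index = Nat.card {y : G // IsConj u y} := by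
      have := MulAction.index_stabilizer (ConjAct G) u
      rw [ConjAct.stabilizer_eq_centralizer, ← Nat.card_coe_set_eq] at this
      rw [← Nat.card_congr (Equiv.subtypeEquivRight fun y => (ConjAct.mem_orbit_conjAct).trans
        isConj_comm)]
      exact this
    rw [horb, hCu, hScard] at hidx
    rw [mul_comm]
    exact hidx
  -- elements of order p, counted by classes
  let cl : E → X := fun g => ⟨ConjClasses.mk (g : G), g, rfl, g.2⟩
  have hEX : Nat.card E * p = Nat.card X * Nat.card G := by
    let _ := Fintype.ofFinite X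
    rw [← Nat.card_congr (Equiv.sigmaFiberEquiv cl), Nat.card_sigma, Finset.sum_mul]
    have : ∀ c : X, Nat.card {g : E // cl g = c} * p = Nat.card G := by
      rintro ⟨c, g₀, hg₀, hord⟩
      rw [← hcent ⟨g₀, hord⟩]
      congr 1
      refine Nat.card_congr
        { toFun := fun g => ⟨g.1.1, ConjClasses.mk_eq_mk_iff_isConj.1
            (hg₀.trans (congrArg Subtype.val g.2).symm)⟩
          invFun := fun y => ⟨⟨y.1, by
              obtain ⟨w, hw⟩ := isConj_iff.1 y.2
              rw [← hw]
              exact (orderOf_injective (MulAut.conj w).toMonoidHom (MulAut.conj w).injective g₀).trans hord⟩,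
            Subtype.ext ((ConjClasses.mk_eq_mk_iff_isConj.2 y.2).symm.trans hg₀)⟩
          left_inv := fun g => Subtype.ext (Subtype.ext rfl)
          right_inv := fun y => Subtype.ext rfl }
    rw [Finset.sum_congr rfl (fun c _ => this c), Finset.sum_const, Finset.card_univ,
      ← Nat.card_eq_fintype_card, smul_eq_mul]
  rw [hEcard] at hEX
  refine ⟨n, Nat.card X, rfl, ?_, hn, by rw [mul_comm, ← hEX]; ring⟩
  -- t divides p - 1
  have hN := CfsgLib.Perm.card_normalizer_mul_card_sylow S
  have hdvd : p ∣ Nat.card (Subgroup.normalizer ((S : Subgroup G) : Set G)) :=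
    hScard.symm.dvd.trans (Subgroup.card_dvd_of_le Subgroup.le_normalizer)
  obtain ⟨a, ha⟩ := hdvd
  rw [ha, hn] at hN
  rw [← hN] at hEX
  refine ⟨a, ?_⟩
  have hpos : 0 < (1 + n * p) * p := Nat.mul_pos (by omega) hp.pos
  refine Nat.eq_of_mul_eq_mul_right hpos ?_
  calc (p - 1) * ((1 + n * p) * p) = (p - 1) * (1 + n * p) * p := by ring
    _ = _ := by rw [hEX]; ring

end Cfsg.Agent.S0995
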