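import Cfsg.Statements.S1002
import Cfsg.Agent.Lib.Perm.PrimeOrderCount
import Cfsg.Agent.Lib.Char.CATheorem
import Mathlib.GroupTheory.PGroup
import Mathlib.Tactic

set_option autoImplicit false
open Cfsg

namespace Cfsg.Agent.S1002

open Subgroup

theorem divisor_cases {n a b : ℕ} (ha : a.Prime) (hb : b.Prime) (h : n ∣ 3 ^ 3 * a * b) :
    ∃ i j k, i ≤ 3 ∧ j ≤ 1 ∧ k ≤ 1 ∧ n = 3 ^ i * a ^ j * b ^ k := by
  obtain ⟨n₁, n₂, h1, h2, rfl⟩ := Nat.dvd_mul.1 h
  obtain ⟨m₁, m₂, h3, h4, rfl⟩ := Nat.dvd_mul.1 h1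
  obtain ⟨i, hi, rfl⟩ := (Nat.dvd_prime_pow Nat.prime_three).1 h3
  obtain ⟨j, hj, rfl⟩ := (Nat.dvd_prime_pow ha).1 (show m₂ ∣ a ^ 1 by rwa [pow_one])
  obtain ⟨k, hk, rfl⟩ := (Nat.dvd_prime_pow hb).1 (show n₂ ∣ b ^ 1 by rwa [pow_one])
  exact ⟨i, j, k, hi, hj, hk, rfl⟩

variable {G : Type*} [Group G] [Finite G]

theorem dvd_of_mem {H : Subgroup G} {x : G} (hx : x ∈ H) : orderOf x ∣ Nat.card H := by
  have := orderOf_dvd_natCard (⟨x, hx⟩ : H)
  rwa [Subgroup.orderOf_mk] at this

theorem sylow_seven [IsSimpleGroup G] (h : Nat.card G = 1004913) {q a : ℕ} [Fact q.Prime]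
    (hq : Nat.card G = q ^ 1 * a) (hqa : ¬ q ∣ a) (hN : q * 3 * Nat.card (Sylow q G) = 1004913) (P : Sylow q G) :
    Nat.card (P : Subgroup G) = q ∧ Nat.card (centralizer ((P : Subgroup G) : Set G)) = q := by
  have hP : Nat.card (P : Subgroup G) = q := by
    rw [CfsgLib.Perm.sylow_card_eq P hq hqa, pow_one]
  refine ⟨hP, ?_⟩
  have hNc : Nat.card (normalizer ((P : Subgroup G) : Set G)) = q * 3 := by
    have h1 := CfsgLib.Perm.card_normalizer_mul_card_sylow P
    rw [h, ← hN] at h1
    exact Nat.eq_of_mul_eq_mul_right Nat.card_pos h1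
  set C := centralizer ((P : Subgroup G) : Set G) with hC
  have hi := CfsgLib.Perm.relIndex_centralizer_dvd_div (P : Subgroup G) hP hNc
  have hdvd : q ∣ Nat.card G := hq ▸ dvd_mul_of_dvd_left (by rw [pow_one]) a
  have hne : ¬ IsPGroup q G := by
    intro hp
    obtain ⟨n, hn⟩ := IsPGroup.iff_card.1 hp
    rw [h] at hn
    have h3 : 3 ∣ q ^ n := hn ▸ by norm_num
    have h7 : 7 ∣ q ^ n := hn ▸ by norm_num
    have h3' := (Nat.prime_dvd_prime_iff_eq Nat.prime_three Fact.out).1 (Nat.prime_three.dvd_of_dvd_pow h3)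
    have h7' := (Nat.prime_dvd_prime_iff_eq (by norm_num) Fact.out).1 ((by norm_num : Nat.Prime 7).dvd_of_dvd_pow h7)
    omega
  have hi' : C.relIndex (normalizer ((P : Subgroup G) : Set G)) = 3 := by
    rcases (Nat.dvd_prime Nat.prime_three).1 hi with h1 | h1
    · exact absurd (relIndex_eq_one.1 h1) (CfsgLib.Perm.not_normalizer_le_centralizer P hdvd hne)
    · exact h1
  have hle : C ≤ normalizer ((P : Subgroup G) : Set G) := centralizer_le_normalizer _
  have := relIndex_mul_relIndex ⊥ C (normalizer ((P : Subgroup G) : Set G)) bot_le hle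
  rw [hi', relIndex_bot_left, relIndex_bot_left, hNc] at this
  omega

theorem order_eq (h : Nat.card G = 1004913) {x : G} (hx : x ≠ 1)
    (hq : ∀ q, q = 7 ∨ q = 13 ∨ q = 409 → ∀ g : G, orderOf g = q → Nat.card (centralizer ({g} : Set G)) = q)
    (hx7 : ¬ (orderOf x = 7 ∨ orderOf x = 13 ∨ orderOf x = 409)) :
    Nat.card (centralizer ({x} : Set G)) ∣ 27 := by
  have key : ∀ q, q = 7 ∨ q = 13 ∨ q = 409 → ¬ q ∣ Nat.card (centralizer ({x} : Set G)) := by
    intro q hq' hd
    have : Fact q.Prime := ⟨by rcases hq' with rfl | rfl | rfl <;> norm_num⟩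
    obtain ⟨y, hy⟩ := exists_prime_orderOf_dvd_card' (G := centralizer ({x} : Set G)) q hd
    have hy' : orderOf (y : G) = q := by rw [Subgroup.orderOf_coe, hy]
    have hxy : x ∈ centralizer ({(y : G)} : Set G) :=
      mem_centralizer_singleton_iff.2 (mem_centralizer_singleton_iff.1 y.2).symm
    have h1 : orderOf x ∣ q := by
      rw [← hq q hq' _ hy']
      exact dvd_of_mem hxy
    rcases (Nat.dvd_prime (Fact.out : q.Prime)).1 h1 with h2 | h2
    · exact hx (orderOf_eq_one_iff.1 h2)
    · exact hx7 (h2 ▸ hq')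
  have hd := Subgroup.card_subgroup_dvd_card (centralizer ({x} : Set G))
  rw [h, show (1004913 : ℕ) = 3 ^ 3 * 7 * (13 * 409) by norm_num] at hd
  have c7 := ((Nat.Prime.coprime_iff_not_dvd (by norm_num)).2 (key 7 (Or.inl rfl))).symm
  have c13 := ((Nat.Prime.coprime_iff_not_dvd (by norm_num)).2 (key 13 (Or.inr (Or.inl rfl)))).symm
  have c409 := ((Nat.Prime.coprime_iff_not_dvd (by norm_num)).2 (key 409 (Or.inr (Or.inr rfl)))).symm
  have h1 := (Nat.Coprime.mul_right c13 c409).dvd_of_dvd_mul_right hd
  exact c7.dvd_of_dvd_mul_right h1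

theorem eq_one_on_nine {D : Type*} [Group D] [Finite D] (hD : Nat.card D = 9) {q : ℕ} (hq : q = 7 ∨ q = 13 ∨ q = 409)
    (φ : MulAut D) (hφ : φ ^ q = 1) : φ = 1 := by
  classical
  have hqp : q.Prime := by rcases hq with rfl | rfl | rfl <;> norm_num
  have := Fact.mk hqp
  have hord : orderOf φ ∣ q ^ 1 := by rw [pow_one]; exact orderOf_dvd_of_pow_eq_one hφ
  obtain ⟨i, -, hi⟩ := (Nat.dvd_prime_pow hqp).1 hord
  have hgrp : IsPGroup q (zpowers φ) := IsPGroup.of_card (by rw [Nat.card_zpowers, hi])
  have hmod := hgrp.card_modEq_card_fixedPoints (α := D)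
  let K : Subgroup D := MonoidHom.eqLocus φ.toMonoidHom (MonoidHom.id D)
  have hK : ∀ x : D, x ∈ MulAction.fixedPoints (zpowers φ) D ↔ x ∈ K := by
    intro x
    constructor
    · intro h
      exact h ⟨φ, mem_zpowers φ⟩
    · intro h
      rintro ⟨ψ, hψ⟩
      have h' : zpowers φ ≤ MulAction.stabilizer (MulAut D) x :=
        zpowers_le.2 (MulAction.mem_stabilizer_iff.2 h)
      exact h' hψ
  rw [Nat.card_congr (Equiv.subtypeEquivRight hK), hD] at hmod
  have hdvd : Nat.card K ∣ 3 ^ 2 := by
    have := K.card_subgroup_dvd_card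
    rwa [hD] at this
  obtain ⟨j, hj2, hj⟩ := (Nat.dvd_prime_pow Nat.prime_three).1 hdvd
  rw [hj] at hmod
  interval_cases j
  · rcases hq with rfl | rfl | rfl <;> simp [Nat.ModEq] at hmod
  · rcases hq with rfl | rfl | rfl <;> simp [Nat.ModEq] at hmod
  · have ht : K = ⊤ := eq_top_of_card_eq _ (by rw [hj, hD]; norm_num)
    apply MulEquiv.ext
    intro x
    exact (ht ▸ mem_top x : x ∈ K)

/-- No finite simple group has order 1004913 = 3^3 * 7 * 13 * 409. -/
theorem result {G : Type*} [Group G] [Finite G] [IsSimpleGroup G] : Nat.card G ≠ 1004913 := by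
  classical
  intro h
  have hnc : ¬ IsMulCommutative G := CfsgLib.Perm.not_comm_of_not_prime (by rw [h]; norm_num)
  have hodd : Odd (Nat.card G) := by rw [h]; exact ⟨502456, by norm_num⟩
  have : Fact (Nat.Prime 409) := ⟨by norm_num⟩
  have : Fact (Nat.Prime 13) := ⟨by norm_num⟩
  have : Fact (Nat.Prime 7) := ⟨by norm_num⟩
  have h409 : Nat.card G = 409 ^ 1 * 2457 := by rw [h]; norm_num
  have h13 : Nat.card G = 13 ^ 1 * 77301 := by rw [h]; norm_num
  have h7 : Nat.card G = 7 ^ 1 * 143559 := by rw [h]; norm_num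
  have hd409 : 409 ∣ Nat.card G := by rw [h]; norm_num
  have hn409 : Nat.card (Sylow 409 G) = 819 := by
    have h1 := CfsgLib.Perm.card_sylow_dvd_of_card_eq h409
    have h2 := CfsgLib.Perm.card_sylow_ne_one hd409
      (CfsgLib.Perm.not_isPGroup_of_dvd (q := 7) (by norm_num) (by norm_num) (by rw [h]; norm_num))
    have h3 := card_sylow_modEq_one 409 G
    obtain ⟨i, j, k, hi, hj, hk, e⟩ := divisor_cases (a := 7) (b := 13) (by norm_num) (by norm_num)
      (show _ ∣ 3 ^ 3 * 7 * 13 by norm_num; exact h1)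
    rw [e, Nat.ModEq] at h3
    rw [e] at h2 ⊢
    interval_cases i <;> interval_cases j <;> interval_cases k <;>
      first | (norm_num at h3; done) | (norm_num at h2; done) | norm_num
  have hn13 : Nat.card (Sylow 13 G) = 25767 := by
    have h1 := CfsgLib.Perm.card_sylow_dvd_of_card_eq h13
    have h2 := CfsgLib.Perm.card_sylow_ne_one (p := 13) (G := G) (by rw [h]; norm_num)
      (CfsgLib.Perm.not_isPGroup_of_dvd (q := 7) (by norm_num) (by norm_num) (by rw [h]; norm_num))
    have h3 := card_sylow_modEq_one 13 G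
    have h4 : Nat.card (Sylow 13 G) ≠ 27 := by
      intro h4
      obtain ⟨P⟩ := (inferInstance : Nonempty (Sylow 13 G))
      have hidx : (normalizer ((P : Subgroup G) : Set G)).index = 27 :=
        P.card_eq_index_normalizer.symm.trans h4
      have := CfsgLib.Perm.two_mul_card_dvd_factorial_index hnc (normalizer ((P : Subgroup G) : Set G))
        (fun e => by rw [e, index_top] at hidx; omega)
      rw [hidx] at this
      have h5 : 409 ∣ Nat.factorial 27 := (hd409.trans (dvd_mul_left _ 2)).trans this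
      have := (Nat.Prime.dvd_factorial (by norm_num : Nat.Prime 409)).1 h5
      omega
    obtain ⟨i, j, k, hi, hj, hk, e⟩ := divisor_cases (a := 7) (b := 409) (by norm_num) (by norm_num)
      (show _ ∣ 3 ^ 3 * 7 * 409 by norm_num; exact h1)
    rw [e, Nat.ModEq] at h3
    rw [e] at h2 h4 ⊢
    interval_cases i <;> interval_cases j <;> interval_cases k <;>
      first | (norm_num at h3; done) | (norm_num at h2; done) | (norm_num at h4; done) | norm_num
  have hn7 : Nat.card (Sylow 7 G) = 47853 := by
    have h1 := CfsgLib.Perm.card_sylow_dvd_of_card_eq h7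
    have hne := CfsgLib.Perm.not_isPGroup_of_dvd (G := G) (p := 7) (q := 13) (by norm_num) (by norm_num) (by rw [h]; norm_num)
    have h2 := CfsgLib.Perm.card_sylow_ne_one (p := 7) (G := G) (by rw [h]; norm_num) hne
    have h3 := card_sylow_modEq_one 7 G
    have h4 : Nat.card (Sylow 7 G) ≠ 351 := by
      intro h4
      obtain ⟨P⟩ := (inferInstance : Nonempty (Sylow 7 G))
      have hN := CfsgLib.Perm.card_normalizer_mul_card_sylow P
      rw [h4, h] at hN
      exact CfsgLib.Perm.false_of_normalizer_coprime P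
        (by rw [CfsgLib.Perm.sylow_card_eq P h7 (by norm_num), pow_one]) hne (a := 409) (by omega) (by norm_num)
    obtain ⟨i, j, k, hi, hj, hk, e⟩ := divisor_cases (a := 13) (b := 409) (by norm_num) (by norm_num)
      (show _ ∣ 3 ^ 3 * 13 * 409 by norm_num; exact h1)
    rw [e, Nat.ModEq] at h3
    rw [e] at h2 h4 ⊢
    interval_cases i <;> interval_cases j <;> interval_cases k <;>
      first | (norm_num at h3; done) | (norm_num at h2; done) | (norm_num at h4; done) | norm_num
  have P409 : Sylow 409 G := default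
  have P13 : Sylow 13 G := default
  have P7 : Sylow 7 G := default
  have s409 := sylow_seven (q := 409) h h409 (by norm_num) (by rw [hn409])
  have s13 := sylow_seven (q := 13) h h13 (by norm_num) (by rw [hn13])
  have s7 := sylow_seven (q := 7) h h7 (by norm_num) (by rw [hn7])
  have hcent : ∀ q, q = 7 ∨ q = 13 ∨ q = 409 → ∀ g : G, orderOf g = q →
      Nat.card (centralizer ({g} : Set G)) = q := by
    intro q hq g hg
    rcases hq with rfl | rfl | rfl
    · exact CfsgLib.Perm.card_centralizer_of_sylow (fun Q => (s7 Q).2) P7 (s7 P7).1 hg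
    · exact CfsgLib.Perm.card_centralizer_of_sylow (fun Q => (s13 Q).2) P13 (s13 P13).1 hg
    · exact CfsgLib.Perm.card_centralizer_of_sylow (fun Q => (s409 Q).2) P409 (s409 P409).1 hg
  let _ := Fintype.ofFinite G
  set B := Finset.univ.filter (fun x : G => x ≠ 1 ∧ ¬ (orderOf x = 7 ∨ orderOf x = 13 ∨ orderOf x = 409)) with hB
  have hBcard : B.card = 74438 := by
    have c7 := CfsgLib.Perm.card_orderOf_eq_prime P7 (s7 P7).1
    have c13 := CfsgLib.Perm.card_orderOf_eq_prime P13 (s13 P13).1
    have c409 := CfsgLib.Perm.card_orderOf_eq_prime P409 (s409 P409).1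
    rw [hn7] at c7
    rw [hn13] at c13
    rw [hn409] at c409
    rw [Nat.card_eq_fintype_card, Fintype.card_subtype] at c7 c13 c409
    have hsplit : (Finset.univ : Finset G) = {1} ∪ (Finset.univ.filter (fun x : G => orderOf x = 7) ∪
        (Finset.univ.filter (fun x : G => orderOf x = 13) ∪
          (Finset.univ.filter (fun x : G => orderOf x = 409) ∪ B))) := by
      ext x
      simp only [hB, Finset.mem_union, Finset.mem_singleton, Finset.mem_filter, Finset.mem_univ, true_and]
      by_cases e1 : x = 1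
      · exact iff_of_true trivial (Or.inl e1)
      by_cases e7 : orderOf x = 7
      · exact iff_of_true trivial (Or.inr (Or.inl e7))
      by_cases e13 : orderOf x = 13
      · exact iff_of_true trivial (Or.inr (Or.inr (Or.inl e13)))
      by_cases e409 : orderOf x = 409
      · exact iff_of_true trivial (Or.inr (Or.inr (Or.inr (Or.inl e409))))
      · exact iff_of_true trivial (Or.inr (Or.inr (Or.inr (Or.inr ⟨e1, by
          rintro (e | e | e)
          exacts [e7 e, e13 e, e409 e]⟩))))
    have hc := congrArg Finset.card hsplit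
    rw [Finset.card_univ, ← Nat.card_eq_fintype_card, h, Finset.card_union_of_disjoint,
      Finset.card_union_of_disjoint, Finset.card_union_of_disjoint, Finset.card_union_of_disjoint,
      Finset.card_singleton, c7, c13, c409] at hc
    · omega
    all_goals
      rw [Finset.disjoint_left]
      intro x hx hx'
      simp only [hB, Finset.mem_union, Finset.mem_singleton, Finset.mem_filter, Finset.mem_univ, true_and] at hx hx'
      first
        | (subst hx; simp [orderOf_one] at hx'; done)
        | omega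
  have hBmem : ∀ {x}, x ∈ B ↔ x ≠ 1 ∧ ¬ (orderOf x = 7 ∨ orderOf x = 13 ∨ orderOf x = 409) := by
    intro x; simp [hB]
  have hconjB : ∀ {x y}, x ∈ B → IsConj x y → y ∈ B := by
    intro x y hx hxy
    obtain ⟨c, rfl⟩ := isConj_iff.1 hxy
    rw [hBmem] at hx ⊢
    rw [CfsgLib.Perm.orderOf_conj_eq]
    exact ⟨fun e => hx.1 (conj_eq_one_iff.1 e), hx.2⟩
  have hcl : ∀ x ∈ B, 37219 ≤ (Finset.univ.filter (IsConj x)).card := by
    intro x hx
    have h1 := CfsgLib.Perm.card_isConj_mul_card_centralizer x
    have h2 := Nat.le_of_dvd (by norm_num) (order_eq h (hBmem.1 hx).1 hcent (hBmem.1 hx).2)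
    have := Nat.mul_le_mul_left (Nat.card {y : G // IsConj x y}) h2
    rw [h1, h] at this
    have h5 : 37219 ≤ Nat.card {y : G // IsConj x y} := by omega
    rw [Nat.card_eq_fintype_card, Fintype.card_subtype] at h5
    convert h5 using 2
  -- a central element of a Sylow subgroup
  have : Fact (Nat.Prime 3) := ⟨Nat.prime_three⟩
  have S : Sylow 3 G := default
  have hS : Nat.card (S : Subgroup G) = 27 := by
    rw [CfsgLib.Perm.sylow_card_eq S (show Nat.card G = 3 ^ 3 * 37219 by rw [h]; norm_num) (by norm_num)]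
    norm_num
  have : Nontrivial (S : Subgroup G) := Finite.one_lt_card_iff_nontrivial.1 (by rw [hS]; norm_num)
  obtain ⟨⟨⟨z, hzS⟩, hzc⟩, hz1⟩ := (nontrivial_iff_exists_ne_one _).1 S.isPGroup'.center_nontrivial |>.imp
    (fun a ha => ha) |> fun ⟨a, ha⟩ => (⟨⟨a, ha.1⟩, ha.2⟩ : ∃ a : center (S : Subgroup G), (a : (S : Subgroup G)) ≠ 1)
  have hz : z ≠ 1 := fun e => hz1 (Subtype.ext e)
  have hzdvd : orderOf z ∣ 27 := by
    rw [← hS]
    exact dvd_of_mem hzS
  have hzB : z ∈ B := hBmem.2 ⟨hz, by rintro (e | e | e) <;> rw [e] at hzdvd <;> norm_num at hzdvd⟩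
  have hzC : Nat.card (centralizer ({z} : Set G)) = 27 := by
    refine Nat.dvd_antisymm (order_eq h hz hcent (hBmem.1 hzB).2) (hS ▸ card_dvd_of_le ?_)
    intro y hy
    exact mem_centralizer_singleton_iff.2 (congrArg Subtype.val (mem_center_iff.1 hzc ⟨y, hy⟩))
  have hinv : ¬ IsConj z z⁻¹ := by
    intro e
    obtain ⟨c, hc⟩ := isConj_iff.1 e
    have h2 : c ^ 2 ∈ centralizer ({z} : Set G) := by
      rw [mem_centralizer_singleton_iff]
      have h3 : c * z⁻¹ * c⁻¹ = z := by rw [← conj_inv, hc, inv_inv]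
      calc c ^ 2 * z = c * (c * z * c⁻¹) * c⁻¹ * c ^ 2 := by rw [sq]; group
        _ = z * c ^ 2 := by rw [hc, h3]
    have hcmem : c ∈ centralizer ({z} : Set G) := by
      obtain ⟨k, hk⟩ := hodd
      have : c = (c ^ 2) ^ (k + 1) := by
        rw [← pow_mul, show 2 * (k + 1) = Nat.card G + 1 by omega, pow_succ, pow_card_eq_one', one_mul]
      rw [this]
      exact pow_mem h2 _
    rw [mem_centralizer_singleton_iff] at hcmem
    rw [hcmem, mul_inv_cancel_right] at hc
    have : orderOf z ∣ 2 := orderOf_dvd_of_pow_eq_one (by rw [sq]; exact mul_eq_one_iff_eq_inv.2 hc)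
    have h3 : orderOf z ∣ Nat.gcd 2 27 := Nat.dvd_gcd this hzdvd
    exact hz (orderOf_eq_one_iff.1 (Nat.dvd_one.1 h3))
  have hzB' : z⁻¹ ∈ B := by rw [hBmem, inv_ne_one, orderOf_inv]; exact hBmem.1 hzB
  have hall : ∀ x ∈ B, Nat.card (centralizer ({x} : Set G)) = 27 := by
    intro x hx
    have hcases : IsConj z x ∨ IsConj z⁻¹ x := by
      by_contra hno
      push Not at hno
      have hsub : Finset.univ.filter (IsConj z) ∪ Finset.univ.filter (IsConj z⁻¹) ∪
          Finset.univ.filter (IsConj x) ⊆ B := by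
        intro y hy
        simp only [Finset.mem_union, Finset.mem_filter, Finset.mem_univ, true_and] at hy
        rcases hy with (hy | hy) | hy
        exacts [hconjB hzB hy, hconjB hzB' hy, hconjB hx hy]
      have hle := Finset.card_le_card hsub
      rw [Finset.card_union_of_disjoint, Finset.card_union_of_disjoint, hBcard] at hle
      · have := hcl z hzB
        have := hcl z⁻¹ hzB'
        have := hcl x hx
        omega
      all_goals
        rw [Finset.disjoint_left]
        intro y hy hy'
        simp only [Finset.mem_union, Finset.mem_filter, Finset.mem_univ, true_and] at hy hy'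
      · exact hinv (hy.trans hy'.symm)
      · rcases hy with hy | hy
        exacts [hno.1 (hy.trans hy'.symm), hno.2 (hy.trans hy'.symm)]
    have e1 := CfsgLib.Perm.card_isConj_mul_card_centralizer x
    rcases hcases with hc | hc
    · have e2 := CfsgLib.Perm.card_isConj_mul_card_centralizer z
      rw [Nat.card_congr (Equiv.subtypeEquivRight fun y => (⟨hc.symm.trans, hc.trans⟩ : IsConj z y ↔ IsConj x y)),
        hzC, ← e1] at e2
      exact Nat.eq_of_mul_eq_mul_left (Nat.card_pos_iff.2 ⟨⟨⟨x, IsConj.refl x⟩⟩, inferInstance⟩) e2.symm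
    · have e2 := CfsgLib.Perm.card_isConj_mul_card_centralizer z⁻¹
      rw [Nat.card_congr (Equiv.subtypeEquivRight fun y => (⟨hc.symm.trans, hc.trans⟩ : IsConj z⁻¹ y ↔ IsConj x y)),
        ← e1] at e2
      have e3 : Nat.card (centralizer ({z⁻¹} : Set G)) = 27 := by
        rw [← hzC]
        congr 2
        ext y
        simp only [mem_centralizer_singleton_iff]
        exact Commute.inv_right_iff
      rw [e3] at e2
      exact Nat.eq_of_mul_eq_mul_left (Nat.card_pos_iff.2 ⟨⟨⟨x, IsConj.refl x⟩⟩, inferInstance⟩) e2.symm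
  -- all centralisers are abelian
  have hCA : ∀ x : G, x ≠ 1 → ∀ a ∈ centralizer ({x} : Set G),
      ∀ b ∈ centralizer ({x} : Set G), a * b = b * a := by
    intro x hx a ha b hb
    by_cases hxq : orderOf x = 7 ∨ orderOf x = 13 ∨ orderOf x = 409
    · have hc := hcent _ hxq x rfl
      have : Fact (orderOf x).Prime := ⟨by rcases hxq with e | e | e <;> rw [e] <;> norm_num⟩
      have := isCyclic_of_prime_card hc
      let _ : CommGroup (centralizer ({x} : Set G)) := IsCyclic.commGroup
      exact congrArg Subtype.val (mul_comm (⟨a, ha⟩ : centralizer ({x} : Set G)) ⟨b, hb⟩)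
    set T := centralizer ({x} : Set G) with hT
    have hT27 : Nat.card T = 27 := hall x (hBmem.2 ⟨hx, hxq⟩)
    by_contra hab
    have ha1 : a ≠ 1 := fun e => hab (by rw [e, one_mul, mul_one])
    have haB : a ∈ B := by
      refine hBmem.2 ⟨ha1, ?_⟩
      have : orderOf a ∣ 27 := by
        rw [← hT27]
        exact dvd_of_mem ha
      rintro (e | e | e) <;> rw [e] at this <;> norm_num at this
    set U := centralizer ({a} : Set G) with hU
    have hU27 : Nat.card U = 27 := hall a haB
    set D := T ⊓ U with hD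
    have haD : a ∈ D := ⟨ha, mem_centralizer_singleton_iff.2 rfl⟩
    have hxD : x ∈ D := ⟨mem_centralizer_singleton_iff.2 rfl,
      mem_centralizer_singleton_iff.2 (mem_centralizer_singleton_iff.1 ha).symm⟩
    have hne : D ≠ T := fun e => hab (by
      have : b ∈ U := (e ▸ hb : b ∈ D).2
      exact (mem_centralizer_singleton_iff.1 this).symm)
    have hDdvd : Nat.card D ∣ 3 ^ 3 := by
      have := card_dvd_of_le (inf_le_left : D ≤ T)
      rwa [hT27] at this
    obtain ⟨i, hi, hDi⟩ := (Nat.dvd_prime_pow Nat.prime_three).1 hDdvd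
    have hD9 : Nat.card D = 9 := by
      interval_cases i
      · exact absurd (Subgroup.card_eq_one.1 hDi ▸ haD : a ∈ (⊥ : Subgroup G)) ha1
      · exfalso
        have hDx : D = zpowers x := by
          refine (eq_of_le_of_card_ge (zpowers_le.2 hxD) ?_).symm
          rw [hDi, Nat.card_zpowers]
          have := orderOf_ne_zero_iff.2 (isOfFinOrder_of_finite x)
          have h1 : orderOf x ≠ 1 := fun e => hx (orderOf_eq_one_iff.1 e)
          have h3 : orderOf x ∣ 3 ^ 1 := by
            rw [← hDi]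
            exact dvd_of_mem hxD
          rw [pow_one] at h3
          rcases (Nat.dvd_prime Nat.prime_three).1 h3 with h4 | h4 <;> omega
        obtain ⟨n, rfl⟩ := (hDx ▸ haD : a ∈ zpowers x)
        exact hab ((show Commute x b from (mem_centralizer_singleton_iff.1 hb).symm).zpow_left n).eq
      · exact hDi
      · exact absurd (eq_of_le_of_card_ge inf_le_left (by rw [hT27, hDi]; norm_num)) hne
    have hnormal : ∀ V : Subgroup G, Nat.card V = 27 → D ≤ V → V ≤ normalizer (D : Set G) := by
      intro V hV hle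
      have h3 : (D.subgroupOf V).Normal := by
        refine Subgroup.normal_of_index_eq_minFac_card (H := D.subgroupOf V) ?_
        have := index_mul_card (D.subgroupOf V)
        rw [Nat.card_congr (subgroupOfEquivOfLe hle).toEquiv, hD9, hV] at this
        rw [hV, show (27 : ℕ).minFac = 3 by norm_num]
        omega
      exact (normal_subgroupOf_iff_le_normalizer hle).1 h3
    set N := normalizer (D : Set G) with hN
    have hNp : ∀ q, q = 7 ∨ q = 13 ∨ q = 409 → ¬ q ∣ Nat.card N := by
      intro q hq hd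
      have : Fact q.Prime := ⟨by rcases hq with rfl | rfl | rfl <;> norm_num⟩
      obtain ⟨g, hg⟩ := exists_prime_orderOf_dvd_card' (G := N) q hd
      have h1 : D.normalizerMonoidHom g = 1 := eq_one_on_nine hD9 hq _ (by
        rw [← map_pow, orderOf_dvd_iff_pow_eq_one.1 hg.dvd, map_one])
      have hk : g ∈ D.normalizerMonoidHom.ker := h1
      rw [normalizerMonoidHom_ker, mem_subgroupOf] at hk
      have hgx : (g : G) ∈ centralizer ({x} : Set G) := centralizer_le (Set.singleton_subset_iff.2 hxD) hk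
      have : q ∣ 27 := by
        rw [← hT27, ← hg, ← Subgroup.orderOf_coe]
        exact dvd_of_mem hgx
      rcases hq with rfl | rfl | rfl <;> norm_num at this
    have hNd : Nat.card N ∣ 27 := by
      have hd := Subgroup.card_subgroup_dvd_card N
      rw [h, show (1004913 : ℕ) = 3 ^ 3 * 7 * (13 * 409) by norm_num] at hd
      exact ((Nat.Prime.coprime_iff_not_dvd (by norm_num)).2 (hNp 7 (Or.inl rfl))).symm.dvd_of_dvd_mul_right
        ((Nat.Coprime.mul_right ((Nat.Prime.coprime_iff_not_dvd (by norm_num)).2 (hNp 13 (Or.inr (Or.inl rfl)))).symm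
          ((Nat.Prime.coprime_iff_not_dvd (by norm_num)).2 (hNp 409 (Or.inr (Or.inr rfl)))).symm).dvd_of_dvd_mul_right hd)
    have hle := Nat.le_of_dvd (by norm_num) hNd
    have eT : T = N := eq_of_le_of_card_ge (hnormal T hT27 inf_le_left) (by omega)
    have eU : U = N := eq_of_le_of_card_ge (hnormal U hU27 inf_le_right) (by omega)
    exact hne (by rw [hD, eT, eU, inf_idem])
  have hperf : commutator G = ⊤ := by
    rcases (Subgroup.commutator_normal ⊤ ⊤ : (commutator G).Normal).eq_bot_or_eq_top with e | e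
    · refine absurd ⟨⟨fun a b => ?_⟩⟩ hnc
      exact (mem_center_iff.1 (((commutator_eq_bot_iff_center_eq_top G).1 e).symm ▸ mem_top a) b).symm
    · exact e
  have := CfsgLib.CA.subsingleton_of_perfect hperf hodd hCA
  have := IsSimpleGroup.toNontrivial (G := G)
  exact not_subsingleton G ‹_›

end Cfsg.Agent.S1002
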