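import Cfsg.Statements.S1006
import Cfsg.Agent.Lib.Perm.Simple168Max

set_option autoImplicit false
open Cfsg

namespace Cfsg.Agent.S1006

/-- In a simple group of order 168 there are 56 elements of order 3, all conjugate; 42 elements of order 4, all conjugate; and 48 elements of order 7 falling into two conjugacy classes of size 24, an element of order 7 not being conjugate to its inverse. -/
theorem result {G : Type*} [Group G] [Finite G] [IsSimpleGroup G] (h : Nat.card G = 168) : Nat.card {g : G // orderOf g = 3} = 56 ∧ (∀ s t : G, orderOf s = 3 → orderOf t = 3 → IsConj s t) ∧ Nat.card {g : G // orderOf g = 4} = 42 ∧ (∀ s t : G, orderOf s = 4 → orderOf t = 4 → IsConj s t) ∧ Nat.card {g : G // orderOf g = 7} = 48 ∧ ∀ x : G, orderOf x = 7 → Nat.card {g : G // IsConj x g} = 24 ∧ ¬ IsConj x x⁻¹ := by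
  have : Fact (Nat.Prime 2) := ⟨Nat.prime_two⟩
  have : Fact (Nat.Prime 3) := ⟨Nat.prime_three⟩
  have : Fact (Nat.Prime 7) := ⟨by norm_num⟩
  classical
  refine ⟨CfsgLib.Perm.Simple168.card_orderOf_three h, ?_, CfsgLib.Perm.Simple168.card_orderOf_four h,
    ?_, CfsgLib.Perm.Simple168.card_orderOf_seven h, ?_⟩
  · -- the class of an element of order three has all 56 of them
    intro s t hs ht
    have hc := CfsgLib.Perm.Simple168.card_centralizer_of_orderOf_three h hs
    have h1 := CfsgLib.Perm.card_isConj_mul_card_centralizer s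
    rw [hc, h] at h1
    let f : {g : G // IsConj s g} → {g : G // orderOf g = 3} := fun g => ⟨g.1, by
      obtain ⟨c, hcg⟩ := isConj_iff.1 g.2
      rw [← hcg, CfsgLib.Perm.orderOf_conj_eq, hs]⟩
    have hf : Function.Injective f := fun a b hab => Subtype.ext (congrArg (fun x : {g : G // orderOf g = 3} => x.1) hab)
    have hbij := (Nat.bijective_iff_injective_and_card f).2
      ⟨hf, by rw [CfsgLib.Perm.Simple168.card_orderOf_three h]; omega⟩
    obtain ⟨g, hg⟩ := hbij.2 ⟨t, ht⟩
    have : g.1 = t := congrArg Subtype.val hg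
    exact this ▸ g.2
  · -- and so does an element of order four with its 42
    intro s t hs ht
    have key : ∀ u : G, orderOf u = 4 → Nat.card (Subgroup.centralizer ({u} : Set G)) ≤ 4 := by
      intro u hu
      obtain ⟨T, huT⟩ := CfsgLib.Perm.Simple168.mem_two_sylow h (Or.inr hu)
      obtain ⟨z, hzT, -, hz, -, hz4⟩ := CfsgLib.Perm.Simple168.exists_center h T
      have hle : Subgroup.centralizer ({u} : Set G) ≤ (T : Subgroup G) := by
        intro x hx
        rw [← hz, Subgroup.mem_centralizer_singleton_iff, ← hz4 u huT hu]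
        exact ((show Commute x u from Subgroup.mem_centralizer_singleton_iff.1 hx).pow_right 2).eq
      obtain ⟨e⟩ := CfsgLib.Perm.Simple168.two_dihedral h T
      have d : ∀ w : DihedralGroup 4, w ^ 2 ≠ 1 →
          Fintype.card {x : DihedralGroup 4 // x * w = w * x} ≤ 4 := by decide
      have hw : (e ⟨u, huT⟩) ^ 2 ≠ 1 := by
        intro h2
        have h2' : (⟨u, huT⟩ : (T : Subgroup G)) ^ 2 = 1 := e.injective (by rw [map_pow, h2, map_one])
        have := orderOf_dvd_of_pow_eq_one (congrArg Subtype.val h2' : u ^ 2 = 1)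
        rw [hu] at this
        norm_num at this
      refine le_trans ?_ (d _ hw)
      rw [← Nat.card_eq_fintype_card]
      refine Nat.card_le_card_of_injective
        (fun x => ⟨e ⟨x.1, hle x.2⟩, ?_⟩) ?_
      · rw [← map_mul, ← map_mul]
        exact congrArg e (Subtype.ext (Subgroup.mem_centralizer_singleton_iff.1 x.2))
      · intro a b hab
        exact Subtype.ext (congrArg Subtype.val (e.injective (congrArg Subtype.val hab)) :)
    have hc := key s hs
    have h1 := CfsgLib.Perm.card_isConj_mul_card_centralizer s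
    rw [h] at h1
    let f : {g : G // IsConj s g} → {g : G // orderOf g = 4} := fun g => ⟨g.1, by
      obtain ⟨c, hcg⟩ := isConj_iff.1 g.2
      rw [← hcg, CfsgLib.Perm.orderOf_conj_eq, hs]⟩
    have hf : Function.Injective f := fun a b hab => Subtype.ext (congrArg (fun x : {g : G // orderOf g = 4} => x.1) hab)
    have hle := Nat.card_le_card_of_injective f hf
    have hge : 42 ≤ Nat.card {g : G // IsConj s g} := by
      have := Nat.mul_le_mul (le_refl (Nat.card {g : G // IsConj s g})) hc
      omega
    have hbij := (Nat.bijective_iff_injective_and_card f).2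
      ⟨hf, by rw [CfsgLib.Perm.Simple168.card_orderOf_four h] at hle ⊢; omega⟩
    obtain ⟨g, hg⟩ := hbij.2 ⟨t, ht⟩
    have : g.1 = t := congrArg Subtype.val hg
    exact this ▸ g.2
  · intro x hx
    have hc := CfsgLib.Perm.Simple168.card_centralizer_of_orderOf_seven h hx
    constructor
    · have h1 := CfsgLib.Perm.card_isConj_mul_card_centralizer x
      rw [hc, h] at h1
      omega
    · intro hconj
      obtain ⟨c, hcx⟩ := isConj_iff.1 hconj
      -- c normalises the Sylow subgroup of x, whose normaliser has odd order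
      obtain ⟨P, hP⟩ := CfsgLib.Perm.exists_mem_sylow_of_orderOf (p := 7) (k := 1) (g := x) (by rw [hx]; rfl)
      have hPc := CfsgLib.Perm.Simple168.card_sylow_seven_subgroup h P
      have hx1 : x ≠ 1 := fun h0 => by rw [h0, orderOf_one] at hx; omega
      have hgen := (CfsgLib.Perm.eq_zpowers_of_mem_sylow P hPc hP hx1).2
      have hcN : c ∈ Subgroup.normalizer ((P : Subgroup G) : Set G) := by
        rw [Subgroup.mem_normalizer_iff_map_conj_eq, hgen, MonoidHom.map_zpowers]
        show Subgroup.zpowers (c * x * c⁻¹) = _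
        rw [hcx, Subgroup.zpowers_inv]
      have hd := Subgroup.orderOf_dvd_natCard _ hcN
      rw [CfsgLib.Perm.Simple168.card_normalizer_seven h P] at hd
      have h21 : c ^ 21 = 1 := orderOf_dvd_iff_pow_eq_one.1 hd
      have hiter : ∀ n : ℕ, c ^ n * x * (c ^ n)⁻¹ = x ^ ((-1 : ℤ) ^ n) := by
        intro n
        induction n with
        | zero => simp
        | succ n ih =>
          calc c ^ (n + 1) * x * (c ^ (n + 1))⁻¹ = c * (c ^ n * x * (c ^ n)⁻¹) * c⁻¹ := by
                rw [pow_succ']; group
            _ = c * x ^ ((-1 : ℤ) ^ n) * c⁻¹ := by rw [ih]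
            _ = (c * x * c⁻¹) ^ ((-1 : ℤ) ^ n) := (conj_zpow).symm
            _ = x ^ ((-1 : ℤ) ^ (n + 1)) := by rw [hcx, inv_zpow', pow_succ]; ring_nf
      have := hiter 21
      rw [h21, one_mul, inv_one, mul_one, show ((-1 : ℤ) ^ 21) = -1 by norm_num, zpow_neg_one] at this
      have h2 : x ^ 2 = 1 := by rw [pow_two]; exact mul_eq_one_iff_eq_inv.2 this
      have := orderOf_dvd_of_pow_eq_one h2
      rw [hx] at this
      norm_num at this

end Cfsg.Agent.S1006
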