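import Cfsg.Statements.S1007
import Cfsg.Agent.Lib.Perm.Simple168Max

set_option autoImplicit false
open Cfsg

namespace Cfsg.Agent.S1007

/-- Let G be a simple group of order 168 and T a Sylow 2-subgroup. Then T contains exactly two subgroups that are Klein four-groups; they are not conjugate in G; and the normalizer of every Klein four-subgroup of G is isomorphic to the symmetric group of degree 4. -/
theorem result {G : Type*} [Group G] [Finite G] [IsSimpleGroup G] (h : Nat.card G = 168) (T : Sylow 2 G) : Nat.card {U : Subgroup G // U ≤ (T : Subgroup G) ∧ IsKleinFour ↥U} = 2 ∧ (∀ U W : Subgroup G, U ≤ (T : Subgroup G) → W ≤ (T : Subgroup G) → IsKleinFour ↥U → IsKleinFour ↥W → U ≠ W → ∀ g : G, U.map (MulAut.conj g).toMonoidHom ≠ W) ∧ ∀ U : Subgroup G, IsKleinFour ↥U → Nonempty (↥(Subgroup.normalizer (U : Set G)) ≃* Equiv.Perm (Fin 4)) := by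
  classical
  obtain ⟨U, W, hne, hUT, hWT, hU, hW, hall⟩ := CfsgLib.Perm.Simple168.exists_two_klein h T
  refine ⟨?_, fun A B hA hB hA' hB' hAB g =>
    CfsgLib.Perm.Simple168.klein_not_conj h T hA' hB' hA hB hAB g, fun V hV =>
    CfsgLib.Perm.Simple168.nonempty_equiv_of_card h (CfsgLib.Perm.Simple168.card_normalizer_klein h hV)⟩
  let e : {V : Subgroup G // V ≤ (T : Subgroup G) ∧ IsKleinFour ↥V} ≃ ({U, W} : Finset (Subgroup G)) :=
  { toFun := fun V => ⟨V.1, by
      rcases hall V.1 V.2.1 V.2.2 with h' | h' <;> simp [h']⟩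
    invFun := fun V => ⟨V.1, by
      have := V.2
      simp only [Finset.mem_insert, Finset.mem_singleton] at this
      rcases this with h' | h' <;> rw [h']
      · exact ⟨hUT, hU⟩
      · exact ⟨hWT, hW⟩⟩
    left_inv := fun V => rfl
    right_inv := fun V => rfl }
  rw [Nat.card_congr e, Nat.card_eq_fintype_card, Fintype.card_coe, Finset.card_pair hne]

end Cfsg.Agent.S1007
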