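import Cfsg.Statements.S1008
import Cfsg.Agent.Lib.Perm.Simple168Max

set_option autoImplicit false
open Cfsg

namespace Cfsg.Agent.S1008

/-- In a simple group of order 168 every maximal subgroup is either isomorphic to the symmetric group of degree 4 or non-abelian of order 21; the maximal subgroups of order 21 form one conjugacy class and those isomorphic to the symmetric group of degree 4 form exactly two conjugacy classes. -/
theorem result {G : Type*} [Group G] [Finite G] [IsSimpleGroup G] (h : Nat.card G = 168) : (∀ M : Subgroup G, IsCoatom M → Nonempty (↥M ≃* Equiv.Perm (Fin 4)) ∨ (Nat.card ↥M = 21 ∧ ¬ IsMulCommutative ↥M)) ∧ (∀ M M' : Subgroup G, IsCoatom M → IsCoatom M' → Nat.card ↥M = 21 → Nat.card ↥M' = 21 → ∃ g : G, M' = M.map (MulAut.conj g).toMonoidHom) ∧ ∃ M₁ M₂ : Subgroup G, IsCoatom M₁ ∧ IsCoatom M₂ ∧ Nonempty (↥M₁ ≃* Equiv.Perm (Fin 4)) ∧ Nonempty (↥M₂ ≃* Equiv.Perm (Fin 4)) ∧ (∀ g : G, M₂ ≠ M₁.map (MulAut.conj g).toMonoidHom) ∧ ∀ M : Subgroup G, IsCoatom M → Nonempty (↥M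 ≃* Equiv.Perm (Fin 4)) → ∃ g : G, M = M₁.map (MulAut.conj g).toMonoidHom ∨ M = M₂.map (MulAut.conj g).toMonoidHom := by
  have : Fact (Nat.Prime 2) := ⟨Nat.prime_two⟩
  have : Fact (Nat.Prime 3) := ⟨Nat.prime_three⟩
  have : Fact (Nat.Prime 7) := ⟨by norm_num⟩
  classical
  obtain ⟨T⟩ := (inferInstance : Nonempty (Sylow 2 G))
  obtain ⟨U, W, hne, hUT, hWT, hU, hW, hall⟩ := CfsgLib.Perm.Simple168.exists_two_klein h T
  have hUc := CfsgLib.Perm.Simple168.card_normalizer_klein h hU
  have hWc := CfsgLib.Perm.Simple168.card_normalizer_klein h hW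
  have hS4 : ∀ M : Subgroup G, Nonempty (↥M ≃* Equiv.Perm (Fin 4)) → Nat.card M = 24 := by
    intro M hM
    obtain ⟨e⟩ := hM
    rw [Nat.card_congr e.toEquiv, Nat.card_perm, Nat.card_fin]
    rfl
  have hmapn : ∀ (g : G) (V : Subgroup G), IsKleinFour V →
      (Subgroup.normalizer (V : Set G)).map (MulAut.conj g).toMonoidHom =
        Subgroup.normalizer ((V.map (MulAut.conj g).toMonoidHom : Subgroup G) : Set G) := by
    intro g V hV
    apply Subgroup.eq_of_le_of_card_ge (Subgroup.le_normalizer_map _)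
    rw [Subgroup.card_map_of_injective (MulAut.conj g).injective,
      CfsgLib.Perm.Simple168.card_normalizer_klein h hV,
      CfsgLib.Perm.Simple168.card_normalizer_klein h (CfsgLib.Perm.Simple168.isKleinFour_map g hV)]
  refine ⟨?_, ?_, Subgroup.normalizer (U : Set G), Subgroup.normalizer (W : Set G),
    CfsgLib.Perm.Simple168.isCoatom_of_card h hUc, CfsgLib.Perm.Simple168.isCoatom_of_card h hWc,
    CfsgLib.Perm.Simple168.nonempty_equiv_of_card h hUc,
    CfsgLib.Perm.Simple168.nonempty_equiv_of_card h hWc, ?_, ?_⟩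
  · intro M hM
    rcases CfsgLib.Perm.Simple168.coatom_cases h hM with ⟨P, rfl⟩ | h24
    · refine Or.inr ⟨CfsgLib.Perm.Simple168.card_normalizer_seven h P, fun hc => ?_⟩
      have hle : Subgroup.normalizer ((P : Subgroup G) : Set G) ≤
          Subgroup.centralizer ((P : Subgroup G) : Set G) := by
        intro x hx
        rw [Subgroup.mem_centralizer_iff]
        intro y hy
        exact congrArg Subtype.val (hc.is_comm.comm
          (⟨y, Subgroup.le_normalizer hy⟩ : Subgroup.normalizer ((P : Subgroup G) : Set G)) ⟨x, hx⟩)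
      have := Nat.le_of_dvd Nat.card_pos (Subgroup.card_dvd_of_le hle)
      rw [CfsgLib.Perm.Simple168.card_centralizer_seven h P,
        CfsgLib.Perm.Simple168.card_normalizer_seven h P] at this
      omega
    · exact Or.inl (CfsgLib.Perm.Simple168.nonempty_equiv_of_card h h24)
  · intro M M' hM hM' h1 h2
    rcases CfsgLib.Perm.Simple168.coatom_cases h hM with ⟨P, rfl⟩ | h24
    · rcases CfsgLib.Perm.Simple168.coatom_cases h hM' with ⟨Q, rfl⟩ | h24
      · obtain ⟨g, rfl⟩ := MulAction.exists_smul_eq G P Q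
        refine ⟨g, (Subgroup.eq_of_le_of_card_ge ?_ ?_).symm⟩
        · refine (Subgroup.le_normalizer_map _).trans ?_
          rw [Sylow.coe_subgroup_smul]
          exact le_rfl
        · rw [Subgroup.card_map_of_injective (MulAut.conj g).injective,
            CfsgLib.Perm.Simple168.card_normalizer_seven h,
            CfsgLib.Perm.Simple168.card_normalizer_seven h]
      · omega
    · omega
  · intro g hg
    rw [hmapn g U hU] at hg
    exact CfsgLib.Perm.Simple168.klein_not_conj h T hU hW hUT hWT hne g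
      (CfsgLib.Perm.Simple168.klein_eq_of_normalizer_eq h (CfsgLib.Perm.Simple168.isKleinFour_map g hU) hW hg.symm)
  · intro M hM hM4
    obtain ⟨V, hV, rfl⟩ := CfsgLib.Perm.Simple168.exists_klein_of_card h (hS4 M hM4)
    obtain ⟨S, hVS⟩ := CfsgLib.Perm.Simple168.klein_le_sylow hV
    obtain ⟨g, hg⟩ := MulAction.exists_smul_eq G S T
    have hV' : IsKleinFour (V.map (MulAut.conj g).toMonoidHom : Subgroup G) :=
      CfsgLib.Perm.Simple168.isKleinFour_map g hV
    have hle : V.map (MulAut.conj g).toMonoidHom ≤ (T : Subgroup G) := by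
      rw [← hg, Sylow.coe_subgroup_smul]
      rintro _ ⟨v, hv, rfl⟩
      exact ⟨v, hVS hv, rfl⟩
    have hback : (V.map (MulAut.conj g).toMonoidHom).map (MulAut.conj g⁻¹).toMonoidHom = V := by
      rw [Subgroup.map_map]
      convert Subgroup.map_id V
      ext x
      simp [mul_assoc]
    refine ⟨g⁻¹, ?_⟩
    rcases hall _ hle hV' with h' | h'
    · left
      rw [hmapn g⁻¹ U hU, ← h', hback]
    · right
      rw [hmapn g⁻¹ W hW, ← h', hback]

end Cfsg.Agent.S1008
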