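import Cfsg.Statements.S1009
import Mathlib.GroupTheory.Sylow
import Mathlib.Tactic

set_option autoImplicit false
open Cfsg

namespace Cfsg.Agent.S1009

/-- Brodkey's Theorem: if a finite group has abelian Sylow p-subgroups, then there are two Sylow p-subgroups whose intersection equals the intersection of all Sylow p-subgroups. -/
theorem result {G : Type*} [Group G] [Finite G] (p : ℕ) [Fact p.Prime] (hab : ∀ P : Sylow p G, IsMulCommutative ↥(P : Subgroup G)) : ∃ P Q : Sylow p G, (P : Subgroup G) ⊓ (Q : Subgroup G) = ⨅ R : Sylow p G, (R : Subgroup G) := by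
  classical
  obtain ⟨⟨P, Q⟩, -, hmin⟩ := Set.exists_min_image (Set.univ : Set (Sylow p G × Sylow p G))
    (fun x => Nat.card ↥((x.1 : Subgroup G) ⊓ (x.2 : Subgroup G))) Set.finite_univ
    ⟨((Classical.arbitrary _), (Classical.arbitrary _)), trivial⟩
  refine ⟨P, Q, le_antisymm ?_ (le_inf (iInf_le _ P) (iInf_le _ Q))⟩
  set D := (P : Subgroup G) ⊓ (Q : Subgroup G) with hD
  set C := Subgroup.centralizer (D : Set G) with hC
  have hcomm : ∀ (S : Sylow p G), D ≤ (S : Subgroup G) → (S : Subgroup G) ≤ C := by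
    intro S hS x hx
    rw [hC, Subgroup.mem_centralizer_iff]
    intro y hy
    have := (hab S).is_comm.comm ⟨y, hS hy⟩ ⟨x, hx⟩
    exact congrArg Subtype.val this
  have hPC := hcomm P inf_le_left
  have hQC := hcomm Q inf_le_right
  refine le_iInf fun R => ?_
  obtain ⟨T, hT⟩ := (R.isPGroup'.comap_subtype (K := C)).exists_le_sylow
  obtain ⟨c, hc⟩ := MulAction.exists_smul_eq C T (P.subtype hPC)
  have hmem : ∀ d ∈ D, (c : G) * d * (c : G)⁻¹ = d := by
    intro d hd
    have := Subgroup.mem_centralizer_iff.1 c.2 d hd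
    rw [← this]; group
  have h1 : (((c : G) • R : Sylow p G) : Subgroup G) ⊓ (Q : Subgroup G) ≤ D := by
    rintro y ⟨hy1, hy2⟩
    refine ⟨?_, hy2⟩
    rw [SetLike.mem_coe, Sylow.coe_subgroup_smul] at hy1
    obtain ⟨r, hr, hry⟩ := hy1
    have hry' : (c : G) * r * (c : G)⁻¹ = y := hry
    have hrC : r ∈ C := by
      have hyC : y ∈ C := hQC hy2
      have : r = (c : G)⁻¹ * y * c := by rw [← hry']; group
      rw [this]
      exact mul_mem (mul_mem (inv_mem c.2) hyC) c.2
    have h2 : (⟨r, hrC⟩ : C) ∈ (T : Subgroup C) := hT (Subgroup.mem_subgroupOf.2 hr)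
    have h3 : c * (⟨r, hrC⟩ : C) * c⁻¹ ∈ ((P.subtype hPC : Sylow p C) : Subgroup C) := by
      rw [← hc, Sylow.coe_subgroup_smul]
      exact ⟨_, h2, rfl⟩
    rw [Sylow.coe_subtype, Subgroup.mem_subgroupOf] at h3
    simp [hry'] at h3
    exact h3
  have h4 := Subgroup.eq_of_le_of_card_ge h1 (hmin ((c : G) • R, Q) trivial)
  intro d hd
  have hd' : d ∈ (((c : G) • R : Sylow p G) : Subgroup G) ⊓ (Q : Subgroup G) := h4.ge hd
  have hd1 := hd'.1
  rw [SetLike.mem_coe, Sylow.coe_subgroup_smul] at hd1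
  obtain ⟨r, hr, hrd⟩ := hd1
  have hrd' : (c : G) * r * (c : G)⁻¹ = d := hrd
  have : r = d := by
    have h5 := hmem d hd
    exact mul_left_cancel (mul_right_cancel (hrd'.trans h5.symm))
  exact this ▸ hr

end Cfsg.Agent.S1009
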