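import Cfsg.Statements.S1014
import Cfsg.Agent.Lib.Perm.SylowNormalizer
import Cfsg.Agent.S1018
import Mathlib.Tactic

set_option autoImplicit false
open Cfsg

namespace Cfsg.Agent.S1014

/-- No finite simple group has order 1104 = 2^4 * 3 * 23. -/
theorem result {G : Type*} [Group G] [Finite G] [IsSimpleGroup G] : Nat.card G ≠ 1104 := by
  intro h
  classical
  have : Fact (Nat.Prime 23) := ⟨by norm_num⟩
  have h' : Nat.card G = 23 ^ 1 * 48 := by rw [h]; norm_num
  obtain ⟨h1, h2, h3⟩ := CfsgLib.Perm.card_sylow_mem (q := 2) h' one_ne_zero Nat.prime_two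
    (by norm_num) (by norm_num)
  have hn : Nat.card (Sylow 23 G) = 24 := by
    have hle := Nat.le_of_dvd (by norm_num) h1
    generalize Nat.card (Sylow 23 G) = n at *
    interval_cases n <;> omega
  obtain ⟨P⟩ := (inferInstance : Nonempty (Sylow 23 G))
  have hP : Nat.card (P : Subgroup G) = 23 := by
    rw [CfsgLib.Perm.sylow_card_eq P h' (by norm_num), pow_one]
  have hN := CfsgLib.Perm.card_normalizer_mul_card_sylow P
  rw [hn, h] at hN
  set N := Subgroup.normalizer ((P : Subgroup G) : Set G) with hNdef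
  have hN46 : Nat.card N = 23 * 2 := by omega
  have hne := CfsgLib.Perm.not_isPGroup_of_dvd (G := G) (p := 23) Nat.prime_two (by norm_num)
    (by rw [h]; norm_num)
  have hG : ¬ IsMulCommutative G :=
    CfsgLib.Perm.not_comm_of_not_prime (by rw [h]; norm_num)
  have hidx : N.index = 24 := by
    have := Subgroup.card_mul_index N
    rw [hN46, h] at this
    omega
  have hNtop : N ≠ ⊤ := fun ht => by rw [ht, Subgroup.index_top] at hidx; omega
  -- an element of order two in N
  have : Fact (Nat.Prime 2) := ⟨Nat.prime_two⟩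
  obtain ⟨x, hx⟩ := exists_prime_orderOf_dvd_card' (G := N) 2 (by rw [hN46]; norm_num)
  have hxC : (x : G) ∉ Subgroup.centralizer ((P : Subgroup G) : Set G) := by
    intro hxc
    apply CfsgLib.Perm.not_normalizer_le_centralizer P (by rw [h]; norm_num) hne
    set C := Subgroup.centralizer ((P : Subgroup G) : Set G) with hC
    have hcyc : IsCyclic (P : Subgroup G) := isCyclic_of_prime_card hP
    have hPC : (P : Subgroup G) ≤ C ⊓ N := by
      let _ : CommGroup (P : Subgroup G) := IsCyclic.commGroup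
      refine le_inf ?_ Subgroup.le_normalizer
      intro y hy
      rw [hC, Subgroup.mem_centralizer_iff]
      intro z hz
      exact congrArg Subtype.val (mul_comm (⟨z, hz⟩ : (P : Subgroup G)) ⟨y, hy⟩)
    have d1 : 23 ∣ Nat.card ↥(C ⊓ N) := hP ▸ Subgroup.card_dvd_of_le hPC
    have d2 : 2 ∣ Nat.card ↥(C ⊓ N) := by
      have := orderOf_dvd_natCard (⟨(x : G), hxc, x.2⟩ : ↥(C ⊓ N))
      rwa [← Subgroup.orderOf_coe, Subgroup.orderOf_coe x, hx] at this
    have d3 : 46 ∣ Nat.card ↥(C ⊓ N) :=
      Nat.Coprime.mul_dvd_of_dvd_of_dvd (m := 23) (n := 2) (by norm_num) d1 d2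
    have : C ⊓ N = N := Subgroup.eq_of_le_of_card_ge inf_le_right
      (by rw [hN46]; exact Nat.le_of_dvd Nat.card_pos d3)
    exact le_of_eq_of_le this.symm inf_le_left
  have hbound := Cfsg.Agent.S1018.result 23 P hP
  have horbit : Nat.card (MulAction.orbitRel.Quotient ↥(P : Subgroup G) (G ⧸ N)) ≤ 2 := by
    obtain ⟨y, hy⟩ := exists_prime_orderOf_dvd_card' (G := (P : Subgroup G)) 23 (by rw [hP])
    have hfix := hbound.1 (y : G) (by rw [Subgroup.orderOf_coe, hy])
    let _ := Fintype.ofFinite (MulAction.orbitRel.Quotient ↥(P : Subgroup G) (G ⧸ N))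
    have htop := zpowers_eq_top_of_prime_card hP (g := y) (by intro h1; rw [h1, orderOf_one] at hy; omega)
    set F := MulAction.fixedBy (G ⧸ N) (y : G) with hF
    have horb : ∀ w : G ⧸ N, w ∉ F → 23 ≤ Nat.card (MulAction.orbit (P : Subgroup G) w) := by
      intro w hw
      have hdvd : Nat.card (MulAction.orbit (P : Subgroup G) w) ∣ 23 := by
        rw [Nat.card_coe_set_eq, ← MulAction.index_stabilizer]
        exact (Subgroup.index_dvd_card _).trans hP.dvd
      rcases (Nat.dvd_prime (by norm_num : Nat.Prime 23)).1 hdvd with h1 | h1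
      · exfalso
        apply hw
        have := (Nat.card_eq_one_iff_unique.1 h1).1
        have h2 := congrArg Subtype.val (Subsingleton.elim
          (⟨_, MulAction.mem_orbit w y⟩ : MulAction.orbit (P : Subgroup G) w)
          ⟨w, MulAction.mem_orbit_self w⟩)
        exact h2
      · omega
    have hcardX : Nat.card (G ⧸ N) = 24 := hidx
    rw [Nat.card_congr (MulAction.selfEquivSigmaOrbits' (P : Subgroup G) (G ⧸ N)),
      Nat.card_sigma] at hcardX
    -- at most one orbit is short
    by_contra hlt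
    push Not at hlt
    rw [Nat.card_eq_fintype_card] at hlt
    obtain ⟨o, ho⟩ : ∃ o : MulAction.orbitRel.Quotient ↥(P : Subgroup G) (G ⧸ N),
        ∀ o', o' ≠ o → 23 ≤ Nat.card (MulAction.orbitRel.Quotient.orbit o') := by
      obtain ⟨⟨w₀, hw₀⟩⟩ := (Nat.card_eq_one_iff_unique.1 hfix).2
      refine ⟨Quotient.mk'' w₀, fun o' ho' => ?_⟩
      induction o' using Quotient.inductionOn' with
      | h w =>
        rw [MulAction.orbitRel.Quotient.orbit_mk]
        apply horb
        intro hw
        have := (Nat.card_eq_one_iff_unique.1 hfix).1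
        have h2 := congrArg Subtype.val (Subsingleton.elim (⟨w, hw⟩ : F) ⟨w₀, hw₀⟩)
        exact ho' (by rw [show w = w₀ from h2])
    rw [← Finset.add_sum_erase _ _ (Finset.mem_univ o)] at hcardX
    have h4 := Finset.card_nsmul_le_sum (Finset.univ.erase o)
      (fun o' => Nat.card (MulAction.orbitRel.Quotient.orbit o')) 23
      (fun o' ho' => ho o' (Finset.ne_of_mem_erase ho'))
    rw [Finset.card_erase_of_mem (Finset.mem_univ o), Finset.card_univ, smul_eq_mul] at h4
    omega
  have hfx := (hbound.2 (x : G) x.2 hxC).trans horbit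
  -- the permutation of x on G / N is odd
  let _ := Fintype.ofFinite (G ⧸ N)
  have hsign := CfsgLib.Perm.hom_comm_trivial hG
    (Equiv.Perm.sign.comp (MulAction.toPermHom G (G ⧸ N))) (x : G)
  set σ := MulAction.toPermHom G (G ⧸ N) (x : G) with hσ
  have hσ2 : σ ^ 2 = 1 := by
    rw [hσ, ← map_pow, ← SubgroupClass.coe_pow, ← hx, pow_orderOf_eq_one, Subgroup.coe_one, map_one]
  obtain ⟨hs, hev⟩ := CfsgLib.Perm.sign_of_sq_eq_one hσ2
  have hsupp : σ.support.card + Nat.card (MulAction.fixedBy (G ⧸ N) (x : G)) = 24 := by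
    have hc : σ.support.card + σ.supportᶜ.card = Fintype.card (G ⧸ N) :=
      Finset.card_add_card_compl _
    rw [← Nat.card_eq_fintype_card (α := G ⧸ N), ← Subgroup.index_eq_card, hidx] at hc
    rw [Nat.card_coe_set_eq, Set.ncard_eq_toFinset_card']
    refine Eq.trans ?_ hc
    congr 2
    ext w
    simp [hσ, MulAction.mem_fixedBy]
  have hone : 1 ≤ Nat.card (MulAction.fixedBy (G ⧸ N) (x : G)) := by
    rw [Nat.one_le_iff_ne_zero, ← Nat.pos_iff_ne_zero, Nat.card_pos_iff]
    refine ⟨⟨⟨((1 : G) : G ⧸ N), ?_⟩⟩, inferInstance⟩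
    rw [MulAction.mem_fixedBy, MulAction.Quotient.smul_coe, eq_comm, QuotientGroup.eq]
    simp
  have h22 : σ.support.card = 22 := by
    have hfx' : Nat.card (MulAction.fixedBy (G ⧸ N) (x : G)) ≤ 2 := hfx
    obtain ⟨k, hk⟩ := hev
    omega
  rw [MonoidHom.comp_apply, ← hσ, hs, h22] at hsign
  exact absurd hsign (by decide)

end Cfsg.Agent.S1014
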