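import Cfsg.Statements.S1017
import Cfsg.Agent.Lib.Perm.SylowFixed
import Mathlib.GroupTheory.PGroup
import Mathlib.Tactic

set_option autoImplicit false
open Cfsg

namespace Cfsg.Agent.S1017

/-- No finite simple group has order 2016 = 2^5 * 3^2 * 7. -/
theorem result {G : Type*} [Group G] [Finite G] [IsSimpleGroup G] : Nat.card G ≠ 2016 := by
  intro h
  classical
  have : Fact (Nat.Prime 7) := ⟨by norm_num⟩
  have : Fact (Nat.Prime 2) := ⟨Nat.prime_two⟩
  have h' : Nat.card G = 7 ^ 1 * 288 := by rw [h]; norm_num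
  have hG : ¬ IsMulCommutative G := CfsgLib.Perm.not_comm_of_not_prime (by rw [h]; norm_num)
  have hne : ¬ IsPGroup 7 G :=
    CfsgLib.Perm.not_isPGroup_of_dvd Nat.prime_two (by norm_num) (by rw [h]; norm_num)
  obtain ⟨h1, h2, h3⟩ := CfsgLib.Perm.card_sylow_mem (q := 2) h' one_ne_zero Nat.prime_two
    (by norm_num) (by norm_num)
  have hall : ∀ R : Sylow 7 G, Nat.card (R : Subgroup G) = 7 := fun R => by
    rw [CfsgLib.Perm.sylow_card_eq R h' (by norm_num), pow_one]
  have hn : Nat.card (Sylow 7 G) = 8 ∨ Nat.card (Sylow 7 G) = 36 ∨ Nat.card (Sylow 7 G) = 288 := by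
    have hmem := Nat.mem_divisors.2 ⟨h1, by norm_num⟩
    rw [show (288 : ℕ).divisors = ({1, 2, 3, 4, 6, 8, 9, 12, 16, 18, 24, 32, 36, 48, 72, 96, 144, 288} : Finset ℕ) from by decide +kernel] at hmem
    simp only [Finset.mem_insert, Finset.mem_singleton] at hmem
    omega
  obtain ⟨P⟩ := (inferInstance : Nonempty (Sylow 7 G))
  have hN := CfsgLib.Perm.card_normalizer_mul_card_sylow P
  set N := Subgroup.normalizer ((P : Subgroup G) : Set G) with hNdef
  set C := Subgroup.centralizer ((P : Subgroup G) : Set G) with hCdef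
  have hCN : C ≤ N := Subgroup.centralizer_le_normalizer _
  have hCcard : ∀ {a : ℕ}, Nat.card N = 7 * a → ∃ r, r ∣ a ∧ r ∣ 6 ∧ r ≠ 1 ∧ r * Nat.card C = 7 * a := by
    intro a ha
    refine ⟨C.relIndex N, CfsgLib.Perm.relIndex_centralizer_dvd_div _ (hall P) ha,
      CfsgLib.Perm.relIndex_centralizer_dvd_sub_one _ (hall P), fun e => ?_, ?_⟩
    · rw [Subgroup.relIndex_eq_one] at e
      exact CfsgLib.Perm.not_normalizer_le_centralizer P (by rw [h]; norm_num) hne e
    · have h := Subgroup.index_mul_card (C.subgroupOf N)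
      rw [Nat.card_congr (Subgroup.subgroupOfEquivOfLe hCN).toEquiv, ha] at h
      exact h
  rcases hn with hn | hn | hn <;> rw [hn, h] at hN
  · -- eight Sylow subgroups: a fixed point free action on eight points
    obtain ⟨r, hr1, hr2, -, hr⟩ := hCcard (a := 36) (by omega)
    have hr6 : r ≤ 6 := Nat.le_of_dvd (by norm_num) hr2
    have h2C : 2 ∣ Nat.card C := by
      interval_cases r <;> omega
    obtain ⟨z, hz⟩ := exists_prime_orderOf_dvd_card' (G := C) 2 h2C
    obtain ⟨y, hy⟩ := exists_prime_orderOf_dvd_card' (G := (P : Subgroup G)) 7 (by rw [hall])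
    have hidx : N.index = 8 := by
      have := Subgroup.card_mul_index N
      rw [h, show Nat.card N = 252 by omega] at this
      omega
    exact CfsgLib.Perm.false_of_small_index hG (by norm_num : (7 : ℕ) ≠ 2) N
      (fun e => by rw [e, Subgroup.index_top] at hidx; omega) (by omega) (by omega)
      (y := (y : G)) (z := (z : G)) (by rw [Subgroup.orderOf_coe, hy]) (Subgroup.le_normalizer y.2)
      (by rw [Subgroup.orderOf_coe, hz]) (hCN z.2) ((Subgroup.mem_centralizer_iff.1 z.2) y y.2).symm
  · obtain ⟨r, hr1, hr2, hr3, hr⟩ := hCcard (a := 8) (by omega)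
    have hr6 : r ≤ 6 := Nat.le_of_dvd (by norm_num) hr2
    have hC : Nat.card C = 28 := by interval_cases r <;> omega
    obtain ⟨Q⟩ := (inferInstance : Nonempty (Sylow 2 C))
    have hQ : Nat.card (Q : Subgroup C) = 2 ^ 2 := CfsgLib.Perm.sylow_card_eq Q (m := 7)
      (by rw [hC]; norm_num) (by norm_num)
    obtain ⟨z, hz⟩ := exists_prime_orderOf_dvd_card' (G := (Q : Subgroup C)) 2 (by rw [hQ]; norm_num)
    set z' : G := ((z : C) : G) with hz'def
    have hzo : orderOf z' = 2 := by rw [hz'def, Subgroup.orderOf_coe, Subgroup.orderOf_coe, hz]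
    have hd7 : 7 ∣ Nat.card ↥(C ⊓ Subgroup.centralizer ({z'} : Set G)) := by
      refine hall P ▸ Subgroup.card_dvd_of_le (le_inf ?_ fun x hx => ?_)
      · have hcyc : IsCyclic (P : Subgroup G) := isCyclic_of_prime_card (hall P)
        intro x hx
        rw [hCdef, Subgroup.mem_centralizer_iff]
        intro y hy
        exact congrArg Subtype.val
          ((IsCyclic.commGroup (α := (P : Subgroup G))).mul_comm ⟨y, hy⟩ ⟨x, hx⟩)
      · rw [Subgroup.mem_centralizer_singleton_iff]
        exact (Subgroup.mem_centralizer_iff.1 (z : C).2) x hx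
    have hd4 : 4 ∣ Nat.card ↥(C ⊓ Subgroup.centralizer ({z'} : Set G)) := by
      have hab := IsPGroup.commutative_of_card_eq_prime_sq hQ
      have hle : (Q : Subgroup C).map C.subtype ≤ C ⊓ Subgroup.centralizer ({z'} : Set G) := by
        rintro _ ⟨x, hx, rfl⟩
        refine ⟨x.2, ?_⟩
        show (x : G) ∈ Subgroup.centralizer ({z'} : Set G)
        rw [Subgroup.mem_centralizer_singleton_iff]
        exact congrArg (fun k : (Q : Subgroup C) => ((k : C) : G)) (hab ⟨x, hx⟩ z)
      refine dvd_trans ?_ (Subgroup.card_dvd_of_le hle)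
      rw [← Nat.card_congr ((Q : Subgroup C).equivMapOfInjective C.subtype C.subtype_injective).toEquiv, hQ]
      norm_num
    exact CfsgLib.Perm.false_of_involution_centralizing hG (by norm_num : (7 : ℕ) ≠ 2) P (hall P) hall hzo
      (z : C).2 (b := 8) (c := 28)
      (fun F hF1 hF2 hF3 => by rw [hn] at hF1 hF3 ⊢; omega)
      (Nat.Coprime.mul_dvd_of_dvd_of_dvd (m := 7) (n := 4) (by norm_num) hd7 hd4)
      (fun m hm => by rw [h] at hm; omega)
  · exact CfsgLib.Perm.false_of_normalizer_coprime P (hall P) hne (a := 1)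
      (by rw [← hNdef]; omega) (by norm_num)

end Cfsg.Agent.S1017
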