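import Cfsg.Statements.S1019
import Mathlib.GroupTheory.Sylow
import Mathlib.Tactic

set_option autoImplicit false
open Cfsg

namespace Cfsg.Agent.S1019

/-- Let H be a subgroup of a finite group G and x an element of H. In the action of G on the left cosets of H, the number of cosets fixed by x, multiplied by the size of the conjugacy class of x, equals the index of H multiplied by the number of conjugates of x that lie in H. -/
theorem result {G : Type*} [Group G] [Finite G] (H : Subgroup G) (x : G) (hx : x ∈ H) : Nat.card (MulAction.fixedBy (G ⧸ H) x) * Nat.card {g : G // IsConj x g} = H.index * Nat.card {g : G // IsConj x g ∧ g ∈ H} := by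
  classical
  set A := {g : G // g⁻¹ * x * g ∈ H} with hA
  set C := Subgroup.centralizer ({x} : Set G) with hC
  -- counting by left cosets of H
  have hwd : ∀ (g : G) (h : H), (g * h)⁻¹ * x * (g * h) ∈ H ↔ g⁻¹ * x * g ∈ H := by
    intro g h
    rw [show (g * (h : G))⁻¹ * x * (g * h) = (h : G)⁻¹ * (g⁻¹ * x * g) * h by group,
      Subgroup.mul_mem_cancel_right _ h.2, Subgroup.mul_mem_cancel_left _ (inv_mem h.2)]
  have hfix : ∀ g : G, ((g : G ⧸ H)) ∈ MulAction.fixedBy (G ⧸ H) x ↔ g⁻¹ * x * g ∈ H := by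
    intro g
    rw [MulAction.mem_fixedBy, MulAction.Quotient.smul_coe, eq_comm, QuotientGroup.eq,
      smul_eq_mul, mul_assoc]
  have h1 : Nat.card A = Nat.card (MulAction.fixedBy (G ⧸ H) x) * Nat.card H := by
    rw [mul_comm]
    have := QuotientGroup.card_preimage_mk H (MulAction.fixedBy (G ⧸ H) x)
    rw [← this]
    exact Nat.card_congr (Equiv.subtypeEquivRight fun g => (hfix g).symm)
  -- counting by conjugates
  have hex : ∀ y : {g : G // IsConj x g ∧ g ∈ H}, ∃ g : G, g⁻¹ * x * g = y.1 := by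
    intro y
    obtain ⟨c, hc⟩ := isConj_iff.1 y.2.1
    exact ⟨c⁻¹, by rw [inv_inv, hc]⟩
  choose σ hσ using hex
  have hCmem : ∀ g, g ∈ C ↔ g * x = x * g := by
    intro g
    rw [hC, Subgroup.mem_centralizer_singleton_iff]
  let e : C × {g : G // IsConj x g ∧ g ∈ H} ≃ A :=
  { toFun := fun p => ⟨p.1.1 * σ p.2, by
      have hc := (hCmem _).1 p.1.2
      rw [show ((p.1 : G) * σ p.2)⁻¹ * x * (p.1 * σ p.2)
          = (σ p.2)⁻¹ * ((p.1 : G)⁻¹ * (x * p.1)) * σ p.2 by group, ← hc, inv_mul_cancel_left, hσ]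
      exact p.2.2.2⟩
    invFun := fun a =>
      let y : {g : G // IsConj x g ∧ g ∈ H} :=
        ⟨a.1⁻¹ * x * a.1, isConj_iff.2 ⟨a.1⁻¹, by rw [inv_inv]⟩, a.2⟩
      (⟨a.1 * (σ y)⁻¹, by
        rw [hCmem]
        have h := hσ y
        calc a.1 * (σ y)⁻¹ * x = a.1 * ((σ y)⁻¹ * x * σ y) * (σ y)⁻¹ := by group
          _ = a.1 * (a.1⁻¹ * x * a.1) * (σ y)⁻¹ := by rw [h]
          _ = x * (a.1 * (σ y)⁻¹) := by group⟩, y)
    left_inv := fun p => by
      have hc := (hCmem _).1 p.1.2
      have hy : ((p.1 : G) * σ p.2)⁻¹ * x * (p.1 * σ p.2) = p.2.1 := by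
        rw [show ((p.1 : G) * σ p.2)⁻¹ * x * (p.1 * σ p.2)
          = (σ p.2)⁻¹ * ((p.1 : G)⁻¹ * (x * p.1)) * σ p.2 by group, ← hc, inv_mul_cancel_left, hσ]
      apply Prod.ext
      · apply Subtype.ext
        simp only
        rw [mul_inv_eq_iff_eq_mul]
        congr 1
        congr 1
        exact Subtype.ext hy.symm
      · exact Subtype.ext hy
    right_inv := fun a => by
      apply Subtype.ext
      simp only
      group }
  have h2 : Nat.card A = Nat.card C * Nat.card {g : G // IsConj x g ∧ g ∈ H} := by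
    rw [← Nat.card_congr e, Nat.card_prod]
  have h3 : Nat.card {g : G // IsConj x g} * Nat.card C = Nat.card G := by
    have hidx : C.index = Nat.card {g : G // IsConj x g} := by
      have := MulAction.index_stabilizer (ConjAct G) x
      rw [ConjAct.stabilizer_eq_centralizer, ← Nat.card_coe_set_eq] at this
      rw [← Nat.card_congr (Equiv.subtypeEquivRight fun g => (ConjAct.mem_orbit_conjAct).trans
        isConj_comm)]
      exact this
    rw [← hidx, Subgroup.index_mul_card]
  apply Nat.eq_of_mul_eq_mul_right (Nat.card_pos (α := H))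
  calc Nat.card (MulAction.fixedBy (G ⧸ H) x) * Nat.card {g : G // IsConj x g} * Nat.card H
      = Nat.card A * Nat.card {g : G // IsConj x g} := by rw [h1]; ring
    _ = Nat.card {g : G // IsConj x g} * Nat.card C * Nat.card {g : G // IsConj x g ∧ g ∈ H} := by
        rw [h2]; ring
    _ = _ := by rw [h3, ← H.index_mul_card]; ring

end Cfsg.Agent.S1019
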