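import Cfsg.Statements.S1022
import Mathlib

set_option autoImplicit false
open Cfsg

namespace Cfsg.Agent.S1022

open Subgroup MulAction

variable {G : Type*} [Group G] [Finite G]

private theorem card_dvd_index_factorial [IsSimpleGroup G] (H : Subgroup G) (hH : H ≠ ⊤) :
    Nat.card G ∣ H.index.factorial := by
  classical
  have hker : (MulAction.toPermHom G (G ⧸ H)).ker = ⊥ := by
    rcases (MonoidHom.normal_ker (MulAction.toPermHom G (G ⧸ H))).eq_bot_or_eq_top with h | h
    · exact h
    · exfalso
      refine hH (eq_top_iff.mpr fun x _ => ?_)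
      have hx : x ∈ (MulAction.toPermHom G (G ⧸ H)).ker := h ▸ mem_top x
      rw [← Subgroup.normalCore_eq_ker] at hx
      exact H.normalCore_le hx
  have := card_dvd_of_injective _ ((MonoidHom.ker_eq_bot_iff _).mp hker)
  rwa [Nat.card_perm, ← index_eq_card] at this

private theorem cases96 : ∀ n < 459649, n ∣ 459648 / 19 → n % 19 = 1 → n = 1 ∨ n = 96 ∨ n = 1008 := by
  intro n _ hd hm
  obtain ⟨u, v, hu, hv, rfl⟩ := Nat.dvd_mul.mp (show n ∣ 128 * 189 by simpa using hd)
  have key : ∀ u ∈ (128).divisors, ∀ v ∈ (189).divisors, u * v % 19 = 1 →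
      u * v = 1 ∨ u * v = 96 ∨ u * v = 1008 := by decide +kernel
  exact key u (Nat.mem_divisors.mpr ⟨hu, by norm_num⟩) v (Nat.mem_divisors.mpr ⟨hv, by norm_num⟩) hm

private theorem cases1008 : ∀ n < 459649, n ∣ 3024 → n % 19 = 1 → n = 1 ∨ n = 1008 := by
  intro n _ hd hm
  obtain ⟨u, v, hu, hv, rfl⟩ := Nat.dvd_mul.mp (show n ∣ 16 * 189 by simpa using hd)
  have key : ∀ u ∈ (16).divisors, ∀ v ∈ (189).divisors, u * v % 19 = 1 →
      u * v = 1 ∨ u * v = 1008 := by decide +kernel
  exact key u (Nat.mem_divisors.mpr ⟨hu, by norm_num⟩) v (Nat.mem_divisors.mpr ⟨hv, by norm_num⟩) hm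

/-- No finite simple group has order 459648 = 2^7 * 3^3 * 7 * 19. -/
theorem result {G : Type*} [Group G] [Finite G] [IsSimpleGroup G] : Nat.card G ≠ 459648 := by
  intro hG
  haveI hp19 : Fact (Nat.Prime 19) := ⟨by norm_num⟩
  haveI : Fact (Nat.Prime 2) := ⟨Nat.prime_two⟩
  haveI : Fact (Nat.Prime 7) := ⟨by norm_num⟩
  classical
  haveI := Fintype.ofFinite (Sylow 19 G)
  obtain ⟨P⟩ : Nonempty (Sylow 19 G) := inferInstance
  have fac : ∀ (q e c : ℕ), q.Prime → 459648 = q ^ e * c → ¬ q ∣ c → (459648 : ℕ).factorization q = e := by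
    intro q e c hq h hc
    rw [h, Nat.factorization_mul (pow_ne_zero _ hq.ne_zero) (fun h0 => hc (by rw [h0]; exact dvd_zero q)),
      Finsupp.add_apply, hq.factorization_pow, Finsupp.single_eq_same,
      Nat.factorization_eq_zero_of_not_dvd hc, add_zero]
  have hP : Nat.card (P : Subgroup G) = 19 := by
    rw [P.card_eq_multiplicity, hG, fac 19 1 24192 (by norm_num) (by norm_num) (by norm_num), pow_one]
  set N : Subgroup G := Subgroup.normalizer ((P : Subgroup G) : Set G) with hN
  have hNi : N.index = Nat.card (Sylow 19 G) := P.card_eq_index_normalizer.symm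
  have hmul : Nat.card N * Nat.card (Sylow 19 G) = 459648 := by rw [← hNi, card_mul_index, hG]
  have hNtop : N ≠ ⊤ := by
    intro h
    rcases (Subgroup.normalizer_eq_top_iff.mp h).eq_bot_or_eq_top with h' | h' <;>
      rw [h'] at hP <;> simp [hG] at hP
  have hn1 : Nat.card (Sylow 19 G) ≠ 1 := fun h => hNtop (index_eq_one.mp (hNi.trans h))
  have hn : Nat.card (Sylow 19 G) = 96 ∨ Nat.card (Sylow 19 G) = 1008 := by
    have hd : Nat.card (Sylow 19 G) ∣ 459648 / 19 := by
      have := P.card_dvd_index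
      rwa [show (P : Subgroup G).index = 459648 / 19 by
        rw [← hG, ← (P : Subgroup G).card_mul_index, hP, Nat.mul_div_cancel_left _ (by norm_num)]] at this
    have hle : Nat.card (Sylow 19 G) < 459649 := Nat.lt_succ_of_le (Nat.le_of_dvd (by norm_num)
      (hd.trans (Nat.div_dvd_of_dvd (by norm_num))))
    exact (cases96 _ hle hd (card_sylow_modEq_one 19 G)).resolve_left hn1
  haveI : IsCyclic (P : Subgroup G) := isCyclic_of_prime_card hP
  let ψ := Subgroup.normalizerMonoidHom (P : Subgroup G)
  have h18 : Nat.card (MulAut (P : Subgroup G)) = 18 := by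
    rw [IsCyclic.card_mulAut, hP, Nat.totient_prime (by norm_num)]
  have hker : ∀ g (hg : g ∈ N), ψ ⟨g, hg⟩ = 1 → g ∈ centralizer ((P : Subgroup G) : Set G) := by
    intro g hg h
    rwa [← MonoidHom.mem_ker, normalizerMonoidHom_ker, mem_subgroupOf] at h
  have hfix : ∀ Q : Sylow 19 G, ∀ x ∈ (P : Subgroup G), x ≠ 1 → x • Q = Q → Q = P := by
    intro Q x hx hx1 h
    have h2 := (P.2.inf_normalizer_sylow Q).le
      (Subgroup.mem_inf.mpr ⟨hx, Sylow.smul_eq_iff_mem_normalizer.mp h⟩)
    have hz : zpowers x = (P : Subgroup G) := by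
      refine eq_of_le_of_card_ge (zpowers_le.mpr hx) ?_
      rw [hP, Nat.card_zpowers]
      have hd := Subgroup.orderOf_dvd_natCard _ hx
      rw [hP] at hd
      rcases (Nat.dvd_prime (by norm_num : Nat.Prime 19)).mp hd with h1 | h1
      · exact absurd (orderOf_eq_one_iff.mp h1) hx1
      · omega
    exact Sylow.ext (P.3 Q.2 (hz ▸ zpowers_le.mpr (Subgroup.mem_inf.mp h2).2))
  rcases hn with hn | hn
  · -- 96 Sylow subgroups
    rw [hn] at hmul
    obtain ⟨g, hg⟩ := exists_prime_orderOf_dvd_card' (G := N) 7 ⟨684, by omega⟩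
    have h7 : (g : G) ^ 7 = 1 := by
      rw [← Subgroup.coe_pow, ← hg, pow_orderOf_eq_one]; rfl
    have hgc : (g : G) ∈ centralizer ((P : Subgroup G) : Set G) := by
      refine hker g g.2 ?_
      rw [← orderOf_eq_one_iff]
      exact Nat.dvd_one.mp ((Nat.dvd_gcd (hg ▸ orderOf_map_dvd ψ g)
        (h18 ▸ _root_.orderOf_dvd_natCard _)).trans (by norm_num))
    obtain ⟨x, hx⟩ : ∃ x : (P : Subgroup G), x ≠ 1 := by
      haveI : Nontrivial (P : Subgroup G) := Finite.one_lt_card_iff_nontrivial.mp (by omega)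
      exact exists_ne 1
    have hx1 : (x : G) ≠ 1 := fun h => hx (Subtype.ext h)
    have hcomm : (g : G) * x = x * g := (mem_centralizer_iff.mp hgc x x.2).symm
    let τ := MulAction.toPermHom G (Sylow 19 G) x
    have hiff : ∀ Q : Sylow 19 G, (g : G) • (τ Q) = τ Q ↔ (g : G) • Q = Q := fun Q => by
      change (g : G) • (x : G) • Q = (x : G) • Q ↔ _
      rw [smul_smul, hcomm, mul_smul, smul_left_cancel_iff]
    let τ' : Equiv.Perm {Q : Sylow 19 G // (g : G) • Q = Q} := τ.subtypePerm hiff
    have hτ : τ' ^ 19 ^ 1 = 1 := by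
      refine Equiv.ext fun Q => Subtype.ext ?_
      rw [Equiv.Perm.subtypePerm_pow]
      change (τ ^ 19 ^ 1) Q.1 = Q.1
      have e : (x : G) ^ 19 = 1 := by
        have := congrArg Subtype.val (pow_card_eq_one' (x := x)); rwa [hP] at this
      rw [← map_pow, pow_one, e, map_one]; rfl
    have hsupp : τ'.supportᶜ = {⟨P, Sylow.smul_eq_iff_mem_normalizer.mpr g.2⟩} := by
      ext ⟨Q, hQ⟩
      rw [Finset.mem_compl, Equiv.Perm.notMem_support, Finset.mem_singleton]
      constructor
      · exact fun h => Subtype.ext (hfix Q x x.2 hx1 (congrArg Subtype.val h))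
      · intro h
        refine Subtype.ext ?_
        change (x : G) • Q = Q
        rw [show Q = P from congrArg Subtype.val h]
        exact Sylow.smul_eq_iff_mem_normalizer.mpr (Subgroup.le_normalizer x.2)
    have h19 := Equiv.Perm.card_compl_support_modEq (p := 19) hτ
    rw [hsupp, Finset.card_singleton, Nat.ModEq] at h19
    have h := Equiv.Perm.card_compl_support_modEq (p := 7) (n := 1)
      (σ := MulAction.toPermHom G (Sylow 19 G) (g : G)) (by rw [pow_one, ← map_pow, h7, map_one])
    rw [show (MulAction.toPermHom G (Sylow 19 G) (g : G)).supportᶜ =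
      Finset.univ.filter (fun Q : Sylow 19 G => (g : G) • Q = Q) by ext Q; simp,
      ← Fintype.card_subtype, Nat.ModEq] at h
    rw [Nat.card_eq_fintype_card] at hn
    have hle := Fintype.card_subtype_le (fun Q : Sylow 19 G => (g : G) • Q = Q)
    have hall : Fintype.card {Q : Sylow 19 G // (g : G) • Q = Q} = Fintype.card (Sylow 19 G) := by
      omega
    have hg1 : (g : G) = 1 := by
      rcases (MonoidHom.normal_ker (MulAction.toPermHom G (Sylow 19 G))).eq_bot_or_eq_top with hk | hk
      · refine Subgroup.mem_bot.mp (hk ▸ MonoidHom.mem_ker.mpr (Equiv.ext fun Q => ?_))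
        by_contra hQ
        exact (Fintype.card_subtype_lt (p := fun Q : Sylow 19 G => (g : G) • Q = Q) hQ).ne hall
      · exfalso
        refine hNtop (eq_top_iff.mpr fun y _ => Sylow.smul_eq_iff_mem_normalizer.mp ?_)
        exact Equiv.Perm.ext_iff.mp (MonoidHom.mem_ker.mp (hk ▸ mem_top y)) P
    rw [← Subgroup.orderOf_coe, hg1, orderOf_one] at hg
    omega
  -- 1008 Sylow subgroups
  rw [hn] at hmul
  have hN456 : Nat.card N = 456 := by omega
  obtain ⟨T⟩ : Nonempty (Sylow 2 N) := inferInstance
  have hT : Nat.card (T : Subgroup N) = 8 := by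
    rw [T.card_eq_multiplicity, hN456, show (456 : ℕ).factorization 2 = 3 from by
      rw [show (456 : ℕ) = 2 ^ 3 * 57 by norm_num, Nat.factorization_mul (by norm_num) (by norm_num),
        Finsupp.add_apply, Nat.prime_two.factorization_pow, Finsupp.single_eq_same,
        Nat.factorization_eq_zero_of_not_dvd (by norm_num)]]
    norm_num
  set T' : Subgroup G := (T : Subgroup N).map N.subtype with hT'
  have hT'c : Nat.card T' = 8 := by rw [hT', card_map_of_injective N.subtype_injective, hT]
  have hT'N : T' ≤ N := map_subtype_le _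
  -- g outside N normalizing T'
  obtain ⟨g, hgn, hgN⟩ : ∃ g ∈ Subgroup.normalizer (T' : Set G), g ∉ N := by
    obtain ⟨S, hS⟩ := (T.2.map N.subtype).exists_le_sylow
    have hSc : Nat.card (S : Subgroup G) = 128 := by
      rw [S.card_eq_multiplicity, hG, fac 2 7 3591 Nat.prime_two (by norm_num) (by norm_num)]
      norm_num
    haveI := S.2.isNilpotent
    have hlt : T'.subgroupOf S < ⊤ := lt_top_iff_ne_top.mpr fun h => by
      have := Subgroup.card_le_of_le (subgroupOf_eq_top.mp h)
      omega
    obtain ⟨s, hs, hsT⟩ := SetLike.exists_of_lt (Group.normalizerCondition_of_isNilpotent _ hlt)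
    have hsn : (s : G) ∈ Subgroup.normalizer (T' : Set G) := by
      rw [mem_normalizer_iff]
      intro x
      by_cases hx : x ∈ (S : Subgroup G)
      · simpa [mem_subgroupOf] using mem_normalizer_iff.mp hs ⟨x, hx⟩
      · refine ⟨fun h => absurd (hS h) hx, fun h => absurd ?_ hx⟩
        have := mul_mem (mul_mem (inv_mem s.2) (hS h)) s.2
        simpa [mul_assoc] using this
    refine ⟨s, hsn, fun hsN => hsT ?_⟩
    -- a 2-element of N normalizing T lies in T
    have hle : (T : Subgroup N) ≤ (T : Subgroup N) ⊔ zpowers ⟨(s : G), hsN⟩ := le_sup_left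
    have hp2 : IsPGroup 2 ((T : Subgroup N) ⊔ zpowers ⟨(s : G), hsN⟩ : Subgroup N) := by
      refine IsPGroup.of_injective (S.2.to_le ?_) ((Subgroup.equivMapOfInjective _ N.subtype
        N.subtype_injective).toMonoidHom) (MulEquiv.injective _)
      rw [Subgroup.map_sup, MonoidHom.map_zpowers]
      exact sup_le hS (zpowers_le.mpr s.2)
    have := T.3 hp2 hle
    have hm : (⟨(s : G), hsN⟩ : N) ∈ (T : Subgroup N) := this ▸ mem_sup_right (mem_zpowers _)
    exact mem_subgroupOf.mpr ⟨_, hm, rfl⟩
  -- the part of T' centralizing P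
  set U : Subgroup G := T' ⊓ centralizer ((P : Subgroup G) : Set G) with hU
  let χ : T' →* MulAut (P : Subgroup G) := ψ.comp (Subgroup.inclusion hT'N)
  have hχU : ∀ t : T', χ t = 1 → (t : G) ∈ U := fun t h =>
    Subgroup.mem_inf.mpr ⟨t.2, hker _ (hT'N t.2) h⟩
  have hU2 : ∀ a ∈ T', ∀ b ∈ T', a ∉ U → b ∉ U → a * b ∈ U := by
    intro a ha b hb hau hbu
    by_contra habu
    have h2 : Nat.card χ.range ≤ 2 := by
      have hd1 : Nat.card χ.range ∣ 8 := hT'c ▸ card_range_dvd χ
      have hd2 : Nat.card χ.range ∣ 18 := h18 ▸ card_subgroup_dvd_card _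
      exact Nat.le_of_dvd two_pos ((Nat.dvd_gcd hd1 hd2).trans (by norm_num))
    haveI := Fintype.ofFinite χ.range
    rw [Nat.card_eq_fintype_card] at h2
    have h3 : ∀ c d : χ.range, c ≠ 1 → d ≠ 1 → c = d := by
      intro c d hc hd
      by_contra hcd
      have : ({1, c, d} : Finset χ.range).card = 3 := by
        rw [Finset.card_insert_of_notMem (by simp [Ne.symm hc, Ne.symm hd]), Finset.card_pair hcd]
      have := Finset.card_le_univ ({1, c, d} : Finset χ.range)
      omega
    have ne1 : ∀ t : T', (t : G) ∉ U → (⟨χ t, t, rfl⟩ : χ.range) ≠ 1 :=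
      fun t ht h => ht (hχU t (congrArg Subtype.val h))
    have e1 := h3 _ _ (ne1 ⟨a, ha⟩ hau) (ne1 ⟨b, hb⟩ hbu)
    have e2 := h3 _ _ (ne1 ⟨a, ha⟩ hau) (ne1 (⟨a, ha⟩ * ⟨b, hb⟩) habu)
    have e2' : χ ⟨a, ha⟩ = χ ⟨a, ha⟩ * χ ⟨b, hb⟩ := (congrArg Subtype.val e2).trans (map_mul χ _ _)
    have : χ ⟨b, hb⟩ = 1 := by simpa using e2'.symm
    exact hbu (hχU ⟨b, hb⟩ this)
  have hsq : ∀ a ∈ T', a * a ∈ U := fun a ha => by
    by_cases h : a ∈ U
    · exact mul_mem h h
    · exact hU2 a ha a ha h h
  -- centralizers of central involutions in U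
  have key : ∀ z ∈ U, orderOf z = 2 → (∀ t ∈ T', t * z = z * t) →
      centralizer ({z} : Set G) ≤ N := by
    intro z hz hzo hzc
    set H := centralizer ({z} : Set G) with hH
    have hHtop : H ≠ ⊤ := by
      intro h
      have hzcen : z ∈ center G := mem_center_iff.mpr fun y =>
        mem_centralizer_singleton_iff.mp (hH ▸ h ▸ mem_top y)
      rcases (Subgroup.instNormalCenter : (center G).Normal).eq_bot_or_eq_top with hc | hc
      · rw [hc, Subgroup.mem_bot] at hzcen; rw [hzcen, orderOf_one] at hzo; omega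
      · refine hNtop (eq_top_iff.mpr fun y _ => ?_)
        exact centralizer_le_normalizer _ (mem_centralizer_iff.mpr fun w hw => by
          exact ((mem_center_iff.mp (hc ▸ mem_top w : w ∈ center G)) y).symm)
    have hPH : (P : Subgroup G) ≤ H := fun x hx => mem_centralizer_singleton_iff.mpr
      ((mem_centralizer_iff.mp (Subgroup.mem_inf.mp hz).2 x hx))
    have hTH : T' ≤ H := fun t ht => mem_centralizer_singleton_iff.mpr (hzc t ht)
    let PH := P.subtype hPH
    have hnorm : Subgroup.normalizer ((PH : Subgroup H) : Set H) = N.subgroupOf H := by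
      ext h
      rw [mem_subgroupOf, hN, mem_normalizer_iff, mem_normalizer_iff, P.coe_subtype]
      constructor
      · intro hh x
        by_cases hx : x ∈ H
        · simpa [mem_subgroupOf] using hh ⟨x, hx⟩
        · refine ⟨fun h' => absurd (hPH h') hx, fun h' => absurd ?_ hx⟩
          have := mul_mem (mul_mem (inv_mem h.2) (hPH h')) h.2
          simpa [mul_assoc] using this
      · intro hh x
        simpa [mem_subgroupOf] using hh x
    have hprod := card_mul_index (N.subgroupOf H)
    rw [show (N.subgroupOf H).index = Nat.card (Sylow 19 H) from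
      ((congrArg Subgroup.index hnorm).symm.trans PH.card_eq_index_normalizer.symm)] at hprod
    have ha : 152 ∣ Nat.card (N.subgroupOf H) := by
      have h8 : 8 ∣ Nat.card (N.subgroupOf H) := by
        rw [← hT'c, ← Nat.card_congr (subgroupOfEquivOfLe hTH).toEquiv]
        exact card_dvd_of_le (fun t ht => hT'N ht)
      have h19 : 19 ∣ Nat.card (N.subgroupOf H) := by
        rw [← hP, ← Nat.card_congr (subgroupOfEquivOfLe hPH).toEquiv]
        exact card_dvd_of_le (fun t ht => Subgroup.le_normalizer ht)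
      exact Nat.Coprime.mul_dvd_of_dvd_of_dvd (by norm_num) h8 h19
    have hHd : Nat.card H ∣ 459648 := hG ▸ card_subgroup_dvd_card H
    have hd : Nat.card (Sylow 19 H) ∣ 3024 := by
      obtain ⟨d, hd⟩ := ha
      refine Nat.dvd_of_mul_dvd_mul_left (show 0 < 152 by norm_num) (dvd_trans ⟨d, ?_⟩ hHd)
      rw [← hprod, hd]; ring
    rcases cases1008 _ (Nat.lt_succ_of_le ((Nat.le_of_dvd (by norm_num) hd).trans (by norm_num))) hd
      (card_sylow_modEq_one 19 H) with h | h
    · rw [h, mul_one] at hprod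
      exact subgroupOf_eq_top.mp (eq_top_of_card_eq _ hprod)
    · exfalso
      rw [h] at hprod
      have hpos : 152 ≤ Nat.card (N.subgroupOf H) := Nat.le_of_dvd Nat.card_pos ha
      have hidx := H.card_mul_index
      rw [hG] at hidx
      have h3 : H.index ≤ 3 := by nlinarith
      have := Nat.le_of_dvd (Nat.factorial_pos _) (card_dvd_index_factorial H hHtop)
      have := Nat.factorial_le h3
      rw [hG] at *
      norm_num [Nat.factorial] at *
      omega
  -- contradiction
  have main : ∀ z ∈ U, orderOf z = 2 → (∀ t ∈ T', t * z = z * t) → g * z * g⁻¹ ∈ U → False := by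
    intro z hz hzo hzc hgz
    have hzo' : orderOf (g * z * g⁻¹) = 2 := by
      rw [← MulAut.conj_apply, ← MulEquiv.coe_toMonoidHom,
        orderOf_injective _ (MulAut.conj g).injective, hzo]
    have hzc' : ∀ t ∈ T', t * (g * z * g⁻¹) = g * z * g⁻¹ * t := by
      intro t ht
      have ht' : g⁻¹ * t * g ∈ T' := by
        have := (mem_normalizer_iff.mp (inv_mem hgn) t).mp ht
        simpa using this
      calc t * (g * z * g⁻¹) = g * (g⁻¹ * t * g * z) * g⁻¹ := by group
        _ = g * (z * (g⁻¹ * t * g)) * g⁻¹ := by rw [hzc _ ht']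
        _ = g * z * g⁻¹ * t := by group
    have hle := key _ hgz hzo' hzc'
    -- the conjugate of P lies in N
    have hsub : ∀ x ∈ (P : Subgroup G), g * x * g⁻¹ ∈ N := by
      intro x hx
      refine hle (mem_centralizer_singleton_iff.mpr ?_)
      have e := mem_centralizer_iff.mp (Subgroup.mem_inf.mp hz).2 x hx
      calc g * x * g⁻¹ * (g * z * g⁻¹) = g * (x * z) * g⁻¹ := by group
        _ = g * (z * x) * g⁻¹ := by rw [e]
        _ = g * z * g⁻¹ * (g * x * g⁻¹) := by group
    apply hgN
    have hle2 : ((g • P : Sylow 19 G) : Subgroup G) ≤ N := by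
      intro y hy
      rw [Sylow.coe_subgroup_smul, Subgroup.mem_pointwise_smul_iff_inv_smul_mem] at hy
      have := hsub _ hy
      simpa [MulAut.smul_def, mul_assoc] using this
    have h2 : ((g • P : Sylow 19 G) : Subgroup G) ≤ (P : Subgroup G) :=
      ((le_inf le_rfl hle2).trans ((g • P).2.inf_normalizer_sylow P).le).trans inf_le_right
    exact Sylow.smul_eq_iff_mem_normalizer.mp (Sylow.ext ((g • P).3 P.2 h2)).symm
  have hgT : ∀ t ∈ T', g * t * g⁻¹ ∈ T' := fun t ht => (mem_normalizer_iff.mp hgn t).mp ht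
  by_cases hex : ∃ t ∈ T', t * t ≠ 1 ∧ ∀ s ∈ T', s * (t * t) = t * t * s
  · obtain ⟨t, ht, ht1, htc⟩ := hex
    obtain ⟨k, hk⟩ := IsPGroup.iff_orderOf.mp (T.2.map N.subtype) ⟨t * t, mul_mem ht ht⟩
    rw [Subgroup.orderOf_mk] at hk
    rcases k with _ | k
    · exact ht1 (orderOf_eq_one_iff.mp hk)
    have hto : orderOf ((t * t) ^ 2 ^ k) = 2 := by
      rw [orderOf_pow_of_dvd (by positivity) (hk ▸ pow_dvd_pow 2 (Nat.le_succ k)), hk, pow_succ,
        Nat.mul_div_cancel_left _ (by positivity)]
    refine main _ (pow_mem (hsq t ht) _) hto (fun s hs => ((show Commute s (t * t) from htc s hs).pow_right _)) ?_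
    rw [← conj_pow, show g * (t * t) * g⁻¹ = (g * t * g⁻¹) * (g * t * g⁻¹) by group]
    exact pow_mem (hsq _ (hgT t ht)) _
  push Not at hex
  -- squares are central, hence trivial
  have hexp : ∀ t ∈ T', t * t = 1 := by
    intro t ht
    by_contra ht1
    obtain ⟨s, hs, hne⟩ := hex t ht ht1
    apply hne
    have hc : (⟨t, ht⟩ : T') * ⟨t, ht⟩ ∈ center T' := by
      by_cases hcy : IsMulCommutative T'
      · exact mem_center_iff.mpr fun y => hcy.is_comm.comm _ _
      have hT8 : IsPGroup 2 T' := T.2.map N.subtype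
      haveI : Nontrivial T' := Finite.one_lt_card_iff_nontrivial.mp (by omega)
      haveI := hT8.center_nontrivial
      obtain ⟨j, hj⟩ := hT8.index (center T')
      have hm := (center T').card_mul_index
      have hc2 : 2 ≤ Nat.card (center T') := Finite.one_lt_card
      rw [hT'c, hj] at hm
      have hj2 : j = 2 := by
        by_contra hj2
        rcases j with _ | _ | _ | j
        · apply hcy
          rw [pow_zero, index_eq_one] at hj
          exact ⟨⟨fun a b => (mem_center_iff.mp (hj ▸ mem_top b : b ∈ center T') a)⟩⟩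
        · apply hcy
          haveI : IsCyclic (T' ⧸ center T') := isCyclic_of_prime_card (p := 2) (by
            rw [← index_eq_card, hj]; norm_num)
          exact MonoidHom.isMulCommutative_of_isCyclic_of_ker_le_center
            (QuotientGroup.mk' (center T')) (by rw [QuotientGroup.ker_mk'])
        · exact hj2 rfl
        · rw [pow_succ, pow_succ, pow_succ] at hm
          have := Nat.mul_le_mul_right (2 ^ j * 2 * 2 * 2) hc2
          have := Nat.one_le_pow j 2 two_pos
          omega
      subst hj2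
      rw [← QuotientGroup.eq_one_iff (N := center T'), QuotientGroup.mk_mul, ← pow_two]
      have h4 : Nat.card (T' ⧸ center T') = 4 := by rw [← index_eq_card, hj]; norm_num
      by_contra hne2
      have h4' : orderOf ((⟨t, ht⟩ : T') : T' ⧸ center T') = 2 ^ 2 := by
        refine orderOf_eq_prime_pow (p := 2) (n := 1) (by simpa using hne2) ?_
        rw [show (2 : ℕ) ^ (1 + 1) = Nat.card (T' ⧸ center T') by rw [h4]; norm_num]
        exact pow_card_eq_one'
      haveI : IsCyclic (T' ⧸ center T') :=
        isCyclic_of_orderOf_eq_card _ (h4'.trans (by rw [h4]; norm_num))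
      exact hcy (MonoidHom.isMulCommutative_of_isCyclic_of_ker_le_center
        (QuotientGroup.mk' (center T')) (by rw [QuotientGroup.ker_mk']))
    exact congrArg Subtype.val (mem_center_iff.mp hc ⟨s, hs⟩)
  have hcomm : ∀ s ∈ T', ∀ t ∈ T', s * t = t * s := by
    intro s hs t ht
    have e := hexp _ (mul_mem hs ht)
    calc s * t = (t * t) * (s * t) * (s * s) := by rw [hexp t ht, hexp s hs, one_mul, mul_one]
      _ = t * ((t * s) * (t * s)) * s := by group
      _ = t * s := by rw [hexp _ (mul_mem ht hs), mul_one]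
  have hord : ∀ t ∈ T', t ≠ 1 → orderOf t = 2 := fun t ht h1 =>
    orderOf_eq_prime (by rw [pow_two]; exact hexp t ht) h1
  -- U has at least four elements
  have hU4 : ∃ u ∈ U, ∃ v ∈ U, u ≠ 1 ∧ v ≠ 1 ∧ u ≠ v := by
    by_contra hcon
    push Not at hcon
    haveI := Fintype.ofFinite T'
    have h8 : Fintype.card T' = 8 := by rw [← Nat.card_eq_fintype_card, hT'c]
    let A : Finset T' := Finset.univ.filter fun t => (t : G) ∈ U
    let B : Finset T' := Finset.univ.filter fun t => (t : G) ∉ U
    have hA : A.card ≤ 2 := by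
      by_contra hA
      obtain ⟨a, ha, b, hb, hab⟩ := Finset.one_lt_card.mp
        (show 1 < (A.erase 1).card by have := Finset.pred_card_le_card_erase (s := A) (a := 1); omega)
      rw [Finset.mem_erase, Finset.mem_filter] at ha hb
      exact hab (Subtype.ext (hcon a ha.2.2 b hb.2.2 (fun h => ha.1 (Subtype.ext h))
        (fun h => hb.1 (Subtype.ext h))))
    have hAB : A.card + B.card = 8 := by
      rw [Finset.card_filter_add_card_filter_not]; simpa using h8
    obtain ⟨b, hb⟩ := Finset.card_pos.mp (show 0 < B.card by omega)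
    have hBA : B.card ≤ A.card := by
      refine Finset.card_le_card_of_injOn (fun t => b * t) (fun t ht => ?_) (fun x _ y _ h => mul_left_cancel h)
      simp only [A, B, Finset.mem_coe, Finset.mem_filter, Finset.mem_univ, true_and] at ht hb ⊢
      exact hU2 b b.2 t t.2 hb ht
    omega
  obtain ⟨u, hu, v, hv, hu1, hv1, huv⟩ := hU4
  have huT := (Subgroup.mem_inf.mp hu).1
  have hvT := (Subgroup.mem_inf.mp hv).1
  have huvT := mul_mem huT hvT
  have huv1 : u * v ≠ 1 := fun h => huv (by
    have := eq_inv_of_mul_eq_one_left h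
    rw [this]; exact inv_eq_of_mul_eq_one_left (hexp v hvT))
  by_cases h1 : g * u * g⁻¹ ∈ U
  · exact main u hu (hord u huT hu1) (fun t ht => hcomm t ht u huT) h1
  by_cases h2 : g * v * g⁻¹ ∈ U
  · exact main v hv (hord v hvT hv1) (fun t ht => hcomm t ht v hvT) h2
  refine main (u * v) (mul_mem hu hv) (hord _ huvT huv1) (fun t ht => hcomm t ht _ huvT) ?_
  rw [show g * (u * v) * g⁻¹ = (g * u * g⁻¹) * (g * v * g⁻¹) by group]
  exact hU2 _ (hgT u huT) _ (hgT v hvT) h1 h2

end Cfsg.Agent.S1022
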