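import Cfsg.Statements.S1024
import Cfsg.Agent.Lib.Lie.Chev.All

set_option autoImplicit false
open Cfsg

namespace Cfsg.Agent.S1024

/-- `x_r(0) = 1`, and `x_r(t) = 1` forces `t = 0`: the map `t ↦ x_r(t)` is injective. -/
theorem result {F : Type*} [Field F] (D : Cfsg.Lie.ChevalleyDatum) (hD : D ∈ [Cfsg.Lie.chevG2, Cfsg.Lie.chevB2, Cfsg.Lie.chevD4, Cfsg.Lie.chevF4, Cfsg.Lie.chevE6, Cfsg.Lie.chevE7, Cfsg.Lie.chevE8]) (r : ℕ) (hr : r < D.nroots) (t : F) :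
    D.x F r t = 1 ↔ t = 0 := by
  obtain ⟨X, C⟩ := CfsgLib.Lie.Chev.cert_of_mem hD
  refine ⟨fun h => ?_, fun h => by rw [h, C.x_zero hr]⟩
  obtain ⟨a, ha, b, hb, hg⟩ := C.cor_primitive hr
  have key : ∀ i, i < D.rank → (X.cor i r : F) * t = 0 := by
    intro i hi
    have h' := congrFun (congrFun h (Sum.inl ⟨i, hi⟩)) (Sum.inr ⟨D.neg r, C.neg_lt hr⟩)
    rw [C.xM_inl_inr hr] at h'
    simpa using h'
  have hbz := congrArg (fun z : ℤ => (z : F)) (Int.gcd_eq_gcd_ab (X.cor a r) (X.cor b r))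
  rw [hg] at hbz
  push_cast at hbz
  linear_combination t * hbz + (Int.gcdA (X.cor a r) (X.cor b r) : F) * key a ha +
    (Int.gcdB (X.cor a r) (X.cor b r) : F) * key b hb

end Cfsg.Agent.S1024
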