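import Cfsg.Statements.S1030
import Cfsg.Agent.Lib.Lie.Rel.SL2
import Cfsg.Agent.Lib.Lie.Rel.Inst
import Cfsg.Agent.Lib.Lie.Chev.All

set_option autoImplicit false
open Cfsg

namespace Cfsg.Agent.S1030

/-- There is a homomorphism `SL₂(F) → GL` with image `⟨X_r, X_{-r}⟩` sending `[[1,t],[0,1]]` to `x_r(t)` and `[[1,0],[t,1]]` to `x_{-r}(t)`. -/
theorem result {F : Type*} [Field F] (D : Cfsg.Lie.ChevalleyDatum) (hD : D ∈ [Cfsg.Lie.chevG2, Cfsg.Lie.chevB2, Cfsg.Lie.chevD4, Cfsg.Lie.chevF4, Cfsg.Lie.chevE6, Cfsg.Lie.chevE7, Cfsg.Lie.chevE8]) (r : ℕ) (hr : r < D.nroots) :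
    ∃ φ : Matrix.SpecialLinearGroup (Fin 2) F →* GL D.Idx F,
      φ.range = D.rootSubgroup F r ⊔ D.rootSubgroup F (D.neg r) ∧
      ∀ (g : Matrix.SpecialLinearGroup (Fin 2) F) (t : F),
        ((g : Matrix (Fin 2) (Fin 2) F) = !![1, t; 0, 1] → ((φ g : GL D.Idx F) : Matrix D.Idx D.Idx F) = D.x F r t) ∧
        ((g : Matrix (Fin 2) (Fin 2) F) = !![1, 0; t, 1] → ((φ g : GL D.Idx F) : Matrix D.Idx D.Idx F) = D.x F (D.neg r) t) := by

  obtain ⟨X, C⟩ := CfsgLib.Lie.Chev.cert_of_mem hD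
  refine ⟨(D.group F).subtype.comp ((CfsgLib.Lie.Chev.chevRel C F).slHom ⟨r, hr⟩), ?_, fun g t => ⟨fun e => ?_, fun e => ?_⟩⟩
  · have key : ∀ s : Fin D.nroots,
        (Subgroup.closure {x | ∃ t : F, x = (CfsgLib.Lie.Chev.chevRel C F).xe (s : ℕ) t}).map (D.group F).subtype =
          D.rootSubgroup F s := by
      intro s
      rw [MonoidHom.map_closure]
      unfold Cfsg.Lie.ChevalleyDatum.rootSubgroup
      congr 1
      ext x
      exact ⟨fun ⟨_, ⟨t, rfl⟩, hx⟩ => ⟨t, by rw [← hx]; rfl⟩, fun ⟨t, hx⟩ => ⟨_, ⟨t, rfl⟩, Units.ext hx.symm⟩⟩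
    rw [MonoidHom.range_comp, (CfsgLib.Lie.Chev.chevRel C F).slHom_range, Subgroup.map_sup, key, key]
    rfl
  · have hg : g = CfsgLib.Lie.Chev.Rel.slX t := Subtype.ext e
    subst hg
    show (((CfsgLib.Lie.Chev.chevRel C F).slMap ⟨r, hr⟩ _ : ↥(D.group F)) : GL D.Idx F).1 = _
    rw [(CfsgLib.Lie.Chev.chevRel C F).slMap_slX]
    rfl
  · show (((CfsgLib.Lie.Chev.chevRel C F).slHom ⟨r, hr⟩ g : ↥(D.group F)) : GL D.Idx F).1 = _
    rw [(CfsgLib.Lie.Chev.chevRel C F).slHom_lower _ t g e]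
    rfl

end Cfsg.Agent.S1030
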