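import Cfsg.Statements.S1032
import Cfsg.Agent.Lib.Lie.Chev.All

set_option autoImplicit false
open Cfsg

namespace Cfsg.Agent.S1032

/-- For a fundamental root `p`, a root `s` and `c ≠ 0`: `h_p(c) x_s(t) h_p(c)⁻¹ = x_s(c^{A_{p,s}} t)`, stated as `h_p(c) x_s(t) = x_s(c^{A_{p,s}} t) h_p(c)`. -/
theorem result {F : Type*} [Field F] (D : Cfsg.Lie.ChevalleyDatum) (hD : D ∈ [Cfsg.Lie.chevG2, Cfsg.Lie.chevB2, Cfsg.Lie.chevD4, Cfsg.Lie.chevF4, Cfsg.Lie.chevE6, Cfsg.Lie.chevE7, Cfsg.Lie.chevE8]) (i s : ℕ) (hi : i < D.rank) (hs : s < D.nroots) (c : F) (hc : c ≠ 0) (t : F) :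
    D.hMat F (D.simple i) c * D.x F s t = D.x F s (c ^ (D.cartan i s) * t) * D.hMat F (D.simple i) c := by
  obtain ⟨X, C⟩ := CfsgLib.Lie.Chev.cert_of_mem hD
  have e : D.hMat F (D.simple i) c = D.nMat F (D.simple i) c * D.nMat F (D.simple i) (-1) := by
    simp [Cfsg.Lie.ChevalleyDatum.hMat, Cfsg.Lie.ChevalleyDatum.hWord, Cfsg.Lie.ChevalleyDatum.nMat,
      Cfsg.Lie.ChevalleyDatum.wordMat, List.prod_append]
  rw [e, mul_assoc, C.nMat_mul_x hi hs (by norm_num : (-1 : F) ≠ 0), ← mul_assoc,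
    C.nMat_mul_x hi (C.w_lt hi hs) hc, C.w_w hi hs, mul_assoc]
  congr 2
  rw [C.cartan_w_self hi hs, neg_neg]
  have h1 := congrArg (fun z : ℤ => (z : F)) (C.eta_mul hi hs)
  push_cast at h1
  have h2 : (-1 : F) ^ (-(D.cartan i s)) = (-1 : F) ^ (D.cartan i s).natAbs := by
    rcases Int.natAbs_eq (D.cartan i s) with hA | hA
    · conv_lhs => rw [hA, zpow_neg, zpow_natCast]
      rw [← inv_pow]; norm_num
    · conv_lhs => rw [hA, neg_neg, zpow_natCast]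
  rw [h2, ← h1]
  linear_combination c ^ D.cartan i s * t *
    ((X.eta i s : F) * (X.eta i s : F) * X.eta_sq_cast (F := F) i (X.w i s) + X.eta_sq_cast (F := F) i s)

end Cfsg.Agent.S1032
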