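import Cfsg.Statements.S1046
import Cfsg.Agent.Lib.Lie.Rel.TorusConj
import Cfsg.Agent.Lib.Lie.Chev.All

set_option autoImplicit false
open Cfsg

namespace Cfsg.Agent.S1046

/-- Two elements of `H` conjugate in the Chevalley group are conjugate by an element of `N`. -/
theorem result {F : Type*} [Field F] (D : Cfsg.Lie.ChevalleyDatum) (hD : D ∈ [Cfsg.Lie.chevG2, Cfsg.Lie.chevB2, Cfsg.Lie.chevD4, Cfsg.Lie.chevF4, Cfsg.Lie.chevE6, Cfsg.Lie.chevE7, Cfsg.Lie.chevE8]) (h₁ h₂ g : GL D.Idx F) (h1 : h₁ ∈ D.diagonalSubgroup F) (h2 : h₂ ∈ D.diagonalSubgroup F)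
    (hg : g ∈ D.group F) (hc : g * h₁ * g⁻¹ = h₂) :
    ∃ n ∈ D.monomialSubgroup F, n * h₁ * n⁻¹ = h₂ := by

  obtain ⟨X, C⟩ := CfsgLib.Lie.Chev.cert_of_mem hD
  rw [CfsgLib.Lie.Chev.diagonalSubgroup_eq C F] at h1 h2
  obtain ⟨a, ha, rfl⟩ := h1
  obtain ⟨b, hb, rfl⟩ := h2
  obtain ⟨n, hn, e⟩ := (CfsgLib.Lie.Chev.chevRel C F).exists_NS_conj (g := ⟨g, hg⟩) ha hb
    (Subtype.ext (mul_inv_eq_iff_eq_mul.1 hc))
  refine ⟨(n : GL D.Idx F), ?_, congrArg Subtype.val e⟩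
  rw [CfsgLib.Lie.Chev.monomialSubgroup_eq C F]
  exact ⟨n, hn, rfl⟩

end Cfsg.Agent.S1046
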