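import Cfsg.Statements.S1058
import Cfsg.Agent.Lib.Known.ChevSympIso
import Cfsg.Agent.S0247

set_option autoImplicit false
open Cfsg

namespace Cfsg.Agent.S1058

/-- B₂(2) ≅ S₆. -/
theorem result {F : Type*} [Field F] [Fintype F] (hF : Fintype.card F = 2) :
    Nonempty (↥(Cfsg.Lie.chevB2.group F) ≃* Equiv.Perm (Fin 6)) := by
  haveI : CharP F 2 := by
    obtain ⟨p, hc⟩ := CharP.exists F
    haveI := hc
    obtain ⟨n, hp, hn⟩ := FiniteField.card F p
    rw [hF] at hn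
    have : p ∣ 2 := hn ▸ dvd_pow_self p n.ne_zero
    rwa [← (Nat.prime_dvd_prime_iff_eq hp Nat.prime_two).1 this]
  obtain ⟨e⟩ := CfsgLib.Known.ChevSymp.nonempty_equiv (F := F)
  obtain ⟨e'⟩ := Cfsg.Agent.S0247.result hF
  exact ⟨e.trans e'⟩

end Cfsg.Agent.S1058
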