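import Cfsg.Statements.S1060
import Cfsg.Agent.Lib.Lie.Rel.Order

set_option autoImplicit false
open Cfsg

namespace Cfsg.Agent.S1060

/-- `gcd(2, q-1) · |B₂(q)| = q⁴ (q² - 1)(q⁴ - 1)`. -/
theorem result {F : Type*} [Field F] [Fintype F] {q : ℕ} (hq : Fintype.card F = q) : Nat.gcd 2 (q - 1) * Nat.card ↥(Cfsg.Lie.chevB2.group F) = q ^ 4 * (q ^ 2 - 1) * (q ^ 4 - 1) := by
  have h := CfsgLib.Lie.Chev.card_group CfsgLib.Lie.Chev.certB2 F CfsgLib.Lie.Chev.cmat_B2 CfsgLib.Lie.Chev.smithB2 CfsgLib.Lie.Chev.polyB2 hq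
  have e1 : Cfsg.Lie.chevB2.nroots / 2 = 4 := by decide
  rw [e1, Fin.prod_univ_eq_prod_range (fun i => Nat.gcd (q - 1) (([1, 2] : List ℕ).getD i 0))] at h
  simp only [show Cfsg.Lie.chevB2.rank = 2 from rfl, Finset.prod_range_succ, Finset.prod_range_zero] at h
  simpa [Nat.gcd_comm, pow_two, mul_assoc] using h

end Cfsg.Agent.S1060
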