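import Cfsg.Statements.S1075
import Cfsg.Agent.Lib.Lie.Twisted.Ree.Three
import Cfsg.Agent.S1117
import Cfsg.Agent.S1011

set_option autoImplicit false
open Cfsg

namespace Cfsg.Agent.S1075

open CfsgLib.Lie.Ree in
theorem aux {K : Type*} [Field K] [Fintype K] (hK : Fintype.card K = 3 ^ (2 * 0 + 1))
    {L : Type*} [Field L] [Fintype L] (hL : Fintype.card L = 8) :
    Nat.card ↥(commutator ↥(Cfsg.Lie.twistedG2 K (3 ^ 0))) = 504 ∧
      Nonempty (↥(commutator ↥(Cfsg.Lie.twistedG2 K (3 ^ 0))) ≃*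
        Matrix.ProjectiveSpecialLinearGroup (Fin 2) L) := by
  have hcore : (BR K 0).normalCore = ⊥ := Cfsg.Agent.S1117.result hK
  obtain ⟨N, hN, hN504, hle⟩ := Three.exists_kernel hK
  haveI := hN
  haveI := Three.isSimple_kernel hK hcore hN504
  rw [Three.commutator_eq hK hcore hN504 hle]
  exact ⟨hN504, Cfsg.Agent.S1011.result hN504 hL⟩

/-- The derived subgroup of ²G₂(3) (θ = identity over the field with three elements) has order 504 = 1512/3 and is isomorphic to PSL₂ over the field with eight elements. -/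
theorem result {L : Type*} [Field L] [Fintype L] (hL : Fintype.card L = 8) :
    Nat.card ↥(commutator ↥(Cfsg.Lie.twistedG2 (ZMod 3) 1)) = 504 ∧
      Nonempty (↥(commutator ↥(Cfsg.Lie.twistedG2 (ZMod 3) 1)) ≃* Matrix.ProjectiveSpecialLinearGroup (Fin 2) L) := by
  exact aux (K := ZMod 3) (ZMod.card 3) hL

end Cfsg.Agent.S1075
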