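import Cfsg.Statements.S1078
import Cfsg.Agent.Lib.Lie.Rel.Steinberg
import Cfsg.Agent.Lib.Lie.Rel.OrderData

set_option autoImplicit false
open Cfsg

namespace Cfsg.Agent.S1078

/-- For G₂, F₄, E₈ the presented group has trivial centre (the universal and adjoint groups coincide). -/
theorem result {K : Type*} [Field K] (D : Cfsg.Lie.ChevalleyDatum) (hD : D ∈ [Cfsg.Lie.chevG2, Cfsg.Lie.chevF4, Cfsg.Lie.chevE8]) :
    Subgroup.center (D.SteinbergGroup K) = ⊥ := by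

  have hD' : D ∈ [Cfsg.Lie.chevG2, Cfsg.Lie.chevB2, Cfsg.Lie.chevD4, Cfsg.Lie.chevF4, Cfsg.Lie.chevE6,
      Cfsg.Lie.chevE7, Cfsg.Lie.chevE8] := by
    simp only [List.mem_cons, List.not_mem_nil, or_false] at hD ⊢
    tauto
  have hc := CfsgLib.Lie.Chev.connected_of_mem hD'
  simp only [List.mem_cons, List.not_mem_nil, or_false] at hD
  rcases hD with rfl | rfl | rfl
  · rw [CfsgLib.Lie.Chev.center_stGroup CfsgLib.Lie.Chev.certG2 K CfsgLib.Lie.Chev.witG2 hc]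
    exact CfsgLib.Lie.Chev.stTheta_ker_bot _ K CfsgLib.Lie.Chev.witG2 CfsgLib.Lie.Chev.cmat_G2
      CfsgLib.Lie.Chev.smithG2 (by decide +kernel)
  · rw [CfsgLib.Lie.Chev.center_stGroup CfsgLib.Lie.Chev.certF4 K CfsgLib.Lie.Chev.witF4 hc]
    exact CfsgLib.Lie.Chev.stTheta_ker_bot _ K CfsgLib.Lie.Chev.witF4 CfsgLib.Lie.Chev.cmat_F4
      CfsgLib.Lie.Chev.smithF4 (by decide +kernel)
  · rw [CfsgLib.Lie.Chev.center_stGroup CfsgLib.Lie.Chev.certE8 K CfsgLib.Lie.Chev.witE8 hc]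
    exact CfsgLib.Lie.Chev.stTheta_ker_bot _ K CfsgLib.Lie.Chev.witE8 CfsgLib.Lie.Chev.cmat_E8
      CfsgLib.Lie.Chev.smithE8 (by decide +kernel)

end Cfsg.Agent.S1078
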