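import Cfsg.Statements.S1081
import Cfsg.Agent.Lib.Lie.Rel.TwistTables

set_option autoImplicit false
open Cfsg

namespace Cfsg.Agent.S1081

open CfsgLib.Lie.Chev in
theorem aux {D : Cfsg.Lie.ChevalleyDatum} {X : Aux} (C : Cert D X) {K : Type*} [Field K] {p : ℕ} {E : List ℕ}
    (hK : TwField K p E) {T : List (ℕ × ℤ × ℕ)} (hT : chkTw D p E T = true) {k P : ℕ}
    (hk : chkTwPeriod D p T (k + 1) P = true) {L : List (ℕ × ℕ × ℕ × List ℤ)} (hL : chkWits D X L = true)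
    (hc : Rel.Connected D) (hP : P ∈ E) (hP0 : 0 < P) (f : ℕ → ℕ × ℕ)
    (hf : ∀ i < D.rank, twAt D T (D.simple i) = (D.simple (f i).1, 1, (f i).2) ∧
      twAt D T (D.neg (D.simple i)) = (D.neg (D.simple (f i).1), 1, (f i).2)) :
    ∃ α : ↥(D.group K) ≃* ↥(D.group K), ∀ (g : ↥(D.group K)) (i : ℕ) (t : K), i < D.rank →
      (((g : GL D.Idx K) : Matrix D.Idx D.Idx K) = D.x K (D.simple i) t →
        ((α g : GL D.Idx K) : Matrix D.Idx D.Idx K) = D.x K (D.simple (f i).1) (t ^ (f i).2)) ∧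
      (((g : GL D.Idx K) : Matrix D.Idx D.Idx K) = D.x K (D.neg (D.simple i)) t →
        ((α g : GL D.Idx K) : Matrix D.Idx D.Idx K) = D.x K (D.neg (D.simple (f i).1)) (t ^ (f i).2)) := by
  obtain ⟨α, hα⟩ := twEnd_spec C hK hT hk hL hc hP hP0
  refine ⟨α, fun g i t hi => ⟨fun e => ?_, fun e => ?_⟩⟩
  · rw [hα g _ t e, (hf i hi).1, Int.cast_one, one_mul]
  · rw [hα g _ t e, (hf i hi).2, Int.cast_one, one_mul]


/-- Graph automorphisms: for E₆ with ρ = (p₁ p₆)(p₃ p₅) and for D₄ with ρ the 3-cycle on the outer nodes there is a group automorphism sending `x_p(t) ↦ x_{ρ(p)}(t)` and `x_{-p}(t) ↦ x_{-ρ(p)}(t)` for every fundamental root `p`. -/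
theorem result {F : Type*} [Field F] (p : Cfsg.Lie.ChevalleyDatum × List ℕ)
    (hp : p ∈ [(Cfsg.Lie.chevE6, [5, 1, 4, 3, 2, 0]), (Cfsg.Lie.chevD4, [2, 1, 3, 0]), (Cfsg.Lie.chevD4, [3, 1, 0, 2])]) :
    ∃ α : ↥(p.1.group F) ≃* ↥(p.1.group F), ∀ (g : ↥(p.1.group F)) (i : ℕ) (t : F), i < p.1.rank →
      (((g : GL p.1.Idx F) : Matrix p.1.Idx p.1.Idx F) = p.1.x F (p.1.simple i) t →
        ((α g : GL p.1.Idx F) : Matrix p.1.Idx p.1.Idx F) = p.1.x F (p.1.simple (p.2.getD i 0)) t) ∧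
      (((g : GL p.1.Idx F) : Matrix p.1.Idx p.1.Idx F) = p.1.x F (p.1.neg (p.1.simple i)) t →
        ((α g : GL p.1.Idx F) : Matrix p.1.Idx p.1.Idx F) = p.1.x F (p.1.neg (p.1.simple (p.2.getD i 0))) t) := by

  simp only [List.mem_cons, List.not_mem_nil, or_false] at hp
  rcases hp with rfl | rfl | rfl
  · have h := aux CfsgLib.Lie.Chev.certE6 (CfsgLib.Lie.Chev.twField_one F) CfsgLib.Lie.Chev.twOkE6 CfsgLib.Lie.Chev.twPerE6 CfsgLib.Lie.Chev.witE6
      (CfsgLib.Lie.Chev.connected_of_chk (by decide +kernel)) (List.mem_singleton.2 rfl) Nat.one_pos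
      (fun i => ([5, 1, 4, 3, 2, 0].getD i 0, 1)) (by decide +kernel)
    simpa only [pow_one] using h
  · have h := aux CfsgLib.Lie.Chev.certD4 (CfsgLib.Lie.Chev.twField_one F) CfsgLib.Lie.Chev.twOkD4 CfsgLib.Lie.Chev.twPerD4 CfsgLib.Lie.Chev.witD4
      (CfsgLib.Lie.Chev.connected_of_chk (by decide +kernel)) (List.mem_singleton.2 rfl) Nat.one_pos
      (fun i => ([2, 1, 3, 0].getD i 0, 1)) (by decide +kernel)
    simpa only [pow_one] using h
  · have h := aux CfsgLib.Lie.Chev.certD4 (CfsgLib.Lie.Chev.twField_one F) CfsgLib.Lie.Chev.twOkD4b CfsgLib.Lie.Chev.twPerD4b CfsgLib.Lie.Chev.witD4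
      (CfsgLib.Lie.Chev.connected_of_chk (by decide +kernel)) (List.mem_singleton.2 rfl) Nat.one_pos
      (fun i => ([3, 1, 0, 2].getD i 0, 1)) (by decide +kernel)
    simpa only [pow_one] using h

end Cfsg.Agent.S1081
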