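import Cfsg.Statements.S1088
import Cfsg.Agent.Lib.Lie.Twisted.D4

set_option autoImplicit false
open Cfsg

namespace Cfsg.Agent.S1088

open CfsgLib.Lie.Chev CfsgLib.Lie.Chev.TwGroups

/-- |U¹| = |G¹ ∩ U| = q ^ 12 for ³D₄(q). -/
theorem result {K : Type*} [Field K] [Fintype K] {q : ℕ} (hq : IsPrimePow q) (hK : Fintype.card K = q ^ 3) :
    Nat.card ↥(Cfsg.Lie.chevD4.posUnipotent K ⊓ Cfsg.Lie.twistedD4 K q) = q ^ 12 := by
  obtain ⟨e, he, hU⟩ := (twD4 hq hK).card_U1 one_pos (classCardD4 hq hK)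
  rw [card_twisted_unipotent certD4 twD4_le (twD4 hq hK) (twD4_P1 hq hK), hU]
  have h12 : half Cfsg.Lie.chevD4 = 12 := by decide +kernel
  rw [show e = 12 by omega]

end Cfsg.Agent.S1088
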