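import Cfsg.Statements.S1098
import Cfsg.Agent.Lib.Lie.Rel.TwistTables

set_option autoImplicit false
open Cfsg

namespace Cfsg.Agent.S1098

open CfsgLib.Lie.Chev in
theorem aux {D : Cfsg.Lie.ChevalleyDatum} {X : Aux} (C : Cert D X) {K : Type*} [Field K] {p : ℕ} {E : List ℕ}
    (hK : TwField K p E) {T : List (ℕ × ℤ × ℕ)} (hT : chkTw D p E T = true) {k P : ℕ}
    (hk : chkTwPeriod D p T (k + 1) P = true) {L : List (ℕ × ℕ × ℕ × List ℤ)} (hL : chkWits D X L = true)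
    (hc : Rel.Connected D) (hP : P ∈ E) (hP0 : 0 < P) (f : ℕ → ℕ × ℕ)
    (hf : ∀ i < D.rank, twAt D T (D.simple i) = (D.simple (f i).1, 1, (f i).2) ∧
      twAt D T (D.neg (D.simple i)) = (D.neg (D.simple (f i).1), 1, (f i).2)) :
    ∃ α : ↥(D.group K) ≃* ↥(D.group K), ∀ (g : ↥(D.group K)) (i : ℕ) (t : K), i < D.rank →
      (((g : GL D.Idx K) : Matrix D.Idx D.Idx K) = D.x K (D.simple i) t →
        ((α g : GL D.Idx K) : Matrix D.Idx D.Idx K) = D.x K (D.simple (f i).1) (t ^ (f i).2)) ∧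
      (((g : GL D.Idx K) : Matrix D.Idx D.Idx K) = D.x K (D.neg (D.simple i)) t →
        ((α g : GL D.Idx K) : Matrix D.Idx D.Idx K) = D.x K (D.neg (D.simple (f i).1)) (t ^ (f i).2)) := by
  obtain ⟨α, hα⟩ := twEnd_spec C hK hT hk hL hc hP hP0
  refine ⟨α, fun g i t hi => ⟨fun e => ?_, fun e => ?_⟩⟩
  · rw [hα g _ t e, (hf i hi).1, Int.cast_one, one_mul]
  · rw [hα g _ t e, (hf i hi).2, Int.cast_one, one_mul]


/-- Graph automorphisms in characteristic 2 (K perfect): for B₂ (a short, b long) `x_a(t) ↦ x_b(t²)`, `x_b(t) ↦ x_a(t)`, and for F₄ (p₁, p₂ short, p₃, p₄ long) `x_{p₁}(t) ↦ x_{p₄}(t²)`, `x_{p₂}(t) ↦ x_{p₃}(t²)`, `x_{p₃}(t) ↦ x_{p₂}(t)`, `x_{p₄}(t) ↦ x_{p₁}(t)`, likewise on the negatives, extend to an automorphism of the group. -/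
theorem result {K : Type*} [Field K] [CharP K 2] (hperf : ∀ x : K, ∃ y : K, y ^ 2 = x)
    (p : Cfsg.Lie.ChevalleyDatum × List (ℕ × ℕ))
    (hp : p ∈ [(Cfsg.Lie.chevB2, [(1, 2), (0, 1)]), (Cfsg.Lie.chevF4, [(3, 2), (2, 2), (1, 1), (0, 1)])]) :
    ∃ α : ↥(p.1.group K) ≃* ↥(p.1.group K), ∀ (g : ↥(p.1.group K)) (i : ℕ) (t : K), i < p.1.rank →
      (((g : GL p.1.Idx K) : Matrix p.1.Idx p.1.Idx K) = p.1.x K (p.1.simple i) t →
        ((α g : GL p.1.Idx K) : Matrix p.1.Idx p.1.Idx K) = p.1.x K (p.1.simple (p.2.getD i (0, 1)).1) (t ^ (p.2.getD i (0, 1)).2)) ∧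
      (((g : GL p.1.Idx K) : Matrix p.1.Idx p.1.Idx K) = p.1.x K (p.1.neg (p.1.simple i)) t →
        ((α g : GL p.1.Idx K) : Matrix p.1.Idx p.1.Idx K) = p.1.x K (p.1.neg (p.1.simple (p.2.getD i (0, 1)).1)) (t ^ (p.2.getD i (0, 1)).2)) := by

  have : Fact (Nat.Prime 2) := ⟨Nat.prime_two⟩
  simp only [List.mem_cons, List.not_mem_nil, or_false] at hp
  rcases hp with rfl | rfl
  · exact aux CfsgLib.Lie.Chev.certB2 (CfsgLib.Lie.Chev.twField_prime K 2 hperf) CfsgLib.Lie.Chev.twOkB2 CfsgLib.Lie.Chev.twPerB2 CfsgLib.Lie.Chev.witB2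
      (CfsgLib.Lie.Chev.connected_of_chk (by decide +kernel)) (by decide) Nat.two_pos
      (fun i => [(1, 2), (0, 1)].getD i (0, 1)) (by decide +kernel)
  · exact aux CfsgLib.Lie.Chev.certF4 (CfsgLib.Lie.Chev.twField_prime K 2 hperf) CfsgLib.Lie.Chev.twOkF4 CfsgLib.Lie.Chev.twPerF4 CfsgLib.Lie.Chev.witF4
      (CfsgLib.Lie.Chev.connected_of_chk (by decide +kernel)) (by decide) Nat.two_pos
      (fun i => [(3, 2), (2, 2), (1, 1), (0, 1)].getD i (0, 1)) (by decide +kernel)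

end Cfsg.Agent.S1098
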