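import Cfsg.Statements.S1099
import Cfsg.Agent.Lib.Lie.Rel.TwistTables

set_option autoImplicit false
open Cfsg

namespace Cfsg.Agent.S1099

/-- Graph automorphism of G₂ in characteristic 3 (K perfect): `x_a(t) ↦ x_b(t³)`, `x_b(t) ↦ x_a(t)`, `x_{-a}(t) ↦ x_{-b}(t³)`, `x_{-b}(t) ↦ x_{-a}(t)` extend to an automorphism of the group. -/
theorem result {K : Type*} [Field K] [CharP K 3] (hperf : ∀ x : K, ∃ y : K, y ^ 3 = x) :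
    ∃ α : ↥(Cfsg.Lie.chevG2.group K) ≃* ↥(Cfsg.Lie.chevG2.group K), ∀ (g : ↥(Cfsg.Lie.chevG2.group K)) (t : K),
      (((g : GL Cfsg.Lie.chevG2.Idx K) : Matrix _ _ K) = Cfsg.Lie.chevG2.x K Cfsg.Lie.g2a t →
        ((α g : GL Cfsg.Lie.chevG2.Idx K) : Matrix _ _ K) = Cfsg.Lie.chevG2.x K Cfsg.Lie.g2b (t ^ 3)) ∧
      (((g : GL Cfsg.Lie.chevG2.Idx K) : Matrix _ _ K) = Cfsg.Lie.chevG2.x K Cfsg.Lie.g2b t →
        ((α g : GL Cfsg.Lie.chevG2.Idx K) : Matrix _ _ K) = Cfsg.Lie.chevG2.x K Cfsg.Lie.g2a t) ∧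
      (((g : GL Cfsg.Lie.chevG2.Idx K) : Matrix _ _ K) = Cfsg.Lie.chevG2.x K Cfsg.Lie.g2ma t →
        ((α g : GL Cfsg.Lie.chevG2.Idx K) : Matrix _ _ K) = Cfsg.Lie.chevG2.x K Cfsg.Lie.g2mb (t ^ 3)) ∧
      (((g : GL Cfsg.Lie.chevG2.Idx K) : Matrix _ _ K) = Cfsg.Lie.chevG2.x K Cfsg.Lie.g2mb t →
        ((α g : GL Cfsg.Lie.chevG2.Idx K) : Matrix _ _ K) = Cfsg.Lie.chevG2.x K Cfsg.Lie.g2ma t) := by

  have : Fact (Nat.Prime 3) := ⟨Nat.prime_three⟩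
  obtain ⟨α, hα⟩ := CfsgLib.Lie.Chev.twEnd_spec CfsgLib.Lie.Chev.certG2 (CfsgLib.Lie.Chev.twField_prime K 3 hperf) CfsgLib.Lie.Chev.twOkG2 CfsgLib.Lie.Chev.twPerG2
    CfsgLib.Lie.Chev.witG2 (CfsgLib.Lie.Chev.connected_of_chk (by decide +kernel)) (by decide) (Nat.succ_pos 2)
  have h1 : CfsgLib.Lie.Chev.twAt Cfsg.Lie.chevG2 CfsgLib.Lie.Chev.twTG2 Cfsg.Lie.g2a = (Cfsg.Lie.g2b, 1, 3) := by decide +kernel
  have h2 : CfsgLib.Lie.Chev.twAt Cfsg.Lie.chevG2 CfsgLib.Lie.Chev.twTG2 Cfsg.Lie.g2b = (Cfsg.Lie.g2a, 1, 1) := by decide +kernel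
  have h3 : CfsgLib.Lie.Chev.twAt Cfsg.Lie.chevG2 CfsgLib.Lie.Chev.twTG2 Cfsg.Lie.g2ma = (Cfsg.Lie.g2mb, 1, 3) := by decide +kernel
  have h4 : CfsgLib.Lie.Chev.twAt Cfsg.Lie.chevG2 CfsgLib.Lie.Chev.twTG2 Cfsg.Lie.g2mb = (Cfsg.Lie.g2ma, 1, 1) := by decide +kernel
  refine ⟨α, fun g t => ⟨fun e => ?_, fun e => ?_, fun e => ?_, fun e => ?_⟩⟩
  · rw [hα g _ t e, h1, Int.cast_one, one_mul]
  · rw [hα g _ t e, h2, Int.cast_one, one_mul, pow_one]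
  · rw [hα g _ t e, h3, Int.cast_one, one_mul]
  · rw [hα g _ t e, h4, Int.cast_one, one_mul, pow_one]

end Cfsg.Agent.S1099
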