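import Cfsg.Statements.S1118
import Cfsg.Agent.Lib.Lie.RankOne

set_option autoImplicit false
open Cfsg

namespace Cfsg.Agent.S1118

/-- In the rank-one set-up (`G` finite and doubly transitive on `Ω`, `t` an involution moving `a`, `Q` normal in `G_a` with `G_a = Q D`, `Q ⊓ D = 1` for the two-point stabiliser `D = G_a ⊓ G_{t • a}`, `|Q|` even, `|D|` odd), the normaliser of a subset of `Q` containing a non-identity element lies in `G_a`; consequently `N_G(Q) = N_G(G_a) = G_a`. -/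
theorem result {G Ω : Type*} [Group G] [Finite G] [MulAction G Ω] {a : Ω} {t : G} {Q : Subgroup G}
    (hS : Cfsg.IsRankOneSetup G Ω a t Q) :
    (∀ X : Set G, X ⊆ (Q : Set G) → (∃ x ∈ X, x ≠ 1) → Subgroup.normalizer X ≤ MulAction.stabilizer G a) ∧
      Subgroup.normalizer (Q : Set G) = MulAction.stabilizer G a ∧
      Subgroup.normalizer (MulAction.stabilizer G a : Set G) = MulAction.stabilizer G a := by

  have key : ∀ X : Set G, X ⊆ (Q : Set G) → (∃ x ∈ X, x ≠ 1) → Subgroup.normalizer X ≤ MulAction.stabilizer G a := by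
    rintro X hX ⟨x, hx, hx1⟩ g hg
    by_contra hga
    have h1 : g * x * g⁻¹ ∈ Q := hX ((hg x).1 hx)
    have h2 : g⁻¹ • a ≠ a := fun h => hga (by
      show g • a = a
      conv_lhs => rw [← h]
      rw [smul_inv_smul])
    refine hx1 (CfsgLib.Lie.RankOne.eq_one_of_fix hS (hX hx) h2 ?_)
    have h3 : (g * x * g⁻¹) • a = a := CfsgLib.Lie.RankOne.Q_fix hS h1
    rw [mul_smul, mul_smul] at h3
    calc x • g⁻¹ • a = g⁻¹ • (g • x • g⁻¹ • a) := (inv_smul_smul g _).symm
      _ = g⁻¹ • a := by rw [h3]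
  obtain ⟨x₀, hx₀, hx₀1⟩ := CfsgLib.Lie.RankOne.Q_nontrivial hS
  refine ⟨key, le_antisymm (key _ subset_rfl ⟨x₀, hx₀, hx₀1⟩) ?_, le_antisymm ?_ Subgroup.le_normalizer⟩
  · intro h hh
    rw [Subgroup.mem_normalizer_iff]
    intro x
    refine ⟨hS.conj_mem h hh x, fun hx => ?_⟩
    have := hS.conj_mem h⁻¹ (inv_mem hh) _ hx
    simpa [mul_assoc] using this
  · intro g hg
    by_contra hga
    have h1 : g * x₀ * g⁻¹ ∈ MulAction.stabilizer G a := (Subgroup.mem_normalizer_iff.1 hg x₀).1 (hS.le hx₀)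
    have h2 : g⁻¹ • a ≠ a := fun h => hga (by
      show g • a = a
      conv_lhs => rw [← h]
      rw [smul_inv_smul])
    refine hx₀1 (CfsgLib.Lie.RankOne.eq_one_of_fix hS hx₀ h2 ?_)
    have h3 : (g * x₀ * g⁻¹) • a = a := h1
    rw [mul_smul, mul_smul] at h3
    calc x₀ • g⁻¹ • a = g⁻¹ • (g • x₀ • g⁻¹ • a) := (inv_smul_smul g _).symm
      _ = g⁻¹ • a := by rw [h3]

end Cfsg.Agent.S1118
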