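import Cfsg.Statements.S1125
import Cfsg.Agent.Lib.Lie.RankOneInvolutions

set_option autoImplicit false
set_option maxHeartbeats 400000
open Cfsg

namespace Cfsg.Agent.S1125

/-- In the rank-one set-up (`G` finite and doubly transitive on `Ω`, `t` an involution moving `a`, `Q` normal in `G_a` with `G_a = Q D`, `Q ⊓ D = 1` for the two-point stabiliser `D = G_a ⊓ G_{t • a}`, `|Q|` even, `|D|` odd), let `X ⊆ D` fix at least three points of `Ω`. Then `C_G(X)` is doubly transitive on the fixed-point set of `X`, `|C_Q(X)|` is even, and `C_{G_a}(X) = C_Q(X) C_D(X)`. -/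
theorem result {G Ω : Type*} [Group G] [Finite G] [MulAction G Ω] {a : Ω} {t : G} {Q : Subgroup G}
    (hS : Cfsg.IsRankOneSetup G Ω a t Q)
    (X : Set G) (hX : X ⊆ ((MulAction.stabilizer G a ⊓ MulAction.stabilizer G (t • a)) : Set G))
    (h3 : ∃ b c d : Ω, b ≠ c ∧ b ≠ d ∧ c ≠ d ∧ ∀ x ∈ X, x • b = b ∧ x • c = c ∧ x • d = d) :
    (∀ b₁ b₂ c₁ c₂ : Ω, (∀ x ∈ X, x • b₁ = b₁ ∧ x • b₂ = b₂ ∧ x • c₁ = c₁ ∧ x • c₂ = c₂) →
        b₁ ≠ b₂ → c₁ ≠ c₂ → ∃ g ∈ Subgroup.centralizer X, g • b₁ = c₁ ∧ g • b₂ = c₂) ∧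
      Even (Nat.card ↥(Subgroup.centralizer X ⊓ Q)) ∧
      (Subgroup.centralizer X ⊓ Q) ⊔ (Subgroup.centralizer X ⊓ (MulAction.stabilizer G a ⊓ MulAction.stabilizer G (t • a))) = Subgroup.centralizer X ⊓ MulAction.stabilizer G a := by
  obtain ⟨c, hca, hcb, hc⟩ := CfsgLib.Lie.RankOne.exists_third hS h3
  have htwo := fun c₁ c₂ h1 h2 hne => CfsgLib.Lie.RankOne.centralizer_two_transitive hS hX
    ⟨c, hca, hcb, hc⟩ (c₁ := c₁) (c₂ := c₂) h1 h2 hne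
  refine ⟨fun b₁ b₂ c₁ c₂ h hb hc' => ?_, ?_, ?_⟩
  · obtain ⟨g, hg, hg1, hg2⟩ := htwo b₁ b₂ (fun x hx => (h x hx).1) (fun x hx => (h x hx).2.1) hb
    obtain ⟨g', hg', hg1', hg2'⟩ := htwo c₁ c₂ (fun x hx => (h x hx).2.2.1)
      (fun x hx => (h x hx).2.2.2) hc'
    exact ⟨g' * g⁻¹, mul_mem hg' (inv_mem hg), by rw [mul_smul, ← hg1, inv_smul_smul, hg1'],
      by rw [mul_smul, ← hg2, inv_smul_smul, hg2']⟩
  · obtain ⟨s, hs, hsX⟩ := CfsgLib.Lie.RankOne.exists_involution_centralizing hS hX ⟨c, hca, hcb, hc⟩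
    rw [even_iff_two_dvd]
    have h2 : orderOf s = 2 := by
      haveI : Fact (Nat.Prime 2) := ⟨Nat.prime_two⟩
      exact orderOf_eq_prime (by rw [sq]; exact hs.2.2) hs.2.1
    have hm : s ∈ Subgroup.centralizer X ⊓ Q :=
      Subgroup.mem_inf.2 ⟨hsX, CfsgLib.Lie.RankOne.J_mem_Q hS hs⟩
    exact h2 ▸ Subgroup.orderOf_dvd_natCard _ hm
  · refine le_antisymm (sup_le (inf_le_inf_left _ hS.le) (inf_le_inf_left _ inf_le_left)) ?_
    intro g hg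
    obtain ⟨hgX, hga⟩ := Subgroup.mem_inf.1 hg
    have hga' : g • a = a := hga
    have hne : g • (t • a) ≠ a := fun h => CfsgLib.Lie.RankOne.t_smul_ne hS (smul_left_cancel g (h.trans hga'.symm))
    obtain ⟨y, hy, he⟩ := CfsgLib.Lie.RankOne.exists_Q_centralizing hS hX (c := g • (t • a))
      (fun x hx => by
        rw [← mul_smul, Subgroup.mem_centralizer_iff.1 hgX x hx, mul_smul,
          (CfsgLib.Lie.RankOne.mem_D.1 (hX hx)).2]) hne
    rw [show g = y * (y⁻¹ * g) by rw [mul_inv_cancel_left]]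
    refine Subgroup.mul_mem_sup hy (Subgroup.mem_inf.2 ⟨mul_mem (inv_mem hy.1) hgX, ?_⟩)
    refine CfsgLib.Lie.RankOne.mem_D.2 ⟨?_, ?_⟩
    · rw [mul_smul, hga', CfsgLib.Lie.RankOne.Q_fix hS (inv_mem hy.2)]
    · rw [mul_smul, ← he, inv_smul_smul]

end Cfsg.Agent.S1125
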