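import Cfsg.Statements.S1135
import Cfsg.Agent.Lib.Lie.RankOneNilpotent

set_option autoImplicit false
set_option maxHeartbeats 400000
open Cfsg

namespace Cfsg.Agent.S1135

/-- In the rank-one set-up (`G` finite and doubly transitive on `Ω`, `t` an involution moving `a`, `Q` normal in `G_a` with `G_a = Q D`, `Q ⊓ D = 1` for the two-point stabiliser `D = G_a ⊓ G_{t • a}`, `|Q|` even, `|D|` odd), with the action faithful and `G` containing two distinct commuting involutions: if `x = u v` with `u, v` involutions and `x² ≠ 1`, then `x` is conjugate to `u' t` for some involution `u'` of `G_a`, and `|C_G(x)|` is odd. -/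
theorem result {G Ω : Type*} [Group G] [Finite G] [MulAction G Ω] [FaithfulSMul G Ω] {a : Ω} {t : G} {Q : Subgroup G}
    (hS : Cfsg.IsRankOneSetup G Ω a t Q)
    (h2 : ∃ x y : G, x ≠ 1 ∧ y ≠ 1 ∧ x ≠ y ∧ x * x = 1 ∧ y * y = 1 ∧ x * y = y * x)
    (u v : G) (hu1 : u ≠ 1) (hu2 : u * u = 1) (hv1 : v ≠ 1) (hv2 : v * v = 1) (hx : (u * v) * (u * v) ≠ 1) :
    (∃ g : G, ∃ u' ∈ Cfsg.involutionsIn (MulAction.stabilizer G a : Set G), g * (u * v) * g⁻¹ = u' * t) ∧
      Odd (Nat.card ↥(Subgroup.centralizer {u * v})) := by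
  open CfsgLib.Lie.RankOne in
  have hconj : ∀ (g w : G) (c : Ω), w • c = c → (g * w * g⁻¹) • (g • c) = g • c := fun g w c h => by
    rw [mul_smul, inv_smul_smul, mul_smul, h]
  obtain ⟨p, hp⟩ := CfsgLib.Lie.RankOne.exists_fix hS hu2
  obtain ⟨r, hr⟩ := CfsgLib.Lie.RankOne.exists_fix hS hv2
  have hpr : p ≠ r := by
    rintro rfl
    obtain ⟨g, hg⟩ := CfsgLib.Lie.RankOne.transitive' hS p a
    have key : ∀ w : G, w ≠ 1 → w * w = 1 → w • p = p →
        g * w * g⁻¹ ∈ Cfsg.involutionsIn (MulAction.stabilizer G a : Set G) :=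
      fun w hw hww hwp => ⟨by
        show (g * w * g⁻¹) • a = a
        rw [← hg]; exact hconj g w p hwp, CfsgLib.Lie.RankOne.conj_involution hS hw hww g⟩
    have e : g * u * g⁻¹ * (g * v * g⁻¹) = g * (u * v) * g⁻¹ := by group
    have h1 : g * (u * v) * g⁻¹ * (g * (u * v) * g⁻¹) = 1 := by
      rcases CfsgLib.Lie.RankOne.J_mul hS h2 (key u hu1 hu2 hp) (key v hv1 hv2 hr) with h | h <;>
        rw [e] at h
      · rw [h, one_mul]
      · exact h.2.2
    refine hx ?_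
    calc u * v * (u * v) = g⁻¹ * (g * (u * v) * g⁻¹ * (g * (u * v) * g⁻¹)) * g := by group
      _ = 1 := by rw [h1]; group
  refine ⟨?_, ?_⟩
  · obtain ⟨c, hc⟩ := CfsgLib.Lie.RankOne.exists_fix hS hS.mul_self
    have hca : c ≠ a := fun h => CfsgLib.Lie.RankOne.t_smul_ne hS (h ▸ hc)
    obtain ⟨g, hgp, hgr⟩ := CfsgLib.Lie.RankOne.pairs hS hpr hca.symm
    obtain ⟨g₂, hga, hgb⟩ :=
      CfsgLib.Lie.RankOne.pairs hS (CfsgLib.Lie.RankOne.t_smul_ne hS).symm hca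
    set v₁ := g * v * g⁻¹ with hv₁
    have hv₁c : v₁ • c = c := by rw [← hgr]; exact hconj g v r hr
    have key : ∀ w : G, w ≠ 1 → w * w = 1 → w • c = c →
        g₂⁻¹ * w * g₂⁻¹⁻¹ ∈ Cfsg.involutionsIn (MulAction.stabilizer G a : Set G) :=
      fun w hw hww hwc => ⟨by
        show (g₂⁻¹ * w * g₂⁻¹⁻¹) • a = a
        rw [inv_inv, mul_smul, hga, mul_smul, hwc, ← hga, inv_smul_smul],
        CfsgLib.Lie.RankOne.conj_involution hS hw hww g₂⁻¹⟩
    obtain ⟨hv11, hv12⟩ := CfsgLib.Lie.RankOne.conj_involution hS hv1 hv2 g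
    obtain ⟨k, ⟨hk, hke⟩, -⟩ := CfsgLib.Lie.RankOne.exists_unique_K hS (key v₁ hv11 hv12 hv₁c)
      (key t hS.ne_one hS.mul_self hc)
    set h := g₂ * k⁻¹ * g₂⁻¹ with hh
    have hht : h * v₁ * h⁻¹ = t := by
      calc h * v₁ * h⁻¹ = g₂ * (k⁻¹ * (g₂⁻¹ * v₁ * g₂⁻¹⁻¹) * k) * g₂⁻¹ := by rw [hh]; group
        _ = t := by rw [hke]; group
    have hha : h • a = a := by
      have hkb : k⁻¹ • (t • a) = t • a := (CfsgLib.Lie.RankOne.mem_D.1 (inv_mem hk.1)).2
      have hga' : g₂⁻¹ • a = t • a := inv_smul_eq_iff.2 hgb.symm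
      rw [hh, mul_smul, mul_smul, hga', hkb, hgb]
    refine ⟨h * g, h * (g * u * g⁻¹) * h⁻¹, ⟨?_,
      CfsgLib.Lie.RankOne.conj_involution hS (CfsgLib.Lie.RankOne.conj_involution hS hu1 hu2 g).1
        (CfsgLib.Lie.RankOne.conj_involution hS hu1 hu2 g).2 h⟩, ?_⟩
    · show (h * (g * u * g⁻¹) * h⁻¹) • a = a
      calc (h * (g * u * g⁻¹) * h⁻¹) • a = (h * (g * u * g⁻¹) * h⁻¹) • (h • a) := by rw [hha]
        _ = h • a := hconj h _ a (by rw [← hgp]; exact hconj g u p hp)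
        _ = a := hha
    · rw [← hht, hv₁]; group
  by_contra hev
  haveI : Fact (Nat.Prime 2) := ⟨Nat.prime_two⟩
  obtain ⟨⟨z, hzm⟩, hz⟩ := exists_prime_orderOf_dvd_card' (G := ↥(Subgroup.centralizer {u * v})) 2
    (even_iff_two_dvd.1 (Nat.not_odd_iff_even.1 hev))
  rw [Subgroup.orderOf_mk] at hz
  have hzc : z * (u * v) = u * v * z := Subgroup.mem_centralizer_singleton_iff.1 hzm
  have hzz : z * z = 1 := by rw [← sq, ← hz, pow_orderOf_eq_one]
  have hz1 : z ≠ 1 := fun h => by rw [h, orderOf_one] at hz; omega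
  obtain ⟨f, hf⟩ := CfsgLib.Lie.RankOne.exists_fix hS hzz
  have hxf : (u * v) • f = f := CfsgLib.Lie.RankOne.fix_of_commute hS hz1 hzz hf hzc.symm
  have hui : u⁻¹ = u := inv_eq_of_mul_eq_one_right hu2
  have hvf : v • f = u • f := by
    conv_rhs => rw [← hxf]
    rw [mul_smul, ← mul_smul u u, hu2, one_smul]
  have huf : u • f ≠ f := fun h => hpr
    ((CfsgLib.Lie.RankOne.fix_unique hS hu1 hu2 hp h).trans
      (CfsgLib.Lie.RankOne.fix_unique hS hv1 hv2 hr (hvf.trans h)).symm)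
  have hxuf : (u * v) • (u • f) = u • f := by
    rw [← hvf, mul_smul, ← mul_smul v v, hv2, one_smul, hvf]
  have hxz : (u * v) • (z • (u • f)) = z • (u • f) := by
    rw [← mul_smul, ← hzc, mul_smul, hxuf]
  have hd3 : z • (u • f) ≠ u • f := fun h => huf (CfsgLib.Lie.RankOne.fix_unique hS hz1 hzz h hf)
  have hd1 : z • (u • f) ≠ f := fun h => huf (smul_left_cancel z (h.trans hf.symm))
  obtain ⟨g, hga, hgb⟩ := CfsgLib.Lie.RankOne.pairs hS huf.symm (CfsgLib.Lie.RankOne.t_smul_ne hS).symm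
  have hxD : g * (u * v) * g⁻¹ ∈ MulAction.stabilizer G a ⊓ MulAction.stabilizer G (t • a) :=
    CfsgLib.Lie.RankOne.mem_D.2 ⟨by rw [← hga]; exact hconj g _ f hxf,
      by rw [← hgb]; exact hconj g _ _ hxuf⟩
  obtain ⟨d, hd, hdt⟩ := CfsgLib.Lie.RankOne.conj_into hS (X := {g * (u * v) * g⁻¹})
    (Set.singleton_subset_iff.2 hxD) ⟨g • (z • (u • f)),
      fun h => hd1 (smul_left_cancel g (h.trans hga.symm)),
      fun h => hd3 (smul_left_cancel g (h.trans hgb.symm)),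
      fun w hw => by rw [Set.mem_singleton_iff.1 hw]; exact hconj g _ _ hxz⟩
  have hdy := hdt _ rfl
  set y := d * (g * (u * v) * g⁻¹) * d⁻¹ with hy
  obtain ⟨hu'1, hu'2⟩ := CfsgLib.Lie.RankOne.conj_involution hS hu1 hu2 (d * g)
  set u' := d * g * u * (d * g)⁻¹ with hu'
  have hu'a : u' • a = t • a := by
    obtain ⟨hda, hdb⟩ := CfsgLib.Lie.RankOne.mem_D.1 hd
    have hdai : d⁻¹ • a = a := (CfsgLib.Lie.RankOne.mem_D.1 (inv_mem hd)).1
    rw [hu', mul_inv_rev, mul_smul, mul_smul g⁻¹, hdai, ← hga, inv_smul_smul, mul_smul, mul_smul,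
      hgb, hdb, hga]
  have hk := CfsgLib.Lie.RankOne.mem_K_of_swap hS hu'2 hu'a
  have hyD : y ∈ MulAction.stabilizer G a ⊓ MulAction.stabilizer G (t • a) :=
    mul_mem (mul_mem hd hxD) (inv_mem hd)
  have hy1 : y = 1 := by
    refine CfsgLib.Lie.RankOne.eq_one_of_conj_eq_inv (k := t * u')
      (CfsgLib.Lie.RankOne.D_odd hS hk.1) (CfsgLib.Lie.RankOne.D_odd hS hyD) ?_
    have h1 : u' * y * u'⁻¹ = y⁻¹ := by
      calc u' * y * u'⁻¹ = d * g * (u * (u * v) * u⁻¹) * (d * g)⁻¹ := by rw [hu', hy]; group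
        _ = y⁻¹ := by
          rw [hy, show u * (u * v) * u⁻¹ = (u * v)⁻¹ by
            rw [mul_inv_rev, hui, inv_eq_of_mul_eq_one_right hv2, ← mul_assoc u u, hu2, one_mul]]
          group
    calc t * u' * y * (t * u')⁻¹ = t * (u' * y * u'⁻¹) * t⁻¹ := by group
      _ = (t * y * t⁻¹)⁻¹ := by rw [h1]; group
      _ = y⁻¹ := by rw [← hdy, mul_inv_cancel_right]
  refine hx ?_
  have h1 : u * v = 1 := by
    calc u * v = (d * g)⁻¹ * y * (d * g) := by rw [hy]; group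
      _ = 1 := by rw [hy1]; group
  rw [h1, one_mul]

end Cfsg.Agent.S1135
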