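import Cfsg.Statements.S1150
import Cfsg.Agent.Lib.Lie.Twisted.G2Torus

set_option autoImplicit false
open Cfsg

namespace Cfsg.Agent.S1150

open CfsgLib.Lie.Chev CfsgLib.Lie.Chev.TwGroups

/-- In the small Ree group ²G₂(q), q = 3^(2m+1), realised as G¹ inside the Chevalley group G₂ over the field with q elements (θ the 3^m-th power map), with H¹ = G¹ ∩ H and U¹ = G¹ ∩ U the intersections with the ambient diagonal and positive unipotent subgroups: `H¹` is cyclic. -/
theorem result {K : Type*} [Field K] [Fintype K] {m : ℕ} (hK : Fintype.card K = 3 ^ (2 * m + 1)) :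
    IsCyclic ↥(Cfsg.Lie.chevG2.diagonalSubgroup K ⊓ Cfsg.Lie.twistedG2 K (3 ^ m)) := by
  have hcard := card_twisted_diagonal certG2 twG2_le (twG2 hK) (twG2_P1 hK)
  have hmap : Cfsg.Lie.chevG2.diagonalSubgroup K ⊓ Cfsg.Lie.twistedG2 K (3 ^ m) =
      (psiG2 K m).range.map (Cfsg.Lie.chevG2.group K).subtype := by
    rw [psiG2_range hK, twG2_P1 hK, diagonalSubgroup_eq certG2 K, Subgroup.map_inf _ _ _ Subtype.val_injective,
      Subgroup.subgroupOf_map_subtype, inf_of_le_left twG2_le, inf_comm]
  rw [hmap]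
  rw [MonoidHom.map_range]
  exact isCyclic_of_surjective _ (MonoidHom.rangeRestrict_surjective
    ((Cfsg.Lie.chevG2.group K).subtype.comp (psiG2 K m)))

end Cfsg.Agent.S1150
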