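import Cfsg.Statements.S1156
import Cfsg.Agent.Lib.Lie.Twisted.Ree.Tori

set_option autoImplicit false
open Cfsg

namespace Cfsg.Agent.S1156

open CfsgLib.Lie CfsgLib.Lie.Ree

/-- In the small Ree group ²G₂(q), q = 3^(2m+1) with m ≥ 1, realised as G¹ inside the Chevalley group G₂ over the field with q elements (θ the 3^m-th power map): for every prime `p > 3` the Sylow `p`-subgroups of `G¹` are cyclic. -/
theorem result {K : Type*} [Field K] [Fintype K] {m : ℕ} (hm : 1 ≤ m) (hK : Fintype.card K = 3 ^ (2 * m + 1))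
    {p : ℕ} [Fact p.Prime] (hp : 3 < p) (P : Sylow p ↥(Cfsg.Lie.twistedG2 K (3 ^ m))) : IsCyclic (P : Subgroup ↥(Cfsg.Lie.twistedG2 K (3 ^ m))) := by
  classical
  by_cases hP : (P : Subgroup (RG K m)) = ⊥
  · rw [hP]
    infer_instance
  have hpG : p ∣ Nat.card (RG K m) := by
    obtain ⟨n, hn⟩ := IsPGroup.iff_card.1 P.isPGroup'
    have h1 : n ≠ 0 := fun e => hP (Subgroup.eq_bot_of_card_eq _ (by rw [hn, e, pow_zero]))
    exact ((dvd_pow_self p h1).trans (hn ▸ dvd_rfl)).trans (P : Subgroup (RG K m)).card_subgroup_dvd_card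
  have hpp : p.Prime := Fact.out
  have key : ∀ A : Subgroup (RG K m), IsCyclic ↥A → ¬ p ∣ A.index → IsCyclic ↥(P : Subgroup (RG K m)) := by
    intro A hA hi
    obtain ⟨Q⟩ := (Sylow.nonempty : Nonempty (Sylow p ↥A))
    have hQ : IsCyclic ↥(Q : Subgroup ↥A) := inferInstance
    have hQ' : IsCyclic ↥((Q : Subgroup ↥A).map A.subtype) := isCyclic_of_surjective
      ((Q : Subgroup ↥A).equivMapOfInjective _ A.subtype_injective).toMonoidHom
      ((Q : Subgroup ↥A).equivMapOfInjective _ A.subtype_injective).surjective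
    have hc : Nat.card ↥((Q : Subgroup ↥A).map A.subtype) = p ^ (Nat.card (RG K m)).factorization p := by
      rw [← Nat.card_congr ((Q : Subgroup ↥A).equivMapOfInjective _ A.subtype_injective).toEquiv,
        Q.card_eq_multiplicity, ← A.card_mul_index, Nat.factorization_mul Nat.card_pos.ne' Subgroup.index_ne_zero_of_finite,
        Finsupp.add_apply, Nat.factorization_eq_zero_of_not_dvd hi, add_zero]
    have : IsCyclic ↥((Sylow.ofCard _ hc : Sylow p (RG K m)) : Subgroup (RG K m)) := by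
      rw [Sylow.coe_ofCard]; exact hQ'
    exact isCyclic_of_surjective ((Sylow.ofCard _ hc).equiv P).toMonoidHom ((Sylow.ofCard _ hc).equiv P).surjective
  rw [card_RG' hK, ← (nQ_spec m).1, ← (nH_spec m).1] at hpG
  have h2 : ¬ p ∣ 2 := fun h => by have := Nat.le_of_dvd two_pos h; omega
  have h3 : ¬ p ∣ 3 := fun h => by have := Nat.le_of_dvd three_pos h; omega
  rcases hpp.dvd_mul.1 hpG with h | h
  · rcases hpp.dvd_mul.1 h with h | h
    · exact absurd (hpp.dvd_of_dvd_pow (hpp.dvd_of_dvd_pow h)) h3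
    · have hH := (hpp.dvd_mul.1 h).resolve_left h2
      exact key (HR K m) (HR_cyclic hK) (not_dvd_index_HR hK hpp (half_prime hpp hH).1 (half_prime hpp hH).2.2)
  · rcases hpp.dvd_mul.1 h with h | h
    · have hQ := (hpp.dvd_mul.1 h).resolve_left (fun e => h2 (hpp.dvd_of_dvd_pow (show p ∣ 2 ^ 2 from e)))
      exact key (A1 hK) (A1_cyclic hK) (not_dvd_index_A1 hK hpp hQ)
    · obtain ⟨x, hx⟩ := exists_orderOf_nSix hK hpp h
      refine key _ (centralizer_six hK hm hpp h hx).1 (six_index hK hm hpp h hx hpp ?_)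
      rw [← hx, ← Subgroup.orderOf_mk x (Subgroup.mem_centralizer_singleton_iff.2 rfl)]
      exact orderOf_dvd_natCard _

end Cfsg.Agent.S1156
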