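import Cfsg.Statements.S1158
import Cfsg.Agent.Lib.Lie.Twisted.Ree.Tori

set_option autoImplicit false
open Cfsg

namespace Cfsg.Agent.S1158

open CfsgLib.Lie CfsgLib.Lie.Ree

/-- In the small Ree group ²G₂(q), q = 3^(2m+1) with m ≥ 1, realised as G¹ inside the Chevalley group G₂ over the field with q elements (θ the 3^m-th power map), with `r = 3^(m+1)` (so `r² = 3q`): for each `k ∈ {(q-1)/2, (q+1)/4, q - r + 1, q + r + 1}` there is a cyclic subgroup `A` of order `k` whose normaliser has order `2(q-1)`, `6(q+1)`, `6(q-r+1)`, `6(q+r+1)` respectively, and `N(A₀) = N(A)` for every non-trivial `A₀ ≤ A`. -/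
theorem result {K : Type*} [Field K] [Fintype K] {m : ℕ} (hm : 1 ≤ m) (hK : Fintype.card K = 3 ^ (2 * m + 1)) :
    ∀ kn ∈ ({((3 ^ (2 * m + 1) - 1) / 2, 2 * (3 ^ (2 * m + 1) - 1)), ((3 ^ (2 * m + 1) + 1) / 4, 6 * (3 ^ (2 * m + 1) + 1)),
        (3 ^ (2 * m + 1) - 3 ^ (m + 1) + 1, 6 * (3 ^ (2 * m + 1) - 3 ^ (m + 1) + 1)),
        (3 ^ (2 * m + 1) + 3 ^ (m + 1) + 1, 6 * (3 ^ (2 * m + 1) + 3 ^ (m + 1) + 1))} : Set (ℕ × ℕ)),
      ∃ A : Subgroup ↥(Cfsg.Lie.twistedG2 K (3 ^ m)), IsCyclic A ∧ Nat.card A = kn.1 ∧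
        Nat.card (Subgroup.normalizer (A : Set ↥(Cfsg.Lie.twistedG2 K (3 ^ m)))) = kn.2 ∧
        ∀ A₀ : Subgroup ↥(Cfsg.Lie.twistedG2 K (3 ^ m)), A₀ ≤ A → A₀ ≠ ⊥ →
          Subgroup.normalizer (A₀ : Set ↥(Cfsg.Lie.twistedG2 K (3 ^ m))) = Subgroup.normalizer (A : Set ↥(Cfsg.Lie.twistedG2 K (3 ^ m))) := by
  rintro ⟨k, n⟩ hkn
  obtain ⟨A6, B6, hA6, hB6, hca, hcb, -⟩ := six_tori hK hm
  simp only [Set.mem_insert_iff, Set.mem_singleton_iff, Prod.mk.injEq] at hkn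
  have hne : ∀ {A : Subgroup (RG K m)} {c : ℕ}, Nat.card ↥A = c → 2 ≤ c → A ≠ ⊥ := fun h h2 e => by
    rw [e, Subgroup.card_bot] at h; omega
  rcases hkn with ⟨rfl, rfl⟩ | ⟨rfl, rfl⟩ | ⟨rfl, rfl⟩ | ⟨rfl, rfl⟩
  · have hb := hne (card_AH hK) (by have := nH_gt m hm; omega)
    refine ⟨AH hK, AH_cyclic hK, card_AH hK, ?_, fun A₀ h h' => ?_⟩
    · rw [normalizer_of_le_AH hK hm le_rfl hb]; exact card_normalizer_HR hK hm
    · rw [normalizer_of_le_AH hK hm h h', normalizer_of_le_AH hK hm le_rfl hb]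
  · exact ⟨A1 hK, A1_cyclic hK, card_A1 hK, card_normalizer_A1 hK hm, fun A₀ h h' => normalizer_of_le_A1 hK hm h h'⟩
  · exact ⟨A6, hA6.cyclic, hca, by rw [hA6.card_norm, hca], hA6.norm_sub⟩
  · exact ⟨B6, hB6.cyclic, hcb, by rw [hB6.card_norm, hcb], hB6.norm_sub⟩

end Cfsg.Agent.S1158
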