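import Cfsg.Statements.S1159
import Cfsg.Agent.Lib.Lie.Twisted.Ree.Tori

set_option autoImplicit false
open Cfsg

namespace Cfsg.Agent.S1159

open CfsgLib.Lie CfsgLib.Lie.Ree

/-- In the small Ree group ²G₂(q), q = 3^(2m+1) with m ≥ 1, realised as G¹ inside the Chevalley group G₂ over the field with q elements (θ the 3^m-th power map), with `r = 3^(m+1)`: a natural number is the order of an element of `G¹` iff it divides one of `6`, `9`, `q - 1`, `(q + 1)/2`, `q - r + 1`, `q + r + 1`. -/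
theorem result {K : Type*} [Field K] [Fintype K] {m : ℕ} (hm : 1 ≤ m) (hK : Fintype.card K = 3 ^ (2 * m + 1)) (d : ℕ) :
    (∃ g : ↥(Cfsg.Lie.twistedG2 K (3 ^ m)), orderOf g = d) ↔
      (d ∣ 6 ∨ d ∣ 9 ∨ d ∣ 3 ^ (2 * m + 1) - 1 ∨ d ∣ (3 ^ (2 * m + 1) + 1) / 2 ∨
        d ∣ 3 ^ (2 * m + 1) - 3 ^ (m + 1) + 1 ∨ d ∣ 3 ^ (2 * m + 1) + 3 ^ (m + 1) + 1) := by
  obtain ⟨A6, B6, hA6, hB6, hca, hcb, hmul⟩ := six_tori hK hm
  have hhalf : (3 ^ (2 * m + 1) + 1) / 2 = 2 * nQ m := by have := (nQ_spec m).1; omega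
  rw [hhalf, ← hca, ← hcb]
  constructor
  · rintro ⟨g, rfl⟩
    rcases order_cases hK hm g with h | h | h | h | h | h
    · exact Or.inl (h ▸ one_dvd 6)
    · exact Or.inl (by rw [h]; norm_num)
    · rcases orderOf_three_cases hK hm h with e | e | e
      · exact Or.inl (by rw [e]; norm_num)
      · exact Or.inl (by rw [e])
      · exact Or.inr (Or.inl (by rw [e]))
    · exact Or.inr (Or.inr (Or.inl (orderOf_dvd_HR hK hm h)))
    · exact Or.inr (Or.inr (Or.inr (Or.inl (orderOf_dvd_TD hK hm h))))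
    · obtain ⟨r, hr, hrn, hro⟩ := h
      rw [← hmul] at hrn
      have key : ∀ {A : Subgroup (RG K m)}, SixTorus A → r ∣ Nat.card ↥A → orderOf g ∣ Nat.card ↥A := by
        intro A hA hd
        obtain ⟨x, hx⟩ := hA.cover g ⟨r, hr, hd, hro⟩
        have ho : orderOf (x⁻¹ * g * x) = orderOf g := by simpa using (MulEquiv.orderOf_eq (MulAut.conj x⁻¹) g)
        rw [← ho, ← Subgroup.orderOf_mk _ hx]
        exact orderOf_dvd_natCard _
      rcases hr.dvd_mul.1 hrn with h' | h'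
      · exact Or.inr (Or.inr (Or.inr (Or.inr (Or.inl (key hA6 h')))))
      · exact Or.inr (Or.inr (Or.inr (Or.inr (Or.inr (key hB6 h')))))
  · have key : ∀ {A : Subgroup (RG K m)}, IsCyclic ↥A → d ∣ Nat.card ↥A → ∃ g : RG K m, orderOf g = d := by
      intro A hA hd
      obtain ⟨z, hz⟩ := isCyclic_iff_exists_zpowers_eq_top.1 hA
      refine exists_orderOf_of_dvd hK (g := (z : RG K m)) ?_
      rwa [Subgroup.orderOf_coe, orderOf_eq_card_of_forall_mem_zpowers (by rw [hz]; exact Subgroup.mem_top)]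
    rintro (h | h | h | h | h | h)
    · obtain ⟨g, hg⟩ := exists_orderOf_six hK (m := m)
      exact exists_orderOf_of_dvd hK (g := g) (hg.symm ▸ h)
    · obtain ⟨g, hg⟩ := exists_orderOf_nine hK (m := m)
      exact exists_orderOf_of_dvd hK (g := g) (hg.symm ▸ h)
    · exact key (HR_cyclic hK) (by rwa [card_HR hK])
    · exact key (TP_cyclic hK) (by rwa [card_TP hK])
    · exact key hA6.cyclic h
    · exact key hB6.cyclic h

end Cfsg.Agent.S1159
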