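import Cfsg.Statements.S1160
import Cfsg.Agent.Lib.Transfer.RankTwo
import Cfsg.Agent.Lib.PGroups.Basic

set_option autoImplicit false
set_option maxHeartbeats 400000
open Cfsg

namespace Cfsg.Agent.S1160

/-- Let `p ≠ 2` be prime and `P` a finite `p`-group acting faithfully by additive automorphisms on a finite elementary abelian `q`-group `E` (`q` prime), such that `|P_a|` is the same for all `a ≠ 0`. Then `P` is cyclic and every non-identity element of `P` fixes only `0`. -/
theorem result {P E : Type*} [Group P] [Finite P]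
    [AddCommGroup E] [Finite E] [DistribMulAction P E] [FaithfulSMul P E]
    {p q : ℕ} [Fact p.Prime] (hp2 : p ≠ 2) (hP : IsPGroup p P) (hq : q.Prime) (hE : ∀ e : E, q • e = 0)
    (hconst : ∀ a b : E, a ≠ 0 → b ≠ 0 →
      Nat.card (MulAction.stabilizer P a) = Nat.card (MulAction.stabilizer P b)) :
    IsCyclic P ∧ ∀ g : P, g ≠ 1 → ∀ a : E, g • a = a → a = 0 := by
  classical
  have hfaith : ∀ g : P, (∀ e : E, g • e = e) → g = 1 := fun g h =>
    FaithfulSMul.eq_of_smul_eq_smul fun e => by rw [h e, one_smul]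
  rcases subsingleton_or_nontrivial P with hPs | hPn
  · exact ⟨inferInstance, fun g hg => absurd (Subsingleton.elim g 1) hg⟩
  -- the characteristic differs from `p`
  have hpq : p ≠ q := by
    rintro rfl
    obtain ⟨g₀, hg₀⟩ := exists_ne (1 : P)
    obtain ⟨a, b, hab⟩ : ∃ a b : E, a ≠ b := by
      by_contra h
      push Not at h
      exact hg₀ (hfaith g₀ fun e => h _ _)
    haveI : Nontrivial E := ⟨a, b, hab⟩
    have hdvd : p ∣ Nat.card E := by
      obtain ⟨e, he⟩ := exists_ne (0 : E)
      rw [← addOrderOf_eq_prime (hE e) he]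
      exact addOrderOf_dvd_natCard e
    obtain ⟨e, he, he0⟩ := hP.exists_fixed_point_of_prime_dvd_card_of_fixed_point E hdvd
      (a := (0 : E)) (fun g => smul_zero g)
    refine hg₀ (hfaith g₀ fun c => ?_)
    by_cases hc : c = 0
    · rw [hc, smul_zero]
    have h1 : MulAction.stabilizer P c = ⊤ := by
      apply Subgroup.eq_top_of_card_eq
      rw [hconst c e hc he0.symm, show MulAction.stabilizer P e = ⊤ from
        (Subgroup.eq_top_iff' _).2 fun g => he g, Subgroup.card_top]
    exact (h1.symm ▸ Subgroup.mem_top g₀ : g₀ ∈ MulAction.stabilizer P c)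
  have hpE : ∀ e : E, p • e = 0 → e = 0 := by
    intro e he
    by_contra h
    have h1 : addOrderOf e = q := by
      haveI := Fact.mk hq
      exact addOrderOf_eq_prime (hE e) h
    exact hpq ((Nat.prime_dvd_prime_iff_eq hq Fact.out).1 (h1 ▸ addOrderOf_dvd_of_nsmul_eq_zero he)).symm
  -- the sum over the powers of an element of order dividing `p`
  have hTfix : ∀ z : P, z ^ p = 1 → ∀ e : E,
      z • (∑ j ∈ Finset.range p, z ^ j • e) = ∑ j ∈ Finset.range p, z ^ j • e := by
    intro z hz e
    rw [Finset.smul_sum]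
    simp_rw [← mul_smul, ← pow_succ']
    have h1 := Finset.sum_range_succ (fun j => z ^ j • e) p
    have h2 := Finset.sum_range_succ' (fun j => z ^ j • e) p
    rw [h2, hz, pow_zero] at h1
    exact add_right_cancel h1
  have hTp : ∀ (z : P) (e : E), z • e = e → (∑ j ∈ Finset.range p, z ^ j • e) = p • e := by
    intro z e he
    have h : ∀ j : ℕ, z ^ j • e = e := by
      intro j
      induction j with
      | zero => rw [pow_zero, one_smul]
      | succ j ih => rw [pow_succ, mul_smul, he, ih]
    simp_rw [h]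
    rw [Finset.sum_const, Finset.card_range]
  have hTcomm : ∀ (z g : P), g * z = z * g → ∀ e : E, g • e = e →
      g • (∑ j ∈ Finset.range p, z ^ j • e) = ∑ j ∈ Finset.range p, z ^ j • e := by
    intro z g hc e he
    rw [Finset.smul_sum]
    refine Finset.sum_congr rfl fun j _ => ?_
    rw [← mul_smul, ((show Commute g z from hc).pow_right j).eq, mul_smul, he]
  by_cases hcyc : IsCyclic P
  · refine ⟨hcyc, fun g hg a hga => ?_⟩
    by_contra ha
    refine hg (hfaith g fun c => ?_)
    by_cases hc : c = 0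
    · rw [hc, smul_zero]
    have heq : MulAction.stabilizer P a = MulAction.stabilizer P c := by
      haveI := Fintype.ofFinite P
      set m := Nat.card (MulAction.stabilizer P a) with hm
      have hsub : ∀ d : E, d ≠ 0 → (MulAction.stabilizer P d : Set P).toFinset =
          (Finset.univ.filter fun x : P => x ^ m = 1) := by
        intro d hd
        refine Finset.eq_of_subset_of_card_le (fun x hx => ?_) ?_
        · rw [Set.mem_toFinset] at hx
          refine Finset.mem_filter.2 ⟨Finset.mem_univ _, ?_⟩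
          rw [hm, hconst a d ha hd]
          exact congrArg Subtype.val (pow_card_eq_one' (x := (⟨x, hx⟩ : MulAction.stabilizer P d)))
        · refine (IsCyclic.card_pow_eq_one_le Nat.card_pos).trans ?_
          rw [Set.toFinset_card, ← Nat.card_eq_fintype_card, hconst a d ha hd]
          exact le_rfl
      exact SetLike.coe_injective (Set.toFinset_inj.1 ((hsub a ha).trans (hsub c hc).symm))
    exact (heq ▸ hga : g ∈ MulAction.stabilizer P c)
  exfalso
  obtain ⟨N, hNn, ⟨hNc, hNe⟩, hNcard⟩ := CfsgLib.Transfer.exists_normal_elementary_card_sq hp2 hP hcyc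
  have hcomm : ∀ x ∈ N, ∀ y ∈ N, x * y = y * x := fun x hx y hy =>
    congrArg Subtype.val (hNc.is_comm.comm ⟨x, hx⟩ ⟨y, hy⟩)
  have hgen : ∀ (S : Subgroup P) (x y : P), x ∈ N → y ∈ N → x ≠ 1 → y ∉ Subgroup.zpowers x →
      x ∈ S → y ∈ S → N ≤ S := by
    intro S x y hx hy hx1 hxy hxS hyS
    have hle : Subgroup.zpowers x < S ⊓ N :=
      lt_of_le_not_ge (Subgroup.zpowers_le.2 ⟨hxS, hx⟩) fun h => hxy (h ⟨hyS, hy⟩)
    obtain ⟨i, hi, hcard⟩ := (Nat.dvd_prime_pow Fact.out).1
      (hNcard ▸ Subgroup.card_dvd_of_le (inf_le_right : S ⊓ N ≤ N))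
    have h1 : p < Nat.card ↥(S ⊓ N) := by
      have hox : Nat.card (Subgroup.zpowers x) = p := by
        rw [Nat.card_zpowers]; exact orderOf_eq_prime (hNe x hx) hx1
      rw [← hox]
      exact lt_of_le_of_ne (Subgroup.card_le_of_le hle.le)
        fun h => hle.ne (Subgroup.eq_of_le_of_card_ge hle.le h.ge)
    have hi2 : i = 2 := by
      have hp0 := (Fact.out : p.Prime).one_lt
      rw [hcard] at h1
      match i, hi with
      | 0, _ => rw [pow_zero] at h1; omega
      | 1, _ => rw [pow_one] at h1; omega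
      | 2, _ => rfl
      | k + 3, h => omega
    intro w hw
    have := Subgroup.eq_of_le_of_card_ge (inf_le_right : S ⊓ N ≤ N) (by rw [hcard, hi2, hNcard])
    exact (Subgroup.mem_inf.1 (this.symm ▸ hw : w ∈ S ⊓ N)).1
  -- a central element of `N` of order `p` fixes only zero
  haveI : N.Normal := hNn
  obtain ⟨z₀, hz₀, hz₀1⟩ : ∃ z₀ ∈ N ⊓ Subgroup.center P, z₀ ≠ 1 := by
    by_contra h
    push Not at h
    refine CfsgLib.PGroups.inf_center_ne_bot hP (N := N) ?_ ((Subgroup.eq_bot_iff_forall _).2 h)
    rintro rfl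
    rw [Subgroup.card_bot] at hNcard
    exact absurd hNcard.symm (Nat.one_lt_pow two_ne_zero (Fact.out : p.Prime).one_lt).ne'
  obtain ⟨hz₀N, hz₀c⟩ := Subgroup.mem_inf.1 hz₀
  have hz₀p : z₀ ^ p = 1 := hNe z₀ hz₀N
  have hz₀fix : ∀ a : E, z₀ • a = a → a = 0 := by
    intro a hza
    by_contra ha
    obtain ⟨e, he⟩ : ∃ e : E, z₀ • e ≠ e := by
      by_contra h
      push Not at h
      exact hz₀1 (hfaith z₀ h)
    set Te := ∑ j ∈ Finset.range p, z₀ ^ j • e with hTe
    set b := p • e - Te with hb
    have hzT : z₀ • Te = Te := hTfix z₀ hz₀p e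
    have hTb : (∑ j ∈ Finset.range p, z₀ ^ j • b) = 0 := by
      simp_rw [hb, smul_sub, smul_comm (z₀ ^ _) p e]
      rw [Finset.sum_sub_distrib, ← Finset.smul_sum, ← hTe, hTp z₀ Te hzT, sub_self]
    have hb0 : b ≠ 0 := by
      intro h
      have h' : p • e = Te := sub_eq_zero.1 h
      refine he (sub_eq_zero.1 (hpE _ ?_))
      rw [smul_sub, smul_comm, h', hzT, sub_self]
    have hzb : z₀ • b ≠ b := fun h => hb0 (hpE b (by rw [← hTp z₀ b h, hTb]))
    have hab : a + b ≠ 0 := fun h => hzb (by
      rw [eq_neg_of_add_eq_zero_right h, smul_neg, hza])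
    have key : MulAction.stabilizer P (a + b) ≤ MulAction.stabilizer P a ⊓ MulAction.stabilizer P b := by
      intro g hg
      have hg' : g • a + g • b = a + b := by rw [← smul_add]; exact hg
      have hgc : ∀ c : E, (∑ j ∈ Finset.range p, z₀ ^ j • (g • c)) =
          g • ∑ j ∈ Finset.range p, z₀ ^ j • c := by
        intro c
        rw [Finset.smul_sum]
        refine Finset.sum_congr rfl fun j _ => ?_
        rw [← mul_smul, ← mul_smul, ((show Commute g z₀ from Subgroup.mem_center_iff.1 hz₀c g).pow_right j).eq]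
      have h1 := congrArg (fun c => ∑ j ∈ Finset.range p, z₀ ^ j • c) hg'
      simp only [smul_add, Finset.sum_add_distrib, hgc, hTb, hTp z₀ a hza, smul_zero, add_zero] at h1
      rw [smul_comm] at h1
      have hga : g • a = a := sub_eq_zero.1 (hpE _ (by rw [smul_sub, h1, sub_self]))
      exact ⟨hga, by rw [hga] at hg'; exact add_left_cancel hg'⟩
    have h1 := Subgroup.eq_of_le_of_card_ge (key.trans inf_le_left) (hconst a (a + b) ha hab).le
    exact hzb ((h1.symm.le.trans (key.trans inf_le_right)) hza)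
  have hNfix : ∀ a : E, (∀ n ∈ N, n • a = a) → a = 0 := fun a h => hz₀fix a (h z₀ hz₀N)
  -- two elements of `N` fix nonzero vectors
  have hex : ∀ x ∈ N, x ≠ 1 → ∃ z ∈ N, z ∉ Subgroup.zpowers x ∧ ∃ a : E, a ≠ 0 ∧ z • a = a := by
    intro x hx hx1
    obtain ⟨y, hy, hyx⟩ : ∃ y ∈ N, y ∉ Subgroup.zpowers x := by
      by_contra h
      push Not at h
      have h1 := Subgroup.card_le_of_le (show N ≤ Subgroup.zpowers x from h)
      rw [hNcard, Nat.card_zpowers, orderOf_eq_prime (hNe x hx) hx1] at h1
      have := (Fact.out : p.Prime).one_lt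
      nlinarith
    by_contra hno
    push Not at hno
    refine hx1 (hfaith x fun e => sub_eq_zero.1 (hpE _ ?_))
    rw [smul_sub]
    have hzero : ∀ i : ℕ, (∑ j ∈ Finset.range p, (x ^ i * y) ^ j • e) = 0 := by
      intro i
      have hm : x ^ i * y ∈ N := mul_mem (pow_mem hx i) hy
      have hnot : x ^ i * y ∉ Subgroup.zpowers x := fun h => hyx (by
        have := mul_mem (inv_mem (pow_mem (Subgroup.mem_zpowers x) i)) h
        rwa [inv_mul_cancel_left] at this)
      by_contra h
      exact hno _ hm hnot _ h (hTfix _ (hNe _ hm) e)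
    have hsum : (∑ i ∈ Finset.range p, ∑ j ∈ Finset.range p, (x ^ i * y) ^ j • e) = 0 :=
      Finset.sum_eq_zero fun i _ => hzero i
    rw [Finset.sum_comm] at hsum
    have hterm : ∀ j ∈ Finset.range p, (∑ i ∈ Finset.range p, (x ^ i * y) ^ j • e) =
        y ^ j • ∑ i ∈ Finset.range p, (x ^ j) ^ i • e := by
      intro j _
      rw [Finset.smul_sum]
      refine Finset.sum_congr rfl fun i _ => ?_
      rw [(show Commute x y from hcomm x hx y hy).pow_left i |>.mul_pow, ← pow_mul, ← pow_mul,
        ((show Commute x y from hcomm x hx y hy).pow_pow (i * j) j).eq, mul_smul, mul_comm i j]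
    rw [Finset.sum_congr rfl hterm, ← Finset.add_sum_erase _ _ (Finset.mem_range.2 (Fact.out : p.Prime).pos)] at hsum
    simp only [pow_zero, one_pow, one_smul, Finset.sum_const, Finset.card_range] at hsum
    have hfix : ∀ j ∈ (Finset.range p).erase 0,
        x • (y ^ j • ∑ i ∈ Finset.range p, (x ^ j) ^ i • e) = y ^ j • ∑ i ∈ Finset.range p, (x ^ j) ^ i • e := by
      intro j hj
      rw [← mul_smul, ((show Commute x y from hcomm x hx y hy).pow_right j).eq, mul_smul]
      congr 1
      set s := ∑ i ∈ Finset.range p, (x ^ j) ^ i • e with hs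
      obtain ⟨hj0, hjp⟩ := Finset.mem_erase.1 hj
      have hxs : x ^ j ∈ MulAction.stabilizer P s := hTfix _ (by rw [← pow_mul, mul_comm, pow_mul, hNe x hx, one_pow]) e
      have hcop : Nat.Coprime j (orderOf x) := by
        rw [orderOf_eq_prime (hNe x hx) hx1]
        exact ((Fact.out : p.Prime).coprime_iff_not_dvd.2
          (Nat.not_dvd_of_pos_of_lt (Nat.pos_of_ne_zero hj0) (Finset.mem_range.1 hjp))).symm
      obtain ⟨k, hk⟩ := exists_pow_eq_self_of_coprime hcop
      have hxm : x ∈ MulAction.stabilizer P s := hk ▸ pow_mem hxs k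
      exact hxm
    have h2 := congrArg (x • ·) hsum
    rw [smul_add, smul_zero, Finset.smul_sum, Finset.sum_congr rfl hfix, smul_comm, ← hsum] at h2
    rw [add_right_cancel h2, sub_self]
  obtain ⟨y, hy, hy1⟩ : ∃ y ∈ N, y ≠ 1 := ⟨z₀, hz₀N, hz₀1⟩
  obtain ⟨z, hz, hzy, a, ha, hza⟩ := hex y hy hy1
  have hz1 : z ≠ 1 := fun h => hzy (h ▸ one_mem _)
  obtain ⟨w, hw, hwz, b, hb, hwb⟩ := hex z hz hz1
  have hw1 : w ≠ 1 := fun h => hwz (h ▸ one_mem _)
  -- an element of `N` fixing `a` lies in `⟨z⟩`
  have honly : ∀ (z : P) (a : E), z ∈ N → z ≠ 1 → a ≠ 0 → z • a = a → ∀ n ∈ N, n • a = a →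
      n ∈ Subgroup.zpowers z := by
    intro z a hz hz1 ha hza n hn hna
    by_contra h
    exact ha (hNfix a fun m hm => hgen (MulAction.stabilizer P a) z n hz hn hz1 h hza hna hm)
  have hab : a + b ≠ 0 := fun h => hwz (honly z a hz hz1 ha hza w hw (by
    rw [eq_neg_of_add_eq_zero_left h, smul_neg, hwb]))
  have hT0 : ∀ (u n : P) (c : E), u ∈ N → n ∈ N → c ≠ 0 → n ≠ 1 → n • c = c →
      u ∉ Subgroup.zpowers n → (∑ j ∈ Finset.range p, u ^ j • c) = 0 := by
    intro u n c hu hn hc hn1 hnc hun
    refine hNfix _ fun m hm => ?_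
    exact hgen (MulAction.stabilizer P _) n u hn hu hn1 hun
      (hTcomm u n (hcomm n hn u hu) c hnc) (hTfix u (hNe u hu) c) hm
  have key : MulAction.stabilizer P (a + b) ≤ MulAction.stabilizer P a ⊓ MulAction.stabilizer P b := by
    intro g hg
    have hg' : g • a + g • b = a + b := by rw [← smul_add]; exact hg
    suffices hga : g • a = a from ⟨hga, by rw [hga] at hg'; exact add_left_cancel hg'⟩
    set z' := g⁻¹ * z * g with hz'
    have hz'N : z' ∈ N := by
      have := hNn.conj_mem z hz g⁻¹
      rwa [inv_inv] at this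
    have hpush : ∀ c : E, (∑ j ∈ Finset.range p, z ^ j • (g • c)) =
        g • ∑ j ∈ Finset.range p, z' ^ j • c := by
      intro c
      rw [Finset.smul_sum]
      refine Finset.sum_congr rfl fun j _ => ?_
      have h : z' ^ j = g⁻¹ * z ^ j * g := by
        rw [hz']
        have := (conj_pow (i := j) (a := g⁻¹) (b := z))
        rwa [inv_inv] at this
      rw [h, ← mul_smul, ← mul_smul]
      group
    have h1 := congrArg (fun c => ∑ j ∈ Finset.range p, z ^ j • c) hg'
    simp only [smul_add, Finset.sum_add_distrib, hpush, hTp z a hza,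
      hT0 z w b hz hw hb hw1 hwb (fun h => hwz (by
        obtain ⟨i, hi⟩ := h
        have : Subgroup.zpowers z = Subgroup.zpowers w :=
          Subgroup.eq_of_le_of_card_ge (Subgroup.zpowers_le.2 ⟨i, hi⟩) (by
            rw [Nat.card_zpowers, Nat.card_zpowers, orderOf_eq_prime (hNe z hz) hz1,
              orderOf_eq_prime (hNe w hw) hw1])
        exact this.symm ▸ Subgroup.mem_zpowers w)), add_zero] at h1
    have hfixz : ∀ (n : P) (c : E), n • c = c → z' ∈ Subgroup.zpowers n → z' • c = c := by
      intro n c hnc hm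
      exact (Subgroup.zpowers_le.2 (show n ∈ MulAction.stabilizer P c from hnc) hm : _)
    by_cases hA : z' ∈ Subgroup.zpowers z
    · have hB : z' ∉ Subgroup.zpowers w := by
        intro hB
        have hz'1 : z' ≠ 1 := fun h => hz1 (by
          calc z = g * z' * g⁻¹ := by rw [hz']; group
            _ = 1 := by rw [h]; group)
        have e : ∀ n, n ∈ N → n ≠ 1 → z' ∈ Subgroup.zpowers n →
            Subgroup.zpowers z' = Subgroup.zpowers n := fun n hn hn1 hm =>
          Subgroup.eq_of_le_of_card_ge (Subgroup.zpowers_le.2 hm) (by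
            rw [Nat.card_zpowers, Nat.card_zpowers, orderOf_eq_prime (hNe n hn) hn1,
              orderOf_eq_prime (hNe z' hz'N) hz'1])
        exact hwz ((e z hz hz1 hA).symm.trans (e w hw hw1 hB) ▸ Subgroup.mem_zpowers w)
      rw [hTp z' a (hfixz z a hza hA), hT0 z' w b hz'N hw hb hw1 hwb hB, smul_zero, add_zero,
        smul_comm] at h1
      exact sub_eq_zero.1 (hpE _ (by rw [smul_sub, h1, sub_self]))
    · rw [hT0 z' z a hz'N hz ha hz1 hza hA, smul_zero, zero_add] at h1
      by_cases hB : z' ∈ Subgroup.zpowers w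
      · rw [hTp z' b (hfixz w b hwb hB), smul_comm] at h1
        have hgb : g • b = a := sub_eq_zero.1 (hpE _ (by rw [smul_sub, h1, sub_self]))
        have hga : g • a = b := by rw [hgb, add_comm a b] at hg'; exact add_right_cancel hg'
        have h2 : g ^ 2 • a = a := by rw [sq, mul_smul, hga, hgb]
        have hodd : Nat.Coprime 2 (orderOf g) := by
          obtain ⟨k, hk⟩ := IsPGroup.iff_orderOf.1 hP g
          rw [hk]
          exact Nat.Coprime.pow_right _ ((Nat.coprime_primes Nat.prime_two Fact.out).2 hp2.symm)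
        obtain ⟨k, hk⟩ := exists_pow_eq_self_of_coprime hodd
        have hgm : g ∈ MulAction.stabilizer P a :=
          hk ▸ pow_mem (show g ^ 2 ∈ MulAction.stabilizer P a from h2) k
        exact hgm
      · rw [hT0 z' w b hz'N hw hb hw1 hwb hB, smul_zero] at h1
        exact absurd (hpE a h1.symm) ha
  have h1 := Subgroup.eq_of_le_of_card_ge (key.trans inf_le_left) (hconst a (a + b) ha hab).le
  have h2 := Subgroup.eq_of_le_of_card_ge (key.trans inf_le_right) (hconst b (a + b) hb hab).le
  exact hwz (honly z a hz hz1 ha hza w hw ((h2.symm.trans h1) ▸ hwb : w ∈ MulAction.stabilizer P a))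

end Cfsg.Agent.S1160
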