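import Cfsg.Statements.S1166
import Cfsg.Agent.Lib.Lie.RankOne

set_option autoImplicit false
open Cfsg

namespace Cfsg.Agent.S1166

/-- In the rank-one set-up (`G` finite and doubly transitive on `Ω`, `t` an involution moving `a`, `Q` normal in `G_a` with `G_a = Q D`, `Q ⊓ D = 1` for the two-point stabiliser `D = G_a ⊓ G_{t • a}`, `|Q|` even, `|D|` odd), with `t x t = g_x h_x t f_x` and `t y t = g_y h_y t f_y` (`g, f ∈ Q`, `h ∈ D`) for `x, y ∈ Q ∖ 1` with `x y ≠ 1`: then `z = f_x g_y ≠ 1`, and if `t z t = g_z h_z t f_z` and `t (x y) t = g' h' t f'` then `f' = (t h_y t)⁻¹ f_z (t h_y t) f_y` and `h' = h_x h_z h_y` (H6). -/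
theorem result {G Ω : Type*} [Group G] [Finite G] [MulAction G Ω] {a : Ω} {t : G} {Q : Subgroup G}
    (hS : Cfsg.IsRankOneSetup G Ω a t Q)
    (x y gx hx fx gy hy fy : G) (hxQ : x ∈ Q) (hx1 : x ≠ 1) (hyQ : y ∈ Q) (hy1 : y ≠ 1) (hxy : x * y ≠ 1)
    (hgx : gx ∈ Q) (hhx : hx ∈ (MulAction.stabilizer G a ⊓ MulAction.stabilizer G (t • a))) (hfx : fx ∈ Q) (ex : t * x * t = gx * hx * t * fx)
    (hgy : gy ∈ Q) (hhy : hy ∈ (MulAction.stabilizer G a ⊓ MulAction.stabilizer G (t • a))) (hfy : fy ∈ Q) (ey : t * y * t = gy * hy * t * fy) :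
    fx * gy ≠ 1 ∧
      ∀ gz hz fz g' h' f' : G, gz ∈ Q → hz ∈ (MulAction.stabilizer G a ⊓ MulAction.stabilizer G (t • a)) → fz ∈ Q → t * (fx * gy) * t = gz * hz * t * fz →
        g' ∈ Q → h' ∈ (MulAction.stabilizer G a ⊓ MulAction.stabilizer G (t • a)) → f' ∈ Q → t * (x * y) * t = g' * h' * t * f' →
          f' = (t * hy * t)⁻¹ * fz * (t * hy * t) * fy ∧ h' = hx * hz * hy := by

  have tt := hS.mul_self
  have ti := CfsgLib.Lie.RankOne.t_inv hS
  have htct : ∀ z : G, t * (t * z) = z := fun z => by rw [← mul_assoc, tt, one_mul]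
  have stab : ∀ {k : G}, k ∈ (MulAction.stabilizer G a ⊓ MulAction.stabilizer G (t • a)) → k ∈ MulAction.stabilizer G a :=
    fun hk => (Subgroup.mem_inf.1 hk).1
  have conjQ : ∀ {k y : G}, k ∈ MulAction.stabilizer G a → y ∈ Q → k⁻¹ * y * k ∈ Q := fun hk hy => by
    have := hS.conj_mem _ (inv_mem hk) _ hy
    rwa [inv_inv] at this
  have conjQ' : ∀ {k y : G}, k ∈ MulAction.stabilizer G a → y ∈ Q → k * y * k⁻¹ ∈ Q :=
    fun hk hy => hS.conj_mem _ hk _ hy
  have main : t * (x * y) * t = gx * hx * (t * (fx * gy) * hy * t) * fy := by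
    calc t * (x * y) * t = (t * x * t) * (t * y * t) := by simp [mul_assoc, htct]
      _ = (gx * hx * t * fx) * (gy * hy * t * fy) := by rw [ex, ey]
      _ = _ := by group
  refine ⟨fun h1 => ?_, fun gz hz fz g' h' f' hgz hhz hfz ez hg' hh' hf' e => ?_⟩
  · rw [h1, mul_one] at main
    have hmem : t * (x * y) * t ∈ MulAction.stabilizer G a := by
      rw [main]
      exact mul_mem (mul_mem (mul_mem (hS.le hgx) (stab hhx)) (stab (CfsgLib.Lie.RankOne.tDt hS hhy))) (hS.le hfy)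
    refine hxy (CfsgLib.Lie.RankOne.eq_one_of_fix_ta hS (mul_mem hxQ hyQ) ?_)
    have h2 : (t * (x * y) * t) • a = a := hmem
    rw [mul_smul, mul_smul] at h2
    calc (x * y) • t • a = t • t • (x * y) • t • a := by rw [← mul_smul t t, tt, one_smul]
      _ = t • a := by rw [h2]
  · have hd := CfsgLib.Lie.RankOne.tDt hS hhy
    have e' : t * (x * y) * t = (gx * (hx * gz * hx⁻¹)) * (hx * hz * hy) * t *
        (((t * hy * t)⁻¹ * fz * (t * hy * t)) * fy) := by
      rw [main, show t * (fx * gy) * hy * t = t * (fx * gy) * t * (t * hy * t) by simp [mul_assoc, htct], ez]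
      simp [ti, mul_assoc, htct]
    obtain ⟨_, r2, r3⟩ := CfsgLib.Lie.RankOne.triple_unique hS (mul_mem hgx (conjQ' (stab hhx) hgz)) hg'
      (mul_mem (mul_mem hhx hhz) hhy) hh' (mul_mem (conjQ (stab hd) hfz) hfy) hf' (e'.symm.trans e)
    exact ⟨r3.symm, r2.symm⟩

end Cfsg.Agent.S1166
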