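import Cfsg.Statements.S1176
import Cfsg.Agent.Lib.TwoGroups.OddPowers

set_option autoImplicit false
open Cfsg

namespace Cfsg.Agent.S1176

/-- Let x₀ be an involution of the finite group G and D its conjugacy class. Assume (a) for each x ∈ D the subgroup W(x) generated by the members of D commuting with x is a 2-group of nilpotency class at most 2, and (b) the product of two distinct commuting members of D again lies in D. Then for all x, y ∈ D, if xy has even order greater than 2, its order is 4. -/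
theorem result {G : Type*} [Group G] [Finite G] (x₀ : G) (hx₀ : orderOf x₀ = 2) (ha : ∀ x : G, IsConj x₀ x → IsPGroup 2 ↥(Subgroup.closure {y : G | IsConj x₀ y ∧ Commute y x}) ∧ ⁅⁅Subgroup.closure {y : G | IsConj x₀ y ∧ Commute y x}, Subgroup.closure {y : G | IsConj x₀ y ∧ Commute y x}⁆, Subgroup.closure {y : G | IsConj x₀ y ∧ Commute y x}⁆ = ⊥) (hb : ∀ x y : G, IsConj x₀ x → IsConj x₀ y → x ≠ y → Commute x y → IsConj x₀ (x * y)) (x y : G) (hx : IsConj x₀ x) (hy : IsConj x₀ y) (heven : Even (orderOf (x * y))) (hgt : 2 < orderOf (x * y)) : orderOf (x * y) = 4 := by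
  have hord : ∀ w : G, IsConj x₀ w → orderOf w = 2 := by
    intro w hw
    obtain ⟨c, hc⟩ := isConj_iff.1 hw
    rw [← hc, CfsgLib.TwoGroups.orderOf_conj, hx₀]
  have hconj : ∀ (a w : G), IsConj x₀ w → IsConj x₀ (a * w * a⁻¹) := fun a w hw =>
    hw.trans (isConj_iff.2 ⟨a, rfl⟩)
  have hx2 := hord x hx
  have hy2 := hord y hy
  obtain ⟨hxk, hyk⟩ := CfsgLib.TwoGroups.conj_mul_of_involutions hx2 hy2
  set k := x * y with hk
  obtain ⟨m, hm⟩ := heven
  have hne : k ^ m ≠ 1 := pow_ne_one_of_lt_orderOf (by omega) (by omega)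
  have hu2 : k ^ m * k ^ m = 1 := by rw [← pow_add, ← hm, pow_orderOf_eq_one]
  have hcomm : ∀ w : G, w * k * w⁻¹ = k⁻¹ → Commute w (k ^ m) := by
    intro w hw
    have := CfsgLib.TwoGroups.conj_pow_eq_inv hw m
    rw [inv_eq_of_mul_eq_one_right hu2] at this
    exact mul_inv_eq_iff_eq_mul.1 this
  have hzi : ∀ j : ℤ, k ^ j * x = x * k ^ (-j) := by
    intro j
    have h1 : x * k ^ (-j) * x⁻¹ = k ^ j := by
      rw [← conj_zpow, hxk, inv_zpow', neg_neg]
    exact (mul_inv_eq_iff_eq_mul.1 h1).symm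
  have hxu : IsConj x₀ (x * k ^ m) := by
    rcases Nat.even_or_odd m with ⟨j, hj⟩ | ⟨j, hj⟩
    · have := hconj (k ^ (-(j : ℤ))) x hx
      rw [hzi, neg_neg, mul_assoc, ← zpow_neg, neg_neg, ← zpow_add, ← Nat.cast_add, ← hj,
        zpow_natCast] at this
      exact this
    · have hyk' : y = x * k ^ (1 : ℤ) := by
        rw [zpow_one, hk, ← mul_assoc, CfsgLib.TwoGroups.mul_self_of_orderOf_two hx2, one_mul]
      have := hconj (k ^ (-(j : ℤ))) y hy
      rw [hyk', ← mul_assoc, hzi, neg_neg, ← zpow_neg, neg_neg, mul_assoc, mul_assoc,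
        ← zpow_add, ← zpow_add] at this
      have e : ((j : ℤ) + (1 + j)) = (m : ℤ) := by omega
      rwa [e, zpow_natCast] at this
  have hxne : x ≠ x * k ^ m := fun h => hne (mul_eq_left.1 h.symm)
  have hu : IsConj x₀ (k ^ m) := by
    have := hb x (x * k ^ m) hx hxu hxne ((Commute.refl x).mul_right (hcomm x hxk))
    rwa [← mul_assoc, CfsgLib.TwoGroups.mul_self_of_orderOf_two hx2, one_mul] at this
  obtain ⟨-, hW⟩ := ha (k ^ m) hu
  set W := Subgroup.closure {w : G | IsConj x₀ w ∧ Commute w (k ^ m)}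
  have hxW : x ∈ W := Subgroup.subset_closure ⟨hx, hcomm x hxk⟩
  have hyW : y ∈ W := Subgroup.subset_closure ⟨hy, hcomm y hyk⟩
  have h1 : x * k * x⁻¹ * k⁻¹ ∈ ⁅W, W⁆ :=
    Subgroup.commutator_mem_commutator hxW (W.mul_mem hxW hyW)
  have h2 := Subgroup.commutator_mem_commutator h1 hxW
  rw [hW, Subgroup.mem_bot, commutatorElement_eq_one_iff_commute] at h2
  rw [hxk] at h2
  -- `x` centralises and inverts `k⁻²`
  have h3 : x * (k⁻¹ * k⁻¹) * x⁻¹ = k⁻¹ * k⁻¹ := mul_inv_eq_iff_eq_mul.2 h2.symm.eq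
  have h4 : x * (k⁻¹ * k⁻¹) * x⁻¹ = k * k := by
    calc x * (k⁻¹ * k⁻¹) * x⁻¹ = (x * k * x⁻¹)⁻¹ * (x * k * x⁻¹)⁻¹ := by group
      _ = k * k := by rw [hxk, inv_inv]
  have h5 : k ^ 4 = 1 := by
    have := h3.symm.trans h4
    calc k ^ 4 = (k * k) * (k * k) := by simp [pow_succ, mul_assoc]
      _ = (k * k) * (k⁻¹ * k⁻¹) := by rw [this]
      _ = 1 := by group
  have h6 := Nat.le_of_dvd (by norm_num) (orderOf_dvd_of_pow_eq_one h5)
  have h7 : orderOf k ≠ 3 := by omega
  omega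

end Cfsg.Agent.S1176
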