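import Cfsg.Statements.S1177
import Cfsg.Agent.Lib.TwoGroups.Closed

set_option autoImplicit false
open Cfsg

namespace Cfsg.Agent.S1177

/-- Let A be a nontrivial elementary abelian 2-subgroup of a finite group G which is a T.I. set (each conjugate of A meets A trivially or equals A) and which does not commute elementwise with any conjugate of A other than A itself. Then for every a ∈ A, a ≠ 1, every conjugate of A contained in C_G(a) is equal to A (A is weakly closed in C_G(a)). -/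
theorem result {G : Type*} [Group G] [Finite G] (A : Subgroup G) (hA : Cfsg.IsElementaryAbelian 2 A) (hA1 : A ≠ ⊥) (hTI : ∀ g : G, A.map (MulAut.conj g).toMonoidHom ⊓ A = ⊥ ∨ A.map (MulAut.conj g).toMonoidHom = A) (hb : ∀ g : G, (∀ a ∈ A, ∀ b ∈ A.map (MulAut.conj g).toMonoidHom, a * b = b * a) → A.map (MulAut.conj g).toMonoidHom = A) (a : G) (ha : a ∈ A) (ha1 : a ≠ 1) (g : G) (hg : A.map (MulAut.conj g).toMonoidHom ≤ Subgroup.centralizer ({a} : Set G)) : A.map (MulAut.conj g).toMonoidHom = A := by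
  set B := A.map (MulAut.conj g).toMonoidHom with hB
  by_contra hne
  have hAB : B ⊓ A = ⊥ := (hTI g).resolve_right hne
  have hA2 : ∀ v ∈ A, v * v = 1 := fun v hv => by rw [← pow_two]; exact hA.2 v hv
  have hB2 : ∀ b ∈ B, b * b = 1 := by
    rintro _ ⟨v, hv, rfl⟩
    rw [← map_mul, hA2 v hv, map_one]
  have hab : ∀ b ∈ B, b * a = a * b := fun b hb' =>
    (Subgroup.mem_centralizer_iff.1 (hg hb') a rfl).symm
  -- `B` normalises `A`
  have hBN : ∀ b ∈ B, A.map (MulAut.conj b).toMonoidHom = A := by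
    intro b hb'
    refine (hTI b).resolve_left fun h => ?_
    have ha' : a ∈ A.map (MulAut.conj b).toMonoidHom ⊓ A := by
      refine ⟨CfsgLib.TwoGroups.mem_map_conj.2 ?_, ha⟩
      rw [mul_assoc, ← hab b hb', inv_mul_cancel_left]; exact ha
    rw [h, Subgroup.mem_bot] at ha'
    exact ha1 ha'
  -- an element of `A` centralising one non-trivial element of `B` centralises all of `B`
  have hfix : ∀ v ∈ A, ∀ b ∈ B, b ≠ 1 → v * b = b * v → ∀ b' ∈ B, v * b' = b' * v := by
    intro v hv b hbB hb1 hvb b' hb'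
    have hnorm : B.map (MulAut.conj v).toMonoidHom = B := by
      rw [hB, ← CfsgLib.TwoGroups.map_conj_mul]
      rcases hTI (g⁻¹ * (v * g)) with h | h
      · exfalso
        apply hb1
        have hm : g⁻¹ * b * g ∈ A.map (MulAut.conj (g⁻¹ * (v * g))).toMonoidHom ⊓ A := by
          refine ⟨CfsgLib.TwoGroups.mem_map_conj.2 ?_, CfsgLib.TwoGroups.mem_map_conj.1 hbB⟩
          have e : (g⁻¹ * (v * g))⁻¹ * (g⁻¹ * b * g) * (g⁻¹ * (v * g)) = g⁻¹ * (v⁻¹ * (b * v)) * g := by
            group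
          rw [e, ← hvb, inv_mul_cancel_left]
          exact CfsgLib.TwoGroups.mem_map_conj.1 hbB
        rw [h, Subgroup.mem_bot] at hm
        calc b = g * (g⁻¹ * b * g) * g⁻¹ := by group
          _ = 1 := by rw [hm]; group
      · have := congrArg (Subgroup.map (MulAut.conj g).toMonoidHom) h
        rw [← CfsgLib.TwoGroups.map_conj_mul, mul_inv_cancel_left] at this
        exact this
    have hm : v * b' * v⁻¹ * b'⁻¹ ∈ B ⊓ A := by
      refine ⟨B.mul_mem ?_ (B.inv_mem hb'), ?_⟩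
      · exact hnorm.le (CfsgLib.TwoGroups.conj_mem_map_conj hb')
      · rw [mul_assoc, mul_assoc]
        refine A.mul_mem hv ?_
        rw [← mul_assoc]
        exact (hBN b' hb').le (CfsgLib.TwoGroups.conj_mem_map_conj (A.inv_mem hv))
    rw [hAB, Subgroup.mem_bot, mul_inv_eq_one, mul_inv_eq_iff_eq_mul] at hm
    exact hm
  have hexists : ∃ v ∈ A, ∃ b ∈ B, v * b ≠ b * v := by
    by_contra h
    push_neg at h
    exact hne (hb g h)
  obtain ⟨v, hv, b₀, hb₀, hvb₀⟩ := hexists
  let W : Subgroup G := A ⊓ Subgroup.centralizer (B : Set G)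
  have hAcomm : ∀ p ∈ A, ∀ q ∈ A, p * q = q * p := fun p hp q hq => by
    have := hA.1
    exact congrArg Subtype.val (mul_comm' (⟨p, hp⟩ : A) ⟨q, hq⟩)
  have hcA : ∀ b ∈ B, b * v * b⁻¹ ∈ A := fun b hb' =>
    (hBN b hb').le (CfsgLib.TwoGroups.conj_mem_map_conj hv)
  have hfW : ∀ b ∈ B, v * (b * v * b⁻¹) ∈ W := by
    intro b hb'
    refine ⟨A.mul_mem hv (hcA b hb'), Subgroup.mem_centralizer_iff.2 fun b' hb'' => ?_⟩
    by_cases h1 : b = 1
    · subst h1; simp [hA2 v hv]
    · refine (hfix _ (A.mul_mem hv (hcA b hb')) b hb' h1 ?_ b' hb'').symm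
      have hbi : b⁻¹ = b := inv_eq_of_mul_eq_one_right (hB2 b hb')
      calc v * (b * v * b⁻¹) * b = v * (b * v) := by group
        _ = (b * b) * (v * (b * v * b⁻¹)) * b := by rw [hB2 b hb']; group
        _ = b * ((b * v * b⁻¹) * (b * (b * v * b⁻¹) * b)) := by group
        _ = b * ((b * v * b⁻¹) * v) := by
          rw [hbi]; simp [mul_assoc, hB2 b hb', ← mul_assoc b b]
        _ = b * (v * (b * v * b⁻¹)) := by rw [hAcomm _ (hcA b hb') v hv]
  let f : B → W := fun b => ⟨v * ((b : G) * v * (b : G)⁻¹), hfW b b.2⟩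
  have hinj : Function.Injective f := by
    rintro ⟨b, hb'⟩ ⟨c, hc⟩ h
    have e : b * v * b⁻¹ = c * v * c⁻¹ := mul_left_cancel (congrArg Subtype.val h)
    by_contra hbc
    have hne1 : c⁻¹ * b ≠ 1 := fun h => hbc (Subtype.ext (inv_mul_eq_one.1 h).symm)
    have hcomm : v * (c⁻¹ * b) = c⁻¹ * b * v := by
      calc v * (c⁻¹ * b) = c⁻¹ * (c * v * c⁻¹) * b := by group
        _ = c⁻¹ * b * v := by rw [← e]; group
    exact hvb₀ (hfix v hv _ (B.mul_mem (B.inv_mem hc) hb') hne1 hcomm b₀ hb₀)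
  have h1 : Nat.card B ≤ Nat.card W := Nat.card_le_card_of_injective f hinj
  rw [hB, CfsgLib.TwoGroups.natCard_map_conj] at h1
  have hWA : W = A := Subgroup.eq_of_le_of_card_ge inf_le_left h1
  exact hvb₀ (Subgroup.mem_centralizer_iff.1 (hWA.ge hv).2 b₀ hb₀).symm

end Cfsg.Agent.S1177
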