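import Cfsg.Statements.S1178
import Cfsg.Agent.Lib.TwoGroups.Closed

set_option autoImplicit false
open Cfsg

namespace Cfsg.Agent.S1178

/-- Let A be a subgroup of a Sylow 2-subgroup S of the finite group G which is weakly closed in S. If a conjugate g A g⁻¹ commutes elementwise with A, then g A g⁻¹ = A. -/
theorem result {G : Type*} [Group G] [Finite G] (S : Sylow 2 G) (A : Subgroup G) (hW : Cfsg.IsWeaklyClosed A (S : Subgroup G)) (g : G) (hc : ∀ a ∈ A, ∀ b ∈ A.map (MulAut.conj g).toMonoidHom, a * b = b * a) : A.map (MulAut.conj g).toMonoidHom = A := by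
  open CfsgLib.TwoGroups in
  have hA : IsPGroup 2 A := S.isPGroup'.to_le hW.1
  have hB : IsPGroup 2 (A.map (MulAut.conj g).toMonoidHom) := hA.map _
  have hle : A.map (MulAut.conj g).toMonoidHom ≤ Subgroup.normalizer (A : Set G) := by
    intro b hb
    rw [Subgroup.mem_normalizer_iff'']
    intro a
    constructor
    · intro ha
      rw [mul_assoc, hc a ha b hb, inv_mul_cancel_left]; exact ha
    · intro ha
      have h := hc _ ha b hb
      have h1 : b⁻¹ * a * b * b = b * (b⁻¹ * a * b) := h
      have h2 : b⁻¹ * a * b * b = a * b := by rw [h1]; group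
      rw [← mul_right_cancel h2]; exact ha
  exact CfsgLib.TwoGroups.weaklyClosed_eq_of_le hW (hA.to_sup_of_normal_left' hB hle)
    le_sup_left le_sup_right

end Cfsg.Agent.S1178
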