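import Cfsg.Statements.S1183
import Cfsg.Agent.Lib.TwoGroups.Isolated

set_option autoImplicit false
open Cfsg
open scoped commutatorElement

namespace Cfsg.Agent.S1183

/-- Let z be an isolated involution of the finite group G and C = C_G(z). Then the subgroup of G generated by its elements of odd order is all of G if and only if the subgroup of C generated by its elements of odd order is all of C. -/
theorem result {G : Type*} [Group G] [Finite G] (z : G) (hz : Cfsg.IsIsolatedInvolution z) : Cfsg.pResidual 2 G = ⊤ ↔ Cfsg.pResidual 2 ↥(Subgroup.centralizer ({z} : Set G)) = ⊤ := by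
  let C := Subgroup.centralizer ({z} : Set G)
  have hnormal : (Cfsg.pResidual 2 G).Normal := by
    refine ⟨fun n hn g => ?_⟩
    have := Subgroup.mem_map_of_mem (MulAut.conj g).toMonoidHom hn
    rw [Cfsg.pResidual, MonoidHom.map_closure] at this
    have e : (MulAut.conj g).toMonoidHom n = g * n * g⁻¹ := by simp
    rw [e] at this
    refine Subgroup.closure_mono ?_ this
    rintro _ ⟨w, hw, rfl⟩
    show Nat.Coprime (orderOf _) 2
    rw [MulEquiv.coe_toMonoidHom, MulAut.conj_apply, CfsgLib.TwoGroups.orderOf_conj]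
    exact hw
  constructor
  · intro hG
    haveI : Fact (Nat.Prime 2) := ⟨Nat.prime_two⟩
    -- choose a Sylow 2-subgroup through `z`; it centralises `z`
    have hzp : IsPGroup 2 (Subgroup.zpowers z) :=
      IsPGroup.of_card (n := 1) (by rw [Nat.card_zpowers, hz.1, pow_one])
    obtain ⟨S, hS⟩ := hzp.exists_le_sylow
    have hzS : z ∈ (S : Subgroup G) := hS (Subgroup.mem_zpowers z)
    have hSC : (S : Subgroup G) ≤ C := by
      intro s hs
      rw [CfsgLib.TwoGroups.mem_centralizer_singleton_iff, CfsgLib.TwoGroups.commute_iff_conj_eq]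
      have hmem : z * (s * z * s⁻¹) ∈ (S : Subgroup G) :=
        mul_mem hzS (mul_mem (mul_mem hs hzS) (inv_mem hs))
      obtain ⟨k, hk⟩ := S.isPGroup' ⟨_, hmem⟩
      have hk' : (z * (s * z * s⁻¹)) ^ 2 ^ k = 1 := congrArg Subtype.val hk
      have h1 : orderOf (z * (s * z * s⁻¹)) = 1 := Nat.eq_one_of_dvd_coprimes
        ((Nat.coprime_two_left.2 (CfsgLib.TwoGroups.isolated_odd_mul hz s)).pow_left k)
        (orderOf_dvd_of_pow_eq_one hk') dvd_rfl
      have h2 := orderOf_eq_one_iff.1 h1
      calc s * z * s⁻¹ = z⁻¹ * (z * (s * z * s⁻¹)) := by group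
        _ = z := by rw [h2, mul_one, CfsgLib.TwoGroups.inv_eq_of_orderOf_two hz.1]
    by_contra hC
    -- `C` has a non-trivial abelian quotient of 2-power order
    have hCn : (Cfsg.pResidual 2 C).Normal := by
      refine ⟨fun n hn g => ?_⟩
      have := Subgroup.mem_map_of_mem (MulAut.conj g).toMonoidHom hn
      rw [Cfsg.pResidual, MonoidHom.map_closure] at this
      have e : (MulAut.conj g).toMonoidHom n = g * n * g⁻¹ := by simp
      rw [e] at this
      refine Subgroup.closure_mono ?_ this
      rintro _ ⟨w, hw, rfl⟩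
      show Nat.Coprime (orderOf _) 2
      rw [MulEquiv.coe_toMonoidHom, MulAut.conj_apply, CfsgLib.TwoGroups.orderOf_conj]
      exact hw
    have hQ : IsPGroup 2 (C ⧸ Cfsg.pResidual 2 C) := by
      intro q
      obtain ⟨c, rfl⟩ := QuotientGroup.mk_surjective q
      refine ⟨(orderOf c).factorization 2, ?_⟩
      rw [← QuotientGroup.mk_pow, QuotientGroup.eq_one_iff]
      refine Subgroup.subset_closure ?_
      show Nat.Coprime (orderOf _) 2
      rw [orderOf_pow' _ (pow_ne_zero _ two_ne_zero),
        Nat.gcd_eq_right (Nat.ordProj_dvd (orderOf c) 2)]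
      exact (Nat.coprime_ordCompl Nat.prime_two (orderOf_pos c).ne').symm
    haveI hnt : Nontrivial (C ⧸ Cfsg.pResidual 2 C) :=
      QuotientGroup.nontrivial_iff.2 hC
    haveI := hQ.isNilpotent
    have hlt : commutator (C ⧸ Cfsg.pResidual 2 C) < ⊤ :=
      Group.IsSolvable.commutator_lt_top_of_nontrivial _
    let f : C →* Abelianization (C ⧸ Cfsg.pResidual 2 C) :=
      Abelianization.of.comp (QuotientGroup.mk' _)
    have hfs : Function.Surjective f :=
      QuotientGroup.mk_surjective.comp (QuotientGroup.mk'_surjective _)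
    -- the focal subgroup of `S` is killed by `f`
    have hfoc : ∀ w ∈ Subgroup.focalSubgroup (S : Subgroup G), ∃ hw : w ∈ C, f ⟨w, hw⟩ = 1 := by
      intro w hw
      have hle : Subgroup.focalSubgroup (S : Subgroup G) ≤ f.ker.map C.subtype := by
        rw [Subgroup.focalSubgroup_def, Subgroup.closure_le]
        rintro w ⟨hwS, x, hx, u, rfl⟩
        have hy : u * x * u⁻¹ ∈ (S : Subgroup G) := by
          have := mul_mem (inv_mem hwS) hx
          simpa [commutatorElement_def, mul_assoc] using this
        obtain ⟨c, ⟨-, hcC0⟩, hcx⟩ :=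
          CfsgLib.TwoGroups.isolated_centralizer_fusion hz (H := ⊤) (Subgroup.le_normalizer (Subgroup.mem_top z)) x (u * x * u⁻¹)
            (Subgroup.mem_top x) (Subgroup.mem_top _)
            ((CfsgLib.TwoGroups.mem_centralizer_singleton_iff.1 (hSC hx)).symm)
            ((CfsgLib.TwoGroups.mem_centralizer_singleton_iff.1 (hSC hy)).symm)
            u (Subgroup.mem_top u) rfl
        have hcC : c ∈ C := hcC0
        refine ⟨⁅(⟨x, hSC hx⟩ : C), ⟨c, hcC⟩⁆, ?_, ?_⟩
        · rw [SetLike.mem_coe, MonoidHom.mem_ker, map_commutatorElement,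
            commutatorElement_eq_one_iff_commute]
          exact mul_comm _ _
        · simp only [commutatorElement_def, Subgroup.coe_subtype, Subgroup.coe_mul,
            Subgroup.coe_inv]
          have e : ∀ v : G, x * v * x⁻¹ * v⁻¹ = x * (v * x * v⁻¹)⁻¹ := fun v => by group
          rw [e, e, hcx]
      obtain ⟨v, hv, rfl⟩ := hle hw
      exact ⟨v.2, hv⟩
    let V := Subgroup.transferFocal (S : Subgroup G)
    have hker : Cfsg.pResidual 2 G ≤ V.ker := by
      rw [Cfsg.pResidual, Subgroup.closure_le]
      intro w hw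
      have h1 : orderOf (V w) ∣ orderOf w := orderOf_map_dvd V w
      obtain ⟨k, hk⟩ := (S.isPGroup'.to_quotient _) (V w)
      exact orderOf_eq_one_iff.1
        (Nat.eq_one_of_dvd_coprimes ((hw.symm).pow_left k) (orderOf_dvd_of_pow_eq_one hk) h1)
    rw [hG, top_le_iff, MonoidHom.ker_eq_top_iff] at hker
    have hodd : Nat.Coprime 2 (S : Subgroup G).index :=
      (Nat.prime_two.coprime_iff_not_dvd).2 (S.not_dvd_index (p := 2))
    have hSf : ∀ s ∈ (S : Subgroup G), s ∈ Subgroup.focalSubgroup (S : Subgroup G) := by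
      intro s hs
      have h1 : V s = 1 := by rw [hker]; rfl
      rw [show s = ((⟨s, hs⟩ : (S : Subgroup G)) : G) from rfl, Subgroup.transferFocal_eq_pow,
        ← QuotientGroup.mk_pow, QuotientGroup.eq_one_iff] at h1
      have h1' : s ^ (S : Subgroup G).index ∈ Subgroup.focalSubgroup (S : Subgroup G) := h1
      obtain ⟨k, hk⟩ := S.isPGroup' ⟨s, hs⟩
      have hk' : s ^ 2 ^ k = 1 := congrArg Subtype.val hk
      have hcop : (orderOf s).Coprime (S : Subgroup G).index :=
        (hodd.pow_left k).coprime_dvd_left (orderOf_dvd_of_pow_eq_one hk')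
      obtain ⟨j, hj⟩ := exists_pow_eq_self_of_coprime hcop.symm
      rw [← hj]; exact Subgroup.pow_mem _ h1' j
    -- so `S` is killed by `f`, whose image is a 2-group
    have hone : ∀ c : C, f c = 1 := by
      intro c
      let S' : Sylow 2 C := S.subtype hSC
      have hodd' : ¬ 2 ∣ (S' : Subgroup C).index := S'.not_dvd_index
      obtain ⟨k, hk⟩ := hQ (QuotientGroup.mk' _ c)
      have h1 : orderOf (f c) ∣ 2 ^ k := by
        refine orderOf_dvd_of_pow_eq_one ?_
        show (Abelianization.of _) ^ _ = 1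
        rw [← map_pow, hk, map_one]
      have hle : (S' : Subgroup C) ≤ f.ker := by
        intro w hw
        rw [Sylow.coe_subtype, Subgroup.mem_subgroupOf] at hw
        obtain ⟨_, h⟩ := hfoc _ (hSf _ hw)
        exact h
      have h2 : orderOf (f c) ∣ (S' : Subgroup C).index := by
        refine orderOf_dvd_of_pow_eq_one ?_
        have := Subgroup.pow_index_mem f.ker c
        rw [← map_pow]
        obtain ⟨d, hd⟩ := Subgroup.index_dvd_of_le hle
        rw [hd, pow_mul]
        exact MonoidHom.mem_ker.1 (Subgroup.pow_mem _ this d)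
      exact orderOf_eq_one_iff.1 (Nat.eq_one_of_dvd_coprimes
        (((Nat.prime_two.coprime_iff_not_dvd).2 hodd').pow_left k) h1 h2)
    apply hlt.ne
    rw [eq_top_iff]
    intro q _
    obtain ⟨c, rfl⟩ := QuotientGroup.mk'_surjective _ q
    exact (QuotientGroup.eq_one_iff _).1 (hone c)
  · intro hC
    have hle : C ≤ Cfsg.pResidual 2 G := by
      intro c hc
      have hmap : (Cfsg.pResidual 2 C).map C.subtype ≤ Cfsg.pResidual 2 G := by
        rw [Cfsg.pResidual, MonoidHom.map_closure]
        refine Subgroup.closure_mono ?_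
        rintro _ ⟨w, hw, rfl⟩
        show Nat.Coprime (orderOf _) 2
        rw [orderOf_injective C.subtype C.subtype_injective]
        exact hw
      rw [hC] at hmap
      exact hmap ⟨⟨c, hc⟩, Subgroup.mem_top _, rfl⟩
    rw [eq_top_iff]
    intro g _
    have hzR : z ∈ Cfsg.pResidual 2 G :=
      hle (CfsgLib.TwoGroups.mem_centralizer_singleton_iff.2 (Commute.refl z))
    obtain ⟨d, hd, -, -, hd'⟩ := CfsgLib.TwoGroups.isolated_fusion_control hz (Cfsg.pResidual 2 G) hzR g
      (hnormal.conj_mem z hzR g)
    have hc : d⁻¹ * g ∈ C := by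
      rw [CfsgLib.TwoGroups.mem_centralizer_singleton_iff, CfsgLib.TwoGroups.commute_iff_conj_eq]
      calc d⁻¹ * g * z * (d⁻¹ * g)⁻¹ = d⁻¹ * (g * z * g⁻¹) * d := by group
        _ = z := by rw [← hd']; group
    have h := mul_mem hd (hle hc)
    rwa [mul_inv_cancel_left] at h

end Cfsg.Agent.S1183
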