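import Cfsg.Statements.S1184
import Cfsg.Agent.Lib.TwoGroups.Isolated

set_option autoImplicit false
open Cfsg

namespace Cfsg.Agent.S1184

/-- Let z be an isolated involution of the finite group G. If s and t are distinct conjugates of z, then st does not commute with z. -/
theorem result {G : Type*} [Group G] [Finite G] (z : G) (hz : Cfsg.IsIsolatedInvolution z) (g h : G) (hne : g * z * g⁻¹ ≠ h * z * h⁻¹) : ¬ Commute (g * z * g⁻¹ * (h * z * h⁻¹)) z := by
  intro hc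
  open CfsgLib.TwoGroups in
  have hx : orderOf (g * z * g⁻¹) = 2 := by rw [orderOf_conj, hz.1]
  have hy : orderOf (h * z * h⁻¹) = 2 := by rw [CfsgLib.TwoGroups.orderOf_conj, hz.1]
  have hiso := CfsgLib.TwoGroups.isolated_conj hz g
  have hodd : Odd (orderOf (g * z * g⁻¹ * (h * z * h⁻¹))) := by
    have e : h * z * h⁻¹ = (h * g⁻¹) * (g * z * g⁻¹) * (h * g⁻¹)⁻¹ := by group
    rw [e]
    exact CfsgLib.TwoGroups.isolated_odd_mul hiso (h * g⁻¹)
  obtain ⟨hxk, -⟩ := CfsgLib.TwoGroups.conj_mul_of_involutions hx hy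
  set k := g * z * g⁻¹ * (h * z * h⁻¹) with hk
  set x := g * z * g⁻¹ with hxdef
  obtain ⟨d, ⟨n, hn⟩, -, -, hd⟩ := CfsgLib.TwoGroups.isolated_conjugator hz g
  rw [← hxdef] at hn hd
  -- `d` is a power of `x * z`, both factors of which send `k` to `k` or `k⁻¹`
  have hz' : z * k * z⁻¹ = k := by rw [← hc.symm.eq.symm]; group
  have hxz : (x * z) * k * (x * z)⁻¹ = k⁻¹ := by
    calc (x * z) * k * (x * z)⁻¹ = x * (z * k * z⁻¹) * x⁻¹ := by group
      _ = k⁻¹ := by rw [hz', hxk]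
  have hpow : ∀ j : ℕ, (x * z) ^ j * k * ((x * z) ^ j)⁻¹ = k ∨
      (x * z) ^ j * k * ((x * z) ^ j)⁻¹ = k⁻¹ := by
    intro j
    induction j with
    | zero => left; simp
    | succ j ih =>
      have e : (x * z) ^ (j + 1) * k * ((x * z) ^ (j + 1))⁻¹ =
          (x * z) * ((x * z) ^ j * k * ((x * z) ^ j)⁻¹) * (x * z)⁻¹ := by
        generalize x * z = t; group
      rcases ih with ih | ih
      · right; rw [e, ih, hxz]
      · left
        have e2 : (x * z) * k⁻¹ * (x * z)⁻¹ = ((x * z) * k * (x * z)⁻¹)⁻¹ := by group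
        rw [e, ih, e2, hxz, inv_inv]
  have hkx : x * k * x⁻¹ = k := by
    rw [← hd]
    have hzi : Commute z k := hc.symm
    rcases hn ▸ hpow n with h1 | h1
    · have h2 : Commute d k := mul_inv_eq_iff_eq_mul.1 h1
      exact mul_inv_eq_iff_eq_mul.2 (((h2.mul_left hzi).mul_left h2.inv_left).eq)
    · have h2 : d⁻¹ * k * d = k⁻¹ := by
        calc d⁻¹ * k * d = d⁻¹ * (d * k * d⁻¹)⁻¹ * d := by rw [h1, inv_inv]
          _ = k⁻¹ := by group
      calc d * z * d⁻¹ * k * (d * z * d⁻¹)⁻¹ = d * (z * (d⁻¹ * k * d) * z⁻¹) * d⁻¹ := by group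
        _ = d * (z * k⁻¹ * z⁻¹) * d⁻¹ := by rw [h2]
        _ = d * (z * k * z⁻¹)⁻¹ * d⁻¹ := by group
        _ = (d * k * d⁻¹)⁻¹ := by rw [hz']; group
        _ = k := by rw [h1, inv_inv]
  have hk1 : k = 1 := CfsgLib.TwoGroups.eq_one_of_inv_eq_self_of_odd hodd (hxk.symm.trans hkx)
  apply hne
  have hxx := CfsgLib.TwoGroups.mul_self_of_orderOf_two hx
  calc x = x * (x * (h * z * h⁻¹)) := by rw [← hk, hk1, mul_one]
    _ = h * z * h⁻¹ := by rw [← mul_assoc, hxx, one_mul]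

end Cfsg.Agent.S1184
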