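import Cfsg.Statements.S1185
import Cfsg.Agent.Lib.TwoGroups.Isolated

set_option autoImplicit false
open Cfsg

namespace Cfsg.Agent.S1185

/-- Let z be an isolated involution of the finite group G with centralizer C. Then for every g ∈ G there is exactly one element k in the coset gC that has odd order and is inverted by z. -/
theorem result {G : Type*} [Group G] [Finite G] (z : G) (hz : Cfsg.IsIsolatedInvolution z) (g : G) : ∃! k : G, (Odd (orderOf k) ∧ z * k * z⁻¹ = k⁻¹) ∧ g⁻¹ * k ∈ Subgroup.centralizer ({z} : Set G) := by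
  obtain ⟨d, -, h1, h2, h3⟩ := CfsgLib.TwoGroups.isolated_conjugator hz g
  have hcent : ∀ k : G, g⁻¹ * k ∈ Subgroup.centralizer ({z} : Set G) ↔
      k * z * k⁻¹ = g * z * g⁻¹ := by
    intro k
    rw [CfsgLib.TwoGroups.mem_centralizer_singleton_iff, CfsgLib.TwoGroups.commute_iff_conj_eq]
    constructor
    · intro h
      calc k * z * k⁻¹ = g * (g⁻¹ * k * z * (g⁻¹ * k)⁻¹) * g⁻¹ := by group
        _ = g * z * g⁻¹ := by rw [h]
    · intro h
      calc g⁻¹ * k * z * (g⁻¹ * k)⁻¹ = g⁻¹ * (k * z * k⁻¹) * g := by group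
        _ = z := by rw [h]; group
  refine ⟨d, ⟨⟨h1, h2⟩, (hcent d).2 h3⟩, ?_⟩
  rintro k ⟨⟨k1, k2⟩, k3⟩
  refine CfsgLib.TwoGroups.sq_inj_of_odd k1 h1 ?_
  have key : ∀ a : G, z * a * z⁻¹ = a⁻¹ → a * a = a * z * a⁻¹ * z⁻¹ := by
    intro a ha
    calc a * a = a * (a⁻¹)⁻¹ := by rw [inv_inv]
      _ = a * (z * a * z⁻¹)⁻¹ := by rw [ha]
      _ = _ := by group
  rw [key k k2, key d h2, (hcent k).1 k3, h3]

end Cfsg.Agent.S1185
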