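import Cfsg.Statements.S1186
import Cfsg.Agent.Lib.TwoGroups.Isolated

set_option autoImplicit false
open Cfsg

namespace Cfsg.Agent.S1186

/-- Let z be an isolated involution of the finite group G, C = C_G(z), K the set of elements of odd order inverted by z, and s an involution of C. Then |G| = |C| · |C_K(sz)| · |C_K(s)|. -/
theorem result {G : Type*} [Group G] [Finite G] (z : G) (hz : Cfsg.IsIsolatedInvolution z) (s : G) (hs : orderOf s = 2) (hsz : Commute s z) : Nat.card G = Nat.card (Subgroup.centralizer ({z} : Set G)) * Nat.card {k : G // Odd (orderOf k) ∧ z * k * z⁻¹ = k⁻¹ ∧ Commute k (s * z)} * Nat.card {k : G // Odd (orderOf k) ∧ z * k * z⁻¹ = k⁻¹ ∧ Commute k s} := by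
  open CfsgLib.TwoGroups in
  let C := Subgroup.centralizer ({z} : Set G)
  have hcomm : ∀ {u v : G}, u * v * u⁻¹ = v ↔ Commute u v := fun {u v} =>
    ⟨fun h => mul_inv_eq_iff_eq_mul.1 h, fun h => mul_inv_eq_iff_eq_mul.2 h.eq⟩
  have hzinv := CfsgLib.TwoGroups.inv_eq_of_orderOf_two hz.1
  have hsinv := CfsgLib.TwoGroups.inv_eq_of_orderOf_two hs
  -- the two sets
  have hA : ∀ a : G, z * a * z⁻¹ = a⁻¹ → (Commute a (s * z) ↔ s * a * s⁻¹ = a⁻¹) := by
    intro a ha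
    rw [Commute.symm_iff, ← hcomm]
    have e : s * z * a * (s * z)⁻¹ = (s * a * s⁻¹)⁻¹ := by
      calc s * z * a * (s * z)⁻¹ = s * (z * a * z⁻¹) * s⁻¹ := by group
        _ = _ := by rw [ha]; group
    rw [e, inv_eq_iff_eq_inv]
  let φ : {k : G // Odd (orderOf k) ∧ z * k * z⁻¹ = k⁻¹ ∧ Commute k (s * z)} ×
      {k : G // Odd (orderOf k) ∧ z * k * z⁻¹ = k⁻¹ ∧ Commute k s} → G ⧸ C :=
    fun ab => QuotientGroup.mk ((ab.2 : G) * ab.1)
  have hmk : ∀ u v : G, (QuotientGroup.mk u : G ⧸ C) = QuotientGroup.mk v ↔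
      u * z * u⁻¹ = v * z * v⁻¹ := by
    intro u v
    rw [QuotientGroup.eq, CfsgLib.TwoGroups.mem_centralizer_singleton_iff,
      CfsgLib.TwoGroups.commute_iff_conj_eq]
    constructor
    · intro h
      calc u * z * u⁻¹ = u * (u⁻¹ * v * z * (u⁻¹ * v)⁻¹) * u⁻¹ := by rw [h]
        _ = v * z * v⁻¹ := by group
    · intro h
      calc u⁻¹ * v * z * (u⁻¹ * v)⁻¹ = u⁻¹ * (v * z * v⁻¹) * u := by group
        _ = z := by rw [← h]; group
  have hsz' : s * z * s⁻¹ = z := hcomm.2 hsz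
  -- squaring recovers the conjugator
  have hkz : ∀ k : G, z * k * z⁻¹ = k⁻¹ → k * z * k⁻¹ = k * k * z := by
    intro k hk
    calc k * z * k⁻¹ = k * z * (z * k * z⁻¹) := by rw [hk]
      _ = k * (z * z) * k * z⁻¹ := by group
      _ = k * k * z := by rw [CfsgLib.TwoGroups.mul_self_of_orderOf_two hz.1, hzinv]; group
  -- key computation: `x * x^s` recovers the fourth power
  have key : ∀ a b : G, z * a * z⁻¹ = a⁻¹ → s * a * s⁻¹ = a⁻¹ → Commute b s →
      (b * a * z * (b * a)⁻¹) * (s * (b * a * z * (b * a)⁻¹) * s⁻¹) =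
        b * a ^ 4 * b⁻¹ := by
    intro a b ha hsa hb
    have hsb : s * b * s⁻¹ = b := hcomm.2 hb.symm
    have e1 : s * (b * a * z * (b * a)⁻¹) * s⁻¹ =
        (s * b * s⁻¹) * (s * a * s⁻¹) * (s * z * s⁻¹) * (s * a * s⁻¹)⁻¹ * (s * b * s⁻¹)⁻¹ := by group
    have e2 : z * a⁻¹ * z = a := by
      calc z * a⁻¹ * z = z * a⁻¹ * z⁻¹ := by rw [hzinv]
        _ = (z * a * z⁻¹)⁻¹ := by group
        _ = a := by rw [ha, inv_inv]
    rw [e1, hsb, hsa, hsz', inv_inv]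
    calc b * a * z * (b * a)⁻¹ * (b * a⁻¹ * z * a * b⁻¹)
        = b * a * (z * a⁻¹ * (z * z) * a⁻¹ * z) * a * b⁻¹ := by
          rw [CfsgLib.TwoGroups.mul_self_of_orderOf_two hz.1]; group
      _ = b * a * ((z * a⁻¹ * z) * (z * a⁻¹ * z)) * a * b⁻¹ := by group
      _ = b * a ^ 4 * b⁻¹ := by rw [e2, pow_succ, pow_succ, pow_succ, pow_one]; group
  have hbij : Function.Bijective φ := by
    constructor
    · rintro ⟨⟨a, ha1, ha2, ha3⟩, ⟨b, hb1, hb2, hb3⟩⟩ ⟨⟨a', ha1', ha2', ha3'⟩, ⟨b', hb1', hb2', hb3'⟩⟩ h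
      have hx : b * a * z * (b * a)⁻¹ = b' * a' * z * (b' * a')⁻¹ := (hmk _ _).1 h
      have h4 : (b * a * b⁻¹) ^ 4 = (b' * a' * b'⁻¹) ^ 4 := by
        rw [conj_pow, conj_pow, ← key a b ha2 ((hA a ha2).1 ha3) hb3,
          ← key a' b' ha2' ((hA a' ha2').1 ha3') hb3', hx]
      have hc1 : Odd (orderOf (b * a * b⁻¹)) := by rwa [CfsgLib.TwoGroups.orderOf_conj]
      have hc2 : Odd (orderOf (b' * a' * b'⁻¹)) := by rwa [CfsgLib.TwoGroups.orderOf_conj]
      have hc : b * a * b⁻¹ = b' * a' * b'⁻¹ := by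
        refine CfsgLib.TwoGroups.sq_inj_of_odd hc1 hc2 (CfsgLib.TwoGroups.sq_inj_of_odd ?_ ?_ ?_)
        · rw [← pow_two]; exact CfsgLib.TwoGroups.odd_orderOf_pow hc1 2
        · rw [← pow_two]; exact CfsgLib.TwoGroups.odd_orderOf_pow hc2 2
        · simpa [pow_succ, mul_assoc] using h4
      have hy : b * z * b⁻¹ = b' * z * b'⁻¹ := by
        have e : ∀ u v : G, u * z * u⁻¹ =
            (u * v * u⁻¹)⁻¹ * (u * v * z * (u * v)⁻¹) * (u * v * u⁻¹) := by intro u v; group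
        rw [e b a, e b' a', hc, hx]
      have hbb : b = b' := by
        rw [hkz b hb2, hkz b' hb2'] at hy
        exact CfsgLib.TwoGroups.sq_inj_of_odd hb1 hb1' (mul_right_cancel hy)
      subst hbb
      have haa : a = a' := by simpa using hc
      subst haa; rfl
    · intro q
      obtain ⟨g, rfl⟩ := QuotientGroup.mk_surjective q
      set x := g * z * g⁻¹ with hx
      have hx2 : orderOf x = 2 := by rw [hx, CfsgLib.TwoGroups.orderOf_conj, hz.1]
      have hxs : orderOf (s * x * s⁻¹) = 2 := by rw [CfsgLib.TwoGroups.orderOf_conj, hx2]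
      have hodd : Odd (orderOf (x * (s * x * s⁻¹))) := by
        have e : s * x * s⁻¹ = (s * g * s⁻¹ * g⁻¹) * x * (s * g * s⁻¹ * g⁻¹)⁻¹ := by
          calc s * x * s⁻¹ = (s * g * s⁻¹) * (s * z * s⁻¹) * (s * g * s⁻¹)⁻¹ := by rw [hx]; group
            _ = _ := by rw [hsz', hx]; group
        rw [e]
        exact CfsgLib.TwoGroups.isolated_odd_mul (CfsgLib.TwoGroups.isolated_conj hz g) _
      set dd := x * (s * x * s⁻¹) with hdd
      obtain ⟨m1, hm1⟩ := CfsgLib.TwoGroups.exists_sqrt_of_odd hodd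
      obtain ⟨m2, hm2⟩ := CfsgLib.TwoGroups.exists_sqrt_of_odd
        (CfsgLib.TwoGroups.odd_orderOf_pow hodd m1)
      rw [← pow_mul] at hm2
      set c := dd ^ (m1 * m2) with hc
      have hc4 : c ^ 4 = dd := by
        calc c ^ 4 = (c * c) * (c * c) := by simp [pow_succ, mul_assoc]
          _ = dd := by rw [hm2, hm1]
      have hxd : x * dd * x⁻¹ = dd⁻¹ := (CfsgLib.TwoGroups.conj_mul_of_involutions hx2 hxs).1
      have hsd : s * dd * s⁻¹ = dd⁻¹ := by
        rw [hdd, mul_inv_rev, CfsgLib.TwoGroups.inv_eq_of_orderOf_two hx2,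
          CfsgLib.TwoGroups.inv_eq_of_orderOf_two hxs, hsinv]
        calc s * (x * (s * x * s)) * s = s * x * s * x * (s * s) := by group
          _ = s * x * s * x := by rw [CfsgLib.TwoGroups.mul_self_of_orderOf_two hs, mul_one]
      have hxc : x * c * x⁻¹ = c⁻¹ := CfsgLib.TwoGroups.conj_pow_eq_inv hxd _
      have hsc : s * c * s⁻¹ = c⁻¹ := CfsgLib.TwoGroups.conj_pow_eq_inv hsd _
      have hcodd : Odd (orderOf c) := CfsgLib.TwoGroups.odd_orderOf_pow hodd _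
      have hxc' : x * c = c⁻¹ * x := mul_inv_eq_iff_eq_mul.1 hxc
      -- `y = c⁻¹ x c` is fixed by `s`
      have hys : s * (c⁻¹ * x * c) * s⁻¹ = c⁻¹ * x * c := by
        have e : s * x * s⁻¹ = x⁻¹ * dd := by rw [hdd]; group
        calc s * (c⁻¹ * x * c) * s⁻¹ = (s * c * s⁻¹)⁻¹ * (s * x * s⁻¹) * (s * c * s⁻¹) := by group
          _ = c * (x * c ^ 4) * c⁻¹ := by
            rw [hsc, inv_inv, e, ← hc4, CfsgLib.TwoGroups.inv_eq_of_orderOf_two hx2]
          _ = c * (x * c) * c * c := by simp [pow_succ, mul_assoc]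
          _ = (x * c) * c := by nth_rewrite 1 [hxc']; group
          _ = c⁻¹ * x * c := by rw [hxc']
      obtain ⟨b, ⟨nb, hnb⟩, hb1, hb2, hb3⟩ :=
        CfsgLib.TwoGroups.isolated_conjugator hz (c⁻¹ * g)
      have hy : c⁻¹ * g * z * (c⁻¹ * g)⁻¹ = c⁻¹ * x * c := by rw [hx]; group
      rw [hy] at hnb hb3
      have hbs : Commute b s := by
        rw [← hnb]
        exact ((hcomm.1 hys).symm.mul_left hsz.symm).pow_left _
      have hby : c⁻¹ * x * c * c * (c⁻¹ * x * c)⁻¹ = c⁻¹ := by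
        calc c⁻¹ * x * c * c * (c⁻¹ * x * c)⁻¹ = c⁻¹ * (x * c * x⁻¹) * c := by group
          _ = c⁻¹ := by rw [hxc]; group
      have hsb : s * b * s⁻¹ = b := hcomm.2 hbs.symm
      have ha2 : z * (b⁻¹ * c * b) * z⁻¹ = (b⁻¹ * c * b)⁻¹ := by
        calc z * (b⁻¹ * c * b) * z⁻¹
            = b⁻¹ * ((b * z * b⁻¹) * c * (b * z * b⁻¹)⁻¹) * b := by group
          _ = (b⁻¹ * c * b)⁻¹ := by rw [hb3, hby]; group
      have ha3 : s * (b⁻¹ * c * b) * s⁻¹ = (b⁻¹ * c * b)⁻¹ := by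
        calc s * (b⁻¹ * c * b) * s⁻¹ = (s * b * s⁻¹)⁻¹ * (s * c * s⁻¹) * (s * b * s⁻¹) := by group
          _ = (b⁻¹ * c * b)⁻¹ := by rw [hsb, hsc]; group
      have ha1 : Odd (orderOf (b⁻¹ * c * b)) := by
        have := CfsgLib.TwoGroups.orderOf_conj b⁻¹ c
        rw [inv_inv] at this
        rwa [this]
      refine ⟨(⟨b⁻¹ * c * b, ha1, ha2, (hA _ ha2).2 ha3⟩, ⟨b, hb1, hb2, hbs⟩), (hmk _ _).2 ?_⟩
      calc b * (b⁻¹ * c * b) * z * (b * (b⁻¹ * c * b))⁻¹ = c * (b * z * b⁻¹) * c⁻¹ := by group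
        _ = g * z * g⁻¹ := by rw [hb3, hx]; group
  rw [Subgroup.card_eq_card_quotient_mul_card_subgroup C,
    ← Nat.card_congr (Equiv.ofBijective φ hbij), Nat.card_prod, mul_comm, mul_assoc]

end Cfsg.Agent.S1186
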