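import Cfsg.Statements.S1191
import Cfsg.Agent.Lib.TwoGroups.SemiDihedralSubgroups
import Cfsg.Agent.Lib.TwoGroups.MapEquiv

set_option autoImplicit false
open Cfsg

namespace Cfsg.Agent.S1191

/-- In a quasi-dihedral 2-group S, any two subgroups isomorphic to the quaternion group of order 8 are conjugate, and each such subgroup Q satisfies C_S(Q) = Z(Q) and |N_S(Q) : Q| = 2. -/
theorem result {S : Type*} [Group S] [Finite S] (hS : Cfsg.IsQuasiDihedral S) : (∀ Q₁ Q₂ : Subgroup S, Nonempty (Q₁ ≃* QuaternionGroup 2) → Nonempty (Q₂ ≃* QuaternionGroup 2) → ∃ s : S, Q₁.map (MulAut.conj s).toMonoidHom = Q₂) ∧ (∀ Q : Subgroup S, Nonempty (Q ≃* QuaternionGroup 2) → Subgroup.centralizer (Q : Set S) = (Subgroup.center Q).map Q.subtype ∧ Q.relIndex (Subgroup.normalizer (Q : Set S)) = 2) := by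
  obtain ⟨m, hcard, ⟨e⟩⟩ := CfsgLib.TwoGroups.SemiDihedral.of_isQuasiDihedral hS
  open CfsgLib.TwoGroups CfsgLib.TwoGroups.SemiDihedral in
  have hmap : ∀ Q : Subgroup S, Nonempty (Q ≃* QuaternionGroup 2) →
      ∃ c, Q.map e.toMonoidHom = eight (2 * c + 1) := by
    rintro Q ⟨eQ⟩
    exact eq_eight_of_quaternion ((Q.equivMapOfInjective e.toMonoidHom e.injective).symm.trans eQ)
  open CfsgLib.TwoGroups CfsgLib.TwoGroups.SemiDihedral in
  refine ⟨fun Q₁ Q₂ h₁ h₂ => ?_, fun Q hQ => ?_⟩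
  · obtain ⟨c, hc⟩ := hmap Q₁ h₁
    obtain ⟨d, hd⟩ := hmap Q₂ h₂
    obtain ⟨g, hg⟩ := conj_eight c d
    refine ⟨e.symm g, (equiv_map_inj e).1 ?_⟩
    rw [conj_equiv_map, e.apply_symm_apply, hc, hd, hg]
  · obtain ⟨c, hc⟩ := hmap Q hQ
    have hle : Subgroup.centralizer (Q : Set S) ≤ Q := by
      intro x hx
      have h1 : e x ∈ (Subgroup.centralizer (Q : Set S)).map e.toMonoidHom := ⟨x, hx, rfl⟩
      rw [centralizer_equiv_map, hc] at h1
      have h2 := centralizer_eight c h1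
      rw [← hc, Subgroup.mem_map_equiv] at h2
      simpa using h2
    refine ⟨?_, ?_⟩
    · rw [center_subgroup_map_subtype, inf_of_le_right hle]
    · rw [← relIndex_normalizer_equiv_map e, hc, relIndex_normalizer_eight]

end Cfsg.Agent.S1191
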