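import Cfsg.Statements.S1192
import Cfsg.Agent.Lib.TwoGroups.SemiDihedralSubgroups
import Cfsg.Agent.Lib.TwoGroups.MapEquiv

set_option autoImplicit false
open Cfsg

namespace Cfsg.Agent.S1192

/-- A quasi-dihedral group S of order 2^(n+1) has exactly three maximal subgroups; one is cyclic, one is isomorphic to the generalized quaternion group of order 2^n and one to the dihedral group of order 2^n. -/
theorem result {S : Type*} [Group S] [Finite S] (hS : Cfsg.IsQuasiDihedral S) (n : ℕ) (hn : Nat.card S = 2 ^ (n + 1)) : ∃ M₁ M₂ M₃ : Subgroup S, IsCoatom M₁ ∧ IsCoatom M₂ ∧ IsCoatom M₃ ∧ M₁ ≠ M₂ ∧ M₁ ≠ M₃ ∧ M₂ ≠ M₃ ∧ (∀ M : Subgroup S, IsCoatom M → M = M₁ ∨ M = M₂ ∨ M = M₃) ∧ IsCyclic M₁ ∧ Nonempty (M₂ ≃* QuaternionGroup (2 ^ (n - 2))) ∧ Nonempty (M₃ ≃* DihedralGroup (2 ^ (n - 1))) := by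
  obtain ⟨m, hcard, ⟨e⟩⟩ := CfsgLib.TwoGroups.SemiDihedral.of_isQuasiDihedral hS
  open CfsgLib.TwoGroups CfsgLib.TwoGroups.SemiDihedral in
  haveI : Fact (Nat.Prime 2) := ⟨Nat.prime_two⟩
  have hnm : n = m + 3 := by
    have := Nat.pow_right_injective (le_refl 2) (hn.symm.trans hcard)
    omega
  subst hnm
  open CfsgLib.TwoGroups CfsgLib.TwoGroups.SemiDihedral in
  have hcl : ∀ M : Subgroup (SemiDihedral m), IsCoatom M → M = cyc m ∨ M = evn m ∨ M = mix m := by
    intro M hM
    haveI := CfsgLib.PGroups.normal_of_isCoatom' isPGroup hM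
    rcases normal_cases (N := M) hM.1 with h | h | h | h
    · exact Or.inl h
    · exact Or.inr (Or.inl h)
    · exact Or.inr (Or.inr h)
    · exfalso
      have hlt : cyc m ⊓ evn m < cyc m := by
        refine lt_of_le_not_ge inf_le_left fun hh => ?_
        have h2 := (hh (rot_mem_cyc 1)).2
        have h2 : SemiDihedral.h m * 1 = 0 := h2
        rw [mul_one] at h2
        exact h_ne h2
      exact (isCoatom_of_index_two index_cyc).1 (hM.2 _ (h.trans_lt hlt))
  open CfsgLib.TwoGroups CfsgLib.TwoGroups.SemiDihedral in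
  have hc : ∀ M : Subgroup (SemiDihedral m), M.index = 2 → Nat.card M = 2 ^ (m + 3) := by
    intro M hM
    have h1 := M.card_mul_index
    rw [hM, natCard, pow_succ] at h1
    omega
  open CfsgLib.TwoGroups CfsgLib.TwoGroups.SemiDihedral in
  have hquat : Nonempty (mix m ≃* QuaternionGroup (2 ^ (m + 1))) := by
    refine nonempty_mulEquiv_quaternionGroup (a := ⟨rot 2, rot_mem_mix.2 (h_mul_even ⟨1, by ring⟩)⟩)
      (b := ⟨ref 1, ref_mem_mix.2 (mul_one _)⟩) ?_ ?_ ?_ ?_ ?_
    · rw [← Subgroup.orderOf_coe, orderOf_rot_two]; ring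
    · refine Subtype.ext ?_
      push_cast
      rw [ref_sq, rot_pow, mul_one]
      congr 1
      show half (m + 3) = _
      rw [half, show m + 3 - 1 = m + 2 by omega]
      push_cast; ring
    · intro hmem
      obtain ⟨k, hk⟩ := Subgroup.mem_zpowers_iff.1 hmem
      have h1 : (rot (2 : ZMod (2 ^ (m + 3)))) ^ k ∈ cyc m := zpow_mem (rot_mem_cyc _) k
      have h2 := congrArg Subtype.val hk
      push_cast at h2
      rw [h2] at h1
      exact ref_not_mem_cyc _ h1
    · refine Subtype.ext ?_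
      push_cast
      rw [ref_conj_rot, rot_inv, h_mul_even ⟨1, (mul_one _).symm⟩, zero_sub]
    · rw [hc _ index_mix]; ring
  open CfsgLib.TwoGroups CfsgLib.TwoGroups.SemiDihedral in
  have hdih : Nonempty (evn m ≃* DihedralGroup (2 ^ (m + 2))) := by
    refine nonempty_mulEquiv_dihedralGroup (a := ⟨rot 2, rot_mem_evn.2 (h_mul_even ⟨1, by ring⟩)⟩)
      (b := ⟨ref 0, ref_mem_evn.2 (mul_zero _)⟩) ?_ ?_ ?_ ?_ ?_
    · rw [← Subgroup.orderOf_coe, orderOf_rot_two]
    · refine Subtype.ext ?_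
      push_cast
      rw [ref_sq, mul_zero, SemiDihedral.one_def]
    · intro hmem
      obtain ⟨k, hk⟩ := Subgroup.mem_zpowers_iff.1 hmem
      have h1 : (rot (2 : ZMod (2 ^ (m + 3)))) ^ k ∈ cyc m := zpow_mem (rot_mem_cyc _) k
      have h2 := congrArg Subtype.val hk
      push_cast at h2
      rw [h2] at h1
      exact ref_not_mem_cyc _ h1
    · refine Subtype.ext ?_
      push_cast
      rw [ref_conj_rot, rot_inv, h_mul_even ⟨1, (mul_one _).symm⟩, zero_sub]
    · rw [hc _ index_evn]; ring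
  open CfsgLib.TwoGroups CfsgLib.TwoGroups.SemiDihedral in
  have h12 : cyc m ≠ mix m := fun hh => ref_not_mem_cyc 1 (hh.ge (ref_mem_mix.2 (mul_one _)))
  open CfsgLib.TwoGroups CfsgLib.TwoGroups.SemiDihedral in
  have h13 : cyc m ≠ evn m := fun hh => ref_not_mem_cyc 0 (hh.ge (ref_mem_evn.2 (mul_zero _)))
  open CfsgLib.TwoGroups CfsgLib.TwoGroups.SemiDihedral in
  have h23 : mix m ≠ evn m := fun hh => by
    have h1 := ref_mem_evn.1 (hh.le (ref_mem_mix.2 (mul_one (h m))))
    rw [mul_one] at h1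
    exact h_ne h1
  open CfsgLib.TwoGroups CfsgLib.TwoGroups.SemiDihedral in
  have hco : ∀ M : Subgroup (SemiDihedral m), M.index = 2 → IsCoatom (M.map e.symm.toMonoidHom) :=
    fun M hM => (isCoatom_equiv_map e.symm).2 (isCoatom_of_index_two hM)
  open CfsgLib.TwoGroups CfsgLib.TwoGroups.SemiDihedral in
  refine ⟨(cyc m).map e.symm.toMonoidHom, (mix m).map e.symm.toMonoidHom,
    (evn m).map e.symm.toMonoidHom, hco _ index_cyc, hco _ index_mix, hco _ index_evn,
    fun hh => h12 ((equiv_map_inj e.symm).1 hh), fun hh => h13 ((equiv_map_inj e.symm).1 hh),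
    fun hh => h23 ((equiv_map_inj e.symm).1 hh), fun M hM => ?_, ?_, ?_, ?_⟩
  · rcases hcl _ ((isCoatom_equiv_map e).2 hM) with h | h | h
    · left; rw [← h, equiv_map_map_symm]
    · right; right; rw [← h, equiv_map_map_symm]
    · right; left; rw [← h, equiv_map_map_symm]
  · haveI := isCyclic_cyc (m := m)
    exact isCyclic_of_surjective _
      ((cyc m).equivMapOfInjective e.symm.toMonoidHom e.symm.injective).surjective
  · rw [show m + 3 - 2 = m + 1 by omega]
    exact hquat.map fun f =>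
      ((mix m).equivMapOfInjective e.symm.toMonoidHom e.symm.injective).symm.trans f
  · rw [show m + 3 - 1 = m + 2 by omega]
    exact hdih.map fun f =>
      ((evn m).equivMapOfInjective e.symm.toMonoidHom e.symm.injective).symm.trans f

end Cfsg.Agent.S1192
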