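import Cfsg.Statements.S1193
import Cfsg.Agent.Lib.TwoGroups.SemiDihedralSubgroups
import Cfsg.Agent.Lib.TwoGroups.MapEquiv

set_option autoImplicit false
open Cfsg

namespace Cfsg.Agent.S1193

/-- Let S be quasi-dihedral of order 2^(n+1). Then S' = Φ(S) is cyclic of order 2^(n-1), the centre of S has order 2, and the subgroup generated by the involutions of S is dihedral of order 2^n. -/
theorem result {S : Type*} [Group S] [Finite S] (hS : Cfsg.IsQuasiDihedral S) (n : ℕ) (hn : Nat.card S = 2 ^ (n + 1)) : commutator S = frattini S ∧ IsCyclic (commutator S) ∧ Nat.card (commutator S) = 2 ^ (n - 1) ∧ Nat.card (Subgroup.center S) = 2 ∧ Nonempty (↥(Subgroup.closure {x : S | orderOf x = 2}) ≃* DihedralGroup (2 ^ (n - 1))) := by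
  obtain ⟨m, hcard, ⟨e⟩⟩ := CfsgLib.TwoGroups.SemiDihedral.of_isQuasiDihedral hS
  open CfsgLib.TwoGroups CfsgLib.TwoGroups.SemiDihedral in
  haveI : Fact (Nat.Prime 2) := ⟨Nat.prime_two⟩
  have hnm : n = m + 3 := by
    have := Nat.pow_right_injective (le_refl 2) (hn.symm.trans hcard)
    omega
  subst hnm
  open CfsgLib.TwoGroups CfsgLib.TwoGroups.SemiDihedral in
  have hcomm : (commutator S).map e.toMonoidHom = Subgroup.zpowers (rot 2) := by
    rw [commutator_equiv_map, SemiDihedral.commutator_eq, cyc_inf_evn_eq]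
  open CfsgLib.TwoGroups CfsgLib.TwoGroups.SemiDihedral in
  have hfr : (frattini S).map e.toMonoidHom = Subgroup.zpowers (rot 2) := by
    rw [← cyc_inf_evn_eq]
    apply le_antisymm
    · refine le_inf ?_ ?_ <;> intro x hx
      · rw [Subgroup.mem_map_equiv] at hx
        have h1 := frattini_le_coatom ((isCoatom_equiv_map e.symm).2
          (isCoatom_of_index_two (index_cyc (m := m)))) hx
        rw [Subgroup.mem_map_equiv] at h1; simpa using h1
      · rw [Subgroup.mem_map_equiv] at hx
        have h1 := frattini_le_coatom ((isCoatom_equiv_map e.symm).2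
          (isCoatom_of_index_two (index_evn (m := m)))) hx
        rw [Subgroup.mem_map_equiv] at h1; simpa using h1
    · rw [← SemiDihedral.commutator_eq, ← commutator_equiv_map e]
      exact Subgroup.map_mono (CfsgLib.PGroups.commutator_le_frattini' (p := 2)
        (IsPGroup.of_card hcard))
  open CfsgLib.TwoGroups CfsgLib.TwoGroups.SemiDihedral in
  have hcl : (Subgroup.closure {x : S | orderOf x = 2}).map e.toMonoidHom = evn m := by
    rw [MonoidHom.map_closure]
    apply le_antisymm
    · rw [Subgroup.closure_le]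
      rintro _ ⟨x, hx, rfl⟩
      rcases (CfsgLib.TwoGroups.SemiDihedral.orderOf_eq_two_iff (e x)).1 (by rw [e.orderOf_eq]; exact hx) with h | ⟨c, h⟩
      · exact h.symm ▸ rot_mem_evn.2 h_mul_h
      · exact h.symm ▸ ref_mem_evn.2 (h_mul_even ⟨c, rfl⟩)
    · have href : ∀ c, ref (2 * c) ∈ Subgroup.closure (e.toMonoidHom '' {x : S | orderOf x = 2}) := by
        intro c
        refine Subgroup.subset_closure ⟨e.symm (ref (2 * c)), ?_, e.apply_symm_apply _⟩
        show orderOf (e.symm (ref (2 * c))) = 2
        rw [e.symm.orderOf_eq]; exact (CfsgLib.TwoGroups.SemiDihedral.orderOf_eq_two_iff _).2 (Or.inr ⟨c, rfl⟩)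
      intro g hg
      induction g using SemiDihedral.cases' with
      | hr b =>
        obtain ⟨c, rfl⟩ := (half_mul_eq_zero_iff (by omega)).1 (rot_mem_evn.1 hg)
        have := mul_mem (href c) (href 0)
        rwa [ref_mul_ref, mul_zero, mul_zero, sub_zero, add_zero] at this
      | hs b =>
        obtain ⟨c, rfl⟩ := (half_mul_eq_zero_iff (by omega)).1 (ref_mem_evn.1 hg)
        exact href c
  open CfsgLib.TwoGroups CfsgLib.TwoGroups.SemiDihedral in
  refine ⟨(equiv_map_inj e).1 (hcomm.trans hfr.symm), ?_, ?_, ?_, ?_⟩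
  · haveI : IsCyclic ((commutator S).map e.toMonoidHom) := by rw [hcomm]; infer_instance
    exact isCyclic_of_surjective _
      ((commutator S).equivMapOfInjective e.toMonoidHom e.injective).symm.surjective
  · rw [← Subgroup.card_map_of_injective (f := e.toMonoidHom) e.injective, hcomm, Nat.card_zpowers,
      orderOf_rot_two, show m + 3 - 1 = m + 2 by omega]
  · rw [← Subgroup.card_map_of_injective (f := e.toMonoidHom) e.injective, center_equiv_map,
      center_eq, Nat.card_zpowers]
    exact (CfsgLib.TwoGroups.SemiDihedral.orderOf_eq_two_iff _).2 (Or.inl rfl)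
  · rw [show m + 3 - 1 = m + 2 by omega]
    refine (show Nonempty (evn m ≃* DihedralGroup (2 ^ (m + 2))) from ?_).map fun f =>
      ((Subgroup.closure {x : S | orderOf x = 2}).equivMapOfInjective e.toMonoidHom e.injective).trans
        ((MulEquiv.subgroupCongr hcl).trans f)
    refine nonempty_mulEquiv_dihedralGroup (a := ⟨rot 2, rot_mem_evn.2 (h_mul_even ⟨1, by ring⟩)⟩)
      (b := ⟨ref 0, ref_mem_evn.2 (mul_zero _)⟩) ?_ ?_ ?_ ?_ ?_
    · rw [← Subgroup.orderOf_coe, orderOf_rot_two]
    · refine Subtype.ext ?_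
      push_cast
      rw [ref_sq, mul_zero, SemiDihedral.one_def]
    · intro hmem
      obtain ⟨k, hk⟩ := Subgroup.mem_zpowers_iff.1 hmem
      have h1 : (rot (2 : ZMod (2 ^ (m + 3)))) ^ k ∈ cyc m := zpow_mem (rot_mem_cyc _) k
      have h2 := congrArg Subtype.val hk
      push_cast at h2
      rw [h2] at h1
      exact ref_not_mem_cyc _ h1
    · refine Subtype.ext ?_
      push_cast
      rw [ref_conj_rot, rot_inv, h_mul_even ⟨1, (mul_one _).symm⟩, zero_sub]
    · have h1 := (evn m).card_mul_index
      rw [index_evn, natCard, pow_succ] at h1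
      rw [show 2 * 2 ^ (m + 2) = 2 ^ (m + 3) by ring]
      omega

end Cfsg.Agent.S1193
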