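import Cfsg.Statements.S1194
import Cfsg.Agent.Lib.TwoGroups.SemiDihedralSubgroups
import Cfsg.Agent.Lib.TwoGroups.MapEquiv

set_option autoImplicit false
open Cfsg

namespace Cfsg.Agent.S1194

/-- In a quasi-dihedral 2-group S, every proper normal subgroup is either a maximal subgroup or a cyclic subgroup contained in the derived subgroup S'. -/
theorem result {S : Type*} [Group S] [Finite S] (hS : Cfsg.IsQuasiDihedral S) (N : Subgroup S) [N.Normal] (hN : N ≠ ⊤) : IsCoatom N ∨ (IsCyclic N ∧ N ≤ commutator S) := by
  obtain ⟨m, hcard, ⟨e⟩⟩ := CfsgLib.TwoGroups.SemiDihedral.of_isQuasiDihedral hS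
  open CfsgLib.TwoGroups CfsgLib.TwoGroups.SemiDihedral in
  haveI : (N.map e.toMonoidHom).Normal := Subgroup.Normal.map inferInstance _ e.surjective
  open CfsgLib.TwoGroups CfsgLib.TwoGroups.SemiDihedral in
  rcases normal_cases (N := N.map e.toMonoidHom) (fun hh => hN ((equiv_map_inj e).1
      (hh.trans (Subgroup.map_top_of_surjective e.toMonoidHom e.surjective).symm))) with h | h | h | h
  · left; rw [← isCoatom_equiv_map e, h]; exact isCoatom_of_index_two index_cyc
  · left; rw [← isCoatom_equiv_map e, h]; exact isCoatom_of_index_two index_evn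
  · left; rw [← isCoatom_equiv_map e, h]; exact isCoatom_of_index_two index_mix
  · refine Or.inr ⟨?_, ?_⟩
    · haveI : IsCyclic (N.map e.toMonoidHom) := by
        rw [cyc_inf_evn_eq] at h
        exact Subgroup.isCyclic_of_le h
      exact isCyclic_of_surjective _ (N.equivMapOfInjective e.toMonoidHom e.injective).symm.surjective
    · rw [← commutator_eq, ← commutator_equiv_map e] at h
      exact (Subgroup.map_le_map_iff_of_injective e.injective).1 h

end Cfsg.Agent.S1194
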