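import Cfsg.Statements.S1197
import Cfsg.Agent.Lib.TwoGroups.WreathedSubgroups
import Cfsg.Agent.Lib.TwoGroups.MapEquiv

set_option autoImplicit false
open Cfsg

namespace Cfsg.Agent.S1197

/-- Let S be a wreathed 2-group of order 2^(2n+1). Then Z(S) is cyclic of order 2^n, the derived subgroup S' is cyclic of order 2^n, and S/Z(S) is isomorphic to the dihedral group of order 2^(n+1). -/
theorem result {S : Type*} [Group S] [Finite S] (hS : Cfsg.IsWreathed S) (n : ℕ) (hn : Nat.card S = 2 ^ (2 * n + 1)) : IsCyclic (Subgroup.center S) ∧ Nat.card (Subgroup.center S) = 2 ^ n ∧ IsCyclic (commutator S) ∧ Nat.card (commutator S) = 2 ^ n ∧ Nonempty (S ⧸ Subgroup.center S ≃* DihedralGroup (2 ^ n)) := by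
  open CfsgLib.TwoGroups CfsgLib.TwoGroups.WreathTwo in
  obtain ⟨m, hcard, ⟨e⟩⟩ := of_isWreathed hS
  obtain rfl : n = m + 2 := by
    have := Nat.pow_right_injective (le_refl 2) (hn.symm.trans hcard)
    omega
  open CfsgLib.TwoGroups CfsgLib.TwoGroups.WreathTwo in
  have hZ : (Subgroup.center S).map e.toMonoidHom = Subgroup.zpowers (u 1 1) := by
    rw [center_equiv_map, WreathTwo.center_eq]
  open CfsgLib.TwoGroups CfsgLib.TwoGroups.WreathTwo in
  have hD : (commutator S).map e.toMonoidHom = Subgroup.zpowers (u 1 (-1)) := by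
    rw [commutator_equiv_map, WreathTwo.commutator_eq]
  open CfsgLib.TwoGroups CfsgLib.TwoGroups.WreathTwo in
  refine ⟨?_, ?_, ?_, ?_, ⟨?_⟩⟩
  · haveI : IsCyclic ((Subgroup.center S).map e.toMonoidHom) := by rw [hZ]; infer_instance
    exact isCyclic_of_surjective _
      ((Subgroup.center S).equivMapOfInjective e.toMonoidHom e.injective).symm.surjective
  · rw [← Subgroup.card_map_of_injective (f := e.toMonoidHom) e.injective, hZ, Nat.card_zpowers,
      orderOf_u_one]
  · haveI : IsCyclic ((commutator S).map e.toMonoidHom) := by rw [hD]; infer_instance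
    exact isCyclic_of_surjective _
      ((commutator S).equivMapOfInjective e.toMonoidHom e.injective).symm.surjective
  · rw [← Subgroup.card_map_of_injective (f := e.toMonoidHom) e.injective, hD, Nat.card_zpowers,
      orderOf_u_one]
  · exact ((QuotientGroup.congr (Subgroup.center S) (Subgroup.center (WreathTwo m)) e
      (center_equiv_map e)).trans (QuotientGroup.quotientMulEquivOfEq toDihedral_ker.symm)).trans
      (QuotientGroup.quotientKerEquivOfSurjective (toDihedral m) toDihedral_surjective)

end Cfsg.Agent.S1197
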