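import Cfsg.Statements.S1198
import Cfsg.Agent.Lib.TwoGroups.WreathedSubgroups
import Cfsg.Agent.Lib.TwoGroups.MapEquiv

set_option autoImplicit false
open Cfsg

namespace Cfsg.Agent.S1198

/-- A wreathed 2-group S has a normal Klein four-subgroup T such that every Klein four-subgroup of S other than T is conjugate in S to any other such subgroup; in particular S has exactly two conjugacy classes of Klein four-subgroups. -/
theorem result {S : Type*} [Group S] [Finite S] (hS : Cfsg.IsWreathed S) : ∃ T : Subgroup S, IsKleinFour T ∧ T.Normal ∧ (∃ T₀ : Subgroup S, IsKleinFour T₀ ∧ T₀ ≠ T) ∧ ∀ T₁ T₂ : Subgroup S, IsKleinFour T₁ → IsKleinFour T₂ → T₁ ≠ T → T₂ ≠ T → ∃ s : S, T₁.map (MulAut.conj s).toMonoidHom = T₂ := by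
  open CfsgLib.TwoGroups CfsgLib.TwoGroups.WreathTwo in
  obtain ⟨m, hcard, ⟨e⟩⟩ := of_isWreathed hS
  open CfsgLib.TwoGroups CfsgLib.TwoGroups.WreathTwo in
  refine ⟨(four0 m).map e.symm.toMonoidHom, isKleinFour_equiv_map e.symm isKleinFour_four0,
    ?_, ⟨(fourW 0).map e.symm.toMonoidHom, isKleinFour_equiv_map e.symm (isKleinFour_fourW 0),
      fun hh => four0_ne_fourW 0 ((equiv_map_inj e.symm).1 hh)⟩, fun T₁ T₂ h₁ h₂ hn₁ hn₂ => ?_⟩
  · haveI := four0_normal (m := m)
    exact Subgroup.Normal.map inferInstance _ e.symm.surjective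
  · rcases four_cases (isKleinFour_equiv_map e h₁) with h1 | ⟨a, h1⟩
    · exact absurd (by rw [← h1, equiv_map_map_symm]) hn₁
    rcases four_cases (isKleinFour_equiv_map e h₂) with h2 | ⟨c, h2⟩
    · exact absurd (by rw [← h2, equiv_map_map_symm]) hn₂
    refine ⟨e.symm (u (c - a) 0), (equiv_map_inj e).1 ?_⟩
    rw [conj_equiv_map, e.apply_symm_apply, h1, h2, conj_fourW]

end Cfsg.Agent.S1198
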