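import Cfsg.Statements.S1199
import Cfsg.Agent.Lib.TwoGroups.WreathedSubgroups
import Cfsg.Agent.Lib.TwoGroups.MapEquiv

set_option autoImplicit false
open Cfsg

namespace Cfsg.Agent.S1199

/-- A wreathed 2-group S of order 2^(2n+1) has exactly one subgroup of order 2^(n+1) isomorphic to a generalized quaternion group, and that subgroup is normal in S. -/
theorem result {S : Type*} [Group S] [Finite S] (hS : Cfsg.IsWreathed S) (n : ℕ) (hn : Nat.card S = 2 ^ (2 * n + 1)) : (∃! Y : Subgroup S, Nat.card Y = 2 ^ (n + 1) ∧ Nonempty (Y ≃* QuaternionGroup (2 ^ (n - 1)))) ∧ ∀ Y : Subgroup S, Nat.card Y = 2 ^ (n + 1) → Nonempty (Y ≃* QuaternionGroup (2 ^ (n - 1))) → Y.Normal := by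
  open CfsgLib.TwoGroups CfsgLib.TwoGroups.WreathTwo in
  obtain ⟨m, hcard, ⟨e⟩⟩ := of_isWreathed hS
  obtain rfl : n = m + 2 := by
    have := Nat.pow_right_injective (le_refl 2) (hn.symm.trans hcard)
    omega
  open CfsgLib.TwoGroups CfsgLib.TwoGroups.WreathTwo in
  have huniq : ∀ Y : Subgroup S, Nonempty (Y ≃* QuaternionGroup (2 ^ (m + 2 - 1))) →
      Y = (quat m).map e.symm.toMonoidHom := by
    rintro Y ⟨eY⟩
    rw [show m + 2 - 1 = m + 1 by omega] at eY
    rw [← eq_quat_of_equiv ((Y.equivMapOfInjective e.toMonoidHom e.injective).symm.trans eY),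
      equiv_map_map_symm]
  open CfsgLib.TwoGroups CfsgLib.TwoGroups.WreathTwo in
  refine ⟨⟨(quat m).map e.symm.toMonoidHom, ⟨?_, ?_⟩, fun Y hY => huniq Y hY.2⟩, fun Y _ hY => ?_⟩
  · rw [Subgroup.card_map_of_injective e.symm.injective, natCard_quat]
  · rw [show m + 2 - 1 = m + 1 by omega]
    exact quat_equiv.map fun f =>
      ((quat m).equivMapOfInjective e.symm.toMonoidHom e.symm.injective).symm.trans f
  · refine ⟨fun y hy s => ?_⟩
    have h1 : Y.map (MulAut.conj s).toMonoidHom = Y := by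
      rw [huniq (Y.map (MulAut.conj s).toMonoidHom) (hY.map fun f =>
        (Y.equivMapOfInjective (MulAut.conj s).toMonoidHom (MulAut.conj s).injective).symm.trans f)]
      exact (huniq Y hY).symm
    rw [← h1]
    exact ⟨y, hy, rfl⟩

end Cfsg.Agent.S1199
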