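import Cfsg.Statements.S1201
import Cfsg.Agent.Lib.TwoGroups.WreathedSubgroups
import Cfsg.Agent.Lib.TwoGroups.MapEquiv

set_option autoImplicit false
open Cfsg

namespace Cfsg.Agent.S1201

/-- If X is a non-commutative subgroup of a wreathed 2-group S, then Z(X) ≤ Z(S). -/
theorem result {S : Type*} [Group S] [Finite S] (hS : Cfsg.IsWreathed S) (X : Subgroup S) (hX : ¬ IsMulCommutative X) : (Subgroup.center X).map X.subtype ≤ Subgroup.center S := by
  open CfsgLib.TwoGroups CfsgLib.TwoGroups.WreathTwo in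
  obtain ⟨m, hcard, ⟨e⟩⟩ := of_isWreathed hS
  open CfsgLib.TwoGroups CfsgLib.TwoGroups.WreathTwo in
  rw [center_subgroup_map_subtype]
  open CfsgLib.TwoGroups CfsgLib.TwoGroups.WreathTwo in
  intro g hg
  open CfsgLib.TwoGroups CfsgLib.TwoGroups.WreathTwo in
  have hX' : ¬ IsMulCommutative (X.map e.toMonoidHom) := by
    intro hh
    refine hX ⟨⟨fun p r => ?_⟩⟩
    apply (X.equivMapOfInjective e.toMonoidHom e.injective).injective
    rw [map_mul, map_mul]; exact hh.1.1 _ _
  open CfsgLib.TwoGroups CfsgLib.TwoGroups.WreathTwo in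
  have h1 := center_map_le_center hX' (show e g ∈ X.map e.toMonoidHom ⊓
      Subgroup.centralizer ((X.map e.toMonoidHom : Subgroup (WreathTwo m)) : Set (WreathTwo m)) by
    rw [← centralizer_equiv_map]
    exact ⟨⟨g, hg.1, rfl⟩, ⟨g, hg.2, rfl⟩⟩)
  rw [← center_equiv_map e, Subgroup.mem_map_equiv] at h1
  simpa using h1

end Cfsg.Agent.S1201
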