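import Cfsg.Statements.S1228
import Cfsg.Agent.Lib.TwoGroups.ElemCentralizers

set_option autoImplicit false
open Cfsg

namespace Cfsg.Agent.S1228

/-- Let G be a finite group with a Sylow 2-subgroup T that is neither cyclic nor normal, such that the centralizer of every involution is an elementary abelian 2-group; put H = N_G(T), let u be an involution outside H and D = H ∩ uHu⁻¹. Then N_G(D) = D ⊔ ⟨u⟩, and a coset gH is fixed by every element of D exactly when gH = H or gH = uH. -/
theorem result {G : Type*} [Group G] [Finite G] (T : Sylow 2 G) (hnc : ¬ IsCyclic (T : Subgroup G)) (hnn : ¬ (T : Subgroup G).Normal) (hC : ∀ t : G, orderOf t = 2 → IsMulCommutative (Subgroup.centralizer ({t} : Set G)) ∧ ∀ c ∈ Subgroup.centralizer ({t} : Set G), c ^ 2 = 1) (u : G) (hu : orderOf u = 2) (huH : u ∉ Subgroup.normalizer ((T : Subgroup G) : Set G)) : Subgroup.normalizer ((Subgroup.normalizer ((T : Subgroup G) : Set G) ⊓ (Subgroup.normalizer ((T : Subgroup G) : Set G)).map (MulAut.conj u).toMonoidHom : Subgroup G)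 : Set G) = (Subgroup.normalizer ((T : Subgroup G) : Set G) ⊓ (Subgroup.normalizer ((T : Subgroup G) : Set G)).map (MulAut.conj u).toMonoidHom) ⊔ Subgroup.zpowers u ∧ ∀ g : G, ((∀ d ∈ Subgroup.normalizer ((T : Subgroup G) : Set G) ⊓ (Subgroup.normalizer ((T : Subgroup G) : Set G)).map (MulAut.conj u).toMonoidHom, d • (QuotientGroup.mk g : G ⧸ Subgroup.normalizer ((T : Subgroup G) : Set G)) = QuotientGroup.mk g) ↔ (QuotientGroup.mk g : G ⧸ Subgroup.normalizer ((T : Subgroup G) : Set G)) = QuotientGroup.mk 1 ∨ (QuotientGroup.mk g : G ⧸ Subgroup.normalizer ((T : Subgroup G) : Set G)) = QuotientGroup.mk u) := by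
  open CfsgLib.TwoGroups in
  have h : ElemCent T := ⟨hnc, hnn, hC⟩
  have hne : u • ElemCent.base T ≠ ElemCent.base T := fun e => huH (ElemCent.smul_base_iff.1 e)
  rw [ElemCent.inter_eq_pairStab]
  obtain ⟨d₀, hd₀, hd₀1⟩ := h.two_le_card_pairStab hne.symm
  have huu : u • u • ElemCent.base T = ElemCent.base T := by
    rw [← mul_smul, CfsgLib.Signalizer.involution_sq hu, one_smul]
  set D := ElemCent.pairStab (ElemCent.base T) (u • ElemCent.base T) with hD
  have hfix : ∀ z : G ⧸ Subgroup.normalizer ((T : Subgroup G) : Set G), (∀ d ∈ D, d • z = z) → z = ElemCent.base T ∨ z = u • ElemCent.base T :=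
    fun z hz => h.eq_or_eq hne.symm hd₀ hd₀1 (hz d₀ hd₀)
  refine ⟨le_antisymm ?_ (sup_le Subgroup.le_normalizer (Subgroup.zpowers_le.2 ?_)), fun g => ?_⟩
  · intro g hg
    have key : ∀ z : G ⧸ Subgroup.normalizer ((T : Subgroup G) : Set G), (∀ d ∈ D, d • z = z) → ∀ d ∈ D, d • g • z = g • z := by
      intro z hz d hd
      have h1 := hz _ ((Subgroup.mem_normalizer_iff''.1 hg d).1 hd)
      rw [mul_smul, mul_smul, inv_smul_eq_iff] at h1
      exact h1
    have h0 := hfix _ (key _ fun d hd => hd.1)
    have h1 := hfix _ (key _ fun d hd => hd.2)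
    rcases h0 with h0 | h0
    · rcases h1 with h1 | h1
      · exact absurd (smul_left_cancel g (h1.trans h0.symm)) hne
      · exact Subgroup.mem_sup_left ⟨h0, h1⟩
    · rcases h1 with h1 | h1
      · have hm : u * g ∈ D := ⟨by
          show (u * g) • ElemCent.base T = _
          rw [mul_smul, h0, huu], by
          show (u * g) • u • ElemCent.base T = _
          rw [mul_smul, h1]⟩
        have : g = u⁻¹ * (u * g) := (inv_mul_cancel_left u g).symm
        rw [this]
        exact mul_mem (inv_mem (Subgroup.mem_sup_right (Subgroup.mem_zpowers u)))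
          (Subgroup.mem_sup_left hm)
      · exact absurd (smul_left_cancel g (h1.trans h0.symm)) hne
  · rw [Subgroup.mem_normalizer_iff]
    intro d
    refine ⟨fun hd => by rw [h.conj_eq_inv hne.symm hu rfl hd]; exact inv_mem hd, fun hd => ?_⟩
    have h2 : u * (u * d * u⁻¹) * u⁻¹ ∈ D := by
      rw [h.conj_eq_inv hne.symm hu rfl hd]; exact inv_mem hd
    have h3 : u * (u * d * u⁻¹) * u⁻¹ = d := by
      calc u * (u * d * u⁻¹) * u⁻¹ = (u * u) * d * (u * u)⁻¹ := by group
        _ = d := by rw [CfsgLib.Signalizer.involution_sq hu]; simp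
    rwa [h3] at h2
  · have e : (QuotientGroup.mk u : G ⧸ Subgroup.normalizer ((T : Subgroup G) : Set G)) =
        u • ElemCent.base T := by
      rw [MulAction.Quotient.smul_mk, smul_eq_mul, mul_one]
    rw [e]
    refine ⟨fun hz => hfix _ hz, ?_⟩
    rintro (hz | hz) <;> intro d hd <;> rw [hz]
    · exact hd.1
    · exact hd.2

end Cfsg.Agent.S1228
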