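import Cfsg.Statements.S1231
import Cfsg.Agent.Lib.TwoGroups.Closed
import Cfsg.Agent.Lib.Transfer.Conj

set_option autoImplicit false
open Cfsg

namespace Cfsg.Agent.S1231

open CfsgLib.TwoGroups

theorem not_pRankLE_mono {A B : Type*} [Group A] [Group B] [Finite B] {p k : ℕ} (f : A →* B)
    (hf : Function.Injective f) (h : ¬ Cfsg.PRankLE p k A) : ¬ Cfsg.PRankLE p k B := by
  intro hB
  refine h fun E hc hE => ?_
  haveI := hc
  have := hB (E.map f) inferInstance (by
    rintro _ ⟨a, ha, rfl⟩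
    rw [← map_pow, hE a ha, map_one])
  rwa [Subgroup.card_map_of_injective hf] at this

theorem not_pRankLE_le {G : Type*} [Group G] [Finite G] {p k : ℕ} {X Y : Subgroup G} (hXY : X ≤ Y)
    (h : ¬ Cfsg.PRankLE p k X) : ¬ Cfsg.PRankLE p k Y :=
  not_pRankLE_mono (Subgroup.inclusion hXY) (Subgroup.inclusion_injective hXY) h

theorem not_pRankLE_conj {G : Type*} [Group G] [Finite G] {p k : ℕ} {X : Subgroup G} (g : G)
    (h : ¬ Cfsg.PRankLE p k X) : ¬ Cfsg.PRankLE p k (X.map (MulAut.conj g).toMonoidHom) :=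
  not_pRankLE_mono (X.equivMapOfInjective _ (MulAut.conj g).injective).toMonoidHom
    (X.equivMapOfInjective _ (MulAut.conj g).injective).injective h

/-- If the normalisers of the large subgroups of `P` lie in `H`, then `H` contains the conjugators of
its large `p`-subgroups. -/
theorem mem_of_conj_le {G : Type*} [Group G] [Finite G] {p : ℕ} [Fact p.Prime] {k : ℕ}
    {H : Subgroup G} (P : Sylow p H) (hP : ¬ Cfsg.PRankLE p k (P : Subgroup H))
    (h : ∀ X : Subgroup G, X ≤ (P : Subgroup H).map H.subtype → ¬ Cfsg.PRankLE p k X →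
      Subgroup.normalizer (X : Set G) ≤ H)
    {X : Subgroup G} (hX : IsPGroup p X) (hXk : ¬ Cfsg.PRankLE p k X) {x : G} (hXH : X ≤ H)
    (hxX : X.map (MulAut.conj x).toMonoidHom ≤ H) : x ∈ H := by
  have hconj : ∀ Y : Subgroup G, Y ≤ H → IsPGroup p Y → ∃ c ∈ H,
      Y.map (MulAut.conj c).toMonoidHom ≤ (P : Subgroup H).map H.subtype := by
    intro Y hYH hY
    obtain ⟨c, hc⟩ := exists_conj_le_sylow P
      (hY.comap_of_injective H.subtype H.subtype_injective : IsPGroup p (Y.subgroupOf H))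
    refine ⟨c, c.2, ?_⟩
    rintro _ ⟨y, hy, rfl⟩
    exact ⟨c * ⟨y, hYH hy⟩ * c⁻¹, hc (conj_mem_map_conj (Subgroup.mem_subgroupOf.2 hy)), rfl⟩
  have hnorm : ∀ Y : Subgroup G, Y ≤ H → IsPGroup p Y → ¬ Cfsg.PRankLE p k Y →
      Subgroup.normalizer (Y : Set G) ≤ H := by
    intro Y hYH hY hYk g hg
    obtain ⟨c, hc, hcY⟩ := hconj Y hYH hY
    have hg' : c * g * c⁻¹ ∈ H := by
      refine h _ hcY (not_pRankLE_conj c hYk) ?_
      rw [CfsgLib.Transfer.normalizer_map_conj]
      exact ⟨g, hg, rfl⟩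
    simpa [mul_assoc] using mul_mem (mul_mem (inv_mem hc) hg') hc
  have hup : ∀ Q : Subgroup G, IsPGroup p Q → ¬ Cfsg.PRankLE p k ↥(Q ⊓ H) → Q ≤ H := by
    intro Q hQ hk
    by_contra hle
    have hlt : Q ⊓ H < Q := lt_of_le_of_ne inf_le_left fun e => hle (inf_eq_left.1 e)
    have h1 := CfsgLib.Transfer.lt_inf_normalizer hQ hlt
    exact absurd (h1.trans_le (inf_le_inf_left Q (hnorm _ inf_le_right (hQ.to_le inf_le_left) hk)))
      (lt_irrefl _)
  obtain ⟨R, hR⟩ := hX.exists_le_sylow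
  have hRH : (R : Subgroup G) ≤ H := hup _ R.2 (not_pRankLE_le (le_inf hR hXH) hXk)
  have hxRH : (R : Subgroup G).map (MulAut.conj x).toMonoidHom ≤ H :=
    hup _ (R.2.map _) (not_pRankLE_le (le_inf (Subgroup.map_mono hR) hxX) (not_pRankLE_conj x hXk))
  -- both are conjugate in `H` to the image of `P`
  have hfull : ∀ Y : Subgroup G, Y ≤ H → IsPGroup p Y → Nat.card Y = Nat.card (R : Subgroup G) →
      ∃ c ∈ H, Y.map (MulAut.conj c).toMonoidHom = (P : Subgroup H).map H.subtype := by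
    intro Y hYH hY hcard
    obtain ⟨c, hc, hle⟩ := hconj Y hYH hY
    refine ⟨c, hc, Subgroup.eq_of_le_of_card_ge hle ?_⟩
    obtain ⟨Q, hQ⟩ := ((P.2.map H.subtype).exists_le_sylow :
      ∃ Q : Sylow p G, (P : Subgroup H).map H.subtype ≤ Q)
    obtain ⟨g, hg⟩ := MulAction.exists_smul_eq G R Q
    rw [CfsgLib.Transfer.card_map_conj, hcard]
    refine (Subgroup.card_le_of_le hQ).trans (le_of_eq ?_)
    rw [← hg, Sylow.coe_subgroup_smul]
    exact CfsgLib.Transfer.card_map_conj g _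
  obtain ⟨a, ha, haR⟩ := hfull _ hRH R.2 rfl
  obtain ⟨b, hb, hbR⟩ := hfull _ hxRH (R.2.map _) (CfsgLib.Transfer.card_map_conj x _)
  have hn : a⁻¹ * (b * x) ∈ Subgroup.normalizer ((R : Subgroup G) : Set G) := by
    rw [← map_conj_eq_iff_mem_normalizer, map_conj_mul, map_conj_mul, hbR, ← haR, ← map_conj_mul,
      inv_mul_cancel, map_conj_one]
  have hRk := not_pRankLE_le (X := X) hR hXk
  have h2 := hnorm _ hRH R.2 hRk hn
  simpa [mul_assoc] using mul_mem (inv_mem hb) (mul_mem ha h2)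

/-- Let H be a subgroup of the finite group G, p a prime, k ≥ 1, and P a Sylow p-subgroup of H whose p-rank is at least k. Then N_G(X) ≤ H for every subgroup X of P of p-rank at least k if and only if H ∩ gHg⁻¹ has p-rank less than k for every g ∉ H. -/
theorem result {G : Type*} [Group G] [Finite G] {p : ℕ} [Fact p.Prime] (k : ℕ) (hk : 1 ≤ k) (H : Subgroup G) (P : Sylow p ↥H) (hP : ¬ Cfsg.PRankLE p (k - 1) ↥(P : Subgroup ↥H)) : (∀ X : Subgroup G, X ≤ (P : Subgroup ↥H).map H.subtype → ¬ Cfsg.PRankLE p (k - 1) ↥X → Subgroup.normalizer (X : Set G) ≤ H) ↔ (∀ g : G, g ∉ H → Cfsg.PRankLE p (k - 1) ↥(H ⊓ H.map (MulAut.conj g).toMonoidHom)) := by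
  constructor
  · intro h g hg
    by_contra hk'
    simp only [Cfsg.PRankLE, not_forall] at hk'
    obtain ⟨A, hAc, hAp, hAk⟩ := hk'
    set X := A.map (H ⊓ H.map (MulAut.conj g).toMonoidHom).subtype with hX
    have hXle : X ≤ H ⊓ H.map (MulAut.conj g).toMonoidHom := Subgroup.map_subtype_le A
    have hXp : IsPGroup p X := fun x => by
      obtain ⟨a, ha, hax⟩ := x.2
      refine ⟨1, Subtype.ext ?_⟩
      rw [pow_one, SubmonoidClass.coe_pow, ← hax, ← map_pow, hAp a ha, map_one]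
      rfl
    have hXk : ¬ Cfsg.PRankLE p (k - 1) X :=
      not_pRankLE_mono (A := A) (B := X) (A.equivMapOfInjective _ (Subgroup.subtype_injective _)).toMonoidHom
        (A.equivMapOfInjective _ (Subgroup.subtype_injective _)).injective
        fun hh => hAk (by
          haveI := hAc
          have h1 := hh ⊤ ⟨⟨fun a b => mul_comm' a b⟩⟩ fun a _ =>
            Subtype.ext (by rw [SubmonoidClass.coe_pow]; exact hAp _ a.2)
          rwa [Subgroup.card_top] at h1)
    refine hg (inv_mem_iff.1 (mem_of_conj_le P hP h hXp hXk (hXle.trans inf_le_left) ?_))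
    rintro _ ⟨x, hx, rfl⟩
    have := (Subgroup.mem_inf.1 (hXle hx)).2
    rw [CfsgLib.TwoGroups.mem_map_conj] at this
    simpa using this
  · intro h X hX hXk g hg
    by_contra hgH
    refine not_pRankLE_le (le_inf (hX.trans (Subgroup.map_subtype_le _)) ?_) hXk (h g hgH)
    intro x hx
    rw [CfsgLib.TwoGroups.mem_map_conj]
    exact Subgroup.map_subtype_le _ (hX ((Subgroup.mem_normalizer_iff''.1 hg x).1 hx))

end Cfsg.Agent.S1231
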