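import Cfsg.Statements.S1236
import Cfsg.Agent.Lib.TwoGroups.SemiDihedral
import Cfsg.Agent.Lib.TwoGroups.Closed

set_option autoImplicit false
open Cfsg

namespace Cfsg.Agent.S1236

open CfsgLib.TwoGroups

/-- The elements killed by doubling in `ZMod m` are at most two. -/
theorem card_two_mul_eq_zero_le {m : ℕ} [NeZero m] :
    Nat.card {t : ZMod m // 2 * t = 0} ≤ 2 := by
  let f : {t : ZMod m // 2 * t = 0} → Bool := fun t => decide (t.1 = 0)
  have hf : Function.Injective f := by
    intro a b hab
    simp only [f, decide_eq_decide] at hab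
    apply Subtype.ext
    apply ZMod.val_injective m
    have key : ∀ t : ZMod m, 2 * t = 0 → t ≠ 0 → 2 * t.val = m := by
      intro t ht ht0
      have hd : m ∣ 2 * t.val := (ZMod.natCast_eq_zero_iff _ _).1 (by simpa using ht)
      have h0 : t.val ≠ 0 := fun h => ht0 ((ZMod.val_eq_zero t).1 h)
      have := ZMod.val_lt t
      obtain ⟨k, hk⟩ := hd
      rcases k with _ | _ | k
      · omega
      · omega
      · have : m * 2 ≤ m * (k + 1 + 1) := Nat.mul_le_mul_left m (by omega)
        omega
    by_cases ha : a.1 = 0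
    · rw [ha, hab.1 ha]
    · have := key _ a.2 ha
      have := key _ b.2 (fun hb => ha (hab.2 hb))
      omega
  simpa using Nat.card_le_card_of_injective f hf

/-- In a dihedral group every four-subgroup has an element whose centralizer has order at most 4. -/
theorem dihedral_small_centralizer {m : ℕ} [NeZero m] (U : Subgroup (DihedralGroup m))
    (hU : ∀ u ∈ U, u * u = 1) (hcard : Nat.card U = 4) :
    ∃ u ∈ U, Nat.card (Subgroup.centralizer ({u} : Set (DihedralGroup m))) ≤ 4 := by
  have h2 := card_two_mul_eq_zero_le (m := m)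
  obtain ⟨i, hi⟩ : ∃ i, DihedralGroup.sr i ∈ U := by
    by_contra hno
    push Not at hno
    let f : U → {t : ZMod m // 2 * t = 0} := fun u =>
      match hu : u.1 with
      | .r t => ⟨t, by
          have h := hU _ u.2
          rw [hu, DihedralGroup.r_mul_r, DihedralGroup.one_def, DihedralGroup.r.injEq] at h
          rwa [two_mul]⟩
      | .sr t => absurd (hu ▸ u.2) (hno t)
    have hf : Function.Injective f := by
      rintro ⟨a, ha⟩ ⟨b, hb⟩ hab
      cases a <;> cases b <;> first
        | exact absurd ha (hno _)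
        | exact absurd hb (hno _)
        | exact Subtype.ext (congrArg DihedralGroup.r (congrArg Subtype.val hab :))
    have := Nat.card_le_card_of_injective f hf
    omega
  refine ⟨_, hi, ?_⟩
  let f : Subgroup.centralizer ({DihedralGroup.sr i} : Set (DihedralGroup m)) →
      {t : ZMod m // 2 * t = 0} × Bool := fun u =>
    match hu : u.1 with
    | .r t => (⟨t, by
        have h := Subgroup.mem_centralizer_singleton_iff.1 u.2
        rw [hu, DihedralGroup.r_mul_sr, DihedralGroup.sr_mul_r, DihedralGroup.sr.injEq] at h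
        linear_combination -h⟩, false)
    | .sr t => (⟨t - i, by
        have h := Subgroup.mem_centralizer_singleton_iff.1 u.2
        rw [hu, DihedralGroup.sr_mul_sr, DihedralGroup.sr_mul_sr, DihedralGroup.r.injEq] at h
        linear_combination -h⟩, true)
  have hf : Function.Injective f := by
    rintro ⟨a, ha⟩ ⟨b, hb⟩ hab
    cases a <;> cases b <;> simp_all [f]
  have := Nat.card_le_card_of_injective f hf
  rw [Nat.card_prod, Nat.card_eq_fintype_card (α := Bool), Fintype.card_bool] at this
  omega

/-- In a quasi-dihedral group every four-subgroup has an element whose centralizer has order at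
most 4. -/
theorem semiDihedral_small_centralizer {m : ℕ} (U : Subgroup (SemiDihedral m))
    (hU : ∀ u ∈ U, u * u = 1) (hcard : Nat.card U = 4) :
    ∃ u ∈ U, Nat.card (Subgroup.centralizer ({u} : Set (SemiDihedral m))) ≤ 4 := by
  have h2 := card_two_mul_eq_zero_le (m := 2 ^ (m + 3))
  have key : ∀ b : ZMod (2 ^ (m + 3)), SemiDihedral.h m * b = 2 * b → 2 * b = 0 := by
    intro b hb
    have h4 : 4 * b = 0 := by
      linear_combination (-2) * hb + b * (SemiDihedral.two_mul_h (m := m))
    have hh : SemiDihedral.h m = 4 * 2 ^ m := by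
      show half (m + 3) = _
      rw [half, show m + 3 - 1 = m + 2 by omega]
      push_cast
      ring
    rw [← hb, hh]
    linear_combination (2 : ZMod (2 ^ (m + 3))) ^ m * h4
  obtain ⟨a, ha⟩ : ∃ a, SemiDihedral.ref a ∈ U := by
    by_contra hno
    push Not at hno
    have hfalse : ∀ u ∈ U, u.e = false := fun u hu => by
      cases u using SemiDihedral.cases' with
      | hr b => rfl
      | hs a => exact absurd hu (hno a)
    let f : U → {t : ZMod (2 ^ (m + 3)) // 2 * t = 0} := fun u => ⟨u.1.a, by
      have h := congrArg SemiDihedral.a (hU _ u.2)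
      simpa [SemiDihedral.mul_def, SemiDihedral.tw, hfalse _ u.2, SemiDihedral.one_def,
        two_mul] using h⟩
    have hf : Function.Injective f := fun x y hxy => Subtype.ext (SemiDihedral.ext
      (congrArg Subtype.val hxy :) (by rw [hfalse _ x.2, hfalse _ y.2]))
    have := Nat.card_le_card_of_injective f hf
    omega
  refine ⟨_, ha, ?_⟩
  let f : Subgroup.centralizer ({SemiDihedral.ref a} : Set (SemiDihedral m)) →
      {t : ZMod (2 ^ (m + 3)) // 2 * t = 0} × Bool := fun u =>
    match hu : u.1 with
    | ⟨b, false⟩ => (⟨b, key b (by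
        have h := congrArg SemiDihedral.a (Subgroup.mem_centralizer_singleton_iff.1 u.2)
        rw [hu] at h
        simp [SemiDihedral.mul_def, SemiDihedral.tw] at h
        linear_combination -h)⟩, false)
    | ⟨b, true⟩ => (⟨b - a, key _ (by
        have h := congrArg SemiDihedral.a (Subgroup.mem_centralizer_singleton_iff.1 u.2)
        rw [hu] at h
        simp [SemiDihedral.mul_def, SemiDihedral.tw] at h
        linear_combination -h)⟩, true)
  have hf : Function.Injective f := by
    rintro ⟨⟨x, e⟩, hx⟩ ⟨⟨y, g⟩, hy⟩ hxy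
    cases e <;> cases g <;> simp_all [f]
  have := Nat.card_le_card_of_injective f hf
  rw [Nat.card_prod, Nat.card_eq_fintype_card (α := Bool), Fintype.card_bool] at this
  omega

/-- Let R be a finite group, t a central involution of R such that R ⧸ ⟨t⟩ is dihedral (of order ≥ 4) or quasi-dihedral, and A ≤ R an elementary abelian subgroup of order 8 containing t. Then C_R(A) = A. -/
theorem result {R : Type*} [Group R] [Finite R] (t : R) (ht : orderOf t = 2) (htz : t ∈ Subgroup.center R) [(Subgroup.zpowers t).Normal] (hq : (∃ m : ℕ, 2 ≤ m ∧ Nonempty (R ⧸ Subgroup.zpowers t ≃* DihedralGroup m)) ∨ Cfsg.IsQuasiDihedral (R ⧸ Subgroup.zpowers t)) (A : Subgroup R) (hA : Cfsg.IsElementaryAbelian 2 A) (hA8 : Nat.card A = 8) (htA : t ∈ A) : Subgroup.centralizer (A : Set R) = A := by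
  open CfsgLib.TwoGroups in
  obtain ⟨hAc, hA2⟩ := hA
  haveI := hAc
  have htcard : Nat.card (Subgroup.zpowers t) = 2 := by rw [Nat.card_zpowers, ht]
  set π := QuotientGroup.mk' (Subgroup.zpowers t) with hπdef
  set U := A.map π with hUdef
  have hker : π.ker ≤ A := by
    rw [hπdef, QuotientGroup.ker_mk']
    exact Subgroup.zpowers_le.2 htA
  have hU2 : ∀ u ∈ U, u * u = 1 := by
    rintro _ ⟨a, ha, rfl⟩
    rw [← map_mul, ← pow_two, hA2 a ha, map_one]
  have hUcard : Nat.card U = 4 := by
    have h := Subgroup.card_mul_index (π.ker.subgroupOf A)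
    rw [show (π.ker.subgroupOf A).index = Nat.card U from by
      rw [← Subgroup.relIndex, Subgroup.relIndex_ker],
      Nat.card_congr (Subgroup.subgroupOfEquivOfLe hker).toEquiv, hA8,
      show Nat.card π.ker = 2 by rw [hπdef, QuotientGroup.ker_mk', htcard]] at h
    omega
  have hsmall : ∃ u ∈ U, Nat.card (Subgroup.centralizer ({u} : Set (R ⧸ Subgroup.zpowers t))) ≤ 4 := by
    rcases hq with ⟨m, hm, ⟨e⟩⟩ | hqd
    · haveI : NeZero m := ⟨by omega⟩
      obtain ⟨u, hu, hcu⟩ := dihedral_small_centralizer (U.map e.toMonoidHom)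
        (by rintro _ ⟨u, hu, rfl⟩; rw [← map_mul, hU2 u hu, map_one])
        (by rw [Subgroup.card_map_of_injective e.injective, hUcard])
      obtain ⟨u, hu', rfl⟩ := hu
      refine ⟨u, hu', le_trans ?_ hcu⟩
      refine Nat.card_le_card_of_injective
        (fun c => (⟨e c.1, Subgroup.mem_centralizer_singleton_iff.2 (by
          have := congrArg e (Subgroup.mem_centralizer_singleton_iff.1 c.2)
          simpa using this)⟩ : Subgroup.centralizer ({e.toMonoidHom u} : Set _))) ?_
      exact fun a b hab => Subtype.ext (e.injective (congrArg Subtype.val hab :))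
    · obtain ⟨m, -, ⟨e⟩⟩ := SemiDihedral.of_isQuasiDihedral hqd
      obtain ⟨u, hu, hcu⟩ := semiDihedral_small_centralizer (U.map e.toMonoidHom)
        (by rintro _ ⟨u, hu, rfl⟩; rw [← map_mul, hU2 u hu, map_one])
        (by rw [Subgroup.card_map_of_injective e.injective, hUcard])
      obtain ⟨u, hu', rfl⟩ := hu
      haveI : Finite (SemiDihedral m) := Finite.of_equiv _ e.toEquiv
      refine ⟨u, hu', le_trans ?_ hcu⟩
      refine Nat.card_le_card_of_injective
        (fun c => (⟨e c.1, Subgroup.mem_centralizer_singleton_iff.2 (by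
          have := congrArg e (Subgroup.mem_centralizer_singleton_iff.1 c.2)
          simpa using this)⟩ : Subgroup.centralizer ({e.toMonoidHom u} : Set _))) ?_
      exact fun a b hab => Subtype.ext (e.injective (congrArg Subtype.val hab :))
  obtain ⟨u, hu, hcu⟩ := hsmall
  have hUC : U ≤ Subgroup.centralizer ({u} : Set (R ⧸ Subgroup.zpowers t)) := by
    intro v hv
    obtain ⟨a, ha, rfl⟩ := hv
    obtain ⟨b, hb, rfl⟩ := hu
    rw [Subgroup.mem_centralizer_singleton_iff, ← map_mul, ← map_mul,
      show a * b = b * a from congrArg Subtype.val (mul_comm' (⟨a, ha⟩ : A) ⟨b, hb⟩)]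
  have heq : U = Subgroup.centralizer ({u} : Set (R ⧸ Subgroup.zpowers t)) :=
    Subgroup.eq_of_le_of_card_ge hUC (hUcard ▸ hcu)
  refine le_antisymm ?_ ?_
  · intro c hc
    obtain ⟨a, ha, rfl⟩ := hu
    have h1 : π c ∈ U := by
      rw [heq, Subgroup.mem_centralizer_singleton_iff, ← map_mul, ← map_mul,
        (Subgroup.mem_centralizer_iff.1 hc a ha)]
    obtain ⟨b, hb, hbc⟩ := h1
    have h2 : b⁻¹ * c ∈ π.ker := by rw [MonoidHom.mem_ker, map_mul, map_inv, hbc, inv_mul_cancel]
    simpa using mul_mem hb (hker h2)
  · intro a ha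
    exact Subgroup.mem_centralizer_iff.2 fun b hb =>
      congrArg Subtype.val (mul_comm' (⟨b, hb⟩ : A) ⟨a, ha⟩)

end Cfsg.Agent.S1236
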