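import Cfsg.Statements.S1241
import Cfsg.Agent.Lib.TwoGroups.TransferControlled

set_option autoImplicit false
open Cfsg

namespace Cfsg.Agent.S1241

/-- Let G be a finite group, p a prime, H a subgroup of index prime to p, K a subgroup of H normal in H with H/K commutative, and g ∈ H ∖ K an element of p-power order such that for all integers m and all a ∈ G with a g^m a⁻¹ ∈ H one has a g^m a⁻¹ ∈ g^m K. Then g ∉ G'. -/
theorem result {G : Type*} [Group G] [Finite G] {p : ℕ} [Fact p.Prime] (H K : Subgroup G) (hHK : K ≤ H) (hKn : (K.subgroupOf H).Normal) (hab : ∀ x ∈ H, ∀ y ∈ H, x * y * x⁻¹ * y⁻¹ ∈ K) (hidx : Nat.Coprime p H.index) (g : G) (hgH : g ∈ H) (hgK : g ∉ K) (hgp : ∃ k : ℕ, orderOf g = p ^ k) (hctrl : ∀ (m : ℤ) (a : G), a * g ^ m * a⁻¹ ∈ H → (a * g ^ m * a⁻¹) * (g ^ m)⁻¹ ∈ K) : g ∉ commutator G := by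
  intro hgc
  haveI := hKn
  letI : CommGroup (H ⧸ K.subgroupOf H) :=
    { (inferInstance : Group (H ⧸ K.subgroupOf H)) with
      mul_comm := by
        rintro ⟨a⟩ ⟨b⟩
        show ((a * b : H) : H ⧸ K.subgroupOf H) = ((b * a : H) : H ⧸ K.subgroupOf H)
        rw [QuotientGroup.eq, Subgroup.mem_subgroupOf]
        have := hab _ (inv_mem b.2) _ (inv_mem a.2)
        simpa [mul_assoc] using this }
  let ϕ : H →* H ⧸ K.subgroupOf H := QuotientGroup.mk' _
  have hV := CfsgLib.TwoGroups.transfer_eq_pow_of_controlled ϕ hgH (fun m a h => by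
    rw [← map_pow]
    show ((⟨a * g ^ m * a⁻¹, h⟩ : H) : H ⧸ K.subgroupOf H) = ((⟨g, hgH⟩ ^ m : H) : H ⧸ K.subgroupOf H)
    rw [QuotientGroup.eq, Subgroup.mem_subgroupOf]
    have h2 := hctrl (m : ℤ) a (by rwa [zpow_natCast])
    rw [zpow_natCast] at h2
    have h3 := inv_mem h2
    have h4 := hKn.conj_mem ⟨_, hHK h3⟩ (Subgroup.mem_subgroupOf.2 h3) ((⟨g, hgH⟩ : H) ^ m)⁻¹
    rw [Subgroup.mem_subgroupOf] at h4
    simpa [mul_assoc] using h4)
  have h1 : MonoidHom.transfer ϕ g = 1 := Abelianization.commutator_subset_ker _ hgc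
  rw [h1] at hV
  obtain ⟨k, hk⟩ := hgp
  have hϕ : ϕ ⟨g, hgH⟩ = 1 := CfsgLib.TwoGroups.eq_one_of_pow_coprime hidx ⟨k, by
    rw [← map_pow, show (⟨g, hgH⟩ : H) ^ p ^ k = 1 from Subtype.ext (by
      show g ^ p ^ k = 1
      rw [← hk, pow_orderOf_eq_one]), map_one]⟩ hV.symm
  exact hgK (Subgroup.mem_subgroupOf.1 ((QuotientGroup.eq_one_iff _).1 hϕ))

end Cfsg.Agent.S1241
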