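import Cfsg.Statements.S1242
import Cfsg.Agent.Lib.TwoGroups.TransferControlled
import Cfsg.Agent.Lib.Transfer.PResidual

set_option autoImplicit false
open Cfsg

namespace Cfsg.Agent.S1242

/-- Let G be a finite group, p a prime and H a subgroup of index prime to p such that any two elements of H of p-power order that are conjugate in G are conjugate in H. Then (O^p(G)·G') ∩ H = O^p(H)·H', where O^p denotes the subgroup generated by the elements of order prime to p. -/
theorem result {G : Type*} [Group G] [Finite G] {p : ℕ} [Fact p.Prime] (H : Subgroup G) (hidx : Nat.Coprime p H.index) (hfus : ∀ g ∈ H, (∃ k : ℕ, orderOf g = p ^ k) → ∀ a : G, a * g * a⁻¹ ∈ H → ∃ h ∈ H, h * g * h⁻¹ = a * g * a⁻¹) : (Cfsg.pResidual p G ⊔ commutator G) ⊓ H = (Cfsg.pResidual p ↥H ⊔ commutator ↥H).map H.subtype := by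
  refine le_antisymm ?_ (le_inf ?_ (Subgroup.map_subtype_le _))
  swap
  · rw [Subgroup.map_sup]
    refine sup_le_sup (CfsgLib.Transfer.map_subtype_pResidual_le H) ?_
    rw [_root_.commutator_def, Subgroup.map_commutator]
    exact Subgroup.commutator_mono le_top le_top
  rintro y ⟨hy, hyH⟩
  set R : Subgroup H := Cfsg.pResidual p H ⊔ commutator H with hR
  letI : CommGroup (H ⧸ R) :=
    { (inferInstance : Group (H ⧸ R)) with
      mul_comm := fun a b => by
        haveI := (Subgroup.Normal.quotient_commutative_iff_commutator_le (N := R)).2 le_sup_right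
        exact mul_comm' a b }
  let ϕ : H →* H ⧸ R := QuotientGroup.mk' R
  have hA : IsPGroup p (H ⧸ R) :=
    (CfsgLib.Transfer.isPGroup_quotient_pResidual (G := H) (p := p)).of_surjective
      (QuotientGroup.map (Cfsg.pResidual p H) R (MonoidHom.id H) le_sup_left)
      (fun q => by obtain ⟨x, rfl⟩ := QuotientGroup.mk_surjective q; exact ⟨x, rfl⟩)
  obtain ⟨k, m, hm, hkm⟩ :=
    Nat.exists_eq_pow_mul_and_not_dvd (orderOf_pos y).ne' p (Fact.out : p.Prime).ne_one
  -- the `p`-element `x = y ^ m`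
  have hxH : y ^ m ∈ H := pow_mem hyH m
  have hV : MonoidHom.transfer ϕ (y ^ m) = ϕ ⟨y ^ m, hxH⟩ ^ H.index := by
    refine CfsgLib.TwoGroups.transfer_eq_pow_of_controlled ϕ hxH fun j a h => ?_
    have hxp : ∃ i : ℕ, orderOf ((y ^ m) ^ j) = p ^ i := by
      have : ((y ^ m) ^ j) ^ p ^ k = 1 := by
        rw [← pow_mul, ← pow_mul, show m * (j * p ^ k) = p ^ k * m * j by ring, ← hkm, pow_mul,
          pow_orderOf_eq_one, one_pow]
      obtain ⟨i, -, hi⟩ := (Nat.dvd_prime_pow Fact.out).1 (orderOf_dvd_of_pow_eq_one this)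
      exact ⟨i, hi⟩
    obtain ⟨c, hc, hce⟩ := hfus _ (pow_mem hxH j) hxp a h
    have e : (⟨a * (y ^ m) ^ j * a⁻¹, h⟩ : H) =
        ⟨c, hc⟩ * ⟨y ^ m, hxH⟩ ^ j * (⟨c, hc⟩ : H)⁻¹ := Subtype.ext (by simpa using hce.symm)
    rw [e, map_mul, map_mul, map_pow, map_inv, mul_comm (ϕ ⟨c, hc⟩), mul_inv_cancel_right]
  have hker : Cfsg.pResidual p G ⊔ commutator G ≤ (MonoidHom.transfer ϕ).ker :=
    sup_le (CfsgLib.Transfer.pResidual_le_ker hA _) (Abelianization.commutator_subset_ker _)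
  rw [MonoidHom.mem_ker.1 (pow_mem (hker hy) m)] at hV
  have hϕ : ϕ ⟨y, hyH⟩ = 1 := by
    refine CfsgLib.TwoGroups.eq_one_of_pow_coprime
      (((Nat.Prime.coprime_iff_not_dvd Fact.out).2 hm).mul_right hidx) (hA _) ?_
    rw [pow_mul, ← map_pow]
    exact hV.symm
  exact ⟨⟨y, hyH⟩, (QuotientGroup.eq_one_iff _).1 hϕ, rfl⟩

end Cfsg.Agent.S1242
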