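import Cfsg.Statements.S1243
import Cfsg.Agent.Lib.TwoGroups.Closed

set_option autoImplicit false
open Cfsg

namespace Cfsg.Agent.S1243

/-- Let T be a Sylow p-subgroup of the finite group G and W ≤ T a subgroup weakly closed in T. If d and g d g⁻¹ both centralize W, then g d g⁻¹ = h d h⁻¹ for some h ∈ N_G(W). -/
theorem result {G : Type*} [Group G] [Finite G] {p : ℕ} [Fact p.Prime] (T : Sylow p G) (W : Subgroup G) (hW : Cfsg.IsWeaklyClosed W (T : Subgroup G)) (d g : G) (hd : d ∈ Subgroup.centralizer (W : Set G)) (hgd : g * d * g⁻¹ ∈ Subgroup.centralizer (W : Set G)) : ∃ h ∈ Subgroup.normalizer (W : Set G), h * d * h⁻¹ = g * d * g⁻¹ := by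
  open CfsgLib.TwoGroups in
  set y := g * d * g⁻¹ with hy
  let M := Subgroup.centralizer ({y} : Set G)
  have hmemM : ∀ v : G, v ∈ M ↔ y * v = v * y := by
    intro v; rw [Subgroup.mem_centralizer_iff]; simp
  have hWM : W ≤ M := fun w hw => (hmemM w).2 (Subgroup.mem_centralizer_iff.1 hgd w hw).symm
  have hWgM : W.map (MulAut.conj g).toMonoidHom ≤ M := by
    intro v hv
    rw [CfsgLib.TwoGroups.mem_map_conj] at hv
    refine (hmemM v).2 ?_
    have := Subgroup.mem_centralizer_iff.1 hd _ hv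
    calc y * v = g * (d * (g⁻¹ * v * g)) * g⁻¹ := by rw [hy]; group
      _ = g * (g⁻¹ * v * g * d) * g⁻¹ := by rw [this]
      _ = v * y := by rw [hy]; group
  have hWp : IsPGroup p W := T.isPGroup'.to_le hW.1
  have hWsub : IsPGroup p (W.subgroupOf M) :=
    hWp.comap_of_injective M.subtype M.subtype_injective
  have hWgsub : IsPGroup p ((W.map (MulAut.conj g).toMonoidHom).subgroupOf M) :=
    (hWp.map _).comap_of_injective M.subtype M.subtype_injective
  obtain ⟨R, hR⟩ := hWsub.exists_le_sylow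
  obtain ⟨m, hm⟩ := CfsgLib.TwoGroups.exists_conj_le_sylow R hWgsub
  have hP : IsPGroup p ((R : Subgroup M).map M.subtype) := R.isPGroup'.map _
  have h1 : W ≤ (R : Subgroup M).map M.subtype := fun w hw => ⟨⟨w, hWM hw⟩, hR hw, rfl⟩
  have h2 : W.map (MulAut.conj ((m : G) * g)).toMonoidHom ≤ (R : Subgroup M).map M.subtype := by
    rw [CfsgLib.TwoGroups.map_conj_mul]
    rintro _ ⟨v, hv, rfl⟩
    exact ⟨m * ⟨v, hWgM hv⟩ * m⁻¹,
      hm (CfsgLib.TwoGroups.conj_mem_map_conj (g := m) (x := ⟨v, hWgM hv⟩) hv), by simp⟩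
  refine ⟨(m : G) * g, CfsgLib.TwoGroups.map_conj_eq_iff_mem_normalizer.1
    (CfsgLib.TwoGroups.weaklyClosed_eq_of_le hW hP h1 h2), ?_⟩
  have hmy := (hmemM (m : G)).1 m.2
  calc (m : G) * g * d * ((m : G) * g)⁻¹ = (m : G) * y * (m : G)⁻¹ := by rw [hy]; group
    _ = y := by rw [← hmy]; group

end Cfsg.Agent.S1243
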