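import Cfsg.Statements.S1244
import Cfsg.Agent.Lib.TwoGroups.TransferControlled
import Cfsg.Agent.Lib.Transfer.Fusion

set_option autoImplicit false
open Cfsg

namespace Cfsg.Agent.S1244

/-- Let G be a finite group with no subgroup of index 2 whose Sylow 2-subgroup S is commutative, and let R ≤ S be a subgroup whose 2-rank is exactly one less than the 2-rank r of S. Then every involution of S is conjugate, by an element of N_G(S), to an element of R. -/
theorem result {G : Type*} [Group G] [Finite G] (hG : ∀ H : Subgroup G, H.index ≠ 2) (S : Sylow 2 G) (hS : IsMulCommutative (S : Subgroup G)) (r : ℕ) (hr1 : 1 ≤ r) (hSr : Cfsg.PRankLE 2 r (S : Subgroup G) ∧ ¬ Cfsg.PRankLE 2 (r - 1) (S : Subgroup G)) (R : Subgroup G) (hRS : R ≤ S) (hRr : Cfsg.PRankLE 2 (r - 1) R ∧ (r = 1 ∨ ¬ Cfsg.PRankLE 2 (r - 2) R)) (t : G) (ht : orderOf t = 2) (htS : t ∈ S) : ∃ n ∈ Subgroup.normalizer ((S : Subgroup G) : Set G), n * t * n⁻¹ ∈ R := by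
  classical
  haveI : Fact (Nat.Prime 2) := ⟨Nat.prime_two⟩
  haveI := hS
  letI : CommGroup (S : Subgroup G) :=
    { (inferInstance : Group (S : Subgroup G)) with mul_comm := fun a b => mul_comm' a b }
  set N := Subgroup.normalizer ((S : Subgroup G) : Set G) with hN
  set V : Subgroup (S : Subgroup G) := (powMonoidHom 2 : (S : Subgroup G) →* (S : Subgroup G)).ker
    with hV
  have hVmem : ∀ x : (S : Subgroup G), x ∈ V ↔ x ^ 2 = 1 := fun x => Iff.rfl
  have hV2 : ∀ a ∈ V, a ^ 2 = 1 := fun a ha => (hVmem a).1 ha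
  have hVcard : Nat.card V = 2 ^ r := by
    obtain ⟨k, hk⟩ := IsPGroup.iff_card.1 (S.2.to_subgroup V)
    have h1 : Nat.card V ≤ 2 ^ r := hSr.1 V ⟨⟨fun a b => mul_comm a b⟩⟩ hV2
    have h2 : ¬ Nat.card V ≤ 2 ^ (r - 1) := fun hle => hSr.2 fun A _ hA2 =>
      (Subgroup.card_le_of_le (show A ≤ V from fun a ha => (hVmem a).2 (hA2 a ha))).trans hle
    rw [hk] at h1 h2 ⊢
    rw [Nat.pow_le_pow_iff_right (by norm_num)] at h1 h2
    rw [show k = r by omega]
  set W : Subgroup (S : Subgroup G) := V ⊓ R.subgroupOf (S : Subgroup G) with hW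
  have hWcard : Nat.card W = 2 ^ (r - 1) := by
    obtain ⟨k, hk⟩ := IsPGroup.iff_card.1 (S.2.to_subgroup W)
    let f : ↥W →* ↥R :=
      { toFun := fun w => ⟨((w : (S : Subgroup G)) : G), (Subgroup.mem_inf.1 w.2).2⟩
        map_one' := rfl
        map_mul' := fun _ _ => rfl }
    have hf : Function.Injective f := fun a b e =>
      Subtype.ext (Subtype.ext (congrArg (fun q : ↥R => (q : G)) e))
    have hfr : Nat.card f.range = Nat.card W :=
      (Nat.card_congr (MonoidHom.ofInjective hf).toEquiv).symm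
    have hf2 : ∀ a ∈ f.range, a ^ 2 = 1 := by
      rintro _ ⟨w, rfl⟩
      rw [← map_pow, show w ^ 2 = 1 from Subtype.ext (hV2 _ (Subgroup.mem_inf.1 w.2).1), map_one]
    have h1 : Nat.card W ≤ 2 ^ (r - 1) := hfr ▸ hRr.1 f.range ⟨⟨fun a b => Subtype.ext (Subtype.ext
      (show ((a : R) : G) * ((b : R) : G) = ((b : R) : G) * ((a : R) : G) from
        congrArg Subtype.val (mul_comm' (⟨_, hRS a.1.2⟩ : (S : Subgroup G)) ⟨_, hRS b.1.2⟩)))⟩⟩ hf2
    rcases hRr.2 with rfl | hR2
    · simp only [Nat.sub_self, pow_zero] at h1 ⊢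
      exact le_antisymm h1 Nat.card_pos
    · have h2 : ¬ Nat.card W ≤ 2 ^ (r - 2) := fun hle => hR2 fun A _ hA2 => by
        refine le_trans ?_ hle
        rw [← hfr]
        refine Subgroup.card_le_of_le fun a ha => ?_
        refine ⟨⟨⟨a, hRS a.2⟩, Subgroup.mem_inf.2 ⟨(hVmem _).2 (Subtype.ext ?_), ?_⟩⟩, rfl⟩
        · show (a : G) ^ 2 = 1
          rw [← SubmonoidClass.coe_pow, hA2 a ha, OneMemClass.coe_one]
        · exact a.2
      rw [hk] at h1 h2 ⊢
      rw [Nat.pow_le_pow_iff_right (by norm_num)] at h1 h2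
      rw [show k = r - 1 by omega]
  have hWV : W ≤ V := inf_le_left
  have hidx : (W.subgroupOf V).index = 2 := by
    have h := (W.subgroupOf V).card_mul_index
    rw [Nat.card_congr (Subgroup.subgroupOfEquivOfLe hWV).toEquiv, hWcard, hVcard] at h
    apply Nat.eq_of_mul_eq_mul_left (Nat.pow_pos (n := r - 1) (show 0 < 2 by norm_num))
    rw [h, ← pow_succ, Nat.sub_add_cancel hr1]
  by_contra hno
  push Not at hno
  -- the orbit of `t` under the normaliser
  let O : Finset (S : Subgroup G) :=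
    (Set.Finite.toFinset (Set.toFinite {x : (S : Subgroup G) | ∃ n ∈ N, n * t * n⁻¹ = (x : G)}))
  have hOmem : ∀ x : (S : Subgroup G), x ∈ O ↔ ∃ n ∈ N, n * t * n⁻¹ = (x : G) := fun x => by
    simp [O]
  have hOV : ∀ x ∈ O, x ∈ V ∧ x ∉ W := by
    intro x hx
    obtain ⟨n, hn, hnx⟩ := (hOmem x).1 hx
    refine ⟨(hVmem x).2 (Subtype.ext ?_), fun hxW => hno n hn (hnx ▸ (Subgroup.mem_inf.1 hxW).2)⟩
    have ht2 := pow_orderOf_eq_one t
    rw [ht] at ht2
    rw [SubmonoidClass.coe_pow, ← hnx, conj_pow, ht2]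
    simp
  have hodd : Odd O.card := by
    let stab : Subgroup N := (Subgroup.centralizer ({t} : Set G)).subgroupOf N
    have e : (N ⧸ stab) ≃ O :=
      Equiv.ofBijective (Quotient.lift (fun n : N => (⟨⟨(n : G) * t * (n : G)⁻¹,
          (Subgroup.mem_normalizer_iff.1 n.2 t).1 htS⟩, (hOmem _).2 ⟨n, n.2, rfl⟩⟩ : O)) (by
        intro a b hab
        have hab' : (a⁻¹ * b : N) ∈ stab := QuotientGroup.leftRel_apply.1 hab
        rw [Subgroup.mem_subgroupOf, Subgroup.mem_centralizer_singleton_iff] at hab'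
        refine Subtype.ext (Subtype.ext ?_)
        calc (a : G) * t * (a : G)⁻¹
            = (a : G) * (t * ((a⁻¹ * b : N) : G)) * (b : G)⁻¹ := by push_cast; group
          _ = (b : G) * t * (b : G)⁻¹ := by rw [← hab']; push_cast; group))
      ⟨by
        rintro ⟨a⟩ ⟨b⟩ hab
        have hab' : (a : G) * t * (a : G)⁻¹ = (b : G) * t * (b : G)⁻¹ :=
          congrArg (fun q : O => ((q : (S : Subgroup G)) : G)) hab
        apply Quotient.sound
        refine QuotientGroup.leftRel_apply.2 ?_
        rw [Subgroup.mem_subgroupOf, Subgroup.mem_centralizer_singleton_iff]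
        push_cast
        calc (a : G)⁻¹ * b * t = (a : G)⁻¹ * ((b : G) * t * (b : G)⁻¹) * b := by group
          _ = t * ((a : G)⁻¹ * b) := by rw [← hab']; group, by
        rintro ⟨x, hx⟩
        obtain ⟨n, hn, hnx⟩ := (hOmem x).1 hx
        exact ⟨Quotient.mk'' ⟨n, hn⟩, Subtype.ext (Subtype.ext hnx)⟩⟩
    have hcard : O.card = stab.index := by
      rw [Subgroup.index, Nat.card_congr e, Nat.card_eq_fintype_card, Fintype.card_coe]
    have hle : (S : Subgroup G).subgroupOf N ≤ stab := fun x hx =>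
      Subgroup.mem_centralizer_singleton_iff.2 (congrArg Subtype.val
        (mul_comm' (⟨(x : G), hx⟩ : (S : Subgroup G)) ⟨t, htS⟩))
    rw [hcard, ← Nat.not_even_iff_odd, even_iff_two_dvd]
    intro h2
    exact S.not_dvd_index (h2.trans ((Subgroup.index_dvd_of_le hle).trans
      (Subgroup.relIndex_dvd_index_of_le Subgroup.le_normalizer)))
  -- the product of the orbit is a fixed element outside `W`
  set z : (S : Subgroup G) := ∏ x ∈ O, x with hz
  have hzV : z ∈ V := Subgroup.prod_mem _ fun x hx => (hOV x hx).1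
  have hzW : z ∉ W := by
    have key : ∀ U : Finset (S : Subgroup G), (∀ x ∈ U, x ∈ V ∧ x ∉ W) →
        ((∏ x ∈ U, x) ∈ W ↔ Even U.card) := by
      intro U
      induction U using Finset.induction with
      | empty => intro _; simp [one_mem]
      | @insert a U ha ih =>
        intro hU
        rw [Finset.prod_insert ha, Finset.card_insert_of_notMem ha, Nat.even_add_one]
        have hU' : ∀ x ∈ U, x ∈ V ∧ x ∉ W := fun x hx => hU x (Finset.mem_insert_of_mem hx)
        have hp : (∏ x ∈ U, x) ∈ V := Subgroup.prod_mem _ fun x hx => (hU' x hx).1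
        have haW := hU a (Finset.mem_insert_self a U)
        have h2 := Subgroup.mul_mem_iff_of_index_two (a := (⟨a, haW.1⟩ : V)) (b := ⟨_, hp⟩) hidx
        simp only [Subgroup.mem_subgroupOf, Subgroup.coe_mul] at h2
        rw [h2, ← ih hU']
        exact ⟨fun h hh => haW.2 (h.2 hh), fun h => ⟨fun h' => absurd h' haW.2, fun h' => absurd h' h⟩⟩
    intro hzW
    exact (Nat.not_even_iff_odd.2 hodd) ((key O hOV).1 hzW)
  have hzfix : ∀ n ∈ N, n * (z : G) * n⁻¹ = z := by
    intro n hn
    let c : (S : Subgroup G) →* (S : Subgroup G) :=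
      { toFun := fun x => ⟨n * x * n⁻¹, (Subgroup.mem_normalizer_iff.1 hn x).1 x.2⟩
        map_one' := Subtype.ext (by simp)
        map_mul' := fun a b => Subtype.ext (by simp [mul_assoc]) }
    have hinj : Function.Injective c := fun a b hab => Subtype.ext (mul_left_cancel (mul_right_cancel
      (show n * (a : G) * n⁻¹ = n * (b : G) * n⁻¹ from congrArg Subtype.val hab)))
    have himg : O.image c = O := Finset.eq_of_subset_of_card_le (fun x hx => by
      obtain ⟨y, hy, rfl⟩ := Finset.mem_image.1 hx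
      obtain ⟨m, hm, hmy⟩ := (hOmem y).1 hy
      refine (hOmem _).2 ⟨n * m, mul_mem hn hm, ?_⟩
      show n * m * t * (n * m)⁻¹ = n * (y : G) * n⁻¹
      rw [← hmy]; group) (Finset.card_image_of_injective _ hinj).ge
    have : c z = z := by
      rw [hz, map_prod]
      conv_rhs => rw [← himg]
      rw [Finset.prod_image hinj.injOn]
    exact congrArg Subtype.val this
  -- transfer into `S`
  have hV' := CfsgLib.TwoGroups.transfer_eq_pow_of_controlled
    (MonoidHom.id (S : Subgroup G)) z.2 (fun j a h => by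
      obtain ⟨n, hn, hne⟩ := CfsgLib.Transfer.exists_normalizer_conj_of_isMulCommutative S hS
        (X := {(z : G) ^ j}) (Set.singleton_subset_iff.2 (pow_mem z.2 j)) (g := a⁻¹)
        (by rw [Set.image_singleton, Set.singleton_subset_iff, inv_inv]; exact h)
      refine Subtype.ext ?_
      have h1 := hne _ rfl
      rw [inv_inv] at h1
      show a * (z : G) ^ j * a⁻¹ = ((z ^ j : (S : Subgroup G)) : G)
      rw [SubmonoidClass.coe_pow, ← h1]
      calc n⁻¹ * (z : G) ^ j * n = (n⁻¹ * (z : G) * n) ^ j := by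
            simpa using (conj_pow (a := n⁻¹) (b := (z : G)) (i := j)).symm
        _ = (z : G) ^ j := by rw [show n⁻¹ * (z : G) * n = z by simpa using hzfix n⁻¹ (inv_mem hn)])
  have htriv : MonoidHom.transfer (MonoidHom.id (S : Subgroup G)) (z : G) = 1 := by
    set f := MonoidHom.transfer (MonoidHom.id (S : Subgroup G))
    have hp : IsPGroup 2 f.range := S.2.to_subgroup _
    obtain ⟨k, hk⟩ := IsPGroup.iff_card.1 hp
    rcases Nat.eq_zero_or_pos k with hk0 | hk0
    · rw [hk0, pow_zero, Subgroup.card_eq_one] at hk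
      exact Subgroup.mem_bot.1 (hk ▸ ⟨_, rfl⟩)
    · exfalso
      obtain ⟨M, hM⟩ := Sylow.exists_subgroup_card_pow_prime (G := f.range) (n := k - 1) 2
        (hk ▸ pow_dvd_pow 2 (by omega))
      have hMi : M.index = 2 := by
        have h := M.card_mul_index
        rw [hM, hk] at h
        apply Nat.eq_of_mul_eq_mul_left (Nat.pow_pos (n := k - 1) (show 0 < 2 by norm_num))
        rw [h, ← pow_succ, Nat.sub_add_cancel hk0]
      exact hG (M.comap f.rangeRestrict)
        ((Subgroup.index_comap_of_surjective _ f.rangeRestrict_surjective).trans hMi)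
  rw [htriv] at hV'
  exact hzW (by
    rw [show z = 1 from CfsgLib.TwoGroups.eq_one_of_pow_coprime
      ((Nat.prime_two.coprime_iff_not_dvd).2 S.not_dvd_index) (S.2 z) (by simpa using hV'.symm)]
    exact one_mem _)

end Cfsg.Agent.S1244
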