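import Cfsg.Statements.S1251
import Cfsg.Agent.Lib.ZStar.FusionCenter
import Cfsg.Agent.Lib.TwoGroups.Closed

set_option autoImplicit false
open Cfsg

namespace Cfsg.Agent.S1251

/-- Let S be a Sylow 2-subgroup of the finite group G and A ≤ S strongly closed in S. If H is a subgroup normalized by A with no nontrivial normal subgroup of odd order and A ∩ H = 1, then A ≤ C_G(H). -/
theorem result {G : Type*} [Group G] [Finite G] (S : Sylow 2 G) (A : Subgroup G) (hA : Cfsg.IsStronglyClosed A (S : Subgroup G)) (H : Subgroup G) (hAH : A ≤ Subgroup.normalizer (H : Set G)) (hO : Cfsg.oddCore ↥H = ⊥) (hdisj : A ⊓ H = ⊥) : A ≤ Subgroup.centralizer (H : Set G) := by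
  open CfsgLib.TwoGroups in
  haveI : Fact (Nat.Prime 2) := ⟨Nat.prime_two⟩
  intro a ha
  have hA2 : IsPGroup 2 A := S.2.to_le hA.1
  set Y := H ⊔ A with hY
  have hHY : H ≤ Y := le_sup_left
  have hAY : A ≤ Y := le_sup_right
  have hYN : Y ≤ Subgroup.normalizer (H : Set G) := sup_le Subgroup.le_normalizer hAH
  obtain ⟨R', hR'⟩ := (hA2.comap_of_injective Y.subtype Y.subtype_injective :
    IsPGroup 2 (A.subgroupOf Y)).exists_le_sylow
  set R : Subgroup G := (R' : Subgroup Y).map Y.subtype with hR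
  have hR2 : IsPGroup 2 R := R'.2.map _
  have hAR : A ≤ R := fun x hx => ⟨⟨x, hAY hx⟩, hR' (Subgroup.mem_subgroupOf.2 hx), rfl⟩
  -- `R ⊓ H` is a maximal 2-subgroup of `H`
  have hmax : ∀ D : Subgroup G, D ≤ H → IsPGroup 2 D → R ⊓ H ≤ D → D ≤ R ⊓ H := by
    intro D hDH hD hle
    obtain ⟨c, hc⟩ := exists_conj_le_sylow R'
      (hD.comap_of_injective Y.subtype Y.subtype_injective : IsPGroup 2 (D.subgroupOf Y))
    have hsub : D.map (MulAut.conj (c : G)).toMonoidHom ≤ R ⊓ H := by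
      rintro _ ⟨d, hd, rfl⟩
      refine Subgroup.mem_inf.2 ⟨⟨c * ⟨d, hHY (hDH hd)⟩ * c⁻¹,
        hc (conj_mem_map_conj (Subgroup.mem_subgroupOf.2 hd)), rfl⟩, ?_⟩
      exact (Subgroup.mem_normalizer_iff.1 (hYN c.2) d).1 (hDH hd)
    refine (Subgroup.eq_of_le_of_card_ge hle ?_).ge
    refine le_trans (le_of_eq ?_) (Subgroup.card_le_of_le hsub)
    exact (Subgroup.card_map_of_injective (MulAut.conj (c : G)).injective).symm
  set X := H ⊔ Subgroup.zpowers a with hX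
  have hHX : H ≤ X := le_sup_left
  have haX : a ∈ X := Subgroup.mem_sup_right (Subgroup.mem_zpowers a)
  have haN : Subgroup.zpowers a ≤ Subgroup.normalizer (H : Set G) :=
    Subgroup.zpowers_le.2 (hAH ha)
  have hdec : ∀ x ∈ X, ∃ h ∈ H, ∃ j : ℤ, x = h * a ^ j := by
    intro x hx
    rw [hX, ← SetLike.mem_coe, Subgroup.coe_mul_of_right_le_normalizer_left H _ haN] at hx
    obtain ⟨h, hh, z, hz, rfl⟩ := hx
    obtain ⟨j, rfl⟩ := Subgroup.mem_zpowers_iff.1 hz
    exact ⟨h, hh, j, rfl⟩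
  obtain ⟨P, hP⟩ := ((hR2.to_le inf_le_left).comap_of_injective X.subtype X.subtype_injective :
    IsPGroup 2 ((R ⊓ X).subgroupOf X)).exists_le_sylow
  have hPR : ∀ x : X, x ∈ (P : Subgroup X) → (x : G) ∈ R := by
    intro x hx
    obtain ⟨h, hh, j, hxe⟩ := hdec x x.2
    have haj : (⟨a ^ j, zpow_mem haX j⟩ : X) ∈ (P : Subgroup X) :=
      hP (Subgroup.mem_subgroupOf.2 (Subgroup.mem_inf.2 ⟨zpow_mem (hAR ha) j, zpow_mem haX j⟩))
    have hh' : (⟨h, hHX hh⟩ : X) ∈ (P : Subgroup X) := by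
      rw [show (⟨h, hHX hh⟩ : X) = x * (⟨a ^ j, zpow_mem haX j⟩ : X)⁻¹ from
        Subtype.ext (by simp [hxe])]
      exact mul_mem hx (inv_mem haj)
    have hD := hmax ((P : Subgroup X).map X.subtype ⊓ H) inf_le_right
      ((P.2.map _).to_le inf_le_left) (fun d hd => Subgroup.mem_inf.2
        ⟨⟨⟨d, hHX (Subgroup.mem_inf.1 hd).2⟩, hP (Subgroup.mem_subgroupOf.2 (Subgroup.mem_inf.2
          ⟨(Subgroup.mem_inf.1 hd).1, hHX (Subgroup.mem_inf.1 hd).2⟩)), rfl⟩,
          (Subgroup.mem_inf.1 hd).2⟩)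
    rw [hxe]
    exact mul_mem (Subgroup.mem_inf.1 (hD (Subgroup.mem_inf.2 ⟨⟨_, hh', rfl⟩, hh⟩))).1
      (zpow_mem (hAR ha) j)
  obtain ⟨g, hg⟩ := exists_conj_le_sylow S hR2
  have hgA : A.map (MulAut.conj g).toMonoidHom = A := Subgroup.eq_of_le_of_card_ge (by
    rintro _ ⟨b, hb, rfl⟩
    exact hA.2 b hb g (hg (conj_mem_map_conj (hAR hb))))
    (le_of_eq (Subgroup.card_map_of_injective (MulAut.conj g).injective).symm)
  have hfix : CfsgLib.ZStar.Fixed (P : Subgroup X) ⟨a, haX⟩ := by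
    refine ⟨hP (Subgroup.mem_subgroupOf.2 (Subgroup.mem_inf.2 ⟨hAR ha, haX⟩)), fun x k hxk => ?_⟩
    apply Subtype.ext
    push_cast
    have hy : (x : G) * a ^ k * (x : G)⁻¹ ∈ R := by simpa using hPR _ hxk
    have hyA : (x : G) * a ^ k * (x : G)⁻¹ ∈ A := by
      have h1 : g * a ^ k * g⁻¹ ∈ A := by rw [← hgA]; exact conj_mem_map_conj (pow_mem ha k)
      have h2 := hA.2 _ h1 (g * (x : G) * g⁻¹) (by
        have := hg (conj_mem_map_conj hy)
        simpa [mul_assoc] using this)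
      have h3 : g * ((x : G) * a ^ k * (x : G)⁻¹) * g⁻¹ ∈ A.map (MulAut.conj g).toMonoidHom := by
        rw [hgA]; simpa [mul_assoc] using h2
      rw [mem_map_conj] at h3
      simpa [mul_assoc] using h3
    obtain ⟨h, hh, j, hxe⟩ := hdec x x.2
    have hc : (x : G) * a ^ k * (x : G)⁻¹ * (a ^ k)⁻¹ ∈ H := by
      have e : (x : G) * a ^ k * (x : G)⁻¹ * (a ^ k)⁻¹ = h * (a ^ k * h⁻¹ * (a ^ k)⁻¹) := by
        rw [hxe, mul_inv_rev]
        have : a ^ j * a ^ k * (a ^ j)⁻¹ = a ^ k := by group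
        calc h * a ^ j * a ^ k * ((a ^ j)⁻¹ * h⁻¹) * (a ^ k)⁻¹
            = h * (a ^ j * a ^ k * (a ^ j)⁻¹) * h⁻¹ * (a ^ k)⁻¹ := by group
          _ = h * (a ^ k * h⁻¹ * (a ^ k)⁻¹) := by rw [this]; group
      rw [e]
      exact mul_mem hh ((Subgroup.mem_normalizer_iff.1 (pow_mem (hAH ha) k) _).1 (inv_mem hh))
    have h1 : (x : G) * a ^ k * (x : G)⁻¹ * (a ^ k)⁻¹ ∈ A ⊓ H :=
      Subgroup.mem_inf.2 ⟨mul_mem hyA (inv_mem (pow_mem ha k)), hc⟩
    rw [hdisj, Subgroup.mem_bot, mul_inv_eq_one] at h1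
    exact h1
  rw [Subgroup.mem_centralizer_iff]
  intro h hh
  have hmem := CfsgLib.ZStar.commutator_mem_oddCore_of_fixed P hfix ⟨h, hHX hh⟩
  have hbot : Cfsg.oddCore X = ⊥ := by
    have hodd := CfsgLib.ZStar.odd_card_oddCore X
    have hle : (Cfsg.oddCore X).map X.subtype ≤ H := by
      rintro _ ⟨o, ho, rfl⟩
      obtain ⟨h', hh', j, hoe⟩ := hdec o o.2
      obtain ⟨n, hn⟩ := Odd.of_dvd_nat hodd (Subgroup.orderOf_dvd_natCard _ ho)
      obtain ⟨i, hi⟩ := hA2 ⟨a, ha⟩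
      have hi' : a ^ 2 ^ i = 1 := congrArg Subtype.val hi
      have hN : ∀ y ∈ X, y ∈ Subgroup.normalizer (H : Set G) := fun y hy =>
        (sup_le Subgroup.le_normalizer haN) hy
      let q := QuotientGroup.mk' (H.subgroupOf (Subgroup.normalizer (H : Set G)))
      let oN : Subgroup.normalizer (H : Set G) := ⟨o, hN o o.2⟩
      let aN : Subgroup.normalizer (H : Set G) := ⟨a, hAH ha⟩
      have hq : q oN = q aN ^ j := by
        have h0 : q ⟨h', Subgroup.le_normalizer hh'⟩ = 1 :=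
          (QuotientGroup.eq_one_iff _).2 (Subgroup.mem_subgroupOf.2 hh')
        rw [show oN = ⟨h', Subgroup.le_normalizer hh'⟩ * aN ^ j from
          Subtype.ext (by simpa [oN, aN] using hoe), map_mul, map_zpow, h0, one_mul]
      have h1 : q oN ^ 2 ^ i = 1 := by
        rw [hq, ← zpow_natCast, ← zpow_mul, mul_comm, zpow_mul, zpow_natCast, ← map_pow,
          show aN ^ 2 ^ i = 1 from Subtype.ext hi', map_one, one_zpow]
      have h2 : q oN ^ (2 * n + 1) = 1 := by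
        rw [← hn, ← map_pow, show oN ^ orderOf o = 1 from Subtype.ext (by
          show (o : G) ^ orderOf o = 1
          rw [← SubmonoidClass.coe_pow, pow_orderOf_eq_one, OneMemClass.coe_one]), map_one]
      have h3 : q oN = 1 := orderOf_eq_one_iff.1 (Nat.eq_one_of_dvd_coprimes
        ((Nat.coprime_two_left.2 ⟨n, rfl⟩).pow_left i) (orderOf_dvd_of_pow_eq_one h1)
        (orderOf_dvd_of_pow_eq_one h2))
      exact (Subgroup.mem_subgroupOf.1 ((QuotientGroup.eq_one_iff oN).1 h3) : (oN : G) ∈ H)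
    set O' := ((Cfsg.oddCore X).map X.subtype).subgroupOf H with hO'
    haveI : O'.Normal := ⟨fun o ho c => by
      obtain ⟨o', ho', hoe⟩ := ho
      refine Subgroup.mem_subgroupOf.2 ⟨⟨c, hHX c.2⟩ * o' * (⟨c, hHX c.2⟩ : X)⁻¹,
        Subgroup.Normal.conj_mem inferInstance o' ho' _, ?_⟩
      simp only [Subgroup.subtype_apply] at hoe
      simp [hoe]⟩
    have hle' : O' ≤ Cfsg.oddCore H := CfsgLib.ZStar.le_oddCore inferInstance (by
      rw [Nat.card_congr (Subgroup.subgroupOfEquivOfLe hle).toEquiv,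
        Subgroup.card_map_of_injective X.subtype_injective]
      exact hodd)
    rw [hO, le_bot_iff, hO', Subgroup.subgroupOf_eq_bot, disjoint_iff, inf_eq_left.2 hle,
      Subgroup.map_eq_bot_iff_of_injective _ X.subtype_injective] at hle'
    exact hle'
  rw [hbot, Subgroup.mem_bot] at hmem
  have : a * h * a⁻¹ * h⁻¹ = 1 := by simpa using congrArg Subtype.val hmem
  rw [mul_inv_eq_one, mul_inv_eq_iff_eq_mul] at this
  exact this.symm

end Cfsg.Agent.S1251
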