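import Cfsg.Statements.S1256
import Cfsg.Agent.Lib.TwoGroups.DihedralFusion

set_option autoImplicit false
open Cfsg

namespace Cfsg.Agent.S1256

/-- Let X be a finite group whose Sylow 2-subgroup S is dihedral of order 2m ≥ 4. If |S| = 4, any two Klein four-subgroups of X are conjugate; if |S| > 4, there are Klein four-subgroups U₁, U₂ of X that are not conjugate, and every Klein four-subgroup of X is conjugate to U₁ or to U₂. -/
theorem result {X : Type*} [Group X] [Finite X] (S : Sylow 2 X) (m : ℕ) (hm : 2 ≤ m) (eS : (S : Subgroup X) ≃* DihedralGroup m) : (Nat.card S = 4 → ∀ U V : Subgroup X, IsKleinFour U → IsKleinFour V → (∃ x : X, U.map (MulAut.conj x).toMonoidHom = V)) ∧ (4 < Nat.card S → ∃ U₁ U₂ : Subgroup X, IsKleinFour U₁ ∧ IsKleinFour U₂ ∧ ¬ (∃ x : X, U₁.map (MulAut.conj x).toMonoidHom = U₂) ∧ ∀ V : Subgroup X, IsKleinFour V → (∃ x : X, V.map (MulAut.conj x).toMonoidHom = U₁) ∨ (∃ x : X, V.map (MulAut.conj x).toMonoidHom = U₂))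 := by
  obtain ⟨n, f, hn, hcard, hf, hS⟩ := CfsgLib.TwoGroups.Dihedral.exists_model hm eS
  refine ⟨fun h4 U V hU hV => ?_, fun h4 => ?_⟩
  · have hn1 : n = 1 := by
      rw [hcard, show 4 = 2 ^ 2 by norm_num] at h4
      have := Nat.pow_right_injective le_rfl h4
      omega
    have key : ∀ W : Subgroup X, IsKleinFour W →
        ∃ x : X, W.map (MulAut.conj x).toMonoidHom = (S : Subgroup X) := by
      intro W hW
      obtain ⟨x, h | h⟩ := CfsgLib.TwoGroups.Dihedral.exists_conj_four_group hf hS hn hW <;>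
        exact ⟨x, h.trans (CfsgLib.TwoGroups.Dihedral.sylow_eq_map_lev hf hS hn1 _)⟩
    obtain ⟨x, hx⟩ := key U hU
    obtain ⟨y, hy⟩ := key V hV
    refine ⟨y⁻¹ * x, ?_⟩
    rw [CfsgLib.TwoGroups.map_conj_mul, hx, ← hy, ← CfsgLib.TwoGroups.map_conj_mul,
      inv_mul_cancel, CfsgLib.TwoGroups.map_conj_one]
  · have hn2 : 2 ≤ n := by
      rw [hcard, show 4 = 2 ^ 2 by norm_num] at h4
      have := (Nat.pow_lt_pow_iff_right one_lt_two).1 h4
      omega
    exact ⟨_, _, CfsgLib.TwoGroups.Dihedral.isKleinFour_map_lev hf hn 0,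
      CfsgLib.TwoGroups.Dihedral.isKleinFour_map_lev hf hn 1,
      fun ⟨x, hx⟩ => CfsgLib.TwoGroups.Dihedral.not_conj_four hf hS hn2 x hx, fun V hV => by
        obtain ⟨x, h | h⟩ := CfsgLib.TwoGroups.Dihedral.exists_conj_four_group hf hS hn hV
        exacts [Or.inl ⟨x, h⟩, Or.inr ⟨x, h⟩]⟩

end Cfsg.Agent.S1256
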