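import Cfsg.Statements.S1258
import Cfsg.Agent.Lib.Components.Quasisimple
import Cfsg.Agent.Lib.Components.Subnormal

set_option autoImplicit false
open Cfsg

namespace Cfsg.Agent.S1258

open scoped commutatorElement

/-- If the central quotient of a finite group X is non-abelian simple, then X = X' Z(X) and the commutator subgroup X' is quasisimple. -/
theorem result {X : Type*} [Group X] [Finite X] (hs : IsSimpleGroup (X ⧸ Subgroup.center X)) (hna : ¬ IsMulCommutative (X ⧸ Subgroup.center X)) : commutator X ⊔ Subgroup.center X = ⊤ ∧ Cfsg.IsQuasisimple ↥(commutator X) := by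
  haveI := hs
  set Z := Subgroup.center X with hZ
  set D := commutator X with hD
  set f := QuotientGroup.mk' Z with hf
  have hfs : Function.Surjective f := QuotientGroup.mk'_surjective Z
  have hsup : ∀ N : Subgroup X, N.map f = ⊤ → N ⊔ Z = ⊤ := fun N hN => by
    have := congrArg (Subgroup.comap f) hN
    rwa [Subgroup.comap_map_eq, hf, QuotientGroup.ker_mk', Subgroup.comap_top] at this
  have hDf : D.map f = ⊤ := by
    refine ((inferInstance : D.Normal).map f hfs).eq_bot_or_eq_top.resolve_left fun hb => hna ?_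
    refine ⟨⟨fun a b => ?_⟩⟩
    obtain ⟨a, rfl⟩ := hfs a
    obtain ⟨b, rfl⟩ := hfs b
    have h1 : f ⁅a, b⁆ ∈ D.map f := Subgroup.mem_map_of_mem f
      (Subgroup.commutator_mem_commutator (Subgroup.mem_top a) (Subgroup.mem_top b))
    rw [hb, Subgroup.mem_bot, map_commutatorElement, commutatorElement_eq_one_iff_mul_comm] at h1
    exact h1
  have htop : D ⊔ Z = ⊤ := hsup D hDf
  refine ⟨htop, ?_⟩
  have hDD : ∀ M : Subgroup X, M ⊔ Z = ⊤ → D ≤ ⁅M, M⁆ := by
    intro M hM
    haveI : (⁅M, M⁆ : Subgroup X).Normal := by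
      rw [← Subgroup.normalizer_eq_top_iff, eq_top_iff, ← hM]
      refine sup_le (Subgroup.normalizer_commutator_ge_left M M) ?_
      exact (Subgroup.center_le_centralizer _).trans (Subgroup.centralizer_le_normalizer _)
    rw [hD, commutator_def, ← QuotientGroup.ker_mk' ⁅M, M⁆, ← Subgroup.map_eq_bot_iff,
      Subgroup.map_commutator, ← hM, Subgroup.map_sup]
    have h1 : ⁅M.map (QuotientGroup.mk' ⁅M, M⁆), M.map (QuotientGroup.mk' ⁅M, M⁆)⁆ = ⊥ := by
      rw [← Subgroup.map_commutator, Subgroup.map_eq_bot_iff, QuotientGroup.ker_mk']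
    have h2 : ∀ A : Subgroup X, ⁅Z.map (QuotientGroup.mk' ⁅M, M⁆), A.map (QuotientGroup.mk' ⁅M, M⁆)⁆ = ⊥ :=
      fun A => by rw [← Subgroup.map_commutator, hZ, Subgroup.commutator_center_left, Subgroup.map_bot]
    simp only [CfsgLib.Components.commutator_sup_left_eq_bot,
      CfsgLib.Components.commutator_sup_right_eq_bot]
    refine ⟨⟨h1, h2 M⟩, ?_, h2 Z⟩
    exact (Subgroup.commutator_comm _ _).trans (h2 M)
  haveI : Group.IsPerfect D := Subgroup.isPerfect_iff.mpr
    (le_antisymm (Subgroup.commutator_le_self D) (hDD D htop))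
  haveI : Nontrivial D := by
    refine (Subgroup.nontrivial_iff_ne_bot D).mpr fun hb => ?_
    rw [hb, Subgroup.map_bot] at hDf
    exact bot_ne_top hDf
  refine CfsgLib.Components.isQuasisimple_of_normal_le_center fun N hN hne => ?_
  haveI hNn : (N.map D.subtype).Normal := by
    rw [← Subgroup.normalizer_eq_top_iff, eq_top_iff, ← htop]
    refine sup_le ?_ ((Subgroup.center_le_centralizer _).trans (Subgroup.centralizer_le_normalizer _))
    rw [← Subgroup.normal_subgroupOf_iff_le_normalizer (Subgroup.map_subtype_le N), Subgroup.subgroupOf,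
      Subgroup.comap_map_eq_self_of_injective D.subtype_injective]
    exact hN
  rcases ((hNn.map f hfs)).eq_bot_or_eq_top with hb | ht
  · intro x hx
    rw [Subgroup.map_eq_bot_iff, hf, QuotientGroup.ker_mk'] at hb
    have := hb (Subgroup.mem_map_of_mem D.subtype hx)
    exact Subgroup.mem_center_iff.mpr fun y => Subtype.ext (Subgroup.mem_center_iff.mp this y)
  · exfalso
    apply hne
    rw [eq_top_iff]
    intro x _
    obtain ⟨y, hy, e⟩ := ((hDD _ (hsup _ ht)).trans (Subgroup.commutator_le_self _)) x.2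
    exact D.subtype_injective e ▸ hy

end Cfsg.Agent.S1258
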