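import Cfsg.Statements.S1263
import Cfsg.Agent.Lib.Components.Component

set_option autoImplicit false
open Cfsg

namespace Cfsg.Agent.S1263

open CfsgLib.Components in
theorem aux {G : Type*} [Group G] [Finite G] (T : Set (Subgroup G))
    (hT : ∀ L ∈ T, Cfsg.IsComponent L) :
    ∀ x ∈ sSup T, (∀ L ∈ T, x ∈ Subgroup.centralizer (L : Set G)) →
      x ∈ ⨆ L : {K : Subgroup G // Cfsg.IsComponent K},
        (Subgroup.center ↥(L : Subgroup G)).map (L : Subgroup G).subtype := by
  induction T, Set.toFinite T using Set.Finite.induction_on with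
  | empty =>
    intro x hx _
    rw [sSup_empty, Subgroup.mem_bot] at hx
    rw [hx]; exact one_mem _
  | @insert L T hLT _ ih =>
    intro x hx hc
    have hL := hT L (Set.mem_insert L T)
    have hT' : ∀ M ∈ T, Cfsg.IsComponent M := fun M hM => hT M (Set.mem_insert_of_mem L hM)
    have hcomm : ∀ M ∈ T, ⁅M, L⁆ = ⊥ := fun M hM =>
      components_commute (hT' M hM) hL fun e => hLT (e ▸ hM)
    have hTC : sSup T ≤ Subgroup.centralizer (L : Set G) :=
      Subgroup.commutator_eq_bot_iff_le_centralizer.mp (commutator_sSup_left_eq_bot.mpr hcomm)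
    rw [sSup_insert] at hx
    rw [← SetLike.mem_coe, Subgroup.coe_mul_of_right_le_normalizer_left L (sSup T)
      (hTC.trans (Subgroup.centralizer_le_normalizer _))] at hx
    obtain ⟨a, ha, b, hb, rfl⟩ := hx
    have hac : a ∈ Subgroup.centralizer (L : Set G) :=
      (Subgroup.mul_mem_cancel_right _ (hTC hb)).mp (hc L (Set.mem_insert L T))
    refine mul_mem (Subgroup.mem_iSup_of_mem ⟨L, hL⟩ ?_) (ih hT' b hb fun M hM => ?_)
    · refine ⟨⟨a, ha⟩, Subgroup.mem_center_iff.mpr fun y => Subtype.ext ?_, rfl⟩
      exact Subgroup.mem_centralizer_iff.mp hac y y.2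
    · have haM : a ∈ Subgroup.centralizer (M : Set G) :=
        Subgroup.commutator_eq_bot_iff_le_centralizer.mp
          (by rw [Subgroup.commutator_comm]; exact hcomm M hM) ha
      exact (Subgroup.mul_mem_cancel_left _ haM).mp (hc M (Set.mem_insert_of_mem L hM))


/-- For a finite group G, Z(E(G)) is the subgroup generated by the centres Z(L) of the components L of G (all viewed as subgroups of G). -/
theorem result {G : Type*} [Group G] [Finite G] : (Subgroup.center ↥(Cfsg.layer G)).map (Cfsg.layer G).subtype = ⨆ L : {K : Subgroup G // Cfsg.IsComponent K}, (Subgroup.center ↥(L : Subgroup G)).map (L : Subgroup G).subtype := by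
  refine le_antisymm ?_ (iSup_le ?_)
  · rintro _ ⟨x, hx, rfl⟩
    refine aux {K : Subgroup G | Cfsg.IsComponent K} (fun L hL => hL) _ x.2 fun L hL => ?_
    refine Subgroup.mem_centralizer_iff.mpr fun y hy => ?_
    exact congrArg Subtype.val
      (Subgroup.mem_center_iff.mp hx ⟨y, CfsgLib.Components.le_layer hL hy⟩)
  · rintro ⟨L, hL⟩
    rintro _ ⟨z, hz, rfl⟩
    refine ⟨⟨z, CfsgLib.Components.le_layer hL z.2⟩, ?_, rfl⟩
    refine Subgroup.mem_center_iff.mpr fun y => Subtype.ext ?_
    haveI : Group.IsSolvable (Subgroup.center L) := Group.isSolvable_of_comm fun a b =>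
      Subtype.ext (Subgroup.mem_center_iff.mp b.2 a)
    have h1 : ⁅Cfsg.layer G, (Subgroup.center L).map L.subtype⁆ = ⊥ :=
      CfsgLib.Components.layer_commutes_solvable_subnormal
        (Group.isSolvable_of_surjective
          (f := ((Subgroup.center L).equivMapOfInjective _ L.subtype_injective).toMonoidHom)
          (MulEquiv.surjective _))
        (((inferInstance : (Subgroup.center L).Normal).isSubnormal).trans' hL.1)
    exact (Subgroup.mem_centralizer_iff.mp
      (Subgroup.commutator_eq_bot_iff_le_centralizer.mp h1 y.2) _ ⟨z, hz, rfl⟩).symm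

end Cfsg.Agent.S1263
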