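import Cfsg.Statements.S1266
import Cfsg.Agent.Lib.Components.PLayer

set_option autoImplicit false
open Cfsg

namespace Cfsg.Agent.S1266

open CfsgLib.Components

/-- Let P be a p-subgroup of the finite group G and N = N_G(P). Then the preimage in N of E(N / O_{p'}(N)) centralizes O_p(G). -/
theorem result {G : Type*} [Group G] [Finite G] (p : ℕ) [Fact p.Prime] (P : Subgroup G) (hP : IsPGroup p ↥P) : (((Cfsg.layer (↥(Subgroup.normalizer ((P : Subgroup G) : Set G)) ⧸ Cfsg.pPrimeCore p ↥(Subgroup.normalizer ((P : Subgroup G) : Set G)))).comap (QuotientGroup.mk' (Cfsg.pPrimeCore p ↥(Subgroup.normalizer ((P : Subgroup G) : Set G))))).map (Subgroup.normalizer ((P : Subgroup G) : Set G)).subtype) ≤ Subgroup.centralizer (Cfsg.pCore p G : Set G) := by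
  set N := Subgroup.normalizer ((P : Subgroup G) : Set G) with hN
  have hcomap : (Cfsg.layer (N ⧸ Cfsg.pPrimeCore p N)).comap (QuotientGroup.mk' (Cfsg.pPrimeCore p N)) =
      Cfsg.pLayer p N ⊔ Cfsg.pPrimeCore p N := by
    rw [← CfsgLib.Signalizer.pLayer_map, Subgroup.comap_map_eq, QuotientGroup.ker_mk']
  rw [hcomap, Subgroup.map_sup]
  have key : ∀ A : Subgroup N, ⁅A, Cfsg.pCore p N⁆ = ⊥ → ∀ x ∈ A.map N.subtype,
      (orderOf x).Coprime p → x ∈ Subgroup.centralizer (Cfsg.pCore p G : Set G) := by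
    intro A hA x hx hord
    refine centralizes_pCore_of_local hP hord (Subgroup.mem_centralizer_iff.mpr ?_)
    rintro _ ⟨y, hy, rfl⟩
    obtain ⟨z, hz, rfl⟩ := hx
    exact congrArg Subtype.val
      (Subgroup.mem_centralizer_iff.mp ((Subgroup.commutator_eq_bot_iff_le_centralizer.mp hA) hz) y hy)
  refine sup_le ?_ ?_
  · refine perfect_le_of_coprime ?_ (key _ pLayer_commutes_pCore)
    rw [← Subgroup.map_commutator, pLayer_perfect]
  · intro x hx
    refine key _ pPrimeCore_commutes_pCore x hx ?_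
    refine (pPrimeCore_coprime (G := N) p).coprime_dvd_left ?_
    have := ((Cfsg.pPrimeCore p N).map N.subtype).orderOf_dvd_natCard hx
    rwa [Subgroup.card_map_of_injective N.subtype_injective] at this

end Cfsg.Agent.S1266
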