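import Cfsg.Statements.S1267
import Cfsg.Agent.Lib.Components.PLayer

set_option autoImplicit false
open Cfsg

namespace Cfsg.Agent.S1267

open CfsgLib.Components

/-- Let G be finite and P ≤ O_p(G). Then E(N_G(P)) = E(G). -/
theorem result {G : Type*} [Group G] [Finite G] (p : ℕ) [Fact p.Prime] (P : Subgroup G) (hP : P ≤ Cfsg.pCore p G) : (Cfsg.layer ↥(Subgroup.normalizer ((P : Subgroup G) : Set G))).map (Subgroup.normalizer ((P : Subgroup G) : Set G)).subtype = Cfsg.layer G := by
  set N := Subgroup.normalizer ((P : Subgroup G) : Set G) with hN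
  haveI := pCore_normal (G := G) p
  have hEN : Cfsg.layer G ≤ N := by
    refine le_trans ?_ ((Subgroup.centralizer_le hP).trans (Subgroup.centralizer_le_normalizer _))
    exact (Subgroup.commutator_eq_bot_iff_le_centralizer.mp layer_commutes_fitting).trans
      (Subgroup.centralizer_le (pCore_le_fitting p))
  refine le_antisymm ?_ (layer_le_iff.mpr fun L hL => ?_)
  · rw [Subgroup.map_le_iff_le_comap, layer_le_iff]
    intro L hL
    rw [← Subgroup.map_le_iff_le_comap]
    have hperf : ⁅L.map N.subtype, L.map N.subtype⁆ = L.map N.subtype := by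
      rw [← Subgroup.map_commutator, IsComponent.commutator_eq_self hL]
    have hC : L.map N.subtype ≤ Subgroup.centralizer (Cfsg.pCore p G : Set G) := by
      refine perfect_le_of_coprime (p := p) hperf fun x hx hord => ?_
      refine centralizes_pCore_of_local ((pCore_isPGroup p).to_le hP) hord
        (Subgroup.mem_centralizer_iff.mpr ?_)
      rintro _ ⟨y, hy, rfl⟩
      obtain ⟨z, hz, rfl⟩ := hx
      have h1 : ⁅Cfsg.layer N, Cfsg.fittingSubgroup N⁆ = ⊥ := layer_commutes_fitting
      exact congrArg Subtype.val (Subgroup.mem_centralizer_iff.mp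
        ((Subgroup.commutator_eq_bot_iff_le_centralizer.mp h1) (le_layer hL hz)) y
        (pCore_le_fitting p hy))
    set C := Subgroup.centralizer (Cfsg.pCore p G : Set G) with hCdef
    have hCN : C ≤ N := (Subgroup.centralizer_le hP).trans (Subgroup.centralizer_le_normalizer _)
    haveI : C.Normal := by rw [hCdef]; infer_instance
    have h1 : ((L.map N.subtype).subgroupOf C).IsSubnormal := by
      have h2 := hL.1.comap (Subgroup.inclusion hCN)
      convert h2 using 1
      ext x
      rw [Subgroup.mem_subgroupOf, Subgroup.mem_comap]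
      refine ⟨?_, fun h => ⟨_, h, rfl⟩⟩
      rintro ⟨y, hy, e⟩
      have : y = Subgroup.inclusion hCN x := Subtype.ext e
      exact this ▸ hy
    have h2 := h1.trans' (inferInstance : C.Normal).isSubnormal
    rw [Subgroup.map_subgroupOf_eq_of_le hC] at h2
    exact le_layer ⟨h2, (isQuasisimple_map_iff N.subtype_injective).mpr hL.2⟩
  · have hLN := (le_layer hL).trans hEN
    rw [← Subgroup.map_subgroupOf_eq_of_le hLN]
    exact Subgroup.map_mono (le_layer (isComponent_subgroupOf hL hLN))

end Cfsg.Agent.S1267
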