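import Cfsg.Statements.S1271
import Cfsg.Agent.Lib.Components.LocalBalance
import Cfsg.Agent.Lib.Components.FStar

set_option autoImplicit false
open Cfsg

namespace Cfsg.Agent.S1271

open CfsgLib.Components
open scoped Pointwise commutatorElement

/-- The step for one component `L` normalized by `x` and `W`. -/
theorem centralizes_component {H : Type*} [Group H] [Finite H] {p : ℕ} [Fact p.Prime]
    {L W : Subgroup H} [L.Normal] [hCn : (Subgroup.centralizer (L : Set H)).Normal]
    (hB : Cfsg.IsBalancedFor p (H ⧸ Subgroup.centralizer (L : Set H)))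
    (hqs : Cfsg.IsQuasisimple L) (hd : p ∣ Nat.card L)
    (hZp : IsPGroup p ↥(L ⊓ Subgroup.centralizer (L : Set H))) {x : H} (hx : orderOf x = p)
    (hxC : x ∉ Subgroup.centralizer (L : Set H))
    (hgen : L ⊔ Subgroup.centralizer ({x} : Set H) = ⊤)
    (hWx : W ≤ Subgroup.centralizer ({x} : Set H))
    (hWn : Subgroup.centralizer ({x} : Set H) ≤ Subgroup.normalizer (W : Set H))
    (hW : (Nat.card W).Coprime p)
    (hWZ : W ≤ Subgroup.centralizer ((L ⊓ Subgroup.centralizer (L : Set H) : Subgroup H) : Set H)) :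
    W ≤ Subgroup.centralizer (L : Set H) := by
  set C := Subgroup.centralizer (L : Set H) with hC
  set Z := L ⊓ C with hZ
  set π := QuotientGroup.mk' C with hπ
  set D := (Subgroup.centralizer ({π x} : Set (H ⧸ C))).comap π with hD
  set X0 := Subgroup.zpowers x ⊔ Z with hX0
  set Y := Subgroup.centralizer (X0 : Set H) with hY
  have hxD : Subgroup.centralizer ({x} : Set H) ≤ D := fun u hu =>
    Subgroup.mem_centralizer_singleton_iff.mpr (by
      rw [← map_mul, ← map_mul, Subgroup.mem_centralizer_singleton_iff.mp hu])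
  have hXn : ∀ g : H, (g * x * g⁻¹ ∈ X0) → g ∈ Subgroup.normalizer (X0 : Set H) := by
    intro g hg
    refine mem_normalizer_of_smul_eq_self (Subgroup.eq_of_le_of_card_ge ?_
      (Nat.card_congr (Subgroup.equivSMul (MulAut.conj g) X0).toEquiv).le)
    rw [hX0, Subgroup.smul_sup, sup_le_iff, Subgroup.Normal.conj_smul_eq_self g Z]
    refine ⟨?_, le_sup_right⟩
    rw [conj_smul_eq_map, MonoidHom.map_zpowers, Subgroup.zpowers_le]
    exact hg
  have hCxn : Subgroup.centralizer ({x} : Set H) ≤ Subgroup.normalizer (X0 : Set H) := by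
    intro u hu
    refine hXn u ?_
    rw [Subgroup.mem_centralizer_singleton_iff.mp hu, mul_inv_cancel_right]
    exact Subgroup.mem_sup_left (Subgroup.mem_zpowers x)
  have hDn : D ≤ Subgroup.normalizer (X0 : Set H) := by
    intro h hh
    obtain ⟨l, hl, u, hu, rfl⟩ := Subgroup.mem_sup_of_normal_left.mp (hgen.ge (Subgroup.mem_top h))
    refine mul_mem (hXn l ?_) (hCxn hu)
    have hlD : l ∈ D := by
      have := mul_mem hh (inv_mem (hxD hu))
      rwa [mul_inv_cancel_right] at this
    have h1 : l * x * l⁻¹ * x⁻¹ ∈ C := by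
      rw [← QuotientGroup.eq_one_iff]
      show π (l * x * l⁻¹ * x⁻¹) = 1
      have h2 : π l * π x = π x * π l := Subgroup.mem_centralizer_singleton_iff.mp hlD
      rw [map_mul, map_mul, map_mul, map_inv, map_inv, h2]
      group
    have h2 : l * x * l⁻¹ * x⁻¹ ∈ L := by
      rw [show l * x * l⁻¹ * x⁻¹ = l * (x * l⁻¹ * x⁻¹) by group]
      exact mul_mem hl (Subgroup.Normal.conj_mem inferInstance _ (inv_mem hl) x)
    rw [show l * x * l⁻¹ = (l * x * l⁻¹ * x⁻¹) * x by group]
    exact mul_mem (Subgroup.mem_sup_right ⟨h2, h1⟩) (Subgroup.mem_sup_left (Subgroup.mem_zpowers x))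
  set N := Subgroup.normalizer (Y : Set H) with hN
  set Q := (Cfsg.pPrimeCore p N).map N.subtype ⊓ Y with hQ
  have hYN : Y ≤ N := Subgroup.le_normalizer
  have hQeq : (Cfsg.pPrimeCore p Y).map Y.subtype = Q :=
    map_pPrimeCore_of_subnormal_le hYN Subgroup.normal_in_normalizer.isSubnormal
  have hDQ : D ≤ Subgroup.normalizer (Q : Set H) := by
    refine (hDn.trans (normalizer_le_normalizer_centralizer' X0)).trans ?_
    refine (le_inf ?_ le_rfl).trans Subgroup.inf_normalizer_le_normalizer_inf
    intro g hg
    haveI := pPrimeCore_normal (G := N) p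
    exact Subgroup.le_normalizer_map N.subtype
      ⟨⟨g, hg⟩, (Subgroup.normalizer_eq_top _).ge (Subgroup.mem_top _), rfl⟩
  have hWY : W ≤ Y := by
    rw [hY, ← Subgroup.commutator_eq_bot_iff_le_centralizer, hX0, commutator_sup_right_eq_bot,
      Subgroup.commutator_eq_bot_iff_le_centralizer, Subgroup.commutator_eq_bot_iff_le_centralizer]
    refine ⟨fun w hw => Subgroup.mem_centralizer_iff.mpr ?_, hWZ⟩
    rintro _ ⟨k, rfl⟩
    exact ((show Commute w x from Subgroup.mem_centralizer_singleton_iff.mp (hWx hw)).zpow_right k).symm.eq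
  have hWQ : W ≤ Q := by
    rw [← hQeq, ← map_subtype_subgroupOf hWY]
    refine Subgroup.map_mono (le_pPrimeCore (Subgroup.normal_subgroupOf_of_le_normalizer ?_) ?_)
    · refine le_trans ?_ hWn
      intro y hy
      exact Subgroup.mem_centralizer_singleton_iff.mpr
        (Subgroup.mem_centralizer_iff.mp hy x (Subgroup.mem_sup_left (Subgroup.mem_zpowers x))).symm
    · rwa [Nat.card_congr (Subgroup.subgroupOfEquivOfLe hWY).toEquiv]
  have hQx : Q ≤ D := fun q hq => hxD (Subgroup.mem_centralizer_singleton_iff.mpr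
    (Subgroup.mem_centralizer_iff.mp hq.2 x (Subgroup.mem_sup_left (Subgroup.mem_zpowers x))).symm)
  have hxb : orderOf (π x) = p := orderOf_eq_prime
    (by rw [← map_pow, ← hx, pow_orderOf_eq_one, map_one])
    fun h => hxC ((QuotientGroup.eq_one_iff _).mp h)
  set M := Subgroup.centralizer ({π x} : Set (H ⧸ C)) with hM
  have hQM : Q.map π ≤ M := by
    rintro _ ⟨q, hq, rfl⟩
    exact hQx hq
  have h1 : Q.map π ≤ Cfsg.centralizerPPrimeCore p (π x) := by
    rw [Cfsg.centralizerPPrimeCore, ← map_subtype_subgroupOf hQM]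
    refine Subgroup.map_mono (le_pPrimeCore (Subgroup.normal_subgroupOf_of_le_normalizer ?_) ?_)
    · rw [← Subgroup.map_comap_eq_self_of_surjective (QuotientGroup.mk'_surjective C) M]
      rintro _ ⟨h, hh, rfl⟩
      exact Subgroup.le_normalizer_map π ⟨h, hDQ hh, rfl⟩
    · rw [Nat.card_congr (Subgroup.subgroupOfEquivOfLe hQM).toEquiv]
      refine Nat.Coprime.coprime_dvd_left (Subgroup.card_map_dvd _ _) ?_
      rw [← hQeq, Subgroup.card_map_of_injective Y.subtype_injective]
      exact pPrimeCore_coprime p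
  -- the core of `H / C` is trivial
  have hcore : (Cfsg.pPrimeCore p (H ⧸ C)).comap π ≤ C := by
    set P := (Cfsg.pPrimeCore p (H ⧸ C)).comap π with hP
    haveI : P.Normal := (CfsgLib.Components.pPrimeCore_normal p).comap π
    by_cases htop : L ≤ P
    · exfalso
      obtain ⟨S⟩ := (inferInstance : Nonempty (Sylow p L))
      refine CfsgLib.Signalizer.not_dvd_of_sylow_central hqs.1 S (fun s hs => ?_) hd
      obtain ⟨k, hk⟩ := S.2 ⟨s, hs⟩
      have hk' : (s : H) ^ p ^ k = 1 := by
        simpa using congrArg (fun t : (S : Subgroup L) => ((t : L) : H)) hk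
      have h1 : π (s : H) = 1 := orderOf_eq_one_iff.mp (Nat.eq_one_of_dvd_coprimes
        ((pPrimeCore_coprime (G := H ⧸ C) p).pow_right k)
        (Subgroup.orderOf_dvd_natCard _ (show π (s : H) ∈ _ from htop s.2))
        (orderOf_dvd_of_pow_eq_one (by rw [← map_pow, hk', map_one])))
      exact Subgroup.mem_center_iff.mpr fun a => Subtype.ext
        (Subgroup.mem_centralizer_iff.mp ((QuotientGroup.eq_one_iff _).mp h1) a a.2)
    have hn : ((L ⊓ P).subgroupOf L).Normal := inferInstance
    have hcen := IsQuasisimple.le_center_of_ne_top hqs hn fun e =>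
      htop ((Subgroup.subgroupOf_eq_top.mp e).trans inf_le_right)
    have h0 : ⁅P, L⁆ ≤ L ⊓ P :=
      le_inf (Subgroup.commutator_le_right _ _) (Subgroup.commutator_le_left _ _)
    have h1 : ⁅⁅P, L⁆, L⁆ = ⊥ := by
      rw [Subgroup.commutator_eq_bot_iff_le_centralizer]
      refine h0.trans fun y hy => Subgroup.mem_centralizer_iff.mpr fun a ha => ?_
      exact congrArg Subtype.val (Subgroup.mem_center_iff.mp
        (hcen (show (⟨y, hy.1⟩ : L) ∈ (L ⊓ P).subgroupOf L from hy)) ⟨a, ha⟩)
    have h2 : ⁅⁅L, P⁆, L⁆ = ⊥ := by rwa [Subgroup.commutator_comm L P]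
    have h3 := Subgroup.commutator_commutator_eq_bot_of_rotate h2 h1
    rw [IsQuasisimple.commutator_eq_self hqs, Subgroup.commutator_comm] at h3
    exact Subgroup.commutator_eq_bot_iff_le_centralizer.mp h3
  exact hWQ.trans ((Subgroup.map_le_iff_le_comap.mp (h1.trans (hB (π x) hxb))).trans hcore)

theorem key {G : Type*} [Group G] [Finite G] (p : ℕ) [Fact p.Prime]
    (hO : Cfsg.pPrimeCore p G = ⊥)
    (h : ∀ L : Subgroup G, Cfsg.IsComponent L → ∀ H : Subgroup G, L ≤ H → (L.subgroupOf H).Normal →
      ∀ [((Subgroup.centralizer (L : Set G)).subgroupOf H).Normal],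
        Cfsg.IsBalancedFor p (↥H ⧸ (Subgroup.centralizer (L : Set G)).subgroupOf H)) :
    Cfsg.IsBalancedFor p G := by
  intro x hx
  rw [hO, Cfsg.centralizerPPrimeCore]
  set C := Subgroup.centralizer ({x} : Set G) with hC
  set W := (Cfsg.pPrimeCore p C).map C.subtype with hW
  have hWcop : (Nat.card W).Coprime p := by
    rw [hW, Subgroup.card_map_of_injective C.subtype_injective]
    exact pPrimeCore_coprime p
  have hWC : W ≤ C := Subgroup.map_subtype_le _
  have hCW : C ≤ Subgroup.normalizer (W : Set G) := by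
    intro g hg
    haveI := pPrimeCore_normal (G := C) p
    exact Subgroup.le_normalizer_map C.subtype
      ⟨⟨g, hg⟩, (Subgroup.normalizer_eq_top _).ge (Subgroup.mem_top _), rfl⟩
  have hP : IsPGroup p (Subgroup.zpowers x) :=
    IsPGroup.of_card (n := 1) (by rw [Nat.card_zpowers, hx, pow_one])
  set N := Subgroup.normalizer ((Subgroup.zpowers x : Subgroup G) : Set G) with hN
  have hCeq : C = Subgroup.centralizer ((Subgroup.zpowers x : Subgroup G) : Set G) := by
    refine le_antisymm ?_ (Subgroup.centralizer_le (Set.singleton_subset_iff.mpr (Subgroup.mem_zpowers x)))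
    rw [hC, Subgroup.le_centralizer_iff, Subgroup.zpowers_le]
    exact Subgroup.mem_centralizer_iff.mpr fun g hg => Subgroup.mem_centralizer_singleton_iff.mp hg
  have hCN : C ≤ N := hCeq ▸ Subgroup.centralizer_le_normalizer _
  have hCn : (C.subgroupOf N).Normal :=
    (Subgroup.normal_subgroupOf_iff_le_normalizer hCN).mpr (hCeq ▸ normalizer_le_normalizer_centralizer' _)
  have hWN : W ≤ (Cfsg.pPrimeCore p N).map N.subtype :=
    (map_pPrimeCore_of_subnormal_le hCN hCn.isSubnormal).le.trans inf_le_left
  have hWR : W ≤ Subgroup.centralizer (Cfsg.pCore p G : Set G) := by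
    intro w hw
    refine centralizes_pCore_of_local hP (hWcop.coprime_dvd_left (W.orderOf_dvd_natCard hw)) ?_
    obtain ⟨z, hz, rfl⟩ := hWN hw
    rw [Subgroup.mem_centralizer_iff]
    rintro _ ⟨v, hv, rfl⟩
    exact congrArg Subtype.val (Subgroup.mem_centralizer_iff.mp
      (Subgroup.commutator_eq_bot_iff_le_centralizer.mp pPrimeCore_commutes_pCore hz) v hv)
  have hfit := fitting_eq_pCore_of_core_bot hO
  have hWE : ∀ L : Subgroup G, Cfsg.IsComponent L → W ≤ Subgroup.centralizer (L : Set G) := by
    intro L hL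
    by_cases hLx : ⁅L, Subgroup.zpowers x⁆ = L
    swap
    · rw [← Subgroup.commutator_eq_bot_iff_le_centralizer, Subgroup.commutator_comm]
      exact component_commutes_core_centralizer hO hx hL hLx
    set H := L ⊔ (Subgroup.zpowers x ⊔ W) with hH
    have hxW : Subgroup.zpowers x ⊔ W ≤ Subgroup.normalizer (L : Set G) := by
      refine sup_le ?_ ?_
      · rw [Subgroup.le_normalizer_iff_commutator_le_left, hLx]
      · exact hWN.trans ((Subgroup.map_mono le_sup_right).trans (local_normalizes_component hO hP hL))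
    have hLH : L ≤ H := le_sup_left
    have hHN : H ≤ Subgroup.normalizer (L : Set G) := sup_le Subgroup.le_normalizer hxW
    haveI hLn : (L.subgroupOf H).Normal := Subgroup.normal_subgroupOf_of_le_normalizer hHN
    haveI hCLn : ((Subgroup.centralizer (L : Set G)).subgroupOf H).Normal :=
      ⟨fun c hc g => (Subgroup.mem_normalizer_iff.mp
        (normalizer_le_normalizer_centralizer' L (hHN g.2)) _).mp hc⟩
    have hbal := h L hL H hLH hLn
    have heq : (Subgroup.centralizer (L : Set G)).subgroupOf H =
        Subgroup.centralizer ((L.subgroupOf H : Subgroup H) : Set H) := by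
      ext c
      constructor
      · intro hc
        exact Subgroup.mem_centralizer_iff.mpr fun y hy =>
          Subtype.ext (Subgroup.mem_centralizer_iff.mp hc y hy)
      · intro hc
        exact Subgroup.mem_centralizer_iff.mpr fun y hy =>
          congrArg Subtype.val (Subgroup.mem_centralizer_iff.mp hc ⟨y, hLH hy⟩ hy)
    haveI hCLn' : (Subgroup.centralizer ((L.subgroupOf H : Subgroup H) : Set H)).Normal := heq ▸ hCLn
    have hbal' : Cfsg.IsBalancedFor p
        (H ⧸ Subgroup.centralizer ((L.subgroupOf H : Subgroup H) : Set H)) := by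
      revert hbal hCLn hCLn'
      rw [heq]
      intros; assumption
    have hxH : x ∈ H := Subgroup.mem_sup_right (Subgroup.mem_sup_left (Subgroup.mem_zpowers x))
    have hWH : W ≤ H := le_sup_right.trans le_sup_right
    have hZle : L ⊓ Subgroup.centralizer (L : Set G) ≤ Cfsg.pCore p G := by
      rw [← hfit]
      set Z := L ⊓ Subgroup.centralizer (L : Set G) with hZ
      haveI : IsMulCommutative Z := ⟨⟨fun a b => Subtype.ext
        (Subgroup.mem_centralizer_iff.mp b.2.2 a a.2.1)⟩⟩
      refine subnormal_nilpotent_le_fitting ?_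
        (@CommGroup.isNilpotent Z { (inferInstance : Group Z) with mul_comm := mul_comm' })
      refine Subgroup.IsSubnormal.trans inf_le_left
        (isSubnormal_of_normal (Subgroup.normal_subgroupOf_of_le_normalizer ?_)) hL.1
      exact (le_inf Subgroup.le_normalizer (Subgroup.le_normalizer.trans
        (normalizer_le_normalizer_centralizer' L))).trans Subgroup.inf_normalizer_le_normalizer_inf
    have hxC : (⟨x, hxH⟩ : H) ∉ Subgroup.centralizer ((L.subgroupOf H : Subgroup H) : Set H) := by
      rw [← heq, Subgroup.mem_subgroupOf]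
      intro hc
      refine IsComponent.ne_bot hL ?_
      rw [← hLx, Subgroup.commutator_comm, Subgroup.commutator_eq_bot_iff_le_centralizer,
        Subgroup.zpowers_le]
      exact hc
    have hxWC : Subgroup.zpowers x ⊔ W ≤ C :=
      sup_le (Subgroup.zpowers_le.mpr (Subgroup.mem_centralizer_singleton_iff.mpr rfl)) hWC
    have hgen : L.subgroupOf H ⊔ Subgroup.centralizer ({(⟨x, hxH⟩ : H)} : Set H) = ⊤ := by
      have h2 : (Subgroup.zpowers x ⊔ W).subgroupOf H ≤
          Subgroup.centralizer ({(⟨x, hxH⟩ : H)} : Set H) := fun u hu =>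
        Subgroup.mem_centralizer_singleton_iff.mpr
          (Subtype.ext (Subgroup.mem_centralizer_singleton_iff.mp (hxWC hu)))
      refine top_le_iff.mp (le_trans ?_ (sup_le_sup_left h2 _))
      rw [← Subgroup.subgroupOf_sup hLH le_sup_right, ← hH]
      exact fun u _ => u.2
    have hres := centralizes_component (W := W.subgroupOf H) hbal'
      ((isQuasisimple_congr (Subgroup.subgroupOfEquivOfLe hLH)).mpr hL.2)
      (by rw [Nat.card_congr (Subgroup.subgroupOfEquivOfLe hLH).toEquiv]
          exact CfsgLib.Signalizer.component_dvd_card hO hL)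
      (by
        refine (((pCore_isPGroup (G := G) p).to_le hZle).comap_of_injective H.subtype
          H.subtype_injective).to_le ?_
        rintro y ⟨hy1, hy2⟩
        rw [← heq] at hy2
        exact ⟨hy1, hy2⟩)
      (by rw [Subgroup.orderOf_mk, hx]) hxC hgen
      (fun w hw => Subgroup.mem_centralizer_singleton_iff.mpr
        (Subtype.ext (Subgroup.mem_centralizer_singleton_iff.mp (hWC hw))))
      (fun u hu => by
        rw [← Subgroup.subgroupOf_normalizer_eq hWH]
        exact hCW (Subgroup.mem_centralizer_singleton_iff.mpr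
          (congrArg Subtype.val (Subgroup.mem_centralizer_singleton_iff.mp hu))))
      (by rwa [Nat.card_congr (Subgroup.subgroupOfEquivOfLe hWH).toEquiv])
      (fun w hw => Subgroup.mem_centralizer_iff.mpr fun y hy => by
        rw [← heq] at hy
        exact Subtype.ext (Subgroup.mem_centralizer_iff.mp (hWR hw) y (hZle ⟨hy.1, hy.2⟩)))
    intro w hw
    have h3 : (⟨w, hWH hw⟩ : H) ∈ W.subgroupOf H := hw
    have h4 := hres h3
    rw [← heq] at h4
    exact h4
  have hWF : W ≤ Subgroup.centralizer (Cfsg.generalizedFittingSubgroup G : Set G) := by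
    rw [← Subgroup.commutator_eq_bot_iff_le_centralizer, Cfsg.generalizedFittingSubgroup,
      commutator_sup_right_eq_bot, hfit]
    refine ⟨?_, Subgroup.commutator_eq_bot_iff_le_centralizer.mpr hWR⟩
    rw [Subgroup.commutator_comm, Subgroup.commutator_eq_bot_iff_le_centralizer]
    refine layer_le_iff.mpr fun L hL => ?_
    rw [← Subgroup.commutator_eq_bot_iff_le_centralizer, Subgroup.commutator_comm,
      Subgroup.commutator_eq_bot_iff_le_centralizer]
    exact hWE L hL
  set Z := Cfsg.generalizedFittingSubgroup G ⊓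
    Subgroup.centralizer (Cfsg.generalizedFittingSubgroup G : Set G) with hZ
  haveI : IsMulCommutative Z := ⟨⟨fun a b => Subtype.ext
    (Subgroup.mem_centralizer_iff.mp b.2.2 a a.2.1)⟩⟩
  haveI := gFitting_normal (G := G)
  have hZ2 : Z ≤ Cfsg.pCore p G := by
    rw [← hfit]
    exact le_fitting inferInstance
      (@CommGroup.isNilpotent Z { (inferInstance : Group Z) with mul_comm := mul_comm' })
  obtain ⟨k, hk⟩ := ((pCore_isPGroup (G := G) p).to_le hZ2).exists_card_eq
  have h5 : W ≤ Z ⊓ W := le_inf (le_inf (hWF.trans centralizer_gFitting_le) hWF) le_rfl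
  rwa [disjoint_iff.mp (Subgroup.disjoint_of_coprime_natCard (hk ▸ (hWcop.pow_right k).symm))] at h5

/-- Let G be finite with O_{p'}(G) = 1. Suppose that for every component L of G and every subgroup H ≥ L in which L is normal, the quotient H / C_H(L) is balanced for the prime p. Then G is balanced for p. -/
theorem result {G : Type*} [Group G] [Finite G] (p : ℕ) [Fact p.Prime] (hO : Cfsg.pPrimeCore p G = ⊥) (h : ∀ L : Subgroup G, Cfsg.IsComponent L → ∀ H : Subgroup G, L ≤ H → (L.subgroupOf H).Normal → ∀ [((Subgroup.centralizer (L : Set G)).subgroupOf H).Normal], Cfsg.IsBalancedFor p (↥H ⧸ (Subgroup.centralizer (L : Set G)).subgroupOf H)) : Cfsg.IsBalancedFor p G := by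
  exact key p hO h

end Cfsg.Agent.S1271
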