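import Cfsg.Statements.S1273
import Cfsg.Agent.Lib.Components.PComponentExtra

set_option autoImplicit false
open Cfsg

namespace Cfsg.Agent.S1273

/-- Let K be a p-component of the finite group X and N a normal subgroup of K whose index in K is prime to p. Then N = K. -/
theorem result {X : Type*} [Group X] [Finite X] (p : ℕ) [Fact p.Prime] (K : Subgroup X) (hK : Cfsg.IsPComponent p K) (N : Subgroup ↥K) [N.Normal] (hidx : (N.index).Coprime p) : N = ⊤ := by
  rw [eq_top_iff]
  intro x _
  have h : K ≤ N.map K.subtype := by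
    conv_lhs => rw [← CfsgLib.Signalizer.pComponent_pGen_eq hK]
    refine CfsgLib.Signalizer.pGen_le_iff.mpr fun y hy k hk => ⟨⟨y, hy⟩, ?_, rfl⟩
    rw [SetLike.mem_coe, ← QuotientGroup.eq_one_iff, ← orderOf_eq_one_iff]
    refine Nat.eq_one_of_dvd_coprimes (hidx.pow_right k) ?_ ?_
    · rw [Subgroup.index_eq_card]
      exact orderOf_dvd_natCard _
    · refine (orderOf_map_dvd (QuotientGroup.mk' N) ⟨y, hy⟩).trans ?_
      exact orderOf_dvd_of_pow_eq_one (Subtype.ext hk)
  obtain ⟨z, hz, e⟩ := h x.2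
  rwa [← Subtype.ext e]

end Cfsg.Agent.S1273
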