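import Cfsg.Statements.S1277
import Cfsg.Agent.Lib.Components.PLayer

set_option autoImplicit false
open Cfsg

namespace Cfsg.Agent.S1277

open CfsgLib.Components

/-- For a finite group X with core O(X): the image of E(X) in X / O(X) is all of E(X / O(X)) if and only if every 2-component of X is a component, i.e. L_{2'}(X) ≤ E(X). -/
theorem result {X : Type*} [Group X] [Finite X] : (Cfsg.layer X).map (QuotientGroup.mk' (Cfsg.oddCore X)) = Cfsg.layer (X ⧸ Cfsg.oddCore X) ↔ Cfsg.pLayer 2 X ≤ Cfsg.layer X := by
  haveI : Fact (Nat.Prime 2) := ⟨Nat.prime_two⟩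
  set f := QuotientGroup.mk' (Cfsg.oddCore X)
  have hf : Function.Surjective f := QuotientGroup.mk'_surjective _
  have hle : (Cfsg.layer X).map f ≤ Cfsg.layer (X ⧸ Cfsg.oddCore X) := by
    rw [Subgroup.map_le_iff_le_comap, layer_le_iff]
    intro L hL
    rw [← Subgroup.map_le_iff_le_comap]
    by_cases h : L.map f = ⊥
    · rw [h]; exact bot_le
    · exact le_layer (isComponent_map_of_surjective hf hL h)
  constructor
  · intro h
    refine sSup_le fun K hK => ?_
    by_contra hKE
    set Kb := K.map f with hKb
    have hKc : Cfsg.IsComponent Kb := hK.2.1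
    have hcomm : ⁅Kb, Cfsg.layer (X ⧸ Cfsg.oddCore X)⁆ = ⊥ := by
      rw [← h, Subgroup.commutator_comm, Subgroup.commutator_eq_bot_iff_le_centralizer,
        Subgroup.map_le_iff_le_comap, layer_le_iff]
      intro L hL
      rw [← Subgroup.map_le_iff_le_comap]
      by_cases h0 : L.map f = ⊥
      · rw [h0]; exact bot_le
      have hLc := isComponent_map_of_surjective hf hL h0
      rcases components_eq_or_commute hLc hKc with he | he
      · exfalso
        refine hKE ?_
        have hLp : Cfsg.IsPComponent 2 L := by
          refine ⟨hL.1, hLc, fun H hH hHL hHeq => ?_⟩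
          rcases IsQuasisimple.subnormal_eq_top_or_le_center hL.2 hH.subgroupOf with ht | hc
          · exact le_antisymm hHL (Subgroup.subgroupOf_eq_top.mp ht)
          exfalso
          apply h0
          have hz : ⁅H, H⁆ = ⊥ := by
            rw [Subgroup.commutator_eq_bot_iff_le_centralizer]
            intro y hy
            refine Subgroup.mem_centralizer_iff.mpr fun z hz => ?_
            exact congrArg Subtype.val (Subgroup.mem_center_iff.mp
              (hc (show (⟨y, hHL hy⟩ : L) ∈ H.subgroupOf L from hy)) ⟨z, hHL hz⟩)
          change H.map f = L.map f at hHeq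
          rw [← IsComponent.commutator_eq_self hLc, ← hHeq, ← Subgroup.map_commutator, hz,
            Subgroup.map_bot]
        rw [← CfsgLib.Signalizer.pComponent_map_injective hLp hK he]
        exact le_layer hL
      · exact Subgroup.commutator_eq_bot_iff_le_centralizer.mp he
    refine IsComponent.ne_bot hKc ?_
    rw [eq_bot_iff, ← IsComponent.commutator_eq_self hKc]
    exact (Subgroup.commutator_mono le_rfl (le_layer hKc)).trans hcomm.le
  · intro h
    refine le_antisymm hle ?_
    have h2 := CfsgLib.Signalizer.pLayer_map (G := X) (p := 2)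
    rw [← h2]
    exact Subgroup.map_mono h

end Cfsg.Agent.S1277
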