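import Cfsg.Statements.S1281
import Cfsg.Agent.Lib.Signalizer.Basic

set_option autoImplicit false
open Cfsg

namespace Cfsg.Agent.S1281

/-- Let θ be a solvable A-signalizer functor on the finite group G (A a noncyclic elementary abelian p-subgroup) and N a normal subgroup of order prime to p. Then for all non-identity a, b ∈ A, the image of θ a in G / N meets the centralizer of the image of b inside the image of θ b. -/
theorem result {G : Type*} [Group G] [Finite G] (p : ℕ) [Fact p.Prime] (A : Subgroup G) (hA : Cfsg.IsElementaryAbelian p A) (hA2 : p ^ 2 ≤ Nat.card ↥A) (θ : G → Subgroup G) (hθ : Cfsg.IsSolvableSignalizerFunctor p A θ) (N : Subgroup G) [N.Normal] (hN : ¬ p ∣ Nat.card ↥N) (a b : G) (ha : a ∈ A) (ha1 : a ≠ 1) (hb : b ∈ A) (hb1 : b ≠ 1) : (θ a).map (QuotientGroup.mk' N) ⊓ Subgroup.centralizer {QuotientGroup.mk' N b} ≤ (θ b).map (QuotientGroup.mk' N) := by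
  rintro _ ⟨⟨x, hx, rfl⟩, hxb⟩
  replace hxb := Subgroup.mem_centralizer_singleton_iff.mp hxb
  have hAθ := CfsgLib.Signalizer.theta_le_normalizer hθ.1 ha ha1
  have hzb : Subgroup.zpowers b ≤ A := Subgroup.zpowers_le.mpr hb
  have hK : Subgroup.zpowers b ≤ Subgroup.normalizer ((θ a ⊓ N : Subgroup G) : Set G) :=
    hzb.trans (CfsgLib.Signalizer.le_normalizer_inf hAθ
      ((Subgroup.normalizer_eq_top N).symm ▸ le_top))
  obtain ⟨n, hn, hc⟩ := CfsgLib.Core.exists_centralizing_in_coset (A := Subgroup.zpowers b)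
    (N := θ a ⊓ N) hK
    (CfsgLib.Signalizer.coprime_card_of_pGroup
      ((CfsgLib.Signalizer.elementary_isPGroup hA).to_le hzb)
      (CfsgLib.Signalizer.not_dvd_of_le hN inf_le_right))
    (Or.inl inferInstance) (k := x) (by
      intro c hc
      refine ⟨(θ a).mul_mem ((θ a).inv_mem hx) (hθ.1.2.2.1 a ha ha1 c (hzb hc) x hx), ?_⟩
      show x⁻¹ * (c * x * c⁻¹) ∈ N
      obtain ⟨k, rfl⟩ := Subgroup.mem_zpowers_iff.mp hc
      rw [← QuotientGroup.eq, QuotientGroup.mk_mul, QuotientGroup.mk_mul, QuotientGroup.mk_inv,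
        QuotientGroup.mk_zpow]
      have hcomm : Commute (b : G ⧸ N) (x : G ⧸ N) := hxb.symm
      rw [(hcomm.zpow_left k).eq, mul_inv_cancel_right])
  refine ⟨x * n, hθ.1.2.2.2 a ha ha1 b hb hb1 ⟨mul_mem hx hn.1,
    Subgroup.centralizer_le (Set.singleton_subset_iff.mpr (Subgroup.mem_zpowers b)) hc⟩, ?_⟩
  rw [map_mul, show QuotientGroup.mk' N n = 1 from (QuotientGroup.eq_one_iff n).mpr hn.2, mul_one]

end Cfsg.Agent.S1281
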