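import Cfsg.Statements.S1284
import Cfsg.Agent.Lib.Signalizer.Transitivity

set_option autoImplicit false
open Cfsg

namespace Cfsg.Agent.S1284

/-- Let θ be a solvable A-signalizer functor on the finite group G, A elementary abelian of rank at least 3, q a prime dividing some |θ a|, and Q maximal among the q-subgroups in the family of θ. Then (a) for every member H of the family, some c in the intersection of the θ a (a ∈ A non-identity) makes c Q c⁻¹ ∩ H a Sylow q-subgroup of H; and (b) for every nontrivial subgroup B ≤ A, C_Q(B) is a Sylow q-subgroup of the intersection of the θ b over the non-identity b ∈ B. -/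
theorem result {G : Type*} [Group G] [Finite G] (p : ℕ) [Fact p.Prime] (A : Subgroup G) (hA : Cfsg.IsElementaryAbelian p A) (hA3 : p ^ 3 ≤ Nat.card ↥A) (θ : G → Subgroup G) (hθ : Cfsg.IsSolvableSignalizerFunctor p A θ) (q : ℕ) [Fact q.Prime] (hq : ∃ a ∈ A, a ≠ 1 ∧ q ∣ Nat.card ↥(θ a)) (Q : Subgroup G) (hQW : Q ∈ Cfsg.signalizerFamily p A θ) (hQq : IsPGroup q ↥Q) (hQmax : ∀ R ∈ Cfsg.signalizerFamily p A θ, IsPGroup q ↥R → Q ≤ R → R = Q) : (∀ H : Subgroup G, H ∈ Cfsg.signalizerFamily p A θ → ∃ c ∈ Cfsg.signalizerInf A θ, ∃ S : Sylow q ↥H, (S : Subgroup ↥H).map H.subtype = Q.map (MulAut.conj c).toMonoidHom ⊓ H) ∧ (∀ B : Subgroup G, B ≤ A → B ≠ ⊥ → ∃ S : Sylow q ↥(Cfsg.signalizerInf B θ), (S : Subgroup ↥(Cfsg.signalizerInf B θ)).map (Cfsg.signalizerInf B θ).subtype = Q ⊓ Subgroup.centralizer (B : Set G)) := by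
  have hQ : CfsgLib.Signalizer.IsMaxMember p A θ q Q := ⟨hQW, hQq, hQmax⟩
  refine ⟨fun H hH => CfsgLib.Signalizer.meets_in_sylow hA hA3 hθ hQ hH, fun B hB hB1 => ?_⟩
  have hBF := CfsgLib.Signalizer.inf_mem_family hθ hB hB1
  rw [CfsgLib.Signalizer.family_inf_centralizer_eq hθ.1 hQW hB]
  obtain ⟨c, hc, S, hS⟩ := CfsgLib.Signalizer.meets_in_sylow hA hA3 hθ hQ hBF
  have hcB : c ∈ (Cfsg.signalizerInf B θ) := CfsgLib.Signalizer.mem_inf_iff.mpr fun b hb hb1 =>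
    CfsgLib.Signalizer.mem_inf_iff.mp hc b (hB hb) hb1
  refine ⟨(⟨c, hcB⟩ : (Cfsg.signalizerInf B θ))⁻¹ • S, ?_⟩
  ext x
  constructor
  · rintro ⟨y, hy, rfl⟩
    rw [SetLike.mem_coe, CfsgLib.Transfer.mem_inv_smul_sylow] at hy
    have h1 : c * (y : G) * c⁻¹ ∈ Q.map (MulAut.conj c).toMonoidHom ⊓ (Cfsg.signalizerInf B θ) :=
      hS.le ⟨_, hy, rfl⟩
    refine ⟨?_, y.2⟩
    have h2 := CfsgLib.Transfer.mem_map_conj.mp h1.1
    simpa [mul_assoc] using h2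
  · rintro ⟨hxQ, hxT⟩
    refine ⟨⟨x, hxT⟩, ?_, rfl⟩
    rw [SetLike.mem_coe, CfsgLib.Transfer.mem_inv_smul_sylow]
    have h1 : c * x * c⁻¹ ∈ (S : Subgroup (Cfsg.signalizerInf B θ)).map (Cfsg.signalizerInf B θ).subtype :=
      hS.ge (Subgroup.mem_inf.mpr ⟨⟨x, hxQ, rfl⟩, mul_mem (mul_mem hcB hxT) (inv_mem hcB)⟩)
    obtain ⟨y, hy, he⟩ := h1
    rwa [show (⟨c, hcB⟩ : (Cfsg.signalizerInf B θ)) * ⟨x, hxT⟩ * (⟨c, hcB⟩ : (Cfsg.signalizerInf B θ))⁻¹ = y from Subtype.ext he.symm]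

end Cfsg.Agent.S1284
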