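import Cfsg.Statements.S1285
import Cfsg.Agent.Lib.Signalizer.Transitivity

set_option autoImplicit false
open Cfsg

namespace Cfsg.Agent.S1285

/-- Let θ be a solvable A-signalizer functor on the finite group G with A elementary abelian of rank at least 3, and suppose that for some prime q every θ a (a ∈ A non-identity) is a q-group. Then θ is complete. -/
theorem result {G : Type*} [Group G] [Finite G] (p : ℕ) [Fact p.Prime] (A : Subgroup G) (hA : Cfsg.IsElementaryAbelian p A) (hA3 : p ^ 3 ≤ Nat.card ↥A) (θ : G → Subgroup G) (hθ : Cfsg.IsSolvableSignalizerFunctor p A θ) (q : ℕ) [Fact q.Prime] (hq : ∀ a ∈ A, a ≠ 1 → IsPGroup q ↥(θ a)) : Cfsg.IsCompleteSignalizerFunctor p A θ := by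
  refine ⟨hθ.1, ?_⟩
  obtain ⟨Q, -, hQ⟩ := CfsgLib.Signalizer.exists_maxMember (q := q)
    (CfsgLib.Signalizer.family_bot (p := p) (A := A) (θ := θ)) IsPGroup.of_bot
  refine ⟨Q, hQ.1.2.2.1, hQ.1.2.1, fun a ha ha1 => le_antisymm (hQ.1.2.2.2 a ha ha1) ?_⟩
  refine le_inf ?_ (hθ.1.1 a ha ha1)
  obtain ⟨c, hc, S, hS⟩ := CfsgLib.Signalizer.meets_in_sylow hA hA3 hθ hQ
    (CfsgLib.Signalizer.theta_mem_family hθ ha ha1)
  intro x hx
  have hSt : (S : Subgroup (θ a)) = ⊤ := S.3 (hq a ha ha1 |>.to_subgroup ⊤) le_top |>.symm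
  have hcθ := CfsgLib.Signalizer.mem_inf_iff.mp hc a ha ha1
  have h1 : c * x * c⁻¹ ∈ Q.map (MulAut.conj c).toMonoidHom ⊓ θ a :=
    hS ▸ ⟨⟨c * x * c⁻¹, mul_mem (mul_mem hcθ hx) (inv_mem hcθ)⟩, hSt ▸ Subgroup.mem_top _, rfl⟩
  have h2 := CfsgLib.Transfer.mem_map_conj.mp h1.1
  simpa [mul_assoc] using h2

end Cfsg.Agent.S1285
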