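import Cfsg.Statements.S1286
import Cfsg.Agent.Lib.Signalizer.Involutions

set_option autoImplicit false
open Cfsg

namespace Cfsg.Agent.S1286

/-- There exist a finite group X, an elementary abelian subgroup A of order 4 and a solvable A-signalizer functor θ on X for the prime 2 which is not complete. -/
theorem result : ∃ (X : Type) (_ : Group X) (_ : Finite X) (A : Subgroup X) (θ : X → Subgroup X), Cfsg.IsElementaryAbelian 2 A ∧ Nat.card ↥A = 4 ∧ Cfsg.IsSolvableSignalizerFunctor 2 A θ ∧ ¬ Cfsg.IsCompleteSignalizerFunctor 2 A θ := by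
  classical
  let a : Equiv.Perm (Fin 5) := Equiv.swap 0 1
  let b : Equiv.Perm (Fin 5) := Equiv.swap 2 3
  let c : Equiv.Perm (Fin 5) := Equiv.swap 2 3 * Equiv.swap 3 4
  let d : Equiv.Perm (Fin 5) := Equiv.swap 0 1 * Equiv.swap 1 4
  let A : Subgroup (Equiv.Perm (Fin 5)) :=
    { carrier := {x | x = 1 ∨ x = a ∨ x = b ∨ x = a * b}
      mul_mem' := by
        rintro x y (rfl | rfl | rfl | rfl) (rfl | rfl | rfl | rfl) <;>
          simp only [Set.mem_ofPred_eq] <;> decide
      one_mem' := Or.inl rfl
      inv_mem' := by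
        rintro x (rfl | rfl | rfl | rfl) <;> simp only [Set.mem_ofPred_eq] <;> decide }
  have hA : ∀ {x}, x ∈ A → x = 1 ∨ x = a ∨ x = b ∨ x = a * b := fun h => h
  let θ : Equiv.Perm (Fin 5) → Subgroup (Equiv.Perm (Fin 5)) :=
    fun x => if x = a then Subgroup.zpowers c else if x = b then Subgroup.zpowers d else ⊥
  have hθa : θ a = Subgroup.zpowers c := if_pos rfl
  have hθb : θ b = Subgroup.zpowers d := by
    show (if b = a then _ else _) = _
    rw [if_neg (by decide), if_pos rfl]
  have hθab : θ (a * b) = ⊥ := by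
    show (if a * b = a then _ else _) = _
    rw [if_neg (by decide), if_neg (by decide)]
  have hc : ∀ {x}, x ∈ Subgroup.zpowers c → x = 1 ∨ x = c ∨ x = c * c := by
    intro x hx
    obtain ⟨k, rfl⟩ := Subgroup.mem_zpowers_iff.mp hx
    have h3 : c ^ (3 : ℤ) = 1 := by decide
    rw [← Int.emod_add_mul_ediv k 3, zpow_add, zpow_mul, h3, one_zpow, mul_one]
    have h0 : 0 ≤ k % 3 := Int.emod_nonneg _ (by norm_num)
    have h1 : k % 3 < 3 := Int.emod_lt_of_pos _ (by norm_num)
    interval_cases (k % 3)
    · exact Or.inl rfl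
    · exact Or.inr (Or.inl rfl)
    · exact Or.inr (Or.inr rfl)
  have hd : ∀ {x}, x ∈ Subgroup.zpowers d → x = 1 ∨ x = d ∨ x = d * d := by
    intro x hx
    obtain ⟨k, rfl⟩ := Subgroup.mem_zpowers_iff.mp hx
    have h3 : d ^ (3 : ℤ) = 1 := by decide
    rw [← Int.emod_add_mul_ediv k 3, zpow_add, zpow_mul, h3, one_zpow, mul_one]
    have h0 : 0 ≤ k % 3 := Int.emod_nonneg _ (by norm_num)
    have h1 : k % 3 < 3 := Int.emod_lt_of_pos _ (by norm_num)
    interval_cases (k % 3)
    · exact Or.inl rfl
    · exact Or.inr (Or.inl rfl)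
    · exact Or.inr (Or.inr rfl)
  refine ⟨Equiv.Perm (Fin 5), inferInstance, inferInstance, A, θ, ⟨?_, ?_⟩, ?_, ⟨⟨?_, ?_, ?_, ?_⟩, ?_⟩, ?_⟩
  · refine ⟨⟨fun x y => Subtype.ext ?_⟩⟩
    show (x : Equiv.Perm (Fin 5)) * y = y * x
    rcases hA x.2 with e | e | e | e <;> rcases hA y.2 with e' | e' | e' | e' <;>
      rw [e, e'] <;> decide
  · intro x hx
    rcases hA hx with e | e | e | e <;> rw [e] <;> decide
  · show Nat.card {x : Equiv.Perm (Fin 5) // x = 1 ∨ x = a ∨ x = b ∨ x = a * b} = 4
    rw [Nat.card_eq_fintype_card, Fintype.card_subtype]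
    decide
  · intro x hx hx1 y hy
    rw [Subgroup.mem_centralizer_singleton_iff]
    rcases hA hx with e | e | e | e
    · exact absurd e hx1
    · rw [e, hθa] at hy; rcases hc hy with f | f | f <;> rw [e, f] <;> decide
    · rw [e, hθb] at hy; rcases hd hy with f | f | f <;> rw [e, f] <;> decide
    · rw [e, hθab, Subgroup.mem_bot] at hy; rw [e, hy]; decide
  · intro x hx hx1
    rcases hA hx with e | e | e | e
    · exact absurd e hx1
    · rw [e, hθa, Nat.card_zpowers, orderOf_eq_prime (p := 3) (by decide) (by decide)]; decide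
    · rw [e, hθb, Nat.card_zpowers, orderOf_eq_prime (p := 3) (by decide) (by decide)]; decide
    · rw [e, hθab, Subgroup.card_bot]; decide
  · intro x hx hx1 y hy z hz
    rcases hA hx with e | e | e | e
    · exact absurd e hx1
    · rw [e, hθa] at hz ⊢
      rcases hA hy with g | g | g | g <;> rcases hc hz with f | f | f <;> rw [g, f] <;>
        first
          | exact Subgroup.mem_zpowers_iff.mpr ⟨(0 : ℤ), by decide⟩
          | exact Subgroup.mem_zpowers_iff.mpr ⟨(1 : ℤ), by decide⟩
          | exact Subgroup.mem_zpowers_iff.mpr ⟨(2 : ℤ), by decide⟩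
    · rw [e, hθb] at hz ⊢
      rcases hA hy with g | g | g | g <;> rcases hd hz with f | f | f <;> rw [g, f] <;>
        first
          | exact Subgroup.mem_zpowers_iff.mpr ⟨(0 : ℤ), by decide⟩
          | exact Subgroup.mem_zpowers_iff.mpr ⟨(1 : ℤ), by decide⟩
          | exact Subgroup.mem_zpowers_iff.mpr ⟨(2 : ℤ), by decide⟩
    · rw [e, hθab, Subgroup.mem_bot] at hz ⊢
      rw [hz, mul_one, mul_inv_cancel]
  · intro x hx hx1 y hy hy1
    intro z hz0
    have hz := (Subgroup.mem_inf.mp hz0).1
    have hz' := Subgroup.mem_centralizer_singleton_iff.mp (Subgroup.mem_inf.mp hz0).2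
    rcases hA hx with e | e | e | e
    · exact absurd e hx1
    · rw [e, hθa] at hz
      rcases hA hy with g | g | g | g
      · exact absurd g hy1
      · rw [g, hθa]; exact hz
      all_goals
        rw [g] at hz'
        rcases hc hz with f | f | f <;> rw [f] at hz' ⊢ <;>
          first
            | exact one_mem _
            | exact absurd hz' (by decide)
    · rw [e, hθb] at hz
      rcases hA hy with g | g | g | g
      · exact absurd g hy1
      · rw [g] at hz'
        rcases hd hz with f | f | f <;> rw [f] at hz' ⊢ <;>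
          first
            | exact one_mem _
            | exact absurd hz' (by decide)
      · rw [g, hθb]; exact hz
      · rw [g] at hz'
        rcases hd hz with f | f | f <;> rw [f] at hz' ⊢ <;>
          first
            | exact one_mem _
            | exact absurd hz' (by decide)
    · rw [e, hθab, Subgroup.mem_bot] at hz
      rw [hz]; exact one_mem _
  · intro x hx hx1
    rcases hA hx with e | e | e | e
    · exact absurd e hx1
    all_goals
      rw [e]
      first | rw [hθa] | rw [hθb] | rw [hθab]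
      infer_instance
  · rintro ⟨-, X, -, hX2, hX⟩
    have hcX : c ∈ X := by
      have : c ∈ θ a := hθa ▸ Subgroup.mem_zpowers c
      rw [← hX a (Or.inr (Or.inl rfl)) (by decide)] at this
      exact this.1
    have hdX : d ∈ X := by
      have : d ∈ θ b := hθb ▸ Subgroup.mem_zpowers d
      rw [← hX b (Or.inr (Or.inr (Or.inl rfl))) (by decide)] at this
      exact this.1
    have hw : c * c * d * c * d ∈ X := mul_mem (mul_mem (mul_mem (mul_mem hcX hcX) hdX) hcX) hdX
    have hord : orderOf (c * c * d * c * d) = 2 := orderOf_eq_prime (by decide) (by decide)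
    exact hX2 (hord ▸ X.orderOf_dvd_natCard hw)

end Cfsg.Agent.S1286
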