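import Cfsg.Statements.S1288
import Cfsg.Agent.Lib.Signalizer.Factorization
import Cfsg.Agent.Lib.PLocal.PConstrained
import Cfsg.Agent.Lib.Core.SolvableStruct

set_option autoImplicit false
open Cfsg

namespace Cfsg.Agent.S1288

open Subgroup CfsgLib
open scoped commutatorElement

theorem pPrimePCore_characteristic (q : ℕ) (K : Type*) [Group K] [Finite K] :
    (Cfsg.pPrimePCore q K).Characteristic := by
  refine characteristic_iff_le_comap.mpr fun φ x hx => ?_
  have hO : (Cfsg.pPrimeCore q K).map φ.toMonoidHom = Cfsg.pPrimeCore q K :=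
    Core.map_equiv_pPrimeCore φ
  let ψ := QuotientGroup.congr (Cfsg.pPrimeCore q K) (Cfsg.pPrimeCore q K) φ hO
  show QuotientGroup.mk' _ (φ x) ∈ Cfsg.pCore q (K ⧸ Cfsg.pPrimeCore q K)
  rw [← Core.map_equiv_pCore ψ]
  exact ⟨_, hx, rfl⟩

theorem normalizer_le_normalizer_map_char {H : Type*} [Group H] (K : Subgroup H) (M : Subgroup ↥K)
    [M.Characteristic] : normalizer (K : Set H) ≤ normalizer (M.map K.subtype : Set H) := by
  intro g hg
  rw [Core.mem_normalizer_iff_conj_smul_eq, Core.conj_smul_eq_map, map_map]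
  conv_rhs => rw [← characteristic_iff_map_eq.mp ‹M.Characteristic› (normalizerMonoidHom K ⟨g, hg⟩),
    map_map]
  rfl

/-- Let A be a noncyclic elementary abelian p-subgroup of a finite group H normalizing a solvable subgroup K of order prime to p, q a prime dividing |K|, and U ≤ K a subgroup of order prime to q such that ⁅U, C_K(B)⁆ has order prime to q for every subgroup B of index p in A. Then U ≤ O_{q'}(K). -/
theorem result {H : Type*} [Group H] [Finite H] (p : ℕ) [Fact p.Prime] (A K : Subgroup H) (hA : Cfsg.IsElementaryAbelian p A) (hA2 : p ^ 2 ≤ Nat.card ↥A) (hK : ¬ p ∣ Nat.card ↥K) (hKs : Group.IsSolvable ↥K) (hAK : A ≤ Subgroup.normalizer (K : Set H)) (q : ℕ) [Fact q.Prime] (hqK : q ∣ Nat.card ↥K) (U : Subgroup H) (hU : U ≤ K) (hUq : ¬ q ∣ Nat.card ↥U) (hcomm : ∀ B : Subgroup H, B ≤ A → B.relIndex A = p → ¬ q ∣ Nat.card ↥⁅U, K ⊓ Subgroup.centralizer (B : Set H)⁆) : U ≤ (Cfsg.pPrimeCore q ↥K).map K.subtype := by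
  have hcop : (Nat.card ↥A).Coprime (Nat.card ↥K) :=
    Signalizer.coprime_card_of_pGroup (Signalizer.elementary_isPGroup hA) hK
  have hsol : Group.IsSolvable ↥A :=
    Group.isSolvable_of_comm fun a b => hA.1.is_comm.comm a b
  set O := Cfsg.pPrimeCore q ↥K with hO
  let M0 := Cfsg.pPrimePCore q ↥K
  have := pPrimePCore_characteristic q ↥K
  set M := M0.map K.subtype
  have hAM : A ≤ normalizer (M : Set H) := hAK.trans (normalizer_le_normalizer_map_char K M0)
  have hMK : M ≤ K := map_subtype_le _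
  obtain ⟨T, -, hTM, hTA, hTc⟩ := Signalizer.exists_invariant_qpart_ge (q := q) hAM
    (hcop.coprime_dvd_right (card_dvd_of_le hMK)) hsol bot_le IsPGroup.of_bot
    (le_top.trans (normalizer_eq_top (⊥ : Subgroup H)).ge)
  have hTK : T ≤ K := hTM.trans hMK
  let π := QuotientGroup.mk' O
  let U0 := U.subgroupOf K
  let W : Subgroup H := ((centralizer ((U0.map π : Subgroup (↥K ⧸ O)) : Set (↥K ⧸ O))).comap π).map K.subtype
  -- fixed points of hyperplanes of `T` centralize `U` modulo `O`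
  have hTW : T ≤ W := by
    refine Signalizer.le_of_hyperplanes_le hA (Signalizer.not_dvd_of_le hK hTK) hTA
      fun B hB hBi => ?_
    obtain ⟨B', hB'B, hB'A, hB'i⟩ : ∃ B' ≤ B, B' ≤ A ∧ B'.relIndex A = p := by
      have hne : B.relIndex A ≠ 0 := index_ne_zero_of_finite
      obtain ⟨n, hn⟩ := (Signalizer.elementary_isPGroup hA).index (B.subgroupOf A)
      rcases Nat.eq_zero_or_pos n with rfl | hn0
      · obtain ⟨m, hm⟩ := (Signalizer.elementary_isPGroup hA).exists_card_eq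
        have hm2 : 2 ≤ m := (Nat.pow_le_pow_iff_right (Fact.out : p.Prime).one_lt).mp (hm ▸ hA2)
        obtain ⟨C, hC⟩ := Sylow.exists_subgroup_card_pow_prime (G := ↥A) p (n := m - 1)
          (hm ▸ pow_dvd_pow p (by omega))
        refine ⟨C.map A.subtype, (map_subtype_le _).trans (relIndex_eq_one.mp ?_), map_subtype_le _, ?_⟩
        · rw [relIndex, hn, pow_zero]
        · have h1 := relIndex_mul_relIndex ⊥ (C.map A.subtype) A bot_le (map_subtype_le _)
          rw [relIndex_bot_left, relIndex_bot_left, card_map_of_injective A.subtype_injective, hC,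
            hm] at h1
          refine Nat.eq_of_mul_eq_mul_left (Nat.pow_pos (Fact.out : p.Prime).pos (n := m - 1)) ?_
          rw [h1, ← pow_succ, Nat.sub_add_cancel (by omega)]
      · refine ⟨B, le_rfl, hB, le_antisymm hBi ?_⟩
        rw [relIndex, hn]
        exact Nat.le_self_pow hn0.ne' p
    intro x hx
    have hxC : x ∈ K ⊓ centralizer (B' : Set H) :=
      ⟨hTK hx.1, centralizer_le (SetLike.coe_subset_coe.mpr hB'B) hx.2⟩
    refine ⟨⟨x, hTK hx.1⟩, mem_centralizer_iff.mpr ?_, rfl⟩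
    rintro _ ⟨u, hu, rfl⟩
    rw [← commutatorElement_eq_one_iff_mul_comm, ← map_commutatorElement, ← MonoidHom.mem_ker,
      QuotientGroup.ker_mk']
    set N := ⁅U, K ⊓ centralizer (B' : Set H)⁆
    have hN : ((⁅u, ⟨x, hTK hx.1⟩⁆ : ↥K) : H) ∈ N := commutator_mem_commutator hu hxC
    have hq : (orderOf ⁅u, (⟨x, hTK hx.1⟩ : ↥K)⁆).Coprime q := by
      rw [← Subgroup.orderOf_coe]
      exact ((Fact.out : q.Prime).coprime_iff_not_dvd.mpr fun hd =>
        hcomm B' hB'A hB'i (hd.trans (Subgroup.orderOf_dvd_natCard _ hN))).symm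
    have hxM : (⟨x, hTK hx.1⟩ : ↥K) ∈ M0 := by
      obtain ⟨y, hy, hyx⟩ := hTM hx.1
      rwa [show (⟨x, hTK hx.1⟩ : ↥K) = y from Subtype.ext hyx.symm]
    have hcM : ⁅u, (⟨x, hTK hx.1⟩ : ↥K)⁆ ∈ M0 := by
      rw [commutatorElement_def]
      exact mul_mem (Normal.conj_mem inferInstance _ hxM u) (inv_mem hxM)
    obtain ⟨k, hk⟩ := Core.isPGroup_pCore q (↥K ⧸ O) ⟨π ⁅u, (⟨x, hTK hx.1⟩ : ↥K)⁆, hcM⟩
    have h1 : orderOf (π ⁅u, (⟨x, hTK hx.1⟩ : ↥K)⁆) ∣ q ^ k :=
      orderOf_dvd_of_pow_eq_one (congrArg Subtype.val hk)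
    have h2 := Nat.eq_one_of_dvd_coprimes (hq.pow_right k)
      (orderOf_map_dvd π _) h1
    exact (QuotientGroup.eq_one_iff _).mp (orderOf_eq_one_iff.mp h2)
  -- the image of `T` is `O_q`
  let P : Sylow q ↥M0 := Sylow.ofCard ((T.subgroupOf K).subgroupOf M0) (by
    rw [show Nat.card ↥M0 = Nat.card ↥M from (card_map_of_injective K.subtype_injective).symm, ← hTc]
    refine (Nat.card_congr (subgroupOfEquivOfLe ?_).toEquiv).trans
      (Nat.card_congr (subgroupOfEquivOfLe hTK).toEquiv)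
    intro y hy
    obtain ⟨z, hz, hzy⟩ := hTM hy
    exact Subtype.ext hzy ▸ hz)
  have hsup := PLocal.sylow_sup_pPrimeCore P
  have hT0 : (T.subgroupOf K).map π = Cfsg.pCore q (↥K ⧸ O) := by
    have h := congrArg (Subgroup.map π) hsup
    rw [Subgroup.map_sup, PLocal.map_pPrimePCore, show O.map π = ⊥ from QuotientGroup.map_mk'_self _,
      sup_bot_eq] at h
    rw [← h, Sylow.coe_ofCard, map_subgroupOf_eq_of_le]
    intro y hy
    obtain ⟨z, hz, hzy⟩ := hTM hy
    exact Subtype.ext hzy ▸ hz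
  have hUc : U0.map π ≤ centralizer (Cfsg.pCore q (↥K ⧸ O) : Set (↥K ⧸ O)) := by
    rw [← hT0, le_centralizer_iff]
    rintro _ ⟨t, ht, rfl⟩
    obtain ⟨t', ht', htt⟩ := hTW ht
    rwa [show t = t' from Subtype.ext htt.symm]
  intro u hu
  refine ⟨⟨u, hU hu⟩, ?_, rfl⟩
  obtain ⟨k, hk⟩ := Core.isPGroup_pCore q (↥K ⧸ O) ⟨π ⟨u, hU hu⟩,
    Core.centralizer_pCore_le_of_pPrimeCore_eq_bot (Core.pPrimeCore_quotient_pPrimeCore q ↥K)
      (hUc (mem_map_of_mem π (show (⟨u, hU hu⟩ : ↥K) ∈ U0 from hu)))⟩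
  have hcq : (orderOf (⟨u, hU hu⟩ : ↥K)).Coprime q := by
    rw [Subgroup.orderOf_mk]
    exact ((Fact.out : q.Prime).coprime_iff_not_dvd.mpr fun hd =>
      hUq (hd.trans (Subgroup.orderOf_dvd_natCard _ hu))).symm
  exact (QuotientGroup.eq_one_iff _).mp (orderOf_eq_one_iff.mp
    (Nat.eq_one_of_dvd_coprimes (hcq.pow_right k) (orderOf_map_dvd π _)
      (orderOf_dvd_of_pow_eq_one (congrArg Subtype.val hk))))

end Cfsg.Agent.S1288
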