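import Cfsg.Statements.S1292
import Cfsg.Agent.Lib.LocalEvenB.CharP
import Cfsg.Agent.Lib.Signalizer.Basic

set_option autoImplicit false
open Cfsg

namespace Cfsg.Agent.S1292

open Subgroup CfsgLib.LocalEvenB

variable {G : Type*} [Group G] {p : ℕ}

theorem normalizer_le_normalizer_pCoreOf [Finite G] (C : Subgroup G) :
    normalizer (C : Set G) ≤ normalizer (pCoreOf p C : Set G) := by
  intro g hg
  refine mem_normalizer_of_forall ?_
  rintro _ ⟨x, hx, rfl⟩
  have h := CfsgLib.Core.map_equiv_pCore (p := p) (normalizerMonoidHom C ⟨g, hg⟩)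
  exact ⟨normalizerMonoidHom C ⟨g, hg⟩ x, h.le (mem_map_of_mem _ hx), rfl⟩

/-- Let G be a finite group such that F*(C_G(t)) = O_2(C_G(t)) for every involution t. Then F*(N_G(T)) = O_2(N_G(T)) for every nontrivial 2-subgroup T of G. -/
theorem result {G : Type*} [Group G] [Finite G] (h : ∀ t : G, orderOf t = 2 → Cfsg.generalizedFittingSubgroup ↥(Subgroup.centralizer ({t} : Set G)) = Cfsg.pCore 2 ↥(Subgroup.centralizer ({t} : Set G))) (T : Subgroup G) (hT : IsPGroup 2 ↥T) (hT1 : T ≠ ⊥) : Cfsg.generalizedFittingSubgroup ↥(Subgroup.normalizer (T : Set G)) = Cfsg.pCore 2 ↥(Subgroup.normalizer (T : Set G)) := by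
  have key : HasCharP 2 (normalizer (T : Set G)) := by
    have hTne : Nontrivial ↥T := (Subgroup.nontrivial_iff_ne_bot T).mpr hT1
    have := hT.center_nontrivial
    obtain ⟨⟨z, hzC⟩, hz⟩ := exists_prime_orderOf_dvd_card' (G := center ↥T) 2 (by
      obtain ⟨n, hn, hc⟩ := (hT.to_subgroup (center ↥T)).nontrivial_iff_card.mp inferInstance
      rw [hc]; exact dvd_pow_self 2 hn.ne')
    rw [Subgroup.orderOf_mk] at hz
    set t : G := (z : G) with ht
    have hto : orderOf t = 2 := by rw [ht, Subgroup.orderOf_coe, hz]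
    set C := centralizer ({t} : Set G)
    have hC : HasCharP 2 C := (hasCharP_iff C).mpr (gFitting_eq_pCore_iff.mp (h t hto))
    have hTC : T ≤ C := fun y hy => mem_centralizer_singleton_iff.mpr
      (congrArg Subtype.val (mem_center_iff.mp hzC ⟨y, hy⟩))
    set L := C ⊓ normalizer (T : Set G)
    have hL : HasCharP 2 L := hC.inf_normalizer hT hTC
    have hCT : centralizer (T : Set G) ≤ L :=
      le_inf (centralizer_le (Set.singleton_subset_iff.mpr z.2)) (centralizer_le_normalizer _)
    have hnCT : normalizer (T : Set G) ≤ normalizer ((centralizer (T : Set G) : Subgroup G) : Set G) :=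
      CfsgLib.Signalizer.normalizer_le_normalizer_centralizer_set T
    have hCTp : HasCharP 2 (centralizer (T : Set G)) :=
      hL.of_normalized hCT ((pCoreOf_le L).trans (inf_le_right.trans hnCT))
    have hsub : pCoreOf 2 (centralizer (T : Set G)) ≤ pCoreOf 2 (normalizer (T : Set G)) :=
      le_pCoreOf ((pCoreOf_le _).trans (centralizer_le_normalizer _)) (isPGroup_pCoreOf _)
        (hnCT.trans (normalizer_le_normalizer_pCoreOf _))
    refine hasCharP_of_eq_one fun x _ hxC hxo => hCTp.eq_one ?_ hxo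
      (centralizer_le (SetLike.coe_subset_coe.2 hsub) hxC)
    exact centralizer_le (SetLike.coe_subset_coe.2 (le_pCoreOf le_normalizer hT le_rfl)) hxC
  exact gFitting_eq_pCore_iff.mpr ((hasCharP_iff _).mp key)

end Cfsg.Agent.S1292
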