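import Cfsg.Statements.S1299
import Cfsg.Agent.Lib.Signalizer.SolvableClosure

set_option autoImplicit false
open Cfsg

namespace Cfsg.Agent.S1299

open Subgroup CfsgLib CfsgLib.Signalizer

variable {G : Type*} [Group G] [Finite G] {p k : ℕ} [hp : Fact p.Prime] {A : Subgroup G}

omit [Finite G] hp in
theorem delta_antitone {D E : Subgroup G} (h : D ≤ E) :
    Cfsg.signalizerDelta p E ≤ Cfsg.signalizerDelta p D :=
  le_iInf fun a => iInf_le (fun e : {e : G // e ∈ E ∧ e ≠ 1} => Cfsg.centralizerPPrimeCore p (e : G))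
    ⟨a.1, h a.2.1, a.2.2⟩

omit [Finite G] hp in
theorem delta_le_core {D : Subgroup G} {a : G} (ha : a ∈ D) (ha1 : a ≠ 1) :
    Cfsg.signalizerDelta p D ≤ Cfsg.centralizerPPrimeCore p a :=
  iInf_le (fun e : {e : G // e ∈ D ∧ e ≠ 1} => Cfsg.centralizerPPrimeCore p (e : G)) ⟨a, ha, ha1⟩

omit [Finite G] hp in
theorem delta_le_centralizer (D : Subgroup G) :
    Cfsg.signalizerDelta p D ≤ centralizer (D : Set G) := by
  intro x hx
  refine mem_centralizer_iff.mpr fun d hd => ?_
  rcases eq_or_ne d 1 with rfl | hd1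
  · rw [one_mul, mul_one]
  · obtain ⟨y, -, rfl⟩ := delta_le_core hd hd1 hx
    exact (mem_centralizer_singleton_iff.mp y.2).symm

omit hp in
theorem core_not_dvd [Fact p.Prime] (a : G) : ¬ p ∣ Nat.card (Cfsg.centralizerPPrimeCore p a) := by
  rw [Cfsg.centralizerPPrimeCore, card_map_of_injective (Subgroup.subtype_injective _)]
  exact (Fact.out : p.Prime).coprime_iff_not_dvd.mp (Core.coprime_card_pPrimeCore p _).symm

theorem le_normalizer_delta (hA : Cfsg.IsElementaryAbelian p A) {D : Subgroup G} (hD : D ≤ A) :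
    A ≤ normalizer (Cfsg.signalizerDelta p D : Set G) := by
  rw [le_normalizer_iff]
  intro b hb x hx
  simp only [Cfsg.signalizerDelta, mem_iInf, Subtype.forall, and_imp] at hx ⊢
  intro d hd hd1
  obtain ⟨y, hy, rfl⟩ := hx d hd hd1
  exact ⟨⟨b, mem_centralizer_singleton_iff.mpr (elementary_comm hA hb (hD hd))⟩ * y *
    (⟨b, mem_centralizer_singleton_iff.mpr (elementary_comm hA hb (hD hd))⟩)⁻¹,
    Normal.conj_mem inferInstance y hy _, rfl⟩

/-- The subgroup generated by the `Δ(E)`, `E` of index at most `p` above `B`. -/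
def gen (p : ℕ) (A B : Subgroup G) : Subgroup G :=
  ⨆ E : {E : Subgroup G // B ≤ E ∧ E ≤ A ∧ E.relIndex A ≤ p}, Cfsg.signalizerDelta p (E : Subgroup G)

omit [Finite G] hp in
theorem delta_le_gen {B E : Subgroup G} (h1 : B ≤ E) (h2 : E ≤ A) (h3 : E.relIndex A ≤ p) :
    Cfsg.signalizerDelta p E ≤ gen p A B :=
  le_iSup (fun E : {E : Subgroup G // B ≤ E ∧ E ≤ A ∧ E.relIndex A ≤ p} =>
    Cfsg.signalizerDelta p (E : Subgroup G)) ⟨E, h1, h2, h3⟩

omit [Finite G] hp in
theorem gen_le {B X : Subgroup G}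
    (h : ∀ E : Subgroup G, B ≤ E → E ≤ A → E.relIndex A ≤ p → Cfsg.signalizerDelta p E ≤ X) :
    gen p A B ≤ X := iSup_le fun E => h E.1 E.2.1 E.2.2.1 E.2.2.2

omit [Finite G] hp in
theorem gen_antitone {B C : Subgroup G} (h : B ≤ C) : gen p A C ≤ gen p A B :=
  gen_le fun _ h1 h2 h3 => delta_le_gen (h.trans h1) h2 h3

omit [Finite G] hp in
theorem gen_le_core {B : Subgroup G} {b : G} (hb : b ∈ B) (hb1 : b ≠ 1) :
    gen p A B ≤ Cfsg.centralizerPPrimeCore p b :=
  gen_le fun _ h1 _ _ => delta_le_core (h1 hb) hb1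

omit [Finite G] hp in
theorem gen_le_centralizer {B : Subgroup G} : gen p A B ≤ centralizer (B : Set G) :=
  gen_le fun E h1 _ _ => (delta_le_centralizer E).trans (centralizer_le (SetLike.coe_subset_coe.mpr h1))

theorem le_normalizer_gen (hA : Cfsg.IsElementaryAbelian p A) (B : Subgroup G) :
    A ≤ normalizer (gen p A B : Set G) := by
  rw [le_normalizer_iff]
  intro b hb
  have h : gen p A B ≤ (gen p A B).comap (MulAut.conj b).toMonoidHom := gen_le fun E h1 h2 h3 x hx =>
    delta_le_gen h1 h2 h3 (Core.conj_mem_of_le_normalizer (le_normalizer_delta hA h2) hb hx)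
  exact fun x hx => h hx

/-- `k`-balance: `Δ(D) ∩ C(F) ≤ Δ(F)` for `D` of order at least `p ^ k` inside `A`. -/
theorem delta_inf_centralizer_le (hbal : Cfsg.IsKBalanced p k G) (hA : Cfsg.IsElementaryAbelian p A)
    {D F : Subgroup G} (hD : D ≤ A) (hDk : p ^ k ≤ Nat.card D) (hF : F ≤ A) :
    Cfsg.signalizerDelta p D ⊓ centralizer (F : Set G) ≤ Cfsg.signalizerDelta p F := by
  obtain ⟨m, hm⟩ := (elementary_isPGroup (elementary_of_le hA hD)).exists_card_eq
  have hkm : k ≤ m := (Nat.pow_le_pow_iff_right hp.out.one_lt).mp (hm ▸ hDk)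
  obtain ⟨D₀, hD₀⟩ := Sylow.exists_subgroup_card_pow_prime (G := ↥D) p (hm ▸ pow_dvd_pow p hkm)
  have hD' : D₀.map D.subtype ≤ D := map_subtype_le _
  refine le_iInf fun b => ?_
  have h := hbal (D₀.map D.subtype) (elementary_of_le hA (hD'.trans hD))
    (by rw [card_map_of_injective D.subtype_injective]; exact hD₀) b.1
    (elementary_orderOf hA (hF b.2.1) b.2.2) (fun d hd => elementary_comm hA (hD (hD' hd)) (hF b.2.1))
  exact le_trans (inf_le_inf (delta_antitone hD')
    (centralizer_le (Set.singleton_subset_iff.mpr b.2.1))) h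

omit [Finite G] hp in
theorem le_centralizer_sup {X B C : Subgroup G} (hB : X ≤ centralizer (B : Set G))
    (hC : X ≤ centralizer (C : Set G)) : X ≤ centralizer ((B ⊔ C : Subgroup G) : Set G) :=
  le_centralizer_iff.mpr (sup_le (le_centralizer_iff.mp hB) (le_centralizer_iff.mp hC))

theorem exists_disjoint_big (hA : Cfsg.IsElementaryAbelian p A) {B : Subgroup G} (hB : B ≤ A)
    (h : Nat.card B * p ^ 3 ≤ Nat.card A) :
    ∃ C : Subgroup G, C ≤ A ∧ p ^ 3 ≤ Nat.card C ∧ C ⊓ B = ⊥ := by
  obtain ⟨Y, ⟨hYA, hYB⟩, hmax⟩ := WellFounded.has_min (wellFounded_gt (α := Subgroup G))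
    {Y : Subgroup G | Y ≤ A ∧ Y ⊓ B = ⊥} ⟨⊥, bot_le, bot_inf_eq B⟩
  refine ⟨Y, hYA, ?_, hYB⟩
  by_contra hlt
  have hYn : Y ≤ normalizer (B : Set G) := hYA.trans fun a ha =>
    centralizer_le_normalizer _ (mem_centralizer_iff.mpr fun c hc => elementary_comm hA (hB hc) ha)
  obtain ⟨a, haA, haYB⟩ : ∃ a ∈ A, a ∉ Y ⊔ B := by
    by_contra hcon
    push Not at hcon
    have h1 := Core.card_sup_mul_card_inf Y B hYn
    rw [hYB, card_bot, mul_one, le_antisymm (sup_le hYA hB) hcon] at h1
    have h2 : Nat.card Y * Nat.card B < p ^ 3 * Nat.card B :=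
      Nat.mul_lt_mul_of_pos_right (not_le.mp hlt) Nat.card_pos
    rw [← h1, mul_comm (p ^ 3)] at h2
    exact absurd h (not_le.mpr h2)
  have hza : zpowers a ≤ A := zpowers_le.mpr haA
  have hza_n : zpowers a ≤ normalizer (Y : Set G) := hza.trans fun c hc =>
    centralizer_le_normalizer _ (mem_centralizer_iff.mpr fun y hy => elementary_comm hA (hYA hy) hc)
  refine hmax (Y ⊔ zpowers a) ⟨sup_le hYA hza, (eq_bot_iff_forall _).mpr ?_⟩ ?_
  · rintro x ⟨hx, hxB⟩
    obtain ⟨u, hu, v, hv, rfl⟩ := (Core.mem_sup_iff_mul' hza_n).mp (by rwa [sup_comm] at hx)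
    have hv' : v ∈ Y ⊔ B := by
      rw [show v = u⁻¹ * (u * v) by group]
      exact mul_mem (mem_sup_left (inv_mem hu)) (mem_sup_right hxB)
    have hv1 : v = 1 := by
      by_contra hv1
      have ha1 : a ≠ 1 := fun e => haYB (e ▸ one_mem _)
      have heq : zpowers v = zpowers a := eq_of_le_of_card_ge (zpowers_le.mpr hv) (by
        rw [Nat.card_zpowers, Nat.card_zpowers, elementary_orderOf hA haA ha1,
          elementary_orderOf hA (hza hv) hv1])
      exact haYB ((zpowers_le.mpr hv') (heq.ge (mem_zpowers a)))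
    rw [hv1, mul_one] at hxB ⊢
    exact mem_bot.mp (hYB.le ⟨hu, hxB⟩)
  · exact lt_of_le_of_ne le_sup_left fun e => haYB (mem_sup_left (e.ge (mem_sup_right (mem_zpowers a))))

/-- The fixed points of `gen B` in a subgroup of index at most `p` above `B`. -/
theorem gen_inf_centralizer_le (hbal : Cfsg.IsKBalanced p k G)
    (hA : Cfsg.IsElementaryAbelian p A) (hAk : p ^ (k + 2) ≤ Nat.card A)
    (hsolv : ∀ a ∈ A, a ≠ 1 → Group.IsSolvable ↥(Cfsg.centralizerPPrimeCore p a)) :
    ∀ n : ℕ, ∀ B : Subgroup G, B ≤ A → B ≠ ⊥ → B.relIndex A ≤ n → ∀ E : Subgroup G, B ≤ E →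
      E ≤ A → E.relIndex A ≤ p →
        gen p A B ⊓ centralizer (E : Set G) ≤ Cfsg.signalizerDelta p E := by
  intro n
  induction n using Nat.strong_induction_on with
  | _ n ih =>
    intro B hBA hB1 hn E hBE hEA hEi
    by_cases hBk : p ^ k ≤ Nat.card B
    · refine le_trans (inf_le_inf_right _ (gen_le fun F h1 _ _ => delta_antitone h1)) ?_
      exact delta_inf_centralizer_le hbal hA hBA hBk hEA
    -- a rank three complement carries a signalizer functor with closure `gen B`
    have hB3 : Nat.card B * p ^ 3 ≤ Nat.card A := by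
      obtain ⟨m, hm⟩ := (elementary_isPGroup (elementary_of_le hA hBA)).exists_card_eq
      have : m < k := (Nat.pow_lt_pow_iff_right hp.out.one_lt).mp (hm ▸ not_le.mp hBk)
      rw [hm, ← pow_add]
      exact (Nat.pow_le_pow_right hp.out.pos (by omega)).trans hAk
    obtain ⟨C, hCA, hC3, hCB⟩ := exists_disjoint_big hA hBA hB3
    have hlt : ∀ c ∈ C, c ≠ 1 → (B ⊔ zpowers c).relIndex A < n := by
      intro c hc hc1
      refine lt_of_lt_of_le ?_ hn
      have hle : B ⊔ zpowers c ≤ A := sup_le hBA (zpowers_le.mpr (hCA hc))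
      rw [← relIndex_mul_relIndex B (B ⊔ zpowers c) A le_sup_left hle]
      have h2 : B.relIndex (B ⊔ zpowers c) ≠ 1 := fun e1 =>
        hc1 (mem_bot.mp (hCB.le ⟨hc, relIndex_eq_one.mp e1 (mem_sup_right (mem_zpowers c))⟩))
      have h3 : B.relIndex (B ⊔ zpowers c) ≠ 0 := index_ne_zero_of_finite
      exact lt_mul_left (Nat.pos_of_ne_zero index_ne_zero_of_finite) (by omega)
    have hIH : ∀ c ∈ C, c ≠ 1 → ∀ F : Subgroup G, B ⊔ zpowers c ≤ F → F ≤ A → F.relIndex A ≤ p →
        gen p A (B ⊔ zpowers c) ⊓ centralizer (F : Set G) ≤ Cfsg.signalizerDelta p F :=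
      fun c hc hc1 => ih _ (hlt c hc hc1) _ (sup_le hBA (zpowers_le.mpr (hCA hc)))
        (fun e => hB1 (le_bot_iff.mp (e ▸ le_sup_left))) le_rfl
    let θ : G → Subgroup G := fun c => gen p A (B ⊔ zpowers c)
    obtain ⟨⟨b, hb⟩, hb0⟩ := B.ne_bot_iff_exists_ne_one.mp hB1
    have hb1 : b ≠ 1 := fun e => hb0 (Subtype.ext e)
    have hθ : Cfsg.IsSignalizerFunctor p C θ := by
      refine ⟨?_, ?_, ?_, ?_⟩
      · exact fun c _ _ => gen_le_centralizer.trans
          (centralizer_le (Set.singleton_subset_iff.mpr (mem_sup_right (mem_zpowers c))))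
      · exact fun c _ _ => not_dvd_of_le (core_not_dvd b) (gen_le_core (mem_sup_left hb) hb1)
      · exact fun c _ _ d hd x hx => Core.conj_mem_of_le_normalizer (le_normalizer_gen hA _) (hCA hd) hx
      · intro c hc hc1 d hd hd1
        refine le_of_hyperplanes_le hA
          (not_dvd_of_le (core_not_dvd b) (inf_le_left.trans (gen_le_core (mem_sup_left hb) hb1)))
          (le_normalizer_inf (le_normalizer_gen hA _)
            (le_normalizer_centralizer_of_le hA (Set.singleton_subset_iff.mpr (hCA hd))))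
          fun F hF hFi x hx => ?_
        let F' := (F ⊔ (B ⊔ zpowers c)) ⊔ zpowers d
        have hF'A : F' ≤ A :=
          sup_le (sup_le hF (sup_le hBA (zpowers_le.mpr (hCA hc)))) (zpowers_le.mpr (hCA hd))
        have hF'i : F'.relIndex A ≤ p :=
          (Nat.le_of_dvd (Nat.pos_of_ne_zero index_ne_zero_of_finite)
            (relIndex_dvd_of_le_left A (le_sup_left.trans le_sup_left))).trans hFi
        have hxC : x ∈ centralizer (F' : Set G) := by
          refine le_centralizer_sup (X := zpowers x) (le_centralizer_sup ?_ ?_) ?_ (mem_zpowers x)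
          · exact zpowers_le.mpr hx.2
          · exact zpowers_le.mpr (gen_le_centralizer hx.1.1)
          · rw [zpowers_le, zpowers_eq_closure, centralizer_closure]; exact hx.1.2
        exact delta_le_gen
          (sup_le ((le_sup_left.trans le_sup_right).trans le_sup_left) le_sup_right) hF'A hF'i
          (hIH c hc hc1 F' (le_sup_right.trans le_sup_left) hF'A hF'i ⟨hx.1.1, hxC⟩)
    have hcl : Cfsg.signalizerClosure C θ ≤ gen p A B :=
      closure_le_iff.mpr fun c _ _ => gen_antitone le_sup_left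
    have hCE : ∀ F : Subgroup G, F.relIndex A ≤ p → ∃ c ∈ C, c ≠ 1 ∧ c ∈ F := by
      intro F hFi
      by_contra hcon
      push Not at hcon
      have hFC : F ⊓ C = ⊥ := (eq_bot_iff_forall _).mpr fun x hx =>
        by_contra fun hx1 => hcon x hx.2 hx1 hx.1
      have h1 : F.relIndex C ≤ p := (relIndex_le_of_le_right hCA index_ne_zero_of_finite).trans hFi
      rw [← inf_relIndex_right F C, hFC, relIndex_bot_left] at h1
      have h3 : p ^ 1 < p ^ 3 := Nat.pow_lt_pow_right hp.out.one_lt (by norm_num)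
      rw [pow_one] at h3
      omega
    have hge : gen p A B ≤ Cfsg.signalizerClosure C θ := gen_le fun F h1 h2 h3 => by
      obtain ⟨c, hc, hc1, hcF⟩ := hCE F h3
      exact (delta_le_gen (sup_le h1 (zpowers_le.mpr hcF)) h2 h3).trans (le_closure (θ := θ) hc hc1)
    obtain ⟨c, hc, hc1, hcE⟩ := hCE E hEi
    have hcomp := closure_inf_centralizer (elementary_of_le hA hCA) hC3 hθ
      (Core.isSolvable_of_le (hsolv b (hBA hb) hb1) (hcl.trans (gen_le_core hb hb1)))
      (not_dvd_of_le (core_not_dvd b) (hcl.trans (gen_le_core hb hb1))) hc hc1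
    rintro x ⟨hx, hxE⟩
    refine hIH c hc hc1 E (sup_le hBE (zpowers_le.mpr hcE)) hEA hEi ⟨?_, hxE⟩
    exact hcomp.le ⟨hge hx, centralizer_le (Set.singleton_subset_iff.mpr hcE) hxE⟩

/-- Let G be finite and k-balanced for the prime p (k ≥ 1), A an elementary abelian p-subgroup of order at least p^(k+2) such that O_{p'}(C_G(a)) is solvable for every non-identity a ∈ A. For a ∈ A put θ a = the subgroup generated by the Δ_G(D) ∩ C_G(a) over the subgroups D ≤ A of order p^k. Then θ is an A-signalizer functor. -/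
theorem result {G : Type*} [Group G] [Finite G] (p k : ℕ) [Fact p.Prime] (hk : 1 ≤ k) (hbal : Cfsg.IsKBalanced p k G) (A : Subgroup G) (hA : Cfsg.IsElementaryAbelian p A) (hAk : p ^ (k + 2) ≤ Nat.card ↥A) (hsolv : ∀ a ∈ A, a ≠ 1 → Group.IsSolvable ↥(Cfsg.centralizerPPrimeCore p a)) : Cfsg.IsSignalizerFunctor p A (fun a => ⨆ D : {D : Subgroup G // D ≤ A ∧ Nat.card ↥D = p ^ k}, Cfsg.signalizerDelta p (D : Subgroup G) ⊓ Subgroup.centralizer {a}) := by
  set θ := fun a => ⨆ D : {D : Subgroup G // D ≤ A ∧ Nat.card ↥D = p ^ k},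
    Cfsg.signalizerDelta p (D : Subgroup G) ⊓ Subgroup.centralizer {a}
  have hkey : ∀ a ∈ A, a ≠ 1 → θ a = gen p A (zpowers a) := by
    intro a ha ha1
    refine le_antisymm (iSup_le fun D => ?_) (gen_le fun E h1 h2 h3 => ?_)
    · obtain ⟨⟨d, hd⟩, hd0⟩ := D.1.ne_bot_iff_exists_ne_one.mp (fun e => by
        have h2 := D.2.2
        rw [e, card_bot] at h2
        exact (Nat.one_lt_pow (by omega) (Fact.out : p.Prime).one_lt).ne h2)
      refine le_of_hyperplanes_le hA
        (not_dvd_of_le (core_not_dvd d)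
          (inf_le_left.trans (delta_le_core hd fun e => hd0 (Subtype.ext e))))
        (le_normalizer_inf (le_normalizer_delta hA D.2.1)
          (le_normalizer_centralizer_of_le hA (Set.singleton_subset_iff.mpr ha)))
        fun F hF hFi x hx => ?_
      let F' := F ⊔ zpowers a
      have hF'A : F' ≤ A := sup_le hF (zpowers_le.mpr ha)
      have hxC : x ∈ centralizer (F' : Set G) := by
        refine le_centralizer_sup (X := zpowers x) (zpowers_le.mpr hx.2) ?_ (mem_zpowers x)
        rw [zpowers_le, zpowers_eq_closure, centralizer_closure]; exact hx.1.2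
      exact delta_le_gen le_sup_right hF'A ((Nat.le_of_dvd (Nat.pos_of_ne_zero index_ne_zero_of_finite)
        (relIndex_dvd_of_le_left A le_sup_left)).trans hFi)
        (delta_inf_centralizer_le hbal hA D.2.1 D.2.2.ge hF'A ⟨hx.1.1, hxC⟩)
    · have hE : p ^ k ≤ Nat.card E := by
        have h4 := relIndex_mul_relIndex ⊥ E A bot_le h2
        rw [relIndex_bot_left, relIndex_bot_left] at h4
        refine Nat.le_of_mul_le_mul_right ?_ (Fact.out : p.Prime).pos
        calc p ^ k * p ≤ p ^ (k + 2) := by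
              rw [← pow_succ]; exact Nat.pow_le_pow_right (Fact.out : p.Prime).pos (by omega)
          _ ≤ Nat.card A := hAk
          _ = Nat.card E * E.relIndex A := h4.symm
          _ ≤ Nat.card E * p := Nat.mul_le_mul_left _ h3
      obtain ⟨m, hm⟩ := (elementary_isPGroup (elementary_of_le hA h2)).exists_card_eq
      have hkm : k ≤ m := (Nat.pow_le_pow_iff_right (Fact.out : p.Prime).one_lt).mp (hm ▸ hE)
      obtain ⟨D, hD⟩ := Sylow.exists_subgroup_card_pow_prime (G := ↥E) p (hm ▸ pow_dvd_pow p hkm)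
      refine le_trans (le_inf (delta_antitone (map_subtype_le D))
        ((delta_le_centralizer E).trans (centralizer_le
          (Set.singleton_subset_iff.mpr (h1 (mem_zpowers a)))))) ?_
      exact le_iSup (fun D : {D : Subgroup G // D ≤ A ∧ Nat.card ↥D = p ^ k} =>
        Cfsg.signalizerDelta p (D : Subgroup G) ⊓ Subgroup.centralizer {a})
        ⟨D.map E.subtype, (map_subtype_le _).trans h2,
          by rw [card_map_of_injective E.subtype_injective]; exact hD⟩
  refine ⟨?_, ?_, ?_, ?_⟩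
  · intro a _ _
    exact iSup_le fun D => inf_le_right
  · intro a ha ha1
    rw [hkey a ha ha1]
    exact not_dvd_of_le (core_not_dvd a) (gen_le_core (mem_zpowers a) ha1)
  · intro a ha ha1 b hb x hx
    rw [hkey a ha ha1] at hx ⊢
    exact Core.conj_mem_of_le_normalizer (le_normalizer_gen hA _) hb hx
  · intro a ha ha1 b hb hb1
    rw [hkey a ha ha1, hkey b hb hb1]
    refine le_of_hyperplanes_le hA
      (not_dvd_of_le (core_not_dvd a) (inf_le_left.trans (gen_le_core (mem_zpowers a) ha1)))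
      (le_normalizer_inf (le_normalizer_gen hA _)
        (le_normalizer_centralizer_of_le hA (Set.singleton_subset_iff.mpr hb)))
      fun F hF hFi x hx => ?_
    let F' := (F ⊔ zpowers a) ⊔ zpowers b
    have hF'A : F' ≤ A := sup_le (sup_le hF (zpowers_le.mpr ha)) (zpowers_le.mpr hb)
    have hF'i : F'.relIndex A ≤ p := (Nat.le_of_dvd (Nat.pos_of_ne_zero index_ne_zero_of_finite)
      (relIndex_dvd_of_le_left A (le_sup_left.trans le_sup_left))).trans hFi
    have hxC : x ∈ centralizer (F' : Set G) := by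
      refine le_centralizer_sup (X := zpowers x) (le_centralizer_sup (zpowers_le.mpr hx.2) ?_) ?_
        (mem_zpowers x)
      · exact zpowers_le.mpr (gen_le_centralizer hx.1.1)
      · rw [zpowers_le, zpowers_eq_closure, centralizer_closure]; exact hx.1.2
    exact delta_le_gen le_sup_right hF'A hF'i (gen_inf_centralizer_le hbal hA hAk hsolv _ _
      (zpowers_le.mpr ha) (fun e => ha1 (zpowers_eq_bot.mp e)) le_rfl F'
      (le_sup_right.trans le_sup_left) hF'A hF'i ⟨hx.1.1, hxC⟩)

end Cfsg.Agent.S1299
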