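import Cfsg.Statements.S1300
import Cfsg.Agent.Lib.Components.FStar
import Cfsg.Agent.Lib.Components.Char

set_option autoImplicit false
open Cfsg

namespace Cfsg.Agent.S1300

/-- For a finite group G, balance in the sense of commuting involutions is the same as 1-balance for the prime 2. -/
theorem result {G : Type*} [Group G] [Finite G] : Cfsg.IsBalanced G ↔ Cfsg.IsKBalanced 2 1 G := by
  have hle : ∀ x : G, Cfsg.centralizerPPrimeCore 2 x ≤ Subgroup.centralizer ({x} : Set G) :=
    fun x => Subgroup.map_subtype_le _
  constructor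
  · intro h A hA hA2 b hb hab
    rw [pow_one] at hA2
    obtain ⟨a, ha1⟩ : ∃ a : A, a ≠ 1 :=
      haveI := Finite.one_lt_card_iff_nontrivial.mp (by omega : 1 < Nat.card A)
      exists_ne 1
    have hao : orderOf (a : G) = 2 :=
      orderOf_eq_prime (hA.2 a a.2) (fun e => ha1 (Subtype.ext e))
    refine le_trans (inf_le_inf_right _ (iInf_le _ ⟨(a : G), a.2, fun e => ha1 (Subtype.ext e)⟩)) ?_
    exact (h a b hao hb (hab a a.2)).le.trans inf_le_left
  · intro h
    have key : ∀ x y : G, orderOf x = 2 → orderOf y = 2 → x * y = y * x →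
        Cfsg.centralizerPPrimeCore 2 x ⊓ Subgroup.centralizer {y} ≤
          Cfsg.centralizerPPrimeCore 2 y := by
      intro x y hx hy hxy
      have hx2 : x ^ 2 = 1 := hx ▸ pow_orderOf_eq_one x
      have hel : ∀ a ∈ Subgroup.zpowers x, a = 1 ∨ a = x := by
        intro a ha
        obtain ⟨k, rfl⟩ := Subgroup.mem_zpowers_iff.mp ha
        rcases Int.even_or_odd' k with ⟨m, rfl | rfl⟩
        · left; rw [zpow_mul, zpow_ofNat, hx2, one_zpow]
        · right; rw [zpow_add, zpow_mul, zpow_ofNat, hx2, one_zpow, one_mul, zpow_one]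
      refine le_trans (inf_le_inf_right _ (le_iInf fun a => ?_))
        (h (Subgroup.zpowers x) ⟨inferInstance, fun a ha => ?_⟩ (by rw [Nat.card_zpowers, hx, pow_one])
          y hy fun a ha => ?_)
      · rcases hel a.1 a.2.1 with e | e
        · exact absurd e a.2.2
        · rw [e]
      · rcases hel a ha with rfl | rfl
        · exact one_pow 2
        · exact hx2
      · rcases hel a ha with rfl | rfl
        · rw [one_mul, mul_one]
        · exact hxy
    intro x y hx hy hxy
    exact le_antisymm (le_inf (key x y hx hy hxy) (inf_le_left.trans (hle x)))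
      (le_inf (key y x hy hx hxy.symm) (inf_le_left.trans (hle y)))

end Cfsg.Agent.S1300
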