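import Cfsg.Statements.S1303
import Cfsg.Agent.Lib.Classical.SLTwoThree
import Cfsg.Agent.Lib.Core.Cores

set_option autoImplicit false
open Cfsg

namespace Cfsg.Agent.S1303

open Subgroup CfsgLib.Classical.Two
open scoped MatrixGroups

theorem cube_commute : ∀ x : SL(2, ZMod 3), x ^ 3 = 1 → x * quatI = quatI * x → x = 1 := by
  decide +kernel

theorem commute_quat : ∀ x : SL(2, ZMod 3), x * quatI = quatI * x → x * quatJ = quatJ * x → x ^ 4 = 1 := by
  decide +kernel

theorem involution_central : ∀ t y : SL(2, ZMod 3), t ^ 2 = 1 → y * t = t * y := by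
  decide +kernel

theorem quat_pow_four : ∀ z : QuaternionGroup 2, quatHom z ^ 4 = 1 := by decide +kernel

theorem quatI_mem : quatI ∈ quatHom.range := exists_quat_of_pow_four _ (by decide +kernel)

theorem quatJ_mem : quatJ ∈ quatHom.range := exists_quat_of_pow_four _ (by decide +kernel)

theorem card_eq : Nat.card SL(2, ZMod 3) = 24 := by
  rw [Nat.card_eq_fintype_card]; decide +kernel

/-- The group X = SL(2, 3): it is 2-constrained, O_{2'}(X) = 1, its centre A = Z(X) contains every involution of X = C_X(A), and X has a subgroup of order 3 (normalized by A) not contained in O_{2'}(X). -/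
theorem result : Cfsg.IsPConstrained 2 (Matrix.SpecialLinearGroup (Fin 2) (ZMod 3)) ∧ Cfsg.pPrimeCore 2 (Matrix.SpecialLinearGroup (Fin 2) (ZMod 3)) = ⊥ ∧ (∀ t : Matrix.SpecialLinearGroup (Fin 2) (ZMod 3), orderOf t = 2 → t ∈ Subgroup.center (Matrix.SpecialLinearGroup (Fin 2) (ZMod 3))) ∧ ∃ Q : Subgroup (Matrix.SpecialLinearGroup (Fin 2) (ZMod 3)), Nat.card ↥Q = 3 ∧ ¬ (Q ≤ Cfsg.pPrimeCore 2 (Matrix.SpecialLinearGroup (Fin 2) (ZMod 3))) := by
  have := quatHom_range_normal
  have h2 : IsPGroup 2 quatHom.range := fun x => ⟨2, Subtype.ext (by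
    obtain ⟨z, hz⟩ := x.2
    simp only [SubmonoidClass.coe_pow, OneMemClass.coe_one, ← hz]
    exact quat_pow_four z)⟩
  have hO : Cfsg.pPrimeCore 2 SL(2, ZMod 3) = ⊥ := by
    refine (eq_bot_iff_forall _).mpr fun x hx => ?_
    have hc := CfsgLib.Core.coprime_card_pPrimeCore 2 SL(2, ZMod 3)
    have hdvd : Nat.card (Cfsg.pPrimeCore 2 SL(2, ZMod 3)) ∣ 3 := by
      refine (Nat.Coprime.dvd_of_dvd_mul_left (hc.pow_right 3) (?_ : _ ∣ 2 ^ 3 * 3))
      have := (Cfsg.pPrimeCore 2 SL(2, ZMod 3)).card_subgroup_dvd_card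
      rwa [card_eq] at this
    have hpow : ∀ y ∈ Cfsg.pPrimeCore 2 SL(2, ZMod 3), y ^ 3 = 1 := fun y hy =>
      orderOf_dvd_iff_pow_eq_one.mp ((Subgroup.orderOf_dvd_natCard _ hy).trans hdvd)
    refine cube_commute x (hpow x hx) (commute_of_normal_of_disjoint _ _ inferInstance this ?_ x quatI hx quatI_mem)
    rw [disjoint_iff, eq_bot_iff]
    rintro y ⟨hyO, hyQ⟩
    obtain ⟨k, hk⟩ := h2 ⟨y, hyQ⟩
    have hk' : y ^ 2 ^ k = 1 := congrArg Subtype.val hk
    exact orderOf_eq_one_iff.mp (Nat.eq_one_of_dvd_coprimes (Nat.Coprime.pow_right k (by norm_num : Nat.Coprime 3 2))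
      (orderOf_dvd_of_pow_eq_one (hpow y hyO)) (orderOf_dvd_of_pow_eq_one hk'))
  have hQ : quatHom.range ≤ Cfsg.pPrimePCore 2 SL(2, ZMod 3) := by
    refine map_le_iff_le_comap.mp ?_
    have := Normal.map this (QuotientGroup.mk' (Cfsg.pPrimeCore 2 SL(2, ZMod 3)))
      (QuotientGroup.mk'_surjective _)
    exact CfsgLib.Core.le_pCore (h2.map _)
  refine ⟨fun P x hx => ?_, hO, fun t ht => mem_center_iff.mpr fun y => involution_central t y
    (orderOf_dvd_iff_pow_eq_one.mp (dvd_of_eq ht)), ?_⟩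
  · have hle : quatHom.range ≤ (P : Subgroup ↥(Cfsg.pPrimePCore 2 SL(2, ZMod 3))).map (Subgroup.subtype _) := by
      rw [← map_subgroupOf_eq_of_le hQ]
      refine map_mono ?_
      have : (quatHom.range.subgroupOf (Cfsg.pPrimePCore 2 SL(2, ZMod 3))).Normal := inferInstance
      exact (h2.comap_of_injective _ (subtype_injective _)).le_sylow_of_normal P
    have hq : x ^ 4 = 1 := commute_quat x (mem_centralizer_iff.mp hx _ (hle quatI_mem)).symm
      (mem_centralizer_iff.mp hx _ (hle quatJ_mem)).symm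
    exact hQ (exists_quat_of_pow_four x hq)
  · let u : SL(2, ZMod 3) := ⟨!![1, 1; 0, 1], by decide⟩
    have h1 : Nat.card (zpowers u) = 3 :=
      (Nat.card_zpowers u).trans (orderOf_eq_prime (by decide +kernel) (fun e => absurd (congrArg (fun m : SL(2, ZMod 3) => m.1 0 1) e) (by decide +kernel)))
    refine ⟨zpowers u, h1, fun h => ?_⟩
    rw [hO, le_bot_iff] at h
    rw [h, card_bot] at h1
    exact absurd h1 (by norm_num)

end Cfsg.Agent.S1303
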