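import Cfsg.Statements.S1304
import Cfsg.Agent.Lib.Components.FStar
import Cfsg.Agent.Lib.Components.Char

set_option autoImplicit false
open Cfsg
open scoped commutatorElement

namespace Cfsg.Agent.S1304

/-- Let X be a perfect group and α an automorphism of X with α(x) x⁻¹ central for every x. Then α is the identity. -/
theorem result {X : Type*} [Group X] (hperf : commutator X = ⊤) (α : X ≃* X) (h : ∀ x : X, α x * x⁻¹ ∈ Subgroup.center X) : ∀ x : X, α x = x := by
  let c : X →* Subgroup.center X := MonoidHom.mk' (fun x => ⟨α x * x⁻¹, h x⟩) fun a b => by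
    apply Subtype.ext
    show α (a * b) * (a * b)⁻¹ = α a * a⁻¹ * (α b * b⁻¹)
    rw [map_mul, mul_inv_rev, ← mul_assoc, mul_assoc (α a) (α b) b⁻¹,
      mul_assoc (α a) (α b * b⁻¹) a⁻¹, ← Subgroup.mem_center_iff.mp (h b) a⁻¹, ← mul_assoc]
  intro x
  have hx : x ∈ c.ker := by
    have hle : commutator X ≤ c.ker := by
      rw [commutator_def, Subgroup.commutator_le]
      intro g _ k _
      rw [MonoidHom.mem_ker, map_commutatorElement, commutatorElement_eq_one_iff_mul_comm]
      exact Subtype.ext (Subgroup.mem_center_iff.mp (c k).2 _)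
    exact hle (hperf ▸ Subgroup.mem_top x)
  have hx' : α x * x⁻¹ = 1 := congrArg Subtype.val hx
  exact mul_inv_eq_one.mp hx' 

end Cfsg.Agent.S1304
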