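import Cfsg.Statements.S1306
import Cfsg.Agent.Lib.Components.LocalBalance

set_option autoImplicit false
open Cfsg

namespace Cfsg.Agent.S1306

open CfsgLib.Components
open scoped Pointwise commutatorElement

theorem key {G : Type*} [Group G] [Finite G] (x : G) (hx : orderOf x = 2) (L : Subgroup G)
    (hLx : L ≤ Subgroup.centralizer ({x} : Set G))
    (hL : Cfsg.IsComponent (L.subgroupOf (Subgroup.centralizer ({x} : Set G))))
    (hne : ∀ y : G, orderOf y = 2 → y ∈ Subgroup.centralizer (L : Set G) →
      L ≤ Subgroup.centralizer ({y} : Set G) ∧ Cfsg.IsComponent (L.subgroupOf (Subgroup.centralizer ({y} : Set G))))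
    (hnc : ∀ g : G, L.map (MulAut.conj g).toMonoidHom ≠ L → ⁅L, L.map (MulAut.conj g).toMonoidHom⁆ ≠ ⊥) :
    Cfsg.IsStandardSubgroup L := by
  have hxC : x ∈ Subgroup.centralizer (L : Set G) := Subgroup.mem_centralizer_iff.mpr fun l hl =>
    Subgroup.mem_centralizer_singleton_iff.mp (hLx hl)
  -- an involution centralizing `L` and a conjugate of `L` forces equality
  have key : ∀ g y : G, orderOf y = 2 → y ∈ Subgroup.centralizer (L : Set G) →
      g⁻¹ * y * g ∈ Subgroup.centralizer (L : Set G) → L.map (MulAut.conj g).toMonoidHom = L := by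
    intro g y hy hyC hyC'
    by_contra hcon
    set z := g⁻¹ * y * g with hzdef
    have hz : orderOf z = 2 := by
      rw [show z = MulAut.conj g⁻¹ y by simp [hzdef], MulEquiv.orderOf_eq, hy]
    obtain ⟨h1, h2⟩ := hne z hz hyC'
    obtain ⟨h3, h4⟩ := hne y hy hyC
    set C := Subgroup.centralizer ({y} : Set G) with hC
    set C' := Subgroup.centralizer ({z} : Set G) with hC'
    have hmap : C'.map (MulAut.conj g).toMonoidHom = C := by
      ext w
      simp only [Subgroup.mem_map, MulEquiv.coe_toMonoidHom, MulAut.conj_apply, hC, hC', hzdef,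
        Subgroup.mem_centralizer_singleton_iff]
      constructor
      · rintro ⟨u, hu, rfl⟩
        calc g * u * g⁻¹ * y = g * (u * (g⁻¹ * y * g)) * g⁻¹ := by group
          _ = g * ((g⁻¹ * y * g) * u) * g⁻¹ := by rw [hu]
          _ = y * (g * u * g⁻¹) := by group
      · intro hw
        refine ⟨g⁻¹ * w * g, ?_, by group⟩
        calc g⁻¹ * w * g * (g⁻¹ * y * g) = g⁻¹ * (w * y) * g := by group
          _ = g⁻¹ * (y * w) * g := by rw [hw]
          _ = g⁻¹ * y * g * (g⁻¹ * w * g) := by group
    set L' := L.map (MulAut.conj g).toMonoidHom with hL'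
    have hL'C : L' ≤ C := hmap ▸ Subgroup.map_mono h1
    let e : C' ≃* C := (C'.equivMapOfInjective _ (MulAut.conj g).injective).trans
      (MulEquiv.subgroupCongr hmap)
    have h5 := isComponent_map_equiv e h2
    have h6 : (L.subgroupOf C').map e.toMonoidHom = L'.subgroupOf C := by
      ext ⟨w, hw⟩
      simp only [Subgroup.mem_map, Subgroup.mem_subgroupOf, MulEquiv.coe_toMonoidHom]
      constructor
      · rintro ⟨u, hu, he⟩
        exact ⟨u, hu, congrArg Subtype.val he⟩
      · rintro ⟨u, hu, he⟩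
        exact ⟨⟨u, h1 hu⟩, hu, Subtype.ext he⟩
    rw [h6] at h5
    have hneq : L.subgroupOf C ≠ L'.subgroupOf C := fun e' => hcon (by
      have := congrArg (Subgroup.map C.subtype) e'
      rw [map_subtype_subgroupOf h3, map_subtype_subgroupOf hL'C] at this
      exact this.symm)
    have h7 := congrArg (Subgroup.map C.subtype) (components_commute h4 h5 hneq)
    rw [Subgroup.map_commutator, map_subtype_subgroupOf h3, map_subtype_subgroupOf hL'C,
      Subgroup.map_bot] at h7
    exact hnc g hcon h7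
  refine ⟨(isQuasisimple_congr (Subgroup.subgroupOfEquivOfLe hLx)).mp hL.2, ⟨?_, ?_⟩, hnc, ?_⟩
  · exact even_iff_two_dvd.mpr (hx ▸ Subgroup.orderOf_dvd_natCard _ hxC)
  · intro g hg
    rw [← Nat.not_even_iff_odd]
    intro hev
    haveI : Fact (Nat.Prime 2) := ⟨Nat.prime_two⟩
    obtain ⟨y, hy⟩ := exists_prime_orderOf_dvd_card' (G := ↥(Subgroup.centralizer (L : Set G) ⊓
      (Subgroup.centralizer (L : Set G)).map (MulAut.conj g).toMonoidHom)) 2 (even_iff_two_dvd.mp hev)
    obtain ⟨u, hu, huy⟩ := y.2.2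
    refine hg (normalizer_le_normalizer_centralizer' L
      (Subgroup.mem_normalizer_iff_map_conj_eq.mpr (key g y (by rw [Subgroup.orderOf_coe, hy]) y.2.1 ?_)))
    have h0 : g * u * g⁻¹ = (y : G) := huy
    rwa [← h0, show g⁻¹ * (g * u * g⁻¹) * g = u by group]
  · refine le_antisymm (normalizer_le_normalizer_centralizer' L) fun g hg => ?_
    exact Subgroup.mem_normalizer_iff_map_conj_eq.mpr
      (key g x hx hxC ((Subgroup.mem_normalizer_iff''.mp hg x).mp hxC))

/-- Let G be finite, x an involution and L ≤ C_G(x) a component of C_G(x). Suppose L is a component of C_G(y) for every involution y ∈ C_G(L), and ⁅L, g L g⁻¹⁆ ≠ 1 whenever g L g⁻¹ ≠ L. Then L is a standard subgroup of G. -/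
theorem result {G : Type*} [Group G] [Finite G] (x : G) (hx : orderOf x = 2) (L : Subgroup G) (hLx : L ≤ Subgroup.centralizer ({x} : Set G)) (hL : Cfsg.IsComponent (L.subgroupOf (Subgroup.centralizer ({x} : Set G)))) (hne : ∀ y : G, orderOf y = 2 → y ∈ Subgroup.centralizer (L : Set G) → L ≤ Subgroup.centralizer ({y} : Set G) ∧ Cfsg.IsComponent (L.subgroupOf (Subgroup.centralizer ({y} : Set G)))) (hnc : ∀ g : G, L.map (MulAut.conj g).toMonoidHom ≠ L → ⁅L, L.map (MulAut.conj g).toMonoidHom⁆ ≠ ⊥) : Cfsg.IsStandardSubgroup L := by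
  exact key x hx L hLx hL hne hnc

end Cfsg.Agent.S1306
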