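import Cfsg.Statements.S1307
import Cfsg.Agent.Lib.Components.TwoRankOne

set_option autoImplicit false
open Cfsg

namespace Cfsg.Agent.S1307

open CfsgLib.Components

/-- Let G be finite, x an involution and L ≤ C_G(x) a component of C_G(x) of even order and 2-rank 1, such that L is a component of C_G(y) for every involution y ∈ C_G(L). Then some involution of L is a classical involution of G. -/
theorem result {G : Type*} [Group G] [Finite G] (x : G) (hx : orderOf x = 2) (L : Subgroup G) (hLx : L ≤ Subgroup.centralizer ({x} : Set G)) (hL : Cfsg.IsComponent (L.subgroupOf (Subgroup.centralizer ({x} : Set G)))) (heven : Even (Nat.card ↥L)) (hrk : Cfsg.PRankLE 2 1 ↥L) (hne : ∀ y : G, orderOf y = 2 → y ∈ Subgroup.centralizer (L : Set G) → L ≤ Subgroup.centralizer ({y} : Set G) ∧ Cfsg.IsComponent (L.subgroupOf (Subgroup.centralizer ({y} : Set G)))) : ∃ t ∈ L, Cfsg.IsClassicalInvolution t := by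
  haveI : Fact (Nat.Prime 2) := ⟨Nat.prime_two⟩
  have hq : Cfsg.IsQuasisimple L :=
    IsQuasisimple.congr (Subgroup.subgroupOfEquivOfLe hLx) hL.2
  have hdvd : 2 ∣ Nat.card L := even_iff_two_dvd.mp heven
  obtain ⟨t, hto, htc⟩ := exists_central_involution_of_rank_le_one hq hdvd hrk
  obtain ⟨S⟩ := Sylow.nonempty (p := 2) (G := L)
  obtain ⟨m, hm⟩ := quaternion_of_rank_le_one hq.1.commutator_eq_top hdvd hrk S
  have ho : orderOf (t : G) = 2 := by rwa [Subgroup.orderOf_coe]
  have hC : (t : G) ∈ Subgroup.centralizer (L : Set G) :=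
    Subgroup.mem_centralizer_iff.mpr fun l hl =>
      congrArg Subtype.val (Subgroup.mem_center_iff.mp htc ⟨l, hl⟩)
  obtain ⟨hle, hcomp⟩ := hne t ho hC
  exact ⟨t, t.2, ho, L, hle, t.2, hcomp.1, S, m, hm⟩

end Cfsg.Agent.S1307
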