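import Cfsg.Statements.S1313
import Cfsg.Agent.Lib.Components.FStar
import Cfsg.Agent.Lib.Components.Char

set_option autoImplicit false
open Cfsg

namespace Cfsg.Agent.S1313

/-- For a finite group H, |H| ≤ |F*(H)|!. -/
theorem result {H : Type*} [Group H] [Finite H] : Nat.card H ≤ Nat.factorial (Nat.card ↥(Cfsg.generalizedFittingSubgroup H)) := by
  classical
  set F := Cfsg.generalizedFittingSubgroup H with hF
  haveI hFn : F.Normal := CfsgLib.Components.gFitting_normal
  haveI := Fintype.ofFinite F
  let f : H →* MulAut F := MulAut.conjNormal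
  have hker : f.ker ≤ F := by
    refine le_trans ?_ CfsgLib.Components.centralizer_gFitting_le
    intro h hh
    rw [Subgroup.mem_centralizer_iff]
    intro x hx
    have h1 : h * x * h⁻¹ = x := by
      have e := congrArg Subtype.val (DFunLike.congr_fun (MonoidHom.mem_ker.mp hh) ⟨x, hx⟩)
      simpa [f] using e
    exact (mul_inv_eq_iff_eq_mul.mp h1).symm
  have hAut : Nat.card (MulAut F) ≤ Nat.factorial (Nat.card F - 1) := by
    let g : MulAut F → Equiv.Perm {x : F // x ≠ 1} := fun φ =>
      φ.toEquiv.subtypeEquiv fun x => (map_ne_one_iff φ φ.injective).symm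
    refine le_trans (Nat.card_le_card_of_injective g ?_) ?_
    · intro φ ψ e
      apply MulEquiv.ext
      intro x
      by_cases hx : x = 1
      · rw [hx, map_one, map_one]
      · exact congrArg Subtype.val (Equiv.congr_fun e ⟨x, hx⟩)
    · rw [Nat.card_perm, Nat.card_eq_fintype_card, Fintype.card_subtype_compl,
        Fintype.card_subtype_eq, ← Nat.card_eq_fintype_card]
  have hpos : 0 < Nat.card F := Nat.card_pos
  calc Nat.card H = Nat.card f.ker * f.ker.index := (f.ker.card_mul_index).symm
    _ ≤ Nat.card F * Nat.card (MulAut F) := by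
        refine Nat.mul_le_mul (Nat.card_le_card_of_injective _ (Subgroup.inclusion_injective hker)) ?_
        rw [Subgroup.index_ker]
        exact Nat.card_le_card_of_injective _ f.range.subtype_injective
    _ ≤ Nat.card F * Nat.factorial (Nat.card F - 1) := Nat.mul_le_mul_left _ hAut
    _ = Nat.factorial (Nat.card F) := Nat.mul_factorial_pred hpos.ne' 

end Cfsg.Agent.S1313
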