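import Cfsg.Statements.S1314


set_option autoImplicit false
open Cfsg

namespace Cfsg.Agent.S1314

open Subgroup
open scoped commutatorElement

theorem commutator_central_mul_left {H : Type*} [Group H] {z : H} (hz : z ∈ center H) (b y : H) :
    ⁅z * b, y⁆ = ⁅b, y⁆ := by
  have hz' : ∀ u : H, u * z = z * u := mem_center_iff.mp hz
  calc ⁅z * b, y⁆ = z * (b * y * b⁻¹) * z⁻¹ * y⁻¹ := by rw [commutatorElement_def]; group
    _ = b * y * b⁻¹ * y⁻¹ := by rw [← hz', mul_inv_cancel_right]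
    _ = ⁅b, y⁆ := rfl

theorem commutator_central_mul_right {H : Type*} [Group H] {z : H} (hz : z ∈ center H) (b y : H) :
    ⁅b, z * y⁆ = ⁅b, y⁆ := by
  rw [← commutatorElement_inv (z * y), commutator_central_mul_left hz, commutatorElement_inv]

/-- Let x be an involution of a group G and L a perfect subgroup with ⁅L, x L x⁻¹⁆ = 1. Then l ↦ l (x l x⁻¹) is a group homomorphism π from L to G whose kernel is central in L and whose image lies in C_G(x); and the commutator subgroup of C_{L ⊔ xLx⁻¹}(x) equals the image of π. -/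
theorem result {G : Type*} [Group G] [Finite G] (x : G) (hx : orderOf x = 2) (L : Subgroup G) (hperf : ⁅L, L⁆ = L) (hcomm : ⁅L, L.map (MulAut.conj x).toMonoidHom⁆ = ⊥) : ∃ π : ↥L →* G, (∀ l : ↥L, π l = (l : G) * (x * (l : G) * x⁻¹)) ∧ π.ker ≤ Subgroup.center ↥L ∧ π.range ≤ Subgroup.centralizer ({x} : Set G) ∧ ⁅(L ⊔ L.map (MulAut.conj x).toMonoidHom) ⊓ Subgroup.centralizer ({x} : Set G), (L ⊔ L.map (MulAut.conj x).toMonoidHom) ⊓ Subgroup.centralizer ({x} : Set G)⁆ = π.range := by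
  have hxx : x * x = 1 := by rw [← pow_two, ← hx]; exact pow_orderOf_eq_one x
  set c := (MulAut.conj x).toMonoidHom with hc
  have hcap : ∀ g, c g = x * g * x⁻¹ := fun g => rfl
  have hcc : ∀ g, c (c g) = g := fun g => by
    rw [hcap, hcap, show x * (x * g * x⁻¹) * x⁻¹ = (x * x) * g * (x * x)⁻¹ by group, hxx]; group
  have hcomm' : ∀ a ∈ L, ∀ b ∈ L, Commute a (c b) := fun a ha b hb =>
    (mem_centralizer_iff.mp (commutator_eq_bot_iff_le_centralizer.mp hcomm ha) (c b) ⟨b, hb, rfl⟩).symm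
  let σ : ↥L × ↥L →* G := L.subtype.noncommCoprod (c.comp L.subtype) fun a b => hcomm' a a.2 b b.2
  have hσ : ∀ p, σ p = (p.1 : G) * c p.2 := fun p => rfl
  let π : ↥L →* G := σ.comp ((MonoidHom.id _).prod (MonoidHom.id _))
  have hπ : ∀ l : ↥L, π l = (l : G) * c l := fun l => rfl
  have hfix : π.range ≤ centralizer ({x} : Set G) := by
    rintro _ ⟨l, rfl⟩
    rw [mem_centralizer_singleton_iff, eq_comm, ← mul_inv_eq_iff_eq_mul, ← hcap, hπ, map_mul, hcc]
    exact (hcomm' l l.2 l l.2).eq.symm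
  have hcen : ∀ l : ↥L, (l : G) ∈ L.map c → l ∈ center ↥L := by
    rintro l ⟨b, hb, hbl⟩
    refine mem_center_iff.mpr fun y => Subtype.ext ?_
    simp only [Subgroup.coe_mul, ← hbl]
    exact hcomm' y y.2 b hb
  refine ⟨π, fun l => rfl, ?_, hfix, le_antisymm ?_ ?_⟩
  · intro l hl
    rw [MonoidHom.mem_ker, hπ] at hl
    refine hcen l ⟨(l : G)⁻¹, inv_mem l.2, ?_⟩
    rw [map_inv, ← eq_inv_of_mul_eq_one_left hl]
  · have key : ∀ w ∈ (L ⊔ L.map c) ⊓ centralizer ({x} : Set G),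
        ∃ a b : ↥L, w = σ (a, b) ∧ a * b⁻¹ ∈ center ↥L := by
      rintro w ⟨hw, hwC⟩
      have hr : σ.range = L ⊔ L.map c := (MonoidHom.noncommCoprod_range _ _ _).trans (by rw [range_subtype, MonoidHom.range_comp, range_subtype])
      obtain ⟨⟨a, b⟩, rfl⟩ := hr.ge hw
      refine ⟨a, b, rfl, hcen _ ⟨a * (b : G)⁻¹, mul_mem a.2 (inv_mem b.2), ?_⟩⟩
      have h1 : c (σ (a, b)) = σ (a, b) := by
        rw [hcap, ← mem_centralizer_singleton_iff.mp hwC, mul_inv_cancel_right]
      rw [hσ, map_mul, hcc] at h1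
      rw [map_mul, map_inv, show c (a : G) = (a : G) * c b * (b : G)⁻¹ from eq_mul_inv_of_mul_eq h1,
        mul_assoc (a : G), ((hcomm' _ (inv_mem b.2) b b.2)).symm.eq, ← mul_assoc, mul_inv_cancel_right]
      rfl
    rw [commutator_le]
    intro w1 hw1 w2 hw2
    obtain ⟨a, b, rfl, hab⟩ := key w1 hw1
    obtain ⟨a', b', rfl, hab'⟩ := key w2 hw2
    refine ⟨⁅a, a'⁆, ?_⟩
    have e : ⁅a, a'⁆ = ⁅b, b'⁆ := by
      rw [show a = (a * b⁻¹) * b by group, show a' = (a' * b'⁻¹) * b' by group,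
        commutator_central_mul_left hab, commutator_central_mul_right hab']
    rw [← map_commutatorElement]
    exact congrArg σ (Prod.ext rfl e)
  · have hrange : π.range = ⁅π.range, π.range⁆ := by
      have : ⁅(⊤ : Subgroup ↥L), (⊤ : Subgroup ↥L)⁆ = (⊤ : Subgroup ↥L) := by
        apply map_injective L.subtype_injective
        rw [map_commutator, ← MonoidHom.range_eq_map, range_subtype, hperf]
      rw [MonoidHom.range_eq_map, ← map_commutator, this]
    rw [hrange]
    refine commutator_mono ?_ ?_ <;>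
    · rintro _ ⟨l, rfl⟩
      exact ⟨mul_mem (mem_sup_left l.2) (mem_sup_right ⟨l, l.2, rfl⟩), hfix ⟨l, rfl⟩⟩

end Cfsg.Agent.S1314
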