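import Cfsg.Statements.S1315
import Cfsg.Agent.Lib.Intrinsic.CaseB

set_option autoImplicit false
open Cfsg

namespace Cfsg.Agent.S1315

open CfsgLib CfsgLib.Signalizer CfsgLib.Components CfsgLib.Intrinsic in
/-- Package the hypotheses on one component. -/
theorem intrinsic {G : Type*} [Group G] [Finite G] {J : Subgroup G} {b : G}
    (hb : b ∈ J ∧ orderOf b = 2 ∧ ∀ t ∈ J, orderOf t = 2 → t = b)
    (hJ : J ≤ Subgroup.centralizer ({b} : Set G) ∧
      Cfsg.IsPComponent 2 (J.subgroupOf (Subgroup.centralizer ({b} : Set G))))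
    {n : ℕ} (hc : Nat.card (Subgroup.center (↥J ⧸ Cfsg.oddCore ↥J)) = 2)
    (hn : Nat.card (↥J ⧸ Cfsg.oddCore ↥J) = 2 * n) : Intrinsic n b J := by
  haveI : Fact (Nat.Prime 2) := ⟨Nat.prime_two⟩
  set J' := J.subgroupOf (cent b) with hJ'
  haveI := pPrimeCore_normal (G := J) 2
  haveI := pPrimeCore_normal (G := J') 2
  obtain ⟨e⟩ : Nonempty (↥J ⧸ Cfsg.oddCore ↥J ≃* ↥(J'.map (proj b))) :=
    ⟨(QuotientGroup.congr (Cfsg.pPrimeCore 2 J) (Cfsg.pPrimeCore 2 J')
      (Subgroup.subgroupOfEquivOfLe hJ.1).symm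
      (Core.map_equiv_pPrimeCore (Subgroup.subgroupOfEquivOfLe hJ.1).symm)).trans
      ((QuotientGroup.quotientMulEquivOfEq (subgroupMap_modCore_ker hJ.2.1).symm).trans
        (QuotientGroup.quotientKerEquivOfSurjective _ ((modCore 2 (cent b)).subgroupMap_surjective J')))⟩
  have hb2 : b ^ 2 = 1 := hb.2.1 ▸ pow_orderOf_eq_one b
  have hz2 : (el (rfl : b * b = b * b)) ^ 2 = 1 := Subtype.ext hb2
  have hcC : Nat.card (Subgroup.center ↥(J'.map (proj b))) = 2 := by
    exact (Nat.card_congr (Subgroup.centerCongr e).toEquiv).symm.trans hc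
  refine ⟨hb.2.1, hb.1, hb.2.2, hJ.1, hJ.2, ⟨hJ.2.2.1, hcC, ?_, ⟨_, hb.1, rfl⟩, ?_, ?_, ?_⟩⟩
  · have h := Subgroup.card_eq_card_quotient_mul_card_subgroup (Subgroup.center ↥(J'.map (proj b)))
    rw [hcC, ← Nat.card_congr e.toEquiv, hn] at h
    show Nat.card (↥(J'.map (proj b)) ⧸ Subgroup.center ↥(J'.map (proj b))) = n
    omega
  · rw [← map_pow, hz2, map_one]
  · intro h
    have h1 := congrArg Subtype.val (eq_one_of_proj (Γ := cent b) (k := 1) (by rw [pow_one, hz2]) h)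
    rw [show b = 1 from h1, orderOf_one] at hb
    exact absurd hb.2.1 (by norm_num)
  · rintro _ ⟨j, hj, rfl⟩ h2 h1
    obtain ⟨u, huj, ⟨l, hl⟩, hu⟩ := exists_two_lift (u := j) (k := 1) (by rw [pow_one]; exact h2)
    have hu' : proj b u = proj b j := hu
    have hu2 : u ^ 2 = 1 := by
      refine eq_one_of_proj (k := l) (by rw [← pow_mul, mul_comm, pow_mul, hl, one_pow]) ?_
      show proj b (u ^ 2) = 1
      rw [map_pow, hu', h2]
    have hne : u ≠ 1 := fun e' => h1 (by rw [← hu', e', map_one])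
    have huJ : u ∈ J' := Subgroup.zpowers_le.mpr hj huj
    have hub : u = el (rfl : b * b = b * b) := Subtype.ext (hb.2.2 _ huJ (by
      rw [Subgroup.orderOf_coe, orderOf_eq_prime hu2 hne]))
    rw [← hu', hub]

/-- Let G be finite and J ≠ K subgroups, each containing exactly one involution, z(J) resp. z(K), each a 2-component of the centralizer of its involution, with J / O(J) and K / O(K) both isomorphic to SL(2, F) for one finite field F of odd order, or both non-split double covers of A7. Then (i) every 2-element of K of order at least 4 centralizing z(J) normalizes J; (ii) if z(J) normalizes K then z(K) normalizes J. -/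
theorem result {G : Type*} [Group G] [Finite G] (J K : Subgroup G) (hJK : J ≠ K) (zJ zK : G) (hzJ : zJ ∈ J ∧ orderOf zJ = 2 ∧ ∀ t ∈ J, orderOf t = 2 → t = zJ) (hzK : zK ∈ K ∧ orderOf zK = 2 ∧ ∀ t ∈ K, orderOf t = 2 → t = zK) (hJ : J ≤ Subgroup.centralizer ({zJ} : Set G) ∧ Cfsg.IsPComponent 2 (J.subgroupOf (Subgroup.centralizer ({zJ} : Set G)))) (hK : K ≤ Subgroup.centralizer ({zK} : Set G) ∧ Cfsg.IsPComponent 2 (K.subgroupOf (Subgroup.centralizer ({zK} : Set G)))) (htype : (∃ (F : Type) (_ : Field F) (_ : Fintype F), Odd (Fintype.card F) ∧ Nonempty (↥J ⧸ Cfsg.oddCore ↥J ≃* Matrix.SpecialLinearGroup (Fin 2) F) ∧ Nonempty (↥K ⧸ Cfsg.oddCore ↥K ≃* Matrix.SpecialLinearGroup (Fin 2) F)) ∨ (Cfsg.IsNonsplitDoubleCover (↥J ⧸ Cfsg.oddCore ↥J) ↥(alternatingGroup (Fin 7)) ∧ Cfsg.IsNonsplitDoubleCover (↥K ⧸ Cfsg.oddCore ↥K) ↥(alternatingGroup (Fin 7)))) : (∀ y ∈ K, IsPGroup 2 ↥(Subgroup.zpowers y) → 4 ≤ orderOf y → y * zJ = zJ * y → y ∈ Subgroup.normalizer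 (J : Set G)) ∧ (zJ ∈ Subgroup.normalizer (K : Set G) → zK ∈ Subgroup.normalizer (J : Set G)) := by
  have hcards : ∃ n, Nat.card (Subgroup.center (↥J ⧸ Cfsg.oddCore ↥J)) = 2 ∧
      Nat.card (↥J ⧸ Cfsg.oddCore ↥J) = 2 * n ∧
      Nat.card (Subgroup.center (↥K ⧸ Cfsg.oddCore ↥K)) = 2 ∧
      Nat.card (↥K ⧸ Cfsg.oddCore ↥K) = 2 * n := by
    rcases htype with ⟨F, _, _, hodd, ⟨eJ⟩, ⟨eK⟩⟩ | ⟨⟨cJ, ⟨eJ⟩, -⟩, ⟨cK, ⟨eK⟩, -⟩⟩
    · have hc : Nat.card (Subgroup.center (Matrix.SpecialLinearGroup (Fin 2) F)) = 2 := by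
        classical
        rw [Nat.card_congr (Matrix.SpecialLinearGroup.center_equiv_rootsOfUnity'
          (⟨0, by norm_num⟩ : Fin 2)).toEquiv]
        have hne : (-1 : F) ≠ 1 := by
          intro h
          refine (Nat.not_even_iff_odd.mpr hodd) (even_iff_two_dvd.mpr ?_)
          obtain ⟨q, hq⟩ := CharP.exists F
          obtain ⟨m, hp, hm⟩ := FiniteField.card F q
          have h2 : ((2 : ℕ) : F) = 0 := by
            push_cast
            linear_combination -h
          have : q = 2 := ((Nat.prime_dvd_prime_iff_eq hp Nat.prime_two).mp ((CharP.cast_eq_zero_iff F q 2).mp h2))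
          rw [hm, this]
          exact dvd_pow_self 2 m.pos.ne'
        have hp : IsPrimitiveRoot (-1 : F) 2 := by
          refine IsPrimitiveRoot.mk_of_lt _ (by norm_num) (by norm_num) ?_
          intro l hl0 hl
          interval_cases l
          simpa using hne
        rw [Nat.card_eq_fintype_card]
        simpa using hp.card_rootsOfUnity
      have h := Subgroup.card_eq_card_quotient_mul_card_subgroup
        (Subgroup.center (Matrix.SpecialLinearGroup (Fin 2) F))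
      rw [hc, mul_comm] at h
      exact ⟨_, (Nat.card_congr (Subgroup.centerCongr eJ).toEquiv).trans hc,
        (Nat.card_congr eJ.toEquiv).trans h,
        (Nat.card_congr (Subgroup.centerCongr eK).toEquiv).trans hc,
        (Nat.card_congr eK.toEquiv).trans h⟩
    · refine ⟨Nat.card (alternatingGroup (Fin 7)), cJ, ?_, cK, ?_⟩
      · rw [Subgroup.card_eq_card_quotient_mul_card_subgroup (Subgroup.center (↥J ⧸ Cfsg.oddCore ↥J)),
          cJ, Nat.card_congr eJ.toEquiv, mul_comm]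
      · rw [Subgroup.card_eq_card_quotient_mul_card_subgroup (Subgroup.center (↥K ⧸ Cfsg.oddCore ↥K)),
          cK, Nat.card_congr eK.toEquiv, mul_comm]
  obtain ⟨n, h1, h2, h3, h4⟩ := hcards
  have hIJ := intrinsic hzJ hJ h1 h2
  have hIK := intrinsic hzK hK h3 h4
  by_cases he : zK = zJ
  · subst he
    refine ⟨fun y hy _ _ _ => ?_, fun _ => Subgroup.le_normalizer hIJ.mem⟩
    exact hIJ.mem_normalizer_of_pLayer (x := ⟨y, hK.1 hy⟩)
      (CfsgLib.Components.pComponent_le_pLayer hK.2 (Subgroup.mem_subgroupOf.mpr hy))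
  refine ⟨fun y hy hp h4 hcomm => ?_, fun h => CfsgLib.Intrinsic.normalizes_of_normalizes hIJ hIK h⟩
  obtain ⟨k, hk⟩ := hp ⟨y, Subgroup.mem_zpowers y⟩
  exact CfsgLib.Intrinsic.elements_normalize hIJ hIK he hy ⟨k, congrArg Subtype.val hk⟩ h4 hcomm

end Cfsg.Agent.S1315
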