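import Cfsg.Statements.S1316
import Cfsg.Agent.Lib.Components.FStar
import Cfsg.Agent.Lib.Components.Char

set_option autoImplicit false
open Cfsg

namespace Cfsg.Agent.S1316

/-- For a finite group X, E(X) equals the intersection of the derived series of F*(X) (its last term). -/
theorem result {X : Type*} [Group X] [Finite X] : (⨅ n : ℕ, (derivedSeries ↥(Cfsg.generalizedFittingSubgroup X) n).map (Cfsg.generalizedFittingSubgroup X).subtype) = Cfsg.layer X := by
  set K := Cfsg.generalizedFittingSubgroup X with hK
  haveI hEn : (Cfsg.layer X).Normal := CfsgLib.Components.layer_normal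
  haveI := CfsgLib.Components.fitting_isNilpotent (G := X)
  apply le_antisymm
  · let f : K →* X ⧸ Cfsg.layer X := (QuotientGroup.mk' (Cfsg.layer X)).comp K.subtype
    have hrange : f.range ≤ (Cfsg.fittingSubgroup X).map (QuotientGroup.mk' (Cfsg.layer X)) := by
      rw [MonoidHom.range_comp, Subgroup.range_subtype, hK, Cfsg.generalizedFittingSubgroup,
        Subgroup.map_sup, QuotientGroup.map_mk'_self, bot_sup_eq]
    haveI : Group.IsSolvable ((Cfsg.fittingSubgroup X).map (QuotientGroup.mk' (Cfsg.layer X))) :=
      solvable_of_surjective ((QuotientGroup.mk' (Cfsg.layer X)).subgroupMap_surjective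
        (Cfsg.fittingSubgroup X))
    haveI : Group.IsSolvable f.range :=
      solvable_of_solvable_injective (Subgroup.inclusion_injective hrange)
    obtain ⟨n, hn⟩ := (Group.isSolvable_def _).mp (inferInstance : Group.IsSolvable f.range)
    refine iInf_le_of_le n ?_
    rintro _ ⟨k, hk, rfl⟩
    have h1 := map_derivedSeries_le_derivedSeries f.rangeRestrict n ⟨k, hk, rfl⟩
    rw [hn, Subgroup.mem_bot] at h1
    have h2 : f k = 1 := congrArg Subtype.val h1
    exact (QuotientGroup.eq_one_iff _).mp h2
  · refine le_iInf fun n => ?_
    induction n with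
    | zero =>
      rw [derivedSeries_zero, ← MonoidHom.range_eq_map, Subgroup.range_subtype]
      exact le_sup_left
    | succ n ih =>
      rw [derivedSeries_succ, Subgroup.map_commutator]
      exact CfsgLib.Components.layer_perfect.ge.trans (Subgroup.commutator_mono ih ih)

end Cfsg.Agent.S1316
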