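import Cfsg.Statements.S1317
import Cfsg.Agent.Lib.Components.FStar
import Cfsg.Agent.Lib.Components.Char

set_option autoImplicit false
open Cfsg

namespace Cfsg.Agent.S1317

/-- For a finite group X, the centre of the layer E(X) is F(X) ∩ E(X). -/
theorem result {X : Type*} [Group X] [Finite X] : (Subgroup.center ↥(Cfsg.layer X)).map (Cfsg.layer X).subtype = Cfsg.fittingSubgroup X ⊓ Cfsg.layer X := by
  set E := Cfsg.layer X with hE
  haveI hEn : E.Normal := CfsgLib.Components.layer_normal
  apply le_antisymm
  · refine le_inf ?_ (Subgroup.map_subtype_le _)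
    refine CfsgLib.Components.subnormal_nilpotent_le_fitting ?_ ?_
    · exact (inferInstance : (Subgroup.center E).Normal).isSubnormal.trans' hEn.isSubnormal
    · haveI : Group.IsNilpotent (Subgroup.center E) :=
        @CommGroup.isNilpotent _ { (inferInstance : Group (Subgroup.center E)) with
          mul_comm := fun a b => Subtype.ext (Subgroup.mem_center_iff.mp b.2 a.1) }
      exact Group.nilpotent_of_mulEquiv
        ((Subgroup.center E).equivMapOfInjective E.subtype E.subtype_injective)
  · rintro x ⟨hxF, hxE⟩
    refine ⟨⟨x, hxE⟩, Subgroup.mem_center_iff.mpr fun g => Subtype.ext ?_, rfl⟩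
    exact (Subgroup.mem_centralizer_iff.mp (Subgroup.commutator_eq_bot_iff_le_centralizer.mp
      CfsgLib.Components.layer_commutes_fitting g.2) x hxF).symm

end Cfsg.Agent.S1317
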