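import Cfsg.Statements.S1319
import Cfsg.Agent.Lib.Components.Component

set_option autoImplicit false
open Cfsg

namespace Cfsg.Agent.S1319

/-- Let A be a subnormal subgroup of the finite group X with E(A) = A. Then A ≤ E(X) and A is normal in E(X). -/
theorem result {X : Type*} [Group X] [Finite X] (A : Subgroup X) (hsn : A.IsSubnormal) (hA : Cfsg.layer ↥A = ⊤) : A ≤ Cfsg.layer X ∧ (A.subgroupOf (Cfsg.layer X)).Normal := by
  have hle : A ≤ Cfsg.layer X := by
    have := CfsgLib.Components.map_layer_subnormal_le hsn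
    rwa [hA, ← MonoidHom.range_eq_map, Subgroup.range_subtype] at this
  refine ⟨hle, (Subgroup.normal_subgroupOf_iff_le_normalizer hle).mpr ?_⟩
  have hAeq : A = sSup ((fun K : Subgroup A => K.map A.subtype) '' {K | Cfsg.IsComponent K}) := by
    refine le_antisymm ?_ (sSup_le (by rintro _ ⟨K, _, rfl⟩; exact Subgroup.map_subtype_le K))
    have h1 : (Cfsg.layer A).map A.subtype ≤
        sSup ((fun K : Subgroup A => K.map A.subtype) '' {K | Cfsg.IsComponent K}) := by
      rw [Subgroup.map_le_iff_le_comap, CfsgLib.Components.layer_le_iff]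
      intro K hK
      rw [← Subgroup.map_le_iff_le_comap]
      exact le_sSup ⟨K, hK, rfl⟩
    rwa [hA, ← MonoidHom.range_eq_map, Subgroup.range_subtype] at h1
  rw [hAeq]
  refine CfsgLib.Components.sup_le_normalizer_sSup ?_
  rintro _ ⟨K, hK, rfl⟩
  exact CfsgLib.Components.component_le_normalizer_layer_member
    ((CfsgLib.Components.isComponent_map_subtype_iff hsn).mpr hK)

end Cfsg.Agent.S1319
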