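import Cfsg.Statements.S1321
import Cfsg.Agent.Lib.Components.PLayer

set_option autoImplicit false
open Cfsg

namespace Cfsg.Agent.S1321

open CfsgLib.Components
open scoped commutatorElement Pointwise

/-- Let X be finite and U ≤ X. Then E(X) is generated by C_{E(X)}(U) together with ⁅E(X), U⁆ (indeed it is their product, ⁅E(X), U⁆ being normal in E(X)). -/
theorem result {X : Type*} [Group X] [Finite X] (U : Subgroup X) : Cfsg.layer X = (Cfsg.layer X ⊓ Subgroup.centralizer (U : Set X)) ⊔ ⁅Cfsg.layer X, U⁆ ∧ ⁅Cfsg.layer X, U⁆ ≤ Cfsg.layer X := by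
  haveI := layer_normal (G := X)
  have h2 : ⁅Cfsg.layer X, U⁆ ≤ Cfsg.layer X := Subgroup.commutator_le_left _ _
  refine ⟨le_antisymm (layer_le_iff.mpr fun L hL => ?_) (sup_le inf_le_left h2), h2⟩
  set D := ⁅Cfsg.layer X, U⁆ with hD
  by_cases hLD : L ≤ D
  · exact hLD.trans le_sup_right
  refine le_trans (le_inf (le_layer hL) ?_) le_sup_left
  have hDn : Cfsg.layer X ≤ Subgroup.normalizer (D : Set X) := Subgroup.normalizer_commutator_ge_left _ _
  have hLn : L ≤ Subgroup.normalizer (D : Set X) := (le_layer hL).trans hDn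
  have hnorm : U ≤ Subgroup.normalizer (L : Set X) := by
    intro u hu
    by_contra hne
    have hconj := isComponent_conj hL u
    have hneq : MulAut.conj u • L ≠ L := fun e => hne (mem_normalizer_of_smul_eq_self e)
    have hcomm := components_commute hL hconj (Ne.symm hneq)
    refine hLD ?_
    rw [← IsComponent.commutator_eq_self hL, Subgroup.commutator_le]
    intro a ha b hb
    have h3 : ⁅a, u⁆ ∈ D := Subgroup.commutator_mem_commutator (le_layer hL ha) hu
    have h4 : ⁅⁅a, u⁆, b⁆ ∈ D := by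
      have h5 := (Subgroup.mem_normalizer_iff.mp (hLn hb) _).mp (inv_mem h3)
      have h6 := mul_mem h3 h5
      rwa [commutatorElement_def ⁅a, u⁆ b,
        show ⁅a, u⁆ * b * ⁅a, u⁆⁻¹ * b⁻¹ = ⁅a, u⁆ * (b * ⁅a, u⁆⁻¹ * b⁻¹) by group]
    have hc : (u * a⁻¹ * u⁻¹) * b = b * (u * a⁻¹ * u⁻¹) := by
      refine (Subgroup.mem_centralizer_iff.mp
        (Subgroup.commutator_eq_bot_iff_le_centralizer.mp hcomm hb) _ ?_)
      exact Subgroup.smul_mem_pointwise_smul a⁻¹ (MulAut.conj u) L (inv_mem ha)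
    have e : ⁅⁅a, u⁆, b⁆ = ⁅a, b⁆ := by
      rw [show ⁅a, u⁆ = a * (u * a⁻¹ * u⁻¹) by rw [commutatorElement_def]; group,
        commutatorElement_mul_left_eq_conj_mul, commutatorElement_eq_one_iff_mul_comm.mpr hc]
      simp
    rwa [e] at h4
  have hle : ⁅L, U⁆ ≤ L ⊓ D :=
    le_inf (Subgroup.le_normalizer_iff_commutator_le_left.mp hnorm)
      (Subgroup.commutator_mono (le_layer hL) le_rfl)
  haveI hn : (D.subgroupOf L).Normal := Subgroup.normal_subgroupOf_of_le_normalizer hLn
  have hcen : D.subgroupOf L ≤ Subgroup.center L :=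
    IsQuasisimple.le_center_of_ne_top hL.2 hn fun e => hLD (Subgroup.subgroupOf_eq_top.mp e)
  have h7 : ⁅⁅L, U⁆, L⁆ = ⊥ := by
    rw [Subgroup.commutator_eq_bot_iff_le_centralizer]
    refine hle.trans fun x hx => Subgroup.mem_centralizer_iff.mpr fun y hy => ?_
    exact congrArg Subtype.val (Subgroup.mem_center_iff.mp
      (hcen (show (⟨x, hx.1⟩ : L) ∈ D.subgroupOf L from hx.2)) ⟨y, hy⟩)
  have h8 : ⁅⁅U, L⁆, L⁆ = ⊥ := by rwa [Subgroup.commutator_comm U L]
  have h9 := Subgroup.commutator_commutator_eq_bot_of_rotate h7 h8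
  rw [IsComponent.commutator_eq_self hL] at h9
  exact Subgroup.commutator_eq_bot_iff_le_centralizer.mp h9

end Cfsg.Agent.S1321
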