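import Cfsg.Statements.S1323
import Cfsg.Agent.Lib.Components.Quasisimple
import Mathlib.GroupTheory.SpecificGroups.Alternating.Simple

set_option autoImplicit false
open Cfsg

namespace Cfsg.Agent.S1323

open Subgroup Equiv Finset CfsgLib

section
variable {n : ℕ}

/-- The first four points. -/
def D (n : ℕ) : Finset (Fin n) := Finset.univ.filter fun x => (x : ℕ) < 4

theorem mem_D {x : Fin n} : x ∈ D n ↔ (x : ℕ) < 4 := by simp [D]

theorem card_D (h4 : 4 ≤ n) : (D n).card = 4 := by
  have : D n = Finset.univ.map (Fin.castLEEmb h4) := by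
    ext x
    simp only [mem_D, Finset.mem_map, Finset.mem_univ, true_and]
    exact ⟨fun h => ⟨⟨x, h⟩, rfl⟩, by rintro ⟨i, rfl⟩; exact i.2⟩
  rw [this, Finset.card_map, Finset.card_univ, Fintype.card_fin]

/-- Even permutations fixing a set of points. -/
def fixing (S : Finset (Fin n)) : Subgroup (alternatingGroup (Fin n)) where
  carrier := {g | ∀ x ∈ S, g.1 x = x}
  one_mem' := fun _ _ => rfl
  mul_mem' := fun {a b} ha hb x hx => by
    show a.1 (b.1 x) = x
    rw [hb x hx, ha x hx]
  inv_mem' := fun {a} ha x hx => by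
    show a.1⁻¹ x = x
    rw [Perm.inv_eq_iff_eq]; exact (ha x hx).symm

theorem mem_fixing {S : Finset (Fin n)} {g : alternatingGroup (Fin n)} :
    g ∈ fixing S ↔ ∀ x ∈ S, g.1 x = x := Iff.rfl

/-- A three-cycle in `fixing S`. -/
theorem exists_cycle {S : Finset (Fin n)} {x z w : Fin n} (hx : x ∉ S) (hz : z ∉ S) (hw : w ∉ S)
    (hxz : x ≠ z) (hxw : x ≠ w) (hzw : z ≠ w) :
    ∃ g ∈ fixing S, g.1 x = z ∧ ∀ y, y ≠ x → y ≠ z → y ≠ w → g.1 y = y := by
  have he : swap x z * swap z w ∈ alternatingGroup (Fin n) := by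
    rw [Perm.mem_alternatingGroup, map_mul, Perm.sign_swap hxz, Perm.sign_swap hzw]
    rfl
  refine ⟨⟨_, he⟩, fun y hy => ?_, ?_, fun y h1 h2 h3 => ?_⟩
  · show swap x z (swap z w y) = y
    have h1 : y ≠ x := fun h => hx (h ▸ hy)
    have h2 : y ≠ z := fun h => hz (h ▸ hy)
    have h3 : y ≠ w := fun h => hw (h ▸ hy)
    rw [swap_apply_of_ne_of_ne h2 h3, swap_apply_of_ne_of_ne h1 h2]
  · show swap x z (swap z w x) = z
    rw [swap_apply_of_ne_of_ne hxz hxw, swap_apply_left]
  · show swap x z (swap z w y) = y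
    rw [swap_apply_of_ne_of_ne h2 h3, swap_apply_of_ne_of_ne h1 h2]

theorem exists_two {S : Finset (Fin n)} (hS : S.card + 2 ≤ n) :
    ∃ z w : Fin n, z ∉ S ∧ w ∉ S ∧ z ≠ w := by
  have h : 1 < Sᶜ.card := by rw [Finset.card_compl, Fintype.card_fin]; omega
  obtain ⟨z, hz, w, hw, hne⟩ := Finset.one_lt_card.mp h
  exact ⟨z, w, Finset.mem_compl.mp hz, Finset.mem_compl.mp hw, hne⟩

/-- A point outside `S` is moved, also keeping a given point fixed. -/
theorem exists_moving {S : Finset (Fin n)} (hS : S.card + 4 ≤ n) {x : Fin n} (hx : x ∉ S) (y : Fin n) :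
    ∃ g ∈ fixing S, g.1 x ≠ x ∧ (y ≠ x → g.1 y = y) := by
  obtain ⟨z, w, hz, hw, hzw⟩ := exists_two (S := insert y (insert x S)) (by
    have := Finset.card_insert_le y (insert x S)
    have := Finset.card_insert_le x S
    omega)
  simp only [Finset.mem_insert, not_or] at hz hw
  obtain ⟨g, hg, hgx, hgy⟩ := exists_cycle hx hz.2.2 hw.2.2 (Ne.symm hz.2.1) (Ne.symm hw.2.1) hzw
  exact ⟨g, hg, by rw [hgx]; exact hz.2.1, fun h => hgy y h (Ne.symm hz.1) (Ne.symm hw.1)⟩

theorem mapsTo_compl {S : Finset (Fin n)} {g : alternatingGroup (Fin n)} (hg : g ∈ fixing S)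
    {x : Fin n} (hx : x ∉ S) : g.1 x ∉ S := fun h => hx (by
  have := hg _ h
  have h' := g.1.injective this
  rw [← h']; exact h)

/-- An even involution fixing all but three points does not exist. -/
theorem involution_support {y : alternatingGroup (Fin n)} (hy : y ^ 2 = 1) {T : Finset (Fin n)}
    (hT : T.card ≤ 3) (hfix : ∀ x ∉ T, y.1 x = x) : y = 1 := by
  by_contra hne
  have hyy : ∀ x, y.1 (y.1 x) = x := fun x => by
    have : (y * y : alternatingGroup (Fin n)) = 1 := by rw [← pow_two, hy]
    exact congrArg (fun t : alternatingGroup (Fin n) => t.1 x) this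
  obtain ⟨x, hx⟩ : ∃ x, y.1 x ≠ x := by
    by_contra h
    push Not at h
    exact hne (Subtype.ext (Equiv.ext h))
  have hmem : ∀ w, y.1 w ≠ w → w ∈ T := fun w hw => by
    by_contra h
    exact hw (hfix w h)
  have hsw : y.1 = swap x (y.1 x) := Equiv.ext fun w => by
    by_cases h1 : w = x
    · rw [h1, swap_apply_left]
    by_cases h2 : w = y.1 x
    · rw [h2, swap_apply_right, hyy]
    rw [swap_apply_of_ne_of_ne h1 h2]
    by_contra hw
    have h3 : y.1 w ≠ x := fun h => h2 (by rw [← h, hyy])
    have h4 : y.1 w ≠ y.1 x := fun h => h1 (y.1.injective h)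
    have h5 : ({x, y.1 x, w, y.1 w} : Finset (Fin n)) ⊆ T := by
      intro u hu
      simp only [Finset.mem_insert, Finset.mem_singleton] at hu
      rcases hu with rfl | rfl | rfl | rfl
      · exact hmem _ hx
      · exact hmem _ (fun h => hx (y.1.injective h))
      · exact hmem _ hw
      · exact hmem _ (fun h => hw (y.1.injective h))
    have h6 : ({x, y.1 x, w, y.1 w} : Finset (Fin n)).card = 4 := by
      simp [Ne.symm hx, Ne.symm h1, Ne.symm h2, Ne.symm h3, Ne.symm h4, Ne.symm hw]
    have := Finset.card_le_card h5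
    omega
  have hs := Perm.mem_alternatingGroup.mp y.2
  rw [hsw, Perm.sign_swap (Ne.symm hx)] at hs
  exact absurd hs (by decide)

end

/-- For n ≥ 9, the subgroup of the alternating group on Fin n fixing each of the points 0, 1, 2, 3 is a standard subgroup. -/
theorem result (n : ℕ) (h4 : 4 ≤ n) (hn : 9 ≤ n) : Cfsg.IsStandardSubgroup (⨅ i : Fin 4, MulAction.stabilizer ↥(alternatingGroup (Fin n)) (Fin.castLE h4 i : Fin n)) := by
  classical
  set L := (⨅ i : Fin 4, MulAction.stabilizer ↥(alternatingGroup (Fin n)) (Fin.castLE h4 i : Fin n))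
  have hcD := card_D h4
  have hcC : (D n)ᶜ.card = n - 4 := by rw [Finset.card_compl, Fintype.card_fin, hcD]
  have hL : L = fixing (D n) := by
    ext g
    simp only [L, mem_iInf, MulAction.mem_stabilizer_iff, mem_fixing, mem_D]
    exact ⟨fun h x hx => h ⟨x, hx⟩, fun h i => h _ i.2⟩
  have hC : centralizer (L : Set ↥(alternatingGroup (Fin n))) = fixing (D n)ᶜ := by
    ext c
    rw [hL, mem_centralizer_iff, mem_fixing]
    constructor
    · intro h x hx
      rw [Finset.mem_compl] at hx
      by_contra hne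
      obtain ⟨g, hg, hgx, hgy⟩ := exists_moving (S := D n) (by omega) hx (c.1 x)
      have h1 : g.1 (c.1 x) = c.1 (g.1 x) := congrArg (fun t : ↥(alternatingGroup (Fin n)) => t.1 x) (h g hg)
      rw [hgy hne] at h1
      exact hgx (c.1.injective h1).symm
    · intro hc g hg
      refine Subtype.ext (Equiv.ext fun x => ?_)
      show g.1 (c.1 x) = c.1 (g.1 x)
      by_cases hx : x ∈ D n
      · rw [hg x hx]
        refine hg _ ?_
        have h := mapsTo_compl (S := (D n)ᶜ) hc (x := x) (by rwa [Finset.mem_compl, not_not])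
        rwa [Finset.mem_compl, not_not] at h
      · rw [hc x (Finset.mem_compl.mpr hx), hc _ (Finset.mem_compl.mpr (mapsTo_compl hg hx))]
  -- both normalisers are the setwise stabiliser of `D`
  have hconj : ∀ (S : Finset (Fin n)) (g : ↥(alternatingGroup (Fin n))), (∀ x, g.1 x ∈ S ↔ x ∈ S) →
      g ∈ normalizer (fixing S : Set ↥(alternatingGroup (Fin n))) := by
    intro S g hg
    refine mem_normalizer_iff.mpr fun h => ⟨fun hh x hx => ?_, fun hh x hx => ?_⟩
    · show g.1 (h.1 (g.1⁻¹ x)) = x
      rw [hh _ ((hg _).mp (by simpa using hx))]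
      simp
    · have : g.1 (h.1 (g.1⁻¹ (g.1 x))) = g.1 x := hh _ ((hg x).mpr hx)
      simpa using this
  have hnorm : ∀ (S : Finset (Fin n)), (∀ x ∉ S, ∃ h ∈ fixing S, h.1 x ≠ x) →
      ∀ g ∈ normalizer (fixing S : Set ↥(alternatingGroup (Fin n))), ∀ x, g.1 x ∈ S ↔ x ∈ S := by
    intro S hS g hg x
    constructor <;> intro hx <;> by_contra hne
    · obtain ⟨h, hh, hhx⟩ := hS x hne
      have h1 : g.1 (h.1 (g.1⁻¹ (g.1 x))) = g.1 x := (mem_normalizer_iff.mp hg h).mp hh _ hx
      simp at h1
      exact hhx h1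
    · obtain ⟨h, hh, hhx⟩ := hS _ hne
      have hh' : g⁻¹ * h * g ∈ fixing S := by
        simpa using (mem_normalizer_iff.mp (inv_mem hg) h).mp hh
      have h1 : g.1⁻¹ (h.1 (g.1 x)) = x := hh' x hx
      exact hhx (by simpa using congrArg g.1 h1)
  have hSD : ∀ x ∉ D n, ∃ h ∈ fixing (D n), h.1 x ≠ x := fun x hx =>
    let ⟨g, h1, h2, _⟩ := exists_moving (S := D n) (by omega) hx x
    ⟨g, h1, h2⟩
  have hSC : ∀ x ∉ (D n)ᶜ, ∃ h ∈ fixing (D n)ᶜ, h.1 x ≠ x := by
    intro x hx
    obtain ⟨z, w, hz, hw, hzw⟩ := exists_two (S := insert x (D n)ᶜ) (by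
      have := Finset.card_insert_le x (D n)ᶜ
      omega)
    simp only [Finset.mem_insert, not_or] at hz hw
    obtain ⟨g, hg, hgx, -⟩ := exists_cycle hx hz.2 hw.2 (Ne.symm hz.1) (Ne.symm hw.1) hzw
    exact ⟨g, hg, by rw [hgx]; exact hz.1⟩
  have hNeq : normalizer (fixing (D n) : Set ↥(alternatingGroup (Fin n))) =
      normalizer (fixing (D n)ᶜ : Set ↥(alternatingGroup (Fin n))) := by
    ext g
    refine ⟨fun hg => hconj _ g fun x => ?_, fun hg => hconj _ g fun x => ?_⟩
    · rw [Finset.mem_compl, Finset.mem_compl, hnorm _ hSD g hg x]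
    · have := hnorm _ hSC g hg x
      rwa [Finset.mem_compl, Finset.mem_compl, not_iff_not] at this
  -- moving `D` is the same as not normalising
  have hmove : ∀ g : ↥(alternatingGroup (Fin n)),
      g ∉ normalizer (fixing (D n) : Set ↥(alternatingGroup (Fin n))) → ∃ d ∈ D n, g.1 d ∉ D n := by
    intro g hg
    by_contra hcon
    push Not at hcon
    have himg : (D n).image g.1 = D n := Finset.eq_of_subset_of_card_le
      (by intro u hu; obtain ⟨d, hd, rfl⟩ := Finset.mem_image.mp hu; exact hcon d hd)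
      (by rw [Finset.card_image_of_injective _ g.1.injective])
    refine hg (hconj _ g fun x => ⟨fun hx => ?_, hcon x⟩)
    rw [← himg, Finset.mem_image] at hx
    obtain ⟨d, hd, he⟩ := hx
    exact g.1.injective he ▸ hd
  refine ⟨?_, ⟨?_, ?_⟩, ?_, ?_⟩
  · -- `L` is an alternating group
    let p : Fin n → Prop := fun x => 4 ≤ (x : ℕ)
    let f : ↥(alternatingGroup (Subtype p)) →* ↥L :=
      (((Perm.ofSubtype : Perm (Subtype p) →* Perm (Fin n)).comp
        (alternatingGroup (Subtype p)).subtype).codRestrict (alternatingGroup (Fin n)) fun g => by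
          rw [Perm.mem_alternatingGroup]
          simp only [MonoidHom.comp_apply, Subgroup.coe_subtype, Perm.sign_ofSubtype]
          exact Perm.mem_alternatingGroup.mp g.2).codRestrict L fun g => by
        rw [hL]
        intro x hx
        exact Perm.ofSubtype_apply_of_not_mem _ (not_le.mpr (mem_D.mp hx))
    have hf : Function.Bijective f := by
      refine ⟨fun a b h => Subtype.ext (Perm.ofSubtype_injective
        (congrArg (fun t : ↥L => t.1.1) h)), fun σ => ?_⟩
      have hσ : σ.1 ∈ fixing (D n) := hL.le σ.2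
      have hp : ∀ x, p (σ.1.1 x) ↔ p x := fun x => by
        by_cases hx : x ∈ D n
        · rw [hσ x hx]
        · have h1 := mapsTo_compl hσ hx
          rw [mem_D, not_lt] at hx h1
          exact iff_of_true h1 hx
      have hsup : ∀ x, σ.1.1 x ≠ x → p x := fun x hx => not_lt.mp fun h => hx (hσ x (mem_D.mpr h))
      refine ⟨⟨σ.1.1.subtypePerm hp, ?_⟩, Subtype.ext (Subtype.ext ?_)⟩
      · rw [Perm.mem_alternatingGroup, Perm.sign_subtypePerm _ hp hsup]
        exact Perm.mem_alternatingGroup.mp σ.1.2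
      · exact Perm.ofSubtype_subtypePerm hp hsup
    let e := MulEquiv.ofBijective f hf
    have hcard : 5 ≤ Nat.card (Subtype p) := by
      rw [Nat.card_eq_fintype_card, Fintype.card_subtype]
      have : (Finset.univ.filter p) = (D n)ᶜ := by
        ext x; simp [p, mem_D]
      rw [this, hcC]; omega
    haveI := alternatingGroup.isSimpleGroup hcard
    refine (Components.isQuasisimple_congr e).mp (Components.isQuasisimple_of_isSimpleGroup fun hab => ?_)
    obtain ⟨x, hx⟩ : ∃ x, x ∉ D n := by
      obtain ⟨z, -, hz, -⟩ := exists_two (S := D n) (by omega)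
      exact ⟨z, hz⟩
    obtain ⟨a, ha, hax, -⟩ := exists_moving (S := D n) (by omega) hx x
    obtain ⟨b, hb, hbax, hbx⟩ := exists_moving (S := D n) (by omega) (mapsTo_compl ha hx) x
    have h1 := congrArg (fun t : ↥(alternatingGroup (Subtype p)) => (f t).1.1 x)
      (hab.is_comm.comm (e.symm ⟨a, hL.ge ha⟩) (e.symm ⟨b, hL.ge hb⟩))
    have he : ∀ t : ↥L, f (e.symm t) = t := e.apply_symm_apply
    simp only [map_mul, he] at h1
    change a.1 (b.1 x) = b.1 (a.1 x) at h1
    rw [hbx (Ne.symm hax)] at h1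
    exact hbax h1.symm
  · rw [hC]
    let d : Fin 4 → Fin n := Fin.castLE h4
    have hd : Function.Injective d := Fin.castLE_injective h4
    have he : swap (d 0) (d 1) * swap (d 2) (d 3) ∈ alternatingGroup (Fin n) := by
      rw [Perm.mem_alternatingGroup, map_mul, Perm.sign_swap (hd.ne (by decide)),
        Perm.sign_swap (hd.ne (by decide))]
      rfl
    have hmem : (⟨_, he⟩ : ↥(alternatingGroup (Fin n))) ∈ fixing (D n)ᶜ := fun x hx => by
      rw [Finset.mem_compl, mem_D] at hx
      have hne : ∀ k, x ≠ d k := fun k h => hx (h ▸ k.2)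
      show swap (d 0) (d 1) (swap (d 2) (d 3) x) = x
      rw [swap_apply_of_ne_of_ne (hne 2) (hne 3), swap_apply_of_ne_of_ne (hne 0) (hne 1)]
    have ho : orderOf (⟨_, hmem⟩ : ↥(fixing (D n)ᶜ)) = 2 := by
      refine orderOf_eq_prime (Subtype.ext (Subtype.ext ?_)) fun h => ?_
      · show (swap (d 0) (d 1) * swap (d 2) (d 3)) ^ 2 = 1
        refine Equiv.ext fun x => ?_
        rw [pow_two]
        simp only [Perm.coe_mul, Function.comp_apply, Perm.coe_one, id_eq]
        have hc : Commute (swap (d 0) (d 1)) (swap (d 2) (d 3)) := by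
          refine Perm.Disjoint.commute fun y => ?_
          by_cases h : y = d 2 ∨ y = d 3
          · left
            rcases h with rfl | rfl <;> exact swap_apply_of_ne_of_ne (hd.ne (by decide)) (hd.ne (by decide))
          · push Not at h
            exact Or.inr (swap_apply_of_ne_of_ne h.1 h.2)
        have := congrArg (fun t : Perm (Fin n) => t (swap (d 2) (d 3) x)) hc.eq
        simp only [Perm.coe_mul, Function.comp_apply, swap_apply_self] at this
        rw [← this, swap_apply_self]
      · have := congrArg (fun t : ↥(fixing (D n)ᶜ) => t.1.1 (d 0)) h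
        simp only [Perm.coe_mul, Function.comp_apply, Perm.coe_one, id_eq, OneMemClass.coe_one] at this
        rw [swap_apply_of_ne_of_ne (hd.ne (by decide)) (hd.ne (by decide)), swap_apply_left] at this
        exact absurd (hd this) (by decide)
    rw [even_iff_two_dvd, ← ho]
    exact orderOf_dvd_natCard _
  · intro g hg
    rw [hC] at hg ⊢
    obtain ⟨d, hd, hgd⟩ := hmove g (hNeq ▸ hg)
    by_contra hodd
    rw [Nat.not_odd_iff_even, even_iff_two_dvd] at hodd
    obtain ⟨⟨y, hy1, hy2⟩, hy⟩ := exists_prime_orderOf_dvd_card' (p := 2) hodd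
    have hy' : orderOf y = 2 := (orderOf_injective (Subgroup.subtype _) (Subgroup.subtype_injective _) _).trans hy
    obtain ⟨y', hy'C, hyy⟩ := hy2
    -- `y` is supported inside `D ∩ g D`
    have hfix : ∀ x ∉ (D n).image g.1, y.1 x = x := fun x hx => by
      rw [← hyy]
      show g.1 (y'.1 (g.1⁻¹ x)) = x
      rw [hy'C _ (Finset.mem_compl.mpr fun h => hx (Finset.mem_image.mpr ⟨_, h, by simp⟩))]
      simp
    have h1 : y = 1 := involution_support (T := (D n) ∩ (D n).image g.1)
      (orderOf_dvd_iff_pow_eq_one.mp (dvd_of_eq hy')) (by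
        have hlt : (D n) ∩ (D n).image g.1 ⊂ (D n).image g.1 := by
          refine ⟨Finset.inter_subset_right, fun h => hgd ?_⟩
          exact (Finset.mem_inter.mp (h (Finset.mem_image_of_mem _ hd))).1
        have := Finset.card_lt_card hlt
        rw [Finset.card_image_of_injective _ g.1.injective, hcD] at this
        omega) fun x hx => by
        rw [Finset.mem_inter, not_and_or] at hx
        rcases hx with hx | hx
        · exact hy1 x (Finset.mem_compl.mpr hx)
        · exact hfix x hx
    rw [h1, orderOf_one] at hy'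
    omega
  · intro g hg
    rw [hL] at hg ⊢
    have hgN : g ∉ normalizer (fixing (D n) : Set ↥(alternatingGroup (Fin n))) := fun h =>
      hg (mem_normalizer_iff_map_conj_eq.mp h)
    -- `x` outside both sets, `u` inside `g D` only
    obtain ⟨d, hd, hgd⟩ := hmove g hgN
    obtain ⟨x, hx⟩ : ∃ x, x ∉ D n ∪ (D n).image g.1 := by
      by_contra h
      push Not at h
      have h1 := Finset.card_le_card (show (Finset.univ : Finset (Fin n)) ⊆ D n ∪ (D n).image g.1 from fun u _ => h u)
      have h2 := Finset.card_union_le (D n) ((D n).image g.1)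
      rw [Finset.card_image_of_injective _ g.1.injective, hcD] at h2
      rw [Finset.card_univ, Fintype.card_fin] at h1
      omega
    rw [Finset.mem_union, not_or] at hx
    have hxu : x ≠ g.1 d := fun h => hx.2 (h ▸ Finset.mem_image_of_mem _ hd)
    obtain ⟨w, -, hw, -, -⟩ := exists_two (S := insert x (insert (g.1 d) (D n))) (by
      have := Finset.card_insert_le x (insert (g.1 d) (D n))
      have := Finset.card_insert_le (g.1 d) (D n)
      omega)
    simp only [Finset.mem_insert, not_or] at hw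
    obtain ⟨a, ha, hax, -⟩ := exists_cycle hx.1 hgd hw.2.2 hxu (Ne.symm hw.1) (Ne.symm hw.2.1)
    obtain ⟨b, hb, hbx, -⟩ := exists_moving (S := D n) (by omega)
      (show g.1⁻¹ x ∉ D n from fun h => hx.2 (Finset.mem_image.mpr ⟨_, h, by simp⟩)) (g.1⁻¹ x)
    intro hbot
    have hcom := mem_centralizer_iff.mp ((commutator_eq_bot_iff_le_centralizer.mp hbot) ha)
      (g * b * g⁻¹) ⟨b, hb, rfl⟩
    have h1 := congrArg (fun t : ↥(alternatingGroup (Fin n)) => t.1 x) hcom
    change g.1 (b.1 (g.1⁻¹ (a.1 x))) = a.1 (g.1 (b.1 (g.1⁻¹ x))) at h1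
    rw [hax] at h1
    have h2 : b.1 (g.1⁻¹ (g.1 d)) = d := by
      simpa using hb d hd
    rw [h2] at h1
    have h3 : a.1 (g.1 (b.1 (g.1⁻¹ x))) = a.1 x := by rw [← h1, hax]
    exact hbx (g.1.injective ((a.1.injective h3).trans (by simp)))
  · rw [hC, hL]
    exact hNeq

end Cfsg.Agent.S1323
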