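import Cfsg.Statements.S1326
import Cfsg.Agent.Lib.Components.FStar
import Cfsg.Agent.Lib.Components.Char

set_option autoImplicit false
open Cfsg

namespace Cfsg.Agent.S1326

/-- For a finite group X: the Fitting subgroup contains its centralizer if and only if the layer of X is trivial. -/
theorem result {X : Type*} [Group X] [Finite X] : Subgroup.centralizer (Cfsg.fittingSubgroup X : Set X) ≤ Cfsg.fittingSubgroup X ↔ Cfsg.layer X = ⊥ := by
  refine ⟨fun h => CfsgLib.Components.layer_eq_bot_iff.mpr fun L hL => ?_,
    CfsgLib.Components.centralizer_fitting_le_of_layer_eq_bot⟩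
  have hle : L ≤ Cfsg.fittingSubgroup X := (Subgroup.commutator_eq_bot_iff_le_centralizer.mp
    (CfsgLib.Components.component_commutes_fitting hL)).trans h
  haveI := CfsgLib.Components.fitting_isNilpotent (G := X)
  exact CfsgLib.Components.IsComponent.not_isSolvable hL
    (solvable_of_solvable_injective (Subgroup.inclusion_injective hle))

end Cfsg.Agent.S1326
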