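import Cfsg.Statements.S1328
import Cfsg.Agent.Lib.Components.LocalBalance
import Cfsg.Agent.Lib.Components.FStar

set_option autoImplicit false
open Cfsg

namespace Cfsg.Agent.S1328

open CfsgLib.Components
open scoped Pointwise commutatorElement

theorem unbalanced {X : Type*} [Group X] [Finite X] (hO : Cfsg.pPrimeCore 2 X = ⊥) {t : X}
    (ht : orderOf t = 2) {Y : Subgroup X} (hY1 : Y ≠ ⊥)
    (hY : Y ≤ (Cfsg.pPrimeCore 2 ↥(Subgroup.centralizer ({t} : Set X))).map
      (Subgroup.centralizer ({t} : Set X)).subtype) :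
    ∃ E : Subgroup X, Cfsg.IsComponent E ∧ t ∈ Subgroup.normalizer (E : Set X) ∧
      Y ≤ Subgroup.normalizer (E : Set X) ∧ t ∉ Subgroup.centralizer (E : Set X) ∧
      ¬ Y ≤ Subgroup.centralizer (E : Set X) := by
  haveI : Fact (Nat.Prime 2) := ⟨Nat.prime_two⟩
  have hP : IsPGroup 2 (Subgroup.zpowers t) :=
    IsPGroup.of_card (n := 1) (by rw [Nat.card_zpowers, ht, pow_one])
  have hN : Subgroup.normalizer ((Subgroup.zpowers t : Subgroup X) : Set X) =
      Subgroup.centralizer ({t} : Set X) := by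
    refine le_antisymm (fun g hg => ?_) fun g hg => ?_
    · have h1 := (Subgroup.mem_normalizer_iff.mp hg t).mp (Subgroup.mem_zpowers t)
      obtain ⟨k, hk⟩ := h1
      have hk' : t ^ k = g * t * g⁻¹ := hk
      rw [← zpow_mod_orderOf, ht] at hk'
      rcases Int.emod_two_eq_zero_or_one k with h | h
      · rw [show ((2 : ℕ) : ℤ) = 2 from rfl, h, zpow_zero, eq_comm, mul_inv_eq_one,
          mul_eq_left] at hk'
        rw [hk', orderOf_one] at ht
        exact absurd ht (by norm_num)
      · rw [show ((2 : ℕ) : ℤ) = 2 from rfl, h, zpow_one] at hk'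
        exact Subgroup.mem_centralizer_singleton_iff.mpr (eq_mul_inv_iff_mul_eq.mp hk').symm
    · refine Subgroup.centralizer_le_normalizer _ (Subgroup.mem_centralizer_iff.mpr ?_)
      rintro _ ⟨k, rfl⟩
      exact ((show Commute g t from Subgroup.mem_centralizer_singleton_iff.mp hg).zpow_right k).symm.eq
  set W := (Cfsg.pPrimeCore 2 ↥(Subgroup.centralizer ({t} : Set X))).map
      (Subgroup.centralizer ({t} : Set X)).subtype with hW
  have hWeq : W = (Cfsg.pPrimeCore 2
      ↥(Subgroup.normalizer ((Subgroup.zpowers t : Subgroup X) : Set X))).map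
      (Subgroup.normalizer ((Subgroup.zpowers t : Subgroup X) : Set X)).subtype := by
    rw [hN]
  have hWcop : (Nat.card W).Coprime 2 := by
    rw [hW, Subgroup.card_map_of_injective (Subgroup.subtype_injective _)]
    exact pPrimeCore_coprime 2
  have hcompW : ∀ E : Subgroup X, Cfsg.IsComponent E →
      W ≤ Subgroup.normalizer (E : Set X) := fun E hE =>
    hWeq.le.trans ((Subgroup.map_mono le_sup_right).trans (local_normalizes_component hO hP hE))
  -- `W` centralizes the Fitting subgroup
  have hWF : Y ≤ Subgroup.centralizer (Cfsg.fittingSubgroup X : Set X) := by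
    rw [fitting_eq_pCore_of_core_bot hO]
    intro y hy
    refine centralizes_pCore_of_local hP (hWcop.coprime_dvd_left (W.orderOf_dvd_natCard (hY hy))) ?_
    have h1 := hWeq.le (hY hy)
    obtain ⟨z, hz, hzy⟩ := h1
    rw [Subgroup.mem_centralizer_iff]
    rintro _ ⟨v, hv, rfl⟩
    rw [← hzy]
    exact congrArg Subtype.val (Subgroup.mem_centralizer_iff.mp
      (Subgroup.commutator_eq_bot_iff_le_centralizer.mp pPrimeCore_commutes_pCore hz) v hv)
  by_contra hno
  refine hY1 ?_
  have hY2 : Y ≤ Subgroup.centralizer (Cfsg.generalizedFittingSubgroup X : Set X) := by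
    rw [← Subgroup.commutator_eq_bot_iff_le_centralizer, Cfsg.generalizedFittingSubgroup,
      commutator_sup_right_eq_bot]
    refine ⟨?_, Subgroup.commutator_eq_bot_iff_le_centralizer.mpr hWF⟩
    rw [Subgroup.commutator_comm, Subgroup.commutator_eq_bot_iff_le_centralizer]
    refine layer_le_iff.mpr fun E hE => ?_
    rw [← Subgroup.commutator_eq_bot_iff_le_centralizer]
    by_cases hEt : ⁅E, Subgroup.zpowers t⁆ = E
    · by_contra hne
      refine hno ⟨E, hE, ?_, hY.trans (hcompW E hE), ?_, ?_⟩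
      · refine mem_normalizer_of_smul_eq_self (Subgroup.eq_of_le_of_card_ge ?_
          (Nat.card_congr (Subgroup.equivSMul (MulAut.conj t) E).toEquiv).le)
        rintro _ ⟨e, he, rfl⟩
        show t * e * t⁻¹ ∈ E
        have h1 : ⁅e⁻¹, t⁆ ∈ E :=
          hEt.le (Subgroup.commutator_mem_commutator (inv_mem he) (Subgroup.mem_zpowers t))
        rw [show t * e * t⁻¹ = e * ⁅e⁻¹, t⁆ by rw [commutatorElement_def]; group]
        exact mul_mem he h1
      · intro htc
        refine IsComponent.ne_bot hE ?_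
        rw [← hEt, Subgroup.commutator_comm, Subgroup.commutator_eq_bot_iff_le_centralizer,
          Subgroup.zpowers_le]
        exact htc
      · intro hYc
        refine hne ?_
        rw [Subgroup.commutator_comm, Subgroup.commutator_eq_bot_iff_le_centralizer]
        exact hYc
    · exact le_bot_iff.mp ((Subgroup.commutator_mono le_rfl hY).trans
        (component_commutes_core_centralizer hO ht hE hEt).le)
  have hY3 : Y ≤ Cfsg.generalizedFittingSubgroup X := hY2.trans centralizer_gFitting_le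
  set Z := Cfsg.generalizedFittingSubgroup X ⊓
    Subgroup.centralizer (Cfsg.generalizedFittingSubgroup X : Set X) with hZ
  haveI : IsMulCommutative Z := ⟨⟨fun a b => Subtype.ext
    (Subgroup.mem_centralizer_iff.mp b.2.2 a a.2.1)⟩⟩
  haveI := gFitting_normal (G := X)
  have hZ2 : Z ≤ Cfsg.pCore 2 X := by
    rw [← fitting_eq_pCore_of_core_bot hO]
    exact le_fitting inferInstance
      (@CommGroup.isNilpotent Z { (inferInstance : Group Z) with mul_comm := mul_comm' })
  obtain ⟨k, hk⟩ := ((pCore_isPGroup (G := X) 2).to_le hZ2).exists_card_eq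
  have h4 : Y ≤ Z ⊓ W := le_inf (le_inf hY3 hY2) hY
  rwa [disjoint_iff.mp (Subgroup.disjoint_of_coprime_natCard (hk ▸ (hWcop.pow_right k).symm)),
    le_bot_iff] at h4

theorem key {G : Type*} [Group G] [Finite G] (H : Subgroup G) (hO : Cfsg.oddCore ↥H = ⊥) (t : G)
    (ht : orderOf t = 2) (htH : t ∈ Subgroup.normalizer (H : Set G)) (Y : Subgroup G) (hY1 : Y ≠ ⊥)
    (hY : Y ≤ (Cfsg.oddCore ↥(H ⊓ Subgroup.centralizer ({t} : Set G))).map
      (H ⊓ Subgroup.centralizer ({t} : Set G)).subtype) :
    ∃ E : Subgroup ↥H, Cfsg.IsComponent E ∧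
      (E.map H.subtype).map (MulAut.conj t).toMonoidHom = E.map H.subtype ∧
      Y ≤ Subgroup.normalizer ((E.map H.subtype : Subgroup G) : Set G) ∧
      ¬ (t ∈ Subgroup.centralizer ((E.map H.subtype : Subgroup G) : Set G)) ∧
      ¬ (Y ≤ Subgroup.centralizer ((E.map H.subtype : Subgroup G) : Set G)) := by
  haveI : Fact (Nat.Prime 2) := ⟨Nat.prime_two⟩
  set X := H ⊔ Subgroup.zpowers t with hX
  have hHX : H ≤ X := le_sup_left
  have htX : t ∈ X := Subgroup.mem_sup_right (Subgroup.mem_zpowers t)
  have hXN : X ≤ Subgroup.normalizer (H : Set G) :=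
    sup_le Subgroup.le_normalizer (Subgroup.zpowers_le.mpr htH)
  haveI hHn : (H.subgroupOf X).Normal := Subgroup.normal_subgroupOf_of_le_normalizer hXN
  -- the quotient `X / H` is a `2`-group
  have hq : IsPGroup 2 (X ⧸ H.subgroupOf X) := by
    have h1 : ((Subgroup.zpowers t).subgroupOf X).map (QuotientGroup.mk' (H.subgroupOf X)) = ⊤ := by
      rw [← top_le_iff, ← Subgroup.map_top_of_surjective _ (QuotientGroup.mk'_surjective _),
        Subgroup.map_le_iff_le_comap, Subgroup.comap_map_eq, QuotientGroup.ker_mk',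
        ← Subgroup.subgroupOf_sup le_sup_right hHX]
      exact fun x _ => (sup_comm H (Subgroup.zpowers t)).le x.2
    have hP : IsPGroup 2 (Subgroup.zpowers t) :=
      IsPGroup.of_card (n := 1) (by rw [Nat.card_zpowers, ht, pow_one])
    have h2 := (hP.comap_of_injective X.subtype X.subtype_injective).map
      (QuotientGroup.mk' (H.subgroupOf X))
    rw [show (Subgroup.zpowers t).comap X.subtype = (Subgroup.zpowers t).subgroupOf X from rfl,
      h1] at h2
    exact h2.of_equiv Subgroup.topEquiv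
  have hOX : Cfsg.pPrimeCore 2 X = ⊥ := by
    have h1 : Cfsg.pPrimeCore 2 X ≤ H.subgroupOf X := by
      obtain ⟨k, hk⟩ := (hq.to_subgroup
        ((Cfsg.pPrimeCore 2 X).map (QuotientGroup.mk' (H.subgroupOf X)))).exists_card_eq
      rw [← QuotientGroup.ker_mk' (H.subgroupOf X), ← Subgroup.map_eq_bot_iff,
        Subgroup.eq_bot_iff_card]
      exact Nat.eq_one_of_dvd_coprimes ((pPrimeCore_coprime (G := X) 2).pow_right k)
        (Subgroup.card_map_dvd _ _) (dvd_of_eq hk)
    have h2 := map_pPrimeCore_of_subnormal_le (p := 2) hHX hHn.isSubnormal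
    rw [show Cfsg.pPrimeCore 2 H = ⊥ from hO, Subgroup.map_bot, eq_comm, eq_bot_iff] at h2
    rw [eq_bot_iff, ← Subgroup.map_le_map_iff_of_injective X.subtype_injective, Subgroup.map_bot]
    refine le_trans (le_inf le_rfl ?_) h2
    rw [← map_subtype_subgroupOf hHX]
    exact Subgroup.map_mono h1
  have hYW : Y.subgroupOf X ≤ (Cfsg.pPrimeCore 2
      ↥(Subgroup.centralizer ({(⟨t, htX⟩ : X)} : Set X))).map
      (Subgroup.centralizer ({(⟨t, htX⟩ : X)} : Set X)).subtype := by
    set C := Subgroup.centralizer ({(⟨t, htX⟩ : X)} : Set X) with hC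
    have hCeq : (H ⊓ Subgroup.centralizer ({t} : Set G)).subgroupOf X = H.subgroupOf X ⊓ C := by
      ext x
      simp [Subgroup.mem_subgroupOf, Subgroup.mem_centralizer_singleton_iff, hC, Subtype.ext_iff]
    have hle : (H ⊓ Subgroup.centralizer ({t} : Set G)) ≤ X := inf_le_left.trans hHX
    have h1 : Y.subgroupOf X ≤ (Cfsg.pPrimeCore 2 ↥(H.subgroupOf X ⊓ C)).map
        (H.subgroupOf X ⊓ C).subtype := by
      rw [← hCeq, ← Subgroup.map_le_map_iff_of_injective X.subtype_injective, Subgroup.map_map]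
      refine (Subgroup.map_comap_le _ _).trans (hY.trans (le_of_eq ?_))
      rw [Cfsg.oddCore, ← CfsgLib.Core.map_equiv_pPrimeCore (Subgroup.subgroupOfEquivOfLe hle),
        Subgroup.map_map]
      try rfl
    have hn : ((H.subgroupOf X ⊓ C).subgroupOf C).Normal := by
      rw [inf_comm, Subgroup.inf_subgroupOf_left]
      exact hHn.subgroupOf C
    refine h1.trans ?_
    rw [map_pPrimeCore_of_subnormal_le inf_le_right hn.isSubnormal]
    exact inf_le_left
  have hY1' : Y.subgroupOf X ≠ ⊥ := by
    rw [Ne, Subgroup.subgroupOf_eq_bot, disjoint_iff, inf_eq_left.mpr]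
    · exact hY1
    · exact hY.trans ((Subgroup.map_subtype_le _).trans (inf_le_left.trans hHX))
  obtain ⟨E, hE, hEt, hEY, hnt, hnY⟩ := unbalanced hOX
    (t := (⟨t, htX⟩ : X)) (by rw [Subgroup.orderOf_mk, ht]) hY1' hYW
  have hEH : E ≤ H.subgroupOf X := by
    haveI := hq.isNilpotent
    rw [← QuotientGroup.ker_mk' (H.subgroupOf X), ← Subgroup.map_eq_bot_iff]
    by_contra hbot
    haveI : Nontrivial ↥(E.map (QuotientGroup.mk' (H.subgroupOf X))) :=
      (Subgroup.nontrivial_iff_ne_bot _).mpr hbot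
    exact IsQuasisimple.not_isSolvable (IsQuasisimple.of_surjective hE.2
      (f := (QuotientGroup.mk' (H.subgroupOf X)).subgroupMap E)
      ((QuotientGroup.mk' (H.subgroupOf X)).subgroupMap_surjective E)) inferInstance
  set e := Subgroup.subgroupOfEquivOfLe hHX with he
  refine ⟨(E.subgroupOf (H.subgroupOf X)).map e.toMonoidHom, ?_, ?_, ?_, ?_, ?_⟩
  · exact isComponent_map_equiv e (isComponent_subgroupOf hE hEH)
  all_goals
    rw [show ((E.subgroupOf (H.subgroupOf X)).map e.toMonoidHom).map H.subtype = E.map X.subtype by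
      rw [← map_subtype_subgroupOf hEH, Subgroup.map_map, Subgroup.map_map,
        map_subtype_subgroupOf hEH]; rfl]
  · exact Subgroup.mem_normalizer_iff_map_conj_eq.mp (Subgroup.le_normalizer_map _ ⟨_, hEt, rfl⟩)
  · intro y hy
    exact Subgroup.le_normalizer_map X.subtype ⟨⟨y, hHX (Subgroup.mem_inf.mp
      (Subgroup.map_subtype_le _ (hY hy))).1⟩, hEY hy, rfl⟩
  · intro h
    refine hnt (Subgroup.mem_centralizer_iff.mpr fun x hx => Subtype.ext ?_)
    exact Subgroup.mem_centralizer_iff.mp h x ⟨x, hx, rfl⟩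
  · intro h
    refine hnY fun y hy => Subgroup.mem_centralizer_iff.mpr fun x hx => Subtype.ext ?_
    exact Subgroup.mem_centralizer_iff.mp (h hy) x ⟨x, hx, rfl⟩

/-- Let G be finite, H ≤ G with O(H) = 1, t an involution of G normalizing H, and Y a nontrivial subgroup of O(C_H(t)). Then some component E of H is normalized by t and by Y and centralized by neither t nor Y. -/
theorem result {G : Type*} [Group G] [Finite G] (H : Subgroup G) (hO : Cfsg.oddCore ↥H = ⊥) (t : G) (ht : orderOf t = 2) (htH : t ∈ Subgroup.normalizer (H : Set G)) (Y : Subgroup G) (hY1 : Y ≠ ⊥) (hY : Y ≤ (Cfsg.oddCore ↥(H ⊓ Subgroup.centralizer ({t} : Set G))).map (H ⊓ Subgroup.centralizer ({t} : Set G)).subtype) : ∃ E : Subgroup ↥H, Cfsg.IsComponent E ∧ (E.map H.subtype).map (MulAut.conj t).toMonoidHom = E.map H.subtype ∧ Y ≤ Subgroup.normalizer ((E.map H.subtype : Subgroup G) : Set G) ∧ ¬ (t ∈ Subgroup.centralizer ((E.map H.subtype : Subgroup G) : Set G)) ∧ ¬ (Y ≤ Subgroup.centralizer ((E.map H.subtype : Subgroup G) :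 Set G)) := by
  exact key H hO t ht htH Y hY1 hY

end Cfsg.Agent.S1328
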