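import Cfsg.Statements.S1331
import Cfsg.Agent.Lib.Signalizer.Basic

set_option autoImplicit false
open Cfsg

namespace Cfsg.Agent.S1331

/-- Let θ be a solvable A-signalizer functor on the finite group G for the prime p, A elementary abelian of rank at least 3, X a member of the family of θ, and B ≤ A with |B| ≥ p². Then X is generated by the subgroups X ∩ ⋂_{d ∈ D, d ≠ 1} θ d, D ranging over the subgroups of index p in B. -/
theorem result {G : Type*} [Group G] [Finite G] (p : ℕ) [Fact p.Prime] (A : Subgroup G) (hA : Cfsg.IsElementaryAbelian p A) (hA3 : p ^ 3 ≤ Nat.card ↥A) (θ : G → Subgroup G) (hθ : Cfsg.IsSolvableSignalizerFunctor p A θ) (X : Subgroup G) (hX : X ∈ Cfsg.signalizerFamily p A θ) (B : Subgroup G) (hB : B ≤ A) (hB2 : p ^ 2 ≤ Nat.card ↥B) : X = ⨆ D : {D : Subgroup G // D ≤ B ∧ D.relIndex B = p}, X ⊓ Cfsg.signalizerInf (D : Subgroup G) θ := by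
  refine le_antisymm ?_ (iSup_le fun D => inf_le_left)
  refine CfsgLib.Signalizer.le_of_hyperplanes_le (CfsgLib.Signalizer.elementary_of_le hA hB) hX.2.1
    (hB.trans (CfsgLib.Signalizer.mem_family_iff.mp hX).2.2.1) fun C hC hCi => ?_
  have hp := (Fact.out : p.Prime)
  obtain ⟨D, hDC, hDB, hD⟩ : ∃ D : Subgroup G, D ≤ C ∧ D ≤ B ∧ D.relIndex B = p := by
    have h0 : C.relIndex B ≠ 0 := Subgroup.index_ne_zero_of_finite
    obtain ⟨n, hn⟩ := ((CfsgLib.Signalizer.elementary_isPGroup hA).to_le hB).index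
      (C.subgroupOf B)
    have hidx : C.relIndex B = p ^ n := hn
    rcases n with _ | _ | n
    · have hCB : C = B := le_antisymm hC (Subgroup.relIndex_eq_one.mp (by simpa using hidx))
      have hdvd : p ∣ Nat.card B := by
        obtain ⟨k, hk⟩ := ((CfsgLib.Signalizer.elementary_isPGroup hA).to_le hB).exists_card_eq
        rw [hk] at hB2 ⊢
        rcases k with _ | k
        · have : 1 < p ^ 2 := Nat.one_lt_pow (by norm_num) hp.one_lt
          rw [pow_zero] at hB2
          omega
        · exact dvd_pow_self p (by omega)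
      obtain ⟨k, hk⟩ := ((CfsgLib.Signalizer.elementary_isPGroup hA).to_le hB).exists_card_eq
      obtain ⟨D, hD⟩ := Sylow.exists_subgroup_card_pow_prime (G := B) p (n := k - 1)
        (hk ▸ pow_dvd_pow p (Nat.sub_le k 1))
      refine ⟨D.map B.subtype, (Subgroup.map_subtype_le D).trans hCB.ge, Subgroup.map_subtype_le D, ?_⟩
      rw [Subgroup.relIndex, ← Subgroup.comap_subtype,
        Subgroup.comap_map_eq_self_of_injective B.subtype_injective]
      have h := D.card_mul_index
      rw [hD, hk] at h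
      rcases k with _ | k
      · exfalso
        rw [hk, pow_zero] at hdvd
        exact hp.one_lt.ne' (Nat.dvd_one.mp hdvd)
      · rw [Nat.add_sub_cancel, pow_succ] at h
        exact Nat.eq_of_mul_eq_mul_left (pow_pos hp.pos k) h
    · exact ⟨C, le_rfl, hC, by simpa using hidx⟩
    · exfalso
      rw [hidx] at hCi
      have : p ^ 1 < p ^ (n + 1 + 1) := Nat.pow_lt_pow_right hp.one_lt (by omega)
      rw [pow_one] at this
      omega
  refine le_trans ?_ (le_iSup (fun D : {D : Subgroup G // D ≤ B ∧ D.relIndex B = p} =>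
    X ⊓ Cfsg.signalizerInf (D : Subgroup G) θ) ⟨D, hDB, hD⟩)
  show _ ≤ X ⊓ Cfsg.signalizerInf D θ
  rw [← CfsgLib.Signalizer.family_inf_centralizer_eq hθ.1 hX (hDB.trans hB)]
  exact inf_le_inf_left _ (Subgroup.centralizer_le (SetLike.coe_subset_coe.mpr hDC))

end Cfsg.Agent.S1331
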