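import Cfsg.Statements.S1335
import Cfsg.Agent.Lib.PGroups.Omega

set_option autoImplicit false
open Cfsg

namespace Cfsg.Agent.S1335

open Subgroup

/-- Let H be a subgroup of the finite group G, p a prime, k ≥ 1, P a Sylow p-subgroup of H of p-rank at least k, and suppose N_G(X) ≤ H for every subgroup X ≤ P of p-rank at least k. Then P is a Sylow p-subgroup of G. -/
theorem result {G : Type*} [Group G] [Finite G] {p : ℕ} [Fact p.Prime] (k : ℕ) (hk : 1 ≤ k) (H : Subgroup G) (P : Sylow p ↥H) (hP : ¬ Cfsg.PRankLE p (k - 1) ↥(P : Subgroup ↥H)) (hΓ : (∀ X : Subgroup G, X ≤ (P : Subgroup ↥H).map H.subtype → ¬ Cfsg.PRankLE p (k - 1) ↥X → Subgroup.normalizer (X : Set G) ≤ H)) : ∃ Q : Sylow p G, (Q : Subgroup G) = (P : Subgroup ↥H).map H.subtype := by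
  set P' := (P : Subgroup ↥H).map H.subtype with hP'def
  have hp' : IsPGroup p ↥P' := P.isPGroup'.map _
  obtain ⟨Q, hQ⟩ := hp'.exists_le_sylow
  refine ⟨Q, le_antisymm ?_ hQ⟩
  by_contra hne
  have hlt : P'.subgroupOf (Q : Subgroup G) < ⊤ :=
    lt_top_iff_ne_top.mpr fun h => hne (subgroupOf_eq_top.mp h)
  have := Q.isPGroup'.isNilpotent
  have hnorm := Group.normalizerCondition_of_isNilpotent (G := ↥(Q : Subgroup G)) _ hlt
  obtain ⟨x, hxN, hxP⟩ := SetLike.exists_of_lt hnorm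
  rw [mem_subgroupOf] at hxP
  have hxn : (x : G) ∈ normalizer (P' : Set G) := by
    rw [mem_normalizer_iff]
    intro y
    constructor
    · intro hy
      exact (mem_normalizer_iff.mp hxN ⟨y, hQ hy⟩).mp hy
    · intro hy
      have hyQ : y ∈ (Q : Subgroup G) := by
        simpa [mul_assoc] using mul_mem (mul_mem (inv_mem x.2) (hQ hy)) x.2
      exact (mem_normalizer_iff.mp hxN ⟨y, hyQ⟩).mpr hy
  have hrk : ¬ Cfsg.PRankLE p (k - 1) ↥P' := fun h => hP
    ((CfsgLib.PGroups.prankLE_congr ((P : Subgroup ↥H).equivMapOfInjective _ H.subtype_injective)).mpr h)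
  have hxH : (x : G) ∈ H := hΓ P' le_rfl hrk hxn
  have hle : P' ≤ (Q : Subgroup G) ⊓ H := le_inf hQ (map_subtype_le _)
  have heq := P.3 ((Q.isPGroup'.to_le (inf_le_left (b := H))).comap_of_injective _ H.subtype_injective)
    (fun y hy => hle (mem_map_of_mem _ hy))
  exact hxP ⟨⟨x, hxH⟩, heq.le ⟨x.2, hxH⟩, rfl⟩

end Cfsg.Agent.S1335
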