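import Cfsg.Statements.S1336
import Cfsg.Agent.Lib.Signalizer.Basic

set_option autoImplicit false
open Cfsg

namespace Cfsg.Agent.S1336

open Subgroup CfsgLib.Signalizer

variable {G : Type*} [Group G] {p : ℕ}

/-- Vertices of the commuting graph. -/
def Vtx (p : ℕ) (E : Subgroup G) : Prop := Cfsg.IsElementaryAbelian p E ∧ p ^ 1 ≤ Nat.card E

/-- Edges of the commuting graph. -/
def Adj (p : ℕ) (A B : Subgroup G) : Prop :=
  Cfsg.IsElementaryAbelian p A ∧ p ^ 1 ≤ Nat.card ↥A ∧ Cfsg.IsElementaryAbelian p B ∧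
    p ^ 1 ≤ Nat.card ↥B ∧ ∀ a ∈ A, ∀ b ∈ B, a * b = b * a

theorem Adj.symm' {A B : Subgroup G} (h : Adj p A B) : Adj p B A :=
  ⟨h.2.2.1, h.2.2.2.1, h.1, h.2.1, fun b hb a ha => (h.2.2.2.2 a ha b hb).symm⟩

/-- Joined in the commuting graph. -/
def Conn (p : ℕ) (A B : Subgroup G) : Prop := Relation.ReflTransGen (Adj p) A B

theorem Conn.symm' {A B : Subgroup G} (h : Conn p A B) : Conn p B A := by
  induction h with
  | refl => exact Relation.ReflTransGen.refl
  | tail _ h2 ih => exact Relation.ReflTransGen.head h2.symm' ih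

theorem Adj.map' {A B : Subgroup G} (h : Adj p A B) (g : G) :
    Adj p (A.map (MulAut.conj g).toMonoidHom) (B.map (MulAut.conj g).toMonoidHom) := by
  obtain ⟨h1, h2, h3, h4, h5⟩ := h
  have hc : ∀ C : Subgroup G, Nat.card (C.map (MulAut.conj g).toMonoidHom) = Nat.card C :=
    fun C => card_map_of_injective (MulAut.conj g).injective
  have he : ∀ C : Subgroup G, Cfsg.IsElementaryAbelian p C →
      Cfsg.IsElementaryAbelian p (C.map (MulAut.conj g).toMonoidHom) := by
    intro C hC
    have := hC.1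
    refine ⟨inferInstance, ?_⟩
    rintro _ ⟨c, hc, rfl⟩
    rw [← map_pow, hC.2 c hc, map_one]
  refine ⟨he A h1, by rwa [hc], he B h3, by rwa [hc], ?_⟩
  rintro _ ⟨a, ha, rfl⟩ _ ⟨b, hb, rfl⟩
  rw [← map_mul, h5 a ha b hb, map_mul]

theorem Conn.map' {A B : Subgroup G} (h : Conn p A B) (g : G) :
    Conn p (A.map (MulAut.conj g).toMonoidHom) (B.map (MulAut.conj g).toMonoidHom) :=
  h.lift _ fun _ _ hab => hab.map' g

theorem map_conj_mul (A : Subgroup G) (g h : G) :
    A.map (MulAut.conj (g * h)).toMonoidHom =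
      (A.map (MulAut.conj h).toMonoidHom).map (MulAut.conj g).toMonoidHom := by
  rw [map_map]
  congr 1
  ext x
  simp [mul_assoc]

theorem map_conj_of_centralizes (A : Subgroup G) {g : G} (h : ∀ a ∈ A, a * g = g * a) :
    A.map (MulAut.conj g).toMonoidHom = A := by
  ext x
  constructor
  · rintro ⟨a, ha, rfl⟩
    simpa [← h a ha] using ha
  · exact fun ha => ⟨x, ha, by simp [← h x ha]⟩

theorem vtx_zpowers [Fact p.Prime] {x : G} (hx : orderOf x = p) : Vtx p (zpowers x) := by
  refine ⟨⟨inferInstance, ?_⟩, by rw [pow_one, Nat.card_zpowers, hx]⟩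
  rintro a ⟨n, rfl⟩
  show (x ^ n) ^ p = 1
  rw [← zpow_natCast, zpow_comm, zpow_natCast, ← hx, pow_orderOf_eq_one, one_zpow]

theorem exists_orderOf [Finite G] [hp : Fact p.Prime] {E : Subgroup G} (hE : Vtx p E) :
    ∃ x ∈ E, orderOf x = p := by
  have : Nontrivial ↥E := Finite.one_lt_card_iff_nontrivial.mp
    (lt_of_lt_of_le hp.out.one_lt (by simpa using hE.2))
  obtain ⟨⟨x, hxE⟩, hx⟩ := exists_ne (1 : ↥E)
  exact ⟨x, hxE, elementary_orderOf hE.1 hxE fun h => hx (Subtype.ext h)⟩

/-- Vertices in one `p`-subgroup are joined. -/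
theorem conn_in_pGroup [Finite G] [hp : Fact p.Prime] {S : Subgroup G} (hS : IsPGroup p S)
    {A B : Subgroup G} (hA : Vtx p A) (hB : Vtx p B) (hAS : A ≤ S) (hBS : B ≤ S) : Conn p A B := by
  obtain ⟨a, ha, hao⟩ := exists_orderOf hA
  have : Nontrivial ↥S := ⟨⟨⟨a, hAS ha⟩, 1, fun h => by
    rw [show a = 1 from congrArg Subtype.val h, orderOf_one] at hao; exact hp.out.one_lt.ne hao⟩⟩
  have := hS.center_nontrivial
  obtain ⟨⟨z, hzC⟩, hz⟩ := exists_prime_orderOf_dvd_card' (G := center ↥S) p (by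
    obtain ⟨n, hn, hc⟩ := (hS.to_subgroup (center ↥S)).nontrivial_iff_card.mp inferInstance
    rw [hc]; exact dvd_pow_self p hn.ne')
  rw [Subgroup.orderOf_mk] at hz
  have hzG : orderOf (z : G) = p := by rw [Subgroup.orderOf_coe, hz]
  have hV := vtx_zpowers hzG
  have hadj : ∀ C : Subgroup G, Vtx p C → C ≤ S → Adj p C (zpowers (z : G)) := by
    refine fun C hC hCS => ⟨hC.1, hC.2, hV.1, hV.2, fun c hc b hb => ?_⟩
    obtain ⟨n, rfl⟩ := hb
    have hcz : Commute c (z : G) := congrArg Subtype.val (mem_center_iff.mp hzC ⟨c, hCS hc⟩)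
    exact hcz.zpow_right n
  exact Relation.ReflTransGen.head (hadj A hA hAS) (Relation.ReflTransGen.single (hadj B hB hBS).symm')

/-- Let G be finite and p prime. Then G has a proper subgroup H with p ∣ |H| and p ∤ |H ∩ gHg⁻¹| for every g ∉ H (a strongly p-embedded subgroup) if and only if G is not 1-connected for p. -/
theorem result {G : Type*} [Group G] [Finite G] (p : ℕ) [Fact p.Prime] : (∃ H : Subgroup G, H ≠ ⊤ ∧ p ∣ Nat.card ↥H ∧ ∀ g : G, g ∉ H → ¬ p ∣ Nat.card ↥(H ⊓ H.map (MulAut.conj g).toMonoidHom)) ↔ ¬ Cfsg.IsKConnected p 1 G := by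
  constructor
  · rintro ⟨H, hH, hpH, hint⟩ hconn
    obtain ⟨x, hxo⟩ := exists_prime_orderOf_dvd_card' (G := ↥H) p hpH
    have hxo' : orderOf (x : G) = p := by rw [Subgroup.orderOf_coe, hxo]
    have hV := vtx_zpowers hxo'
    have key : ∀ E', Conn p (zpowers (x : G)) E' → E' ≤ H := by
      intro E' h
      induction h with
      | refl => exact zpowers_le.mpr x.2
      | @tail B C _ h2 ih =>
        intro c hc
        by_contra hcH
        refine hint c hcH ?_
        obtain ⟨b, hb, hbo⟩ := exists_orderOf ⟨h2.1, h2.2.1⟩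
        have hle : b ∈ H ⊓ H.map (MulAut.conj c).toMonoidHom :=
          ⟨ih hb, ⟨b, ih hb, by simp [← h2.2.2.2.2 b hb c hc]⟩⟩
        exact hbo ▸ Subgroup.orderOf_dvd_natCard _ hle
    obtain ⟨g, hg⟩ := SetLike.exists_not_mem_of_ne_top H hH
    refine hint g hg ?_
    have hy : orderOf (g * (x : G) * g⁻¹) = p :=
      (orderOf_injective (MulAut.conj g).toMonoidHom (MulAut.conj g).injective _).trans hxo'
    have hyH : g * (x : G) * g⁻¹ ∈ H :=
      key _ (hconn _ _ hV.1 hV.2 (vtx_zpowers hy).1 (vtx_zpowers hy).2) (mem_zpowers _)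
    exact hy ▸ Subgroup.orderOf_dvd_natCard _
      (show _ ∈ H ⊓ H.map (MulAut.conj g).toMonoidHom from ⟨hyH, ⟨x, x.2, rfl⟩⟩)
  · intro hnc
    simp only [Cfsg.IsKConnected, not_forall] at hnc
    obtain ⟨E, E', hE, hEc, hE', hE'c, hne⟩ := hnc
    have hVE : Vtx p E := ⟨hE, hEc⟩
    let H : Subgroup G :=
      { carrier := {g | Conn p E (E.map (MulAut.conj g).toMonoidHom)}
        one_mem' := by
          show Conn p E _
          rw [map_conj_of_centralizes E (fun a _ => by simp)]
          exact Relation.ReflTransGen.refl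
        mul_mem' := fun {g h} hg hh => by
          show Conn p E _
          rw [map_conj_mul]
          exact Relation.ReflTransGen.trans hg (Conn.map' hh g)
        inv_mem' := fun {g} hg => by
          show Conn p E _
          have := (Conn.map' (p := p) hg g⁻¹).symm'
          rwa [← map_conj_mul, inv_mul_cancel, map_conj_of_centralizes E (fun a _ => by simp)] at this }
    have hmem : ∀ g, g ∈ H ↔ Conn p E (E.map (MulAut.conj g).toMonoidHom) := fun g => Iff.rfl
    have hvH : ∀ X, Conn p E X → ∀ x ∈ X, (∀ a ∈ X, a * x = x * a) → x ∈ H := by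
      intro X hX x hx hxX
      have := Conn.map' hX x
      rw [map_conj_of_centralizes X hxX] at this
      exact (hmem x).mpr (hX.trans this.symm')
    have hEH : E ≤ H := fun x hx =>
      hvH E Relation.ReflTransGen.refl x hx fun a ha => elementary_comm hE ha hx
    obtain ⟨S, hS⟩ := (elementary_isPGroup hE).exists_le_sylow
    obtain ⟨z, hzE, hzo⟩ := exists_orderOf hVE
    refine ⟨H, ?_, hzo ▸ Subgroup.orderOf_dvd_natCard H (hEH hzE), fun g hg hdvd => hg ?_⟩
    · intro htop
      obtain ⟨S', hS'⟩ := (elementary_isPGroup hE').exists_le_sylow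
      obtain ⟨g, hg⟩ := MulAction.exists_smul_eq G S S'
      have hle : E.map (MulAut.conj g).toMonoidHom ≤ (S' : Subgroup G) := by
        rw [← hg]
        rintro _ ⟨e, he, rfl⟩
        exact ⟨e, hS he, rfl⟩
      have hvg : Vtx p (E.map (MulAut.conj g).toMonoidHom) := by
        have := Adj.map' (p := p) (A := E) (B := E) ⟨hE, hEc, hE, hEc, fun a ha b hb => elementary_comm hE ha hb⟩ g
        exact ⟨this.1, this.2.1⟩
      exact hne (((hmem g).mp (htop ▸ Subgroup.mem_top g)).trans
        (conn_in_pGroup S'.isPGroup' hvg ⟨hE', hE'c⟩ hle hS'))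
    · obtain ⟨x, hxo⟩ := exists_prime_orderOf_dvd_card'
        (G := ↥(H ⊓ H.map (MulAut.conj g).toMonoidHom)) p hdvd
      obtain ⟨hxH, y, hyH, hy⟩ := x.2
      have hxo' : orderOf (x : G) = p := by rw [Subgroup.orderOf_coe, hxo]
      have hyo : orderOf y = p := by
        rw [← orderOf_injective (MulAut.conj g).toMonoidHom (MulAut.conj g).injective, hy, hxo']
      have hSH : (S : Subgroup G) ≤ H := by
        intro s hs
        refine (hmem s).mpr (conn_in_pGroup S.isPGroup' hVE ?_ hS ?_)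
        · have := Adj.map' (p := p) (A := E) (B := E) ⟨hE, hEc, hE, hEc, fun a ha b hb => elementary_comm hE ha hb⟩ s
          exact ⟨this.1, this.2.1⟩
        · rintro _ ⟨e, he, rfl⟩
          exact mul_mem (mul_mem hs (hS he)) (inv_mem hs)
      have hcon : ∀ u ∈ H, orderOf u = p → Conn p E (zpowers u) := by
        intro u huH huo
        obtain ⟨T, hT⟩ := (IsPGroup.of_card (p := p) (n := 1)
          (by rw [Nat.card_zpowers, Subgroup.orderOf_mk, huo, pow_one] :
            Nat.card (zpowers (⟨u, huH⟩ : ↥H)) = p ^ 1)).exists_le_sylow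
        obtain ⟨h, hh⟩ := MulAction.exists_smul_eq ↥H (S.subtype hSH) T
        have hw := hh.ge (hT (mem_zpowers (⟨u, huH⟩ : ↥H)))
        obtain ⟨w, hw1, hw2⟩ := hw
        have hw2' : (h : G) * (w : G) * (h : G)⁻¹ = u := congrArg Subtype.val hw2
        have hwo : orderOf (w : G) = p := by
          rw [← orderOf_injective (MulAut.conj (h : G)).toMonoidHom (MulAut.conj (h : G)).injective]
          simpa [hw2'] using huo
        have h1 := Conn.map' (conn_in_pGroup S.isPGroup' hVE (vtx_zpowers hwo) hS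
          (zpowers_le.mpr hw1)) (h : G)
        rw [MonoidHom.map_zpowers, show (MulAut.conj (h : G)).toMonoidHom (w : G) = u from hw2'] at h1
        exact ((hmem _).mp h.2).trans h1
      have h2 := Conn.map' (hcon y hyH hyo) g
      rw [MonoidHom.map_zpowers, hy] at h2
      exact (hmem g).mpr ((hcon x hxH hxo').trans h2.symm')

end Cfsg.Agent.S1336
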