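import Cfsg.Statements.S1337
import Cfsg.Agent.Lib.Signalizer.NormalSquare

set_option autoImplicit false
open Cfsg

namespace Cfsg.Agent.S1337

open Subgroup CfsgLib CfsgLib.Signalizer

theorem not_rankLE {P : Type*} [Group P] [Finite P] {p : ℕ} [hp : Fact p.Prime] {C E : Subgroup P}
    (hE : Cfsg.IsElementaryAbelian p E) (hEC : E ≤ C) (h : p ^ 3 ≤ Nat.card E) :
    ¬ Cfsg.PRankLE p 2 ↥C := fun hr => by
  have := hE.1
  have h1 := hr (E.subgroupOf C) ⟨⟨fun a b => Subtype.ext (Subtype.ext (elementary_comm hE a.2 b.2))⟩⟩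
    (fun a ha => Subtype.ext (hE.2 a ha))
  rw [Nat.card_congr (subgroupOfEquivOfLe hEC).toEquiv] at h1
  exact absurd h (not_le.mpr (h1.trans_lt (Nat.pow_lt_pow_right hp.out.one_lt (by norm_num))))

theorem exists_of_not_rankLE {P : Type*} [Group P] [Finite P] {p : ℕ} [Fact p.Prime] {C : Subgroup P}
    (h : ¬ Cfsg.PRankLE p 2 ↥C) :
    ∃ E : Subgroup P, Cfsg.IsElementaryAbelian p E ∧ E ≤ C ∧ p ^ 3 ≤ Nat.card E := by
  simp only [Cfsg.PRankLE, not_forall, not_le] at h
  obtain ⟨A, hA, hAp, hlt⟩ := h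
  have hE : Cfsg.IsElementaryAbelian p A := ⟨hA, hAp⟩
  refine ⟨A.map C.subtype, ⟨inferInstance, ?_⟩, map_subtype_le A, ?_⟩
  · rintro _ ⟨a, ha, rfl⟩
    rw [← map_pow, hAp a ha, map_one]
  · rw [card_map_of_injective C.subtype_injective]
    obtain ⟨k, hk⟩ := (elementary_isPGroup hE).exists_card_eq
    rw [hk] at hlt ⊢
    exact Nat.pow_le_pow_right (Fact.out : p.Prime).pos
      ((Nat.pow_lt_pow_iff_right (Fact.out : p.Prime).one_lt).mp hlt)

/-- Let P be a finite p-group of p-rank greater than 2. Then P has a normal elementary abelian subgroup U of order p², and for every elementary abelian X ≤ P with |X| ≥ p²: X is joined to U by a chain of pairwise commuting elementary abelian subgroups of order ≥ p² if and only if C_P(X) has p-rank greater than 2. -/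
theorem result {P : Type*} [Group P] [Finite P] (p : ℕ) [Fact p.Prime] (hP : IsPGroup p P) (hrk : ¬ Cfsg.PRankLE p 2 P) : ∃ U : Subgroup P, U.Normal ∧ Cfsg.IsElementaryAbelian p U ∧ Nat.card ↥U = p ^ 2 ∧ ∀ X : Subgroup P, Cfsg.IsElementaryAbelian p X → p ^ 2 ≤ Nat.card ↥X → (Relation.ReflTransGen (fun A B : Subgroup P => Cfsg.IsElementaryAbelian p A ∧ p ^ 2 ≤ Nat.card ↥A ∧ Cfsg.IsElementaryAbelian p B ∧ p ^ 2 ≤ Nat.card ↥B ∧ ∀ a ∈ A, ∀ b ∈ B, a * b = b * a) X U ↔ ¬ Cfsg.PRankLE p 2 ↥(Subgroup.centralizer (X : Set P))) := by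
  obtain ⟨E0, hE0, -, hE03⟩ : ∃ E : Subgroup P, Cfsg.IsElementaryAbelian p E ∧ E ≤ ⊤ ∧
      p ^ 3 ≤ Nat.card E := exists_of_not_rankLE fun h => hrk
        ((PGroups.prankLE_congr (Subgroup.topEquiv (G := P))).mp h)
  obtain ⟨U, hUn, hU, hUc⟩ := exists_normal_square hP hE0 hE03
  refine ⟨U, hUn, hU, hUc, fun X hX hX2 => ⟨fun h => ?_, fun h => ?_⟩⟩
  · induction h using Relation.ReflTransGen.head_induction_on with
    | refl =>
      -- a rank three subgroup centralizing `U`
      set W := Subgroup.centralizer (U : Set P) ⊓ E0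
      have hWE := elementary_of_le hE0 (inf_le_right : W ≤ E0)
      have hcomm : ∀ a ∈ U, ∀ b ∈ W, a * b = b * a := fun a ha b hb => mem_centralizer_iff.mp hb.1 a ha
      by_cases hle : W ≤ U
      · have hWU : W = U := eq_of_le_of_card_ge hle (hUc.le.trans (square_le_inf_centralizer hP hUc hE03))
        refine not_rankLE hE0 (le_centralizer_iff.mpr ?_) hE03
        intro u hu
        exact mem_centralizer_iff.mpr fun e he => elementary_comm hE0 he ((hWU.ge hu).2)
      · refine not_rankLE (isElementary_sup hU hWE hcomm) (sup_le ?_ ?_) (sup_gt hU hWE hcomm hle hUc.ge)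
        · exact le_centralizer_iff.mpr fun u hu => mem_centralizer_iff.mpr fun v hv => elementary_comm hU hv hu
        · exact inf_le_left
    | @head X Y h1 _ ih =>
      obtain ⟨-, -, hY, hY2, hXY⟩ := h1
      by_cases hle : Y ≤ X
      · by_cases heq : X ≤ Y
        · exact (le_antisymm heq hle : X = Y) ▸ ih hY hY2
        · refine not_rankLE hX (le_centralizer_iff.mpr fun u hu => mem_centralizer_iff.mpr
            fun v hv => elementary_comm hX hv hu) ?_
          exact (sup_gt hY hX (fun a ha b hb => (hXY b hb a ha).symm) heq hY2).trans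
            (card_le_of_le (sup_le hle le_rfl))
      · refine not_rankLE (isElementary_sup hX hY hXY) (sup_le ?_ ?_) (sup_gt hX hY hXY hle hX2)
        · exact le_centralizer_iff.mpr fun u hu => mem_centralizer_iff.mpr fun v hv => elementary_comm hX hv hu
        · exact fun y hy => mem_centralizer_iff.mpr fun x hx => hXY x hx y hy
  · obtain ⟨E, hE, hEC, hE3⟩ := exists_of_not_rankLE h
    set W := Subgroup.centralizer (U : Set P) ⊓ E
    have hWE := elementary_of_le hE (inf_le_right : W ≤ E)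
    have hW2 := square_le_inf_centralizer hP hUc hE3
    have hE2 : p ^ 2 ≤ Nat.card E := (Nat.pow_le_pow_right (Fact.out : p.Prime).pos (by norm_num)).trans hE3
    refine Relation.ReflTransGen.head ⟨hX, hX2, hE, hE2, fun a ha b hb =>
      mem_centralizer_iff.mp (hEC hb) a ha⟩ ?_
    refine Relation.ReflTransGen.head ⟨hE, hE2, hWE, hW2, fun a ha b hb =>
      elementary_comm hE ha hb.2⟩ ?_
    exact Relation.ReflTransGen.single ⟨hWE, hW2, hU, hUc.ge, fun a ha b hb =>
      (mem_centralizer_iff.mp ha.1 b hb).symm⟩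

end Cfsg.Agent.S1337
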