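import Cfsg.Statements.S1338
import Cfsg.Agent.S1337

set_option autoImplicit false
open Cfsg

namespace Cfsg.Agent.S1338

open Subgroup CfsgLib CfsgLib.Signalizer

/-- Kernels of composed endomorphisms. -/
theorem card_ker_comp_le {A : Type*} [CommGroup A] [Finite A] (f g : A →* A) :
    Nat.card (f.comp g).ker ≤ Nat.card g.ker * Nat.card f.ker := by
  let h : (f.comp g).ker →* f.ker := (g.comp (f.comp g).ker.subtype).codRestrict f.ker fun a => a.2
  calc Nat.card (f.comp g).ker = h.ker.index * Nat.card h.ker := (index_mul_card _).symm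
    _ = Nat.card h.range * Nat.card h.ker := by rw [index_ker]
    _ ≤ Nat.card f.ker * Nat.card g.ker := Nat.mul_le_mul (card_le_card_group _)
        (Nat.card_le_card_of_injective (fun a => (⟨a.1.1, congrArg Subtype.val a.2⟩ : g.ker))
          fun a b e => Subtype.ext (Subtype.ext (congrArg (fun t : g.ker => (t : A)) e)))
    _ = _ := mul_comm _ _

/-- An element of order dividing three fixes at least nine points of an `E_81` that it normalizes. -/
theorem nine_le_fixed {P : Type*} [Group P] [Finite P] {V : Subgroup P} [V.Normal]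
    (hV : Cfsg.IsElementaryAbelian 3 V) (hVc : Nat.card V = 3 ^ 4) {x : P} (hx : x ^ 3 = 1) :
    3 ^ 2 ≤ Nat.card ↥(V ⊓ centralizer {x}) := by
  haveI := hV.1
  letI : CommGroup ↥V := { (inferInstance : Group ↥V) with mul_comm := fun a b => hV.1.is_comm.comm a b }
  let σ : ↥V →* ↥V := MonoidHom.mk'
    (fun v => ⟨x * v * x⁻¹, (inferInstance : V.Normal).conj_mem v v.2 x⟩)
    (fun a b => Subtype.ext (show x * (a.1 * b.1) * x⁻¹ = (x * a.1 * x⁻¹) * (x * b.1 * x⁻¹) by group))
  let f : ↥V →* ↥V := σ * (MonoidHom.id ↥V)⁻¹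
  have hf : ∀ v, f v = σ v * v⁻¹ := fun v => rfl
  have h3 : ∀ v : ↥V, v * v * v = 1 := fun v => Subtype.ext (by
    show (v : P) * v * v = 1
    rw [← pow_two, ← pow_succ, hV.2 v v.2])
  have hσ : ∀ v, σ (σ (σ v)) = v := fun v => Subtype.ext (by
    show x * (x * (x * v.1 * x⁻¹) * x⁻¹) * x⁻¹ = v.1
    have h := hx
    rw [pow_succ, pow_two] at h
    calc x * (x * (x * v.1 * x⁻¹) * x⁻¹) * x⁻¹ = (x * x * x) * v.1 * (x * x * x)⁻¹ := by group
      _ = v.1 := by rw [h]; group)
  have htop : (f.comp (f.comp f)).ker = ⊤ := by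
    refine eq_top_iff.mpr fun v _ => ?_
    show f (f (f v)) = 1
    simp only [hf, map_mul, map_inv, mul_inv_rev, inv_inv, hσ]
    calc _ = (σ v * σ v * σ v) * (σ (σ v) * σ (σ v) * σ (σ v))⁻¹ := by
          apply Additive.ofMul.injective
          simp only [ofMul_mul, ofMul_inv]
          abel
      _ = 1 := by rw [h3, h3]; simp
  have h4 := (card_ker_comp_le f (f.comp f)).trans
    (Nat.mul_le_mul_right _ (card_ker_comp_le f f))
  rw [htop, card_top, hVc] at h4
  have hle : (f.ker.map V.subtype : Subgroup P) ≤ V ⊓ centralizer {x} := by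
    rintro _ ⟨v, hv, rfl⟩
    refine ⟨v.2, mem_centralizer_singleton_iff.mpr ?_⟩
    have h5 : σ v = v := mul_inv_eq_one.mp ((hf v).symm.trans hv)
    have h6 : x * v.1 * x⁻¹ = v.1 := congrArg Subtype.val h5
    exact (mul_inv_eq_iff_eq_mul.mp h6).symm
  refine le_trans ?_ (card_le_of_le hle)
  rw [card_map_of_injective V.subtype_injective]
  obtain ⟨k, hk⟩ := ((elementary_isPGroup hV).to_subgroup f.ker).exists_card_eq
  rw [hk] at h4 ⊢
  by_contra hlt
  have : k < 2 := by
    by_contra hc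
    exact hlt (Nat.pow_le_pow_right (by norm_num) (not_lt.mp hc))
  interval_cases k <;> simp at h4

/-- A finite 3-group of 3-rank at least 4 is 2-connected for the prime 3: its commuting graph on elementary abelian subgroups of order ≥ 9 is connected. -/
theorem result {P : Type*} [Group P] [Finite P] (hP : IsPGroup 3 P) (hrk : ¬ Cfsg.PRankLE 3 3 P) : Cfsg.IsKConnected 3 2 P := by
  have : Fact (Nat.Prime 3) := ⟨Nat.prime_three⟩
  have hrk' : ¬ Cfsg.PRankLE 3 2 P := fun h => hrk fun A hA hA' =>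
    (h A hA hA').trans (Nat.pow_le_pow_right (by norm_num) (by norm_num))
  obtain ⟨U, -, -, -, hU⟩ := S1337.result 3 hP hrk'
  -- a normal `E_81`
  obtain ⟨V, hVn, hV, hVc⟩ : ∃ V : Subgroup P, V.Normal ∧ Cfsg.IsElementaryAbelian 3 V ∧
      Nat.card V = 3 ^ 4 := by
    simp only [Cfsg.PRankLE, not_forall, not_le] at hrk
    obtain ⟨A, hA, hAp, hlt⟩ := hrk
    have hAe : Cfsg.IsElementaryAbelian 3 A := ⟨hA, hAp⟩
    obtain ⟨k, hk⟩ := (elementary_isPGroup hAe).exists_card_eq
    rw [hk] at hlt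
    obtain ⟨B, hB⟩ := Sylow.exists_subgroup_card_pow_prime (G := ↥A) 3 (n := 4)
      (hk ▸ pow_dvd_pow 3 ((Nat.pow_lt_pow_iff_right (by norm_num)).mp hlt))
    exact Transfer.exists_normal_elementary_card_four (by norm_num) hP (B.map A.subtype)
      (elementary_of_le hAe (map_subtype_le B))
      (by rw [card_map_of_injective A.subtype_injective, hB])
  obtain ⟨z, hz, hz1⟩ : ∃ z ∈ V ⊓ center P, z ≠ 1 := by
    have h : V ⊓ center P ≠ ⊥ := PGroups.inf_center_ne_bot hP (fun h => by
      rw [h, card_bot] at hVc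
      norm_num at hVc)
    obtain ⟨z, hz, hz1⟩ := (V ⊓ center P).bot_or_exists_ne_one.resolve_left h
    exact ⟨z, hz, hz1⟩
  have hzel : Cfsg.IsElementaryAbelian 3 (zpowers z) := elementary_of_le hV (zpowers_le.mpr hz.1)
  have hzcomm : ∀ g : P, ∀ b ∈ zpowers z, g * b = b * g := by
    rintro g b ⟨n, rfl⟩
    exact (mem_center_iff.mp ((center P).zpow_mem hz.2 n) g)
  have key : ∀ X : Subgroup P, Cfsg.IsElementaryAbelian 3 X → 3 ^ 2 ≤ Nat.card X →
      ∃ E : Subgroup P, Cfsg.IsElementaryAbelian 3 E ∧ E ≤ centralizer (X : Set P) ∧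
        3 ^ 3 ≤ Nat.card E := by
    intro X hX hX2
    have hXX : X ≤ centralizer (X : Set P) := fun a ha => mem_centralizer_iff.mpr fun b hb =>
      elementary_comm hX hb ha
    by_cases hX3 : 3 ^ 3 ≤ Nat.card X
    · exact ⟨X, hX, hXX, hX3⟩
    by_cases hzX : z ∈ X
    swap
    · refine ⟨X ⊔ zpowers z, isElementary_sup hX hzel fun a _ => hzcomm a, sup_le hXX ?_,
        sup_gt hX hzel (fun a _ => hzcomm a) (fun h => hzX (h (mem_zpowers z))) hX2⟩
      exact fun b hb => mem_centralizer_iff.mpr fun a _ => hzcomm a b hb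
    by_cases hXV : X ≤ V
    · exact ⟨V, hV, fun v hv => mem_centralizer_iff.mpr fun a ha => elementary_comm hV (hXV ha) hv,
        (Nat.pow_le_pow_right (by norm_num) (by norm_num)).trans hVc.ge⟩
    obtain ⟨x, hxX, hxV⟩ := SetLike.not_le_iff_exists.mp hXV
    -- `X` is generated by `z` and `x`
    have hgen : X = zpowers z ⊔ zpowers x := by
      have hle : zpowers z ⊔ zpowers x ≤ X := sup_le (zpowers_le.mpr hzX) (zpowers_le.mpr hxX)
      refine (eq_of_le_of_card_ge hle ?_).symm
      have hne : z ∉ (⊥ : Subgroup P) := fun h => hz1 (mem_bot.mp h)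
      have h1 : 3 ^ 1 ≤ Nat.card (zpowers z) := by
        rw [Nat.card_zpowers, orderOf_eq_prime (hX.2 z hzX) hz1, pow_one]
      have h2 := sup_gt hzel (elementary_of_le hX (zpowers_le.mpr hxX))
        (fun a ha b _ => (hzcomm b a ha).symm)
        (fun h => hxV (zpowers_le.mpr hz.1 (h (mem_zpowers x)))) h1
      obtain ⟨k, hk⟩ := (elementary_isPGroup hX).exists_card_eq
      rw [hk] at hX3 ⊢
      exact le_trans (Nat.pow_le_pow_right (by norm_num) (by
        by_contra hc
        exact hX3 (Nat.pow_le_pow_right (by norm_num) (not_le.mp hc)))) h2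
    set W := V ⊓ centralizer {x}
    have hW := elementary_of_le hV (inf_le_left : W ≤ V)
    have hxel := elementary_of_le hX (zpowers_le.mpr hxX)
    have hcomm : ∀ a ∈ W, ∀ b ∈ zpowers x, a * b = b * a := by
      rintro a ha b ⟨n, rfl⟩
      exact (Commute.zpow_right (show Commute a x from mem_centralizer_singleton_iff.mp ha.2) n).eq
    refine ⟨W ⊔ zpowers x, isElementary_sup hW hxel hcomm, ?_,
      sup_gt hW hxel hcomm (fun h => hxV (h (mem_zpowers x)).1) (nine_le_fixed hV hVc (hX.2 x hxX))⟩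
    refine le_centralizer_iff.mpr (hgen.le.trans (sup_le ?_ ?_))
    · exact fun b hb => mem_centralizer_iff.mpr fun a _ => hzcomm a b hb
    · exact le_centralizer_iff.mpr (sup_le (fun a ha => mem_centralizer_iff.mpr fun b hb =>
        (hcomm a ha b hb).symm) (fun a ha => mem_centralizer_iff.mpr fun b hb =>
        elementary_comm hxel hb ha))
  intro E E' hE hE2 hE' hE'2
  have hconn : ∀ X : Subgroup P, Cfsg.IsElementaryAbelian 3 X → 3 ^ 2 ≤ Nat.card X →
      Relation.ReflTransGen (fun A B : Subgroup P => Cfsg.IsElementaryAbelian 3 A ∧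
        3 ^ 2 ≤ Nat.card ↥A ∧ Cfsg.IsElementaryAbelian 3 B ∧ 3 ^ 2 ≤ Nat.card ↥B ∧
        ∀ a ∈ A, ∀ b ∈ B, a * b = b * a) X U := fun X hX hX2 => (hU X hX hX2).mpr fun hr => by
    obtain ⟨F, hF, hFC, hF3⟩ := key X hX hX2
    exact S1337.not_rankLE hF hFC hF3 hr
  refine (hconn E hE hE2).trans ?_
  have h' := hconn E' hE' hE'2
  induction h' using Relation.ReflTransGen.head_induction_on with
  | refl => exact .refl
  | head h _ ih =>
    exact (ih h.2.2.1 h.2.2.2.1).tail ⟨h.2.2.1, h.2.2.2.1, h.1, h.2.1, fun a ha b hb => (h.2.2.2.2 b hb a ha).symm⟩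

end Cfsg.Agent.S1338
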