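import Cfsg.Statements.S1339
import Cfsg.Agent.Lib.LocalEvenB.CharP

set_option autoImplicit false
open Cfsg

namespace Cfsg.Agent.S1339

open Subgroup Matrix

section
variable {F : Type*} [Field F] [Fintype F] [DecidableEq F] {n : ℕ}

omit [DecidableEq F] in
theorem eq_zero_or_one (hF : Fintype.card F = 2) (x : F) : x = 0 ∨ x = 1 := by
  by_contra h
  push Not at h
  have h3 := Fintype.card_le_of_injective ![(0 : F), 1, x] (by
    intro a b hab
    fin_cases a <;> fin_cases b <;> simp_all [eq_comm])
  simp [hF] at h3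

/-- Entries of elements commuting with a transvection. -/
theorem entries (hF : Fintype.card F = 2) {i j : Fin n} (hij : i ≠ j)
    {t : SpecialLinearGroup (Fin n) F} (ht : (t : Matrix (Fin n) (Fin n) F) = transvection i j 1)
    {g : SpecialLinearGroup (Fin n) F}
    (hg : g ∈ centralizer ({t} : Set (SpecialLinearGroup (Fin n) F))) :
    (∀ k, k ≠ i → g.1 k i = 0) ∧ (∀ l, l ≠ j → g.1 j l = 0) ∧ g.1 i i = 1 ∧ g.1 j j = 1 := by
  have h : g.1 * transvection i j 1 = transvection i j 1 * g.1 := by
    rw [← ht]
    have hh : g * t = t * g := mem_centralizer_singleton_iff.mp hg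
    exact congrArg Subtype.val hh
  have hcol : ∀ k, k ≠ i → g.1 k i = 0 := fun k hk => by
    have := congrFun (congrFun h k) j
    rw [mul_transvection_apply_same, transvection_mul_apply_of_ne _ _ _ _ hk, one_mul] at this
    simpa using this
  have hrow : ∀ l, l ≠ j → g.1 j l = 0 := fun l hl => by
    have := congrFun (congrFun h i) l
    rw [mul_transvection_apply_of_ne _ _ _ _ hl, transvection_mul_apply_same, one_mul] at this
    simpa using this.symm
  have hd : g.1 i i = g.1 j j := by
    have := congrFun (congrFun h i) j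
    rw [mul_transvection_apply_same, transvection_mul_apply_same, one_mul, one_mul] at this
    exact add_left_cancel this
  have h1 : g.1 i i = 1 := by
    refine (eq_zero_or_one hF _).resolve_left fun h0 => ?_
    have : g.1.det = 0 := det_eq_zero_of_column_eq_zero i fun k => by
      by_cases hk : k = i
      · rw [hk, h0]
      · exact hcol k hk
    rw [g.2] at this
    exact one_ne_zero this
  exact ⟨hcol, hrow, h1, hd ▸ h1⟩

/-- The matrices of `C(t)` that are the identity outside row `i` and column `j`. -/
def IsOuter (i j : Fin n) (g : SpecialLinearGroup (Fin n) F) : Prop :=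
  ∀ k l : Fin n, k ≠ i → l ≠ j → g.1 k l = (1 : Matrix (Fin n) (Fin n) F) k l

end

/-- Let F be a field with 2 elements, n ≥ 3, and t ∈ SL(n, F) a transvection (t = 1 + E_{ij}, i ≠ j). Then the generalized Fitting subgroup of C(t) is O_2(C(t)). -/
theorem result {F : Type*} [Field F] [Fintype F] [DecidableEq F] (hF : Fintype.card F = 2) (n : ℕ) (hn : 3 ≤ n) (i j : Fin n) (hij : i ≠ j) (t : Matrix.SpecialLinearGroup (Fin n) F) (ht : (t : Matrix (Fin n) (Fin n) F) = Matrix.transvection i j 1) : Cfsg.generalizedFittingSubgroup ↥(Subgroup.centralizer ({t} : Set (Matrix.SpecialLinearGroup (Fin n) F))) = Cfsg.pCore 2 ↥(Subgroup.centralizer ({t} : Set (Matrix.SpecialLinearGroup (Fin n) F))) := by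
  haveI : Fact (Nat.Prime 2) := ⟨Nat.prime_two⟩
  set C := Subgroup.centralizer ({t} : Set (Matrix.SpecialLinearGroup (Fin n) F))
  have he := fun g : ↥C => entries hF hij ht g.2
  -- right multiplication by such a matrix
  have hmul : ∀ (g x : ↥C), IsOuter i j x.1 → ∀ k l : Fin n, k ≠ i → l ≠ j →
      (g.1.1 * x.1.1) k l = g.1.1 k l := by
    intro g x hx k l hk hl
    rw [Matrix.mul_apply, Finset.sum_eq_single l]
    · by_cases hli : l = i
      · subst hli; rw [(he g).1 k hk, zero_mul]
      · rw [hx l l hli hl, Matrix.one_apply_eq, mul_one]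
    · intro m _ hm
      by_cases hmi : m = i
      · subst hmi; rw [(he g).1 k hk, zero_mul]
      · rw [hx m l hmi hl, Matrix.one_apply_ne hm, mul_zero]
    · simp
  have hone : IsOuter i j ((1 : ↥C) : Matrix.SpecialLinearGroup (Fin n) F) := fun k l _ _ => rfl
  have hpair : ∀ a b : ↥C, IsOuter i j a.1 → IsOuter i j b.1 → IsOuter i j (a * b).1 := by
    intro a b ha hb k l hk hl
    show (a.1.1 * b.1.1) k l = _
    rw [hmul a b hb k l hk hl, ha k l hk hl]
  let Q : Subgroup ↥C :=
    { carrier := {g | IsOuter i j g.1}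
      one_mem' := hone
      mul_mem' := fun {a b} ha hb => hpair a b ha hb
      inv_mem' := fun {a} ha => by
        show IsOuter i j (a⁻¹).1
        intro k l hk hl
        have h1 := hmul a⁻¹ a ha k l hk hl
        rw [← h1]
        show ((a⁻¹ * a : ↥C) : Matrix.SpecialLinearGroup (Fin n) F).1 k l = _
        rw [inv_mul_cancel]
        rfl }
  have hQn : Q.Normal := ⟨fun x hx g => by
    show IsOuter i j (g * x * g⁻¹).1
    intro k l hk hl
    show (g.1.1 * x.1.1 * (g⁻¹ : ↥C).1.1) k l = _
    have h1 : ((g * g⁻¹ : ↥C) : Matrix.SpecialLinearGroup (Fin n) F).1 k l =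
        (1 : Matrix (Fin n) (Fin n) F) k l := by rw [mul_inv_cancel]; rfl
    rw [← h1]
    show (g.1.1 * x.1.1 * (g⁻¹ : ↥C).1.1) k l = (g.1.1 * (g⁻¹ : ↥C).1.1) k l
    rw [Matrix.mul_apply, Matrix.mul_apply]
    refine Finset.sum_congr rfl fun m _ => ?_
    by_cases hm : m = j
    · subst hm; rw [(he g⁻¹).2.1 l hl, mul_zero, mul_zero]
    · rw [hmul g x hx k m hk hm]⟩
  have h2 : (2 : F) = 0 := by
    rcases eq_zero_or_one hF (2 : F) with h | h
    · exact h
    · exfalso
      have : (1 : F) + 1 = 1 + 0 := by rw [one_add_one_eq_two, h, add_zero]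
      exact one_ne_zero (add_left_cancel this)
  have hQ2 : IsPGroup 2 Q := by
    intro x
    refine ⟨2, Subtype.ext (Subtype.ext (Subtype.ext ?_))⟩
    set g := x.1 with hgdef
    have hg : IsOuter i j g.1 := x.2
    show ((g : ↥C) ^ 2 ^ 2).1.1 = 1
    have hsq : ∀ k l, k ≠ i → (g.1.1 * g.1.1) k l = (1 : Matrix (Fin n) (Fin n) F) k l := by
      intro k l hk
      by_cases hl : l = j
      · subst hl
        by_cases hkj : k = l
        · subst hkj
          rw [Matrix.mul_apply, Finset.sum_eq_single k, (he g).2.2.2, mul_one, Matrix.one_apply_eq]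
          · intro m _ hm; rw [(he g).2.1 m hm, zero_mul]
          · simp
        · rw [Matrix.mul_apply, Matrix.one_apply_ne hkj,
            Finset.sum_eq_add k l hkj (fun c _ hc => ?_) (by simp) (by simp)]
          · rw [hg k k hk hkj, Matrix.one_apply_eq, (he g).2.2.2, one_mul, mul_one, ← two_mul, h2, zero_mul]
          · rw [hg k c hk hc.2, Matrix.one_apply_ne (Ne.symm hc.1), zero_mul]
      · rw [hmul g g hg k l hk hl, hg k l hk hl]
    have hii : ((g * g : ↥C) : Matrix.SpecialLinearGroup (Fin n) F).1 i i = 1 := (he (g * g)).2.2.1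
    rw [show (2 : ℕ) ^ 2 = 2 + 2 by norm_num, pow_add, pow_two]
    show (g.1.1 * g.1.1) * (g.1.1 * g.1.1) = 1
    change (g.1.1 * g.1.1) i i = 1 at hii
    set H := g.1.1 * g.1.1
    ext k l
    rw [Matrix.mul_apply]
    by_cases hk : k = i
    · subst hk
      by_cases hl : l = k
      · subst hl
        rw [Finset.sum_eq_single l, hii, mul_one, Matrix.one_apply_eq]
        · intro m _ hm; rw [hsq m l hm, Matrix.one_apply_ne hm, mul_zero]
        · simp
      · rw [Matrix.one_apply_ne (Ne.symm hl),
          Finset.sum_eq_add k l (Ne.symm hl) (fun c _ hc => ?_) (by simp) (by simp)]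
        · rw [hii, hsq l l hl, Matrix.one_apply_eq, one_mul, mul_one, ← two_mul, h2, zero_mul]
        · rw [hsq c l hc.1, Matrix.one_apply_ne hc.2, mul_zero]
    · rw [Finset.sum_eq_single k, hsq k k hk, Matrix.one_apply_eq, one_mul, hsq k l hk]
      · intro m _ hm; rw [hsq k m hk, Matrix.one_apply_ne (Ne.symm hm), zero_mul]
      · simp
  have hCQ : Subgroup.centralizer (Q : Set ↥C) ≤ Q := by
    intro g hg k l hk _
    have hik : i ≠ k := Ne.symm hk
    let u : Matrix.SpecialLinearGroup (Fin n) F := ⟨Matrix.transvection i k 1, det_transvection_of_ne _ _ hik 1⟩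
    have huC : u ∈ C := by
      refine mem_centralizer_singleton_iff.mpr (Subtype.ext ?_)
      show Matrix.transvection i k 1 * t.1 = t.1 * Matrix.transvection i k 1
      rw [ht, Matrix.transvection, Matrix.transvection]
      simp only [Matrix.mul_add, Matrix.add_mul, mul_one, one_mul,
        Matrix.single_mul_single_of_ne (1 : F) i k i hk (1 : F),
        Matrix.single_mul_single_of_ne (1 : F) i j i (Ne.symm hij) (1 : F)]
      abel
    have huQ : (⟨u, huC⟩ : ↥C) ∈ Q := fun a b ha hb => by
      show Matrix.transvection i k 1 a b = _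
      simp [Matrix.transvection, Matrix.single_apply, Ne.symm ha]
    have hc : Matrix.transvection i k 1 * g.1.1 = g.1.1 * Matrix.transvection i k 1 :=
      congrArg (fun z : ↥C => z.1.1) (mem_centralizer_iff.mp hg _ huQ)
    by_cases hkl : k = l
    · subst hkl
      have := congrFun (congrFun hc i) k
      rw [mul_transvection_apply_same, transvection_mul_apply_same, one_mul, one_mul] at this
      rw [add_left_cancel this, (he g).2.2.1, Matrix.one_apply_eq]
    · have := congrFun (congrFun hc i) l
      rw [mul_transvection_apply_of_ne _ _ _ _ (Ne.symm hkl), transvection_mul_apply_same, one_mul] at this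
      rw [Matrix.one_apply_ne hkl]
      simpa using this
  have hle : Q ≤ Cfsg.pCore 2 ↥C := CfsgLib.Components.le_pCore hQn hQ2
  exact CfsgLib.LocalEvenB.gFitting_eq_pCore_iff.mpr
    (((Subgroup.centralizer_le hle).trans hCQ).trans hle)

end Cfsg.Agent.S1339
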