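import Cfsg.Statements.S1340
import Cfsg.Agent.Lib.Classical.SLGroup
import Cfsg.Agent.Lib.Components.Quasisimple
import Cfsg.Agent.Lib.Core.Cores

set_option autoImplicit false
open Cfsg

namespace Cfsg.Agent.S1340

open Subgroup

variable {F : Type*} [Field F]

/-- The block embedding of the lower corner. -/
def cornerHom (m : ℕ) : Matrix (Fin m) (Fin m) F →* Matrix (Fin 1 ⊕ Fin m) (Fin 1 ⊕ Fin m) F where
  toFun A := Matrix.fromBlocks 1 0 0 A
  map_one' := Matrix.fromBlocks_one
  map_mul' A B := by simp [Matrix.fromBlocks_multiply]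

/-- The block embedding of `SL` in `GL`. -/
def slCorner (m : ℕ) :
    Matrix.SpecialLinearGroup (Fin m) F →* Matrix.GeneralLinearGroup (Fin 1 ⊕ Fin m) F :=
  (Units.map (cornerHom m)).comp Matrix.SpecialLinearGroup.toGL

theorem slCorner_val {m : ℕ} (A : Matrix.SpecialLinearGroup (Fin m) F) :
    (slCorner m A).val = Matrix.fromBlocks 1 0 0 A.1 := rfl

/-- The reflection. -/
def refl (m : ℕ) : Matrix.GeneralLinearGroup (Fin 1 ⊕ Fin m) F :=
  ⟨Matrix.fromBlocks (-1) 0 0 1, Matrix.fromBlocks (-1) 0 0 1,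
    by simp [Matrix.fromBlocks_multiply], by simp [Matrix.fromBlocks_multiply]⟩

theorem refl_val (m : ℕ) : (refl (F := F) m).val = Matrix.fromBlocks (-1) 0 0 1 := rfl

theorem eq_neg_self_iff' (h2 : (2 : F) ≠ 0) (x : F) (h : x = -x) : x = 0 := by
  have : (2 : F) * x = 0 := by linear_combination h
  exact (mul_eq_zero.mp this).resolve_left h2

theorem neg_one_ne_one (h2 : (2 : F) ≠ 0) : (-1 : F) ≠ 1 :=
  fun h => h2 (by linear_combination -h)

theorem refl_not_central {m : ℕ} (hm : 1 ≤ m) (h2 : (2 : F) ≠ 0) :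
    ∃ g, refl (F := F) m * g ≠ g * refl m := by
  let B : Matrix (Fin 1) (Fin m) F := fun _ _ => 1
  let g : Matrix.GeneralLinearGroup (Fin 1 ⊕ Fin m) F :=
    Matrix.GeneralLinearGroup.mkOfDetNeZero (Matrix.fromBlocks 1 B 0 1) (by simp)
  refine ⟨g, fun h => neg_one_ne_one h2 ?_⟩
  have h' : (Matrix.fromBlocks (-1) 0 0 1 : Matrix (Fin 1 ⊕ Fin m) (Fin 1 ⊕ Fin m) F) *
      Matrix.fromBlocks 1 B 0 1 = Matrix.fromBlocks 1 B 0 1 * Matrix.fromBlocks (-1) 0 0 1 :=
    congrArg Units.val h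
  simp only [Matrix.fromBlocks_multiply, Matrix.fromBlocks_inj, Matrix.neg_mul, Matrix.one_mul,
    Matrix.mul_one, Matrix.zero_mul, add_zero, zero_add] at h'
  have := congrFun (congrFun h'.2.1 0) ⟨0, hm⟩
  rw [Matrix.neg_apply] at this
  exact this

theorem corner_normal {m : ℕ} (h2 : (2 : F) ≠ 0) (g : Matrix.GeneralLinearGroup (Fin 1 ⊕ Fin m) F)
    (hg : g * refl m = refl m * g) (A : Matrix.SpecialLinearGroup (Fin m) F) :
    ∃ A' : Matrix.SpecialLinearGroup (Fin m) F, g * slCorner m A * g⁻¹ = slCorner m A' := by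
  obtain ⟨a, b, c, d, hd⟩ : ∃ a b c d, g.val = Matrix.fromBlocks a b c d :=
    ⟨_, _, _, _, (Matrix.fromBlocks_toBlocks g.val).symm⟩
  have h : g.val * Matrix.fromBlocks (-1) 0 0 1 = Matrix.fromBlocks (-1) 0 0 1 * g.val :=
    congrArg Units.val hg
  simp only [hd, Matrix.fromBlocks_multiply, Matrix.fromBlocks_inj] at h
  have hb : b = 0 := Matrix.ext fun i j => eq_neg_self_iff' h2 _ (by
    simpa using congrFun (congrFun h.2.1 i) j)
  have hc : c = 0 := Matrix.ext fun i j => eq_neg_self_iff' h2 _ (by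
    simpa using (congrFun (congrFun h.2.2.1 i) j).symm)
  subst hb hc
  have hu : IsUnit d.det := by
    have := (Matrix.isUnit_iff_isUnit_det g.val).mp g.isUnit
    rw [hd, Matrix.det_fromBlocks_zero₂₁] at this
    exact (IsUnit.mul_iff.mp this).2
  refine ⟨⟨d * A.1 * d⁻¹, by rw [Matrix.det_conj ((Matrix.isUnit_iff_isUnit_det d).mpr hu), A.2]⟩, ?_⟩
  rw [mul_inv_eq_iff_eq_mul]
  refine Units.ext ?_
  show g.val * Matrix.fromBlocks 1 0 0 A.1 = Matrix.fromBlocks 1 0 0 (d * A.1 * d⁻¹) * g.val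
  rw [hd, Matrix.fromBlocks_multiply, Matrix.fromBlocks_multiply]
  simp [Matrix.mul_assoc, Matrix.nonsing_inv_mul _ hu]

theorem slCorner_injective (m : ℕ) : Function.Injective (slCorner (F := F) m) := fun _ _ h =>
  Subtype.ext (Matrix.fromBlocks_inj.mp (congrArg Units.val h)).2.2.2

theorem sl_quasisimple {m : ℕ} (hm : 2 ≤ m) [Fintype F] (h : m = 2 → 4 ≤ Fintype.card F) :
    Cfsg.IsQuasisimple (Matrix.SpecialLinearGroup (Fin m) F) := by
  classical
  have : Nontrivial (Fin m) := Fin.nontrivial_iff_two_le.2 hm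
  have hperf : commutator (Matrix.SpecialLinearGroup (Fin m) F) = ⊤ := by
    rcases Nat.lt_or_ge m 3 with h3 | h3
    · obtain rfl : m = 2 := by omega
      obtain ⟨a, -, ha⟩ : ∃ a ∈ (Finset.univ : Finset F), a ∉ ({0, 1, -1} : Finset F) := by
        apply Finset.exists_mem_notMem_of_card_lt_card
        rw [Finset.card_univ]
        exact lt_of_le_of_lt Finset.card_le_three (h rfl)
      simp only [Finset.mem_insert, Finset.mem_singleton, not_or] at ha
      exact Matrix.SL2.commutator_eq_top ha.1 fun h => (sq_eq_one_iff.1 h).elim ha.2.1 ha.2.2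
    · exact CfsgLib.Classical.commutator_SL_eq_top h3
  exact ⟨⟨hperf⟩, CfsgLib.Classical.isSimpleGroup_PSL_of_perfect hperf⟩

/-- Let F be a finite field of odd order and n ≥ 3 with (n, |F|) ≠ (3, 3). Then GL(n, F) has a non-central involution t such that C(t) / O(C(t)) has a component. -/
theorem result {F : Type*} [Field F] [Fintype F] [DecidableEq F] (hF : Odd (Fintype.card F)) (n : ℕ) (hn : 3 ≤ n) (h33 : ¬ (n = 3 ∧ Fintype.card F = 3)) : ∃ t : Matrix.GeneralLinearGroup (Fin n) F, orderOf t = 2 ∧ t ∉ Subgroup.center (Matrix.GeneralLinearGroup (Fin n) F) ∧ Cfsg.HasComponent (↥(Subgroup.centralizer ({t} : Set (Matrix.GeneralLinearGroup (Fin n) F))) ⧸ Cfsg.oddCore ↥(Subgroup.centralizer ({t} : Set (Matrix.GeneralLinearGroup (Fin n) F)))) := by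
  obtain ⟨m, rfl⟩ : ∃ m, n = 1 + m := ⟨n - 1, by omega⟩
  have hq : 1 < Fintype.card F := Fintype.one_lt_card
  have h2 : (2 : F) ≠ 0 := Ring.two_ne_zero fun hch => by
    have : CharP F 2 := by rw [← hch]; exact ringChar.charP F
    have := FiniteField.even_card_of_char_two (F := F) hch
    exact absurd (Nat.odd_iff.mp hF) (by omega)
  have hQ : Cfsg.IsQuasisimple (Matrix.SpecialLinearGroup (Fin m) F) :=
    sl_quasisimple (by omega) fun hm => by
      have : Fintype.card F ≠ 3 := fun e => h33 ⟨by omega, e⟩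
      have := Nat.odd_iff.mp hF
      omega
  let e : Matrix.GeneralLinearGroup (Fin 1 ⊕ Fin m) F ≃* Matrix.GeneralLinearGroup (Fin (1 + m)) F :=
    Units.mapEquiv (M := Matrix (Fin 1 ⊕ Fin m) (Fin 1 ⊕ Fin m) F) (N := Matrix (Fin (1 + m)) (Fin (1 + m)) F)
      (Matrix.reindexAlgEquiv F F (finSumFinEquiv (m := 1) (n := m))).toRingEquiv.toMulEquiv
  have htsq : refl (F := F) m ^ 2 = 1 := by
    rw [pow_two]; exact Units.ext (by simp [refl_val, Matrix.fromBlocks_multiply])
  have ht1 : refl (F := F) m ≠ 1 := fun h => neg_one_ne_one h2 (by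
    simpa [refl_val] using congrArg (fun u : Matrix.GeneralLinearGroup (Fin 1 ⊕ Fin m) F =>
      (u.val : Matrix (Fin 1 ⊕ Fin m) (Fin 1 ⊕ Fin m) F) (Sum.inl 0) (Sum.inl 0)) h)
  have hto : orderOf (e (refl (F := F) m)) = 2 := by
    rw [MulEquiv.orderOf_eq]; exact orderOf_eq_prime htsq ht1
  refine ⟨e (refl m), hto, fun hc => ?_, ?_⟩
  · obtain ⟨g, hg⟩ := refl_not_central (F := F) (m := m) (by omega) h2
    exact hg (e.injective (by rw [map_mul, map_mul]; exact (mem_center_iff.mp hc (e g)).symm))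
  set C := centralizer ({e (refl m)} : Set (Matrix.GeneralLinearGroup (Fin (1 + m)) F)) with hC
  let φ : Matrix.SpecialLinearGroup (Fin m) F →* ↥C :=
    (e.toMonoidHom.comp (slCorner m)).codRestrict C fun A => by
      rw [hC, mem_centralizer_singleton_iff]
      show e (slCorner m A) * e (refl m) = e (refl m) * e (slCorner m A)
      rw [← map_mul, ← map_mul]
      exact congrArg e (Units.ext (by simp [slCorner_val, refl_val, Matrix.fromBlocks_multiply]))
  have hφn : φ.range.Normal := by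
    refine ⟨?_⟩
    rintro _ ⟨A, rfl⟩ g
    obtain ⟨g0, hg0⟩ := e.surjective (g : Matrix.GeneralLinearGroup (Fin (1 + m)) F)
    have hgt := mem_centralizer_singleton_iff.mp g.2
    rw [← hg0, ← map_mul, ← map_mul] at hgt
    obtain ⟨A', hA'⟩ := corner_normal h2 g0 (e.injective hgt) A
    refine ⟨A', Subtype.ext ?_⟩
    show e (slCorner m A') = (g : Matrix.GeneralLinearGroup (Fin (1 + m)) F) * e (slCorner m A) * (g : Matrix.GeneralLinearGroup (Fin (1 + m)) F)⁻¹
    rw [← hg0, ← hA', map_mul, map_mul, map_inv]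
  let f := (QuotientGroup.mk' (Cfsg.oddCore ↥C)).comp φ
  have : Nontrivial (Fin m) := Fin.nontrivial_iff_two_le.2 (by omega)
  obtain ⟨i, j, hij⟩ := exists_pair_ne (Fin m)
  have hf : Nontrivial ↥f.range := by
    let x : Matrix.SpecialLinearGroup (Fin m) F :=
      Matrix.SpecialLinearGroup.diag2n hij (-1) (neg_ne_zero.mpr one_ne_zero)
    refine (Subgroup.nontrivial_iff_ne_bot _).mpr fun hbot => ?_
    have hx : φ x ∈ Cfsg.oddCore ↥C := (QuotientGroup.eq_one_iff _).mp
      ((eq_bot_iff_forall _).mp hbot _ ⟨x, rfl⟩)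
    have hxx : x * x = 1 := by
      refine Subtype.ext ?_
      rw [Matrix.SpecialLinearGroup.coe_mul, Matrix.SpecialLinearGroup.diag2n_coe]
      simp only [Matrix.diagonal_mul_diagonal, Matrix.SpecialLinearGroup.coe_one, ← Matrix.diagonal_one]
      congr 1
      funext k
      split_ifs <;> simp
    have h1 : orderOf (φ x) ∣ 2 :=
      orderOf_dvd_of_pow_eq_one (by rw [← map_pow, pow_two, hxx, map_one])
    have h3 := Nat.eq_one_of_dvd_coprimes (CfsgLib.Core.coprime_card_pPrimeCore 2 ↥C)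
      (Subgroup.orderOf_dvd_natCard _ hx) h1
    have hx1 : x = 1 := slCorner_injective m (e.injective
      ((congrArg Subtype.val (orderOf_eq_one_iff.mp h3)).trans
        (by rw [map_one, map_one]; rfl)))
    refine neg_one_ne_one h2 ?_
    simpa [x, Matrix.SpecialLinearGroup.diag2n_coe] using
      congrArg (fun M : Matrix.SpecialLinearGroup (Fin m) F => M.1 i i) hx1
  have hn : f.range.Normal := by
    rw [MonoidHom.range_comp]
    exact hφn.map _ (QuotientGroup.mk'_surjective _)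
  exact ⟨f.range, hn.isSubnormal, CfsgLib.Components.IsQuasisimple.of_surjective hQ f.rangeRestrict
    f.rangeRestrict_surjective⟩

end Cfsg.Agent.S1340
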