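import Cfsg.Statements.S1348
import Cfsg.Agent.Lib.Classical.SLGroup
import Cfsg.Agent.Lib.Components.Component
import Cfsg.Agent.Lib.Signalizer.Basic

set_option autoImplicit false
set_option maxHeartbeats 400000
set_option linter.style.haveILetI false
open Cfsg

namespace Cfsg.Agent.S1348

open Subgroup CfsgLib.Components CfsgLib.Signalizer
open scoped commutatorElement

/-- A quasisimple normal subgroup of an involution centralizer with abelian centralizer and one
involution there is standard. -/
theorem standard_of_abelian {G : Type*} [Group G] [Finite G] {t : G} (ht : orderOf t = 2)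
    {L : Subgroup G} (hL : Cfsg.IsQuasisimple L) (hLt : L ≤ centralizer ({t} : Set G))
    (hn : centralizer ({t} : Set G) ≤ normalizer (L : Set G))
    (hab : ∀ c ∈ centralizer (L : Set G), ∀ d ∈ centralizer (L : Set G), c * d = d * c)
    (huniq : ∀ c ∈ centralizer (L : Set G), orderOf c = 2 → c = t) :
    Cfsg.IsStandardSubgroup
      ((Cfsg.layer ↥(centralizer ({t} : Set G))).map (centralizer ({t} : Set G)).subtype) := by
  haveI : Fact (Nat.Prime 2) := ⟨Nat.prime_two⟩
  have htL : t ∈ centralizer (L : Set G) := mem_centralizer_iff.mpr fun l hl =>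
    mem_centralizer_singleton_iff.mp (hLt hl)
  have hcomp : Cfsg.IsComponent (L.subgroupOf (centralizer ({t} : Set G))) :=
    ⟨((normal_subgroupOf_iff_le_normalizer hLt).mpr hn).isSubnormal,
      (isQuasisimple_congr (subgroupOfEquivOfLe hLt)).mpr hL⟩
  have hlayer : (Cfsg.layer ↥(centralizer ({t} : Set G))).map (centralizer ({t} : Set G)).subtype = L := by
    conv_rhs => rw [← map_subgroupOf_eq_of_le hLt]
    refine congrArg (Subgroup.map _) (le_antisymm (layer_le_iff.mpr fun K hK => ?_) (le_layer hcomp))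
    rcases components_eq_or_commute hK hcomp with h | h
    · exact h.le
    · exfalso
      refine IsQuasisimple.commutator_self_ne_bot hK.2 (commutator_eq_bot_iff_le_centralizer.mpr fun x hx => ?_)
      have hc : ∀ y ∈ K, (y : G) ∈ centralizer (L : Set G) := fun y hy =>
        mem_centralizer_iff.mpr fun l hl => congrArg Subtype.val (mem_centralizer_iff.mp
          (commutator_eq_bot_iff_le_centralizer.mp h hy) ⟨l, hLt hl⟩ hl)
      exact mem_centralizer_iff.mpr fun y hy => Subtype.ext (hab _ (hc y hy) _ (hc x hx))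
  rw [hlayer]
  refine ⟨hL, ⟨even_iff_two_dvd.mpr (ht ▸ orderOf_dvd_natCard _ htL), fun g hg => ?_⟩, fun g hg hc => ?_, ?_⟩
  · by_contra hodd
    obtain ⟨w, hw⟩ := exists_prime_orderOf_dvd_card' 2
      (even_iff_two_dvd.mp (Nat.not_odd_iff_even.mp hodd))
    obtain ⟨hw1, v, hv, hvw⟩ := mem_inf.mp w.2
    have hwo : orderOf (w : G) = 2 := by rw [orderOf_coe, hw]
    have hvo : orderOf v = 2 := by
      rw [← hwo, ← hvw]; exact ((MulAut.conj g).orderOf_eq v).symm
    have h1 : g * t * g⁻¹ = t := by
      have h2 : g * v * g⁻¹ = (w : G) := hvw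
      rwa [huniq v hv hvo, huniq _ hw1 hwo] at h2
    exact hg (normalizer_le_normalizer_centralizer_set _ (hn
      (mem_centralizer_singleton_iff.mpr (mul_inv_eq_iff_eq_mul.mp h1))))
  · have hmc : L.map (MulAut.conj g).toMonoidHom ≤ centralizer (L : Set G) :=
      commutator_eq_bot_iff_le_centralizer.mp (by rw [commutator_comm]; exact hc)
    refine IsQuasisimple.not_isMulCommutative hL ⟨⟨fun x y => Subtype.ext ?_⟩⟩
    exact (MulAut.conj g).injective (by
      rw [Subgroup.coe_mul, Subgroup.coe_mul, map_mul, map_mul]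
      exact hab _ (hmc ⟨x, x.2, rfl⟩) _ (hmc ⟨y, y.2, rfl⟩))
  · refine le_antisymm (normalizer_le_normalizer_centralizer_set _) fun g hg => hn ?_
    refine mem_centralizer_singleton_iff.mpr (mul_inv_eq_iff_eq_mul.mp (huniq _ ?_ ?_))
    · exact (mem_normalizer_iff.mp hg t).mp htL
    · rw [← ht]; exact (MulAut.conj g).orderOf_eq t

variable {F : Type*} [Field F]

/-- The upper corner. -/
def corner (m : ℕ) : Matrix.SpecialLinearGroup (Fin m) F →* Matrix.SpecialLinearGroup (Fin (m + 1)) F where
  toFun M := ⟨Matrix.reindex finSumFinEquiv finSumFinEquiv (Matrix.fromBlocks M.1 0 0 1), by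
    rw [Matrix.det_reindex_self, Matrix.det_fromBlocks_zero₂₁, M.2, Matrix.det_one, one_mul]⟩
  map_one' := Subtype.ext (by simp [Matrix.fromBlocks_one])
  map_mul' A B := Subtype.ext (by
    show Matrix.reindex finSumFinEquiv finSumFinEquiv (Matrix.fromBlocks (A.1 * B.1) 0 0 1) =
      Matrix.reindex finSumFinEquiv finSumFinEquiv (Matrix.fromBlocks A.1 0 0 1) *
        Matrix.reindex finSumFinEquiv finSumFinEquiv (Matrix.fromBlocks B.1 0 0 1)
    rw [Matrix.reindex_apply, Matrix.reindex_apply, Matrix.reindex_apply, Matrix.submatrix_mul_equiv,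
      Matrix.fromBlocks_multiply]
    simp)

theorem corner_injective (m : ℕ) : Function.Injective (corner (F := F) m) := fun A B h =>
  Subtype.ext (Matrix.fromBlocks_inj.mp ((Matrix.reindex _ _).injective (congrArg Subtype.val h))).1

theorem quasisimple_sl {m : ℕ} (hm : 3 ≤ m) :
    Cfsg.IsQuasisimple (Matrix.SpecialLinearGroup (Fin m) F) := by
  haveI : Nontrivial (Fin m) := Fin.nontrivial_iff_two_le.2 (by omega)
  have hperf := CfsgLib.Classical.commutator_SL_eq_top (F := F) hm
  exact ⟨⟨hperf⟩, CfsgLib.Classical.isSimpleGroup_PSL_of_perfect hperf⟩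

theorem val_eq {m : ℕ} {A B : Matrix.SpecialLinearGroup (Fin m) F} (h : A = B) :
    (A : Matrix (Fin m) (Fin m) F) = B := by rw [h]

theorem exists_blocks {m : ℕ} (g : Matrix.SpecialLinearGroup (Fin (m + 1)) F) : ∃ a b c d,
    (g : Matrix (Fin (m + 1)) (Fin (m + 1)) F) =
      Matrix.reindex finSumFinEquiv finSumFinEquiv (Matrix.fromBlocks a b c d) :=
  ⟨_, _, _, _, by
    rw [Matrix.fromBlocks_toBlocks ((Matrix.reindex finSumFinEquiv finSumFinEquiv).symm g.1)]
    exact ((Matrix.reindex finSumFinEquiv finSumFinEquiv).apply_symm_apply g.1).symm⟩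

theorem corner_val {m : ℕ} (M : Matrix.SpecialLinearGroup (Fin m) F) :
    (corner m M).1 = Matrix.reindex finSumFinEquiv finSumFinEquiv (Matrix.fromBlocks M.1 0 0 1) := rfl

theorem reindex_mul {m : ℕ} (A B : Matrix (Fin m ⊕ Fin 1) (Fin m ⊕ Fin 1) F) :
    Matrix.reindex finSumFinEquiv finSumFinEquiv A * Matrix.reindex finSumFinEquiv finSumFinEquiv B =
      Matrix.reindex finSumFinEquiv finSumFinEquiv (A * B) :=
  Matrix.submatrix_mul_equiv _ _ _ _ _

theorem eq_zero_of_neg (h2 : (2 : F) ≠ 0) {x : F} (h : x = -x) : x = 0 :=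
  (mul_eq_zero.mp (show (2 : F) * x = 0 by linear_combination h)).resolve_left h2

theorem centralizer_corner {m : ℕ} (hm : 2 ≤ m) (c : Matrix.SpecialLinearGroup (Fin (m + 1)) F)
    (hc : c ∈ centralizer ((corner (F := F) m).range : Set (Matrix.SpecialLinearGroup (Fin (m + 1)) F))) :
    ∃ x y : F, x ^ m * y = 1 ∧
      c.1 = Matrix.reindex finSumFinEquiv finSumFinEquiv (Matrix.diagonal (Sum.elim (fun _ => x) (fun _ => y))) := by
  obtain ⟨a, b, cc, d, hd⟩ := exists_blocks c
  have key : ∀ i j : Fin m, i ≠ j →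
      a * Matrix.single i j (1 : F) = Matrix.single i j 1 * a ∧
      Matrix.single i j (1 : F) * b = 0 ∧ cc * Matrix.single i j (1 : F) = 0 := by
    intro i j hij
    have h := val_eq (mem_centralizer_iff.mp hc _
      ⟨Matrix.SpecialLinearGroup.transvection hij (1 : F), rfl⟩)
    rw [Matrix.SpecialLinearGroup.coe_mul, Matrix.SpecialLinearGroup.coe_mul, corner_val, hd,
      reindex_mul, reindex_mul] at h
    have h' := (Matrix.reindex _ _).injective h
    rw [Matrix.fromBlocks_multiply, Matrix.fromBlocks_multiply, Matrix.fromBlocks_inj] at h'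
    have hT : (Matrix.SpecialLinearGroup.transvection hij (1 : F)).1 = 1 + Matrix.single i j 1 := rfl
    simp only [hT, Matrix.zero_mul, Matrix.mul_zero, add_zero, zero_add, Matrix.one_mul, Matrix.mul_one,
      Matrix.add_mul, Matrix.mul_add] at h'
    exact ⟨(add_left_cancel h'.1).symm, add_eq_left.mp h'.2.1, add_eq_left.mp h'.2.2.1.symm⟩
  have hb : b = 0 := by
    ext j l
    obtain ⟨i, hij⟩ := haveI := Fin.nontrivial_iff_two_le.2 hm; exists_ne j
    simpa using congrFun (congrFun (key i j hij).2.1 i) l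
  have hcc : cc = 0 := by
    ext l i
    obtain ⟨j, hij⟩ := haveI := Fin.nontrivial_iff_two_le.2 hm; exists_ne i
    simpa using congrFun (congrFun (key i j (Ne.symm hij)).2.2 l) j
  have ha : a ∈ Set.range (Matrix.scalar (Fin m)) :=
    Matrix.mem_range_scalar_iff_commute_single.mpr fun i j hij => (key i j hij).1.symm
  obtain ⟨x, rfl⟩ := ha
  have hdd : d = Matrix.diagonal fun _ => d 0 0 := by
    ext i j
    obtain rfl := Fin.fin_one_eq_zero i
    obtain rfl := Fin.fin_one_eq_zero j
    simp
  refine ⟨x, d 0 0, ?_, ?_⟩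
  · have h := c.2
    rw [hd, Matrix.det_reindex_self, hb, Matrix.det_fromBlocks_zero₁₂, Matrix.det_fin_one,
      Matrix.scalar_apply, Matrix.det_diagonal, Finset.prod_const, Finset.card_univ, Fintype.card_fin] at h
    exact h
  · rw [hd, hb, hcc]
    conv_lhs => rw [hdd]
    rw [Matrix.scalar_apply, Matrix.fromBlocks_diagonal]

theorem result {F : Type*} [Field F] [Fintype F] [DecidableEq F] (hF : Odd (Fintype.card F)) (n : ℕ) (hn : 7 ≤ n) (hodd : Odd n) (t : Matrix.SpecialLinearGroup (Fin n) F) (ht : (t : Matrix (Fin n) (Fin n) F) = Matrix.diagonal (fun i : Fin n => if (i : ℕ) + 1 = n then (1 : F) else -1)) : Cfsg.IsStandardSubgroup ((Cfsg.layer ↥(Subgroup.centralizer ({t} : Set (Matrix.SpecialLinearGroup (Fin n) F)))).map (Subgroup.centralizer ({t} : Set (Matrix.SpecialLinearGroup (Fin n) F))).subtype) := by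
  obtain ⟨m, rfl⟩ : ∃ m, n = m + 1 := ⟨n - 1, by omega⟩
  have h2 : (2 : F) ≠ 0 := Ring.two_ne_zero fun hch => by
    have := FiniteField.even_card_of_char_two (F := F) hch
    exact absurd (Nat.odd_iff.mp hF) (by omega)
  have hm : Even m := by
    rcases hodd with ⟨k, hk⟩
    exact ⟨k, by omega⟩
  have ht' : t.1 = Matrix.reindex finSumFinEquiv finSumFinEquiv
      (Matrix.fromBlocks (-1 : Matrix (Fin m) (Fin m) F) 0 0 1) := by
    rw [ht, ← Matrix.diagonal_one, ← Matrix.diagonal_one, Matrix.diagonal_neg,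
      Matrix.fromBlocks_diagonal, Matrix.reindex_apply, Matrix.submatrix_diagonal_equiv]
    refine congrArg Matrix.diagonal (funext fun i => ?_)
    induction i using Fin.lastCases with
    | last => simp
    | cast i => simp [i.isLt.ne]
  have htt : orderOf t = 2 := by
    refine orderOf_eq_prime (Subtype.ext ?_) fun h => ?_
    · rw [pow_two, Matrix.SpecialLinearGroup.coe_mul, ht', reindex_mul, Matrix.fromBlocks_multiply]
      simp [Matrix.fromBlocks_one]
    · have h0 : (t : Matrix (Fin (m + 1)) (Fin (m + 1)) F) ⟨0, by omega⟩ ⟨0, by omega⟩ = 1 := by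
        rw [h, Matrix.SpecialLinearGroup.coe_one, Matrix.one_apply_eq]
      rw [ht, Matrix.diagonal_apply_eq, if_neg (by simp; omega)] at h0
      exact h2 (by linear_combination -h0)
  refine standard_of_abelian htt (L := (corner m).range)
    ((isQuasisimple_congr (MonoidHom.ofInjective (corner_injective m)).symm).mpr
      (quasisimple_sl (by omega))) ?_ ?_ ?_ ?_
  · rintro _ ⟨M, rfl⟩
    refine mem_centralizer_singleton_iff.mpr (Subtype.ext ?_)
    rw [Matrix.SpecialLinearGroup.coe_mul, Matrix.SpecialLinearGroup.coe_mul, ht', corner_val,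
      reindex_mul, reindex_mul, Matrix.fromBlocks_multiply, Matrix.fromBlocks_multiply]
    simp
  · intro g hg
    obtain ⟨a, b, c, d, hd⟩ := exists_blocks g
    have h := val_eq (mem_centralizer_singleton_iff.mp hg)
    rw [Matrix.SpecialLinearGroup.coe_mul, Matrix.SpecialLinearGroup.coe_mul, hd, ht', reindex_mul,
      reindex_mul] at h
    have h' := (Matrix.reindex _ _).injective h
    simp only [Matrix.fromBlocks_multiply, Matrix.fromBlocks_inj, Matrix.mul_zero, Matrix.zero_mul,
      Matrix.mul_neg, Matrix.neg_mul, Matrix.mul_one, Matrix.one_mul, add_zero, zero_add] at h'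
    have hb : b = 0 := Matrix.ext fun i j => eq_zero_of_neg h2 (by
      simpa using congrFun (congrFun h'.2.1 i) j)
    have hc : c = 0 := Matrix.ext fun i j => eq_zero_of_neg h2 (by
      simpa using (congrFun (congrFun h'.2.2.1 i) j).symm)
    subst hb hc
    have hu : IsUnit a.det := by
      have hdet := g.2
      rw [hd, Matrix.det_reindex_self, Matrix.det_fromBlocks_zero₂₁] at hdet
      exact IsUnit.of_mul_eq_one _ hdet
    refine mem_normalizer_iff_map_conj_eq.mpr (eq_of_le_of_card_ge ?_ (le_of_eq ?_))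
    · rintro _ ⟨_, ⟨M, rfl⟩, rfl⟩
      obtain ⟨M', hM'⟩ : ∃ M' : Matrix.SpecialLinearGroup (Fin m) F, M'.1 = a * M.1 * a⁻¹ :=
        ⟨⟨a * M.1 * a⁻¹, by
          rw [Matrix.det_conj ((Matrix.isUnit_iff_isUnit_det a).mpr hu), M.2]⟩, rfl⟩
      refine ⟨M', ?_⟩
      show corner m M' = g * corner m M * g⁻¹
      rw [eq_mul_inv_iff_mul_eq]
      refine Subtype.ext ?_
      rw [Matrix.SpecialLinearGroup.coe_mul, Matrix.SpecialLinearGroup.coe_mul, corner_val, corner_val,
        hd, hM', reindex_mul, reindex_mul, Matrix.fromBlocks_multiply, Matrix.fromBlocks_multiply]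
      simp [Matrix.mul_assoc, Matrix.nonsing_inv_mul _ hu]
    · exact (card_map_of_injective (MulAut.conj g).injective).symm
  · intro c hc e he
    obtain ⟨x, y, -, hx⟩ := centralizer_corner (by omega) c hc
    obtain ⟨u, v, -, hu⟩ := centralizer_corner (by omega) e he
    refine Subtype.ext ?_
    rw [Matrix.SpecialLinearGroup.coe_mul, Matrix.SpecialLinearGroup.coe_mul, hx, hu, reindex_mul,
      reindex_mul, Matrix.diagonal_mul_diagonal, Matrix.diagonal_mul_diagonal]
    simp [mul_comm]
  · intro c hc hco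
    obtain ⟨x, y, hdet, hx⟩ := centralizer_corner (by omega) c hc
    have hsq := val_eq (hco ▸ pow_orderOf_eq_one c : c ^ 2 = 1)
    rw [pow_two, Matrix.SpecialLinearGroup.coe_mul, hx, reindex_mul, Matrix.diagonal_mul_diagonal,
      Matrix.SpecialLinearGroup.coe_one] at hsq
    have hx2 : x * x = 1 := by
      simpa using congrFun (congrFun hsq (Fin.castSucc ⟨0, by omega⟩)) (Fin.castSucc ⟨0, by omega⟩)
    obtain ⟨k, hk⟩ := hm
    have hy : y = 1 := by
      rwa [hk, ← two_mul, pow_mul, pow_two, hx2, one_pow, one_mul] at hdet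
    rcases mul_self_eq_one_iff.mp hx2 with h1 | h1
    · exfalso
      have : c = 1 := Subtype.ext (by
        rw [hx, h1, hy, Matrix.SpecialLinearGroup.coe_one]
        simp [show Sum.elim (fun _ : Fin m => (1 : F)) (fun _ : Fin 1 => (1 : F)) = fun _ => 1 from
          funext fun i => by cases i <;> rfl])
      rw [this, orderOf_one] at hco
      omega
    · refine Subtype.ext ?_
      rw [hx, ht', h1, hy, ← Matrix.diagonal_one, ← Matrix.diagonal_one, Matrix.diagonal_neg,
        Matrix.fromBlocks_diagonal]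

end Cfsg.Agent.S1348
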