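import Cfsg.Statements.S1351
import Cfsg.Agent.Lib.OddLocal.KappaMain
-- import your own Cfsg.Agent.* helpers here

set_option autoImplicit false
open Cfsg

namespace Cfsg.Agent.S1351

/-- Let G be a minimal simple group of odd order and M a maximal subgroup. Then M possesses a Hall κ(M)-subgroup, and every Hall κ(M)-subgroup of M is cyclic. -/
theorem result {G : Type*} [Group G] [Finite G] (hG : Cfsg.IsMinSimpleOddOrder G)
    (M : Subgroup G) (hM : IsCoatom M) :
    (∃ K : Subgroup G, Cfsg.IsPiHallOf (Cfsg.kappa M) K M) ∧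
      ∀ K : Subgroup G, Cfsg.IsPiHallOf (Cfsg.kappa M) K M → IsCyclic K := by
  have : Group.IsSolvable M := hG.2.2.2 M hM.1
  refine ⟨?_, fun K hK => ?_⟩
  · obtain ⟨K₀, hK₀, -⟩ := CfsgLib.Core.exists_piHall_ge (G := ↥M) (π := Cfsg.kappa M) (K := ⊥)
      fun v hv hd => absurd (Nat.dvd_one.mp (Subgroup.card_bot (G := ↥M) ▸ hd)) hv.ne_one
    refine ⟨K₀.map M.subtype, Subgroup.map_subtype_le _, fun v hv hd => ?_, fun v hv hvπ hd => ?_⟩
    · rw [Subgroup.card_map_of_injective M.subtype_injective] at hd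
      exact hK₀.1 v hv hd
    · rw [Subgroup.relIndex, Subgroup.subgroupOf, Subgroup.comap_map_eq_self_of_injective M.subtype_injective] at hd
      exact hK₀.2 v hv hvπ hd
  · by_cases h : K = ⊥
    · subst h; infer_instance
    · obtain ⟨E, d⟩ := CfsgLib.OddLocal.Kappa.exists_data hG hM hK h
      exact d.isCyclic hG

end Cfsg.Agent.S1351
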