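import Cfsg.Statements.S1386
import Cfsg.Agent.Lib.OddLocal.TypeP

set_option autoImplicit false
open Cfsg

namespace Cfsg.Agent.S1386

/-- Let G be a finite group, W₁, W₂ subgroups forming a self-normalizing cyclic pair, S a subgroup with W₂ ≤ S and W₁ a complement to S' in S, and (W₁, U, W₂') type-P data for S. Then W₂' = W₂ (that is, C_{S'}(W₁) = W₂). -/
theorem result {G : Type*} [Group G] [Finite G] (W₁ W₂ S U W₂' : Subgroup G) (hW : Cfsg.IsSelfNormalizingCyclic W₁ W₂)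
    (hSW : Cfsg.IsComplIn ⁅S, S⁆ W₁ S) (hW₂S : W₂ ≤ S) (hP : Cfsg.IsTypePWith S W₁ U W₂') :
    W₂' = W₂ := by
  obtain ⟨hW1, hW2, hdisj, hcomm, hcyc, hN⟩ := hW
  obtain ⟨hW1', hW2', hdisj', hcomm', hcyc', hN'⟩ := hP.selfNormalizing
  obtain ⟨x, hx, hx1⟩ : ∃ x ∈ W₁, x ≠ 1 := by
    by_contra! h; exact hW1 ((Subgroup.eq_bot_iff_forall W₁).mpr h)
  have hW2'S : W₂' ≤ ⁅S, S⁆ := by
    intro w hw
    rw [← hP.W₂_centralizer x hx hx1] at hw
    exact hw.1
  have hcop : (Nat.card W₁).Coprime (Nat.card W₂') :=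
    (CfsgLib.OddLocal.TypeP.coprime_W₁_derived hP).coprime_dvd_right (Subgroup.card_dvd_of_le hW2'S)
  have habW1 : ∀ a ∈ W₁, ∀ b ∈ W₁, a * b = b * a := by
    intro a ha b hb
    have := hP.W₁_cyclic
    exact congrArg Subtype.val (IsCyclic.commGroup.mul_comm (⟨a, ha⟩ : W₁) ⟨b, hb⟩)
  have hdec : ∀ w ∈ W₂, ∃ a ∈ W₂', ∃ b ∈ W₁, w = a * b := by
    intro w hw
    obtain ⟨a, ha, b, hb, rfl⟩ := hSW.2.2.2 w (hW₂S hw)
    refine ⟨a, ?_, b, hb, rfl⟩
    rw [← hP.W₂_centralizer x hx hx1]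
    refine ⟨ha, Subgroup.mem_centralizer_singleton_iff.mpr ?_⟩
    have h1 : x * (a * b) = a * b * x := hcomm x hx _ hw
    have h2 : b * x = x * b := habW1 b hb x hx
    have h3 : (a * x) * b = (x * a) * b := by
      rw [mul_assoc, ← h2, ← mul_assoc, ← h1, mul_assoc]
    exact (mul_right_cancel h3)
  obtain ⟨y, hy, hy1⟩ : ∃ y ∈ W₂, y ≠ 1 := by
    by_contra! h; exact hW2 ((Subgroup.eq_bot_iff_forall W₂).mpr h)
  have hxy : x * y ∈ (↑(W₁ ⊔ W₂) : Set G) \ (↑W₁ ∪ ↑W₂) := by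
    refine ⟨mul_mem (Subgroup.mem_sup_left hx) (Subgroup.mem_sup_right hy), ?_⟩
    rintro (h | h)
    · have : y ∈ W₁ ⊓ W₂ := ⟨by simpa using mul_mem (inv_mem hx) h, hy⟩
      rw [hdisj] at this; exact hy1 this
    · have : x ∈ W₁ ⊓ W₂ := ⟨hx, by simpa using mul_mem h (inv_mem hy)⟩
      rw [hdisj] at this; exact hx1 this
  have hNxy := hN {x * y} (by simpa using hxy) (Set.singleton_nonempty _)
  have hle1 : W₂' ≤ W₂ := by
    intro w hw
    have hmem : w ∈ W₁ ⊔ W₂ := by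
      rw [← hNxy]
      apply Subgroup.centralizer_le_normalizer
      rw [Subgroup.mem_centralizer_singleton_iff]
      obtain ⟨a, ha, b, hb, rfl⟩ := hdec y hy
      have hwa : w * a = a * w := by
        have hab : ∀ u ∈ W₁ ⊔ W₂', ∀ v ∈ W₁ ⊔ W₂', u * v = v * u := fun u hu v hv => by
          have := hcyc'
          exact congrArg Subtype.val (IsCyclic.commGroup.mul_comm (⟨u, hu⟩ : ↥(W₁ ⊔ W₂')) ⟨v, hv⟩)
        exact hab w (Subgroup.mem_sup_right hw) a (Subgroup.mem_sup_right ha)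
      have hwx : Commute w x := (hcomm' x hx w hw).symm
      have hwb : Commute w b := (hcomm' b hb w hw).symm
      exact (hwx.mul_right ((show Commute w a from hwa).mul_right hwb)).eq
    have hCW : W₂ ≤ Subgroup.centralizer (W₁ : Set G) := fun b hb =>
      Subgroup.mem_centralizer_iff.mpr fun a ha => hcomm a ha b hb
    obtain ⟨a, ha, b, hb, rfl⟩ :=
      (CfsgLib.OddLocal.mem_sup_of_le_normalizer
        (hCW.trans (Subgroup.centralizer_le_normalizer _))).mp hmem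
    have hc : Commute a b := hcomm a ha b hb
    have hn := CfsgLib.OddLocal.pow_card_eq_one_of_mem hw
    rw [hc.mul_pow] at hn
    have ha1 : a ^ Nat.card W₂' = 1 := by
      have : a ^ Nat.card W₂' ∈ W₁ ⊓ W₂ :=
        Subgroup.mem_inf.mpr ⟨pow_mem ha _, by rw [eq_inv_of_mul_eq_one_left hn]; exact inv_mem (pow_mem hb _)⟩
      rwa [hdisj, Subgroup.mem_bot] at this
    have := CfsgLib.OddLocal.eq_one_of_pow_eq_one_coprime (CfsgLib.OddLocal.pow_card_eq_one_of_mem ha)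
      ha1 hcop
    simpa [this] using hb
  refine le_antisymm hle1 fun w hw => ?_
  obtain ⟨a, ha, b, hb, rfl⟩ := hdec w hw
  have : b ∈ W₁ ⊓ W₂ := ⟨hb, by simpa using mul_mem (inv_mem (hle1 ha)) hw⟩
  rw [hdisj, Subgroup.mem_bot] at this
  simpa [this] using ha

end Cfsg.Agent.S1386
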