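import Cfsg.Statements.S1397
import Cfsg.Agent.Lib.TwoGroups.LargeFitting

set_option autoImplicit false
open Cfsg

namespace Cfsg.Agent.S1397

/-- Let G be a minimal simple group of odd order, M a maximal subgroup, p a prime and A₀ an elementary abelian p-subgroup of F(M) of order at least p ^ 3 that is maximal among elementary abelian p-subgroups of F(M). (a) If F(M) is not a p-group, then F(M) ∩ C_G(A₀) lies in exactly one maximal subgroup of G. (b) If F(M) is a p-group and P is a Sylow p-subgroup of M, then p does not divide the index of P in G, and every normal self-centralizing subgroup A of P containing an elementary abelian subgroup of order p ^ 3 is contained in F(M) and lies in exactly one maximal subgroup of G. -/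
theorem result {G : Type*} [Group G] [Finite G] (hG : Cfsg.IsMinSimpleOddOrder G)
    (M : Subgroup G) (hM : IsCoatom M) (p : ℕ) [Fact p.Prime] (A₀ : Subgroup G)
    (hA₀ : A₀ ≤ Cfsg.fittingOf M) (hA₀e : Cfsg.IsElementaryAbelian p A₀) (hA₀3 : p ^ 3 ≤ Nat.card A₀)
    (hA₀max : ∀ B : Subgroup G, B ≤ Cfsg.fittingOf M → Cfsg.IsElementaryAbelian p B → A₀ ≤ B → B = A₀) :
    (¬ IsPGroup p ↥(Cfsg.fittingOf M) → Cfsg.InUniqueMaximal (Cfsg.fittingOf M ⊓ Subgroup.centralizer (A₀ : Set G))) ∧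
      (IsPGroup p ↥(Cfsg.fittingOf M) → ∀ P : Sylow p M,
        ¬ p ∣ ((P : Subgroup M).map M.subtype).index ∧
        ∀ A : Subgroup G, Cfsg.IsSCN ((P : Subgroup M).map M.subtype) A → ¬ Cfsg.PRankLE p 2 ↥A →
          A ≤ Cfsg.fittingOf M ∧ Cfsg.InUniqueMaximal A) := by
  refine ⟨fun hnp => CfsgLib.TwoGroups.LargeFitting.inUniqueMaximal_inf_centralizer hG hM hA₀ hA₀e
    hA₀3 hnp, fun hFp P => ?_⟩
  have hPp : IsPGroup p ↥((P : Subgroup M).map M.subtype) := P.2.map _
  have hPmax : ∀ R : Subgroup G, IsPGroup p R → R ≤ M → (P : Subgroup M).map M.subtype ≤ R →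
      R = (P : Subgroup M).map M.subtype := by
    intro R hR hRM hle
    have h := P.3 (Q := R.subgroupOf M) hR.comap_subtype (fun x hx => hle ⟨x, hx, rfl⟩)
    rw [← h, Subgroup.map_subgroupOf_eq_of_le hRM]
  refine ⟨?_, fun A hA hA3 => CfsgLib.TwoGroups.LargeFitting.pGroup_case hG hM hFp hPp
    (Subgroup.map_subtype_le _) hPmax hA hA3⟩
  obtain ⟨B, hBA, hBe, hB3⟩ : ∃ B : Subgroup G, B ≤ A₀ ∧ Cfsg.IsElementaryAbelian p B ∧
      p ^ 3 ≤ Nat.card B := ⟨A₀, le_rfl, hA₀e, hA₀3⟩
  have hpG := CfsgLib.TwoGroups.Uniqueness.prime_dvd_of_elementary hBe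
    ((Nat.le_self_pow (by omega) p).trans hB3)
  have hp2 := CfsgLib.TwoGroups.Uniqueness.odd_prime hG hpG
  have hpM : p ∣ Nat.card M := by
    obtain ⟨k, hk⟩ := IsPGroup.iff_card.mp (CfsgLib.Signalizer.elementary_isPGroup hBe)
    have hk0 : k ≠ 0 := by
      rintro rfl
      rw [pow_zero] at hk
      have := (Nat.one_lt_pow (by omega : 3 ≠ 0) (Fact.out : p.Prime).one_lt).trans_le hB3
      omega
    exact (hk ▸ dvd_pow_self p hk0 : p ∣ Nat.card B).trans
      (Subgroup.card_dvd_of_le ((hBA.trans hA₀).trans (CfsgLib.TwoGroups.Bender.fittingOf_le M)))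
  obtain ⟨-, hG'⟩ := CfsgLib.TwoGroups.LargeFitting.sylow_facts hG hM hp2 hFp hPp
    (Subgroup.map_subtype_le _) (fun hb => P.ne_bot_of_dvd_card hpM
      ((Subgroup.map_eq_bot_iff_of_injective _ M.subtype_injective).mp hb)) hPmax
  obtain ⟨S, hS⟩ := CfsgLib.TwoGroups.Uniqueness.exists_sylow_eq hPp hG'
  rw [← hS]
  exact S.not_dvd_index

end Cfsg.Agent.S1397
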