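import Cfsg.Statements.S1398
import Cfsg.Agent.Lib.TwoGroups.Uniqueness

set_option autoImplicit false
open Cfsg

namespace Cfsg.Agent.S1398

/-- Let G be a minimal simple group of odd order, M a maximal subgroup, p a prime, and B a noncyclic elementary abelian p-subgroup of M. If C_G(b) ≤ M for every non-identity b ∈ B, or if every subgroup of G of order coprime to p normalized by B is contained in M, then M is the only maximal subgroup of G containing B. -/
theorem result {G : Type*} [Group G] [Finite G] (hG : Cfsg.IsMinSimpleOddOrder G)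
    (M : Subgroup G) (hM : IsCoatom M) (p : ℕ) [Fact p.Prime] (B : Subgroup G) (hBM : B ≤ M)
    (hBe : Cfsg.IsElementaryAbelian p B) (hBnc : ¬ IsCyclic B)
    (h : (∀ b ∈ B, b ≠ 1 → Subgroup.centralizer ({b} : Set G) ≤ M) ∨
      ∀ Y ∈ Cfsg.invSubgroups ⊤ B (Cfsg.primesNotDvd p), Y ≤ M) :
    Cfsg.InUniqueMaximal B := by
  have hinv : ∀ Y : Subgroup G, ¬ p ∣ Nat.card Y → B ≤ Subgroup.normalizer (Y : Set G) → Y ≤ M := by
    intro Y hY hBY
    rcases h with h | h
    · refine CfsgLib.Signalizer.le_of_hyperplanes_le hBe hY hBY fun C hC hCi => ?_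
      have hC0 : C ≠ ⊥ := by
        rintro rfl
        rw [Subgroup.relIndex_bot_left] at hCi
        obtain ⟨k, hk⟩ := IsPGroup.iff_card.mp (CfsgLib.Signalizer.elementary_isPGroup hBe)
        have hp : p.Prime := Fact.out
        rw [hk] at hCi
        have hk1 : k ≤ 1 := by
          by_contra hk1
          have : p ^ 2 ≤ p ^ k := Nat.pow_le_pow_right hp.pos (by omega)
          have : p < p ^ 2 := by rw [sq]; exact lt_mul_of_one_lt_left hp.pos hp.one_lt
          omega
        rcases (by omega : k = 0 ∨ k = 1) with rfl | rfl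
        · exact hBnc ((Subgroup.eq_bot_of_card_eq B (by simpa using hk)) ▸ inferInstance)
        · exact hBnc (isCyclic_of_prime_card (p := p) (by simpa using hk))
      obtain ⟨⟨b, hb⟩, hb0⟩ := C.ne_bot_iff_exists_ne_one.mp hC0
      exact inf_le_right.trans ((Subgroup.centralizer_le (Set.singleton_subset_iff.mpr hb)).trans
        (h b (hC hb) fun e => hb0 (Subtype.ext e)))
    · exact h Y ⟨le_top, fun r hr hd => ⟨hr, fun hrp =>
        hY ((Nat.prime_dvd_prime_iff_eq hr Fact.out).mp hrp ▸ hd)⟩, hBY⟩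
  refine ⟨M, ⟨hM, hBM⟩, ?_⟩
  rintro L ⟨hL, hBL⟩
  have hLM := CfsgLib.TwoGroups.Uniqueness.le_of_invariant hG hM hBM hBe hBnc hinv L hL.1 hBL
  rcases hLM.lt_or_eq with h' | h'
  · exact absurd (hL.2 _ h') hM.1
  · exact h'

end Cfsg.Agent.S1398
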