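import Cfsg.Statements.S1399
import Cfsg.Agent.Lib.TwoGroups.UniquenessChain

set_option autoImplicit false
open Cfsg

namespace Cfsg.Agent.S1399

/-- Let G be a minimal simple group of odd order, L a subgroup contained in exactly one maximal subgroup of G, and K a subgroup of C_G(L) having, for some prime p, an elementary abelian subgroup of order p ^ 2. Then K is contained in exactly one maximal subgroup of G. -/
theorem result {G : Type*} [Group G] [Finite G] (hG : Cfsg.IsMinSimpleOddOrder G)
    (L K : Subgroup G) (hL : Cfsg.InUniqueMaximal L) (hK : K ≤ Subgroup.centralizer (L : Set G)) (hKr : ¬ Cfsg.RankLE 1 K) :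
    Cfsg.InUniqueMaximal K := by
  obtain ⟨r, hr⟩ := not_forall.mp hKr
  obtain ⟨hrp, hr⟩ := Classical.not_imp.mp hr
  have := Fact.mk hrp
  obtain ⟨E, hEK, hE, hE2⟩ := CfsgLib.TwoGroups.Uniqueness.exists_elementary_of_not_rank hr
  refine CfsgLib.TwoGroups.Uniqueness.inUniqueMaximal_mono
    (CfsgLib.TwoGroups.Uniqueness.inUniqueMaximal_of_centralizing hG hL hE hE2 (hEK.trans hK)) ?_ hEK
  exact fun h => CfsgLib.TwoGroups.Uniqueness.centralizer_ne_top hG
    (CfsgLib.TwoGroups.Uniqueness.ne_bot_of_inUniqueMaximal hG hL) (top_le_iff.mp (h.ge.trans hK))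

end Cfsg.Agent.S1399
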