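import Cfsg.Statements.S1400
import Cfsg.Agent.Lib.TwoGroups.UniquenessChain

set_option autoImplicit false
open Cfsg

namespace Cfsg.Agent.S1400

/-- Let G be a minimal simple group of odd order, p a prime, A an abelian p-subgroup containing an elementary abelian subgroup of order p ^ 3 and lying in exactly one maximal subgroup, and B a noncyclic p-subgroup whose centralizer contains an elementary abelian subgroup of order p ^ 3. Then B lies in exactly one maximal subgroup of G. -/
theorem result {G : Type*} [Group G] [Finite G] (hG : Cfsg.IsMinSimpleOddOrder G)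
    (p : ℕ) [Fact p.Prime] (A B : Subgroup G) (hAp : IsPGroup p A) (hAc : IsMulCommutative A) (hA3 : ¬ Cfsg.PRankLE p 2 ↥A)
    (hAU : Cfsg.InUniqueMaximal A) (hBp : IsPGroup p B) (hBnc : ¬ IsCyclic B) (hB3 : ¬ Cfsg.PRankLE p 2 ↥(Subgroup.centralizer (B : Set G))) :
    Cfsg.InUniqueMaximal B := by
  obtain ⟨A₁, hA₁A, hA₁, hA₁3⟩ := CfsgLib.TwoGroups.Uniqueness.exists_elementary_of_not_rank hA3
  obtain ⟨F, hFC, hF, hF3⟩ := CfsgLib.TwoGroups.Uniqueness.exists_elementary_of_not_rank hB3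
  have hp : p.Prime := Fact.out
  have hA₁C : A₁ ≤ Subgroup.centralizer (A : Set G) :=
    hA₁A.trans (Subgroup.le_centralizer_iff_isMulCommutative.mpr hAc)
  have hu₁ := CfsgLib.TwoGroups.Uniqueness.inUniqueMaximal_of_centralizing hG hAU hA₁
    ((Nat.pow_le_pow_right hp.pos (by omega)).trans hA₁3) hA₁C
  have hu₂ := CfsgLib.TwoGroups.Uniqueness.inUniqueMaximal_of_rank_three hG hu₁ hA₁ hA₁3 hF hF3
  have hp2 : p ≠ 2 := CfsgLib.TwoGroups.Uniqueness.odd_prime hG
    (CfsgLib.TwoGroups.Uniqueness.prime_dvd_of_elementary hF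
      ((Nat.le_self_pow (by omega) p).trans hF3))
  obtain ⟨E₀, -, hE₀, hE₀2⟩ := CfsgLib.Transfer.exists_normal_elementary_card_sq hp2 hBp hBnc
  have := hE₀.1
  refine CfsgLib.TwoGroups.Uniqueness.inUniqueMaximal_mono
    (CfsgLib.TwoGroups.Uniqueness.inUniqueMaximal_of_centralizing hG hu₂ (p := p)
      (E := E₀.map B.subtype) ⟨inferInstance, ?_⟩ ?_
      ((Subgroup.map_subtype_le _).trans (Subgroup.le_centralizer_iff.mp hFC)))
    (CfsgLib.TwoGroups.Uniqueness.ne_top_of_pGroup hG hBp) (Subgroup.map_subtype_le _)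
  · rintro _ ⟨a, ha, rfl⟩
    rw [← map_pow, hE₀.2 a ha, map_one]
  · rw [Subgroup.card_map_of_injective (Subgroup.subtype_injective _), hE₀2]

end Cfsg.Agent.S1400
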