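import Cfsg.Statements.S1434
import Cfsg.Agent.Lib.OddLocal.KappaPartner
-- import your own Cfsg.Agent.* helpers here

set_option autoImplicit false
open Cfsg

namespace Cfsg.Agent.S1434

/-- Let G be a minimal simple group of odd order, M a maximal subgroup with standard factorisation M = K U M_σ, K ≠ 1, K* = M_σ ∩ C_G(K), and M* a maximal subgroup with K = M*_σ ∩ C_G(K*) and K* a Hall κ(M*)-subgroup of M*. Then κ(M) = τ₁(M); K* is a Hall σ(M)-subgroup of M*; for non-identity x ∈ K and y ∈ K*, C_M(x), C_{M*}(y) and C_G(xy) all equal K K*; the set Ẑ of elements of K K* outside K ∪ K* meets no gMg⁻¹ with g ∉ M; and with k = #K, k* = #K*, the union of the conjugates of Ẑ has k·k*·(number of elements) = (k k* − k − k* + 1)·#G and more than #G / 2 elements. -/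
theorem result {G : Type*} [Group G] [Finite G] (hG : Cfsg.IsMinSimpleOddOrder G)
    (M : Subgroup G) (hM : IsCoatom M) (K U : Subgroup G) (hKU : Cfsg.IsSigmaDecomposition M K U) (hK1 : K ≠ ⊥) (Mstar : Subgroup G) (hMstar : IsCoatom Mstar)
    (hKst : K = Cfsg.sigmaCore Mstar ⊓ Subgroup.centralizer ((Cfsg.sigmaCore M ⊓ Subgroup.centralizer (K : Set G)) : Set G))
    (hKstH : Cfsg.IsPiHallOf (Cfsg.kappa Mstar) (Cfsg.sigmaCore M ⊓ Subgroup.centralizer (K : Set G)) Mstar) :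
    Cfsg.kappa M = Cfsg.tau1 M ∧ Cfsg.IsPiHallOf (Cfsg.sigma M) (Cfsg.sigmaCore M ⊓ Subgroup.centralizer (K : Set G)) Mstar ∧
      (∀ x ∈ K, x ≠ 1 → ∀ y ∈ (Cfsg.sigmaCore M ⊓ Subgroup.centralizer (K : Set G)), y ≠ 1 →
        M ⊓ Subgroup.centralizer ({x} : Set G) = K ⊔ (Cfsg.sigmaCore M ⊓ Subgroup.centralizer (K : Set G)) ∧ Mstar ⊓ Subgroup.centralizer ({y} : Set G) = K ⊔ (Cfsg.sigmaCore M ⊓ Subgroup.centralizer (K : Set G)) ∧
        Subgroup.centralizer ({x * y} : Set G) = K ⊔ (Cfsg.sigmaCore M ⊓ Subgroup.centralizer (K : Set G))) ∧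
      (∀ g : G, g ∉ M → ∀ z ∈ ((↑(K ⊔ (Cfsg.sigmaCore M ⊓ Subgroup.centralizer (K : Set G))) : Set G) \ ((K : Set G) ∪ ↑(Cfsg.sigmaCore M ⊓ Subgroup.centralizer (K : Set G)))), z ∉ M.map (MulAut.conj g).toMonoidHom) ∧
      Nat.card K * Nat.card ↥(Cfsg.sigmaCore M ⊓ Subgroup.centralizer (K : Set G)) * Set.ncard {a : G | ∃ g : G, ∃ z ∈ ((↑(K ⊔ (Cfsg.sigmaCore M ⊓ Subgroup.centralizer (K : Set G))) : Set G) \ ((K : Set G) ∪ ↑(Cfsg.sigmaCore M ⊓ Subgroup.centralizer (K : Set G)))), a = g * z * g⁻¹} =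
        (Nat.card K * Nat.card ↥(Cfsg.sigmaCore M ⊓ Subgroup.centralizer (K : Set G)) - Nat.card K - Nat.card ↥(Cfsg.sigmaCore M ⊓ Subgroup.centralizer (K : Set G)) + 1) * Nat.card G ∧
      Nat.card G < 2 * Set.ncard {a : G | ∃ g : G, ∃ z ∈ ((↑(K ⊔ (Cfsg.sigmaCore M ⊓ Subgroup.centralizer (K : Set G))) : Set G) \ ((K : Set G) ∪ ↑(Cfsg.sigmaCore M ⊓ Subgroup.centralizer (K : Set G)))), a = g * z * g⁻¹} := by
  obtain ⟨E, d⟩ := CfsgLib.OddLocal.Kappa.exists_data hG hM hKU.hall hK1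
  obtain ⟨F, dH⟩ := CfsgLib.OddLocal.Kappa.exists_data hG hMstar hKstH d.star_ne_bot
  have p := d.pair_unique hG dH hKst.symm
  refine ⟨d.kappa_eq hG, p.hall_sigma d hG, fun x hx hx1 y hy hy1 => ⟨?_, ?_, ?_⟩, fun g hg z hz hzg => ?_, ?_, ?_⟩
  · exact CfsgLib.OddLocal.Kappa.centralizer_eq hG hM p.cyclic hKU.hall hx hx1
  · refine (CfsgLib.OddLocal.Kappa.centralizer_eq hG hMstar p.cyclic_star hKstH hy hy1).trans ?_
    rw [show Cfsg.sigmaCore Mstar ⊓ Subgroup.centralizer ((Cfsg.sigmaCore M ⊓ Subgroup.centralizer (K : Set G) :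
      Subgroup G) : Set G) = K from p.star_star, sup_comm]
  · exact p.centralizer_zhat d hG (p.mul_mem_zhat d hG hx hx1 hy hy1)
  · rw [← p.zhat_eq d hG] at hz
    obtain ⟨a, -, b, hb, -, hb1, -, -, -, hbz⟩ := p.zhat_parts d hG hz
    obtain ⟨n, hn⟩ := Subgroup.mem_zpowers_iff.mp hbz
    obtain ⟨t, Y, ht, hY, hYb⟩ := CfsgLib.OddLocal.FixedTauOne.exists_prime_sub
      (fun e => hb1 (Subgroup.zpowers_eq_bot.mp e) : Subgroup.zpowers b ≠ ⊥)
    have := Fact.mk ht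
    have hYs := hYb.trans (Subgroup.zpowers_le.mpr hb)
    exact hg (CfsgLib.OddLocal.SigmaIntersection.mem_of_only hG hM
      (d.sigma_star hG ht (hY ▸ Subgroup.card_dvd_of_le hYs))
      (CfsgLib.OddLocal.FixedTauOne.isPGroup_of_card_eq hY) (CfsgLib.OddLocal.FixedTauOne.ne_bot_of_card_eq hY)
      (hYs.trans (CfsgLib.OddLocal.Kappa.Data.star_le_M M K)) (d.only_fixed hG hY hYs).1
      (hYb.trans (Subgroup.zpowers_le.mpr (hn ▸ zpow_mem hzg n))))
  · rw [← p.zhat_eq d hG]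
    have h := p.ncard_zhat d hG
    show _ * (CfsgLib.OddLocal.Kappa.ZhatClosure (CfsgLib.OddLocal.Kappa.ZK M K)).ncard = _
    rw [CfsgLib.OddLocal.Kappa.ncard_ZhatClosure d.member hG, ← (CfsgLib.OddLocal.Kappa.ZK M K).index_mul_card,
      d.card_Z hG]
    have e : Nat.card K * Nat.card ↥(CfsgLib.OddLocal.Kappa.Kstar M K) - Nat.card K -
        Nat.card ↥(CfsgLib.OddLocal.Kappa.Kstar M K) + 1 =
        (CfsgLib.OddLocal.Kappa.Zhat (CfsgLib.OddLocal.Kappa.ZK M K)).ncard := by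
      have h1 : 0 < (CfsgLib.OddLocal.Kappa.Zhat (CfsgLib.OddLocal.Kappa.ZK M K)).ncard := by
        obtain ⟨a, ha, ha1⟩ := K.bot_or_exists_ne_one.resolve_left hK1
        obtain ⟨b, hb, hb1⟩ := (CfsgLib.OddLocal.Kappa.Kstar M K).bot_or_exists_ne_one.resolve_left d.star_ne_bot
        exact (Set.ncard_pos (Set.toFinite _)).mpr ⟨_, p.mul_mem_zhat d hG ha ha1 hb hb1⟩
      omega
    rw [e]
    ring
  · rw [← p.zhat_eq d hG]
    exact p.half d hG

end Cfsg.Agent.S1434
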