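import Cfsg.Statements.S1445
import Cfsg.Agent.Lib.OddLocal.PrimeActionFitting

set_option autoImplicit false
open Cfsg

namespace Cfsg.Agent.S1445

open scoped commutatorElement

/-- Let G be a solvable group of odd order, K a normal subgroup and R a subgroup with G = KR and the orders of K and R coprime. Suppose K ∩ C_G(x) = K ∩ C_G(R) for every non-identity x ∈ R, and F(K) ∩ C_G(R) = 1. Then [K, R] is contained in the Fitting subgroup of K. -/
theorem result {G : Type*} [Group G] [Finite G] [Group.IsSolvable G] (hodd : Odd (Nat.card G)) (K R : Subgroup G) [K.Normal] (hKR : K ⊔ R = ⊤) (hcop : (Nat.card K).Coprime (Nat.card R))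
    (hprime : ∀ x ∈ R, x ≠ 1 → K ⊓ Subgroup.centralizer ({x} : Set G) = (K ⊓ Subgroup.centralizer (R : Set G)))
    (hF : Cfsg.fittingOf K ⊓ Subgroup.centralizer (R : Set G) = ⊥) :
    ⁅K, R⁆ ≤ Cfsg.fittingOf K := by
  by_cases hR1 : R = ⊥
  · rw [hR1, Subgroup.commutator_bot_right]; exact bot_le
  obtain ⟨q, hq, hqd⟩ := Nat.exists_prime_and_dvd (n := Nat.card R) fun h => hR1 (Subgroup.card_eq_one.1 h)
  obtain ⟨x, hx⟩ := exists_prime_orderOf_dvd_card' (G := R) (hp := ⟨hq⟩) q hqd
  rw [← Subgroup.orderOf_coe] at hx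
  have hx1 : (x : G) ≠ 1 := fun h => hq.ne_one (by rw [← hx, h, orderOf_one])
  have hzc : K ⊓ Subgroup.centralizer ((Subgroup.zpowers (x : G) : Subgroup G) : Set G) =
      K ⊓ Subgroup.centralizer (R : Set G) := by
    rw [Subgroup.zpowers_eq_closure, Subgroup.centralizer_closure, hprime x x.2 hx1]
  have hFK : Cfsg.fittingOf K ≤ K := Subgroup.map_subtype_le _
  have h0 := CfsgLib.OddLocal.PrimeActionFitting.commutator_le_fitting_of_prime hq inferInstance hodd K
    (Subgroup.zpowers (x : G)) (by rw [Nat.card_zpowers, hx])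
    (hcop.coprime_dvd_right hqd) (by
      refine eq_bot_iff.2 fun y hy => hF.le ⟨hy.1, ?_⟩
      exact (hzc.le ⟨hFK hy.1, hy.2⟩).2)
  have hFn := CfsgLib.OddLocal.PrimeActionFitting.normal_fittingOf K
  have hKs : Group.IsSolvable K := inferInstance
  have hsup := CfsgLib.Core.commutator_sup_centralizer (A := Subgroup.zpowers (x : G)) (K := K)
    (by rw [Subgroup.normalizer_eq_top_iff.2 inferInstance]; exact le_top)
    (by rw [Nat.card_zpowers, hx]; exact (hcop.coprime_dvd_right hqd).symm) (Or.inr hKs)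
  rw [hzc] at hsup
  refine Subgroup.commutator_le.2 fun k hk y hy => ?_
  have hk' : k ∈ Cfsg.fittingOf K ⊔ (K ⊓ Subgroup.centralizer (R : Set G)) :=
    (sup_le_sup_right h0 _) (hsup.ge hk)
  obtain ⟨f, hf, c, hc, rfl⟩ := Subgroup.mem_sup_of_normal_left.1 hk'
  have h1 : y * c = c * y := Subgroup.mem_centralizer_iff.1 hc.2 y hy
  rw [show ⁅f * c, y⁆ = f * (c * y * c⁻¹) * f⁻¹ * y⁻¹ by rw [commutatorElement_def]; group, ← h1,
    mul_inv_cancel_right, show f * y * f⁻¹ * y⁻¹ = f * (y * f⁻¹ * y⁻¹) by group]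
  exact mul_mem hf (hFn.conj_mem _ (inv_mem hf) y)

end Cfsg.Agent.S1445
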