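import Cfsg.Statements.S1449
import Cfsg.Agent.Lib.OddLocal.RankTwoSolvable
-- import your own Cfsg.Agent.* helpers here

set_option autoImplicit false
open Cfsg

namespace Cfsg.Agent.S1449

/-- Let G be a finite group, p an odd prime, R a p-subgroup with no elementary abelian subgroup of order p ^ 3, and A a solvable subgroup of odd order normalizing R with A ∩ C_G(R) = 1. Then the derived subgroup [A, A] is a p-group. -/
theorem result {G : Type*} [Group G] [Finite G] (p : ℕ) [Fact p.Prime] (hp : p ≠ 2) (R A : Subgroup G) (hR : IsPGroup p R) (hr : Cfsg.PRankLE p 2 R)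
    (hA : (A ≤ Subgroup.normalizer (R : Set G))) (hAs : Group.IsSolvable A) (hAodd : Odd (Nat.card A)) (hfaith : A ⊓ Subgroup.centralizer (R : Set G) = ⊥) :
    IsPGroup p ↥⁅A, A⁆ := by
  have hr' : Cfsg.PRankLE p 2 R := hr
  have := hAs
  obtain ⟨h, -⟩ := CfsgLib.OddLocal.RankTwoAut.rankTwo_aut (A := A) hAodd hp hR hr'
    (R.normalizerMonoidHom.comp (Subgroup.inclusion hA)) (fun a ha _ => by
      have hmem : (a : G) ∈ A ⊓ Subgroup.centralizer (R : Set G) := ⟨a.2, Subgroup.mem_centralizer_iff.2
        fun r hr => by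
          have h := congrArg (fun φ : MulAut R => ((φ ⟨r, hr⟩ : R) : G)) ha
          simp only [MulAut.one_apply] at h
          exact (mul_inv_eq_iff_eq_mul.1 h).symm⟩
      rw [hfaith, Subgroup.mem_bot] at hmem
      exact Subtype.ext hmem)
  have h2 : ⁅A, A⁆ = (_root_.commutator A).map A.subtype := by
    rw [_root_.commutator_def, Subgroup.map_commutator, ← MonoidHom.range_eq_map, Subgroup.range_subtype]
  rw [h2]
  exact h.map _

end Cfsg.Agent.S1449
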