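import Cfsg.Statements.S1454
import Cfsg.Agent.Lib.OddLocal.NarrowCases

set_option autoImplicit false
open Cfsg

namespace Cfsg.Agent.S1454

open scoped commutatorElement

/-- Let G be a finite group, p an odd prime, R a narrow p-subgroup and A a solvable subgroup of odd order normalizing R with A ∩ C_G(R) = 1. Then [A, A] ≤ O_p(A) and the index of O_p(A) in A is coprime to p; if R has an elementary abelian subgroup of order p ^ 3 then the order of every element of A of order coprime to p divides p − 1; and if the order of A is a prime not dividing p(p − 1), then 2·#A divides p + 1, and if in addition [R, A] = R and R is non-abelian then #R = p ^ 3. -/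
theorem result {G : Type*} [Group G] [Finite G] (p : ℕ) [Fact p.Prime] (hp : p ≠ 2) (R A : Subgroup G) (hR : IsPGroup p R) (hRn : Cfsg.IsNarrow p R)
    (hA : (A ≤ Subgroup.normalizer (R : Set G))) (hAs : Group.IsSolvable A) (hAodd : Odd (Nat.card A)) (hfaith : A ⊓ Subgroup.centralizer (R : Set G) = ⊥) :
    (commutator ↥A ≤ Cfsg.pCore p ↥A ∧ ((Cfsg.pCore p ↥A).index).Coprime p) ∧
      (¬ Cfsg.PRankLE p 2 R → ∀ a ∈ A, (orderOf a).Coprime p → orderOf a ∣ p - 1) ∧
      ((Nat.card A).Prime → ¬ Nat.card A ∣ p * (p - 1) →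
        2 * Nat.card A ∣ p + 1 ∧ (⁅R, A⁆ = R → ¬ IsMulCommutative R → Nat.card R = p ^ 3)) := by
  have := hAs
  let ψ : A →* MulAut R := R.normalizerMonoidHom.comp (Subgroup.inclusion hA)
  have hψ : ∀ a, ψ a = 1 → a = 1 := fun a ha => by
    have hmem : (a : G) ∈ Subgroup.centralizer (R : Set G) := Subgroup.mem_centralizer_iff.2 fun r hr => by
      have h : (a : G) * r * (a : G)⁻¹ = r :=
        congrArg (fun φ : MulAut R => ((φ ⟨r, hr⟩ : R) : G)) ha
      exact (mul_inv_eq_iff_eq_mul.1 h).symm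
    have h2 : (a : G) ∈ (⊥ : Subgroup G) := hfaith ▸ ⟨a.2, hmem⟩
    exact Subtype.ext (Subgroup.mem_bot.1 h2)
  obtain ⟨B, hB, hBr⟩ := CfsgLib.OddLocal.NarrowCases.exists_of_isNarrow hRn
  refine ⟨CfsgLib.OddLocal.NarrowCases.pCore_of_derived
    (CfsgLib.OddLocal.NarrowAut.derived_isPGroup hAodd hp hR hB hBr ψ fun a ha _ => hψ a ha), ?_, ?_⟩
  · intro hr a ha hco
    rw [← Subgroup.orderOf_mk a ha] at hco ⊢
    exact CfsgLib.OddLocal.NarrowCases.orderOf_dvd hp hR hr hB hBr ψ (fun a ha _ => hψ a ha) _ hco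
  intro hq hqd
  set q := Nat.card A with hqdef
  obtain ⟨a, ha⟩ := exists_prime_orderOf_dvd_card' (G := A) (hp := ⟨hq⟩) q dvd_rfl
  have hinj : Function.Injective ψ := (injective_iff_map_eq_one _).2 hψ
  have hord : orderOf (ψ a) = q := by rw [orderOf_injective ψ hinj, ha]
  have hq2 : q ≠ 2 := fun h => by rw [h] at hAodd; exact absurd hAodd (by decide)
  have hr : Cfsg.PRankLE p 2 R := by
    by_contra hr
    refine hqd (dvd_mul_of_dvd_right ?_ _)
    have hco : (orderOf a).Coprime p := by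
      rw [ha]; exact hq.coprime_iff_not_dvd.2 fun h => hqd (dvd_mul_of_dvd_left h _)
    exact ha ▸ CfsgLib.OddLocal.NarrowCases.orderOf_dvd hp hR hr hB hBr ψ (fun a ha _ => hψ a ha) a hco
  have h2q := CfsgLib.OddLocal.NarrowCases.two_mul_dvd hp hR hr hq hq2 hqd (ψ a) hord
  refine ⟨h2q, fun hcomm hnc => ?_⟩
  have hp3 : 3 < p := by
    have h1 := Nat.le_of_dvd (Nat.succ_pos p) h2q
    have h2 := hq.two_le
    rcases Nat.lt_or_ge q 3 with h | h
    · omega
    · omega
  refine CfsgLib.OddLocal.PrimeActionRankTwo.card_eq_cube hp3 hR hr hq hqd (ψ a)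
    (hord ▸ pow_orderOf_eq_one _) ?_ hnc
  intro N hNn hNa hNd
  let a' : R →* R ⧸ N := (QuotientGroup.mk' N).comp (ψ a).toMonoidHom
  have hgen : ∀ b : A, b ∈ Subgroup.zpowers a := fun b => by
    have : Subgroup.zpowers a = ⊤ := Subgroup.eq_top_of_card_eq _ (by rw [Nat.card_zpowers, ha])
    rw [this]; exact Subgroup.mem_top b
  have hfix : ∀ (b : A) (r : R), r⁻¹ * ψ b r ∈ N := by
    intro b r
    obtain ⟨k, rfl⟩ := mem_powers_iff_mem_zpowers.2 (hgen b)
    induction k generalizing r with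
    | zero => simp
    | succ k ih =>
      show r⁻¹ * ψ (a ^ (k + 1)) r ∈ N
      rw [pow_succ, map_mul, MulAut.mul_apply,
        show r⁻¹ * ψ (a ^ k) (ψ a r) = r⁻¹ * ψ a r * ((ψ a r)⁻¹ * ψ (a ^ k) (ψ a r)) by group]
      exact mul_mem (hNd r) (ih _)
  have hle : ⁅R, A⁆ ≤ N.map R.subtype := Subgroup.commutator_le.2 fun r hr b hb => by
    refine ⟨⟨r, hr⟩ * ψ ⟨b, hb⟩ (⟨r, hr⟩ : R)⁻¹, ?_, ?_⟩
    · simpa using hfix ⟨b, hb⟩ (⟨r, hr⟩ : R)⁻¹
    · show r * (b * r⁻¹ * b⁻¹) = ⁅r, b⁆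
      simp only [commutatorElement_def, mul_assoc]
  refine eq_top_iff.2 fun r _ => ?_
  obtain ⟨x, hx, hxr⟩ := hle (hcomm.ge r.2)
  rwa [← (Subtype.ext hxr : x = r)]

end Cfsg.Agent.S1454
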