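import Cfsg.Statements.S1457
import Cfsg.Agent.Lib.OddLocal.OddStable
-- import your own Cfsg.Agent.* helpers here

set_option autoImplicit false
open Cfsg

namespace Cfsg.Agent.S1457

/-- Let G be a solvable group of odd order, p a prime, S a Sylow p-subgroup of G and A an abelian subgroup of S normal in S. Then A ≤ O_{p',p}(G). -/
theorem result {G : Type*} [Group G] [Finite G] [Group.IsSolvable G] (hodd : Odd (Nat.card G)) (p : ℕ) [Fact p.Prime] (S : Sylow p G) (A : Subgroup G) (hA : A ≤ (S : Subgroup G)) (hAc : IsMulCommutative A)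
    (hAn : (S : Subgroup G) ≤ Subgroup.normalizer (A : Set G)) :
    A ≤ Cfsg.pPrimePCore p G := by
  by_cases hp : p = 2
  · subst hp
    have hS : (S : Subgroup G) = ⊥ := by
      rw [← Subgroup.card_eq_one]
      rcases S.isPGroup'.card_eq_or_dvd with h | h
      · exact h
      · obtain ⟨t, ht⟩ := hodd
        have := h.trans (S : Subgroup G).card_subgroup_dvd_card
        omega
    exact le_trans (hA.trans hS.le) bot_le
  set N := Cfsg.pPrimeCore p G with hN
  set π := QuotientGroup.mk' N with hπ
  have hsurj : Function.Surjective π := QuotientGroup.mk'_surjective N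
  have hodd' : Odd (Nat.card (G ⧸ N)) := hodd.of_dvd_nat (Subgroup.card_dvd_of_surjective π hsurj)
  have h0 : Cfsg.pPrimeCore p (G ⧸ N) = ⊥ := CfsgLib.Core.pPrimeCore_quotient_pPrimeCore p G
  have hAc' : IsMulCommutative (A.map π) := Subgroup.map_isMulCommutative A π
  have hn : Cfsg.pCore p (G ⧸ N) ≤ Subgroup.normalizer ((A.map π : Subgroup (G ⧸ N)) : Set (G ⧸ N)) :=
    (CfsgLib.Core.pCore_le_sylow (S.mapSurjective hsurj)).trans ((Subgroup.map_mono hAn).trans
      (Subgroup.le_normalizer_map π))
  have h := CfsgLib.OddLocal.le_pCore_of_abelian hodd' hp h0 hAc' hn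
  exact fun a ha => h ⟨a, ha, rfl⟩

end Cfsg.Agent.S1457
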