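import Cfsg.Statements.S1458
import Cfsg.Agent.Lib.OddLocal.ThompsonCenter
-- import your own Cfsg.Agent.* helpers here

set_option autoImplicit false
open Cfsg

namespace Cfsg.Agent.S1458

/-- Let G be a solvable group of odd order, p a prime and S a Sylow p-subgroup of G. Then the subgroup generated by the centre of the Thompson subgroup of S and O_{p'}(G) is normal in G. -/
theorem result {G : Type*} [Group G] [Finite G] [Group.IsSolvable G] (hodd : Odd (Nat.card G)) (p : ℕ) [Fact p.Prime] (S : Sylow p G) :
    (Cfsg.centerThompsonOf p (S : Subgroup G) ⊔ Cfsg.pPrimeCore p G).Normal := by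
  by_cases hp : p = 2
  · subst hp
    have hS : (S : Subgroup G) = ⊥ := by
      rw [← Subgroup.card_eq_one]
      rcases S.isPGroup'.card_eq_or_dvd with h | h
      · exact h
      · obtain ⟨t, ht⟩ := hodd
        have := h.trans (S : Subgroup G).card_subgroup_dvd_card
        omega
    have hZ : Cfsg.centerThompsonOf 2 (S : Subgroup G) = ⊥ :=
      le_bot_iff.mp ((CfsgLib.OddLocal.centerThompson_le _).trans hS.le)
    rw [hZ, bot_sup_eq]
    infer_instance
  · exact CfsgLib.OddLocal.centerThompson_sup_normal hodd hp S

end Cfsg.Agent.S1458
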