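import Cfsg.Statements.S1463
import Cfsg.Agent.Lib.OddLocal.GLTwoOdd
import Mathlib.Algebra.CharP.Two
import Mathlib.LinearAlgebra.Matrix.CharP
-- import your own Cfsg.Agent.* helpers here

set_option autoImplicit false
open scoped MatrixGroups
open Cfsg

namespace Cfsg.Agent.S1463

/-- Let F be a field of odd characteristic p and H a finite subgroup of odd order of GL(2, F) that leaves no 1-dimensional subspace of F² invariant. Then p does not divide the order of H. -/
theorem result {F : Type*} [Field F] (p : ℕ) [Fact p.Prime] [CharP F p] (hp : p ≠ 2)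
    (H : Subgroup (GL (Fin 2) F)) [Finite H] (hodd : Odd (Nat.card H))
    (hirr : ∀ v : Fin 2 → F, v ≠ 0 → ∃ g ∈ H, (g : Matrix (Fin 2) (Fin 2) F).mulVec v ∉ Submodule.span F {v}) :
    ¬ p ∣ Nat.card H := by
  classical
  intro hpd

  let H1 : Subgroup (GL (Fin 2) F) := H ⊓ (Matrix.GeneralLinearGroup.det (n := Fin 2) (R := F)).ker
  have hH1fin : Finite H1 := Finite.of_injective (Subgroup.inclusion inf_le_left) (Subgroup.inclusion_injective _)
  have hodd1 : Odd (Nat.card H1) := hodd.of_dvd_nat (Subgroup.card_dvd_of_le inf_le_left)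
  have hchar : CharP (Matrix (Fin 2) (Fin 2) F) p := inferInstance
  have hpodd : Odd p := (Fact.out : p.Prime).odd_of_ne_two hp
  let mv : H1 → Matrix (Fin 2) (Fin 2) F := fun g => ((g : GL (Fin 2) F) : Matrix (Fin 2) (Fin 2) F)
  have mv_mul : ∀ a b : H1, mv (a * b) = mv a * mv b := fun a b => rfl
  have mv_one : mv 1 = 1 := rfl
  have mv_inj : Function.Injective mv := fun a b h => Subtype.ext (Units.ext h)
  have mv_pow : ∀ (a : H1) (n : ℕ), mv (a ^ n) = mv a ^ n := fun a n => by
    induction n with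
    | zero => simpa using mv_one
    | succ n ih => rw [pow_succ, pow_succ, mv_mul, ih]
  have hdet : ∀ g : H1, (mv g).det = 1 := fun g => by
    have := congrArg (fun u : Fˣ => (u : F)) (MonoidHom.mem_ker.mp g.2.2)
    simpa [mv] using this
  have hsq : ∀ g : H1, g * g = 1 → g = 1 := fun g hg =>
    CfsgLib.OddLocal.eq_one_of_pow_eq_one_coprime (n := Nat.card H1) ((pow_two g).trans hg)
      pow_card_eq_one' hodd1.coprime_two_left
  have hns : ∀ g : H1, g ≠ 1 → ∀ a : F, mv g ≠ a • 1 := by
    intro g hg a ha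
    have hd := hdet g
    rw [ha, Matrix.det_smul, Matrix.det_one, mul_one, Fintype.card_fin] at hd
    refine hg (hsq g (mv_inj ?_))
    rw [mv_mul, ha, mv_one, smul_mul_smul_comm, mul_one, ← pow_two, hd, one_smul]
  have hcomm : ∀ g x : H1, x ∈ Subgroup.centralizer ({g} : Set H1) → mv x * mv g = mv g * mv x :=
    fun g x hx => by rw [← mv_mul, ← mv_mul, Subgroup.mem_centralizer_singleton_iff.mp hx]
  have hab : ∀ g : H1, g ≠ 1 → IsMulCommutative (Subgroup.centralizer ({g} : Set H1)) := by
    intro g hg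
    refine ⟨⟨fun x y => Subtype.ext (mv_inj ?_)⟩⟩
    obtain ⟨α, β, hx⟩ := CfsgLib.OddLocal.GLTwoOdd.exists_smul_add (hns g hg) (hcomm g x x.2)
    obtain ⟨γ, δ, hy⟩ := CfsgLib.OddLocal.GLTwoOdd.exists_smul_add (hns g hg) (hcomm g y y.2)
    simp only [Subgroup.coe_mul, mv_mul, hx, hy, mul_add, add_mul, smul_mul_smul_comm, one_mul, mul_one]
    rw [mul_comm α γ, mul_comm α δ, mul_comm β γ, mul_comm β δ]
    abel
  have hnilp : ∀ (M : Matrix (Fin 2) (Fin 2) F) (a : F), (M - a • 1) * (M - a • 1) = 0 →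
      M ^ p = a ^ p • 1 := by
    intro M a h
    have h2 : (M - a • 1) ^ p = 0 := by
      obtain ⟨k, hk⟩ := Nat.exists_eq_add_of_le (Fact.out : p.Prime).two_le
      rw [hk, pow_add, pow_two, h, zero_mul]
    have hc : Commute M (a • (1 : Matrix (Fin 2) (Fin 2) F)) := (Commute.one_right M).smul_right a
    rw [sub_pow_char_of_commute _ hc, sub_eq_zero, smul_pow, one_pow] at h2
    exact h2
  have hroot : ∀ g : H1, ∀ a : F, a * a = 1 → mv g ^ p = a ^ p • 1 → g ^ p = 1 := by
    intro g a ha h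
    refine hsq _ (mv_inj ?_)
    rw [mv_mul, mv_pow, h, mv_one, smul_mul_smul_comm, mul_one, ← mul_pow, ha, one_pow, one_smul]
  have hunip : ∀ g : H1, g ^ p = 1 → (mv g).trace = 2 := by
    intro g hg
    have h : (mv g - 1) ^ p = 0 := by
      rw [sub_pow_char_of_commute _ (Commute.one_right _), one_pow, ← mv_pow, hg, mv_one, sub_self]
    have h2 : (mv g - 1).det = 0 := by
      have := congrArg Matrix.det h
      rw [Matrix.det_pow, Matrix.det_zero] at this
      exact eq_zero_of_pow_eq_zero this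
    rw [CfsgLib.OddLocal.GLTwoOdd.det_sub_one, hdet] at h2
    linear_combination -h2
  have hN2 : ∀ g : H1, g ^ p = 1 → (mv g - 1) * (mv g - 1) = 0 := by
    intro g hg
    rw [sub_mul, mul_sub, CfsgLib.OddLocal.GLTwoOdd.mul_self_eq (hdet g), hunip g hg, two_smul,
      mul_one, one_mul]
    abel
  have hunform : ∀ g : H1, g ≠ 1 → g ^ p = 1 → ∀ x ∈ Subgroup.centralizer ({g} : Set H1),
      ∃ α β : F, mv x = α • 1 + β • mv g ∧ (α + β) * (α + β) = 1 ∧ mv x ^ p = (α + β) ^ p • 1 := by
    intro g hg hgp x hx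
    obtain ⟨α, β, hX⟩ := CfsgLib.OddLocal.GLTwoOdd.exists_smul_add (hns g hg) (hcomm g x hx)
    refine ⟨α, β, hX, ?_, hnilp _ _ ?_⟩
    · have := hdet x
      rw [hX, CfsgLib.OddLocal.GLTwoOdd.det_smul_add (hdet g), hunip g hgp] at this
      linear_combination this
    · rw [hX, show α • 1 + β • mv g - (α + β) • 1 = β • (mv g - 1) by rw [add_smul, smul_sub]; abel,
        smul_mul_smul_comm, hN2 g hgp, smul_zero]
  have hun : ∀ g : H1, g ≠ 1 → g ^ p = 1 → ∀ x ∈ Subgroup.centralizer ({g} : Set H1), x ^ p = 1 := by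
    intro g hg hgp x hx
    obtain ⟨α, β, -, h1, h2⟩ := hunform g hg hgp x hx
    exact hroot x _ h1 h2
  have hss : ∀ g h : H1, g ^ p ≠ 1 → h * g * h⁻¹ ∈ Subgroup.centralizer ({g} : Set H1) →
      h ∈ Subgroup.centralizer ({g} : Set H1) := by
    intro g h hg hc
    have hg1 : g ≠ 1 := fun he => hg (by rw [he, one_pow])
    obtain ⟨α, β, hX⟩ := CfsgLib.OddLocal.GLTwoOdd.exists_smul_add (hns g hg1) (hcomm g _ hc)
    have htr : (mv (h * g * h⁻¹)).trace = (mv g).trace := by
      rw [mv_mul, Matrix.trace_mul_comm, ← mv_mul, ← mul_assoc, inv_mul_cancel, one_mul]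
    rw [hX, CfsgLib.OddLocal.GLTwoOdd.trace_smul_add] at htr
    have hd := hdet (h * g * h⁻¹)
    rw [hX, CfsgLib.OddLocal.GLTwoOdd.det_smul_add (hdet g)] at hd
    have hMM := CfsgLib.OddLocal.GLTwoOdd.mul_self_eq (hdet g)
    set t := (mv g).trace
    have h2 : (2 : F) ≠ 0 := by
      intro h2
      have h2' : ((2 : ℕ) : F) = 0 := by exact_mod_cast h2
      have := Nat.le_of_dvd (by norm_num) ((CharP.cast_eq_zero_iff F p 2).mp h2')
      have := (Fact.out : p.Prime).two_le
      omega
    have key : (1 - β) * (1 + β) * ((t / 2) * (t / 2) - 1) = 0 := by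
      field_simp
      linear_combination (4 : F) * hd - (2 * α + β * t + t) * htr
    rw [Subgroup.mem_centralizer_singleton_iff]
    rcases mul_eq_zero.mp key with h1 | h1
    · rcases mul_eq_zero.mp h1 with h3 | h3
      · have hb : β = 1 := by linear_combination -h3
        subst hb
        have ha : α = 0 :=
          (mul_eq_zero.mp (show α * 2 = 0 by linear_combination htr)).resolve_right h2
        rw [ha, zero_smul, one_smul, zero_add] at hX
        exact (mul_inv_eq_iff_eq_mul.mp (mv_inj hX))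
      · have hb : β = -1 := by linear_combination h3
        subst hb
        have ha : α = t := mul_right_cancel₀ h2 (by linear_combination htr)
        have hinv : h * g * h⁻¹ = g⁻¹ := by
          refine eq_inv_of_mul_eq_one_left (mv_inj ?_)
          rw [mv_mul, hX, ha, add_mul, smul_mul_assoc, smul_mul_assoc, hMM, mv_one]
          simp only [one_mul, neg_one_smul]
          abel
        have hh : h * h ∈ Subgroup.centralizer ({g} : Set H1) := by
          rw [Subgroup.mem_centralizer_singleton_iff]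
          have e : h * g⁻¹ * h⁻¹ = g := by
            have := congrArg (fun w => w⁻¹) hinv
            simpa [mul_assoc] using this
          have e2 : h * h * g * (h * h)⁻¹ = g := by
            calc h * h * g * (h * h)⁻¹ = h * (h * g * h⁻¹) * h⁻¹ := by group
              _ = _ := by rw [hinv, e]
          exact mul_inv_eq_iff_eq_mul.mp e2
        have := CfsgLib.OddLocal.mem_of_pow_mem_coprime
          (S := Subgroup.centralizer ({g} : Set H1)) (g := h) (m := 2) (n := Nat.card H1)
          (by rw [pow_two]; exact hh) (by rw [pow_card_eq_one']; exact one_mem _) hodd1.coprime_two_left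
        exact Subgroup.mem_centralizer_singleton_iff.mp this
    · exfalso
      refine hg (hroot g (t / 2) (by linear_combination h1) (hnilp _ _ ?_))
      have ht : t = t / 2 + t / 2 := by field_simp; ring
      have h1' : t / 2 * (t / 2) = 1 := by linear_combination h1
      rw [sub_mul, mul_sub, mul_sub, hMM, mul_smul_comm, smul_mul_assoc, smul_mul_smul_comm, h1',
        one_smul, mul_one, one_mul]
      generalize t / 2 = b at ht
      rw [ht, add_smul]
      simp only [mul_one, one_mul]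
      abel
  -- an element of order `p`
  obtain ⟨⟨g0, hg0H⟩, hg0⟩ := exists_prime_orderOf_dvd_card' (G := H) p hpd
  rw [Subgroup.orderOf_mk] at hg0
  have hdetone : ∀ z : GL (Fin 2) F, z ^ p = 1 → Matrix.GeneralLinearGroup.det z = 1 := by
    intro z hz
    have h := congrArg (fun u : Fˣ => (u : F)) (congrArg Matrix.GeneralLinearGroup.det hz)
    simp only [map_pow, map_one, Units.val_pow_eq_pow_val, Units.val_one] at h
    have h2 : ((Matrix.GeneralLinearGroup.det z : F) - 1) ^ p = 0 := by
      rw [sub_pow_char, h, one_pow, sub_self]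
    exact Units.ext (sub_eq_zero.mp (eq_zero_of_pow_eq_zero h2))
  have hg0p : g0 ^ p = 1 := by rw [← hg0, pow_orderOf_eq_one]
  let g : H1 := ⟨g0, hg0H, MonoidHom.mem_ker.mpr (hdetone g0 hg0p)⟩
  have hgp : g ^ p = 1 := Subtype.ext hg0p
  have hg1 : g ≠ 1 := fun h => (Fact.out : p.Prime).ne_one (by
    rw [← hg0, show g0 = 1 from congrArg Subtype.val h, orderOf_one])
  have hpg : IsPGroup p (Subgroup.zpowers g) := by
    refine IsPGroup.of_card (n := 1) ?_
    rw [Nat.card_zpowers, orderOf_eq_prime hgp hg1, pow_one]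
  obtain ⟨P, hP⟩ := hpg.exists_le_sylow
  have hgP : g ∈ (P : Subgroup H1) := hP (Subgroup.mem_zpowers g)
  have hPne : (P : Subgroup H1) ≠ ⊥ := fun h => hg1 (Subgroup.mem_bot.mp (h ▸ hgP))
  have huniq := CfsgLib.OddLocal.GLTwoOdd.sylow_unique hab hss hun hodd1 P hPne
  obtain ⟨hss', -⟩ := Nat.card_eq_one_iff_unique.mp huniq
  have hmemC : ∀ z : H1, z ^ p = 1 → z ∈ Subgroup.centralizer ({g} : Set H1) := by
    intro z hz
    rcases eq_or_ne z 1 with rfl | hz1
    · exact one_mem _
    rw [← (CfsgLib.OddLocal.GLTwoOdd.sylow_eq_centralizer hab hun P hgP hg1).2]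
    have hpz : IsPGroup p (Subgroup.zpowers z) := by
      refine IsPGroup.of_card (n := 1) ?_
      rw [Nat.card_zpowers, orderOf_eq_prime hz hz1, pow_one]
    obtain ⟨Q, hQ⟩ := hpz.exists_le_sylow
    exact (Subsingleton.elim Q P) ▸ hQ (Subgroup.mem_zpowers z)
  -- the line fixed by `g`
  set N := mv g - 1 with hN
  have hN0 : N ≠ 0 := fun h => hns g hg1 1 (by rw [one_smul]; exact sub_eq_zero.mp h)
  obtain ⟨w, hw⟩ : ∃ w : Fin 2 → F, N.mulVec w ≠ 0 := by
    by_contra! hc
    exact hN0 (Matrix.ext_of_mulVec_single fun i => by rw [hc, Matrix.zero_mulVec])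
  have hker : ∀ u, N.mulVec (N.mulVec u) = 0 := fun u => by
    rw [Matrix.mulVec_mulVec, hN2 g hgp, Matrix.zero_mulVec]
  obtain ⟨h, hhH, hout⟩ := hirr _ hw
  apply hout
  have hzp : (h * g0 * h⁻¹) ^ p = 1 := by rw [conj_pow, hg0p, mul_one, mul_inv_cancel]
  let z : H1 := ⟨h * g0 * h⁻¹, H.mul_mem (H.mul_mem hhH hg0H) (H.inv_mem hhH),
    MonoidHom.mem_ker.mpr (hdetone _ hzp)⟩
  obtain ⟨α, β, hX, -, hXp⟩ := hunform g hg1 hgp z (hmemC z (Subtype.ext hzp))
  have hsum : α + β = 1 := by
    have hz : mv z ^ p = 1 := by rw [← mv_pow, show z ^ p = 1 from Subtype.ext hzp, mv_one]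
    rw [hXp] at hz
    have h00 := congrFun (congrFun hz 0) 0
    simp at h00
    have h2 : ((α + β) - 1) ^ p = 0 := by rw [sub_pow_char, h00, one_pow, sub_self]
    exact sub_eq_zero.mp (eq_zero_of_pow_eq_zero h2)
  have hh : (h : Matrix (Fin 2) (Fin 2) F) * N = β • (N * (h : Matrix (Fin 2) (Fin 2) F)) := by
    have e : (h : Matrix (Fin 2) (Fin 2) F) * mv g = mv z * (h : Matrix (Fin 2) (Fin 2) F) := by
      show (h : Matrix (Fin 2) (Fin 2) F) * (g0 : Matrix (Fin 2) (Fin 2) F)
          = ((h * g0 * h⁻¹ : GL (Fin 2) F) : Matrix (Fin 2) (Fin 2) F) * _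
      rw [← Units.val_mul, ← Units.val_mul, inv_mul_cancel_right]
    have hX' : mv z - 1 = β • N := by
      have hα : α = 1 - β := by linear_combination hsum
      rw [hX, hN, hα, sub_smul, one_smul, smul_sub]
      abel
    rw [hN, mul_sub, e, mul_one, ← smul_mul_assoc, ← hN, ← hX', sub_mul, one_mul]
  rw [Matrix.mulVec_mulVec, hh, Matrix.smul_mulVec, ← Matrix.mulVec_mulVec]
  exact Submodule.smul_mem _ _ (CfsgLib.OddLocal.GLTwoOdd.ker_line hN0 hw (hker _) (hker _))

end Cfsg.Agent.S1463
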