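import Cfsg.Statements.S1464
import Cfsg.Agent.Lib.OddLocal.OddStable
-- import your own Cfsg.Agent.* helpers here

set_option autoImplicit false
open Cfsg

namespace Cfsg.Agent.S1464

/-- Let p be an odd prime and G a solvable group of odd order, P a p-subgroup with O_{p'}(G)P normal in G, and A a p-subgroup of N_G(P) with [[P, A], A] = 1. Then the image of A in the quotient N_G(P)/C_G(P) is contained in the p-core of that quotient. -/
theorem result {G : Type*} [Group G] [Finite G] [Group.IsSolvable G] (hodd : Odd (Nat.card G)) (p : ℕ) [Fact p.Prime] (hp : p ≠ 2) (P A : Subgroup G) (hP : IsPGroup p P) (hPn : (Cfsg.pPrimeCore p G ⊔ P).Normal)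
    (hA : IsPGroup p A) (hAN : A ≤ Subgroup.normalizer (P : Set G)) (hquad : ⁅⁅P, A⁆, A⁆ = ⊥) :
    (A.subgroupOf (Subgroup.normalizer (P : Set G))).map
        (QuotientGroup.mk' ((Subgroup.centralizer (P : Set G)).subgroupOf (Subgroup.normalizer (P : Set G))))
      ≤ Cfsg.pCore p _ := by
  set N := Subgroup.normalizer (P : Set G) with hN
  have hodd' : Odd (Nat.card N) := hodd.of_dvd_nat N.card_subgroup_dvd_card
  have hPN : P ≤ N := Subgroup.le_normalizer
  have : (P.subgroupOf N).Normal := Subgroup.normal_in_normalizer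
  have hC : Subgroup.centralizer ((P.subgroupOf N : Subgroup N) : Set N)
      = (Subgroup.centralizer (P : Set G)).subgroupOf N := by
    ext x
    simp only [Subgroup.mem_centralizer_iff, Subgroup.mem_subgroupOf]
    constructor
    · intro h g hg
      exact congrArg Subtype.val (h ⟨g, hPN hg⟩ hg)
    · intro h g hg
      exact Subtype.ext (h g hg)
  rintro _ ⟨a, ha, rfl⟩
  have hq : ⁅⁅P.subgroupOf N, Subgroup.zpowers a⁆, Subgroup.zpowers a⁆ = ⊥ := by
    apply (Subgroup.map_eq_bot_iff_of_injective _ N.subtype_injective).mp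
    rw [Subgroup.map_commutator, Subgroup.map_commutator, MonoidHom.map_zpowers, eq_bot_iff, ← hquad,
      Subgroup.subgroupOf_map_subtype, inf_eq_left.mpr hPN]
    exact Subgroup.commutator_mono (Subgroup.commutator_mono le_rfl (Subgroup.zpowers_le.mpr ha))
      (Subgroup.zpowers_le.mpr ha)
  have h := CfsgLib.PLocal.SLTwo.mem_pCore_of_noSL hp (CfsgLib.OddLocal.noSL_of_odd hodd' p)
    (P.subgroupOf N) hP.comap_subtype hq
  let e := QuotientGroup.quotientMulEquivOfEq hC
  have h2 := CfsgLib.Core.map_equiv_pCore (p := p) e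
  rw [← h2]
  exact ⟨_, h, rfl⟩

end Cfsg.Agent.S1464
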