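import Cfsg.Statements.S1465
import Cfsg.Agent.Lib.OddLocal.OddStable
-- import your own Cfsg.Agent.* helpers here

set_option autoImplicit false
open Cfsg

namespace Cfsg.Agent.S1465

/-- Let p be an odd prime, G a solvable group of odd order, P a normal p-subgroup of G, and X the subgroup generated by a family of abelian p-subgroups of G each normalized by P. Then the image of X in G/C_G(P) lies in O_p(G/C_G(P)); and if O_{p'}(G) = 1 and O_p(G) ∩ C_G(P) ≤ P then X ≤ O_p(G). -/
theorem result {G : Type*} [Group G] [Finite G] [Group.IsSolvable G] (hodd : Odd (Nat.card G)) (p : ℕ) [Fact p.Prime] (hp : p ≠ 2) (P : Subgroup G) [P.Normal] (hP : IsPGroup p P)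
    (S : Set (Subgroup G)) (hS : ∀ B ∈ S, IsMulCommutative B ∧ IsPGroup p B ∧ P ≤ Subgroup.normalizer (B : Set G)) :
    (sSup S).map (QuotientGroup.mk' (Subgroup.centralizer (P : Set G))) ≤ Cfsg.pCore p (G ⧸ Subgroup.centralizer (P : Set G)) ∧
      (Cfsg.pPrimeCore p G = ⊥ → Cfsg.pCore p G ⊓ Subgroup.centralizer (P : Set G) ≤ P → sSup S ≤ Cfsg.pCore p G) := by
  have key : ∀ B ∈ S, B ≤ (Cfsg.pCore p (G ⧸ Subgroup.centralizer (P : Set G))).comap
      (QuotientGroup.mk' (Subgroup.centralizer (P : Set G))) := by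
    intro B hB b hb
    obtain ⟨hBc, -, hBn⟩ := hS B hB
    refine CfsgLib.PLocal.SLTwo.mem_pCore_of_noSL hp (CfsgLib.OddLocal.noSL_of_odd hodd p) P hP
      (eq_bot_iff.mpr ?_)
    refine (Subgroup.commutator_mono (Subgroup.commutator_mono le_rfl (Subgroup.zpowers_le.mpr hb))
      (Subgroup.zpowers_le.mpr hb)).trans ?_
    refine (Subgroup.commutator_mono (Subgroup.le_normalizer_iff_commutator_le_right.mp hBn) le_rfl).trans ?_
    rw [le_bot_iff, Subgroup.commutator_self_eq_bot_iff]
    exact hBc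
  refine ⟨Subgroup.map_le_iff_le_comap.mpr (sSup_le key), fun h0 hC => ?_⟩
  set C := Subgroup.centralizer (P : Set G) with hCdef
  have hCO : IsPGroup p C := by
    have hOC : Cfsg.pPrimeCore p C = ⊥ := by
      have := CfsgLib.Core.map_subtype_pPrimeCore_le (p := p) C
      rwa [h0, le_bot_iff, Subgroup.map_eq_bot_iff_of_injective _ C.subtype_injective] at this
    have hle := CfsgLib.OddLocal.centralizer_pCore_le_of_core_bot hOC
    have hTP : ∀ t : C, t ∈ Cfsg.pCore p C → (t : G) ∈ P := fun t ht =>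
      hC ⟨CfsgLib.Core.map_subtype_pCore_le C ⟨t, ht, rfl⟩, t.2⟩
    have htop : (⊤ : Subgroup C) ≤ Cfsg.pCore p C := fun c _ => hle (Subgroup.mem_centralizer_iff.mpr
      fun t ht => Subtype.ext (Subgroup.mem_centralizer_iff.mp c.2 t (hTP t ht)))
    exact ((CfsgLib.Core.isPGroup_pCore p C).to_le htop).of_equiv Subgroup.topEquiv
  refine sSup_le fun B hB => (key B hB).trans ?_
  have hK : IsPGroup p ((Cfsg.pCore p (G ⧸ C)).comap (QuotientGroup.mk' C)) :=
    (CfsgLib.Core.isPGroup_pCore p _).comap_of_ker_isPGroup _ (by rwa [QuotientGroup.ker_mk'])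
  exact CfsgLib.Core.le_pCore hK

end Cfsg.Agent.S1465
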