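import Cfsg.Statements.S1466
import Cfsg.Agent.Lib.OddLocal.Puig

set_option autoImplicit false
open Cfsg

namespace Cfsg.Agent.S1466

/-- Let p be a prime and R a nontrivial finite p-group. Then for every i > 0, Z(R) ≤ C_R(L_i(R)) ≤ L_i(R); likewise Z(R) ≤ C_R(L_*(R)) ≤ L_*(R) and Z(R) ≤ C_R(L(R)) ≤ L(R); and L(R) ≠ 1, L_*(R) ≠ 1. -/
theorem result {R : Type*} [Group R] [Finite R] (p : ℕ) [Fact p.Prime] (hR : IsPGroup p R) [Nontrivial R] :
    (∀ i : ℕ, 0 < i → Subgroup.center R ≤ Subgroup.centralizer ((Cfsg.puigSeq R i : Subgroup R) : Set R) ∧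
        Subgroup.centralizer ((Cfsg.puigSeq R i : Subgroup R) : Set R) ≤ Cfsg.puigSeq R i) ∧
      (Subgroup.center R ≤ Subgroup.centralizer ((Cfsg.puigLower R : Subgroup R) : Set R) ∧ Subgroup.centralizer ((Cfsg.puigLower R : Subgroup R) : Set R) ≤ Cfsg.puigLower R) ∧
      (Subgroup.center R ≤ Subgroup.centralizer ((Cfsg.puigSubgroup R : Subgroup R) : Set R) ∧ Subgroup.centralizer ((Cfsg.puigSubgroup R : Subgroup R) : Set R) ≤ Cfsg.puigSubgroup R) ∧
      Cfsg.puigSubgroup R ≠ ⊥ ∧ Cfsg.puigLower R ≠ ⊥ := by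
  obtain ⟨k, hk⟩ := CfsgLib.OddLocal.puig_stable (G := R)
  have hz : ∀ X : Subgroup R, Subgroup.center R ≤ Subgroup.centralizer (X : Set R) := fun X =>
    Subgroup.center_le_centralizer _
  have hi : ∀ i : ℕ, 0 < i → Subgroup.centralizer ((Cfsg.puigSeq R i : Subgroup R) : Set R) ≤ Cfsg.puigSeq R i := by
    rintro (_ | i) h
    · omega
    · exact CfsgLib.OddLocal.centralizer_le_puigStep hR _
  have hne : ∀ X : Subgroup R, Subgroup.centralizer (X : Set R) ≤ X → X ≠ ⊥ := by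
    intro X hX hbot
    exact (hR.bot_lt_center).ne' (le_bot_iff.mp ((hz X).trans (hX.trans hbot.le)))
  have h1 := hi (2 * (k + 1)) (by omega)
  rw [(hk (k + 1) (Nat.le_succ k)).1] at h1
  have h2 := hi (2 * k + 1) (by omega)
  rw [(hk k le_rfl).2] at h2
  exact ⟨fun i h => ⟨hz _, hi i h⟩, ⟨hz _, h1⟩, ⟨hz _, h2⟩, hne _ h2, hne _ h1⟩

end Cfsg.Agent.S1466
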