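import Cfsg.Statements.S1470
import Cfsg.Agent.Lib.OddLocal.NormPair

set_option autoImplicit false
open Cfsg

namespace Cfsg.Agent.S1470

/-- Let p and q be odd primes with (p^q − 1)/(p − 1) coprime to p − 1, and let E be the set of elements a of the field with p ^ q elements whose norm to the prime field is 1 and for which 2 − a also has norm 1. If a⁻¹ ∈ E for every a ∈ E and E has at least two elements, then p ≤ q. -/
theorem result (p q : ℕ) [Fact p.Prime] [Fact q.Prime] (hp : p ≠ 2) (hq : q ≠ 2) (hA : Nat.Coprime ((p ^ q - 1) / (p - 1)) (p - 1))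
    (hinv : ∀ a ∈ {a : GaloisField p q | Algebra.norm (ZMod p) a = 1 ∧ Algebra.norm (ZMod p) (2 - a) = 1}, a⁻¹ ∈ {a : GaloisField p q | Algebra.norm (ZMod p) a = 1 ∧ Algebra.norm (ZMod p) (2 - a) = 1})
    (h2 : 2 ≤ Set.ncard {a : GaloisField p q | Algebra.norm (ZMod p) a = 1 ∧ Algebra.norm (ZMod p) (2 - a) = 1}) :
    p ≤ q := by
  obtain ⟨a, ha, b, hb, hab⟩ := (Set.one_lt_ncard (Set.toFinite _)).mp h2
  obtain ⟨c, hc, hc1⟩ : ∃ c : GaloisField p q, (Algebra.norm (ZMod p) c = 1 ∧ Algebra.norm (ZMod p) (2 - c) = 1) ∧ c ≠ 1 := by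
    by_cases h : a = 1
    · exact ⟨b, hb, fun h' => hab (h.trans h'.symm)⟩
    · exact ⟨a, ha, h⟩
  exact CfsgLib.OddLocal.norm_pair_symmetric_le (GaloisField.finrank p (Fact.out : q.Prime).ne_zero)
    (fun x hx hx' => (hinv x ⟨hx, hx'⟩).2) hc1 hc.1 hc.2

end Cfsg.Agent.S1470
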