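import Cfsg.Statements.S1471
import Cfsg.Agent.Lib.OddLocal.NormCount

set_option autoImplicit false
open Cfsg

namespace Cfsg.Agent.S1471

/-- Let p and q be odd primes with (p^q − 1)/(p − 1) coprime to p − 1. Then there are at least two elements a of the field with p ^ q elements such that both a and 2 − a have norm 1 to the prime field. -/
theorem result (p q : ℕ) [Fact p.Prime] [Fact q.Prime] (hp : p ≠ 2) (hq : q ≠ 2) (hA : Nat.Coprime ((p ^ q - 1) / (p - 1)) (p - 1)) :
    2 ≤ Set.ncard {a : GaloisField p q | Algebra.norm (ZMod p) a = 1 ∧ Algebra.norm (ZMod p) (2 - a) = 1} := by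
  classical
  have hq' : q.Prime := Fact.out
  have hrank : Module.finrank (ZMod p) (GaloisField p q) = q := GaloisField.finrank p hq'.ne_zero
  rcases eq_or_lt_of_le (show 3 ≤ q by have := hq'.two_le; omega) with h3 | h3
  · obtain ⟨a, b, hab, ha, hb⟩ := CfsgLib.OddLocal.NormCount.exists_two_norm_one_cubic hp (hrank.trans h3.symm)
    exact (Set.one_lt_ncard (Set.toFinite _)).mpr ⟨a, ha, b, hb, hab⟩
  · have h5 : 5 ≤ q := by
      rcases (show q = 4 ∨ 5 ≤ q by omega) with h | h
      · subst h; exact absurd hq' (by norm_num)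
      · exact h
    let := Fintype.ofFinite (GaloisField p q)
    have hcard : Fintype.card (GaloisField p q) = p ^ q := by
      rw [← Nat.card_eq_fintype_card]; exact GaloisField.card p q hq'.ne_zero
    refine (CfsgLib.OddLocal.NormCount.two_le_card hp h5 hcard).trans (le_of_eq ?_)
    rw [← Set.ncard_coe_finset, Finset.coe_filter]
    simp

end Cfsg.Agent.S1471
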