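import Cfsg.Statements.S1472
import Cfsg.Agent.Lib.OddLocal.FinalField
import Cfsg.Agent.Lib.OddLocal.NormCount
-- import your own Cfsg.Agent.* helpers here

set_option autoImplicit false
open Cfsg

namespace Cfsg.Agent.S1472

/-- Let p, q be primes with (p^q − 1)/(p − 1) coprime to p − 1, G a finite group, F a field with p ^ q elements, and P, U, Q subgroups of G with: f : G → F bijective from P onto F and additive on P; U normalizing P and acting through ψ : G → F, injective and multiplicative on U with ψ(u) ≠ 0 and f(uxu⁻¹) = ψ(u) f(x); #U · (p − 1) = p^q − 1; Q abelian of order coprime to p, normalized by every x ∈ P with f(x) in the prime field; and some y ∈ Q such that y x y⁻¹ normalizes U for every such x. Then p ≤ q. -/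
theorem result {G : Type*} [Group G] [Finite G] (p q : ℕ) [Fact p.Prime] [Fact q.Prime] (hA : Nat.Coprime ((p ^ q - 1) / (p - 1)) (p - 1))
    (F : Type*) [Field F] [Fintype F] (hF : Fintype.card F = p ^ q) (P U Q : Subgroup G) (f ψ : G → F)
    (hf : Set.BijOn f (P : Set G) Set.univ) (hfadd : ∀ x ∈ P, ∀ z ∈ P, f (x * z) = f x + f z)
    (hUP : U ≤ Subgroup.normalizer (P : Set G)) (hψ : ∀ u ∈ U, ψ u ≠ 0 ∧ ∀ x ∈ P, f (u * x * u⁻¹) = ψ u * f x)
    (hψmul : ∀ u ∈ U, ∀ v ∈ U, ψ (u * v) = ψ u * ψ v) (hψinj : Set.InjOn ψ (U : Set G)) (hUcard : Nat.card U * (p - 1) = p ^ q - 1)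
    (hQ : IsMulCommutative Q) (hQp : (Nat.card Q).Coprime p) (hP0Q : ∀ x ∈ P, f x ^ p = f x → x ∈ Subgroup.normalizer (Q : Set G))
    (y : G) (hy : y ∈ Q) (hP0U : ∀ x ∈ P, f x ^ p = f x → y * x * y⁻¹ ∈ Subgroup.normalizer (U : Set G)) :
    p ≤ q := by
  classical
  by_contra hlt
  have hpp : p.Prime := Fact.out
  have hqp : q.Prime := Fact.out
  have hlt' : q < p := not_le.mp hlt
  have hp2 : p ≠ 2 := by have := hqp.two_le; omega
  have hgs : (p ^ q - 1) / (p - 1) = ∑ i ∈ Finset.range q, p ^ i := (Nat.geomSum_eq hpp.two_le q).symm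
  have hq2 : q ≠ 2 := by
    intro h
    subst h
    rw [hgs, Finset.sum_range_succ, Finset.sum_range_one, pow_zero, pow_one] at hA
    have h2 : 2 ∣ p - 1 := by
      obtain ⟨r, hr⟩ := hpp.odd_of_ne_two hp2; omega
    have h2' : 2 ∣ 1 + p := by
      obtain ⟨r, hr⟩ := hpp.odd_of_ne_two hp2; omega
    exact absurd (Nat.eq_one_of_dvd_coprimes hA h2' h2) (by norm_num)
  have : CharP F p := by
    obtain ⟨n, hr, hn⟩ := FiniteField.card F (ringChar F)
    rw [hF] at hn
    have hdvd : ringChar F ∣ p ^ q := hn ▸ dvd_pow_self _ n.pos.ne'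
    have := (Nat.prime_dvd_prime_iff_eq hr hpp).mp (hr.dvd_of_dvd_pow hdvd)
    exact this ▸ (ringChar.charP F)
  let : Algebra (ZMod p) F := ZMod.algebra F p
  -- numerology
  have hu : Nat.card U = (p ^ q - 1) / (p - 1) := by
    rw [← hUcard, Nat.mul_div_cancel _ (by have := hpp.two_le; omega)]
  rw [hgs] at hu
  have hucop : (Nat.card U).Coprime p := by
    refine ((hpp.coprime_iff_not_dvd).mpr fun h => ?_).symm
    have h1 : p ∣ p ^ q - 1 := hUcard ▸ h.mul_right _
    have h2 : 1 ≤ p ^ q := Nat.one_le_pow _ _ hpp.pos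
    have h3 := Nat.dvd_sub (dvd_pow_self p hqp.ne_zero) h1
    rw [Nat.sub_sub_self h2] at h3
    exact hpp.one_lt.ne' (Nat.dvd_one.mp h3)
  have hucop' : (Nat.card U).Coprime (p - 1) := by rw [hu, ← hgs]; exact hA
  have hu1 : 1 < Nat.card U := by
    rw [hu]
    calc 1 < 1 + p := by have := hpp.pos; omega
      _ = ∑ i ∈ Finset.range 2, p ^ i := by simp [Finset.sum_range_succ]
      _ ≤ _ := Finset.sum_le_sum_of_subset (Finset.range_mono hqp.two_le)
  -- the inverse of `f`
  have hsurj : ∀ α : F, ∃ g, g ∈ P ∧ f g = α := fun α => by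
    obtain ⟨g, hg, hga⟩ := hf.surjOn (Set.mem_univ α); exact ⟨g, hg, hga⟩
  choose x hxP hfx using hsurj
  have hxf : ∀ g ∈ P, x (f g) = g := fun g hg => hf.injOn (hxP _) hg (hfx _)
  have hψone : ψ 1 = 1 := by
    have h := hψmul 1 U.one_mem 1 U.one_mem
    rw [mul_one] at h
    exact (mul_eq_left₀ (hψ 1 U.one_mem).1).mp h.symm
  have hψpow : ∀ v ∈ U, ψ v ^ Nat.card U = 1 := by
    intro v hv
    have h : ∀ n : ℕ, ψ (v ^ n) = ψ v ^ n := by
      intro n
      induction n with
      | zero => rw [pow_zero, pow_zero, hψone]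
      | succ n ih => rw [pow_succ, pow_succ, hψmul _ (pow_mem hv n) _ hv, ih]
    rw [← h, CfsgLib.OddLocal.pow_card_eq_one_of_mem hv, hψone]
  let : Fintype U := Fintype.ofFinite _
  have hrange : ∀ z : F, z ^ Nat.card U = 1 → ∃ v ∈ U, ψ v = z := by
    intro z hz
    let S' : Finset F := Finset.univ.image fun v : U => ψ v
    have hcard : S'.card = Nat.card U := by
      have hinj' : Function.Injective fun v : U => ψ v := fun a b h => Subtype.ext (hψinj a.2 b.2 h)
      show (Finset.univ.image fun v : U => ψ v).card = _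
      rw [Finset.card_image_of_injective _ hinj', Finset.card_univ, Nat.card_eq_fintype_card]
    have hsub : S' ⊆ (Polynomial.nthRoots (Nat.card U) (1 : F)).toFinset := by
      intro w hw
      obtain ⟨v, -, rfl⟩ := Finset.mem_image.mp hw
      exact Multiset.mem_toFinset.mpr ((Polynomial.mem_nthRoots (by omega)).mpr (hψpow v.1 v.2))
    have heq := Finset.eq_of_subset_of_card_le hsub
      (hcard ▸ (Multiset.toFinset_card_le _).trans (Polynomial.card_nthRoots _ _))
    obtain ⟨v, -, hv⟩ := Finset.mem_image.mp (heq ▸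
      Multiset.mem_toFinset.mpr ((Polynomial.mem_nthRoots (by omega)).mpr hz))
    exact ⟨v.1, v.2, hv⟩
  have hdecomp : ∀ z : F, z ≠ 0 → ∃ l : ZMod p, l ≠ 0 ∧ ∃ D ∈ U,
      z = algebraMap (ZMod p) F l * ψ D := by
    let m : {l : ZMod p // l ≠ 0} × U → {z : F // z ≠ 0} := fun a =>
      ⟨algebraMap (ZMod p) F a.1.1 * ψ a.2.1,
        mul_ne_zero ((map_ne_zero _).mpr a.1.2) (hψ a.2.1 a.2.2).1⟩
    have hinj : Function.Injective m := by
      rintro ⟨⟨l, hl⟩, v, hv⟩ ⟨⟨l', hl'⟩, v', hv'⟩ h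
      have he : algebraMap (ZMod p) F l * ψ v = algebraMap (ZMod p) F l' * ψ v' := congrArg Subtype.val h
      have h1 : algebraMap (ZMod p) F (l / l') * ψ v = ψ v' := by
        rw [map_div₀, div_mul_eq_mul_div, he, mul_div_cancel_left₀ _ ((map_ne_zero _).mpr hl')]
      have h2 : algebraMap (ZMod p) F (l / l') ^ Nat.card U = 1 := by
        have := congrArg (fun a => a ^ Nat.card U) h1
        simp only [mul_pow] at this
        rwa [hψpow v hv, hψpow v' hv', mul_one] at this
      have h3 : algebraMap (ZMod p) F (l / l') ^ (p - 1) = 1 := by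
        rw [← map_pow, ZMod.pow_card_sub_one_eq_one (div_ne_zero hl hl'), map_one]
      have h4 := pow_gcd_eq_one.mpr ⟨h2, h3⟩
      rw [hucop'.gcd_eq_one, pow_one] at h4
      rw [h4, one_mul] at h1
      have hvv : v = v' := hψinj hv hv' h1
      have h5 : l / l' = 1 := (algebraMap (ZMod p) F).injective (h4.trans (map_one _).symm)
      rw [div_eq_one_iff_eq hl'] at h5
      simp [hvv, h5]
    have hcard : Fintype.card ({l : ZMod p // l ≠ 0} × U) = Fintype.card {z : F // z ≠ 0} := by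
      rw [Fintype.card_prod, Fintype.card_subtype_compl, Fintype.card_subtype_compl,
        Fintype.card_subtype_eq, Fintype.card_subtype_eq, ZMod.card, hF, ← Nat.card_eq_fintype_card,
        mul_comm, hUcard]
    intro z hz
    obtain ⟨⟨⟨l, hl⟩, v, hv⟩, h⟩ :=
      ((Fintype.bijective_iff_injective_and_card m).mpr ⟨hinj, hcard⟩).2 ⟨z, hz⟩
    exact ⟨l, hl, v, hv, (congrArg Subtype.val h).symm⟩
  have hfix : ∀ l : ZMod p, algebraMap (ZMod p) F l ^ p = algebraMap (ZMod p) F l := fun l => by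
    rw [← map_pow, ZMod.pow_card]
  let c : CfsgLib.OddLocal.FinalField.Config G p F :=
    { P := P, U := U, Q := Q, x := x, ψ := ψ, y := y
      x_mem := hxP
      x_add := fun α β => by
        have := hxf _ (mul_mem (hxP α) (hxP β))
        rwa [hfadd _ (hxP α) _ (hxP β), hfx, hfx] at this
      x_surj := fun g hg => ⟨f g, hxf g hg⟩
      x_inj := fun α β h => by rw [← hfx α, h, hfx β]
      conj_x := fun v hv α => by
        have hm : v * x α * v⁻¹ ∈ P := CfsgLib.OddLocal.FinalField.Config.conj_mem (hUP hv) (hxP α)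
        have := hxf _ hm
        rw [(hψ v hv).2 _ (hxP α), hfx] at this
        exact this.symm
      ψ_mul := hψmul
      ψ_ne := fun v hv => (hψ v hv).1
      ψ_inj := hψinj
      ψ_range := hrange
      u_coprime := hucop
      u_coprime' := hucop'
      one_lt_u := hu1
      decomp := hdecomp
      Q_comm := fun a ha b hb => congrArg Subtype.val (hQ.is_comm.comm ⟨a, ha⟩ ⟨b, hb⟩)
      Q_coprime := hQp
      y_mem := hy
      S_norm := fun l => hP0Q _ (hxP _) (by rw [hfx]; exact hfix l)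
      T_norm := fun l => hP0U _ (hxP _) (by rw [hfx]; exact hfix l) }
  -- an element `ζ` of `U` with `(1 + ψ ζ) / 2` in the image of `U`
  have hrank : Module.finrank (ZMod p) F = q := by
    have h := Module.card_eq_pow_finrank (K := ZMod p) (V := F)
    rw [ZMod.card, hF] at h
    exact (Nat.pow_right_injective hpp.two_le h).symm
  obtain ⟨a, ha1, haN, haN2⟩ : ∃ a : F, a ≠ 1 ∧ Algebra.norm (ZMod p) a = 1 ∧
      Algebra.norm (ZMod p) (2 - a) = 1 := by
    rcases eq_or_lt_of_le (show 3 ≤ q by have := hqp.two_le; omega) with h3 | h3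
    · obtain ⟨a, b, hab, ha, hb⟩ :=
        CfsgLib.OddLocal.NormCount.exists_two_norm_one_cubic hp2 (hrank.trans h3.symm)
      rcases ne_or_eq a 1 with h | h
      · exact ⟨a, h, ha⟩
      · exact ⟨b, fun hb1 => hab (h.trans hb1.symm), hb⟩
    · have h5 : 5 ≤ q := by
        rcases (show q = 4 ∨ 5 ≤ q by omega) with h | h
        · exact absurd (h ▸ hqp) (by norm_num)
        · exact h
      obtain ⟨a, ha, b, hb, hab⟩ := Finset.one_lt_card.mp
        (CfsgLib.OddLocal.NormCount.two_le_card hp2 h5 hF)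
      rcases ne_or_eq a 1 with h | h
      · exact ⟨a, h, (Finset.mem_filter.mp ha).2⟩
      · exact ⟨b, fun hb1 => hab (h.trans hb1.symm), (Finset.mem_filter.mp hb).2⟩
  have hpow : ∀ z : F, Algebra.norm (ZMod p) z = 1 → z ^ Nat.card U = 1 := by
    intro z hz
    have h := FiniteField.algebraMap_norm_eq_pow (K := ZMod p) (x := z)
    rw [hz, map_one, Nat.card_eq_fintype_card, hF, Nat.card_zmod, hgs, ← hu] at h
    exact h.symm
  have ha0 : a ≠ 0 := fun h => by rw [h, Algebra.norm_zero] at haN; exact zero_ne_one haN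
  obtain ⟨σ, hσ, hψσ⟩ := hrange a⁻¹ (by rw [inv_pow, hpow a haN, inv_one])
  obtain ⟨ζ, hζ, hψζ⟩ := hrange ((2 - a) / a)
    (by rw [div_pow, hpow _ haN2, hpow a haN, div_one])
  have h2 : (2 : ZMod p) ≠ 0 := fun h => hp2 (by
    have h2' : ((2 : ℕ) : ZMod p) = 0 := by exact_mod_cast h
    exact (Nat.prime_dvd_prime_iff_eq hpp Nat.prime_two).mp ((ZMod.natCast_eq_zero_iff _ _).mp h2'))
  have h2F : (2 : F) ≠ 0 := by
    rw [← map_ofNat (algebraMap (ZMod p) F) 2]; exact (map_ne_zero _).mpr h2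
  have hζ1 : ζ ≠ 1 := by
    intro h
    rw [h, hψone] at hψζ
    rw [eq_div_iff ha0, one_mul, eq_sub_iff_add_eq, ← two_mul] at hψζ
    exact ha1 (mul_left_cancel₀ h2F (hψζ.trans (mul_one _).symm))
  have hrel : 1 + ψ ζ = 2 * ψ σ := by
    rw [hψζ, hψσ]; field_simp; ring
  -- the contradiction
  have hτ := c.τ_mem 1 hζ
  have hX1 : ψ (c.τ 1 ζ) ≠ 1 := fun h =>
    hζ1 (c.τ_eq_one.mp (hψinj hτ U.one_mem (h.trans hψone.symm)))
  have hle := CfsgLib.OddLocal.FinalField.prime_le_of_pow_eq (p := p) hX1 hqp.pos hu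
    ((2 : F) ^ Nat.card U) (fun e he => by
      have h := c.main_eq h2 hζ hσ hζ1 hrel (inv_ne_zero he) 1
      have he' : algebraMap (ZMod p) F e ≠ 0 := (map_ne_zero _).mpr he
      have h' : (algebraMap (ZMod p) F e * (algebraMap (ZMod p) F (e⁻¹ + 1) +
          algebraMap (ZMod p) F (e⁻¹ - 1) * ψ (c.τ 1 ζ))) ^ Nat.card U =
          (algebraMap (ZMod p) F e * algebraMap (ZMod p) F (e⁻¹ + e⁻¹)) ^ Nat.card U := by
        rw [mul_pow, mul_pow]; exact congrArg _ h
      simp only [map_add, map_sub, map_one, map_inv₀, mul_add, mul_inv_cancel₀ he',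
        one_add_one_eq_two, mul_one] at h'
      rw [← h']
      congr 1
      field_simp)
  obtain ⟨r, hr⟩ := hpp.odd_of_ne_two hp2
  obtain ⟨t, ht⟩ := hqp.odd_of_ne_two hq2
  omega

end Cfsg.Agent.S1472
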