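import Cfsg.Statements.S1475
import Cfsg.Agent.Lib.Core.FPF
import Cfsg.Agent.Lib.Core.Hall
import Cfsg.Agent.Lib.Core.MinNormal
-- import your own Cfsg.Agent.* helpers here

set_option autoImplicit false
open Cfsg

namespace Cfsg.Agent.S1475

/-- Let G be a finite solvable group such that the order of every element is a prime power (1 included). Then at most two distinct primes divide the order of G. -/
theorem result {G : Type*} [Group G] [Finite G] [Group.IsSolvable G] (h : ∀ g : G, IsPrimePow (orderOf g) ∨ g = 1) :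
    (Nat.card G).primeFactors.card ≤ 2 := by
  classical
  by_contra hlt
  have h3 : 3 ≤ (Nat.card G).primeFactors.card := by omega
  have : Nontrivial G := by
    rw [← Finite.one_lt_card_iff_nontrivial]
    by_contra h1
    have : Nat.card G = 1 := by have := Nat.card_pos (α := G); omega
    rw [this, Nat.primeFactors_one, Finset.card_empty] at h3
    omega
  obtain ⟨N, hNn, hNb, -, hNmin⟩ :=
    CfsgLib.Core.exists_minimal_normal_le' (⊤ : Subgroup G) top_ne_bot
  obtain ⟨p, hp, hNp, -, hNexp⟩ :=
    CfsgLib.Core.isPGroup_of_minimal_normal N inferInstance hNb hNmin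
  obtain ⟨H, hH⟩ := CfsgLib.Core.exists_piHall (G := G) {r | r ≠ p}
  have horder : ∀ a b : G, (orderOf a).Prime → (orderOf b).Prime → Commute a b →
      orderOf a ≠ orderOf b → False := by
    intro a b ha hb hab hne
    have hord := hab.orderOf_mul_eq_mul_orderOf_of_coprime ((Nat.coprime_primes ha hb).mpr hne)
    rcases h (a * b) with h' | h'
    · rw [hord] at h'
      obtain ⟨r, k, hr, -, hk⟩ := h'
      have e1 := (Nat.prime_dvd_prime_iff_eq ha hr.nat_prime).mp
        (ha.dvd_of_dvd_pow (hk ▸ dvd_mul_right _ _))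
      have e2 := (Nat.prime_dvd_prime_iff_eq hb hr.nat_prime).mp
        (hb.dvd_of_dvd_pow (hk ▸ dvd_mul_left _ _))
      exact hne (e1.trans e2.symm)
    · rw [h', orderOf_one] at hord
      exact ha.ne_one (Nat.eq_one_of_mul_eq_one_right hord.symm)
  have hHN : H ≤ Subgroup.normalizer (N : Set G) := by
    rw [Subgroup.normalizer_eq_top]; exact le_top
  have hfpf : ∀ a ∈ H, a ≠ 1 → N ⊓ Subgroup.centralizer ({a} : Set G) = ⊥ := by
    intro a ha ha1
    rw [eq_bot_iff]
    rintro n ⟨hn, hc⟩
    rw [Subgroup.mem_bot]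
    by_contra hn1
    have hc' : Commute a n := (Subgroup.mem_centralizer_singleton_iff.mp hc).symm
    obtain ⟨r, hr, hrd⟩ := Nat.exists_prime_and_dvd (n := orderOf a)
      (fun h => ha1 (orderOf_eq_one_iff.mp h))
    have hrH : r ∣ Nat.card H := hrd.trans (H.orderOf_dvd_natCard ha)
    have hn' : orderOf n = p := by
      have := Fact.mk hp
      exact orderOf_eq_prime (hNexp n hn) hn1
    have hpow : orderOf (a ^ (orderOf a / r)) = r :=
      orderOf_pow_orderOf_div (orderOf_pos a).ne' hrd
    exact horder _ n (by rw [hpow]; exact hr) (by rw [hn']; exact hp) (hc'.pow_left _)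
      (by rw [hpow, hn']; exact hH.1 r hr hrH)
  have hprimes : ∀ r ∈ (Nat.card G).primeFactors.erase p, r ∣ Nat.card H := by
    intro r hr
    obtain ⟨hrp, hr⟩ := Finset.mem_erase.mp hr
    obtain ⟨hrP, hrd, -⟩ := Nat.mem_primeFactors.mp hr
    rcases hrP.dvd_mul.mp (H.card_mul_index ▸ hrd) with h | h
    · exact h
    · exact absurd h (hH.2 r hrP hrp)
  have h2 : 2 ≤ ((Nat.card G).primeFactors.erase p).card := by
    have := Finset.pred_card_le_card_erase (a := p) (s := (Nat.card G).primeFactors)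
    omega
  have hH1 : H ≠ ⊥ := by
    intro hb
    obtain ⟨r, hr⟩ := Finset.card_pos.mp (show 0 < ((Nat.card G).primeFactors.erase p).card by omega)
    have := hprimes r hr
    rw [hb, Subgroup.card_bot] at this
    exact (Nat.mem_primeFactors.mp (Finset.mem_erase.mp hr).2).1.ne_one (Nat.dvd_one.mp this)
  have : Nontrivial H := H.nontrivial_iff_ne_bot.mpr hH1
  obtain ⟨M, hMn, hMb, -, hMmin⟩ :=
    CfsgLib.Core.exists_minimal_normal_le' (⊤ : Subgroup H) top_ne_bot
  obtain ⟨q, hq, hMq, hMc, hMexp⟩ :=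
    CfsgLib.Core.isPGroup_of_minimal_normal M inferInstance hMb hMmin
  have := Fact.mk hq
  have hM' : IsMulCommutative (M.map H.subtype) := by
    have := hMc
    exact Subgroup.map_isMulCommutative M H.subtype
  have hcyc := CfsgLib.Core.FPF.isCyclic_of_isMulCommutative hHN hfpf hNb (B := M.map H.subtype)
    (Subgroup.map_subtype_le M)
  have hMcard : Nat.card M = q := by
    have hc : IsCyclic M :=
      (Subgroup.equivMapOfInjective M H.subtype H.subtype_injective).isCyclic.mpr hcyc
    obtain ⟨g, hg⟩ := hc.exists_generator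
    rw [← orderOf_eq_card_of_forall_mem_zpowers hg]
    refine orderOf_eq_prime (Subtype.ext (hMexp g g.2)) fun hg1 => hMb ?_
    rw [eq_bot_iff]
    intro x hx
    obtain ⟨i, hi⟩ := Subgroup.mem_zpowers_iff.mp (hg ⟨x, hx⟩)
    rw [hg1, one_zpow] at hi
    exact Subgroup.mem_bot.mpr (congrArg Subtype.val hi).symm
  obtain ⟨r, hr, hrq⟩ := Finset.exists_mem_ne h2 q
  have hrP := (Nat.mem_primeFactors.mp (Finset.mem_erase.mp hr).2).1
  have := Fact.mk hrP
  obtain ⟨x, hx⟩ := exists_prime_orderOf_dvd_card' (G := H) r (hprimes r hr)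
  have hdis : M ⊓ Subgroup.zpowers x = ⊥ := Subgroup.inf_eq_bot_of_coprime (by
    rw [hMcard, Nat.card_zpowers, hx]; exact (Nat.coprime_primes hq hrP).mpr (Ne.symm hrq))
  have hxM : Subgroup.zpowers x ≤ Subgroup.normalizer (M : Set H) := by
    rw [Subgroup.normalizer_eq_top]; exact le_top
  have hBc : Nat.card ↥((M ⊔ Subgroup.zpowers x).map H.subtype) = r * q := by
    rw [← Nat.card_congr (Subgroup.equivMapOfInjective _ _ H.subtype_injective).toEquiv, sup_comm,
      CfsgLib.Core.card_sup_of_disjoint (Subgroup.zpowers x) M hxM (by rw [inf_comm]; exact hdis),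
      hMcard, Nat.card_zpowers, hx]
  obtain ⟨g, hg⟩ := (CfsgLib.Core.FPF.isCyclic_of_card_mul hHN hfpf hNb
    (Subgroup.map_subtype_le _) hrP hq hBc).exists_generator
  have hog : orderOf (g : G) = r * q := by
    rw [Subgroup.orderOf_coe, orderOf_eq_card_of_forall_mem_zpowers hg, hBc]
  rcases h (g : G) with h' | h'
  · rw [hog] at h'
    obtain ⟨t, k, ht, -, hk⟩ := h'
    have e1 := (Nat.prime_dvd_prime_iff_eq hrP ht.nat_prime).mp
      (hrP.dvd_of_dvd_pow (hk ▸ dvd_mul_right r q))
    have e2 := (Nat.prime_dvd_prime_iff_eq hq ht.nat_prime).mp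
      (hq.dvd_of_dvd_pow (hk ▸ dvd_mul_left q r))
    exact hrq (e1.trans e2.symm)
  · rw [h', orderOf_one] at hog
    exact hrP.ne_one (Nat.eq_one_of_mul_eq_one_right hog.symm)

end Cfsg.Agent.S1475
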