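import Cfsg.Statements.S1480
import Cfsg.Agent.Lib.TwoGroups.Transitivity

set_option autoImplicit false
open Cfsg
open scoped commutatorElement

namespace Cfsg.Agent.S1480

/-- Let G be a finite group and p a prime such that the normalizer of every nontrivial p-subgroup of G is p-constrained; if p = 2 assume also that the Sylow 2-subgroups of G have nilpotency class at most 2. Let E be an abelian p-subgroup containing an elementary abelian subgroup of order p ^ 3 and containing every element of p-power order of C_G(E). Then for every prime q ≠ p, any two maximal E-invariant q-subgroups of G are conjugate by an element of O_{p'}(C_G(E)). -/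
theorem result {G : Type*} [Group G] [Finite G] (p : ℕ) [Fact p.Prime]
    (hloc : ∀ T : Subgroup G, IsPGroup p T → T ≠ ⊥ → Cfsg.IsPConstrained p ↥(Subgroup.normalizer (T : Set G)))
    (h2 : p = 2 → ∀ S : Sylow p G, Group.IsNilpotent (S : Subgroup G) ∧ Group.nilpotencyClass (S : Subgroup G) ≤ 2)
    (E : Subgroup G) (hEp : IsPGroup p E) (hEc : IsMulCommutative E) (hE3 : ¬ Cfsg.PRankLE p 2 E)
    (hEfull : ∀ x ∈ Subgroup.centralizer (E : Set G), IsPGroup p (Subgroup.zpowers x) → x ∈ E)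
    (q : ℕ) [Fact q.Prime] (hqp : q ≠ p) :
    ∀ Q₁ ∈ Cfsg.maxInvSubgroups ⊤ E {q}, ∀ Q₂ ∈ Cfsg.maxInvSubgroups ⊤ E {q},
        ∃ k ∈ Cfsg.piCoreOf (Cfsg.primesNotDvd p) (Subgroup.centralizer (E : Set G)), Q₂ = Q₁.map (MulAut.conj k).toMonoidHom := by
  obtain ⟨A, hA, hAE, hA3⟩ : ∃ A : Subgroup G, Cfsg.IsElementaryAbelian p A ∧ A ≤ E ∧ p ^ 3 ≤ Nat.card A := by
    simp only [Cfsg.PRankLE, not_forall, not_le] at hE3
    obtain ⟨B, hBc, hBp, hB⟩ := hE3
    refine ⟨B.map E.subtype, ⟨inferInstance, ?_⟩, Subgroup.map_subtype_le _, ?_⟩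
    · rintro _ ⟨b, hb, rfl⟩
      rw [← map_pow, hBp b hb, map_one]
    · rw [Subgroup.card_map_of_injective E.subtype_injective]
      obtain ⟨k, hk⟩ := IsPGroup.iff_card.mp (hEp.to_subgroup B)
      rw [hk] at hB ⊢
      exact Nat.pow_le_pow_right (Fact.out : p.Prime).pos
        ((Nat.pow_lt_pow_iff_right (Fact.out : p.Prime).one_lt).mp hB)
  intro Q₁ hQ₁ Q₂ hQ₂
  have hmax : ∀ Q ∈ Cfsg.maxInvSubgroups ⊤ E {q}, CfsgLib.TwoGroups.Transitivity.IsMaxInv E q Q := by
    rintro Q ⟨⟨-, hQq, hQE⟩, hQm⟩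
    refine ⟨?_, hQE, fun R hR hRE hle => hQm R ⟨le_top, fun r hr hrd => ?_, hRE⟩ hle⟩
    · refine IsPGroup.of_card (n := (Nat.card Q).primeFactorsList.length)
        (Nat.eq_prime_pow_of_unique_prime_dvd Nat.card_pos.ne' (fun {d} hd hdd => hQq d hd hdd))
    · obtain ⟨k, hk⟩ := IsPGroup.iff_card.mp hR
      rw [hk] at hrd
      exact (Nat.prime_dvd_prime_iff_eq hr Fact.out).mp (hr.dvd_of_dvd_pow hrd)
  suffices hsig : ∀ a ∈ A, a ≠ 1 → ∀ Q : Subgroup ↥(Subgroup.normalizer (Subgroup.zpowers a : Set G)),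
      ¬ p ∣ Nat.card Q → E.subgroupOf (Subgroup.normalizer (Subgroup.zpowers a : Set G)) ≤
        Subgroup.normalizer (Q : Set ↥(Subgroup.normalizer (Subgroup.zpowers a : Set G))) →
        Q ≤ Cfsg.pPrimeCore p ↥(Subgroup.normalizer (Subgroup.zpowers a : Set G)) by
    obtain ⟨c, hc, he⟩ := CfsgLib.TwoGroups.Transitivity.transitivity_piCore hqp hEp hEc hAE hA hA3 hsig (hmax Q₁ hQ₁) (hmax Q₂ hQ₂)
    exact ⟨c, hc, he.symm⟩
  intro a ha ha1
  set N := Subgroup.normalizer (Subgroup.zpowers a : Set G) with hN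
  intro Q hQ hEQ
  have hcon := hloc _ (hEp.to_le (Subgroup.zpowers_le.mpr (hAE ha)))
    (fun h => ha1 (Subgroup.zpowers_eq_bot.mp h))
  have hEp' : IsPGroup p (E.subgroupOf N) :=
    hEp.of_injective ((N.subtype.comp (E.subgroupOf N).subtype).codRestrict E fun x => x.2)
      fun x y h => Subtype.ext (Subtype.ext (congrArg (fun z : E => (z : G)) h))
  have hEN : E ≤ N := fun e he => Subgroup.centralizer_le_normalizer _
    (Subgroup.mem_centralizer_iff.mpr fun y hy =>
      congrArg Subtype.val (hEc.is_comm.comm (⟨y, Subgroup.zpowers_le.mpr (hAE ha) hy⟩ : E) ⟨e, he⟩))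
  have hcen : ∀ x : ↥N, x ∈ Subgroup.centralizer (E.subgroupOf N : Set ↥N) →
      (x : G) ∈ Subgroup.centralizer (E : Set G) := fun x hx =>
    Subgroup.mem_centralizer_iff.mpr fun e he =>
      congrArg Subtype.val (Subgroup.mem_centralizer_iff.mp hx ⟨e, hEN he⟩ he)
  by_cases hp2 : p = 2
  · refine CfsgLib.TwoGroups.Transitivity.le_pPrimeCore_of_class_two p hcon ?_ _ hEp'
      (fun x hx hxp => hEfull x (hcen x hx) ?_) Q hQ hEQ
    · intro S hS x hx y hy z hz
      obtain ⟨T, hT⟩ := (hS.map N.subtype).exists_le_sylow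
      obtain ⟨hnil, hcl⟩ := h2 hp2 T
      have hlc := Subgroup.lowerCentralSeries_eq_bot_iff_nilpotencyClass_le.mpr hcl
      have h0 : ∀ u v w : ↥(T : Subgroup G), ⁅⁅u, v⁆, w⁆ = (1 : ↥(T : Subgroup G)) := fun u v w => by
        rw [← Subgroup.mem_bot, ← hlc]
        exact Subgroup.commutator_mem_commutator (Subgroup.commutator_mem_commutator
          (Subgroup.mem_top u) (Subgroup.mem_top v)) (Subgroup.mem_top w)
      have h1 := congrArg Subtype.val (h0 ⟨(x : G), hT ⟨x, hx, rfl⟩⟩ ⟨(y : G), hT ⟨y, hy, rfl⟩⟩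
        ⟨(z : G), hT ⟨z, hz, rfl⟩⟩)
      refine Subtype.ext ?_
      simpa [commutatorElement_def] using h1
    · have h := hxp.map N.subtype
      rwa [MonoidHom.map_zpowers] at h
  · refine Cfsg.Agent.S1302.result p hp2 hcon _
      ⟨⟨fun u v => Subtype.ext (Subtype.ext (congrArg (fun z : E => (z : G))
        (hEc.is_comm.comm (⟨u.1.1, u.2⟩ : E) ⟨v.1.1, v.2⟩)))⟩⟩ hEp'
      (fun x hx hxo => hEfull x (hcen x hx) ?_) Q hQ hEQ
    refine IsPGroup.of_card (n := 1) ?_
    rw [Nat.card_zpowers, Subgroup.orderOf_coe, hxo, pow_one]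

end Cfsg.Agent.S1480
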