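import Cfsg.Statements.S1481
import Cfsg.Agent.Lib.TwoGroups.Bender

set_option autoImplicit false
open Cfsg

namespace Cfsg.Agent.S1481

/-- Let G be a finite group and H a local subgroup (the normalizer of a nontrivial subgroup of prime-power order) not properly contained in any local subgroup; let F = F(H), suppose at least two primes divide #F, put X = H ∩ C_G(F), let M ≤ F with F ∩ C_G(M) ≤ M, and let R be a solvable subgroup normalized by M and by X. Then for every prime q not dividing #F there is exactly one maximal M-invariant q-subgroup of R, and it is a Sylow q-subgroup of the largest normal subgroup of R of order coprime to #F. -/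
theorem result {G : Type*} [Group G] [Finite G] (H : Subgroup G) (hH : Cfsg.IsLocalSubgroup H) (hHmax : ∀ L : Subgroup G, Cfsg.IsLocalSubgroup L → H ≤ L → L = H)
    (hF2 : 2 ≤ (Nat.card (Cfsg.fittingOf H)).primeFactors.card)
    (M : Subgroup G) (hM : M ≤ Cfsg.fittingOf H) (hCM : Cfsg.fittingOf H ⊓ Subgroup.centralizer (M : Set G) ≤ M)
    (R : Subgroup G) (hR : Group.IsSolvable R) (hMR : M ≤ Subgroup.normalizer (R : Set G))
    (hXR : H ⊓ Subgroup.centralizer (Cfsg.fittingOf H : Set G) ≤ Subgroup.normalizer (R : Set G))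
    (q : ℕ) [Fact q.Prime] (hq : ¬ q ∣ Nat.card (Cfsg.fittingOf H)) :
    ∃! Q : Subgroup G, Q ∈ Cfsg.maxInvSubgroups R M {q} ∧
      (∀ Q' : Subgroup G, Q' ∈ Cfsg.maxInvSubgroups R M {q} →
        Q' ≤ Cfsg.piCoreOf (Cfsg.primesNotDvd (Nat.card (Cfsg.fittingOf H))) R ∧
        ¬ q ∣ Q'.relIndex (Cfsg.piCoreOf (Cfsg.primesNotDvd (Nat.card (Cfsg.fittingOf H))) R)) := by
  have hZH : ∀ r : ℕ, r.Prime → r ∣ Nat.card (Cfsg.fittingOf H) →
      Subgroup.centralizer (CfsgLib.TwoGroups.Bender.zPart r H : Set G) ≤ H := by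
    intro r hr hd
    have := Fact.mk hr
    exact (Subgroup.centralizer_le_normalizer _).trans (le_of_eq (hHmax _
      ⟨r, _, hr, CfsgLib.TwoGroups.Bender.isPGroup_zPart r H, CfsgLib.TwoGroups.Bender.zPart_ne_bot hd, rfl⟩
      (CfsgLib.TwoGroups.Bender.le_normalizer_zPart r H)))
  obtain ⟨Q, hQR, hQ, hMQ, hlarge, hQU, hidx⟩ :=
    CfsgLib.TwoGroups.Bender.exists_largest hF2 hq hZH hM hCM hR hMR hXR
  have hpi : ∀ Y : Subgroup G, IsPGroup q Y → ∀ r : ℕ, r.Prime → r ∣ Nat.card Y → r ∈ ({q} : Set ℕ) := by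
    intro Y hY r hr hrd
    obtain ⟨k, hk⟩ := IsPGroup.iff_card.mp hY
    rw [hk] at hrd
    exact (Nat.prime_dvd_prime_iff_eq hr Fact.out).mp (hr.dvd_of_dvd_pow hrd)
  have hpg : ∀ Y : Subgroup G, Y ∈ Cfsg.invSubgroups R M {q} → IsPGroup q Y := fun Y hY =>
    IsPGroup.of_card (n := (Nat.card Y).primeFactorsList.length)
      (Nat.eq_prime_pow_of_unique_prime_dvd Nat.card_pos.ne' (fun {d} hd hdd => hY.2.1 d hd hdd))
  have hQmax : Q ∈ Cfsg.maxInvSubgroups R M {q} :=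
    ⟨⟨hQR, hpi Q hQ, hMQ⟩, fun Y hY hle => le_antisymm (hlarge Y hY.1 (hpg Y hY) hY.2.2) hle⟩
  have huniq : ∀ Y ∈ Cfsg.maxInvSubgroups R M {q}, Y = Q := fun Y hY =>
    (hY.2 Q hQmax.1 (hlarge Y hY.1.1 (hpg Y hY.1) hY.1.2.2)).symm
  refine ⟨Q, ⟨hQmax, fun Y hY => ?_⟩, fun Y hY => huniq Y hY.1⟩
  rw [huniq Y hY]
  exact ⟨hQU, hidx⟩

end Cfsg.Agent.S1481
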