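import Cfsg.Statements.S1486
import Mathlib
import Cfsg.Agent.Lib.Char.Exceptional.NormalInd

set_option autoImplicit false
open Cfsg

namespace Cfsg.Agent.S1486

/-- Let H be a normal subgroup of the finite group G and θ, φ irreducible characters of H. If φ is a G-conjugate of θ then the functions induced from θ and φ coincide; if φ is not a G-conjugate of θ then the induced functions are orthogonal. -/
theorem result {G : Type*} [Group G] [Fintype G] (H : Subgroup G) [hN : H.Normal] (θ φ : H → ℂ) (hθ : Cfsg.IsIrrCharacter H θ) (hφ : Cfsg.IsIrrCharacter H φ) : ((∃ g : G, φ = fun h : H => θ ⟨g * h * g⁻¹, hN.conj_mem h h.2 g⟩) → Cfsg.indFun H φ = Cfsg.indFun H θ) ∧ ((¬ ∃ g : G, φ = fun h : H => θ ⟨g * h * g⁻¹, hN.conj_mem h h.2 g⟩) → Cfsg.classInner (Cfsg.indFun H φ) (Cfsg.indFun H θ) = 0) := by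
  classical
  haveI := Fintype.ofFinite H
  refine ⟨?_, fun hne => ?_⟩
  · rintro ⟨g, rfl⟩
    exact CfsgLib.Char.Exceptional.indFun_cjFun H g θ
  · rw [CfsgLib.Char.Exceptional.classInner_indFun_normal, Finset.sum_eq_zero, mul_zero]
    intro g _
    exact CfsgLib.Char.Exceptional.classInner_eq_zero_of_irr hφ
      (CfsgLib.Char.Exceptional.isIrr_cjFun H g hθ) fun h => hne ⟨g, h⟩

end Cfsg.Agent.S1486
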