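import Cfsg.Statements.S1490
import Cfsg.Agent.Lib.Char.AbelianInertia

set_option autoImplicit false
open Cfsg

namespace Cfsg.Agent.S1490

/-- Let H be a normal subgroup of the finite group G, θ an irreducible character of H with inertia group T, and suppose the commutator of any two elements of T lies in H (T/H abelian). Then there are a positive integer e and a finite set C of irreducible characters of G with e ^ 2 * |C| * |H| = |T|, such that the function induced from θ is e times the sum of the members of C and every member of C has degree [G:T] * e * θ(1). -/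
theorem result {G : Type*} [Group G] [Fintype G] (H T : Subgroup G) [hN : H.Normal] (θ : H → ℂ) (hθ : Cfsg.IsIrrCharacter H θ) (hT : ∀ g : G, g ∈ T ↔ ∀ h : H, θ ⟨g * h * g⁻¹, hN.conj_mem h h.2 g⟩ = θ h) (hab : ∀ x ∈ T, ∀ y ∈ T, x * y * x⁻¹ * y⁻¹ ∈ H) : ∃ (e : ℕ) (C : Finset (G → ℂ)), 0 < e ∧ (∀ χ ∈ C, Cfsg.IsIrrCharacter G χ) ∧ e ^ 2 * C.card * Nat.card H = Nat.card T ∧ Cfsg.indFun H θ = (e : ℂ) • ∑ χ ∈ C, χ ∧ ∀ χ ∈ C, χ 1 = (T.index : ℂ) * e * θ 1 := by
  classical
  have := Fintype.ofFinite H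
  have := Fintype.ofFinite T
  have hT' : ∀ g, g ∈ T ↔ CfsgLib.Clifford.conjFn hN θ g = θ := fun g =>
    (hT g).trans funext_iff.symm
  have hle : H ≤ T := by
    rw [CfsgLib.Clifford.eq_inertia hN hT']
    exact CfsgLib.Clifford.le_inertia hN (CfsgLib.Char.IsIrr.isClassFunction hθ)
  have hne : Cfsg.indFun H θ ≠ 0 := fun h => by
    have h1 := congrFun h 1
    rw [CfsgLib.Char.indFun_apply_one, Pi.zero_apply, mul_eq_zero] at h1
    exact h1.elim (Nat.cast_ne_zero.mpr Subgroup.index_ne_zero_of_finite)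
      (CfsgLib.Char.IsIrr.apply_one_ne_zero hθ)
  obtain ⟨χ, hχ⟩ :=
    CfsgLib.Clifford.exists_constituent (CfsgLib.Char.isClassFunction_indFun H θ) hne
  rw [CfsgLib.Char.frobenius_reciprocity H θ (CfsgLib.Char.IsIrr.isClassFunction χ.2),
    ← CfsgLib.Char.classInner_conj_symm, ne_eq, map_eq_zero] at hχ
  obtain ⟨ψ, hψ, hψc, -, -⟩ := CfsgLib.Clifford.exists_over_inertia hN hθ hT' hle χ hχ
  obtain ⟨e, he⟩ := CfsgLib.Char.IsChar.classInner_eq_natCast
    (CfsgLib.Clifford.isCharacter_resTo hle (CfsgLib.Char.IsIrr.isCharacter hψ))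
    (CfsgLib.Char.IsIrr.isCharacter hθ)
  have he0 : 0 < e := Nat.pos_of_ne_zero fun h => hψc (by rw [he, h, Nat.cast_zero])
  have hres := CfsgLib.Clifford.resTo_eq_smul hN hle hθ (fun t ht => (hT' t).mp ht) hψ hψc
  rw [he] at hres
  obtain ⟨C, h⟩ :=
    CfsgLib.Clifford.indFun_of_abelian_inertia hN hθ hle hT' hab hψ he0 hres
  exact ⟨e, C, he0, h⟩

end Cfsg.Agent.S1490
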