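import Cfsg.Statements.S1491
import Cfsg.Agent.Lib.Char.AbelianInertia
import Cfsg.Agent.Lib.Char.Central

set_option autoImplicit false
open Cfsg

namespace Cfsg.Agent.S1491

/-- Let H be a normal subgroup of the finite group G and θ an irreducible character of H with inertia group T, where T/H is abelian (commutators of T lie in H) and the index of H in T is coprime to the order of H. Then the function induced from θ is the sum of a set of exactly [T:H] irreducible characters of G, each of degree [G:T] * θ(1). -/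
theorem result {G : Type*} [Group G] [Fintype G] (H T : Subgroup G) [hN : H.Normal] (θ : H → ℂ) (hθ : Cfsg.IsIrrCharacter H θ) (hT : ∀ g : G, g ∈ T ↔ ∀ h : H, θ ⟨g * h * g⁻¹, hN.conj_mem h h.2 g⟩ = θ h) (hab : ∀ x ∈ T, ∀ y ∈ T, x * y * x⁻¹ * y⁻¹ ∈ H) (hcop : Nat.Coprime (Nat.card H) (H.relIndex T)) : ∃ C : Finset (G → ℂ), (∀ χ ∈ C, Cfsg.IsIrrCharacter G χ) ∧ C.card = H.relIndex T ∧ Cfsg.indFun H θ = ∑ χ ∈ C, χ ∧ ∀ χ ∈ C, χ 1 = (T.index : ℂ) * θ 1 := by
  classical
  have := Fintype.ofFinite H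
  have := Fintype.ofFinite T
  have hT' : ∀ g, g ∈ T ↔ CfsgLib.Clifford.conjFn hN θ g = θ := fun g =>
    (hT g).trans funext_iff.symm
  have hle : H ≤ T := by
    rw [CfsgLib.Clifford.eq_inertia hN hT']
    exact CfsgLib.Clifford.le_inertia hN (CfsgLib.Char.IsIrr.isClassFunction hθ)
  let M := H.subgroupOf T
  have hM : M.Normal := hN.subgroupOf T
  let f : M ≃* H := Subgroup.subgroupOfEquivOfLe hle
  obtain ⟨m, σ, hσirr, hσ⟩ := CfsgLib.Char.IsIrr.comp_surjective f.toMonoidHom f.surjective hθ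
  have := hσirr
  have hcard : Nat.card M = Nat.card H := Nat.card_congr f.toEquiv
  have hidx : M.index = H.relIndex T := rfl
  have hcop' : (orderOf (CfsgLib.CharExt.detHom σ) * Module.finrank ℂ (Fin m → ℂ)).Coprime
      M.index := by
    rw [hidx, Nat.coprime_mul_iff_left]
    refine ⟨hcop.coprime_dvd_left ?_, hcop.coprime_dvd_left ?_⟩
    · rw [← hcard]
      exact orderOf_dvd_of_pow_eq_one (CfsgLib.CharExt.hom_pow_card _)
    · rw [← hcard]
      exact CfsgLib.CharIntegral.finrank_dvd_card σ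
  obtain ⟨ρ, hρ⟩ := CfsgLib.CharExt.exists_extension_coprime σ (fun g x => by
    rw [hσ]
    exact congrFun ((hT' g).mp g.2) (f x)) hcop'
  have := CfsgLib.CharExt.isIrreducible_of_restrict ρ M.subtype σ hρ
  have hres : CfsgLib.Clifford.resTo hle ρ.character = ((1 : ℕ) : ℂ) • θ := by
    rw [Nat.cast_one, one_smul]
    funext x
    refine (?_ : ρ.character ((f.symm x : M) : T) = _)
    show LinearMap.trace ℂ _ (ρ _) = _
    rw [hρ]
    exact (congrFun hσ (f.symm x)).trans (congrArg θ (f.apply_symm_apply x))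
  obtain ⟨C, h1, h2, h3, h4⟩ := CfsgLib.Clifford.indFun_of_abelian_inertia hN hθ hle hT' hab
    (CfsgLib.Char.isIrrCharacter_rep ρ) Nat.one_pos hres
  refine ⟨C, h1, ?_, by rw [h3, Nat.cast_one, one_smul], fun χ hχ => by
    rw [h4 χ hχ, Nat.cast_one, mul_one]⟩
  rw [one_pow, one_mul] at h2
  have h5 := M.card_mul_index
  rw [hcard, hidx, ← h2, mul_comm C.card] at h5
  exact (Nat.eq_of_mul_eq_mul_left Nat.card_pos h5).symm

end Cfsg.Agent.S1491
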