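import Cfsg.Statements.S1492
import Mathlib
import Cfsg.Agent.Lib.Char.Exceptional.NormalInd

set_option autoImplicit false
open Cfsg

namespace Cfsg.Agent.S1492

/-- Let ψ be an irreducible character of the finite group G and B ≤ D ≤ C subgroups with B normal in C, every commutator of an element of D with an element of C lying in B (so D/B is central in C/B), and ψ constant equal to ψ 1 on B. Then ψ(1) ^ 2 * |C| * |D| ≤ |G| ^ 2. -/
theorem result {G : Type*} [Group G] [Finite G] (ψ : G → ℂ) (hψ : Cfsg.IsIrrCharacter G ψ) (B C D : Subgroup G) (hBD : B ≤ D) (hDC : D ≤ C) (hBn : ∀ c ∈ C, ∀ b ∈ B, c * b * c⁻¹ ∈ B) (hcent : ∀ d ∈ D, ∀ c ∈ C, d * c * d⁻¹ * c⁻¹ ∈ B) (hker : ∀ b ∈ B, ψ b = ψ 1) : ‖ψ 1‖ ^ 2 * (Nat.card C : ℝ) * (Nat.card D : ℝ) ≤ (Nat.card G : ℝ) ^ 2 := by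
  classical
  haveI := Fintype.ofFinite G
  obtain ⟨θ, hθ, hle, hθker⟩ := CfsgLib.Char.Exceptional.exists_constituent_with_ker hψ C
  have hBC : B ≤ C := hBD.trans hDC
  haveI : (B.subgroupOf C).Normal := ⟨fun b hb c => Subgroup.mem_subgroupOf.2
    (hBn c c.2 b (Subgroup.mem_subgroupOf.1 hb))⟩
  obtain ⟨η, hη⟩ := CfsgLib.CharDegree.exists_infl (B.subgroupOf C) ⟨θ, hθ⟩
    (fun b hb => hθker b (hker _ (Subgroup.mem_subgroupOf.1 hb)))
  set π := QuotientGroup.mk' (B.subgroupOf C)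
  set Z := (D.subgroupOf C).map π with hZ
  have hZc : Z ≤ Subgroup.center (C ⧸ B.subgroupOf C) := by
    rintro _ ⟨d, hd, rfl⟩
    rw [Subgroup.mem_center_iff]
    intro q
    obtain ⟨c, rfl⟩ := QuotientGroup.mk'_surjective _ q
    have hm : d * c * d⁻¹ * c⁻¹ ∈ B.subgroupOf C := Subgroup.mem_subgroupOf.2
      (by simpa using hcent d (Subgroup.mem_subgroupOf.1 hd) c c.2)
    have h1 : π (d * c * d⁻¹ * c⁻¹) = 1 := (QuotientGroup.eq_one_iff _).2 hm
    rw [map_mul, map_mul, map_mul, map_inv, map_inv, mul_inv_eq_one, mul_inv_eq_iff_eq_mul] at h1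
    exact h1.symm
  have hsq := CfsgLib.CharDegree.sq_charDegree_mul_card_le η Z hZc
  have hdeg : ((Cfsg.charDegree (η : (C ⧸ B.subgroupOf C) → ℂ) : ℕ) : ℂ) = θ 1 := by
    have h := congrArg (fun f : Cfsg.IrrCharacter C => (f : C → ℂ) 1) hη
    simp only [CfsgLib.CharDegree.infl_apply, QuotientGroup.mk_one] at h
    rw [CfsgLib.CharDegree.cast_irrDegree]
    first | exact h | exact h.symm
  set d := Cfsg.charDegree (η : (C ⧸ B.subgroupOf C) → ℂ)
  have hD' : Nat.card (D.subgroupOf C) = Nat.card Z * Nat.card (B.subgroupOf C) := by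
    have h1 := ((B.subgroupOf C).subgroupOf (D.subgroupOf C)).card_mul_index
    have hle' : B.subgroupOf C ≤ D.subgroupOf C := fun x hx =>
      Subgroup.mem_subgroupOf.2 (hBD (Subgroup.mem_subgroupOf.1 hx))
    rw [Nat.card_congr (Subgroup.subgroupOfEquivOfLe hle').toEquiv] at h1
    rw [← h1, mul_comm]
    congr 1
    have hr : (π.comp (D.subgroupOf C).subtype).range = Z := by
      rw [hZ, MonoidHom.range_comp, Subgroup.range_subtype]
    have hk : (π.comp (D.subgroupOf C).subtype).ker = (B.subgroupOf C).subgroupOf (D.subgroupOf C) := by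
      ext x
      rw [MonoidHom.mem_ker, Subgroup.mem_subgroupOf, MonoidHom.comp_apply, Subgroup.coe_subtype]
      exact QuotientGroup.eq_one_iff _
    rw [Subgroup.index, ← hk, ← hr]
    exact Nat.card_congr (QuotientGroup.quotientKerEquivRange _).toEquiv
  have hD'' : Nat.card D = Nat.card Z * Nat.card (B.subgroupOf C) := by
    rw [← hD', Nat.card_congr (Subgroup.subgroupOfEquivOfLe hDC).toEquiv]
  have hC : Nat.card C = Nat.card (C ⧸ B.subgroupOf C) * Nat.card (B.subgroupOf C) :=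
    Subgroup.card_eq_card_quotient_mul_card_subgroup _
  have h2 : d ^ 2 * Nat.card D ≤ Nat.card C := by
    rw [hD'', hC, ← mul_assoc]
    exact Nat.mul_le_mul_right _ hsq
  obtain ⟨n, -, hn⟩ := CfsgLib.Char.IsIrr.exists_degree hψ
  rw [← hdeg, hn, Complex.natCast_re, Complex.natCast_re] at hle
  have hle' : n ≤ C.index * d := by exact_mod_cast hle
  have hmain : n ^ 2 * Nat.card C * Nat.card D ≤ Nat.card G ^ 2 := by
    calc n ^ 2 * Nat.card C * Nat.card D ≤ (C.index * d) ^ 2 * Nat.card C * Nat.card D := by gcongr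
      _ = C.index ^ 2 * Nat.card C * (d ^ 2 * Nat.card D) := by ring
      _ ≤ C.index ^ 2 * Nat.card C * Nat.card C := by gcongr
      _ = Nat.card G ^ 2 := by rw [← C.card_mul_index]; ring
  rw [hn, Complex.norm_natCast]
  exact_mod_cast hmain

end Cfsg.Agent.S1492
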