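import Cfsg.Statements.S1494
import Cfsg.Agent.Lib.Char.Virtual
import Cfsg.Agent.Lib.Char.Monomial
import Mathlib.RingTheory.RootsOfUnity.Complex

set_option autoImplicit false
open Cfsg
open CfsgLib.Char

namespace Cfsg.Agent.S1494

/-- Let χ be a generalized character of the finite group G, p a prime, x an element of order p and y an element commuting with x. Then χ(x * y) − χ(y) = (1 − ε) * ω for some algebraic integer ω, where ε = exp(2πi/p). -/
theorem result {G : Type*} [Group G] [Finite G] (χ : G → ℂ) (hχ : Cfsg.IsGeneralizedCharacter G χ) (p : ℕ) (hp : p.Prime) (x y : G) (hx : orderOf x = p) (hxy : x * y = y * x) : ∃ ω : ℂ, IsIntegral ℤ ω ∧ χ (x * y) - χ y = (1 - Complex.exp (2 * Real.pi * Complex.I / p)) * ω := by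
  classical
  set ε : ℂ := Complex.exp (2 * Real.pi * Complex.I / p) with hε
  set A : Subgroup G := Subgroup.closure {x, y}
  have := Fintype.ofFinite (Cfsg.IrrCharacter A)
  have := Fintype.ofFinite A
  have hcomm : ∀ a b : A, a * b = b * a := by
    have hAc := Subgroup.isMulCommutative_closure (G := G) (k := {x, y}) (by
      rintro a (rfl | rfl) b (rfl | rfl) <;> first | rfl | exact hxy | exact hxy.symm)
    exact fun a b => hAc.is_comm.comm a b
  let x' : A := ⟨x, Subgroup.subset_closure (by simp)⟩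
  let y' : A := ⟨y, Subgroup.subset_closure (by simp)⟩
  obtain ⟨c, hc⟩ := IsGen.exists_sum (IsGen.restrict A hχ)
  have hprim : IsPrimitiveRoot ε p := Complex.isPrimitiveRoot_exp p hp.ne_zero
  have hεint : IsIntegral ℤ ε := IsIntegral.of_pow hp.pos (by rw [hprim.pow_eq_one]; exact isIntegral_one)
  have hterm : ∀ lam : Cfsg.IrrCharacter A, ∃ ω : ℂ, IsIntegral ℤ ω ∧
      (lam : A → ℂ) (x' * y') - (lam : A → ℂ) y' = (1 - ε) * ω := by
    intro lam
    obtain ⟨d, ρ, hρ, hρl⟩ := lam.2
    have h1 : (lam : A → ℂ) 1 = 1 := by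
      rw [← hρl, Representation.char_one, CfsgLib.Clifford.finrank_eq_one_of_commute ρ (fun a b => by rw [Commute, SemiconjBy, ← map_mul, ← map_mul, hcomm]), Nat.cast_one]
    obtain ⟨l, hl⟩ := exists_linear_of_degree_one (IsIrr.isCharacter lam.2) h1
    have hlp : (l x' : ℂ) ^ p = 1 := by
      rw [← Units.val_pow_eq_pow_val, ← map_pow,
        show x' ^ p = 1 from Subtype.ext (by
          rw [Subgroup.coe_pow, Subgroup.coe_one]
          exact hx ▸ pow_orderOf_eq_one x), map_one, Units.val_one]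
    have : NeZero p := ⟨hp.ne_zero⟩
    obtain ⟨i, -, hi⟩ := hprim.eq_pow_of_pow_eq_one hlp
    refine ⟨-(∑ j ∈ Finset.range i, ε ^ j) * (lam : A → ℂ) y', ?_, ?_⟩
    · exact (IsIntegral.sum _ fun j _ => hεint.pow j).neg.mul
        (IsChar.isIntegral (IsIrr.isCharacter lam.2) y')
    · simp only [hl, map_mul, Units.val_mul]
      rw [← hi]
      linear_combination (-(l y' : ℂ)) * geom_sum_mul ε i
  choose ω hω hωe using hterm
  refine ⟨∑ lam, (c lam : ℂ) * ω lam,
    IsIntegral.sum _ fun lam _ => isIntegral_algebraMap.mul (hω lam), ?_⟩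
  have hv : ∀ a : A, χ a = ∑ lam, (c lam : ℂ) * (lam : A → ℂ) a := fun a => by
    have := congrFun hc a
    simpa using this
  calc χ (x * y) - χ y = χ ((x' * y' : A) : G) - χ (y' : G) := rfl
    _ = ∑ lam, (c lam : ℂ) * ((lam : A → ℂ) (x' * y') - (lam : A → ℂ) y') := by
        rw [hv, hv, ← Finset.sum_sub_distrib]; simp [mul_sub]
    _ = _ := by
        rw [Finset.mul_sum]
        exact Finset.sum_congr rfl fun lam _ => by rw [hωe]; ring

end Cfsg.Agent.S1494
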