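import Cfsg.Statements.S1496
import Mathlib
import Cfsg.Agent.Lib.Char.Exceptional.Dade

set_option autoImplicit false
open Cfsg

namespace Cfsg.Agent.S1496

/-- Let H be a subgroup of the finite group G and g an element normalising H whose order is coprime to the order of H. Then for every h ∈ H there are x ∈ H and c ∈ H commuting with g such that x * (h * g) * x⁻¹ = c * g. -/
theorem result {G : Type*} [Group G] [Finite G] (H : Subgroup G) (g : G) (hg : g ∈ Subgroup.normalizer (H : Set G)) (hcop : Nat.Coprime (orderOf g) (Nat.card H)) (h : G) (hh : h ∈ H) : ∃ x ∈ H, ∃ c ∈ H, c * g = g * c ∧ x * (h * g) * x⁻¹ = c * g := by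
  classical
  haveI := Fintype.ofFinite G
  let C : Subgroup G := H ⊓ Subgroup.centralizer ({g} : Set G)
  have hCg : ∀ c ∈ C, c * g = g * c := fun c hc =>
    (CfsgLib.Char.Exceptional.mem_centralizer_singleton.1 hc.2).symm
  have hconjH : ∀ y : G, y ∈ H → g * y * g⁻¹ ∈ H := fun y hy =>
    (Subgroup.mem_set_normalizer_iff.1 hg y).1 hy
  obtain ⟨n, hn⟩ := CfsgLib.Char.Exceptional.exists_pow_select hcop (orderOf_pos g).ne' Nat.card_pos.ne'
  have hsel : ∀ c ∈ C, (c * g) ^ n = g := fun c hc => by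
    rw [hCg c hc]
    exact hn g c (hCg c hc).symm (pow_orderOf_eq_one g)
      (orderOf_dvd_iff_pow_eq_one.1 (Subgroup.orderOf_dvd_natCard _ hc.1))
  let f : H × C → G := fun z => (z.1 : G) * ((z.2 : G) * g) * (z.1 : G)⁻¹
  let tgt : Finset G := (Finset.univ : Finset H).image (fun y : H => (y : G) * g)
  have htgt : tgt.card = Nat.card H := by
    rw [Finset.card_image_of_injective _ (fun a b e => Subtype.ext (mul_right_cancel e)),
      Finset.card_univ, Nat.card_eq_fintype_card]
  have hmem : ∀ z : H × C, f z ∈ tgt := fun z => by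
    refine Finset.mem_image.2 ⟨⟨(z.1 : G) * (z.2 : G) * (g * (z.1 : G)⁻¹ * g⁻¹),
      H.mul_mem (H.mul_mem z.1.2 z.2.2.1) (hconjH _ (H.inv_mem z.1.2))⟩, Finset.mem_univ _, ?_⟩
    simp only [f]; group
  have hfib : ∀ t ∈ (Finset.univ : Finset (H × C)).image f,
      ((Finset.univ : Finset (H × C)).filter (fun z => f z = t)).card ≤ Nat.card C := by
    intro t ht
    obtain ⟨z₀, -, rfl⟩ := Finset.mem_image.1 ht
    have hy : ∀ z : H × C, f z = f z₀ →
        (z₀.1 : G)⁻¹ * z.1 ∈ C ∧
          (z₀.2 : G) = ((z₀.1 : G)⁻¹ * z.1) * z.2 * ((z₀.1 : G)⁻¹ * z.1)⁻¹ := by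
      intro z e
      set y : G := (z₀.1 : G)⁻¹ * z.1 with hydef
      have e' : y * ((z.2 : G) * g) * y⁻¹ = (z₀.2 : G) * g := by
        calc y * ((z.2 : G) * g) * y⁻¹ = (z₀.1 : G)⁻¹ * f z * z₀.1 := by simp only [f, hydef]; group
          _ = (z₀.1 : G)⁻¹ * f z₀ * z₀.1 := by rw [e]
          _ = _ := by simp only [f]; group
      have e'' : y * g * y⁻¹ = g := by
        conv_lhs => rw [← hsel _ z.2.2, ← conj_pow, e', hsel _ z₀.2.2]
      refine ⟨⟨H.mul_mem (H.inv_mem z₀.1.2) z.1.2,
        CfsgLib.Char.Exceptional.mem_centralizer_singleton.2 ?_⟩, ?_⟩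
      · nth_rewrite 1 [← e'']; group
      · have h3 : y * (z.2 : G) * y⁻¹ * (y * g * y⁻¹) = (z₀.2 : G) * g := by rw [← e']; group
        rw [e''] at h3
        exact (mul_right_cancel h3).symm
    have : ((Finset.univ : Finset (H × C)).filter (fun z => f z = f z₀)).card
        ≤ ((Finset.univ : Finset C).image (fun c : C => (c : G))).card := by
      refine Finset.card_le_card_of_injOn (fun z => (z₀.1 : G)⁻¹ * z.1) (fun z hz => ?_) ?_
      · exact Finset.mem_image.2 ⟨⟨_, (hy z (Finset.mem_filter.1 hz).2).1⟩, Finset.mem_univ _, rfl⟩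
      · intro z hz z' hz' e
        have e1 : z.1 = z'.1 := Subtype.ext (mul_left_cancel e)
        have p := (hy z (Finset.mem_filter.1 hz).2).2
        have p' := (hy z' (Finset.mem_filter.1 hz').2).2
        rw [← e1] at p'
        exact Prod.ext e1 (Subtype.ext (mul_left_cancel (mul_right_cancel (p.symm.trans p'))))
    refine this.trans ?_
    rw [Finset.card_image_of_injective _ Subtype.val_injective, Finset.card_univ, Nat.card_eq_fintype_card]
  have hcard := Finset.card_le_mul_card_image (s := (Finset.univ : Finset (H × C))) (f := f) _ hfib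
  rw [Finset.card_univ, Fintype.card_prod, ← Nat.card_eq_fintype_card, ← Nat.card_eq_fintype_card,
    mul_comm] at hcard
  have himg : (Finset.univ : Finset (H × C)).image f = tgt :=
    Finset.eq_of_subset_of_card_le
      (fun t ht => by obtain ⟨z, -, rfl⟩ := Finset.mem_image.1 ht; exact hmem z)
      (htgt.trans_le (Nat.le_of_mul_le_mul_left hcard Nat.card_pos))
  have : h * g ∈ tgt := Finset.mem_image.2 ⟨⟨h, hh⟩, Finset.mem_univ _, rfl⟩
  rw [← himg] at this
  obtain ⟨⟨x, c⟩, -, e⟩ := Finset.mem_image.1 this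
  refine ⟨(x : G)⁻¹, H.inv_mem x.2, (c : G), c.2.1, hCg _ c.2, ?_⟩
  rw [← e]; simp only [f]; group

end Cfsg.Agent.S1496
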