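import Cfsg.Statements.S1497
import Mathlib
import Cfsg.Agent.Lib.Char.Exceptional.Dade

set_option autoImplicit false
open Cfsg

namespace Cfsg.Agent.S1497

/-- Let A be a nonempty subset of the finite group G not containing 1 and L a subgroup. Then A is a TI-subset whose normaliser is L if and only if the Dade hypothesis holds for A, L and the constant choice H(a) = ⊥. -/
theorem result {G : Type*} [Group G] [Finite G] (A : Set G) (hA : A.Nonempty) (h1 : (1 : G) ∉ A) (L : Subgroup G) : (Cfsg.IsTISubset A ∧ Subgroup.normalizer A = L) ↔ Cfsg.DadeHypothesis A L (fun _ => ⊥) := by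
  constructor
  · rintro ⟨hTI, hN⟩
    have hconj : ∀ a ∈ A, ∀ g : G, g * a * g⁻¹ ∈ A → g ∈ L := by
      intro a ha g hg
      by_contra hgL
      exact h1 (hTI g (hN ▸ hgL) a ha hg ▸ ha)
    have hcent : ∀ a ∈ A, Subgroup.centralizer ({a} : Set G) ≤ L := fun a ha c hc =>
      hconj a ha c (by rw [← CfsgLib.Char.Exceptional.mem_centralizer_singleton.1 hc]; simpa using ha)
    exact
      { one_not_mem := h1
        subset := fun a ha => hconj a ha a (by simpa using ha)
        conj_mem := fun x hx a ha => (Subgroup.mem_set_normalizer_iff.1 (hN.symm ▸ hx) a).1 ha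
        fusion := fun a ha g hg => ⟨g, hconj a ha g hg, rfl⟩
        le_centralizer := fun a ha => bot_le
        conj_mem_H := fun a ha c hc u hu => by
          rw [Subgroup.mem_bot] at hu ⊢; simp [hu]
        inf_eq_bot := fun a ha => bot_inf_eq _
        sup_eq := fun a ha => by rw [bot_sup_eq]; exact inf_eq_right.2 (hcent a ha)
        coprime := fun a ha b hb => by simp }
  · intro hD
    have hcent : ∀ a ∈ A, Subgroup.centralizer ({a} : Set G) ≤ L := fun a ha => by
      have := hD.sup_eq a ha
      rw [bot_sup_eq] at this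
      exact inf_eq_right.1 this
    have hconj : ∀ a ∈ A, ∀ g : G, g * a * g⁻¹ ∈ A → g ∈ L := by
      intro a ha g hg
      obtain ⟨l, hl, e⟩ := hD.fusion a ha g hg
      have h2 : l⁻¹ * g ∈ Subgroup.centralizer ({a} : Set G) := by
        rw [CfsgLib.Char.Exceptional.mem_centralizer_singleton]
        calc a * (l⁻¹ * g) = l⁻¹ * (l * a * l⁻¹) * g := by group
          _ = l⁻¹ * (g * a * g⁻¹) * g := by rw [e]
          _ = _ := by group
      simpa using L.mul_mem hl (hcent a ha h2)
    have hle : L ≤ Subgroup.normalizer A := fun x hx =>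
      Subgroup.mem_set_normalizer_iff.2 fun a => (CfsgLib.Char.Exceptional.dade_mem_conj hD hx).symm
    refine ⟨fun g hg a ha hga => absurd (hle (hconj a ha g hga)) hg, le_antisymm ?_ hle⟩
    intro g hg
    obtain ⟨a, ha⟩ := hA
    exact hconj a ha g ((Subgroup.mem_set_normalizer_iff.1 hg a).1 ha)

end Cfsg.Agent.S1497
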