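import Cfsg.Statements.S1504
import Cfsg.Agent.Lib.Char.CyclicTI.Basic

set_option autoImplicit false
open Cfsg

namespace Cfsg.Agent.S1504

/-- Let W₁, W₂ be subgroups of a finite group with W₁ ⊓ W₂ = ⊥ whose elements commute, and W = W₁ ⊔ W₂. For linear characters φ, ψ of W with φ trivial on W₂ and ψ trivial on W₁, the function (1 − φ)(1 − ψ) vanishes on W₁ ∪ W₂; and the family of these functions, indexed by pairs (φ, ψ) with φ ≠ 1 ≠ ψ, is linearly independent over ℂ. -/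
theorem result {G : Type*} [Group G] [Finite G] (W₁ W₂ : Subgroup G) (hdisj : W₁ ⊓ W₂ = ⊥) (hcomm : ∀ a ∈ W₁, ∀ b ∈ W₂, a * b = b * a) : (∀ φ ψ : ↥(W₁ ⊔ W₂) →* ℂˣ, (∀ w : ↥(W₁ ⊔ W₂), (w : G) ∈ W₂ → φ w = 1) → (∀ w : ↥(W₁ ⊔ W₂), (w : G) ∈ W₁ → ψ w = 1) → ∀ w : ↥(W₁ ⊔ W₂), ((w : G) ∈ W₁ ∨ (w : G) ∈ W₂) → (1 - (φ w : ℂ) - (ψ w : ℂ) + (φ w : ℂ) * (ψ w : ℂ)) = 0) ∧ LinearIndependent ℂ (fun p : {p : (↥(W₁ ⊔ W₂) →* ℂˣ) × (↥(W₁ ⊔ W₂) →* ℂˣ) // p.1 ≠ 1 ∧ p.2 ≠ 1 ∧ (∀ w : ↥(W₁ ⊔ W₂), (w : G) ∈ W₂ → p.1 w = 1) ∧ (∀ w : ↥(W₁ ⊔ W₂), (w : G) ∈ W₁ → p.2 w = 1)} => fun w : ↥(W₁ ⊔ W₂) => 1 - (p.1.1 w : ℂ) - (p.1.2 w : ℂ) + (p.1.1 w : ℂ) * (p.1.2 w : ℂ)) := by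
  classical
  refine ⟨fun φ ψ hφ hψ w hw => CfsgLib.CyclicTI.alpha_eq_zero hφ hψ hw, ?_⟩
  have := Fintype.ofFinite ↥(W₁ ⊔ W₂)
  rw [linearIndependent_iff']
  intro s c hsum p hp
  have h := congrArg (fun f => Cfsg.classInner f (fun w : ↥(W₁ ⊔ W₂) => ((p.1.1 * p.1.2) w : ℂ))) hsum
  simp only [CfsgLib.Char.classInner_sum_left, CfsgLib.Char.classInner_smul_left] at h
  have hz : Cfsg.classInner (0 : ↥(W₁ ⊔ W₂) → ℂ)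
      (fun w : ↥(W₁ ⊔ W₂) => ((p.1.1 * p.1.2) w : ℂ)) = 0 := by simp [Cfsg.classInner]
  rw [hz, Finset.sum_eq_single p] at h
  · have hone : Cfsg.classInner (fun w : ↥(W₁ ⊔ W₂) => 1 - (p.1.1 w : ℂ) - (p.1.2 w : ℂ) +
        (p.1.1 w : ℂ) * (p.1.2 w : ℂ)) (fun w => ((p.1.1 * p.1.2) w : ℂ)) = 1 := by
      refine (CfsgLib.CyclicTI.inner_alpha (φ := p.1.1) (ψ := p.1.2) (p.1.1 * p.1.2)).trans ?_
      have hne1 : (1 : ↥(W₁ ⊔ W₂) →* ℂˣ) ≠ p.1.1 * p.1.2 := fun e => p.2.1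
        ((CfsgLib.CyclicTI.mul_eq_mul_iff p.2.2.2.1 (φ' := 1) (fun _ _ => rfl) p.2.2.2.2 (ψ' := 1)
          (fun _ _ => rfl)).mp (by rw [← e, CfsgLib.CyclicTI.hom_one_mul])).1
      have hne2 : p.1.1 ≠ p.1.1 * p.1.2 := fun e => p.2.2.1
        ((CfsgLib.CyclicTI.mul_eq_mul_iff p.2.2.2.1 p.2.2.2.1 p.2.2.2.2 (ψ' := 1) (fun _ _ => rfl)).mp
          (by rw [← e, CfsgLib.CyclicTI.hom_mul_one])).2
      have hne3 : p.1.2 ≠ p.1.1 * p.1.2 := fun e => p.2.1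
        ((CfsgLib.CyclicTI.mul_eq_mul_iff p.2.2.2.1 (φ' := 1) (fun _ _ => rfl) p.2.2.2.2 p.2.2.2.2).mp
          (by rw [← e, CfsgLib.CyclicTI.hom_one_mul])).1
      rw [if_neg hne1, if_neg hne2, if_neg hne3, if_pos rfl]
      ring
    rw [hone, mul_one] at h
    exact h
  · intro q _ hq
    rw [mul_eq_zero]
    right
    refine (CfsgLib.CyclicTI.inner_alpha (φ := q.1.1) (ψ := q.1.2) (p.1.1 * p.1.2)).trans ?_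
    have one2 : ∀ w : ↥(W₁ ⊔ W₂), (w : G) ∈ W₂ → (1 : ↥(W₁ ⊔ W₂) →* ℂˣ) w = 1 := fun _ _ => rfl
    have one1 : ∀ w : ↥(W₁ ⊔ W₂), (w : G) ∈ W₁ → (1 : ↥(W₁ ⊔ W₂) →* ℂˣ) w = 1 := fun _ _ => rfl
    have a1 : (1 : ↥(W₁ ⊔ W₂) →* ℂˣ) ≠ p.1.1 * p.1.2 := fun e => p.2.1
      ((CfsgLib.CyclicTI.mul_eq_mul_iff p.2.2.2.1 one2 p.2.2.2.2 one1).mp
        (by rw [← e, CfsgLib.CyclicTI.hom_one_mul])).1
    have a2 : q.1.1 ≠ p.1.1 * p.1.2 := fun e => p.2.2.1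
      ((CfsgLib.CyclicTI.mul_eq_mul_iff p.2.2.2.1 q.2.2.2.1 p.2.2.2.2 one1).mp
        (by rw [← e, CfsgLib.CyclicTI.hom_mul_one])).2
    have a3 : q.1.2 ≠ p.1.1 * p.1.2 := fun e => p.2.1
      ((CfsgLib.CyclicTI.mul_eq_mul_iff p.2.2.2.1 one2 p.2.2.2.2 q.2.2.2.2).mp
        (by rw [← e, CfsgLib.CyclicTI.hom_one_mul])).1
    have a4 : q.1.1 * q.1.2 ≠ p.1.1 * p.1.2 := fun e => hq (Subtype.ext (Prod.ext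
      ((CfsgLib.CyclicTI.mul_eq_mul_iff q.2.2.2.1 p.2.2.2.1 q.2.2.2.2 p.2.2.2.2).mp e).1
      ((CfsgLib.CyclicTI.mul_eq_mul_iff q.2.2.2.1 p.2.2.2.1 q.2.2.2.2 p.2.2.2.2).mp e).2))
    rw [if_neg a1, if_neg a2, if_neg a3, if_neg a4]
    ring
  · exact fun hh => absurd hp hh

end Cfsg.Agent.S1504
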