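import Cfsg.Statements.S1509
import Mathlib
import Cfsg.Agent.Lib.Char.Exceptional.Virtual

set_option autoImplicit false
open Cfsg

namespace Cfsg.Agent.S1509

/-- Let α, β, γ, δ be functions on a finite group X each of which is an irreducible character or the negative of one, and u, v nonzero real numbers. Suppose ⟨α, β⟩ = ⟨γ, δ⟩ = 0, ⟨α − β, uγ − vδ⟩ = 0, α 1 = β 1 and u γ 1 = v δ 1. Then also ⟨α, γ⟩ = ⟨α, δ⟩ = ⟨β, γ⟩ = ⟨β, δ⟩ = 0. -/
theorem result {X : Type*} [Group X] [Fintype X] (α β γ δ : X → ℂ) (hα : Cfsg.IsIrrCharacter X α ∨ Cfsg.IsIrrCharacter X (-α)) (hβ : Cfsg.IsIrrCharacter X β ∨ Cfsg.IsIrrCharacter X (-β)) (hγ : Cfsg.IsIrrCharacter X γ ∨ Cfsg.IsIrrCharacter X (-γ)) (hδ : Cfsg.IsIrrCharacter X δ ∨ Cfsg.IsIrrCharacter X (-δ)) (u v : ℝ) (hu : u ≠ 0) (hv : v ≠ 0) (hab : Cfsg.classInner α β = 0) (hcd : Cfsg.classInner γ δ = 0) (hmix : Cfsg.classInner (α - β) ((u : ℂ) • γ - (v : ℂ) • δ) = 0) (h1 : α 1 = β 1) (h2 : (u : ℂ) * γ 1 = (v : ℂ) * δ 1) : Cfsg.classInner α γ = 0 ∧ Cfsg.classInner α δ =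 0 ∧ Cfsg.classInner β γ = 0 ∧ Cfsg.classInner β δ = 0 := by
  classical
  have hs : ∀ θ : X → ℂ, (Cfsg.IsIrrCharacter X θ ∨ Cfsg.IsIrrCharacter X (-θ)) →
      ∃ (a : X → ℂ) (e : ℝ), e * e = 1 ∧ Cfsg.IsIrrCharacter X a ∧ θ = (e : ℂ) • a ∧ 0 < (a 1).re := by
    rintro θ (h | h)
    · exact ⟨θ, 1, by norm_num, h, by simp, CfsgLib.Char.Exceptional.apply_one_re_pos h⟩
    · exact ⟨-θ, -1, by norm_num, h, by simp, CfsgLib.Char.Exceptional.apply_one_re_pos h⟩
  obtain ⟨a, ea, hea, ha, rfl, pa⟩ := hs α hα
  obtain ⟨b, eb, heb, hb, rfl, pb⟩ := hs β hβ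
  obtain ⟨c, ec, hec, hc, rfl, pc⟩ := hs γ hγ
  obtain ⟨d, ed, hed, hd, rfl, pd⟩ := hs δ hδ
  have hne : ∀ e : ℝ, e * e = 1 → (e : ℂ) ≠ 0 := by
    intro e he h
    rw [Complex.ofReal_eq_zero] at h
    subst h; norm_num at he
  have hI : ∀ x y : X → ℂ, Cfsg.IsIrrCharacter X x → Cfsg.IsIrrCharacter X y → ∀ e f : ℝ,
      Cfsg.classInner ((e : ℂ) • x) ((f : ℂ) • y) = (e : ℂ) * f * (if x = y then 1 else 0) := by
    intro x y hx hy e f
    rw [CfsgLib.Char.classInner_smul_left, CfsgLib.Char.classInner_smul_right,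
      CfsgLib.Char.Exceptional.classInner_of_irr hx hy, Complex.conj_ofReal, mul_assoc]
  have hab' : a ≠ b := by
    intro h
    rw [hI a b ha hb, if_pos h, mul_one] at hab
    exact mul_ne_zero (hne _ hea) (hne _ heb) hab
  have hcd' : c ≠ d := by
    intro h
    rw [hI c d hc hd, if_pos h, mul_one] at hcd
    exact mul_ne_zero (hne _ hec) (hne _ hed) hcd
  have hm : ea * u * ec * (if a = c then 1 else 0) - ea * v * ed * (if a = d then 1 else 0)
      - eb * u * ec * (if b = c then 1 else 0) + eb * v * ed * (if b = d then (1 : ℝ) else 0) = 0 := by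
    rw [smul_smul, smul_smul, ← Complex.ofReal_mul, ← Complex.ofReal_mul,
      CfsgLib.Char.classInner_sub_left, CfsgLib.Char.classInner_sub_right,
      CfsgLib.Char.classInner_sub_right, hI a c ha hc, hI a d ha hd, hI b c hb hc, hI b d hb hd] at hmix
    have h := congrArg Complex.re hmix
    split_ifs at h ⊢ <;> simp only [Complex.mul_re, Complex.mul_im, Complex.sub_re, Complex.add_re, Complex.ofReal_re, Complex.ofReal_im, Complex.one_re, Complex.one_im, Complex.zero_re, Complex.zero_im] at h ⊢ <;> linarith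
  simp only [Pi.smul_apply, smul_eq_mul] at h1 h2
  have h1' : ea * (a 1).re = eb * (b 1).re := by simpa using congrArg Complex.re h1
  have h2' : u * (ec * (c 1).re) = v * (ed * (d 1).re) := by simpa using congrArg Complex.re h2
  have heq : ea = eb := by
    rcases mul_self_eq_one_iff.1 hea with rfl | rfl <;> rcases mul_self_eq_one_iff.1 heb with rfl | rfl <;>
      first | rfl | (exfalso; linarith)
  have hea0 : ea ≠ 0 := fun h => by rw [h] at hea; norm_num at hea
  have hec0 : ec ≠ 0 := fun h => by rw [h] at hec; norm_num at hec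
  have hed0 : ed ≠ 0 := fun h => by rw [h] at hed; norm_num at hed
  subst heq
  have hz : a ≠ c ∧ a ≠ d ∧ b ≠ c ∧ b ≠ d := by
    have contra : ∀ {p q : ℝ}, 0 < p → p = q → u * (ec * p) = v * (ed * q) → u * ec = v * ed := by
      intro p q hp hpq h
      subst hpq
      exact mul_right_cancel₀ hp.ne' (by linarith [h] : u * ec * p = v * ed * p)
    have habd : (a 1).re = (b 1).re := mul_left_cancel₀ hea0 h1'
    refine ⟨fun h => ?_, fun h => ?_, fun h => ?_, fun h => ?_⟩
    · subst h
      rw [if_pos rfl, if_neg hcd', if_neg hab'.symm] at hm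
      by_cases hbd : b = d
      · subst hbd
        rw [if_pos rfl] at hm
        have := contra pc habd h2'
        have : u * ec * (2 * ea) = 0 := by linear_combination hm + ea * this
        simp [hu, hec0, hea0] at this
      · rw [if_neg hbd] at hm
        have : ea * u * ec = 0 := by linear_combination hm
        simp [hu, hec0, hea0] at this
    · subst h
      rw [if_pos rfl, if_neg hcd'.symm, if_neg hab'.symm] at hm
      by_cases hbc : b = c
      · subst hbc
        rw [if_pos rfl] at hm
        have := contra pc habd.symm h2'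
        have : v * ed * (2 * ea) = 0 := by linear_combination -hm - ea * this
        simp [hv, hed0, hea0] at this
      · rw [if_neg hbc] at hm
        have : ea * v * ed = 0 := by linear_combination -hm
        simp [hv, hed0, hea0] at this
    · subst h
      rw [if_pos rfl, if_neg hcd', if_neg hab'] at hm
      by_cases had : a = d
      · subst had
        rw [if_pos rfl] at hm
        have := contra pc habd.symm h2'
        have : u * ec * (2 * ea) = 0 := by linear_combination -hm + ea * this
        simp [hu, hec0, hea0] at this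
      · rw [if_neg had] at hm
        have : ea * u * ec = 0 := by linear_combination -hm
        simp [hu, hec0, hea0] at this
    · subst h
      rw [if_pos rfl, if_neg hcd'.symm, if_neg hab'] at hm
      by_cases hac : a = c
      · subst hac
        rw [if_pos rfl] at hm
        have := contra pc habd h2'
        have : v * ed * (2 * ea) = 0 := by linear_combination hm - ea * this
        simp [hv, hed0, hea0] at this
      · rw [if_neg hac] at hm
        have : ea * v * ed = 0 := by linear_combination hm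
        simp [hv, hed0, hea0] at this
  obtain ⟨h1, h2, h3, h4⟩ := hz
  rw [hI a c ha hc, hI a d ha hd, hI b c hb hc, hI b d hb hd, if_neg h1, if_neg h2, if_neg h3, if_neg h4]
  simp

end Cfsg.Agent.S1509
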