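import Cfsg.Statements.S1518
import Cfsg.Agent.Lib.Char.DadeVirtual

set_option autoImplicit false
open Cfsg

namespace Cfsg.Agent.S1518

/-- Under the Dade hypothesis for (A, L, H): if χ is an irreducible character of L vanishing at every non-identity element of L outside A, then the Dade image of χ − conj χ equals μ − conj μ for some irreducible character μ of G. -/
theorem result {G : Type*} [Group G] [Fintype G] (A : Set G) (L : Subgroup G) [Fintype L] (H : G → Subgroup G) (hD : Cfsg.DadeHypothesis A L H) (χ : L → ℂ) (hχ : Cfsg.IsIrrCharacter L χ) (hsupp : ∀ x : L, x ≠ 1 → (x : G) ∉ A → χ x = 0) : ∃ μ : G → ℂ, Cfsg.IsIrrCharacter G μ ∧ Cfsg.dadeIsometry A L H (χ - Cfsg.conjFun χ) = μ - Cfsg.conjFun μ := by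
  classical
  have hirr' : Cfsg.IsIrrCharacter L (Cfsg.conjFun χ) := CfsgLib.Char.Exceptional.IsIrr.conjFun hχ
  set α : L → ℂ := χ - Cfsg.conjFun χ with hα
  have hgen : Cfsg.IsGeneralizedCharacter L α :=
    CfsgLib.Char.IsGen.sub (CfsgLib.Char.IsGen.of_irr hχ) (CfsgLib.Char.IsGen.of_irr hirr')
  have hsuppα : ∀ x : L, (x : G) ∉ A → α x = 0 := by
    intro x hx
    show χ x - (starRingEnd ℂ) (χ x) = 0
    by_cases h1 : x = 1
    · obtain ⟨n, -, hn⟩ := CfsgLib.Char.IsIrr.exists_degree hχ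
      rw [h1, hn, map_natCast, sub_self]
    · rw [hsupp x h1 hx, map_zero, sub_self]
  have hc := CfsgLib.Char.IsGen.isClassFunction hgen
  set τα := Cfsg.dadeIsometry A L H α with hτ
  have hτgen : Cfsg.IsGeneralizedCharacter G τα :=
    CfsgLib.DadeMap.isGeneralizedCharacter_dade hD hgen hsuppα
  have hanti : Cfsg.conjFun τα = -τα := by
    funext g
    show (starRingEnd ℂ) (τα g) = -τα g
    by_cases hs : CfsgLib.DadeMap.InSupport A L H g
    · obtain ⟨a, ha, x, u, hu, h⟩ := hs
      rw [hτ, CfsgLib.DadeMap.apply_eq hD hc ha hu h]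
      show (starRingEnd ℂ) (χ a - (starRingEnd ℂ) (χ a)) = -(χ a - (starRingEnd ℂ) (χ a))
      rw [map_sub, Complex.conj_conj]
      ring
    · rw [hτ, CfsgLib.DadeMap.apply_zero hs, map_zero, neg_zero]
  by_cases hreal : Cfsg.conjFun χ = χ
  · refine ⟨fun _ => 1, CfsgLib.Char.isIrrCharacter_one, ?_⟩
    funext g
    have hα0 : α = 0 := by rw [hα, hreal, sub_self]
    rw [Pi.sub_apply, show Cfsg.conjFun (fun _ : G => (1 : ℂ)) g = 1 from map_one _, sub_self]
    by_cases hs : CfsgLib.DadeMap.InSupport A L H g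
    · obtain ⟨a, ha, x, u, hu, h⟩ := hs
      rw [hτ, CfsgLib.DadeMap.apply_eq hD hc ha hu h, hα0]; rfl
    · rw [hτ, CfsgLib.DadeMap.apply_zero hs]
  have hnorm : Cfsg.classInner τα τα = 2 := by
    rw [hτ, CfsgLib.DadeMap.classInner_dade_dade hD hc hsuppα hc, hα,
      CfsgLib.Char.classInner_sub_left, CfsgLib.Char.classInner_sub_right,
      CfsgLib.Char.classInner_sub_right]
    rw [CfsgLib.Char.Exceptional.classInner_self_of_irr hχ,
      CfsgLib.Char.Exceptional.classInner_self_of_irr hirr',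
      CfsgLib.Char.Exceptional.classInner_eq_zero_of_irr hχ hirr' (Ne.symm hreal),
      CfsgLib.Char.Exceptional.classInner_eq_zero_of_irr hirr' hχ hreal]
    norm_num
  obtain ⟨μ, ν, hμ, hν, hne, he⟩ := CfsgLib.Char.Exceptional.IsGen.norm_two hτgen hnorm
    (CfsgLib.DadeMap.apply_zero (CfsgLib.DadeMap.not_inSupport_one hD))
  refine ⟨μ, hμ, ?_⟩
  have hμ' : Cfsg.IsIrrCharacter G (Cfsg.conjFun μ) := CfsgLib.Char.Exceptional.IsIrr.conjFun hμ
  have hν' : Cfsg.IsIrrCharacter G (Cfsg.conjFun ν) := CfsgLib.Char.Exceptional.IsIrr.conjFun hν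
  have hkey : Cfsg.conjFun μ - Cfsg.conjFun ν = ν - μ := by
    have h1 : Cfsg.conjFun τα = Cfsg.conjFun μ - Cfsg.conjFun ν := by
      funext g
      show (starRingEnd ℂ) (τα g) = _
      rw [he, Pi.sub_apply, map_sub]
      rfl
    rw [← h1, hanti, he, neg_sub]
  have hν1 : ν = Cfsg.conjFun μ := by
    by_contra hne'
    have h1 := congrArg (fun f => Cfsg.classInner f ν) hkey
    simp only [CfsgLib.Char.classInner_sub_left] at h1
    rw [CfsgLib.Char.Exceptional.classInner_eq_zero_of_irr hμ' hν (Ne.symm hne'),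
      CfsgLib.Char.Exceptional.classInner_self_of_irr hν,
      CfsgLib.Char.Exceptional.classInner_eq_zero_of_irr hμ hν hne] at h1
    rw [CfsgLib.Char.Exceptional.classInner_of_irr hν' hν] at h1
    split_ifs at h1 <;> norm_num at h1
  rw [← hν1]
  exact he

end Cfsg.Agent.S1518
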