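import Cfsg.Statements.S1525
import Cfsg.Agent.Lib.Char.DadeMap

set_option autoImplicit false
open Cfsg

namespace Cfsg.Agent.S1525

/-- Under the Dade hypothesis for (A, L, H), let χ be a class function of G and let ψ be a function on L whose value at each a ∈ A is the average of χ over the coset a·H(a). Then (1/|G|) Σ |χ g|² over the elements g of G conjugate into some coset a·H(a) with a ∈ A is at least (1/|L|) Σ_{a ∈ A ∩ L} |ψ a|². -/
theorem result {G : Type*} [Group G] [Fintype G] (A : Set G) (L : Subgroup G) [Fintype L] (H : G → Subgroup G) (hD : Cfsg.DadeHypothesis A L H) (χ : G → ℂ) (hχ : Cfsg.IsClassFunction G χ) (ψ : L → ℂ) (hψ : ∀ a : L, (a : G) ∈ A → ψ a = (Nat.card (H a) : ℂ)⁻¹ * ∑ᶠ u ∈ (H a : Set G), χ (a * u)) : (Nat.card L : ℝ)⁻¹ * ∑ᶠ a ∈ {a : L | (a : G) ∈ A}, ‖ψ a‖ ^ 2 ≤ (Nat.card G : ℝ)⁻¹ * ∑ᶠ g ∈ {g : G | ∃ a ∈ A, ∃ u ∈ H a, ∃ x : G, x * g * x⁻¹ = a * u}, ‖χ g‖ ^ 2 := by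
  classical
  let D : G → Prop := CfsgLib.DadeMap.InSupport A L H
  let F : G → ℂ := fun g => if D g then ((‖χ g‖ ^ 2 : ℝ) : ℂ) else 0
  have hF : Cfsg.IsClassFunction G F := fun g y => by
    show (if D (y * g * y⁻¹) then ((‖χ (y * g * y⁻¹)‖ ^ 2 : ℝ) : ℂ) else 0) = _
    rw [hχ g y]
    exact if_congr (CfsgLib.DadeMap.inSupport_conj y) rfl rfl
  have h := CfsgLib.DadeMap.sum_support hD hF fun g hg => if_neg hg
  let R : ↥L → ℝ := fun a =>
    (Nat.card (H (a : G)) : ℝ)⁻¹ * ∑ᶠ u ∈ (H (a : G) : Set G), ‖χ ((a : G) * u)‖ ^ 2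
  have havg : ∀ a : L, (a : G) ∈ A → CfsgLib.DadeMap.avg H F a = (R a : ℂ) ∧ ‖ψ a‖ ^ 2 ≤ R a := by
    intro a ha
    have := Fintype.ofFinite (H (a : G))
    have hR : R a = (Nat.card (H (a : G)) : ℝ)⁻¹ * ∑ u : H (a : G), ‖χ ((a : G) * u)‖ ^ 2 := by
      simp only [R]; rw [CfsgLib.DadeMap.finsum_coe_subgroup]
    refine ⟨?_, ?_⟩
    · rw [hR, CfsgLib.DadeMap.avg, CfsgLib.DadeMap.finsum_coe_subgroup]
      push_cast
      congr 1
      refine Finset.sum_congr rfl fun u _ => ?_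
      have hs : D ((a : G) * u) := ⟨a, ha, 1, u, u.2, by group⟩
      simp only [F, if_pos hs]
      push_cast
      rfl
    · rw [hR, hψ a ha, CfsgLib.DadeMap.finsum_coe_subgroup, norm_mul, norm_inv, Complex.norm_natCast,
        mul_pow]
      have hc : (0 : ℝ) < Nat.card (H (a : G)) := Nat.cast_pos.mpr Nat.card_pos
      have h1 : ‖∑ u : H (a : G), χ ((a : G) * u)‖ ≤ ∑ u : H (a : G), ‖χ ((a : G) * u)‖ :=
        norm_sum_le _ _
      have h2 := sq_sum_le_card_mul_sum_sq (s := (Finset.univ : Finset (H (a : G))))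
        (f := fun u => ‖χ ((a : G) * u)‖)
      rw [Finset.card_univ, ← Nat.card_eq_fintype_card] at h2
      calc (Nat.card (H (a : G)) : ℝ)⁻¹ ^ 2 * ‖∑ u : H (a : G), χ ((a : G) * u)‖ ^ 2
          ≤ (Nat.card (H (a : G)) : ℝ)⁻¹ ^ 2 *
              ((Nat.card (H (a : G)) : ℝ) * ∑ u : H (a : G), ‖χ ((a : G) * u)‖ ^ 2) := by
            refine mul_le_mul_of_nonneg_left (le_trans ?_ h2) (sq_nonneg _)
            exact pow_le_pow_left₀ (norm_nonneg _) h1 2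
        _ = _ := by field_simp
  have hsetG : {g : G | ∃ a ∈ A, ∃ u ∈ H a, ∃ x : G, x * g * x⁻¹ = a * u} =
      ↑(Finset.univ.filter D) := by
    ext g
    simp only [Set.mem_setOf_eq, Finset.coe_filter, Finset.mem_univ, true_and]
    exact ⟨fun ⟨a, ha, u, hu, x, e⟩ => ⟨⟨a, hD.subset ha⟩, ha, x, u, hu, e⟩,
      fun ⟨a, ha, x, u, hu, e⟩ => ⟨a, ha, u, hu, x, e⟩⟩
  have hsetL : {a : L | (a : G) ∈ A} = ↑(Finset.univ.filter fun a : L => (a : G) ∈ A) := by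
    ext a; simp
  rw [hsetG, hsetL, finsum_mem_coe_finset, finsum_mem_coe_finset]
  have hreal : (Nat.card L : ℝ) * ∑ g ∈ Finset.univ.filter D, ‖χ g‖ ^ 2 =
      (Nat.card G : ℝ) * ∑ a ∈ Finset.univ.filter (fun a : L => (a : G) ∈ A), R a := by
    have hl : ∑ g, F g = ((∑ g ∈ Finset.univ.filter D, ‖χ g‖ ^ 2 : ℝ) : ℂ) := by
      rw [Complex.ofReal_sum, Finset.sum_filter]
    rw [hl, ← Finset.sum_filter,
      Finset.sum_congr rfl fun a ha => (havg a (Finset.mem_filter.mp ha).2).1] at h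
    exact_mod_cast h
  have hle : ∑ a ∈ Finset.univ.filter (fun a : L => (a : G) ∈ A), ‖ψ a‖ ^ 2 ≤
      ∑ a ∈ Finset.univ.filter (fun a : L => (a : G) ∈ A), R a :=
    Finset.sum_le_sum fun a ha => (havg a (Finset.mem_filter.mp ha).2).2
  have hGpos : (0 : ℝ) < Nat.card G := Nat.cast_pos.mpr Nat.card_pos
  have hLpos : (0 : ℝ) < Nat.card L := Nat.cast_pos.mpr Nat.card_pos
  rw [inv_mul_le_iff₀ hLpos, ← mul_assoc, mul_comm (Nat.card L : ℝ), mul_assoc, hreal,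
    ← mul_assoc, inv_mul_cancel₀ hGpos.ne', one_mul]
  exact hle

end Cfsg.Agent.S1525
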