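import Cfsg.Statements.S1527
import Mathlib

set_option autoImplicit false
open Cfsg

namespace Cfsg.Agent.S1527

/-- Let G be a finite group and H i (i in a finite index type) subgroups of pairwise coprime orders, each of whose underlying sets is a TI-subset of G, such that every non-identity element of G is conjugate to an element of some H i. Then Nat.card G − 1 = Σ_i [G : N_G(H i)] · (Nat.card (H i) − 1). -/
theorem result {G : Type*} [Group G] [Finite G] {ι : Type*} [Fintype ι] (H : ι → Subgroup G) (hcop : ∀ i j, i ≠ j → Nat.Coprime (Nat.card (H i)) (Nat.card (H j))) (hTI : ∀ i, Cfsg.IsTISubset (H i : Set G)) (hcover : ∀ g : G, g ≠ 1 → ∃ i, ∃ x : G, x * g * x⁻¹ ∈ H i) : Nat.card G - 1 = ∑ i, (Subgroup.normalizer (H i : Set G)).index * (Nat.card (H i) - 1) := by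
  classical
  haveI := Fintype.ofFinite G
  let N : ι → Subgroup G := fun i => Subgroup.normalizer (H i : Set G)
  have hN : ∀ i, ∀ n ∈ N i, ∀ h, h ∈ H i ↔ n * h * n⁻¹ ∈ H i := fun i n hn h =>
    Subgroup.mem_set_normalizer_iff.1 hn h
  let T := (Σ i, (G ⧸ N i) × {h : H i // h ≠ 1})
  let f : T → {g : G // g ≠ 1} := fun t =>
    ⟨t.2.1.out * (t.2.2.1 : G) * t.2.1.out⁻¹, fun h => t.2.2.2 (Subtype.ext (conj_eq_one_iff.1 h))⟩
  have hbij : Function.Bijective f := by
    constructor
    · rintro ⟨i, q, h, hh⟩ ⟨j, r, k, hk⟩ e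
      simp only [f, Subtype.mk.injEq] at e
      have hne : (h : G) ≠ 1 := fun he => hh (Subtype.ext he)
      have e2 : (r.out⁻¹ * q.out) * (h : G) * (r.out⁻¹ * q.out)⁻¹ = (k : G) := by
        calc (r.out⁻¹ * q.out) * (h : G) * (r.out⁻¹ * q.out)⁻¹
            = r.out⁻¹ * (q.out * (h : G) * q.out⁻¹) * r.out := by group
          _ = r.out⁻¹ * (r.out * (k : G) * r.out⁻¹) * r.out := by rw [e]
          _ = _ := by group
      have hij : i = j := by
        by_contra hij
        have h1 : orderOf (k : G) = orderOf (h : G) := by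
          rw [← e2]
          exact orderOf_injective (MulAut.conj (r.out⁻¹ * q.out)).toMonoidHom
            (MulAut.conj (r.out⁻¹ * q.out)).injective _
        exact hne (orderOf_eq_one_iff.1 (Nat.eq_one_of_dvd_coprimes (hcop i j hij)
          (Subgroup.orderOf_dvd_natCard _ h.2) (h1 ▸ Subgroup.orderOf_dvd_natCard _ k.2)))
      subst hij
      have hm : r.out⁻¹ * q.out ∈ N i := by
        by_contra hm
        exact hne (hTI i _ hm h h.2 (e2 ▸ k.2))
      have hqr : q = r := by
        rw [← QuotientGroup.out_eq' q, ← QuotientGroup.out_eq' r]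
        exact (QuotientGroup.eq.2 hm).symm
      subst hqr
      have hk' : (h : G) = k := mul_left_cancel (mul_right_cancel e)
      obtain rfl : h = k := Subtype.ext hk'
      rfl
    · rintro ⟨g, hg⟩
      obtain ⟨i, x, hx⟩ := hcover g hg
      obtain ⟨n, hn⟩ := QuotientGroup.mk_out_eq_mul (N i) x⁻¹
      have hnn := (hN i _ ((N i).inv_mem n.2) _).1 hx
      refine ⟨⟨i, QuotientGroup.mk x⁻¹, ⟨⟨_, hnn⟩, ?_⟩⟩, ?_⟩
      · intro he
        have he' := congrArg (Subtype.val) he
        simp only [Subgroup.coe_one, conj_eq_one_iff] at he'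
        exact hg he'
      · refine Subtype.ext ?_
        simp only [f, hn]
        group
  have := Nat.card_congr (Equiv.ofBijective f hbij)
  simp only [T, Nat.card_sigma, Nat.card_prod] at this
  have hc : ∀ (α : Type _) [Fintype α] (a : α), Nat.card {x : α // x ≠ a} = Nat.card α - 1 := by
    intro α _ a
    simp [Nat.card_eq_fintype_card]
  rw [hc G 1] at this
  simp only [fun i => hc (H i) 1] at this
  exact this.symm

end Cfsg.Agent.S1527
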