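import Cfsg.Statements.S1531
import Mathlib
import Cfsg.Agent.Lib.Char.Exceptional.Coherence2

set_option autoImplicit false
open Cfsg

namespace Cfsg.Agent.S1531

/-- Let N be a subgroup of the finite group G, S a set of irreducible characters of N, and α a linear isometry on the integer combinations of S vanishing at 1 with values virtual characters of G vanishing at 1. Let X, Y ⊆ S be disjoint, each with at least two members, and σ, τ linear isometries on ℤ[X], ℤ[Y] into virtual characters agreeing with α on the members vanishing at 1. Then ⟨σ χ, τ η⟩ = 0 for χ ∈ X, η ∈ Y; and if for some χ₀ ∈ X, η₀ ∈ Y with degrees c = χ₀ 1, e = η₀ 1 one has α (c • η₀ − e • χ₀) = c • τ η₀ − e • σ χ₀, then (X ∪ Y, N minus 1, α) is coherent. -/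
theorem result {G : Type*} [Group G] [Fintype G] (N : Subgroup G) [Fintype N] (S X Y : Set (N → ℂ)) (hirr : ∀ ξ ∈ S, Cfsg.IsIrrCharacter N ξ) (hXS : X ⊆ S) (hYS : Y ⊆ S) (hXY : Disjoint X Y) (hX2 : ∃ a ∈ X, ∃ b ∈ X, a ≠ b) (hY2 : ∃ a ∈ Y, ∃ b ∈ Y, a ≠ b) (α : (N → ℂ) → (G → ℂ)) (hα : Cfsg.IsLinearIsometryOn (Cfsg.zspanOn S {1}ᶜ) α) (hα1 : ∀ θ ∈ Cfsg.zspanOn S {1}ᶜ, α θ 1 = 0) (σ τ : (N → ℂ) → (G → ℂ)) (hσ : Cfsg.IsLinearIsometryOn (Cfsg.zspan X) σ) (hσα : ∀ θ ∈ Cfsg.zspanOn X {1}ᶜ, σ θ = α θ) (hτ : Cfsg.IsLinearIsometryOn (Cfsg.zspan Y) τ) (hτα : ∀ θ ∈ Cfsg.zspanOn Y {1}ᶜ, τ θ = α θ) : (∀ χ ∈ X, ∀ η ∈ Y, Cfsg.classInner (σ χ) (τ η) = 0) ∧ ((∃ χ₀ ∈ X, ∃ η₀ ∈ Y, α (χ₀ 1 • η₀ - η₀ 1 • χ₀) = χ₀ 1 • τ η₀ - η₀ 1 • σ χ₀) → Cfsg.IsCoherent (X ∪ Y) {1}ᶜ α) := by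
  classical
  have horth := CfsgLib.Char.Exceptional.coherent_pieces_orth hirr hXS hYS hXY hX2 hY2 hα hα1 hσ hσα hτ hτα
  refine ⟨horth, ?_⟩
  rintro ⟨χ₀, hχ₀, η₀, hη₀, hcross⟩
  have hU : ∀ ξ ∈ X ∪ Y, Cfsg.IsIrrCharacter N ξ := fun ξ h => hirr ξ (Set.union_subset hXS hYS h)
  obtain ⟨TX, rfl⟩ :=
    (CfsgLib.Char.Exceptional.finite_of_irr (fun ξ h => hirr ξ (hXS h))).exists_finset_coe
  obtain ⟨TY, rfl⟩ :=
    (CfsgLib.Char.Exceptional.finite_of_irr (fun ξ h => hirr ξ (hYS h))).exists_finset_coe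
  rw [← Finset.coe_union] at hU ⊢
  have hd : ∀ ξ ∈ TX, ∀ η ∈ TY, ξ ≠ η := fun ξ hξ η hη e => Set.disjoint_left.1 hXY hξ (e ▸ hη)
  let v : (N → ℂ) → (G → ℂ) := fun ξ => if ξ ∈ TX then σ ξ else τ ξ
  have hvX : ∀ ξ ∈ TX, v ξ = σ ξ := fun ξ h => if_pos h
  have hvY : ∀ ξ ∈ TY, v ξ = τ ξ := fun ξ h => if_neg fun h' => hd ξ h' ξ h rfl
  obtain ⟨p, -, hp⟩ := CfsgLib.Char.IsIrr.exists_degree (hirr _ (hXS hχ₀))
  obtain ⟨q, -, hq⟩ := CfsgLib.Char.IsIrr.exists_degree (hirr _ (hYS hη₀))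
  refine CfsgLib.Char.Exceptional.coherent_glue (v := v) hU
    (CfsgLib.Char.Exceptional.IsLinearIsometryOn.mono hα
      (CfsgLib.Char.Exceptional.zspanOn_subset _ (by rw [Finset.coe_union]; exact Set.union_subset hXS hYS)))
    ?_ ?_ ?_ ?_ hχ₀ hη₀ (hd _ hχ₀ _ hη₀) hp hq ?_
  · intro ξ hξ η hη
    rcases Finset.mem_union.1 hξ with hξ' | hξ' <;> rcases Finset.mem_union.1 hη with hη' | hη'
    · rw [hvX ξ hξ', hvX η hη', hσ.2.2.1 ξ (Submodule.subset_span hξ') η (Submodule.subset_span hη')]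
      exact CfsgLib.Char.Exceptional.classInner_of_irr (hU ξ hξ) (hU η hη)
    · rw [hvX ξ hξ', hvY η hη', horth ξ hξ' η hη', if_neg (hd ξ hξ' η hη')]
    · rw [hvY ξ hξ', hvX η hη', ← CfsgLib.Char.classInner_conj_symm, horth η hη' ξ hξ', map_zero,
        if_neg (hd η hη' ξ hξ').symm]
    · rw [hvY ξ hξ', hvY η hη', hτ.2.2.1 ξ (Submodule.subset_span hξ') η (Submodule.subset_span hη')]
      exact CfsgLib.Char.Exceptional.classInner_of_irr (hU ξ hξ) (hU η hη)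
  · intro ξ hξ
    rcases Finset.mem_union.1 hξ with h | h
    · rw [hvX ξ h]; exact hσ.2.2.2 ξ (Submodule.subset_span h)
    · rw [hvY ξ h]; exact hτ.2.2.2 ξ (Submodule.subset_span h)
  · intro θ hθ
    have hirrX : ∀ ξ ∈ TX, Cfsg.IsIrrCharacter N ξ := fun ξ h => hirr ξ (hXS h)
    rw [CfsgLib.Char.Exceptional.extMap_congr hirrX subset_rfl hvX hθ.1,
      CfsgLib.Char.Exceptional.iso_eq_extMap hirrX hσ hθ.1, hσα θ hθ]
  · intro θ hθ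
    have hirrY : ∀ ξ ∈ TY, Cfsg.IsIrrCharacter N ξ := fun ξ h => hirr ξ (hYS h)
    rw [CfsgLib.Char.Exceptional.extMap_congr hirrY subset_rfl hvY hθ.1,
      CfsgLib.Char.Exceptional.iso_eq_extMap hirrY hτ hθ.1, hτα θ hθ]
  · rw [hp, hq] at hcross
    rw [hvX χ₀ hχ₀, hvY η₀ hη₀]
    exact hcross

end Cfsg.Agent.S1531
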