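import Cfsg.Statements.S1532
import Cfsg.Agent.Lib.Char.Coherence.TIFNCoherence

set_option autoImplicit false
open Cfsg

namespace Cfsg.Agent.S1532

/-- Let G be a finite group, p an odd prime and P a Sylow p-subgroup that is non-abelian, whose underlying set is a TI-subset of G, with P properly contained in its set normaliser N and C_G(x) ≤ P for every non-identity x ∈ P. Let Z be a nontrivial subgroup of the centre of P normalised by N. Then the set of irreducible characters χ of N with χ z ≠ χ 1 for some z ∈ Z is coherent for the map induced by induction from N to G. -/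
theorem result {G : Type*} [Group G] [Fintype G] (p : ℕ) [Fact p.Prime] (hp : p ≠ 2) (P : Sylow p G) (hna : ¬ IsMulCommutative (P : Subgroup G)) (hTI : Cfsg.IsTISubset ((P : Subgroup G) : Set G)) (hlt : (P : Subgroup G) < Subgroup.normalizer ((P : Subgroup G) : Set G)) (hC : ∀ k ∈ (P : Subgroup G), k ≠ 1 → Subgroup.centralizer ({k} : Set G) ≤ (P : Subgroup G)) [Fintype ↥(Subgroup.normalizer ((P : Subgroup G) : Set G))] (Z : Subgroup G) (hZ1 : Z ≠ ⊥) (hZP : ∀ z ∈ Z, z ∈ (P : Subgroup G) ∧ ∀ y ∈ (P : Subgroup G), z * y = y * z) (hZn : ∀ x ∈ Subgroup.normalizer ((P : Subgroup G) : Set G), ∀ z ∈ Z, x * z * x⁻¹ ∈ Z) : Cfsg.IsCoherent {χ : ↥(Subgroup.normalizer ((P : Subgroup G) : Set G)) → ℂ | Cfsg.IsIrrCharacter ↥(Subgroup.normalizer ((P : Subgroup G) : Set G)) χ ∧ ∃ z : ↥(Subgroup.normalizer ((P : Subgroup G) : Set G)), (z : G) ∈ Z ∧ χ z ≠ χ 1} {1}ᶜ (fun α => Cfsg.indFun (Subgroup.normalizer ((P : Subgroup G) : Set G)) α) := by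
  classical
  have hK1 : (P : Subgroup G) ≠ ⊥ := fun h => hna (by rw [h]; exact ⟨⟨fun a b => Subsingleton.elim _ _⟩⟩)
  have hle : (P : Subgroup G) ≤ Subgroup.normalizer ((P : Subgroup G) : Set G) := Subgroup.le_normalizer
  obtain ⟨n, hn⟩ := IsPGroup.iff_card.mp P.isPGroup'
  have hpodd : Odd p := (Fact.out : p.Prime).odd_of_ne_two hp
  have hna' : ¬ ∀ a ∈ (P : Subgroup G), ∀ b ∈ (P : Subgroup G), a * b = b * a := fun h =>
    hna ⟨⟨fun a b => Subtype.ext (h a a.2 b b.2)⟩⟩
  have hodd := CfsgLib.Coh.tifn_odd (P : Subgroup G) hC (by rw [hn]; exact hpodd.pow) hna'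
  have hnil : Group.IsNilpotent (P : Subgroup G) := P.isPGroup'.isNilpotent
  have hnil' : Group.IsNilpotent ((P : Subgroup G).subgroupOf (Subgroup.normalizer ((P : Subgroup G) : Set G))) :=
    Group.nilpotent_of_mulEquiv (Subgroup.subgroupOfEquivOfLe hle).symm
  have hsolv : Group.IsSolvable ((P : Subgroup G).subgroupOf (Subgroup.normalizer ((P : Subgroup G) : Set G))) := inferInstance
  have hC' := CfsgLib.Char.Exceptional.tifn_cent (P : Subgroup G) hC
  obtain ⟨hiso, hiso1⟩ := CfsgLib.Char.Exceptional.tifn_isometry (P : Subgroup G) hTI hC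
  rw [← CfsgLib.Coh.above_eq_tifnSet (P : Subgroup G) hC] at hiso hiso1
  have hH1 := CfsgLib.Coh.tifnH_ne_bot (P : Subgroup G) hK1
  obtain ⟨R, hS⟩ := CfsgLib.Coh.exists_system hC' hodd hsolv hH1 hiso hiso1
  have hlt' := CfsgLib.Coh.commutator_lt_self hnil' hH1
  have : (Z.subgroupOf (Subgroup.normalizer ((P : Subgroup G) : Set G))).Normal :=
    ⟨fun z hz x => Subgroup.mem_subgroupOf.mpr (hZn x x.2 _ (Subgroup.mem_subgroupOf.mp hz))⟩
  have hZK : Z.subgroupOf (Subgroup.normalizer ((P : Subgroup G) : Set G)) ≤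
      (P : Subgroup G).subgroupOf (Subgroup.normalizer ((P : Subgroup G) : Set G)) := fun z hz =>
    Subgroup.mem_subgroupOf.mpr (hZP _ (Subgroup.mem_subgroupOf.mp hz)).1
  have hirr : ∀ χ ∈ Cfsg.inducedIrrAbove ((P : Subgroup G).subgroupOf (Subgroup.normalizer ((P : Subgroup G) : Set G))) ⊥ \
      Cfsg.inducedIrrAbove ((P : Subgroup G).subgroupOf (Subgroup.normalizer ((P : Subgroup G) : Set G)))
        (Z.subgroupOf (Subgroup.normalizer ((P : Subgroup G) : Set G))), Cfsg.IsIrrCharacter _ χ :=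
    fun χ h => CfsgLib.Coh.irr_of_mem hC' χ h.1
  have hco := CfsgLib.Coh.nontrivial_central_coherent hsolv hS hodd hnil' hlt'
    (CfsgLib.Coh.frob_quot hC' _ hlt'.le) (Z := Z.subgroupOf (Subgroup.normalizer ((P : Subgroup G) : Set G)))
    (fun h => by
      rw [Subgroup.subgroupOf_eq_bot, disjoint_iff,
        inf_eq_left.mpr (le_trans (fun z hz => (hZP z hz).1) hle)] at h
      exact hZ1 h)
    hZK (fun z hz k hk => Subtype.ext
      ((hZP _ (Subgroup.mem_subgroupOf.mp hz)).2 _ (Subgroup.mem_subgroupOf.mp hk))) hirr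
  rw [CfsgLib.Coh.diff_eq_irr hZK hirr] at hco
  exact hco

end Cfsg.Agent.S1532
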