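import Cfsg.Statements.S1534
import Cfsg.Agent.Lib.Char.Coherence.TIFNCoherence

set_option autoImplicit false
open Cfsg

namespace Cfsg.Agent.S1534

/-- Let G be a finite group and K a nontrivial nilpotent subgroup whose underlying set is a TI-subset of G, properly contained in its set normaliser N, with C_G(k) ≤ K for every non-identity k ∈ K; let e be the index of K in N and S the set of irreducible characters χ of N with χ k ≠ χ 1 for some k ∈ K. Then one of: S has exactly one member, Nat.card K = e + 1 and K is an elementary abelian p-group for some prime p; or K is a Sylow 2-subgroup of G (Nat.card K is the largest power of 2 dividing Nat.card G) and [K : [K,K]] < 4e²; or (S, N minus 1, induction to G) is coherent. -/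
theorem result {G : Type*} [Group G] [Fintype G] (K : Subgroup G) (hK1 : K ≠ ⊥) (hnil : Group.IsNilpotent K) (hTI : Cfsg.IsTISubset (K : Set G)) (hlt : K < Subgroup.normalizer (K : Set G)) (hC : ∀ k ∈ K, k ≠ 1 → Subgroup.centralizer ({k} : Set G) ≤ K) [Fintype ↥(Subgroup.normalizer (K : Set G))] : (Nat.card {χ : ↥(Subgroup.normalizer (K : Set G)) → ℂ // Cfsg.IsIrrCharacter ↥(Subgroup.normalizer (K : Set G)) χ ∧ ∃ k : ↥(Subgroup.normalizer (K : Set G)), (k : G) ∈ K ∧ χ k ≠ χ 1} = 1 ∧ Nat.card K = (K.subgroupOf (Subgroup.normalizer (K : Set G))).index + 1 ∧ ∃ p : ℕ, p.Prime ∧ Cfsg.IsElementaryAbelian p K) ∨ (Nat.card K = 2 ^ (Nat.card G).factorization 2 ∧ (⁅K, K⁆.subgroupOf K).index < 4 * (K.subgroupOf (Subgroup.normalizer (K : Set G))).index ^ 2) ∨ Cfsg.IsCoherent {χ : ↥(Subgroup.normalizer (K : Set G)) → ℂ | Cfsg.IsIrrCharacter ↥(Subgroup.normalizer (K : Set G)) χ ∧ ∃ k : ↥(Subgroup.normalizer (K : Set G)), (k : G) ∈ K ∧ χ k ≠ χ 1} {1}ᶜ (fun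 α => Cfsg.indFun (Subgroup.normalizer (K : Set G)) α) := by
  classical
  by_cases hab : ∀ a ∈ K, ∀ b ∈ K, a * b = b * a
  · rcases CfsgLib.Coh.tifn_abelian _ hC hTI hK1 hab with h | h
    · exact Or.inl h
    · exact Or.inr (Or.inr h)
  by_cases hoddK : Odd (Nat.card K)
  · exact Or.inr (Or.inr (CfsgLib.Coh.tifn_nonabelian_odd _ hC hTI hK1 hnil hoddK hab))
  by_cases hbig : (¬ ∃ q m : ℕ, q.Prime ∧ Nat.card K = q ^ m) ∨
      4 * (K.subgroupOf (Subgroup.normalizer (K : Set G))).index ^ 2 + 1 < ⁅K, K⁆.relIndex K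
  · exact Or.inr (Or.inr (CfsgLib.Coh.tifn_nonabelian_big _ hC hTI hK1 hnil hab hbig))
  push Not at hbig
  obtain ⟨⟨q, m, hq, hm⟩, hle⟩ := hbig
  have hm0 : m ≠ 0 := fun h => hoddK (by rw [hm, h, pow_zero]; exact odd_one)
  have hq2 : q = 2 := by
    by_contra hne
    exact hoddK (hm ▸ (hq.odd_of_ne_two hne).pow)
  subst hq2
  have := Fact.mk Nat.prime_two
  set H := K.subgroupOf (Subgroup.normalizer (K : Set G))
  have hC' := CfsgLib.Char.Exceptional.tifn_cent K hC
  have hcardH : Nat.card H = Nat.card K :=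
    Nat.card_congr (Subgroup.subgroupOfEquivOfLe Subgroup.le_normalizer).toEquiv
  have hcop : Nat.Coprime 2 H.index := by
    refine (Nat.Coprime.coprime_dvd_right ?_ (CfsgLib.Coh.coprime_index_card hC')).symm
    rw [hcardH, hm]; exact dvd_pow_self 2 hm0
  obtain ⟨P, hP⟩ := CfsgLib.Coh.exists_sylow_eq (IsPGroup.of_card hm) hcop
  refine Or.inr (Or.inl ⟨?_, ?_⟩)
  · rw [← hP]; exact Sylow.card_eq_multiplicity P
  -- the bound is strict
  show ⁅K, K⁆.relIndex K < 4 * H.index ^ 2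
  have he1 : H.index ≠ 1 := fun h => hlt.not_ge
    (Subgroup.subgroupOf_eq_top.mp (Subgroup.index_eq_one.mp h))
  have hdvd : ⁅K, K⁆.relIndex K ∣ 2 ^ m := hm ▸ (⁅K, K⁆.subgroupOf K).index_dvd_card
  have hgt : 1 < ⁅K, K⁆.relIndex K := by
    have h0 : ⁅K, K⁆.relIndex K ≠ 0 := Subgroup.index_ne_zero_of_finite
    have h1 : ⁅K, K⁆.relIndex K ≠ 1 := fun h =>
      (CfsgLib.Coh.commutator_lt_self hnil hK1).not_ge (Subgroup.relIndex_eq_one.mp h)
    omega
  obtain ⟨i, -, hi⟩ := (Nat.dvd_prime_pow Nat.prime_two).mp hdvd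
  have hi0 : i ≠ 0 := fun h => by rw [hi, h, pow_zero] at hgt; omega
  have heven : 2 ∣ ⁅K, K⁆.relIndex K := hi ▸ dvd_pow_self 2 hi0
  have hd := CfsgLib.Coh.frob_dvd_relIndex_sub_one hC' (A := ⁅H, H⁆) (B := H)
    (Subgroup.commutator_le_self H) le_rfl
  rw [CfsgLib.Coh.relIndex_commutator_subgroupOf Subgroup.le_normalizer] at hd
  rcases eq_or_lt_of_le hle with h | h
  · exfalso
    obtain ⟨c, hc⟩ := heven
    omega
  rcases eq_or_lt_of_le (Nat.le_of_lt_succ h) with h' | h'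
  · exfalso
    rw [h'] at hd
    have hd2 : H.index ∣ 4 * H.index ^ 2 := (dvd_pow_self _ two_ne_zero).mul_left _
    have h3 := Nat.dvd_sub hd2 hd
    rw [Nat.sub_sub_self (by omega)] at h3
    exact he1 (Nat.dvd_one.mp h3)
  · exact h'

end Cfsg.Agent.S1534
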