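import Cfsg.Statements.S1536
import Cfsg.Agent.Lib.Char.BrauerPerm

set_option autoImplicit false
open Cfsg
open CfsgLib.Char

namespace Cfsg.Agent.S1536

/-- Let H be a normal subgroup of the finite group M whose order is coprime to its index. For x ∈ M: some non-principal irreducible character of H is unchanged under h ↦ θ(x h x⁻¹) if and only if some non-identity element of H commutes with x. -/
theorem result {M : Type*} [Group M] [Finite M] (H : Subgroup M) [hN : H.Normal] (hHall : Nat.Coprime (Nat.card H) H.index) (x : M) : (∃ θ : H → ℂ, Cfsg.IsIrrCharacter H θ ∧ θ ≠ (fun _ => 1) ∧ (fun h : H => θ ⟨x * h * x⁻¹, hN.conj_mem h h.2 x⟩) = θ) ↔ ∃ h ∈ H, h ≠ 1 ∧ x * h = h * x := by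
  classical
  let α : H ≃* H := MulAut.conjNormal x
  have hα : ∀ h : H, (α h : M) = x * h * x⁻¹ := fun h => MulAut.conjNormal_apply x h
  have hfun : ∀ θ : H → ℂ, (fun h : H => θ ⟨x * h * x⁻¹, hN.conj_mem h h.2 x⟩) = θ ∘ α :=
    fun θ => funext fun h => congrArg θ (Subtype.ext (hα h).symm)
  simp only [hfun]
  have hcard := card_fixed_classes_eq_card_fixed_irr α
  have : Finite (ConjClasses H) := Finite.of_surjective _ ConjClasses.mk_surjective
  constructor
  · rintro ⟨θ, hθ, hne, hfix⟩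
    by_contra hno
    push Not at hno
    have h2 : 1 < Nat.card {χ : Cfsg.IrrCharacter H // (χ : H → ℂ) ∘ α = (χ : H → ℂ)} :=
      Finite.one_lt_card_iff_nontrivial.mpr
        ⟨⟨⟨⟨θ, hθ⟩, hfix⟩, ⟨trivChar H, rfl⟩, fun e =>
          hne (congrArg (fun z => z.1.1) e)⟩⟩
    rw [← hcard] at h2
    refine absurd h2 (not_lt.mpr (Finite.card_le_one_iff_subsingleton.mpr ⟨fun a b => ?_⟩))
    suffices hall : ∀ C : ConjClasses H, ConjClasses.map α.toMonoidHom C = C → C = ConjClasses.mk 1 from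
      Subtype.ext ((hall _ a.2).trans (hall _ b.2).symm)
    intro C hC
    obtain ⟨c, rfl⟩ := ConjClasses.mk_surjective C
    obtain ⟨k, hk⟩ := isConj_iff.mp
      (ConjClasses.mk_eq_mk_iff_isConj.mp hC : IsConj (α c) c)
    have hinj : Function.Injective fun h : H => h⁻¹ * α h := by
      intro a b hab
      have h1 : α (a * b⁻¹) = a * b⁻¹ := by
        rw [map_mul, map_inv]
        calc α a * (α b)⁻¹ = a * (a⁻¹ * α a) * (α b)⁻¹ := by group
          _ = a * (b⁻¹ * α b) * (α b)⁻¹ := by rw [show a⁻¹ * α a = b⁻¹ * α b from hab]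
          _ = _ := by group
      have h2 := congrArg Subtype.val h1
      rw [hα, mul_inv_eq_iff_eq_mul] at h2
      by_contra hne'
      exact hno _ (a * b⁻¹).2 (fun e => hne' (mul_inv_eq_one.mp (Subtype.ext e))) h2
    obtain ⟨h, hh⟩ := (Finite.injective_iff_surjective.mp hinj) k
    have hh' : h⁻¹ * α h = k := hh
    have hfix2 : α (h * c * h⁻¹) = h * c * h⁻¹ := by
      rw [map_mul, map_mul, map_inv]
      calc α h * α c * (α h)⁻¹ = h * (h⁻¹ * α h) * α c * (h⁻¹ * α h)⁻¹ * h⁻¹ := by group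
        _ = h * (k * α c * k⁻¹) * h⁻¹ := by rw [hh']; group
        _ = _ := by rw [hk]
    have h3 := congrArg Subtype.val hfix2
    rw [hα, mul_inv_eq_iff_eq_mul] at h3
    by_contra hne'
    refine hno _ (h * c * h⁻¹).2 (fun e => hne' ?_) h3
    rw [conj_eq_one_iff.mp (Subtype.ext e : h * c * h⁻¹ = 1)]
  · rintro ⟨h, hh, hh1, hcom⟩
    have hf : α ⟨h, hh⟩ = ⟨h, hh⟩ := Subtype.ext (by rw [hα, hcom, mul_inv_cancel_right])
    have h2 : 1 < Nat.card {C : ConjClasses H // ConjClasses.map α.toMonoidHom C = C} :=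
      Finite.one_lt_card_iff_nontrivial.mpr
        ⟨⟨⟨ConjClasses.mk ⟨h, hh⟩, congrArg ConjClasses.mk hf⟩,
          ⟨ConjClasses.mk 1, congrArg ConjClasses.mk (map_one α)⟩, fun e => hh1
            (congrArg Subtype.val (isConj_one_left.mp (ConjClasses.mk_eq_mk_iff_isConj.mp
              (congrArg Subtype.val e))))⟩⟩
    rw [hcard] at h2
    obtain ⟨a, b, hab⟩ := Finite.one_lt_card_iff_nontrivial.mp h2
    by_cases ha : a.1 = trivChar H
    · exact ⟨b.1.1, b.1.2, fun e => hab (Subtype.ext (ha.trans (Subtype.ext e).symm)), b.2⟩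
    · exact ⟨a.1.1, a.1.2, fun e => ha (Subtype.ext e), a.2⟩

end Cfsg.Agent.S1536
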