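import Cfsg.Statements.S1555
import Cfsg.Agent.Lib.Sporadic.Census2
-- import your own Cfsg.Agent.* helpers here

set_option autoImplicit false
open scoped Pointwise
open Cfsg CfsgLib.Sporadic

namespace Cfsg.Agent.S1555

/-- Bottom row of the Leech triangle: an octad is met in a prescribed pair of its points by exactly 16 octads and in a prescribed 4-subset by exactly 4 octads. -/
theorem result (o : Finset Cfsg.GolayPt) (ho : o ∈ Cfsg.octads) (s : Finset Cfsg.GolayPt) (hs : s ⊆ o) : (s.card = 2 → {o' : Finset Cfsg.GolayPt | o' ∈ Cfsg.octads ∧ o ∩ o' = s}.ncard = 16) ∧ (s.card = 4 → {o' : Finset Cfsg.GolayPt | o' ∈ Cfsg.octads ∧ o ∩ o' = s}.ncard = 4) := by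
  obtain ⟨g, hg, e⟩ := exists_smul_octad (o := setOfMask 8536111)
    (by rw [mem_octads_iff, maskOf_setOfMask (by norm_num)]; decide +kernel) ho
  obtain ⟨s', rfl⟩ : ∃ s', s = (⟨g, hg⟩ : ↥M24) • s' := ⟨_, (smul_inv_smul (⟨g, hg⟩ : ↥M24) s).symm⟩
  subst e
  change ((⟨g, hg⟩ : ↥M24) • s' ⊆ (⟨g, hg⟩ : ↥M24) • setOfMask 8536111) at hs
  rw [smul_set_subset] at hs
  have hsub : Nat.beq (Nat.land (maskOf s') 8536111) (maskOf s') = true := by
    rw [Nat.beq_eq]
    have := (subset_iff_land _ _).1 hs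
    rwa [maskOf_setOfMask (by norm_num)] at this
  have hcheck : meetCheck (maskOf s') = true :=
    allSub_maskOf (m := 8536111) (by decide +kernel) (Nat.eq_of_beq_eq_true hsub)
  have count : {o' : Finset GolayPt | o' ∈ octads ∧
      (⟨g, hg⟩ : ↥M24) • setOfMask 8536111 ∩ o' = (⟨g, hg⟩ : ↥M24) • s'}.ncard =
      countList (codeList 8) (fun x => Nat.beq (Nat.land 8536111 x) (maskOf s')) := by
    rw [← ncard_smul_congr (⟨g, hg⟩ : ↥M24) (P := fun o' => o' ∈ octads ∧ setOfMask 8536111 ∩ o' = s')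
      (Q := fun o' => o' ∈ octads ∧ (⟨g, hg⟩ : ↥M24) • setOfMask 8536111 ∩ o' = (⟨g, hg⟩ : ↥M24) • s') fun o' => by
        rw [smul_mem_octads', ← smul_inter', smul_left_cancel_iff]]
    refine ncard_eq_countList 8 _ fun t => ?_
    refine and_congr_right fun _ => ?_
    rw [Nat.beq_eq, ← maskOf_injective.eq_iff, maskOf_inter, maskOf_setOfMask (by norm_num)]
    rfl
  have hc : ((⟨g, hg⟩ : ↥M24) • s').card = popc (maskOf s') := by rw [card_smul_set, popc_maskOf]
  refine ⟨fun h => count.trans ?_, fun h => count.trans ?_⟩ <;>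
    change ((⟨g, hg⟩ : ↥M24) • s').card = _ at h <;> rw [hc] at h
  · exact (meetCheck_elim hsub hcheck).1 h
  · exact (meetCheck_elim hsub hcheck).2 h

end Cfsg.Agent.S1555
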