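import Cfsg.Statements.S1560
import Cfsg.Agent.Lib.Sporadic.Census2
-- import your own Cfsg.Agent.* helpers here

set_option autoImplicit false
open scoped Pointwise
open Cfsg CfsgLib.Sporadic

namespace Cfsg.Agent.S1560

/-- Intersection numbers of dodecads: a dodecad meets every other dodecad in 0, 4, 6 or 8 points, meeting 495 of them in 4 points, 1584 in 6 points and 495 in 8 points. -/
theorem result (d : Finset Cfsg.GolayPt) (hd : d ∈ Cfsg.dodecads) : (∀ d' ∈ Cfsg.dodecads, d' ≠ d → (d ∩ d').card = 0 ∨ (d ∩ d').card = 4 ∨ (d ∩ d').card = 6 ∨ (d ∩ d').card = 8) ∧ {d' : Finset Cfsg.GolayPt | d' ∈ Cfsg.dodecads ∧ (d ∩ d').card = 4}.ncard = 495 ∧ {d' : Finset Cfsg.GolayPt | d' ∈ Cfsg.dodecads ∧ (d ∩ d').card = 6}.ncard = 1584 ∧ {d' : Finset Cfsg.GolayPt | d' ∈ Cfsg.dodecads ∧ (d ∩ d').card = 8}.ncard = 495 := by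
  obtain ⟨g, rfl⟩ := exists_smul_stdD hd
  have cnt : ∀ n : ℕ, {d' : Finset GolayPt | d' ∈ dodecads ∧ (g • setOfMask stdD ∩ d').card = n}.ncard =
      countList (codeList 12) (fun x => Nat.beq (popc (Nat.land stdD x)) n) :=
    fun n => ncard_inter_census g (by decide) 12 n
  refine ⟨fun d' hd' hne => ?_, (cnt 4).trans (by decide +kernel), (cnt 6).trans (by decide +kernel),
    (cnt 8).trans (by decide +kernel)⟩
  obtain ⟨d'', rfl⟩ : ∃ x, d' = g • x := ⟨g⁻¹ • d', (smul_inv_smul g d').symm⟩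
  rw [card_inter_smul, ← popc_maskOf (setOfMask stdD ∩ d''), maskOf_inter,
    maskOf_setOfMask (by decide)]
  obtain ⟨hc, hw⟩ := mem_dodecads_iff.1 ((smul_mem_dodecads' g).1 hd')
  obtain ⟨k, hk, e⟩ := inCode_iff.1 hc
  have hne' : maskOf d'' ≠ stdD := fun h => hne (by rw [← setOfMask_maskOf d'', h])
  rw [← e] at hw hne' ⊢
  have tbl : forallLt 4096 (fun k => !(Nat.beq (popc (enc k)) 12) || Nat.beq (enc k) stdD ||
      (let n := popc (Nat.land stdD (enc k)); Nat.beq n 0 || Nat.beq n 4 || Nat.beq n 6 || Nat.beq n 8)) = true := by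
    decide +kernel
  have := forallLt_elim tbl hk
  simp only [Bool.or_eq_true, Bool.not_eq_true', Nat.beq_eq] at this
  rcases this with (h | h) | h
  · rw [hw] at h; simp at h
  · exact absurd h hne'
  · exact or_assoc.1 (or_assoc.1 h)

end Cfsg.Agent.S1560
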