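import Cfsg.Statements.S1589
import Cfsg.Agent.Lib.Sporadic.MathieuFourIndex
-- import your own Cfsg.Agent.* helpers here

set_option autoImplicit false
open scoped Pointwise
open Cfsg CfsgLib.Sporadic

namespace Cfsg.Agent.S1589

/-- Subgroups of the group of the length-24 code of index 759, 276 and 1771 are exactly the octad, duad and sextet stabilisers, and no subgroup has index 253. -/
theorem result : (∀ H : Subgroup ↥Cfsg.M24, H.index = 759 → ∃ o ∈ Cfsg.octads, H = MulAction.stabilizer Cfsg.M24 o) ∧ (∀ H : Subgroup ↥Cfsg.M24, H.index = 276 → ∃ s : Finset Cfsg.GolayPt, s.card = 2 ∧ H = MulAction.stabilizer Cfsg.M24 s) ∧ (∀ H : Subgroup ↥Cfsg.M24, H.index = 1771 → ∃ S ∈ Cfsg.sextets, H = MulAction.stabilizer Cfsg.M24 S) ∧ ∀ H : Subgroup ↥Cfsg.M24, H.index ≠ 253 := by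
  open CfsgLib.Sporadic in
  have key : ∀ (H : Subgroup ↥M24) (n c : ℕ), H.index = n → c * n = 244823040 → 0 < n → Nat.card ↥H = c := by
    intro H n c hn hc hpos
    have h := H.card_mul_index
    rw [hn, M24_card, ← hc] at h
    exact Nat.eq_of_mul_eq_mul_right hpos h
  exact ⟨fun H h => IndexFour.eq_octad_stab (key H 759 322560 h (by norm_num) (by norm_num)),
    fun H h => IndexFour.eq_duad_stab (key H 276 887040 h (by norm_num) (by norm_num)),
    fun H h => IndexFour.eq_sextet_stab (key H 1771 138240 h (by norm_num) (by norm_num)),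
    fun H h => IndexFour.no_card_967680 H (key H 253 967680 h (by norm_num) (by norm_num))⟩

end Cfsg.Agent.S1589
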