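import Cfsg.Statements.S1590
import Cfsg.Agent.Lib.Sporadic.Ternary
-- import your own Cfsg.Agent.* helpers here

set_option autoImplicit false
open Cfsg CfsgLib.Sporadic
open scoped Pointwise

namespace Cfsg.Agent.S1590

/-- The length-12 ternary code has 729 words with weight distribution 0^1 6^264 9^440 12^24. -/
theorem result : Nat.card ↥Cfsg.ternaryGolayCode = 729 ∧ (∀ x ∈ Cfsg.ternaryGolayCode, x ≠ 0 → (Cfsg.ternarySupport x).card = 6 ∨ (Cfsg.ternarySupport x).card = 9 ∨ (Cfsg.ternarySupport x).card = 12) ∧ {x : Cfsg.ArrayPt → ZMod 3 | x ∈ Cfsg.ternaryGolayCode ∧ (Cfsg.ternarySupport x).card = 6}.ncard = 264 ∧ {x : Cfsg.ArrayPt → ZMod 3 | x ∈ Cfsg.ternaryGolayCode ∧ (Cfsg.ternarySupport x).card = 9}.ncard = 440 ∧ {x : Cfsg.ArrayPt → ZMod 3 | x ∈ Cfsg.ternaryGolayCode ∧ (Cfsg.ternarySupport x).card = 12}.ncard = 24 := by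
  have hn : ∀ w, {x : Cfsg.ArrayPt → ZMod 3 | x ∈ Cfsg.ternaryGolayCode ∧ (Cfsg.ternarySupport x).card = w}.ncard =
      (Finset.univ.filter fun a => (Cfsg.ternarySupport (ternEnc a)).card = w).card := fun w => ncard_ternary _
  refine ⟨?_, fun x hx h0 => ?_, ?_, ?_, ?_⟩
  · rw [← SetLike.coe_sort_coe, Nat.card_coe_set_eq]
    refine Eq.trans ?_ ((ncard_ternary fun _ => True).trans (by decide +kernel))
    congr 1; ext x; simp
  · obtain ⟨a, rfl⟩ := (mem_ternary_iff x).1 hx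
    have : ∀ a : Fin 6 → ZMod 3, a ≠ 0 → (Cfsg.ternarySupport (ternEnc a)).card = 6 ∨ (Cfsg.ternarySupport (ternEnc a)).card = 9 ∨ (Cfsg.ternarySupport (ternEnc a)).card = 12 := by decide +kernel
    exact this a fun e => h0 (by funext p; simp [ternEnc, e])
  all_goals (rw [hn]; decide +kernel)

end Cfsg.Agent.S1590
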