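import Cfsg.Statements.S1593
import Cfsg.Agent.Lib.Sporadic.Ternary
-- import your own Cfsg.Agent.* helpers here

set_option autoImplicit false
open Cfsg CfsgLib.Sporadic
open scoped Pointwise

namespace Cfsg.Agent.S1593

/-- The only sign changes preserving the length-12 ternary code are the identity and negation of all coordinates. -/
theorem result (c : Cfsg.ArrayPt → (ZMod 3)ˣ) (h : (∀ x ∈ Cfsg.ternaryGolayCode, Cfsg.monomialMap 1 c x ∈ Cfsg.ternaryGolayCode)) : (∀ p, c p = 1) ∨ (∀ p, c p = -1) := by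
  have hc : ∀ p, (c p : ZMod 3) ≠ 0 := fun p => (c p).ne_zero
  have hd := ternary_diag (fun p => (c p : ZMod 3)) hc fun j => by
    obtain ⟨a, ha⟩ := (mem_ternary_iff _).1 (h _ (ternB_mem j))
    exact ⟨a, fun p => (congrFun ha p).symm⟩
  have h2 : ∀ u : (ZMod 3)ˣ, u = 1 ∨ u = -1 := by decide
  rcases h2 (c (0, 0)) with e | e
  · exact Or.inl fun p => (Units.ext (hd p (0, 0))).trans e
  · exact Or.inr fun p => (Units.ext (hd p (0, 0))).trans e

end Cfsg.Agent.S1593
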