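import Cfsg.Statements.S1606
import Cfsg.Agent.Lib.Sporadic.MathieuTwoTwoIndex
-- import your own Cfsg.Agent.* helpers here

set_option autoImplicit false
open scoped Pointwise
open Cfsg CfsgLib.Sporadic

namespace Cfsg.Agent.S1606

/-- The stabiliser of two points in the group of the length-24 code has no subgroups of index 56 or 210. -/
theorem result (p q : Cfsg.GolayPt) (hpq : p ≠ q) (H : Subgroup ↥(MulAction.stabilizer Cfsg.M24 p ⊓ MulAction.stabilizer Cfsg.M24 q)) : H.index ≠ 56 ∧ H.index ≠ 210 := by
  open CfsgLib.Sporadic in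
  obtain ⟨t, h1, h2⟩ := exists_map_two hpq (show (none : GolayPt) ≠ some 0 by decide)
  let f : ↥(MulAction.stabilizer ↥M24 p ⊓ MulAction.stabilizer ↥M24 q) →* ↥IndexTwoTwo.M22pt :=
    ((MulAut.conj t).toMonoidHom.comp (Subgroup.subtype _)).codRestrict _ fun u => by
      refine Subgroup.mem_inf.2 ⟨?_, ?_⟩
      · show (t * (u : ↥M24) * t⁻¹) • (none : GolayPt) = none
        rw [← h1, mul_smul, mul_smul, inv_smul_smul, (Subgroup.mem_inf.1 u.2).1]
      · show (t * (u : ↥M24) * t⁻¹) • (some 0 : GolayPt) = some 0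
        rw [← h2, mul_smul, mul_smul, inv_smul_smul, (Subgroup.mem_inf.1 u.2).2]
  have hf : Function.Injective f := fun a b e =>
    Subtype.ext ((MulAut.conj t).injective (congrArg Subtype.val e))
  have hG : Nat.card ↥(MulAction.stabilizer ↥M24 p ⊓ MulAction.stabilizer ↥M24 q) = 443520 :=
    card_stab_two p q hpq
  have hc : Nat.card (H.map f) = Nat.card H := (Nat.card_congr (H.equivMapOfInjective f hf).toEquiv).symm
  have hmul := H.card_mul_index
  rw [hG] at hmul
  constructor <;> intro hi <;> rw [hi] at hmul <;>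
    exact IndexTwoTwo.false_of_card (H.map f) (by rw [hc]; omega)

end Cfsg.Agent.S1606
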