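import Cfsg.Statements.S1610
import Cfsg.Agent.Lib.Sporadic.Hexacode
-- import your own Cfsg.Agent.* helpers here

set_option autoImplicit false
open Cfsg CfsgLib.Sporadic
open scoped Pointwise

namespace Cfsg.Agent.S1610

/-- The hexacode has 64 words, minimum weight 4, and weight distribution 0^1 4^45 6^18. -/
theorem result (F : Type*) [Field F] [Fintype F] [DecidableEq F] (hF : Fintype.card F = 4) (ω : F) (hω : ω ^ 2 + ω + 1 = 0) : Nat.card ↥(Cfsg.hexacode F ω) = 64 ∧ (∀ x ∈ Cfsg.hexacode F ω, x ≠ 0 → (Finset.univ.filter fun i => x i ≠ 0).card = 4 ∨ (Finset.univ.filter fun i => x i ≠ 0).card = 6) ∧ {x : Fin 6 → F | x ∈ Cfsg.hexacode F ω ∧ (Finset.univ.filter fun i => x i ≠ 0).card = 4}.ncard = 45 ∧ {x : Fin 6 → F | x ∈ Cfsg.hexacode F ω ∧ (Finset.univ.filter fun i => x i ≠ 0).card = 6}.ncard = 18 := by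
  have h2 := Hexa.two_eq hF
  have hn := Hexa.ncard_hexacode (ω := ω) h2 hω hF
  refine ⟨?_, fun x hx h0 => ?_, ?_, ?_⟩
  · have hb : Function.Bijective (fun a : Fin 3 → Fin 4 => (⟨Hexa.el ω ∘ Hexa.word a, (Hexa.mem_hexacode h2 hω hF _).2 ⟨a, rfl⟩⟩ : ↥(Cfsg.hexacode F ω))) := by
      refine ⟨fun a b e => Hexa.word_injective a b ((Hexa.el_injective h2 hω).comp_left (congrArg Subtype.val e)), fun ⟨x, hx⟩ => ?_⟩
      obtain ⟨a, rfl⟩ := (Hexa.mem_hexacode h2 hω hF x).1 hx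
      exact ⟨a, rfl⟩
    rw [← Nat.card_eq_of_bijective _ hb, Nat.card_fun, Nat.card_fin, Nat.card_fin]
    rfl
  · obtain ⟨a, rfl⟩ := (Hexa.mem_hexacode h2 hω hF x).1 hx
    have key : ∀ a : Fin 3 → Fin 4, a ≠ 0 → (Finset.univ.filter fun i => Hexa.word a i ≠ 0).card = 4 ∨ (Finset.univ.filter fun i => Hexa.word a i ≠ 0).card = 6 := by decide +kernel
    have hz : ∀ z, Hexa.el ω z ≠ 0 ↔ z ≠ 0 := fun z => (Hexa.el_injective h2 hω).ne_iff' (by simp [Hexa.el])
    simp only [Function.comp_apply, hz]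
    refine key a fun e => h0 (funext fun i => ?_)
    subst e
    show Hexa.el ω (Hexa.word 0 i) = 0
    rw [show Hexa.word 0 i = 0 by revert i; decide +kernel]
    simp [Hexa.el]
  all_goals (rw [hn]; decide +kernel)

end Cfsg.Agent.S1610
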