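import Cfsg.Statements.S1612
import Cfsg.Agent.Lib.ThreeTrans.RankThreeFischer

set_option autoImplicit false
open Cfsg CfsgLib.ThreeTrans CfsgLib.ThreeTrans.RankThree

namespace Cfsg.Agent.S1612

/-- In a 3-transposition group (no solvable normal subgroup, perfect derived group), the normaliser of a commuting set of transpositions of maximum size contains a Sylow 2-subgroup and is doubly transitive on the set. -/
theorem result {G : Type*} [Group G] [Finite G] (hsol : ∀ N : Subgroup G, N.Normal → Group.IsSolvable ↥N → N = ⊥) (hperf : ⁅commutator G, commutator G⁆ = commutator G) {D : Set G} (hD : Cfsg.IsThreeTranspositionClass D) {E : Set G} (hE : E ⊆ D) (hc : ∀ a ∈ E, ∀ b ∈ E, Commute a b) (hmax : ∀ E' : Set G, E' ⊆ D → (∀ a ∈ E', ∀ b ∈ E', Commute a b) → E'.ncard ≤ E.ncard) : (∃ P : Sylow 2 G, (P : Subgroup G) ≤ Subgroup.normalizer E) ∧ ∀ a ∈ E, ∀ b ∈ E, ∀ c ∈ E, ∀ d ∈ E, a ≠ b → c ≠ d → ∃ g ∈ Subgroup.normalizer E, g * a * g⁻¹ = c ∧ g * b * g⁻¹ = d := by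
  haveI : Fact (Nat.Prime 2) := ⟨Nat.prime_two⟩
  refine ⟨?_, fun a ha b hb c hc' d hd' hab hcd => ?_⟩
  · obtain ⟨P, hP⟩ := (isPGroup_two_closure_of_commute hD.1 hE hc).exists_le_sylow
    have htr := trace_eq hD.1 hE hmax P.2 fun x hx => hP (Subgroup.subset_closure hx)
    refine ⟨P, fun g hg => mem_normalizer_of_image ?_⟩
    refine Set.eq_of_subset_of_ncard_le ?_ (le_of_eq ?_) (Set.toFinite _)
    · rintro _ ⟨x, hx, rfl⟩
      rw [← htr]
      exact ⟨class_conj hD g x (hE hx), mul_mem (mul_mem hg (hP (Subgroup.subset_closure hx))) (inv_mem hg)⟩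
    · exact (Set.ncard_image_of_injective _ fun x y h => mul_left_cancel (mul_right_cancel h)).symm
  · exact (setting_of_perfect hD hsol hperf ⟨a, hE ha, b, hE hb, hab, hc a ha b hb⟩).maximal_set_two_transitive
      hE hc hmax ha hb hc' hd' hab hcd

end Cfsg.Agent.S1612
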