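import Cfsg.Statements.S1615
import Cfsg.Agent.Lib.ThreeTrans.CoreNotCentral.Petersen
-- import your own Cfsg.Agent.* helpers here

set_option autoImplicit false
open Cfsg

namespace Cfsg.Agent.S1615

/-- If O(⟨D_x⟩) is not central in ⟨D_x⟩ for some transposition x, the 3-transposition group is the symmetric group of degree 5. -/
theorem result {G : Type*} [Group G] [Finite G] (hsol : ∀ N : Subgroup G, N.Normal → Group.IsSolvable ↥N → N = ⊥) (hperf : ⁅commutator G, commutator G⁆ = commutator G) {D : Set G} (hD : Cfsg.IsThreeTranspositionClass D) (x : G) (hx : x ∈ D) (h : ¬ Cfsg.oddCore ↥(Subgroup.closure {y : G | y ∈ D ∧ y ≠ x ∧ Commute x y}) ≤ Subgroup.center ↥(Subgroup.closure {y : G | y ∈ D ∧ y ≠ x ∧ Commute x y})) : Nonempty (G ≃* Equiv.Perm (Fin 5)) := by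
  open CfsgLib.ThreeTrans CfsgLib.ThreeTrans.CoreNC CfsgLib.ThreeTrans.RankThree in
  set H := Subgroup.closure {y : G | y ∈ D ∧ y ≠ x ∧ Commute x y} with hH
  have hS := hD.1
  obtain ⟨k, hk, hkn⟩ := SetLike.not_le_iff_exists.1 h
  obtain ⟨a, ha, hka⟩ : ∃ a ∈ nb D x, ¬ Commute (k : G) a := by
    by_contra hall
    push Not at hall
    exact hkn (Subgroup.mem_center_iff.2 fun z => Subtype.ext (commute_closure hall z.2).symm.eq)
  have S : Setting D := setting_of_perfect hD hsol hperf ⟨x, hx, a, ha.1, ha.2.1.symm, ha.2.2⟩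
  have hb : (k : G) * a * (k : G)⁻¹ ∈ nb D x := by
    have h1 := nb_conj S (g := (k : G)) ha
    rwa [(commute_closure (fun t ht => ht.2.2) k.2).symm.eq, mul_inv_cancel_right] at h1
  have hba : (k : G) * a * (k : G)⁻¹ ≠ a := fun e => hka (mul_inv_eq_iff_eq_mul.1 e)
  set b := (k : G) * a * (k : G)⁻¹ with hbd
  clear_value b
  let A : H := ⟨a, Subgroup.subset_closure ha⟩
  let B : H := ⟨b, Subgroup.subset_closure hb⟩
  haveI : (oddCore H).Normal := CfsgLib.Core.normal_pPrimeCore 2 H
  have hAB : A * B ∈ oddCore H := by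
    have h1 : A * k * A⁻¹ * k⁻¹ ∈ oddCore H :=
      mul_mem (Subgroup.Normal.conj_mem inferInstance k hk A) (inv_mem hk)
    have h2 : A * B = A * k * A⁻¹ * k⁻¹ := Subtype.ext (by
      show a * b = a * (k : G) * a⁻¹ * (k : G)⁻¹
      rw [hbd, inv_eq hS ha.1]; simp only [mul_assoc])
    exact h2 ▸ h1
  have hodd : ∀ z ∈ oddCore H, z * z = 1 → z = 1 := fun z hz h2 =>
    eq_one_of_pow_mem_odd (CfsgLib.ZStar.odd_card_oddCore H) hz h2
  have hab : ¬ Commute a b := fun hc => hba (by
    have h1 := congrArg Subtype.val (hodd _ hAB (Subtype.ext (by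
      show a * b * (a * b) = 1
      rw [← pow_two]; exact (commute_iff_sq hS ha.1 hb.1).1 hc)))
    have h2 : a * b = 1 := h1
    rw [← inv_eq hS ha.1]; exact (eq_inv_of_mul_eq_one_right h2))
  refine equiv_perm_five S hsol (spec_of_subset S hx ha hb fun c hc => ?_) hab hx
  refine ⟨hc.1, hc.2.1, fun e => hab (e ▸ hc.2.2.2), ?_⟩
  by_contra hbc
  let C : H := ⟨c, Subgroup.subset_closure ⟨hc.1, hc.2.1.1, hc.2.1.2⟩⟩
  have hCA : C * A * (C * A) = 1 := Subtype.ext (by
    show c * a * (c * a) = 1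
    rw [← pow_two]; exact (commute_iff_sq hS hc.1 ha.1).1 hc.2.2.2.symm)
  have h2 : C * B * (C * B) ∈ oddCore H := by
    have e : C * B = C * A * (A * B) := Subtype.ext (by
      show c * b = c * a * (a * b)
      rw [mul_assoc c, mul_self_assoc hS ha.1])
    rw [e, show C * A * (A * B) * (C * A * (A * B)) = C * A * (A * B) * (C * A)⁻¹ * (C * A * (C * A)) * (A * B) by
      group, hCA, mul_one]
    exact mul_mem (Subgroup.Normal.conj_mem inferInstance _ hAB _) hAB
  have h3 : C * B ∈ oddCore H := by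
    have e : C * B = C * B * (C * B) * (C * B * (C * B)) := Subtype.ext (by
      show c * b = c * b * (c * b) * (c * b * (c * b))
      have := CfsgLib.ThreeTrans.pow_three hS hc.1 hb.1 fun e => hbc e.symm
      rw [_root_.pow_succ, pow_two] at this
      rw [← mul_assoc (c * b * (c * b)), this, one_mul])
    exact e ▸ mul_mem h2 h2
  have h4 : C * A ∈ oddCore H := by
    have e : C * A = C * B * (A * B)⁻¹ := Subtype.ext (by
      show c * a = c * b * (a * b)⁻¹
      rw [mul_inv_rev, inv_eq hS ha.1, inv_eq hS hb.1, mul_assoc c, mul_self_assoc hS hb.1])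
    exact e ▸ mul_mem h3 (inv_mem hAB)
  have h5 := congrArg Subtype.val (hodd _ h4 hCA)
  have h6 : c * a = 1 := h5
  apply hc.2.2.1
  rw [← inv_eq hS ha.1]; exact eq_inv_of_mul_eq_one_left h6
where
  eq_one_of_pow_mem_odd {H : Type _} [Group H] {N : Subgroup H} (hN : Odd (Nat.card N)) {z : H} (hz : z ∈ N)
      (h2 : z * z = 1) : z = 1 := by
    refine orderOf_eq_one_iff.1 (Nat.eq_one_of_dvd_coprimes (Nat.coprime_two_left.2 hN)
      (orderOf_dvd_of_pow_eq_one (by rw [pow_two]; exact h2)) ?_)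
    rw [← Subgroup.orderOf_mk z hz]
    exact orderOf_dvd_natCard _

end Cfsg.Agent.S1615
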