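import Cfsg.Statements.S1614
import Cfsg.Agent.Lib.ThreeTrans.PolarType.Main
import Cfsg.Agent.S0247
import Cfsg.Agent.S1615
-- import your own Cfsg.Agent.* helpers here

set_option autoImplicit false
open Cfsg

namespace Cfsg.Agent.S1614

/-- If the commuting transpositions of one transposition generate a solvable group, a Fischer 3-transposition group is S5, S6, PSU(4, 2) or PSU(5, 2). -/
theorem result {G : Type*} [Group G] [Finite G] (hsol : ∀ N : Subgroup G, N.Normal → Group.IsSolvable ↥N → N = ⊥) (hperf : ⁅commutator G, commutator G⁆ = commutator G) {D : Set G} (hD : Cfsg.IsThreeTranspositionClass D) (x : G) (hx : x ∈ D) (hs : Group.IsSolvable ↥(Subgroup.closure {y : G | y ∈ D ∧ y ≠ x ∧ Commute x y})) : Nonempty (G ≃* Equiv.Perm (Fin 5)) ∨ Nonempty (G ≃* Equiv.Perm (Fin 6)) ∨ ∃ (F : Type) (_ : Field F) (_ : Fintype F), Fintype.card F = 4 ∧ (Nonempty (G ≃* Cfsg.PSU 4 F 2) ∨ Nonempty (G ≃* Cfsg.PSU 5 F 2)) := by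
  open CfsgLib.ThreeTrans CfsgLib.ThreeTrans.RankThree in
  have S : Setting D := setting_of_perfect hD hsol hperf (Polar.exists_width hD hsol)
  by_cases hO : Cfsg.oddCore ↥(Subgroup.closure {y : G | y ∈ D ∧ y ≠ x ∧ Commute x y}) ≤
      Subgroup.center ↥(Subgroup.closure {y : G | y ∈ D ∧ y ≠ x ∧ Commute x y})
  · by_cases h2 : Cfsg.pCore 2 ↥(Subgroup.closure {y : G | y ∈ D ∧ y ≠ x ∧ Commute x y}) ≤
        Subgroup.center ↥(Subgroup.closure {y : G | y ∈ D ∧ y ≠ x ∧ Commute x y})
    · exact absurd hs (Polar.not_solvable_of_cores S hx h2 hO)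
    · rcases Polar.classification (Polar.pol_of_core S (Polar.center_eq_bot hsol) hx h2) with
        ⟨n, hn2, ⟨e⟩, hpath⟩ | ⟨F, hF, hfin, n, hc, hn, hn4, hpath⟩
      · by_cases h3 : 3 ≤ n
        · exact absurd hs (Polar.not_solvable_of_path hD.1 (fun y hy => hy.1) (hpath h3 x hx))
        · obtain rfl : n = 2 := by omega
          obtain ⟨f⟩ := Cfsg.Agent.S0247.result (F := ZMod 2) (ZMod.card 2)
          exact Or.inr (Or.inl ⟨e.trans f⟩)
      · by_cases h6 : 6 ≤ n
        · exact absurd hs (Polar.not_solvable_of_path hD.1 (fun y hy => hy.1) (hpath h6 x hx))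
        · refine Or.inr (Or.inr ⟨F, hF, hfin, hc, ?_⟩)
          have : n = 4 ∨ n = 5 := by omega
          rcases this with rfl | rfl
          exacts [Or.inl hn, Or.inr hn]
  · exact Or.inl (Cfsg.Agent.S1615.result hsol hperf hD x hx hO)

end Cfsg.Agent.S1614
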