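import Cfsg.Statements.S1617
import Cfsg.Agent.Lib.RankThreeInv.Commuting
import Cfsg.Agent.Lib.RankThreeInv.Skew
import Cfsg.Agent.Lib.ZStar.Main
import Cfsg.Agent.S0200

set_option autoImplicit false
open Cfsg

namespace Cfsg.Agent.S1617

/-- A generating conjugacy class of involutions on which the group (with trivial solvable radical) acts with rank 3 is a class of 3-transpositions. -/
theorem result {G : Type*} [Group G] [Finite G] (hsol : ∀ N : Subgroup G, N.Normal → Group.IsSolvable ↥N → N = ⊥) {D : Set G} (hinv : ∀ d ∈ D, orderOf d = 2) (hconj : ∃ d ∈ D, D = conjugatesOf d) (hgen : Subgroup.closure D = ⊤) (hrank : ∀ x ∈ D, ∃ y ∈ D, ∃ z ∈ D, {w : G | ∃ g : G, Commute g x ∧ g * y * g⁻¹ = w} ≠ {w : G | ∃ g : G, Commute g x ∧ g * x * g⁻¹ = w} ∧ {w : G | ∃ g : G, Commute g x ∧ g * z * g⁻¹ = w} ≠ {w : G | ∃ g : G, Commute g x ∧ g * x * g⁻¹ = w} ∧ {w : G | ∃ g : G, Commute g x ∧ g * y * g⁻¹ = w} ≠ {w : G | ∃ g : G, Commute g x ∧ g * z * g⁻¹ = w}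 ∧ D = {w : G | ∃ g : G, Commute g x ∧ g * x * g⁻¹ = w} ∪ {w : G | ∃ g : G, Commute g x ∧ g * y * g⁻¹ = w} ∪ {w : G | ∃ g : G, Commute g x ∧ g * z * g⁻¹ = w}) : Cfsg.IsThreeTranspositionClass D := by
  classical
  obtain ⟨d, hd, hDd⟩ := hconj
  have htrans : ∀ a ∈ D, ∀ b ∈ D, ∃ g : G, g * a * g⁻¹ = b := by
    intro a ha b hb
    rw [hDd] at ha hb
    obtain ⟨g, hg⟩ := isConj_iff.mp ha
    obtain ⟨k, hk⟩ := isConj_iff.mp hb
    exact ⟨k * g⁻¹, by rw [← hk, ← hg]; group⟩
  have hclosed : ∀ g : G, ∀ a ∈ D, g * a * g⁻¹ ∈ D := by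
    intro g a ha
    rw [hDd] at ha ⊢
    exact IsConj.trans ha (isConj_iff.mpr ⟨g, rfl⟩)
  have S : CfsgLib.RankThreeInv.Setup D := ⟨hinv, hclosed, htrans, hgen, hsol⟩
  obtain ⟨y, hy, z, hz, hyx, hzx, -, hun⟩ := hrank d hd
  -- every pair of distinct members is of one of the two kinds
  have hkind : ∀ a ∈ D, ∀ b ∈ D, a ≠ b →
      ∃ g : G, g * d * g⁻¹ = a ∧ (g * y * g⁻¹ = b ∨ g * z * g⁻¹ = b) := by
    intro a ha b hb hne
    obtain ⟨k, hk⟩ := htrans d hd a ha
    have hmem : k⁻¹ * b * k ∈ D := by simpa using hclosed k⁻¹ b hb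
    rw [hun] at hmem
    rcases hmem with (⟨g, hg, e⟩ | ⟨g, hg, e⟩) | ⟨g, hg, e⟩
    · exfalso
      apply hne
      rw [hg.eq, mul_inv_cancel_right] at e
      rw [← hk, e]; group
    · refine ⟨k * g, ?_, Or.inl ?_⟩
      · rw [show k * g * d * (k * g)⁻¹ = k * (g * d * g⁻¹) * k⁻¹ by group, hg.eq,
          mul_inv_cancel_right, hk]
      · rw [show k * g * y * (k * g)⁻¹ = k * (g * y * g⁻¹) * k⁻¹ by group, e]; group
    · refine ⟨k * g, ?_, Or.inr ?_⟩
      · rw [show k * g * d * (k * g)⁻¹ = k * (g * d * g⁻¹) * k⁻¹ by group, hg.eq,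
          mul_inv_cancel_right, hk]
      · rw [show k * g * z * (k * g)⁻¹ = k * (g * z * g⁻¹) * k⁻¹ by group, e]; group
  have hdy : d ≠ y := fun e => hyx (by rw [e])
  have hdz : d ≠ z := fun e => hzx (by rw [e])
  have hordg : ∀ g a b : G,
      orderOf (g * a * g⁻¹ * (g * b * g⁻¹)) = orderOf (a * b) := fun g a b => by
    rw [show g * a * g⁻¹ * (g * b * g⁻¹) = g * (a * b) * g⁻¹ by group,
      CfsgLib.Signalizer.orderOf_conj]
  have hcommg : ∀ g a b : G, Commute (g * a * g⁻¹) (g * b * g⁻¹) ↔ Commute a b := fun g a b =>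
    Commute.conj_iff g
  -- some product has odd order bigger than 1
  obtain ⟨h, h1, hodd, hinvh⟩ := Cfsg.Agent.S0200.result d (hinv d hd) (fun N hN hNp hdN => by
    have hN1 := S.pgroup_normal_bot hN hNp
    rw [hN1, Subgroup.mem_bot] at hdN
    exact CfsgLib.Signalizer.involution_ne_one (hinv d hd) hdN)
  obtain ⟨u, hu, hdu, hdu1⟩ : ∃ u ∈ D, Odd (orderOf (d * u)) ∧ orderOf (d * u) ≠ 1 := by
    obtain ⟨i, hi⟩ : ∃ i : ℕ, i * 2 = orderOf h + 1 :=
      ⟨(orderOf h + 1) / 2, Nat.div_mul_cancel hodd.add_one.two_dvd⟩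
    have hk2 : h ^ i * h ^ i = h := by
      rw [← pow_add, show i + i = orderOf h + 1 by omega, pow_succ, pow_orderOf_eq_one, one_mul]
    have hdi : d * h ^ i * d⁻¹ = (h ^ i)⁻¹ := by rw [← conj_pow, hinvh, inv_pow]
    refine ⟨h ^ i * d * (h ^ i)⁻¹, hclosed _ d hd, ?_⟩
    have e : d * (h ^ i * d * (h ^ i)⁻¹) = h⁻¹ := by
      rw [show d * (h ^ i * d * (h ^ i)⁻¹) = d * h ^ i * d⁻¹ * (d * d) * (h ^ i)⁻¹ by group, hdi,
        CfsgLib.Signalizer.involution_sq (hinv d hd), mul_one, ← mul_inv_rev, hk2]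
    rw [e, orderOf_inv]
    exact ⟨hodd, fun e1 => h1 (orderOf_eq_one_iff.mp e1)⟩
  have hduC : ¬ Commute d u := by
    intro hc
    have h2 := orderOf_dvd_of_pow_eq_one
      ((CfsgLib.RankThreeInv.commute_iff_sq (hinv d hd) (hinv u hu)).mp hc)
    rcases (Nat.dvd_prime Nat.prime_two).mp h2 with e | e
    · exact hdu1 e
    · rw [e] at hdu; exact absurd hdu (by decide)
  -- members with a product of given order dividing the product of two members
  have hsub : ∀ v ∈ D, ∀ k : ℕ, k ∣ orderOf (d * v) → ∃ w ∈ D, orderOf (d * w) = k := by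
    intro v hv k hk
    refine ⟨d * (d * v) ^ (orderOf (d * v) / k), S.pow_mem hd hv _, ?_⟩
    rw [CfsgLib.RankThreeInv.mul_mul_self (hinv d hd)]
    exact orderOf_pow_orderOf_div (orderOf_pos _).ne' hk
  refine ⟨⟨hinv, ?_⟩, ⟨d, hd, hDd⟩, hgen⟩
  by_cases hex : ∃ a ∈ D, ∃ b ∈ D, a ≠ b ∧ Commute a b
  · obtain ⟨a, ha, b, hb, hab, habc⟩ := hex
    have hmain : ∀ y z : G, y ∈ D → z ∈ D → d ≠ y →
        (∀ a ∈ D, ∀ b ∈ D, a ≠ b →
          ∃ g : G, g * d * g⁻¹ = a ∧ (g * y * g⁻¹ = b ∨ g * z * g⁻¹ = b)) →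
        Commute d y → ¬ Commute d z →
        ∀ a ∈ D, ∀ b ∈ D, (a * b) ^ 2 = 1 ∨ (a * b) ^ 3 = 1 := by
      intro y z hy hz hdy hkind hcy hcz
      have hnc : ∀ a ∈ D, ∀ b ∈ D, ¬ Commute a b → ∃ g : G, g * d * g⁻¹ = a ∧ g * z * g⁻¹ = b := by
        intro a ha b hb hc
        obtain ⟨g, h1, h2 | h2⟩ := hkind a ha b hb (fun e => hc (e ▸ Commute.refl a))
        · exact absurd ((hcommg g d y).mpr hcy) (by rw [h1, h2]; exact hc)
        · exact ⟨g, h1, h2⟩
      have hcc : ∀ a ∈ D, ∀ b ∈ D, a ≠ b → Commute a b →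
          ∃ g : G, g * d * g⁻¹ = a ∧ g * y * g⁻¹ = b := by
        intro a ha b hb hne hc
        obtain ⟨g, h1, h2 | h2⟩ := hkind a ha b hb hne
        · exact ⟨g, h1, h2⟩
        · rw [← h1, ← h2, hcommg] at hc; exact absurd hc hcz
      set n := orderOf (d * z) with hn
      have hord : ∀ a ∈ D, ∀ b ∈ D, ¬ Commute a b → orderOf (a * b) = n := by
        intro a ha b hb hc
        obtain ⟨g, h1, h2⟩ := hnc a ha b hb hc
        rw [← h1, ← h2, hordg]
      have hnodd : Odd n := by rw [← hord d hd u hu hduC]; exact hdu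
      intro a ha b hb
      by_cases hc : Commute a b
      · exact Or.inl ((CfsgLib.RankThreeInv.commute_iff_sq (hinv a ha) (hinv b hb)).mp hc)
      refine Or.inr ?_
      have h3 : n = 3 := by
        by_contra hn3
        by_cases h3d : 3 ∣ n
        · obtain ⟨w, hw, hwo⟩ := hsub z hz 3 h3d
          by_cases hcw : Commute d w
          · have h2 := orderOf_dvd_of_pow_eq_one
              ((CfsgLib.RankThreeInv.commute_iff_sq (hinv d hd) (hinv w hw)).mp hcw)
            rw [hwo] at h2; omega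
          · exact hn3 ((hord d hd w hw hcw).symm.trans hwo)
        · refine CfsgLib.RankThreeInv.Graph.contradiction (n := n) (D := D) ⟨S, hnodd, h3d, hord,
            ?_, ?_, ⟨d, hd, y, hy, hdy, hcy⟩⟩
          · intro a ha b hb a' ha' b' hb' hne hc hne' hc'
            obtain ⟨g, h1, h2⟩ := hcc a ha b hb hne hc
            obtain ⟨k, k1, k2⟩ := hcc a' ha' b' hb' hne' hc'
            exact ⟨k * g⁻¹, by rw [← k1, ← h1]; group, by rw [← k2, ← h2]; group⟩
          · intro a ha b hb a' ha' b' hb' hc hc'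
            obtain ⟨g, h1, h2⟩ := hnc a ha b hb hc
            obtain ⟨k, k1, k2⟩ := hnc a' ha' b' hb' hc'
            exact ⟨k * g⁻¹, by rw [← k1, ← h1]; group, by rw [← k2, ← h2]; group⟩
      rw [← h3, ← hord a ha b hb hc]
      exact pow_orderOf_eq_one _
    by_cases hcy : Commute d y
    · by_cases hcz : Commute d z
      · exfalso
        refine S.not_central hd fun e he => ?_
        rcases eq_or_ne d e with rfl | hne
        · exact Commute.refl d
        obtain ⟨g, h1, h2 | h2⟩ := hkind d hd e he hne <;> rw [← h1, ← h2, hcommg] <;> assumption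
      · exact hmain y z hy hz hdy hkind hcy hcz
    · by_cases hcz : Commute d z
      · exact hmain z y hz hy hdz (fun a ha b hb hne => by
          obtain ⟨g, h1, h2⟩ := hkind a ha b hb hne
          exact ⟨g, h1, h2.symm⟩) hcz hcy
      · obtain ⟨g, h1, h2 | h2⟩ := hkind a ha b hb hab <;> rw [← h1, ← h2, hcommg] at habc <;>
          contradiction
  -- no commuting members
  exfalso
  push Not at hex
  have hoddall : ∀ a ∈ D, ∀ b ∈ D, Odd (orderOf (a * b)) := by
    intro a ha b hb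
    by_contra hev
    obtain ⟨k, hk⟩ := (Nat.not_odd_iff_even.mp hev).two_dvd
    have hw := S.pow_mem ha hb k
    have hpow : ((a * b) ^ k) ^ 2 = 1 := by rw [← pow_mul, mul_comm k 2, ← hk, pow_orderOf_eq_one]
    have hne : a ≠ a * (a * b) ^ k := by
      intro e
      have h1 := orderOf_dvd_of_pow_eq_one (mul_eq_left.mp e.symm)
      have hkp : 0 < k := by have := orderOf_pos (a * b); omega
      have := Nat.le_of_dvd hkp h1
      omega
    refine hex a ha _ hw hne ((CfsgLib.RankThreeInv.commute_iff_sq (hinv a ha) (hinv _ hw)).mpr ?_)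
    rwa [CfsgLib.RankThreeInv.mul_mul_self (hinv a ha)]
  have hcore' : ∀ g : G, d * g * d⁻¹ * g⁻¹ ∈ Cfsg.oddCore G :=
    CfsgLib.ZStar.mem_oddCore_of_odd_commutator (hinv d hd) fun g => by
      have h2 := hoddall d hd _ (hclosed g d hd)
      rw [show d * g * d⁻¹ * g⁻¹ = d * (g * d⁻¹ * g⁻¹) by group,
        CfsgLib.Signalizer.involution_inv (hinv d hd)]
      exact h2
  have hcore1 : ∀ b ∈ D, d * b ∈ Cfsg.oddCore G := by
    intro b hb
    obtain ⟨g, rfl⟩ := htrans d hd b hb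
    have h2 := hcore' g
    rwa [CfsgLib.Signalizer.involution_inv (hinv d hd),
      show d * g * d * g⁻¹ = d * (g * d * g⁻¹) by group] at h2
  have hcore : ∀ a ∈ D, ∀ b ∈ D, a * b ∈ Cfsg.oddCore G := by
    intro a ha b hb
    have h2 := mul_mem (inv_mem (hcore1 a ha)) (hcore1 b hb)
    rwa [mul_inv_rev, CfsgLib.Signalizer.involution_inv (hinv a ha),
      CfsgLib.Signalizer.involution_inv (hinv d hd), mul_assoc,
      CfsgLib.RankThreeInv.mul_mul_self (hinv d hd)] at h2
  have htwo : ∀ a ∈ D, ∀ b ∈ D, a ≠ b →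
      orderOf (a * b) = orderOf (d * y) ∨ orderOf (a * b) = orderOf (d * z) := by
    intro a ha b hb hne
    obtain ⟨g, h1, h2 | h2⟩ := hkind a ha b hb hne <;> rw [← h1, ← h2, hordg]
    · exact Or.inl rfl
    · exact Or.inr rfl
  have hprime : ∀ v ∈ D, ∀ r : ℕ, r.Prime → r ∣ orderOf (d * v) →
      r = orderOf (d * y) ∨ r = orderOf (d * z) := by
    intro v hv r hr hrv
    obtain ⟨w, hw, hwo⟩ := hsub v hv r hrv
    have hne : d ≠ w := fun e => by
      rw [← e, CfsgLib.Signalizer.involution_sq (hinv d hd), orderOf_one] at hwo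
      exact hr.ne_one hwo.symm
    rw [← hwo]
    exact htwo d hd w hw hne
  have hne1 : ∀ v ∈ D, d ≠ v → orderOf (d * v) ≠ 1 := fun v hv hne e => hne (by
    have e1 := eq_inv_of_mul_eq_one_left (orderOf_eq_one_iff.mp e)
    rwa [CfsgLib.Signalizer.involution_inv (hinv v hv)] at e1)
  have hpow : ¬ ∃ p : ℕ, p.Prime ∧ (∃ i, orderOf (d * y) = p ^ i) ∧ ∃ i, orderOf (d * z) = p ^ i := by
    rintro ⟨p, hp, hA, hB⟩
    have hcent := S.centralizes (Cfsg.pPrimeCore_normal 2 G) le_rfl hd hp (fun k _ => by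
      rcases eq_or_ne d (k * d * k⁻¹) with e | e
      · exact ⟨0, by rw [← e, CfsgLib.Signalizer.involution_sq (hinv d hd), orderOf_one, pow_zero]⟩
      · rcases htwo d hd _ (hclosed k d hd) e with e' | e' <;> rw [e']
        · exact hA
        · exact hB)
    have h2 := (hcent _ (hcore d hd y hy)).eq
    rw [CfsgLib.RankThreeInv.mul_mul_self (hinv d hd)] at h2
    refine hex d hd y hy hdy ?_
    show d * y = y * d
    calc d * y = d * y * d * d := by
          rw [mul_assoc, CfsgLib.Signalizer.involution_sq (hinv d hd), mul_one]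
      _ = y * d := by rw [← h2]
  by_cases hA : (orderOf (d * y)).Prime
  · by_cases hB : (orderOf (d * z)).Prime
    · have hne : orderOf (d * y) ≠ orderOf (d * z) := fun e =>
        hpow ⟨_, hA, ⟨1, (pow_one _).symm⟩, ⟨1, by rw [pow_one, e]⟩⟩
      refine CfsgLib.RankThreeInv.Iso.contradiction (D := D) (x := d) (y := y) (z := z)
        ⟨S, hA, hB, hne, htwo, ?_, ?_, hcore, hd, hy, hz, rfl, rfl⟩
      · intro a ha b hb a' ha' b' hb' e e'
        have key : ∀ a ∈ D, ∀ b ∈ D, orderOf (a * b) = orderOf (d * y) →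
            ∃ g : G, g * d * g⁻¹ = a ∧ g * y * g⁻¹ = b := by
          intro a ha b hb e
          have hab : a ≠ b := fun e1 => hA.ne_one (by
            rw [← e, e1, CfsgLib.Signalizer.involution_sq (hinv b hb), orderOf_one])
          obtain ⟨g, h1, h2 | h2⟩ := hkind a ha b hb hab
          · exact ⟨g, h1, h2⟩
          · rw [← h1, ← h2, hordg] at e; exact absurd e.symm hne
        obtain ⟨g, h1, h2⟩ := key a ha b hb e
        obtain ⟨k, k1, k2⟩ := key a' ha' b' hb' e'
        exact ⟨k * g⁻¹, by rw [← k1, ← h1]; group, by rw [← k2, ← h2]; group⟩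
      · intro a ha b hb a' ha' b' hb' e e'
        have key : ∀ a ∈ D, ∀ b ∈ D, orderOf (a * b) = orderOf (d * z) →
            ∃ g : G, g * d * g⁻¹ = a ∧ g * z * g⁻¹ = b := by
          intro a ha b hb e
          have hab : a ≠ b := fun e1 => hB.ne_one (by
            rw [← e, e1, CfsgLib.Signalizer.involution_sq (hinv b hb), orderOf_one])
          obtain ⟨g, h1, h2 | h2⟩ := hkind a ha b hb hab
          · rw [← h1, ← h2, hordg] at e; exact absurd e hne
          · exact ⟨g, h1, h2⟩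
        obtain ⟨g, h1, h2⟩ := key a ha b hb e
        obtain ⟨k, k1, k2⟩ := key a' ha' b' hb' e'
        exact ⟨k * g⁻¹, by rw [← k1, ← h1]; group, by rw [← k2, ← h2]; group⟩
    · refine hpow ⟨_, hA, ⟨1, (pow_one _).symm⟩, _,
        Nat.eq_prime_pow_of_unique_prime_dvd (orderOf_pos _).ne' fun {r} hr hrd => ?_⟩
      exact (hprime z hz r hr hrd).resolve_right fun e => hB (e ▸ hr)
  · obtain ⟨r, hr, hrd⟩ := Nat.exists_prime_and_dvd (hne1 y hy hdy)
    have hB : (orderOf (d * z)).Prime := by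
      rcases hprime y hy r hr hrd with e | e
      · exact absurd (e ▸ hr) hA
      · exact e ▸ hr
    refine hpow ⟨_, hB, ⟨_, Nat.eq_prime_pow_of_unique_prime_dvd (orderOf_pos _).ne'
      fun {r} hr hrd => ?_⟩, ⟨1, (pow_one _).symm⟩⟩
    exact (hprime y hy r hr hrd).resolve_left fun e => hA (e ▸ hr)

end Cfsg.Agent.S1617
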