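import Cfsg.Statements.S1619
import Cfsg.Agent.Lib.Recog.JankoTwo.Model

set_option autoImplicit false
open Quaternion
open Cfsg

namespace Cfsg.Agent.S1619

--- PRE

/-- The icosian reflection group has order 1209600 with centre {±1}; the Hall–Janko group has order 604800 = 2^7·3^3·5^2·7. -/
theorem result : Nat.card ↥Cfsg.Spor.twoJ2 = 1209600 ∧ Nat.card ↥(Subgroup.center ↥Cfsg.Spor.twoJ2) = 2 ∧ (∃ z ∈ Subgroup.center ↥Cfsg.Spor.twoJ2, ∀ x : ↥Cfsg.Spor.icoLeech, (((z : Equiv.Perm ↥Cfsg.Spor.icoLeech) x : ↥Cfsg.Spor.icoLeech) : Fin 3 → ℍ[ℝ]) = -(x : Fin 3 → ℍ[ℝ])) ∧ Nat.card Cfsg.Spor.J2 = 604800 := by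
  refine ⟨CfsgLib.Recog.JankoTwo.card_twoJ2,
    by rw [CfsgLib.Recog.JankoTwo.center_eq]; exact CfsgLib.Recog.JankoTwo.ker_card, ?_,
    CfsgLib.Recog.JankoTwo.card_J2⟩
  obtain ⟨z, hz⟩ := CfsgLib.Recog.JankoTwo.exists_neg_one
  refine ⟨z, ?_, hz⟩
  rw [Subgroup.mem_center_iff]
  intro f
  obtain ⟨g, hg, hgx⟩ := CfsgLib.Recog.Icosian.exists_linIso
    (CfsgLib.Recog.Icosian.twoJ2_eq ▸ f.2 : (f : Equiv.Perm Cfsg.Spor.icoLeech) ∈ CfsgLib.Recog.Icosian.genGroup)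
  refine Subtype.ext (Equiv.ext fun x => Subtype.ext ?_)
  rw [Subgroup.coe_mul, Subgroup.coe_mul, Equiv.Perm.mul_apply, Equiv.Perm.mul_apply, hz, hgx, hgx, hz]
  have h0 : g 0 = 0 := by simpa using hg.sub 0 0
  have := hg.sub 0 (x : Fin 3 → ℍ[ℝ])
  rwa [h0, zero_sub, zero_sub] at this

end Cfsg.Agent.S1619
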