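import Cfsg.Statements.S1620
import Cfsg.Agent.Lib.Recog.JankoTwo.Model

set_option autoImplicit false
open Quaternion
open Cfsg

namespace Cfsg.Agent.S1620

--- PRE

/-- The Hall–Janko group is simple and non-abelian. -/
theorem result : IsSimpleGroup Cfsg.Spor.J2 ∧ ∃ a b : Cfsg.Spor.J2, a * b ≠ b * a := by
  refine ⟨CfsgLib.Recog.JankoTwo.isSimple_J2, ?_⟩
  obtain ⟨a, b, h⟩ := CfsgLib.Recog.JankoTwo.not_comm_P
  refine ⟨CfsgLib.Recog.JankoTwo.equivP.symm a, CfsgLib.Recog.JankoTwo.equivP.symm b, fun e => h ?_⟩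
  rw [← map_mul, ← map_mul] at e
  exact CfsgLib.Recog.JankoTwo.equivP.symm.injective e

end Cfsg.Agent.S1620
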