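import Cfsg.Statements.S1628
import Cfsg.Agent.Lib.Sporadic.RudvalisNorm
-- import your own Cfsg.Agent.* helpers here

set_option autoImplicit false
open Cfsg CfsgLib.Sporadic
open scoped Pointwise

namespace Cfsg.Agent.S1628

/-- The Conway–Wales lattice as stored is even with no vectors of true norm 2: stored norms are multiples of 8, never equal to 8, and the minimum over nonzero vectors is 16. -/
theorem result : (∀ x ∈ Cfsg.Spor.ruLattice, (8 : ℤ) ∣ Cfsg.Spor.ruNorm x) ∧ (∀ x ∈ Cfsg.Spor.ruLattice, Cfsg.Spor.ruNorm x ≠ 8) ∧ (∀ x ∈ Cfsg.Spor.ruLattice, x ≠ 0 → 16 ≤ Cfsg.Spor.ruNorm x) ∧ ∃ x ∈ Cfsg.Spor.ruLattice, Cfsg.Spor.ruNorm x = 16 := by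
  refine ⟨fun x hx => CfsgLib.Sporadic.Rudvalis.eight_dvd hx,
    fun x hx => CfsgLib.Sporadic.Rudvalis.norm_ne_eight hx, fun x hx hne => ?_, ?_⟩
  · have h8 := CfsgLib.Sporadic.Rudvalis.eight_dvd hx
    have hn := CfsgLib.Sporadic.Rudvalis.norm_ne_eight hx
    obtain ⟨p, hp⟩ := Function.ne_iff.1 hne
    have h0 : ∀ q, 0 ≤ (x q).norm := fun q => Zsqrtd.norm_nonneg (by norm_num) _
    have hpos : 0 < Cfsg.Spor.ruNorm x := by
      refine Finset.sum_pos' (fun q _ => h0 q) ⟨p, Finset.mem_univ _, ?_⟩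
      exact lt_of_le_of_ne (h0 p) (fun e => hp ((Zsqrtd.norm_eq_zero_iff (by norm_num) _).1 e.symm))
    omega
  · refine ⟨Cfsg.Spor.ruTable.get ⟨0, by decide⟩, ?_, by decide +kernel⟩
    rw [Cfsg.Spor.ruLattice, AddSubgroup.mem_sInf]
    exact fun L hL => hL.1 _ (List.get_mem _ _)

end Cfsg.Agent.S1628
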