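import Cfsg.Statements.S1636
import Cfsg.Agent.Lib.Sporadic.Census2
-- import your own Cfsg.Agent.* helpers here

set_option autoImplicit false
open Cfsg CfsgLib.Sporadic
open scoped Pointwise

namespace Cfsg.Agent.S1636

/-- The punctured length-23 code has weight distribution 0^1 7^253 8^506 11^1288 12^1288 15^506 16^253 23^1. -/
theorem result : {u : ZMod 23 → ZMod 2 | ∃ w ∈ Cfsg.golayCode, ∀ x : ZMod 23, u x = w (some x)}.ncard = 4096 ∧ {u : ZMod 23 → ZMod 2 | u ∈ {u : ZMod 23 → ZMod 2 | ∃ w ∈ Cfsg.golayCode, ∀ x : ZMod 23, u x = w (some x)} ∧ hammingNorm u = 7}.ncard = 253 ∧ {u : ZMod 23 → ZMod 2 | u ∈ {u : ZMod 23 → ZMod 2 | ∃ w ∈ Cfsg.golayCode, ∀ x : ZMod 23, u x = w (some x)} ∧ hammingNorm u = 8}.ncard = 506 ∧ {u : ZMod 23 → ZMod 2 | u ∈ {u : ZMod 23 → ZMod 2 | ∃ w ∈ Cfsg.golayCode, ∀ x : ZMod 23, u x = w (some x)} ∧ hammingNorm u = 11}.ncard = 1288 ∧ {u : ZMod 23 → ZMod 2 | u ∈ {u : ZMod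 23 → ZMod 2 | ∃ w ∈ Cfsg.golayCode, ∀ x : ZMod 23, u x = w (some x)} ∧ hammingNorm u = 12}.ncard = 1288 ∧ {u : ZMod 23 → ZMod 2 | u ∈ {u : ZMod 23 → ZMod 2 | ∃ w ∈ Cfsg.golayCode, ∀ x : ZMod 23, u x = w (some x)} ∧ hammingNorm u = 15}.ncard = 506 ∧ {u : ZMod 23 → ZMod 2 | u ∈ {u : ZMod 23 → ZMod 2 | ∃ w ∈ Cfsg.golayCode, ∀ x : ZMod 23, u x = w (some x)} ∧ hammingNorm u = 16}.ncard = 253 ∧ ∀ u ∈ {u : ZMod 23 → ZMod 2 | ∃ w ∈ Cfsg.golayCode, ∀ x : ZMod 23, u x = w (some x)}, u ≠ 0 → 7 ≤ hammingNorm u := by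
  have hn : ∀ n : ℕ, {u : ZMod 23 → ZMod 2 | u ∈ punctCode ∧ hammingNorm u = n}.ncard =
      countLt 4096 (fun k => Nat.beq (popc (Nat.land (enc k) 8388607)) n) := fun n =>
    punctCode_ncard (fun m => Nat.beq (popc (Nat.land m 8388607)) n) (fun u => hammingNorm u = n)
      fun w _ => by rw [Nat.beq_eq, hammingNorm_punct]
  refine ⟨?_, (hn 7).trans (by decide +kernel), (hn 8).trans (by decide +kernel),
    (hn 11).trans (by decide +kernel), (hn 12).trans (by decide +kernel),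
    (hn 15).trans (by decide +kernel), (hn 16).trans (by decide +kernel),
    fun u hu h0 => punctCode_min_weight hu h0⟩
  have := punctCode_ncard (fun _ => true) (fun _ => True) fun w _ => by simp
  simp only [and_true] at this
  exact this.trans (by decide +kernel)

end Cfsg.Agent.S1636
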