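import Cfsg.Statements.S1652
import Cfsg.Agent.Lib.Recog.JankoThree.Adapter
import Cfsg.Agent.Lib.Recog.JankoThree.Iso
import Cfsg.Agent.Lib.Recog.JankoThree.Linear

set_option autoImplicit false
open Cfsg

namespace Cfsg.Agent.S1652

/-- A group of J₃ type contains SL(2,16):2: let a finite simple group have a single conjugacy class of involutions and an involution t whose centraliser C has a normal extraspecial subgroup Q of order 32 with no elementary abelian subgroup of order 8, whose centraliser in C lies in Q, with C / Q isomorphic to the alternating group of degree 5. Then some subgroup H has a normal subgroup of index 2 isomorphic to the special linear group of dimension 2 over a field with 16 elements. -/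
theorem result {G : Type*} [Group G] [Finite G] [IsSimpleGroup G] (t : G) (ht : orderOf t = 2) (Q : Subgroup (Subgroup.centralizer ({t} : Set G))) [Q.Normal] (hQ : Cfsg.IsExtraspecial 2 Q) (hcard : Nat.card Q = 32) (hminus : ∀ E : Subgroup Q, Cfsg.IsElementaryAbelian 2 E → Nat.card E ≤ 2 ^ 2) (h2c : Subgroup.centralizer (Q : Set (Subgroup.centralizer ({t} : Set G))) ≤ Q) (e : (Subgroup.centralizer ({t} : Set G)) ⧸ Q ≃* alternatingGroup (Fin 5)) (hone : ∀ x y : G, orderOf x = 2 → orderOf y = 2 → IsConj x y) : ∃ (H : Subgroup G) (N : Subgroup H) (K : Type) (_ : Field K) (_ : Fintype K), N.Normal ∧ N.index = 2 ∧ Fintype.card K = 16 ∧ Nonempty (N ≃* Matrix.SpecialLinearGroup (Fin 2) K) := by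
  classical
  obtain ⟨Q₀, h⟩ := CfsgLib.Recog.J3T.local_of_statement t ht Q hQ hcard e
  obtain ⟨F, _, _, ω, hF, hω, ⟨φ⟩⟩ := CfsgLib.Recog.J3T.isoJ3 (⟨h, hone⟩ : CfsgLib.Recog.J3T.Hyp t Q₀)
  haveI := CfsgLib.Sporadic.J3.charTwo hF
  letI : Fintype (GaloisField 2 4) := Fintype.ofFinite _
  have hK : Fintype.card (GaloisField 2 4) = 16 := by
    rw [← Nat.card_eq_fintype_card, GaloisField.card 2 4 (by norm_num)]; norm_num
  obtain ⟨H, N, hN, hidx, ⟨ψ⟩⟩ := CfsgLib.Recog.J3T.Linear.exists_linear hω hF hK
  let χ : (H.map φ.symm.toMonoidHom : Subgroup G) ≃* H := (φ.symm.subgroupMap H).symm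
  refine ⟨H.map φ.symm.toMonoidHom, N.map χ.symm.toMonoidHom, GaloisField 2 4, inferInstance, inferInstance,
    hN.map _ χ.symm.surjective, ?_, hK, ⟨(χ.symm.subgroupMap N).symm.trans ψ⟩⟩
  exact (Subgroup.index_map_equiv N χ.symm).trans hidx

end Cfsg.Agent.S1652
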