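import Cfsg.Statements.S1663
import Cfsg.Agent.Lib.Blocks.Order443520.Recognize
import Cfsg.Agent.Lib.Sporadic.SporMathieu

set_option autoImplicit false
open Cfsg

namespace Cfsg.Agent.S1663

/-- The Mathieu group of degree 22 is determined by its order: a finite simple group of order 443520 is isomorphic to the concrete M₂₂ (a two-point stabiliser in the group of the length-24 Golay code). -/
theorem result {G : Type*} [Group G] [Finite G] (hG : Cfsg.IsM22 G) : Cfsg.Spor.IsoM22 G := by
  obtain ⟨hS, hc⟩ := hG
  have := Fintype.ofFinite G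
  have := Fintype.ofFinite ↥Cfsg.Spor.M22
  have := CfsgLib.Sporadic.sporM22_isSimple
  obtain ⟨e⟩ := CfsgLib.Blocks.Order443520.nonempty_mulEquiv_std (G := G) hc
  obtain ⟨e'⟩ := CfsgLib.Blocks.Order443520.nonempty_mulEquiv_std (G := ↥Cfsg.Spor.M22)
    CfsgLib.Sporadic.card_sporM22
  exact ⟨e.trans e'.symm⟩

end Cfsg.Agent.S1663
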