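import Cfsg.Statements.S1668
import Cfsg.Agent.Lib.Recog.SuzRankThree.Final
import Cfsg.Agent.S1694

set_option autoImplicit false
open Cfsg

namespace Cfsg.Agent.S1668

/-- Recognition of the sporadic Suzuki group as a rank 3 permutation group: a transitive permutation group on 1782 points in which the stabiliser of a point is isomorphic to the Chevalley group G₂(4) and has two further orbits, of sizes 416 and 1365, is isomorphic to the sporadic Suzuki group. -/
theorem result {Ω : Type*} [Fintype Ω] [DecidableEq Ω] (hΩ : Fintype.card Ω = 1782) (G : Subgroup (Equiv.Perm Ω)) [MulAction.IsPretransitive G Ω] (a : Ω) (K : Type) [Field K] [Fintype K] (hK : Fintype.card K = 4) (e : MulAction.stabilizer G a ≃* Cfsg.Lie.chevG2.group K) (b c : Ω) (hb : (MulAction.orbit (MulAction.stabilizer G a) b).ncard = 416) (hc : (MulAction.orbit (MulAction.stabilizer G a) c).ncard = 1365) : Cfsg.Spor.IsoSuz G := by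
  obtain ⟨eP⟩ := CfsgLib.Recog.SporBound.SuzGTwo.equiv_group hK
  let i : CfsgLib.Recog.SporBound.SuzGTwo.P →* MulAction.stabilizer G a := (eP.trans e.symm).toMonoidHom
  let θ : CfsgLib.Recog.SporBound.SuzGTwo.P →* Equiv.Perm Ω :=
    (G.subtype.comp (MulAction.stabilizer G a).subtype).comp i
  have horb : ∀ x, (Set.range fun p => θ p x) = MulAction.orbit (MulAction.stabilizer G a) x := by
    intro x
    ext y
    constructor
    · rintro ⟨p, rfl⟩
      exact ⟨i p, rfl⟩
    · rintro ⟨s, rfl⟩
      obtain ⟨p, rfl⟩ := (eP.trans e.symm).surjective s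
      exact ⟨p, rfl⟩
  let R : CfsgLib.Recog.SuzRankThree.RankThree Ω :=
    { G := G
      a := a
      θ := θ
      inj := fun p q h => (eP.trans e.symm).injective (Subtype.ext (Subtype.ext h))
      range := fun g => by
        constructor
        · rintro ⟨p, rfl⟩
          exact ⟨((i p).1).2, (i p).2⟩
        · rintro ⟨hg, hga⟩
          obtain ⟨p, hp⟩ := (eP.trans e.symm).surjective ⟨⟨g, hg⟩, hga⟩
          exact ⟨p, congrArg (fun s : MulAction.stabilizer G a => ((s.1 : G) : Equiv.Perm Ω)) hp⟩
      trans := fun x => by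
        obtain ⟨g, hg⟩ := MulAction.exists_smul_eq G a x
        exact ⟨g.1, g.2, hg⟩
      card := by rw [Nat.card_eq_fintype_card, hΩ]
      b := b
      c := c
      hb := by rw [horb]; exact hb
      hc := by rw [horb]; exact hc }
  exact CfsgLib.Recog.SuzRankThree.iso_suz R Cfsg.Agent.S1694.result.1

end Cfsg.Agent.S1668
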