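import Cfsg.Statements.S1682
import Cfsg.Agent.Lib.Recog.SporHe.Stab
-- import your own Cfsg.Agent.* helpers here

set_option autoImplicit false
open Cfsg

namespace Cfsg.Agent.S1682

/-- In the presented Held group, the subgroup H generated by the images of a, c, d, e, f, (ab)^2 and (bcde)^7 has a normal subgroup of index 2 isomorphic to the 4-dimensional symplectic group over a field with four elements. -/
theorem result : ∃ (N : Subgroup (((Subgroup.closure ({Cfsg.Spor.He.a, Cfsg.Spor.He.c, Cfsg.Spor.He.d, Cfsg.Spor.He.e, Cfsg.Spor.He.f, (Cfsg.Spor.He.a * Cfsg.Spor.He.b) ^ 2, (Cfsg.Spor.He.b * Cfsg.Spor.He.c * Cfsg.Spor.He.d * Cfsg.Spor.He.e) ^ 7} : Set (FreeGroup Cfsg.Spor.He.Gen))).map (PresentedGroup.mk (Cfsg.Spor.coxRelators Cfsg.Spor.He.edges ∪ {r | r ∈ Cfsg.Spor.He.extra}))))) (K : Type) (_ : Field K) (_ : Fintype K), N.Normal ∧ N.index = 2 ∧ Fintype.card K = 4 ∧ Nonempty (N ≃* Matrix.symplecticGroup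 (Fin 2) K) := by
  have hw : ({Cfsg.Spor.He.a, Cfsg.Spor.He.c, Cfsg.Spor.He.d, Cfsg.Spor.He.e, Cfsg.Spor.He.f,
      (Cfsg.Spor.He.a * Cfsg.Spor.He.b) ^ 2,
      (Cfsg.Spor.He.b * Cfsg.Spor.He.c * Cfsg.Spor.He.d * Cfsg.Spor.He.e) ^ 7} :
        Set (FreeGroup Cfsg.Spor.He.Gen)) = {r | r ∈ CfsgLib.Recog.SporHe.words} := by
    ext r; simp [CfsgLib.Recog.SporHe.words]
  rw [hw]
  refine ⟨CfsgLib.Recog.SporHe.Flags.evenSub.subgroupOf CfsgLib.Recog.SporHe.Flags.sub,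
    CfsgLib.Classical.UFourTwo.FieldFour, inferInstance, inferInstance, ?_,
    CfsgLib.Recog.SporHe.Flags.index_even, CfsgLib.Classical.UFourTwo.FieldFour.card_fieldFour,
    ⟨(Subgroup.subgroupOfEquivOfLe CfsgLib.Recog.SporHe.Flags.evenSub_le).trans
      CfsgLib.Recog.SporHe.Flags.evenEquiv⟩⟩
  exact Subgroup.normal_of_index_eq_two CfsgLib.Recog.SporHe.Flags.index_even

end Cfsg.Agent.S1682
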