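import Cfsg.Statements.S1685
import Cfsg.Agent.Lib.ThreeTrans.CosetIndex.Fi14080.Valid
import Cfsg.Agent.Lib.ThreeTrans.CosetIndex.Presented

set_option autoImplicit false
open Cfsg CfsgLib.ThreeTrans.CosetIndex

namespace Cfsg.Agent.S1685

/-- The generators in order. -/
def gens : List Spor.Fi22.Gen := [.a, .b, .c, .d, .e, .f, .g, .h, .i]

/-- The generators of the subgroup. -/
def words : List (FreeGroup Spor.Fi22.Gen) :=
  [Cfsg.Spor.Fi22.b, Cfsg.Spor.Fi22.c, Cfsg.Spor.Fi22.d, Cfsg.Spor.Fi22.e, Cfsg.Spor.Fi22.f, Cfsg.Spor.Fi22.g, Cfsg.Spor.Fi22.h, Cfsg.Spor.Fi22.i]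

theorem fits : Fits Spor.Fi22.edges Spor.Fi22.extra gens Fi14080.data words where
  nodes := fun y => by cases y <;> decide
  mem := fun y => by cases y <;> decide
  nodup := by decide
  ng := rfl
  rels := by decide +kernel
  subs := by decide +kernel

/-- In the presented Fischer group Fi₂₂ (generators a, …, i), the subgroup generated by the images of b, c, d, e, f, g, h, i has index 14080. -/
theorem result : (((Subgroup.closure ({Cfsg.Spor.Fi22.b, Cfsg.Spor.Fi22.c, Cfsg.Spor.Fi22.d, Cfsg.Spor.Fi22.e, Cfsg.Spor.Fi22.f, Cfsg.Spor.Fi22.g, Cfsg.Spor.Fi22.h, Cfsg.Spor.Fi22.i} : Set (FreeGroup Cfsg.Spor.Fi22.Gen))).map (PresentedGroup.mk (Cfsg.Spor.coxRelators Cfsg.Spor.Fi22.edges ∪ {r | r ∈ Cfsg.Spor.Fi22.extra})))).index = 14080 := by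
  have hset : ({Cfsg.Spor.Fi22.b, Cfsg.Spor.Fi22.c, Cfsg.Spor.Fi22.d, Cfsg.Spor.Fi22.e, Cfsg.Spor.Fi22.f, Cfsg.Spor.Fi22.g, Cfsg.Spor.Fi22.h, Cfsg.Spor.Fi22.i} :
      Set (FreeGroup Cfsg.Spor.Fi22.Gen)) = {r | r ∈ words} := by
    ext r; simp [words]
  rw [hset]
  exact presented_index Fi14080.valid fits

end Cfsg.Agent.S1685
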