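import Cfsg.Statements.S1689
import Cfsg.Agent.Lib.Recog.FiThree.Cover

set_option autoImplicit false
set_option maxRecDepth 20000
open Cfsg

namespace Cfsg.Agent.S1689

open CfsgLib.Recog.FiThree CfsgLib.Recog.BitPerm CfsgLib.Recog.SporBound CfsgLib.ThreeTrans.CosetIndex

theorem sub_eq :
    (Subgroup.closure ({Cfsg.Spor.Fi23.a, Cfsg.Spor.Fi23.b, Cfsg.Spor.Fi23.c, Cfsg.Spor.Fi23.d, Cfsg.Spor.Fi23.e, Cfsg.Spor.Fi23.f, Cfsg.Spor.Fi23.g, Cfsg.Spor.Fi23.h, Cfsg.Spor.Fi23.i} : Set (FreeGroup Cfsg.Spor.Fi23.Gen))).map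
      (PresentedGroup.mk (Cfsg.Spor.coxRelators Cfsg.Spor.Fi23.edges ∪ {r | r ∈ Cfsg.Spor.Fi23.extra})) = hSub := by
  rw [MonoidHom.map_closure]
  refine congrArg Subgroup.closure (Set.ext fun g => ?_)
  simp only [Set.image_insert_eq, Set.image_singleton, Set.mem_insert_iff, Set.mem_singleton_iff, hLetters]
  constructor
  · rintro (rfl | rfl | rfl | rfl | rfl | rfl | rfl | rfl | rfl)
    exacts [⟨0, by simp, rfl⟩, ⟨1, by simp, rfl⟩, ⟨2, by simp, rfl⟩, ⟨3, by simp, rfl⟩, ⟨4, by simp, rfl⟩, ⟨5, by simp, rfl⟩, ⟨6, by simp, rfl⟩, ⟨7, by simp, rfl⟩, ⟨8, by simp, rfl⟩]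
  · rintro ⟨x, hx, rfl⟩
    simp only [List.mem_cons, List.not_mem_nil, or_false] at hx
    rcases hx with rfl | rfl | rfl | rfl | rfl | rfl | rfl | rfl | rfl
    exacts [Or.inl rfl, Or.inr (Or.inl rfl), Or.inr (Or.inr (Or.inl rfl)), Or.inr (Or.inr (Or.inr (Or.inl rfl))),
      Or.inr (Or.inr (Or.inr (Or.inr (Or.inl rfl)))), Or.inr (Or.inr (Or.inr (Or.inr (Or.inr (Or.inl rfl))))),
      Or.inr (Or.inr (Or.inr (Or.inr (Or.inr (Or.inr (Or.inl rfl)))))),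
      Or.inr (Or.inr (Or.inr (Or.inr (Or.inr (Or.inr (Or.inr (Or.inl rfl))))))),
      Or.inr (Or.inr (Or.inr (Or.inr (Or.inr (Or.inr (Or.inr (Or.inr rfl)))))))]

theorem orbit_card {w : List ℕ} {p r size : ℕ} (hw : pt (word w) = p)
    (hcl : closedOK net hWords (orbitSet net hWords p r) = true)
    (hsz : Nat.beq (bitCountBlocks (orbitSet net hWords p r) 128) size = true)
    (hp : (orbitSet net hWords p r).testBit p = true) :
    (MulAction.orbit ↥hSub (QuotientGroup.mk (word w) : Spor.Fi23 ⧸ hSub)).ncard = size := by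
  let F : Spor.Fi23 ⧸ hSub → ℕ := fun q => Quotient.liftOn' q pt fun g g' e => by
    rw [QuotientGroup.leftRel_apply] at e
    exact pt_eq_iff.2 e
  have hF : Function.Injective F := fun q q' e => by
    induction q using QuotientGroup.induction_on with
    | _ g => induction q' using QuotientGroup.induction_on with
      | _ g' => exact QuotientGroup.eq.2 (pt_eq_iff.1 e)
  have e : F '' MulAction.orbit ↥hSub (QuotientGroup.mk (word w) : Spor.Fi23 ⧸ hSub) =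
      ↑((Finset.range (256 * 128)).filter fun i => (orbitSet net hWords p r).testBit i = true) := by
    ext c
    simp only [Set.mem_image, Finset.coe_filter, Finset.mem_range, Set.mem_ofPred_eq]
    constructor
    · rintro ⟨_, ⟨⟨h, hh⟩, rfl⟩, rfl⟩
      show pt (h * word w) < 256 * 128 ∧ _
      refine ⟨lt_trans (pt_lt _) (by decide +kernel), ?_⟩
      show (orbitSet net hWords p r).testBit (pt (h * word w)) = true
      rw [show pt (h * word w) = act h (pt (word w)) by rw [pt, map_mul]; rfl, hw,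
        action_closed acts (L := hLetters) hcl hh]
      exact hp
    · rintro ⟨-, hc⟩
      obtain ⟨-, ⟨h, hh, rfl⟩, e⟩ := orbitSet_sub acts.valid (fun v hv => hWord_mem hv) _ c hc
      refine ⟨QuotientGroup.mk (h * word w), ⟨⟨h, hh⟩, rfl⟩, ?_⟩
      show pt (h * word w) = c
      rw [pt, map_mul, Equiv.Perm.mul_apply, show act (word w) 0 = p from hw, e]
  rw [← Set.ncard_image_of_injective _ hF, e, Set.ncard_coe_finset, ← bitCountBlocks_eq]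
  exact Nat.eq_of_beq_eq_true hsz

/-- In the presented Fischer group Fi₂₃, let H be the subgroup generated by the images of a, …, i. Then H has index 31671, H has orbits of sizes 3510 and 28160 on the cosets of H other than H itself. -/
theorem result : (((Subgroup.closure ({Cfsg.Spor.Fi23.a, Cfsg.Spor.Fi23.b, Cfsg.Spor.Fi23.c, Cfsg.Spor.Fi23.d, Cfsg.Spor.Fi23.e, Cfsg.Spor.Fi23.f, Cfsg.Spor.Fi23.g, Cfsg.Spor.Fi23.h, Cfsg.Spor.Fi23.i} : Set (FreeGroup Cfsg.Spor.Fi23.Gen))).map (PresentedGroup.mk (Cfsg.Spor.coxRelators Cfsg.Spor.Fi23.edges ∪ {r | r ∈ Cfsg.Spor.Fi23.extra})))).index = 31671 ∧ ∃ q₁ q₂ : Cfsg.Spor.Fi23 ⧸ (((Subgroup.closure ({Cfsg.Spor.Fi23.a, Cfsg.Spor.Fi23.b, Cfsg.Spor.Fi23.c, Cfsg.Spor.Fi23.d, Cfsg.Spor.Fi23.e, Cfsg.Spor.Fi23.f, Cfsg.Spor.Fi23.g, Cfsg.Spor.Fi23.h, Cfsg.Spor.Fi23.i} : Set (FreeGroup Cfsg.Spor.Fi23.Gen))).map (PresentedGroup.mk (Cfsg.Spor.coxRelators Cfsg.Spor.Fi23.edges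 ∪ {r | r ∈ Cfsg.Spor.Fi23.extra})))), (MulAction.orbit (((Subgroup.closure ({Cfsg.Spor.Fi23.a, Cfsg.Spor.Fi23.b, Cfsg.Spor.Fi23.c, Cfsg.Spor.Fi23.d, Cfsg.Spor.Fi23.e, Cfsg.Spor.Fi23.f, Cfsg.Spor.Fi23.g, Cfsg.Spor.Fi23.h, Cfsg.Spor.Fi23.i} : Set (FreeGroup Cfsg.Spor.Fi23.Gen))).map (PresentedGroup.mk (Cfsg.Spor.coxRelators Cfsg.Spor.Fi23.edges ∪ {r | r ∈ Cfsg.Spor.Fi23.extra})))) q₁).ncard = 3510 ∧ (MulAction.orbit (((Subgroup.closure ({Cfsg.Spor.Fi23.a, Cfsg.Spor.Fi23.b, Cfsg.Spor.Fi23.c, Cfsg.Spor.Fi23.d, Cfsg.Spor.Fi23.e, Cfsg.Spor.Fi23.f, Cfsg.Spor.Fi23.g, Cfsg.Spor.Fi23.h, Cfsg.Spor.Fi23.i} : Set (FreeGroup Cfsg.Spor.Fi23.Gen))).map (PresentedGroup.mk (Cfsg.Spor.coxRelators Cfsg.Spor.Fi23.edges ∪ {r | r ∈ Cfsg.Spor.Fi23.extra})))) q₂).ncard = 28160 := by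
  rw [sub_eq]
  exact ⟨hSub_index, _, _, orbit_card pt_ga orb1_closed orb1_count pA_mem,
    orbit_card pt_gj orb2_closed orb2_count pJ_mem⟩

end Cfsg.Agent.S1689
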