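import Cfsg.Statements.S2133
import Cfsg.Agent.Lib.Sporadic.OctadAffine
-- import your own Cfsg.Agent.* helpers here

set_option autoImplicit false
open Cfsg CfsgLib.Sporadic
open scoped Pointwise

namespace Cfsg.Agent.S2133

/-- The Mathieu group M₂₄ (the automorphism group of the length-24 binary code) has an involution whose centraliser is isomorphic to the centraliser of a transvection in SL(5, 2) (a group of shape 2^{1+6}:GL(3, 2)). -/
theorem result (s : Matrix.SpecialLinearGroup (Fin 5) (ZMod 2)) (hs : (s : Matrix (Fin 5) (Fin 5) (ZMod 2)) = Matrix.transvection 0 1 1) : ∃ z : ↥Cfsg.M24, orderOf z = 2 ∧ Nonempty (↥(Subgroup.centralizer ({z} : Set ↥Cfsg.M24)) ≃* ↥(Subgroup.centralizer ({s} : Set (Matrix.SpecialLinearGroup (Fin 5) (ZMod 2))))) := by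
  open CfsgLib.Sporadic CfsgLib.Sporadic.OctAff in
  have hz : isAut transl = true ∧ pmul transl transl = pone ∧ mimg transl stdO = stdO ∧
      affB transl 17043523 = true ∧ pget transl 4 ≠ 4 ∧
      (∀ i < 24, stdO.testBit i = true ↔ pget transl i = i) ∧
      matOf 17043523 = Matrix.transvection (0 : Fin 5) 1 1 := by decide +kernel
  obtain ⟨ha, hsq, hst, hb, hmv, hfx, hmat⟩ := hz
  obtain ⟨z, hz⟩ := exists_M24_elt ha
  have hzS : z ∈ MulAction.stabilizer ↥M24 octset := stab_of_mask hz hst
  have hfix : ∀ x : GolayPt, x ∈ octset ↔ z • x = x := fun x => by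
    rw [mem_octset, hfx _ (ix_lt x), hz x]
    exact ix_injective.eq_iff
  have hzz : z * z = 1 := Subtype.ext ((hz.mul hz).unique (hsq.symm ▸ Rep.one))
  have hz1 : z ≠ 1 := fun e => hmv (by
    have := hz (pt 4)
    rw [e] at this
    exact this)
  have hsub : Subgroup.centralizer ({z} : Set ↥M24) ≤ MulAction.stabilizer ↥M24 octset := by
    intro g hg
    have hg' := Subgroup.mem_centralizer_singleton_iff.1 hg
    refine mem_stab_of_subset_aux g fun x hx => ?_
    rw [hfix] at hx ⊢
    rw [← mul_smul, ← hg', mul_smul, hx]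
  have hzM : affHom ⟨z, hzS⟩ = s := Subtype.ext (by
    rw [hs, ← hmat]
    refine matrixOf_eq fun x hx => ?_
    simp only [affB, Bool.and_eq_true, Nat.beq_eq] at hb
    have := forallLt_elim hb.2 (ix_lt x)
    rw [show stdO.testBit (ix x) = false by simpa [mem_octset] using hx, Bool.false_or,
      decide_eq_true_eq, hz x] at this
    rw [lab_eq, lab_eq]
    exact this)
  have hC : Subgroup.centralizer ({s} : Set _) ≤ columnStab := fun M hM => by
    have h := congrArg (fun A : Matrix.SpecialLinearGroup (Fin 5) (ZMod 2) => (A : Matrix (Fin 5) (Fin 5) (ZMod 2)))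
      (Subgroup.mem_centralizer_singleton_iff.1 hM)
    simp only [Matrix.SpecialLinearGroup.coe_mul, hs] at h
    have hcol : ∀ i : Fin 5, i ≠ 0 → (M : Matrix (Fin 5) (Fin 5) (ZMod 2)) i 0 = 0 := fun i hi => by
      have := congrFun (congrFun h i) 1
      simpa [hi, Matrix.mul_transvection_apply_same, Matrix.transvection_mul_apply_of_ne] using this
    refine mem_columnStab.2 fun i => ?_
    by_cases hi : i = 0
    · subst hi
      rw [if_pos rfl]
      have key : ∀ a : ZMod 2, a ≠ 0 → a = 1 := by decide
      refine key _ fun h0 => ?_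
      have hdet := M.2
      rw [Matrix.det_eq_zero_of_column_eq_zero 0 fun j => by
        by_cases hj : j = 0
        · subst hj; exact h0
        · exact hcol j hj] at hdet
      exact zero_ne_one hdet
    · rw [if_neg hi, hcol i hi]
  let φ : ↥(Subgroup.centralizer ({z} : Set ↥M24)) →* ↥(Subgroup.centralizer ({s} : Set _)) :=
    (affHom.comp (Subgroup.inclusion hsub)).codRestrict _ fun g => by
      rw [Subgroup.mem_centralizer_singleton_iff, ← hzM]
      show affHom _ * affHom _ = affHom _ * affHom _
      rw [← map_mul, ← map_mul]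
      exact congrArg affHom (Subtype.ext (Subgroup.mem_centralizer_singleton_iff.1 g.2))
  refine ⟨z, orderOf_eq_prime (by rw [pow_two, hzz]) hz1, ⟨MulEquiv.ofBijective φ ⟨?_, ?_⟩⟩⟩
  · intro a b e
    exact Subgroup.inclusion_injective hsub (affHom_injective (congrArg Subtype.val e))
  · rintro ⟨M, hM⟩
    obtain ⟨g, hg⟩ := (range_affHom ▸ hC hM : M ∈ affHom.range)
    have hgz : (g : ↥M24) ∈ Subgroup.centralizer ({z} : Set ↥M24) := by
      rw [Subgroup.mem_centralizer_singleton_iff]
      have hc := Subgroup.mem_centralizer_singleton_iff.1 hM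
      rw [← hg, ← hzM, ← map_mul, ← map_mul] at hc
      exact congrArg Subtype.val (affHom_injective hc)
    exact ⟨⟨g, hgz⟩, Subtype.ext hg⟩

end Cfsg.Agent.S2133
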