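import Cfsg.Statements.S1716
import Cfsg.Agent.Lib.Recog.HeldTri.VectorStab
import Cfsg.Agent.S0450
import Cfsg.Agent.S0451
import Cfsg.Agent.S0364
import Cfsg.Agent.S0365
import Cfsg.Agent.S2133

set_option autoImplicit false
open Cfsg

namespace Cfsg.Agent.S1716

/-- Groups with the involution centraliser of SL(5, 2), at the level of isomorphism: let G be a finite group with an involution z whose centraliser is isomorphic to the centraliser of a transvection s of SL(5, 2), and suppose some conjugate of z different from z lies in O₂ of the centraliser of z. Then G is isomorphic to the stabiliser in SL(5, 2) of a non-zero vector of the natural module, or to SL(5, 2), or to the Mathieu group M₂₄, or to the presented Held group. -/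
theorem result {G : Type*} [Group G] [Finite G] (s : Matrix.SpecialLinearGroup (Fin 5) (ZMod 2)) (hs : (s : Matrix (Fin 5) (Fin 5) (ZMod 2)) = Matrix.transvection 0 1 1) (z : G) (hz : orderOf z = 2) (e : (Subgroup.centralizer ({z} : Set G)) ≃* Subgroup.centralizer ({s} : Set (Matrix.SpecialLinearGroup (Fin 5) (ZMod 2)))) (hnwc : ∃ g : G, (∃ hq : g * z * g⁻¹ ∈ Subgroup.centralizer ({z} : Set G), (⟨g * z * g⁻¹, hq⟩ : Subgroup.centralizer ({z} : Set G)) ∈ Cfsg.pCore 2 (Subgroup.centralizer ({z} : Set G))) ∧ g * z * g⁻¹ ≠ z) : (∃ v : Fin 5 → ZMod 2, v ≠ 0 ∧ Nonempty (G ≃* MulAction.stabilizer (Matrix.SpecialLinearGroup (Fin 5) (ZMod 2)) v)) ∨ Nonempty (G ≃* Matrix.SpecialLinearGroup (Fin 5) (ZMod 2)) ∨ Nonempty (G ≃* Cfsg.M24) ∨ Cfsg.Spor.IsoHe G := by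
  obtain ⟨g, ⟨hq, -⟩, hne⟩ := hnwc
  have hz1 : z ≠ 1 := fun e1 => by rw [e1, orderOf_one] at hz; omega
  let K := (CfsgLib.Recog.Held.slCoord s hs).pull hz1 e
  have hcomm : Commute (g * z * g⁻¹) z := Subgroup.mem_centralizer_singleton_iff.1 hq
  rcases CfsgLib.Recog.HeldTri.mask_cases K ⟨g, hcomm, hne⟩ with h | h | h
  case inr.inr =>
    haveI := CfsgLib.Recog.HeldTri.isSimple_of_good K h
    have hS := CfsgLib.Recog.HeldTri.sylow_in_cent K
    rcases CfsgLib.Recog.HeldTri.order_cases K with ⟨hm, -⟩ | ⟨-, hcard⟩ | ⟨hm, -⟩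
    · exact Or.inr (Or.inl (CfsgLib.Recog.Held.iso_27 K hS hm))
    · refine Or.inr (Or.inr (Or.inl ?_))
      haveI : IsSimpleGroup Cfsg.M24 := Cfsg.Agent.S0365.result
      obtain ⟨y, hy, ⟨f⟩⟩ := Cfsg.Agent.S2133.result s hs
      exact Cfsg.Agent.S0451.result s hs z y hz hy e f (hcard.trans Cfsg.Agent.S0364.result.symm)
    · exact Or.inr (Or.inr (Or.inr (CfsgLib.Recog.HeldTri.He.isoHe_and_card (K := K) ⟨hm, hS⟩).1))
  all_goals
    obtain ⟨v, hv, ⟨a⟩⟩ := CfsgLib.Recog.HeldTri.exists_vectorStab s hs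
    obtain ⟨b⟩ := CfsgLib.Recog.HeldTri.affine_of_mask K (by simp [h])
    exact Or.inl ⟨v, hv, ⟨b.symm.trans a⟩⟩

end Cfsg.Agent.S1716
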