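import Cfsg.Statements.S1717
import Mathlib

set_option autoImplicit false
open Cfsg

namespace Cfsg.Agent.S1717

set_option maxHeartbeats 1000000

/-- Let G be a finite group with an involution z whose centraliser C is isomorphic to the centraliser of a transvection of SL(5, 2). Then a Sylow 2-subgroup of C, viewed in G, is a Sylow 2-subgroup of G (its index in G is odd). -/
theorem result {G : Type*} [Group G] [Finite G] (s : Matrix.SpecialLinearGroup (Fin 5) (ZMod 2)) (hs : (s : Matrix (Fin 5) (Fin 5) (ZMod 2)) = Matrix.transvection 0 1 1) (z : G) (hz : orderOf z = 2) (e : (Subgroup.centralizer ({z} : Set G)) ≃* Subgroup.centralizer ({s} : Set (Matrix.SpecialLinearGroup (Fin 5) (ZMod 2)))) (T : Sylow 2 (Subgroup.centralizer ({z} : Set G))) : ¬ 2 ∣ ((T : Subgroup (Subgroup.centralizer ({z} : Set G))).map (Subgroup.subtype (Subgroup.centralizer ({z} : Set G)))).index := by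
  classical
  haveI := Fact.mk Nat.prime_two
  let F : (Fin 7 → ZMod 2) → Matrix (Fin 5) (Fin 5) (ZMod 2) := fun v =>
    !![1, v 6, v 0, v 1, v 2; 0, 1, 0, 0, 0; 0, v 3, 1, 0, 0; 0, v 4, 0, 1, 0; 0, v 5, 0, 0, 1]
  have hmul : ∀ v w : Fin 7 → ZMod 2, F v * F w =
      F ![v 0 + w 0, v 1 + w 1, v 2 + w 2, v 3 + w 3, v 4 + w 4, v 5 + w 5,
        v 6 + w 6 + v 0 * w 3 + v 1 * w 4 + v 2 * w 5] := by
    intro v w
    ext i j
    fin_cases i <;> fin_cases j <;> simp [F, Matrix.mul_apply, Fin.sum_univ_five] <;> ring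
  have hone : F 0 = 1 := by ext i j; fin_cases i <;> fin_cases j <;> simp [F]
  have h2 : ∀ a : ZMod 2, a + a = 0 := fun a => CharTwo.add_self_eq_zero a
  have h01 : ∀ x : ZMod 2, x = 0 ∨ x = 1 := fun x => by fin_cases x <;> [exact Or.inl rfl; exact Or.inr rfl]
  have hsq : ∀ v : Fin 7 → ZMod 2, F v * F v * (F v * F v) = 1 := by
    intro v
    rw [hmul, hmul, ← hone]
    ext i j
    fin_cases i <;> fin_cases j <;> simp [F, h2]
  let Q : Subgroup (Matrix.SpecialLinearGroup (Fin 5) (ZMod 2)) :=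
    { carrier := {M | ∃ v, (M : Matrix (Fin 5) (Fin 5) (ZMod 2)) = F v}
      one_mem' := ⟨0, by rw [hone]; rfl⟩
      mul_mem' := by
        rintro M N ⟨v, hv⟩ ⟨w, hw⟩
        exact ⟨_, by rw [Matrix.SpecialLinearGroup.coe_mul, hv, hw, hmul]⟩
      inv_mem' := by
        rintro M ⟨v, hv⟩
        have h4 : M * (M * M * M) = 1 := Subtype.ext (by
          simp only [Matrix.SpecialLinearGroup.coe_mul, Matrix.SpecialLinearGroup.coe_one, hv]
          rw [← hsq v]; simp [mul_assoc])
        rw [inv_eq_of_mul_eq_one_right h4]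
        have hm : ∀ a b : Fin 7 → ZMod 2, ∃ c, F a * F b = F c := fun a b => ⟨_, hmul a b⟩
        obtain ⟨c, hc⟩ := hm v v
        obtain ⟨d, hd⟩ := hm c v
        exact ⟨d, by rw [Matrix.SpecialLinearGroup.coe_mul, Matrix.SpecialLinearGroup.coe_mul, hv, hc, hd]⟩ }
  have hQp : IsPGroup 2 Q := by
    rintro ⟨M, v, hv⟩
    refine ⟨2, Subtype.ext (Subtype.ext ?_)⟩
    show ((M ^ (2 ^ 2) : Matrix.SpecialLinearGroup (Fin 5) (ZMod 2)) : Matrix (Fin 5) (Fin 5) (ZMod 2)) = 1
    rw [Matrix.SpecialLinearGroup.coe_pow, hv, ← hsq v, show (2:ℕ) ^ 2 = 2 + 2 from rfl, pow_add, pow_two]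
  let S := Subgroup.centralizer ({s} : Set (Matrix.SpecialLinearGroup (Fin 5) (ZMod 2)))
  have hs' : (s : Matrix (Fin 5) (Fin 5) (ZMod 2)) = F ![0, 0, 0, 0, 0, 0, 1] := by
    rw [hs]; ext i j; fin_cases i <;> fin_cases j <;> simp [F, Matrix.transvection, Matrix.single_apply, Matrix.one_apply]
  have hQS : Q ≤ S := by
    rintro M ⟨v, hv⟩
    rw [Subgroup.mem_centralizer_singleton_iff]
    apply Subtype.ext
    rw [Matrix.SpecialLinearGroup.coe_mul, Matrix.SpecialLinearGroup.coe_mul, hv, hs', hmul, hmul]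
    congr 1
    ext i; fin_cases i <;> simp [add_comm]
  -- only two elements commute with `Q`
  have hcent : ∀ X : Matrix.SpecialLinearGroup (Fin 5) (ZMod 2), (∀ q ∈ Q, X * q = q * X) → X = 1 ∨ X = s := by
    intro X hX
    have hdet : ∀ k : Fin 6, (F (Pi.single (k.castSucc) 1)).det = 1 := by
      intro k
      have h := congrArg Matrix.det (hsq (Pi.single (k.castSucc) 1))
      rw [Matrix.det_mul, Matrix.det_mul, Matrix.det_one] at h
      rcases h01 (F (Pi.single (k.castSucc) 1)).det with hd | hd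
      · rw [hd] at h; simp at h
      · exact hd
    have key : ∀ k : Fin 6, (X : Matrix (Fin 5) (Fin 5) (ZMod 2)) * F (Pi.single (k.castSucc) 1) =
        F (Pi.single (k.castSucc) 1) * (X : Matrix (Fin 5) (Fin 5) (ZMod 2)) := fun k => by
      have := congrArg (fun Y : Matrix.SpecialLinearGroup (Fin 5) (ZMod 2) => (Y : Matrix (Fin 5) (Fin 5) (ZMod 2)))
        (hX ⟨_, hdet k⟩ ⟨_, rfl⟩)
      exact (Matrix.SpecialLinearGroup.coe_mul _ _).symm.trans (this.trans (Matrix.SpecialLinearGroup.coe_mul _ _))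
    have e : ∀ (k : Fin 6) i j, ((X : Matrix (Fin 5) (Fin 5) (ZMod 2)) * F (Pi.single (k.castSucc) 1)) i j =
        (F (Pi.single (k.castSucc) 1) * (X : Matrix (Fin 5) (Fin 5) (ZMod 2))) i j := fun k i j => by rw [key k]
    have hd := X.det_coe
    generalize hY : (X : Matrix (Fin 5) (Fin 5) (ZMod 2)) = Y at e hd
    have f0 := e 0 1 2
    simp [F, Matrix.mul_apply, Fin.sum_univ_five, Pi.single_apply] at f0
    have f1 := e 0 2 2
    simp [F, Matrix.mul_apply, Fin.sum_univ_five, Pi.single_apply] at f1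
    have f2 := e 0 3 2
    simp [F, Matrix.mul_apply, Fin.sum_univ_five, Pi.single_apply] at f2
    have f3 := e 0 4 2
    simp [F, Matrix.mul_apply, Fin.sum_univ_five, Pi.single_apply] at f3
    have f4 := e 0 0 0
    simp [F, Matrix.mul_apply, Fin.sum_univ_five, Pi.single_apply] at f4
    have f5 := e 0 0 1
    simp [F, Matrix.mul_apply, Fin.sum_univ_five, Pi.single_apply] at f5
    have f6 := e 0 0 2
    simp [F, Matrix.mul_apply, Fin.sum_univ_five, Pi.single_apply] at f6
    have f7 := e 0 0 3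
    simp [F, Matrix.mul_apply, Fin.sum_univ_five, Pi.single_apply] at f7
    have f8 := e 0 0 4
    simp [F, Matrix.mul_apply, Fin.sum_univ_five, Pi.single_apply] at f8
    have f9 := e 1 0 0
    simp [F, Matrix.mul_apply, Fin.sum_univ_five, Pi.single_apply] at f9
    have f10 := e 1 0 1
    simp [F, Matrix.mul_apply, Fin.sum_univ_five, Pi.single_apply] at f10
    have f11 := e 1 0 2
    simp [F, Matrix.mul_apply, Fin.sum_univ_five, Pi.single_apply] at f11
    have f12 := e 1 0 3
    simp [F, Matrix.mul_apply, Fin.sum_univ_five, Pi.single_apply] at f12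
    have f13 := e 1 0 4
    simp [F, Matrix.mul_apply, Fin.sum_univ_five, Pi.single_apply] at f13
    have f14 := e 2 0 0
    simp [F, Matrix.mul_apply, Fin.sum_univ_five, Pi.single_apply] at f14
    have f15 := e 2 0 1
    simp [F, Matrix.mul_apply, Fin.sum_univ_five, Pi.single_apply] at f15
    have f16 := e 2 0 2
    simp [F, Matrix.mul_apply, Fin.sum_univ_five, Pi.single_apply] at f16
    have f17 := e 2 0 3
    simp [F, Matrix.mul_apply, Fin.sum_univ_five, Pi.single_apply] at f17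
    have f18 := e 2 0 4
    simp [F, Matrix.mul_apply, Fin.sum_univ_five, Pi.single_apply] at f18
    have f19 := e 3 2 0
    simp [F, Matrix.mul_apply, Fin.sum_univ_five, Pi.single_apply] at f19
    have f20 := e 3 2 1
    simp [F, Matrix.mul_apply, Fin.sum_univ_five, Pi.single_apply] at f20
    have f21 := e 3 2 2
    simp [F, Matrix.mul_apply, Fin.sum_univ_five, Pi.single_apply] at f21
    have f22 := e 3 2 3
    simp [F, Matrix.mul_apply, Fin.sum_univ_five, Pi.single_apply] at f22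
    have f23 := e 3 2 4
    simp [F, Matrix.mul_apply, Fin.sum_univ_five, Pi.single_apply] at f23
    have f24 := e 3 0 1
    simp [F, Matrix.mul_apply, Fin.sum_univ_five, Pi.single_apply] at f24
    have f25 := e 4 0 1
    simp [F, Matrix.mul_apply, Fin.sum_univ_five, Pi.single_apply] at f25
    have f26 := e 5 0 1
    simp [F, Matrix.mul_apply, Fin.sum_univ_five, Pi.single_apply] at f26
    have hY' : Y = !![Y 0 0, Y 0 1, 0, 0, 0; 0, Y 0 0, 0, 0, 0; 0, 0, Y 0 0, 0, 0; 0, 0, 0, Y 0 0, 0; 0, 0, 0, 0, Y 0 0] := by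
      ext i j
      fin_cases i <;> fin_cases j <;> (try simp [f0, f1, f2, f3, f4, f5, f6, f7, f8, f9, f10, f11, f12, f13, f14, f15, f16, f17, f18, f19, f20, f21, f22, f23, f24, f25, f26]) <;> grind
    rw [hY'] at hd
    rcases h01 (Y 0 0) with h0 | h0
    · rw [h0, Matrix.det_eq_zero_of_row_eq_zero 2 (fun j => by fin_cases j <;> simp)] at hd
      simp at hd
    rcases h01 (Y 0 1) with h1 | h1
    · left; apply Subtype.ext
      rw [hY, hY', h0, h1]; ext i j; fin_cases i <;> fin_cases j <;> simp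
    · right; apply Subtype.ext
      rw [hY, hY', h0, h1, hs']; ext i j; fin_cases i <;> fin_cases j <;> simp [F]
  -- transfer to `C_G(z)`
  let C := Subgroup.centralizer ({z} : Set G)
  let Q' : Subgroup C := (Q.subgroupOf S).map e.symm.toMonoidHom
  have hQ'p : IsPGroup 2 Q' := (hQp.comap_subtype (K := S)).map _
  obtain ⟨P, hP⟩ := hQ'p.exists_le_sylow
  obtain ⟨x, hx⟩ := MulAction.exists_smul_eq C P T
  have hzC : z ∈ C := Subgroup.mem_centralizer_singleton_iff.mpr rfl
  have hzc : ∀ c : C, c * ⟨z, hzC⟩ = ⟨z, hzC⟩ * c := fun c =>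
    Subtype.ext (Subgroup.mem_centralizer_singleton_iff.mp c.2)
  have hzT : (⟨z, hzC⟩ : C) ∈ (T : Subgroup C) := by
    have hp : IsPGroup 2 (Subgroup.zpowers (⟨z, hzC⟩ : C)) :=
      IsPGroup.of_card (n := 1) (by rw [Nat.card_zpowers, Subgroup.orderOf_mk, hz, pow_one])
    have hn : (Subgroup.zpowers (⟨z, hzC⟩ : C)).Normal := ⟨fun a ha g => by
      obtain ⟨i, rfl⟩ := Subgroup.mem_zpowers_iff.mp ha
      rw [((Commute.zpow_right (hzc g) i)).eq, mul_inv_cancel_right]
      exact ha⟩
    have := T.3 (T.2.to_sup_of_normal_right hp) le_sup_left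
    exact this ▸ (le_sup_right (a := (T : Subgroup C))) (Subgroup.mem_zpowers _)
  have hcard2 : ∀ c d : C, c ∈ (T : Subgroup C) → (∀ t ∈ (T : Subgroup C), c * t = t * c) →
      d ∈ (T : Subgroup C) → (∀ t ∈ (T : Subgroup C), d * t = t * d) → c ≠ 1 → d ≠ 1 → c = d := by
    have key : ∀ c : C, (∀ t ∈ (T : Subgroup C), c * t = t * c) → c ≠ 1 → e (x⁻¹ * c * x) = ⟨s, Subgroup.mem_centralizer_singleton_iff.mpr rfl⟩ := by
      intro c hc hc1
      rcases hcent ((e (x⁻¹ * c * x) : S) : Matrix.SpecialLinearGroup (Fin 5) (ZMod 2)) (fun q hq => by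
        have hqP : e.symm ⟨q, hQS hq⟩ ∈ (P : Subgroup C) := hP ⟨⟨q, hQS hq⟩, hq, rfl⟩
        have hqT : x * e.symm ⟨q, hQS hq⟩ * x⁻¹ ∈ (T : Subgroup C) := by
          rw [← hx]; exact ⟨_, hqP, rfl⟩
        have h1 := hc _ hqT
        have h2 : x⁻¹ * (c * (x * e.symm ⟨q, hQS hq⟩ * x⁻¹)) * x = x⁻¹ * (x * e.symm ⟨q, hQS hq⟩ * x⁻¹ * c) * x := by rw [h1]
        have h3 : (x⁻¹ * c * x) * e.symm ⟨q, hQS hq⟩ = e.symm ⟨q, hQS hq⟩ * (x⁻¹ * c * x) := by
          simpa [mul_assoc] using h2
        have h4 := congrArg e h3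
        rw [map_mul e (x⁻¹ * c * x), map_mul e (e.symm _), e.apply_symm_apply] at h4
        exact congrArg Subtype.val h4) with h | h
      · exfalso
        have h' : e (x⁻¹ * c * x) = 1 := Subtype.ext h
        rw [MulEquiv.map_eq_one_iff] at h'
        apply hc1
        have := congrArg (fun u => x * u * x⁻¹) h'
        simpa [mul_assoc] using this
      · exact Subtype.ext h
    intro c d _ hc _ hd hc1 hd1
    have := e.injective ((key c hc hc1).trans (key d hd hd1).symm)
    exact mul_left_cancel (mul_right_cancel this)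
  intro hdvd
  set TG := (T : Subgroup C).map C.subtype with hTG
  obtain ⟨k, hk⟩ := (T.2.map C.subtype : IsPGroup 2 TG).exists_card_eq
  have hmod := Sylow.card_quotient_normalizer_modEq_card_quotient (p := 2) (H := TG) hk
  have h2N : 2 ∣ TG.relIndex (Subgroup.normalizer (TG : Set G)) := (Nat.ModEq.dvd_iff hmod dvd_rfl).mpr hdvd
  have hNC : Subgroup.normalizer (TG : Set G) ≤ C := by
    intro u hu
    have hmem : ∀ t : C, t ∈ (T : Subgroup C) → ∃ t' : C, t' ∈ (T : Subgroup C) ∧ (t' : G) = u * t * u⁻¹ := fun t ht =>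
      (Subgroup.mem_normalizer_iff.mp hu t).mp ⟨t, ht, rfl⟩
    obtain ⟨w, hw, hw'⟩ := hmem _ hzT
    have hwc : ∀ t ∈ (T : Subgroup C), w * t = t * w := by
      intro t ht
      have : u⁻¹ * t * u ∈ TG := by
        simpa using (Subgroup.mem_normalizer_iff.mp (inv_mem hu) (t : G)).mp ⟨t, ht, rfl⟩
      obtain ⟨r, hr, hr'⟩ := this
      apply Subtype.ext
      show (w : G) * t = t * w
      have h1 : (z : G) * (r : G) = (r : G) * z := (congrArg Subtype.val (hzc r)).symm
      have h2 : u * (z * (r : G)) * u⁻¹ = u * ((r : G) * z) * u⁻¹ := by rw [h1]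
      have h3 : (r : G) = u⁻¹ * t * u := hr'
      rw [h3] at h2
      rw [hw']
      simpa [mul_assoc] using h2
    have hz1 : (⟨z, hzC⟩ : C) ≠ 1 := fun h => by
      have h' : z = 1 := congrArg Subtype.val h
      rw [h', orderOf_one] at hz; norm_num at hz
    have hw1 : w ≠ 1 := fun h => by
      apply hz1
      rw [h] at hw'
      have h' : (1 : G) = u * z * u⁻¹ := hw'
      rw [eq_comm, conj_eq_one_iff] at h'
      exact Subtype.ext h'
    have := hcard2 w _ hw hwc hzT (fun t _ => (hzc t).symm) hw1 hz1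
    rw [this] at hw'
    have hw'' : z = u * z * u⁻¹ := hw'
    rw [eq_mul_inv_iff_mul_eq] at hw''
    exact Subgroup.mem_centralizer_singleton_iff.mpr hw''.symm
  have h3 : 2 ∣ TG.relIndex C :=
    h2N.trans ⟨_, (Subgroup.relIndex_mul_relIndex _ _ _ Subgroup.le_normalizer hNC).symm⟩
  have h4 : TG.relIndex C = (T : Subgroup C).index := by
    show (TG.subgroupOf C).index = _
    rw [hTG, Subgroup.subgroupOf, Subgroup.comap_map_eq_self_of_injective C.subtype_injective]
  exact T.not_dvd_index (h4 ▸ h3)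

end Cfsg.Agent.S1717
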