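import Cfsg.Statements.S1719
import Cfsg.Agent.Lib.Recog.SuzIso.Main
import Cfsg.Agent.Lib.ThreeTrans.LargeGeneration
import Cfsg.Agent.Lib.Recog.SuzThree.FromHyp

set_option autoImplicit false
open Cfsg

namespace Cfsg.Agent.S1719

/-- Uniqueness of the sporadic Suzuki group under the large-extraspecial hypothesis: let G be a finite group with an involution z whose centraliser C has generalised Fitting subgroup Q extraspecial of order 2 ^ 7, with C / Q isomorphic to Ω⁻(6, 2) (the commutator subgroup of the isometry group of the elliptic quadratic form x₁y₁ + x₂y₂ + z₁² + z₁z₂ + z₂² over the field with 2 elements), and suppose some conjugate of z different from z lies in Q. Then G is isomorphic to the presented sporadic Suzuki group. -/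
theorem result {G : Type*} [Group G] [Finite G] (z : G) (hz : orderOf z = 2) (Q : Subgroup (Subgroup.centralizer ({z} : Set G))) [Q.Normal] (hF : Cfsg.generalizedFittingSubgroup (Subgroup.centralizer ({z} : Set G)) = Q) (hQ : Cfsg.IsExtraspecial 2 Q) (hcard : Nat.card Q = 2 ^ 7) (e : (Subgroup.centralizer ({z} : Set G)) ⧸ Q ≃* Cfsg.Omega (ZMod 2) (Cfsg.quadFormMinus 2 (ZMod 2) 1 1)) (hnwc : ∃ g : G, (∃ hq : g * z * g⁻¹ ∈ Subgroup.centralizer ({z} : Set G), (⟨g * z * g⁻¹, hq⟩ : Subgroup.centralizer ({z} : Set G)) ∈ Q) ∧ g * z * g⁻¹ ≠ z) : Cfsg.Spor.IsoSuz G := by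
  classical
  obtain ⟨g, ⟨hq, hgQ⟩, hgz⟩ := hnwc
  set Q0 : Subgroup G := Q.map (Subgroup.centralizer ({z} : Set G)).subtype with hQ0
  have eQ : Q ≃* Q0 := Subgroup.equivMapOfInjective Q (Subgroup.centralizer ({z} : Set G)).subtype (Subgroup.centralizer ({z} : Set G)).subtype_injective
  haveI : Fact (Nat.Prime 2) := ⟨Nat.prime_two⟩
  have hQ' : Cfsg.IsExtraspecial 2 Q0 := CfsgLib.ThreeTrans.isExtraspecial_congr hQ eQ
  have hle : Q0 ≤ Subgroup.centralizer ({z} : Set G) := Subgroup.map_subtype_le Q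
  have hL : CfsgLib.ThreeTrans.LargeData z Q0 :=
    CfsgLib.ThreeTrans.LargeGeneration.largeData_of_gFitting hz hle (by rw [hF]) hQ'
  have hOm : Nat.card ↥(Cfsg.Omega (ZMod 2) (Cfsg.quadFormMinus 2 (ZMod 2) 1 1)) = 25920 := by
    have h1 := (Cfsg.Omega (ZMod 2) CfsgLib.Recog.FiM22Two.OrthSixMinus.q6).card_mul_index
    rw [CfsgLib.Recog.FiM22Two.OrthSixMinus.index_omega, CfsgLib.Recog.FiM22Two.OrthSixMinus.card_iso] at h1
    show Nat.card ↥(Cfsg.Omega (ZMod 2) CfsgLib.Recog.FiM22Two.OrthSixMinus.q6) = 25920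
    omega
  have hH : CfsgLib.LocalEvenB.SuzType.Hyp z Q0 := by
    refine ⟨hL, by rw [← Nat.card_congr eQ.toEquiv, hcard]; norm_num, ?_⟩
    rw [Subgroup.card_eq_card_quotient_mul_card_subgroup Q, hcard, Nat.card_congr e.toEquiv, hOm, mul_comm]
  exact CfsgLib.Recog.SuzIso.suz_iso hH ⟨g, ⟨_, hgQ, rfl⟩, hgz⟩

end Cfsg.Agent.S1719
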