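import Cfsg.Statements.S5380
import Cfsg.Agent.Lib.Recog.SuzThree.FromHyp
import Cfsg.Agent.Lib.Recog.SuzThree.Main
import Cfsg.Agent.Lib.ThreeTrans.LargeGeneration

set_option autoImplicit false
open Cfsg

namespace Cfsg.Agent.S5380

/-- Let G be a finite group of Suzuki sporadic type (involution z with generalized Fitting subgroup Q of its centralizer C extraspecial of order 2^7, C/Q the commutator subgroup of the isometry group of the elliptic quadratic form in dimension 6 over the field with two elements, z not weakly closed in Q), and let Y be a subgroup of C of order 3 whose commutator subgroup with Q is non-abelian of order 8 (a quaternion group). Then the centralizer of Y in G is quasisimple, its quotient by Y is isomorphic to the projective special unitary group of dimension 4 over the field with nine elements, and the centralizer of Y has index 2 in the normalizer of Y. -/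
theorem result {G : Type*} [Group G] [Finite G] (z : G) (hz : orderOf z = 2) (Q : Subgroup (Subgroup.centralizer ({z} : Set G))) [Q.Normal] (hF : Cfsg.generalizedFittingSubgroup (Subgroup.centralizer ({z} : Set G)) = Q) (hQ : Cfsg.IsExtraspecial 2 Q) (hcard : Nat.card Q = 2 ^ 7) (e : (Subgroup.centralizer ({z} : Set G)) ⧸ Q ≃* Cfsg.Omega (ZMod 2) (Cfsg.quadFormMinus 2 (ZMod 2) 1 1)) (hnwc : ∃ g : G, (∃ hq : g * z * g⁻¹ ∈ Subgroup.centralizer ({z} : Set G), (⟨g * z * g⁻¹, hq⟩ : Subgroup.centralizer ({z} : Set G)) ∈ Q) ∧ g * z * g⁻¹ ≠ z) (Y : Subgroup (Subgroup.centralizer ({z} : Set G))) (hY : Nat.card Y = 3) (hQY : Nat.card ↥⁅Q, Y⁆ = 8) (hQYna : ¬ IsMulCommutative ↥⁅Q, Y⁆) [((Y.map (Subgroup.subtype (Subgroup.centralizer ({z} : Set G)))).subgroupOf (Subgroup.centralizer ((Y.map (Subgroup.subtype (Subgroup.centralizer ({z} : Set G)))) : Set G))).Normal] (K : Type) [Field K] [Fintype K] (hK : Fintype.card K = 9) : Cfsg.IsQuasisimple ↥(Subgroup.centralizer ((Y.map (Subgroup.subtype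 (Subgroup.centralizer ({z} : Set G)))) : Set G)) ∧ Nonempty (↥(Subgroup.centralizer ((Y.map (Subgroup.subtype (Subgroup.centralizer ({z} : Set G)))) : Set G)) ⧸ (Y.map (Subgroup.subtype (Subgroup.centralizer ({z} : Set G)))).subgroupOf (Subgroup.centralizer ((Y.map (Subgroup.subtype (Subgroup.centralizer ({z} : Set G)))) : Set G)) ≃* Cfsg.PSU 4 K 3) ∧ (Subgroup.centralizer ((Y.map (Subgroup.subtype (Subgroup.centralizer ({z} : Set G)))) : Set G)).relIndex (Subgroup.normalizer ((Y.map (Subgroup.subtype (Subgroup.centralizer ({z} : Set G)))) : Set G)) = 2 := by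
  classical
  obtain ⟨g, ⟨hq, hgQ⟩, hgz⟩ := hnwc
  set Q0 : Subgroup G := Q.map (Subgroup.centralizer ({z} : Set G)).subtype with hQ0
  have eQ : Q ≃* Q0 := Subgroup.equivMapOfInjective Q (Subgroup.centralizer ({z} : Set G)).subtype (Subgroup.centralizer ({z} : Set G)).subtype_injective
  haveI : Fact (Nat.Prime 2) := ⟨Nat.prime_two⟩
  have hQ' : Cfsg.IsExtraspecial 2 Q0 := CfsgLib.ThreeTrans.isExtraspecial_congr hQ eQ
  have hle : Q0 ≤ Subgroup.centralizer ({z} : Set G) := Subgroup.map_subtype_le Q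
  have hL : CfsgLib.ThreeTrans.LargeData z Q0 :=
    CfsgLib.ThreeTrans.LargeGeneration.largeData_of_gFitting hz hle (by rw [hF]) hQ'
  have hOm : Nat.card ↥(Cfsg.Omega (ZMod 2) (Cfsg.quadFormMinus 2 (ZMod 2) 1 1)) = 25920 := by
    have h1 := (Cfsg.Omega (ZMod 2) CfsgLib.Recog.FiM22Two.OrthSixMinus.q6).card_mul_index
    rw [CfsgLib.Recog.FiM22Two.OrthSixMinus.index_omega, CfsgLib.Recog.FiM22Two.OrthSixMinus.card_iso] at h1
    show Nat.card ↥(Cfsg.Omega (ZMod 2) CfsgLib.Recog.FiM22Two.OrthSixMinus.q6) = 25920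
    omega
  have hH : CfsgLib.LocalEvenB.SuzType.Hyp z Q0 := by
    refine ⟨hL, by rw [← Nat.card_congr eQ.toEquiv, hcard]; norm_num, ?_⟩
    rw [Subgroup.card_eq_card_quotient_mul_card_subgroup Q, hcard, Nat.card_congr e.toEquiv, hOm, mul_comm]
  obtain ⟨p, hp⟩ := hH.exists_sys
  -- a generator
  obtain ⟨x, hx⟩ : ∃ x : Y, x ≠ 1 := by
    haveI : Nontrivial Y := Finite.one_lt_card_iff_nontrivial.1 (by omega)
    exact exists_ne 1
  haveI : Fact (Nat.Prime 3) := ⟨Nat.prime_three⟩
  have hx3 : orderOf x = 3 := orderOf_eq_prime (by rw [← hY]; exact pow_card_eq_one') hx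
  set y : G := ((x : Subgroup.centralizer ({z} : Set G)) : G) with hy
  have hy3 : y * y * y = 1 := by
    have h3 : x ^ 3 = 1 := by rw [← hx3]; exact pow_orderOf_eq_one x
    rw [pow_succ, pow_two] at h3
    exact congrArg (fun t : Y => ((t : Subgroup.centralizer ({z} : Set G)) : G)) h3
  have hy1 : y ≠ 1 := fun h => hx (Subtype.ext (Subtype.ext h))
  have hyz : Commute y z := Subgroup.mem_centralizer_singleton_iff.1 (x : Subgroup.centralizer ({z} : Set G)).2
  have hYg : Y.map (Subgroup.centralizer ({z} : Set G)).subtype = Subgroup.zpowers y := by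
    rw [hy, ← Subgroup.coe_subtype, ← MonoidHom.map_zpowers]
    refine congrArg _ (Subgroup.eq_of_le_of_card_ge (Subgroup.zpowers_le.2 x.2) ?_).symm
    rw [Nat.card_zpowers, Subgroup.orderOf_coe, hx3, hY]
  obtain ⟨R, hR, hRy⟩ := hp.exists_acts hyz
  -- it moves inside a line
  obtain ⟨a, b, hab⟩ := CfsgLib.Recog.SuzThree.exists_moved hp hRy (⁅Q, Y⁆.map (Subgroup.centralizer ({z} : Set G)).subtype)
    (Subgroup.map_mono (Subgroup.commutator_le_left Q Y))
    (by rw [Subgroup.card_map_of_injective (Subgroup.subtype_injective _), hQY])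
    (by
      by_contra hne
      push Not at hne
      refine hQYna ⟨⟨fun u v => Subtype.ext (Subtype.ext ?_)⟩⟩
      exact hne _ (Subgroup.mem_map_of_mem _ u.2) _ (Subgroup.mem_map_of_mem _ v.2))
    (fun q hq => by
      obtain ⟨q', hq', rfl⟩ := Subgroup.mem_map.1 hq
      exact Subgroup.mem_map.2 ⟨_, Subgroup.commutator_mem_commutator hq' x.2, rfl⟩)
  obtain ⟨p', hp', hor⟩ := CfsgLib.Recog.SuzThree.exists_coords hp hR.1 hRy hy3 hy1 hab
  have hn : ∃ g : G, g * z * g⁻¹ ∈ Q0 ∧ g * z * g⁻¹ ≠ z := ⟨g, ⟨_, hgQ, rfl⟩, hgz⟩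
  rcases hor with hA | hA
  · exact CfsgLib.Recog.SuzThree.Std.main (z := z) (Q := Q0) (p := p') (y := y) ⟨hp', hy3, hA⟩ hn _ hYg K hK
  · have he : Subgroup.zpowers y = Subgroup.zpowers (y * y) := by
      refine le_antisymm (Subgroup.zpowers_le.2 ?_)
        (Subgroup.zpowers_le.2 (mul_mem (Subgroup.mem_zpowers y) (Subgroup.mem_zpowers y)))
      have : y * y * (y * y) = y := by
        calc y * y * (y * y) = y * y * y * y := by group
          _ = y := by rw [hy3, one_mul]
      have h2 := mul_mem (Subgroup.mem_zpowers (y * y)) (Subgroup.mem_zpowers (y * y))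
      rwa [this] at h2
    exact CfsgLib.Recog.SuzThree.Std.main (z := z) (Q := Q0) (p := p') (y := y * y)
      ⟨hp', CfsgLib.Recog.SuzThree.sq_cube hy3, hA⟩ hn _ (hYg.trans he) K hK

end Cfsg.Agent.S5380
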