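import Cfsg.Statements.S1725
import Cfsg.Agent.S1719
import Cfsg.Agent.S5380
import Cfsg.Agent.Lib.Recog.SuzEleven.Transport
import Cfsg.Agent.Lib.Recog.SuzEleven.Main
import Cfsg.Agent.Lib.LocalEvenB.SuzType.Locals.Setup
import Cfsg.Agent.Lib.LocalEvenB.SuzType.Locals.PairNear
import Cfsg.Agent.Lib.LocalEvenB.McLUnitary.Lines

set_option autoImplicit false
open Cfsg

namespace Cfsg.Agent.S1725

/-- A 3-local step in the uniqueness proof for the sporadic Suzuki group: let G satisfy the large-extraspecial hypothesis with Q of order 2 ^ 7, quotient Ω⁻(6, 2) and z not weakly closed in Q, and let X be a subgroup of order 3 of the centraliser C of z with the commutator subgroup of Q and X of order 8 and non-abelian (a quaternion group). Then for any Sylow 3-subgroup P of the normaliser of X in G, P is a Sylow 3-subgroup of G (its index in G is prime to 3), and P contains an elementary abelian subgroup A of order 3 ^ 5 with C_G(A) = A and N_G(A) / A isomorphic to the Mathieu group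 M₁₁. -/
theorem result {G : Type*} [Group G] [Finite G] (z : G) (hz : orderOf z = 2) (Q : Subgroup (Subgroup.centralizer ({z} : Set G))) [Q.Normal] (hF : Cfsg.generalizedFittingSubgroup (Subgroup.centralizer ({z} : Set G)) = Q) (hQ : Cfsg.IsExtraspecial 2 Q) (hcard : Nat.card Q = 2 ^ 7) (e : (Subgroup.centralizer ({z} : Set G)) ⧸ Q ≃* Cfsg.Omega (ZMod 2) (Cfsg.quadFormMinus 2 (ZMod 2) 1 1)) (hnwc : ∃ g : G, (∃ hq : g * z * g⁻¹ ∈ Subgroup.centralizer ({z} : Set G), (⟨g * z * g⁻¹, hq⟩ : Subgroup.centralizer ({z} : Set G)) ∈ Q) ∧ g * z * g⁻¹ ≠ z) (X : Subgroup (Subgroup.centralizer ({z} : Set G))) (hX : Nat.card X = 3) (hQX : Nat.card ↥⁅Q, X⁆ = 8) (hQXna : ¬ IsMulCommutative ↥⁅Q, X⁆) (P : Sylow 3 ↥(Subgroup.normalizer ((X.map (Subgroup.subtype (Subgroup.centralizer ({z} : Set G))) : Subgroup G) : Set G))) : ¬ 3 ∣ (((P : Subgroup ↥(Subgroup.normalizer ((X.map (Subgroup.subtype (Subgroup.centralizer ({z} : Set G))) : Subgroup G) : Set G))).map (Subgroup.subtype (Subgroup.normalizer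 ((X.map (Subgroup.subtype (Subgroup.centralizer ({z} : Set G))) : Subgroup G) : Set G)))).index) ∧ ∃ A : Subgroup G, A ≤ (P : Subgroup ↥(Subgroup.normalizer ((X.map (Subgroup.subtype (Subgroup.centralizer ({z} : Set G))) : Subgroup G) : Set G))).map (Subgroup.subtype (Subgroup.normalizer ((X.map (Subgroup.subtype (Subgroup.centralizer ({z} : Set G))) : Subgroup G) : Set G))) ∧ Cfsg.IsElementaryAbelian 3 A ∧ Nat.card A = 3 ^ 5 ∧ Subgroup.centralizer (A : Set G) = A ∧ ∃ _ : (A.subgroupOf (Subgroup.normalizer (A : Set G))).Normal, Cfsg.Spor.IsoM11 (↥(Subgroup.normalizer (A : Set G)) ⧸ A.subgroupOf (Subgroup.normalizer (A : Set G))) := by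
  classical
  haveI : Fact (Nat.Prime 3) := ⟨Nat.prime_three⟩
  have hsuz := Cfsg.Agent.S1719.result z hz Q hF hQ hcard e hnwc
  let Xg : Subgroup G := X.map (Subgroup.subtype (Subgroup.centralizer ({z} : Set G)))
  have hXc : Nat.card Xg = 3 := by
    show Nat.card (X.map (Subgroup.subtype (Subgroup.centralizer ({z} : Set G)))) = 3
    rw [Subgroup.card_map_of_injective (Subgroup.subtype_injective _), hX]
  haveI : IsCyclic Xg := isCyclic_of_prime_card hXc
  have hcomm : Xg ≤ Subgroup.centralizer (Xg : Set G) := by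
    intro a ha b hb
    letI := IsCyclic.commGroup (α := Xg)
    exact congrArg Subtype.val (mul_comm (⟨b, hb⟩ : Xg) ⟨a, ha⟩)
  haveI hnor : (Xg.subgroupOf (Subgroup.centralizer (Xg : Set G))).Normal := by
    refine ⟨fun n hn c => ?_⟩
    have hc := (Subgroup.mem_centralizer_iff.1 c.2 n (Subgroup.mem_subgroupOf.1 hn))
    rw [Subgroup.mem_subgroupOf] at hn ⊢
    have : ((c * n * c⁻¹ : Subgroup.centralizer (Xg : Set G)) : G) = n := by
      rw [Subgroup.coe_mul, Subgroup.coe_mul, InvMemClass.coe_inv, ← hc, mul_inv_cancel_right]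
    rwa [this]
  let K := GaloisField 3 2
  haveI : Fintype K := Fintype.ofFinite K
  have hK : Fintype.card K = 9 := by
    rw [← Nat.card_eq_fintype_card, GaloisField.card 3 2 (by norm_num)]; norm_num
  obtain ⟨-, ⟨eU⟩, hrel⟩ := Cfsg.Agent.S5380.result z hz Q hF hQ hcard e hnwc X hX hQX hQXna K hK
  have hcardC : Nat.card (Subgroup.centralizer (Xg : Set G)) = 3 * 3265920 := by
    rw [Subgroup.card_eq_card_quotient_mul_card_subgroup (Xg.subgroupOf (Subgroup.centralizer (Xg : Set G))),
      Nat.card_congr eU.toEquiv, Nat.card_congr (Subgroup.subgroupOfEquivOfLe hcomm).toEquiv, hXc,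
      CfsgLib.Recog.SuzEleven.card_psu_four hK, mul_comm]
  let N : Subgroup G := Subgroup.normalizer (Xg : Set G)
  have hcardN : Nat.card N = 19595520 := by
    have h := (Subgroup.centralizer (Xg : Set G)).subgroupOf N |>.card_mul_index
    rw [Nat.card_congr (Subgroup.subgroupOfEquivOfLe ((show Subgroup.centralizer (Xg : Set G) ≤ N from Subgroup.centralizer_le_normalizer _))).toEquiv,
      hcardC] at h
    have h2 : ((Subgroup.centralizer (Xg : Set G)).subgroupOf N).index = 2 := hrel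
    omega
  obtain ⟨Q0, p, k, t, v, W⟩ := CfsgLib.LocalEvenB.SuzType.exists_four_of_suz_type z hz Q hF hQ hcard e hnwc
  have hG : Nat.card G = 448345497600 := W.card_group
  let Pg : Subgroup G := (P : Subgroup N).map N.subtype
  have hPcard : Nat.card Pg = 3 ^ 7 := by
    show Nat.card ((P : Subgroup N).map N.subtype) = 3 ^ 7
    rw [Subgroup.card_map_of_injective (Subgroup.subtype_injective _), P.card_eq_multiplicity, hcardN,
      show (19595520 : ℕ) = 3 ^ 7 * 8960 from rfl, Nat.factorization_mul (by norm_num) (by norm_num)]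
    rw [Finsupp.coe_add, Pi.add_apply, Nat.Prime.factorization_pow Nat.prime_three, Finsupp.single_eq_same,
      Nat.factorization_eq_zero_of_not_dvd (show ¬ 3 ∣ 8960 by norm_num), add_zero]
  have hidx : ¬ 3 ∣ Pg.index := by
    have h := Pg.card_mul_index
    rw [hPcard, hG] at h
    omega
  refine ⟨hidx, ?_⟩
  obtain ⟨eG⟩ := hsuz
  obtain ⟨-, hinj, -⟩ := CfsgLib.Recog.SporBound.SuzGroup.card_suz_and_faithful
  let ε : G ≃* CfsgLib.Recog.SuzRankThree.G0 := eG.trans (MonoidHom.ofInjective hinj)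
  have hI := CfsgLib.Recog.SuzEleven.invHyp_of_four W ε
  obtain ⟨A, hA1, hA2, hA3, hA4, hA5⟩ := CfsgLib.Recog.SuzEleven.exists_in_group ε hI
  obtain ⟨g, hg⟩ : ∃ g : G, A.map (MulAut.conj g).toMonoidHom ≤ Pg := by
    obtain ⟨S, hS⟩ := (IsPGroup.of_card (n := 5) hA2).exists_le_sylow
    have hP3 : IsPGroup 3 Pg := IsPGroup.of_card (n := 7) hPcard
    obtain ⟨g, hg⟩ := MulAction.exists_smul_eq G S (hP3.toSylow hidx)
    refine ⟨g, le_trans (Subgroup.map_mono hS) ?_⟩
    rw [← hP3.toSylow_coe hidx, ← hg]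
    exact le_rfl
  obtain ⟨h1, h2, h3, h4, h5⟩ := CfsgLib.Recog.SuzEleven.props_map (MulAut.conj g) hA1 hA2 hA3 hA4 hA5
  exact ⟨_, hg, h1, h2, h3, h4, h5⟩

end Cfsg.Agent.S1725
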