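import Cfsg.Statements.S1744
import Cfsg.Agent.Lib.Recog.G2Sylow.Embed
import Cfsg.Agent.Lib.Recog.G2Sylow.CentFinal

set_option autoImplicit false
open Cfsg

namespace Cfsg.Agent.S1744

/-- Let G be a finite simple group whose Sylow 2-subgroups are isomorphic to a Sylow 2-subgroup of the Chevalley group of type G₂ over a finite field of odd order, in which all involutions are conjugate. Let S be a Sylow 2-subgroup, t an involution in the centre of S, C its centralizer and Q the quotient of C by its largest normal subgroup of odd order. Then Q has normal subgroups L₁ and L₂, isomorphic to special linear groups of dimension 2 over fields of odd orders, which commute elementwise and whose product is the commutator subgroup of Q. -/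
theorem result {G : Type*} [Group G] [Finite G] [IsSimpleGroup G]
    {F : Type*} [Field F] [Fintype F] (hF : Odd (Fintype.card F)) (S : Sylow 2 G) (P : Sylow 2 ↥(Cfsg.Lie.chevG2.group F))
    (hS : Nonempty (↥(S : Subgroup G) ≃* ↥(P : Subgroup ↥(Cfsg.Lie.chevG2.group F))))
    (h1 : ∀ x y : G, orderOf x = 2 → orderOf y = 2 → IsConj x y) (t : G) (ht : orderOf t = 2) (htS : t ∈ (S : Subgroup G))
    (htZ : ∀ s ∈ (S : Subgroup G), s * t = t * s) :
    ∃ L₁ L₂ : Subgroup (↥(Subgroup.centralizer ({t} : Set G)) ⧸ Cfsg.oddCore ↥(Subgroup.centralizer ({t} : Set G))),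
      L₁.Normal ∧ L₂.Normal ∧
      (∃ (F₁ : Type) (_ : Field F₁) (_ : Fintype F₁), Odd (Fintype.card F₁) ∧ Nonempty (↥L₁ ≃* Matrix.SpecialLinearGroup (Fin 2) F₁)) ∧
      (∃ (F₂ : Type) (_ : Field F₂) (_ : Fintype F₂), Odd (Fintype.card F₂) ∧ Nonempty (↥L₂ ≃* Matrix.SpecialLinearGroup (Fin 2) F₂)) ∧
      ⁅L₁, L₂⁆ = ⊥ ∧ L₁ ⊔ L₂ = commutator _ := by
  obtain ⟨a, ha, ⟨e⟩⟩ := CfsgLib.Recog.G2Sylow.exists_model hF P
  obtain ⟨f⟩ := hS
  let g := e.trans f.symm
  set ι := (S : Subgroup G).subtype.comp g.toMonoidHom with hι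
  have hr : ι.range = (S : Subgroup G) := by
    rw [hι, MonoidHom.range_comp, MonoidHom.range_eq_top.2 g.surjective, ← MonoidHom.range_eq_map,
      Subgroup.range_subtype]
  have hinj : Function.Injective ι := fun x y h => g.injective (Subtype.ext h)
  obtain ⟨p, rfl⟩ : ∃ p, ι p = t := ⟨g.symm ⟨t, htS⟩, by simp [hι]⟩
  have hp : p ∈ Subgroup.center (CfsgLib.Recog.G2Sylow.W (2 ^ a)) := Subgroup.mem_center_iff.2 fun q =>
    hinj (by
      rw [map_mul, map_mul]
      exact htZ _ (by rw [← hr]; exact ⟨q, rfl⟩))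
  rcases CfsgLib.Recog.G2Sylow.W.center_cases ha hp with rfl | rfl
  · simp at ht
  obtain ⟨SQ, ιQ, D⟩ := CfsgLib.Recog.G2Sylow.centCtx (S := S) ι ha hinj hr h1
  exact D.layers

end Cfsg.Agent.S1744
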