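import Cfsg.Statements.S1753

set_option autoImplicit false
universe u
open Cfsg

namespace Cfsg.Agent.S1753

/-- Let K be any property of groups. (1) If G is a minimal counterexample relative to K — a finite non-abelian simple group not satisfying K such that every finite non-abelian simple group of smaller order satisfies K — then every proper subgroup of G is a K-group (all its non-abelian simple sections satisfy K), since such sections have smaller order than G. (2) Consequently (induction on the order), if every finite non-abelian simple group all of whose proper subgroups are K-groups satisfies K, then every finite non-abelian simple group satisfies K. -/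
theorem result (K : ∀ (X : Type u) [Group X], Prop) :
    (∀ (G : Type u) [Group G], Cfsg.IsMinCounterexampleWith K G → Cfsg.IsKProperWith K G) ∧
      ((∀ (X : Type u) [Group X] [Finite X], IsSimpleGroup X → ¬ IsMulCommutative X → Cfsg.IsKProperWith K X → K X) →
        ∀ (G : Type u) [Group G] [Finite G], IsSimpleGroup G → ¬ IsMulCommutative G → K G) := by
  have key : ∀ (G : Type u) [Group G] [Finite G],
      (∀ (X : Type u) [Group X] [Finite X], IsSimpleGroup X → ¬ IsMulCommutative X → Nat.card X < Nat.card G → K X) →
      Cfsg.IsKProperWith K G := by
    intro G _ _ hmin H hH H' N _ hs hc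
    refine hmin _ hs hc ?_
    calc Nat.card (↥H' ⧸ N) ≤ Nat.card ↥H' := Nat.le_of_dvd Nat.card_pos (Subgroup.card_quotient_dvd_card N)
      _ ≤ Nat.card ↥H := Subgroup.card_le_card_group H'
      _ < Nat.card G := lt_of_le_of_ne (Subgroup.card_le_card_group H) (fun h => hH (Subgroup.eq_top_of_card_eq H h))
  refine ⟨?_, ?_⟩
  · intro G _ hG
    haveI : Finite G := hG.1
    exact key G hG.2.2.2.2
  · intro hstep
    suffices Hn : ∀ n : ℕ, ∀ (G : Type u) [Group G] [Finite G], Nat.card G < n → IsSimpleGroup G → ¬ IsMulCommutative G → K G from
      fun G _ _ hs hc => Hn (Nat.card G + 1) G (Nat.lt_succ_self _) hs hc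
    intro n
    induction n with
    | zero => intro G _ _ h; omega
    | succ n ih =>
      intro G _ _ hlt hs hc
      exact hstep G hs hc (key G (fun X _ _ hXs hXc hX => ih X (by omega) hXs hXc))

end Cfsg.Agent.S1753
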