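import Cfsg.Statements.S1754
import Cfsg.Agent.Lib.Components.Quasisimple

set_option autoImplicit false
open Cfsg

namespace Cfsg.Agent.S1754

/-- Let A be a standard subgroup of the finite group G (A quasisimple, C_G(A) tightly embedded of even order, A commuting elementwise with no other conjugate of itself, and N_G(A) = N_G(C_G(A))), and let t be an involution of G centralizing A. Then the centralizer of t lies in the normalizer of A; in particular A, viewed inside C_G(t), is a component of C_G(t). -/
theorem result {G : Type*} [Group G] [Finite G]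
    (A : Subgroup G) (hA : Cfsg.IsStandardSubgroup A) (t : G) (ht : orderOf t = 2) (htA : t ∈ Subgroup.centralizer (A : Set G)) :
    Subgroup.centralizer ({t} : Set G) ≤ Subgroup.normalizer (A : Set G) ∧
      Cfsg.IsComponent (A.subgroupOf (Subgroup.centralizer ({t} : Set G))) := by
  obtain ⟨hAq, ⟨-, htight⟩, -, hNN⟩ := hA
  have hsub : Subgroup.centralizer ({t} : Set G) ≤ Subgroup.normalizer (A : Set G) := by
    intro g hg
    rw [hNN]
    by_contra hgK
    set K := Subgroup.centralizer (A : Set G)
    have hodd := htight g hgK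
    have hmem : t ∈ K ⊓ K.map (MulAut.conj g).toMonoidHom := by
      refine Subgroup.mem_inf.mpr ⟨htA, ⟨t, htA, ?_⟩⟩
      show g * t * g⁻¹ = t
      rw [← Subgroup.mem_centralizer_iff.mp hg t rfl, mul_inv_cancel_right]
    have h2 : 2 ∣ Nat.card ↥(K ⊓ K.map (MulAut.conj g).toMonoidHom) :=
      ht ▸ Subgroup.orderOf_dvd_natCard _ hmem
    exact (Nat.not_even_iff_odd.mpr hodd) (even_iff_two_dvd.mpr h2)
  have hAt : A ≤ Subgroup.centralizer ({t} : Set G) := by
    intro a ha
    rw [Subgroup.mem_centralizer_iff]
    intro y hy
    rw [Set.mem_singleton_iff] at hy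
    subst hy
    exact (Subgroup.mem_centralizer_iff.mp htA a ha).symm
  refine ⟨hsub, ?_, (CfsgLib.Components.isQuasisimple_congr (Subgroup.subgroupOfEquivOfLe hAt)).mpr hAq⟩
  exact (Subgroup.normal_subgroupOf_of_le_normalizer hsub).isSubnormal

end Cfsg.Agent.S1754
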