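import Cfsg.Statements.S1755
import Cfsg.Agent.Lib.Components.FStar
import Cfsg.Agent.Lib.Components.Radicals
import Cfsg.Agent.Lib.Techniques.Cyclic
import Cfsg.Agent.Lib.PGroups.Basic

set_option autoImplicit false
open Cfsg

namespace Cfsg.Agent.S1755

/-- Let G be a finite group and let z be an involution of G such that Q, the generalized Fitting subgroup of the centralizer C of z, is a 2-group of symplectic type (every characteristic abelian subgroup of Q is cyclic). Let B be a characteristic abelian subgroup of Q, viewed as a subgroup of G. Then for every g in G, the conjugate of B by g either equals B or meets B trivially. -/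
theorem result {G : Type*} [Group G] [Finite G] (z : G) (hz : orderOf z = 2) (hQ : Cfsg.IsOfSymplecticType ↥(Cfsg.generalizedFittingSubgroup ↥(Subgroup.centralizer ({z} : Set G))))
    (B : Subgroup ↥(Cfsg.generalizedFittingSubgroup ↥(Subgroup.centralizer ({z} : Set G)))) (hBc : B.Characteristic) (hBa : IsMulCommutative ↥B) (g : G) :
    ((B.map (Cfsg.generalizedFittingSubgroup ↥(Subgroup.centralizer ({z} : Set G))).subtype).map (Subgroup.centralizer ({z} : Set G)).subtype).map (MulAut.conj g).toMonoidHom =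
        (B.map (Cfsg.generalizedFittingSubgroup ↥(Subgroup.centralizer ({z} : Set G))).subtype).map (Subgroup.centralizer ({z} : Set G)).subtype ∨
      ((B.map (Cfsg.generalizedFittingSubgroup ↥(Subgroup.centralizer ({z} : Set G))).subtype).map (Subgroup.centralizer ({z} : Set G)).subtype).map (MulAut.conj g).toMonoidHom ⊓
        (B.map (Cfsg.generalizedFittingSubgroup ↥(Subgroup.centralizer ({z} : Set G))).subtype).map (Subgroup.centralizer ({z} : Set G)).subtype = ⊥ := by
  revert B hQ
  obtain ⟨C, hC⟩ : ∃ C, C = Subgroup.centralizer ({z} : Set G) := ⟨_, rfl⟩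
  rw [← hC]
  intro hQ
  obtain ⟨Q, hQdef⟩ : ∃ Q, Q = Cfsg.generalizedFittingSubgroup ↥C := ⟨_, rfl⟩
  rw [← hQdef] at hQ ⊢
  intro B hBc hBa
  set B' := (B.map Q.subtype).map C.subtype with hB'
  obtain ⟨hQp, hcyc⟩ := hQ
  haveI hQc : Q.Characteristic := hQdef ▸ CfsgLib.Components.gFitting_characteristic
  haveI : IsCyclic B := hcyc B hBc hBa
  haveI hBCc : (B.map Q.subtype).Characteristic := by
    haveI := hBc
    infer_instance
  by_cases hB : B = ⊥
  · left; simp [hB', hB]
  by_cases hne : B'.map (MulAut.conj g).toMonoidHom ⊓ B' = ⊥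
  · exact Or.inr hne
  left
  -- `z` lies in `Q`
  have hzC : z ∈ C := hC.symm ▸ Subgroup.mem_centralizer_iff.mpr fun y hy => by
    rw [Set.mem_singleton_iff] at hy; subst hy; rfl
  set z' : C := ⟨z, hzC⟩
  have hz'c : z' ∈ Subgroup.center C := Subgroup.mem_center_iff.mpr fun c =>
    Subtype.ext (Subgroup.mem_centralizer_iff.mp (hC.le c.2) z rfl).symm
  have hz'o : orderOf z' = 2 := by rw [Subgroup.orderOf_mk, hz]
  have hzQ : z' ∈ Q := by
    haveI : (Subgroup.zpowers z').Normal := ⟨fun x hx c => by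
      obtain ⟨k, rfl⟩ := Subgroup.mem_zpowers_iff.mp hx
      rw [Subgroup.mem_center_iff.mp ((Subgroup.center C).zpow_mem hz'c k) c, mul_inv_cancel_right]
      exact Subgroup.mem_zpowers_iff.mpr ⟨k, rfl⟩⟩
    have hp2 : IsPGroup 2 (Subgroup.zpowers z') :=
      IsPGroup.of_card (n := 1) (by rw [Nat.card_zpowers, hz'o, pow_one])
    have : Subgroup.zpowers z' ≤ Q := hQdef.symm ▸ le_trans
      (CfsgLib.Components.le_fitting inferInstance hp2.isNilpotent) le_sup_right
    exact this (Subgroup.mem_zpowers z')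
  have hzZ : (⟨z', hzQ⟩ : Q) ∈ Subgroup.center Q :=
    Subgroup.mem_center_iff.mpr fun q => Subtype.ext (Subgroup.mem_center_iff.mp hz'c q)
  -- `z` lies in `B`
  have hzB : (⟨z', hzQ⟩ : Q) ∈ B := by
    haveI := hBc
    have h1 := CfsgLib.PGroups.inf_center_ne_bot hQp hB
    have hp' : IsPGroup 2 (B ⊓ Subgroup.center Q : Subgroup Q) := hQp.to_subgroup _
    obtain ⟨w, hw⟩ := exists_prime_orderOf_dvd_card' 2
      ((hp'.card_eq_or_dvd).resolve_left fun h => h1 (Subgroup.card_eq_one.mp h))
    haveI : IsCyclic (Subgroup.center Q) := hcyc _ inferInstance inferInstance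
    have := CfsgLib.Techniques.involution_unique (G := Subgroup.center Q)
      (x := ⟨_, w.2.2⟩) (y := ⟨_, hzZ⟩)
      (by rw [Subgroup.orderOf_mk, Subgroup.orderOf_coe, hw])
      (by rw [Subgroup.orderOf_mk, Subgroup.orderOf_mk, hz'o])
    have e : ((w : (B ⊓ Subgroup.center Q : Subgroup Q)) : Q) = ⟨z', hzQ⟩ := congrArg Subtype.val this
    rw [← e]
    exact w.2.1
  -- `g` centralizes `z`
  have hp : IsPGroup 2 B' := ((hQp.to_subgroup B).map _).map _
  have hp2 : IsPGroup 2 (B'.map (MulAut.conj g).toMonoidHom ⊓ B' : Subgroup G) :=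
    hp.to_le inf_le_right
  obtain ⟨w, hw⟩ := exists_prime_orderOf_dvd_card' 2
    ((hp2.card_eq_or_dvd).resolve_left fun h => hne (Subgroup.card_eq_one.mp h))
  have hwo : orderOf (w : G) = 2 := by rw [Subgroup.orderOf_coe, hw]
  haveI : IsCyclic B' := by
    haveI : IsCyclic (B.map Q.subtype) :=
      isCyclic_of_surjective _ (Subgroup.equivMapOfInjective B _ Q.subtype_injective).surjective
    exact isCyclic_of_surjective _
      (Subgroup.equivMapOfInjective (B.map Q.subtype) _ C.subtype_injective).surjective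
  have hzB' : z ∈ B' := ⟨z', ⟨_, hzB, rfl⟩, rfl⟩
  have uniq : ∀ x ∈ B', orderOf x = 2 → x = z := fun x hx hxo => congrArg Subtype.val
    (CfsgLib.Techniques.involution_unique (G := B') (x := ⟨x, hx⟩) (y := ⟨z, hzB'⟩)
      (by rw [Subgroup.orderOf_mk, hxo]) (by rw [Subgroup.orderOf_mk, hz]))
  have hwz : (w : G) = z := uniq _ w.2.2 hwo
  obtain ⟨b, hb, hbw⟩ := w.2.1
  have hbz : b = z := uniq b hb (by
    rw [← orderOf_injective (MulAut.conj g).toMonoidHom (MulAut.conj g).injective b, hbw, hwo])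
  subst hbz
  rw [hwz] at hbw
  have hgC : g ∈ C := hC.symm ▸ Subgroup.mem_centralizer_iff.mpr fun y hy => by
    rw [Set.mem_singleton_iff] at hy; subst hy
    have hbw' : g * y * g⁻¹ = y := hbw
    calc y * g = g * y * g⁻¹ * g := by rw [hbw']
      _ = g * y := by group
  -- `B` is normal in `C`
  refine Subgroup.eq_of_le_of_card_ge ?_ (by
    rw [Subgroup.card_map_of_injective (f := (MulAut.conj g).toMonoidHom) (MulAut.conj g).injective])
  rintro _ ⟨_, ⟨c, hc, rfl⟩, rfl⟩
  exact ⟨⟨g, hgC⟩ * c * ⟨g, hgC⟩⁻¹, Subgroup.Normal.conj_mem inferInstance c hc _, rfl⟩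

end Cfsg.Agent.S1755
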