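import Cfsg.Statements.S1756
import Cfsg.Agent.Lib.PGroups.Extraspecial

set_option autoImplicit false
open Cfsg

open scoped commutatorElement

namespace Cfsg.Agent.S1756

/-- Let Q be an extraspecial 2-subgroup of the finite group G (special with centre of order 2) and t an involution of G normalizing Q such that the centralizer of t in Q has index at most 2 in Q. Then t lies in the product of Q with the centralizer of Q. -/
theorem result {G : Type*} [Group G] [Finite G] (Q : Subgroup G)
    (hQ : Cfsg.IsExtraspecial 2 ↥Q) (t : G) (ht : orderOf t = 2) (htN : t ∈ Subgroup.normalizer (Q : Set G))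
    (hi : (Subgroup.centralizer ({t} : Set G) ⊓ Q).relIndex Q ≤ 2) :
    t ∈ Q ⊔ Subgroup.centralizer (Q : Set G) := by
  set Z := Subgroup.center ↥Q with hZdef
  have htQ : ∀ y ∈ Q, t * y * t⁻¹ ∈ Q := fun y hy => (Subgroup.mem_normalizer_iff.mp htN y).mp hy
  -- action of `t` on `Q`
  let θ : Q → Q := fun y => ⟨t * y * t⁻¹, htQ y y.2⟩
  set Cq : Subgroup Q := (Subgroup.centralizer ({t} : Set G) ⊓ Q).subgroupOf Q with hCq
  have memC : ∀ y : Q, y ∈ Cq ↔ t * (y : G) * t⁻¹ = y := by
    intro y
    rw [hCq, Subgroup.mem_subgroupOf, Subgroup.mem_inf]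
    constructor
    · rintro ⟨h, -⟩
      rw [Subgroup.mem_centralizer_iff.mp h t rfl, mul_inv_cancel_right]
    · intro h
      refine ⟨Subgroup.mem_centralizer_iff.mpr fun s hs => ?_, y.2⟩
      rw [Set.mem_singleton_iff] at hs; subst hs
      calc s * (y : G) = s * y * s⁻¹ * s := by group
        _ = y * s := by rw [h]
  have hidx : Cq.index ≤ 2 := hi
  have hne0 : Cq.index ≠ 0 := Subgroup.index_ne_zero_of_finite
  rcases (by omega : Cq.index = 1 ∨ Cq.index = 2) with h1 | h2
  · refine Subgroup.mem_sup_right (Subgroup.mem_centralizer_iff.mpr fun y hy => ?_)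
    have : (⟨y, hy⟩ : Q) ∈ Cq := by rw [Subgroup.index_eq_one.mp h1]; trivial
    have e := (memC _).mp this
    calc y * t = t * y * t⁻¹ * t := by rw [e]
      _ = t * y := by group
  have hZC : Z ≤ Cq := by
    intro y hy
    rw [memC]
    by_contra hne
    have hy' : θ y ∈ Z := Subgroup.mem_center_iff.mpr fun w => by
      have hw : t⁻¹ * (w : G) * t ∈ Q :=
        (Subgroup.mem_normalizer_iff''.mp htN (w : G)).mp w.2
      have := congrArg Subtype.val (Subgroup.mem_center_iff.mp hy ⟨_, hw⟩)
      push_cast at this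
      refine Subtype.ext ?_
      show (w : G) * (t * y * t⁻¹) = t * y * t⁻¹ * w
      calc (w : G) * (t * y * t⁻¹) = t * (t⁻¹ * w * t * y) * t⁻¹ := by group
        _ = t * (y * (t⁻¹ * w * t)) * t⁻¹ := by rw [this]
        _ = t * y * t⁻¹ * w := by group
    have hy1 : y ≠ 1 := fun h => hne (by simp [h])
    have hty1 : θ y ≠ 1 := fun h => hy1 (Subtype.ext (by
      have : t * (y : G) * t⁻¹ = 1 := congrArg Subtype.val h
      simpa using this))
    obtain ⟨w, hw⟩ := ((Nat.card_eq_two_iff' (1 : Z)).mp hQ.2).exists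
    have huniq : ∀ a : Z, a ≠ 1 → a = w := fun a ha =>
      ((Nat.card_eq_two_iff' (1 : Z)).mp hQ.2).unique ha hw
    have e1 := huniq ⟨y, hy⟩ (fun h => hy1 (congrArg Subtype.val h))
    have e2 := huniq ⟨θ y, hy'⟩ (fun h => hty1 (congrArg Subtype.val h))
    exact hne (congrArg (fun a : Z => ((a : Q) : G)) (e2.trans e1.symm))
  -- the element `a`
  have hcard := CfsgLib.PGroups.IsExtraspecial.card_centralizer_mul_card hQ hZC
  rw [← Cq.card_mul_index, h2] at hcard
  have hcard4 : Nat.card (Subgroup.centralizer (Cq : Set Q)) = 4 := by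
    have hp : 0 < Nat.card Cq := Nat.card_pos
    nlinarith
  obtain ⟨a, haC, haZ⟩ : ∃ a ∈ Subgroup.centralizer (Cq : Set Q), a ∉ Z := by
    by_contra hcon
    push Not at hcon
    have := Subgroup.card_le_of_le (show Subgroup.centralizer (Cq : Set Q) ≤ Z from hcon)
    rw [hcard4, hQ.2] at this
    omega
  have haCq : Cq = Subgroup.centralizer ({a} : Set Q) := by
    refine Subgroup.eq_of_le_of_card_ge ?_ ?_
    · intro c hc
      rw [Subgroup.mem_centralizer_singleton_iff]
      exact Subgroup.mem_centralizer_iff.mp haC c hc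
    · have e1 := Cq.card_mul_index
      have e2 := (Subgroup.centralizer ({a} : Set Q)).card_mul_index
      rw [CfsgLib.PGroups.IsExtraspecial.index_centralizer_singleton hQ haZ] at e2
      rw [h2] at e1
      omega
  have haCq' : a ∈ Cq := by rw [haCq, Subgroup.mem_centralizer_singleton_iff]
  obtain ⟨q, hq⟩ : ∃ q : Q, q ∉ Cq := by
    by_contra hcon
    push Not at hcon
    rw [(Subgroup.eq_top_iff' Cq).mpr hcon, Subgroup.index_top] at h2
    omega
  have hall : ∀ y : Q, y ∈ Cq ∨ q⁻¹ * y ∈ Cq := fun y => by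
    by_cases hy : y ∈ Cq
    · exact Or.inl hy
    · exact Or.inr ((Subgroup.mul_mem_iff_of_index_two h2).mpr (by simp [hq, hy]))
  haveI hCqn : Cq.Normal := Subgroup.normal_of_index_eq_two h2
  set d : Q := q⁻¹ * θ q with hd
  have hθq : (θ q : G) = (q : G) * (d : G) := by rw [hd]; push_cast; group
  have hdC : d ∈ Subgroup.centralizer (Cq : Set Q) := by
    rw [Subgroup.mem_centralizer_iff]
    intro c hc
    have hc' : (t : G) * c * t⁻¹ = c := (memC c).mp hc
    have hqc : t * ((q : G) * c * (q : G)⁻¹) * t⁻¹ = (q : G) * c * (q : G)⁻¹ := by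
      have := (memC (q * c * q⁻¹)).mp (hCqn.conj_mem c hc q)
      push_cast at this
      exact this
    have hkey : (q : G) * d * c * (d : G)⁻¹ * (q : G)⁻¹ = (q : G) * c * (q : G)⁻¹ := by
      calc (q : G) * d * c * (d : G)⁻¹ * (q : G)⁻¹
          = (θ q : G) * c * (θ q : G)⁻¹ := by rw [hθq]; group
        _ = t * q * (t⁻¹ * c * t) * (q : G)⁻¹ * t⁻¹ := by
            show t * (q : G) * t⁻¹ * c * (t * (q : G) * t⁻¹)⁻¹ = _
            group
        _ = t * q * (t⁻¹ * (t * c * t⁻¹) * t) * (q : G)⁻¹ * t⁻¹ := by rw [hc']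
        _ = t * ((q : G) * c * (q : G)⁻¹) * t⁻¹ := by group
        _ = _ := hqc
    refine Subtype.ext ?_
    have h3 : (d : G) * c * (d : G)⁻¹ = c := by
      have := congrArg (fun w => (q : G)⁻¹ * w * (q : G)) hkey
      simpa [mul_assoc] using this
    show (c : G) * d = d * c
    calc (c : G) * d = d * c * (d : G)⁻¹ * d := by rw [h3]
      _ = d * c := by group
  have hdCq : d ∈ Cq := by
    rw [haCq, Subgroup.mem_centralizer_singleton_iff]
    exact (Subgroup.mem_centralizer_iff.mp hdC a haCq').symm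
  have ht2 : t * t = 1 := by rw [← sq, ← ht, pow_orderOf_eq_one]
  have hdd : (d : G) * d = 1 := by
    have hd' : t * (d : G) * t⁻¹ = d := (memC d).mp hdCq
    have hinv : t⁻¹ = t := inv_eq_of_mul_eq_one_right ht2
    have : (q : G) = q * d * d := by
      calc (q : G) = (t * t) * q * (t * t)⁻¹ := by rw [ht2]; group
        _ = t * (θ q : G) * t⁻¹ := by show _ = t * (t * q * t⁻¹) * t⁻¹; group
        _ = (t * q * t⁻¹) * (t * d * t⁻¹) := by rw [hθq]; group
        _ = q * d * d := by rw [hd']; show (θ q : G) * d = _; rw [hθq]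
    rw [mul_assoc] at this
    exact (mul_eq_left.mp this.symm)
  have hqq : (q * q : Q) ∈ Cq := (Subgroup.mul_mem_iff_of_index_two h2).mpr Iff.rfl
  have hdq : (d : G) * q = q * d := by
    have h3 : t * ((q : G) * q) * t⁻¹ = q * q := by
      have := (memC _).mp hqq
      push_cast at this
      exact this
    have h4 : (q : G) * d * (q * d) = q * q := by
      rw [← hθq, ← h3]; show t * (q : G) * t⁻¹ * (t * q * t⁻¹) = _; group
    calc (d : G) * q = (q : G)⁻¹ * (q * d * (q * d)) * (d : G)⁻¹ := by group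
      _ = (q : G)⁻¹ * (q * q) * (d : G) := by
          rw [h4, inv_eq_of_mul_eq_one_right hdd]
      _ = q * d := by group
  have hdZ : d ∈ Z := by
    rw [hZdef, Subgroup.mem_center_iff]
    intro y
    have hq' : q * d = d * q := Subtype.ext hdq.symm
    rcases hall y with hy | hy
    · exact Subgroup.mem_centralizer_iff.mp hdC y hy
    · have := Subgroup.mem_centralizer_iff.mp hdC _ hy
      calc y * d = q * (q⁻¹ * y * d) := by group
        _ = q * (d * (q⁻¹ * y)) := by rw [this]
        _ = (q * d) * q⁻¹ * y := by group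
        _ = d * y := by rw [hq']; group
  have hd1 : d ≠ 1 := fun h => hq ((memC q).mpr (by
    have := hθq
    rw [h] at this
    exact this.trans (by simp)))
  set e : Q := q⁻¹ * (a * q * a⁻¹) with he
  have hnc : a * q ≠ q * a := fun h => haZ (by
    rw [hZdef, Subgroup.mem_center_iff]
    intro y
    have key : ∀ c ∈ Cq, c * a = a * c := fun c hc => Subgroup.mem_centralizer_iff.mp haC c hc
    rcases hall y with hy | hy
    · exact key y hy
    · calc y * a = q * (q⁻¹ * y * a) := by group
        _ = q * (a * (q⁻¹ * y)) := by rw [key _ hy]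
        _ = (q * a) * q⁻¹ * y := by group
        _ = a * y := by rw [← h]; group)
  have heZ : e ∈ Z := by
    have := CfsgLib.PGroups.IsExtraspecial.comm_mem hQ q⁻¹ a
    have e' : ⁅q⁻¹, a⁆ = e := by rw [he, commutatorElement_def]; group
    rwa [e'] at this
  have he1 : e ≠ 1 := fun h => hnc (by
    have : a * q * a⁻¹ = q := by
      calc a * q * a⁻¹ = q * e := by rw [he]; group
        _ = q := by rw [h, mul_one]
    calc a * q = a * q * a⁻¹ * a := by group
      _ = q * a := by rw [this])
  have hde : d = e := congrArg Subtype.val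
    (((Nat.card_eq_two_iff' (1 : Z)).mp hQ.2).unique
      (y₁ := ⟨d, hdZ⟩) (y₂ := ⟨e, heZ⟩) (fun h => hd1 (congrArg Subtype.val h))
      (fun h => he1 (congrArg Subtype.val h)))
  have hconj : t * (q : G) * t⁻¹ = (a : G) * q * (a : G)⁻¹ := by
    show (θ q : G) = _
    rw [hθq, hde, he]; push_cast; group
  have hu : (a : G)⁻¹ * t ∈ Subgroup.centralizer (Q : Set G) := by
    rw [Subgroup.mem_centralizer_iff]
    intro y hy
    set u := (a : G)⁻¹ * t
    have hfixC : ∀ c : Q, c ∈ Cq → u * c * u⁻¹ = c := by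
      intro c hc
      have e1 : t * (c : G) * t⁻¹ = c := (memC c).mp hc
      have e2 : (c : G) * a = a * c :=
        congrArg Subtype.val (Subgroup.mem_centralizer_iff.mp haC c hc)
      calc u * c * u⁻¹ = (a : G)⁻¹ * (t * c * t⁻¹) * a := by simp only [u]; group
        _ = (a : G)⁻¹ * ((c : G) * a) := by rw [e1, mul_assoc]
        _ = c := by rw [e2]; group
    have hfixq : u * q * u⁻¹ = q := by
      calc u * q * u⁻¹ = (a : G)⁻¹ * (t * q * t⁻¹) * a := by simp only [u]; group
        _ = q := by rw [hconj]; group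
    have hy' : u * y * u⁻¹ = y := by
      rcases hall ⟨y, hy⟩ with h | h
      · exact hfixC _ h
      · have h' := hfixC _ h
        push_cast at h'
        calc u * y * u⁻¹ = (u * q * u⁻¹) * (u * ((q : G)⁻¹ * y) * u⁻¹) := by group
          _ = y := by rw [hfixq, h']; group
    calc y * u = u * y * u⁻¹ * u := by rw [hy']
      _ = u * y := by group
  have : t = (a : G) * ((a : G)⁻¹ * t) := by group
  rw [this]
  exact mul_mem (Subgroup.mem_sup_left a.2) (Subgroup.mem_sup_right hu)

end Cfsg.Agent.S1756
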