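import Cfsg.Statements.S1774
import Cfsg.Agent.Lib.Techniques.SymplecticExponentFour
import Cfsg.Agent.Lib.Techniques.SymplecticConjugate
import Cfsg.Agent.Lib.Components.FStar
import Cfsg.Agent.Lib.Transfer.PResidual
import Cfsg.Agent.Lib.Core.Cores

set_option autoImplicit false
open Cfsg

namespace Cfsg.Agent.S1774

/-- Let G be a finite group and let z be an involution of G such that Q, the generalized Fitting subgroup of the centralizer C of z, is a 2-group of symplectic type (every characteristic abelian subgroup of Q is cyclic); suppose every element of Q has order dividing 4. Let g ∈ G with z' = g z g⁻¹ ≠ z and z' ∈ Q. Then z lies in the conjugate g Q g⁻¹, and the subgroup X generated by Q and g Q g⁻¹ induces every automorphism of the four-group generated by z and z': for any two distinct non-identity elements u, v of that four-group there is x ∈ X with x z x⁻¹ = u and x z' x⁻¹ = v. -/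
theorem result {G : Type*} [Group G] [Finite G] (z : G) (hz : orderOf z = 2) (hQ : Cfsg.IsOfSymplecticType ↥(Cfsg.generalizedFittingSubgroup ↥(Subgroup.centralizer ({z} : Set G))))
    (h4 : ∀ q ∈ (Cfsg.generalizedFittingSubgroup ↥(Subgroup.centralizer ({z} : Set G))).map (Subgroup.centralizer ({z} : Set G)).subtype, q ^ 4 = 1) (g : G) (hne : g * z * g⁻¹ ≠ z) (hin : g * z * g⁻¹ ∈ (Cfsg.generalizedFittingSubgroup ↥(Subgroup.centralizer ({z} : Set G))).map (Subgroup.centralizer ({z} : Set G)).subtype) :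
    z ∈ ((Cfsg.generalizedFittingSubgroup ↥(Subgroup.centralizer ({z} : Set G))).map (Subgroup.centralizer ({z} : Set G)).subtype).map (MulAut.conj g).toMonoidHom ∧
      ∀ u ∈ Subgroup.closure ({z, g * z * g⁻¹} : Set G), ∀ v ∈ Subgroup.closure ({z, g * z * g⁻¹} : Set G),
        u ≠ 1 → v ≠ 1 → u ≠ v →
          ∃ x ∈ (Cfsg.generalizedFittingSubgroup ↥(Subgroup.centralizer ({z} : Set G))).map (Subgroup.centralizer ({z} : Set G)).subtype ⊔ ((Cfsg.generalizedFittingSubgroup ↥(Subgroup.centralizer ({z} : Set G))).map (Subgroup.centralizer ({z} : Set G)).subtype).map (MulAut.conj g).toMonoidHom, x * z * x⁻¹ = u ∧ x * (g * z * g⁻¹) * x⁻¹ = v := by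
  classical
  haveI : Fact (Nat.Prime 2) := ⟨Nat.prime_two⟩
  set C := Subgroup.centralizer ({z} : Set G) with hCdef
  set Qi := Cfsg.generalizedFittingSubgroup ↥C with hQidef
  set Q := Qi.map C.subtype with hQdef
  have hQn : Qi.Normal := CfsgLib.Components.gFitting_normal
  have hzz : z * z = 1 := by rw [← sq, ← hz, pow_orderOf_eq_one]
  have hz1 : z ≠ 1 := fun h => by rw [h, orderOf_one] at hz; omega
  let zC : C := ⟨z, Subgroup.mem_centralizer_singleton_iff.2 rfl⟩
  have hzC : ∀ c : C, c * zC = zC * c := fun c => Subtype.ext (Subgroup.mem_centralizer_singleton_iff.1 c.2)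
  have hzQi : zC ∈ Qi := CfsgLib.Components.centralizer_gFitting_le (Subgroup.mem_centralizer_iff.2 fun q _ => hzC q)
  let zQ : Qi := ⟨zC, hzQi⟩
  have hzQc : zQ ∈ Subgroup.center Qi := Subgroup.mem_center_iff.2 fun q => Subtype.ext (hzC q)
  have h4' : ∀ q : Qi, q ^ 4 = 1 := fun q => Subtype.ext (Subtype.ext (by
    simpa using h4 ((q : C) : G) ⟨q, q.2, rfl⟩))
  obtain ⟨hcomm, hsq⟩ := CfsgLib.Techniques.symplectic_exponent_four hQ h4' hzQc
    (Subtype.ext (Subtype.ext hzz)) (fun h => hz1 (congrArg (fun w : Qi => ((w : C) : G)) h))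
  have hmemC : ∀ c : G, c * z = z * c → c ∈ C := fun c hc => Subgroup.mem_centralizer_singleton_iff.2 hc
  have H : CfsgLib.Techniques.LargeSymplectic z Q := by
    refine ⟨hzz, hz1, ⟨zC, hzQi, rfl⟩, ?_, ?_, ?_, ?_, ?_, ?_, ?_⟩
    · rintro _ ⟨q, -, rfl⟩
      exact Subgroup.mem_centralizer_singleton_iff.1 q.2
    · rintro c hc _ ⟨q, hq, rfl⟩
      exact ⟨⟨c, hmemC c hc⟩ * q * ⟨c, hmemC c hc⟩⁻¹, hQn.conj_mem q hq _, rfl⟩
    · intro c hc hcomm'
      refine ⟨⟨c, hmemC c hc⟩, CfsgLib.Components.centralizer_gFitting_le (Subgroup.mem_centralizer_iff.2 fun q hq => ?_), rfl⟩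
      exact Subtype.ext (hcomm' _ ⟨q, hq, rfl⟩).symm
    · rintro _ ⟨a, ha, rfl⟩ _ ⟨b, hb, rfl⟩
      rcases hcomm ⟨a, ha⟩ ⟨b, hb⟩ with h | h
      · have h' := congrArg (fun w : Qi => ((w : C) : G)) h
        simp only [commutatorElement_def] at h'
        refine Or.inl ?_
        exact mul_inv_eq_one.1 h'
      · have h' : ((a : G)) * b * (a : G)⁻¹ * (b : G)⁻¹ = z := congrArg (fun w : Qi => ((w : C) : G)) h
        refine Or.inr ?_
        show (a : G) * b * (a : G)⁻¹ = (b : G) * z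
        rw [mul_inv_eq_iff_eq_mul.1 h', Subgroup.mem_centralizer_singleton_iff.1 b.2]
    · rintro _ ⟨a, ha, rfl⟩
      exact (hsq ⟨a, ha⟩).imp (fun h => congrArg (fun w : Qi => ((w : C) : G)) h)
        (fun h => congrArg (fun w : Qi => ((w : C) : G)) h)
    · rintro _ ⟨a, ha, rfl⟩ haa hcen
      by_cases h1 : (a : G) = 1
      · exact Or.inl h1
      obtain ⟨⟨w, hw⟩, hgen⟩ := (hQ.2 (Subgroup.center Qi) inferInstance inferInstance).exists_generator
      have hin : ∀ x ∈ Subgroup.center Qi, x ∈ Subgroup.zpowers w := fun x hx => by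
        obtain ⟨i, hi⟩ := Subgroup.mem_zpowers_iff.1 (hgen ⟨x, hx⟩)
        exact Subgroup.mem_zpowers_iff.2 ⟨i, congrArg Subtype.val hi⟩
      have hac : (⟨a, ha⟩ : Qi) ∈ Subgroup.center Qi := Subgroup.mem_center_iff.2 fun q =>
        Subtype.ext (Subtype.ext (hcen _ ⟨q, q.2, rfl⟩))
      refine Or.inr (congrArg (fun w : Qi => ((w : C) : G)) (CfsgLib.Signalizer.unique_involution_in_zpowers
        (hin _ hac) (hin _ hzQc) ?_ ?_ : (⟨a, ha⟩ : Qi) = zQ))
      · exact orderOf_eq_prime (Subtype.ext (Subtype.ext (by simpa [sq] using haa)))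
          fun h => h1 (congrArg (fun w : Qi => ((w : C) : G)) h)
      · exact orderOf_eq_prime (Subtype.ext (Subtype.ext (by simpa [sq] using hzz)))
          fun h => hz1 (congrArg (fun w : Qi => ((w : C) : G)) h)
    · intro hodd c hc
      have hp : IsPGroup 2 C := by
        intro x
        obtain ⟨k, hk⟩ := CfsgLib.Transfer.exists_pow_prime_pow_coprime (p := 2) x
        refine ⟨k, Subtype.ext (hodd _ (Subgroup.mem_centralizer_singleton_iff.1 (x ^ 2 ^ k).2) ?_)⟩
        rw [Subgroup.orderOf_coe]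
        exact Nat.coprime_two_right.1 hk
      haveI := hp.isNilpotent
      refine ⟨⟨c, hmemC c hc⟩, CfsgLib.Components.fitting_le_gFitting ?_, rfl⟩
      rw [CfsgLib.Core.fittingSubgroup_eq_top]
      trivial
  set t := g * z * g⁻¹ with ht
  have H' : CfsgLib.Techniques.LargeSymplectic t (Q.map (MulAut.conj g).toMonoidHom) := H.conj g
  have hzQ' : z ∈ Q.map (MulAut.conj g).toMonoidHom := by
    refine H.mem_of_conj_mem H' hin hne rfl fun h hh => ?_
    have hc : g⁻¹ * h * z = z * (g⁻¹ * h) := by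
      calc g⁻¹ * h * z = g⁻¹ * (h * z * h⁻¹) * h := by group
        _ = g⁻¹ * (g * z * g⁻¹) * h := by rw [hh]
        _ = _ := by group
    ext x
    constructor
    · rintro ⟨q, hq, rfl⟩
      exact ⟨g⁻¹ * h * q * (g⁻¹ * h)⁻¹, H.normal _ hc q hq, by show g * _ * g⁻¹ = h * q * h⁻¹; group⟩
    · rintro ⟨q, hq, rfl⟩
      have hc' : (g⁻¹ * h)⁻¹ * z = z * (g⁻¹ * h)⁻¹ := ((show Commute (g⁻¹ * h) z from hc).inv_left).eq
      exact ⟨(g⁻¹ * h)⁻¹ * q * (g⁻¹ * h)⁻¹⁻¹, H.normal _ hc' q hq, by show h * _ * h⁻¹ = g * q * g⁻¹; group⟩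
  refine ⟨hzQ', ?_⟩
  have htt := H'.sq_z
  have hct : t * z = z * t := H.le t hin
  obtain ⟨s, hs, hst⟩ := H.exists_move hin htt H'.ne_one hne
  obtain ⟨r, hr, hrz⟩ := H'.exists_move hzQ' hzz hz1 (Ne.symm hne)
  have hsz : s * z * s⁻¹ = z := by rw [H.le s hs, mul_inv_cancel_right]
  have hrt : r * t * r⁻¹ = t := by rw [H'.le r hr, mul_inv_cancel_right]
  set X := Q ⊔ Q.map (MulAut.conj g).toMonoidHom with hX
  have hsX : s ∈ X := Subgroup.mem_sup_left hs
  have hrX : r ∈ X := Subgroup.mem_sup_right hr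
  have hst' : s * t * s⁻¹ = z * t := by rw [hst, hct]
  have hszt : s * (z * t) * s⁻¹ = t := by rw [← conj_mul, hsz, hst', ← mul_assoc, hzz, one_mul]
  have hrzt : r * (z * t) * r⁻¹ = z := by rw [← conj_mul, hrz, hrt, mul_assoc, htt, mul_one]
  have hfour : ∀ u ∈ Subgroup.closure ({z, t} : Set G), u = 1 ∨ u = z ∨ u = t ∨ u = z * t := by
    intro u hu
    induction hu using Subgroup.closure_induction with
    | mem x hx => rcases hx with rfl | rfl <;> simp
    | one => exact Or.inl rfl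
    | mul a b _ _ iha ihb =>
      have e1 : t * (z * t) = z := by rw [← mul_assoc, hct, mul_assoc, htt, mul_one]
      have e2 : z * (z * t) = t := by rw [← mul_assoc, hzz, one_mul]
      have e3 : z * t * z = t := by rw [mul_assoc, hct, e2]
      have e4 : z * t * t = z := by rw [mul_assoc, htt, mul_one]
      have e5 : z * t * (z * t) = 1 := by rw [← mul_assoc, e3, htt]
      rcases iha with rfl | rfl | rfl | rfl <;> rcases ihb with rfl | rfl | rfl | rfl <;>
        simp [hzz, htt, hct, e1, e2, e3, e4, e5]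
    | inv a _ iha =>
      rcases iha with rfl | rfl | rfl | rfl
      · simp
      · exact Or.inr (Or.inl (inv_eq_of_mul_eq_one_right hzz))
      · exact Or.inr (Or.inr (Or.inl (inv_eq_of_mul_eq_one_right htt)))
      · exact Or.inr (Or.inr (Or.inr (by
          rw [mul_inv_rev, inv_eq_of_mul_eq_one_right hzz, inv_eq_of_mul_eq_one_right htt, hct])))
  have hcomp : ∀ a b u : G, a * b * u * (a * b)⁻¹ = a * (b * u * b⁻¹) * a⁻¹ := fun a b u => by group
  intro u hu v hv hu1 hv1 huv
  rcases (hfour u hu).resolve_left hu1 with rfl | rfl | rfl <;>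
    rcases (hfour v hv).resolve_left hv1 with rfl | rfl | rfl
  · exact absurd rfl huv
  · exact ⟨1, one_mem _, by group, by group⟩
  · exact ⟨s, hsX, hsz, hst'⟩
  · refine ⟨s * r * s, mul_mem (mul_mem hsX hrX) hsX, ?_, ?_⟩
    · rw [hcomp, hsz, hcomp, hrz, ← hct, ← conj_mul, hst', hsz, mul_assoc, hct, ← mul_assoc, hzz, one_mul]
    · rw [hcomp, hst', hcomp, hrzt, hsz]
  · exact absurd rfl huv
  · refine ⟨s * r, mul_mem hsX hrX, ?_, ?_⟩
    · rw [hcomp, hrz, hszt]
    · rw [hcomp, hrt, hst']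
  · refine ⟨r * s, mul_mem hrX hsX, ?_, ?_⟩
    · rw [hcomp, hsz, hrz]
    · rw [hcomp, hst', hrzt]
  · exact ⟨r, hrX, hrz, hrt⟩
  · exact absurd rfl huv

end Cfsg.Agent.S1774
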