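import Cfsg.Statements.S1775
import Cfsg.Agent.Lib.Components.PComponentExtra
import Cfsg.Agent.Lib.Components.PLayer
import Cfsg.Agent.Lib.PLocal.PConstrained

set_option autoImplicit false
open Cfsg

namespace Cfsg.Agent.S1775

open CfsgLib.Components
open scoped Pointwise commutatorElement

/-- A component of even order centralizes every invariant subgroup of odd order. -/
theorem component_commutes_odd {X : Type*} [Group X] [Finite X] {p : ℕ} [Fact p.Prime]
    {K E : Subgroup X} (hK : Cfsg.IsComponent K) (hd : p ∣ Nat.card K)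
    (hE : (Nat.card E).Coprime p) (hn : K ≤ Subgroup.normalizer (E : Set X)) : ⁅K, E⁆ = ⊥ := by
  have hcom : ⁅K, E⁆ ≤ E := Subgroup.le_normalizer_iff_commutator_le_right.mp hn
  have hnorm : E ≤ Subgroup.normalizer (K : Set X) := by
    intro e he
    by_contra hne
    have hneq : MulAut.conj e • K ≠ K := fun h => hne (mem_normalizer_of_smul_eq_self h)
    have hcomm := components_commute hK (isComponent_conj hK e) (Ne.symm hneq)
    obtain ⟨S⟩ := (inferInstance : Nonempty (Sylow p K))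
    refine CfsgLib.Signalizer.not_dvd_of_sylow_central hK.2.1 S (fun s hs => ?_) hd
    obtain ⟨k, hk⟩ := S.2 ⟨s, hs⟩
    have hk' : (s : X) ^ p ^ k = 1 := by
      simpa using congrArg (fun t : (S : Subgroup K) => ((t : K) : X)) hk
    have hmem : ∀ a ∈ K, e * a * e⁻¹ ∈ MulAut.conj e • K := fun a ha =>
      Subgroup.smul_mem_pointwise_smul a (MulAut.conj e) K ha
    have hc : Commute (s : X) (e * (s : X)⁻¹ * e⁻¹) :=
      (Subgroup.mem_centralizer_iff.mp (Subgroup.commutator_eq_bot_iff_le_centralizer.mp hcomm s.2)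
        _ (hmem _ (inv_mem s.2))).symm
    have h2 : ⁅(s : X), e⁆ ^ p ^ k = 1 := by
      rw [show ⁅(s : X), e⁆ = (s : X) * (e * (s : X)⁻¹ * e⁻¹) by
        rw [commutatorElement_def]; group, hc.mul_pow, hk', conj_pow, inv_pow, hk']
      group
    have h3 : ⁅(s : X), e⁆ = 1 := orderOf_eq_one_iff.mp (Nat.eq_one_of_dvd_coprimes (hE.pow_right k)
      (E.orderOf_dvd_natCard (hcom (Subgroup.commutator_mem_commutator s.2 he)))
      (orderOf_dvd_of_pow_eq_one h2))
    refine Subgroup.mem_center_iff.mpr fun a => Subtype.ext ?_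
    have h4 : (s : X) * e = e * s := commutatorElement_eq_one_iff_mul_comm.mp h3
    have h5 : e * (s : X) * e⁻¹ = s := by rw [← h4, mul_inv_cancel_right]
    exact (Subgroup.mem_centralizer_iff.mp
      (Subgroup.commutator_eq_bot_iff_le_centralizer.mp hcomm a.2) _
      (h5 ▸ hmem (s : X) s.2)).symm
  haveI hN : (⁅K, E⁆.subgroupOf K).Normal :=
    Subgroup.normal_subgroupOf_of_le_normalizer (Subgroup.normalizer_commutator_ge_left _ _)
  have hK2 : ⁅K, E⁆ ≤ K := Subgroup.le_normalizer_iff_commutator_le_left.mp hnorm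
  have hne : ⁅K, E⁆.subgroupOf K ≠ ⊤ := fun e => by
    have h1 : K ≤ E := (Subgroup.subgroupOf_eq_top.mp e).trans hcom
    exact (Fact.out : p.Prime).coprime_iff_not_dvd.mp
      (hE.coprime_dvd_left (Subgroup.card_dvd_of_le h1)).symm hd
  have hcen := IsQuasisimple.le_center_of_ne_top hK.2 hN hne
  have h1 : ⁅⁅K, E⁆, K⁆ = ⊥ := by
    rw [Subgroup.commutator_eq_bot_iff_le_centralizer]
    refine fun x hx => Subgroup.mem_centralizer_iff.mpr fun y hy => ?_
    exact congrArg Subtype.val (Subgroup.mem_center_iff.mp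
      (hcen (show (⟨x, hK2 hx⟩ : K) ∈ ⁅K, E⁆.subgroupOf K from hx)) ⟨y, hy⟩)
  have h2 : ⁅⁅E, K⁆, K⁆ = ⊥ := by rwa [Subgroup.commutator_comm E K]
  have h3 := Subgroup.commutator_commutator_eq_bot_of_rotate h1 h2
  rwa [IsComponent.commutator_eq_self hK] at h3

/-- Under the `B`-property a `2`-component of a group mapping with odd kernel onto an involution
centralizer gives a component. -/
theorem component_of_image {H H' : Type*} [Group H] [Finite H] [Group H'] [Finite H']
    (f : H →* H') (hf : Function.Surjective f) (hker : (Nat.card f.ker).Coprime 2)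
    (hB : ⁅Cfsg.pLayer 2 H', Cfsg.pPrimeCore 2 H'⁆ = ⊥) {K : Subgroup H}
    (hK : Cfsg.IsPComponent 2 K) :
    Cfsg.IsComponent (K.map f) ∧ 2 ∣ Nat.card (K.map f) := by
  haveI : Fact (Nat.Prime 2) := ⟨Nat.prime_two⟩
  haveI := pPrimeCore_normal (G := H) 2
  haveI := pPrimeCore_normal (G := H') 2
  have hO : (Cfsg.pPrimeCore 2 H).map f = Cfsg.pPrimeCore 2 H' := by
    refine le_antisymm (le_pPrimeCore ((pPrimeCore_normal (G := H) 2).map f hf)
      ((pPrimeCore_coprime (G := H) 2).coprime_dvd_left (Subgroup.card_map_dvd _ _))) ?_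
    have h1 : (Cfsg.pPrimeCore 2 H').comap f ≤ Cfsg.pPrimeCore 2 H := by
      refine le_pPrimeCore (Subgroup.Normal.comap inferInstance f) ?_
      have h2 : Nat.card ((Cfsg.pPrimeCore 2 H').comap f) =
          Nat.card f.ker * Nat.card (Cfsg.pPrimeCore 2 H') := by
        have hle : f.ker ≤ (Cfsg.pPrimeCore 2 H').comap f := Subgroup.ker_le_comap _ _
        have a1 : f.ker.relIndex ((Cfsg.pPrimeCore 2 H').comap f) =
            (⊥ : Subgroup H').relIndex (Cfsg.pPrimeCore 2 H') := by
          rw [← MonoidHom.comap_bot, Subgroup.relIndex_comap,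
            Subgroup.map_comap_eq_self_of_surjective hf]
        rw [← Subgroup.relIndex_bot_left, ← Subgroup.relIndex_mul_relIndex _ _ _ bot_le hle, a1,
          Subgroup.relIndex_bot_left, Subgroup.relIndex_bot_left]
      rw [h2]
      exact Nat.Coprime.mul_left hker (pPrimeCore_coprime 2)
    refine le_trans ?_ (Subgroup.map_mono h1)
    rw [Subgroup.map_comap_eq_self_of_surjective hf]
  have hcore : Cfsg.pPrimeCore 2 H ≤ (Cfsg.pPrimeCore 2 H').comap f := by
    rw [← Subgroup.map_le_iff_le_comap, hO]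
  set q := CfsgLib.Signalizer.modCore 2 H'
  set φ := QuotientGroup.map (Cfsg.pPrimeCore 2 H) (Cfsg.pPrimeCore 2 H') f hcore
  have hφs : Function.Surjective φ := by
    intro z
    obtain ⟨w, rfl⟩ := QuotientGroup.mk_surjective z
    obtain ⟨v, rfl⟩ := hf w
    exact ⟨QuotientGroup.mk v, rfl⟩
  have hφi : Function.Injective φ := by
    rw [← MonoidHom.ker_eq_bot_iff, eq_bot_iff]
    intro z hz
    obtain ⟨v, rfl⟩ := QuotientGroup.mk_surjective z
    have h1 : f v ∈ Cfsg.pPrimeCore 2 H' := (QuotientGroup.eq_one_iff _).mp hz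
    rw [← hO] at h1
    obtain ⟨o, ho, hov⟩ := h1
    rw [Subgroup.mem_bot, QuotientGroup.eq_one_iff]
    have h2 : o⁻¹ * v ∈ f.ker := by simp [MonoidHom.mem_ker, hov]
    have h3 : f.ker ≤ Cfsg.pPrimeCore 2 H := le_pPrimeCore inferInstance hker
    rw [show v = o * (o⁻¹ * v) by group]
    exact mul_mem ho (h3 h2)
  have hmap : (K.map f).map q = (K.map (CfsgLib.Signalizer.modCore 2 H)).map φ := by
    rw [Subgroup.map_map, Subgroup.map_map]
    rfl
  have hKb : Cfsg.IsComponent ((K.map f).map q) := by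
    rw [hmap]
    exact isComponent_map_equiv (MulEquiv.ofBijective φ ⟨hφi, hφs⟩) hK.2.1
  obtain ⟨hP, hPmap⟩ := CfsgLib.Signalizer.isPComponent_pGen hKb
  have hle : K.map f ≤ CfsgLib.Signalizer.pGen 2 (((K.map f).map q).comap q) := by
    conv_lhs => rw [← CfsgLib.Signalizer.pComponent_pGen_eq hK, CfsgLib.Signalizer.map_pGen]
    exact CfsgLib.Signalizer.pGen_mono (Subgroup.le_comap_map _ _)
  have hsn : (K.map f).IsSubnormal := Subgroup.IsSubnormal.map hf hK.1
  have heq : K.map f = CfsgLib.Signalizer.pGen 2 (((K.map f).map q).comap q) :=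
    hP.2.2 _ hsn hle hPmap.symm
  rw [← heq] at hP
  refine ⟨⟨hsn, (pComponent_quasisimple_iff hP).mpr ?_⟩, CfsgLib.Signalizer.pComponent_dvd_card hP⟩
  rw [CfsgLib.Signalizer.pComponent_core hP, eq_bot_iff, ← hB]
  exact Subgroup.commutator_mono (pComponent_le_pLayer hP) inf_le_left

theorem key {G : Type*} [Group G] [Finite G]
    (hF : IsSimpleGroup ↥(Cfsg.generalizedFittingSubgroup G))
    (hF' : ¬ IsMulCommutative ↥(Cfsg.generalizedFittingSubgroup G))
    (hsec : ∀ (H : Subgroup G) (N : Subgroup ↥H) [N.Normal], (H ≠ ⊤ ∨ N ≠ ⊥) → Cfsg.HasBProperty (↥H ⧸ N))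
    (x y : G) (hx : orderOf x = 2) (hy : orderOf y = 2) (hxy : x * y = y * x)
    (M : Subgroup G) (hM : M = (Cfsg.pLayer 2 ↥(Subgroup.centralizer ({x} : Set G))).map
      (Subgroup.centralizer ({x} : Set G)).subtype ⊓ Subgroup.centralizer ({y} : Set G))
    (J : Subgroup ↥M) (hJ : Cfsg.IsPComponent 2 J) :
    Cfsg.IsComponent
        ((((J.map M.subtype).subgroupOf (Subgroup.centralizer ({y} : Set G))).map (QuotientGroup.mk' (Cfsg.oddCore ↥(Subgroup.centralizer ({y} : Set G))))).subgroupOf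
          (Subgroup.centralizer ({(QuotientGroup.mk' (Cfsg.oddCore ↥(Subgroup.centralizer ({y} : Set G))) ⟨x, Subgroup.mem_centralizer_singleton_iff.mpr hxy⟩ : ↥(Subgroup.centralizer ({y} : Set G)) ⧸ Cfsg.oddCore ↥(Subgroup.centralizer ({y} : Set G)))} : Set _))) ∧
      ∀ E : Subgroup G, E ≤ Subgroup.centralizer ({x} : Set G) ⊓ Subgroup.centralizer ({y} : Set G) → Odd (Nat.card ↥E) →
        (∀ j ∈ J.map M.subtype, ∀ e ∈ E, j * e * j⁻¹ ∈ E) →
          ⁅J.map M.subtype, E⁆ ≤ (Cfsg.oddCore ↥(Subgroup.centralizer ({y} : Set G))).map (Subgroup.centralizer ({y} : Set G)).subtype := by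
  haveI : Fact (Nat.Prime 2) := ⟨Nat.prime_two⟩
  set Cx := Subgroup.centralizer ({x} : Set G) with hCx
  set Cy := Subgroup.centralizer ({y} : Set G) with hCy
  set O := Cfsg.oddCore ↥Cy with hOdef
  haveI : O.Normal := pPrimeCore_normal (G := Cy) 2
  set π := QuotientGroup.mk' O with hπ
  set x' : Cy := ⟨x, Subgroup.mem_centralizer_singleton_iff.mpr hxy⟩ with hx'
  -- `C(y)` is proper
  have hne : Cy ≠ ⊤ := by
    intro htop
    have h1 : y ∈ Subgroup.centralizer (Cfsg.generalizedFittingSubgroup G : Set G) :=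
      Subgroup.mem_centralizer_iff.mpr fun g _ =>
        Subgroup.mem_centralizer_singleton_iff.mp (htop.ge (Subgroup.mem_top g))
    have h2 := centralizer_gFitting_le h1
    haveI := hF
    rcases IsSimpleGroup.eq_bot_or_eq_top_of_normal (Subgroup.center _)
      (inferInstance : (Subgroup.center ↥(Cfsg.generalizedFittingSubgroup G)).Normal) with hc | hc
    · have h3 : (⟨y, h2⟩ : ↥(Cfsg.generalizedFittingSubgroup G)) ∈ Subgroup.center _ :=
        Subgroup.mem_center_iff.mpr fun g => Subtype.ext (Subgroup.mem_centralizer_iff.mp h1 g g.2)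
      rw [hc, Subgroup.mem_bot] at h3
      rw [show y = 1 from congrArg Subtype.val h3, orderOf_one] at hy
      exact absurd hy (by norm_num)
    · exact hF' ⟨⟨fun a b => ((Subgroup.mem_center_iff.mp (hc.ge (Subgroup.mem_top a))) b).symm⟩⟩
  have hB := hsec Cy O (Or.inl hne)
  have hOodd : (Nat.card O).Coprime 2 := pPrimeCore_coprime 2
  have hxO : x' ∉ O := by
    intro h
    have := hOodd.coprime_dvd_left (O.orderOf_dvd_natCard h)
    rw [hx', Subgroup.orderOf_mk, hx] at this
    exact absurd this (by decide)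
  have hxbar : orderOf (π x') = 2 := orderOf_eq_prime
    (by rw [← map_pow, show x' ^ 2 = 1 from
      orderOf_dvd_iff_pow_eq_one.mp (dvd_of_eq (by rw [hx', Subgroup.orderOf_mk, hx])), map_one])
    fun h => hxO ((QuotientGroup.eq_one_iff _).mp h)
  set H := Subgroup.centralizer ({x'} : Set Cy) with hH
  set H' := Subgroup.centralizer ({π x'} : Set (Cy ⧸ O)) with hH'
  have hB' : ⁅Cfsg.pLayer 2 H', Cfsg.pPrimeCore 2 H'⁆ = ⊥ := by
    have h1 := hB (π x') hxbar
    rwa [show Cfsg.oddCore (Cy ⧸ O) = ⊥ from CfsgLib.Core.pPrimeCore_quotient_pPrimeCore 2 Cy,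
      le_bot_iff, Subgroup.map_eq_bot_iff_of_injective _ (Subgroup.subtype_injective _)] at h1
  -- the surjection of centralizers
  have hmapH : H.map π = H' := by
    have hz : ∀ {X : Type _} [Group X] (a : X),
        Subgroup.centralizer ((Subgroup.zpowers a : Subgroup X) : Set X) =
          Subgroup.centralizer ({a} : Set X) := by
      intro X _ a
      refine le_antisymm (Subgroup.centralizer_le (Set.singleton_subset_iff.mpr (Subgroup.mem_zpowers a))) ?_
      rw [Subgroup.le_centralizer_iff, Subgroup.zpowers_le]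
      exact Subgroup.mem_centralizer_iff.mpr fun g hg => Subgroup.mem_centralizer_singleton_iff.mp hg
    have h1 := CfsgLib.PLocal.map_centralizer_eq O hOodd (p := 2) (P := Subgroup.zpowers x')
      (IsPGroup.of_card (n := 1) (by rw [Nat.card_zpowers, hx', Subgroup.orderOf_mk, hx, pow_one]))
    rwa [MonoidHom.map_zpowers, hz, hz] at h1
  set f : H →* H' := (π.comp H.subtype).codRestrict H' (fun h => hmapH.le ⟨h, h.2, rfl⟩) with hfdef
  have hf : Function.Surjective f := by
    rintro ⟨z, hz⟩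
    obtain ⟨h, hh, rfl⟩ := hmapH.ge hz
    exact ⟨⟨h, hh⟩, rfl⟩
  have hker : (Nat.card f.ker).Coprime 2 := by
    refine hOodd.coprime_dvd_left ?_
    rw [← Subgroup.card_map_of_injective H.subtype_injective]
    refine Subgroup.card_dvd_of_le ?_
    rintro _ ⟨z, hz, rfl⟩
    exact (QuotientGroup.eq_one_iff _).mp (congrArg Subtype.val hz)
  -- `M` as a normal subgroup of `H`
  have hMy : M ≤ Cy := hM.le.trans inf_le_right
  have hMx : M ≤ Cx := hM.le.trans (inf_le_left.trans (Subgroup.map_subtype_le _))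
  have hMH : M.subgroupOf Cy ≤ H := fun m hm =>
    Subgroup.mem_centralizer_singleton_iff.mpr
      (Subtype.ext (Subgroup.mem_centralizer_singleton_iff.mp (hMx hm)))
  set M' := (M.subgroupOf Cy).subgroupOf H with hM'
  let e : M ≃* M' := (Subgroup.subgroupOfEquivOfLe hMy).symm.trans
    (Subgroup.subgroupOfEquivOfLe hMH).symm
  have hM'n : M'.Normal := by
    refine ⟨fun m hm g => ?_⟩
    have hg : ((g : Cy) : G) ∈ Cx := Subgroup.mem_centralizer_singleton_iff.mpr
      (congrArg Subtype.val (Subgroup.mem_centralizer_singleton_iff.mp g.2))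
    have hm' : ((m : Cy) : G) ∈ M := hm
    show ((g : Cy) : G) * ((m : Cy) : G) * ((g : Cy) : G)⁻¹ ∈ M
    rw [hM] at hm' ⊢
    refine ⟨?_, Cy.mul_mem (Cy.mul_mem (g : Cy).2 hm'.2) (Cy.inv_mem (g : Cy).2)⟩
    obtain ⟨z, hz, hzm⟩ := hm'.1
    haveI := pLayer_normal (G := Cx) (p := 2)
    exact ⟨⟨_, hg⟩ * z * ⟨_, hg⟩⁻¹, Subgroup.Normal.conj_mem inferInstance z hz _, by simp [← hzm]⟩
  set J' := (J.map e.toMonoidHom).map M'.subtype with hJ'
  have hJ'c : Cfsg.IsPComponent 2 J' :=
    (isPComponent_map_subtype_iff hM'n.isSubnormal).mpr (isPComponent_map_equiv e hJ)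
  obtain ⟨hK, hK2⟩ := component_of_image f hf hker hB' hJ'c
  have hA : (((J.map M.subtype).subgroupOf Cy).map π).subgroupOf H' = J'.map f := by
    ext ⟨z, hz⟩
    rw [Subgroup.mem_subgroupOf]
    constructor
    · rintro ⟨w, ⟨m, hm, hmw⟩, hwz⟩
      refine ⟨M'.subtype (e m), ⟨e m, ⟨m, hm, rfl⟩, rfl⟩, Subtype.ext ?_⟩
      show π (((M'.subtype (e m)) : H) : Cy) = z
      rw [← show π w = z from hwz]
      exact congrArg π (Subtype.ext hmw)
    · rintro ⟨_, ⟨_, ⟨m, hm, rfl⟩, rfl⟩, he⟩
      exact ⟨_, ⟨m, hm, rfl⟩, congrArg Subtype.val he⟩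
  refine ⟨hA ▸ hK, fun E hE hodd hconj => ?_⟩
  set Eb := ((E.subgroupOf Cy).subgroupOf H).map f with hEb
  have hEH : E.subgroupOf Cy ≤ H := fun m hm =>
    Subgroup.mem_centralizer_singleton_iff.mpr
      (Subtype.ext (Subgroup.mem_centralizer_singleton_iff.mp (hE hm).1))
  have hEc : (Nat.card Eb).Coprime 2 := by
    refine Nat.Coprime.coprime_dvd_left (Subgroup.card_map_dvd _ _) ?_
    rw [Nat.card_congr (Subgroup.subgroupOfEquivOfLe hEH).toEquiv,
      Nat.card_congr (Subgroup.subgroupOfEquivOfLe (fun e he => (hE he).2 : E ≤ Cy)).toEquiv]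
    exact Nat.coprime_two_right.mpr hodd
  have hn : J'.map f ≤ Subgroup.normalizer (Eb : Set H') := by
    rintro _ ⟨_, ⟨_, ⟨m, hm, rfl⟩, rfl⟩, rfl⟩
    refine Subgroup.le_normalizer_map f ⟨_, ?_, rfl⟩
    refine Subgroup.mem_normalizer_iff.mpr fun w => ⟨fun hw => hconj _ ⟨m, hm, rfl⟩ _ hw, fun hw => ?_⟩
    have h2 : (((M'.subtype (e m))⁻¹ * (M'.subtype (e m) * w * (M'.subtype (e m))⁻¹) * M'.subtype (e m) : H) : Cy).1 ∈ E := by
      have := hconj ((m : G))⁻¹ (Subgroup.inv_mem _ ⟨m, hm, rfl⟩) _ hw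
      rwa [inv_inv] at this
    rwa [show (M'.subtype (e m))⁻¹ * (M'.subtype (e m) * w * (M'.subtype (e m))⁻¹) * M'.subtype (e m) = w by group] at h2
  have h := component_commutes_odd (p := 2) hK hK2 hEc hn
  rw [Subgroup.commutator_le]
  intro a ha b hb
  obtain ⟨m, hm, rfl⟩ := ha
  set aH : H := M'.subtype (e m) with haH
  set bH : H := ⟨⟨b, (hE hb).2⟩, hEH (show (⟨b, (hE hb).2⟩ : Cy) ∈ E.subgroupOf Cy from hb)⟩ with hbH
  have h1 : f ⁅aH, bH⁆ = 1 := by
    rw [map_commutatorElement, ← Subgroup.mem_bot, ← h]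
    exact Subgroup.commutator_mem_commutator ⟨_, ⟨e m, ⟨m, hm, rfl⟩, rfl⟩, rfl⟩
      ⟨bH, hb, rfl⟩
  exact ⟨((⁅aH, bH⁆ : H) : Cy), (QuotientGroup.eq_one_iff _).mp (congrArg Subtype.val h1), rfl⟩

/-- Let G be a finite group whose generalized Fitting subgroup is a non-abelian simple group and in which every proper section (every quotient H/N of a proper subgroup H, or of G by a nontrivial normal subgroup) has the B-property. Let x, y be commuting involutions, let D be the intersection of the 2-layer of C_G(x) with C_G(y), and let J be a 2-component of D. Write Q for the quotient of C_G(y) by its largest normal odd-order subgroup. Then (i) the image of J in Q is a component of the centralizer in Q of the image of x; and (ii) for every J-invariant subgroup E of odd order of C_G(x) ∩ C_G(y), the commutator subgroup [J, E] lies in the largest normal odd-order subgroup of C_G(y). -/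
theorem result {G : Type*} [Group G] [Finite G]
    (hF : IsSimpleGroup ↥(Cfsg.generalizedFittingSubgroup G)) (hF' : ¬ IsMulCommutative ↥(Cfsg.generalizedFittingSubgroup G))
    (hsec : ∀ (H : Subgroup G) (N : Subgroup ↥H) [N.Normal], (H ≠ ⊤ ∨ N ≠ ⊥) → Cfsg.HasBProperty (↥H ⧸ N))
    (x y : G) (hx : orderOf x = 2) (hy : orderOf y = 2) (hxy : x * y = y * x)
    (J : Subgroup ↥((Cfsg.pLayer 2 ↥(Subgroup.centralizer ({x} : Set G))).map (Subgroup.centralizer ({x} : Set G)).subtype ⊓ Subgroup.centralizer ({y} : Set G)))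
    (hJ : Cfsg.IsPComponent 2 J) :
    Cfsg.IsComponent
        ((((J.map (Subgroup.subtype _)).subgroupOf (Subgroup.centralizer ({y} : Set G))).map (QuotientGroup.mk' (Cfsg.oddCore ↥(Subgroup.centralizer ({y} : Set G))))).subgroupOf
          (Subgroup.centralizer ({(QuotientGroup.mk' (Cfsg.oddCore ↥(Subgroup.centralizer ({y} : Set G))) ⟨x, Subgroup.mem_centralizer_singleton_iff.mpr hxy⟩ : ↥(Subgroup.centralizer ({y} : Set G)) ⧸ Cfsg.oddCore ↥(Subgroup.centralizer ({y} : Set G)))} : Set _))) ∧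
      ∀ E : Subgroup G, E ≤ Subgroup.centralizer ({x} : Set G) ⊓ Subgroup.centralizer ({y} : Set G) → Odd (Nat.card ↥E) →
        (∀ j ∈ J.map (Subgroup.subtype _), ∀ e ∈ E, j * e * j⁻¹ ∈ E) →
          ⁅J.map (Subgroup.subtype _), E⁆ ≤ (Cfsg.oddCore ↥(Subgroup.centralizer ({y} : Set G))).map (Subgroup.centralizer ({y} : Set G)).subtype := by
  exact key hF hF' hsec x y hx hy hxy _ rfl J hJ

end Cfsg.Agent.S1775
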