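import Cfsg.Statements.S1780

set_option autoImplicit false
open Cfsg

namespace Cfsg.Agent.S1780

/-- Let A be a finite abelian 2-group and t an automorphism of A whose order is a power of 2. If every element of A fixed by t² is fixed by t, then t fixes every element of A. -/
theorem result {A : Type*} [CommGroup A] [Finite A]
    (hA : IsPGroup 2 A) (t : MulAut A) (ht : ∃ k : ℕ, orderOf t = 2 ^ k) (hC : ∀ a : A, t (t a) = a → t a = a) :
    ∀ a : A, t a = a := by
  obtain ⟨k, hk⟩ := ht
  -- the elements of order at most two
  have base : ∀ j : ℕ, ∀ x : A, x ^ 2 = 1 → (t ^ (2 ^ j)) x = x → t x = x := by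
    intro j
    induction j with
    | zero => intro x _ h; simpa using h
    | succ j ih =>
      intro x hx h
      set u : MulAut A := t ^ (2 ^ j) with hu
      have huu : u (u x) = x := by
        have : u * u = t ^ (2 ^ (j + 1)) := by rw [hu, ← pow_add, pow_succ]; ring_nf
        rw [← MulAut.mul_apply, this]; exact h
      set y := x⁻¹ * u x with hy
      have hxi : x⁻¹ = x := inv_eq_of_mul_eq_one_right (by rw [← pow_two]; exact hx)
      have hy2 : y ^ 2 = 1 := by rw [hy, mul_pow, inv_pow, ← map_pow, hx, inv_one, map_one, one_mul]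
      have huy : u y = y := by
        rw [hy, map_mul, map_inv, huu]
        rw [mul_comm, hxi]
        congr 1
        rw [← map_inv, hxi]
      have hty := ih y hy2 huy
      have hux : u x = x * y := by rw [hy]; group
      set z := x⁻¹ * t x with hz
      have hz2 : z ^ 2 = 1 := by rw [hz, mul_pow, inv_pow, ← map_pow, hx, inv_one, map_one, one_mul]
      have hcomm : u (t x) = t (u x) := by
        rw [← MulAut.mul_apply, ← MulAut.mul_apply, hu, ← pow_succ, ← pow_succ']
      have huz : u z = z := by
        rw [hz, map_mul, map_inv, hcomm, hux, map_mul, hty, mul_inv, mul_mul_mul_comm, inv_mul_cancel, mul_one]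
      have htz := ih z hz2 huz
      refine hC x ?_
      have htx : t x = x * z := by rw [hz]; group
      rw [htx, map_mul, htz, htx, mul_assoc, ← pow_two, hz2, mul_one]
  have hone : t ^ (2 ^ k) = 1 := by rw [← hk, pow_orderOf_eq_one]
  suffices H : ∀ N : ℕ, ∀ a : A, orderOf a < N → t a = a from fun a => H (orderOf a + 1) a (Nat.lt_succ_self _)
  intro N
  induction N with
  | zero => intro a h; omega
  | succ N ih =>
    intro a ha
    by_cases h2 : a ^ 2 = 1
    · exact base k a h2 (by rw [hone]; rfl)
    · have hlt : orderOf (a ^ 2) < orderOf a := by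
        obtain ⟨m, hm⟩ := (IsPGroup.iff_orderOf.mp hA) a
        have hm0 : m ≠ 0 := by
          intro h0; rw [h0, pow_zero, orderOf_eq_one_iff] at hm; exact h2 (by rw [hm, one_pow])
        rw [orderOf_pow, hm]
        have hd : Nat.gcd (2 ^ m) 2 = 2 := Nat.gcd_eq_right (dvd_pow_self 2 hm0)
        rw [hd]
        exact Nat.div_lt_self (by positivity) one_lt_two
      have hfix2 : t (a ^ 2) = a ^ 2 := ih (a ^ 2) (by omega)
      set q := a⁻¹ * t a with hq
      have hq2 : q ^ 2 = 1 := by rw [hq, mul_pow, inv_pow, ← map_pow, hfix2, inv_mul_cancel]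
      have hqf : t q = q := base k q hq2 (by rw [hone]; rfl)
      refine hC a ?_
      have hta : t a = a * q := by rw [hq]; group
      rw [hta, map_mul, hqf, hta, mul_assoc, ← pow_two, hq2, mul_one]

end Cfsg.Agent.S1780
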