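import Cfsg.Statements.S1781
import Cfsg.Agent.Lib.Techniques.TI
import Cfsg.Agent.S1780

set_option autoImplicit false
open Cfsg

namespace Cfsg.Agent.S1781

/-- Let A be an abelian 2-subgroup of the finite group G such that every conjugate of A equals A or meets A trivially, and let g ∈ G with g A g⁻¹ ≠ A. Then either the subgroup of those elements of A that normalize g A g⁻¹ is an elementary abelian 2-group, or A and g A g⁻¹ commute elementwise. -/
theorem result {G : Type*} [Group G] [Finite G] (A : Subgroup G)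
    (hA2 : IsPGroup 2 ↥A) (hAa : IsMulCommutative ↥A)
    (hti : ∀ h : G, A.map (MulAut.conj h).toMonoidHom = A ∨ A.map (MulAut.conj h).toMonoidHom ⊓ A = ⊥)
    (g : G) (hg : A.map (MulAut.conj g).toMonoidHom ≠ A) :
    Cfsg.IsElementaryAbelian 2 (A ⊓ Subgroup.normalizer ((A.map (MulAut.conj g).toMonoidHom : Subgroup G) : Set G)) ∨
      ⁅A, A.map (MulAut.conj g).toMonoidHom⁆ = ⊥ := by
  set B := A.map (MulAut.conj g).toMonoidHom with hBdef
  by_cases hx : ∀ x ∈ A ⊓ Subgroup.normalizer (B : Set G), x ^ 2 = 1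
  · left
    exact ⟨⟨⟨fun u v => Subtype.ext (congrArg (fun w : ↥A => (w : G)) (hAa.is_comm.comm ⟨u.1, u.2.1⟩ ⟨v.1, v.2.1⟩))⟩⟩, hx⟩
  right
  push Not at hx
  obtain ⟨x, hxN, hx2⟩ := hx
  have hB2 : IsPGroup 2 B := hA2.map _
  have hAB : A ⊓ B = ⊥ := by
    rw [inf_comm]; exact (hti g).resolve_left hg
  have hBti : ∀ h : G, B.map (MulAut.conj h).toMonoidHom = B ∨ B.map (MulAut.conj h).toMonoidHom ⊓ B = ⊥ := by
    intro h
    rcases hti (g⁻¹ * h * g) with e | e
    · left
      rw [hBdef, CfsgLib.Techniques.map_conj_conj]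
      nth_rewrite 2 [← e]
      rw [CfsgLib.Techniques.map_conj_conj]
      congr 3; group
    · right
      rw [eq_bot_iff]
      intro y hy
      rw [hBdef, CfsgLib.Techniques.map_conj_conj] at hy
      obtain ⟨h1, h2⟩ := hy
      have : g⁻¹ * y * g ∈ A.map (MulAut.conj (g⁻¹ * h * g)).toMonoidHom ⊓ A := by
        refine ⟨CfsgLib.Techniques.mem_map_conj_iff.mpr ?_, CfsgLib.Techniques.mem_map_conj_iff.mp h2⟩
        have h1' := CfsgLib.Techniques.mem_map_conj_iff.mp h1
        simpa [mul_assoc] using h1'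
      rw [e, Subgroup.mem_bot] at this
      rw [Subgroup.mem_bot]
      calc y = g * (g⁻¹ * y * g) * g⁻¹ := by group
        _ = 1 := by rw [this]; group
  haveI : IsMulCommutative ↥B := by rw [hBdef]; infer_instance
  letI : CommGroup ↥B := { (inferInstance : Group ↥B) with mul_comm := mul_comm' }
  let φ : MulAut ↥B :=
    { toFun := fun b => ⟨x * b * x⁻¹, (Subgroup.mem_normalizer_iff.mp hxN.2 b).mp b.2⟩
      invFun := fun b => ⟨x⁻¹ * b * x, (Subgroup.mem_normalizer_iff''.mp hxN.2 b).mp b.2⟩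
      left_inv := fun b => by ext; simp [mul_assoc]
      right_inv := fun b => by ext; simp [mul_assoc]
      map_mul' := fun a b => by ext; simp [mul_assoc] }
  have hφ : ∀ (m : ℕ) (b : ↥B), (((φ ^ m) b : ↥B) : G) = x ^ m * b * (x ^ m)⁻¹ := by
    intro m
    induction m with
    | zero => intro b; simp
    | succ m ih =>
      intro b
      rw [pow_succ', MulAut.mul_apply]
      show x * ((φ ^ m) b : ↥B) * x⁻¹ = _
      rw [ih b, pow_succ']; group
  have hkey : ∀ b : ↥B, φ b = b := by
    refine Cfsg.Agent.S1780.result hB2 φ ?_ ?_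
    · obtain ⟨k, hk⟩ := hA2 ⟨x, hxN.1⟩
      have : φ ^ (2 ^ k) = 1 := by
        ext b
        rw [hφ]
        have hk' : x ^ (2 ^ k) = 1 := congrArg Subtype.val hk
        simp [hk']
      obtain ⟨j, _, hj⟩ := (Nat.dvd_prime_pow Nat.prime_two).mp (orderOf_dvd_of_pow_eq_one this)
      exact ⟨j, hj⟩
    · intro b hb
      have hb' : x ^ 2 * (b : G) * (x ^ 2)⁻¹ = b := by
        rw [← hφ 2 b, pow_two, MulAut.mul_apply, hb]
      have hbN : A.map (MulAut.conj (b : G)).toMonoidHom = A := by
        refine (hti b).resolve_right fun e => hx2 ?_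
        have : x ^ 2 ∈ A.map (MulAut.conj (b : G)).toMonoidHom ⊓ A := by
          refine ⟨CfsgLib.Techniques.mem_map_conj_iff.mpr ?_, A.pow_mem hxN.1 2⟩
          have : (b : G)⁻¹ * x ^ 2 * b = x ^ 2 := by
            calc (b : G)⁻¹ * x ^ 2 * b = (b : G)⁻¹ * (x ^ 2 * b * (x ^ 2)⁻¹) * x ^ 2 := by group
              _ = x ^ 2 := by rw [hb']; group
          rw [this]; exact A.pow_mem hxN.1 2
        rw [e, Subgroup.mem_bot] at this
        exact this
      apply Subtype.ext
      show x * b * x⁻¹ = b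
      have h1 : x * b * x⁻¹ * (b : G)⁻¹ ∈ A ⊓ B := by
        refine ⟨?_, B.mul_mem ((Subgroup.mem_normalizer_iff.mp hxN.2 b).mp b.2) (B.inv_mem b.2)⟩
        have h2 : (b : G) * x⁻¹ * (b : G)⁻¹ ∈ A.map (MulAut.conj (b : G)).toMonoidHom :=
          ⟨x⁻¹, A.inv_mem hxN.1, rfl⟩
        rw [hbN] at h2
        simpa [mul_assoc] using A.mul_mem hxN.1 h2
      rw [hAB, Subgroup.mem_bot] at h1
      exact mul_inv_eq_one.mp h1
  have hBA : B ≤ Subgroup.normalizer (A : Set G) := by
    intro b hb
    have hbx : x * b * x⁻¹ = b := congrArg Subtype.val (hkey ⟨b, hb⟩)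
    have hne : A.map (MulAut.conj b).toMonoidHom = A := by
      refine (hti b).resolve_right fun e => ?_
      have hmem : x ∈ A.map (MulAut.conj b).toMonoidHom ⊓ A := by
        refine ⟨CfsgLib.Techniques.mem_map_conj_iff.mpr ?_, hxN.1⟩
        have : b⁻¹ * x * b = x := by
          calc b⁻¹ * x * b = b⁻¹ * (x * b * x⁻¹) * x := by group
            _ = x := by rw [hbx]; group
        rw [this]; exact hxN.1
      rw [e, Subgroup.mem_bot] at hmem
      exact hx2 (by rw [hmem, one_pow])
    rw [Subgroup.mem_normalizer_iff]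
    intro y
    constructor
    · intro hy; rw [← hne]; exact ⟨y, hy, rfl⟩
    · intro hy; rw [← hne] at hy
      have := CfsgLib.Techniques.mem_map_conj_iff.mp hy
      simpa [mul_assoc] using this
  exact CfsgLib.Techniques.ti_commutator_eq_bot hA2 hB2 hBti
    (CfsgLib.Techniques.card_map_conj A g).ge hAB hBA

end Cfsg.Agent.S1781
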