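import Cfsg.Statements.S1782
import Cfsg.Agent.Lib.Techniques.TIFamily

set_option autoImplicit false
open Cfsg
open scoped commutatorElement

namespace Cfsg.Agent.S1782

/-- Let S be a finite 2-group and Δ a set of subgroups of S closed under conjugation by S, all of the same order, each with nontrivial Frattini subgroup, and such that two distinct members of Δ meet trivially. Then any two distinct members of Δ commute elementwise. -/
theorem result {S : Type*} [Group S] [Finite S] (hS : IsPGroup 2 S)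
    (Δ : Set (Subgroup S)) (hinv : ∀ s : S, ∀ R ∈ Δ, R.map (MulAut.conj s).toMonoidHom ∈ Δ)
    (hΦ : ∀ R ∈ Δ, frattini ↥R ≠ ⊥) (hord : ∀ R ∈ Δ, ∀ T ∈ Δ, Nat.card ↥R = Nat.card ↥T)
    (hti : ∀ R ∈ Δ, ∀ T ∈ Δ, R = T ∨ R ⊓ T = ⊥) :
    ∀ R ∈ Δ, ∀ T ∈ Δ, R ≠ T → ⁅R, T⁆ = ⊥ := by
  classical
  haveI : Fact (Nat.Prime 2) := ⟨Nat.prime_two⟩
  refine CfsgLib.Techniques.ti_family_commute (S := (⊤ : Subgroup S)) (hS.to_subgroup ⊤) (fun R _ => le_top)
    (fun s _ => hinv s) (fun R hR => ?_) hord hti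
  by_contra h
  push Not at h
  refine hΦ R hR (eq_bot_iff.2 (CfsgLib.PGroups.frattini_le_of_elementary (p := 2) ?_ fun x => ?_))
  · rw [_root_.commutator_def, Subgroup.commutator_le]
    intro a _ b _
    rw [Subgroup.mem_bot, commutatorElement_eq_one_iff_mul_comm]
    have hsq : ∀ c : ↥R, c * c = 1 := fun c => Subtype.ext (by rw [Subgroup.coe_mul, ← sq]; exact h c c.2)
    calc a * b = (a * b)⁻¹ := (inv_eq_of_mul_eq_one_left (hsq _)).symm
      _ = b⁻¹ * a⁻¹ := mul_inv_rev _ _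
      _ = b * a := by rw [inv_eq_of_mul_eq_one_left (hsq a), inv_eq_of_mul_eq_one_left (hsq b)]
  · rw [Subgroup.mem_bot]
    exact Subtype.ext (h x x.2)

end Cfsg.Agent.S1782
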