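import Cfsg.Statements.S1783
import Cfsg.Agent.Lib.Techniques.TIFamily

set_option autoImplicit false
open Cfsg

namespace Cfsg.Agent.S1783

/-- Let X be a finite group whose generalized Fitting subgroup equals its largest normal 2-subgroup Q, and let A be an abelian 2-subgroup of X such that every conjugate of A equals A or meets A trivially. Let B be the subgroup generated by the squares of the elements of A. Then B lies in Q, and if B is not an elementary abelian 2-group then the normal closure of B in X is commutative. -/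
theorem result {X : Type*} [Group X] [Finite X]
    (hX : Cfsg.generalizedFittingSubgroup X = Cfsg.pCore 2 X) (A : Subgroup X) (hA2 : IsPGroup 2 ↥A) (hAa : IsMulCommutative ↥A)
    (hti : ∀ h : X, A.map (MulAut.conj h).toMonoidHom = A ∨ A.map (MulAut.conj h).toMonoidHom ⊓ A = ⊥) :
    Subgroup.closure ((fun a : X => a ^ 2) '' (A : Set X)) ≤ Cfsg.pCore 2 X ∧
      (¬ Cfsg.IsElementaryAbelian 2 (Subgroup.closure ((fun a : X => a ^ 2) '' (A : Set X))) →
        IsMulCommutative ↥(Subgroup.normalClosure ((fun a : X => a ^ 2) '' (A : Set X)))) := by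
  classical
  haveI : Fact (Nat.Prime 2) := ⟨Nat.prime_two⟩
  set B := Subgroup.closure ((fun a : X => a ^ 2) '' (A : Set X)) with hB
  have hBQ : B ≤ Cfsg.pCore 2 X := (Subgroup.closure_le _).2 (by
    rintro _ ⟨a, ha, rfl⟩
    exact CfsgLib.Techniques.sq_mem_pCore_of_ti hX hA2 hAa hti ha)
  have hBA : B ≤ A := (Subgroup.closure_le _).2 (by rintro _ ⟨a, ha, rfl⟩; exact pow_mem ha 2)
  have hcl : Subgroup.closure ((fun a : X => a ^ 2) '' (A : Set X)) = B := rfl
  refine ⟨hBQ, fun hne => ?_⟩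
  haveI := hAa
  have hcomA : ∀ u ∈ A, ∀ v ∈ A, u * v = v * u := fun u hu v hv =>
    (congrArg Subtype.val (hAa.is_comm.comm (⟨u, hu⟩ : A) ⟨v, hv⟩) :)
  obtain ⟨b, hb, hb2⟩ : ∃ b ∈ B, b ^ 2 ≠ 1 := by
    by_contra h
    push Not at h
    exact hne ⟨⟨⟨fun u v => Subtype.ext (hcomA u (hBA u.2) v (hBA v.2))⟩⟩, h⟩
  haveI : (Cfsg.pCore 2 X).Normal := CfsgLib.Core.normal_pCore 2 _
  set Δ : Set (Subgroup X) := {U | ∃ x : X, U = B.map (MulAut.conj x).toMonoidHom}
  have hBx : ∀ x : X, B.map (MulAut.conj x).toMonoidHom ≤ Cfsg.pCore 2 X := by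
    rintro x _ ⟨u, hu, rfl⟩
    exact Subgroup.Normal.conj_mem inferInstance u (hBQ hu) x
  have hmove : ∀ x y : X, B.map (MulAut.conj x).toMonoidHom =
      (B.map (MulAut.conj (y⁻¹ * x)).toMonoidHom).map (MulAut.conj y).toMonoidHom := fun x y => by
    rw [CfsgLib.Techniques.map_conj_conj, mul_inv_cancel_left]
  have hsqB : ∀ x : X, A.map (MulAut.conj x).toMonoidHom = A → B.map (MulAut.conj x).toMonoidHom = B := by
    intro x hx
    refine Subgroup.eq_of_le_of_card_ge ?_ (Subgroup.card_map_of_injective (MulAut.conj x).injective).ge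
    rw [hB, MonoidHom.map_closure, Subgroup.closure_le]
    rintro _ ⟨_, ⟨a, ha, rfl⟩, rfl⟩
    exact Subgroup.subset_closure ⟨x * a * x⁻¹, hx.le ⟨a, ha, rfl⟩, by
      show (x * a * x⁻¹) ^ 2 = x * a ^ 2 * x⁻¹
      rw [conj_pow]⟩
  have hcomm := CfsgLib.Techniques.ti_family_commute (Δ := Δ) (CfsgLib.Core.isPGroup_pCore 2 X)
    (by rintro _ ⟨x, rfl⟩; exact hBx x)
    (by rintro s - _ ⟨x, rfl⟩; exact ⟨s * x, CfsgLib.Techniques.map_conj_conj _ _ _⟩)
    (by
      rintro _ ⟨x, rfl⟩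
      refine ⟨_, Subgroup.mem_map_of_mem _ hb, ?_⟩
      rw [← map_pow]
      exact fun e => hb2 ((MulAut.conj x).injective (e.trans (map_one _).symm)))
    (by
      rintro _ ⟨x, rfl⟩ _ ⟨y, rfl⟩
      rw [Subgroup.card_map_of_injective (MulAut.conj x).injective,
        Subgroup.card_map_of_injective (MulAut.conj y).injective])
    (by
      rintro _ ⟨x, rfl⟩ _ ⟨y, rfl⟩
      rcases hti (y⁻¹ * x) with h | h
      · exact Or.inl (by rw [hmove x y, hsqB _ h])
      · refine Or.inr ?_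
        rw [hmove x y, ← Subgroup.map_inf _ _ _ (MulAut.conj y).injective,
          show B.map (MulAut.conj (y⁻¹ * x)).toMonoidHom ⊓ B = ⊥ from
            eq_bot_iff.2 ((inf_le_inf (Subgroup.map_mono hBA) hBA).trans h.le), Subgroup.map_bot])
  refine Subgroup.le_centralizer_iff_isMulCommutative.1 ?_
  set N := Subgroup.normalClosure ((fun a : X => a ^ 2) '' (A : Set X))
  have hgen : N ≤ Subgroup.centralizer {z : X | ∃ g : X, ∃ u ∈ B, z = g * u * g⁻¹} := by
    rw [show N = Subgroup.closure (Group.conjugatesOfSet _) from rfl, Subgroup.closure_le]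
    intro z hz
    obtain ⟨_, ⟨a, ha, rfl⟩, hc⟩ := Group.mem_conjugatesOfSet_iff.1 hz
    obtain ⟨g, rfl⟩ := isConj_iff.1 hc
    rw [SetLike.mem_coe, Subgroup.mem_centralizer_iff]
    rintro _ ⟨h, u, hu, rfl⟩
    have h1 : g * a ^ 2 * g⁻¹ ∈ B.map (MulAut.conj g).toMonoidHom :=
      ⟨a ^ 2, Subgroup.subset_closure ⟨a, ha, rfl⟩, rfl⟩
    have h2 : h * u * h⁻¹ ∈ B.map (MulAut.conj h).toMonoidHom := ⟨u, hu, rfl⟩
    by_cases he : B.map (MulAut.conj g).toMonoidHom = B.map (MulAut.conj h).toMonoidHom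
    · rw [← he] at h2
      obtain ⟨v, hv, hv'⟩ := h2
      obtain ⟨w, hw, hw'⟩ := h1
      rw [← hv', ← hw', ← map_mul, ← map_mul, hcomA v (hBA hv) w (hBA hw)]
    · exact (Subgroup.mem_centralizer_iff.1
        (Subgroup.commutator_eq_bot_iff_le_centralizer.1 (hcomm _ ⟨g, rfl⟩ _ ⟨h, rfl⟩ he) h1) _ h2)
  suffices h : ∀ z ∈ Group.conjugatesOfSet ((fun a : X => a ^ 2) '' (A : Set X)), z ∈ Subgroup.centralizer (N : Set X) from
    (Subgroup.closure_le _).2 h
  intro z hz
  obtain ⟨_, ⟨a, ha, rfl⟩, hc⟩ := Group.mem_conjugatesOfSet_iff.1 hz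
  obtain ⟨g, rfl⟩ := isConj_iff.1 hc
  rw [Subgroup.mem_centralizer_iff]
  intro m hm
  exact (Subgroup.mem_centralizer_iff.1 (hgen hm) _
    ⟨g, a ^ 2, Subgroup.subset_closure ⟨a, ha, rfl⟩, rfl⟩).symm

end Cfsg.Agent.S1783
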