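import Cfsg.Statements.S1784
import Cfsg.Agent.Lib.Techniques.ExtraspecialInvolution
import Cfsg.Agent.Lib.Components.FStar
import Cfsg.Agent.Lib.Core.Cores

set_option autoImplicit false
open Cfsg

namespace Cfsg.Agent.S1784

/-- Let G be a finite group and let z be an involution of G such that Q, the generalized Fitting subgroup of the centralizer C of z, is a 2-group of symplectic type (every characteristic abelian subgroup of Q is cyclic); suppose Q is extraspecial, and view Q inside G. Let α be an involution of C that is not in Q, and let Q₀ be the subgroup of those q ∈ Q whose commutator with α lies in the subgroup generated by z. Then (a) the subgroup generated by the commutators α q α⁻¹ q⁻¹, q ∈ Q, equals the centre of Q₀; and (b) if Q₀ is not contained in the product of the centralizer of α in Q with the subgroup generated by z, then some element of Q conjugates α to α z. -/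
theorem result {G : Type*} [Group G] [Finite G] (z : G) (hz : orderOf z = 2) (hQ : Cfsg.IsOfSymplecticType ↥(Cfsg.generalizedFittingSubgroup ↥(Subgroup.centralizer ({z} : Set G)))) (hE : Cfsg.IsExtraspecial 2 ↥(Cfsg.generalizedFittingSubgroup ↥(Subgroup.centralizer ({z} : Set G))))
    (α : G) (hα : orderOf α = 2) (hαC : α ∈ Subgroup.centralizer ({z} : Set G)) (hαQ : α ∉ (Cfsg.generalizedFittingSubgroup ↥(Subgroup.centralizer ({z} : Set G))).map (Subgroup.centralizer ({z} : Set G)).subtype)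
    (Q₀ : Subgroup G) (hQ₀ : ∀ q : G, q ∈ Q₀ ↔ (q ∈ (Cfsg.generalizedFittingSubgroup ↥(Subgroup.centralizer ({z} : Set G))).map (Subgroup.centralizer ({z} : Set G)).subtype ∧ α * q * α⁻¹ * q⁻¹ ∈ Subgroup.zpowers z)) :
    Subgroup.closure ((fun q : G => α * q * α⁻¹ * q⁻¹) '' ((Cfsg.generalizedFittingSubgroup ↥(Subgroup.centralizer ({z} : Set G))).map (Subgroup.centralizer ({z} : Set G)).subtype : Set G)) = (Subgroup.center ↥Q₀).map Q₀.subtype ∧
      (¬ Q₀ ≤ ((Cfsg.generalizedFittingSubgroup ↥(Subgroup.centralizer ({z} : Set G))).map (Subgroup.centralizer ({z} : Set G)).subtype ⊓ Subgroup.centralizer ({α} : Set G)) ⊔ Subgroup.zpowers z →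
        ∃ q ∈ (Cfsg.generalizedFittingSubgroup ↥(Subgroup.centralizer ({z} : Set G))).map (Subgroup.centralizer ({z} : Set G)).subtype, q * α * q⁻¹ = α * z) := by
  haveI : Fact (Nat.Prime 2) := ⟨Nat.prime_two⟩
  set C := Subgroup.centralizer ({z} : Set G) with hC
  set F := Cfsg.generalizedFittingSubgroup ↥C with hF
  set Q := F.map C.subtype with hQdef
  haveI hFn : F.Normal := CfsgLib.Components.gFitting_normal
  set αC : ↥C := ⟨α, hαC⟩ with hαC'
  let a : MulAut F := MulAut.conjNormal αC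
  have hαα : αC * αC = 1 := Subtype.ext (by
    show α * α = 1
    rw [← pow_two, ← hα, pow_orderOf_eq_one])
  have ha : a * a = 1 := by rw [← map_mul, hαα, map_one]
  have ha1 : a ≠ 1 := by
    intro h
    refine hαQ ⟨αC, CfsgLib.Components.centralizer_gFitting_le ?_, rfl⟩
    rw [Subgroup.mem_centralizer_iff]
    intro q hq
    have := congrArg (fun f : MulAut F => ((f ⟨q, hq⟩ : F) : ↥C)) h
    simp only [a, MulAut.conjNormal_apply, MulAut.one_apply] at this
    exact (mul_inv_eq_iff_eq_mul.1 this).symm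
  -- the centre of `F`
  have hzC : z ∈ C := Subgroup.mem_centralizer_singleton_iff.2 rfl
  have hzF : (⟨z, hzC⟩ : ↥C) ∈ F := by
    haveI : (Subgroup.zpowers (⟨z, hzC⟩ : ↥C)).Normal := ⟨fun x hx g => by
      obtain ⟨i, rfl⟩ := hx
      show g * (⟨z, hzC⟩ : ↥C) ^ i * g⁻¹ ∈ _
      rw [← conj_zpow, show g * (⟨z, hzC⟩ : ↥C) * g⁻¹ = ⟨z, hzC⟩ from Subtype.ext (by
        show (g : G) * z * (g : G)⁻¹ = z
        rw [(Subgroup.mem_centralizer_singleton_iff.1 g.2), mul_inv_cancel_right])]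
      exact zpow_mem (Subgroup.mem_zpowers _) i⟩
    refine CfsgLib.Components.fitting_le_gFitting (CfsgLib.Core.le_fittingSubgroup
      (N := Subgroup.zpowers (⟨z, hzC⟩ : ↥C)) ?_ (Subgroup.mem_zpowers _))
    exact (IsPGroup.of_card (p := 2) (n := 1) (by
      rw [Nat.card_zpowers, Subgroup.orderOf_mk, hz, pow_one])).isNilpotent
  have hzZ : (⟨⟨z, hzC⟩, hzF⟩ : F) ∈ Subgroup.center F := Subgroup.mem_center_iff.2 fun q =>
    Subtype.ext (Subtype.ext (Subgroup.mem_centralizer_singleton_iff.1 (q : ↥C).2))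
  have hcen : ∀ w : F, w ∈ Subgroup.center F ↔ ((w : ↥C) : G) ∈ Subgroup.zpowers z := by
    intro w
    constructor
    · intro hw
      obtain ⟨i, hi⟩ := Subgroup.mem_zpowers_iff.1 ((zpowers_eq_top_of_prime_card
        (CfsgLib.PGroups.IsExtraspecial.card_center hE) (g := (⟨_, hzZ⟩ : Subgroup.center F))
        (fun h => by
          have := congrArg (fun u : Subgroup.center F => (((u : F) : ↥C) : G)) h
          simp only [OneMemClass.coe_one] at this
          rw [this, orderOf_one] at hz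
          omega)).symm ▸ Subgroup.mem_top (⟨w, hw⟩ : Subgroup.center F))
      exact Subgroup.mem_zpowers_iff.2 ⟨i, by
        have := congrArg (fun u : Subgroup.center F => (((u : F) : ↥C) : G)) hi
        simpa using this⟩
    · rintro ⟨i, hi⟩
      have : w = (⟨⟨z, hzC⟩, hzF⟩ : F) ^ i := Subtype.ext (Subtype.ext (by simpa using hi.symm))
      exact this ▸ zpow_mem hzZ i
  have hval : ∀ q : F, (((a q * q⁻¹ : F) : ↥C) : G) =
      α * ((q : ↥C) : G) * α⁻¹ * ((q : ↥C) : G)⁻¹ := fun q => by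
    simp [a, MulAut.conjNormal_apply, αC]
  set φ : F →* G := C.subtype.comp F.subtype with hφ
  have hφi : Function.Injective φ := fun u v h => Subtype.ext (Subtype.ext h)
  have hT : Subgroup.closure ((fun q : G => α * q * α⁻¹ * q⁻¹) '' (Q : Set G)) =
      (Subgroup.closure (Set.range fun q : F => a q * q⁻¹)).map φ := by
    rw [MonoidHom.map_closure]
    congr 1
    ext x
    constructor
    · rintro ⟨_, ⟨q, hq, rfl⟩, rfl⟩
      exact ⟨_, ⟨⟨q, hq⟩, rfl⟩, hval ⟨q, hq⟩⟩
    · rintro ⟨_, ⟨q, rfl⟩, rfl⟩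
      exact ⟨_, ⟨(q : ↥C), q.2, rfl⟩, (hval q).symm⟩
  have hQ0mem : ∀ q : F, φ q ∈ Q₀ ↔ a q * q⁻¹ ∈ Subgroup.center F := fun q => by
    rw [hQ₀, hcen, hval]
    exact ⟨fun h => h.2, fun h => ⟨⟨(q : ↥C), q.2, rfl⟩, h⟩⟩
  have key := CfsgLib.Techniques.extraspecial_involution_commutators hE a ha ha1
  constructor
  · rw [hT]
    ext x
    constructor
    · rintro ⟨t, ht, rfl⟩
      obtain ⟨h1, h2⟩ := (key t).1 ht
      refine ⟨⟨φ t, (hQ0mem t).2 h1⟩, Subgroup.mem_center_iff.2 fun y => Subtype.ext ?_, rfl⟩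
      obtain ⟨hyQ, -⟩ := (hQ₀ _).1 y.2
      obtain ⟨r, hr, hre⟩ := hyQ
      have hy : φ ⟨r, hr⟩ = (y : G) := hre
      have := h2 ⟨r, hr⟩ ((hQ0mem _).1 (hy ▸ y.2))
      show (y : G) * φ t = φ t * (y : G)
      rw [← hy, ← map_mul, ← map_mul, this]
    · rintro ⟨⟨x, hx⟩, hxc, rfl⟩
      obtain ⟨hxQ, -⟩ := (hQ₀ _).1 hx
      obtain ⟨r, hr, hre⟩ := hxQ
      have hxr : φ ⟨r, hr⟩ = x := hre
      refine ⟨⟨r, hr⟩, (key _).2 ⟨(hQ0mem _).1 (hxr ▸ hx), fun s hs => hφi ?_⟩, hxr⟩
      rw [map_mul, map_mul, hxr]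
      exact congrArg Subtype.val (Subgroup.mem_center_iff.1 hxc ⟨φ s, (hQ0mem s).2 hs⟩)
  · intro hle
    obtain ⟨q, hq, hqn⟩ := SetLike.not_le_iff_exists.1 hle
    obtain ⟨hqQ, hqz⟩ := (hQ₀ q).1 hq
    obtain ⟨i, hi⟩ := Subgroup.mem_zpowers_iff.1 hqz
    have hz2 : z ^ (2 : ℤ) = 1 := by exact_mod_cast hz ▸ pow_orderOf_eq_one z
    refine ⟨q, hqQ, ?_⟩
    have hzα : α * z = z * α := Subgroup.mem_centralizer_singleton_iff.1 hαC
    rcases Int.even_or_odd' i with ⟨j, rfl | rfl⟩
    · rw [zpow_mul, hz2, one_zpow] at hi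
      refine absurd (Subgroup.mem_sup_left
        (Subgroup.mem_inf.2 ⟨hqQ, Subgroup.mem_centralizer_singleton_iff.2 ?_⟩)) hqn
      exact (mul_inv_eq_iff_eq_mul.1 (mul_inv_eq_one.1 hi.symm)).symm
    · rw [zpow_add, zpow_mul, hz2, one_zpow, one_mul, zpow_one] at hi
      have hzi : z⁻¹ = z := inv_eq_of_mul_eq_one_left (by rw [← pow_two, ← hz, pow_orderOf_eq_one])
      have h2 : q * α⁻¹ * q⁻¹ = α⁻¹ * z := by rw [hi]; group
      have hαi : α⁻¹ = α := inv_eq_of_mul_eq_one_left (by rw [← pow_two, ← hα, pow_orderOf_eq_one])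
      rwa [hαi] at h2

end Cfsg.Agent.S1784
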