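import Cfsg.Statements.S1785
import Cfsg.Agent.Lib.Techniques.TwoGroupChain

set_option autoImplicit false
open Cfsg

namespace Cfsg.Agent.S1785

/-- Let X be a finite 2-group having a normal elementary abelian subgroup of order at least 32. Then (a) for any two elementary abelian subgroups A, B of X of order 8 there is a chain A = A₁, A₂, …, Aₙ = B of elementary abelian subgroups of order 8 in which consecutive members commute elementwise; and (b) every elementary abelian subgroup of X of order 4 is contained in an elementary abelian subgroup of order 8. -/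
theorem result {X : Type*} [Group X] [Finite X]
    (hX : IsPGroup 2 X) (E : Subgroup X) [E.Normal] (hE : Cfsg.IsElementaryAbelian 2 E) (hE32 : 32 ≤ Nat.card ↥E) :
    (∀ A B : Subgroup X, Cfsg.IsElementaryAbelian 2 A → Nat.card ↥A = 8 → Cfsg.IsElementaryAbelian 2 B → Nat.card ↥B = 8 →
        Relation.ReflTransGen
          (fun C D : Subgroup X => Cfsg.IsElementaryAbelian 2 C ∧ Nat.card ↥C = 8 ∧ Cfsg.IsElementaryAbelian 2 D ∧ Nat.card ↥D = 8 ∧ ⁅C, D⁆ = ⊥)
          A B) ∧
      (∀ V : Subgroup X, Cfsg.IsElementaryAbelian 2 V → Nat.card ↥V = 4 →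
        ∃ A : Subgroup X, V ≤ A ∧ Cfsg.IsElementaryAbelian 2 A ∧ Nat.card ↥A = 8) := by
  have hext : ∀ (m : ℕ) (S T : Subgroup X), 8 - Nat.card S ≤ m → Cfsg.IsElementaryAbelian 2 T → S ≤ T →
      Nat.card S ≤ 8 → 8 ≤ Nat.card T → ∃ R : Subgroup X, S ≤ R ∧ R ≤ T ∧
        Cfsg.IsElementaryAbelian 2 R ∧ Nat.card R = 8 := by
    intro m
    induction m with
    | zero =>
      intro S T hm hT hST h1 _
      exact ⟨S, le_rfl, hST, CfsgLib.Techniques.elementary_mono hT hST, by omega⟩
    | succ m ih =>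
      intro S T hm hT hST h1 h2
      by_cases h8 : Nat.card S = 8
      · exact ⟨S, le_rfl, hST, CfsgLib.Techniques.elementary_mono hT hST, h8⟩
      obtain ⟨a, haT, haS⟩ := SetLike.exists_of_lt (lt_of_le_of_ne hST fun h => by
        rw [h] at h1 h8; omega)
      obtain ⟨hel, hc⟩ := CfsgLib.Techniques.elementary_grow
        (CfsgLib.Techniques.elementary_mono hT hST) (hT.2 a haT) (fun s hs => congrArg Subtype.val
          (hT.1.is_comm.comm ⟨s, hST hs⟩ ⟨a, haT⟩)) haS
      obtain ⟨k, hk⟩ := CfsgLib.Techniques.exists_pow_card hX S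
      have hk3 : k < 3 := (Nat.pow_lt_pow_iff_right (by norm_num : 1 < 2)).1
        (show 2 ^ k < 2 ^ 3 by rw [← hk]; omega)
      obtain ⟨R, hR1, hR2, hR⟩ := ih (S ⊔ Subgroup.zpowers a) T (by have := Nat.card_pos (α := S); rw [hc]; omega) hT
        (sup_le hST (Subgroup.zpowers_le.2 haT))
        (by rw [hc, hk]; interval_cases k <;> norm_num) h2
      exact ⟨R, le_sup_left.trans hR1, hR2, hR⟩
  have hcomm : ∀ {C D T : Subgroup X}, Cfsg.IsElementaryAbelian 2 T → C ≤ T → D ≤ T → ⁅C, D⁆ = ⊥ := by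
    intro C D T hT hC hD
    rw [Subgroup.commutator_eq_bot_iff_le_centralizer]
    exact fun c hc => Subgroup.mem_centralizer_iff.2 fun d hd =>
      congrArg Subtype.val (hT.1.is_comm.comm ⟨d, hD hd⟩ ⟨c, hC hc⟩)
  constructor
  · let r := fun C D : Subgroup X => Cfsg.IsElementaryAbelian 2 C ∧ Nat.card ↥C = 8 ∧
      Cfsg.IsElementaryAbelian 2 D ∧ Nat.card ↥D = 8 ∧ ⁅C, D⁆ = ⊥
    have hsymm : Symmetric r := fun C D ⟨h1, h2, h3, h4, h5⟩ =>
      ⟨h3, h4, h1, h2, Subgroup.commutator_comm C D ▸ h5⟩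
    have hreach : ∀ (m : ℕ) (A : Subgroup X), 8 - Nat.card ↥(A ⊓ E) ≤ m →
        Cfsg.IsElementaryAbelian 2 A → Nat.card A = 8 →
        ∃ A', A' ≤ E ∧ Cfsg.IsElementaryAbelian 2 A' ∧ Nat.card A' = 8 ∧ Relation.ReflTransGen r A A' := by
      intro m
      induction m with
      | zero =>
        intro A hm hA hA8
        refine ⟨A, ?_, hA, hA8, .refl⟩
        exact (Subgroup.eq_of_le_of_card_ge (inf_le_left : A ⊓ E ≤ A) (by omega)).symm.le.trans
          inf_le_right
      | succ m ih =>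
        intro A hm hA hA8
        by_cases hAE : A ≤ E
        · exact ⟨A, hAE, hA, hA8, .refl⟩
        obtain ⟨f, hfE, hfA, hf⟩ := CfsgLib.Techniques.exists_centralizing_outside hX hE hE32 hA hA8 hAE
        obtain ⟨hbig, hbigc⟩ := CfsgLib.Techniques.elementary_grow hA (hE.2 f hfE) hf hfA
        obtain ⟨hS, hSc⟩ := CfsgLib.Techniques.elementary_grow
          (CfsgLib.Techniques.elementary_mono hA (inf_le_left : A ⊓ E ≤ A)) (hE.2 f hfE)
          (fun s hs => hf s hs.1) fun h => hfA h.1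
        have hlt : Nat.card ↥(A ⊓ E) < 8 := by
          by_contra h
          exact hAE ((Subgroup.eq_of_le_of_card_ge (inf_le_left : A ⊓ E ≤ A) (by omega)).symm.le.trans
            inf_le_right)
        obtain ⟨k, hk⟩ := CfsgLib.Techniques.exists_pow_card hX (A ⊓ E)
        have hk3 : k < 3 := (Nat.pow_lt_pow_iff_right (by norm_num : 1 < 2)).1
          (show 2 ^ k < 2 ^ 3 by rw [← hk]; omega)
        obtain ⟨A', hSA', hA'le, hA', hA'8⟩ := hext 8 _ _ (by omega) hbig
          (sup_le_sup_right inf_le_left _) (by rw [hSc, hk]; interval_cases k <;> norm_num)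
          (by rw [hbigc, hA8]; norm_num)
        have h1 : (A ⊓ E) ⊔ Subgroup.zpowers f ≤ A' ⊓ E :=
          le_inf hSA' (sup_le inf_le_right (Subgroup.zpowers_le.2 hfE))
        have h2 := Nat.le_of_dvd Nat.card_pos (Subgroup.card_dvd_of_le h1)
        rw [hSc] at h2
        have h3 := Nat.card_pos (α := ↥(A ⊓ E))
        obtain ⟨A'', h4, h5, h6, h7⟩ := ih A' (by omega) hA' hA'8
        exact ⟨A'', h4, h5, h6, .head ⟨hA, hA8, hA', hA'8, hcomm hbig le_sup_left hA'le⟩ h7⟩
    have hrev : ∀ {C D : Subgroup X}, Relation.ReflTransGen r C D → Relation.ReflTransGen r D C := by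
      intro C D h
      induction h with
      | refl => exact .refl
      | tail _ hbc ih => exact .head (hsymm hbc) ih
    intro A B hA hA8 hB hB8
    obtain ⟨A', hA'E, hA', hA'8, h1⟩ := hreach 8 A (by omega) hA hA8
    obtain ⟨B', hB'E, hB', hB'8, h2⟩ := hreach 8 B (by omega) hB hB8
    refine h1.trans (.head ⟨hA', hA'8, hB', hB'8, hcomm hE hA'E hB'E⟩ ?_)
    exact hrev h2
  · intro V hV hV4
    obtain ⟨a, haV, ha1⟩ := (Subgroup.bot_or_exists_ne_one V).resolve_left fun h => by
      rw [h, Subgroup.card_bot] at hV4; omega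
    obtain ⟨hza, hzac⟩ := CfsgLib.Techniques.elementary_grow
      (CfsgLib.Techniques.elementary_mono hV (bot_le : ⊥ ≤ V)) (hV.2 a haV)
      (fun s hs => by simp [Subgroup.mem_bot.1 hs]) fun h => ha1 (Subgroup.mem_bot.1 h)
    rw [bot_sup_eq, Subgroup.card_bot, one_mul] at hzac
    obtain ⟨b, hbV, hb⟩ := SetLike.exists_of_lt (lt_of_le_of_ne (Subgroup.zpowers_le.2 haV) fun h => by
      rw [h, hV4] at hzac; omega)
    rw [bot_sup_eq] at hza
    obtain ⟨hab, habc⟩ := CfsgLib.Techniques.elementary_grow hza (hV.2 b hbV)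
      (fun s hs => congrArg Subtype.val (hV.1.is_comm.comm ⟨s, Subgroup.zpowers_le.2 haV hs⟩ ⟨b, hbV⟩)) hb
    have hVeq : Subgroup.zpowers a ⊔ Subgroup.zpowers b = V :=
      Subgroup.eq_of_le_of_card_ge (sup_le (Subgroup.zpowers_le.2 haV) (Subgroup.zpowers_le.2 hbV))
        (by rw [habc, hzac, hV4])
    by_cases hVE : V ≤ E
    · obtain ⟨R, hR1, -, hR, hR8⟩ := hext 8 V E (by omega) hE hVE (by omega) (by omega)
      exact ⟨R, hR1, hR, hR8⟩
    set W := E ⊓ Subgroup.centralizer ({a} : Set X) ⊓ Subgroup.centralizer ({b} : Set X) with hW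
    have hW4 := CfsgLib.Techniques.card_fix_two hX hE hE32 (hV.2 a haV) (hV.2 b hbV)
      (congrArg Subtype.val (hV.1.is_comm.comm ⟨a, haV⟩ ⟨b, hbV⟩))
    obtain ⟨w, hw, hwV⟩ := SetLike.not_le_iff_exists.1 (show ¬ W ≤ V from fun h => hVE
      ((Subgroup.eq_of_le_of_card_ge h (by rw [hV4]; exact hW4)).symm.le.trans
        (inf_le_left.trans inf_le_left)))
    have hc : ∀ s ∈ V, s * w = w * s := by
      have : V ≤ Subgroup.centralizer ({w} : Set X) := by
        rw [← hVeq]
        exact sup_le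
          (Subgroup.zpowers_le.2 (Subgroup.mem_centralizer_singleton_iff.2
            (Subgroup.mem_centralizer_singleton_iff.1 hw.1.2).symm))
          (Subgroup.zpowers_le.2 (Subgroup.mem_centralizer_singleton_iff.2
            (Subgroup.mem_centralizer_singleton_iff.1 hw.2).symm))
      exact fun s hs => Subgroup.mem_centralizer_singleton_iff.1 (this hs)
    obtain ⟨hel, hc8⟩ := CfsgLib.Techniques.elementary_grow hV (hE.2 w hw.1.1) hc hwV
    exact ⟨_, le_sup_left, hel, by rw [hc8, hV4]⟩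

end Cfsg.Agent.S1785
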