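import Cfsg.Statements.S1786
import Cfsg.Agent.Lib.Techniques.TITwoSL2

set_option autoImplicit false
open Cfsg
open scoped commutatorElement

namespace Cfsg.Agent.S1786

/-- Let G be a finite group, V an elementary abelian 2-subgroup of G and M the normalizer of V; write Q for the largest normal 2-subgroup of M. Suppose (1) the generalized Fitting subgroup of M equals Q; (2) V is a maximal abelian normal subgroup of M; (3) every conjugate of V equals V or meets V trivially, and for some g ∈ G the conjugate V' = g V g⁻¹ is different from V and contained in Q. Let P be the centralizer of V in Q, W the subgroup generated by V and V', and H the subgroup generated by P and g P g⁻¹. Then: (a) V is contained in g Q g⁻¹; (b) every non-identity element of W lies in exactly one conjugate of V contained in W, H normalizes W, and H modulo the centralizer of W in H is isomorphic to the special linear group of dimension 2 over the field with |V| elements; (c) P = Q, and V equals the Frattini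 subgroup, the centre and the commutator subgroup of Q. -/
theorem result {G : Type*} [Group G] [Finite G] (V : Subgroup G)
    (hV : Cfsg.IsElementaryAbelian 2 V)
    (h1 : (Cfsg.generalizedFittingSubgroup ↥(Subgroup.normalizer (V : Set G))).map (Subgroup.normalizer (V : Set G)).subtype =
      (Cfsg.pCore 2 ↥(Subgroup.normalizer (V : Set G))).map (Subgroup.normalizer (V : Set G)).subtype)
    (h2 : ∀ A : Subgroup G, V ≤ A → A ≤ Subgroup.normalizer (V : Set G) → IsMulCommutative ↥A →
      (∀ m ∈ Subgroup.normalizer (V : Set G), ∀ a ∈ A, m * a * m⁻¹ ∈ A) → A = V)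
    (hti : ∀ x : G, V.map (MulAut.conj x).toMonoidHom = V ∨ V.map (MulAut.conj x).toMonoidHom ⊓ V = ⊥)
    (g : G) (hg : V.map (MulAut.conj g).toMonoidHom ≠ V)
    (hgQ : V.map (MulAut.conj g).toMonoidHom ≤ (Cfsg.pCore 2 ↥(Subgroup.normalizer (V : Set G))).map (Subgroup.normalizer (V : Set G)).subtype) :
    let Q : Subgroup G := (Cfsg.pCore 2 ↥(Subgroup.normalizer (V : Set G))).map (Subgroup.normalizer (V : Set G)).subtype
    let P : Subgroup G := Q ⊓ Subgroup.centralizer (V : Set G)
    let W : Subgroup G := V ⊔ V.map (MulAut.conj g).toMonoidHom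
    let H : Subgroup G := P ⊔ P.map (MulAut.conj g).toMonoidHom
    V ≤ Q.map (MulAut.conj g).toMonoidHom ∧
      (∀ w ∈ W, w ≠ 1 → ∃! U : Subgroup G, (∃ x : G, U = V.map (MulAut.conj x).toMonoidHom) ∧ U ≤ W ∧ w ∈ U) ∧
      H ≤ Subgroup.normalizer (W : Set G) ∧
      (∀ hN : ((Subgroup.centralizer (W : Set G)).subgroupOf H).Normal, ∃ (F : Type) (_ : Field F) (_ : Fintype F), Fintype.card F = Nat.card ↥V ∧
        Nonempty (↥H ⧸ (Subgroup.centralizer (W : Set G)).subgroupOf H ≃* Matrix.SpecialLinearGroup (Fin 2) F)) ∧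
      P = Q ∧ (frattini ↥Q).map Q.subtype = V ∧ (Subgroup.center ↥Q).map Q.subtype = V ∧ (commutator ↥Q).map Q.subtype = V := by
  intro Q P W H
  have hg' : CfsgLib.Techniques.TITwoPair.cj g V ≠ V := hg
  have hchar : CfsgLib.LocalEvenB.HasCharP 2 (Subgroup.normalizer (V : Set G)) := by
    have e := Subgroup.map_injective (Subgroup.normalizer (V : Set G)).subtype_injective h1
    rw [CfsgLib.LocalEvenB.hasCharP_iff, ← e]
    exact CfsgLib.Components.centralizer_gFitting_le
  have hTI : CfsgLib.Techniques.TITwoPair.IsTI V :=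
    { comm := fun a ha b hb => congrArg Subtype.val (hV.1.is_comm.comm ⟨a, ha⟩ ⟨b, hb⟩)
      sq := fun a ha => by rw [← pow_two]; exact hV.2 a ha
      char := hchar
      maxi := fun A h1 h2' hc hn => h2 A h1 h2' ⟨⟨fun a b => Subtype.ext (hc a a.2 b b.2)⟩⟩ hn
      ti := hti }
  have hp : CfsgLib.Techniques.TITwoPair.IsPair V (V.map (MulAut.conj g).toMonoidHom) := ⟨⟨g, rfl⟩, hg, hgQ⟩
  have hU := hp.tiU hTI
  have hQP : Q = P := hp.q_eq hTI
  have hp2 : CfsgLib.Techniques.TITwoPair.P (V.map (MulAut.conj g).toMonoidHom) = P.map (MulAut.conj g).toMonoidHom :=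
    CfsgLib.Techniques.TITwoPair.p_cj g V
  obtain ⟨hHn, K, iF, iFin, hcard, hiso⟩ := hp.exists_sl2 hTI
  rw [hp2] at hHn hiso
  refine ⟨?_, ?_, hHn, fun hN => ⟨K, iF, iFin, hcard, hiso hN⟩, hQP.symm, ?_, ?_, ?_⟩
  · intro v hv
    have := hp.le_p' hTI hv
    rw [hp2] at this
    exact Subgroup.map_mono inf_le_left this
  · intro w hw hw1
    obtain ⟨v, hv, u, hu, rfl⟩ := (hp.mem_sup hTI).1 hw
    have key : ∀ U : Subgroup G, (∃ x : G, U = V.map (MulAut.conj x).toMonoidHom) → U ≤ W → v * u ∈ U →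
        ∃! U : Subgroup G, (∃ x : G, U = V.map (MulAut.conj x).toMonoidHom) ∧ U ≤ W ∧ v * u ∈ U := by
      rintro _ ⟨x, rfl⟩ hle hmem
      refine ⟨_, ⟨⟨x, rfl⟩, hle, hmem⟩, ?_⟩
      rintro _ ⟨⟨y, rfl⟩, -, hy⟩
      exact hTI.eq_cj_of_mem hw1 hy hmem
    rcases eq_or_ne u 1 with hu1 | hu1
    · exact key V ⟨1, (CfsgLib.Techniques.TITwoPair.cj_one V).symm⟩ le_sup_left (by rw [hu1, mul_one]; exact hv)
    · obtain ⟨x, hx, e⟩ := hp.span hTI hu hu1 hv
      refine key _ ⟨x * g, CfsgLib.Techniques.TITwoPair.cj_cj x g V⟩ ?_ (e ▸ CfsgLib.Techniques.TITwoPair.conj_mem_cj hu)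
      exact (CfsgLib.Techniques.TITwoPair.cj_mono x le_sup_right).trans
        (CfsgLib.Techniques.TITwoPair.cj_eq_iff.2 (hp.p_le_norm_sup hTI hx)).le
  all_goals
    have hVQ : V ≤ Q := hTI.le_q
    have hQp : IsPGroup 2 Q := CfsgLib.LocalEvenB.isPGroup_pCoreOf _
    have hmemP : ∀ a : Q, (a : G) ∈ P := fun a => hQP.le a.2
    have hcl : commutator Q ≤ V.subgroupOf Q := by
      rw [commutator_def, Subgroup.commutator_le]
      exact fun a _ b _ => Subgroup.mem_subgroupOf.2 (hTI.br_mem (hmemP a) (hmemP b))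
    have hcomm : (commutator Q).map Q.subtype = V := by
      refine le_antisymm (by rw [← Subgroup.map_subgroupOf_eq_of_le hVQ]; exact Subgroup.map_mono hcl) fun v hv => ?_
      obtain ⟨u, hu, hu1⟩ := hp.exists_ne
      obtain ⟨x, hx, e⟩ := hp.span hTI hu hu1 hv
      refine ⟨⁅(⟨x, hQP.ge hx⟩ : Q), ⟨u, hgQ hu⟩⁆, Subgroup.commutator_mem_commutator (Subgroup.mem_top _) (Subgroup.mem_top _), ?_⟩
      show ⁅x, u⁆ = v
      rw [commutatorElement_def, e, mul_inv_cancel_right]
  · haveI : Fact (Nat.Prime 2) := ⟨Nat.prime_two⟩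
    haveI : (V.subgroupOf Q).Normal := Subgroup.Normal.of_commutator_le _ hcl
    refine le_antisymm ?_ ?_
    · rw [← Subgroup.map_subgroupOf_eq_of_le hVQ]
      refine Subgroup.map_mono (CfsgLib.PGroups.frattini_le_of_elementary (p := 2) hcl fun a => ?_)
      rw [Subgroup.mem_subgroupOf, SubgroupClass.coe_pow, pow_two]
      exact hTI.class_two.2 _ (hmemP a)
    · exact hcomm.ge.trans (Subgroup.map_mono (CfsgLib.PGroups.commutator_le_frattini' hQp))
  · refine le_antisymm ?_ fun v hv => ?_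
    · rintro _ ⟨a, ha, rfl⟩
      exact hTI.mem_of_central (hmemP a) fun y hy =>
        congrArg Subtype.val (Subgroup.mem_center_iff.1 ha ⟨y, hQP.ge hy⟩).symm
    · exact ⟨⟨v, hVQ hv⟩, Subgroup.mem_center_iff.2 fun a => Subtype.ext
        (CfsgLib.Techniques.TITwoPair.IsTI.comm_p (hmemP a) hv), rfl⟩
  · exact hcomm

end Cfsg.Agent.S1786
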