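import Cfsg.Statements.S1850
import Cfsg.Agent.Lib.Components.CharTwoLocal

set_option autoImplicit false
open Cfsg

namespace Cfsg.Agent.S1850

open CfsgLib.Components

theorem key {G : Type*} [Group G] [Finite G] (hQ : Cfsg.IsOfEvenCharacteristic G) (T : Sylow 2 G)
    (U : Subgroup G) (hU : IsPGroup 2 ↥U)
    (hZ : U ⊓ ((T : Subgroup G) ⊓ Subgroup.centralizer ((T : Subgroup G) : Set G)) ≠ ⊥) :
    Subgroup.normalizer (U : Set G) ∈ Cfsg.calHe G := by
  haveI : Fact (Nat.Prime 2) := ⟨Nat.prime_two⟩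
  set Z := U ⊓ ((T : Subgroup G) ⊓ Subgroup.centralizer ((T : Subgroup G) : Set G)) with hZdef
  have hZp : IsPGroup 2 Z := hU.to_le inf_le_left
  haveI : Nontrivial Z := (Subgroup.nontrivial_iff_ne_bot _).mpr hZ
  obtain ⟨k, hk⟩ := hZp.exists_card_eq
  have h2 : 2 ∣ Nat.card Z := by
    rcases Nat.eq_zero_or_pos k with rfl | hpos
    · exact absurd ((Subgroup.card_eq_one).mp (by rw [hk, pow_zero])) hZ
    · exact hk ▸ dvd_pow_self 2 hpos.ne'
  obtain ⟨z, hz⟩ := exists_prime_orderOf_dvd_card' (G := Z) 2 h2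
  set A := Subgroup.zpowers (z : G) with hA
  have hAp : IsPGroup 2 A :=
    IsPGroup.of_card (n := 1) (by rw [Nat.card_zpowers, Subgroup.orderOf_coe, hz, pow_one])
  have hA1 : A ≠ ⊥ := by
    rw [hA, Ne, Subgroup.zpowers_eq_bot]
    intro h
    have : z = 1 := Subtype.ext h
    rw [this, orderOf_one] at hz
    exact absurd hz (by norm_num)
  have hN : Subgroup.normalizer (A : Set G) = Subgroup.centralizer (A : Set G) := by
    refine le_antisymm (fun g hg => ?_) (Subgroup.centralizer_le_normalizer _)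
    obtain ⟨j, hj⟩ := (Subgroup.mem_normalizer_iff.mp hg (z : G)).mp (Subgroup.mem_zpowers _)
    have hj' : (z : G) ^ j = g * z * g⁻¹ := hj
    rw [← zpow_mod_orderOf, Subgroup.orderOf_coe, hz] at hj'
    have hcomm : g * (z : G) = z * g := by
      rcases Int.emod_two_eq_zero_or_one j with h | h
      · rw [show ((2 : ℕ) : ℤ) = 2 from rfl, h, zpow_zero, eq_comm, mul_inv_eq_one,
          mul_eq_left] at hj'
        rw [hj', mul_one, one_mul]
      · rw [show ((2 : ℕ) : ℤ) = 2 from rfl, h, zpow_one] at hj'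
        exact (eq_mul_inv_iff_mul_eq.mp hj').symm
    refine Subgroup.mem_centralizer_iff.mpr ?_
    rintro _ ⟨n, rfl⟩
    exact ((show Commute g (z : G) from hcomm).zpow_right n).symm.eq
  have hT : (T : Subgroup G) ≤ Subgroup.normalizer (A : Set G) := by
    refine le_trans ?_ (Subgroup.centralizer_le_normalizer _)
    rw [hA, Subgroup.le_centralizer_iff, Subgroup.zpowers_le]
    exact z.2.2.2
  have hc := hQ _ ⟨A, hAp, hA1, rfl⟩ ⟨T, hT⟩
  rw [Cfsg.IsOfCharacteristicTwo, hN] at hc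
  exact gFitting_eq_pCore_of_charP
    (normalizer_charP_of_le hc hU (Subgroup.zpowers_le.mpr z.2.1))

/-- Let G be a non-abelian finite simple QTKE-group and T a Sylow 2-subgroup of G. If U is a nontrivial 2-subgroup of G with U ∩ Z(T) ≠ 1, then F*(N_G(U)) = O₂(N_G(U)). -/
theorem result {G : Type*} [Group G] [Finite G] [IsSimpleGroup G]
    (hG : ¬ IsMulCommutative G) (hQ : Cfsg.IsQTKE G) (T : Sylow 2 G) (U : Subgroup G)
    (hU : IsPGroup 2 ↥U) (hZ : U ⊓ ((T : Subgroup G) ⊓ Subgroup.centralizer ((T : Subgroup G) : Set G)) ≠ ⊥) :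
    Subgroup.normalizer (U : Set G) ∈ Cfsg.calHe G := by
  exact key hQ.2.2 T U hU hZ

end Cfsg.Agent.S1850
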