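import Cfsg.Statements.S1851
import Cfsg.Agent.Lib.Components.CharTwoLocal
import Cfsg.Agent.Lib.LocalEven.PClosed

set_option autoImplicit false
open Cfsg

namespace Cfsg.Agent.S1851

open CfsgLib.Components
open scoped Pointwise commutatorElement

variable {G : Type*} [Group G] [Finite G]

/-- A perfect subnormal subgroup is normalized by a normal `2`-subgroup. -/
theorem perfect_subnormal_normalized {L R : Subgroup G} (hLp : ⁅L, L⁆ = L) (hL : L.IsSubnormal)
    [R.Normal] (hR : IsPGroup 2 R) : R ≤ Subgroup.normalizer (L : Set G) := by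
  haveI : Fact (Nat.Prime 2) := ⟨Nat.prime_two⟩
  set M := L ⊔ R with hM
  have hLM : L ≤ M := le_sup_left
  obtain ⟨k, hk⟩ := hR.exists_card_eq
  have hidx : ∃ j, (L.subgroupOf M).index = 2 ^ j := by
    have e1 := CfsgLib.Core.card_sup_mul_card_inf L R Subgroup.le_normalizer_of_normal
    have e2 : Nat.card L * L.relIndex M = Nat.card M := by
      rw [← Subgroup.relIndex_bot_left L, Subgroup.relIndex_mul_relIndex _ _ _ bot_le hLM,
        Subgroup.relIndex_bot_left]
    have e3 : L.relIndex M * Nat.card ↥(L ⊓ R) = Nat.card R := by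
      refine Nat.eq_of_mul_eq_mul_left (Nat.card_pos (α := L)) ?_
      rw [← mul_assoc, e2, hM, e1]
    obtain ⟨j, -, hj⟩ := (Nat.dvd_prime_pow Nat.prime_two).mp (hk ▸ Dvd.intro _ e3)
    exact ⟨j, hj⟩
  have h1 : Cfsg.pResidual 2 M ≤ L.subgroupOf M :=
    CfsgLib.LocalEven.pResidual_le_of_subnormal hL.subgroupOf hidx
  have h2 : L.subgroupOf M ≤ Cfsg.pResidual 2 M := by
    refine perfect_le_of_coprime (p := 2) ?_ fun x _ hx =>
      CfsgLib.Transfer.mem_pResidual_of_coprime hx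
    apply Subgroup.map_injective M.subtype_injective
    rw [Subgroup.map_commutator, map_subtype_subgroupOf hLM, hLp]
  haveI : (L.subgroupOf M).Normal := by
    rw [show L.subgroupOf M = Cfsg.pResidual 2 M from le_antisymm h2 h1]
    exact CfsgLib.Transfer.pResidual_normal
  exact le_sup_right.trans ((Subgroup.normal_subgroupOf_iff_le_normalizer hLM).mp inferInstance)

/-- A perfect group acting on an abelian group: `⁅Z, L⁆ = ⁅Z, L, L⁆`. -/
theorem commutator_idem_of_perfect {Z L : Subgroup G} [IsMulCommutative Z]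
    (hZ : L ≤ Subgroup.normalizer (Z : Set G)) (hL : ⁅L, L⁆ = L) :
    ⁅Z, L⁆ ≤ ⁅⁅Z, L⁆, L⁆ := by
  set B := ⁅⁅Z, L⁆, L⁆ with hB
  have hZL : ⁅Z, L⁆ ≤ Z := Subgroup.le_normalizer_iff_commutator_le_left.mp hZ
  rw [Subgroup.commutator_le]
  intro z hz l hl
  haveI : (B.subgroupOf Z).Normal := Subgroup.normal_of_isMulCommutative _
  have hmem : ∀ a ∈ L, ⁅z, a⁆ ∈ Z := fun a ha => hZL (Subgroup.commutator_mem_commutator hz ha)
  let f : L →* Z ⧸ B.subgroupOf Z :=
    { toFun := fun a => QuotientGroup.mk' _ ⟨⁅z, (a : G)⁆, hmem a a.2⟩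
      map_one' := by
        rw [show (⟨⁅z, ((1 : L) : G)⁆, hmem _ (1 : L).2⟩ : Z) = 1 from Subtype.ext (by simp), map_one]
      map_mul' := fun a b => by
        set w : G := ⁅z, (b : G)⁆ with hw
        have hwV : w ∈ ⁅Z, L⁆ := Subgroup.commutator_mem_commutator hz b.2
        have hd : (a : G) * w * (a : G)⁻¹ * w⁻¹ ∈ B := by
          have h1 := inv_mem (Subgroup.commutator_mem_commutator hwV a.2 : ⁅w, (a : G)⁆ ∈ B)
          rwa [show (⁅w, (a : G)⁆ : G)⁻¹ = (a : G) * w * (a : G)⁻¹ * w⁻¹ by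
            rw [commutatorElement_def]; group] at h1
        have hdZ : (a : G) * w * (a : G)⁻¹ * w⁻¹ ∈ Z :=
          mul_mem ((Subgroup.mem_normalizer_iff.mp (hZ a.2) w).mp (hZL hwV)) (inv_mem (hZL hwV))
        have e : (⟨⁅z, ((a * b : L) : G)⁆, hmem _ (a * b).2⟩ : Z) =
            ⟨⁅z, (a : G)⁆, hmem a a.2⟩ * (⟨_, hdZ⟩ * ⟨w, hZL hwV⟩) := by
          refine Subtype.ext ?_
          simp only [Subgroup.coe_mul, hw, commutatorElement_mul_right_eq_mul_conj]
          group
        rw [e, map_mul, map_mul, show QuotientGroup.mk' (B.subgroupOf Z) ⟨_, hdZ⟩ = 1 from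
          (QuotientGroup.eq_one_iff _).mpr hd, one_mul] }
  have hab : ∀ a b : L, f a * f b = f b * f a := by
    intro a b
    obtain ⟨x, hx⟩ := QuotientGroup.mk'_surjective _ (f a)
    obtain ⟨y, hy⟩ := QuotientGroup.mk'_surjective _ (f b)
    rw [← hx, ← hy, ← map_mul, ← map_mul,
      show x * y = y * x from mul_comm' x y]
  have hker : f.ker = ⊤ := by
    refine Subgroup.map_injective L.subtype_injective (le_antisymm ?_ ?_)
    · exact Subgroup.map_mono le_top
    · rw [← MonoidHom.range_eq_map, Subgroup.range_subtype]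
      conv_lhs => rw [← hL]
      rw [← Subgroup.map_subtype_commutator]
      refine Subgroup.map_mono ?_
      rw [commutator_def, Subgroup.commutator_le]
      intro a _ b _
      rw [MonoidHom.mem_ker, map_commutatorElement]
      exact commutatorElement_eq_one_iff_mul_comm.mpr (hab a b)
  exact Subgroup.mem_subgroupOf.mp ((QuotientGroup.eq_one_iff _).mp
    (MonoidHom.mem_ker.mp (hker.ge (Subgroup.mem_top ⟨l, hl⟩))))

/-- If `W` is a nontrivial `L`-perfect abelian `2`-group on which the `2`-group `R` acts commuting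
with `L`, then some such subgroup is centralized by `R`. -/
theorem exists_centralized {Z L R : Subgroup G} [IsMulCommutative Z] (hZp : IsPGroup 2 Z)
    (hRp : IsPGroup 2 R) (hZR : R ≤ Subgroup.normalizer (Z : Set G))
    (hcomm : ∀ w ∈ Z, ∀ r ∈ R, ∀ l ∈ L, ⁅l * w * l⁻¹, r⁆ = l * ⁅w, r⁆ * l⁻¹) :
    ∀ W : Subgroup G, W ≤ Z → W ≠ ⊥ → W ≤ ⁅W, L⁆ → R ≤ Subgroup.normalizer (W : Set G) →
      L ≤ Subgroup.normalizer (W : Set G) →
      ∃ W' ≤ W, W' ≠ ⊥ ∧ W' ≤ ⁅W', L⁆ ∧ ⁅W', R⁆ = ⊥ := by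
  haveI : Fact (Nat.Prime 2) := ⟨Nat.prime_two⟩
  intro W
  induction hn : Nat.card W using Nat.strong_induction_on generalizing W with
  | _ n ih =>
    intro hWZ hW1 hWL hWR hLW
    by_cases h0 : ⁅W, R⁆ = ⊥
    · exact ⟨W, le_rfl, hW1, hWL, h0⟩
    have hle : ⁅W, R⁆ ≤ W := Subgroup.le_normalizer_iff_commutator_le_left.mp hWR
    have hlt : ⁅W, R⁆ ≠ W := by
      intro e
      refine hW1 ?_
      set P := W ⊔ R with hP
      have hPp : IsPGroup 2 P := (hZp.to_le hWZ).to_sup_of_normal_left' hRp hWR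
      haveI := hPp.isNilpotent
      obtain ⟨m, hm⟩ := Subgroup.nilpotent_iff_lowerCentralSeries.mp
        (inferInstance : Group.IsNilpotent P)
      have hser : ∀ i, W.subgroupOf P ≤ (⊤ : Subgroup P).lowerCentralSeries i := by
        intro i
        induction i with
        | zero => rw [Subgroup.lowerCentralSeries_zero]; exact le_top
        | succ i ihi =>
          rw [Subgroup.lowerCentralSeries_succ]
          refine le_trans ?_ (Subgroup.commutator_mono ihi (le_top : (⊤ : Subgroup P) ≤ ⊤))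
          rw [← Subgroup.map_le_map_iff_of_injective P.subtype_injective,
            map_subtype_subgroupOf le_sup_left, Subgroup.map_commutator,
            map_subtype_subgroupOf le_sup_left, ← MonoidHom.range_eq_map, Subgroup.range_subtype]
          exact e.ge.trans (Subgroup.commutator_mono le_rfl le_sup_right)
      have h2 := (hser m).trans hm.le
      rw [le_bot_iff, Subgroup.subgroupOf_eq_bot, disjoint_iff, inf_eq_left.mpr le_sup_left] at h2
      exact h2
    have hc : Nat.card (⁅W, R⁆ : Subgroup G) < Nat.card W :=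
      Set.Finite.card_lt_card (Set.toFinite _) (lt_of_le_of_ne hle hlt : ⁅W, R⁆ < W)
    have hLn : L ≤ Subgroup.normalizer ((⁅W, R⁆ : Subgroup G) : Set G) := by
      intro l hl
      refine mem_normalizer_of_smul_eq_self (Subgroup.eq_of_le_of_card_ge ?_
        (Nat.card_congr (Subgroup.equivSMul (MulAut.conj l) (⁅W, R⁆ : Subgroup G)).toEquiv).le)
      rw [conj_smul_eq_map, Subgroup.map_le_iff_le_comap, Subgroup.commutator_le]
      intro w hw r hr
      show l * ⁅w, r⁆ * l⁻¹ ∈ ⁅W, R⁆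
      rw [← hcomm w (hWZ hw) r hr l hl]
      exact Subgroup.commutator_mem_commutator ((Subgroup.mem_normalizer_iff.mp (hLW hl) w).mp hw) hr
    have hmulhom : ∀ x ∈ W, ∀ y ∈ W, ∀ r ∈ R, ⁅x * y, r⁆ = ⁅y, r⁆ * ⁅x, r⁆ := by
      intro x hx y hy r hr
      have hc : x * ⁅y, r⁆ = ⁅y, r⁆ * x :=
        congrArg Subtype.val (mul_comm' (⟨x, hWZ hx⟩ : Z)
          ⟨⁅y, r⁆, hWZ (hle (Subgroup.commutator_mem_commutator hy hr))⟩)
      rw [commutatorElement_mul_left_eq_conj_mul, hc, mul_inv_cancel_right]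
    set B := ⁅⁅W, R⁆, L⁆ with hB
    have hperf : ⁅W, R⁆ ≤ B := by
      let S : Subgroup G :=
        { carrier := {x | x ∈ W ∧ ∀ r ∈ R, ⁅x, r⁆ ∈ B}
          one_mem' := ⟨one_mem _, fun r _ => by simp⟩
          mul_mem' := fun {a b} ha hb => ⟨mul_mem ha.1 hb.1, fun r hr => by
            rw [hmulhom a ha.1 b hb.1 r hr]; exact mul_mem (hb.2 r hr) (ha.2 r hr)⟩
          inv_mem' := fun {a} ha => ⟨inv_mem ha.1, fun r hr => by
            have := hmulhom a ha.1 a⁻¹ (inv_mem ha.1) r hr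
            rw [mul_inv_cancel, commutatorElement_one_left, eq_comm, mul_eq_one_iff_eq_inv] at this
            rw [this]; exact inv_mem (ha.2 r hr)⟩ }
      have hWS : W ≤ S := by
        refine hWL.trans ?_
        rw [Subgroup.commutator_le]
        intro w hw l hl
        refine ⟨Subgroup.le_normalizer_iff_commutator_le_left.mp hLW
          (Subgroup.commutator_mem_commutator hw hl), fun r hr => ?_⟩
        have hw' : l * w⁻¹ * l⁻¹ ∈ W := (Subgroup.mem_normalizer_iff.mp (hLW hl) _).mp (inv_mem hw)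
        rw [show ⁅w, l⁆ = w * (l * w⁻¹ * l⁻¹) by rw [commutatorElement_def]; group,
          hmulhom w hw _ hw' r hr, hcomm w⁻¹ (inv_mem (hWZ hw)) r hr l hl]
        have h1 := hmulhom w hw w⁻¹ (inv_mem hw) r hr
        rw [mul_inv_cancel, commutatorElement_one_left, eq_comm, mul_eq_one_iff_eq_inv] at h1
        rw [h1]
        have h2 : ⁅⁅w, r⁆, l⁆ ∈ B := Subgroup.commutator_mem_commutator
          (Subgroup.commutator_mem_commutator hw hr) hl
        set c := ⁅w, r⁆
        have hcW : c ∈ W := hle (Subgroup.commutator_mem_commutator hw hr)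
        have hcl : l * c⁻¹ * l⁻¹ ∈ W :=
          (Subgroup.mem_normalizer_iff.mp (hLW hl) _).mp (inv_mem hcW)
        have h3 : (l * c⁻¹ * l⁻¹) * c = c * (l * c⁻¹ * l⁻¹) :=
          congrArg Subtype.val (mul_comm' (⟨_, hWZ hcl⟩ : Z) ⟨c, hWZ hcW⟩)
        rw [h3]
        rw [commutatorElement_def] at h2
        simpa only [mul_assoc] using h2
      rw [Subgroup.commutator_le]
      exact fun w hw r hr => (hWS hw).2 r hr
    obtain ⟨W', h1, h2⟩ := ih _ (hn ▸ hc) _ rfl (hle.trans hWZ) h0 hperf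
      (Subgroup.normalizer_commutator_ge_right _ _) hLn
    exact ⟨W', h1.trans hle, h2⟩

theorem pCoreTwoOf_le_of_sylow (T : Sylow 2 G) {H : Subgroup G} (hTH : (T : Subgroup G) ≤ H) :
    Cfsg.pCoreTwoOf H ≤ (T : Subgroup G) := by
  haveI : Fact (Nat.Prime 2) := ⟨Nat.prime_two⟩
  rintro _ ⟨x, hx, rfl⟩
  exact CfsgLib.Core.pCore_le_sylow (T.subtype hTH) hx

theorem omega_elementary {Z : Subgroup G} [IsMulCommutative Z] :
    ∀ x ∈ Cfsg.omegaOne 2 Z, x ∈ Z ∧ x ^ 2 = 1 := by
  intro x hx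
  induction hx using Subgroup.closure_induction with
  | mem y hy => exact hy
  | one => exact ⟨one_mem _, one_pow 2⟩
  | mul a b _ _ ha hb =>
    refine ⟨mul_mem ha.1 hb.1, ?_⟩
    rw [(show Commute a b from congrArg Subtype.val (mul_comm' (⟨a, ha.1⟩ : Z) ⟨b, hb.1⟩)).mul_pow,
      ha.2, hb.2, mul_one]
  | inv a _ ha => exact ⟨inv_mem ha.1, by rw [inv_pow, ha.2, inv_one]⟩

theorem key (hQ : Cfsg.IsOfEvenCharacteristic G) (T : Sylow 2 G) {L : Subgroup G}
    (hL : L ∈ Cfsg.calLf (T : Subgroup G)) {K : Subgroup G}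
    (hK : K ∈ Cfsg.calL (T : Subgroup G)) (hLK : L ≤ K) : K ∈ Cfsg.calLf (T : Subgroup G) := by
  haveI : Fact (Nat.Prime 2) := ⟨Nat.prime_two⟩
  obtain ⟨⟨hLC, -, -⟩, -, hVL⟩ := hL
  obtain ⟨-, hLp', hLs, -⟩ := hLC
  have hK' := hK
  obtain ⟨⟨hK1, hKp', hKs, -⟩, -, hKO⟩ := hK
  set H := K ⊔ (T : Subgroup G) with hH
  set J := L ⊔ (T : Subgroup G) with hJ
  have hLp : ⁅L, L⁆ = L := by
    have := congrArg (Subgroup.map J.subtype) hLp'
    rwa [Subgroup.map_commutator, map_subtype_subgroupOf le_sup_left] at this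
  have hKp : ⁅K, K⁆ = K := by
    have := congrArg (Subgroup.map H.subtype) hKp'
    rwa [Subgroup.map_commutator, map_subtype_subgroupOf le_sup_left] at this
  have hTH : (T : Subgroup G) ≤ H := le_sup_right
  have hKH : K ≤ H := le_sup_left
  have hJH : J ≤ H := sup_le (hLK.trans hKH) hTH
  -- `H` has characteristic `2`
  set RH := Cfsg.pCoreTwoOf H with hRH
  have hRHne : RH ≠ ⊥ := by
    rw [hRH, Cfsg.pCoreTwoOf, Ne, Subgroup.map_eq_bot_iff_of_injective _ H.subtype_injective]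
    exact hKO
  have hRHp : IsPGroup 2 RH := (pCore_isPGroup 2).map _
  have hHN : H ≤ Subgroup.normalizer (RH : Set G) := by
    intro h hh
    haveI := pCore_normal (G := H) 2
    exact Subgroup.le_normalizer_map H.subtype
      ⟨⟨h, hh⟩, (Subgroup.normalizer_eq_top _).ge (Subgroup.mem_top _), rfl⟩
  have hM := hQ _ ⟨RH, hRHp, hRHne, rfl⟩ ⟨T, hTH.trans hHN⟩
  set M := Subgroup.normalizer (RH : Set G) with hMdef
  have hHc : Subgroup.centralizer (Cfsg.pCore 2 H : Set H) ≤ Cfsg.pCore 2 H := by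
    haveI := pCore_normal (G := M) 2
    have hQT : Cfsg.pCoreTwoOf M ≤ H := (pCoreTwoOf_le_of_sylow T (hTH.trans hHN)).trans hTH
    have hQn : H ≤ Subgroup.normalizer (Cfsg.pCoreTwoOf M : Set G) := fun h hh =>
      Subgroup.le_normalizer_map M.subtype
        ⟨⟨h, hHN hh⟩, (Subgroup.normalizer_eq_top _).ge (Subgroup.mem_top _), rfl⟩
    have hQle : (Cfsg.pCoreTwoOf M).subgroupOf H ≤ Cfsg.pCore 2 H :=
      le_pCore (Subgroup.normal_subgroupOf_of_le_normalizer hQn)
        (((pCore_isPGroup (G := M) 2).map _).comap_of_injective _ H.subtype_injective)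
    intro x hx
    have h1 : (⟨(x : G), hHN x.2⟩ : M) ∈ Cfsg.pCore 2 M := by
      refine hM (Subgroup.mem_centralizer_iff.mpr fun u hu => Subtype.ext ?_)
      exact congrArg (fun t : H => (t : G)) (Subgroup.mem_centralizer_iff.mp hx
        ⟨(u : G), hQT ⟨u, hu, rfl⟩⟩ (hQle ⟨u, hu, rfl⟩))
    exact hQle ⟨_, h1, rfl⟩
  -- `K` has characteristic `2`
  have hKc : Subgroup.centralizer (Cfsg.pCore 2 K : Set K) ≤ Cfsg.pCore 2 K := by
    refine CfsgLib.PLocal.centralizer_pCore_le_congr (Subgroup.subgroupOfEquivOfLe hKH) ?_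
    refine centralizer_pCore_le_of_layer_eq_bot ?_ ?_
    · have := pPrimeCore_subnormal 2 hKs
      rwa [CfsgLib.PLocal.pPrimeCore_eq_bot_of_charP hHc, bot_inf_eq,
        Subgroup.map_eq_bot_iff_of_injective _ (Subgroup.subtype_injective _)] at this
    · have := map_layer_subnormal_le hKs
      rwa [layer_eq_bot_of_centralizer_pCore_le hHc, le_bot_iff,
        Subgroup.map_eq_bot_iff_of_injective _ (Subgroup.subtype_injective _)] at this
  have hodd : Cfsg.oddGenerated K = K := by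
    refine le_antisymm ((Subgroup.closure_le K).mpr fun x hx => hx.1) ?_
    exact perfect_le_of_coprime (p := 2) hKp fun x hx hcop => Subgroup.subset_closure
      ⟨hx, Nat.coprime_two_right.mp hcop⟩
  have hK0 : K ≠ ⊥ := fun e => hK1 (by rw [e, Subgroup.bot_subgroupOf])
  refine ⟨hK', ⟨hK0, hodd, gFitting_eq_pCore_of_charP hKc⟩, fun hVK => hVL ?_⟩
  -- the module
  set RK := Cfsg.pCoreTwoOf K with hRK
  have hRKK : RK ≤ K := Subgroup.map_subtype_le _
  have hRKH : RK ≤ RH := by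
    rintro _ ⟨x, hx, rfl⟩
    have hx2 := (pCore_subnormal 2 hKs).le (Subgroup.mem_map_of_mem _
      (show (Subgroup.subgroupOfEquivOfLe hKH).symm x ∈ Cfsg.pCore 2 (K.subgroupOf H) from
        pCore_map_le 2 (Subgroup.subgroupOfEquivOfLe hKH).symm ⟨x, hx, rfl⟩))
    exact ⟨_, hx2.1, rfl⟩
  have hRHJ : RH ≤ J := (pCoreTwoOf_le_of_sylow T hTH).trans le_sup_right
  haveI hRHn : (RH.subgroupOf J).Normal :=
    Subgroup.normal_subgroupOf_of_le_normalizer (hJH.trans hHN)
  have hRLn : RH ≤ Subgroup.normalizer (L : Set G) := by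
    intro r hr
    have h1 := perfect_subnormal_normalized hLp' hLs (R := RH.subgroupOf J)
      (hRHp.comap_of_injective _ J.subtype_injective)
      (show (⟨r, hRHJ hr⟩ : J) ∈ RH.subgroupOf J from hr)
    rw [← Subgroup.subgroupOf_normalizer_eq (le_sup_left : L ≤ J)] at h1
    exact h1
  set RL := Cfsg.pCoreTwoOf L with hRL
  have hRLn' : Subgroup.normalizer (L : Set G) ≤ Subgroup.normalizer (RL : Set G) := by
    intro g hg
    refine mem_normalizer_of_smul_eq_self ?_
    set e : L ≃* L := (Subgroup.equivSMul (MulAut.conj g) L).trans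
      (MulEquiv.subgroupCongr (smul_eq_self_of_mem_normalizer hg)) with he
    rw [hRL, Cfsg.pCoreTwoOf, conj_smul_eq_map, Subgroup.map_map]
    conv_rhs => rw [← pCore_map_equiv 2 e, Subgroup.map_map]
    rfl
  have hcom : ⁅RK, L⁆ ≤ RL := by
    have h1 : ⁅RK, L⁆ ≤ L := Subgroup.le_normalizer_iff_commutator_le_right.mp (hRKH.trans hRLn)
    have h2 : ⁅RK, L⁆ ≤ RH := (Subgroup.commutator_mono hRKH le_rfl).trans
      (Subgroup.le_normalizer_iff_commutator_le_left.mp ((hLK.trans hKH).trans hHN))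
    have h3 : (L ⊓ RH).subgroupOf L ≤ Cfsg.pCore 2 L :=
      le_pCore (Subgroup.normal_subgroupOf_of_le_normalizer
          ((le_inf Subgroup.le_normalizer ((hLK.trans hKH).trans hHN)).trans
            Subgroup.inf_normalizer_le_normalizer_inf))
        ((hRHp.to_le inf_le_right).comap_of_injective _ L.subtype_injective)
    exact fun x hx => ⟨⟨x, h1 hx⟩, h3 (show x ∈ L ⊓ RH from ⟨h1 hx, h2 hx⟩), rfl⟩
  set ZC := RL ⊓ Subgroup.centralizer (RL : Set G) with hZC
  haveI : IsMulCommutative ZC := ⟨⟨fun a b => Subtype.ext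
    (Subgroup.mem_centralizer_iff.mp b.2.2 a a.2.1)⟩⟩
  set Z := Cfsg.omegaOne 2 ZC with hZdef
  have hZel := omega_elementary (Z := ZC)
  haveI : IsMulCommutative Z := ⟨⟨fun a b => Subtype.ext
    (Subgroup.mem_centralizer_iff.mp (hZel b b.2).1.2 a (hZel a a.2).1.1)⟩⟩
  have hZn : Subgroup.normalizer (L : Set G) ≤ Subgroup.normalizer (Z : Set G) := by
    intro g hg
    have h1 := hRLn' hg
    refine mem_normalizer_of_smul_eq_self (Subgroup.eq_of_le_of_card_ge ?_
      (Nat.card_congr (Subgroup.equivSMul (MulAut.conj g) Z).toEquiv).le)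
    rw [conj_smul_eq_map, hZdef, Cfsg.omegaOne, MonoidHom.map_closure, Subgroup.closure_le]
    rintro _ ⟨y, ⟨hy, hy2⟩, rfl⟩
    refine Subgroup.subset_closure ⟨⟨(Subgroup.mem_normalizer_iff.mp h1 y).mp hy.1, ?_⟩, ?_⟩
    · refine Subgroup.mem_centralizer_iff.mpr fun u hu => ?_
      have hu' := (Subgroup.mem_normalizer_iff''.mp h1 u).mp hu
      show u * (g * y * g⁻¹) = g * y * g⁻¹ * u
      calc u * (g * y * g⁻¹) = g * ((g⁻¹ * u * g) * y) * g⁻¹ := by group
        _ = g * (y * (g⁻¹ * u * g)) * g⁻¹ := by rw [Subgroup.mem_centralizer_iff.mp hy.2 _ hu']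
        _ = g * y * g⁻¹ * u := by group
    · rw [← map_pow, hy2, map_one]
  have hcomm : ∀ w ∈ Z, ∀ r ∈ RK, ∀ l ∈ L, ⁅l * w * l⁻¹, r⁆ = l * ⁅w, r⁆ * l⁻¹ := by
    intro w hw r hr l hl
    set c := l⁻¹ * r * l * r⁻¹ with hc
    have hcR : c ∈ RL := by
      have h1 := inv_mem (hcom (Subgroup.commutator_mem_commutator hr (inv_mem hl)))
      rwa [show (⁅r, l⁻¹⁆ : G)⁻¹ = c by rw [hc, commutatorElement_def]; group] at h1
    have hw' : r * w⁻¹ * r⁻¹ ∈ Z :=
      (Subgroup.mem_normalizer_iff.mp (hZn (hRLn (hRKH hr))) _).mp (inv_mem hw)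
    have h2 : c * (r * w⁻¹ * r⁻¹) = (r * w⁻¹ * r⁻¹) * c :=
      Subgroup.mem_centralizer_iff.mp (hZel _ hw').1.2 c hcR
    have h3 : ⁅w, c * r⁆ = ⁅w, r⁆ := by
      calc ⁅w, c * r⁆ = w * (c * (r * w⁻¹ * r⁻¹)) * c⁻¹ := by
            rw [commutatorElement_def]; group
        _ = ⁅w, r⁆ := by rw [h2, commutatorElement_def]; group
    rw [← h3, hc, commutatorElement_def, commutatorElement_def]
    group
  by_contra hV
  change ⁅Z, L⁆ ≠ ⊥ at hV
  have hZR : RK ≤ Subgroup.normalizer (Z : Set G) := (hRKH.trans hRLn).trans hZn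
  have hLZ : L ≤ Subgroup.normalizer (Z : Set G) := Subgroup.le_normalizer.trans hZn
  have hZp : IsPGroup 2 Z := fun a => ⟨1, Subtype.ext (by simpa using (hZel a a.2).2)⟩
  have hVle : ⁅Z, L⁆ ≤ Z := Subgroup.le_normalizer_iff_commutator_le_left.mp hLZ
  have hVR : RK ≤ Subgroup.normalizer ((⁅Z, L⁆ : Subgroup G) : Set G) := by
    intro r hr
    rw [Subgroup.mem_normalizer_iff_map_conj_eq, Subgroup.map_commutator,
      Subgroup.mem_normalizer_iff_map_conj_eq.mp (hZR hr),
      Subgroup.mem_normalizer_iff_map_conj_eq.mp (hRLn (hRKH hr))]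
  obtain ⟨W, hWV, hW1, hWL, hWR⟩ := exists_centralized hZp ((pCore_isPGroup 2).map _) hZR hcomm _
    hVle hV (commutator_idem_of_perfect hLZ hLp) hVR (Subgroup.normalizer_commutator_ge_right _ _)
  refine hW1 (le_bot_iff.mp (hWL.trans ?_))
  rw [← hVK, Cfsg.moduleV]
  refine Subgroup.commutator_mono (fun w hw => Subgroup.subset_closure ⟨⟨?_, ?_⟩,
    (hZel w (hVle (hWV hw))).2⟩) hLK
  · have hwK : w ∈ K := hLK ((Subgroup.map_subtype_le _ : RL ≤ L) (hZel w (hVle (hWV hw))).1.1)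
    refine ⟨⟨w, hwK⟩, hKc (Subgroup.mem_centralizer_iff.mpr fun u hu => Subtype.ext ?_), rfl⟩
    exact Subgroup.mem_centralizer_iff.mp
      (Subgroup.commutator_eq_bot_iff_le_centralizer.mp hWR hw) (u : G) ⟨u, hu, rfl⟩
  · exact Subgroup.commutator_eq_bot_iff_le_centralizer.mp hWR hw

/-- Let G be a non-abelian finite simple QTKE-group and T a Sylow 2-subgroup of G, and let L be a member of ℒ_f(G, T) (a member of ℒ(G, T) that lies in 𝒳 — L ≠ 1, L = O²(L), F*(L) = O₂(L) — and acts nontrivially on Ω₁(Z(O₂(L)))). Then (1) every member K of ℒ(G, T) containing L is again in ℒ_f(G, T) (a sharper form of (1) also compares the modules [Ω₁(Z(R)), L] and [Ω₁(Z(R')), K] for suitable 2-subgroups R, R'; that comparison is not included); and (2) if L is maximal under inclusion among the members of ℒ_f(G, T), then L is a maximal member of ℒ(G, T), hence a member of ℒ_f*(G, T). -/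
theorem result {G : Type*} [Group G] [Finite G] [IsSimpleGroup G]
    (hG : ¬ IsMulCommutative G) (hQ : Cfsg.IsQTKE G) (T : Sylow 2 G) (L : Subgroup G)
    (hL : L ∈ Cfsg.calLf (T : Subgroup G)) :
    (∀ K ∈ Cfsg.calL (T : Subgroup G), L ≤ K → K ∈ Cfsg.calLf (T : Subgroup G)) ∧
    ((∀ K ∈ Cfsg.calLf (T : Subgroup G), L ≤ K → K = L) → L ∈ Cfsg.calLfMax (T : Subgroup G)) := by
  refine ⟨fun K hK hLK => key hQ.2.2 T hL hK hLK, fun hmax => ⟨⟨hL.1, fun K hK hLK => ?_⟩, hL.2⟩⟩
  exact hmax K (key hQ.2.2 T hL hK hLK) hLK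

end Cfsg.Agent.S1851
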