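import Cfsg.Statements.S1892
import Cfsg.Agent.Lib.OddLocal.Coprime
import Cfsg.Agent.Lib.PLocal.PSolvable
import Cfsg.Agent.Lib.Core.Cores

set_option autoImplicit false
open Cfsg

open scoped commutatorElement

namespace Cfsg.Agent.S1892

/-- Let S be a finite p-solvable group with no nontrivial normal subgroup of order prime to p, A a p-subgroup of S, and Q a nontrivial A-invariant subgroup of order prime to p with [A, Q] = Q. Then the commutator [O_p(S), A, Q] is nontrivial. -/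
theorem result {S : Type*} [Group S] [Finite S] {p : ℕ} [Fact p.Prime]
    (hS : Cfsg.IsPSolvable p S) (hred : Cfsg.pPrimeCore p S = ⊥)
    (A Q : Subgroup S) (hA : IsPGroup p A) (hQ : ¬ p ∣ Nat.card Q) (hQ1 : Q ≠ ⊥)
    (hinv : ∀ a ∈ A, ∀ x ∈ Q, a * x * a⁻¹ ∈ Q) (hAQ : ⁅A, Q⁆ = Q) :
    ⁅⁅Cfsg.pCore p S, A⁆, Q⁆ ≠ ⊥ := by
  intro h
  apply hQ1
  set R := Cfsg.pCore p S with hR
  haveI hRn : R.Normal := by rw [hR]; infer_instance
  set M := ⁅R, A⁆ with hM
  have hMR : M ≤ R := Subgroup.commutator_le_left R A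
  have hQM : ∀ q ∈ Q, ∀ m ∈ M, q * m * q⁻¹ = m := by
    intro q hq m hm
    have h1 := Subgroup.commutator_eq_bot_iff_le_centralizer.mp h hm
    rw [Subgroup.mem_centralizer_iff.mp h1 q hq, mul_inv_cancel_right]
  -- the elements acting trivially on `R / M`
  have hconjM : ∀ x ∈ Subgroup.normalizer (M : Set S), ∀ r : S, r ∈ M ↔ x * r * x⁻¹ ∈ M :=
    fun x hx r => Subgroup.mem_normalizer_iff.mp hx r
  let T : Subgroup S :=
    { carrier := {x | x ∈ Subgroup.normalizer (M : Set S) ∧ ∀ r ∈ R, r⁻¹ * (x * r * x⁻¹) ∈ M}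
      one_mem' := ⟨one_mem _, fun r _ => by simp⟩
      mul_mem' := by
        rintro x y ⟨hx, hx'⟩ ⟨hy, hy'⟩
        refine ⟨mul_mem hx hy, fun r hr => ?_⟩
        have e : r⁻¹ * (x * y * r * (x * y)⁻¹) =
            (r⁻¹ * (x * r * x⁻¹)) * (x * (r⁻¹ * (y * r * y⁻¹)) * x⁻¹) := by group
        rw [e]
        exact mul_mem (hx' r hr) ((hconjM x hx _).mp (hy' r hr))
      inv_mem' := by
        rintro x ⟨hx, hx'⟩
        refine ⟨inv_mem hx, fun r hr => ?_⟩
        have h2 := hx' (x⁻¹ * r * x) (by simpa using hRn.conj_mem r hr x⁻¹)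
        have e : r⁻¹ * (x⁻¹ * r * x⁻¹⁻¹) =
            ((x⁻¹ * r * x)⁻¹ * (x * (x⁻¹ * r * x) * x⁻¹))⁻¹ := by group
        rw [e]
        exact inv_mem h2 }
  have hAT : A ≤ T := by
    intro a ha
    refine ⟨Subgroup.normalizer_commutator_ge_right R A ha, fun r hr => ?_⟩
    have := Subgroup.commutator_mem_commutator (inv_mem hr) ha
    rw [commutatorElement_def] at this
    simpa [mul_assoc] using this
  have hQN : Q ≤ Subgroup.normalizer (M : Set S) := fun q hq => by
    rw [Subgroup.mem_normalizer_iff]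
    intro m
    constructor
    · intro hm; rw [hQM q hq m hm]; exact hm
    · intro hm
      have := hQM q⁻¹ (inv_mem hq) _ hm
      have e : m = q * m * q⁻¹ := by
        calc m = q⁻¹ * (q * m * q⁻¹) * q⁻¹⁻¹ := by group
          _ = q * m * q⁻¹ := this
      rw [e]; exact hm
  have hQT : Q ≤ T := by
    rw [← hAQ, Subgroup.commutator_le]
    intro a ha q hq
    have hconj : q * a⁻¹ * q⁻¹ ∈ T := by
      obtain ⟨h1, h2⟩ := hAT (inv_mem ha)
      refine ⟨mul_mem (mul_mem (hQN hq) h1) (inv_mem (hQN hq)), fun r hr => ?_⟩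
      have hr' : q⁻¹ * r * q ∈ R := by simpa using hRn.conj_mem r hr q⁻¹
      have e : r⁻¹ * (q * a⁻¹ * q⁻¹ * r * (q * a⁻¹ * q⁻¹)⁻¹) =
          q * ((q⁻¹ * r * q)⁻¹ * (a⁻¹ * (q⁻¹ * r * q) * a⁻¹⁻¹)) * q⁻¹ := by group
      rw [e]
      exact (hconjM q (hQN hq) _).mp (h2 _ hr')
    have e : ⁅a, q⁆ = a * (q * a⁻¹ * q⁻¹) := by rw [commutatorElement_def]; group
    rw [e]
    exact mul_mem (hAT ha) hconj
  have hQC : Q ≤ Subgroup.centralizer (R : Set S) := by
    intro q hq
    have hcopR : (orderOf q).Coprime (Nat.card R) := by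
      obtain ⟨k, hk⟩ := IsPGroup.iff_card.mp (CfsgLib.Core.isPGroup_pCore p S)
      rw [hk]
      refine Nat.Coprime.pow_right k (Nat.Coprime.coprime_dvd_left (Subgroup.orderOf_dvd_natCard Q hq) ?_)
      exact ((Fact.out : p.Prime).coprime_iff_not_dvd.mpr hQ).symm
    refine CfsgLib.OddLocal.centralizes_of_stabilizes_series (k := 2) (pow_orderOf_eq_one q) hcopR
      ![R, M, ⊥] rfl rfl ?_ ?_
    · intro i; fin_cases i
      · exact le_rfl
      · exact hMR
      · exact bot_le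
    · intro i; fin_cases i
      · exact fun r hr => (hQT hq).2 r hr
      · intro m hm
        show m⁻¹ * (q * m * q⁻¹) ∈ (⊥ : Subgroup S)
        rw [hQM q hq m hm, inv_mul_cancel]
        exact one_mem _
  rw [eq_bot_iff]
  intro q hq
  have hq' : q ∈ R := CfsgLib.PLocal.centralizer_pCore_le hS hred (hQC hq)
  obtain ⟨k, hk⟩ := IsPGroup.iff_card.mp (CfsgLib.Core.isPGroup_pCore p S)
  have h1 : (orderOf q).Coprime (p ^ k) :=
    (((Fact.out : p.Prime).coprime_iff_not_dvd.mpr hQ).symm.pow_right k).coprime_dvd_left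
      (Subgroup.orderOf_dvd_natCard Q hq)
  exact orderOf_eq_one_iff.mp (h1.eq_one_of_dvd (hk ▸ Subgroup.orderOf_dvd_natCard R hq'))

end Cfsg.Agent.S1892
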