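import Cfsg.Statements.S1893
import Cfsg.Agent.Lib.Techniques.SolvableQuad
import Cfsg.Agent.Lib.Components.Radicals
import Cfsg.Agent.Lib.HallGen.Counting

set_option autoImplicit false
open Cfsg

namespace Cfsg.Agent.S1893

/-- Let S be a finite solvable group, π a set of primes containing neither 2 nor 3, H a Hall π-subgroup of S, and A a self-centralizing normal subgroup of the Fitting subgroup F(H). Then C_S(A) = A × D for a normal subgroup D of C_S(A) whose order has no prime divisor in π. -/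
theorem result {S : Type*} [Group S] [Finite S] [Group.IsSolvable S]
    (π : Set ℕ) (h2 : 2 ∉ π) (h3 : 3 ∉ π) (H : Subgroup S) (hH : Cfsg.IsPiHall π H)
    (A : Subgroup S) (hA : Cfsg.IsSCN ((Cfsg.fittingSubgroup H).map H.subtype) A) :
    ∃ D : Subgroup S, D ≤ Subgroup.centralizer (A : Set S) ∧
      (∀ c ∈ Subgroup.centralizer (A : Set S), ∀ d ∈ D, c * d * c⁻¹ ∈ D) ∧
      A ⊓ D = ⊥ ∧ A ⊔ D = Subgroup.centralizer (A : Set S) ∧
      ∀ q : ℕ, q.Prime → q ∣ Nat.card D → q ∉ π := by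
  set FH := (Cfsg.fittingSubgroup H).map H.subtype with hFH
  obtain ⟨hAF, hFA, hAc⟩ := hA
  have hAH : A ≤ H := hAF.trans (Subgroup.map_subtype_le _)
  set C := Subgroup.centralizer (A : Set S) with hC
  have hAC : A ≤ C := fun a ha => (hAc.ge ha).2
  set N := Cfsg.piCore {q : ℕ | q ∉ π} S with hN
  haveI hNn : N.Normal := Cfsg.piCore_normal _ S
  have hNpi : CfsgLib.Components.IsPiSubgroup {q : ℕ | q ∉ π} N := CfsgLib.Components.piCore_isPiSubgroup _
  have hHN : Nat.Coprime (Nat.card H) (Nat.card N) := Nat.coprime_of_dvd fun q hq h1 h2 =>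
    hNpi q hq h2 (hH.1 q hq h1)
  set ψ := QuotientGroup.mk' N with hψ
  have hψs : Function.Surjective ψ := QuotientGroup.mk'_surjective _
  set U := (Cfsg.fittingSubgroup (S ⧸ N)).comap ψ with hU
  haveI hUn : U.Normal := inferInstance
  have hNU : N ≤ U := fun x hx => by
    rw [hU, Subgroup.mem_comap, hψ, QuotientGroup.mk'_apply, (QuotientGroup.eq_one_iff x).2 hx]
    exact one_mem _
  set T := H ⊓ U with hT
  -- the Fitting subgroup of `S ⧸ N` is a `π`-group
  have hFpi : ∀ q : ℕ, q.Prime → q ∣ Nat.card (Cfsg.fittingSubgroup (S ⧸ N)) → q ∈ π := by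
    intro q hq hd
    by_contra hqπ
    haveI := Fact.mk hq
    have hne : Cfsg.pCore q (Cfsg.fittingSubgroup (S ⧸ N)) ≠ ⊥ := by
      haveI := CfsgLib.Core.isNilpotent_fittingSubgroup (S ⧸ N)
      obtain ⟨Q⟩ : Nonempty (Sylow q (Cfsg.fittingSubgroup (S ⧸ N))) := inferInstance
      haveI : (Q : Subgroup (Cfsg.fittingSubgroup (S ⧸ N))).Normal :=
        Sylow.normal_of_normalizerCondition Group.normalizerCondition_of_isNilpotent Q
      exact fun h => Q.ne_bot_of_dvd_card hd (le_bot_iff.1 (h ▸ CfsgLib.Core.le_pCore Q.2))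
    set M := ((Cfsg.pCore q (Cfsg.fittingSubgroup (S ⧸ N))).map
      (Cfsg.fittingSubgroup (S ⧸ N)).subtype).comap ψ with hM
    haveI : M.Normal := inferInstance
    have hMN : M ≤ N := CfsgLib.Components.le_piCore inferInstance fun r hr hd' => by
      intro hrπ
      have h1 : Nat.card M ∣ Nat.card N * Nat.card (Cfsg.pCore q (Cfsg.fittingSubgroup (S ⧸ N))) := by
        have hkm : N ≤ M := (QuotientGroup.ker_mk' N).symm.le.trans (Subgroup.ker_le_comap _ _)
        rw [← Subgroup.relIndex_bot_left, ← Subgroup.relIndex_mul_relIndex ⊥ N M bot_le hkm,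
          Subgroup.relIndex_bot_left]
        refine mul_dvd_mul_left _ ?_
        conv_lhs => rw [show N = ψ.ker from (QuotientGroup.ker_mk' N).symm]
        rw [Subgroup.relIndex_ker, hM, Subgroup.map_comap_eq_self_of_surjective hψs,
          Nat.card_congr (Subgroup.equivMapOfInjective _ _ (Subgroup.subtype_injective _)).toEquiv]
      rcases hr.dvd_mul.1 (hd'.trans h1) with h2 | h2
      · exact hNpi r hr h2 hrπ
      · obtain ⟨j, hj⟩ := IsPGroup.iff_card.1
          (CfsgLib.Core.isPGroup_pCore q (Cfsg.fittingSubgroup (S ⧸ N)))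
        exact hqπ ((Nat.prime_dvd_prime_iff_eq hr hq).1 (hr.dvd_of_dvd_pow (hj ▸ h2)) ▸ hrπ)
    refine hne ((Subgroup.map_eq_bot_iff_of_injective _ (Subgroup.subtype_injective _)).1 ?_)
    rw [eq_bot_iff]
    intro x hx
    obtain ⟨y, rfl⟩ := hψs x
    exact Subgroup.mem_bot.2 ((QuotientGroup.eq_one_iff y).2 (hMN hx))
  have hUT : U ≤ T ⊔ N := by
    rw [← Subgroup.relIndex_eq_one]
    refine Nat.eq_one_iff_not_exists_prime_dvd.2 fun q hq hd => ?_
    by_cases hqπ : q ∈ π
    · refine hH.2 q hq hqπ (hd.trans ((Subgroup.relIndex_dvd_of_le_left U le_sup_left).trans ?_))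
      rw [hT, Subgroup.inf_relIndex_right]
      exact CfsgLib.HallGen.relIndex_dvd_index_right _ _
    · refine hqπ (hFpi q hq (hd.trans ((Subgroup.relIndex_dvd_of_le_left U le_sup_right).trans ?_)))
      conv_lhs => rw [show N = ψ.ker from (QuotientGroup.ker_mk' N).symm]
      rw [Subgroup.relIndex_ker, hU, Subgroup.map_comap_eq_self_of_surjective hψs]
  have hdis : ∀ x ∈ H, x ∈ N → x = 1 := fun x h1 h2 =>
    Subgroup.disjoint_def.1 (Subgroup.disjoint_of_coprime_natCard hHN) h1 h2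
  have hTF : T ≤ FH := by
    intro t ht
    haveI : (T.subgroupOf H).Normal := ⟨fun z hz g =>
      ⟨(g * z * g⁻¹ : H).2, hUn.conj_mem _ hz.2 (g : S)⟩⟩
    haveI : Group.IsNilpotent (T.subgroupOf H) := by
      haveI := CfsgLib.Core.isNilpotent_fittingSubgroup (S ⧸ N)
      let f : T →* Cfsg.fittingSubgroup (S ⧸ N) :=
        (ψ.comp T.subtype).codRestrict _ fun x => x.2.2
      have hf : Function.Injective f := by
        rw [← MonoidHom.ker_eq_bot_iff, Subgroup.eq_bot_iff_forall]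
        intro x hx
        exact Subtype.ext (hdis x x.2.1 ((QuotientGroup.eq_one_iff _).1 (congrArg Subtype.val hx)))
      haveI : Group.IsNilpotent f.range :=
        CfsgLib.Core.isNilpotent_of_le (H := f.range) (K := ⊤) le_top
      haveI : Group.IsNilpotent T := Group.nilpotent_of_mulEquiv (MonoidHom.ofInjective hf).symm
      exact Group.nilpotent_of_mulEquiv (Subgroup.subgroupOfEquivOfLe (inf_le_left : T ≤ H)).symm
    exact ⟨⟨t, ht.1⟩, CfsgLib.Core.le_fittingSubgroup (N := T.subgroupOf H) inferInstance ht, rfl⟩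
  -- elements of `C ⊓ U` lie in `A N`
  have hCU : ∀ c ∈ C, c ∈ U → c ∈ A ⊔ N := by
    intro c hc hcU
    obtain ⟨t, ht, n, hn, rfl⟩ := Subgroup.mem_sup_of_normal_right.1 (hUT hcU)
    have htA : t ∈ A := by
      refine hAc.le ⟨hTF ht, ?_⟩
      show t ∈ Subgroup.centralizer (A : Set S)
      rw [Subgroup.mem_centralizer_iff]
      intro a ha
      have hfix : (t * n) * a = a * (t * n) := (Subgroup.mem_centralizer_iff.1 hc a ha).symm
      have h1 : t * a * t⁻¹ * a⁻¹ ∈ N := by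
        have e1 : t * n * a * n⁻¹ * t⁻¹ = a := by
          calc t * n * a * n⁻¹ * t⁻¹ = t * n * a * (t * n)⁻¹ := by group
            _ = a * (t * n) * (t * n)⁻¹ := by rw [hfix]
            _ = a := by group
        rw [show t * a * t⁻¹ * a⁻¹ = t * (a * n * a⁻¹ * n⁻¹) * t⁻¹ by
          calc t * a * t⁻¹ * a⁻¹ = t * a * t⁻¹ * (t * n * a * n⁻¹ * t⁻¹)⁻¹ := by rw [e1]
            _ = t * (a * n * a⁻¹ * n⁻¹) * t⁻¹ := by group]
        exact hNn.conj_mem _ (mul_mem (hNn.conj_mem _ hn a) (inv_mem hn)) t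
      have h2 : t * a * t⁻¹ * a⁻¹ ∈ H :=
        mul_mem (mul_mem (mul_mem ht.1 (hAH ha)) (inv_mem ht.1)) (inv_mem (hAH ha))
      exact (mul_inv_eq_iff_eq_mul.1 (mul_inv_eq_one.1 (hdis _ h2 h1))).symm
    exact mul_mem (Subgroup.mem_sup_left htA) (Subgroup.mem_sup_right hn)
  have hclaim : ∀ q : ℕ, q.Prime → q ∈ π → ∀ h ∈ C, IsPGroup q (Subgroup.zpowers h) → h ∈ A ⊔ N := by
    intro q hq hqπ h hh hhp
    haveI := Fact.mk hq
    have h5 : 5 ≤ q := by
      have := hq.two_le
      have h2' : q ≠ 2 := fun e => h2 (e ▸ hqπ)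
      have h3' : q ≠ 3 := fun e => h3 (e ▸ hqπ)
      have h4 : q ≠ 4 := fun e => by rw [e] at hq; norm_num at hq
      omega
    refine hCU h hh ?_
    refine CfsgLib.Techniques.mem_fitting_of_quad (X := S ⧸ N) h5 ?_ fun v hv => ?_
    · rw [← MonoidHom.map_zpowers]; exact hhp.map _
    · obtain ⟨u, rfl⟩ := hψs v
      obtain ⟨t, ht, n, hn, rfl⟩ := Subgroup.mem_sup_of_normal_right.1 (hUT (show u ∈ U from hv))
      rw [map_mul ψ t n, show ψ n = 1 from (QuotientGroup.eq_one_iff n).2 hn, mul_one]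
      have hcC : h * t * h⁻¹ * t⁻¹ ∈ C := by
        rw [show h * t * h⁻¹ * t⁻¹ = h * (t * h⁻¹ * t⁻¹) by group]
        refine mul_mem hh ?_
        have htN : t ∈ Subgroup.normalizer (A : Set S) := hFA (hTF ht)
        rw [hC, Subgroup.mem_centralizer_iff]
        intro a ha
        have ha' : t⁻¹ * a * t ∈ A := by
          have := (Subgroup.mem_normalizer_iff.1 (inv_mem htN) a).1 ha
          rwa [inv_inv] at this
        have := Subgroup.mem_centralizer_iff.1 (inv_mem hh) _ ha'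
        calc a * (t * h⁻¹ * t⁻¹) = t * (t⁻¹ * a * t * h⁻¹) * t⁻¹ := by group
          _ = t * (h⁻¹ * (t⁻¹ * a * t)) * t⁻¹ := by rw [this]
          _ = t * h⁻¹ * t⁻¹ * a := by group
      have hcU : h * t * h⁻¹ * t⁻¹ ∈ U := mul_mem (hUn.conj_mem _ ht.2 h) (inv_mem ht.2)
      obtain ⟨a, ha, n', hn', he⟩ := Subgroup.mem_sup_of_normal_right.1 (hCU _ hcC hcU)
      have hca : ψ h * ψ a * (ψ h)⁻¹ = ψ a := by
        rw [← map_inv, ← map_mul, ← map_mul]
        congr 1
        rw [← Subgroup.mem_centralizer_iff.1 hh a ha, mul_inv_cancel_right]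
      have hψc : ψ h * ψ t * (ψ h)⁻¹ * (ψ t)⁻¹ = ψ a := by
        rw [← map_inv, ← map_inv, ← map_mul, ← map_mul, ← map_mul, ← he, map_mul,
          show ψ n' = 1 from (QuotientGroup.eq_one_iff n').2 hn', mul_one]
      rw [hψc, hca]
  haveI hAn : (A.subgroupOf C).Normal := ⟨fun a ha c => by
    show (c : S) * (a : S) * (c : S)⁻¹ ∈ A
    rw [← Subgroup.mem_centralizer_iff.1 c.2 (a : S) ha, mul_inv_cancel_right]
    exact ha⟩
  have hidx : ∀ q : ℕ, q.Prime → q ∈ π → ¬ q ∣ (A.subgroupOf C).index := by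
    intro q hq hqπ hd
    haveI := Fact.mk hq
    obtain ⟨Q⟩ : Nonempty (Sylow q C) := inferInstance
    have hQ : (Q : Subgroup C).map C.subtype ≤ A ⊔ N := by
      rintro _ ⟨x, hx, rfl⟩
      refine hclaim q hq hqπ _ x.2 ?_
      have h1 : IsPGroup q (Subgroup.zpowers x) := Q.2.to_le (Subgroup.zpowers_le.2 hx)
      have h' := h1.map C.subtype
      rw [MonoidHom.map_zpowers] at h'
      exact h'
    obtain ⟨k, hk⟩ := IsPGroup.iff_card.1 Q.2
    have h1 : q ^ k ∣ Nat.card A := by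
      have h2 : q ^ k ∣ Nat.card A * Nat.card N := by
        rw [← hk, Nat.card_congr
          (Subgroup.equivMapOfInjective (Q : Subgroup C) C.subtype C.subtype_injective).toEquiv]
        exact (Subgroup.card_dvd_of_le hQ).trans
          (CfsgLib.Core.card_sup_dvd A N Subgroup.le_normalizer_of_normal)
      refine (Nat.Coprime.pow_left k ?_).dvd_of_dvd_mul_right h2
      exact (Nat.Prime.coprime_iff_not_dvd hq).2 fun h => hNpi q hq h hqπ
    rw [← Nat.card_congr (Subgroup.subgroupOfEquivOfLe hAC).toEquiv] at h1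
    have h3 := Subgroup.card_mul_index (A.subgroupOf C)
    have h4 : q ^ k * q ∣ Nat.card C := h3 ▸ mul_dvd_mul h1 hd
    have h5 := Subgroup.card_mul_index (Q : Subgroup C)
    rw [← h5, show Nat.card (Q : Subgroup C) = q ^ k from hk] at h4
    exact Q.not_dvd_index (Nat.dvd_of_mul_dvd_mul_left (pow_pos hq.pos k) h4)
  have hcop : Nat.Coprime (Nat.card (A.subgroupOf C)) (A.subgroupOf C).index :=
    Nat.coprime_of_dvd fun q hq h1 => hidx q hq (hH.1 q hq (h1.trans (by
      rw [Nat.card_congr (Subgroup.subgroupOfEquivOfLe hAC).toEquiv]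
      exact Subgroup.card_dvd_of_le hAH)))
  obtain ⟨D, hD⟩ := Subgroup.exists_right_complement'_of_coprime hcop
  have hAD : ∀ c : C, ∃ a ∈ A.subgroupOf C, ∃ d ∈ D, a * d = c := fun c => by
    obtain ⟨⟨a, d⟩, h⟩ := hD.2 c
    exact ⟨a, a.2, d, d.2, h⟩
  refine ⟨D.map C.subtype, Subgroup.map_subtype_le _, ?_, ?_, ?_, ?_⟩
  · rintro c hc _ ⟨d, hd, rfl⟩
    obtain ⟨a, ha, d', hd', hc'⟩ := hAD ⟨c, hc⟩
    refine ⟨d' * d * d'⁻¹, mul_mem (mul_mem hd' hd) (inv_mem hd'), ?_⟩
    have hcomm := Subgroup.mem_centralizer_iff.1 (d' * d * d'⁻¹ : C).2 (a : S) ha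
    have e : c = (a : S) * (d' : S) := (congrArg Subtype.val hc').symm
    rw [e]
    show ((d' * d * d'⁻¹ : C) : S) = (a : S) * (d' : S) * (d : S) * ((a : S) * (d' : S))⁻¹
    calc ((d' * d * d'⁻¹ : C) : S) = ((d' * d * d'⁻¹ : C) : S) * (a : S) * (a : S)⁻¹ := by group
      _ = (a : S) * ((d' * d * d'⁻¹ : C) : S) * (a : S)⁻¹ := by rw [hcomm]
      _ = _ := by simp only [Subgroup.coe_mul, Subgroup.coe_inv]; group
  · rw [eq_bot_iff]
    rintro x ⟨hxA, ⟨d, hd, rfl⟩⟩
    have := Subgroup.disjoint_def.1 hD.disjoint (show d ∈ A.subgroupOf C from hxA) hd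
    rw [this]; exact one_mem _
  · refine le_antisymm (sup_le hAC (Subgroup.map_subtype_le _)) fun c hc => ?_
    obtain ⟨a, ha, d, hd, h⟩ := hAD ⟨c, hc⟩
    rw [show c = (a : S) * (d : S) from (congrArg Subtype.val h).symm]
    exact mul_mem (Subgroup.mem_sup_left ha) (Subgroup.mem_sup_right ⟨d, hd, rfl⟩)
  · intro q hq hd hqπ
    refine hidx q hq hqπ ?_
    have h1 := hD.card_mul
    rw [← Nat.card_congr (Subgroup.equivMapOfInjective D C.subtype C.subtype_injective).toEquiv] at hd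
    have h2 := Subgroup.card_mul_index (A.subgroupOf C)
    rw [← h1] at h2
    exact (Nat.eq_of_mul_eq_mul_left Nat.card_pos h2).symm ▸ hd

end Cfsg.Agent.S1893
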