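import Cfsg.Statements.S1894
import Cfsg.Agent.Lib.PGroups.Basic

set_option autoImplicit false
open Cfsg

namespace Cfsg.Agent.S1894

/-- Let P be a finite p-group, A a normal subgroup of P and B an abelian subgroup of A that is normal in P. Then some subgroup C of A containing B is normal in P and is self-centralizing and normal in A (C ∈ SCN(A)). -/
theorem result {P : Type*} [Group P] [Finite P] {p : ℕ} [Fact p.Prime] (hP : IsPGroup p P)
    (A : Subgroup P) [A.Normal] (B : Subgroup P) [B.Normal] (hBA : B ≤ A) (hB : IsMulCommutative B) :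
    ∃ C : Subgroup P, C.Normal ∧ B ≤ C ∧ Cfsg.IsSCN A C := by
  classical
  have : Fintype (Subgroup P) := Fintype.ofFinite _
  let s : Finset (Subgroup P) :=
    Finset.univ.filter fun C => C.Normal ∧ B ≤ C ∧ C ≤ A ∧ IsMulCommutative C
  have hsne : s.Nonempty := ⟨B, Finset.mem_filter.mpr ⟨Finset.mem_univ _, ‹_›, le_rfl, hBA, hB⟩⟩
  obtain ⟨C, hC⟩ := s.exists_maximal hsne
  obtain ⟨hCn, hBC, hCA, hCc⟩ := (Finset.mem_filter.mp hC.1).2
  refine ⟨C, hCn, hBC, hCA, ?_, ?_⟩
  · haveI := hCn; exact Subgroup.le_normalizer_of_normal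
  haveI := hCn
  have hCD : C ≤ A ⊓ Subgroup.centralizer (C : Set P) := by
    refine le_inf hCA fun x hx => ?_
    rw [Subgroup.mem_centralizer_iff]
    intro y hy
    exact congrArg Subtype.val (hCc.is_comm.comm ⟨y, hy⟩ ⟨x, hx⟩)
  refine le_antisymm ?_ hCD
  by_contra hne
  set D := A ⊓ Subgroup.centralizer (C : Set P) with hDdef
  haveI : D.Normal := inferInstance
  haveI : (D.map (QuotientGroup.mk' C)).Normal :=
    Subgroup.Normal.map inferInstance _ (QuotientGroup.mk'_surjective C)
  have hDb : D.map (QuotientGroup.mk' C) ≠ ⊥ := by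
    intro h
    rw [Subgroup.map_eq_bot_iff, QuotientGroup.ker_mk'] at h
    exact hne h
  have := CfsgLib.PGroups.inf_center_ne_bot (hP.to_quotient C) hDb
  obtain ⟨y, hy, hy1⟩ := (Subgroup.bot_or_exists_ne_one _).resolve_left this
  obtain ⟨⟨x, hxD, rfl⟩, hyc⟩ := hy
  have hxC : x ∉ C := fun h => hy1 ((QuotientGroup.eq_one_iff x).mpr h)
  have hcomm : ∀ g : P, ∃ c ∈ C, g * x * g⁻¹ = x * c := by
    intro g
    refine ⟨x⁻¹ * (g * x * g⁻¹), ?_, by group⟩
    rw [← QuotientGroup.eq, QuotientGroup.mk_mul, QuotientGroup.mk_mul, QuotientGroup.mk_inv]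
    have := Subgroup.mem_center_iff.mp hyc (g : P ⧸ C)
    rw [QuotientGroup.mk'_apply] at this
    rw [this, mul_inv_cancel_right]
  set C' := C ⊔ Subgroup.zpowers x with hC'
  have hCC' : C ≤ C' := le_sup_left
  have hxC' : x ∈ C' := Subgroup.mem_sup_right (Subgroup.mem_zpowers x)
  have hn' : C'.Normal := by
    rw [hC', ← Subgroup.closure_eq C, Subgroup.zpowers_eq_closure, ← Subgroup.closure_union]
    apply Subgroup.Normal.mk
    intro a ha g
    induction ha using Subgroup.closure_induction with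
    | mem z hz =>
      rcases hz with hz | hz
      · exact Subgroup.subset_closure (Or.inl (hCn.conj_mem z hz g))
      · rw [Set.mem_singleton_iff] at hz
        subst hz
        obtain ⟨c, hc, e⟩ := hcomm g
        rw [e]
        exact mul_mem (Subgroup.subset_closure (Or.inr rfl)) (Subgroup.subset_closure (Or.inl hc))
    | one => simp
    | mul a b _ _ h1 h2 =>
      have e : g * (a * b) * g⁻¹ = (g * a * g⁻¹) * (g * b * g⁻¹) := by group
      rw [e]; exact mul_mem h1 h2
    | inv a _ h1 =>
      have e : g * a⁻¹ * g⁻¹ = (g * a * g⁻¹)⁻¹ := by group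
      rw [e]; exact inv_mem h1
  have hc' : IsMulCommutative C' := by
    rw [hC', ← Subgroup.closure_eq C, Subgroup.zpowers_eq_closure, ← Subgroup.closure_union]
    refine Subgroup.isMulCommutative_closure fun a ha b hb => ?_
    rcases ha with ha | ha <;> rcases hb with hb | hb
    · exact congrArg Subtype.val (hCc.is_comm.comm ⟨a, ha⟩ ⟨b, hb⟩)
    · rw [Set.mem_singleton_iff] at hb; subst hb
      exact (Subgroup.mem_centralizer_iff.mp hxD.2 a ha)
    · rw [Set.mem_singleton_iff] at ha; subst ha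
      exact (Subgroup.mem_centralizer_iff.mp hxD.2 b hb).symm
    · rw [Set.mem_singleton_iff] at ha hb; subst ha; subst hb; rfl
  have hmem : C' ∈ s := Finset.mem_filter.mpr
    ⟨Finset.mem_univ _, hn', hBC.trans hCC', sup_le hCA (Subgroup.zpowers_le.mpr hxD.1), hc'⟩
  exact hxC (hC.2 hmem hCC' hxC')

end Cfsg.Agent.S1894
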