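import Cfsg.Statements.S1895
import Cfsg.Agent.Lib.Techniques.RankTwoChief

set_option autoImplicit false
open Cfsg

namespace Cfsg.Agent.S1895

/-- Let p be an odd prime and G a finite p-solvable group with no elementary abelian subgroup of order p³. Then every chief factor H/K of G (H, K normal in G with no normal subgroup of G strictly between them) whose order is a power of p has order p or p². -/
theorem result {G : Type*} [Group G] [Finite G] {p : ℕ} [Fact p.Prime] (hp : p ≠ 2)
    (hG : Cfsg.IsPSolvable p G) (hr : Cfsg.PRankLE p 2 G)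
    (H K : Subgroup G) [H.Normal] [K.Normal] (hKH : K < H) (hpow : ∃ n : ℕ, K.relIndex H = p ^ n)
    (hchief : ∀ L : Subgroup G, L.Normal → K ≤ L → L ≤ H → L = K ∨ L = H) :
    K.relIndex H = p ∨ K.relIndex H = p ^ 2 := by
  set N := Cfsg.pPrimeCore p G with hN
  have hcop : (Nat.card N).Coprime p := CfsgLib.Core.coprime_card_pPrimeCore p G
  obtain ⟨n, hn⟩ := hpow
  have hpp : p.Prime := Fact.out
  have hHN : H ⊓ N ≤ K := by
    rw [← Subgroup.relIndex_eq_one]
    refine Nat.eq_one_of_dvd_coprimes (hcop.pow_right n) ?_ ?_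
    · exact (Subgroup.relIndex_dvd_card K (H ⊓ N)).trans (Subgroup.card_dvd_of_le inf_le_right)
    · rw [← hn]
      exact CfsgLib.PLocal.relIndex_dvd_of_normal_le _ inf_le_left
  set f := QuotientGroup.mk' N with hf
  have hfs : Function.Surjective f := QuotientGroup.mk'_surjective _
  haveI : (H.map f).Normal := ‹H.Normal›.map f hfs
  haveI : (K.map f).Normal := ‹K.Normal›.map f hfs
  have hrank : Cfsg.PRankLE p 2 (G ⧸ N) := by
    intro A hA hAe
    have hAp : IsPGroup p A := fun a => ⟨1, Subtype.ext (by simpa using hAe a a.2)⟩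
    obtain ⟨Q⟩ : Nonempty (Sylow p (A.comap f)) := inferInstance
    set Q' : Subgroup G := (Q : Subgroup (A.comap f)).map (A.comap f).subtype with hQ'
    have hQp : IsPGroup p Q' := Q.2.map _
    have hsup : Q' ⊔ N = A.comap f := by
      refine CfsgLib.PLocal.sup_eq_of_coprime_relIndex (p := p) (Subgroup.map_subtype_le _)
        ((QuotientGroup.ker_mk' N).symm.le.trans (Subgroup.ker_le_comap _ _)) ?_ ?_
      · rw [Subgroup.relIndex, Subgroup.subgroupOf,
          Subgroup.comap_map_eq_self_of_injective (Subgroup.subtype_injective _)]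
        exact Q.not_dvd_index
      · obtain ⟨j, hj⟩ := IsPGroup.iff_card.1 hAp
        refine ⟨j, ?_⟩
        rw [← hj, ← Subgroup.map_comap_eq_self_of_surjective hfs A, ← Subgroup.relIndex_ker,
          QuotientGroup.ker_mk', Subgroup.map_comap_eq_self_of_surjective hfs A]
    have hdis : ∀ x ∈ Q', x ∈ N → x = 1 := fun x h1 h2 => by
      obtain ⟨j, hj⟩ := IsPGroup.iff_card.1 hQp
      exact Subgroup.disjoint_def.1 (Subgroup.disjoint_of_coprime_natCard
        (by rw [hj]; exact hcop.symm.pow_left j)) h1 h2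
    have hinj : ∀ x ∈ Q', ∀ y ∈ Q', f x = f y → x = y := fun x hx y hy h =>
      inv_mul_eq_one.1 (hdis _ (mul_mem (inv_mem hx) hy) (QuotientGroup.eq.1 h))
    have hmem : ∀ x ∈ Q', f x ∈ A := fun x hx => by
      have : x ∈ A.comap f := Subgroup.map_subtype_le _ hx
      exact this
    have hQA : Q'.map f = A := by
      rw [← Subgroup.map_comap_eq_self_of_surjective hfs A, ← hsup, Subgroup.map_sup,
        show N.map f = ⊥ from QuotientGroup.map_mk'_self N, sup_bot_eq]
    have hcard : Nat.card A = Nat.card Q' := by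
      refine Nat.card_congr (Equiv.ofBijective (fun x : Q' => (⟨f x, hmem x x.2⟩ : A)) ⟨?_, ?_⟩).symm
      · exact fun x y h => Subtype.ext (hinj x x.2 y y.2 (congrArg Subtype.val h))
      · rintro ⟨a, ha⟩
        rw [← hQA] at ha
        obtain ⟨x, hx, rfl⟩ := ha
        exact ⟨⟨x, hx⟩, rfl⟩
    rw [hcard]
    refine hr Q' ⟨⟨fun a b => Subtype.ext ?_⟩⟩ fun a ha => ?_
    · refine hinj _ (mul_mem a.2 b.2) _ (mul_mem b.2 a.2) ?_
      simp only [map_mul]
      exact congrArg Subtype.val (hA.is_comm.comm ⟨f a, hmem _ a.2⟩ ⟨f b, hmem _ b.2⟩)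
    · exact hdis _ (pow_mem ha p) ((QuotientGroup.eq_one_iff _).1
        ((map_pow f a p).trans (hAe _ (hmem a ha))))
  have hle := CfsgLib.Techniques.chief_le_sq hp (CfsgLib.PLocal.isPSolvable_quotient hG N)
    (CfsgLib.Core.pPrimeCore_quotient_pPrimeCore p G) hrank (H.map f) (K.map f) (Subgroup.map_mono hKH.le)
    ⟨n, by rw [CfsgLib.Techniques.relIndex_map_of_inf_le hKH.le hHN, hn]⟩
    (CfsgLib.Techniques.chief_map hKH.le hchief N)
  rw [CfsgLib.Techniques.relIndex_map_of_inf_le hKH.le hHN, hn] at hle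
  have h2 : n ≤ 2 := (Nat.pow_le_pow_iff_right hpp.one_lt).1 hle
  have h0 : n ≠ 0 := fun h => hKH.not_ge (Subgroup.relIndex_eq_one.1 (by rw [hn, h, pow_zero]))
  interval_cases n
  · exact absurd rfl h0
  · exact Or.inl (by rw [hn, pow_one])
  · exact Or.inr hn

end Cfsg.Agent.S1895
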