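import Cfsg.Statements.S1897
import Cfsg.Agent.Lib.Known.U33L27

set_option autoImplicit false
open Cfsg

namespace Cfsg.Agent.S1897

/-- The projective special unitary group PSU₃(3) (realised over the field with 9 elements) has a subgroup isomorphic to PSL₂(7). -/
theorem result {F : Type*} [Field F] [Fintype F] (hF : Fintype.card F = 9)
    {K : Type*} [Field K] [Fintype K] (hK : Fintype.card K = 7) :
    ∃ H : Subgroup (Cfsg.PSU 3 F 3), Nonempty (H ≃* Matrix.ProjectiveSpecialLinearGroup (Fin 2) K) := by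
  classical
  haveI : Fact (Nat.Prime 3) := ⟨Nat.prime_three⟩
  haveI : Fact (Nat.Prime 7) := ⟨by norm_num⟩
  haveI : CharP F 3 := by
    obtain ⟨p, hp⟩ := CharP.exists F
    haveI := hp
    haveI : Fact p.Prime := ⟨CharP.char_is_prime F p⟩
    obtain ⟨n, -, hn⟩ := FiniteField.card F p
    rw [hF, show (9 : ℕ) = 3 ^ 2 by norm_num] at hn
    have h3 : p ∣ 3 := (Fact.out : p.Prime).dvd_of_dvd_pow (hn.symm ▸ dvd_pow_self p n.pos.ne')
    have hp3 : p = 3 := (Nat.prime_dvd_prime_iff_eq Fact.out Nat.prime_three).1 h3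
    exact hp3 ▸ hp
  obtain ⟨i, hi⟩ : IsSquare (-1 : F) := FiniteField.isSquare_neg_one_iff.2 (by omega)
  have hi' : i * i = -1 := hi.symm
  let e : ZMod 7 ≃+* K := ZMod.ringEquivOfPrime K (by norm_num) hK
  let ψ : Matrix.SpecialLinearGroup (Fin 2) K →* Cfsg.PSU 3 F 3 :=
    ((QuotientGroup.mk' (Subgroup.center (Cfsg.SU 3 F 3))).comp (CfsgLib.Known.U33L27.toSU hi')).comp
      (Matrix.SpecialLinearGroup.map e.symm.toRingHom)
  have hker : Subgroup.center (Matrix.SpecialLinearGroup (Fin 2) K) ≤ ψ.ker := by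
    intro x hx
    have hx' : Matrix.SpecialLinearGroup.map e.symm.toRingHom x ∈
        Subgroup.center (Matrix.SpecialLinearGroup (Fin 2) (ZMod 7)) := by
      obtain ⟨r, hr, hrx⟩ := Matrix.SpecialLinearGroup.mem_center_iff.1 hx
      refine Matrix.SpecialLinearGroup.mem_center_iff.2 ⟨e.symm r, by rw [← map_pow, hr, map_one], ?_⟩
      rw [Matrix.SpecialLinearGroup.map_apply_coe, ← hrx]
      ext a b
      by_cases hab : a = b <;> simp [hab]
    rw [MonoidHom.mem_ker]
    rcases CfsgLib.Known.U33L27.center_cases hx' with h | h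
    · show QuotientGroup.mk' _ (CfsgLib.Known.U33L27.toSU hi' _) = 1
      rw [h, map_one, map_one]
    · show QuotientGroup.mk' _ (CfsgLib.Known.U33L27.toSU hi' _) = 1
      rw [CfsgLib.Known.U33L27.toSU_neg_one hi' h, map_one]
  let θ : Matrix.ProjectiveSpecialLinearGroup (Fin 2) K →* Cfsg.PSU 3 F 3 :=
    QuotientGroup.lift _ ψ hker
  haveI : IsSimpleGroup (Matrix.ProjectiveSpecialLinearGroup (Fin 2) K) :=
    Matrix.ProjectiveSpecialLinearGroup.rank_two_simple (by rw [Nat.card_eq_fintype_card, hK]; norm_num)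
  have hinj : Function.Injective θ := by
    rw [← MonoidHom.ker_eq_bot_iff]
    refine (θ.normal_ker.eq_bot_or_eq_top).resolve_right fun h => CfsgLib.Known.U33L27.not_central hi' ?_
    have h1 : θ (QuotientGroup.mk (Matrix.SpecialLinearGroup.map e.toRingHom CfsgLib.Known.U33L27.sU)) = 1 :=
      MonoidHom.mem_ker.1 (h ▸ Subgroup.mem_top _)
    rw [QuotientGroup.lift_mk] at h1
    have h2 : Matrix.SpecialLinearGroup.map e.symm.toRingHom
        (Matrix.SpecialLinearGroup.map e.toRingHom CfsgLib.Known.U33L27.sU) = CfsgLib.Known.U33L27.sU :=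
      Subtype.ext (Matrix.ext fun a b => e.symm_apply_apply _)
    exact (QuotientGroup.eq_one_iff _).1 (h2 ▸ h1)
  exact ⟨θ.range, ⟨(MonoidHom.ofInjective hinj).symm⟩⟩

end Cfsg.Agent.S1897
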