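import Cfsg.Statements.S1898

set_option autoImplicit false
open Cfsg

namespace Cfsg.Agent.S1898

/-- Let X be a finite 2-group whose derived subgroup is elementary abelian and central. Then the subgroup generated by the elements of order dividing 4 has exponent dividing 4, and every automorphism of X fixing each element of order dividing 4 has 2-power order. -/
theorem result {X : Type*} [Group X] [Finite X] (hX : IsPGroup 2 X)
    (hel : Cfsg.IsElementaryAbelian 2 (commutator X)) (hcen : commutator X ≤ Subgroup.center X) :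
    (∀ x ∈ Subgroup.closure {g : X | g ^ 4 = 1}, x ^ 4 = 1) ∧
      ∀ φ : MulAut X, (∀ g : X, g ^ 4 = 1 → φ g = g) → ∃ k : ℕ, φ ^ (2 ^ k) = 1 := by
  have hc2 : ∀ c ∈ commutator X, c ^ 2 = 1 := hel.2
  have hcz : ∀ c ∈ commutator X, ∀ y : X, Commute c y := fun c hc y =>
    (Subgroup.mem_center_iff.mp (hcen hc) y).symm
  have hcm : ∀ x y : X, y * x * y⁻¹ * x⁻¹ ∈ commutator X := fun x y => by
    rw [commutator_eq_closure]; exact Subgroup.subset_closure ⟨y, x, by rw [commutatorElement_def]⟩
  have hsqz : ∀ x y : X, Commute (x ^ 2) y := by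
    intro x y
    set c := y * x * y⁻¹ * x⁻¹ with hc
    have h1 : y * x = c * (x * y) := by rw [hc]; group
    have hcx := (hcz c (hcm x y) x).eq
    show x ^ 2 * y = y * x ^ 2
    symm
    calc y * x ^ 2 = (y * x) * x := by rw [pow_two, mul_assoc]
      _ = c * (x * (y * x)) := by rw [h1]; simp only [mul_assoc]; rw [← h1]
      _ = c * ((x * c) * (x * y)) := by rw [h1]; simp only [mul_assoc]
      _ = c * ((c * x) * (x * y)) := by rw [hcx]
      _ = c ^ 2 * (x ^ 2 * y) := by simp only [pow_two, mul_assoc]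
      _ = x ^ 2 * y := by rw [hc2 c (hcm x y), one_mul]
  have hsq : ∀ x y : X, ∃ c ∈ commutator X, (x * y) ^ 2 = c * (x ^ 2 * y ^ 2) := by
    intro x y
    refine ⟨y * x * y⁻¹ * x⁻¹, hcm x y, ?_⟩
    set c := y * x * y⁻¹ * x⁻¹ with hc
    have h1 : y * x = c * (x * y) := by rw [hc]; group
    have hcx := (hcz c (hcm x y) x).eq
    calc (x * y) ^ 2 = x * (y * x) * y := by simp only [pow_two, mul_assoc]
      _ = (x * c) * (x * y) * y := by rw [h1]; simp only [mul_assoc]
      _ = (c * x) * (x * y) * y := by rw [hcx]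
      _ = c * (x ^ 2 * y ^ 2) := by simp only [pow_two, mul_assoc]
  have h4 : ∀ x y : X, (x * y) ^ 4 = x ^ 4 * y ^ 4 := by
    intro x y
    obtain ⟨c, hc, h⟩ := hsq x y
    calc (x * y) ^ 4 = ((x * y) ^ 2) ^ 2 := by rw [← pow_mul]
      _ = (c * (x ^ 2 * y ^ 2)) ^ 2 := by rw [h]
      _ = c ^ 2 * ((x ^ 2) ^ 2 * (y ^ 2) ^ 2) := by
          rw [(hcz c hc _).mul_pow, (hsqz x (y ^ 2)).mul_pow]
      _ = x ^ 4 * y ^ 4 := by rw [hc2 c hc, one_mul, ← pow_mul, ← pow_mul]
  refine ⟨?_, ?_⟩
  · intro x hx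
    induction hx using Subgroup.closure_induction with
    | mem g hg => exact hg
    | one => exact one_pow _
    | mul a b _ _ ha hb => rw [h4, ha, hb, one_mul]
    | inv a _ ha => rw [inv_pow, ha, inv_one]
  · intro φ hφ
    obtain ⟨k, m, hm, hkm⟩ := Nat.exists_eq_two_pow_mul_odd (orderOf_pos φ).ne'
    refine ⟨k, ?_⟩
    set ψ := φ ^ (2 ^ k) with hψ
    have hψm : ψ ^ m = 1 := by rw [hψ, ← pow_mul, ← hkm, pow_orderOf_eq_one]
    have hψfix : ∀ g : X, g ^ 4 = 1 → ψ g = g := by
      intro g hg
      rw [hψ]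
      generalize 2 ^ k = n
      induction n with
      | zero => rfl
      | succ n ih => rw [pow_succ', MulAut.mul_apply, ih, hφ g hg]
    suffices H : ∀ N : ℕ, ∀ x : X, orderOf x < N → ψ x = x by
      ext x
      exact H (orderOf x + 1) x (Nat.lt_succ_self _)
    intro N
    induction N with
    | zero => intro x h; omega
    | succ N ih =>
      intro x hx
      by_cases hx4 : x ^ 4 = 1
      · exact hψfix x hx4
      have hlt : orderOf (x ^ 2) < orderOf x := by
        obtain ⟨j, hj⟩ := (IsPGroup.iff_orderOf.mp hX) x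
        have hj0 : j ≠ 0 := by
          intro h0; rw [h0, pow_zero, orderOf_eq_one_iff] at hj; exact hx4 (by rw [hj, one_pow])
        rw [orderOf_pow, hj, Nat.gcd_eq_right (dvd_pow_self 2 hj0)]
        exact Nat.div_lt_self (by positivity) one_lt_two
      have hfix2 : ψ (x ^ 2) = x ^ 2 := ih _ (by omega)
      set d := x⁻¹ * ψ x with hd
      have hψx : ψ x = x * d := by rw [hd]; group
      obtain ⟨c, hc, hcd⟩ := hsq x d
      have hd2 : d ^ 2 = c⁻¹ := by
        rw [← hψx, ← map_pow, hfix2] at hcd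
        have : x ^ 2 = x ^ 2 * (c * d ^ 2) := by
          rw [← mul_assoc, ← (hcz c hc (x ^ 2)).eq, mul_assoc]; exact hcd
        exact eq_inv_of_mul_eq_one_right (mul_left_cancel (this.symm.trans (mul_one _).symm))
      have hd4 : d ^ 4 = 1 := by
        calc d ^ 4 = (d ^ 2) ^ 2 := by rw [← pow_mul]
          _ = 1 := by rw [hd2, inv_pow, hc2 c hc, inv_one]
      have hdfix := hψfix d hd4
      have hpow : ∀ n : ℕ, (ψ ^ n) x = x * d ^ n := by
        intro n
        induction n with
        | zero => simp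
        | succ n ihn => rw [pow_succ', MulAut.mul_apply, ihn, map_mul, hψx, map_pow, hdfix, mul_assoc, ← pow_succ']
      have hdm : d ^ m = 1 := by
        have := hpow m
        rw [hψm, MulAut.one_apply] at this
        exact mul_left_cancel (this.symm.trans (mul_one x).symm)
      have hd1 : orderOf d = 1 := by
        refine Nat.eq_one_of_dvd_coprimes (a := 4) (b := m) ?_ (orderOf_dvd_of_pow_eq_one hd4) (orderOf_dvd_of_pow_eq_one hdm)
        exact (Nat.coprime_two_left.mpr hm).pow_left 2
      rw [hψx, orderOf_eq_one_iff.mp hd1, mul_one]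

end Cfsg.Agent.S1898
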