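import Cfsg.Statements.S1899

set_option autoImplicit false
open Cfsg

namespace Cfsg.Agent.S1899

/-- Let a dihedral group of order 2n, n odd and n > 1, act on a finite abelian 2-group A through automorphisms d and t with d^n = 1, t² = 1 and t d t⁻¹ = d⁻¹, and suppose that d fixes only the identity. Then A is the internal direct product of C_A(t) and its image under d. -/
theorem result {A : Type*} [CommGroup A] [Finite A] (hA : IsPGroup 2 A)
    {n : ℕ} (hn : Odd n) (hn1 : 1 < n) (d t : MulAut A) (hd : d ^ n = 1) (ht : t ^ 2 = 1) (hdt : t * d * t⁻¹ = d⁻¹)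
    (hfix : ∀ a : A, d a = a → a = 1) :
    (MulEquiv.toMonoidHom t).eqLocus (MonoidHom.id A) ⊓ ((MulEquiv.toMonoidHom t).eqLocus (MonoidHom.id A)).map d.toMonoidHom = ⊥ ∧
      (MulEquiv.toMonoidHom t).eqLocus (MonoidHom.id A) ⊔ ((MulEquiv.toMonoidHom t).eqLocus (MonoidHom.id A)).map d.toMonoidHom = ⊤ := by
  have hd2 : ∀ a : A, d (d a) = a → a = 1 := by
    intro a h
    apply hfix
    obtain ⟨m, rfl⟩ := hn
    have h2m : ∀ j : ℕ, (d ^ (2 * j)) a = a := by
      intro j
      induction j with
      | zero => rfl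
      | succ j ih =>
        rw [Nat.mul_succ, pow_add, MulAut.mul_apply]
        have : (d ^ 2) a = a := by rw [pow_two, MulAut.mul_apply]; exact h
        rw [this, ih]
    have h1 : (d ^ (2 * m + 1)) a = a := by rw [hd]; rfl
    rw [pow_succ', MulAut.mul_apply, h2m m] at h1
    exact h1
  have htt : ∀ a : A, t (t a) = a := fun a => by
    rw [← MulAut.mul_apply, ← pow_two, ht]; rfl
  have htd : ∀ a : A, t (d a) = d⁻¹ (t a) := by
    intro a
    have : t * d = d⁻¹ * t := by rw [← hdt, inv_mul_cancel_right]
    rw [← MulAut.mul_apply, this, MulAut.mul_apply]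
  have htd' : ∀ a : A, t (d⁻¹ a) = d (t a) := by
    intro a
    have := htd (d⁻¹ a)
    rw [MulAut.apply_inv_self] at this
    rw [this, MulAut.apply_inv_self]
  constructor
  · rw [eq_bot_iff]
    rintro a ⟨ha, b, hb, rfl⟩
    have ha' : t (d b) = d b := ha
    have hb' : t b = b := hb
    rw [htd, hb'] at ha'
    have hb2 : d (d b) = b := by
      have := congrArg d ha'
      rw [MulAut.apply_inv_self] at this
      exact this.symm
    rw [Subgroup.mem_bot]
    show d b = 1
    rw [hd2 b hb2, map_one]
  · rw [eq_top_iff]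
    intro a _
    let ψ : A →* A := (MulEquiv.toMonoidHom d) / (MulEquiv.toMonoidHom d⁻¹)
    have hψ : Function.Injective ψ := by
      rw [injective_iff_map_eq_one]
      intro x hx
      apply hd2
      have hx' : d x / d⁻¹ x = 1 := hx
      rw [div_eq_one] at hx'
      rw [hx', MulAut.apply_inv_self]
    obtain ⟨c, hc⟩ := (Finite.injective_iff_surjective.mp hψ) (a / t a)
    have hc' : d c / d⁻¹ c = a / t a := hc
    have hc2 : t c = c := by
      apply hψ
      show d (t c) / d⁻¹ (t c) = d c / d⁻¹ c
      have h1 := congrArg t hc'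
      rw [map_div, map_div, htd, htd', htt] at h1
      rw [hc', ← inv_div (t a) a, ← h1, inv_div]
    have hb : t (a / d c) = a / d c := by
      rw [map_div, htd, hc2, div_eq_div_iff_mul_eq_mul]
      rw [div_eq_div_iff_mul_eq_mul] at hc'
      rw [mul_comm (t a), hc']
    rw [Subgroup.mem_sup]
    exact ⟨a / d c, hb, d c, ⟨c, hc2, rfl⟩, div_mul_cancel a (d c)⟩

end Cfsg.Agent.S1899
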