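import Cfsg.Statements.S1900
import Cfsg.Agent.Lib.Techniques.TwoFixed

set_option autoImplicit false
open Cfsg

namespace Cfsg.Agent.S1900

/-- Let S = PQ be a finite group with P a normal Sylow p-subgroup and Q elementary abelian of order q², q a prime different from p. If exactly two subgroups X₁, X₂ of order q in Q have a nontrivial centralizer in P, then P is the internal direct product of C_P(X₁) and C_P(X₂): they commute elementwise, meet trivially and generate P. -/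
theorem result {S : Type*} [Group S] [Finite S] {p q : ℕ} [Fact p.Prime] [Fact q.Prime] (hpq : p ≠ q)
    (P : Sylow p S) [(P : Subgroup S).Normal] (Q : Subgroup S) (hQ : Cfsg.IsElementaryAbelian q Q) (hQc : Nat.card Q = q ^ 2)
    (hS : (P : Subgroup S) ⊔ Q = ⊤)
    (X₁ X₂ : Subgroup S) (h₁ : X₁ ≤ Q) (h₂ : X₂ ≤ Q) (h₁₂ : X₁ ≠ X₂) (hc₁ : Nat.card X₁ = q) (hc₂ : Nat.card X₂ = q)
    (hf₁ : (P : Subgroup S) ⊓ Subgroup.centralizer (X₁ : Set S) ≠ ⊥)
    (hf₂ : (P : Subgroup S) ⊓ Subgroup.centralizer (X₂ : Set S) ≠ ⊥)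
    (honly : ∀ X : Subgroup S, X ≤ Q → Nat.card X = q →
      (P : Subgroup S) ⊓ Subgroup.centralizer (X : Set S) ≠ ⊥ → X = X₁ ∨ X = X₂) :
    ⁅(P : Subgroup S) ⊓ Subgroup.centralizer (X₁ : Set S), (P : Subgroup S) ⊓ Subgroup.centralizer (X₂ : Set S)⁆ = ⊥ ∧
      ((P : Subgroup S) ⊓ Subgroup.centralizer (X₁ : Set S)) ⊓ ((P : Subgroup S) ⊓ Subgroup.centralizer (X₂ : Set S)) = ⊥ ∧
      ((P : Subgroup S) ⊓ Subgroup.centralizer (X₁ : Set S)) ⊔ ((P : Subgroup S) ⊓ Subgroup.centralizer (X₂ : Set S)) = P := by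
  obtain ⟨h0, hgen, hcomm⟩ := CfsgLib.Techniques.two_fixed_lines hpq _ S (P : Subgroup S) Q rfl
    inferInstance P.2 hQ hQc hS X₁ X₂ h₁ h₂ h₁₂ hc₁ hc₂ honly
  refine ⟨?_, ?_, le_antisymm (sup_le inf_le_left inf_le_left) hgen⟩
  · rw [Subgroup.commutator_eq_bot_iff_le_centralizer]
    intro x hx
    exact Subgroup.mem_centralizer_iff.mpr fun y hy => (hcomm x hx y hy).symm
  · haveI : IsMulCommutative Q := hQ.1
    rw [eq_bot_iff, ← h0]
    rintro w ⟨hw1, hw2⟩
    refine ⟨hw1.1, Subgroup.mem_centralizer_iff.mpr fun a ha => ?_⟩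
    have hle : X₁ ⊔ X₂ ≤ Subgroup.centralizer ({w} : Set S) := sup_le
      (fun b hb => Subgroup.mem_centralizer_iff.mpr fun v hv => by
        rw [Set.mem_singleton_iff] at hv; subst hv
        exact (Subgroup.mem_centralizer_iff.mp hw1.2 b hb).symm)
      (fun b hb => Subgroup.mem_centralizer_iff.mpr fun v hv => by
        rw [Set.mem_singleton_iff] at hv; subst hv
        exact (Subgroup.mem_centralizer_iff.mp hw2.2 b hb).symm)
    exact (Subgroup.mem_centralizer_iff.mp (hle (CfsgLib.Techniques.le_sup_lines h₁ h₂ h₁₂ hc₁ hc₂ hQc ha)) w rfl).symm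

end Cfsg.Agent.S1900
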