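import Cfsg.Statements.S1901
import Cfsg.Agent.Lib.Techniques.CoprimeNormalizer

set_option autoImplicit false
open Cfsg

namespace Cfsg.Agent.S1901

/-- Let G be a finite p-solvable group and Q a subgroup of order prime to p such that p divides the index of C_G(Q) in N_G(Q). Then Q normalizes no Sylow p-subgroup of G. -/
theorem result {G : Type*} [Group G] [Finite G] {p : ℕ} [Fact p.Prime]
    (hG : Cfsg.IsPSolvable p G) (Q : Subgroup G) (hQ : ¬ p ∣ Nat.card Q)
    (hA : p ∣ (Subgroup.centralizer (Q : Set G)).relIndex (Subgroup.normalizer (Q : Set G)))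
    (P : Sylow p G) : ¬ Q ≤ Subgroup.normalizer ((P : Subgroup G) : Set G) := by
  intro hQP
  obtain ⟨T, -, hT⟩ := CfsgLib.Techniques.exists_isSylowSub (p := p)
    (bot_le : (⊥ : Subgroup G) ≤ Subgroup.normalizer (Q : Set G)) IsPGroup.of_bot
  have hTC : T ≤ Subgroup.centralizer (Q : Set G) := fun x hx => by
    obtain ⟨k, hk⟩ := IsPGroup.iff_orderOf.mp hT.2.1 ⟨x, hx⟩
    rw [Subgroup.orderOf_mk] at hk
    exact CfsgLib.Techniques.centralizes_of_normalizes_sylow _ G rfl hG Q hQ P hQP x (hT.1 hx) ⟨k, hk⟩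
  exact hT.2.2 (hA.trans (Dvd.intro_left _
    (Subgroup.relIndex_mul_relIndex T _ _ hTC (Subgroup.centralizer_le_normalizer _))))

end Cfsg.Agent.S1901
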