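import Cfsg.Statements.S1903
import Cfsg.Agent.Lib.Techniques.PSU34Involution

set_option autoImplicit false
open Cfsg

namespace Cfsg.Agent.S1903

/-- A finite group of order 320 whose derived subgroup has order 64 and has centre a Klein four-group is isomorphic to the centralizer of an involution in PSU₃(4). -/
theorem result {G : Type*} [Group G] [Finite G] (hG : Nat.card G = 320) (hD : Nat.card (commutator G) = 64)
    (hZ : IsKleinFour (Subgroup.center (commutator G)))
    {F : Type*} [Field F] [Fintype F] (hF : Fintype.card F = 16) :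
    ∃ t : Cfsg.PSU 3 F 4, orderOf t = 2 ∧ Nonempty (G ≃* Subgroup.centralizer ({t} : Set (Cfsg.PSU 3 F 4))) := by
  have : Fact (Nat.Prime 2) := ⟨Nat.prime_two⟩
  have : CharP F 2 := charP_of_card_eq_prime_pow (p := 2) (f := 4) (by rw [hF]; norm_num)
  obtain ⟨a, x, hrel, hgen, hmeet⟩ := CfsgLib.Techniques.Order320.exists_data hG hD hZ
  obtain ⟨t, a', x', ht1, ht2, hat, hxt, hrel', hs, hc, hsc, hle⟩ :=
    CfsgLib.Techniques.PSU34Involution.exists_involution (F := F) hF
  have hF2 : Fintype.card F = 4 ^ 2 := by rw [hF]; norm_num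
  have hZ1 : Subgroup.center (Cfsg.SU 3 F 4) = ⊥ := by
    rw [← Subgroup.card_eq_one, CfsgLib.Classical.Herm.card_center_SU hF2 3 le_rfl]
    norm_num
  let e : Cfsg.SU 3 F 4 ≃* Cfsg.PSU 3 F 4 := MulEquiv.ofBijective (QuotientGroup.mk' _)
    ⟨(MonoidHom.ker_eq_bot_iff _).1 (by rw [QuotientGroup.ker_mk']; exact hZ1),
      QuotientGroup.mk'_surjective _⟩
  refine ⟨e t, ?_, ?_⟩
  · rw [MulEquiv.orderOf_eq]
    exact orderOf_eq_prime (by rw [pow_two]; exact ht2) ht1
  set C := Subgroup.centralizer ({t} : Set (Cfsg.SU 3 F 4))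
  have hCe : C.map (e : Cfsg.SU 3 F 4 →* Cfsg.PSU 3 F 4) = Subgroup.centralizer ({e t} : Set (Cfsg.PSU 3 F 4)) := by
    ext z
    obtain ⟨y, rfl⟩ := e.surjective z
    show (e : Cfsg.SU 3 F 4 →* Cfsg.PSU 3 F 4) y ∈ _ ↔ _
    rw [Subgroup.mem_map_iff_mem (f := (e : Cfsg.SU 3 F 4 →* Cfsg.PSU 3 F 4)) e.injective,
      Subgroup.mem_centralizer_singleton_iff, Subgroup.mem_centralizer_singleton_iff, ← map_mul, ← map_mul,
      e.injective.eq_iff]
  obtain ⟨f⟩ := CfsgLib.Techniques.Order320.nonempty_equiv (H := C)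
    (a' := ⟨a', Subgroup.mem_centralizer_singleton_iff.2 hat⟩)
    (x' := ⟨x', Subgroup.mem_centralizer_singleton_iff.2 hxt⟩) hrel
    ⟨Subtype.ext hrel'.a5, Subtype.ext hrel'.xa, Subtype.ext hrel'.s_sq, Subtype.ext hrel'.c_sq,
      Subtype.ext hrel'.s_a, Subtype.ext hrel'.c_a, Subtype.ext hrel'.c_x, Subtype.ext hrel'.c2⟩
    hG hgen hmeet (fun h => hs (congrArg Subtype.val h)) (fun h => hc (congrArg Subtype.val h))
    (fun h => hsc (congrArg Subtype.val h)) hle
  exact ⟨f.trans ((e.subgroupMap C).trans (MulEquiv.subgroupCongr hCe))⟩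

end Cfsg.Agent.S1903
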