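import Cfsg.Statements.S1905
import Cfsg.Agent.Lib.Techniques.InvolutionCosets

set_option autoImplicit false
open Cfsg

namespace Cfsg.Agent.S1905

/-- Let M be a subgroup of even order of a finite group S such that M contains the centralizer in S of each of its involutions and the normal core of M in S has odd order. Then all involutions of S are conjugate. If moreover N_S(X) ≤ M for a Sylow 2-subgroup X of M and I is an involution in the centre of X, then all involutions of M are conjugate in M and M = M₀ C_M(I) for some subgroup M₀ of M of odd order. -/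
theorem result {S : Type*} [Group S] [Finite S] (M : Subgroup S) (hM : Even (Nat.card M))
    (hC : ∀ i ∈ M, orderOf i = 2 → Subgroup.centralizer ({i} : Set S) ≤ M) (hcore : Odd (Nat.card M.normalCore)) :
    (∀ x y : S, orderOf x = 2 → orderOf y = 2 → IsConj x y) ∧
      ∀ (X : Sylow 2 M) (I : M), I ∈ (Subgroup.center ↥(X : Subgroup ↥M)).map (X : Subgroup ↥M).subtype → orderOf I = 2 →
        Subgroup.normalizer (((X : Subgroup M).map M.subtype : Subgroup S) : Set S) ≤ M →
        (∀ x y : M, orderOf x = 2 → orderOf y = 2 → IsConj x y) ∧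
          ∃ M₀ : Subgroup M, Odd (Nat.card M₀) ∧
            ∀ m : M, ∃ a ∈ M₀, ∃ c ∈ Subgroup.centralizer ({I} : Set M), m = a * c := by
  have hall := fun x y (hx : orderOf x = 2) (hy : orderOf y = 2) =>
    CfsgLib.Techniques.all_involutions_conj hC hM hcore hx hy
  refine ⟨hall, fun X I hI hI2 hN => ?_⟩
  have hE := CfsgLib.Techniques.containsNormalizers_of_sylow hC X hN hI hI2
  have hconj : ∀ x y : M, orderOf x = 2 → orderOf y = 2 → IsConj x y := by
    intro x y hx hy
    rw [← Subgroup.orderOf_coe] at hx hy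
    obtain ⟨g, hg⟩ := isConj_iff.1 (hall _ _ hx hy)
    exact isConj_iff.2 ⟨⟨g, CfsgLib.LocalEven.mem_of_conj_mem hE hx x.2 (hg ▸ y.2)⟩, Subtype.ext hg⟩
  refine ⟨hconj, ?_⟩
  have htop : M ≠ ⊤ := by
    intro h
    rw [h, Subgroup.normalCore_eq_self] at hcore
    exact (Nat.not_even_iff_odd.2 hcore) (h ▸ hM)
  rw [← Subgroup.orderOf_coe] at hI2
  obtain ⟨D, hDM, hD, htr⟩ := CfsgLib.Techniques.exists_odd_transitive hC hE htop hall hI2 I.2
  refine ⟨D.subgroupOf M, by rwa [Nat.card_congr (Subgroup.subgroupOfEquivOfLe hDM).toEquiv],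
    fun m => ?_⟩
  obtain ⟨a, ha, he⟩ := htr ((m * I * m⁻¹ : M) : S) (m * I * m⁻¹).2
    (by rw [Subgroup.orderOf_coe, CfsgLib.Signalizer.orderOf_conj, ← Subgroup.orderOf_coe]; exact hI2)
  refine ⟨⟨a, hDM ha⟩, ha, (⟨a, hDM ha⟩ : M)⁻¹ * m, ?_, (mul_inv_cancel_left _ _).symm⟩
  rw [Subgroup.mem_centralizer_singleton_iff]
  apply Subtype.ext
  have he' : a * (I : S) * a⁻¹ = (m : S) * I * (m : S)⁻¹ := he
  show a⁻¹ * (m : S) * I = (I : S) * (a⁻¹ * m)
  calc a⁻¹ * (m : S) * I = a⁻¹ * ((m : S) * I * (m : S)⁻¹) * m := by group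
    _ = a⁻¹ * (a * (I : S) * a⁻¹) * m := by rw [he']
    _ = (I : S) * (a⁻¹ * m) := by group

end Cfsg.Agent.S1905
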