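import Cfsg.Statements.S1906
import Cfsg.Agent.Lib.Techniques.CentralTransfer
import Cfsg.Agent.S2233
import Cfsg.Agent.Lib.PGroups.Basic

set_option autoImplicit false
open Cfsg

namespace Cfsg.Agent.S1906


open Matrix in
/-- A group with a central elementary abelian subgroup of order at least 8 and a faithful
representation of degree 3 is abelian. -/
theorem commute_of_central {K : Type*} [Group K] [Finite K] {F : Type*} [Field F] (h2 : (2 : F) ≠ 0)
    (f : K →* GL (Fin 3) F) (hf : Function.Injective f) (C : Subgroup K)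
    (hC : ∀ c ∈ C, c * c = 1) (hcen : ∀ c ∈ C, ∀ x : K, x * c = c * x) (h8 : 8 ≤ Nat.card C) (x y : K) :
    x * y = y * x := by
  classical
  haveI : Fintype ↥C := Fintype.ofFinite _
  let M : K → Matrix (Fin 3) (Fin 3) F := fun k => ((f k : GL (Fin 3) F) : Matrix (Fin 3) (Fin 3) F)
  have hMmul : ∀ a b, M (a * b) = M a * M b := fun a b => by simp [M]
  have hM1 : M 1 = 1 := by simp [M]
  have hMinj : Function.Injective M := fun a b h => hf (Units.ext h)
  have hspan := Cfsg.Agent.S2233.span_common h2 ((Finset.univ : Finset ↥C).toList.map fun c : ↥C => M (c : K))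
    (fun a ha => by
      obtain ⟨c, -, rfl⟩ := List.mem_map.1 ha
      rw [← hMmul, hC c c.2, hM1])
    (fun a ha b hb => by
      obtain ⟨c, -, rfl⟩ := List.mem_map.1 ha
      obtain ⟨d, -, rfl⟩ := List.mem_map.1 hb
      rw [← hMmul, ← hMmul, hcen d d.2 c])
  set S := {w : Fin 3 → F | ∀ a ∈ (Finset.univ : Finset ↥C).toList.map fun c : ↥C => M (c : K), a *ᵥ w = w ∨ a *ᵥ w = -w}
  obtain ⟨b, hbS, hbsp, hbli⟩ := exists_linearIndependent F S
  let B0 : Module.Basis b F (Fin 3 → F) := Module.Basis.mk hbli (by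
    rw [Subtype.range_coe, hbsp]
    exact fun v _ => hspan v)
  let B := B0.reindex (B0.indexEquiv (Pi.basisFun F (Fin 3)))
  have hB : ∀ i (c : ↥C), M c *ᵥ B i = B i ∨ M c *ᵥ B i = -(B i) := fun i c => by
    have : B i ∈ S := by
      simp only [B, Module.Basis.reindex_apply, B0, Module.Basis.mk_apply]
      exact hbS (Subtype.prop _)
    exact this (M c) (List.mem_map_of_mem (Finset.mem_toList.2 (Finset.mem_univ c)))
  let s : ↥C → Fin 3 → Bool := fun c i => decide (M c *ᵥ B i = B i)
  have hs : ∀ (c : ↥C) i, M c *ᵥ B i = (if s c i then (1 : F) else -1) • B i := fun c i => by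
    by_cases h : M c *ᵥ B i = B i
    · simp [s, h]
    · simp [s, h, (hB i c).resolve_left h]
  have hext : ∀ a b : K, (∀ i, M a *ᵥ B i = M b *ᵥ B i) → a = b := fun a b h =>
    hMinj (Matrix.toLin'.injective (B.ext fun i => by simpa [Matrix.toLin'_apply] using h i))
  have hsinj : Function.Injective s := fun c d h => Subtype.ext (hext _ _ fun i => by rw [hs, hs, h])
  -- the three characters are distinct
  have hsep : ∀ i j : Fin 3, i ≠ j → ∃ c, s c i ≠ s c j := by
    intro i j hij
    by_contra hcon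
    push Not at hcon
    obtain ⟨k, hki, hkj⟩ := (show ∀ i j : Fin 3, ∃ k : Fin 3, k ≠ i ∧ k ≠ j by decide) i j
    have hinj : Function.Injective fun c => (s c i, s c k) := fun c d h => by
      simp only [Prod.mk.injEq] at h
      refine hsinj (funext fun l => ?_)
      rcases (show ∀ i j k l : Fin 3, i ≠ j → k ≠ i → k ≠ j → l = i ∨ l = j ∨ l = k by decide) i j k l hij hki hkj with rfl | rfl | rfl
      · exact h.1
      · rw [← hcon, ← hcon]; exact h.1
      · exact h.2
    have := Nat.card_le_card_of_injective _ hinj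
    rw [Nat.card_prod, Nat.card_eq_fintype_card (α := Bool), Fintype.card_bool] at this
    omega
  have hdiag : ∀ (z : K) i, ∃ l : F, M z *ᵥ B i = l • B i := by
    intro z i
    refine ⟨B.repr (M z *ᵥ B i) i, B.ext_elem fun k => ?_⟩
    rw [map_smul, Module.Basis.repr_self, Finsupp.smul_apply, smul_eq_mul, Finsupp.single_apply]
    by_cases hki : i = k
    · subst hki; simp
    rw [if_neg hki, mul_zero]
    obtain ⟨c, hc⟩ := hsep i k hki
    have key : (if s c i then (1 : F) else -1) * B.repr (M z *ᵥ B i) k =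
        (if s c k then (1 : F) else -1) * B.repr (M z *ᵥ B i) k := by
      have h1 : M c *ᵥ (M z *ᵥ B i) = (if s c i then (1 : F) else -1) • (M z *ᵥ B i) := by
        rw [Matrix.mulVec_mulVec, ← hMmul, ← hcen c c.2 z, hMmul, ← Matrix.mulVec_mulVec, hs,
          Matrix.mulVec_smul]
      have h2' : ∀ v, B.repr (M c *ᵥ v) k = (if s c k then (1 : F) else -1) * B.repr v k := by
        intro v
        have : (B.coord k).comp (Matrix.toLin' (M c)) = (if s c k then (1 : F) else -1) • B.coord k := by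
          refine B.ext fun l => ?_
          simp only [LinearMap.comp_apply, Matrix.toLin'_apply, hs, map_smul, Module.Basis.coord_apply,
            LinearMap.smul_apply, Module.Basis.repr_self, Finsupp.smul_apply, smul_eq_mul, Finsupp.single_apply]
          by_cases hlk : l = k
          · subst hlk; rfl
          · simp [hlk]
        exact LinearMap.congr_fun this v
      have h3 := congrArg (fun v => B.repr v k) h1
      simp only [h2', map_smul, Finsupp.smul_apply, smul_eq_mul] at h3
      exact h3.symm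
    have hne : (if s c i then (1 : F) else -1) ≠ if s c k then (1 : F) else -1 := by
      have h11 : (1 : F) ≠ -1 := fun e => h2 (by linear_combination e)
      revert hc
      cases s c i <;> cases s c k <;> simp [h11, Ne.symm h11]
    by_contra hne0
    exact hne (mul_right_cancel₀ hne0 key)
  refine hext _ _ fun i => ?_
  obtain ⟨l, hl⟩ := hdiag x i
  obtain ⟨m, hm⟩ := hdiag y i
  rw [hMmul, hMmul, ← Matrix.mulVec_mulVec, ← Matrix.mulVec_mulVec, hm, hl, Matrix.mulVec_smul,
    Matrix.mulVec_smul, hm, hl, smul_comm]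

/-- `-1` lies in every elementary abelian subgroup of order 8 of `GL₃`. -/
theorem neg_one_mem {F : Type*} [Field F] [Fintype F] (hF : Odd (Fintype.card F)) (A : Subgroup (GL (Fin 3) F))
    (hA : Cfsg.IsElementaryAbelian 2 A) (hA8 : Nat.card A = 8) : (-1 : GL (Fin 3) F) ∈ A := by
  by_contra hno
  have h2 : (2 : F) ≠ 0 := by
    intro h0
    have h := (FiniteField.even_card_iff_char_two (F := F)).1
      (CharP.ringChar_of_prime_eq_zero Nat.prime_two (by exact_mod_cast h0))
    exact (Nat.not_even_iff_odd.2 hF) (Nat.even_iff.2 h)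
  -- normalise the determinant
  have hd : ∀ a : A, ((a : GL (Fin 3) F) : Matrix (Fin 3) (Fin 3) F).det = 1 ∨
      ((a : GL (Fin 3) F) : Matrix (Fin 3) (Fin 3) F).det = -1 := fun a => by
    rw [← mul_self_eq_one_iff, ← Matrix.det_mul, ← Units.val_mul, ← sq, hA.2 _ a.2, Units.val_one, Matrix.det_one]
  let g : A → Matrix.SpecialLinearGroup (Fin 3) F := fun a =>
    ⟨((a : GL (Fin 3) F) : Matrix (Fin 3) (Fin 3) F).det • ((a : GL (Fin 3) F) : Matrix (Fin 3) (Fin 3) F), by
      rw [Matrix.det_smul, Fintype.card_fin]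
      rcases hd a with h | h <;> rw [h] <;> ring⟩
  have gmul : ∀ a b, g (a * b) = g a * g b := fun a b => Subtype.ext (by
    show Matrix.det _ • _ = (g a).1 * (g b).1
    simp only [g, Subgroup.coe_mul, Units.val_mul, Matrix.det_mul, Matrix.smul_mul, Matrix.mul_smul, smul_smul]
    rw [mul_comm])
  have ginj : Function.Injective g := by
    intro a b h
    have h' : _ • _ = _ • _ := congrArg Subtype.val h
    rcases hd a with ha | ha <;> rcases hd b with hb | hb <;> rw [ha, hb] at h'
    · exact Subtype.ext (Units.ext (by simpa using h'))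
    · refine absurd ?_ hno
      have e : ((a * b⁻¹ : A) : GL (Fin 3) F) = -1 := by
        rw [Subgroup.coe_mul, Subgroup.coe_inv, mul_inv_eq_iff_eq_mul]
        exact Units.ext (by simpa using h')
      exact e ▸ (a * b⁻¹).2
    · refine absurd ?_ hno
      have e : ((b * a⁻¹ : A) : GL (Fin 3) F) = -1 := by
        rw [Subgroup.coe_mul, Subgroup.coe_inv, mul_inv_eq_iff_eq_mul]
        exact Units.ext (by simpa using h'.symm)
      exact e ▸ (b * a⁻¹).2
    · exact Subtype.ext (Units.ext (by simpa using h'))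
  let G' : A →* Matrix.SpecialLinearGroup (Fin 3) F := MonoidHom.mk' g gmul
  have hrk := (Cfsg.Agent.S2233.result hF 3 (by norm_num)).2 G'.range
    ⟨⟨fun ⟨_, a, ha⟩ ⟨_, b, hb⟩ => Subtype.ext (by
      subst ha hb
      show G' a * G' b = G' b * G' a
      rw [← map_mul, ← map_mul, hA.1.is_comm.comm a b])⟩⟩
    (by
      rintro _ ⟨a, rfl⟩
      rw [← map_pow, show a ^ 2 = 1 from Subtype.ext (by simpa using hA.2 _ a.2), map_one])
  rw [← Nat.card_congr (MonoidHom.ofInjective (f := G') ginj).toEquiv, hA8] at hrk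
  norm_num at hrk

/-- Let G be a finite group with no subgroup of index 2 whose Sylow 2-subgroup X embeds in GL₃(F) for a finite field F of odd order. If X contains an elementary abelian subgroup of order 8, then X is abelian. -/
theorem result {G : Type*} [Group G] [Finite G] (hG : ∀ H : Subgroup G, H.index ≠ 2) (X : Sylow 2 G)
    {F : Type*} [Field F] [Fintype F] (hF : Odd (Fintype.card F))
    (f : ↥(X : Subgroup G) →* GL (Fin 3) F) (hf : Function.Injective f)
    (E : Subgroup G) (hE : E ≤ (X : Subgroup G)) (hEa : Cfsg.IsElementaryAbelian 2 E) (hE8 : Nat.card E = 8) :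
    IsMulCommutative (X : Subgroup G) := by
  classical
  have h2 : (2 : F) ≠ 0 := by
    intro h0
    have h := (FiniteField.even_card_iff_char_two (F := F)).1
      (CharP.ringChar_of_prime_eq_zero Nat.prime_two (by exact_mod_cast h0))
    exact (Nat.not_even_iff_odd.2 hF) (Nat.even_iff.2 h)
  by_contra hna
  haveI : Fact (Nat.Prime 2) := ⟨Nat.prime_two⟩
  set K := commutator ↥(X : Subgroup G)
  -- `-1` is in the image
  have hcardE : Nat.card ((E.subgroupOf (X : Subgroup G)).map f) = 8 := by
    rw [Subgroup.card_map_of_injective hf, Nat.card_congr (Subgroup.subgroupOfEquivOfLe hE).toEquiv, hE8]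
  have hEim : Cfsg.IsElementaryAbelian 2 ((E.subgroupOf (X : Subgroup G)).map f) := by
    refine ⟨⟨⟨?_⟩⟩, ?_⟩
    · rintro ⟨_, a, ha, rfl⟩ ⟨_, b, hb, rfl⟩
      refine Subtype.ext ?_
      show f a * f b = f b * f a
      rw [← map_mul, ← map_mul]
      exact congrArg f (Subtype.ext ((congrArg (Subtype.val : ↥E → G) (hEa.1.is_comm.comm ⟨a.1, ha⟩ ⟨b.1, hb⟩) :)))
    · rintro _ ⟨a, ha, rfl⟩
      rw [← map_pow, show a ^ 2 = 1 from Subtype.ext (by simpa using hEa.2 _ ha), map_one]
  obtain ⟨z, -, hz⟩ := neg_one_mem hF _ hEim hcardE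
  have hzc : ∀ x, x * z = z * x := fun x => hf (by
    rw [map_mul, map_mul, hz]; exact Units.ext (by simp))
  have hz2 : z * z = 1 := hf (by rw [map_mul, hz, map_one]; exact Units.ext (by simp))
  have hzK : z ∉ K := by
    intro hzK
    have hdet := Abelianization.commutator_subset_ker ((Matrix.GeneralLinearGroup.det).comp f) hzK
    rw [MonoidHom.mem_ker, MonoidHom.comp_apply, hz] at hdet
    have h := congrArg (fun u : Fˣ => (u : F)) hdet
    simp [Matrix.det_neg] at h
    exact h2 (by linear_combination -h)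
  -- central involutions
  let C : Subgroup ↥(X : Subgroup G) :=
    { carrier := {c | (∀ x, x * c = c * x) ∧ c * c = 1}
      one_mem' := ⟨fun x => by rw [one_mul, mul_one], one_mul 1⟩
      mul_mem' := fun {a b} ha hb => ⟨fun x => by rw [← mul_assoc, ha.1, mul_assoc, hb.1, mul_assoc],
        by rw [mul_assoc, ← mul_assoc b a b, ha.1 b, mul_assoc a b b, hb.2, mul_one, ha.2]⟩
      inv_mem' := fun {a} ha => by
        rw [inv_eq_of_mul_eq_one_right ha.2]
        exact ha }
  have hC8 : Nat.card C < 8 := by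
    by_contra h
    exact hna ⟨⟨fun x y => commute_of_central h2 f hf C (fun c hc => hc.2) (fun c hc => hc.1)
      (not_lt.1 h) x y⟩⟩
  have hKC : C ⊓ K ≠ ⊥ := by
    intro hb
    have hKne : K ≠ ⊥ := by
      intro h
      exact hna ⟨⟨fun x y => commutatorElement_eq_one_iff_mul_comm.1 (Subgroup.mem_bot.1
        (h ▸ Subgroup.commutator_mem_commutator (Subgroup.mem_top x) (Subgroup.mem_top y)))⟩⟩
    have hinf := CfsgLib.PGroups.inf_center_ne_bot X.2 (N := K) hKne
    obtain ⟨c, hc, hc1⟩ : ∃ c ∈ K ⊓ Subgroup.center ↥(X : Subgroup G), c ≠ 1 := by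
      by_contra h
      exact hinf ((Subgroup.eq_bot_iff_forall _).2 fun c hc => by_contra fun hc1 => h ⟨c, hc, hc1⟩)
    obtain ⟨k, hk⟩ := IsPGroup.iff_orderOf.1 X.2 c
    have hk0 : k ≠ 0 := fun h0 => hc1 (orderOf_eq_one_iff.1 (by rw [hk, h0, pow_zero]))
    obtain ⟨j, rfl⟩ := Nat.exists_eq_succ_of_ne_zero hk0
    have ho : c ^ 2 ^ j ≠ 1 := fun h => by
      have := Nat.le_of_dvd (by positivity) (orderOf_dvd_of_pow_eq_one h)
      rw [hk, pow_succ] at this
      have : 0 < 2 ^ j := by positivity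
      omega
    refine ho (Subgroup.mem_bot.1 (hb ▸ ⟨⟨fun x => ?_, ?_⟩, pow_mem hc.1 _⟩))
    · exact Subgroup.mem_center_iff.1 (pow_mem hc.2 _) x
    · rw [← pow_add, ← two_mul, ← pow_succ', ← hk, pow_orderOf_eq_one]
  -- at most two central involutions outside the derived group
  have key : ∀ a b c : ↥(X : Subgroup G), a ∈ C → b ∈ C → c ∈ C → a ∉ K → b ∉ K → c ∉ K → a = b ∨ a = c ∨ b = c := by
    intro a b c ha hb hc haK hbK hcK
    by_contra hcon
    push Not at hcon
    obtain ⟨t, ht, ht1⟩ : ∃ t ∈ C ⊓ K, t ≠ 1 := by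
      by_contra h
      exact hKC ((Subgroup.eq_bot_iff_forall _).2 fun t ht => by_contra fun h1 => h ⟨t, ht, h1⟩)
    have hne : ∀ d, d ∉ K → d ≠ 1 ∧ d ≠ t := fun d hd =>
      ⟨fun e => hd (e ▸ one_mem _), fun e => hd (e ▸ ht.2)⟩
    let e : Fin 5 → ↥C := ![1, ⟨t, ht.1⟩, ⟨a, ha⟩, ⟨b, hb⟩, ⟨c, hc⟩]
    have he : Function.Injective e := by
      obtain ⟨a1, a2⟩ := hne a haK
      obtain ⟨b1, b2⟩ := hne b hbK
      obtain ⟨c1, c2⟩ := hne c hcK
      obtain ⟨hab, hac, hbc⟩ := hcon
      intro i j hij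
      have hv := congrArg (fun d : ↥C => (d : ↥(X : Subgroup G))) hij
      revert hv
      fin_cases i <;> fin_cases j <;>
        simp [e, ht1, a1, a2, b1, b2, c1, c2, hab, hac, hbc, Ne.symm ht1, Ne.symm a1, Ne.symm a2, Ne.symm b1,
          Ne.symm b2, Ne.symm c1, Ne.symm c2, Ne.symm hab, Ne.symm hac, Ne.symm hbc]
    have h5 := Nat.card_le_card_of_injective e he
    rw [Nat.card_fin] at h5
    have hd : Nat.card C ∣ Nat.card ↥(X : Subgroup G) := C.card_subgroup_dvd_card
    obtain ⟨n, hn⟩ := IsPGroup.iff_card.1 X.2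
    obtain ⟨m, -, hm⟩ := (Nat.dvd_prime_pow Nat.prime_two).1 (hn ▸ hd)
    rw [hm] at h5 hC8
    have : m < 3 := (Nat.pow_lt_pow_iff_right (by norm_num)).1 (show 2 ^ m < 2 ^ 3 by omega)
    interval_cases m <;> omega
  have hzC : z ∈ C := ⟨hzc, hz2⟩
  refine hzK (CfsgLib.Techniques.CentralTransfer.mem_commutator_of_normalizer_fixed X hG z.2
    (congrArg Subtype.val hz2) (fun x hx => congrArg Subtype.val (hzc ⟨x, hx⟩)) fun n hn => ?_)
  -- the action of the normalizer
  let σ : ↥(Subgroup.normalizer (((X : Subgroup G)) : Set G)) → ↥(X : Subgroup G) → ↥(X : Subgroup G) := fun n c =>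
    ⟨(n : G)⁻¹ * c * n, by simpa using (Subgroup.mem_normalizer_iff.1 (inv_mem n.2) c).1 c.2⟩
  have hσmul : ∀ n n' c, σ (n * n') c = σ n' (σ n c) := fun n n' c => Subtype.ext (by simp [σ, mul_assoc])
  have hσC : ∀ n c, c ∈ C → c ∉ K → σ n c ∈ C ∧ σ n c ∉ K := by
    intro n c hc hcK
    let φ : ↥(X : Subgroup G) ≃* ↥(X : Subgroup G) :=
      { toFun := σ n
        invFun := σ n⁻¹
        left_inv := fun c => by rw [← hσmul, mul_inv_cancel]; exact Subtype.ext (by simp [σ])
        right_inv := fun c => by rw [← hσmul, inv_mul_cancel]; exact Subtype.ext (by simp [σ])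
        map_mul' := fun a b => Subtype.ext (by simp [σ, mul_assoc]) }
    refine ⟨⟨fun x => ?_, ?_⟩, fun h => hcK ?_⟩
    · obtain ⟨y, rfl⟩ := φ.surjective x
      show φ y * φ c = φ c * φ y
      rw [← map_mul, ← map_mul, hc.1]
    · show φ c * φ c = 1
      rw [← map_mul, hc.2, map_one]
    · have hchar : K.map φ.toMonoidHom = K := by
        show (commutator ↥(X : Subgroup G)).map φ.toMonoidHom = commutator ↥(X : Subgroup G)
        rw [commutator_def, Subgroup.map_commutator, Subgroup.map_top_of_surjective _ φ.surjective]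
      obtain ⟨y, hy, hyc⟩ := hchar.ge h
      exact φ.injective hyc ▸ hy
  set N : ↥(Subgroup.normalizer (((X : Subgroup G)) : Set G)) := ⟨n, hn⟩
  set z' := σ N z
  suffices h : z' = z from congrArg Subtype.val h
  by_contra hne
  obtain ⟨h1C, h1K⟩ := hσC N z hzC hzK
  have hswap : σ N z' = z := by
    obtain ⟨h2C, h2K⟩ := hσC N z' h1C h1K
    rcases key (σ N z') z' z h2C h1C hzC h2K h1K hzK with h | h | h
    · exfalso
      refine hne ?_
      have := congrArg (σ N⁻¹) h
      rwa [← hσmul, show σ N⁻¹ z' = z by rw [← hσmul, mul_inv_cancel]; exact Subtype.ext (by simp [σ]),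
        mul_inv_cancel, show σ 1 z' = z' from Subtype.ext (by simp [σ])] at this
    · exact h
    · exact absurd h hne
  have hit : ∀ j : ℕ, σ (N ^ (2 * j)) z = z ∧ σ (N ^ (2 * j + 1)) z = z' := by
    intro j
    induction j with
    | zero => exact ⟨Subtype.ext (by simp [σ]), by rw [Nat.mul_zero, zero_add, pow_one]⟩
    | succ j ih =>
      have e1 : σ (N ^ (2 * (j + 1))) z = z := by
        rw [Nat.mul_succ, pow_succ, hσmul, ih.2, hswap]
      exact ⟨e1, by rw [pow_succ, hσmul, e1]⟩
  obtain ⟨k, m, hm, hnm⟩ := Nat.exists_eq_pow_mul_and_not_dvd (orderOf_pos N).ne' 2 (by norm_num)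
  have hpow : (N ^ m) ^ 2 ^ k = 1 := by rw [← pow_mul, mul_comm, ← hnm, pow_orderOf_eq_one]
  have hmem : ((N ^ m : ↥(Subgroup.normalizer (((X : Subgroup G)) : Set G))) : G) ∈ (X : Subgroup G) := by
    have hP : IsPGroup 2 (Subgroup.zpowers (N ^ m : ↥(Subgroup.normalizer ((X : Subgroup G) : Set G)))) := by
      rintro ⟨_, i, rfl⟩
      exact ⟨k, Subtype.ext (by
        show ((N ^ m) ^ i) ^ 2 ^ k = 1
        rw [← zpow_natCast _ (2 ^ k), ← zpow_mul, mul_comm, zpow_mul, zpow_natCast, hpow, one_zpow])⟩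
    haveI : ((X : Subgroup G).comap (Subgroup.normalizer ((X : Subgroup G) : Set G)).subtype).Normal :=
      Subgroup.normal_in_normalizer
    obtain ⟨T, hT⟩ := (hP.to_sup_of_normal_right (X.2.comap_of_injective
      (Subgroup.normalizer (((X : Subgroup G)) : Set G)).subtype (Subgroup.subtype_injective _))).exists_le_sylow
    have hXT := X.3 (T.2.map (Subgroup.normalizer (((X : Subgroup G)) : Set G)).subtype) fun x hx =>
      ⟨⟨x, Subgroup.le_normalizer hx⟩, hT (Subgroup.mem_sup_right (show (⟨x, _⟩ : ↥(Subgroup.normalizer (((X : Subgroup G)) : Set G))) ∈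
        (X : Subgroup G).subgroupOf _ from hx)), rfl⟩
    exact hXT.le ⟨_, hT (Subgroup.mem_sup_left (Subgroup.mem_zpowers _)), rfl⟩
  obtain ⟨j, hj⟩ : Odd m := Nat.not_even_iff_odd.1 fun he => hm (even_iff_two_dvd.1 he)
  refine hne ?_
  have h3 : σ (N ^ m) z = z := Subtype.ext (by
    show _⁻¹ * (z : G) * _ = z
    have hc : ((N ^ m : ↥(Subgroup.normalizer ((X : Subgroup G) : Set G))) : G) * (z : G) = (z : G) * _ :=
      congrArg Subtype.val (hzc ⟨_, hmem⟩)
    rw [mul_assoc, ← hc]
    exact inv_mul_cancel_left _ _)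
  rw [hj, (hit j).2] at h3
  exact h3

end Cfsg.Agent.S1906
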