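import Cfsg.Statements.S1907
import Cfsg.Agent.Lib.PLocal.PConstrained
import Cfsg.Agent.Lib.HallGen.Counting

set_option autoImplicit false
open Cfsg

namespace Cfsg.Agent.S1907

/-- Let P be a Sylow p-subgroup of a finite group G, H = P ∩ O_{p',p}(G), N = N_G(H) and D = O_{p'}(G). (a) If y is an element of p-power order of N and d ∈ D with d⁻¹ y d ∈ N, then d = d₁ d₂ with d₁ ∈ C_D(y) and d₂ ∈ C_D(H). (b) Two elements of P that are conjugate in G are conjugate in N. -/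
theorem result {G : Type*} [Group G] [Finite G] {p : ℕ} [Fact p.Prime] (P : Sylow p G) :
    (∀ y ∈ Subgroup.normalizer (((P : Subgroup G) ⊓ Cfsg.pPrimePCore p G : Subgroup G) : Set G), (∃ k : ℕ, orderOf y = p ^ k) →
      ∀ d ∈ Cfsg.pPrimeCore p G, d⁻¹ * y * d ∈ Subgroup.normalizer (((P : Subgroup G) ⊓ Cfsg.pPrimePCore p G : Subgroup G) : Set G) →
        ∃ d₁ ∈ Cfsg.pPrimeCore p G ⊓ Subgroup.centralizer ({y} : Set G),
          ∃ d₂ ∈ Cfsg.pPrimeCore p G ⊓ Subgroup.centralizer (((P : Subgroup G) ⊓ Cfsg.pPrimePCore p G : Subgroup G) : Set G), d = d₁ * d₂) ∧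
    ∀ x y : G, x ∈ (P : Subgroup G) → y ∈ (P : Subgroup G) → IsConj x y →
      ∃ n ∈ Subgroup.normalizer (((P : Subgroup G) ⊓ Cfsg.pPrimePCore p G : Subgroup G) : Set G), n * x * n⁻¹ = y := by
  set U := Cfsg.pPrimePCore p G
  set D := Cfsg.pPrimeCore p G
  set H := (P : Subgroup G) ⊓ U with hH
  set N := Subgroup.normalizer (H : Set G) with hN
  haveI hUn : U.Normal := CfsgLib.PLocal.pPrimePCore_normal p G
  have hD : Nat.Coprime (Nat.card D) p := CfsgLib.Core.coprime_card_pPrimeCore p G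
  have hidx : ¬ p ∣ H.relIndex U := fun h => P.not_dvd_index
    (by rw [hH, Subgroup.inf_relIndex_right] at h; exact h.trans (CfsgLib.HallGen.relIndex_dvd_index_right _ _))
  have hHD : H ⊔ D = U := CfsgLib.PLocal.sup_eq_of_coprime_relIndex inf_le_right
    CfsgLib.PLocal.pPrimeCore_le_pPrimePCore hidx CfsgLib.PLocal.relIndex_pPrimeCore_pPrimePCore
  have hHp : IsPGroup p H := P.2.to_le inf_le_left
  have hfr : ∀ g : G, ∃ n ∈ N, ∃ d ∈ D, g = n * d := by
    intro g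
    have hT := Sylow.normalizer_sup_eq_top
      ((hHp.comap_subtype (K := U)).toSylow (by exact hidx) : Sylow p U)
    rw [show ((hHp.comap_subtype (K := U)).toSylow hidx : Subgroup U) = H.subgroupOf U from rfl,
      Subgroup.map_subgroupOf_eq_of_le inf_le_right, ← hN, ← hHD, ← sup_assoc,
      sup_eq_left.2 (Subgroup.le_normalizer : H ≤ N)] at hT
    obtain ⟨n, hn, d, hd, rfl⟩ := Subgroup.mem_sup_of_normal_right.1
      (hT ▸ Subgroup.mem_top g : g ∈ N ⊔ D)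
    exact ⟨n, hn, d, hd, rfl⟩
  have hcent : ∀ d ∈ D, d ∈ N → d ∈ Subgroup.centralizer (H : Set G) := by
    intro d hd hdN
    rw [Subgroup.mem_centralizer_iff]
    intro h hh
    have hdis : Disjoint H D := by
      obtain ⟨k, hk⟩ := IsPGroup.iff_card.1 hHp
      exact Subgroup.disjoint_of_coprime_natCard (by rw [hk]; exact hD.symm.pow_left k)
    have h1 : d * h * d⁻¹ * h⁻¹ = 1 := Subgroup.disjoint_def.1 hdis
      (mul_mem ((Subgroup.mem_normalizer_iff.1 hdN h).1 hh) (inv_mem hh))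
      (by rw [show d * h * d⁻¹ * h⁻¹ = d * (h * d⁻¹ * h⁻¹) by group]
          exact mul_mem hd ((inferInstance : D.Normal).conj_mem _ (inv_mem hd) h))
    have h2 : d * h * d⁻¹ = h := mul_inv_eq_one.1 h1
    exact (mul_inv_eq_iff_eq_mul.1 h2).symm
  have ha : ∀ y ∈ N, (∃ k : ℕ, orderOf y = p ^ k) → ∀ d ∈ D, d⁻¹ * y * d ∈ N →
      ∃ d₁ ∈ D ⊓ Subgroup.centralizer ({y} : Set G),
        ∃ d₂ ∈ D ⊓ Subgroup.centralizer (H : Set G), d = d₁ * d₂ := by
    rintro y hy ⟨k, hk⟩ d hd hdy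
    set C := D ⊓ Subgroup.centralizer (H : Set G) with hC
    have hCn : N ≤ Subgroup.normalizer (C : Set G) := by
      intro n hn
      refine Subgroup.mem_normalizer_iff.2 fun c => ?_
      have e : ∀ m ∈ N, ∀ c ∈ C, m * c * m⁻¹ ∈ C := fun m hm c hc =>
        ⟨(inferInstance : D.Normal).conj_mem _ hc.1 m, by
          show m * c * m⁻¹ ∈ Subgroup.centralizer (H : Set G)
          rw [Subgroup.mem_centralizer_iff]
          intro h hh
          have h' := Subgroup.mem_centralizer_iff.1 hc.2 (m⁻¹ * h * m) (by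
            have := (Subgroup.mem_normalizer_iff.1 (inv_mem hm) h).1 hh
            rwa [inv_inv] at this)
          calc h * (m * c * m⁻¹) = m * (m⁻¹ * h * m * c) * m⁻¹ := by group
            _ = m * (c * (m⁻¹ * h * m)) * m⁻¹ := by rw [h']
            _ = m * c * m⁻¹ * h := by group⟩
      refine ⟨e n hn c, fun hc => ?_⟩
      have := e n⁻¹ (inv_mem hn) _ hc
      rwa [show n⁻¹ * (n * c * n⁻¹) * n⁻¹⁻¹ = c by group] at this
    set W := Subgroup.zpowers y ⊔ C with hW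
    have hz : Subgroup.zpowers y ≤ Subgroup.normalizer (C : Set G) :=
      (Subgroup.zpowers_le.2 hy).trans hCn
    have hq : y⁻¹ * (d⁻¹ * y * d) ∈ C := by
      have h1 : y⁻¹ * (d⁻¹ * y * d) ∈ D := by
        rw [show y⁻¹ * (d⁻¹ * y * d) = (y⁻¹ * d⁻¹ * y⁻¹⁻¹) * d by group]
        exact mul_mem ((inferInstance : D.Normal).conj_mem _ (inv_mem hd) _) hd
      exact ⟨h1, hcent _ h1 (mul_mem (inv_mem hy) hdy)⟩
    have hpy : ∀ z : G, orderOf z = p ^ k → IsPGroup p (Subgroup.zpowers z) := fun z hz =>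
      IsPGroup.of_card (n := k) (by rw [Nat.card_zpowers, hz])
    have hy' : orderOf (d⁻¹ * y * d) = p ^ k := by
      rw [← hk]; simpa using (MulAut.conj d⁻¹).orderOf_eq y
    have hcop : Disjoint (Subgroup.zpowers y) C := Subgroup.disjoint_of_coprime_natCard (by
      rw [Nat.card_zpowers, hk]
      exact (Nat.Coprime.coprime_dvd_left (Subgroup.card_dvd_of_le inf_le_left) hD).symm.pow_left k)
    have hWidx : ¬ p ∣ (Subgroup.zpowers y).relIndex W := by
      intro h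
      have h1 : (Subgroup.zpowers y).relIndex W ∣ Nat.card C := by
        have := CfsgLib.Core.card_sup_of_disjoint _ _ hz (disjoint_iff.1 hcop)
        have h2 := Subgroup.relIndex_mul_relIndex ⊥ (Subgroup.zpowers y) W bot_le le_sup_left
        rw [Subgroup.relIndex_bot_left, Subgroup.relIndex_bot_left, hW, this] at h2
        exact ⟨1, by rw [mul_one]; exact (Nat.eq_of_mul_eq_mul_left Nat.card_pos h2).symm⟩
      exact (Nat.Prime.coprime_iff_not_dvd Fact.out).1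
        (Nat.Coprime.coprime_dvd_left (Subgroup.card_dvd_of_le inf_le_left) hD).symm (h.trans h1)
    obtain ⟨Q, hQ⟩ := ((hpy _ hy').comap_subtype (K := W)).exists_le_sylow
    obtain ⟨w, hw⟩ := MulAction.exists_smul_eq W Q
      (((hpy _ hk).comap_subtype (K := W)).toSylow (by exact hWidx) : Sylow p W)
    have hy'W : d⁻¹ * y * d ∈ W := by
      rw [show d⁻¹ * y * d = y * (y⁻¹ * (d⁻¹ * y * d)) by group]
      exact mul_mem (Subgroup.mem_sup_left (Subgroup.mem_zpowers y)) (Subgroup.mem_sup_right hq)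
    have hwz : (w : G) * (d⁻¹ * y * d) * (w : G)⁻¹ ∈ Subgroup.zpowers y := by
      have h1 : w * ⟨_, hy'W⟩ * w⁻¹ ∈ ((w • Q : Sylow p W) : Subgroup W) := by
        rw [Sylow.coe_subgroup_smul]
        exact ⟨_, hQ (Subgroup.mem_zpowers (d⁻¹ * y * d)), rfl⟩
      rw [hw] at h1
      exact h1
    obtain ⟨a, ha, c, hc, hac⟩ : ∃ a ∈ Subgroup.zpowers y, ∃ c ∈ C, a * c = (w : G) := by
      have h0 : (w : G) ∈ ((Subgroup.zpowers y ⊔ C : Subgroup G) : Set G) := w.2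
      rw [Subgroup.coe_mul_of_left_le_normalizer_right _ _ hz] at h0
      obtain ⟨a, ha, c, hc, hac⟩ := h0
      exact ⟨a, ha, c, hc, hac⟩
    have hcz : c * (d⁻¹ * y * d) * c⁻¹ ∈ Subgroup.zpowers y := by
      have := mul_mem (mul_mem (inv_mem ha) hwz) ha
      rwa [← hac, show a⁻¹ * (a * c * (d⁻¹ * y * d) * (a * c)⁻¹) * a = c * (d⁻¹ * y * d) * c⁻¹ by group] at this
    have hfix : c * (d⁻¹ * y * d) * c⁻¹ = y := by
      have h1 : y⁻¹ * (c * (d⁻¹ * y * d) * c⁻¹) ∈ C := by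
        rw [show y⁻¹ * (c * (d⁻¹ * y * d) * c⁻¹) = (y⁻¹ * c * y) * (y⁻¹ * (d⁻¹ * y * d)) * c⁻¹ by group]
        refine mul_mem (mul_mem ?_ hq) (inv_mem hc)
        have := (Subgroup.mem_normalizer_iff.1 (hz (inv_mem (Subgroup.mem_zpowers y : y ∈ Subgroup.zpowers y))) c).1 hc
        rwa [inv_inv] at this
      exact (inv_mul_eq_one.1 (Subgroup.disjoint_def.1 hcop
        (mul_mem (inv_mem (Subgroup.mem_zpowers y)) hcz) h1)).symm
    refine ⟨d * c⁻¹, ⟨(show d * c⁻¹ ∈ D from mul_mem hd (inv_mem hc.1)), Subgroup.mem_centralizer_singleton_iff.2 ?_⟩, c, hc,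
      by group⟩
    calc d * c⁻¹ * y = d * c⁻¹ * (c * (d⁻¹ * y * d) * c⁻¹) := by rw [hfix]
      _ = y * (d * c⁻¹) := by group
  refine ⟨ha, fun x y hx hy hxy => ?_⟩
  obtain ⟨g, hg⟩ := isConj_iff.1 hxy
  obtain ⟨n, hn, d, hd, rfl⟩ := hfr g
  have hPN : (P : Subgroup G) ≤ N := fun z hz => Subgroup.mem_normalizer_iff.2 fun h => by
    constructor
    · exact fun hh => ⟨(show z * h * z⁻¹ ∈ (P : Subgroup G) from mul_mem (mul_mem hz hh.1) (inv_mem hz)), hUn.conj_mem _ hh.2 z⟩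
    · intro hh
      have := mul_mem (mul_mem (inv_mem hz) hh.1) hz
      have h2 := hUn.conj_mem _ hh.2 z⁻¹
      simp only [inv_inv] at h2
      rw [show z⁻¹ * (z * h * z⁻¹) * z = h by group] at this h2
      exact ⟨this, h2⟩
  obtain ⟨k, hk⟩ := IsPGroup.iff_orderOf.1 P.2 ⟨x, hx⟩
  obtain ⟨d₁, hd₁, d₂, hd₂, he⟩ := ha x (hPN hx) ⟨k, by rw [← hk, Subgroup.orderOf_mk]⟩ d⁻¹ (inv_mem hd) (by
    have h1 : n⁻¹ * y * n ∈ N := mul_mem (mul_mem (inv_mem hn) (hPN hy)) hn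
    rw [← hg] at h1
    rwa [show n⁻¹ * (n * d * x * (n * d)⁻¹) * n = d⁻¹⁻¹ * x * d⁻¹ by group] at h1)
  refine ⟨n * d₂⁻¹, mul_mem hn (inv_mem (Subgroup.centralizer_le_normalizer _ hd₂.2)), ?_⟩
  have h1 := Subgroup.mem_centralizer_singleton_iff.1 hd₁.2
  rw [← hg, show d = d₂⁻¹ * d₁⁻¹ by rw [← inv_inv d, he, mul_inv_rev]]
  calc n * d₂⁻¹ * x * (n * d₂⁻¹)⁻¹ = n * d₂⁻¹ * (d₁⁻¹ * (d₁ * x)) * d₂ * n⁻¹ := by group
    _ = n * d₂⁻¹ * (d₁⁻¹ * (x * d₁)) * d₂ * n⁻¹ := by rw [h1]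
    _ = n * (d₂⁻¹ * d₁⁻¹) * x * (n * (d₂⁻¹ * d₁⁻¹))⁻¹ := by group

end Cfsg.Agent.S1907
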