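import Cfsg.Statements.S1915
import Cfsg.Agent.Lib.Techniques.FourGroupRankOne
import Cfsg.Agent.Lib.Components.Component
import Cfsg.Agent.Lib.PGroups.Omega

set_option autoImplicit false
open Cfsg

namespace Cfsg.Agent.S1915

/-- Let A be a semisimple subgroup (A = E(A)) of a finite group and U a Klein four-group normalizing A. If the subgroup of A generated by the normalizers N_A(V) of the nontrivial subgroups V of U has 2-rank exactly 1, then A has 2-rank exactly 1. -/
theorem result {G : Type*} [Group G] [Finite G] (A : Subgroup G) (hA : Cfsg.layer ↥A = ⊤)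
    (U : Subgroup G) (hU : IsKleinFour U) (hUA : U ≤ Subgroup.normalizer (A : Set G))
    (hΓ : Cfsg.PRankLE 2 1 ↥(⨆ V : {V : Subgroup G // V ≤ U ∧ V ≠ ⊥}, A ⊓ Subgroup.normalizer ((V : Subgroup G) : Set G)) ∧
      ¬ Cfsg.PRankLE 2 0 ↥(⨆ V : {V : Subgroup G // V ≤ U ∧ V ≠ ⊥}, A ⊓ Subgroup.normalizer ((V : Subgroup G) : Set G))) :
    Cfsg.PRankLE 2 1 A ∧ ¬ Cfsg.PRankLE 2 0 A := by
  classical
  set Γ := ⨆ V : {V : Subgroup G // V ≤ U ∧ V ≠ ⊥}, A ⊓ Subgroup.normalizer ((V : Subgroup G) : Set G) with hΓdef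
  have hΓA : Γ ≤ A := iSup_le fun V => inf_le_left
  haveI : Fact (Nat.Prime 2) := ⟨Nat.prime_two⟩
  refine ⟨?_, fun h => hΓ.2 (CfsgLib.PGroups.prankLE_of_injective h (f := Subgroup.inclusion hΓA)
    (Subgroup.inclusion_injective hΓA))⟩
  have hperf : ⁅A, A⁆ = A := by
    have h := congrArg (Subgroup.map A.subtype) (CfsgLib.Components.layer_perfect (G := A))
    rwa [hA, Subgroup.map_commutator, ← MonoidHom.range_eq_map, Subgroup.range_subtype] at h
  refine CfsgLib.Techniques.rank_le_one_of_four_group A U hUA hperf hU fun u hu hu1 x hx y hy hxx hyy hx1 hy1 hxy hc hux huy => ?_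
  have hle : ∀ a ∈ A, u * a = a * u → a ∈ Γ := fun a ha hua =>
    le_iSup (fun V : {V : Subgroup G // V ≤ U ∧ V ≠ ⊥} => A ⊓ Subgroup.normalizer ((V : Subgroup G) : Set G))
      ⟨Subgroup.zpowers u, Subgroup.zpowers_le.2 hu, by simpa using hu1⟩ ⟨ha, Subgroup.centralizer_le_normalizer _
        (Subgroup.mem_centralizer_iff.2 fun b hb => by
          obtain ⟨i, rfl⟩ := Subgroup.mem_zpowers_iff.1 hb
          exact ((show Commute u a from hua).zpow_left i).eq)⟩
  have hxG := hle x hx hux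
  have hyG := hle y hy huy
  let E : Subgroup Γ := Subgroup.closure {⟨x, hxG⟩, ⟨y, hyG⟩}
  have hcomm : IsMulCommutative E := Subgroup.isMulCommutative_closure (by
    rintro a (rfl | rfl) b (rfl | rfl)
    · rfl
    · exact Subtype.ext hc
    · exact Subtype.ext hc.symm
    · rfl)
  have hexp : ∀ a ∈ E, a ^ 2 = 1 := by
    intro a ha
    induction ha using Subgroup.closure_induction with
    | mem a ha =>
      rcases ha with rfl | rfl
      · exact Subtype.ext (by rw [SubgroupClass.coe_pow, sq]; exact hxx)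
      · exact Subtype.ext (by rw [SubgroupClass.coe_pow, sq]; exact hyy)
    | one => exact one_pow 2
    | mul a b ha hb iha ihb =>
      have h : Commute a b := congrArg Subtype.val (hcomm.is_comm.comm ⟨a, ha⟩ ⟨b, hb⟩)
      rw [h.mul_pow, iha, ihb, one_mul]
    | inv a _ iha => rw [inv_pow, iha, inv_one]
  have h3 := hΓ.1 E hcomm hexp
  rw [pow_one] at h3
  haveI := Fintype.ofFinite E
  have : 3 ≤ Nat.card E := by
    rw [Nat.card_eq_fintype_card]
    refine le_trans ?_ (Finset.card_le_univ ({1, ⟨⟨x, hxG⟩, Subgroup.subset_closure (Or.inl rfl)⟩,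
      ⟨⟨y, hyG⟩, Subgroup.subset_closure (Or.inr rfl)⟩} : Finset E))
    rw [Finset.card_eq_three.mpr ⟨_, _, _, fun e => hx1 (congrArg (fun v : E => ((v : Γ) : G)) e).symm,
      fun e => hy1 (congrArg (fun v : E => ((v : Γ) : G)) e).symm,
      fun e => hxy (congrArg (fun v : E => ((v : Γ) : G)) e), rfl⟩]
  omega

end Cfsg.Agent.S1915
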