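import Cfsg.Statements.S1921
import Cfsg.Agent.Lib.Components.Component

set_option autoImplicit false
open Cfsg

namespace Cfsg.Agent.S1921

open CfsgLib.Components
open scoped Pointwise commutatorElement

theorem key {H : Type*} [Group H] [Finite H] (a : H) (ha : orderOf a = 2) (L : Subgroup H)
    (hL : Cfsg.IsComponent L) (hLa : L.map (MulAut.conj a).toMonoidHom ≠ L) (x : H)
    (hxM : x ∈ L ⊔ L.map (MulAut.conj a).toMonoidHom)
    (hxJ : x ∉ Subgroup.closure {y : H | ∃ l ∈ L, y = l * (a * l * a⁻¹)} ⊔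
      ((L ⊔ L.map (MulAut.conj a).toMonoidHom) ⊓
        Subgroup.centralizer ((L ⊔ L.map (MulAut.conj a).toMonoidHom : Subgroup H) : Set H))) :
    Subgroup.closure {y : H | ∃ l ∈ L, y = l * (a * l * a⁻¹)} ⊔ Subgroup.zpowers x =
      L ⊔ L.map (MulAut.conj a).toMonoidHom := by
  set La := L.map (MulAut.conj a).toMonoidHom with hLadef
  set J := Subgroup.closure {y : H | ∃ l ∈ L, y = l * (a * l * a⁻¹)} with hJdef
  set M := L ⊔ La with hM
  have hLca : Cfsg.IsComponent La := by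
    rw [hLadef, ← conj_smul_eq_map]; exact isComponent_conj hL a
  have hcomm := components_commute hL hLca (fun e => hLa e.symm)
  have hcm : ∀ u ∈ L, ∀ v ∈ La, u * v = v * u := fun u hu v hv =>
    (Subgroup.mem_centralizer_iff.mp (Subgroup.commutator_eq_bot_iff_le_centralizer.mp hcomm hu) v hv).symm
  have hmem : ∀ l ∈ L, a * l * a⁻¹ ∈ La := fun l hl => ⟨l, hl, rfl⟩
  have hJmem : ∀ l ∈ L, l * (a * l * a⁻¹) ∈ J := fun l hl => Subgroup.subset_closure ⟨l, hl, rfl⟩
  have hJM : J ≤ M := (Subgroup.closure_le M).mpr fun y ⟨l, hl, he⟩ =>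
    he ▸ mul_mem (Subgroup.mem_sup_left hl) (Subgroup.mem_sup_right (hmem l hl))
  set S := J ⊔ Subgroup.zpowers x with hS
  refine le_antisymm (sup_le hJM (Subgroup.zpowers_le.mpr hxM)) ?_
  have hnorm : La ≤ Subgroup.normalizer (L : Set H) :=
    (Subgroup.commutator_eq_bot_iff_le_centralizer.mp (Subgroup.commutator_comm L La ▸ hcomm)).trans
      (Subgroup.centralizer_le_normalizer _)
  have hx := hxM
  rw [hM, ← SetLike.mem_coe, Subgroup.coe_mul_of_right_le_normalizer_left L La hnorm] at hx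
  obtain ⟨l₁, hl₁, v, ⟨l₂, hl₂, hv⟩, hxe⟩ := hx
  have hve : a * l₂ * a⁻¹ = v := hv
  set m := l₁ * l₂⁻¹ with hm
  have hmL : m ∈ L := mul_mem hl₁ (inv_mem hl₂)
  have hxm : x = m * (l₂ * (a * l₂ * a⁻¹)) := by
    rw [← hxe, hve, hm]; group
  have hmS : m ∈ S := by
    have h1 : x * (l₂ * (a * l₂ * a⁻¹))⁻¹ ∈ S :=
      mul_mem (Subgroup.mem_sup_right (Subgroup.mem_zpowers x))
        (inv_mem (Subgroup.mem_sup_left (hJmem l₂ hl₂)))
    rwa [hxm, mul_inv_cancel_right] at h1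
  set N := S.subgroupOf L with hN
  haveI hNn : N.Normal := by
    refine ⟨fun n hn l => ?_⟩
    have h1 : (l : H) * (a * l * a⁻¹) ∈ S := Subgroup.mem_sup_left (hJmem l l.2)
    have h2 := mul_mem (mul_mem h1 (Subgroup.mem_subgroupOf.mp hn)) (inv_mem h1)
    have h3 : (a * (l : H) * a⁻¹) * (n : H) * (a * (l : H) * a⁻¹)⁻¹ = n := by
      rw [← hcm n n.2 _ (hmem l l.2), mul_inv_cancel_right]
    rw [Subgroup.mem_subgroupOf]
    show (l : H) * (n : H) * (l : H)⁻¹ ∈ S
    have h4 : (l : H) * (a * l * a⁻¹) * (n : H) * ((l : H) * (a * l * a⁻¹))⁻¹ =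
        (l : H) * ((a * (l : H) * a⁻¹) * (n : H) * (a * (l : H) * a⁻¹)⁻¹) * (l : H)⁻¹ := by group
    rwa [h4, h3] at h2
  have htop : N = ⊤ := by
    refine (IsQuasisimple.normal_le_center_or_eq_top hL.2 hNn).resolve_left fun hc => hxJ ?_
    have hmc : ∀ u ∈ L, u * m = m * u := fun u hu => congrArg Subtype.val
      (Subgroup.mem_center_iff.mp (hc (show (⟨m, hmL⟩ : L) ∈ N from hmS)) ⟨u, hu⟩)
    have hmM : M ≤ Subgroup.centralizer ({m} : Set H) := by
      refine sup_le ?_ ?_ <;> intro u hu <;> rw [Subgroup.mem_centralizer_singleton_iff]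
      · exact hmc u hu
      · exact (hcm m hmL u hu).symm
    have hmZ : m ∈ M ⊓ Subgroup.centralizer (M : Set H) := ⟨Subgroup.mem_sup_left hmL,
      Subgroup.mem_centralizer_iff.mpr fun u hu => Subgroup.mem_centralizer_singleton_iff.mp (hmM hu)⟩
    rw [hxm]
    exact mul_mem (Subgroup.mem_sup_right hmZ) (Subgroup.mem_sup_left (hJmem l₂ hl₂))
  have hLS : L ≤ S := Subgroup.subgroupOf_eq_top.mp htop
  refine sup_le hLS ?_
  rintro _ ⟨l, hl, rfl⟩
  have := mul_mem (inv_mem (hLS hl)) (Subgroup.mem_sup_left (T := Subgroup.zpowers x) (hJmem l hl))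
  rwa [inv_mul_cancel_left] at this

/-- Let a be an involution of a finite group H and L a component of H with a L a⁻¹ ≠ L; put M = ⟨L, aLa⁻¹⟩ and let J be the subgroup generated by the elements x · a x a⁻¹ with x ∈ L (the diagonal). Then every element of M outside J·Z(M) generates M together with J. -/
theorem result {H : Type*} [Group H] [Finite H] (a : H) (ha : orderOf a = 2) (L : Subgroup H) (hL : Cfsg.IsComponent L)
    (hLa : L.map (MulAut.conj a).toMonoidHom ≠ L) (x : H) (hxM : x ∈ L ⊔ L.map (MulAut.conj a).toMonoidHom)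
    (hxJ : x ∉ Subgroup.closure {y : H | ∃ l ∈ L, y = l * (a * l * a⁻¹)} ⊔
      ((L ⊔ L.map (MulAut.conj a).toMonoidHom) ⊓ Subgroup.centralizer ((L ⊔ L.map (MulAut.conj a).toMonoidHom : Subgroup H) : Set H))) :
    Subgroup.closure {y : H | ∃ l ∈ L, y = l * (a * l * a⁻¹)} ⊔ Subgroup.zpowers x = L ⊔ L.map (MulAut.conj a).toMonoidHom := by
  exact key a ha L hL hLa x hxM hxJ

end Cfsg.Agent.S1921
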