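import Cfsg.Statements.S1922
import Cfsg.Agent.Lib.Techniques.UniqueFixedPoint

set_option autoImplicit false
open Cfsg

namespace Cfsg.Agent.S1922

/-- Let z be an involution of a finite group G and H a proper subgroup such that z lies in gHg⁻¹ exactly when g ∈ H. Then the following are equivalent: (1) for every conjugate t ≠ z of z commuting with z, the product zt lies in gHg⁻¹ exactly when g ∈ H; (2) z lies in the centre of some Sylow 2-subgroup of G, and for every conjugate t ≠ z of z commuting with z, the centralizer of zt is contained in H. -/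
theorem result {G : Type*} [Group G] [Finite G] (z : G) (hz : orderOf z = 2) (H : Subgroup G) (hH : H ≠ ⊤)
    (h0 : ∀ g : G, z ∈ H.map (MulAut.conj g).toMonoidHom ↔ g ∈ H) :
    (∀ t : G, IsConj z t → t ≠ z → t * z = z * t → ∀ g : G, z * t ∈ H.map (MulAut.conj g).toMonoidHom ↔ g ∈ H) ↔
      ((∃ P : Sylow 2 G, z ∈ (Subgroup.center ↥(P : Subgroup G)).map (P : Subgroup G).subtype) ∧
        ∀ t : G, IsConj z t → t ≠ z → t * z = z * t → Subgroup.centralizer ({z * t} : Set G) ≤ H) := by
  constructor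
  · intro h1
    refine ⟨CfsgLib.Techniques.exists_center_sylow_of_unique_fixed hz hH h0 h1, fun t ht hne hc c hcc => ?_⟩
    refine (h1 t ht hne hc c).1 ⟨z * t, ?_, ?_⟩
    · have := (h1 t ht hne hc 1).2 (one_mem H)
      obtain ⟨y, hy, hyz⟩ := this
      rw [← hyz]
      simpa using hy
    · show c * (z * t) * c⁻¹ = z * t
      rw [Subgroup.mem_centralizer_singleton_iff.1 hcc, mul_inv_cancel_right]
  · rintro ⟨⟨P, hP⟩, hC⟩ t ht hne hc g
    obtain ⟨⟨z', hzP⟩, hzc, rfl⟩ := hP
    haveI : Fact (Nat.Prime 2) := ⟨Nat.prime_two⟩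
    simp only [Subgroup.coe_subtype] at *
    have hH1 : H.map (MulAut.conj (1 : G)).toMonoidHom = H := by
      rw [show (MulAut.conj (1 : G)).toMonoidHom = MonoidHom.id G from MonoidHom.ext fun x => by simp, Subgroup.map_id]
    have hCz : Subgroup.centralizer ({z'} : Set G) ≤ H := fun c hcc => (h0 c).1 ⟨z', by
      have := (h0 1).2 (one_mem H); rwa [hH1] at this, by
      show c * z' * c⁻¹ = z'
      rw [Subgroup.mem_centralizer_singleton_iff.1 hcc, mul_inv_cancel_right]⟩
    have hxH : z' * t ∈ H := mul_mem (hCz (Subgroup.mem_centralizer_singleton_iff.2 rfl))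
      (hCz (Subgroup.mem_centralizer_singleton_iff.2 hc))
    refine ⟨fun hg => ?_, fun hg => ?_⟩
    · obtain ⟨x₀, hx₀, hx₀e⟩ := hg
      -- `P ≤ H`; move a Sylow subgroup of `H` over `x₀`
      have hPH : (P : Subgroup G) ≤ H := fun q hq => hCz (Subgroup.mem_centralizer_singleton_iff.2 (by
        exact congrArg Subtype.val (Subgroup.mem_center_iff.1 hzc ⟨q, hq⟩)))
      have hx₀2 : x₀ ^ 2 = 1 := by
        have htt : t * t = 1 := by
          obtain ⟨y, rfl⟩ := isConj_iff.1 ht
          rw [show y * z' * y⁻¹ * (y * z' * y⁻¹) = y * (z' * z') * y⁻¹ by group, ← sq, ← hz,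
            pow_orderOf_eq_one, mul_one, mul_inv_cancel]
        have h2 : (MulAut.conj g).toMonoidHom (x₀ ^ 2) = 1 := by
          rw [map_pow, hx₀e, sq, show z' * t * (z' * t) = z' * (t * z') * t by group, hc,
            show z' * (z' * t) * t = z' * z' * (t * t) by group, htt, ← sq, ← hz, pow_orderOf_eq_one, one_mul]
        exact (MulAut.conj g).injective (h2.trans (map_one _).symm)
      have hx₀p : IsPGroup 2 (Subgroup.zpowers (⟨x₀, hx₀⟩ : H)) := by
        intro y
        obtain ⟨i, hi⟩ := Subgroup.mem_zpowers_iff.1 y.2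
        refine ⟨1, Subtype.ext ?_⟩
        rw [pow_one, SubgroupClass.coe_pow, OneMemClass.coe_one, ← hi, ← zpow_natCast, ← zpow_mul, mul_comm,
          zpow_mul, zpow_natCast, show (⟨x₀, hx₀⟩ : H) ^ 2 = 1 from Subtype.ext hx₀2, one_zpow]
      obtain ⟨Q, hQ⟩ := hx₀p.exists_le_sylow
      obtain ⟨h, hh⟩ := MulAction.exists_smul_eq H (P.subtype hPH) Q
      have hmem : (h : G)⁻¹ * x₀ * h ∈ (P : Subgroup G) := by
        have h2 : (⟨x₀, hx₀⟩ : H) ∈ ((h • P.subtype hPH : Sylow 2 H) : Subgroup H) := by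
          rw [hh]; exact hQ (Subgroup.mem_zpowers _)
        rw [Sylow.coe_subgroup_smul, Subgroup.mem_pointwise_smul_iff_inv_smul_mem] at h2
        simpa [MulAut.smul_def, Sylow.coe_subtype, Subgroup.mem_subgroupOf] using h2
      -- `z'' = g h z' h⁻¹ g⁻¹` centralizes `z' t`
      have hx₀e' : g * x₀ * g⁻¹ = z' * t := hx₀e
      have hcomm := congrArg Subtype.val (Subgroup.mem_center_iff.1 hzc ⟨_, hmem⟩)
      simp only [Subgroup.coe_mul] at hcomm
      have hzH : g * h * z' * (g * h)⁻¹ ∈ H := hC t ht hne hc (Subgroup.mem_centralizer_singleton_iff.2 (by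
        rw [← hx₀e']
        calc g * h * z' * (g * h)⁻¹ * (g * x₀ * g⁻¹) = g * h * (z' * ((h : G)⁻¹ * x₀ * h)) * (g * h)⁻¹ := by group
          _ = g * h * (((h : G)⁻¹ * x₀ * h) * z') * (g * h)⁻¹ := by rw [hcomm]
          _ = _ := by group))
      have h1 : (g * (h : G))⁻¹ ∈ H := (h0 _).1 ⟨_, hzH, by
        show (g * (h : G))⁻¹ * (g * h * z' * (g * h)⁻¹) * ((g * (h : G))⁻¹)⁻¹ = z'
        group⟩
      have h2 := mul_mem (inv_mem h1) (inv_mem h.2)
      rwa [inv_inv, mul_inv_cancel_right] at h2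
    · exact ⟨g⁻¹ * (z' * t) * g, mul_mem (mul_mem (inv_mem hg) hxH) hg, by
        show g * (g⁻¹ * (z' * t) * g) * g⁻¹ = z' * t
        group⟩

end Cfsg.Agent.S1922
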