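import Cfsg.Statements.S1924
import Cfsg.Agent.Lib.Transfer.PResidual
import Cfsg.Agent.Lib.Transfer.ThompsonTransfer
import Cfsg.Agent.Lib.LocalEvenB.SubnormalSylow
import Mathlib.GroupTheory.Perm.Cycle.Type
import Mathlib.GroupTheory.SpecificGroups.Dihedral

set_option autoImplicit false
open Cfsg

namespace Cfsg.Agent.S1924

/-- A consequence of Thompson's transfer lemma. Let G be a finite group, L a subgroup with O²(L) = L, T a Sylow 2-subgroup of L and S a Sylow 2-subgroup of G containing T. Suppose D ≤ S is a dihedral subgroup of order at least 4 (the four-group counts) with D ∩ T = 1 and S = TD as a set of products (so |S| = |T|·|D|), and C ≤ D is cyclic of index 2 in D. If no involution of D outside C is G-conjugate to an involution of the subgroup generated by T and C, and the involution of C is not G-conjugate to any involution of T, then G has a normal subgroup K, containing every Sylow 2-subgroup of L as a Sylow 2-subgroup, with G = KD. -/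
theorem result {G : Type*} [Group G] [Finite G] (L T S D C : Subgroup G) (hL : Cfsg.pResidual 2 ↥L = ⊤)
    (hTL : T ≤ L) (hT2 : IsPGroup 2 T) (hTsyl : ¬ 2 ∣ T.relIndex L)
    (hS2 : IsPGroup 2 S) (hSsyl : ¬ 2 ∣ S.index) (hTS : T ≤ S)
    (hDS : D ≤ S) (hDih : ∃ n : ℕ, 2 ≤ n ∧ Nonempty (↥D ≃* DihedralGroup n)) (hDT : D ⊓ T = ⊥) (hTD : T ⊔ D = S) (hTDc : Nat.card T * Nat.card D = Nat.card S)
    (hCD : C ≤ D) (hC : IsCyclic ↥C) (hCi : C.relIndex D = 2)
    (h1 : ∀ x ∈ D, x ∉ C → orderOf x = 2 → ∀ g : G, g * x * g⁻¹ ∈ T ⊔ C → False)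
    (h2 : ∀ c ∈ C, orderOf c = 2 → ∀ g : G, g * c * g⁻¹ ∈ T → False) :
    ∃ K : Subgroup G, K.Normal ∧ K ⊔ D = ⊤ ∧
      ∀ T' : Subgroup G, T' ≤ L → IsPGroup 2 T' → ¬ 2 ∣ T'.relIndex L → T' ≤ K ∧ ¬ 2 ∣ T'.relIndex K := by
  classical
  haveI : Fact (Nat.Prime 2) := ⟨Nat.prime_two⟩
  set K := Cfsg.pResidual 2 G with hK
  have hK2 : IsPGroup 2 (G ⧸ K) := CfsgLib.Transfer.isPGroup_quotient_pResidual
  have hKK : Cfsg.pResidual 2 ↥K = ⊤ := by
    have h : K ≤ (Cfsg.pResidual 2 ↥K).map K.subtype := CfsgLib.Transfer.pResidual_le_iff.2 fun g hg =>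
      ⟨⟨g, CfsgLib.Transfer.mem_pResidual_of_coprime hg⟩,
        CfsgLib.Transfer.mem_pResidual_of_coprime (by rwa [Subgroup.orderOf_mk]), rfl⟩
    rw [eq_top_iff]
    intro x _
    obtain ⟨y, hy, hyx⟩ := h x.2
    rwa [← Subtype.ext hyx]
  have hLK : L ≤ K := by
    have h := CfsgLib.Transfer.map_subtype_pResidual_le (p := 2) L
    rwa [hL, ← MonoidHom.range_eq_map, Subgroup.range_subtype] at h
  have hTK : T ≤ K := hTL.trans hLK
  -- the Sylow subgroup
  let P : Sylow 2 G := hS2.toSylow hSsyl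
  have hPS : (P : Subgroup G) = S := rfl
  -- `S = T D` as a set
  have hprod : ∀ s ∈ S, ∃ t ∈ T, ∃ d ∈ D, s = t * d := by
    have hinj : Function.Injective (fun td : T × D => (⟨(td.1 : G) * td.2, mul_mem (hTS td.1.2) (hDS td.2.2)⟩ : S)) :=
      fun a b h => Subgroup.mul_injective_of_disjoint (disjoint_iff.2 (inf_comm D T ▸ hDT)) (congrArg Subtype.val h)
    have hbij := (Nat.bijective_iff_injective_and_card _).2 ⟨hinj, by rw [Nat.card_prod, hTDc]⟩
    intro s hs
    obtain ⟨⟨t, d⟩, h⟩ := hbij.2 ⟨s, hs⟩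
    exact ⟨t, t.2, d, d.2, (congrArg Subtype.val h).symm⟩
  -- elements of `D` outside `C` are involutions
  have hinv : ∀ x ∈ D, x ∉ C → orderOf x = 2 := by
    obtain ⟨n, hn, ⟨e⟩⟩ := hDih
    haveI : NeZero n := ⟨by omega⟩
    intro x hx hxC
    rw [show x = ((⟨x, hx⟩ : D) : G) from rfl, Subgroup.orderOf_coe, ← e.orderOf_eq]
    cases hex : e ⟨x, hx⟩ with
    | sr i => exact DihedralGroup.orderOf_sr i
    | r i =>
      obtain ⟨⟨c, hc⟩, hgen⟩ := hC.exists_generator
      have hcard : Nat.card C = n := by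
        have h := C.subgroupOf D |>.card_mul_index
        rw [show (C.subgroupOf D).index = 2 from hCi, Nat.card_congr (Subgroup.subgroupOfEquivOfLe hCD).toEquiv,
          Nat.card_congr e.toEquiv, DihedralGroup.nat_card] at h
        omega
      have hco : orderOf (e ⟨c, hCD hc⟩) = n := by
        rw [e.orderOf_eq, ← Subgroup.orderOf_coe, Subgroup.coe_mk, ← hcard,
          ← orderOf_eq_card_of_forall_mem_zpowers hgen, ← Subgroup.orderOf_coe]
      cases hec : e ⟨c, hCD hc⟩ with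
      | sr j =>
        rw [hec, DihedralGroup.orderOf_sr] at hco
        subst hco
        refine orderOf_eq_prime ?_ fun h1 => hxC ?_
        · rw [DihedralGroup.r_pow, show i * ((2 : ℕ) : ZMod 2) = 0 from by rw [ZMod.natCast_self, mul_zero]]
          rfl
        · rw [← hex, MulEquiv.map_eq_one_iff] at h1
          rw [show x = 1 from congrArg Subtype.val h1]
          exact one_mem C
      | r j =>
        exfalso
        rw [hec] at hco
        have hle : Subgroup.zpowers (DihedralGroup.r j : DihedralGroup n) ≤ Subgroup.zpowers (DihedralGroup.r 1) :=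
          Subgroup.zpowers_le.2 (Subgroup.mem_zpowers_iff.2 ⟨(j.val : ℤ), by
            rw [zpow_natCast, DihedralGroup.r_one_pow, ZMod.natCast_zmod_val]⟩)
        have heq := Subgroup.eq_of_le_of_card_ge hle (by
          rw [Nat.card_zpowers, Nat.card_zpowers, hco, DihedralGroup.orderOf_r_one])
        obtain ⟨k, hk⟩ := Subgroup.mem_zpowers_iff.1 (heq ▸ (Subgroup.mem_zpowers_iff.2 ⟨(i.val : ℤ), by
            rw [zpow_natCast, DihedralGroup.r_one_pow, ZMod.natCast_zmod_val]⟩) :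
              (DihedralGroup.r i : DihedralGroup n) ∈ Subgroup.zpowers (DihedralGroup.r j))
        rw [← hex, ← hec, ← map_zpow] at hk
        refine hxC ?_
        rw [show x = c ^ k from (congrArg Subtype.val (e.injective hk)).symm]
        exact C.zpow_mem hc k
  -- `T C` has index two in `S`
  have hQi : (T ⊔ C).relIndex (P : Subgroup G) = 2 := by
    rw [hPS]
    have hle : T ⊔ C ≤ S := sup_le hTS (hCD.trans hDS)
    have hne : ¬ S ≤ T ⊔ C := fun h => by
      obtain ⟨x, hxD, hxC⟩ := Set.not_subset.1 (show ¬ (D : Set G) ⊆ C from fun h' => by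
        rw [Subgroup.relIndex_eq_one.2 h'] at hCi; omega)
      exact h1 x hxD hxC (hinv x hxD hxC) 1 (by simpa using h (hDS hxD))
    have hne1 : (T ⊔ C).relIndex S ≠ 1 := fun h => hne (Subgroup.relIndex_eq_one.1 h)
    have hsmall : Nat.card T * Nat.card C ≤ Nat.card ↥(T ⊔ C) := by
      rw [← Nat.card_prod]
      refine Nat.card_le_card_of_injective (fun tc : T × C => (⟨(tc.1 : G) * tc.2,
        mul_mem (Subgroup.mem_sup_left tc.1.2) (Subgroup.mem_sup_right tc.2.2)⟩ : ↥(T ⊔ C))) fun a b h => ?_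
      exact Subgroup.mul_injective_of_disjoint (disjoint_iff.2 (le_bot_iff.1 (by
        rw [← hDT]; exact le_inf (inf_le_right.trans hCD) inf_le_left))) (congrArg Subtype.val h)
    have e1 := Subgroup.relIndex_mul_relIndex ⊥ (T ⊔ C) S bot_le hle
    rw [Subgroup.relIndex_bot_left, Subgroup.relIndex_bot_left] at e1
    have e2 := Subgroup.relIndex_mul_relIndex ⊥ C D bot_le hCD
    rw [Subgroup.relIndex_bot_left, Subgroup.relIndex_bot_left, hCi] at e2
    have hpos : 0 < Nat.card ↥(T ⊔ C) := Nat.card_pos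
    have hTpos : 0 < Nat.card T * Nat.card C := Nat.mul_pos Nat.card_pos Nat.card_pos
    rcases Nat.lt_or_ge ((T ⊔ C).relIndex S) 2 with h | h
    · have : (T ⊔ C).relIndex S ≠ 0 := fun h0 => by
        rw [h0, mul_zero] at e1
        exact absurd e1 (Nat.card_pos (α := S)).ne
      omega
    · have h3 : Nat.card ↥(T ⊔ C) * (T ⊔ C).relIndex S = Nat.card T * Nat.card C * 2 := by
        rw [e1, ← hTDc, ← e2, mul_assoc]
      refine le_antisymm (Nat.le_of_mul_le_mul_left (h3.le.trans (Nat.mul_le_mul_right 2 hsmall)) hpos) h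
  have hDK : ∀ x ∈ D, x ∈ K → x ∈ C := by
    intro x hx hxK
    by_contra hxC
    rcases CfsgLib.Transfer.thompson_transfer P (T ⊔ C) hQi (hinv x hx hxC) with ⟨M, hMn, hMi, hxM⟩ | ⟨g, hg⟩
    · exact hxM (CfsgLib.Transfer.pResidual_le_of_isPGroup_quotient (IsPGroup.of_card (n := 1) (by
        rw [← Subgroup.index_eq_card, hMi, pow_one])) hxK)
    · exact h1 x hx hxC (hinv x hx hxC) g hg
  -- `C ∩ K` is trivial
  have hSK : ¬ 2 ∣ (S ⊓ K).relIndex K :=
    CfsgLib.LocalEvenB.not_dvd_relIndex_inf_of_subnormal P (Subgroup.Normal.isSubnormal inferInstance)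
  have hSKcard : Nat.card ↥(S ⊓ K) = Nat.card T * Nat.card ↥(C ⊓ K) := by
    rw [← Nat.card_prod]
    refine (Nat.card_congr (Equiv.ofBijective (fun tc : T × ↥(C ⊓ K) => (⟨(tc.1 : G) * tc.2,
      ⟨mul_mem (hTS tc.1.2) (hDS (hCD tc.2.2.1)), mul_mem (hTK tc.1.2) tc.2.2.2⟩⟩ : ↥(S ⊓ K))) ⟨fun a b h => ?_, ?_⟩)).symm
    · exact Subgroup.mul_injective_of_disjoint (disjoint_iff.2 (le_bot_iff.1 (by
        rw [← hDT]; exact le_inf (inf_le_right.trans (inf_le_left.trans hCD)) inf_le_left))) (congrArg Subtype.val h)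
    · rintro ⟨s, hsS, hsK⟩
      obtain ⟨t, ht, d, hd, rfl⟩ := hprod s hsS
      have hdK : d ∈ K := by
        have := mul_mem (inv_mem (hTK ht)) hsK
        rwa [inv_mul_cancel_left] at this
      exact ⟨(⟨t, ht⟩, ⟨d, hDK d hd hdK, hdK⟩), rfl⟩
  have hTrel : T.relIndex K = Nat.card ↥(C ⊓ K) * (S ⊓ K).relIndex K := by
    have e1 := Subgroup.relIndex_mul_relIndex T (S ⊓ K) K (le_inf hTS hTK) inf_le_right
    have e2 := Subgroup.relIndex_mul_relIndex ⊥ T (S ⊓ K) bot_le (le_inf hTS hTK)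
    rw [Subgroup.relIndex_bot_left, Subgroup.relIndex_bot_left, hSKcard] at e2
    rw [← e1, Nat.eq_of_mul_eq_mul_left Nat.card_pos e2]
  have hCK : C ⊓ K = ⊥ := by
    by_contra hne
    haveI : IsCyclic ↥(C ⊓ K) := Subgroup.isCyclic_of_le (inf_le_left : C ⊓ K ≤ C)
    obtain ⟨⟨a, haC, haK⟩, hgen⟩ := IsCyclic.exists_generator (α := ↥(C ⊓ K))
    have hord : orderOf a = Nat.card ↥(C ⊓ K) := by
      rw [← orderOf_eq_card_of_forall_mem_zpowers hgen]
      exact Subgroup.orderOf_coe (⟨a, haC, haK⟩ : ↥(C ⊓ K))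
    have ha2 : IsPGroup 2 ↥(C ⊓ K) := hS2.to_le (inf_le_left.trans (hCD.trans hDS))
    obtain ⟨m, hm⟩ := IsPGroup.iff_card.1 ha2
    obtain ⟨m, rfl⟩ : ∃ k, m = k + 1 := ⟨m - 1, by
      have : m ≠ 0 := fun h => hne (Subgroup.card_eq_one.1 (by rw [hm, h, pow_zero]))
      omega⟩
    rw [hm] at hord
    let X := ↥K ⧸ T.subgroupOf K
    haveI := Fintype.ofFinite X
    set σ : Equiv.Perm X := MulAction.toPermHom ↥K X ⟨a, haK⟩ with hσ
    have hfix : ∀ (i : ℕ) (x : X), (σ ^ i) x = x → 2 ^ (m + 1) ∣ i := by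
      intro i x hx
      by_contra hi
      rw [← hord, orderOf_dvd_iff_pow_eq_one] at hi
      obtain ⟨g, rfl⟩ := QuotientGroup.mk_surjective x
      rw [hσ, ← map_pow] at hx
      replace hx : ((⟨a, haK⟩ : K) ^ i) • (g : X) = (g : X) := hx
      rw [MulAction.Quotient.smul_coe, eq_comm, QuotientGroup.eq, Subgroup.mem_subgroupOf] at hx
      simp only [smul_eq_mul, Subgroup.coe_mul, Subgroup.coe_inv, SubgroupClass.coe_pow] at hx
      -- an involution among the powers of `a ^ i`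
      obtain ⟨l, hl⟩ := IsPGroup.iff_orderOf.1 hS2 ⟨a ^ i, pow_mem (hDS (hCD haC)) i⟩
      rw [← Subgroup.orderOf_coe, Subgroup.coe_mk] at hl
      have hl0 : l ≠ 0 := fun h => hi (orderOf_eq_one_iff.1 (by rw [hl, h, pow_zero]))
      have ho : orderOf ((a ^ i) ^ 2 ^ (l - 1)) = 2 := by
        rw [orderOf_pow_of_dvd (by positivity) (hl ▸ pow_dvd_pow 2 (by omega)), hl,
          Nat.pow_div (by omega) (by norm_num), show l - (l - 1) = 1 by omega, pow_one]
      refine h2 _ (pow_mem (pow_mem haC i) _) ho (g : G)⁻¹ ?_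
      rw [inv_inv]
      have := pow_mem hx (2 ^ (l - 1))
      rwa [show (g : G)⁻¹ * (a ^ i * g) = (g : G)⁻¹ * a ^ i * (g : G)⁻¹⁻¹ by group, conj_pow, inv_inv] at this
    have hfp : Fintype.card (Function.fixedPoints σ) = 0 := Fintype.card_eq_zero_iff.2 ⟨fun x => by
      have := hfix 1 x.1 (by rw [pow_one]; exact x.2)
      rw [Nat.dvd_one] at this
      have h2le : 2 ≤ 2 ^ (m + 1) := by rw [pow_succ]; have := Nat.one_le_two_pow (n := m); omega
      omega⟩
    have hσo : σ ^ 2 ^ (m + 1) = 1 := by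
      rw [hσ, ← map_pow, show (⟨a, haK⟩ : K) ^ 2 ^ (m + 1) = 1 from Subtype.ext (by
        rw [SubgroupClass.coe_pow, OneMemClass.coe_one, ← hord, pow_orderOf_eq_one]), map_one]
    have hct : σ.cycleType = Multiset.replicate σ.cycleType.card (2 ^ (m + 1)) := by
      refine Multiset.eq_replicate_card.2 fun n hn => Nat.dvd_antisymm
        ((Equiv.Perm.dvd_of_mem_cycleType hn).trans (orderOf_dvd_of_pow_eq_one hσo)) ?_
      obtain ⟨c, τ, hστ, hd, hc, rfl⟩ := Equiv.Perm.mem_cycleType_iff.1 hn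
      obtain ⟨x, hx⟩ := hc.nonempty_support
      refine hfix _ x ?_
      rw [hστ, hd.commute.mul_pow, ← hc.orderOf, pow_orderOf_eq_one, one_mul]
      exact Equiv.Perm.pow_apply_eq_self_of_apply_eq_self ((hd x).resolve_left (Equiv.Perm.mem_support.1 hx)) _
    have hsign : Equiv.Perm.sign σ = -1 := by
      rw [Equiv.Perm.sign_of_cycleType_eq_replicate (by positivity) hct, if_neg (by
        rw [Nat.not_odd_iff_even]; exact ⟨2 ^ m, by rw [pow_succ]; ring⟩), hfp, Nat.sub_zero,
        ← Nat.card_eq_fintype_card, show Nat.card X = T.relIndex K from rfl, hTrel, hm,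
        Nat.mul_div_cancel_left _ (by positivity)]
      exact Odd.neg_one_pow (Nat.odd_iff.2 (by omega))
    have h := CfsgLib.Transfer.pResidual_le_ker (p := 2) (IsPGroup.of_card (n := 1) (by
        rw [Nat.card_eq_fintype_card, Fintype.card_units_int]; rfl) : IsPGroup 2 ℤˣ)
      (Equiv.Perm.sign.comp (MulAction.toPermHom ↥K X))
    rw [hKK] at h
    have := h (Subgroup.mem_top (⟨a, haK⟩ : K))
    rw [MonoidHom.mem_ker, MonoidHom.comp_apply, ← hσ, hsign] at this
    exact absurd this (by decide)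
  rw [hCK, Subgroup.card_bot, one_mul] at hTrel
  refine ⟨K, inferInstance, ?_, fun T' hT'L hT'2 hT'i => ⟨hT'L.trans hLK, ?_⟩⟩
  · have hi : (K ⊔ S).index = 1 := by
      obtain ⟨k, hk⟩ := IsPGroup.iff_card.1 hK2
      rw [← Subgroup.index_eq_card] at hk
      refine Nat.eq_one_of_dvd_coprimes ?_ (Subgroup.index_dvd_of_le (le_sup_left : K ≤ K ⊔ S))
        (Subgroup.index_dvd_of_le (le_sup_right : S ≤ K ⊔ S))
      rw [hk]
      exact Nat.Coprime.pow_left _ (Nat.prime_two.coprime_iff_not_dvd.2 hSsyl)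
    rw [eq_top_iff, ← Subgroup.index_eq_one.1 hi, ← hTD]
    exact sup_le le_sup_left (sup_le (hTK.trans le_sup_left) le_sup_right)
  · rw [← Subgroup.relIndex_mul_relIndex T' L K hT'L hLK]
    refine Nat.prime_two.not_dvd_mul hT'i fun h => hSK ?_
    rw [← hTrel, ← Subgroup.relIndex_mul_relIndex T L K hTL hLK]
    exact h.mul_left _

end Cfsg.Agent.S1924
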