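import Cfsg.Statements.S1930
import Cfsg.Agent.Lib.Flavell.Main

set_option autoImplicit false
open Cfsg

namespace Cfsg.Agent.S1930

/-- Inside a finite group let G be a nontrivial subgroup and R an r-subgroup (r a prime) normalizing G, with the order of G prime to r. Let p > 3 be a prime with F*(G) = O_p(G), and let P be the intersection of all R-invariant Sylow p-subgroups of G. Then P has a nontrivial characteristic subgroup that is normalized by G. -/
theorem result {X : Type*} [Group X] [Finite X] (G R : Subgroup X) (r : ℕ) [Fact r.Prime] (hR : IsPGroup r ↥R) (hcop : (Nat.card ↥G).Coprime r) (hnorm : R ≤ Subgroup.normalizer (G : Set X)) (hG : G ≠ ⊥) (p : ℕ) [Fact p.Prime] (hp : 3 < p) (hF : Cfsg.generalizedFittingSubgroup ↥G = Cfsg.pCore p ↥G) (P : Subgroup X) (hP : P = ⨅ S : {S : Sylow p ↥G // ∀ a ∈ R, ((S : Subgroup ↥G).map G.subtype).map (MulAut.conj a).toMonoidHom = (S : Subgroup ↥G).map G.subtype}, ((S : Sylow p ↥G) : Subgroup ↥G).map G.subtype) : ∃ C : Subgroup ↥P, C.Characteristic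 ∧ C ≠ ⊥ ∧ G ≤ Subgroup.normalizer ((C.map P.subtype : Subgroup X) : Set X) := by
  have hp5 : 5 ≤ p := by
    rcases (Fact.out : p.Prime).five_le_of_ne_two_of_ne_three (by omega) (by omega) with h
    exact h
  have hc : (Nat.card R).Coprime (Nat.card G) := by
    obtain ⟨k, hk⟩ := IsPGroup.iff_card.1 hR
    rw [hk]
    exact (hcop.symm).pow_left k
  have h : CfsgLib.Flavell.Setup p G R := ⟨hp5, hnorm, hc⟩
  have hPe : P = CfsgLib.Flavell.invInter p G R := by
    rw [hP]
    ext x
    rw [CfsgLib.Flavell.mem_invInter, Subgroup.mem_iInf]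
    exact ⟨fun hx S hS => hx ⟨S, fun a ha => Subgroup.mem_normalizer_iff_map_conj_eq.1 (hS ha)⟩,
      fun hx S => hx S.1 fun a ha => Subgroup.mem_normalizer_iff_map_conj_eq.2 (S.2 a ha)⟩
  have hsc : G ⊓ Subgroup.centralizer (CfsgLib.Flavell.coreOf p G : Set X) ≤ CfsgLib.Flavell.coreOf p G := by
    rintro g ⟨hg, hgc⟩
    have h1 : (⟨g, hg⟩ : G) ∈ Subgroup.centralizer (Cfsg.generalizedFittingSubgroup ↥G : Set G) := by
      rw [hF]
      exact Subgroup.mem_centralizer_iff.2 fun f hf => Subtype.ext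
        (Subgroup.mem_centralizer_iff.1 hgc f (Subgroup.mem_map_of_mem G.subtype hf))
    exact ⟨⟨g, hg⟩, hF ▸ CfsgLib.Components.centralizer_gFitting_le h1, rfl⟩
  subst hPe
  exact h.exists_char hG hsc

end Cfsg.Agent.S1930
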