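import Cfsg.Statements.S1931
import Cfsg.Agent.Lib.Flavell.Auto.Main
import Cfsg.Agent.Lib.Shult.Assembly
import Cfsg.Agent.Lib.Shult.FusionMain
import Cfsg.Agent.Lib.Shult.Embedded
import Cfsg.Agent.Lib.Invol.AschCrit.MainProof
import Cfsg.Agent.Lib.Transfer.PResidual

set_option autoImplicit false
open Cfsg

namespace Cfsg.Agent.S1931

/-- Inside a finite group let G be a subgroup and R a noncyclic abelian r-subgroup (r a prime) normalizing G, with the order of G prime to r, and let p > 3 be a prime. Suppose that for every nonidentity a ∈ R, R centralizes the subgroup O^p(F*(C_G(a))) generated by the p'-elements of the generalized Fitting subgroup of C_G(a). Then R centralizes O^p(F*(G)). -/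
theorem result {X : Type*} [Group X] [Finite X] (G R : Subgroup X) (r : ℕ) [Fact r.Prime] (hR : IsPGroup r ↥R) (hcop : (Nat.card ↥G).Coprime r) (hnorm : R ≤ Subgroup.normalizer (G : Set X)) (hab : IsMulCommutative ↥R) (hnc : ¬ IsCyclic ↥R) (p : ℕ) [Fact p.Prime] (hp : 3 < p) (hloc : ∀ a ∈ R, a ≠ 1 → R ≤ Subgroup.centralizer ((((Cfsg.pResidual p ↥(Cfsg.generalizedFittingSubgroup ↥(G ⊓ Subgroup.centralizer ({a} : Set X)))).map (Cfsg.generalizedFittingSubgroup ↥(G ⊓ Subgroup.centralizer ({a} : Set X))).subtype).map (G ⊓ Subgroup.centralizer ({a} : Set X)).subtype : Subgroup X) : Set X)) : R ≤ Subgroup.centralizer ((((Cfsg.pResidual p ↥(Cfsg.generalizedFittingSubgroup ↥G)).map (Cfsg.generalizedFittingSubgroup ↥G).subtype).map G.subtype : Subgroup X) : Set X) := by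
  have hS : CfsgLib.ShultDep.Shult.{0} := CfsgLib.Shult.shult_of_steps CfsgLib.AschCrit.mainProved
    CfsgLib.Shult.fusionStep CfsgLib.Shult.embeddedStep
  have hp5 : 5 ≤ p := by
    rcases Nat.lt_or_ge p 5 with h | h
    · have := (Fact.out : p.Prime)
      interval_cases p
      exact absurd this (by decide)
    · exact h
  have hr : r.Prime := Fact.out
  have key := CfsgLib.Flavell.residual_fixed (p := p) hS hp5 hr hR
    (hr.coprime_iff_not_dvd.1 hcop.symm) hnorm
    (fun a ha b hb => congrArg Subtype.val (hab.is_comm.comm (⟨a, ha⟩ : R) ⟨b, hb⟩)) hnc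
    (fun a ha ha1 g hg hgc => by
      obtain ⟨x, hx, rfl⟩ := hg
      rw [Subgroup.coe_subtype, Subgroup.orderOf_coe] at hgc
      refine Subgroup.mem_centralizer_iff.2 fun ρ hρ => ?_
      have hmem : x ∈ (Cfsg.pResidual p (Cfsg.generalizedFittingSubgroup _)).map
          (Cfsg.generalizedFittingSubgroup _).subtype :=
        ⟨⟨x, hx⟩, CfsgLib.Transfer.mem_pResidual_of_coprime (by rwa [← Subgroup.orderOf_coe]), rfl⟩
      exact (Subgroup.mem_centralizer_iff.1 (hloc a ha ha1 hρ) _ (Subgroup.mem_map_of_mem _ hmem)).symm)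
  rw [Subgroup.le_centralizer_iff, Subgroup.map_map, Subgroup.map_le_iff_le_comap,
    CfsgLib.Transfer.pResidual_le_iff]
  intro g hg
  exact key _ (Subgroup.mem_map_of_mem _ g.2) (by
    rwa [MonoidHom.comp_apply, Subgroup.coe_subtype, Subgroup.coe_subtype, Subgroup.orderOf_coe, Subgroup.orderOf_coe])

end Cfsg.Agent.S1931
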