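import Cfsg.Statements.S1935
import Cfsg.Agent.Lib.Techniques.QuadraticNormal
import Cfsg.Agent.S0598
import Cfsg.Agent.Lib.Signalizer.Basic
import Mathlib.Algebra.Module.ZMod
import Mathlib.LinearAlgebra.FreeModule.Finite.Basic

set_option autoImplicit false
open Cfsg
open scoped commutatorElement

namespace Cfsg.Agent.S1935

/-- Let p ≥ 5 be a prime and, inside an ambient finite group, let G be a p-subgroup acting faithfully by conjugation on an elementary abelian p-subgroup V that it normalizes (only the identity of G centralizes V). Suppose V is an F-module for G: some nontrivial elementary abelian subgroup E of G satisfies #E · #C_V(E) ≥ #V. Then G contains such an offender A that moreover acts quadratically on V ([V, A, A] = 1) and is normal in its normal closure in G. -/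
theorem result {Ω : Type*} [Group Ω] [Finite Ω] (p : ℕ) [Fact p.Prime] (hp : 5 ≤ p) (V G : Subgroup Ω) (hV : Cfsg.IsElementaryAbelian p V) (hG : IsPGroup p ↥G) (hGV : G ≤ Subgroup.normalizer (V : Set Ω)) (hfaith : G ⊓ Subgroup.centralizer (V : Set Ω) = ⊥) (hF : ∃ E : Subgroup Ω, E ≤ G ∧ E ≠ ⊥ ∧ Cfsg.IsElementaryAbelian p E ∧ Nat.card ↥V ≤ Nat.card ↥E * Nat.card ↥(V ⊓ Subgroup.centralizer (E : Set Ω))) : ∃ A : Subgroup Ω, A ≤ G ∧ A ≠ ⊥ ∧ Cfsg.IsElementaryAbelian p A ∧ Nat.card ↥V ≤ Nat.card ↥A * Nat.card ↥(V ⊓ Subgroup.centralizer (A : Set Ω)) ∧ ⁅⁅V, A⁆, A⁆ = ⊥ ∧ ∀ g ∈ Subgroup.closure {x : Ω | ∃ h ∈ G, ∃ a ∈ A, x = h * a * h⁻¹}, ∀ a ∈ A, g * a * g⁻¹ ∈ A := by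
  classical
  letI : CommGroup ↥V := { (inferInstance : Group ↥V) with mul_comm := fun a b => hV.1.is_comm.comm a b }
  -- a quadratic offender
  obtain ⟨E, hEG, hE1, hEa, hEV⟩ := hF
  obtain ⟨B₁, ⟨hB₁E, hB₁⟩, hmax⟩ := Set.exists_max_image {B : Subgroup Ω | B ≤ E ∧ B ≠ ⊥}
    (fun B => Nat.card ↥B * Nat.card ↥(V ⊓ Subgroup.centralizer (B : Set Ω))) (Set.toFinite _) ⟨E, le_rfl, hE1⟩
  have hB₁V : Nat.card ↥V ≤ Nat.card ↥B₁ * Nat.card ↥(V ⊓ Subgroup.centralizer (B₁ : Set Ω)) :=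
    hEV.trans (hmax E ⟨le_rfl, hE1⟩)
  have hEc : ∀ a ∈ E, ∀ b ∈ E, a * b = b * a := fun a ha b hb =>
    congrArg Subtype.val (hEa.1.is_comm.comm ⟨a, ha⟩ ⟨b, hb⟩)
  obtain ⟨B', hB', hcase⟩ := Cfsg.Agent.S0598.result (p := p) V B₁ hV ((hB₁E.trans hEG).trans hGV)
    (Subgroup.commutator_le.mpr fun a ha b hb => by
      rw [commutatorElement_eq_one_iff_mul_comm.mpr (hEc a (hB₁E ha) b (hB₁E hb))]
      exact one_mem _) V le_rfl
  obtain ⟨A₂, hA₂E, hA₂1, hA₂V, hA₂q⟩ : ∃ A₂ : Subgroup Ω, A₂ ≤ E ∧ A₂ ≠ ⊥ ∧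
      Nat.card ↥V ≤ Nat.card ↥A₂ * Nat.card ↥(V ⊓ Subgroup.centralizer (A₂ : Set Ω)) ∧ ⁅⁅V, A₂⁆, A₂⁆ = ⊥ := by
    rcases hcase with hgt | ⟨rfl, hfix, heq⟩
    · exfalso
      by_cases hb : B' = ⊥
      · subst hb
        have h1 : Nat.card ↥(V ⊓ Subgroup.centralizer ((⊥ : Subgroup Ω) : Set Ω)) ≤ Nat.card ↥V :=
          Subgroup.card_le_of_le inf_le_left
        rw [Subgroup.card_bot, one_mul] at hgt
        omega
      · exact absurd (hmax B' ⟨hB'.trans hB₁E, hb⟩) (not_le.2 hgt)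
    · refine ⟨_, inf_le_left.trans hB₁E, fun hb => hB₁ ?_, heq ▸ hB₁V, ?_⟩
      · rw [hb] at hfix
        have hVB : V ≤ ⁅V, B₁⁆ ⊔ (V ⊓ Subgroup.centralizer (B₁ : Set Ω)) := fun v hv =>
          hfix.le ⟨hv, Subgroup.mem_centralizer_iff.mpr fun x hx => by rw [Subgroup.mem_bot.mp hx, one_mul, mul_one]⟩
        have hVV : ⁅V, B₁⁆ ≤ V := Subgroup.commutator_le.mpr fun v hv b hb => by
          rw [commutatorElement_def, mul_assoc, mul_assoc, ← mul_assoc b]
          exact V.mul_mem hv ((Subgroup.mem_normalizer_iff.mp (((hB₁E.trans hEG).trans hGV) hb) _).mp (V.inv_mem hv))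
        have hW : ⁅V, B₁⁆ ≤ ⁅⁅V, B₁⁆, B₁⁆ := by
          refine Subgroup.commutator_le.mpr fun v hv b hb => ?_
          have hn : ∀ x ∈ V, b * x * b⁻¹ ∈ V := fun x hx =>
            (Subgroup.mem_normalizer_iff.mp (((hB₁E.trans hEG).trans hGV) hb) x).mp hx
          obtain ⟨w, hw, u, hu, rfl⟩ : ∃ w ∈ ⁅V, B₁⁆, ∃ u ∈ V ⊓ Subgroup.centralizer (B₁ : Set Ω), w * u = v := by
            have : v ∈ (↑(⁅V, B₁⁆ ⊔ (V ⊓ Subgroup.centralizer (B₁ : Set Ω))) : Set Ω) := hVB hv
            rw [Subgroup.coe_mul_of_right_le_normalizer_left] at this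
            · exact this
            · refine fun x hx => Subgroup.mem_normalizer_iff.mpr fun y => ?_
              have hc : ∀ y ∈ V, x * y * x⁻¹ = y := fun y hy => by
                rw [congrArg Subtype.val (hV.1.is_comm.comm ⟨x, hx.1⟩ ⟨y, hy⟩) |> fun h => (h : x * y = y * x),
                  mul_inv_cancel_right]
              refine ⟨fun hy => by rwa [hc y (hVV hy)], fun hy => ?_⟩
              have hyV : y ∈ V := by
                have := V.mul_mem (V.mul_mem (V.inv_mem hx.1) (hVV hy)) hx.1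
                simpa [mul_assoc] using this
              rwa [hc y hyV] at hy
          have hub : u * b = b * u := (Subgroup.mem_centralizer_iff.mp hu.2 b hb).symm
          have e : ⁅w * u, b⁆ = ⁅w, b⁆ := by
            rw [commutatorElement_def, commutatorElement_def, mul_inv_rev,
              show w * u * b * (u⁻¹ * w⁻¹) * b⁻¹ = w * (u * b * u⁻¹) * w⁻¹ * b⁻¹ by group, hub,
              mul_inv_cancel_right]
          rw [e]
          exact Subgroup.commutator_mem_commutator hw hb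
        have hbot := CfsgLib.PLocal.eq_bot_of_le_commutator (p := p) (CfsgLib.Signalizer.elementary_isPGroup hV)
          ((hB₁E.trans hEG).trans hGV) (fun a ha => ⟨1, by rw [pow_one, hEa.2 a (hB₁E ha)]; exact one_mem _⟩) hVV hW
        refine eq_bot_iff.mpr ((le_inf (hB₁E.trans hEG) ?_).trans hfaith.le)
        exact (Subgroup.commutator_eq_bot_iff_le_centralizer.mp (Subgroup.commutator_comm V B₁ ▸ hbot))
      · rw [Subgroup.commutator_eq_bot_iff_le_centralizer]
        refine (Subgroup.commutator_mono le_rfl inf_le_left).trans ?_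
        exact Subgroup.le_centralizer_iff.mp inf_le_right
  -- the representation on `V`
  let toEnd : MulAut ↥V →* AddMonoid.End (Additive ↥V) :=
    { toFun := fun f => MonoidHom.toAdditive f.toMonoidHom
      map_one' := rfl
      map_mul' := fun _ _ => rfl }
  let ρ : ↥G →* AddMonoid.End (Additive ↥V) :=
    toEnd.comp (V.normalizerMonoidHom.comp (Subgroup.inclusion hGV))
  have hρv : ∀ (g : ↥G) (w : Additive ↥V),
      ((Additive.toMul (ρ g w) : ↥V) : Ω) = (g : Ω) * ((Additive.toMul w : ↥V) : Ω) * (g : Ω)⁻¹ := fun g w => rfl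
  have hρ : Function.Injective ρ := by
    refine (injective_iff_map_eq_one ρ).mpr fun g hg => Subtype.ext (Subgroup.mem_bot.mp (hfaith.le ⟨g.2, ?_⟩))
    refine Subgroup.mem_centralizer_iff.mpr fun v hv => ?_
    have h := hρv g (Additive.ofMul ⟨v, hv⟩)
    rw [hg] at h
    exact (eq_mul_inv_iff_mul_eq.mp h)
  have hpR : (p : AddMonoid.End (Additive ↥V)) = 0 := by
    refine AddMonoidHom.ext fun w => ?_
    rw [show (p : AddMonoid.End (Additive ↥V)) = p • 1 from (nsmul_one p).symm]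
    show p • w = 0
    exact Additive.toMul.injective (Subtype.ext (hV.2 _ (Additive.toMul w).2))
  haveI : Finite (Additive ↥V) := Finite.of_equiv _ Additive.ofMul
  haveI : Finite (AddMonoid.End (Additive ↥V)) :=
    Finite.of_injective (fun f : AddMonoid.End (Additive ↥V) => (f : Additive ↥V → Additive ↥V)) DFunLike.coe_injective
  -- `(ρ a - 1) w` is the commutator
  have hsub : ∀ (g : ↥G) (w : Additive ↥V),
      ((Additive.toMul ((ρ g - 1) w) : ↥V) : Ω) =
        (g : Ω) * ((Additive.toMul w : ↥V) : Ω) * (g : Ω)⁻¹ * ((Additive.toMul w : ↥V) : Ω)⁻¹ := fun g w => by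
    show ((Additive.toMul (ρ g w - w) : ↥V) : Ω) = _
    rw [toMul_sub, div_eq_mul_inv, Subgroup.coe_mul, Subgroup.coe_inv, hρv]
  have hzero : ∀ (g : ↥G) (w : Additive ↥V),
      (ρ g - 1) w = 0 ↔ ((Additive.toMul w : ↥V) : Ω) * (g : Ω) = (g : Ω) * ((Additive.toMul w : ↥V) : Ω) := by
    intro g w
    rw [← Additive.toMul.injective.eq_iff, ← Subtype.coe_injective.eq_iff, hsub, toMul_zero, OneMemClass.coe_one,
      mul_inv_eq_one, mul_inv_eq_iff_eq_mul]
    exact eq_comm
  have hquad : ∀ A : Subgroup ↥G, CfsgLib.Techniques.QuadraticNormal.IsQuad ρ A ↔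
      ⁅⁅V, A.map G.subtype⁆, A.map G.subtype⁆ = ⊥ := by
    intro A
    rw [Subgroup.commutator_eq_bot_iff_le_centralizer]
    constructor
    · intro h
      refine Subgroup.commutator_le.mpr fun v hv _ hb => Subgroup.mem_centralizer_iff.mpr fun _ ha => ?_
      obtain ⟨b, hb, rfl⟩ := hb
      obtain ⟨a, ha, rfl⟩ := ha
      have h1 := congrArg (fun f : AddMonoid.End (Additive ↥V) => f (Additive.ofMul (⟨v, hv⟩⁻¹))) (h a ha b hb)
      have h2 := (hzero a _).mp h1
      erw [hsub] at h2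
      have hvv : ∀ w ∈ V, w * v = v * w := fun w hw => congrArg Subtype.val (hV.1.is_comm.comm ⟨w, hw⟩ ⟨v, hv⟩)
      have hw : (b : Ω) * v⁻¹ * (b : Ω)⁻¹ ∈ V :=
        (Subgroup.mem_normalizer_iff.mp (hGV b.2) _).mp (V.inv_mem hv)
      have e : ⁅v, (b : Ω)⁆ = (b : Ω) * v⁻¹ * (b : Ω)⁻¹ * v := by
        rw [commutatorElement_def, hvv _ hw]; group
      show (a : Ω) * ⁅v, (b : Ω)⁆ = ⁅v, (b : Ω)⁆ * (a : Ω)
      rw [e]
      simpa using h2.symm
    · intro h a ha b hb
      refine AddMonoidHom.ext fun w => (hzero a _).mpr ?_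
      erw [hsub]
      set v := ((Additive.toMul w : ↥V) : Ω)
      have hm : (b : Ω) * v * (b : Ω)⁻¹ * v⁻¹ ∈ ⁅V, A.map G.subtype⁆ := by
        rw [Subgroup.commutator_comm]
        exact Subgroup.commutator_mem_commutator (Subgroup.mem_map_of_mem _ hb) (Additive.toMul w).2
      exact (Subgroup.mem_centralizer_iff.mp (h hm) _ (Subgroup.mem_map_of_mem _ ha)).symm
  set A₀ := A₂.subgroupOf G with hA₀
  have hA₀map : A₀.map G.subtype = A₂ := Subgroup.map_subgroupOf_eq_of_le (hA₂E.trans hEG)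
  obtain ⟨A, hAq, hAc, hAann, hAn⟩ := CfsgLib.Techniques.QuadraticNormal.exists_normal_in_closure hρ hpR hp hG
    ((hquad A₀).mpr (by rw [hA₀map]; exact hA₂q))
  -- fixed points
  letI : Module (ZMod p) (Additive ↥V) := AddCommGroup.zmodModule fun w =>
    Additive.toMul.injective (Subtype.ext (hV.2 _ (Additive.toMul w).2))
  obtain ⟨n, hn⟩ : ∃ n : ℕ, ∀ A : Subgroup ↥G, Nat.card (CfsgLib.Techniques.QuadraticNormal.ann ρ A) =
      Nat.card ↥(V ⊓ Subgroup.centralizer ((A.map G.subtype : Subgroup Ω) : Set Ω)) ^ n := by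
    refine ⟨Module.finrank (ZMod p) (Additive ↥V), fun A => ?_⟩
    let C : AddSubgroup (Additive ↥V) :=
      { carrier := {w | ∀ a ∈ A, (ρ a - 1) w = 0}
        zero_mem' := fun a _ => map_zero _
        add_mem' := fun {u w} hu hw a ha => by rw [map_add, hu a ha, hw a ha, add_zero]
        neg_mem' := fun {u} hu a ha => by rw [map_neg, hu a ha, neg_zero] }
    letI : Module (ZMod p) ↥C := AddCommGroup.zmodModule fun w => Subtype.ext (by
      rw [AddSubgroupClass.coe_nsmul]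
      exact Additive.toMul.injective (Subtype.ext (hV.2 _ (Additive.toMul (w : Additive ↥V)).2)))
    have h1 : Nat.card (CfsgLib.Techniques.QuadraticNormal.ann ρ A) = Nat.card (Additive ↥V →ₗ[ZMod p] ↥C) := by
      refine Nat.card_congr
        { toFun := fun r => (AddMonoidHom.codRestrict (r.1 : Additive ↥V →+ Additive ↥V) C
            fun w a ha => DFunLike.congr_fun (r.2 a ha) w).toZModLinearMap p
          invFun := fun f => ⟨C.subtype.comp f.toAddMonoidHom, fun a ha => AddMonoidHom.ext fun w => (f.toAddMonoidHom w).2 a ha⟩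
          left_inv := fun r => Subtype.ext (AddMonoidHom.ext fun w => rfl)
          right_inv := fun f => LinearMap.ext fun w => rfl }
    have h2 : Nat.card ↥C = Nat.card ↥(V ⊓ Subgroup.centralizer ((A.map G.subtype : Subgroup Ω) : Set Ω)) := by
      refine Nat.card_congr
        { toFun := fun w => ⟨((Additive.toMul (w : Additive ↥V) : ↥V) : Ω), (Additive.toMul (w : Additive ↥V)).2,
            Subgroup.mem_centralizer_iff.mpr ?_⟩
          invFun := fun v => ⟨Additive.ofMul ⟨v.1, v.2.1⟩, fun a ha => (hzero a _).mpr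
            (Subgroup.mem_centralizer_iff.mp v.2.2 (a : Ω) (Subgroup.mem_map_of_mem _ ha)).symm⟩
          left_inv := fun w => rfl
          right_inv := fun v => rfl }
      rintro _ ⟨a, ha, rfl⟩
      exact ((hzero a _).mp (w.2 a ha)).symm
    rw [h1, ← Nat.card_congr ((Module.finBasis (ZMod p) (Additive ↥V)).constr ℕ).toEquiv, Nat.card_fun, Nat.card_fin,
      h2]
  have hfix : Nat.card ↥(V ⊓ Subgroup.centralizer (A₂ : Set Ω)) ≤
      Nat.card ↥(V ⊓ Subgroup.centralizer ((A.map G.subtype : Subgroup Ω) : Set Ω)) := by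
    rw [hn, hn, hA₀map] at hAann
    rcases Nat.eq_zero_or_pos n with hn0 | hn0
    · have h1 := hn ⊥
      rw [hn0, pow_zero, Nat.card_eq_one_iff_unique] at h1
      obtain ⟨hs, -⟩ := h1
      have hone : (1 : AddMonoid.End (Additive ↥V)) = 0 := congrArg Subtype.val (hs.elim
        (⟨1, fun a ha => by rw [Subgroup.mem_bot.mp ha, map_one, sub_self, zero_mul]⟩ :
          CfsgLib.Techniques.QuadraticNormal.ann ρ ⊥) 0)
      have hV1 : ∀ v ∈ V, v = 1 := fun v hv =>
        (congrArg (fun w => ((Additive.toMul w : ↥V) : Ω)) (DFunLike.congr_fun hone (Additive.ofMul ⟨v, hv⟩)) : )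
      refine Nat.card_le_card_of_injective (fun v => ⟨1, one_mem _⟩) fun a b _ => Subtype.ext ?_
      rw [hV1 _ a.2.1, hV1 _ b.2.1]
    · exact (Nat.pow_le_pow_iff_left hn0.ne').1 hAann
  have hcA : Nat.card ↥A₂ ≤ Nat.card ↥(A.map G.subtype) := by
    rw [← hA₀map, Subgroup.card_map_of_injective G.subtype_injective,
      Subgroup.card_map_of_injective G.subtype_injective]
    exact hAc
  have hA1 : A.map G.subtype ≠ ⊥ := fun hb => hA₂1 (Subgroup.card_eq_one.mp (by
    have : 0 < Nat.card ↥A₂ := Nat.card_pos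
    rw [hb, Subgroup.card_bot] at hcA
    omega))
  have hlog : ∀ a ∈ A, ∀ b ∈ A, ρ (a * b) = 1 + ((ρ a - 1) + (ρ b - 1)) := fun a ha b hb => by
    rw [map_mul, ← add_zero (ρ a * ρ b), ← neg_zero, ← hAq a ha b hb, sub_mul, mul_sub, mul_one, one_mul]
    abel
  refine ⟨A.map G.subtype, Subgroup.map_subtype_le _, hA1, ⟨⟨⟨?_⟩⟩, ?_⟩,
    hA₂V.trans (Nat.mul_le_mul hcA hfix), (hquad A).mp hAq, ?_⟩
  · rintro ⟨_, a, ha, rfl⟩ ⟨_, b, hb, rfl⟩
    refine Subtype.ext ?_
    show G.subtype a * G.subtype b = G.subtype b * G.subtype a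
    rw [← map_mul, ← map_mul]
    refine congrArg _ (hρ ?_)
    rw [hlog a ha b hb, hlog b hb a ha, add_comm (ρ a - 1)]
  · rintro _ ⟨a, ha, rfl⟩
    have hpow : ∀ i : ℕ, ρ (a ^ i) = 1 + i • (ρ a - 1) := by
      intro i
      induction i with
      | zero => simp
      | succ i ih =>
        rw [pow_succ, hlog _ (pow_mem ha i) a ha, ih, add_sub_cancel_left, succ_nsmul]
    have h1 : a ^ p = 1 := hρ (by rw [hpow, nsmul_eq_mul, hpR, zero_mul, add_zero, map_one])
    exact (congrArg Subtype.val h1 :)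
  · intro g hg a ha
    obtain ⟨a', ha', rfl⟩ := ha
    have hclo : g ∈ (Subgroup.normalClosure (A : Set ↥G)).map G.subtype := by
      refine (Subgroup.closure_le _).mpr ?_ hg
      rintro x ⟨h, hh, _, ⟨b, hb, rfl⟩, rfl⟩
      exact ⟨⟨h, hh⟩ * b * ⟨h, hh⟩⁻¹,
        Subgroup.normalClosure_normal.conj_mem b (Subgroup.le_normalClosure hb) _, rfl⟩
    obtain ⟨g', hg', rfl⟩ := hclo
    exact ⟨g' * a' * g'⁻¹, (Subgroup.mem_normalizer_iff.mp (hAn hg') a').mp ha', rfl⟩

end Cfsg.Agent.S1935
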