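import Cfsg.Statements.S1936
import Cfsg.Agent.Lib.Techniques.PPrimeAbelian.Odd
import Cfsg.Agent.Lib.Techniques.PPrimeAbelian.EvenCount
import Cfsg.Agent.Lib.Char.Burnside

set_option autoImplicit false
open Cfsg

namespace Cfsg.Agent.S1936

open Subgroup CfsgLib.Techniques.PPrimeAbelian

universe u

/-- A group of order divisible only by `2` and `3` is solvable. -/
theorem solvable_of_two_three {G : Type u} [Group G] [Finite G]
    (h : ∀ r : ℕ, r.Prime → r ∣ Nat.card G → r = 2 ∨ r = 3) : Group.IsSolvable G := by
  have hn : Nat.card G ≠ 0 := Nat.card_pos.ne'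
  obtain ⟨a, c, hc, hac⟩ := Nat.exists_eq_two_pow_mul_odd hn
  have hc3 : c = 3 ^ c.primeFactorsList.length := Nat.eq_prime_pow_of_unique_prime_dvd
    (fun e => by subst e; simp at hc) fun {d} hd hdc => by
      rcases h d hd (hac ▸ hdc.trans (dvd_mul_left c _)) with rfl | rfl
      · exact absurd (hc.of_dvd_nat hdc) (by decide)
      · rfl
  exact CfsgLib.Burnside.isSolvable_of_card_eq Nat.prime_two Nat.prime_three
    (b := c.primeFactorsList.length) (a := a) (by rw [hac, ← hc3])

theorem main (p : ℕ) [Fact p.Prime] : ∀ (n : ℕ) (G : Type u) [Group G] [Finite G], Nat.card G = n →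
    Hyp p G → Group.IsSolvable G := by
  intro n
  induction n using Nat.strong_induction_on with
  | _ n ih =>
  intro G _ _ hn h
  have hp : p.Prime := Fact.out
  have hsub : ∀ L : Subgroup G, L ≠ ⊤ → Group.IsSolvable L := fun L hL =>
    ih _ (hn ▸ CfsgLib.Core.card_subgroup_lt L hL) L rfl (h.subgroup L)
  by_cases hnormal : ∃ N : Subgroup G, N.Normal ∧ N ≠ ⊥ ∧ N ≠ ⊤
  · obtain ⟨N, hN, hNb, hNt⟩ := hnormal
    haveI := hsub N hNt
    suffices Group.IsSolvable (G ⧸ N) by
      exact Group.isSolvable_of_ker_le_range N.subtype (QuotientGroup.mk' N)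
        (by rw [QuotientGroup.ker_mk', N.range_subtype])
    have hq : Hyp p (G ⧸ N) → Group.IsSolvable (G ⧸ N) := fun hQ => ih _ (by
      rw [← hn, N.card_eq_card_quotient_mul_card_subgroup]
      exact lt_mul_of_one_lt_right Nat.card_pos ((one_lt_card_iff_ne_bot N).mpr hNb)) _ rfl hQ
    obtain ⟨P⟩ : Nonempty (Sylow p N) := inferInstance
    by_cases hPN : (P : Subgroup N) = ⊥
    · refine hq (h.quotient_coprime N ?_)
      rw [Nat.coprime_comm, hp.coprime_iff_not_dvd]
      exact fun hd => P.ne_bot_of_dvd_card hd hPN
    · set PG := (P : Subgroup N).map N.subtype with hPG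
      by_cases hnP : normalizer (PG : Set G) = ⊤
      · haveI : PG.Normal := normalizer_eq_top_iff.1 hnP
        have hPGb : PG ≠ ⊥ := by
          rwa [hPG, Ne, map_eq_bot_iff_of_injective _ N.subtype_injective]
        have hs : Group.IsSolvable (G ⧸ PG) := ih _ (by
          rw [← hn, PG.card_eq_card_quotient_mul_card_subgroup]
          exact lt_mul_of_one_lt_right Nat.card_pos ((one_lt_card_iff_ne_bot PG).mpr hPGb)) _ rfl
          (h.quotient_pGroup PG (P.2.map N.subtype))
        exact Group.isSolvable_of_surjective (f := QuotientGroup.map PG N (MonoidHom.id G)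
          (fun x hx => map_subtype_le _ hx)) fun y => by
            obtain ⟨g, rfl⟩ := QuotientGroup.mk_surjective y
            exact ⟨QuotientGroup.mk g, rfl⟩
      · haveI := hsub _ hnP
        refine Group.isSolvable_of_surjective
          (f := (QuotientGroup.mk' N).comp (normalizer (PG : Set G)).subtype) fun y => ?_
        obtain ⟨g, rfl⟩ := QuotientGroup.mk'_surjective N y
        have hg : g ∈ normalizer (PG : Set G) ⊔ N := by
          rw [hPG, Sylow.normalizer_sup_eq_top P]; exact mem_top _
        rw [mem_sup_of_normal_right] at hg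
        obtain ⟨a, ha, b, hb, rfl⟩ := hg
        exact ⟨⟨a, ha⟩, by
          rw [map_mul, show QuotientGroup.mk' N b = 1 from (QuotientGroup.eq_one_iff b).2 hb, mul_one]
          rfl⟩
  · push Not at hnormal
    by_cases hc : IsMulCommutative G
    · haveI := hc
      letI : CommGroup G := { (inferInstance : Group G) with mul_comm := mul_comm' }
      infer_instance
    have hnt : Nontrivial G := by
      rcases subsingleton_or_nontrivial G with h1 | h1
      · exact absurd ⟨⟨fun a b => Subsingleton.elim _ _⟩⟩ hc
      · exact h1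
    have hs : IsSimpleGroup G :=
      ⟨fun N hN => or_iff_not_imp_left.2 fun hb => hnormal N hN hb⟩
    have hms : Cfsg.IsMinimalSimple G := ⟨hs, hc, hsub⟩
    by_cases hp5 : 5 ≤ p
    · exfalso
      rcases Nat.even_or_odd (Nat.card G) with he | ho
      · exact EvenHyp.false (G := G) (p := p) ⟨hms, h, hp5, even_iff_two_dvd.1 he⟩
      · exact OddHyp.false (G := G) (p := p) ⟨⟨ho, hms⟩, h, hp5⟩
    · refine solvable_of_two_three fun r hr hd => ?_
      have hp3 : p = 2 ∨ p = 3 := by
        have := hp.two_le
        have : p ≠ 4 := fun e => by rw [e] at hp; norm_num at hp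
        omega
      by_cases hrp : r = p
      · subst hrp; exact hp3
      · have h2 := Nat.le_of_dvd (by have := hp.two_le; omega) (h.dvd_pred hr hrp hd)
        have := hr.two_le
        omega

/-- Let p be a prime and G a finite group in which every subgroup of order prime to p is abelian of exponent dividing p − 1. Then G is solvable. -/
theorem result {G : Type*} [Group G] [Finite G] (p : ℕ) [Fact p.Prime] (h : ∀ H : Subgroup G, (Nat.card ↥H).Coprime p → IsMulCommutative ↥H ∧ ∀ x ∈ H, x ^ (p - 1) = 1) : Group.IsSolvable G := by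
  exact main p _ G rfl h

end Cfsg.Agent.S1936
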