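import Cfsg.Statements.S1939
import Cfsg.Agent.Lib.Techniques.Basic

set_option autoImplicit false
open Cfsg

namespace Cfsg.Agent.S1939

/-- Let S be a Sylow p-subgroup of the finite group G and a an element of S that is the only G-conjugate of a lying in S. Then every power of a has the same property: for every n, the only G-conjugate of a^n lying in S is a^n. -/
theorem result {G : Type*} [Group G] [Finite G] {p : ℕ} [Fact p.Prime] (S : Sylow p G) (a : G)
    (haS : a ∈ (S : Subgroup G)) (hwc : ∀ g : G, g * a * g⁻¹ ∈ (S : Subgroup G) → g * a * g⁻¹ = a) (n : ℕ) :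
    ∀ g : G, g * a ^ n * g⁻¹ ∈ (S : Subgroup G) → g * a ^ n * g⁻¹ = a ^ n := by
  intro g hb
  set C := Subgroup.centralizer ({a ^ n} : Set G) with hC
  set b := g * a ^ n * g⁻¹ with hbdef
  have hSc : ∀ s ∈ (S : Subgroup G), s * a * s⁻¹ = a := fun s hs =>
    hwc s (mul_mem (mul_mem hs haS) (inv_mem hs))
  have hab : a * b = b * a := by
    have := hSc b hb
    calc a * b = (b * a * b⁻¹) * b := by rw [this]
      _ = b * a := by group
  have haC : a ∈ C := Subgroup.mem_centralizer_singleton_iff.mpr (Commute.pow_right rfl n).eq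
  have ha'C : g⁻¹ * a * g ∈ C := by
    refine Subgroup.mem_centralizer_singleton_iff.mpr ?_
    have : a ^ n = g⁻¹ * b * g := by rw [hbdef]; group
    rw [this]
    calc g⁻¹ * a * g * (g⁻¹ * b * g) = g⁻¹ * (a * b) * g := by group
      _ = g⁻¹ * (b * a) * g := by rw [hab]
      _ = g⁻¹ * b * g * (g⁻¹ * a * g) := by group
  have hza : IsPGroup p ↥(Subgroup.zpowers a) := CfsgLib.Techniques.isPGroup_zpowers_of_mem S.2 haS
  have hza' : IsPGroup p ↥(Subgroup.zpowers (g⁻¹ * a * g)) := by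
    have := hza.map (MulAut.conj g⁻¹).toMonoidHom
    rw [MonoidHom.map_zpowers] at this
    have e : (MulAut.conj g⁻¹).toMonoidHom a = g⁻¹ * a * g := by
      show g⁻¹ * a * g⁻¹⁻¹ = _
      rw [inv_inv]
    rwa [e] at this
  obtain ⟨c, hc, h, h1, h2⟩ := CfsgLib.Techniques.exists_simultaneous_conj S C hza hza' haC ha'C
  have e1 := hwc h h1
  have h2' : (h * c * g⁻¹) * a * (h * c * g⁻¹)⁻¹ ∈ (S : Subgroup G) := by
    convert h2 using 1; group
  have e2 := hwc _ h2'
  have ch : Commute h a := by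
    show h * a = a * h
    calc h * a = (h * a * h⁻¹) * h := by group
      _ = a * h := by rw [e1]
  have ck : Commute (h * c * g⁻¹) a := by
    show (h * c * g⁻¹) * a = a * (h * c * g⁻¹)
    calc (h * c * g⁻¹) * a = ((h * c * g⁻¹) * a * (h * c * g⁻¹)⁻¹) * (h * c * g⁻¹) := by group
      _ = a * (h * c * g⁻¹) := by rw [e2]
  have hk := (ck.pow_right n).inv_left.eq
  have hhn := (ch.pow_right n).eq
  have hcn : c * a ^ n = a ^ n * c := Subgroup.mem_centralizer_singleton_iff.mp hc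
  rw [hbdef]
  calc g * a ^ n * g⁻¹ = (h * c * g⁻¹)⁻¹ * (h * (c * a ^ n) * g⁻¹) := by group
    _ = (h * c * g⁻¹)⁻¹ * (h * (a ^ n * c) * g⁻¹) := by rw [hcn]
    _ = (h * c * g⁻¹)⁻¹ * ((h * a ^ n) * c * g⁻¹) := by group
    _ = (h * c * g⁻¹)⁻¹ * ((a ^ n * h) * c * g⁻¹) := by rw [hhn]
    _ = ((h * c * g⁻¹)⁻¹ * a ^ n) * (h * c * g⁻¹) := by group
    _ = (a ^ n * (h * c * g⁻¹)⁻¹) * (h * c * g⁻¹) := by rw [hk]
    _ = a ^ n := by group

end Cfsg.Agent.S1939
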