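import Cfsg.Statements.S1940

set_option autoImplicit false
open Cfsg

namespace Cfsg.Agent.S1940

/-- Let the finite group L act by automorphisms on the finite abelian group M, and let N be an L-invariant subgroup of M such that M/N is a p-group on which L acts trivially (every l • m lies in the coset mN). If every element of M is a product of an element of N and an element fixed by a Sylow p-subgroup T of L, then every element of M is a product of an element of N and an element fixed by all of L. -/
theorem result {L : Type*} [Group L] [Finite L] {M : Type*} [CommGroup M] [Finite M] [MulDistribMulAction L M]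
    {p : ℕ} [Fact p.Prime] (N : Subgroup M) (hN : ∀ (l : L) (m : M), m ∈ N → l • m ∈ N)
    (hquot : IsPGroup p (M ⧸ N)) (htriv : ∀ (l : L) (m : M), (l • m) * m⁻¹ ∈ N) (T : Sylow p L)
    (hT : ∀ m : M, ∃ n ∈ N, ∃ c : M, (∀ t ∈ (T : Subgroup L), t • c = c) ∧ m = n * c) :
    ∀ m : M, ∃ n ∈ N, ∃ c : M, (∀ l : L, l • c = c) ∧ m = n * c := by
  classical
  haveI : Fintype (L ⧸ (T : Subgroup L)) := Fintype.ofFinite _
  haveI : N.Normal := inferInstance
  have hidx : (T : Subgroup L).index.Coprime p :=
    (Nat.Prime.coprime_iff_not_dvd Fact.out).mpr T.not_dvd_index |>.symm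
  intro m
  obtain ⟨m', hm'⟩ : ∃ m' : M ⧸ N, m' ^ (T : Subgroup L).index = QuotientGroup.mk m := by
    have hcop : (Nat.card (M ⧸ N)).Coprime (T : Subgroup L).index := by
      obtain ⟨k, hk⟩ := IsPGroup.iff_card.mp hquot
      rw [hk]; exact (hidx.symm.pow_left k)
    exact ⟨(powCoprime hcop).symm (QuotientGroup.mk m), (powCoprime hcop).apply_symm_apply _⟩
  obtain ⟨m', rfl⟩ := QuotientGroup.mk_surjective m'
  obtain ⟨n, hn, c, hc, rfl⟩ := hT m'
  let f : L ⧸ (T : Subgroup L) → M := fun q => Quotient.liftOn' q (fun l => l • c) (by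
    intro a b hab
    rw [QuotientGroup.leftRel_apply] at hab
    have := hc _ hab
    calc a • c = a • ((a⁻¹ * b) • c) := by rw [this]
      _ = b • c := by rw [smul_smul, mul_inv_cancel_left])
  have hf : ∀ (l : L) (q : L ⧸ (T : Subgroup L)), l • f q = f (l • q) := by
    intro l q
    induction q using QuotientGroup.induction_on with
    | H a => show l • a • c = (l * a) • c; rw [smul_smul]
  have hfN : ∀ q, (QuotientGroup.mk (f q) : M ⧸ N) = QuotientGroup.mk (n * c) := by
    intro q
    induction q using QuotientGroup.induction_on with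
    | H a =>
      show (QuotientGroup.mk (a • c) : M ⧸ N) = QuotientGroup.mk (n * c)
      rw [eq_comm, QuotientGroup.eq]
      have h1 := N.mul_mem (htriv a c) (N.inv_mem hn)
      simpa [mul_comm, mul_assoc, mul_left_comm] using h1
  refine ⟨m / ∏ q, f q, ?_, ∏ q, f q, ?_, (div_mul_cancel _ _).symm⟩
  · rw [← QuotientGroup.eq_one_iff, QuotientGroup.mk_div, div_eq_one]
    rw [← hm', QuotientGroup.mk_prod]
    simp only [hfN, Finset.prod_const, Finset.card_univ, Subgroup.index, Nat.card_eq_fintype_card]
  · intro l
    rw [Finset.smul_prod']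
    simp only [hf]
    exact Fintype.prod_equiv (MulAction.toPerm l) _ _ (fun q => rfl)

end Cfsg.Agent.S1940
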