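import Cfsg.Statements.S1941
import Cfsg.Agent.Lib.Core.SolvableStruct

set_option autoImplicit false
open Cfsg

namespace Cfsg.Agent.S1941

/-- Let G be a finite group with no nontrivial normal subgroup of order prime to p, T a Sylow p-subgroup of G and E(G) the layer of G (the subgroup generated by its components). An automorphism of G of p-power order that fixes T and E(G) elementwise is inner. -/
theorem result {G : Type*} [Group G] [Finite G] {p : ℕ} [Fact p.Prime] (hcore : Cfsg.pPrimeCore p G = ⊥)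
    (T : Sylow p G) (α : MulAut G) (hα : ∃ j : ℕ, orderOf α = p ^ j) (hfixT : ∀ x ∈ (T : Subgroup G), α x = x)
    (hfixE : ∀ x ∈ Cfsg.layer G, α x = x) : ∃ g : G, ∀ x : G, α x = g * x * g⁻¹ := by
  classical
  set F := Cfsg.generalizedFittingSubgroup G with hF
  haveI : F.Normal := CfsgLib.Components.gFitting_normal
  have hQ : Cfsg.fittingSubgroup G = Cfsg.pCore p G :=
    CfsgLib.Core.fittingSubgroup_eq_pCore_of_pPrimeCore_eq_bot hcore
  have hQT : Cfsg.pCore p G ≤ (T : Subgroup G) := CfsgLib.Core.pCore_le_sylow T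
  have hfixF : ∀ f ∈ F, α f = f := by
    intro f hf
    have hle : F ≤ MonoidHom.eqLocus α.toMonoidHom (MonoidHom.id G) :=
      sup_le hfixE fun x hx => hfixT x (hQT (hQ.le hx))
    exact hle hf
  set C := Subgroup.centralizer (F : Set G) with hC
  haveI : C.Normal := inferInstance
  have hCc : IsMulCommutative C := Subgroup.le_centralizer_iff_isMulCommutative.mp fun x hx =>
    Subgroup.mem_centralizer_iff.mpr fun y hy =>
      (Subgroup.mem_centralizer_iff.mp hx y (CfsgLib.Components.centralizer_gFitting_le hy))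
  have hCp : IsPGroup p C := by
    refine (CfsgLib.Core.isPGroup_pCore p G).to_le ((CfsgLib.Core.le_fittingSubgroup ?_).trans hQ.le)
    haveI := hCc
    exact ⟨1, by
      rw [Subgroup.upperCentralSeries_one, eq_top_iff]
      exact fun x _ => Subgroup.mem_center_iff.mpr fun y => mul_comm' y x⟩
  have hd : ∀ g : G, g⁻¹ * α g ∈ C := fun g => by
    rw [hC, Subgroup.mem_centralizer_iff]
    intro f hf
    have h1 : α g * f * (α g)⁻¹ = g * f * g⁻¹ := by
      conv_lhs => rw [← hfixF f hf, ← map_inv, ← map_mul, ← map_mul]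
      exact hfixF _ ((inferInstance : F.Normal).conj_mem f hf g)
    calc f * (g⁻¹ * α g) = g⁻¹ * (g * f * g⁻¹) * α g := by group
      _ = g⁻¹ * (α g * f * (α g)⁻¹) * α g := by rw [h1]
      _ = g⁻¹ * α g * f := by group
  haveI := hCc
  letI : CommGroup C := { (inferInstance : Group C) with mul_comm := fun a b => mul_comm' a b }
  let d : G → C := fun g => ⟨g⁻¹ * α g, hd g⟩
  let c : G → (C →* C) := fun g => (MulAut.conjNormal g : MulAut C).toMonoidHom
  have hc : ∀ (g : G) (m : C), ((c g m : C) : G) = g * m * g⁻¹ := fun g m =>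
    MulAut.conjNormal_apply g m
  have hdmul : ∀ g h : G, d (g * h) = c h⁻¹ (d g) * d h := fun g h => Subtype.ext (by
    rw [Subgroup.coe_mul, hc]
    simp only [d, map_mul]
    group)
  have hdT : ∀ t ∈ (T : Subgroup G), ∀ g : G, d (t * g) = d g := fun t ht g => by
    rw [hdmul, show d t = 1 from Subtype.ext (by simp [d, hfixT t ht]), map_one, one_mul]
  letI : Fintype (G ⧸ (T : Subgroup G)) := Fintype.ofFinite _
  -- cosets `T g` as `g⁻¹ T`
  have hrep : ∀ g h : G, (QuotientGroup.mk g : G ⧸ (T : Subgroup G)) = QuotientGroup.mk h →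
      ∀ x : G, d (g⁻¹ * x) = d (h⁻¹ * x) := fun g h he x => by
    have h1 := QuotientGroup.eq.mp he
    have h2 := hdT _ (inv_mem h1) (g⁻¹ * x)
    rw [show (g⁻¹ * h)⁻¹ * (g⁻¹ * x) = h⁻¹ * x by group] at h2
    exact h2.symm
  let s : C := ∏ q : G ⧸ (T : Subgroup G), d q.out⁻¹
  set n := (T : Subgroup G).index with hn
  have hs : ∀ h : G, s = c h⁻¹ s * d h ^ n := fun h => by
    have h1 : s = ∏ q : G ⧸ (T : Subgroup G), d (q.out⁻¹ * h) := by
      refine Fintype.prod_equiv (MulAction.toPerm h) _ _ fun q => ?_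
      have hq : (QuotientGroup.mk (h * q.out) : G ⧸ (T : Subgroup G)) = h • q := by
        conv_rhs => rw [← QuotientGroup.out_eq' q]
        rfl
      rw [MulAction.toPerm_apply,
        ← hrep _ _ (hq.trans (QuotientGroup.out_eq' (h • q)).symm) h, mul_inv_rev,
        inv_mul_cancel_right]
    conv_lhs => rw [h1]
    simp only [hdmul, Finset.prod_mul_distrib, Finset.prod_const, ← map_prod]
    rw [Finset.card_univ, ← Nat.card_eq_fintype_card]
    rfl
  obtain ⟨k, hk⟩ := IsPGroup.iff_card.mp hCp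
  have hco : Nat.Coprime n (p ^ k) :=
    (((Fact.out : p.Prime).coprime_iff_not_dvd.mpr T.not_dvd_index).symm).pow_right k
  obtain ⟨a, ha⟩ : ∃ a : ℤ, (n : ℤ) * a ≡ 1 [ZMOD (p ^ k : ℕ)] := Int.mod_coprime hco
  set w : C := s ^ a with hw
  refine ⟨((w : C) : G)⁻¹, fun g => ?_⟩
  have h2 : d g = (c g⁻¹ w)⁻¹ * w := by
    obtain ⟨t, ht⟩ := Int.modEq_iff_dvd.mp ha.symm
    have hpk : d g ^ p ^ k = 1 := by rw [← hk]; exact pow_card_eq_one'
    have h3 : (d g ^ n) ^ a = d g := by
      rw [← zpow_natCast, ← zpow_mul,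
        show (n : ℤ) * a = 1 + (p ^ k : ℕ) * t by linear_combination ht,
        zpow_add, zpow_one, zpow_mul, zpow_natCast, hpk, one_zpow, mul_one]
    have h4 : w = c g⁻¹ w * d g := by
      conv_lhs => rw [hw, hs g, mul_zpow, ← map_zpow, ← hw, h3]
    exact eq_inv_mul_of_mul_eq h4.symm
  have h5 := congrArg Subtype.val h2
  rw [Subgroup.coe_mul, InvMemClass.coe_inv, hc, inv_inv] at h5
  calc α g = g * (g⁻¹ * α g) := by group
    _ = g * ((g⁻¹ * (w : G) * g)⁻¹ * (w : G)) := congrArg (g * ·) h5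
    _ = (w : G)⁻¹ * g * ((w : G)⁻¹)⁻¹ := by group

end Cfsg.Agent.S1941
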