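import Cfsg.Statements.S1944
import Cfsg.Agent.Lib.Techniques2.TraceFactor
import Cfsg.Agent.Lib.Transfer.PResidual
import Cfsg.Agent.Lib.Transfer.Conj
import Cfsg.Agent.Lib.Core.Cores

set_option autoImplicit false
open Cfsg

namespace Cfsg.Agent.S1944

/-- Let S be a Sylow p-subgroup of the finite group G and suppose that the centre Z(S) lies in O_{p',p}(G). The elements of S each of which is its only G-conjugate in S form a subgroup W of Z(S); W is then a direct factor of Z(S): there is a subgroup K of Z(S) with W ∩ K = 1 and WK = Z(S). -/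
theorem result {G : Type*} [Group G] [Finite G] {p : ℕ} [Fact p.Prime] (S : Sylow p G)
    (hZ : ((S : Subgroup G) ⊓ Subgroup.centralizer ((S : Subgroup G) : Set G)) ≤ Cfsg.pPrimePCore p G) :
    ∃ W K : Subgroup G, (∀ x : G, x ∈ W ↔ (x ∈ (S : Subgroup G) ∧ ∀ g : G, g * x * g⁻¹ ∈ (S : Subgroup G) → g * x * g⁻¹ = x)) ∧
      K ≤ ((S : Subgroup G) ⊓ Subgroup.centralizer ((S : Subgroup G) : Set G)) ∧ W ⊓ K = ⊥ ∧ W ⊔ K = ((S : Subgroup G) ⊓ Subgroup.centralizer ((S : Subgroup G) : Set G)) := by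
  haveI : (Cfsg.pPrimeCore p G).Normal := inferInstance
  set O := Cfsg.pPrimeCore p G with hO
  set π := QuotientGroup.mk' O with hπ
  set Z := (S : Subgroup G) ⊓ Subgroup.centralizer ((S : Subgroup G) : Set G) with hZd
  have hcopO := CfsgLib.Core.coprime_card_pPrimeCore p G
  have hinj : ∀ a ∈ (S : Subgroup G), ∀ b ∈ (S : Subgroup G), π a = π b → a = b := by
    intro a ha b hb h
    have h1 : a⁻¹ * b ∈ O := QuotientGroup.eq.mp h
    have h2 := CfsgLib.Transfer.eq_one_of_coprime_of_isPGroup S.2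
      (g := ⟨a⁻¹ * b, mul_mem (inv_mem ha) hb⟩) (by
        rw [Subgroup.orderOf_mk, ← Subgroup.orderOf_mk (a⁻¹ * b) h1]
        exact hcopO.coprime_dvd_left (orderOf_dvd_natCard _))
    exact inv_mul_eq_one.mp (congrArg Subtype.val h2)
  set Qb := Cfsg.pCore p (G ⧸ O)
  set M := Qb ⊓ Subgroup.centralizer (Qb : Set (G ⧸ O)) with hMd
  haveI : Qb.Normal := inferInstance
  have hQS : Qb ≤ (S : Subgroup G).map π :=
    CfsgLib.Core.pCore_le_sylow (S.mapSurjective (QuotientGroup.mk'_surjective O))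
  have hMc : IsMulCommutative M := Subgroup.le_centralizer_iff_isMulCommutative.mp
    (inf_le_right.trans (Subgroup.centralizer_le (SetLike.coe_subset_coe.mpr inf_le_left)))
  obtain ⟨K', hK', hK1, hK2⟩ := CfsgLib.Techniques.exists_factor_of_index_coprime
    ((S : Subgroup G).map π) M hMc ((CfsgLib.Core.isPGroup_pCore p _).to_le inf_le_left)
    (S.mapSurjective (QuotientGroup.mk'_surjective O)).not_dvd_index
  have hZM : ∀ z ∈ Z, π z ∈ M ⊓ Subgroup.centralizer ((S : Subgroup G).map π : Set (G ⧸ O)) := by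
    intro z hz
    have hzc : π z ∈ Subgroup.centralizer ((S : Subgroup G).map π : Set (G ⧸ O)) := by
      rw [Subgroup.mem_centralizer_iff]
      rintro _ ⟨s, hs, rfl⟩
      rw [← map_mul, ← map_mul, Subgroup.mem_centralizer_iff.mp hz.2 s hs]
    exact Subgroup.mem_inf.mpr ⟨Subgroup.mem_inf.mpr ⟨hZ hz,
      Subgroup.centralizer_le (SetLike.coe_subset_coe.mpr hQS) hzc⟩, hzc⟩
  have hlift : ∀ y ∈ M ⊓ Subgroup.centralizer ((S : Subgroup G).map π : Set (G ⧸ O)),
      ∃ z ∈ Z, π z = y := by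
    intro y hy
    obtain ⟨z, hz, rfl⟩ := hQS hy.1.1
    refine ⟨z, Subgroup.mem_inf.mpr ⟨hz, Subgroup.mem_centralizer_iff.mpr fun s hs => ?_⟩, rfl⟩
    have h1 := Subgroup.mem_centralizer_iff.mp hy.2 (π s) ⟨s, hs, rfl⟩
    have h2 : s * z * s⁻¹ = z := hinj _ (mul_mem (mul_mem hs hz) (inv_mem hs)) _ hz (by
      rw [map_mul, map_mul, map_inv, h1, mul_inv_cancel_right])
    exact mul_inv_eq_iff_eq_mul.mp h2
  refine ⟨Z ⊓ (Subgroup.center (G ⧸ O)).comap π, Z ⊓ K'.comap π, fun x => ⟨?_, ?_⟩, inf_le_left,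
    ?_, ?_⟩
  · rintro ⟨hx, hxc⟩
    refine ⟨hx.1, fun g hg => hinj _ hg _ hx.1 ?_⟩
    rw [map_mul, map_mul, map_inv, Subgroup.mem_center_iff.mp hxc (π g), mul_inv_cancel_right]
  · rintro ⟨hx, hfix⟩
    have hxZ : x ∈ Z := Subgroup.mem_inf.mpr ⟨hx, Subgroup.mem_centralizer_iff.mpr fun s hs =>
      mul_inv_eq_iff_eq_mul.mp (hfix s (mul_mem (mul_mem hs hx) (inv_mem hs)))⟩
    refine Subgroup.mem_inf.mpr ⟨hxZ, Subgroup.mem_center_iff.mpr fun y => ?_⟩
    obtain ⟨g, rfl⟩ := QuotientGroup.mk'_surjective O y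
    have hmem : g * x * g⁻¹ ∈ (S : Subgroup G) ⊔ O := by
      have h1 : π (g * x * g⁻¹) ∈ (S : Subgroup G).map π := by
        refine hQS ?_
        rw [map_mul, map_mul, map_inv]
        exact (inferInstance : Qb.Normal).conj_mem _ (hZ hxZ) _
      rw [← Subgroup.mem_comap, Subgroup.comap_map_eq, QuotientGroup.ker_mk'] at h1
      exact h1
    obtain ⟨n, hn, hnx⟩ := CfsgLib.Transfer.exists_conj_le S.2
      (N := (S : Subgroup G) ⊔ O) (fun hd => S.not_dvd_index
        (hd.trans (Subgroup.relIndex_dvd_index_of_le le_sup_left)))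
      (S := Subgroup.zpowers (g * x * g⁻¹)) (Subgroup.zpowers_le.mpr hmem) (by
        have := (S.2.to_le (Subgroup.zpowers_le.mpr hx)).map (MulAut.conj g).toMonoidHom
        rwa [MonoidHom.map_zpowers] at this)
    have h2 := hfix (n⁻¹ * g)
    have e : n⁻¹ * g * x * (n⁻¹ * g)⁻¹ = n⁻¹ * (g * x * g⁻¹) * n := by group
    rw [e] at h2
    have h3 := h2 (hnx _ (Subgroup.mem_zpowers _))
    have h4 : π n ∈ (S : Subgroup G).map π := by
      have : π n ∈ ((S : Subgroup G) ⊔ O).map π := ⟨n, hn, rfl⟩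
      rwa [Subgroup.map_sup, show O.map π = ⊥ from (Subgroup.map_eq_bot_iff _).mpr
        (QuotientGroup.ker_mk' O).ge, sup_bot_eq] at this
    have h5 := congrArg π h3
    rw [map_mul, map_mul, map_inv] at h5
    have h6 : π (g * x * g⁻¹) = π n * π x * (π n)⁻¹ := by rw [← h5]; group
    rw [Subgroup.mem_centralizer_iff.mp (hZM x hxZ).2 _ h4, mul_inv_cancel_right, map_mul, map_mul,
      map_inv, mul_inv_eq_iff_eq_mul] at h6
    exact h6
  · rw [eq_bot_iff]
    rintro x ⟨⟨hxZ, hxc⟩, -, hxK⟩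
    have h1 : π x = 1 := Subgroup.mem_bot.mp (hK1.le ⟨⟨(hZM x hxZ).1, hxc⟩, hxK⟩)
    rw [Subgroup.mem_bot]
    exact hinj x hxZ.1 1 (one_mem _) (by rw [h1, map_one])
  · refine le_antisymm (sup_le inf_le_left inf_le_left) fun z hz => ?_
    have h1 := hK2.ge (hZM z hz)
    haveI : (M ⊓ Subgroup.center (G ⧸ O)).Normal := inferInstance
    obtain ⟨w', hw', k', hk', he⟩ := Subgroup.mem_sup_of_normal_left.mp h1
    obtain ⟨w, hw, rfl⟩ := hlift w'
      ⟨hw'.1, Subgroup.center_le_centralizer _ hw'.2⟩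
    obtain ⟨k, hk, rfl⟩ := hlift k' (hK' hk')
    have h2 : w * k = z := hinj _ (mul_mem hw.1 hk.1) _ hz.1 (by rw [map_mul]; exact he)
    rw [← h2]
    exact Subgroup.mul_mem_sup ⟨hw, hw'.2⟩ ⟨hk, hk'⟩

end Cfsg.Agent.S1944
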