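import Cfsg.Statements.S1985
import Cfsg.Agent.Lib.Techniques.KInfWeakClosure
import Cfsg.Agent.S1973

set_option autoImplicit false
universe u
open Cfsg

namespace Cfsg.Agent.S1985

/-- Let p be an odd prime and G a finite group. Then the lower K-infinity subgroup controls weak closure of elements in G: the lower K-infinity subgroup of every p-subgroup P of G contains Z(P), and for some (equivalently, every) Sylow p-subgroup S of G, with K the lower K-infinity subgroup of S, every element of S commuting with all of N_G(K) is weakly closed in S with respect to G (every G-conjugate of it lying in S equals it). -/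
theorem result {G : Type u} [Group G] [Finite G] {p : ℕ} [Fact p.Prime] (hp : p ≠ 2) : Cfsg.ControlsWeakClosureOfElementsIn p (Cfsg.inducedFunctor (G := G) Cfsg.kInfLower) ⊤ := by
  refine Cfsg.Agent.S1973.result (Cfsg.inducedFunctor (G := G) Cfsg.kInfLower)
    (CfsgLib.Techniques.inducedFunctor_isConjugacyFunctor CfsgLib.Techniques.kInf_isCharPFunctor.1 G)
    CfsgLib.Techniques.center_le_inducedFunctor_kInfLower (fun H T hTH hT hi hn => ?_) ⊤
  obtain ⟨g, hgT, hgO, -, h2, -⟩ := CfsgLib.Techniques.exists_kBad_subgroup hTH hT hi hn
  refine ⟨g, hgT, hgO, fun U V hUV hU => ?_⟩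
  rw [CfsgLib.Techniques.pCoreOf_inf_centralizer,
    Subgroup.map_le_map_iff_of_injective H.subtype_injective] at hU
  haveI := hUV.2.2.1
  have h3 : Cfsg.iterCommutator U (Subgroup.zpowers g) (p - 1) ≤ V := by
    refine CfsgLib.Techniques.iterCommutator_le_of_normal (i := 2) ?_ ?_
    · show ⁅⁅U, Subgroup.zpowers g⁆, Subgroup.zpowers g⁆ ≤ V
      exact (Subgroup.commutator_mono (Subgroup.commutator_mono hU le_rfl) le_rfl).trans
        (h2.le.trans bot_le)
    · have := (Fact.out : p.Prime).two_le
      omega
  have h4 := Subgroup.map_mono (f := H.subtype) h3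
  rwa [CfsgLib.Techniques.iterCommutator_map'] at h4

end Cfsg.Agent.S1985
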