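import Cfsg.Statements.S1945
import Cfsg.Agent.S1985
import Cfsg.Agent.Lib.Techniques.SectionFusion
import Cfsg.Agent.Lib.Techniques2.TraceFactor
import Cfsg.Agent.Lib.Core.SolvableStruct
import Cfsg.Agent.Lib.PLocal.PConstrained

set_option autoImplicit false
open Cfsg

namespace Cfsg.Agent.S1945

/-- Let S be a Sylow p-subgroup of the finite group G, and assume that p is odd or that G is solvable. The elements of S each of which is its only G-conjugate in S form a subgroup W of Z(S); W is then a direct factor of Z(S): there is a subgroup K of Z(S) with W ∩ K = 1 and WK = Z(S). (For p = 2 and G not solvable this can fail.) -/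
theorem result {G : Type*} [Group G] [Finite G] {p : ℕ} [Fact p.Prime] (S : Sylow p G) (h : p ≠ 2 ∨ Group.IsSolvable G) :
    ∃ W K : Subgroup G, (∀ x : G, x ∈ W ↔ (x ∈ (S : Subgroup G) ∧ ∀ g : G, g * x * g⁻¹ ∈ (S : Subgroup G) → g * x * g⁻¹ = x)) ∧
      K ≤ ((S : Subgroup G) ⊓ Subgroup.centralizer ((S : Subgroup G) : Set G)) ∧ W ⊓ K = ⊥ ∧ W ⊔ K = ((S : Subgroup G) ⊓ Subgroup.centralizer ((S : Subgroup G) : Set G)) := by
  have general : ∀ N R : Subgroup G, (S : Subgroup G) ≤ N → R ≤ (S : Subgroup G) →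
      N ≤ Subgroup.normalizer (R : Set G) →
      (S : Subgroup G) ⊓ Subgroup.centralizer ((S : Subgroup G) : Set G) ≤ R →
      (∀ x ∈ (S : Subgroup G), x ∈ Subgroup.centralizer (N : Set G) →
        ∀ g : G, g * x * g⁻¹ ∈ (S : Subgroup G) → g * x * g⁻¹ = x) →
      ∃ W K : Subgroup G, (∀ x : G, x ∈ W ↔ (x ∈ (S : Subgroup G) ∧
          ∀ g : G, g * x * g⁻¹ ∈ (S : Subgroup G) → g * x * g⁻¹ = x)) ∧
        K ≤ ((S : Subgroup G) ⊓ Subgroup.centralizer ((S : Subgroup G) : Set G)) ∧ W ⊓ K = ⊥ ∧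
        W ⊔ K = ((S : Subgroup G) ⊓ Subgroup.centralizer ((S : Subgroup G) : Set G)) := by
    intro N R hSN hRS hNR hZR hback
    set V := R ⊓ Subgroup.centralizer (R : Set G) with hV
    set M := V.subgroupOf N with hM
    haveI : M.Normal := ⟨fun v hv m => by
      have hm := hNR m.2
      exact Subgroup.mem_inf.2 ⟨(Subgroup.mem_normalizer_iff.1 hm v).1 hv.1,
        (Subgroup.mem_normalizer_iff.1
          (CfsgLib.Techniques.normalizer_le_normalizer_centralizer hm) v).1 hv.2⟩⟩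
    have hMc : IsMulCommutative M := ⟨⟨fun a b => Subtype.ext (Subtype.ext
      (Subgroup.mem_centralizer_iff.1 b.2.2 _ a.2.1))⟩⟩
    have hMp : IsPGroup p M := (S.2.to_le (inf_le_left.trans hRS)).comap_subtype
    obtain ⟨K, hK, hKW, hKs⟩ := CfsgLib.Techniques.exists_factor_of_index_coprime
      ((S : Subgroup G).subgroupOf N) M hMc hMp
      ((CfsgLib.Techniques.isSylowSub_sylow S).of_le hSN le_top).2.2
    have hfix : ∀ x : N, x ∈ M ⊓ Subgroup.center N ↔ ((x : G) ∈ (S : Subgroup G) ∧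
        ∀ g : G, g * x * g⁻¹ ∈ (S : Subgroup G) → g * x * g⁻¹ = x) := by
      intro x
      constructor
      · rintro ⟨hx, hxc⟩
        refine ⟨hRS hx.1, hback _ (hRS hx.1) (Subgroup.mem_centralizer_iff.2 fun n hn => ?_)⟩
        exact congrArg Subtype.val (Subgroup.mem_center_iff.1 hxc ⟨n, hn⟩)
      · rintro ⟨hxS, hwc⟩
        have hxZ : (x : G) ∈ Subgroup.centralizer ((S : Subgroup G) : Set G) := by
          refine Subgroup.mem_centralizer_iff.2 fun s hs => ?_
          exact mul_inv_eq_iff_eq_mul.1 (hwc s (mul_mem (mul_mem hs hxS) (inv_mem hs)))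
        have hxR : (x : G) ∈ R := hZR ⟨hxS, hxZ⟩
        refine ⟨⟨hxR, Subgroup.centralizer_le (SetLike.coe_subset_coe.2 hRS) hxZ⟩,
          Subgroup.mem_center_iff.2 fun n => Subtype.ext ?_⟩
        exact mul_inv_eq_iff_eq_mul.1
          (hwc n (hRS ((Subgroup.mem_normalizer_iff.1 (hNR n.2) _).1 hxR)))
    have hZ : (M ⊓ Subgroup.centralizer (((S : Subgroup G).subgroupOf N : Subgroup N) : Set N)).map
        N.subtype = (S : Subgroup G) ⊓ Subgroup.centralizer ((S : Subgroup G) : Set G) := by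
      ext z
      constructor
      · rintro ⟨y, hy, rfl⟩
        refine ⟨hRS hy.1.1, Subgroup.mem_centralizer_iff.2 fun s hs => ?_⟩
        exact congrArg Subtype.val (Subgroup.mem_centralizer_iff.1 hy.2 ⟨s, hSN hs⟩ hs)
      · intro hz
        exact ⟨⟨z, hSN hz.1⟩, ⟨⟨hZR hz, Subgroup.centralizer_le (SetLike.coe_subset_coe.2 hRS)
          hz.2⟩, Subgroup.mem_centralizer_iff.2 fun s hs => Subtype.ext
            (Subgroup.mem_centralizer_iff.1 hz.2 s hs)⟩, rfl⟩
    refine ⟨(M ⊓ Subgroup.center N).map N.subtype, K.map N.subtype, fun x => ⟨?_, fun hx => ?_⟩,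
      hZ ▸ Subgroup.map_mono hK, ?_, ?_⟩
    · rintro ⟨y, hy, rfl⟩
      exact (hfix y).1 hy
    · exact ⟨⟨x, hSN hx.1⟩, (hfix _).2 hx, rfl⟩
    · rw [← Subgroup.map_inf _ _ _ N.subtype_injective, hKW, Subgroup.map_bot]
    · rw [← Subgroup.map_sup, hKs, hZ]
  by_cases hp : p = 2
  · haveI : Group.IsSolvable G := h.resolve_left (not_not.2 hp)
    set U := Cfsg.pPrimePCore p G with hU
    set π := QuotientGroup.mk' (Cfsg.pPrimeCore p G) with hπ
    set R := (S : Subgroup G) ⊓ U with hR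
    have hUn : (⊤ : Subgroup G) ≤ Subgroup.normalizer (U : Set G) := by
      rw [Subgroup.normalizer_eq_top]
    have hRs : CfsgLib.Techniques.IsSylowSub p R U :=
      (CfsgLib.Techniques.isSylowSub_sylow S).inf_normal le_top hUn
    have hinj : Set.InjOn π ((S : Subgroup G) : Set G) := CfsgLib.Techniques.injOn_mk'
      (CfsgLib.Techniques.inf_eq_bot_of_coprime S.2 (CfsgLib.Core.coprime_card_pPrimeCore p G))
    refine general (Subgroup.normalizer (R : Set G)) R (fun s hs => ?_) inf_le_left le_rfl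
      (fun z hz => ⟨hz.1, ?_⟩) fun x hx hxN g hg => ?_
    · refine CfsgLib.Techniques.mem_normalizer_of_map_conj_eq ?_
      rw [hR, CfsgLib.Techniques.map_conj_inf, CfsgLib.Techniques.map_conj_of_mem hs,
        CfsgLib.Techniques.map_conj_of_mem_normalizer (hUn (Subgroup.mem_top s))]
    · haveI : Group.IsSolvable (G ⧸ Cfsg.pPrimeCore p G) :=
        Group.isSolvable_of_surjective (QuotientGroup.mk'_surjective _)
      have hc := CfsgLib.Core.centralizer_pCore_le_of_pPrimeCore_eq_bot (p := p)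
        (G := G ⧸ Cfsg.pPrimeCore p G) (CfsgLib.Core.pPrimeCore_quotient_pPrimeCore p G)
      refine hc (Subgroup.mem_centralizer_iff.2 fun y hy => ?_)
      have hy' := CfsgLib.Core.pCore_le_sylow
        (S.mapSurjective (QuotientGroup.mk'_surjective (Cfsg.pPrimeCore p G))) hy
      rw [Sylow.coe_mapSurjective] at hy'
      obtain ⟨s, hs, rfl⟩ := hy'
      rw [← map_mul, ← map_mul, Subgroup.mem_centralizer_iff.1 hz.2 s hs]
    · obtain ⟨u, hu, n, -, hn, rfl⟩ := CfsgLib.Techniques.exists_mul_normalizer hRs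
        (Subgroup.mem_top g) hUn le_top
      have hU' := CfsgLib.PLocal.sup_eq_of_coprime_relIndex (inf_le_right : R ≤ U)
        CfsgLib.PLocal.pPrimeCore_le_pPrimePCore hRs.2.2
        CfsgLib.PLocal.relIndex_pPrimeCore_pPrimePCore
      rw [← hU'] at hu
      obtain ⟨r, hr, o, ho, rfl⟩ := Subgroup.mem_sup_of_normal_right.1 hu
      have hnx := Subgroup.mem_centralizer_iff.1 hxN n hn
      have hrx := Subgroup.mem_centralizer_iff.1 hxN r (Subgroup.le_normalizer hr)
      refine hinj hg hx ?_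
      have ho' : π o = 1 := (QuotientGroup.eq_one_iff o).2 ho
      have e : r * o * n * x * (r * o * n)⁻¹ = r * o * (n * x * n⁻¹) * o⁻¹ * r⁻¹ := by group
      rw [e, hnx, mul_inv_cancel_right]
      rw [map_mul, map_mul, map_mul, map_mul, map_inv, map_inv, ho', mul_one, inv_one, mul_one,
        ← map_inv, ← map_mul, ← map_mul, hrx, mul_inv_cancel_right]
  · have hW := CfsgLib.Techniques.inducedFunctor_isConjugacyFunctor
      ((CfsgLib.Techniques.kInf_isCharPFunctor (p := p)).1) G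
    set R := Cfsg.inducedFunctor (G := G) Cfsg.kInfLower (S : Subgroup G) with hR
    refine general (Subgroup.normalizer (R : Set G)) R
      (CfsgLib.Techniques.le_normalizer_functor hW S.2) (Subgroup.map_subtype_le _) le_rfl
      (CfsgLib.Techniques.center_le_inducedFunctor_kInfLower _ S.2) fun x hx hxN g hg => ?_
    obtain ⟨-, T, -, hTp, hTi, hT⟩ := Cfsg.Agent.S1985.result (G := G) hp
    obtain ⟨c, -, hc⟩ := (show CfsgLib.Techniques.IsSylowSub p T ⊤ from
      ⟨le_top, hTp, hTi⟩).exists_conj_eq (CfsgLib.Techniques.isSylowSub_sylow S)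
    have hyT : c * x * c⁻¹ ∈ T := by rw [← hc]; exact ⟨x, hx, rfl⟩
    have key := hT (c * x * c⁻¹) (Subgroup.mem_inf.2 ⟨hyT, ?_⟩) (c * g * c⁻¹) (Subgroup.mem_top _)
      (by
        rw [← hc]
        exact ⟨g * x * g⁻¹, hg, by simp [mul_assoc]⟩)
    · calc g * x * g⁻¹ = c⁻¹ * (c * g * c⁻¹ * (c * x * c⁻¹) * (c * g * c⁻¹)⁻¹) * c := by group
        _ = c⁻¹ * (c * x * c⁻¹) * c := by rw [key]
        _ = x := by group
    · rw [top_inf_eq, ← hc, CfsgLib.Techniques.functor_map hW S.2,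
        CfsgLib.Techniques.normalizer_map_conj', Subgroup.mem_centralizer_iff]
      rintro _ ⟨n, hn, rfl⟩
      show c * n * c⁻¹ * (c * x * c⁻¹) = c * x * c⁻¹ * (c * n * c⁻¹)
      calc c * n * c⁻¹ * (c * x * c⁻¹) = c * (n * x) * c⁻¹ := by group
        _ = c * (x * n) * c⁻¹ := by rw [Subgroup.mem_centralizer_iff.1 hxN n hn]
        _ = c * x * c⁻¹ * (c * n * c⁻¹) := by group

end Cfsg.Agent.S1945
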