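import Cfsg.Statements.S1946
import Cfsg.Agent.Lib.Transfer.SmallOrder

set_option autoImplicit false
open Cfsg

namespace Cfsg.Agent.S1946

/-- Let P be a Sylow p-subgroup of the finite group G. Then G has a normal p-complement if and only if P controls the fusion of its elements of order dividing p (dividing 4 when p = 2): whenever such an element a of P has a G-conjugate g a g⁻¹ in P, that conjugate is already x a x⁻¹ for some x in P. -/
theorem result {G : Type*} [Group G] [Finite G] {p : ℕ} [Fact p.Prime] (P : Sylow p G) :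
    Cfsg.HasNormalPComplement p G ↔
      ∀ a ∈ (P : Subgroup G), (a ^ p = 1 ∨ (p = 2 ∧ a ^ 4 = 1)) → ∀ g : G, g * a * g⁻¹ ∈ (P : Subgroup G) →
        ∃ x ∈ (P : Subgroup G), g * a * g⁻¹ = x * a * x⁻¹ := by
  constructor
  · intro h a ha _ g hga
    obtain ⟨x, hx, k, hk, rfl⟩ := CfsgLib.Transfer.exists_mul_mem_pResidual P g
    refine ⟨x, hx, ?_⟩
    have h1 : k * a * k⁻¹ ∈ (P : Subgroup G) := by
      have := mul_mem (mul_mem (inv_mem hx) hga) hx
      simpa [mul_assoc] using this
    have h2 : k * a * k⁻¹ * a⁻¹ ∈ (P : Subgroup G) ⊓ Cfsg.pResidual p G := by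
      refine Subgroup.mem_inf.mpr ⟨mul_mem h1 (inv_mem ha), ?_⟩
      have := mul_mem hk (CfsgLib.Transfer.pResidual_normal.conj_mem _ (inv_mem hk) a)
      simpa [mul_assoc] using this
    rw [(CfsgLib.Transfer.hasNormalPComplement_iff_inf P).mp h, Subgroup.mem_bot,
      mul_inv_eq_one] at h2
    calc x * k * a * (x * k)⁻¹ = x * (k * a * k⁻¹) * x⁻¹ := by group
      _ = x * a * x⁻¹ := by rw [h2]
  · intro h
    refine CfsgLib.Transfer.hasNormalPComplement_of_centralizes P fun Q hQ g hg hgc => ?_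
    obtain ⟨n, hn⟩ : ∃ n, Subgroup.upperCentralSeries (P : Subgroup G) n = ⊤ :=
      (P.2.isNilpotent).nilpotent'
    refine CfsgLib.Transfer.centralizes_of_small_descends (P.2.to_le hQ) hg hgc
      (fun i => ((Subgroup.upperCentralSeries (P : Subgroup G) i).map (P : Subgroup G).subtype : Set G)) n ?_
      (fun a ha _ => ⟨⟨a, hQ ha⟩, hn ▸ Subgroup.mem_top _, rfl⟩) ?_
    · rw [Subgroup.upperCentralSeries_zero, Subgroup.map_bot, Subgroup.coe_bot]
    · rintro i _ haQ hs ⟨b, hb, rfl⟩
      obtain ⟨u, hu, he⟩ := h _ b.2 hs g (hQ ((Subgroup.mem_normalizer_iff.mp hg _).mp haQ))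
      refine ⟨⟨u, hu⟩ * b * (⟨u, hu⟩ : (P : Subgroup G))⁻¹ * b⁻¹, ?_, ?_⟩
      · have := inv_mem (Subgroup.mem_upperCentralSeries_succ_iff.mp hb ⟨u, hu⟩)
        simpa [commutatorElement_def, mul_assoc] using this
      · simp only [map_mul, map_inv]
        exact congrArg (fun z => z * (b : G)⁻¹) he.symm

end Cfsg.Agent.S1946
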