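import Cfsg.Statements.S1948
import Cfsg.Agent.Lib.Techniques.Path
import Cfsg.Agent.Lib.PLocal.PConstrained
import Cfsg.Agent.Lib.PLocal.PSolvable

set_option autoImplicit false
open Cfsg

namespace Cfsg.Agent.S1948

/-- Let S be a Sylow p-subgroup of the finite group G. Then G = N_G(S)·O_{p'}(G) if and only if G is p-constrained and N_G(S) controls fusion in S, in the sense that whenever a subgroup Q of S has a conjugate g Q g⁻¹ inside S, the element g is a product n c with n normalizing S and c centralizing Q. -/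
theorem result {G : Type*} [Group G] [Finite G] {p : ℕ} [Fact p.Prime] (S : Sylow p G) :
    Subgroup.normalizer ((S : Subgroup G) : Set G) ⊔ Cfsg.pPrimeCore p G = ⊤ ↔
      (Cfsg.IsPConstrained p G ∧
        ∀ Q : Subgroup G, Q ≤ (S : Subgroup G) → ∀ g : G, Q.map (MulAut.conj g).toMonoidHom ≤ (S : Subgroup G) →
          ∃ n ∈ Subgroup.normalizer ((S : Subgroup G) : Set G), ∃ c ∈ Subgroup.centralizer (Q : Set G), g = n * c) := by
  have hS : CfsgLib.Techniques.IsSylowSub p (S : Subgroup G) ⊤ := CfsgLib.Techniques.isSylowSub_sylow S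
  set O := Cfsg.pPrimeCore p G with hO
  haveI : O.Normal := by rw [hO]; infer_instance
  have hcop : (Nat.card O).Coprime p := CfsgLib.Core.coprime_card_pPrimeCore p G
  have hSO : (S : Subgroup G) ⊓ O = ⊥ := by
    obtain ⟨k, hk⟩ := IsPGroup.iff_card.mp S.2
    refine (Subgroup.disjoint_of_coprime_natCard ?_).eq_bot
    rw [hk]; exact hcop.symm.pow_left k
  constructor
  · intro h
    constructor
    · rw [CfsgLib.PLocal.isPConstrained_iff]
      set π := QuotientGroup.mk' O with hπ
      have hs := QuotientGroup.mk'_surjective O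
      set T := S.mapSurjective hs with hT
      haveI hTn : (T : Subgroup (G ⧸ O)).Normal := by
        rw [← Subgroup.normalizer_eq_top_iff, eq_top_iff, ← Subgroup.map_top_of_surjective π hs, ← h,
          Subgroup.map_sup, hπ, QuotientGroup.map_mk'_self, sup_bot_eq, hT, Sylow.coe_mapSurjective]
        exact Subgroup.le_normalizer_map π
      have hTc : Cfsg.pCore p (G ⧸ O) = (T : Subgroup (G ⧸ O)) :=
        le_antisymm (CfsgLib.Core.pCore_le_sylow T) (CfsgLib.Core.le_pCore T.2)
      rw [hTc]
      set M := Subgroup.centralizer ((T : Subgroup (G ⧸ O)) : Set (G ⧸ O)) with hM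
      haveI : M.Normal := Subgroup.normal_centralizer
      have hinf := (CfsgLib.Techniques.isSylowSub_sylow T).inf_normal (K := M) le_top
        (fun x _ => Subgroup.mem_normalizer_iff.mpr fun y =>
          ⟨fun hy => (inferInstance : M.Normal).conj_mem y hy x, fun hy => by
            simpa [mul_assoc] using (inferInstance : M.Normal).conj_mem _ hy x⁻¹⟩)
      have := CfsgLib.PLocal.coprime_central_eq (p := p)
        (CfsgLib.Core.pPrimeCore_quotient_pPrimeCore p G) (Z := (T : Subgroup (G ⧸ O)) ⊓ M) (M := M)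
        inf_le_right (T.2.to_le inf_le_left)
        (Subgroup.le_centralizer_iff.mp (inf_le_left.trans (Subgroup.le_centralizer_iff.mp le_rfl)))
        ((Fact.out : p.Prime).coprime_iff_not_dvd.mpr hinf.2.2).symm
      exact this.le.trans inf_le_left
    · intro Q hQ g hg
      have hg' : g ∈ Subgroup.normalizer ((S : Subgroup G) : Set G) ⊔ O := h ▸ Subgroup.mem_top g
      obtain ⟨n, hn, o, ho, rfl⟩ := Subgroup.mem_sup_of_normal_right.mp hg'
      refine ⟨n, hn, o, Subgroup.mem_centralizer_iff.mpr fun q hq => ?_, rfl⟩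
      have h1 : o * q * o⁻¹ ∈ (S : Subgroup G) := by
        have h2 : n * o * q * (n * o)⁻¹ ∈ (S : Subgroup G) := hg ⟨q, hq, rfl⟩
        have := (Subgroup.mem_normalizer_iff''.mp hn _).mp h2
        simpa [mul_assoc] using this
      have h3 : o * q * o⁻¹ * q⁻¹ ∈ (S : Subgroup G) ⊓ O := by
        refine Subgroup.mem_inf.mpr ⟨mul_mem h1 (inv_mem (hQ hq)), ?_⟩
        have := mul_mem ho ((inferInstance : O.Normal).conj_mem _ (inv_mem ho) q)
        simpa [mul_assoc] using this
      rw [hSO, Subgroup.mem_bot, mul_inv_eq_one, mul_inv_eq_iff_eq_mul] at h3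
      exact h3.symm
  · rintro ⟨hcons, hctl⟩
    set U := Cfsg.pPrimePCore p G with hU
    haveI : U.Normal := by rw [hU]; unfold Cfsg.pPrimePCore; infer_instance
    have hUn : (⊤ : Subgroup G) ≤ Subgroup.normalizer (U : Set G) := fun x _ => by
      rw [Subgroup.normalizer_eq_top]; trivial
    have hQs := hS.inf_normal (K := U) le_top hUn
    set Q := (S : Subgroup G) ⊓ U
    have hUeq : Q ⊔ O = U := CfsgLib.PLocal.sup_eq_of_coprime_relIndex inf_le_right
      CfsgLib.PLocal.pPrimeCore_le_pPrimePCore hQs.2.2 CfsgLib.PLocal.relIndex_pPrimeCore_pPrimePCore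
    have hCQ : Subgroup.centralizer (Q : Set G) ≤ U := by
      have := hcons (IsPGroup.toSylow (hQs.2.1.comap_subtype (K := U)) hQs.2.2)
      rwa [show ((IsPGroup.toSylow (hQs.2.1.comap_subtype (K := U)) hQs.2.2 : Sylow p U) : Subgroup U) =
        Q.subgroupOf U from rfl, Subgroup.map_subgroupOf_eq_of_le inf_le_right] at this
    set N := Subgroup.normalizer ((S : Subgroup G) : Set G) ⊔ O
    have hUN : U ≤ N := by
      rw [← hUeq]
      exact sup_le_sup_right (inf_le_left.trans Subgroup.le_normalizer) O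
    rw [eq_top_iff]
    intro x _
    obtain ⟨k, hk, n, -, hn, rfl⟩ :=
      CfsgLib.Techniques.exists_mul_normalizer hQs (Subgroup.mem_top x) hUn le_top
    refine mul_mem (hUN hk) ?_
    obtain ⟨m, hm, c, hc, rfl⟩ := hctl Q inf_le_left n (by
      rw [CfsgLib.Techniques.map_conj_of_mem_normalizer hn]; exact inf_le_left)
    exact mul_mem (Subgroup.mem_sup_left hm) (hUN (hCQ hc))

end Cfsg.Agent.S1948
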