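import Cfsg.Statements.S1949
import Cfsg.Agent.Lib.Transfer.SmallOrder

set_option autoImplicit false
open Cfsg
open scoped commutatorElement

namespace Cfsg.Agent.S1949

/-- Let P be a finite p-group and G a group of automorphisms of P containing the inner automorphisms. Then there is a G-invariant subgroup D of P, contained in the subgroup generated by the elements x⁻¹α(x) with x in P and α in O^p(G), of exponent dividing p when p is odd and dividing 4 when p = 2, with [D, P] ≤ Z(D), such that every automorphism in G of order prime to p that fixes D elementwise is the identity; moreover every maximal abelian subgroup A of D is normal in P and every automorphism in G fixing A elementwise has p-power order. -/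
theorem result {P : Type*} [Group P] [Finite P] {p : ℕ} [Fact p.Prime] (hP : IsPGroup p P)
    (G : Subgroup (MulAut P)) (hG : Cfsg.Inn P ≤ G) :
    ∃ D : Subgroup P,
      (∀ α ∈ G, D.map α.toMonoidHom = D) ∧
      D ≤ Subgroup.closure {y : P | ∃ α ∈ Cfsg.pResidual p ↥G, ∃ x : P, y = x⁻¹ * (α : MulAut P) x} ∧
      (∀ d ∈ D, d ^ p = 1 ∨ (p = 2 ∧ d ^ 4 = 1)) ∧
      ⁅D, (⊤ : Subgroup P)⁆ ≤ D ⊓ Subgroup.centralizer (D : Set P) ∧
      (∀ α ∈ G, (orderOf α).Coprime p → (∀ d ∈ D, α d = d) → α = 1) ∧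
      ∀ A : Subgroup P, A ≤ D → IsMulCommutative ↥A →
        (∀ B : Subgroup P, A ≤ B → B ≤ D → IsMulCommutative ↥B → B = A) →
        A.Normal ∧ ∀ α ∈ G, (∀ a ∈ A, α a = a) → ∃ k : ℕ, orderOf α = p ^ k := by
  obtain ⟨C, hCc, hΦ, hCP, hCC⟩ := CfsgLib.Transfer.exists_critical hP
  haveI := hCc
  have hcp : ∀ x y : C, ⁅x, y⁆ ∈ Subgroup.center C ∧ ⁅x, y⁆ ^ p = 1 :=
    CfsgLib.Transfer.comm_pow_p_of_frattini_central (hP.to_subgroup C) fun z hz =>
      Subgroup.mem_center_iff.mpr fun c => Subtype.ext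
        (Subgroup.mem_centralizer_iff.mp (hΦ ⟨z, hz, rfl⟩) c c.2)
  let R : Subgroup P := Subgroup.closure
    {y : P | ∃ α ∈ Cfsg.pResidual p ↥G, ∃ x : P, y = x⁻¹ * (α : MulAut P) x}
  have hRinv : ∀ β ∈ G, ∀ y ∈ R, β y ∈ R := by
    intro β hβ y hy
    induction hy using Subgroup.closure_induction with
    | mem y hy =>
      obtain ⟨α, hα, x, rfl⟩ := hy
      refine Subgroup.subset_closure ⟨_, CfsgLib.Transfer.pResidual_normal.conj_mem α hα ⟨β, hβ⟩,
        β x, ?_⟩
      simp only [Subgroup.coe_mul, InvMemClass.coe_inv, MulAut.mul_apply, MulAut.inv_apply,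
        MulEquiv.symm_apply_apply, map_mul, map_inv]
    | one => rw [map_one]; exact one_mem _
    | mul a b _ _ ha hb => rw [map_mul]; exact mul_mem ha hb
    | inv a _ ha => rw [map_inv]; exact inv_mem ha
  have hCinv : ∀ β : MulAut P, ∀ y ∈ C, β y ∈ C := fun β y hy =>
    (Subgroup.characteristic_iff_le_comap.mp hCc β) hy
  let D : Subgroup P :=
    { carrier := {d | d ∈ C ∧ d ∈ R ∧ CfsgLib.Transfer.IsSmall p d}
      one_mem' := ⟨one_mem _, one_mem _, CfsgLib.Transfer.isSmall_one⟩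
      mul_mem' := fun {u v} hu hv => ⟨mul_mem hu.1 hv.1, mul_mem hu.2.1 hv.2.1, by
        have := CfsgLib.Transfer.IsSmall.mul (hP.to_subgroup C) hcp
          (u := ⟨u, hu.1⟩) (v := ⟨v, hv.1⟩)
          ((CfsgLib.Transfer.isSmall_map_iff C.subtype C.subtype_injective).mp hu.2.2)
          ((CfsgLib.Transfer.isSmall_map_iff C.subtype C.subtype_injective).mp hv.2.2)
        exact this.map C.subtype⟩
      inv_mem' := fun hu => ⟨inv_mem hu.1, inv_mem hu.2.1, hu.2.2.inv⟩ }
  have hDinv : ∀ β ∈ G, ∀ d ∈ D, β d ∈ D := fun β hβ d hd =>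
    ⟨hCinv β d hd.1, hRinv β hβ d hd.2.1, hd.2.2.map β.toMonoidHom⟩
  have hDn : ∀ g : P, ∀ d ∈ D, g * d * g⁻¹ ∈ D := fun g d hd =>
    hDinv _ (hG ⟨g, rfl⟩) d hd
  have hcomm : ⁅D, (⊤ : Subgroup P)⁆ ≤ D ⊓ Subgroup.centralizer (D : Set P) := by
    refine Subgroup.commutator_le.mpr fun d hd g hg => Subgroup.mem_inf.mpr ⟨?_, ?_⟩
    · have := mul_mem hd (hDn g _ (inv_mem hd))
      simpa [commutatorElement_def, mul_assoc] using this
    · exact Subgroup.centralizer_le (fun x hx => hx.1)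
        (hCP (Subgroup.commutator_mem_commutator hd.1 hg)).2
  have hdet : ∀ α ∈ G, (orderOf α).Coprime p → (∀ d ∈ D, α d = d) → α = 1 := by
    intro α hα hco hfix
    have hαR : ∀ x, x⁻¹ * α x ∈ R := fun x => Subgroup.subset_closure
      ⟨⟨α, hα⟩, CfsgLib.Transfer.mem_pResidual_of_coprime
        (by rwa [Subgroup.orderOf_mk]), x, rfl⟩
    have hpow := pow_orderOf_eq_one α
    have hK : (C ⊓ R).map α.toMonoidHom = C ⊓ R := by
      refine le_antisymm ?_ fun y hy => ⟨α⁻¹ y, ⟨hCinv _ _ hy.1, hRinv _ (inv_mem hα) _ hy.2⟩, ?_⟩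
      · rintro _ ⟨y, hy, rfl⟩
        exact ⟨hCinv α y hy.1, hRinv α hα y hy.2⟩
      · show α (α⁻¹ y) = y
        rw [MulAut.apply_inv_self]
    have hCRfix := CfsgLib.Transfer.fixes_of_fixes_small hP α hco hpow hK
      fun x hx hs => hfix x ⟨hx.1, hx.2, hs⟩
    refine CfsgLib.Transfer.eq_one_of_fixes_centralizer_le hP α hco hpow hCC fun x hx => ?_
    exact CfsgLib.Transfer.eq_of_fixed_diff hP α hco hpow
      (hCRfix _ (Subgroup.mem_inf.mpr ⟨mul_mem (inv_mem hx) (hCinv α x hx), hαR x⟩))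
  refine ⟨D, fun α hα => ?_, fun d hd => hd.2.1, fun d hd => hd.2.2, hcomm, hdet, ?_⟩
  · refine le_antisymm ?_ fun y hy => ⟨α⁻¹ y, hDinv _ (inv_mem hα) y hy, ?_⟩
    · rintro _ ⟨y, hy, rfl⟩
      exact hDinv α hα y hy
    · show α (α⁻¹ y) = y
      rw [MulAut.apply_inv_self]
  intro A hAD hA hmax
  have hext : ∀ z ∈ D, (∀ a ∈ A, z * a = a * z) → z ∈ A := by
    intro z hzD hz
    have hB : IsMulCommutative ↥(Subgroup.closure ((A : Set P) ∪ {z})) := by
      refine Subgroup.isMulCommutative_closure ?_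
      rintro u (hu | rfl) v (hv | rfl)
      · exact congrArg Subtype.val (hA.is_comm.comm ⟨u, hu⟩ ⟨v, hv⟩)
      · exact (hz u hu).symm
      · exact hz v hv
      · rfl
    have := hmax _ (fun a ha => Subgroup.subset_closure (Or.inl ha))
      ((Subgroup.closure_le _).mpr (by rintro y (hy | rfl); exacts [hAD hy, hzD])) hB
    exact this ▸ Subgroup.subset_closure (Or.inr rfl)
  have hAn : A.Normal := ⟨fun a ha g => by
    have h1 : ⁅a, g⁆ ∈ A := by
      have h := hcomm (Subgroup.commutator_mem_commutator (hAD ha) (Subgroup.mem_top g))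
      exact hext _ h.1 fun b hb => (Subgroup.mem_centralizer_iff.mp h.2 b (hAD hb)).symm
    have := mul_mem (inv_mem h1) ha
    simpa [commutatorElement_def, mul_assoc] using this⟩
  refine ⟨hAn, fun α hα hfix => ?_⟩
  haveI : Finite (MulAut P) := Finite.of_injective (fun f => (f : P → P)) DFunLike.coe_injective
  obtain ⟨k, hk⟩ := CfsgLib.Transfer.exists_pow_prime_pow_coprime (p := p) α
  have hβA : ∀ a ∈ A, (α ^ p ^ k) a = a := by
    intro a ha
    generalize p ^ k = n
    induction n with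
    | zero => simp
    | succ n ih => rw [pow_succ', MulAut.mul_apply, ih, hfix a ha]
  have hβ : α ^ p ^ k = 1 := by
    refine hdet _ (pow_mem hα _) hk fun d hd => ?_
    refine CfsgLib.Transfer.eq_of_fixed_diff hP _ hk (pow_orderOf_eq_one _) (hβA _ (hext _
      (mul_mem (inv_mem hd) (hDinv _ (pow_mem hα _) d hd)) fun a ha => ?_))
    exact (Subgroup.mem_centralizer_iff.mp
      (CfsgLib.Transfer.mem_centralizer_of_fixed_normal _ hβA d) a ha).symm
  obtain ⟨j, -, hj⟩ := (Nat.dvd_prime_pow Fact.out).mp (orderOf_dvd_of_pow_eq_one hβ)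
  exact ⟨j, hj⟩

end Cfsg.Agent.S1949
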