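import Cfsg.Statements.S1952
import Cfsg.Agent.Lib.Techniques2.CyclicModule
import Mathlib.Algebra.Module.ZMod
import Mathlib.GroupTheory.Sylow

set_option autoImplicit false
open Cfsg

namespace Cfsg.Agent.S1952

/-- Let P be a finite p-group with a normal elementary abelian subgroup A of index p, and let x ∈ A and y ∈ P with y outside A. If the product of the p conjugates y^(-i) x y^i (i = 0, …, p−1) is not the identity, then the wreath product Z_p ≀ Z_p, realised as a Sylow p-subgroup of the symmetric group of degree p², is a homomorphic image of P. -/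
theorem result {P : Type*} [Group P] [Finite P] {p : ℕ} [Fact p.Prime] (hP : IsPGroup p P) (A : Subgroup P) [A.Normal]
    (hA : Cfsg.IsElementaryAbelian p A) (hidx : A.index = p) (x y : P) (hx : x ∈ A) (hy : y ∉ A)
    (hprod : ((List.range p).map (fun i => (y ^ i)⁻¹ * x * y ^ i)).prod ≠ 1) :
    ∃ (Q : Sylow p (Equiv.Perm (Fin (p ^ 2)))) (f : P →* ↥(Q : Subgroup (Equiv.Perm (Fin (p ^ 2))))), Function.Surjective f := by
  classical
  haveI := hA.1
  letI : CommGroup A := { (inferInstance : Group A) with mul_comm := fun a b => mul_comm' a b }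
  haveI : Module (ZMod p) (Additive A) := AddCommGroup.zmodModule fun v =>
    Additive.toMul.injective (Subtype.ext (hA.2 _ v.toMul.2))
  let T : Module.End (ZMod p) (Additive A) := AddMonoidHom.toZModLinearMap p
    (MonoidHom.toAdditive (MulAut.conjNormal (H := A) y⁻¹).toMonoidHom)
  have hT1 : ∀ v : Additive A, (((T v).toMul : A) : P) = y⁻¹ * (v.toMul : A) * y := fun v =>
    (MulAut.conjNormal_apply (H := A) y⁻¹ v.toMul).trans (by rw [inv_inv])
  have hTn : ∀ (n : ℕ) (v : Additive A),
      ((((T ^ n) v).toMul : A) : P) = (y ^ n)⁻¹ * (v.toMul : A) * y ^ n := by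
    intro n
    induction n with
    | zero => intro v; simp
    | succ n ih =>
      intro v
      rw [pow_succ' T, Module.End.mul_apply, hT1, ih, pow_succ y]
      group
  have hyp : y ^ p ∈ A := by
    have := Subgroup.pow_index_mem (H := A) y
    rwa [hidx] at this
  have hTp : T ^ p = 1 := LinearMap.ext fun v => Additive.toMul.injective (Subtype.ext (by
    rw [hTn, Module.End.one_apply, mul_assoc,
      show ((v.toMul : A) : P) * y ^ p = y ^ p * (v.toMul : A) from
        congrArg Subtype.val (mul_comm' v.toMul (⟨y ^ p, hyp⟩ : A)), inv_mul_cancel_left]))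
  set x₀ : Additive A := Additive.ofMul ⟨x, hx⟩ with hx₀
  have hsum : ∀ n : ℕ, ((((∑ i ∈ Finset.range n, (T ^ i) x₀)).toMul : A) : P) =
      ((List.range n).map (fun i => (y ^ i)⁻¹ * x * y ^ i)).prod := by
    intro n
    induction n with
    | zero => simp
    | succ n ih =>
      rw [Finset.sum_range_succ, List.range_succ, List.map_append, List.prod_append, toMul_add,
        Subgroup.coe_mul, ih, hTn]
      simp [hx₀]
  obtain ⟨φ, hφ⟩ := CfsgLib.Techniques.exists_dual_of_norm_ne_zero T hTp x₀ fun h0 => hprod (by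
    rw [← hsum p, h0]; rfl)
  let A₀ : Subgroup P := (AddSubgroup.toSubgroup' φ.toAddMonoidHom.ker).map A.subtype
  let Φ : Additive A → (ZMod p → ZMod p) := fun a i => φ ((T ^ i.val) a)
  have hcore : ∀ a ∈ A₀.normalCore, ∃ v : Additive A, Φ v = 0 ∧ ((v.toMul : A) : P) = a := by
    intro a ha
    obtain ⟨a', -, rfl⟩ := A₀.normalCore_le ha
    refine ⟨Additive.ofMul a', funext fun i => ?_, rfl⟩
    have h1 := A₀.normalCore_le (A₀.normalCore_normal.conj_mem _ ha (y ^ i.val)⁻¹)
    obtain ⟨b, hb, hbe⟩ := h1
    have : b = ((T ^ i.val) (Additive.ofMul a')).toMul := Subtype.ext (by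
      rw [hTn]; simpa [Subgroup.coe_subtype] using hbe)
    subst this
    exact hb
  have hnorm : A₀.normalCore ≤ A := fun a ha => by
    obtain ⟨v, -, rfl⟩ := hcore a ha
    exact v.toMul.2
  have hindex : p ^ p ≤ A₀.normalCore.relIndex A := by
    haveI : Finite (Additive A) := inferInstanceAs (Finite A)
    have hbound : Nat.card (↥A ⧸ A₀.normalCore.subgroupOf A) ≥ Nat.card (ZMod p → ZMod p) := by
      refine Nat.card_le_card_of_surjective (Quotient.lift (fun a : A => Φ (Additive.ofMul a)) ?_) ?_
      · intro a b hab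
        have h1 : a⁻¹ * b ∈ A₀.normalCore.subgroupOf A := QuotientGroup.leftRel_apply.mp hab
        obtain ⟨v, hv, hve⟩ := hcore _ h1
        have h2 : Additive.ofMul b = Additive.ofMul a + v := by
          rw [show v = Additive.ofMul (a⁻¹ * b) from Additive.toMul.injective (Subtype.ext hve),
            ← ofMul_mul, mul_inv_cancel_left]
        funext i
        have h3 := congrFun hv i
        simp only [Φ, Pi.zero_apply] at h3
        simp only [Φ, h2, map_add, h3, add_zero]
      · intro g
        obtain ⟨v, hv⟩ := hφ g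
        exact ⟨QuotientGroup.mk v.toMul, funext hv⟩
    rwa [Nat.card_fun, Nat.card_zmod] at hbound
  have hρi : p ^ (p + 1) ≤ A₀.normalCore.index := by
    rw [← Subgroup.relIndex_mul_index hnorm, hidx, pow_succ]
    exact Nat.mul_le_mul_right p hindex
  have hA₀ : A₀.index = p ^ 2 := by
    have h1 : A₀.relIndex A = p := by
      have h2 : A₀.subgroupOf A = AddSubgroup.toSubgroup' φ.toAddMonoidHom.ker :=
        Subgroup.comap_map_eq_self_of_injective A.subtype_injective _
      rw [Subgroup.relIndex, h2]
      let f : A →* Multiplicative (ZMod p) :=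
        { toFun := fun a => Multiplicative.ofAdd (φ (Additive.ofMul a))
          map_one' := by simp
          map_mul' := fun a b => by simp }
      have hker : AddSubgroup.toSubgroup' φ.toAddMonoidHom.ker = f.ker := rfl
      have hsurj : Function.Surjective f := fun z => by
        obtain ⟨v, hv⟩ := hφ fun _ => z.toAdd
        refine ⟨v.toMul, Multiplicative.toAdd.injective ?_⟩
        have := hv 0
        show φ v = z.toAdd
        simpa using this
      rw [hker, Subgroup.index_ker, MonoidHom.range_eq_top.mpr hsurj,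
        Nat.card_congr Subgroup.topEquiv.toEquiv, Nat.card_congr Multiplicative.toAdd, Nat.card_zmod]
    rw [← Subgroup.relIndex_mul_index (Subgroup.map_subtype_le _ : A₀ ≤ A), h1, hidx, pow_two]
  let e : (P ⧸ A₀) ≃ Fin (p ^ 2) := Finite.equivFinOfCardEq hA₀
  let ρ : P →* Equiv.Perm (Fin (p ^ 2)) :=
    e.permCongrHom.toMonoidHom.comp (MulAction.toPermHom P (P ⧸ A₀))
  have hker : ρ.ker = A₀.normalCore := by
    rw [Subgroup.normalCore_eq_ker]
    ext g
    simp only [MonoidHom.mem_ker, ρ, MonoidHom.comp_apply]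
    exact map_eq_one_iff _ e.permCongrHom.injective
  obtain ⟨Q, hQ⟩ := ((hP.to_subgroup (⊤ : Subgroup P)).map ρ).exists_le_sylow
  have hle : ∀ g, ρ g ∈ (Q : Subgroup (Equiv.Perm (Fin (p ^ 2)))) := fun g => hQ ⟨g, trivial, rfl⟩
  refine ⟨Q, ρ.codRestrict _ hle, fun z => ?_⟩
  have hrange : ρ.range = (Q : Subgroup (Equiv.Perm (Fin (p ^ 2)))) := by
    refine Subgroup.eq_of_le_of_card_ge (by rintro _ ⟨g, rfl⟩; exact hle g) ?_
    have hQc : Nat.card (Q : Subgroup (Equiv.Perm (Fin (p ^ 2)))) = p ^ (p + 1) := by
      rw [Sylow.card_eq_multiplicity, Nat.card_perm, Nat.card_fin,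
        ← Nat.multiplicity_eq_factorization (Fact.out : p.Prime) (p ^ 2).factorial_ne_zero,
        Nat.Prime.multiplicity_factorial_pow (Fact.out : p.Prime)]
      simp [Finset.sum_range_succ, add_comm]
    rw [hQc, ← Subgroup.index_ker, hker]
    exact hρi
  obtain ⟨g, hg⟩ := hrange.ge z.2
  exact ⟨g, Subtype.ext hg⟩

end Cfsg.Agent.S1952
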