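import Cfsg.Statements.S1957
import Cfsg.Agent.Lib.LocalEven.Generation
import Cfsg.Agent.Lib.PGroups.Basic
import Cfsg.Agent.Lib.Techniques.Functor
import Cfsg.Agent.Lib.Techniques.Basic
import Cfsg.Agent.Lib.Core.Cores

set_option autoImplicit false
open Cfsg
set_option maxHeartbeats 1000000

namespace Cfsg.Agent.S1957

/-- Let `G` be a finite non-abelian simple group in which every local subgroup is solvable and which is of characteristic 2 type. Let `P` be a Sylow 2-subgroup of `G` and `U` a normal subgroup of `P` that is a four-group, with `U` central in `P` if the centre of `P` is not cyclic. Then `U` centralizes every subgroup of odd order of `G` that it normalizes. -/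
theorem result {G : Type*} [Group G] [Finite G]
    [IsSimpleGroup G] (hna : ¬ IsMulCommutative G) (hN : Cfsg.IsNGroup G) (h2 : Cfsg.IsCharacteristicTwoType G)
    (P : Sylow 2 G) (U : Subgroup G) (hUP : U ≤ (P : Subgroup G)) (hUn : (P : Subgroup G) ≤ Subgroup.normalizer (U : Set G))
    (hU4 : IsKleinFour ↥U)
    (hUZ : ¬ IsCyclic ↥((P : Subgroup G) ⊓ Subgroup.centralizer ((P : Subgroup G) : Set G)) →
      U ≤ Subgroup.centralizer ((P : Subgroup G) : Set G))
    (K : Subgroup G) (hK : Odd (Nat.card K)) (hUK : U ≤ Subgroup.normalizer (K : Set G)) :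
    U ≤ Subgroup.centralizer (K : Set G) := by
  classical
  haveI : Fact (Nat.Prime 2) := ⟨Nat.prime_two⟩
  haveI := hU4
  have hP : IsPGroup 2 (P : Subgroup G) := P.2
  have hsq : ∀ v ∈ U, v * v = 1 := fun v hv => by
    have h := Monoid.pow_exponent_eq_one (⟨v, hv⟩ : U)
    rw [IsKleinFour.exponent_two, pow_two] at h
    exact congrArg Subtype.val h
  have hinv : ∀ v ∈ U, v⁻¹ = v := fun v hv => inv_eq_of_mul_eq_one_right (hsq v hv)
  have hcom : ∀ v ∈ U, ∀ w ∈ U, v * w = w * v := fun v hv w hw => by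
    have h := inv_eq_of_mul_eq_one_right (hsq _ (mul_mem hv hw))
    rw [mul_inv_rev, hinv v hv, hinv w hw] at h
    exact h.symm
  haveI : IsMulCommutative U := ⟨⟨fun a b => Subtype.ext (hcom _ a.2 _ b.2)⟩⟩
  have hfour : ∀ a ∈ U, ∀ b ∈ U, a ≠ 1 → b ≠ 1 → a ≠ b →
      ∀ w ∈ U, w = 1 ∨ w = a ∨ w = b ∨ w = a * b := by
    intro a ha b hb ha1 hb1 hab w hw
    by_contra hcon
    push Not at hcon
    haveI : Fintype U := Fintype.ofFinite U
    have hab1 : a * b ≠ 1 := fun h => hab (by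
      rw [← hinv b hb]; exact eq_inv_of_mul_eq_one_left h)
    have h5 := Finset.card_le_univ ({1, ⟨a, ha⟩, ⟨b, hb⟩, ⟨a * b, mul_mem ha hb⟩, ⟨w, hw⟩} : Finset U)
    rw [← Nat.card_eq_fintype_card, IsKleinFour.card_four] at h5
    repeat rw [Finset.card_insert_of_notMem] at h5
    · simp at h5
    all_goals simp only [Finset.mem_insert, Finset.mem_singleton, Subtype.ext_iff,
      OneMemClass.coe_one, not_or]
    all_goals try exact fun h => hcon.2.2.2 h.symm
    all_goals try exact ⟨fun h => hb1 (mul_eq_left.1 h.symm), fun h => hcon.2.2.1 h.symm⟩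
    all_goals try exact ⟨hab, fun h => hb1 (mul_eq_left.1 h.symm), fun h => hcon.2.1 h.symm⟩
    all_goals try exact ⟨fun h => ha1 (mul_eq_right.1 h.symm), fun h => hcon.2.2.1 h.symm⟩
    all_goals exact ⟨fun h => ha1 h.symm, fun h => hb1 h.symm, fun h => hab1 h.symm,
      fun h => hcon.1 h.symm⟩
  -- a coprime element acting trivially modulo `⟨u⟩` on `O₂(C(u))`
  have hkey : ∀ u ∈ U, u ≠ 1 → ∀ k ∈ K, k * u = u * k → ∀ w ∈ U,
      (∀ q ∈ (Cfsg.pCore 2 ↥(Subgroup.normalizer (Subgroup.zpowers u : Set G))).map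
        (Subgroup.normalizer (Subgroup.zpowers u : Set G)).subtype,
        q⁻¹ * (w * q * w⁻¹) ∈ Subgroup.zpowers u) → k * w = w * k := by
    intro u hu hu1 k hk hku w hw hQw
    set M := Subgroup.normalizer (Subgroup.zpowers u : Set G) with hM
    haveI : (Cfsg.pCore 2 M).Normal := CfsgLib.Core.normal_pCore 2 M
    have hchar : Cfsg.IsOfCharacteristicTwo M := h2.2 _
      ((hP.to_le hUP).to_le (Subgroup.zpowers_le.2 hu)) (fun h => hu1 (Subgroup.zpowers_eq_bot.1 h))
    have hcM : ∀ g : G, g * u = u * g → g ∈ M := fun g hg =>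
      CfsgLib.Techniques.mem_normalizer_of_map_conj_eq (by
        rw [MonoidHom.map_zpowers, MulEquiv.coe_toMonoidHom, MulAut.conj_apply, hg,
          mul_inv_cancel_right])
    have hkM : k ∈ M := hcM k hku
    have hwM : w ∈ M := hcM w (hcom w hw u hu)
    set c := k * w * k⁻¹ * w⁻¹ with hc
    have hcK : c ∈ K := by
      rw [hc, show k * w * k⁻¹ * w⁻¹ = k * (w * k⁻¹ * w⁻¹) by group]
      exact mul_mem hk ((Subgroup.mem_normalizer_iff.1 (hUK hw) _).1 (inv_mem hk))
    have hodd : Odd (orderOf c) :=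
      Odd.of_dvd_nat hK (Subgroup.orderOf_dvd_natCard K hcK)
    have hcu : c * u = u * c := by
      have c1 : Commute k u := hku
      have c2 : Commute w u := hcom w hw u hu
      exact (((c1.mul_left c2).mul_left c1.inv_left).mul_left c2.inv_left).eq
    have hcMem : c ∈ M := hcM c hcu
    have hcent : (⟨c, hcMem⟩ : M) ∈ Subgroup.centralizer ((Cfsg.pCore 2 M : Subgroup M) : Set M) := by
      refine Subgroup.mem_centralizer_iff.2 fun q0 hq0 => ?_
      set q := (q0 : G) with hq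
      have hconj : ∀ g : M, ((g * q0 * g⁻¹ : M) : G) ∈ (Cfsg.pCore 2 M).map M.subtype := fun g =>
        ⟨_, (inferInstance : (Cfsg.pCore 2 M).Normal).conj_mem q0 hq0 g, rfl⟩
      have hq1 : w⁻¹ * q * w ∈ (Cfsg.pCore 2 M).map M.subtype := by
        simpa using hconj ⟨w⁻¹, inv_mem hwM⟩
      have hq2 : k⁻¹ * (w⁻¹ * q * w) * k ∈ (Cfsg.pCore 2 M).map M.subtype := by
        have := hconj ⟨k⁻¹ * w⁻¹, mul_mem (inv_mem hkM) (inv_mem hwM)⟩
        simpa [mul_assoc] using this
      set q₂ := k⁻¹ * (w⁻¹ * q * w) * k with hq₂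
      have hz : q⁻¹ * (c * q * c⁻¹) ∈ Subgroup.zpowers u := by
        have e1 : q⁻¹ * (c * q * c⁻¹) =
            q⁻¹ * (w⁻¹ * q * w⁻¹⁻¹) * (k * (q₂⁻¹ * (w * q₂ * w⁻¹)) * k⁻¹) := by
          rw [hq₂, hc]; group
        rw [e1]
        refine mul_mem ?_ ((Subgroup.mem_normalizer_iff.1 hkM _).1 (hQw q₂ hq2))
        have := hQw q ⟨q0, hq0, rfl⟩
        rwa [inv_inv, hinv w hw] at *
      set d := q⁻¹ * (c * q * c⁻¹) with hd
      obtain ⟨l, hl⟩ := hz
      have hcd : c * d * c⁻¹ = d := by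
        rw [← hl, ((show Commute c u from hcu).zpow_right l).eq, mul_inv_cancel_right]
      have hj : ∀ j : ℕ, c ^ j * q * (c ^ j)⁻¹ = q * d ^ j := by
        intro j
        induction j with
        | zero => simp
        | succ j ih =>
          calc c ^ (j + 1) * q * (c ^ (j + 1))⁻¹ = c * (c ^ j * q * (c ^ j)⁻¹) * c⁻¹ := by
                rw [pow_succ']; group
            _ = c * q * c⁻¹ * (c * d * c⁻¹) ^ j := by rw [ih, conj_pow]; group
            _ = q * d * d ^ j := by rw [hcd, hd]; group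
            _ = q * d ^ (j + 1) := by rw [pow_succ', mul_assoc]
      have h1 := hj (orderOf c)
      rw [pow_orderOf_eq_one, one_mul, inv_one, mul_one, left_eq_mul] at h1
      have h3 : d = 1 := by
        obtain ⟨r, hr⟩ := hodd
        have hdd : d ^ 2 = 1 := by
          rw [pow_two]; exact hsq d (Subgroup.zpowers_le.2 hu ⟨l, hl⟩)
        rwa [hr, pow_succ, pow_mul, hdd, one_pow, one_mul] at h1
      rw [hd, inv_mul_eq_one, eq_mul_inv_iff_mul_eq] at h3
      exact Subtype.ext h3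
    obtain ⟨j, hj⟩ := IsPGroup.iff_orderOf.1 (CfsgLib.Core.isPGroup_pCore 2 M)
      ⟨_, hchar hcent⟩
    rw [Subgroup.orderOf_mk, Subgroup.orderOf_mk] at hj
    have hc1 : c = 1 := by
      rw [← orderOf_eq_one_iff]
      exact Nat.eq_one_of_dvd_coprimes (Nat.Coprime.pow_left j (Nat.coprime_two_left.2 hodd))
        hj.dvd dvd_rfl
    rw [hc, mul_inv_eq_one, mul_inv_eq_iff_eq_mul] at hc1
    exact hc1
  have hQP : ∀ u ∈ U, (P : Subgroup G) ≤ Subgroup.normalizer (Subgroup.zpowers u : Set G) →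
      (Cfsg.pCore 2 ↥(Subgroup.normalizer (Subgroup.zpowers u : Set G))).map
        (Subgroup.normalizer (Subgroup.zpowers u : Set G)).subtype ≤ (P : Subgroup G) := by
    intro u _ h
    refine (Subgroup.map_mono (CfsgLib.Core.pCore_le_sylow (P.subtype h))).trans ?_
    rw [Sylow.coe_subtype, Subgroup.map_subgroupOf_eq_of_le h]
  have hcM' : ∀ u : G, (∀ s ∈ (P : Subgroup G), s * u = u * s) →
      (P : Subgroup G) ≤ Subgroup.normalizer (Subgroup.zpowers u : Set G) := fun u h s hs =>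
    CfsgLib.Techniques.mem_normalizer_of_map_conj_eq (by
      rw [MonoidHom.map_zpowers, MulEquiv.coe_toMonoidHom, MulAut.conj_apply, h s hs,
        mul_inv_cancel_right])
  -- reduction to the fixed points of the involutions of `U`
  suffices hmain : ∀ u ∈ U, u ≠ 1 → ∀ k ∈ K, k * u = u * k → ∀ w ∈ U, k * w = w * k by
    refine Subgroup.le_centralizer_iff.1 (CfsgLib.LocalEven.le_of_centralizers_le (p := 2) (A := U)
      (fun a ha => by rw [pow_two]; exact hsq a ha)
      (by rw [IsKleinFour.card_four]; norm_num) hUK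
      (fun h => (Nat.not_even_iff_odd.2 hK) (even_iff_two_dvd.2 h)) fun u hu hu1 k hk => ?_)
    refine Subgroup.mem_centralizer_iff.2 fun w hw => ?_
    exact (hmain u hu hu1 k hk.1 (Subgroup.mem_centralizer_singleton_iff.1 hk.2) w hw).symm
  by_cases hcentral : U ≤ Subgroup.centralizer ((P : Subgroup G) : Set G)
  · intro u hu hu1 k hk hku w hw
    refine hkey u hu hu1 k hk hku w hw fun q hq => ?_
    have hqP := hQP u hu (hcM' u fun s hs => Subgroup.mem_centralizer_iff.1 (hcentral hu) s hs) hq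
    rw [← Subgroup.mem_centralizer_iff.1 (hcentral hw) q hqP, mul_inv_cancel_right, inv_mul_cancel]
    exact one_mem _
  have hcyc : IsCyclic ↥((P : Subgroup G) ⊓ Subgroup.centralizer ((P : Subgroup G) : Set G)) := by
    by_contra h
    exact hcentral (hUZ h)
  haveI := hcyc
  have huniq : ∀ a b : G, a ∈ (P : Subgroup G) ⊓ Subgroup.centralizer ((P : Subgroup G) : Set G) →
      b ∈ (P : Subgroup G) ⊓ Subgroup.centralizer ((P : Subgroup G) : Set G) →
      a * a = 1 → b * b = 1 → a ≠ 1 → b ≠ 1 → a = b := by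
    intro a b ha hb ha2 hb2 ha1 hb1
    by_contra hab
    set Z := (P : Subgroup G) ⊓ Subgroup.centralizer ((P : Subgroup G) : Set G)
    haveI : Fintype Z := Fintype.ofFinite Z
    have hle : ({1, ⟨a, ha⟩, ⟨b, hb⟩} : Finset Z).card ≤ 2 := by
      refine le_trans (Finset.card_le_card ?_) (IsCyclic.card_pow_eq_one_le (α := Z) (n := 2) two_pos)
      intro v hv
      simp only [Finset.mem_insert, Finset.mem_singleton] at hv
      refine Finset.mem_filter.2 ⟨Finset.mem_univ _, ?_⟩
      rcases hv with rfl | rfl | rfl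
      · exact one_pow 2
      · exact Subtype.ext (by rw [SubmonoidClass.coe_pow, pow_two]; exact ha2)
      · exact Subtype.ext (by rw [SubmonoidClass.coe_pow, pow_two]; exact hb2)
    rw [Finset.card_eq_three.2 ⟨1, ⟨a, ha⟩, ⟨b, hb⟩, fun h => ha1 (congrArg Subtype.val h).symm,
      fun h => hb1 (congrArg Subtype.val h).symm, fun h => hab (congrArg Subtype.val h), rfl⟩] at hle
    omega
  -- the central involution of `P` in `U`
  obtain ⟨z, hz, hz1, hzP⟩ : ∃ z ∈ U, z ≠ 1 ∧ ∀ s ∈ (P : Subgroup G), s * z = z * s := by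
    haveI : (U.subgroupOf (P : Subgroup G)).Normal :=
      (Subgroup.normal_subgroupOf_iff_le_normalizer hUP).2 hUn
    have hne : U.subgroupOf (P : Subgroup G) ≠ ⊥ := by
      intro h
      have h4 : Nat.card U = 1 := by
        rw [← Nat.card_congr (Subgroup.subgroupOfEquivOfLe hUP).toEquiv, h, Subgroup.card_bot]
      rw [IsKleinFour.card_four] at h4
      omega
    have h := CfsgLib.PGroups.inf_center_ne_bot hP hne
    haveI := (Subgroup.nontrivial_iff_ne_bot _).2 h
    obtain ⟨⟨⟨z, hzS⟩, hzU, hzc⟩, hz1⟩ := exists_ne (1 : ↥(U.subgroupOf (P : Subgroup G) ⊓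
      Subgroup.center ↥(P : Subgroup G)))
    exact ⟨z, hzU, fun h => hz1 (Subtype.ext (Subtype.ext h)), fun s hs =>
      congrArg Subtype.val (Subgroup.mem_center_iff.1 hzc ⟨s, hs⟩)⟩
  intro u hu hu1 k hk hku w hw
  by_cases huz : u = z
  · subst huz
    refine hkey u hu hu1 k hk hku w hw fun q hq => ?_
    have hqP : q ∈ (P : Subgroup G) := hQP u hu (hcM' u hzP) hq
    set w' := q⁻¹ * w * q with hw'
    have hw'U : w' ∈ U := by
      simpa [hw'] using (Subgroup.mem_normalizer_iff.1 (hUn (inv_mem hqP)) w).1 hw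
    rw [show q⁻¹ * (w * q * w⁻¹) = w' * w⁻¹ by rw [hw']; group, hinv w hw]
    by_cases hw1 : w = 1
    · subst hw1
      rw [hw']
      simp
    by_cases hwz : w = u
    · subst hwz
      rw [hw', mul_assoc q⁻¹, ← hzP q hqP, inv_mul_cancel_left, hsq w hw]
      exact one_mem _
    rcases hfour u hu w hw hu1 hw1 (Ne.symm hwz) w' hw'U with h | h | h | h
    · exfalso
      refine hw1 ?_
      have : w = q * w' * q⁻¹ := by rw [hw']; group
      rw [this, h, mul_one, mul_inv_cancel]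
    · exfalso
      refine hwz ?_
      have : w = q * w' * q⁻¹ := by rw [hw']; group
      rw [this, h, hzP q hqP, mul_inv_cancel_right]
    · rw [h, hsq w hw]; exact one_mem _
    · rw [h, mul_assoc, hsq w hw, mul_one]; exact Subgroup.mem_zpowers u
  -- `u` is not central in `P`
  suffices hkz : k * z = z * k by
    rcases hfour u hu z hz hu1 hz1 huz w hw with h | h | h | h <;> subst h
    · rw [mul_one, one_mul]
    · exact hku
    · exact hkz
    · calc k * (u * z) = u * (k * z) := by rw [← mul_assoc, hku, mul_assoc]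
        _ = u * (z * k) := by rw [hkz]
        _ = u * z * k := (mul_assoc _ _ _).symm
  refine hkey u hu hu1 k hk hku z hz fun q hq => ?_
  set M := Subgroup.normalizer (Subgroup.zpowers u : Set G) with hM
  have hMu : ∀ g ∈ M, g * u = u * g := by
    intro g hg
    obtain ⟨l, hl⟩ := (Subgroup.mem_normalizer_iff.1 hg u).1 (Subgroup.mem_zpowers u)
    simp only at hl
    rcases Int.even_or_odd l with ⟨r, rfl⟩ | ⟨r, rfl⟩
    · exfalso
      rw [← two_mul, zpow_mul, zpow_two, hsq u hu, one_zpow] at hl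
      exact hu1 (conj_eq_one_iff.1 hl.symm)
    · rw [zpow_add, zpow_mul, zpow_two, hsq u hu, one_zpow, one_mul, zpow_one] at hl
      exact mul_inv_eq_iff_eq_mul.1 hl.symm
  have hcMu : ∀ g : G, g * u = u * g → g ∈ M := fun g hg =>
    CfsgLib.Techniques.mem_normalizer_of_map_conj_eq (by
      rw [MonoidHom.map_zpowers, MulEquiv.coe_toMonoidHom, MulAut.conj_apply, hg,
        mul_inv_cancel_right])
  set T := (P : Subgroup G) ⊓ Subgroup.centralizer ({u} : Set G) with hT
  have hTM : T ≤ M := fun t ht => hcMu t (Subgroup.mem_centralizer_singleton_iff.1 ht.2)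
  have hzT : z ∈ T := ⟨hUP hz, Subgroup.mem_centralizer_singleton_iff.2 (hcom z hz u hu)⟩
  have hTz : ∀ t ∈ T, t * z = z * t := fun t ht => hzP t ht.1
  have hidx : Nat.card (P : Subgroup G) ≤ 2 * Nat.card T := by
    by_cases hPT : (P : Subgroup G) ≤ T
    · have := Subgroup.card_le_of_le hPT
      omega
    obtain ⟨x, hx, hxT⟩ := SetLike.not_le_iff_exists.1 hPT
    have him : ∀ y ∈ (P : Subgroup G), y ∉ T → y * u * y⁻¹ = z * u := by
      intro y hy hyT
      have hyu : y * u * y⁻¹ ∈ U := (Subgroup.mem_normalizer_iff.1 (hUn hy) u).1 hu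
      rcases hfour z hz u hu hz1 hu1 (Ne.symm huz) _ hyu with h | h | h | h
      · exact absurd (mul_eq_left.1 (mul_inv_eq_one.1 h)) hu1
      · exfalso
        refine huz ?_
        calc u = y⁻¹ * (y * u * y⁻¹) * y := by group
          _ = z := by rw [h, mul_assoc, ← hzP y hy, inv_mul_cancel_left]
      · exact absurd ⟨hy, Subgroup.mem_centralizer_singleton_iff.2 (mul_inv_eq_iff_eq_mul.1 h)⟩ hyT
      · exact h
    have hmem : ∀ y : (P : Subgroup G), (y : G) ∉ T → x⁻¹ * (y : G) ∈ T := fun y hy =>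
      Subgroup.mem_inf.2 ⟨mul_mem (inv_mem hx) y.2, Subgroup.mem_centralizer_singleton_iff.2 (mul_inv_eq_iff_eq_mul.1 (by
        calc x⁻¹ * (y : G) * u * (x⁻¹ * (y : G))⁻¹ = x⁻¹ * ((y : G) * u * (y : G)⁻¹) * x := by group
          _ = x⁻¹ * (x * u * x⁻¹) * x := by rw [him _ y.2 hy, him _ hx hxT]
          _ = u := by group))⟩
    let f : ↥(P : Subgroup G) → T ⊕ T := fun y =>
      if hy : (y : G) ∈ T then Sum.inl ⟨y, hy⟩ else Sum.inr ⟨x⁻¹ * y, hmem y hy⟩
    have hf : Function.Injective f := by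
      intro y y' h
      simp only [f] at h
      split_ifs at h with h1 h2
      · exact Subtype.ext (congrArg (fun t : T => (t : G)) (Sum.inl.inj h))
      · exact Subtype.ext (mul_left_cancel (congrArg (fun t : T => (t : G)) (Sum.inr.inj h)))
    have := Nat.card_le_card_of_injective f hf
    rwa [Nat.card_sum, ← two_mul] at this
  obtain ⟨S₁, hTS₁, hS₁⟩ := CfsgLib.Techniques.exists_isSylowSub hTM (hP.to_le inf_le_left)
  haveI : (Cfsg.pCore 2 M).Normal := CfsgLib.Core.normal_pCore 2 M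
  have hqS₁ : q ∈ S₁ := by
    obtain ⟨n, hn, hle⟩ := hS₁.exists_conj_le (Subgroup.map_subtype_le _)
      ((CfsgLib.Core.isPGroup_pCore 2 M).map M.subtype)
    obtain ⟨q0, hq0, rfl⟩ := hq
    refine hle ⟨(((⟨n, hn⟩ : M)⁻¹ * q0 * ⟨n, hn⟩ : M) : G),
      ⟨(⟨n, hn⟩ : M)⁻¹ * q0 * ⟨n, hn⟩, ?_, rfl⟩, ?_⟩
    · simpa using (inferInstance : (Cfsg.pCore 2 M).Normal).conj_mem q0 hq0 (⟨n, hn⟩ : M)⁻¹
    · show n * (n⁻¹ * (q0 : G) * n) * n⁻¹ = (q0 : G)
      group
  by_cases hqT : q ∈ T
  · rw [← hTz q hqT, mul_inv_cancel_right, inv_mul_cancel]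
    exact one_mem _
  obtain ⟨P', hP'⟩ := hS₁.2.1.exists_le_sylow
  have hcard' : Nat.card (P' : Subgroup G) = Nat.card (P : Subgroup G) := by
    rw [P'.card_eq_multiplicity, P.card_eq_multiplicity]
  have hS₁le := Subgroup.card_le_of_le hP'
  set T₁ := T.subgroupOf S₁ with hT₁
  have hT₁card : Nat.card T₁ = Nat.card T :=
    Nat.card_congr (Subgroup.subgroupOfEquivOfLe hTS₁).toEquiv
  have hmul := T₁.card_mul_index
  have hne1 : T₁.index ≠ 1 := fun h => hqT (by
    have := (Subgroup.index_eq_one.1 h).ge (Subgroup.mem_top (⟨q, hqS₁⟩ : S₁))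
    exact this)
  have hne0 : T₁.index ≠ 0 := Subgroup.index_ne_zero_of_finite
  have hTpos : 0 < Nat.card T := Nat.card_pos
  have hindex : T₁.index = 2 := by
    have h3 : Nat.card T * T₁.index ≤ Nat.card T * 2 := by
      rw [← hT₁card, hmul, hT₁card]
      omega
    have := Nat.le_of_mul_le_mul_left h3 hTpos
    omega
  haveI : T₁.Normal := Subgroup.normal_of_index_eq_two hindex
  have hS₁P' : S₁ = (P' : Subgroup G) := Subgroup.eq_of_le_of_card_ge hP' (by
    rw [hcard']
    rw [hT₁card, hindex] at hmul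
    omega)
  have hq2 : q ^ 2 ∈ T := Subgroup.sq_mem_of_index_two hindex (⟨q, hqS₁⟩ : S₁)
  have hqM : q ∈ M := Subgroup.map_subtype_le _ hq
  set z' := q⁻¹ * z * q with hz'
  have hz'T : z' ∈ T := by
    have h := (inferInstance : T₁.Normal).conj_mem ⟨z, hTS₁ hzT⟩ hzT (⟨q, hqS₁⟩ : S₁)⁻¹
    have h' : q⁻¹ * z * q⁻¹⁻¹ ∈ T := h
    simpa [hz'] using h'
  have hz'c : ∀ t ∈ T, t * z' = z' * t := by
    intro t ht
    have h : q * t * q⁻¹ ∈ T :=
      (inferInstance : T₁.Normal).conj_mem ⟨t, hTS₁ ht⟩ ht (⟨q, hqS₁⟩ : S₁)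
    calc t * z' = q⁻¹ * (q * t * q⁻¹ * z) * q := by rw [hz']; group
      _ = q⁻¹ * (z * (q * t * q⁻¹)) * q := by rw [hTz _ h]
      _ = z' * t := by rw [hz']; group
  set d := z' * z with hd
  have hdT : ∀ t ∈ T, t * d = d * t := fun t ht =>
    ((show Commute t z' from hz'c t ht).mul_right (hTz t ht)).eq
  have hqz' : q⁻¹ * z' * q = z := by
    calc q⁻¹ * z' * q = (q ^ 2)⁻¹ * (z * q ^ 2) := by rw [hz', pow_two]; group
      _ = (q ^ 2)⁻¹ * (q ^ 2 * z) := by rw [hTz _ hq2]
      _ = z := by group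
  have hdq : q * d = d * q := by
    have h : q⁻¹ * d * q = d := by
      calc q⁻¹ * d * q = (q⁻¹ * z' * q) * (q⁻¹ * z * q) := by rw [hd]; group
        _ = d := by rw [hqz', ← hz', hd, hz'c z hzT]
    calc q * d = q * (q⁻¹ * d * q) := by rw [h]
      _ = d * q := by group
  rw [show q⁻¹ * (z * q * z⁻¹) = d by rw [hd, hz', hinv z hz]; group]
  have hdS₁ : ∀ s ∈ S₁, s * d = d * s := by
    intro s hs
    by_cases hsT : s ∈ T
    · exact hdT s hsT
    have h' : (⟨q, hqS₁⟩ : S₁) * ⟨s, hs⟩ ∈ T₁ :=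
      (Subgroup.mul_mem_iff_of_index_two hindex).2 ⟨fun h => absurd h hqT, fun h => absurd h hsT⟩
    have hqs : q * s ∈ T := h'
    calc s * d = q⁻¹ * ((q * s) * d) := by group
      _ = q⁻¹ * (d * (q * s)) := by rw [hdT _ hqs]
      _ = q⁻¹ * (d * q) * s := by group
      _ = d * s := by rw [← hdq]; group
  have hd2 : d * d = 1 := by
    calc d * d = z' * (z * z') * z := by rw [hd]; group
      _ = z' * (z' * z) * z := by rw [hz'c z hzT]
      _ = (z' * z') * (z * z) := by group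
      _ = 1 := by rw [hsq z hz, mul_one, hz', show q⁻¹ * z * q * (q⁻¹ * z * q) =
          q⁻¹ * (z * z) * q by group, hsq z hz, mul_one, inv_mul_cancel]
  by_cases hd1 : d = 1
  · rw [hd1]; exact one_mem _
  obtain ⟨g, hg⟩ := MulAction.exists_smul_eq G P' P
  have hmap : ∀ s ∈ S₁, g * s * g⁻¹ ∈ (P : Subgroup G) := fun s hs => by
    rw [← hg, Sylow.coe_subgroup_smul]
    exact ⟨s, hP' hs, rfl⟩
  have hcentr : ∀ e ∈ S₁, (∀ s ∈ S₁, s * e = e * s) →
      g * e * g⁻¹ ∈ (P : Subgroup G) ⊓ Subgroup.centralizer ((P : Subgroup G) : Set G) := by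
    intro e he hec
    refine ⟨hmap e he, Subgroup.mem_centralizer_iff.2 fun y hy => ?_⟩
    have hy' : g⁻¹ * y * g ∈ S₁ := by
      rw [SetLike.mem_coe, ← hg, Sylow.coe_subgroup_smul] at hy
      obtain ⟨s, hs, rfl⟩ := hy
      rw [hS₁P']
      convert hs using 1
      simp [mul_assoc]
      rfl
    calc y * (g * e * g⁻¹) = g * ((g⁻¹ * y * g) * e) * g⁻¹ := by group
      _ = g * (e * (g⁻¹ * y * g)) * g⁻¹ := by rw [hec _ hy']
      _ = g * e * g⁻¹ * y := by group
  have huT : u ∈ T := ⟨hUP hu, Subgroup.mem_centralizer_singleton_iff.2 rfl⟩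
  have hsq' : ∀ e : G, e * e = 1 → g * e * g⁻¹ * (g * e * g⁻¹) = 1 := fun e he => by
    calc g * e * g⁻¹ * (g * e * g⁻¹) = g * (e * e) * g⁻¹ := by group
      _ = 1 := by rw [he, mul_one, mul_inv_cancel]
  have he := huniq _ _ (hcentr d (mul_mem (hTS₁ hz'T) (hTS₁ hzT)) hdS₁)
    (hcentr u (hTS₁ huT) fun s hs => hMu s (hS₁.1 hs)) (hsq' d hd2) (hsq' u (hsq u hu))
    (fun h => hd1 (conj_eq_one_iff.1 h)) (fun h => hu1 (conj_eq_one_iff.1 h))
  rw [mul_left_inj, mul_right_inj] at he
  rw [he]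
  exact Subgroup.mem_zpowers u

end Cfsg.Agent.S1957
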