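import Cfsg.Statements.S1961
import Cfsg.Agent.Lib.Techniques.Control

set_option autoImplicit false
open Cfsg

namespace Cfsg.Agent.S1961

/-- Local-to-global control of strong fusion through well-placed subgroups. Let p be a prime, G a finite group with Sylow p-subgroup S, and W a conjugacy functor for p on G. If W controls strong fusion in N_G(T) for every nonidentity subgroup T of S that is well placed in S with respect to W, then W controls strong fusion in G. -/
theorem result {G : Type*} [Group G] [Finite G] {p : ℕ} [Fact p.Prime] (S : Sylow p G) (W : Subgroup G → Subgroup G) (hW : Cfsg.IsConjugacyFunctor p W) (hloc : ∀ T : Subgroup G, T ≠ ⊥ → Cfsg.IsWellPlaced p W (S : Subgroup G) T → Cfsg.ControlsStrongFusionIn p W (Subgroup.normalizer ((T : Subgroup G) : Set G))) : Cfsg.ControlsStrongFusionIn p W ⊤ := by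
  have hSp : IsPGroup p (S : Subgroup G) := S.2
  have step : ∀ k, ∀ T : Subgroup G, Cfsg.IsWellPlaced p W (S : Subgroup G) T → T ≠ ⊥ →
      Nat.card (S : Subgroup G) -
        Nat.card ((S : Subgroup G) ⊓ Subgroup.normalizer (T : Set G) : Subgroup G) ≤ k →
      ∀ x ∈ Subgroup.normalizer (T : Set G), ∀ B : Set G,
        B ⊆ ((S : Subgroup G) ⊓ Subgroup.normalizer (T : Set G) : Subgroup G) →
        (fun a => x * a * x⁻¹) '' B ⊆ ((S : Subgroup G) ⊓ Subgroup.normalizer (T : Set G) : Subgroup G) →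
        ∃ m ∈ Subgroup.normalizer (W (S : Subgroup G) : Set G),
          ∀ a ∈ B, m * a * m⁻¹ = x * a * x⁻¹ := by
    intro k
    induction k using Nat.strong_induction_on with
    | _ k ih => ?_
    intro T hwp hne hk x hx B hB hxB
    set P₀ := (S : Subgroup G) ⊓ Subgroup.normalizer (T : Set G) with hP₀
    obtain ⟨y, hy, hye⟩ := CfsgLib.Techniques.controlsFusion_at hW (hloc T hne hwp)
      (CfsgLib.Techniques.IsFullyNormalized.isSylowSub (hwp.2 0) hSp) B x hx hB hxB
    have hyN : y ∈ Subgroup.normalizer (W P₀ : Set G) := (Subgroup.mem_inf.mp hy).2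
    rcases eq_or_lt_of_le (inf_le_left : P₀ ≤ (S : Subgroup G)) with he | hlt
    · exact ⟨y, by rw [← he]; exact hyN, hye⟩
    have hgrow := CfsgLib.Techniques.lt_inf_normalizer_functor hW hSp hlt
    have hne' : W P₀ ≠ ⊥ := CfsgLib.Techniques.tower_ne_bot hW hSp hwp.1 hne 1
    have hc := Subgroup.card_le_of_le
      (inf_le_left : (S : Subgroup G) ⊓ Subgroup.normalizer (W P₀ : Set G) ≤ _)
    have hl := CfsgLib.Transfer.card_lt_of_lt hgrow
    obtain ⟨m, hm, hme⟩ := ih _ (by simp only [hP₀] at *; omega) (W P₀) (CfsgLib.Techniques.wellPlaced_succ hW hSp hwp)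
      hne' le_rfl y hyN B (fun a ha => hgrow.le (hB ha))
      (by
        rintro _ ⟨a, ha, rfl⟩
        show y * a * y⁻¹ ∈ _
        rw [hye a ha]
        exact hgrow.le (hxB ⟨a, ha, rfl⟩))
    exact ⟨m, hm, fun a ha => (hme a ha).trans (hye a ha)⟩
  have key : ∀ (B : Set G) (g : G),
      CfsgLib.Techniques.ConjPath {T | Cfsg.IsWellPlaced p W (S : Subgroup G) T} B g →
      ∃ m ∈ Subgroup.normalizer (W (S : Subgroup G) : Set G),
        ∀ a ∈ B, m⁻¹ * a * m = g⁻¹ * a * g := by
    intro B g hp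
    induction hp with
    | one B => exact ⟨1, one_mem _, fun a _ => rfl⟩
    | step B T x g hT hx hB _ ih =>
      obtain ⟨m, hm, hme⟩ := ih
      have hTP : T ≤ (S : Subgroup G) ⊓ Subgroup.normalizer (T : Set G) :=
        le_inf hT.1 Subgroup.le_normalizer
      obtain ⟨m₁, hm₁, hme₁⟩ : ∃ m₁ ∈ Subgroup.normalizer (W (S : Subgroup G) : Set G),
          ∀ a ∈ B, m₁ * a * m₁⁻¹ = x⁻¹ * a * x := by
        by_cases hne : T = ⊥
        · refine ⟨1, one_mem _, fun a ha => ?_⟩
          have : a = 1 := by have := hB ha; rwa [hne, Subgroup.coe_bot, Set.mem_singleton_iff] at this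
          subst this; simp
        · obtain ⟨m₁, h1, h2⟩ := step _ T hT hne le_rfl x⁻¹ (inv_mem hx) B
            (fun a ha => hTP (hB ha))
            (by
              rintro _ ⟨a, ha, rfl⟩
              exact hTP ((Subgroup.mem_normalizer_iff.mp (inv_mem hx) a).mp (hB ha)))
          exact ⟨m₁, h1, fun a ha => by rw [h2 a ha, inv_inv]⟩
      refine ⟨m₁⁻¹ * m, mul_mem (inv_mem hm₁) hm, fun a ha => ?_⟩
      calc (m₁⁻¹ * m)⁻¹ * a * (m₁⁻¹ * m) = m⁻¹ * (m₁ * a * m₁⁻¹) * m := by group
        _ = m⁻¹ * (x⁻¹ * a * x) * m := by rw [hme₁ a ha]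
        _ = g⁻¹ * (x⁻¹ * a * x) * g := hme _ ⟨a, ha, rfl⟩
        _ = (x * g)⁻¹ * a * (x * g) := by group
  refine ⟨(S : Subgroup G), le_top, S.2, (CfsgLib.Techniques.isSylowSub_sylow S).2.2, ?_⟩
  intro A y _ hA hAy
  rcases A.eq_empty_or_nonempty with rfl | hne
  · exact ⟨1, one_mem _, fun a ha => absurd ha (Set.notMem_empty a)⟩
  have hp := (CfsgLib.Techniques.isConjugationFamily_iff.mp
    (CfsgLib.Techniques.isConjugationFamily_wellPlaced S hW)).2 A y⁻¹ hne hA
    (by rintro _ ⟨a, ha, rfl⟩; exact hAy ⟨a, ha, by simp⟩)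
  obtain ⟨m, hm, hme⟩ := key _ _ hp
  exact ⟨m⁻¹, Subgroup.mem_inf.mpr ⟨trivial, inv_mem hm⟩, fun a ha => by simpa using hme a ha⟩

end Cfsg.Agent.S1961
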