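import Cfsg.Statements.S1962
import Cfsg.Agent.Lib.Techniques.Control
import Cfsg.Agent.Lib.Transfer.Fusion

set_option autoImplicit false
open Cfsg

namespace Cfsg.Agent.S1962

/-- Local-to-global control of transfer through well-placed subgroups. Let p be a prime, G a finite group with Sylow p-subgroup S, and W a conjugacy functor for p on G. If W controls transfer in N_G(T) for every nonidentity subgroup T of S that is well placed in S with respect to W, then W controls transfer in G: S ∩ G' = S ∩ (N_G(W(S)))'. -/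
theorem result {G : Type*} [Group G] [Finite G] {p : ℕ} [Fact p.Prime] (S : Sylow p G) (W : Subgroup G → Subgroup G) (hW : Cfsg.IsConjugacyFunctor p W) (hloc : ∀ T : Subgroup G, T ≠ ⊥ → Cfsg.IsWellPlaced p W (S : Subgroup G) T → Cfsg.ControlsTransferIn p W (Subgroup.normalizer ((T : Subgroup G) : Set G))) : Cfsg.ControlsTransferIn p W ⊤ := by
  have hSp : IsPGroup p (S : Subgroup G) := S.2
  set Z := (S : Subgroup G) ⊓ ⁅(⊤ : Subgroup G) ⊓ Subgroup.normalizer (W (S : Subgroup G) : Set G),
    (⊤ : Subgroup G) ⊓ Subgroup.normalizer (W (S : Subgroup G) : Set G)⁆ with hZ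
  have step : ∀ k, ∀ T : Subgroup G, Cfsg.IsWellPlaced p W (S : Subgroup G) T → T ≠ ⊥ →
      Nat.card (S : Subgroup G) -
        Nat.card ((S : Subgroup G) ⊓ Subgroup.normalizer (T : Set G) : Subgroup G) ≤ k →
      (S : Subgroup G) ⊓ Subgroup.normalizer (T : Set G) ⊓
        ⁅Subgroup.normalizer (T : Set G), Subgroup.normalizer (T : Set G)⁆ ≤ Z := by
    intro k
    induction k using Nat.strong_induction_on with
    | _ k ih => ?_
    intro T hwp hne hk
    set P₀ := (S : Subgroup G) ⊓ Subgroup.normalizer (T : Set G) with hP₀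
    rw [CfsgLib.Techniques.controlsTransfer_at hW (hloc T hne hwp)
      (CfsgLib.Techniques.IsFullyNormalized.isSylowSub (hwp.2 0) hSp)]
    rcases eq_or_lt_of_le (inf_le_left : P₀ ≤ (S : Subgroup G)) with he | hlt
    · rw [hZ, he]
      exact inf_le_inf le_rfl (Subgroup.commutator_mono (inf_le_inf le_top le_rfl)
        (inf_le_inf le_top le_rfl))
    have hgrow := CfsgLib.Techniques.lt_inf_normalizer_functor hW hSp hlt
    have hne' : W P₀ ≠ ⊥ := CfsgLib.Techniques.tower_ne_bot hW hSp hwp.1 hne 1
    have hc := Subgroup.card_le_of_le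
      (inf_le_left : (S : Subgroup G) ⊓ Subgroup.normalizer (W P₀ : Set G) ≤ _)
    have hl := CfsgLib.Transfer.card_lt_of_lt hgrow
    exact (inf_le_inf hgrow.le (Subgroup.commutator_mono inf_le_right inf_le_right)).trans
      (ih _ (by simp only [hP₀] at *; omega) (W P₀) (CfsgLib.Techniques.wellPlaced_succ hW hSp hwp) hne' le_rfl)
  have key : ∀ (B : Set G) (g : G),
      CfsgLib.Techniques.ConjPath {T | Cfsg.IsWellPlaced p W (S : Subgroup G) T} B g →
      ∀ a ∈ B, a⁻¹ * (g⁻¹ * a * g) ∈ Z := by
    intro B g hp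
    induction hp with
    | one B => intro a _; simp
    | step B T x g hT hx hB _ ih =>
      intro a ha
      have h1 := ih _ ⟨a, ha, rfl⟩
      have h2 : a⁻¹ * (x⁻¹ * a * x) ∈ Z := by
        by_cases hne : T = ⊥
        · have : a = 1 := by have := hB ha; rwa [hne, Subgroup.coe_bot, Set.mem_singleton_iff] at this
          subst this; simp
        · have haT : a ∈ T := hB ha
          have hxa : x⁻¹ * a * x ∈ T := (Subgroup.mem_normalizer_iff''.mp hx a).mp haT
          refine step _ T hT hne le_rfl (Subgroup.mem_inf.mpr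
            ⟨(le_inf hT.1 Subgroup.le_normalizer : T ≤ _) (mul_mem (inv_mem haT) hxa), ?_⟩)
          have := Subgroup.commutator_mem_commutator
            (inv_mem (Subgroup.le_normalizer haT : a ∈ Subgroup.normalizer (T : Set G))) (inv_mem hx)
          simpa [commutatorElement_def, mul_assoc] using this
      have := Z.mul_mem h2 h1
      simpa [mul_assoc] using this
  refine ⟨(S : Subgroup G), le_top, S.2, (CfsgLib.Techniques.isSylowSub_sylow S).2.2,
    le_antisymm ?_ ?_⟩
  · have hfoc := CfsgLib.Transfer.commutator_inf_le_of_fusion S Z fun a ha g hg =>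
      key _ _ ((CfsgLib.Techniques.isConjugationFamily_iff.mp
        (CfsgLib.Techniques.isConjugationFamily_wellPlaced S hW)).2 {a} g ⟨a, rfl⟩
          (by rintro _ rfl; exact ha) (by rintro _ ⟨_, rfl, rfl⟩; exact hg)) a rfl
    rw [commutator_def, inf_comm] at hfoc
    exact hfoc
  · exact inf_le_inf le_rfl (Subgroup.commutator_mono le_top le_top)

end Cfsg.Agent.S1962
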