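import Cfsg.Statements.S1966
import Cfsg.Agent.Lib.Techniques.Family
import Cfsg.Agent.Lib.Core.Cores
import Cfsg.Agent.Lib.Components.Radicals

set_option autoImplicit false
open Cfsg

namespace Cfsg.Agent.S1966

/-- Let p be a prime, G a finite group with Sylow p-subgroup S and 𝓕 a conjugation family for S in G. Then the members of 𝓕 containing O_p(G) still form a conjugation family for S in G. -/
theorem result {G : Type*} [Group G] [Finite G] {p : ℕ} [Fact p.Prime] (S : Sylow p G) (𝓕 : Set (Subgroup G)) (h : Cfsg.IsConjugationFamily 𝓕 (S : Subgroup G)) : Cfsg.IsConjugationFamily {T : Subgroup G | T ∈ 𝓕 ∧ Cfsg.pCore p G ≤ T} (S : Subgroup G) := by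
  obtain ⟨h1, h2⟩ := h
  refine ⟨fun T hT => h1 T hT.1, fun A g hne hA hAg => ?_⟩
  set K := Cfsg.pCore p G
  have hKS : K ≤ (S : Subgroup G) := CfsgLib.Core.pCore_le_sylow S
  haveI hKn : K.Normal := CfsgLib.Components.pCore_normal p
  have hsub : A ∪ (K : Set G) ⊆ ((S : Subgroup G) : Set G) := Set.union_subset hA hKS
  have hconj : ∀ y : G, ∀ k ∈ K, y * k * y⁻¹ ∈ K := fun y k hk => hKn.conj_mem k hk y
  have himg : (fun a => g⁻¹ * a * g) '' (A ∪ (K : Set G)) ⊆ ((S : Subgroup G) : Set G) := by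
    rintro _ ⟨a, ha | ha, rfl⟩
    · exact hAg ⟨a, ha, rfl⟩
    · exact hKS (by simpa using hconj g⁻¹ a ha)
  obtain ⟨n, T, x, hprod, hT, hx, h0, hstep⟩ :=
    h2 (A ∪ (K : Set G)) g (hne.mono Set.subset_union_left) hsub himg
  refine ⟨n, T, x, hprod, fun i => ⟨hT i, ?_⟩, hx,
    fun h => Set.subset_union_left.trans (h0 h),
    fun i h => (Set.image_mono Set.subset_union_left).trans (hstep i h)⟩
  obtain ⟨i, hi⟩ := i
  cases i with
  | zero => exact fun k hk => h0 hi (Or.inr hk)
  | succ j =>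
    intro k hk
    have := hstep ⟨j, by omega⟩ hi
    set P := ((List.ofFn x).take (j + 1)).prod
    refine this ⟨P * k * P⁻¹, Or.inr (hconj P k hk), ?_⟩
    show P⁻¹ * (P * k * P⁻¹) * P = k
    group

end Cfsg.Agent.S1966
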