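import Cfsg.Statements.S1967
import Cfsg.Agent.Lib.Techniques.Family

set_option autoImplicit false
open Cfsg

namespace Cfsg.Agent.S1967

/-- Let p be a prime, G a finite group with Sylow p-subgroup S and W a conjugacy functor for p on G. Then W controls strong fusion in G if and only if, whenever T ≤ S and g ∈ G satisfy gTg⁻¹ ≤ S, one can write g = n c with n ∈ N_G(W(S)) and c ∈ C_G(T). -/
theorem result {G : Type*} [Group G] [Finite G] {p : ℕ} [Fact p.Prime] (S : Sylow p G) (W : Subgroup G → Subgroup G) (hW : Cfsg.IsConjugacyFunctor p W) : Cfsg.ControlsStrongFusionIn p W ⊤ ↔ ∀ (T : Subgroup G) (g : G), T ≤ (S : Subgroup G) → T.map (MulAut.conj g).toMonoidHom ≤ (S : Subgroup G) → ∃ n ∈ Subgroup.normalizer ((W (S : Subgroup G) : Subgroup G) : Set G), ∃ c ∈ Subgroup.centralizer (T : Set G), g = n * c := by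
  constructor
  · rintro ⟨T₀, -, hp₀, hi₀, hctl⟩ T g hT hTg
    obtain ⟨x, -, hx⟩ := (show CfsgLib.Techniques.IsSylowSub p T₀ ⊤ from ⟨le_top, hp₀, hi₀⟩).exists_conj_eq
      (CfsgLib.Techniques.isSylowSub_sylow S)
    obtain ⟨m, hm, hmeq⟩ := hctl ((fun a => x * a * x⁻¹) '' (T : Set G)) (x * g * x⁻¹) trivial
      (by rintro _ ⟨a, ha, rfl⟩; rw [← hx]; exact ⟨a, hT ha, rfl⟩)
      (by
        rintro _ ⟨_, ⟨a, ha, rfl⟩, rfl⟩
        rw [← hx]
        exact ⟨g * a * g⁻¹, hTg ⟨a, ha, rfl⟩, by simp [MulAut.conj_apply, mul_assoc]⟩)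
    have hN : m ∈ Subgroup.normalizer ((W T₀ : Subgroup G) : Set G) := hm.2
    rw [← hx, CfsgLib.Techniques.functor_map hW S.2, CfsgLib.Techniques.normalizer_map_conj',
      CfsgLib.Techniques.mem_map_conj_iff] at hN
    refine ⟨x⁻¹ * m * x, hN, (x⁻¹ * m * x)⁻¹ * g, ?_, by group⟩
    rw [Subgroup.mem_centralizer_iff]
    intro a ha
    have e := hmeq _ ⟨a, ha, rfl⟩
    calc a * ((x⁻¹ * m * x)⁻¹ * g) = x⁻¹ * m⁻¹ * (m * (x * a * x⁻¹) * m⁻¹) * (x * g) := by group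
      _ = x⁻¹ * m⁻¹ * (x * g * x⁻¹ * (x * a * x⁻¹) * (x * g * x⁻¹)⁻¹) * (x * g) := by rw [e]
      _ = (x⁻¹ * m * x)⁻¹ * g * a := by group
  · intro h
    refine ⟨(S : Subgroup G), le_top, S.2, (CfsgLib.Techniques.isSylowSub_sylow S).2.2, ?_⟩
    intro A y _ hA hAy
    have hcl : Subgroup.closure A ≤ (S : Subgroup G) := (Subgroup.closure_le _).mpr hA
    obtain ⟨n, hn, c, hc, he⟩ := h (Subgroup.closure A) y hcl (by
      rw [Subgroup.map_le_iff_le_comap, Subgroup.closure_le]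
      intro a ha
      exact hAy ⟨a, ha, rfl⟩)
    refine ⟨n, ⟨trivial, hn⟩, fun a ha => ?_⟩
    have hca := Subgroup.mem_centralizer_iff.mp hc a (Subgroup.subset_closure ha)
    calc n * a * n⁻¹ = n * (a * c) * c⁻¹ * n⁻¹ := by group
      _ = n * (c * a) * c⁻¹ * n⁻¹ := by rw [hca]
      _ = y * a * y⁻¹ := by rw [he]; group

end Cfsg.Agent.S1967
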