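import Cfsg.Statements.S1968
import Cfsg.Agent.Lib.Techniques.Family

set_option autoImplicit false
open Cfsg

namespace Cfsg.Agent.S1968

/-- Let p be a prime, G a finite group with Sylow p-subgroup S and W a conjugacy functor for p on G with Z(P) ≤ W(P) for every p-subgroup P. Let A be a subgroup of Z(S) normalized by N_G(W(S)) that is not weakly closed in S with respect to G. Then there is a subgroup T of S, well placed in S with respect to W, such that: A ≤ T; N_G(W(N_S(T))) normalizes A; N_S(T) is a Sylow p-subgroup of N_G(T); A ≤ Z(N_S(T)); and A is not weakly closed in N_S(T) with respect to N_G(T), that is, some N_G(T)-conjugate of A other than A lies in N_S(T). -/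
theorem result {G : Type*} [Group G] [Finite G] {p : ℕ} [Fact p.Prime] (S : Sylow p G) (W : Subgroup G → Subgroup G) (hW : Cfsg.IsConjugacyFunctor p W) (hWZ : ∀ P : Subgroup G, IsPGroup p ↥P → P ⊓ Subgroup.centralizer (P : Set G) ≤ W P) (A : Subgroup G) (hAZ : A ≤ (S : Subgroup G) ⊓ Subgroup.centralizer ((S : Subgroup G) : Set G)) (hAN : Subgroup.normalizer ((W (S : Subgroup G) : Subgroup G) : Set G) ≤ Subgroup.normalizer ((A : Subgroup G) : Set G)) (hnwc : ¬ Cfsg.IsWeaklyClosed A (S : Subgroup G)) : ∃ T : Subgroup G, Cfsg.IsWellPlaced p W (S : Subgroup G) T ∧ A ≤ T ∧ Subgroup.normalizer ((W ((S : Subgroup G) ⊓ Subgroup.normalizer ((T : Subgroup G) : Set G)) : Subgroup G) : Set G) ≤ Subgroup.normalizer ((A : Subgroup G) : Set G) ∧ ¬ p ∣ ((S : Subgroup G) ⊓ Subgroup.normalizer ((T : Subgroup G) : Set G)).relIndex (Subgroup.normalizer ((T : Subgroup G) : Set G)) ∧ A ≤ Subgroup.centralizer (((S : Subgroup G) ⊓ Subgroup.normalizer ((T : Subgroup G) : Set G) : Subgroup G) : Set G) ∧ ∃ g ∈ Subgroup.normalizer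 ((T : Subgroup G) : Set G), A.map (MulAut.conj g).toMonoidHom ≤ (S : Subgroup G) ⊓ Subgroup.normalizer ((T : Subgroup G) : Set G) ∧ A.map (MulAut.conj g).toMonoidHom ≠ A := by
  classical
  simp only [Cfsg.IsWeaklyClosed, not_and, not_forall] at hnwc
  obtain ⟨g₀, hg₀, hg₀ne⟩ := hnwc (hAZ.trans inf_le_left)
  have hAS : A ≤ (S : Subgroup G) := hAZ.trans inf_le_left
  -- the set of candidates
  let Good : Subgroup G → Prop := fun T => Cfsg.IsWellPlaced p W (S : Subgroup G) T ∧ A ≤ T ∧
    ∃ g ∈ Subgroup.normalizer ((T : Subgroup G) : Set G), A.map (MulAut.conj g).toMonoidHom ≠ A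
  have hex : ∃ T, Good T := by
    by_contra hcon
    push Not at hcon
    have key : ∀ (B : Set G) (g : G),
        CfsgLib.Techniques.ConjPath {T | Cfsg.IsWellPlaced p W (S : Subgroup G) T} B g →
        B = A → A.map (MulAut.conj g⁻¹).toMonoidHom = A := by
      intro B g hp
      induction hp with
      | one B => intro _; rw [inv_one, CfsgLib.Techniques.map_conj_one]
      | step B T x g hT hx hB _ ih =>
        intro hBA
        subst hBA
        have hfix : A.map (MulAut.conj x⁻¹).toMonoidHom = A := by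
          by_contra hne
          exact hne (not_not.mp fun h => hcon T ⟨hT, hB, x⁻¹, inv_mem hx, h⟩)
        have himg : (fun a => x⁻¹ * a * x) '' (A : Set G) = (A : Set G) := by
          conv_rhs => rw [← hfix]
          ext y
          simp [CfsgLib.Techniques.mem_map_conj_iff]
        rw [mul_inv_rev, ← CfsgLib.Techniques.map_conj_conj, hfix]
        exact ih himg
    have hp := (CfsgLib.Techniques.isConjugationFamily_iff.mp
      (CfsgLib.Techniques.isConjugationFamily_wellPlaced S hW)).2 (A : Set G) g₀⁻¹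
      ⟨1, A.one_mem⟩ hAS (by
        rintro _ ⟨a, ha, rfl⟩
        exact hg₀ ⟨a, ha, by simp⟩)
    exact hg₀ne (by simpa using key _ _ hp rfl)
  obtain ⟨T, hT, hmax⟩ := Set.Finite.exists_maximalFor
    (fun T : Subgroup G => Nat.card ((S : Subgroup G) ⊓ Subgroup.normalizer (T : Set G) : Subgroup G))
    {T | Good T} (Set.toFinite _) hex
  obtain ⟨hwp, hAT, g, hg, hgA⟩ := hT
  have hTP := CfsgLib.Techniques.tower_le_inf hW S.2 hwp.1 0
  set P₀ := (S : Subgroup G) ⊓ Subgroup.normalizer (T : Set G) with hP₀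
  have hP₀p : IsPGroup p P₀ := S.2.to_le inf_le_left
  have hAC : A ≤ Subgroup.centralizer (P₀ : Set G) := by
    intro a ha
    rw [Subgroup.mem_centralizer_iff]
    intro y hy
    exact Subgroup.mem_centralizer_iff.mp (hAZ ha).2 y hy.1
  refine ⟨T, hwp, hAT, ?_, hwp.2 0, hAC, g, hg, ?_, hgA⟩
  · by_contra hnot
    obtain ⟨y, hy, hyA⟩ := SetLike.not_le_iff_exists.mp hnot
    set T₁ := W P₀
    have hgood : Good T₁ := by
      refine ⟨CfsgLib.Techniques.wellPlaced_succ hW S.2 hwp, ?_, y, hy, fun he =>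
        hyA (CfsgLib.Techniques.mem_normalizer_of_map_conj_eq he)⟩
      exact (le_inf ((le_inf hAS (hAT.trans Subgroup.le_normalizer)) : A ≤ P₀) hAC).trans (hWZ _ hP₀p)
    rcases eq_or_lt_of_le (inf_le_left : P₀ ≤ (S : Subgroup G)) with he | hlt
    · have hT₁ : T₁ = W (S : Subgroup G) := congrArg W he
      exact hnot (hT₁ ▸ hAN)
    · have hgrow := CfsgLib.Techniques.lt_inf_normalizer_functor hW S.2 hlt
      have h1 := CfsgLib.Transfer.card_lt_of_lt hgrow
      exact absurd (hmax hgood h1.le) (not_le.mpr h1)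
  · refine le_trans ?_ hTP
    show A.map (MulAut.conj g).toMonoidHom ≤ T
    rw [← CfsgLib.Techniques.map_conj_of_mem_normalizer hg]
    exact Subgroup.map_mono hAT

end Cfsg.Agent.S1968
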