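import Cfsg.Statements.S1970
import Cfsg.Agent.Lib.Techniques.SectionTransfer

set_option autoImplicit false
universe u
open Cfsg

namespace Cfsg.Agent.S1970

/-- Let p be a prime, G a finite group and W an isomorphism-invariant p-group functor (W assigns to every group Q a subgroup W(Q), nontrivial whenever Q is a nontrivial finite p-group, and every isomorphism from a finite p-group Q onto a group R carries W(Q) onto W(R)). Suppose that for every section G* = K/R of G with C_{G*}(O_p(G*)) ≤ O_p(G*) and every Sylow p-subgroup S* of G*, one has O_p(G*) ∩ (G*)' = O_p(G*) ∩ (N_{G*}(W(S*)))'. Then W controls transfer in every section G* of G: S* ∩ (G*)' = S* ∩ (N_{G*}(W(S*)))' for a Sylow p-subgroup S* of G*. -/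
theorem result {G : Type u} [Group G] [Finite G] {p : ℕ} [Fact p.Prime] (W : ∀ (Q : Type u) [Group Q], Subgroup Q) (hW : Cfsg.IsCharPFunctor.{u} p W) (hloc : ∀ (K R : Subgroup G) [hR : (R.subgroupOf K).Normal], Subgroup.centralizer ((Cfsg.pCore p (↥K ⧸ R.subgroupOf K) : Subgroup (↥K ⧸ R.subgroupOf K)) : Set (↥K ⧸ R.subgroupOf K)) ≤ Cfsg.pCore p (↥K ⧸ R.subgroupOf K) → ∀ T : Sylow p (↥K ⧸ R.subgroupOf K), Cfsg.pCore p (↥K ⧸ R.subgroupOf K) ⊓ commutator (↥K ⧸ R.subgroupOf K) = Cfsg.pCore p (↥K ⧸ R.subgroupOf K) ⊓ ⁅Subgroup.normalizer ((Cfsg.inducedFunctor (G := (↥K ⧸ R.subgroupOf K)) W ((T : Subgroup (↥K ⧸ R.subgroupOf K))) : Subgroup (↥K ⧸ R.subgroupOf K)) : Set (↥K ⧸ R.subgroupOf K)), Subgroup.normalizer ((Cfsg.inducedFunctor (G := (↥K ⧸ R.subgroupOf K)) W ((T : Subgroup (↥K ⧸ R.subgroupOf K))) : Subgroup (↥K ⧸ R.subgroupOf K)) : Set (↥K ⧸ R.subgroupOf K))⁆) : ∀ (K R : Subgroup G) [hR : (R.subgroupOf K).Normal], Cfsg.ControlsTransferIn p (Cfsg.inducedFunctor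 (G := (↥K ⧸ R.subgroupOf K)) W) ⊤ := by
  intro K₀ R₀ hR₀
  have h𝓦 : ∀ V ∈ ({W} : Set (∀ (Q : Type u) [Group Q], Subgroup Q)),
      Cfsg.IsCharPFunctor.{u} p V := fun V hV => by
    rw [Set.mem_singleton_iff] at hV
    exact hV ▸ hW
  rw [← CfsgLib.Techniques.familyTransfer_singleton_iff,
    ← CfsgLib.Techniques.inducedSet_singleton]
  refine CfsgLib.Techniques.familyTransfer_of_sections h𝓦 (fun H _ _ hs hc ind indq => ?_) _
    (CfsgLib.Techniques.isSec_quotient K₀ R₀)
  haveI : (Cfsg.pCore p H).Normal := CfsgLib.Core.normal_pCore p H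
  obtain ⟨S⟩ : Nonempty (Sylow p H) := inferInstance
  refine CfsgLib.Techniques.familyControlsTransfer_of_le S ?_
  by_cases hQ : Cfsg.pCore p H = ⊥
  · rw [hQ, Subgroup.coe_bot, Subgroup.centralizer_eq_top_iff_subset.mpr (by simp), le_bot_iff] at hc
    have h1 : (⊤ : Subgroup H) ≤ ⊥ := hc.le
    exact (inf_le_left.trans (le_top.trans h1)).trans bot_le
  refine (CfsgLib.Techniques.transfer_le_sup_pCore h𝓦 ind (indq _ hQ) S).trans (sup_le le_rfl ?_)
  obtain ⟨K, R, hn, ⟨e⟩⟩ := hs.exists_quotient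
  obtain ⟨T⟩ : Nonempty (Sylow p (↥K ⧸ R.subgroupOf K)) := inferInstance
  have hTe : CfsgLib.Techniques.IsSylowSub p ((T : Subgroup (↥K ⧸ R.subgroupOf K)).map
      e.toMonoidHom) ⊤ := by
    exact CfsgLib.Techniques.isSylowSub_sylow (T.mapSurjective (f := e.toMonoidHom) e.surjective)
  obtain ⟨n, -, hn'⟩ := hTe.exists_conj_eq (CfsgLib.Techniques.isSylowSub_sylow S)
  let e' := e.trans (MulAut.conj n⁻¹)
  have hQe := CfsgLib.Core.map_equiv_pCore (p := p) e'
  have hmap : (T : Subgroup (↥K ⧸ R.subgroupOf K)).map e'.toMonoidHom = (S : Subgroup H) := by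
    refine Eq.trans ?_ (CfsgLib.Techniques.map_conj_inv_conj (S : Subgroup H) n)
    rw [hn']
    rw [Subgroup.map_map]
    rfl
  have h := congrArg (Subgroup.map e'.toMonoidHom)
    (hloc K R (CfsgLib.PLocal.centralizer_pCore_le_congr e'.symm hc) T)
  rw [_root_.commutator_def, Subgroup.map_inf _ _ _ e'.injective,
    Subgroup.map_inf _ _ _ e'.injective, Subgroup.map_commutator, Subgroup.map_commutator, hQe,
    Subgroup.map_top_of_surjective _ e'.surjective] at h
  rw [h, CfsgLib.Techniques.transferPart_singleton]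
  refine inf_le_inf (CfsgLib.Core.pCore_le_sylow S) (Subgroup.commutator_mono ?_ ?_) <;>
  · rw [← hmap, CfsgLib.Techniques.inducedFunctor_map hW T.2 _ e'.injective.injOn, top_inf_eq]
    exact Subgroup.le_normalizer_map _

end Cfsg.Agent.S1970
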