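import Cfsg.Statements.S1981
import Cfsg.Agent.Lib.Techniques.KInfty

set_option autoImplicit false
open Cfsg

namespace Cfsg.Agent.S1981

/-- Let P be a finite p-group generated by its abelian normal subgroups. Then both K-infinity subgroups of P equal P. -/
theorem result {P : Type*} [Group P] [Finite P] {p : ℕ} [Fact p.Prime] (hP : IsPGroup p P) (hgen : ⨆ A ∈ {A : Subgroup P | A.Normal ∧ IsMulCommutative ↥A}, A = ⊤) : Cfsg.kInfLower P = ⊤ ∧ Cfsg.kInfUpper P = ⊤ := by
  have key : ∀ Q : Subgroup P, sSup (Cfsg.kLowerStarFamily Q) = ⊤ ∧ sSup (Cfsg.kUpperStarFamily Q) = ⊤ := by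
    intro Q
    constructor <;> rw [eq_top_iff, ← hgen] <;> refine iSup₂_le fun A hA => ?_
    all_goals
      haveI := hA.1
      obtain ⟨-, h2⟩ := CfsgLib.Techniques.abelian_mem_families hA.2
    · exact le_sSup (h2 Q).1
    · exact le_sSup (h2 Q).2
  refine ⟨eq_top_iff.mpr ((key _).1.ge.trans (le_iSup (Cfsg.kSeqEven P) 0)), eq_top_iff.mpr (le_iInf fun n => ?_)⟩
  cases n with
  | zero => exact le_rfl
  | succ n => exact (key _).2.ge

end Cfsg.Agent.S1981
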