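import Cfsg.Statements.S1990
import Cfsg.Agent.Lib.Techniques.CriterionStructure

set_option autoImplicit false
universe u
open Cfsg

namespace Cfsg.Agent.S1990

/-- Let p be an odd prime, G a finite group with Sylow p-subgroup S, and W an isomorphism-invariant p-group functor (W assigns to every group Q a subgroup W(Q), nontrivial whenever Q is a nontrivial finite p-group, and every isomorphism from a finite p-group Q onto a group R carries W(Q) onto W(R)). Suppose N_G(W(S)) has a normal p-complement, and W(T) controls strong fusion in every section G* = K/R of G all of whose sections are p-stable in the normalizer form, for every Sylow p-subgroup T of G*. Then G has a normal p-complement. -/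
theorem result {G : Type u} [Group G] [Finite G] {p : ℕ} [Fact p.Prime] (hp : p ≠ 2) (W : ∀ (Q : Type u) [Group Q], Subgroup Q) (hW : Cfsg.IsCharPFunctor.{u} p W) (S : Sylow p G) (hN : Cfsg.HasNormalPComplement p ↥(Subgroup.normalizer ((Cfsg.inducedFunctor (G := G) W (S : Subgroup G) : Subgroup G) : Set G))) (hctl : ∀ (K R : Subgroup G) [hR : (R.subgroupOf K).Normal], (∀ (K' R' : Subgroup (↥K ⧸ R.subgroupOf K)) [hR' : (R'.subgroupOf K').Normal], Cfsg.IsNormalizerPStable p (↥K' ⧸ R'.subgroupOf K')) → ∀ T : Sylow p (↥K ⧸ R.subgroupOf K), Cfsg.ControlsStrongFusion p (Cfsg.inducedFunctor (G := (↥K ⧸ R.subgroupOf K)) W (T : Subgroup (↥K ⧸ R.subgroupOf K)))) : Cfsg.HasNormalPComplement p G := by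
  refine CfsgLib.Techniques.complement_criterion hW (fun H _ _ hs T hf => hf.no ?_) G
    (CfsgLib.Techniques.isSec_self G) S hN
  obtain ⟨K, R, hn, e, T', hT'⟩ := hs.exists_sylow_iso T
  have hnq : CfsgLib.Transfer.NoQuad p (↥K ⧸ R.subgroupOf K) :=
    (CfsgLib.Techniques.noQuad_of_abelianMiddle hp hf.abelianMiddle).of_isSec
      ((CfsgLib.Techniques.isSec_self H).of_surjective e.symm.toMonoidHom e.symm.surjective)
  obtain ⟨T₁, hUT, hfus⟩ := hctl K R (fun K' R' hR' =>
    CfsgLib.Techniques.isNormalizerPStable_of_noQuad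
      (hnq.of_isSec (CfsgLib.Techniques.isSec_quotient K' R'))) T'
  refine CfsgLib.Techniques.npc_of_fusion_control e T' T₁ (Cfsg.inducedFunctor
    (G := ↥K ⧸ R.subgroupOf K) W (T' : Subgroup (↥K ⧸ R.subgroupOf K))) ?_ hUT
    (fun A hA => (hfus A hA).2) ?_
  · exact CfsgLib.Techniques.le_normalizer_functor
      (CfsgLib.Techniques.inducedFunctor_isConjugacyFunctor hW _) T'.2
  · have hlt : Subgroup.normalizer ((Cfsg.inducedFunctor (G := H) W (T : Subgroup H) : Subgroup H) :
        Set H) ≠ ⊤ := fun h => hf.not_normal (Subgroup.normalizer_eq_top_iff.mp h)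
    have hTN : (T : Subgroup H) ≤ Subgroup.normalizer
        ((Cfsg.inducedFunctor (G := H) W (T : Subgroup H) : Subgroup H) : Set H) :=
      CfsgLib.Techniques.le_normalizer_functor
        (CfsgLib.Techniques.inducedFunctor_isConjugacyFunctor hW H) T.2
    refine CfsgLib.PLocal.npc_of_le ?_ (hf.npc_local _ hlt hTN)
    refine (Subgroup.le_normalizer_map _).trans (le_of_eq ?_)
    rw [← CfsgLib.Techniques.inducedFunctor_map hW T'.2 e.toMonoidHom e.injective.injOn, hT']

end Cfsg.Agent.S1990
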