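import Cfsg.Statements.S1996
import Cfsg.Agent.Lib.Techniques.SectionFusion

set_option autoImplicit false
universe u
open Cfsg

namespace Cfsg.Agent.S1996

/-- Let p be a prime, G a finite group and W₁, W₂ two isomorphism-invariant p-group functors (W assigns to every group Q a subgroup W(Q), nontrivial whenever Q is a nontrivial finite p-group, and every isomorphism from a finite p-group Q onto a group R carries W(Q) onto W(R)). Suppose that G* = N_{G*}(W₁(S*)) N_{G*}(W₂(S*)) whenever G* = K/R is a section of G with C_{G*}(O_p(G*)) ≤ O_p(G*) and S* is a Sylow p-subgroup of G*. Then the pair {W₁, W₂} controls strong fusion in G. -/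
theorem result {G : Type u} [Group G] [Finite G] {p : ℕ} [Fact p.Prime] (W₁ W₂ : ∀ (Q : Type u) [Group Q], Subgroup Q) (hW₁ : Cfsg.IsCharPFunctor.{u} p W₁) (hW₂ : Cfsg.IsCharPFunctor.{u} p W₂) (hfac : ∀ (K R : Subgroup G) [hR : (R.subgroupOf K).Normal], Subgroup.centralizer ((Cfsg.pCore p (↥K ⧸ R.subgroupOf K) : Subgroup (↥K ⧸ R.subgroupOf K)) : Set (↥K ⧸ R.subgroupOf K)) ≤ Cfsg.pCore p (↥K ⧸ R.subgroupOf K) → ∀ T : Sylow p (↥K ⧸ R.subgroupOf K), ∀ x : (↥K ⧸ R.subgroupOf K), ∃ a ∈ Subgroup.normalizer ((Cfsg.inducedFunctor (G := (↥K ⧸ R.subgroupOf K)) W₁ (T : Subgroup (↥K ⧸ R.subgroupOf K)) : Subgroup (↥K ⧸ R.subgroupOf K)) : Set (↥K ⧸ R.subgroupOf K)), ∃ b ∈ Subgroup.normalizer ((Cfsg.inducedFunctor (G := (↥K ⧸ R.subgroupOf K)) W₂ (T : Subgroup (↥K ⧸ R.subgroupOf K)) : Subgroup (↥K ⧸ R.subgroupOf K)) : Set (↥K ⧸ R.subgroupOf K)), x = a * b) : Cfsg.FamilyControlsStrongFusionIn p {Cfsg.inducedFunctor (G := G) W₁, Cfsg.inducedFunctor (G := G) W₂}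 ⊤ := by
  have h𝓦 : ∀ V ∈ ({W₁, W₂} : Set (∀ (Q : Type u) [Group Q], Subgroup Q)),
      Cfsg.IsCharPFunctor.{u} p V := fun V hV => by
    simp only [Set.mem_insert_iff, Set.mem_singleton_iff] at hV
    rcases hV with h | h
    · exact h ▸ hW₁
    · exact h ▸ hW₂
  have key := CfsgLib.Techniques.familyFusion_of_sections h𝓦
    (fun H _ _ hs hc => CfsgLib.Techniques.sections_of_quotients h𝓦 (fun K R hR hc' => by
      obtain ⟨S⟩ : Nonempty (Sylow p (↥K ⧸ R.subgroupOf K)) := inferInstance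
      have hV := CfsgLib.Techniques.inducedSet_conjugacy h𝓦 (↥K ⧸ R.subgroupOf K)
      refine CfsgLib.Techniques.familyControls_of_spath S fun A y hA hAy => ?_
      obtain ⟨a, ha, b, hb, rfl⟩ := hfac K R hc' S y
      exact CfsgLib.Techniques.spath_of_factor hV S
        (CfsgLib.Techniques.familyFusion_normalizer_functor hV S ⟨W₂, by simp, rfl⟩)
        (CfsgLib.Techniques.familyFusion_normalizer_functor hV S ⟨W₁, by simp, rfl⟩)
        (CfsgLib.Techniques.le_normalizer_functor (hV _ ⟨W₂, by simp, rfl⟩) S.2)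
        (CfsgLib.Techniques.le_normalizer_functor (hV _ ⟨W₁, by simp, rfl⟩) S.2)
        hb ha hA hAy) H hs hc)
    G (CfsgLib.Techniques.isSec_self G)
  rwa [CfsgLib.Techniques.inducedSet, Set.image_pair] at key

end Cfsg.Agent.S1996
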