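import Cfsg.Statements.S1997
import Cfsg.Agent.Lib.Techniques2.TripleFactor
import Cfsg.Agent.S1996

set_option autoImplicit false
universe u
open Cfsg

namespace Cfsg.Agent.S1997

/-- Let p be a prime, G a finite group with Sylow p-subgroup S, and W₁, W₂ two isomorphism-invariant p-group functors (W assigns to every group Q a subgroup W(Q), nontrivial whenever Q is a nontrivial finite p-group, and every isomorphism from a finite p-group Q onto a group R carries W(Q) onto W(R)). Suppose that G* = C_{G*}(Ω₁Z(S*)) N_{G*}(W₁(S*)) = C_{G*}(Ω₁Z(S*)) N_{G*}(W₂(S*)) = N_{G*}(W₁(S*)) N_{G*}(W₂(S*)) whenever G* = K/R is a section of G with C_{G*}(O_p(G*)) ≤ O_p(G*) and S* is a Sylow p-subgroup of G*, where Ω₁Z denotes the subgroup generated by the elements of order dividing p in the centre. Suppose also Ω₁Z(S) ≤ W₁(S) ∩ W₂(S), and let A be the normal closure of Ω₁Z(S) in N_G(W₁(S)). Then A is an elementary abelian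 subgroup of S, strongly closed in S with respect to G, and A controls strong fusion in G. -/
theorem result {G : Type u} [Group G] [Finite G] {p : ℕ} [Fact p.Prime] (S : Sylow p G) (W₁ W₂ : ∀ (Q : Type u) [Group Q], Subgroup Q) (hW₁ : Cfsg.IsCharPFunctor.{u} p W₁) (hW₂ : Cfsg.IsCharPFunctor.{u} p W₂) (hfac : ∀ (K R : Subgroup G) [hR : (R.subgroupOf K).Normal], Subgroup.centralizer ((Cfsg.pCore p (↥K ⧸ R.subgroupOf K) : Subgroup (↥K ⧸ R.subgroupOf K)) : Set (↥K ⧸ R.subgroupOf K)) ≤ Cfsg.pCore p (↥K ⧸ R.subgroupOf K) → ∀ T : Sylow p (↥K ⧸ R.subgroupOf K), (∀ x : (↥K ⧸ R.subgroupOf K), ∃ a ∈ Subgroup.centralizer ((Cfsg.omegaOne p ((T : Subgroup (↥K ⧸ R.subgroupOf K)) ⊓ Subgroup.centralizer (((T : Subgroup (↥K ⧸ R.subgroupOf K)) : Subgroup (↥K ⧸ R.subgroupOf K)) : Set (↥K ⧸ R.subgroupOf K))) : Subgroup (↥K ⧸ R.subgroupOf K)) : Set (↥K ⧸ R.subgroupOf K)), ∃ b ∈ Subgroup.normalizer ((Cfsg.inducedFunctor (G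 := (↥K ⧸ R.subgroupOf K)) W₁ (T : Subgroup (↥K ⧸ R.subgroupOf K)) : Subgroup (↥K ⧸ R.subgroupOf K)) : Set (↥K ⧸ R.subgroupOf K)), x = a * b) ∧ (∀ x : (↥K ⧸ R.subgroupOf K), ∃ a ∈ Subgroup.centralizer ((Cfsg.omegaOne p ((T : Subgroup (↥K ⧸ R.subgroupOf K)) ⊓ Subgroup.centralizer (((T : Subgroup (↥K ⧸ R.subgroupOf K)) : Subgroup (↥K ⧸ R.subgroupOf K)) : Set (↥K ⧸ R.subgroupOf K))) : Subgroup (↥K ⧸ R.subgroupOf K)) : Set (↥K ⧸ R.subgroupOf K)), ∃ b ∈ Subgroup.normalizer ((Cfsg.inducedFunctor (G := (↥K ⧸ R.subgroupOf K)) W₂ (T : Subgroup (↥K ⧸ R.subgroupOf K)) : Subgroup (↥K ⧸ R.subgroupOf K)) : Set (↥K ⧸ R.subgroupOf K)), x = a * b) ∧ (∀ x : (↥K ⧸ R.subgroupOf K), ∃ a ∈ Subgroup.normalizer ((Cfsg.inducedFunctor (G := (↥K ⧸ R.subgroupOf K)) W₁ (T : Subgroup (↥K ⧸ R.subgroupOf K)) : Subgroup (↥K ⧸ R.subgroupOf K)) : Set (↥K ⧸ R.subgroupOf K)), ∃ b ∈ Subgroup.normalizer ((Cfsg.inducedFunctor (G := (↥K ⧸ R.subgroupOf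 K)) W₂ (T : Subgroup (↥K ⧸ R.subgroupOf K)) : Subgroup (↥K ⧸ R.subgroupOf K)) : Set (↥K ⧸ R.subgroupOf K)), x = a * b)) (hZ : Cfsg.omegaOne p ((S : Subgroup G) ⊓ Subgroup.centralizer (((S : Subgroup G) : Subgroup G) : Set G)) ≤ Cfsg.inducedFunctor (G := G) W₁ (S : Subgroup G) ⊓ Cfsg.inducedFunctor (G := G) W₂ (S : Subgroup G)) (N₁ : Subgroup G) (hN₁ : N₁ = Subgroup.normalizer ((Cfsg.inducedFunctor (G := G) W₁ (S : Subgroup G) : Subgroup G) : Set G)) (A : Subgroup G) (hA : A = (Subgroup.normalClosure (((Cfsg.omegaOne p ((S : Subgroup G) ⊓ Subgroup.centralizer (((S : Subgroup G) : Subgroup G) : Set G))).subgroupOf N₁ : Subgroup ↥N₁) : Set ↥N₁)).map N₁.subtype) : A ≤ (S : Subgroup G) ∧ Cfsg.IsElementaryAbelian p A ∧ Cfsg.IsStronglyClosed A (S : Subgroup G) ∧ Cfsg.ControlsStrongFusion p A := by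
  subst hN₁
  have hS : IsPGroup p (S : Subgroup G) := S.2
  set Z := Cfsg.omegaOne p ((S : Subgroup G) ⊓ Subgroup.centralizer ((S : Subgroup G) : Set G))
    with hZd
  set V₁ := Cfsg.inducedFunctor (G := G) W₁ (S : Subgroup G) with hV₁
  set V₂ := Cfsg.inducedFunctor (G := G) W₂ (S : Subgroup G) with hV₂
  set N₁ := Subgroup.normalizer (V₁ : Set G) with hN₁
  set N₂ := Subgroup.normalizer (V₂ : Set G) with hN₂
  have hV₁S : V₁ ≤ (S : Subgroup G) := Subgroup.map_subtype_le _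
  have hV₂S : V₂ ≤ (S : Subgroup G) := Subgroup.map_subtype_le _
  have hc₁ := CfsgLib.Techniques.inducedFunctor_isConjugacyFunctor hW₁ G
  have hc₂ := CfsgLib.Techniques.inducedFunctor_isConjugacyFunctor hW₂ G
  have hSN₁ : (S : Subgroup G) ≤ N₁ := CfsgLib.Techniques.le_normalizer_functor hc₁ hS
  have hSN₂ : (S : Subgroup G) ≤ N₂ := CfsgLib.Techniques.le_normalizer_functor hc₂ hS
  obtain ⟨hZ₁, hZ₂⟩ := le_inf_iff.1 hZ
  let B : Subgroup G → Subgroup G := fun N =>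
    Subgroup.closure {y : G | ∃ n ∈ N, ∃ z ∈ Z, y = n * z * n⁻¹}
  have hBN : ∀ N : Subgroup G, N ≤ Subgroup.normalizer (B N : Set G) := by
    intro N m hm
    refine CfsgLib.Techniques.mem_normalizer_of_map_conj_eq (Subgroup.eq_of_le_of_card_ge ?_
      (CfsgLib.Techniques.card_map_conj (B N) m).ge)
    rw [MonoidHom.map_closure]
    refine Subgroup.closure_mono ?_
    rintro _ ⟨_, ⟨n, hn, z, hz, rfl⟩, rfl⟩
    exact ⟨m * n, mul_mem hm hn, z, hz, by simp [mul_assoc]⟩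
  have hZB : ∀ N : Subgroup G, Z ≤ B N := fun N z hz =>
    Subgroup.subset_closure ⟨1, one_mem _, z, hz, by simp⟩
  have hBle : ∀ N X : Subgroup G, Z ≤ X → N ≤ Subgroup.normalizer (X : Set G) → B N ≤ X := by
    intro N X hZX hNX
    refine (Subgroup.closure_le _).2 ?_
    rintro _ ⟨n, hn, z, hz, rfl⟩
    exact (Subgroup.mem_normalizer_iff.1 (hNX hn) z).1 (hZX hz)
  have hswap : ∀ (W : ∀ (Q : Type u) [Group Q], Subgroup Q) (hW : Cfsg.IsCharPFunctor.{u} p W)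
      (V : Subgroup G) (N : Subgroup G), N = Subgroup.normalizer (V : Set G) →
      V ≤ (S : Subgroup G) → Z ≤ V → (S : Subgroup G) ≤ N →
      (∀ x ∈ N, ∃ a ∈ Subgroup.centralizer (Z : Set G),
        ∃ b ∈ Subgroup.normalizer ((Cfsg.inducedFunctor W (S : Subgroup G) : Subgroup G) : Set G),
          x = a * b) →
      B N ≤ B (Subgroup.normalizer
        ((Cfsg.inducedFunctor W (S : Subgroup G) : Subgroup G) : Set G)) := by
    intro W _ V N _ _ _ _ hfac'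
    refine (Subgroup.closure_le _).2 ?_
    rintro _ ⟨n, hn, z, hz, rfl⟩
    obtain ⟨a, ha, b, hb, he⟩ := hfac' n⁻¹ (inv_mem hn)
    refine Subgroup.subset_closure ⟨b⁻¹, inv_mem hb, z, hz, ?_⟩
    have hn' : n = b⁻¹ * a⁻¹ := by rw [← mul_inv_rev, ← he, inv_inv]
    have haz : a⁻¹ * z * a = z := by
      rw [mul_assoc, Subgroup.mem_centralizer_iff.1 ha z hz, inv_mul_cancel_left]
    rw [hn']
    calc b⁻¹ * a⁻¹ * z * (b⁻¹ * a⁻¹)⁻¹ = b⁻¹ * (a⁻¹ * z * a) * b⁻¹⁻¹ := by group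
      _ = _ := by rw [haz]
  have hcore : ∀ V : Subgroup G, V ≤ (S : Subgroup G) → Z ≤ V →
      Z ≤ Cfsg.pCoreOf p (Subgroup.normalizer (V : Set G)) := by
    intro V hVS hZV z hz
    haveI : (V.subgroupOf (Subgroup.normalizer (V : Set G))).Normal := Subgroup.normal_in_normalizer
    exact ⟨⟨z, Subgroup.le_normalizer (hZV hz)⟩,
      CfsgLib.Core.le_pCore (N := V.subgroupOf (Subgroup.normalizer (V : Set G)))
        (hS.to_le hVS).comap_subtype (hZV hz), rfl⟩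
  have h12 : B N₁ = B N₂ := le_antisymm
    (hswap W₂ hW₂ V₁ N₁ rfl hV₁S hZ₁ hSN₁ (CfsgLib.Techniques.factor_of_sections S hW₂
      (fun K R _ hc T => (hfac K R hc T).2.1) N₁ hSN₁ (hcore V₁ hV₁S hZ₁)))
    (hswap W₁ hW₁ V₂ N₂ rfl hV₂S hZ₂ hSN₂ (CfsgLib.Techniques.factor_of_sections S hW₁
      (fun K R _ hc T => (hfac K R hc T).1) N₂ hSN₂ (hcore V₂ hV₂S hZ₂)))
  have hAB : A = B N₁ := by
    rw [hA]
    refine le_antisymm ?_ (hBle _ _ ?_ ?_)
    · rw [Subgroup.map_le_iff_le_comap]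
      haveI : ((B N₁).comap N₁.subtype).Normal :=
        ⟨fun v hv m => (Subgroup.mem_normalizer_iff.1 (hBN N₁ m.2) v).1 hv⟩
      exact Subgroup.normalClosure_le_normal (fun z hz => hZB N₁ hz)
    · intro z hz
      exact ⟨⟨z, Subgroup.le_normalizer (hZ₁ hz)⟩, Subgroup.subset_normalClosure hz, rfl⟩
    · intro m hm
      refine CfsgLib.Techniques.mem_normalizer_of_map_conj_eq (Subgroup.eq_of_le_of_card_ge ?_
        (CfsgLib.Techniques.card_map_conj _ m).ge)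
      rintro _ ⟨_, ⟨v, hv, rfl⟩, rfl⟩
      exact ⟨⟨m, hm⟩ * v * ⟨m, hm⟩⁻¹,
        Subgroup.normalClosure_normal.conj_mem v hv _, rfl⟩
  have hAV : A ≤ V₁ := hAB ▸ hBle N₁ V₁ hZ₁ le_rfl
  have hAS : A ≤ (S : Subgroup G) := hAV.trans hV₁S
  have hN₁A : N₁ ≤ Subgroup.normalizer (A : Set G) := hAB ▸ hBN N₁
  have hN₂A : N₂ ≤ Subgroup.normalizer (A : Set G) := by
    rw [hAB, h12]; exact hBN N₂
  have hAc : A ≤ Subgroup.centralizer (A : Set G) := by
    nth_rewrite 1 [hAB]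
    refine (Subgroup.closure_le _).2 ?_
    rintro _ ⟨n, hn, z, hz, rfl⟩
    refine Subgroup.mem_centralizer_iff.2 fun a ha => ?_
    have h1 : n⁻¹ * a * n ∈ (S : Subgroup G) :=
      hAS (by simpa using (Subgroup.mem_normalizer_iff.1 (hN₁A (inv_mem hn)) a).1 ha)
    have h2 := Subgroup.mem_centralizer_iff.1 (CfsgLib.Techniques.mem_omegaOne_center hz).1.2 _ h1
    calc a * (n * z * n⁻¹) = n * ((n⁻¹ * a * n) * z) * n⁻¹ := by group
      _ = n * (z * (n⁻¹ * a * n)) * n⁻¹ := by rw [h2]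
      _ = n * z * n⁻¹ * a := by group
  have hel : Cfsg.IsElementaryAbelian p A := by
    refine ⟨⟨⟨fun a b => Subtype.ext (Subgroup.mem_centralizer_iff.1 (hAc b.2) a a.2)⟩⟩,
      fun a ha => ?_⟩
    have ha' : a ∈ B N₁ := hAB ▸ ha
    have key : a ∈ A ∧ a ^ p = 1 := by
      induction ha' using Subgroup.closure_induction with
      | mem x hx =>
        refine ⟨hAB ▸ Subgroup.subset_closure hx, ?_⟩
        obtain ⟨n, hn, z, hz, rfl⟩ := hx
        rw [conj_pow, (CfsgLib.Techniques.mem_omegaOne_center hz).2, mul_one, mul_inv_cancel]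
      | one => exact ⟨one_mem _, one_pow _⟩
      | mul x y _ _ hx hy =>
        have hx' := hx (by rw [hAB]; assumption)
        have hy' := hy (by rw [hAB]; assumption)
        have hcom : Commute x y := Subgroup.mem_centralizer_iff.1 (hAc hy'.1) x hx'.1
        exact ⟨mul_mem hx'.1 hy'.1, by rw [hcom.mul_pow, hx'.2, hy'.2, one_mul]⟩
      | inv x _ hx =>
        have hx' := hx (by rw [hAB]; assumption)
        exact ⟨inv_mem hx'.1, by rw [inv_pow, hx'.2, inv_one]⟩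
    exact key.2
  have hfus := CfsgLib.Techniques.familyControlsFusion_at
    (𝓦 := {Cfsg.inducedFunctor (G := G) W₁, Cfsg.inducedFunctor (G := G) W₂})
    (fun V hV => by rcases hV with rfl | rfl; exacts [hc₁, hc₂])
    (Cfsg.Agent.S1996.result W₁ W₂ hW₁ hW₂ (fun K R _ hc T => (hfac K R hc T).2.2))
    (CfsgLib.Techniques.isSylowSub_sylow S)
  have key : ∀ (X : Set G) (g : G), X ⊆ ((S : Subgroup G) : Set G) →
      (fun a => g * a * g⁻¹) '' X ⊆ ((S : Subgroup G) : Set G) →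
      ∃ x ∈ Subgroup.normalizer (A : Set G), ∀ a ∈ X, g * a * g⁻¹ = x * a * x⁻¹ := by
    intro X g hX hgX
    refine (hfus X g (Subgroup.mem_top g) hX hgX).exists_mem ?_
    rintro m ⟨V, rfl | rfl, hm⟩
    · exact hN₁A (Subgroup.mem_inf.1 hm).2
    · exact hN₂A (Subgroup.mem_inf.1 hm).2
  refine ⟨hAS, hel, ⟨hAS, fun x hx g hg => ?_⟩, S, hAS, fun X hX => ⟨hX, fun g hg => key X g hX hg⟩⟩
  obtain ⟨m, hm, he⟩ := key {x} g (Set.singleton_subset_iff.2 (hAS hx))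
    (by rintro _ ⟨_, rfl, rfl⟩; exact hg)
  rw [he x rfl]
  exact (Subgroup.mem_normalizer_iff.1 hm x).1 hx

end Cfsg.Agent.S1997
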