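import Cfsg.Statements.S1998
import Cfsg.Agent.Lib.Techniques.Engel

set_option autoImplicit false
universe u
open Cfsg

namespace Cfsg.Agent.S1998

/-- Let p be a prime, G a finite group with Sylow p-subgroup S, and 𝓦 a nonempty set of isomorphism-invariant p-group functors (W assigns to every group Q a subgroup W(Q), nontrivial whenever Q is a nontrivial finite p-group, and every isomorphism from a finite p-group Q onto a group R carries W(Q) onto W(R)). Suppose the induced conjugacy functors control transfer in every section of G other than G itself, but not in G. Let T be the subgroup generated by the S ∩ (N_G(W(S)))', W ∈ 𝓦, and M = N_G(T ∩ O_p(G)). Then: C_G(O_p(G)) ≤ O_p(G); M is a proper subgroup of G containing every proper subgroup of G that contains S (the unique maximal subgroup over S); [O_p(G), M] ≤ O_p(G) ∩ M' ≤ O_p(G) ∩ T; and every element u of S outside O_p(G) satisfies [X, u, …, u] ≰ Y with p − 1 entries u, for some chief factor X/Y of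 G with X ≤ O_p(G). -/
theorem result {G : Type u} [Group G] [Finite G] {p : ℕ} [Fact p.Prime] (S : Sylow p G) (𝓦 : Set (∀ (Q : Type u) [Group Q], Subgroup Q)) (h𝓦 : ∀ W ∈ 𝓦, Cfsg.IsCharPFunctor.{u} p W) (hne : 𝓦.Nonempty) (hsec : ∀ (K R : Subgroup G) [hR : (R.subgroupOf K).Normal], (K = ⊤ → R ≠ ⊥) → Cfsg.FamilyControlsTransferIn p ((fun W => Cfsg.inducedFunctor (G := (↥K ⧸ R.subgroupOf K)) W) '' 𝓦) ⊤) (hG : ¬ Cfsg.FamilyControlsTransferIn p ((fun W => Cfsg.inducedFunctor (G := G) W) '' 𝓦) ⊤) (T M : Subgroup G) (hT : T = (⨆ W ∈ 𝓦, (S : Subgroup G) ⊓ ⁅Subgroup.normalizer ((Cfsg.inducedFunctor (G := G) W (S : Subgroup G) : Subgroup G) : Set G), Subgroup.normalizer ((Cfsg.inducedFunctor (G := G) W (S : Subgroup G) : Subgroup G) : Set G)⁆)) (hM : M = Subgroup.normalizer ((T ⊓ Cfsg.pCore p G : Subgroup G) : Set G)) : Subgroup.centralizer ((Cfsg.pCore p G : Subgroup G) : Set G) ≤ Cfsg.pCore p G ∧ (M ≠ ⊤ ∧ ∀ H : Subgroup G, (S : Subgroup G) ≤ H → H ≠ ⊤ → H ≤ M)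 ∧ (⁅Cfsg.pCore p G, M⁆ ≤ Cfsg.pCore p G ⊓ ⁅M, M⁆ ∧ Cfsg.pCore p G ⊓ ⁅M, M⁆ ≤ Cfsg.pCore p G ⊓ T) ∧ ∀ u : G, u ∈ (S : Subgroup G) → u ∉ Cfsg.pCore p G → ∃ U V : Subgroup G, Cfsg.IsChiefFactor U V ∧ U ≤ Cfsg.pCore p G ∧ ¬ Cfsg.iterCommutator U (Subgroup.zpowers u) (p - 1) ≤ V := by
  subst hT hM
  have hconv : (⨆ W ∈ 𝓦, (S : Subgroup G) ⊓ ⁅Subgroup.normalizer
      ((Cfsg.inducedFunctor (G := G) W (S : Subgroup G) : Subgroup G) : Set G),
      Subgroup.normalizer ((Cfsg.inducedFunctor (G := G) W (S : Subgroup G) : Subgroup G) : Set G)⁆) =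
      CfsgLib.Techniques.transferPart (CfsgLib.Techniques.inducedSet 𝓦 G) (S : Subgroup G) := by
    rw [CfsgLib.Techniques.transferPart, CfsgLib.Techniques.inducedSet, iSup_image]
    simp only [top_inf_eq]
  rw [hconv]
  have hctl : ∀ (H : Type u) [Group H] [Finite H], CfsgLib.Techniques.IsSec G H →
      Nat.card H < Nat.card G →
      Cfsg.FamilyControlsTransferIn p (CfsgLib.Techniques.inducedSet 𝓦 H) ⊤ := by
    intro H _ _ hs hlt
    obtain ⟨K, R, hn, ⟨e⟩⟩ := hs.exists_quotient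
    refine CfsgLib.Techniques.familyTransfer_congr h𝓦 e (hsec K R fun hK hR => ?_)
    subst hK hR
    refine hlt.ne ?_
    have hb : (⊥ : Subgroup G).subgroupOf ⊤ = ⊥ := Subgroup.bot_subgroupOf ⊤
    rw [← Nat.card_congr e.toEquiv, ← Subgroup.index_eq_card, hb, Subgroup.index_bot,
      Subgroup.card_top]
  have ind : ∀ L : Subgroup G, L ≠ ⊤ →
      Cfsg.FamilyControlsTransferIn p (CfsgLib.Techniques.inducedSet 𝓦 G) L := by
    intro L hL
    have h := CfsgLib.Techniques.familyTransfer_map h𝓦 L.subtype L.subtype_injective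
      (hctl L ((CfsgLib.Techniques.isSec_self G).subgroup L)
        (lt_of_le_of_ne (Subgroup.card_le_card_group L) fun h => hL (Subgroup.eq_top_of_card_eq L h)))
    rwa [Subgroup.range_subtype] at h
  have indq : ∀ N : Subgroup G, ∀ [N.Normal], N ≠ ⊥ →
      Cfsg.FamilyControlsTransferIn p (CfsgLib.Techniques.inducedSet 𝓦 (G ⧸ N)) ⊤ := by
    intro N _ hN
    refine hctl (G ⧸ N) ((CfsgLib.Techniques.isSec_self G).quotient N) ?_
    rw [← Subgroup.index_eq_card, ← Subgroup.card_mul_index N]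
    exact lt_mul_left (Nat.pos_of_ne_zero Subgroup.index_ne_zero_of_finite)
      (N.one_lt_card_iff_ne_bot.mpr hN)
  haveI : (Cfsg.pPrimeCore p G).Normal := CfsgLib.Core.normal_pPrimeCore p G
  haveI : (Cfsg.pCore p G).Normal := CfsgLib.Core.normal_pCore p G
  have hO : Cfsg.pPrimeCore p G = ⊥ := by
    by_contra hne'
    exact hG (CfsgLib.Techniques.familyControlsTransfer_of_le S
      (CfsgLib.Techniques.transfer_of_quotient_coprime h𝓦 _
        (CfsgLib.Core.coprime_card_pPrimeCore p G) (indq _ hne') S))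
  have hQ : Cfsg.pCore p G ≠ ⊥ := fun h =>
    hG (Cfsg.Agent.S1960.result S _ (CfsgLib.Techniques.inducedSet_conjugacy h𝓦 G)
      fun T hT hne' _ => ind _
        (CfsgLib.Techniques.normalizer_ne_top_of_pCore_bot h (S.2.to_le hT) hne'))
  have hfail := CfsgLib.Techniques.not_pCore_inf_le h𝓦 ind (indq _ hQ) hG S
  have hM := CfsgLib.Techniques.normalizer_transferPart_ne_top h𝓦 ind S hne hfail
  have hSM := CfsgLib.Techniques.le_normalizer_transferPart h𝓦 ind S
    (CfsgLib.Techniques.sylow_ne_top h𝓦 S hne hfail) le_rfl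
  refine ⟨by_contra fun hC => hG (CfsgLib.Techniques.familyControlsTransfer_of_le S
      (CfsgLib.Techniques.transfer_of_not_constrained h𝓦 hO hC ind (indq _ hQ) S)),
    ⟨hM, fun H hSH hH => CfsgLib.Techniques.le_normalizer_transferPart h𝓦 ind S hH hSH⟩,
    CfsgLib.Techniques.commutator_pCore_le h𝓦 ind S hM hSM,
    fun u hu huQ => CfsgLib.Techniques.exists_chiefFactor_not_engel h𝓦 ind S hne hfail u hu huQ⟩

end Cfsg.Agent.S1998
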