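import Cfsg.Statements.S1999
import Cfsg.Agent.Lib.PGroups.SFree.Fusion
import Cfsg.Agent.Lib.PGroups.QdFusion.Basic
import Cfsg.Agent.S2761

set_option autoImplicit false
open Cfsg

namespace Cfsg.Agent.S1999

/-- Let G be a finite group. The symmetric group of degree 4 is not involved in G if and only if, in every section K/R of G, the pair of conjugacy functors {Z, J_e} controls strong fusion (for the prime 2): here Z(P) is the centre and J_e(P) the subgroup generated by the elementary abelian subgroups of P of largest order, and control by the pair means that 2-fusion of tuples inside a Sylow 2-subgroup T of the section is generated, staying inside T, by conjugation inside N(Z(T)) and N(J_e(T)). -/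
theorem result {G : Type*} [Group G] [Finite G] : ¬ Cfsg.Involves (Equiv.Perm (Fin 4)) G ↔ ∀ (K R : Subgroup G) [hR : (R.subgroupOf K).Normal], Cfsg.FamilyControlsStrongFusionIn 2 ({fun P : Subgroup (↥K ⧸ R.subgroupOf K) => P ⊓ Subgroup.centralizer ((P : Subgroup (↥K ⧸ R.subgroupOf K)) : Set (↥K ⧸ R.subgroupOf K)), fun P : Subgroup (↥K ⧸ R.subgroupOf K) => Cfsg.thompsonSubgroupOf 2 P} : Set (Subgroup (↥K ⧸ R.subgroupOf K) → Subgroup (↥K ⧸ R.subgroupOf K))) ⊤ := by
  haveI : Fact (Nat.Prime 2) := ⟨Nat.prime_two⟩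
  have he : ∀ (K R : Subgroup G) [(R.subgroupOf K).Normal],
      CfsgLib.Techniques.inducedSet {CfsgLib.PGroups.SFree.centerFun, CfsgLib.PGroups.SFree.jeFun}
          (↥K ⧸ R.subgroupOf K) =
        ({fun P : Subgroup (↥K ⧸ R.subgroupOf K) => P ⊓ Subgroup.centralizer (P : Set (↥K ⧸ R.subgroupOf K)),
          fun P : Subgroup (↥K ⧸ R.subgroupOf K) => Cfsg.thompsonSubgroupOf 2 P} :
          Set (Subgroup (↥K ⧸ R.subgroupOf K) → Subgroup (↥K ⧸ R.subgroupOf K))) := by
    intro K R _
    rw [CfsgLib.Techniques.inducedSet, Set.image_pair]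
    congr 1
    exact funext fun P => CfsgLib.PGroups.SFree.induced_centerFun P
  refine ⟨fun hfree K R hR => he K R ▸ CfsgLib.PGroups.SFree.fusion_of_free hfree K R, ?_⟩
  rintro h ⟨K, R, hR, ⟨e⟩⟩
  obtain ⟨e₂⟩ := Cfsg.Agent.S2761.result
  refine CfsgLib.PGroups.QdFusion.not_familyControls (e₂.trans e.symm)
    (𝓦 := {CfsgLib.PGroups.SFree.centerFun, CfsgLib.PGroups.SFree.jeFun}) (fun W hW => ?_)
    ((he K R).symm ▸ @h K R hR)
  simp only [Set.mem_insert_iff, Set.mem_singleton_iff] at hW
  rcases hW with hW | hW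
  · exact hW ▸ CfsgLib.PGroups.SFree.centerFun_isChar 2
  · exact hW ▸ CfsgLib.PGroups.SFree.jeFun_isChar

end Cfsg.Agent.S1999
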