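import Cfsg.Statements.S2000
import Cfsg.Agent.Lib.PGroups.SFree.Fusion
import Cfsg.Agent.Lib.PGroups.QdFusion.Basic
import Cfsg.Agent.S2761
import Cfsg.Agent.Lib.Techniques.KInfTheorems
import Cfsg.Agent.Lib.PLocal.SLTwo.QdFree

set_option autoImplicit false
universe u
open Cfsg

namespace Cfsg.Agent.S2000

/-- Let p be a prime and G a finite group. Then Qd(p) (the natural semidirect product of an elementary abelian group of order p² by SL₂(p)) is not involved in G if and only if there is a set 𝓦 of isomorphism-invariant p-group functors (each nontrivial on nontrivial finite p-groups and carried onto W(R) by every isomorphism from a finite p-group Q onto R, hence with characteristic values on finite p-groups) whose induced conjugacy functors control strong fusion in every section of G. -/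
theorem result {G : Type u} [Group G] [Finite G] {p : ℕ} [Fact p.Prime] : ¬ Cfsg.Involves ↥(Cfsg.qd p) G ↔ ∃ 𝓦 : Set (∀ (Q : Type u) [Group Q], Subgroup Q), (∀ W ∈ 𝓦, Cfsg.IsCharPFunctor.{u} p W) ∧ ∀ (K R : Subgroup G) [hR : (R.subgroupOf K).Normal], Cfsg.FamilyControlsStrongFusionIn p ((fun W => Cfsg.inducedFunctor (G := (↥K ⧸ R.subgroupOf K)) W) '' 𝓦) ⊤ := by
  have hp : p.Prime := Fact.out
  constructor
  · intro hq
    rcases eq_or_ne p 2 with rfl | hp2
    · refine ⟨{CfsgLib.PGroups.SFree.centerFun, CfsgLib.PGroups.SFree.jeFun}, fun W hW => ?_,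
        fun K R hR => CfsgLib.PGroups.SFree.fusion_of_free ?_ K R⟩
      · simp only [Set.mem_insert_iff, Set.mem_singleton_iff] at hW
        rcases hW with hW | hW
        · exact hW ▸ CfsgLib.PGroups.SFree.centerFun_isChar 2
        · exact hW ▸ CfsgLib.PGroups.SFree.jeFun_isChar
      · rintro ⟨K, R, hR, ⟨e⟩⟩
        obtain ⟨e₂⟩ := Cfsg.Agent.S2761.result
        exact hq ⟨K, R, hR, ⟨e.trans e₂.symm⟩⟩
    · refine ⟨{Cfsg.kInfLower}, fun W hW => ?_, fun K R hR => ?_⟩
      · rw [Set.mem_singleton_iff] at hW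
        exact hW ▸ CfsgLib.Techniques.kInf_isCharPFunctor.1
      · have h𝓦 : ∀ V ∈ ({Cfsg.kInfLower} : Set (∀ (Q : Type u) [Group Q], Subgroup Q)),
            Cfsg.IsCharPFunctor.{u} p V := fun V hV => by
          rw [Set.mem_singleton_iff] at hV
          exact hV ▸ CfsgLib.Techniques.kInf_isCharPFunctor.1
        have hst : ∀ (K' R' : Subgroup (↥K ⧸ R.subgroupOf K)) [hR' : (R'.subgroupOf K').Normal],
            Cfsg.IsNormalizerPStable p (↥K' ⧸ R'.subgroupOf K') := fun K' R' hR' =>
          CfsgLib.PLocal.SLTwo.isNormalizerPStable_of_noQd hp2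
            (CfsgLib.PLocal.SLTwo.noQd_of_surjective _ (QuotientGroup.mk'_surjective _)
              (CfsgLib.PLocal.SLTwo.noQd_subgroup
                (CfsgLib.PLocal.SLTwo.noQd_of_surjective _ (QuotientGroup.mk'_surjective _)
                  (CfsgLib.PLocal.SLTwo.noQd_subgroup hq K)) K'))
        refine CfsgLib.Techniques.familyFusion_of_sections h𝓦 (fun X _ _ hs hc => ?_) _
          (CfsgLib.Techniques.isSec_self _)
        obtain ⟨S⟩ : Nonempty (Sylow p X) := inferInstance
        refine CfsgLib.Techniques.familyControls_of_spath S fun A y hA hAy =>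
          CfsgLib.Techniques.SPath.single ⟨_, ⟨_, rfl, rfl⟩, Subgroup.mem_inf.2 ⟨trivial, ?_⟩⟩ hA hAy
        haveI : (Cfsg.inducedFunctor (G := X) Cfsg.kInfLower (S : Subgroup X)).Normal := by
          by_contra hn
          obtain ⟨g, -, -, -, -, hcl⟩ := CfsgLib.Techniques.kBad_lower X S hn
          obtain ⟨U, V, hUV, hU, hquad, hne⟩ := hcl hc
          haveI := hUV.2.2.1
          obtain ⟨K', R', hR', ⟨e⟩⟩ := (hs.quotient V).exists_quotient
          exact CfsgLib.Techniques.not_isNormalizerPStable_quotient hUV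
            ((CfsgLib.Core.isPGroup_pCore p X).to_le hU) hquad hne
            (CfsgLib.Techniques.isNormalizerPStable_congr e (hst K' R'))
        show y ∈ Subgroup.normalizer
          ((Cfsg.inducedFunctor (G := X) Cfsg.kInfLower (S : Subgroup X) : Subgroup X) : Set X)
        rw [Subgroup.normalizer_eq_top]
        trivial
  · rintro ⟨𝓦, h𝓦, h⟩ ⟨K, R, hR, ⟨e⟩⟩
    exact CfsgLib.PGroups.QdFusion.not_familyControls e.symm h𝓦 (@h K R hR)

end Cfsg.Agent.S2000
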