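import Cfsg.Statements.S2001
import Cfsg.Agent.Lib.Techniques2.PairInduction

set_option autoImplicit false
open Cfsg
open scoped commutatorElement

namespace Cfsg.Agent.S2001

/-- Let p be a prime dividing the order of the finite group G, P a Sylow p-subgroup, W a conjugacy functor for p on G with Z(H) ≤ W(H) for every nontrivial p-subgroup H, and V a central functor: a conjugacy functor with V(H) ≤ Z(H), and V(H) ≤ V(K) whenever Z(H) ≤ Z(K), for nontrivial p-subgroups H, K. Say that W with V controls transfer in a subgroup L when some Sylow p-subgroup Q of L satisfies Q ∩ L' = (Q ∩ (N_L(W(Q)))')·(Q ∩ (C_L(V(Q)))') as a product of two subgroups. If W with V controls transfer in N_G(H) for every subgroup H with Z(P) ≤ H ≤ P, then W with V controls transfer in G. -/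
theorem result {G : Type*} [Group G] [Finite G] {p : ℕ} [Fact p.Prime] (hdiv : p ∣ Nat.card G) (P : Sylow p G) (W V : Subgroup G → Subgroup G) (hW : Cfsg.IsConjugacyFunctor p W) (hV : Cfsg.IsConjugacyFunctor p V) (hWZ : ∀ H : Subgroup G, IsPGroup p ↥H → H ⊓ Subgroup.centralizer ((H : Subgroup G) : Set G) ≤ W H) (hVZ : ∀ H : Subgroup G, IsPGroup p ↥H → V H ≤ H ⊓ Subgroup.centralizer ((H : Subgroup G) : Set G)) (hVmono : ∀ H K : Subgroup G, IsPGroup p ↥H → IsPGroup p ↥K → H ≠ ⊥ → K ≠ ⊥ → H ⊓ Subgroup.centralizer ((H : Subgroup G) : Set G) ≤ K ⊓ Subgroup.centralizer ((K : Subgroup G) : Set G) → V H ≤ V K) (hloc : ∀ H : Subgroup G, (P : Subgroup G) ⊓ Subgroup.centralizer (((P : Subgroup G) : Subgroup G) : Set G) ≤ H → H ≤ (P : Subgroup G) → ∃ Q : Subgroup G, Q ≤ Subgroup.normalizer ((H : Subgroup G) : Set G) ∧ IsPGroup p ↥Q ∧ ¬ p ∣ (Q).relIndex (Subgroup.normalizer ((H : Subgroup G) : Set G)) ∧ ∀ x : G, x ∈ Q ⊓ ⁅Subgroup.normalizer ((H : Subgroup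 G) : Set G), Subgroup.normalizer ((H : Subgroup G) : Set G)⁆ ↔ ∃ a ∈ Q ⊓ ⁅Subgroup.normalizer ((H : Subgroup G) : Set G) ⊓ Subgroup.normalizer ((W Q : Subgroup G) : Set G), Subgroup.normalizer ((H : Subgroup G) : Set G) ⊓ Subgroup.normalizer ((W Q : Subgroup G) : Set G)⁆, ∃ b ∈ Q ⊓ ⁅Subgroup.normalizer ((H : Subgroup G) : Set G) ⊓ Subgroup.centralizer ((V Q : Subgroup G) : Set G), Subgroup.normalizer ((H : Subgroup G) : Set G) ⊓ Subgroup.centralizer ((V Q : Subgroup G) : Set G)⁆, x = a * b) : ∃ Q : Subgroup G, IsPGroup p ↥Q ∧ ¬ p ∣ Q.index ∧ ∀ x : G, x ∈ Q ⊓ commutator G ↔ ∃ a ∈ Q ⊓ ⁅Subgroup.normalizer ((W Q : Subgroup G) : Set G), Subgroup.normalizer ((W Q : Subgroup G) : Set G)⁆, ∃ b ∈ Q ⊓ ⁅Subgroup.centralizer ((V Q : Subgroup G) : Set G), Subgroup.centralizer ((V Q : Subgroup G) : Set G)⁆, x = a * b := by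
  have hSp : IsPGroup p (P : Subgroup G) := P.2
  have hSne : (P : Subgroup G) ≠ ⊥ := fun h => P.ne_bot_of_dvd_card hdiv h
  set NW := Subgroup.normalizer (W (P : Subgroup G) : Set G) with hNW
  set CV := Subgroup.centralizer (V (P : Subgroup G) : Set G) with hCV
  set Z := ((P : Subgroup G) ⊓ ⁅NW, NW⁆) ⊔ ((P : Subgroup G) ⊓ ⁅CV, CV⁆) with hZ
  have hcent : ∀ (T : Subgroup G) (c : G),
      Subgroup.centralizer ((T.map (MulAut.conj c).toMonoidHom : Subgroup G) : Set G) =
        (Subgroup.centralizer (T : Set G)).map (MulAut.conj c).toMonoidHom := by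
    intro T c
    ext y
    rw [CfsgLib.Techniques.mem_map_conj_iff, Subgroup.mem_centralizer_iff,
      Subgroup.mem_centralizer_iff]
    refine ⟨fun h t ht => ?_, fun h t ht => ?_⟩
    · have := h (c * t * c⁻¹) ⟨t, ht, rfl⟩
      calc t * (c⁻¹ * y * c) = c⁻¹ * ((c * t * c⁻¹) * y) * c := by group
        _ = c⁻¹ * (y * (c * t * c⁻¹)) * c := by rw [this]
        _ = c⁻¹ * y * c * t := by group
    · obtain ⟨t, ht, rfl⟩ := ht
      have := h t ht
      show c * t * c⁻¹ * y = y * (c * t * c⁻¹)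
      calc c * t * c⁻¹ * y = c * (t * (c⁻¹ * y * c)) * c⁻¹ := by group
        _ = c * (c⁻¹ * y * c * t) * c⁻¹ := by rw [this]
        _ = y * (c * t * c⁻¹) := by group
  have main := CfsgLib.Techniques.pair_induction P
    (fun A g => ∀ a ∈ A, g * a * g⁻¹ * a⁻¹ ∈ Z)
    (fun U => (P : Subgroup G) ⊓ Subgroup.normalizer (U : Set G) ⊓
      ⁅Subgroup.normalizer (U : Set G), Subgroup.normalizer (U : Set G)⁆ ≤ Z)
    (fun A g h B hB a ha => h a (hB ha))
    (fun A g k h1 h2 a ha => by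
      have := Z.mul_mem (h2 _ ⟨a, ha, rfl⟩) (h1 a ha)
      simpa [mul_assoc] using this)
    (fun A g g' h he a ha => by rw [he a ha]; exact h a ha)
    (fun U hU hfull hK x hx a ha => hK (Subgroup.mem_inf.mpr
      ⟨(le_inf hU Subgroup.le_normalizer : U ≤ _)
          (mul_mem ((Subgroup.mem_normalizer_iff.mp hx a).mp ha) (inv_mem ha)),
        Subgroup.commutator_mem_commutator hx (Subgroup.le_normalizer ha)⟩))
    ?_
  · refine ⟨(P : Subgroup G), hSp, by
      simpa [Subgroup.relIndex_top_right] using (CfsgLib.Techniques.isSylowSub_sylow P).2.2,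
      fun x => ?_⟩
    have hnorm : (P : Subgroup G) ⊓ ⁅NW, NW⁆ ≤
        Subgroup.normalizer (((P : Subgroup G) ⊓ ⁅CV, CV⁆ : Subgroup G) : Set G) := by
      intro q hq
      have hqS := (Subgroup.mem_inf.1 hq).1
      refine CfsgLib.Techniques.mem_normalizer_of_map_conj_eq ?_
      rw [CfsgLib.Techniques.map_conj_inf, CfsgLib.Techniques.map_conj_commutator,
        CfsgLib.Techniques.map_conj_of_mem hqS, hCV, ← hcent,
        ← CfsgLib.Techniques.functor_map hV hSp, CfsgLib.Techniques.map_conj_of_mem hqS]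
    constructor
    · intro hx
      have hfoc := CfsgLib.Transfer.commutator_inf_le_of_fusion P Z fun a ha g hg => by
        have := main (Subgroup.zpowers a⁻¹) g⁻¹ (Subgroup.zpowers_le.mpr (inv_mem ha)) (by
          rw [Subgroup.map_le_iff_le_comap, Subgroup.zpowers_le]
          show g⁻¹ * a⁻¹ * g⁻¹⁻¹ ∈ (P : Subgroup G)
          simpa [mul_assoc] using (P : Subgroup G).inv_mem hg) _ (Subgroup.mem_zpowers a⁻¹)
        simpa [mul_assoc] using Z.inv_mem this
      have hxZ : x ∈ Z := hfoc ⟨(Subgroup.mem_inf.1 hx).2, (Subgroup.mem_inf.1 hx).1⟩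
      rw [hZ, ← SetLike.mem_coe, Subgroup.coe_mul_of_left_le_normalizer_right _ _ hnorm] at hxZ
      obtain ⟨u, hu, v, hv, rfl⟩ := hxZ
      exact ⟨u, hu, v, hv, rfl⟩
    · rintro ⟨u, hu, v, hv, rfl⟩
      obtain ⟨hu1, hu2⟩ := Subgroup.mem_inf.1 hu
      obtain ⟨hv1, hv2⟩ := Subgroup.mem_inf.1 hv
      refine Subgroup.mem_inf.2 ⟨mul_mem hu1 hv1, ?_⟩
      rw [commutator_def]
      exact mul_mem (Subgroup.commutator_mono le_top le_top hu2)
        (Subgroup.commutator_mono le_top le_top hv2)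
  intro U hU hfull hgood hK hD
  set P₀ := (P : Subgroup G) ⊓ Subgroup.normalizer (U : Set G) with hP₀
  have hP₀p : IsPGroup p P₀ := hSp.to_le inf_le_left
  obtain ⟨a, ha1, ha2⟩ := hgood
  obtain ⟨Q', hQ'le, hQ'p, hQ'i, hQ'⟩ := hloc _ ha1 ha2
  have hsyl : CfsgLib.Techniques.IsSylowSub p (Q'.map (MulAut.conj a⁻¹).toMonoidHom)
      (Subgroup.normalizer (U : Set G)) := by
    have h := CfsgLib.Techniques.IsSylowSub.map_conj
      (show CfsgLib.Techniques.IsSylowSub p Q' _ from ⟨hQ'le, hQ'p, hQ'i⟩) a⁻¹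
    rwa [← CfsgLib.Techniques.normalizer_map_conj',
      CfsgLib.Techniques.map_conj_inv_conj] at h
  obtain ⟨n₀, hn₀, hn₀Q⟩ := (hfull.isSylowSub hSp).exists_conj_eq hsyl
  set g := n₀ * a⁻¹ with hg
  rw [CfsgLib.Techniques.map_conj_conj, ← hg, ← hP₀] at hn₀Q
  have hNg : (Subgroup.normalizer (U.map (MulAut.conj a).toMonoidHom : Set G)).map
      (MulAut.conj g).toMonoidHom = Subgroup.normalizer (U : Set G) := by
    rw [← CfsgLib.Techniques.normalizer_map_conj', CfsgLib.Techniques.map_conj_conj, hg,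
      inv_mul_cancel_right, CfsgLib.Techniques.map_conj_of_mem_normalizer hn₀]
  intro y hy
  obtain ⟨u, hu, v, hv, huv⟩ := (hQ' (g⁻¹ * y * g)).1 (by
    rw [← CfsgLib.Techniques.mem_map_conj_iff, CfsgLib.Techniques.map_conj_inf,
      CfsgLib.Techniques.map_conj_commutator, hNg, hn₀Q]
    exact hy)
  have hy' : y = g * u * g⁻¹ * (g * v * g⁻¹) := by
    calc y = g * (g⁻¹ * y * g) * g⁻¹ := by group
      _ = _ := by rw [huv]; group
  rw [hy']
  refine Z.mul_mem ?_ ?_
  · -- the `W` factor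
    have hu' : g * u * g⁻¹ ∈ P₀ ⊓
        ⁅Subgroup.normalizer (U : Set G) ⊓ Subgroup.normalizer (W P₀ : Set G),
          Subgroup.normalizer (U : Set G) ⊓ Subgroup.normalizer (W P₀ : Set G)⁆ := by
      rw [← hn₀Q, CfsgLib.Techniques.functor_map hW hQ'p, ← hNg,
        CfsgLib.Techniques.normalizer_map_conj' g (W Q'), ← CfsgLib.Techniques.map_conj_inf,
        ← CfsgLib.Techniques.map_conj_commutator, ← CfsgLib.Techniques.map_conj_inf]
      exact ⟨u, hu, rfl⟩
    obtain ⟨hw0, hwc⟩ := Subgroup.mem_inf.1 hu'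
    rcases eq_or_lt_of_le (inf_le_left : P₀ ≤ (P : Subgroup G)) with he | hlt
    · rw [show P₀ = (P : Subgroup G) from he] at hwc hw0
      exact Subgroup.mem_sup_left (Subgroup.mem_inf.2
        ⟨hw0, Subgroup.commutator_mono inf_le_right inf_le_right hwc⟩)
    set P₁ := (P : Subgroup G) ⊓ Subgroup.normalizer (W P₀ : Set G) with hP₁
    have hgrow : P₀ < P₁ := CfsgLib.Techniques.lt_inf_normalizer_functor hW hSp hlt
    have hWS : W P₀ ≤ (P : Subgroup G) :=
      (CfsgLib.Techniques.functor_le hW hP₀p).trans inf_le_left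
    have hZW : (P : Subgroup G) ⊓ Subgroup.centralizer ((P : Subgroup G) : Set G) ≤ W P₀ :=
      le_trans (fun z hz => show z ∈ P₀ ⊓ Subgroup.centralizer (P₀ : Set G) from
        ⟨⟨hz.1, Subgroup.centralizer_le_normalizer _
          (Subgroup.centralizer_le (SetLike.coe_subset_coe.2 hU) hz.2)⟩,
          Subgroup.centralizer_le (SetLike.coe_subset_coe.2 inf_le_left) hz.2⟩) (hWZ P₀ hP₀p)
    obtain ⟨b, hbS, hbfull, hbsub⟩ := CfsgLib.Techniques.exists_fullyNormalized_conj P hWS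
    set U₂ := (W P₀).map (MulAut.conj b).toMonoidHom with hU₂
    have hle : Nat.card P₁ ≤
        Nat.card ((P : Subgroup G) ⊓ Subgroup.normalizer (U₂ : Set G) : Subgroup G) := by
      rw [← CfsgLib.Techniques.card_map_conj P₁ b]
      exact Subgroup.card_le_of_le hbsub
    have hlt₁ : Nat.card P₀ < Nat.card P₁ := CfsgLib.Transfer.card_lt_of_lt hgrow
    have hstr₂ := hK U₂ hbS hbfull
      ((CfsgLib.Techniques.hasConjOverCenter_of_le hZW hWS).conj b) (lt_of_lt_of_le hlt₁ hle)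
    have hw1 : g * u * g⁻¹ ∈ P₁ := hgrow.le hw0
    have h1 : b * (g * u * g⁻¹) * b⁻¹ ∈ Z := by
      refine hstr₂ (Subgroup.mem_inf.mpr ⟨hbsub ⟨_, hw1, rfl⟩, ?_⟩)
      rw [hU₂, CfsgLib.Techniques.normalizer_map_conj', ← CfsgLib.Techniques.map_conj_commutator]
      exact ⟨_, Subgroup.commutator_mono inf_le_right inf_le_right hwc, rfl⟩
    have h2 := hD hlt P₁ b inf_le_left (hbsub.trans inf_le_left) hlt₁.le _ hw1
    have := Z.mul_mem (Z.inv_mem h2) h1
    simpa [mul_assoc] using this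
  · -- the `V` factor
    have hv' : g * v * g⁻¹ ∈ P₀ ⊓
        ⁅Subgroup.normalizer (U : Set G) ⊓ Subgroup.centralizer (V P₀ : Set G),
          Subgroup.normalizer (U : Set G) ⊓ Subgroup.centralizer (V P₀ : Set G)⁆ := by
      rw [← hn₀Q, CfsgLib.Techniques.functor_map hV hQ'p, ← hNg, hcent,
        ← CfsgLib.Techniques.map_conj_inf, ← CfsgLib.Techniques.map_conj_commutator,
        ← CfsgLib.Techniques.map_conj_inf]
      exact ⟨v, hv, rfl⟩
    obtain ⟨hw0, hwc⟩ := Subgroup.mem_inf.1 hv'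
    have hP₀ne : P₀ ≠ ⊥ := by
      intro h
      have hU0 : U = ⊥ := le_bot_iff.1 (h ▸ le_inf hU Subgroup.le_normalizer)
      refine hSne (le_bot_iff.1 (h ▸ le_inf le_rfl ?_))
      rw [hU0, Subgroup.normalizer_eq_top]
      exact le_top
    have hVV : V (P : Subgroup G) ≤ V P₀ := hVmono _ _ hSp hP₀p hSne hP₀ne fun z hz =>
      ⟨⟨hz.1, Subgroup.centralizer_le_normalizer _
        (Subgroup.centralizer_le (SetLike.coe_subset_coe.2 hU) hz.2)⟩,
        Subgroup.centralizer_le (SetLike.coe_subset_coe.2 inf_le_left) hz.2⟩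
    exact Subgroup.mem_sup_right (Subgroup.mem_inf.2 ⟨(Subgroup.mem_inf.1 hw0).1,
      Subgroup.commutator_mono
        (inf_le_right.trans (Subgroup.centralizer_le (SetLike.coe_subset_coe.2 hVV)))
        (inf_le_right.trans (Subgroup.centralizer_le (SetLike.coe_subset_coe.2 hVV))) hwc⟩)

end Cfsg.Agent.S2001
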