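import Cfsg.Statements.S2002
import Cfsg.Agent.Lib.Techniques2.PairInduction

set_option autoImplicit false
open Cfsg

namespace Cfsg.Agent.S2002

/-- Let p be a prime dividing the order of the finite group G, P a Sylow p-subgroup, W a conjugacy functor for p on G with Z(H) ≤ W(H) for every nontrivial p-subgroup H, and V a central functor (a conjugacy functor with V(H) ≤ Z(H), and V(H) ≤ V(K) whenever Z(H) ≤ Z(K)). Say that W with V controls strong fusion in a subgroup L when some Sylow p-subgroup Q of L has the property: whenever X ⊆ Q and a ∈ L with a⁻¹Xa ⊆ Q, then a = c b with c ∈ C_L(X) and b = b₁ ⋯ bₙ a product of elements each in N_L(W(Q)) or in C_L(V(Q)) such that every partial conjugate (b₁ ⋯ bₖ)⁻¹ X (b₁ ⋯ bₖ) lies in Q. If W with V controls strong fusion in N_G(H) for every subgroup H with Z(P) ≤ H ≤ P, then W with V controls strong fusion in G. -/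
theorem result {G : Type*} [Group G] [Finite G] {p : ℕ} [Fact p.Prime] (hdiv : p ∣ Nat.card G) (P : Sylow p G) (W V : Subgroup G → Subgroup G) (hW : Cfsg.IsConjugacyFunctor p W) (hV : Cfsg.IsConjugacyFunctor p V) (hWZ : ∀ H : Subgroup G, IsPGroup p ↥H → H ⊓ Subgroup.centralizer ((H : Subgroup G) : Set G) ≤ W H) (hVZ : ∀ H : Subgroup G, IsPGroup p ↥H → V H ≤ H ⊓ Subgroup.centralizer ((H : Subgroup G) : Set G)) (hVmono : ∀ H K : Subgroup G, IsPGroup p ↥H → IsPGroup p ↥K → H ≠ ⊥ → K ≠ ⊥ → H ⊓ Subgroup.centralizer ((H : Subgroup G) : Set G) ≤ K ⊓ Subgroup.centralizer ((K : Subgroup G) : Set G) → V H ≤ V K) (hloc : ∀ H : Subgroup G, (P : Subgroup G) ⊓ Subgroup.centralizer (((P : Subgroup G) : Subgroup G) : Set G) ≤ H → H ≤ (P : Subgroup G) → ∃ Q : Subgroup G, Q ≤ Subgroup.normalizer ((H : Subgroup G) : Set G) ∧ IsPGroup p ↥Q ∧ ¬ p ∣ (Q).relIndex (Subgroup.normalizer ((H : Subgroup G) : Set G)) ∧ ∀ (X : Set G) (a : G), X ⊆ Q → a ∈ Subgroup.normalizer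 ((H : Subgroup G) : Set G) → (fun x => a⁻¹ * x * a) '' X ⊆ Q → ∃ c ∈ Subgroup.normalizer ((H : Subgroup G) : Set G) ⊓ Subgroup.centralizer X, ∃ (n : ℕ) (b : Fin n → G), (∀ i, b i ∈ Subgroup.normalizer ((H : Subgroup G) : Set G) ⊓ Subgroup.normalizer ((W Q : Subgroup G) : Set G) ∨ b i ∈ Subgroup.normalizer ((H : Subgroup G) : Set G) ⊓ Subgroup.centralizer ((V Q : Subgroup G) : Set G)) ∧ a = c * (List.ofFn b).prod ∧ ∀ k : ℕ, k ≤ n → (fun x => (((List.ofFn b).take k).prod)⁻¹ * x * ((List.ofFn b).take k).prod) '' ((fun x => c⁻¹ * x * c) '' X) ⊆ Q) : ∃ Q : Subgroup G, IsPGroup p ↥Q ∧ ¬ p ∣ Q.index ∧ ∀ (X : Set G) (a : G), X ⊆ Q → (fun x => a⁻¹ * x * a) '' X ⊆ Q → ∃ c ∈ Subgroup.centralizer X, ∃ (n : ℕ) (b : Fin n → G), (∀ i, b i ∈ ⊤ ⊓ Subgroup.normalizer ((W Q : Subgroup G) : Set G) ∨ b i ∈ ⊤ ⊓ Subgroup.centralizer ((V Q : Subgroup G) : Set G)) ∧ a = c * (List.ofFn b).prod ∧ ∀ k : ℕ, k ≤ n → (fun x => (((List.ofFn b).take k).prod)⁻¹ * x * ((List.ofFn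 b).take k).prod) '' ((fun x => c⁻¹ * x * c) '' X) ⊆ Q := by
  have hSp : IsPGroup p (P : Subgroup G) := P.2
  have hSne : (P : Subgroup G) ≠ ⊥ := fun h => P.ne_bot_of_dvd_card hdiv h
  set M : Set G := {m | m ∈ Subgroup.normalizer (W (P : Subgroup G) : Set G) ∨
    m ∈ Subgroup.centralizer (V (P : Subgroup G) : Set G)} with hM
  have hsingle : ∀ (A : Set G) (m : G), m ∈ M → A ⊆ ((P : Subgroup G) : Set G) →
      (fun y => m * y * m⁻¹) '' A ⊆ ((P : Subgroup G) : Set G) →
      CfsgLib.Techniques.SPath (P : Subgroup G) M A m := fun A m hm h1 h2 => by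
    have h := CfsgLib.Techniques.SPath.step A m 1 hm h1 (.one _ h2)
    rwa [one_mul] at h
  have main := CfsgLib.Techniques.pair_induction P
    (fun A g => CfsgLib.Techniques.SPath (P : Subgroup G) M A g)
    (fun U => ∀ x ∈ Subgroup.normalizer (U : Set G), ∀ B : Set G,
      B ⊆ (((P : Subgroup G) ⊓ Subgroup.normalizer (U : Set G) : Subgroup G) : Set G) →
      (fun b => x * b * x⁻¹) '' B ⊆
        (((P : Subgroup G) ⊓ Subgroup.normalizer (U : Set G) : Subgroup G) : Set G) →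
      CfsgLib.Techniques.SPath (P : Subgroup G) M B x)
    (fun A g h => h.mono) (fun A g k h1 h2 => h1.trans h2)
    (fun A g g' h he => .congr A g g' h he)
    (fun U hU hfull hstr x hx => hstr x hx U
      (SetLike.coe_subset_coe.2 (le_inf hU Subgroup.le_normalizer)) (by
        rintro _ ⟨u, hu, rfl⟩
        exact le_inf hU Subgroup.le_normalizer ((Subgroup.mem_normalizer_iff.1 hx u).1 hu)))
    ?_
  · refine ⟨(P : Subgroup G), hSp, by
      simpa [Subgroup.relIndex_top_right] using (CfsgLib.Techniques.isSylowSub_sylow P).2.2, fun X a hX hXa => ?_⟩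
    have hg : (Subgroup.closure X).map (MulAut.conj a⁻¹).toMonoidHom ≤ (P : Subgroup G) := by
      rw [Subgroup.map_le_iff_le_comap, Subgroup.closure_le]
      intro x hx
      have := hXa ⟨x, hx, rfl⟩
      simpa using this
    have h := (main _ a⁻¹ ((Subgroup.closure_le _).2 hX) hg).mono X Subgroup.subset_closure
    obtain ⟨n, c, h0, h1, h2, h3⟩ := h.exists_fin
    let b : Fin n → G := fun i => c i.castSucc * (c i.succ)⁻¹
    have key : ∀ k (hk : k ≤ n),
        ((List.ofFn b).take k).prod = (c ⟨k, Nat.lt_succ_of_le hk⟩)⁻¹ := by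
      intro k
      induction k with
      | zero =>
        intro _
        rw [show (⟨0, Nat.lt_succ_of_le (Nat.zero_le n)⟩ : Fin (n + 1)) = 0 from rfl, h0]
        simp
      | succ k ih =>
        intro hk
        rw [List.prod_take_succ (List.ofFn b) k (by rw [List.length_ofFn]; omega),
          ih (by omega), List.getElem_ofFn]
        simp only [b, Fin.castSucc_mk, Fin.succ_mk]
        group
    have htot : (List.ofFn b).prod = (c (Fin.last n))⁻¹ := by
      have := key n le_rfl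
      rwa [List.take_of_length_le (by simp)] at this
    have hcX : a * c (Fin.last n) ∈ Subgroup.centralizer X := by
      rw [Subgroup.mem_centralizer_iff]
      intro x hx
      calc x * (a * c (Fin.last n)) = a * (a⁻¹ * x * a⁻¹⁻¹) * c (Fin.last n) := by group
        _ = a * (c (Fin.last n) * x * (c (Fin.last n))⁻¹) * c (Fin.last n) := by rw [h3 x hx]
        _ = a * c (Fin.last n) * x := by group
    refine ⟨a * c (Fin.last n), hcX, n, b, fun i => ?_, by rw [htot]; group, fun k hk => ?_⟩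
    · have hb : b i = (c i.succ * (c i.castSucc)⁻¹)⁻¹ := by simp [b]
      rw [hb]
      rcases h1 i with h | h
      · exact Or.inl (Subgroup.mem_inf.2 ⟨Subgroup.mem_top _, inv_mem h⟩)
      · exact Or.inr (Subgroup.mem_inf.2 ⟨Subgroup.mem_top _, inv_mem h⟩)
    · rintro _ ⟨_, ⟨x, hx, rfl⟩, rfl⟩
      rw [key k hk]
      have e : (a * c (Fin.last n))⁻¹ * x * (a * c (Fin.last n)) = x := by
        rw [mul_assoc, Subgroup.mem_centralizer_iff.1 hcX x hx, inv_mul_cancel_left]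
      have := h2 ⟨k, Nat.lt_succ_of_le hk⟩ ⟨x, hx, rfl⟩
      show (c ⟨k, _⟩)⁻¹⁻¹ * ((a * c (Fin.last n))⁻¹ * x * (a * c (Fin.last n))) *
        (c ⟨k, _⟩)⁻¹ ∈ (P : Subgroup G)
      rw [inv_inv, e]
      exact this
  intro U hU hfull hgood hK hD x hx B hB hxB
  set P₀ := (P : Subgroup G) ⊓ Subgroup.normalizer (U : Set G) with hP₀
  have hP₀p : IsPGroup p P₀ := hSp.to_le inf_le_left
  obtain ⟨a, ha1, ha2⟩ := hgood
  obtain ⟨Q', hQ'le, hQ'p, hQ'i, hQ'⟩ := hloc _ ha1 ha2
  have hsyl : CfsgLib.Techniques.IsSylowSub p (Q'.map (MulAut.conj a⁻¹).toMonoidHom)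
      (Subgroup.normalizer (U : Set G)) := by
    have h := CfsgLib.Techniques.IsSylowSub.map_conj
      (show CfsgLib.Techniques.IsSylowSub p Q' _ from ⟨hQ'le, hQ'p, hQ'i⟩) a⁻¹
    rwa [← CfsgLib.Techniques.normalizer_map_conj',
      CfsgLib.Techniques.map_conj_inv_conj] at h
  obtain ⟨n₀, hn₀, hn₀Q⟩ := (hfull.isSylowSub hSp).exists_conj_eq hsyl
  set g := n₀ * a⁻¹ with hg
  rw [CfsgLib.Techniques.map_conj_conj, ← hg, ← hP₀] at hn₀Q
  have hUg : ((U.map (MulAut.conj a).toMonoidHom).map (MulAut.conj g).toMonoidHom) = U := by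
    rw [CfsgLib.Techniques.map_conj_conj, hg, inv_mul_cancel_right,
      CfsgLib.Techniques.map_conj_of_mem_normalizer hn₀]
  have hNg : ∀ y, y ∈ Subgroup.normalizer (U.map (MulAut.conj a).toMonoidHom : Set G) ↔
      g * y * g⁻¹ ∈ Subgroup.normalizer (U : Set G) := by
    intro y
    conv_rhs => rw [← hUg, CfsgLib.Techniques.normalizer_map_conj',
      CfsgLib.Techniques.mem_map_conj_iff]
    simp [mul_assoc]
  -- a step inside `N(U)`
  have hstep : ∀ m ∈ Subgroup.normalizer (U : Set G),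
      (m ∈ Subgroup.normalizer (W P₀ : Set G) ∨ m ∈ Subgroup.centralizer (V P₀ : Set G)) →
      ∀ A : Set G, A ⊆ (P₀ : Set G) → (fun y => m * y * m⁻¹) '' A ⊆ (P₀ : Set G) →
      CfsgLib.Techniques.SPath (P : Subgroup G) M A m := by
    intro m hm hm' A hA hmA
    have hAS : A ⊆ ((P : Subgroup G) : Set G) := fun y hy => (hA hy).1
    have hmAS : (fun y => m * y * m⁻¹) '' A ⊆ ((P : Subgroup G) : Set G) :=
      fun y hy => (hmA hy).1
    have hZP : (P : Subgroup G) ⊓ Subgroup.centralizer ((P : Subgroup G) : Set G) ≤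
        P₀ ⊓ Subgroup.centralizer (P₀ : Set G) := fun z hz =>
      ⟨⟨hz.1, Subgroup.centralizer_le_normalizer _
        (Subgroup.centralizer_le (SetLike.coe_subset_coe.2 hU) hz.2)⟩,
        Subgroup.centralizer_le (SetLike.coe_subset_coe.2 inf_le_left) hz.2⟩
    rcases hm' with hm' | hm'
    · rcases eq_or_lt_of_le (inf_le_left : P₀ ≤ (P : Subgroup G)) with he | hlt
      · rw [show P₀ = (P : Subgroup G) from he] at hm'
        exact hsingle _ _ (Or.inl hm') hAS hmAS
      set P₁ := (P : Subgroup G) ⊓ Subgroup.normalizer (W P₀ : Set G) with hP₁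
      have hgrow : P₀ < P₁ := CfsgLib.Techniques.lt_inf_normalizer_functor hW hSp hlt
      have hWS : W P₀ ≤ (P : Subgroup G) :=
        (CfsgLib.Techniques.functor_le hW hP₀p).trans inf_le_left
      have hgood₁ : CfsgLib.Techniques.HasConjOverCenter (P : Subgroup G) (W P₀) :=
        CfsgLib.Techniques.hasConjOverCenter_of_le (hZP.trans (hWZ P₀ hP₀p)) hWS
      obtain ⟨b, hbS, hbfull, hbsub⟩ := CfsgLib.Techniques.exists_fullyNormalized_conj P hWS
      set U₂ := (W P₀).map (MulAut.conj b).toMonoidHom with hU₂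
      have hle : Nat.card P₁ ≤
          Nat.card ((P : Subgroup G) ⊓ Subgroup.normalizer (U₂ : Set G) : Subgroup G) := by
        rw [← CfsgLib.Techniques.card_map_conj P₁ b]
        exact Subgroup.card_le_of_le hbsub
      have hlt₁ : Nat.card P₀ < Nat.card P₁ := CfsgLib.Transfer.card_lt_of_lt hgrow
      have hstr₂ := hK U₂ hbS hbfull (hgood₁.conj b) (lt_of_lt_of_le hlt₁ hle)
      have hA₁ : A ⊆ (P₁ : Set G) := fun y hy => hgrow.le (hA hy)
      have hmA₁ : (fun y => m * y * m⁻¹) '' A ⊆ (P₁ : Set G) := fun y hy => hgrow.le (hmA hy)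
      have p1 : CfsgLib.Techniques.SPath (P : Subgroup G) M A b :=
        (hD hlt P₁ b inf_le_left (hbsub.trans inf_le_left) hlt₁.le).mono A hA₁
      have hn₂ : b * m * b⁻¹ ∈ Subgroup.normalizer (U₂ : Set G) := by
        rw [hU₂, CfsgLib.Techniques.normalizer_map_conj', CfsgLib.Techniques.mem_map_conj_iff]
        simpa [mul_assoc] using hm'
      have p2 : CfsgLib.Techniques.SPath (P : Subgroup G) M A (b * m * b⁻¹ * b) := by
        refine p1.trans (hstr₂ _ hn₂ _ ?_ ?_)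
        · rintro _ ⟨y, hy, rfl⟩
          exact hbsub ⟨y, hA₁ hy, rfl⟩
        · rintro _ ⟨_, ⟨y, hy, rfl⟩, rfl⟩
          exact hbsub ⟨m * y * m⁻¹, hmA₁ ⟨y, hy, rfl⟩, by simp [mul_assoc]⟩
      have p3 := hD hlt (P₁.map (MulAut.conj b).toMonoidHom) b⁻¹ (hbsub.trans inf_le_left)
        (by rw [CfsgLib.Techniques.map_conj_inv_conj]; exact inf_le_left)
        (by rw [CfsgLib.Techniques.card_map_conj]; exact hlt₁.le)
      have p4 : CfsgLib.Techniques.SPath (P : Subgroup G) M A (b⁻¹ * (b * m * b⁻¹ * b)) := by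
        refine p2.trans (p3.mono _ ?_)
        rintro _ ⟨y, hy, rfl⟩
        refine ⟨m * y * m⁻¹, hmA₁ ⟨y, hy, rfl⟩, ?_⟩
        simp [mul_assoc]
      rwa [show b⁻¹ * (b * m * b⁻¹ * b) = m by group] at p4
    · have hP₀ne : P₀ ≠ ⊥ := by
        intro h
        have hU0 : U = ⊥ := le_bot_iff.1 (h ▸ le_inf hU Subgroup.le_normalizer)
        refine hSne (le_bot_iff.1 (h ▸ le_inf le_rfl ?_))
        rw [hU0, Subgroup.normalizer_eq_top]
        exact le_top
      have hVV : V (P : Subgroup G) ≤ V P₀ := hVmono _ _ hSp hP₀p hSne hP₀ne hZP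
      exact hsingle _ _
        (Or.inr (Subgroup.centralizer_le (SetLike.coe_subset_coe.2 hVV) hm')) hAS hmAS
  -- transport of the local hypothesis
  have hQP : ∀ y, y ∈ P₀ ↔ g⁻¹ * y * g ∈ Q' := by
    intro y
    rw [← hn₀Q, CfsgLib.Techniques.mem_map_conj_iff]
  set y := g⁻¹ * x * g with hy
  set X := (fun z => g⁻¹ * z * g) '' B with hX
  obtain ⟨c, hc, n, b, hb, hprod, hpath⟩ := hQ' X y⁻¹
    (by rintro _ ⟨z, hz, rfl⟩; exact (hQP z).1 (hB hz))
    (inv_mem ((hNg y).2 (by simpa [hy, mul_assoc] using hx)))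
    (by
      rintro _ ⟨_, ⟨z, hz, rfl⟩, rfl⟩
      have := (hQP _).1 (hxB ⟨z, hz, rfl⟩)
      simpa [hy, mul_assoc] using this)
  have hcX := Subgroup.mem_centralizer_iff.1 (Subgroup.mem_inf.1 hc).2
  have hcX' : ∀ w ∈ X, c⁻¹ * w * c = w := fun w hw => by
    rw [mul_assoc, hcX w hw, inv_mul_cancel_left]
  let T : ℕ → G := fun k => ((List.ofFn b).take k).prod
  have hT0 : T 0 = 1 := by simp [T]
  have hTk : ∀ k, k ≤ n → ∀ z ∈ B, g * ((T k)⁻¹ * (g⁻¹ * z * g) * T k) * g⁻¹ ∈ P₀ := by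
    intro k hk z hz
    have h := hpath k hk ⟨g⁻¹ * z * g, ⟨g⁻¹ * z * g, ⟨z, hz, rfl⟩, hcX' _ ⟨z, hz, rfl⟩⟩, rfl⟩
    rw [hQP]
    simpa [mul_assoc] using h
  have hstepT : ∀ k (hk : k < n), CfsgLib.Techniques.SPath (P : Subgroup G) M
      ((fun z => g * (T k)⁻¹ * g⁻¹ * z * (g * (T k)⁻¹ * g⁻¹)⁻¹) '' B)
      (g * (b ⟨k, hk⟩)⁻¹ * g⁻¹) := by
    intro k hk
    have hsucc : T (k + 1) = T k * b ⟨k, hk⟩ := by
      simp only [T]
      rw [List.prod_take_succ (List.ofFn b) k (by rw [List.length_ofFn]; exact hk),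
        List.getElem_ofFn]
    refine hstep _ ?_ ?_ _ ?_ ?_
    · rcases hb ⟨k, hk⟩ with h | h <;>
        exact (hNg _).1 (inv_mem (Subgroup.mem_inf.1 h).1)
    · rcases hb ⟨k, hk⟩ with h | h
      · left
        rw [← hn₀Q, CfsgLib.Techniques.functor_map hW hQ'p,
          CfsgLib.Techniques.normalizer_map_conj', CfsgLib.Techniques.mem_map_conj_iff]
        simpa [mul_assoc] using inv_mem (Subgroup.mem_inf.1 h).2
      · right
        rw [← hn₀Q, CfsgLib.Techniques.functor_map hV hQ'p, Subgroup.mem_centralizer_iff]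
        rintro _ ⟨v, hv, rfl⟩
        have := Subgroup.mem_centralizer_iff.1 (inv_mem (Subgroup.mem_inf.1 h).2) v hv
        simp [MulAut.conj_apply, mul_assoc, ← mul_assoc v, this]
    · rintro _ ⟨z, hz, rfl⟩
      have := hTk k hk.le z hz
      simpa [mul_assoc] using this
    · rintro _ ⟨_, ⟨z, hz, rfl⟩, rfl⟩
      have := hTk (k + 1) hk z hz
      rw [hsucc] at this
      simpa [mul_assoc] using this
  have hall : ∀ k, k ≤ n → CfsgLib.Techniques.SPath (P : Subgroup G) M B (g * (T k)⁻¹ * g⁻¹) := by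
    intro k
    induction k with
    | zero =>
      intro _
      rw [hT0]
      simpa using CfsgLib.Techniques.SPath.one B (fun z hz => (hB hz).1)
    | succ k ih =>
      intro hk
      have h := (ih (by omega)).trans (hstepT k hk)
      have hsucc : T (k + 1) = T k * b ⟨k, hk⟩ := by
        simp only [T]
        rw [List.prod_take_succ (List.ofFn b) k (by rw [List.length_ofFn]; omega),
          List.getElem_ofFn]
      rw [hsucc]
      simpa [mul_assoc] using h
  refine .congr B _ x (hall n le_rfl) fun z hz => ?_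
  have hTn : T n = c⁻¹ * y⁻¹ := by
    simp only [T]
    rw [List.take_of_length_le (by simp), hprod]
    group
  have hcz := hcX (g⁻¹ * z * g) ⟨z, hz, rfl⟩
  rw [hTn, hy]
  calc x * z * x⁻¹ = g * ((g⁻¹ * x * g) * ((g⁻¹ * z * g) * c) * c⁻¹ * (g⁻¹ * x * g)⁻¹) * g⁻¹ := by
        group
    _ = g * ((g⁻¹ * x * g) * (c * (g⁻¹ * z * g)) * c⁻¹ * (g⁻¹ * x * g)⁻¹) * g⁻¹ := by rw [hcz]
    _ = _ := by group

end Cfsg.Agent.S2002
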