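import Cfsg.Statements.S2005
import Cfsg.Agent.Lib.Techniques.Criterion

set_option autoImplicit false
universe u
open Cfsg

namespace Cfsg.Agent.S2005

/-- Thompson's normal p-complement criterion in functor form. Let p be a prime, G a finite group with Sylow p-subgroup S, and W an isomorphism-invariant p-group functor (W assigns to every group Q a subgroup W(Q), nontrivial whenever Q is a nontrivial finite p-group, and every isomorphism from a finite p-group Q onto a group R carries W(Q) onto W(R)). Suppose N_G(W(S)) has a normal p-complement, and that W(S*) is normal in G* whenever G* = K/R is a section of G with C_{G*}(O_p(G*)) ≤ O_p(G*) such that G*/O_p(G*) has a normal p-complement, and S* is a Sylow p-subgroup of G* that is a maximal subgroup of G*. Then G has a normal p-complement. -/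
theorem result {G : Type u} [Group G] [Finite G] {p : ℕ} [Fact p.Prime] (W : ∀ (Q : Type u) [Group Q], Subgroup Q) (hW : Cfsg.IsCharPFunctor.{u} p W) (S : Sylow p G) (hN : Cfsg.HasNormalPComplement p ↥(Subgroup.normalizer ((Cfsg.inducedFunctor (G := G) W (S : Subgroup G) : Subgroup G) : Set G))) (hloc : ∀ (K R : Subgroup G) [hR : (R.subgroupOf K).Normal], Subgroup.centralizer ((Cfsg.pCore p (↥K ⧸ R.subgroupOf K) : Subgroup (↥K ⧸ R.subgroupOf K)) : Set (↥K ⧸ R.subgroupOf K)) ≤ Cfsg.pCore p (↥K ⧸ R.subgroupOf K) → Cfsg.HasNormalPComplement p ((↥K ⧸ R.subgroupOf K) ⧸ Cfsg.pCore p (↥K ⧸ R.subgroupOf K)) → ∀ T : Sylow p (↥K ⧸ R.subgroupOf K), IsCoatom (T : Subgroup (↥K ⧸ R.subgroupOf K)) → (Cfsg.inducedFunctor (G := (↥K ⧸ R.subgroupOf K)) W ((T : Subgroup (↥K ⧸ R.subgroupOf K)))).Normal) : Cfsg.HasNormalPComplement p G := by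
  refine CfsgLib.Techniques.complement_criterion hW (fun H _ _ hs T hf => ?_) G
    (CfsgLib.Techniques.isSec_self G) S hN
  obtain ⟨K, R, hn, e, T', hT'⟩ := hs.exists_sylow_iso T
  have hQe := CfsgLib.Core.map_equiv_pCore (p := p) e
  refine hf.not_normal ?_
  have h := (hloc K R (CfsgLib.PLocal.centralizer_pCore_le_congr e.symm hf.charP) ?_ T' ?_).map
    e.toMonoidHom e.surjective
  · rwa [← CfsgLib.Techniques.inducedFunctor_map hW T'.2 _ e.injective.injOn, hT'] at h
  · refine CfsgLib.Transfer.hasNormalPComplement_of_surjective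
      (QuotientGroup.map (Cfsg.pCore p H) (Cfsg.pCore p (↥K ⧸ R.subgroupOf K)) e.symm.toMonoidHom
        (Subgroup.map_le_iff_le_comap.mp (CfsgLib.Core.map_equiv_pCore (p := p) e.symm).le))
      ?_ hf.quotient
    intro y
    obtain ⟨x, rfl⟩ := QuotientGroup.mk'_surjective _ y
    exact ⟨QuotientGroup.mk' _ (e x), congrArg (QuotientGroup.mk' _) (e.symm_apply_apply x)⟩
  · have h := hf.coatom
    rw [← hT'] at h
    exact (OrderIso.isCoatom_iff (e.mapSubgroup) (T' : Subgroup (↥K ⧸ R.subgroupOf K))).mp h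

end Cfsg.Agent.S2005
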