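import Cfsg.Statements.S2006
import Cfsg.Agent.Lib.Techniques.DegreeP

set_option autoImplicit false
universe u
open Cfsg

namespace Cfsg.Agent.S2006

/-- Let p be a prime, G a finite group with Sylow p-subgroup S, and W an isomorphism-invariant p-group functor (W assigns to every group Q a subgroup W(Q), nontrivial whenever Q is a nontrivial finite p-group, and every isomorphism from a finite p-group Q onto a group R carries W(Q) onto W(R)). Suppose N_G(W(S)) has a normal p-complement, and that whenever G* = K/R is a section of G with C_{G*}(O_p(G*)) ≤ O_p(G*) and S* is a Sylow p-subgroup of G* with W(S*) not normal in G*, there are an element g of S* outside O_p(G*) and a chief factor X/Y of G* with X ≤ O_p(G*) such that [X, g, …, g] ≤ Y with p − 1 entries g but [X, g] ≰ Y. Then G has a normal p-complement. -/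
theorem result {G : Type u} [Group G] [Finite G] {p : ℕ} [Fact p.Prime] (W : ∀ (Q : Type u) [Group Q], Subgroup Q) (hW : Cfsg.IsCharPFunctor.{u} p W) (S : Sylow p G) (hN : Cfsg.HasNormalPComplement p ↥(Subgroup.normalizer ((Cfsg.inducedFunctor (G := G) W (S : Subgroup G) : Subgroup G) : Set G))) (hloc : ∀ (K R : Subgroup G) [hR : (R.subgroupOf K).Normal], Subgroup.centralizer ((Cfsg.pCore p (↥K ⧸ R.subgroupOf K) : Subgroup (↥K ⧸ R.subgroupOf K)) : Set (↥K ⧸ R.subgroupOf K)) ≤ Cfsg.pCore p (↥K ⧸ R.subgroupOf K) → ∀ T : Sylow p (↥K ⧸ R.subgroupOf K), ¬ (Cfsg.inducedFunctor (G := (↥K ⧸ R.subgroupOf K)) W ((T : Subgroup (↥K ⧸ R.subgroupOf K)))).Normal → ∃ g : (↥K ⧸ R.subgroupOf K), g ∈ (T : Subgroup (↥K ⧸ R.subgroupOf K)) ∧ g ∉ Cfsg.pCore p (↥K ⧸ R.subgroupOf K) ∧ ∃ U V : Subgroup (↥K ⧸ R.subgroupOf K), Cfsg.IsChiefFactor U V ∧ U ≤ Cfsg.pCore p (↥K ⧸ R.subgroupOf K) ∧ Cfsg.iterCommutator U (Subgroup.zpowers g) (p - 1) ≤ V ∧ ¬ ⁅U, Subgroup.zpowers g⁆ ≤ V) : Cfsg.HasNormalPComplement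 p G := by
  refine CfsgLib.Techniques.complement_criterion hW (fun H _ _ hs T hf => ?_) G
    (CfsgLib.Techniques.isSec_self G) S hN
  obtain ⟨K, R, hn, e, T', hT'⟩ := hs.exists_sylow_iso T
  have hQe := CfsgLib.Core.map_equiv_pCore (p := p) e
  obtain ⟨g, hgT, -, U, V, hUV, hUQ, hdeg, hact⟩ :=
    hloc K R (CfsgLib.PLocal.centralizer_pCore_le_congr e.symm hf.charP) T' (fun h => hf.not_normal (by
      have h1 := h.map e.toMonoidHom e.surjective
      rwa [← CfsgLib.Techniques.inducedFunctor_map hW T'.2 _ e.injective.injOn, hT'] at h1))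
  refine hact ((Subgroup.map_le_map_iff_of_injective
    (show Function.Injective e.toMonoidHom from e.injective)).mp ?_)
  rw [Subgroup.map_commutator, MonoidHom.map_zpowers]
  refine CfsgLib.Techniques.commutator_le_of_degree hf (hT'.le ⟨g, hgT, rfl⟩)
    (CfsgLib.Techniques.isChiefFactor_map e hUV) ((Subgroup.map_mono hUQ).trans hQe.le) ?_
  rw [← CfsgLib.Techniques.iterCommutator_map]
  exact Subgroup.map_mono hdeg

end Cfsg.Agent.S2006
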