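import Cfsg.Statements.S2007
import Cfsg.Agent.Lib.Techniques.Functor
import Cfsg.Agent.Lib.Transfer.PResidual
import Mathlib.GroupTheory.Transfer

set_option autoImplicit false
open Cfsg

namespace Cfsg.Agent.S2007

/-- Let p be a prime, G a finite group with Sylow p-subgroup S, and T a normal subgroup of S containing C_S(T). If N_G(T)/C_G(T) is a p-group (every element of N_G(T) of order prime to p centralizes T), then N_G(T) has a normal p-complement. -/
theorem result {G : Type*} [Group G] [Finite G] {p : ℕ} [Fact p.Prime] (S : Sylow p G) (T : Subgroup G) (hTS : T ≤ (S : Subgroup G)) (hTn : (S : Subgroup G) ≤ Subgroup.normalizer ((T : Subgroup G) : Set G)) (hC : (S : Subgroup G) ⊓ Subgroup.centralizer ((T : Subgroup G) : Set G) ≤ T) (hN : ∀ g ∈ Subgroup.normalizer ((T : Subgroup G) : Set G), (orderOf g).Coprime p → g ∈ Subgroup.centralizer ((T : Subgroup G) : Set G)) : Cfsg.HasNormalPComplement p ↥(Subgroup.normalizer ((T : Subgroup G) : Set G)) := by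
  set N := Subgroup.normalizer ((T : Subgroup G) : Set G) with hNdef
  set C := Subgroup.centralizer ((T : Subgroup G) : Set G) with hC'
  have hCN : C ≤ N := by
    intro c hc
    rw [hNdef, Subgroup.mem_normalizer_iff]
    intro x
    constructor
    · intro hx
      rwa [← (Subgroup.mem_centralizer_iff.mp hc x hx), mul_inv_cancel_right]
    · intro hx
      have := Subgroup.mem_centralizer_iff.mp hc _ hx
      have e : x = c * x * c⁻¹ := by
        calc x = c⁻¹ * (c * x * c⁻¹ * c) := by group
          _ = c⁻¹ * (c * (c * x * c⁻¹)) := by rw [this]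
          _ = c * x * c⁻¹ := by group
      rw [e]; exact hx
  -- the Sylow subgroup of `N` lying over `C`
  obtain ⟨R, hR⟩ : ∃ R : Sylow p N, (R : Subgroup N) = ((S : Subgroup G).subgroupOf N) := by
    exact ⟨S.subtype hTn, rfl⟩
  haveI : (T.subgroupOf N).Normal := Subgroup.normal_subgroupOf_of_le_normalizer le_rfl
  haveI hCn : (C.subgroupOf N).Normal := Subgroup.normal_subgroupOf_of_le_normalizer
    (CfsgLib.Transfer.normalizer_le_normalizer_centralizer T)
  have hres : Cfsg.pResidual p N ≤ C.subgroupOf N := by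
    refine CfsgLib.Transfer.pResidual_le_iff.mpr fun g hg => ?_
    exact Subgroup.mem_subgroupOf.mpr (hN g g.2 (by rwa [Subgroup.orderOf_coe]))
  rw [CfsgLib.Transfer.hasNormalPComplement_iff_coprime]
  set K := Cfsg.pResidual p N with hK
  -- `K` has a central Sylow subgroup, hence a normal complement, and `O^p(K) = K`
  obtain ⟨Q⟩ : Nonempty (Sylow p K) := inferInstance
  have hQc : Subgroup.normalizer ((Q : Subgroup K) : Set K) ≤ Subgroup.centralizer ((Q : Subgroup K) : Set K) := by
    intro g _
    rw [Subgroup.mem_centralizer_iff]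
    intro q hq
    -- conjugate `q` into `S`, where it lands in `T`
    have hQp : IsPGroup p ((Q : Subgroup K).map K.subtype) := Q.2.map _
    obtain ⟨n, hn⟩ := CfsgLib.Techniques.exists_conj_mem_sylow R hQp
    have hqS : ((n * (q : N) * n⁻¹ : N) : G) ∈ (S : Subgroup G) := by
      have := hn (q : N) ⟨q, hq, rfl⟩
      rwa [hR, Subgroup.mem_subgroupOf] at this
    have hqC : ((n * (q : N) * n⁻¹ : N) : G) ∈ C :=
      Subgroup.mem_subgroupOf.mp (hCn.conj_mem _ (hres q.2) n)
    have hqT : ((n * (q : N) * n⁻¹ : N) : G) ∈ T := hC ⟨hqS, hqC⟩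
    have hqT' : ((q : N) : G) ∈ T := by
      have := (Subgroup.mem_normalizer_iff.mp (n⁻¹ : N).2 _).mp hqT
      simpa [mul_assoc] using this
    exact Subtype.ext (Subtype.ext (Subgroup.mem_centralizer_iff.mp (hres g.2) _ hqT'))
  have h := CfsgLib.Transfer.hasNormalPComplement_iff_coprime.mp
    ⟨Q, _, inferInstance, MonoidHom.ker_transferSylow_isComplement' Q hQc⟩
  rwa [hK, CfsgLib.Transfer.pResidual_pResidual, Subgroup.card_top] at h

end Cfsg.Agent.S2007
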