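import Cfsg.Statements.S2008
import Cfsg.Agent.Lib.Techniques.Involution

set_option autoImplicit false
open Cfsg

namespace Cfsg.Agent.S2008

/-- Let H be a finite group and z an involution such that every proper normal subgroup of H meets the centralizer of z trivially, and suppose z lies in a Klein four-subgroup E of H all three of whose involutions are conjugate to z in H. Then H has no non-trivial abelian normal subgroup. -/
theorem result {H : Type*} [Group H] [Finite H] (z : H) (hz : orderOf z = 2) (hN : ∀ N : Subgroup H, N.Normal → N ≠ ⊤ → N ⊓ Subgroup.centralizer ({z} : Set H) = ⊥) (E : Subgroup H) (hE : IsKleinFour ↥E) (hzE : z ∈ E) (hc : ∀ e ∈ E, e ≠ 1 → IsConj z e) (N : Subgroup H) [N.Normal] (hab : IsMulCommutative ↥N) : N = ⊥ := by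
  have hz1 : z ≠ 1 := fun h => by rw [h, orderOf_one] at hz; exact absurd hz (by norm_num)
  refine CfsgLib.Techniques.eq_bot_of_normal_ne_top hN hE hzE hz1 hc N fun htop => ?_
  subst htop
  have hall : ∀ e ∈ E, e ≠ 1 → e = z := by
    intro e he he1
    obtain ⟨g, hg⟩ := isConj_iff.mp (hc e he he1)
    rw [← hg]
    have := congrArg Subtype.val (hab.is_comm.comm ⟨g, trivial⟩ ⟨z, trivial⟩)
    simp at this
    rw [this, mul_inv_cancel_right]
  haveI := hE
  have hcard : Nat.card E ≤ 2 := by
    have hsurj : Function.Surjective (fun b : Bool => if b then (⟨z, hzE⟩ : E) else 1) := by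
      rintro ⟨e, he⟩
      by_cases h1 : e = 1
      · exact ⟨false, Subtype.ext h1.symm⟩
      · exact ⟨true, Subtype.ext (hall e he h1).symm⟩
    simpa using Nat.card_le_card_of_surjective _ hsurj
  rw [IsKleinFour.card_four] at hcard
  omega

end Cfsg.Agent.S2008
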