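import Cfsg.Statements.S2011
import Cfsg.Agent.Lib.Techniques.Centric
import Cfsg.Agent.Lib.Techniques.TI
import Cfsg.Agent.Lib.Techniques.Basic

set_option autoImplicit false
open Cfsg

namespace Cfsg.Agent.S2011

/-- Let G be a finite group with Sylow p-subgroup P and Q ≤ P. Then Q is centric in the fusion system of G on P (C_P(R) ≤ R for every G-conjugate R of Q lying in P) if and only if C_G(Q) is the internal direct product of Z(Q) = Q ∩ C_G(Q) and the largest normal subgroup of C_G(Q) of order prime to p. -/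
theorem result {G : Type*} [Group G] [Finite G] (p : ℕ) [Fact p.Prime] (P : Sylow p G) (Q : Subgroup G) (hQ : Q ≤ P) : (Cfsg.groupFusionSystem (P : Subgroup G)).IsCentric Q ↔ Cfsg.IsInternalDirectProduct (Q ⊓ Subgroup.centralizer (Q : Set G)) ((Cfsg.pPrimeCore p ↥(Subgroup.centralizer (Q : Set G))).map (Subgroup.centralizer (Q : Set G)).subtype) (Subgroup.centralizer (Q : Set G)) := by
  set C := Subgroup.centralizer (Q : Set G) with hC
  set O := (Cfsg.pPrimeCore p C).map C.subtype with hO
  have hQp : IsPGroup p Q := P.2.to_le hQ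
  constructor
  · intro hcent
    obtain ⟨T, -, hT⟩ := CfsgLib.Techniques.exists_isSylowSub (p := p)
      (bot_le : (⊥ : Subgroup G) ≤ C) IsPGroup.of_bot
    have hTC : T ≤ Subgroup.normalizer (Q : Set G) := fun t ht => by
      rw [Subgroup.mem_normalizer_iff]
      intro x
      constructor
      · intro hx
        rwa [← Subgroup.mem_centralizer_iff.mp (hT.1 ht) x hx, mul_inv_cancel_right]
      · intro hx
        have e := Subgroup.mem_centralizer_iff.mp (hT.1 ht) _ hx
        have : x = t * x * t⁻¹ := by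
          calc x = t⁻¹ * (t * x * t⁻¹ * t) := by group
            _ = t⁻¹ * (t * (t * x * t⁻¹)) := by rw [e]
            _ = t * x * t⁻¹ := by group
        rw [this]; exact hx
    have hQT : IsPGroup p (Q ⊔ T : Subgroup G) :=
      CfsgLib.Techniques.isPGroup_sup_of_le_normalizer hQp hT.2.1 hTC
    obtain ⟨a, ha⟩ := CfsgLib.Techniques.exists_conj_le_sylow P hQT
    set R := Q.map (MulAut.conj a).toMonoidHom with hR
    have hRP : R ≤ (P : Subgroup G) := (Subgroup.map_mono le_sup_left).trans ha
    have hR' := hcent.2 R ⟨(MulAut.conj a).toMonoidHom.comp Q.subtype,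
      ⟨hQ, fun x => hRP ⟨x, x.2, rfl⟩, a, fun x => rfl⟩, by
        rw [MonoidHom.range_comp, Subgroup.range_subtype]⟩
    have hTQ : T ≤ Q := by
      intro t ht
      have hmem : a * t * a⁻¹ ∈ R := hR' (Subgroup.mem_inf.mpr
        ⟨ha ⟨t, Subgroup.mem_sup_right ht, rfl⟩, Subgroup.mem_centralizer_iff.mpr fun r hr => by
          obtain ⟨q, hq, rfl⟩ := hr
          have := Subgroup.mem_centralizer_iff.mp (hT.1 ht) q hq
          calc a * q * a⁻¹ * (a * t * a⁻¹) = a * (q * t) * a⁻¹ := by group
            _ = a * (t * q) * a⁻¹ := by rw [this]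
            _ = a * t * a⁻¹ * (a * q * a⁻¹) := by group⟩)
      simpa [CfsgLib.Techniques.mem_map_conj_iff, mul_assoc, hR] using hmem
    exact (CfsgLib.Techniques.centralizer_eq_of_sylow_le hQp hT hTQ).1
  · rintro ⟨-, -, hcomm, hdis, hsup⟩
    refine ⟨hQ, ?_⟩
    rintro R ⟨φ, ⟨-, -, g, hg⟩, hφ⟩ x hx
    obtain ⟨hxP, hxC⟩ := Subgroup.mem_inf.mp hx
    have hmemR : ∀ q ∈ Q, g * q * g⁻¹ ∈ R := fun q hq => hφ ▸ ⟨⟨q, hq⟩, hg ⟨q, hq⟩⟩
    set y := g⁻¹ * x * g with hy
    have hyC : y ∈ C := by
      rw [hC, Subgroup.mem_centralizer_iff]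
      intro q hq
      have := Subgroup.mem_centralizer_iff.mp hxC _ (hmemR q hq)
      calc q * y = g⁻¹ * (g * q * g⁻¹ * x) * g := by rw [hy]; group
        _ = g⁻¹ * (x * (g * q * g⁻¹)) * g := by rw [this]
        _ = y * q := by rw [hy]; group
    obtain ⟨k, hk⟩ := IsPGroup.iff_orderOf.mp P.2 ⟨x, hxP⟩
    have hyord : orderOf y = p ^ k := by
      have : y = MulAut.conj g⁻¹ x := by simp [hy]
      rw [this, MulEquiv.orderOf_eq]
      rwa [Subgroup.orderOf_mk] at hk
    rw [← hsup] at hyC
    have hnorm : O ≤ Subgroup.normalizer ((Q ⊓ C : Subgroup G) : Set G) := fun o ho =>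
      CfsgLib.Techniques.mem_normalizer_of_map_conj_eq (by
        ext z
        rw [CfsgLib.Techniques.mem_map_conj_iff]
        constructor
        · intro h
          have e := hcomm _ h o ho
          have : o⁻¹ * z * o = z := mul_right_cancel (b := o) (by rw [e]; group)
          rwa [this] at h
        · intro h
          rw [mul_assoc, hcomm z h o ho, inv_mul_cancel_left]
          exact h)
    obtain ⟨z, hz, o, ho, hzo⟩ := (CfsgLib.OddLocal.mem_sup_of_le_normalizer hnorm).mp hyC
    obtain ⟨l, hl⟩ := IsPGroup.iff_orderOf.mp hQp ⟨z, hz.1⟩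
    rw [Subgroup.orderOf_mk] at hl
    have hoy : orderOf o ∣ p ^ (l + k) := by
      have e : o = z⁻¹ * y := by rw [hzo]; group
      have hc : Commute z⁻¹ y := by
        refine Commute.inv_left ?_
        show z * y = y * z
        rw [hzo, mul_assoc z o z, ← hcomm z hz o ho]
      rw [e, orderOf_dvd_iff_pow_eq_one, hc.mul_pow, pow_add, ← hl, ← hyord, inv_pow, pow_mul, pow_mul',
        pow_orderOf_eq_one, pow_orderOf_eq_one, one_pow, one_pow, inv_one, one_mul]
    have hoc : (orderOf o).Coprime p := by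
      refine Nat.Coprime.coprime_dvd_left (Subgroup.orderOf_dvd_natCard O ho) ?_
      rw [hO, Subgroup.card_map_of_injective C.subtype_injective]
      exact CfsgLib.Core.coprime_card_pPrimeCore p _
    have ho1 : o = 1 := orderOf_eq_one_iff.mp ((hoc.pow_right (l + k)).eq_one_of_dvd hoy)
    have hyQ : y ∈ Q := by rw [hzo, ho1, mul_one]; exact hz.1
    have := hmemR y hyQ
    rw [hy] at this
    simpa [mul_assoc] using this

end Cfsg.Agent.S2011
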