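import Cfsg.Statements.S2012
import Cfsg.Agent.Lib.Techniques.Path
import Cfsg.Agent.Lib.Transfer.Alperin

set_option autoImplicit false
open Cfsg

namespace Cfsg.Agent.S2012

/-- Alperin's fusion Theorem with the factors taken to be p-elements: let P be a Sylow p-subgroup of a finite group G, A a subset of P and g an element with g⁻¹Ag ⊆ P. Then g = x_1 ⋯ x_n where, for each i, Q_i is a Sylow p-subgroup with P ∩ Q_i a tame intersection (the normalizers in P and in Q_i of P ∩ Q_i are Sylow in N_G(P ∩ Q_i)), x_i normalizes P ∩ Q_i, x_i has p-power order unless Q_i = P, A ⊆ P ∩ Q_1, and (x_1 ⋯ x_i)⁻¹ A (x_1 ⋯ x_i) lies in P ∩ Q_{i+1} for i < n. -/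
theorem result {G : Type*} [Group G] [Finite G] {p : ℕ} [Fact p.Prime] (P : Sylow p G) (A : Set G) (g : G) (hA : A ⊆ (P : Set G)) (hAg : (fun a => g⁻¹ * a * g) '' A ⊆ (P : Set G)) : ∃ (n : ℕ) (Q : Fin n → Sylow p G) (x : Fin n → G), (List.ofFn x).prod = g ∧ (∀ i : Fin n, x i ∈ Subgroup.normalizer ((((P : Subgroup G) ⊓ (Q i : Subgroup G)) : Subgroup G) : Set G) ∧ ¬ p ∣ ((P : Subgroup G) ⊓ Subgroup.normalizer ((((P : Subgroup G) ⊓ (Q i : Subgroup G)) : Subgroup G) : Set G)).relIndex (Subgroup.normalizer ((((P : Subgroup G) ⊓ (Q i : Subgroup G)) : Subgroup G) : Set G)) ∧ ¬ p ∣ ((Q i : Subgroup G) ⊓ Subgroup.normalizer ((((P : Subgroup G) ⊓ (Q i : Subgroup G)) : Subgroup G) : Set G)).relIndex (Subgroup.normalizer ((((P : Subgroup G) ⊓ (Q i : Subgroup G)) : Subgroup G) : Set G)) ∧ ((Q i : Subgroup G) = (P : Subgroup G) ∨ ∃ k : ℕ, orderOf (x i) = p ^ k)) ∧ (∀ h : 0 < n, A ⊆ (((P : Subgroup G) ⊓ (Q ⟨0, h⟩ : Subgroup G) : Subgroup G) : Set G)) ∧ ∀ i : Fin n, ∀ h : i.val + 1 < n, (fun a => (((List.ofFn x).take (i.val + 1)).prod)⁻¹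 * a * ((List.ofFn x).take (i.val + 1)).prod) '' A ⊆ (((P : Subgroup G) ⊓ (Q ⟨i.val + 1, h⟩ : Subgroup G) : Subgroup G) : Set G) := by
  let R : Subgroup G → G → Prop := fun T x => ∃ Q : Sylow p G,
    T = (P : Subgroup G) ⊓ (Q : Subgroup G) ∧ CfsgLib.Transfer.IsTameInter P Q ∧
      x ∈ Subgroup.normalizer (T : Set G) ∧
      ((Q : Subgroup G) = (P : Subgroup G) ∨ ∃ k : ℕ, orderOf x = p ^ k)
  have main : ∀ D : Subgroup G, D ≤ (P : Subgroup G) → ∀ g : G,
      D.map (MulAut.conj g⁻¹).toMonoidHom ≤ (P : Subgroup G) →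
      CfsgLib.Techniques.RelPath R (D : Set G) g := by
    intro D
    induction hn : Nat.card (P : Subgroup G) - Nat.card D using Nat.strong_induction_on
      generalizing D with
    | _ n ih => ?_
    subst hn
    intro hD g hg
    rcases eq_or_lt_of_le hD with rfl | hlt
    · exact .single ⟨P, (inf_idem _).symm, CfsgLib.Transfer.isTameInter_self P,
        inv_inv g ▸ inv_mem (CfsgLib.Techniques.mem_normalizer_of_map_conj_eq
          (Subgroup.eq_of_le_of_card_ge hg (by rw [CfsgLib.Techniques.card_map_conj]))), Or.inl rfl⟩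
        le_rfl
    have IH : ∀ (D' : Subgroup G) (g : G), Nat.card D < Nat.card D' → D' ≤ (P : Subgroup G) →
        D'.map (MulAut.conj g⁻¹).toMonoidHom ≤ (P : Subgroup G) →
        CfsgLib.Techniques.RelPath R (D' : Set G) g :=
      fun D' g hlt' hD' => ih _ (by have := Subgroup.card_le_of_le hD'; omega) D' rfl hD' g
    have hpath := CfsgLib.Transfer.exists_fusionPath P (A := (D : Set G)) (g := g) hD (by
      rintro _ ⟨a, ha, rfl⟩
      exact hg ⟨a, ha, by simp [MulAut.conj_apply]⟩)
    have key : ∀ (B : Set G) (g : G), CfsgLib.Transfer.FusionPath P B g →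
        ∀ D' : Subgroup G, Nat.card D' = Nat.card D → (D' : Set G) = B →
          CfsgLib.Techniques.RelPath R B g := by
      intro B g hp
      induction hp with
      | one B => intro _ _ _; exact .one _
      | step B Q x g ht hx hB _ ihp =>
        intro D' hc hDB
        subst hDB
        have himg : ((D'.map (MulAut.conj x⁻¹).toMonoidHom : Subgroup G) : Set G) =
            (fun a => x⁻¹ * a * x) '' (D' : Set G) := by
          rw [Subgroup.coe_map]
          exact Set.image_congr fun a _ => by simp [MulAut.conj_apply]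
        refine CfsgLib.Techniques.RelPath.trans ?_
          (ihp (D'.map (MulAut.conj x⁻¹).toMonoidHom)
            (by rw [CfsgLib.Techniques.card_map_conj, hc]) himg)
        set T := (P : Subgroup G) ⊓ (Q : Subgroup G) with hT
        have hDT : D' ≤ T := hB
        rcases eq_or_lt_of_le hDT with he | hgt
        · -- equal to a tame intersection: split `x` into `p`-elements and an element fixing `N_P(T)`
          set N := Subgroup.normalizer (T : Set G) with hN
          set K := Subgroup.closure {y : G | y ∈ N ∧ ∃ k : ℕ, orderOf y = p ^ k} with hK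
          have hKN : K ≤ N := (Subgroup.closure_le _).mpr fun y hy => hy.1
          have hNK : N ≤ Subgroup.normalizer (K : Set G) := by
            intro m hm
            refine CfsgLib.Techniques.mem_normalizer_of_map_conj_eq ?_
            have hsub : ∀ m ∈ N, K.map (MulAut.conj m).toMonoidHom ≤ K := by
              intro m hm
              rw [Subgroup.map_le_iff_le_comap, hK, Subgroup.closure_le]
              rintro y ⟨hy, k, hk⟩
              refine Subgroup.subset_closure ⟨mul_mem (mul_mem hm hy) (inv_mem hm), k, ?_⟩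
              show orderOf (MulAut.conj m y) = p ^ k
              rw [MulEquiv.orderOf_eq, hk]
            exact Subgroup.eq_of_le_of_card_ge (hsub m hm) (by rw [CfsgLib.Techniques.card_map_conj])
          have hT0 : CfsgLib.Techniques.IsSylowSub p ((P : Subgroup G) ⊓ N) N :=
            ⟨inf_le_right, P.2.to_le inf_le_left, ht.1⟩
          have hT0K : (P : Subgroup G) ⊓ N ≤ K := by
            intro y hy
            obtain ⟨k, hk⟩ := IsPGroup.iff_orderOf.mp hT0.2.1 ⟨y, hy⟩
            exact Subgroup.subset_closure ⟨hy.2, k, by rwa [Subgroup.orderOf_mk] at hk⟩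
          obtain ⟨k, hk, m, hm, hmT, hx'⟩ :=
            CfsgLib.Techniques.exists_mul_normalizer (hT0.of_le hT0K hKN) hx hNK hKN
          have hkpath : CfsgLib.Techniques.RelPath R (T : Set G) k ∧ k ∈ N := by
            clear hx'
            induction hk using Subgroup.closure_induction'' with
            | one => exact ⟨.one _, one_mem _⟩
            | mem y hy => exact ⟨.single ⟨Q, rfl, ht, hy.1, Or.inr hy.2⟩ le_rfl, hy.1⟩
            | inv_mem y hy =>
              obtain ⟨hy1, l, hl⟩ := hy
              exact ⟨.single ⟨Q, rfl, ht, inv_mem hy1, Or.inr ⟨l, by rw [orderOf_inv, hl]⟩⟩ le_rfl,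
                inv_mem hy1⟩
            | mul a b _ _ h1 h2 =>
              refine ⟨h1.1.trans (h2.1.mono _ ?_), mul_mem h1.2 h2.2⟩
              rintro _ ⟨t, ht', rfl⟩
              exact (Subgroup.mem_normalizer_iff''.mp h1.2 t).mp ht'
          rw [hx']
          refine (hkpath.1.mono _ hDT).trans ((IH ((P : Subgroup G) ⊓ N) m ?_ inf_le_left ?_).mono _ ?_)
          · have hTlt : T < (P : Subgroup G) := lt_of_le_of_ne inf_le_left fun h => by
              have := CfsgLib.Transfer.card_lt_of_lt hlt
              rw [← hc, he, h] at this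
              omega
            rw [← hc, he]
            exact CfsgLib.Transfer.card_lt_of_lt (CfsgLib.Transfer.lt_inf_normalizer P.2 hTlt)
          · rw [CfsgLib.Techniques.map_conj_of_mem_normalizer (inv_mem hmT)]
            exact inf_le_left
          · rintro _ ⟨a, ha, rfl⟩
            exact (le_inf inf_le_left Subgroup.le_normalizer : T ≤ (P : Subgroup G) ⊓ N)
              ((Subgroup.mem_normalizer_iff''.mp hkpath.2 a).mp (hDT ha))
        · refine (IH T x (hc ▸ CfsgLib.Transfer.card_lt_of_lt hgt) inf_le_left ?_).mono _ hDT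
          rw [CfsgLib.Techniques.map_conj_of_mem_normalizer (inv_mem hx)]
          exact inf_le_left
    exact key _ _ hpath D rfl rfl
  obtain ⟨n, T, x, hprod, hR, himg⟩ :=
    ((main (Subgroup.closure A) ((Subgroup.closure_le _).mpr hA) g (by
      rw [Subgroup.map_le_iff_le_comap, Subgroup.closure_le]
      intro a ha
      simpa [MulAut.conj_apply] using hAg ⟨a, ha, rfl⟩)).mono A Subgroup.subset_closure).exists_fin
  choose Q hTQ htame hxN hord using hR
  obtain rfl : T = fun i => (P : Subgroup G) ⊓ (Q i : Subgroup G) := funext hTQ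
  refine ⟨n, Q, x, hprod, fun i => ⟨hxN i, (htame i).1, (htame i).2, hord i⟩, fun h => ?_,
    fun i h => himg ⟨i.val + 1, h⟩⟩
  simpa using himg ⟨0, h⟩

end Cfsg.Agent.S2012
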