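import Cfsg.Statements.S2014
import Cfsg.Agent.Lib.Techniques.Control
import Cfsg.Agent.Lib.Transfer.PResidual

set_option autoImplicit false
open Cfsg

namespace Cfsg.Agent.S2014

/-- Let P be a Sylow p-subgroup of a finite group G and A, C ≤ P subgroups conjugate in G, with C extremal: N_P(C) is a Sylow p-subgroup of N_G(C). Then there is g with gAg⁻¹ = C and g N_P(A) g⁻¹ ≤ N_P(C); moreover, given any h with hAh⁻¹ = C, g can be chosen so that h g⁻¹ lies in O^p(N_G(C)), the subgroup of N_G(C) generated by its elements of order prime to p. -/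
theorem result {G : Type*} [Group G] [Finite G] (p : ℕ) [Fact p.Prime] (P : Sylow p G) (A C : Subgroup G) (hA : A ≤ P) (hC : C ≤ P) (hext : ¬ p ∣ ((P : Subgroup G) ⊓ Subgroup.normalizer ((C : Subgroup G) : Set G)).relIndex (Subgroup.normalizer ((C : Subgroup G) : Set G))) (h : G) (hh : A.map (MulAut.conj h).toMonoidHom = C) : ∃ g : G, A.map (MulAut.conj g).toMonoidHom = C ∧ ((P : Subgroup G) ⊓ Subgroup.normalizer ((A : Subgroup G) : Set G)).map (MulAut.conj g).toMonoidHom ≤ (P : Subgroup G) ⊓ Subgroup.normalizer ((C : Subgroup G) : Set G) ∧ h * g⁻¹ ∈ (Cfsg.pResidual p ↥(Subgroup.normalizer ((C : Subgroup G) : Set G))).map (Subgroup.normalizer ((C : Subgroup G) : Set G)).subtype := by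
  set N := Subgroup.normalizer ((C : Subgroup G) : Set G) with hN
  have hS : CfsgLib.Techniques.IsSylowSub p ((P : Subgroup G) ⊓ N) N :=
    ⟨inf_le_right, P.2.to_le inf_le_left, hext⟩
  set Q := ((P : Subgroup G) ⊓ Subgroup.normalizer ((A : Subgroup G) : Set G)).map
    (MulAut.conj h).toMonoidHom with hQ
  have hQN : Q ≤ N := by
    rw [hN, ← hh, CfsgLib.Techniques.normalizer_map_conj']
    exact Subgroup.map_mono inf_le_right
  have hQp : IsPGroup p Q := (P.2.to_le inf_le_left).map _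
  obtain ⟨n, hn, hle⟩ := hS.exists_conj_le hQN hQp
  obtain ⟨T, hT⟩ : ∃ T : Sylow p N, (T : Subgroup N) = ((P : Subgroup G) ⊓ N).subgroupOf N :=
    ⟨IsPGroup.toSylow (hS.2.1.comap_subtype (K := N)) hS.2.2, rfl⟩
  obtain ⟨s, hs, k, hk, hnk⟩ := CfsgLib.Transfer.exists_mul_mem_pResidual T ⟨n, hn⟩
  rw [hT, Subgroup.mem_subgroupOf] at hs
  have hnk' : n = (s : G) * (k : G) := congrArg Subtype.val hnk
  refine ⟨(k : G) * h, ?_, ?_, ⟨k⁻¹, inv_mem hk, ?_⟩⟩
  · rw [← CfsgLib.Techniques.map_conj_conj, hh, CfsgLib.Techniques.map_conj_of_mem_normalizer k.2]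
  · rw [← CfsgLib.Techniques.map_conj_conj]
    have hk' : (k : G) = (s : G)⁻¹ * n := by rw [hnk']; group
    rw [hk', ← CfsgLib.Techniques.map_conj_conj]
    calc _ ≤ ((P : Subgroup G) ⊓ N).map (MulAut.conj (s : G)⁻¹).toMonoidHom :=
          Subgroup.map_mono hle
      _ = (P : Subgroup G) ⊓ N := CfsgLib.Techniques.map_conj_of_mem (inv_mem hs)
  · show ((k⁻¹ : N) : G) = h * ((k : G) * h)⁻¹
    push_cast
    group

end Cfsg.Agent.S2014
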