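import Cfsg.Statements.S2015
import Cfsg.Agent.Lib.Techniques.KInfTheorems

set_option autoImplicit false
universe u
open Cfsg

namespace Cfsg.Agent.S2015

/-- For p ≥ 5, every finite p-group P has a characteristic subgroup K containing Z(P), depending only on P, whose normalizer controls transfer wherever P is a Sylow subgroup: for every finite group G and every embedding ι of P onto a Sylow p-subgroup of G, the intersection of ι(P) with the derived subgroup of G equals its intersection with the derived subgroup of N_G(ι(K)). -/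
theorem result (p : ℕ) [Fact p.Prime] (hp : 5 ≤ p) (P : Type u) [Group P] [Finite P] (hP : IsPGroup p P) : ∃ K : Subgroup P, K.Characteristic ∧ Subgroup.center P ≤ K ∧ ∀ (G : Type u) [Group G] [Finite G] (ι : P →* G), Function.Injective ι → (∃ T : Sylow p G, (T : Subgroup G) = ι.range) → ι.range ⊓ commutator G = ι.range ⊓ (commutator ↥(Subgroup.normalizer ((K.map ι : Subgroup G) : Set G))).map (Subgroup.normalizer ((K.map ι : Subgroup G) : Set G)).subtype := by
  have hK := (CfsgLib.Techniques.kInf_isCharPFunctor.{u} (p := p)).1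
  refine ⟨Cfsg.kInfLower P, ?_, (Subgroup.center_le_centralizer _).trans
    (CfsgLib.Techniques.centralizer_kInf_le hP).1, fun G _ _ ι hι hT => ?_⟩
  · exact Subgroup.characteristic_iff_map_eq.mpr fun φ => hK.2 P P hP φ
  obtain ⟨T, hT⟩ := hT
  have e : Cfsg.inducedFunctor (G := G) Cfsg.kInfLower (T : Subgroup G) =
      (Cfsg.kInfLower P).map ι := by
    have htop : Cfsg.inducedFunctor (G := P) Cfsg.kInfLower (⊤ : Subgroup P) = Cfsg.kInfLower P :=
      hK.2 (⊤ : Subgroup P) P (hP.of_equiv Subgroup.topEquiv.symm) Subgroup.topEquiv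
    rw [hT, ι.range_eq_map, CfsgLib.Techniques.inducedFunctor_map hK
      (hP.of_equiv Subgroup.topEquiv.symm) ι hι.injOn, htop]
  have h := CfsgLib.Techniques.controlsTransfer_at
    (CfsgLib.Techniques.inducedFunctor_isConjugacyFunctor hK G)
    (CfsgLib.Techniques.kInf_transfer hK CfsgLib.Techniques.kBad_lower hp)
    (CfsgLib.Techniques.isSylowSub_sylow T)
  rw [e, hT, top_inf_eq, ← commutator_def] at h
  rw [h, Subgroup.map_subtype_commutator]

end Cfsg.Agent.S2015
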