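import Cfsg.Statements.S2048
import Cfsg.Agent.Lib.Recog.SporBound.SuzMult.Bound
import Cfsg.Agent.Lib.Recog.SporBound.SuzMult.Witness
import Cfsg.Agent.Lib.Schur.Multiplier
-- import your own Cfsg.Agent.* helpers here

set_option autoImplicit false
open Cfsg

namespace Cfsg.Agent.S2048

/-- The Schur multiplier of the Suzuki sporadic group (the finitely presented group of the definitions) is cyclic of order 6; here the Schur multiplier is described through stem extensions, as in the definitions: surjective homomorphisms onto the group from a finite group, whose kernel is central in that finite group and contained in that finite group's commutator subgroup. -/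
theorem result : Cfsg.HasCyclicSchurMultiplier Cfsg.Spor.Suz 6 := by
  obtain ⟨Δ, iΔ, τ, hτ, ⟨e⟩⟩ := CfsgLib.Recog.SporBound.SuzMult.exists_witness
  have := CfsgLib.Recog.SporBound.SuzGroup.finite_suz
  exact CfsgLib.Schur.hasSchurMultiplier_of_witness τ hτ e fun Γ _ _ σ hσ => by
    refine (CfsgLib.Recog.SporBound.SuzMult.card_ker_le_six σ hσ).trans_eq ?_
    rw [Nat.card_eq_fintype_card]
    rfl

end Cfsg.Agent.S2048
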