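import Cfsg.Statements.S2055
import Mathlib
import Cfsg.Agent.Lib.Recog.FiFour.Cover.Main
import Cfsg.Agent.Lib.Recog.FiFour.MultBound.Main

set_option autoImplicit false
open Cfsg

namespace Cfsg.Agent.S2055

/-- The Schur multiplier of the Fischer group Fi₂₄′ (the commutator subgroup of the presented group Fi₂₄) is cyclic of order 3; here the Schur multiplier is described through stem extensions, as in the definitions: surjective homomorphisms onto the group from a finite group, whose kernel is central in that finite group and contained in that finite group's commutator subgroup. -/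
theorem result : Cfsg.HasCyclicSchurMultiplier Cfsg.Spor.Fi24' 3 := by
  refine ⟨CfsgLib.Recog.FiFour.Cover.exists_cover, fun Γ _ _ σ hσ => ?_⟩
  haveI := CfsgLib.Recog.FiFour.finite_fi24
  let e : Spor.Fi24' ≃* CfsgLib.Recog.FiFour.parity.ker := MulEquiv.subgroupCongr CfsgLib.Recog.FiFour.derived_eq
  have hker : (e.toMonoidHom.comp σ).ker = σ.ker := by
    ext g; simp [MonoidHom.mem_ker]
  have hst : IsStemExtension (e.toMonoidHom.comp σ) :=
    ⟨e.surjective.comp hσ.1, by rw [hker]; exact hσ.2.1, by rw [hker]; exact hσ.2.2⟩
  obtain ⟨π, hπ⟩ := CfsgLib.Recog.FiFour.MultBound.stem_kernel _ hst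
  exact ⟨(MulEquiv.subgroupCongr hker).toMonoidHom.comp π, (MulEquiv.subgroupCongr hker).surjective.comp hπ⟩

end Cfsg.Agent.S2055
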