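import Cfsg.Statements.S2087
import Cfsg.Agent.Lib.Known.MultiplierCongr
import Cfsg.Agent.Lib.Classical.SevenTwo
import Cfsg.Agent.S2086

set_option autoImplicit false
open Cfsg

namespace Cfsg.Agent.S2087

/-- Exceptional Schur multiplier: over the field with 2 elements, PSL₃ has Schur multiplier cyclic of order 2 (here the Schur multiplier is described through stem extensions, as in the definitions). -/
theorem result {F : Type*} [Field F] [Fintype F] (hF : Fintype.card F = 2) : Cfsg.HasCyclicSchurMultiplier (Matrix.ProjectiveSpecialLinearGroup (Fin 3) F) 2 := by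
  have : Fact (Nat.Prime 7) := ⟨by norm_num⟩
  have h7 : Fintype.card (ULift.{u_1} (ZMod 7)) = 7 := by rw [Fintype.card_ulift, ZMod.card]
  obtain ⟨e⟩ := CfsgLib.Classical.Seven.nonempty_psl_seven_equiv (K := F) h7 hF
  exact CfsgLib.Known.hasSchurMultiplier_congr e
    (Cfsg.Agent.S2086.result h7 2 le_rfl (fun _ => by norm_num) (by simp))

end Cfsg.Agent.S2087
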