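import Cfsg.Statements.S2093
import Mathlib
import Cfsg.Agent.Lib.Schur.Coxeter.SpSix
import Cfsg.Agent.Lib.Classical.RingTransfer

set_option autoImplicit false
open Cfsg

namespace Cfsg.Agent.S2093

/-- Exceptional Schur multiplier: over the field with 2 elements, PSp₆ has Schur multiplier cyclic of order 2 (here the Schur multiplier is described through stem extensions, as in the definitions). -/
theorem result {F : Type*} [Field F] [Fintype F] (hF : Fintype.card F = 2) : Cfsg.HasCyclicSchurMultiplier (Cfsg.PSp 3 F) 2 := by
  have : Fact (Nat.Prime 2) := ⟨Nat.prime_two⟩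
  obtain ⟨e⟩ := CfsgLib.Classical.exists_zmod_equiv F (p := 2) hF
  have hbot := CfsgLib.Schur.Cox.SpSix.center_eq_bot hF
  exact CfsgLib.Schur.Cox.SpSix.hasCyclicSchurMultiplier
    ((CfsgLib.Classical.symplecticMap e (Fin 3)).trans
      ((QuotientGroup.quotientMulEquivOfEq hbot).trans QuotientGroup.quotientBot).symm)

end Cfsg.Agent.S2093
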