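import Cfsg.Statements.S2098
import Mathlib
import Cfsg.Agent.Lib.Schur.Coxeter.OmegaEight
import Cfsg.Agent.Lib.Classical.RingTransfer

set_option autoImplicit false
open Cfsg

namespace Cfsg.Agent.S2098

/-- Exceptional Schur multiplier: over the field with 2 elements, PΩ⁺₈ (for the form Σ xᵢyᵢ) has Schur multiplier a four-group, the product of two cyclic groups of order 2 (here the Schur multiplier is described through stem extensions, as in the definitions). -/
theorem result {F : Type*} [Field F] [Fintype F] (hF : Fintype.card F = 2) : Cfsg.HasSchurMultiplier (Cfsg.POmega F (Cfsg.quadFormPlus 4 F)) (Multiplicative (ZMod 2 × ZMod 2)) := by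
  have : Fact (Nat.Prime 2) := ⟨Nat.prime_two⟩
  obtain ⟨e⟩ := CfsgLib.Classical.exists_zmod_equiv F (p := 2) hF
  have hq : ∀ v : Fin 4 ⊕ Fin 4 → ZMod 2,
      Cfsg.quadFormPlus 4 F (e ∘ v) = e (Cfsg.quadFormPlus 4 (ZMod 2) v) := fun v => by
    simp [Cfsg.quadFormPlus, map_sum, map_mul]
  let G := CfsgLib.Classical.isometryGroupMap e hq
  have hmap : (commutator (Cfsg.isometryGroup (ZMod 2) (Cfsg.quadFormPlus 4 (ZMod 2)))).map G.toMonoidHom =
      commutator (Cfsg.isometryGroup F (Cfsg.quadFormPlus 4 F)) := by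
    rw [commutator_def, commutator_def, Subgroup.map_commutator,
      Subgroup.map_top_of_surjective _ G.surjective]
  let ω : CfsgLib.Schur.Cox.OmegaEight.Om ≃* Cfsg.Omega F (Cfsg.quadFormPlus 4 F) :=
    (G.subgroupMap _).trans (MulEquiv.subgroupCongr hmap)
  have hbot : Subgroup.center (Cfsg.Omega F (Cfsg.quadFormPlus 4 F)) = ⊥ :=
    Subgroup.card_eq_one.1 (by
      rw [← Nat.card_congr (Subgroup.centerCongr ω).toEquiv, CfsgLib.Schur.Cox.OmegaEight.card_center_Om])
  have : Finite (Cfsg.POmega F (Cfsg.quadFormPlus 4 F)) := inferInstance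
  exact CfsgLib.Schur.Cox.OmegaEight.hasSchurMultiplier
    (ω.trans ((QuotientGroup.quotientMulEquivOfEq hbot).trans QuotientGroup.quotientBot).symm)

end Cfsg.Agent.S2098
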