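import Cfsg.Statements.S2107
import Cfsg.Agent.Lib.Known.UnivLacedData
import Cfsg.Agent.Lib.Lie.Rel.StCenter

set_option autoImplicit false
open Cfsg

namespace Cfsg.Agent.S2107

open CfsgLib.Lie.Chev

/-- Schur multipliers of the Chevalley groups of type E₈: over every finite field the Schur multiplier of E₈(q) is trivial (here the Schur multiplier is described through stem extensions, as in the definitions). -/
theorem result {F : Type*} [Field F] [Fintype F] : Cfsg.HasCyclicSchurMultiplier ↥(Cfsg.Lie.chevE8.group F) 1 := by
  have hc : Rel.Connected Cfsg.Lie.chevE8 := connected_of_chk (by decide +kernel)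
  refine CfsgLib.Known.Univ.hasCyclicSchurMultiplier certE8 witE8
    (CfsgLib.Known.Univ.hasSections_laced CfsgLib.Known.Univ.lacedE8_ok F)
    (perfectData_of_chk (by decide +kernel) F) hc ?_ (Or.inl rfl)
  rw [center_stGroup certE8 F witE8 hc,
    stTheta_ker_bot certE8 F witE8 cmat_E8 smithE8 (by decide +kernel), Subgroup.card_bot]

end Cfsg.Agent.S2107
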