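import Cfsg.Statements.S2126
import Cfsg.Agent.Lib.Known.SuzukiAut

set_option autoImplicit false
open Cfsg

namespace Cfsg.Agent.S2126

/-- Outer automorphisms of the Suzuki groups: for q = 2^(2m+1) with m ≥ 1 the outer automorphism group of Sz(q) has order 2m + 1 (field automorphisms only). -/
theorem result {F : Type*} [Field F] [Fintype F] {m : ℕ} (hm : 1 ≤ m) (hF : Fintype.card F = 2 ^ (2 * m + 1)) : Nat.card (Cfsg.Out ↥(Cfsg.Lie.Sz F (2 ^ (m + 1)))) = 2 * m + 1 := by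
  have := CfsgLib.Lie.Suzuki.charTwo_of_card hF
  rw [← CfsgLib.Known.SuzukiAut.card_out hF hm]
  let e := CfsgLib.Lie.Suzuki.equivLie hm hF
  have h : (Cfsg.Inn ↥(Cfsg.Sz F m)).map (MulAut.congr e).toMonoidHom = Cfsg.Inn ↥(Cfsg.Lie.Sz F (2 ^ (m + 1))) := by
    ext φ
    constructor
    · rintro ⟨_, ⟨g, rfl⟩, rfl⟩
      exact ⟨e g, MulEquiv.ext fun x => by simp [MulAut.congr]⟩
    · rintro ⟨g, rfl⟩
      exact ⟨_, ⟨e.symm g, rfl⟩, MulEquiv.ext fun x => by simp [MulAut.congr]⟩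
  exact Nat.card_congr (QuotientGroup.congr _ _ (MulAut.congr e) h).symm.toEquiv

end Cfsg.Agent.S2126
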