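import Cfsg.Statements.S2127
import Cfsg.Agent.Lib.Known.TwistAut.Ree

set_option autoImplicit false
open Cfsg

namespace Cfsg.Agent.S2127

/-- Outer automorphisms of the small Ree groups: for q = 3^(2m+1) with m ≥ 1 the outer automorphism group of ²G₂(q) has order 2m + 1 (field automorphisms only). -/
theorem result {K : Type*} [Field K] [Fintype K] {m : ℕ} (hm : 1 ≤ m) (hK : Fintype.card K = 3 ^ (2 * m + 1)) : Nat.card (Cfsg.Out ↥(Cfsg.Lie.twistedG2 K (3 ^ m))) = 2 * m + 1 := by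
  rw [← CfsgLib.Known.TwistAut.Ree.card_out hK hm]
  let e : ↥(CfsgLib.Known.TwistAut.Ree.P hK) ≃* ↥(Cfsg.Lie.twistedG2 K (3 ^ m)) :=
    Subgroup.subgroupOfEquivOfLe (CfsgLib.Lie.Chev.TwGroups.twG2_le)
  have h : (Cfsg.Inn ↥(CfsgLib.Known.TwistAut.Ree.P hK)).map (MulAut.congr e).toMonoidHom =
      Cfsg.Inn ↥(Cfsg.Lie.twistedG2 K (3 ^ m)) := by
    ext φ
    constructor
    · rintro ⟨_, ⟨g, rfl⟩, rfl⟩
      exact ⟨e g, MulEquiv.ext fun x => by simp [MulAut.congr]⟩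
    · rintro ⟨g, rfl⟩
      exact ⟨_, ⟨e.symm g, rfl⟩, MulEquiv.ext fun x => by simp [MulAut.congr]⟩
  exact Nat.card_congr (QuotientGroup.congr _ _ (MulAut.congr e) h).symm.toEquiv

end Cfsg.Agent.S2127
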