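import Cfsg.Statements.S2129
import Cfsg.Agent.Lib.Known.TwistAut.D4

set_option autoImplicit false
open Cfsg

namespace Cfsg.Agent.S2129

/-- Outer automorphisms of the triality-twisted groups: for q = p^f (p prime), with the group realised over the field with q³ elements, the outer automorphism group of ³D₄(q) has order 3f (the field automorphisms of the cubic extension). -/
theorem result {K : Type*} [Field K] [Fintype K] (p f : ℕ) [Fact p.Prime] [CharP K p] (hK : Fintype.card K = p ^ (3 * f)) (hf : 1 ≤ f) : Nat.card (Cfsg.Out ↥(Cfsg.Lie.twistedD4 K (p ^ f))) = 3 * f := by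
  have hp : (p : ℕ).Prime := Fact.out
  have hq : IsPrimePow (p ^ f) := hp.isPrimePow.pow (by omega)
  have hK' : Fintype.card K = (p ^ f) ^ 3 := by rw [hK, ← pow_mul, mul_comm]
  rw [← CfsgLib.Known.TwistAut.D4.card_out hq hK' p f rfl hf]
  let e : ↥(CfsgLib.Known.TwistAut.D4.P hq hK') ≃* ↥(Cfsg.Lie.twistedD4 K (p ^ f)) :=
    Subgroup.subgroupOfEquivOfLe CfsgLib.Lie.Chev.TwGroups.twD4_le
  have h : (Cfsg.Inn ↥(CfsgLib.Known.TwistAut.D4.P hq hK')).map (MulAut.congr e).toMonoidHom =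
      Cfsg.Inn ↥(Cfsg.Lie.twistedD4 K (p ^ f)) := by
    ext φ
    constructor
    · rintro ⟨_, ⟨g, rfl⟩, rfl⟩
      exact ⟨e g, MulEquiv.ext fun x => by simp [MulAut.congr]⟩
    · rintro ⟨g, rfl⟩
      exact ⟨_, ⟨e.symm g, rfl⟩, MulEquiv.ext fun x => by simp [MulAut.congr]⟩
  exact Nat.card_congr (QuotientGroup.congr _ _ (MulAut.congr e) h).symm.toEquiv

end Cfsg.Agent.S2129
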