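import Cfsg.Statements.S2140
import Cfsg.Agent.Lib.Known.MinIndexPSL.Main

set_option autoImplicit false
open Cfsg

namespace Cfsg.Agent.S2140

/-- Minimal index of a proper subgroup of the linear groups: for n ≥ 3 and a field F with q elements, (n, q) ≠ (4, 2), every proper subgroup of PSL_n(F) has index at least (q^n − 1)/(q − 1), and some subgroup has exactly that index (the stabiliser of a point of the projective space). -/
theorem result {F : Type*} [Field F] [Fintype F] {q : ℕ} (hF : Fintype.card F = q) (n : ℕ) (hn : 3 ≤ n) (hexc : ¬ (n = 4 ∧ q = 2)) : (∀ H : Subgroup (Matrix.ProjectiveSpecialLinearGroup (Fin n) F), H ≠ ⊤ → (q ^ n - 1) / (q - 1) ≤ H.index) ∧ (∃ H : Subgroup (Matrix.ProjectiveSpecialLinearGroup (Fin n) F), H.index = (q ^ n - 1) / (q - 1)) := by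
  have hqF : Nat.card F = q := by rw [Nat.card_eq_fintype_card, hF]
  have hq1 : 0 < q - 1 := by
    have := Fintype.one_lt_card (α := F)
    omega
  refine ⟨fun H hH => ?_, ?_⟩
  · have hs : Function.Surjective
        (QuotientGroup.mk' (Subgroup.center (Matrix.SpecialLinearGroup (Fin n) F))) :=
      QuotientGroup.mk'_surjective _
    have h := CfsgLib.Known.MinIndexPSL.card_le_index hn (by rwa [hqF]) (H.comap (QuotientGroup.mk' _))
      (fun e => hH (by rw [← Subgroup.map_comap_eq_self_of_surjective hs H, e,
        Subgroup.map_top_of_surjective _ hs]))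
    rw [Subgroup.index_comap_of_surjective _ hs, hqF] at h
    exact (Nat.div_le_iff_le_mul_add_pred hq1).2 (h.trans (by rw [mul_comm]; exact Nat.le_add_right _ _))
  · have : Nonempty (Fin n) := ⟨⟨0, by omega⟩⟩
    have hnt : Nontrivial (Fin n) := Fin.nontrivial_iff_two_le.2 (by omega)
    obtain ⟨p⟩ : Nonempty (Projectivization F (Fin n → F)) := inferInstance
    refine ⟨MulAction.stabilizer (Matrix.ProjectiveSpecialLinearGroup (Fin n) F) p, ?_⟩
    rw [MulAction.index_stabilizer_of_transitive, Projectivization.card'' F, hqF, Nat.card_fun,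
      Nat.card_fin, hqF]

end Cfsg.Agent.S2140
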