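import Cfsg.Statements.S2141
import Cfsg.Agent.Lib.Classical.MinIndexPSp.Main
import Cfsg.Agent.Lib.Classical.Symplectic.MatrixStructure

set_option autoImplicit false
open Cfsg

namespace Cfsg.Agent.S2141

/-- Minimal index of a proper subgroup of the symplectic groups over fields with at least 3 elements: for m ≥ 2 and a field F with q ≥ 3 elements, (m, q) ≠ (2, 3), every proper subgroup of PSp_2m(F) has index at least (q^(2m) − 1)/(q − 1), and that index is attained. -/
theorem result {F : Type*} [Field F] [Fintype F] {q : ℕ} (hF : Fintype.card F = q) (m : ℕ) (hm : 2 ≤ m) (hq : 3 ≤ q) (hexc : ¬ (m = 2 ∧ q = 3)) : (∀ H : Subgroup (Cfsg.PSp m F), H ≠ ⊤ → (q ^ (2 * m) - 1) / (q - 1) ≤ H.index) ∧ (∃ H : Subgroup (Cfsg.PSp m F), H.index = (q ^ (2 * m) - 1) / (q - 1)) := by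
  classical
  obtain ⟨m, rfl⟩ : ∃ k, m = k + 2 := ⟨m - 2, by omega⟩
  have hq' : Nat.card F = q := by rw [Nat.card_eq_fintype_card, hF]
  have hA := CfsgLib.Classical.Symp.sympBil_isAlt (m + 2) F
  have hB := CfsgLib.Classical.Symp.sympBil_nondegenerate (m + 2) F
  have hd : Module.finrank F (Fin (m + 2) ⊕ Fin (m + 2) → F) = (2 * m + 2) + 2 := by
    rw [CfsgLib.Classical.Symp.finrank_sympSpace]; omega
  have hd2 : 2 * m + 2 = 2 ∨ (4 ≤ 2 * m + 2 ∧ Even (2 * m + 2)) := by
    rcases Nat.eq_zero_or_pos m with h | h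
    · exact Or.inl (by omega)
    · exact Or.inr ⟨by omega, ⟨m + 1, by omega⟩⟩
  have hq4 : 2 * m + 2 = 2 → 4 ≤ Nat.card F := by
    intro h
    by_contra hc
    exact hexc ⟨by omega, by omega⟩
  rw [show q ^ (2 * (m + 2)) = q ^ ((2 * m + 2) + 2) by congr 1]
  obtain ⟨e⟩ : Nonempty (Cfsg.PSp (m + 2) F ≃* CfsgLib.Classical.Symp.Sp (CfsgLib.Classical.Symp.sympBil (m + 2) F) ⧸
      Subgroup.center (CfsgLib.Classical.Symp.Sp (CfsgLib.Classical.Symp.sympBil (m + 2) F))) :=
    ⟨CfsgLib.Classical.Symp.pspEquiv (m + 2) F⟩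
  let π : _ →* _ := QuotientGroup.mk'
    (Subgroup.center (CfsgLib.Classical.Symp.Sp (CfsgLib.Classical.Symp.sympBil (m + 2) F)))
  have hπ : Function.Surjective π := QuotientGroup.mk'_surjective _
  refine ⟨fun H hH => ?_, ?_⟩
  · have hne : (H.map e.toMonoidHom).comap π ≠ ⊤ := by
      intro h
      apply hH
      have h1 := congrArg (Subgroup.map π) h
      rw [Subgroup.map_comap_eq_self_of_surjective hπ, Subgroup.map_top_of_surjective _ hπ] at h1
      have h2 := congrArg (Subgroup.comap e.toMonoidHom) h1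
      rwa [Subgroup.comap_map_eq_self_of_injective e.injective, Subgroup.comap_top] at h2
    have := CfsgLib.Classical.MinIndexPSp.le_index hB hd hd2 (by omega) hne hA hq4
    rwa [hq', Subgroup.index_comap_of_surjective _ hπ,
      Subgroup.index_map_of_bijective (f := e.toMonoidHom) e.bijective] at this
  · obtain ⟨S, hS, hS'⟩ := CfsgLib.Classical.MinIndexPSp.exists_index hB hA
      (n := 2 * m + 2 + 1) hd
    refine ⟨(S.map π).comap e.toMonoidHom, ?_⟩
    rw [Subgroup.index_comap_of_surjective (f := e.toMonoidHom) _ e.surjective,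
      Subgroup.index_map_eq _ hπ (by rw [QuotientGroup.ker_mk']; exact hS), hS', hq']

end Cfsg.Agent.S2141
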