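import Cfsg.Statements.S2143
import Cfsg.Agent.Lib.Known.MinIndexOrth.Attain

set_option autoImplicit false
open Cfsg

namespace Cfsg.Agent.S2143

/-- Minimal index of a proper subgroup of the odd-dimensional orthogonal groups: for m ≥ 3 and a field F with q elements, q odd and q ≥ 5, every proper subgroup of PΩ_(2m+1)(F) (for the form x₀² + Σ xᵢyᵢ) has index at least (q^(2m) − 1)/(q − 1), and that index is attained. -/
theorem result {F : Type*} [Field F] [Fintype F] {q : ℕ} (hF : Fintype.card F = q) (hodd : Odd q) (h5 : 5 ≤ q) (m : ℕ) (hm : 3 ≤ m) : (∀ H : Subgroup (Cfsg.POmega F (Cfsg.quadFormOdd m F)), H ≠ ⊤ → (q ^ (2 * m) - 1) / (q - 1) ≤ H.index) ∧ (∃ H : Subgroup (Cfsg.POmega F (Cfsg.quadFormOdd m F)), H.index = (q ^ (2 * m) - 1) / (q - 1)) := by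
  obtain ⟨e, rfl⟩ : ∃ e, m = e + 3 := ⟨m - 3, by omega⟩
  have hB : (q ^ (2 * (e + 3)) - 1) / (q - 1) * (q - 1) + 1 = q ^ (2 * e + 6) := by
    rw [Nat.div_mul_cancel (CfsgLib.MinIndexOrth.pred_dvd q _),
      Nat.sub_add_cancel (Nat.one_le_pow _ _ (by omega)), show 2 * (e + 3) = 2 * e + 6 by ring]
  have h2 := CfsgLib.Classical.Quad.two_ne_zero_of_odd hF hodd
  have hT := CfsgLib.MinIndexOrth.transfer
    (fun H hH => CfsgLib.MinIndexOrth.le_index_odd hF hodd (by omega) e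
      (by rw [if_neg (by omega)]; exact hB) hH)
    (CfsgLib.MinIndexOrth.exists_point_odd hF h2 e hB)
  rw [CfsgLib.Classical.Quad.coe_qOdd] at hT
  exact hT

end Cfsg.Agent.S2143
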