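import Cfsg.Statements.S2144
import Cfsg.Agent.Lib.Known.MinIndexOrth.Attain

set_option autoImplicit false
open Cfsg

namespace Cfsg.Agent.S2144

/-- Minimal index of a proper subgroup of the odd-dimensional orthogonal groups over the field with 3 elements: for m ≥ 3, every proper subgroup of PΩ_(2m+1)(3) (for the form x₀² + Σ xᵢyᵢ) has index at least 3^m(3^m − 1)/2, and that index is attained. -/
theorem result {F : Type*} [Field F] [Fintype F] (hF : Fintype.card F = 3) (m : ℕ) (hm : 3 ≤ m) : (∀ H : Subgroup (Cfsg.POmega F (Cfsg.quadFormOdd m F)), H ≠ ⊤ → 3 ^ m * (3 ^ m - 1) / 2 ≤ H.index) ∧ (∃ H : Subgroup (Cfsg.POmega F (Cfsg.quadFormOdd m F)), H.index = 3 ^ m * (3 ^ m - 1) / 2) := by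
  obtain ⟨e, rfl⟩ : ∃ e, m = e + 3 := ⟨m - 3, by omega⟩
  have hB : 2 * (3 ^ (e + 3) * (3 ^ (e + 3) - 1) / 2) + 3 ^ (e + 3) = 3 ^ (2 * e + 6) := by
    have hd : 2 ∣ 3 ^ (e + 3) * (3 ^ (e + 3) - 1) :=
      Dvd.dvd.mul_left (CfsgLib.MinIndexOrth.pred_dvd 3 _) _
    rw [Nat.mul_div_cancel' hd, Nat.mul_sub, mul_one,
      Nat.sub_add_cancel (Nat.le_mul_of_pos_left _ (pow_pos (by norm_num) _)), ← pow_add,
      show e + 3 + (e + 3) = 2 * e + 6 by ring]
  have hodd : Odd 3 := ⟨1, rfl⟩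
  have h2 := CfsgLib.Classical.Quad.two_ne_zero_of_odd hF hodd
  have hT := CfsgLib.MinIndexOrth.transfer
    (fun H hH => CfsgLib.MinIndexOrth.le_index_odd hF hodd le_rfl e
      (B := 3 ^ (e + 3) * (3 ^ (e + 3) - 1) / 2) (by rw [if_pos rfl]; exact hB) hH)
    (CfsgLib.MinIndexOrth.exists_vector_odd hF h2 e hB)
  rw [CfsgLib.Classical.Quad.coe_qOdd] at hT
  exact hT

end Cfsg.Agent.S2144
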