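import Cfsg.Statements.S2145
import Cfsg.Agent.Lib.Known.MinIndexOrth.Attain

set_option autoImplicit false
open Cfsg

namespace Cfsg.Agent.S2145

/-- Minimal index of a proper subgroup of the even-dimensional orthogonal groups of plus type: for m ≥ 4 and a field F with q ≥ 4 elements, every proper subgroup of PΩ⁺_2m(F) (for the form Σ xᵢyᵢ) has index at least (q^m − 1)(q^(m−1) + 1)/(q − 1), and that index is attained (the singular points). -/
theorem result {F : Type*} [Field F] [Fintype F] {q : ℕ} (hF : Fintype.card F = q) (hq : 4 ≤ q) (m : ℕ) (hm : 4 ≤ m) : (∀ H : Subgroup (Cfsg.POmega F (Cfsg.quadFormPlus m F)), H ≠ ⊤ → (q ^ m - 1) * (q ^ (m - 1) + 1) / (q - 1) ≤ H.index) ∧ (∃ H : Subgroup (Cfsg.POmega F (Cfsg.quadFormPlus m F)), H.index = (q ^ m - 1) * (q ^ (m - 1) + 1) / (q - 1)) := by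
  obtain ⟨e, rfl⟩ : ∃ e, m = e + 4 := ⟨m - 4, by omega⟩
  rw [show e + 4 - 1 = e + 3 by omega]
  have hB : (q ^ (e + 4) - 1) * (q ^ (e + 3) + 1) / (q - 1) * (q - 1) + 1 + q ^ (e + 3) =
      q ^ (2 * e + 7) + q ^ (e + 4) := by
    rw [Nat.div_mul_cancel (Dvd.dvd.mul_right (CfsgLib.MinIndexOrth.pred_dvd q _) _)]
    zify [Nat.one_le_pow (e + 4) q (by omega)]
    ring
  have hT := CfsgLib.MinIndexOrth.transfer
    (fun H hH => CfsgLib.MinIndexOrth.le_index_plus hF (Or.inr hq) e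
      (by rw [if_neg (by omega)]; exact hB) hH)
    (CfsgLib.MinIndexOrth.exists_point_plus hF e hB)
  rw [CfsgLib.Classical.Quad.coe_qPlus] at hT
  exact hT

end Cfsg.Agent.S2145
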