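import Cfsg.Statements.S2146
import Cfsg.Agent.Lib.Known.MinIndexOrth.Attain

set_option autoImplicit false
open Cfsg

namespace Cfsg.Agent.S2146

/-- Minimal index of a proper subgroup of the even-dimensional orthogonal groups of plus type over the field with 2 elements: for m ≥ 4, every proper subgroup of Ω⁺_2m(2) (for the form Σ xᵢyᵢ) has index at least 2^(m−1)(2^m − 1), and that index is attained. -/
theorem result {F : Type*} [Field F] [Fintype F] (hF : Fintype.card F = 2) (m : ℕ) (hm : 4 ≤ m) : (∀ H : Subgroup (Cfsg.POmega F (Cfsg.quadFormPlus m F)), H ≠ ⊤ → 2 ^ (m - 1) * (2 ^ m - 1) ≤ H.index) ∧ (∃ H : Subgroup (Cfsg.POmega F (Cfsg.quadFormPlus m F)), H.index = 2 ^ (m - 1) * (2 ^ m - 1)) := by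
  obtain ⟨e, rfl⟩ : ∃ e, m = e + 4 := ⟨m - 4, by omega⟩
  rw [show e + 4 - 1 = e + 3 by omega]
  have hB : 2 ^ (e + 3) * (2 ^ (e + 4) - 1) + 2 ^ (e + 3) = 2 ^ (2 * e + 7) := by
    rw [Nat.mul_sub, mul_one,
      Nat.sub_add_cancel (Nat.le_mul_of_pos_right _ (pow_pos (by norm_num) _)),
      ← pow_add, show e + 3 + (e + 4) = 2 * e + 7 by ring]
  have hT := CfsgLib.MinIndexOrth.transfer
    (fun H hH => CfsgLib.MinIndexOrth.le_index_plus hF (Or.inl rfl) e
      (B := 2 ^ (e + 3) * (2 ^ (e + 4) - 1)) (by rw [if_pos rfl]; exact hB) hH)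
    (CfsgLib.MinIndexOrth.exists_vector_plus hF e hB)
  rw [CfsgLib.Classical.Quad.coe_qPlus] at hT
  exact hT

end Cfsg.Agent.S2146
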