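import Cfsg.Statements.S2148
import Cfsg.Agent.Lib.LocalEvenB.MinIndexSU.ThreeIndex.Main
import Cfsg.Agent.Lib.Classical.Unitary.MatrixStructure

set_option autoImplicit false
open Cfsg

namespace Cfsg.Agent.S2148

/-- Minimal index of a proper subgroup of the three-dimensional unitary groups: for a field F with q² elements, q ≥ 3 and q ≠ 5, every proper subgroup of PSU₃(q) has index at least q³ + 1, and that index is attained. -/
theorem result {F : Type*} [Field F] [Fintype F] (q : ℕ) (hF : Fintype.card F = q ^ 2) (hq : 3 ≤ q) (h5 : q ≠ 5) : (∀ H : Subgroup (Cfsg.PSU 3 F q), H ≠ ⊤ → q ^ 3 + 1 ≤ H.index) ∧ (∃ H : Subgroup (Cfsg.PSU 3 F q), H.index = q ^ 3 + 1) := by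
  have hσ := CfsgLib.Classical.Herm.card_fixed_powHom hF
  have hherm := CfsgLib.Classical.Herm.hermStd_isHerm (n := 3) hF
  obtain ⟨e⟩ : Nonempty (Cfsg.SU 3 F q ≃* CfsgLib.Classical.Herm.HSU
      (CfsgLib.Classical.Herm.hermStd 3 hF)) :=
    ⟨CfsgLib.Classical.Herm.suEquiv 3 hF⟩
  have hmk : Function.Surjective
      (QuotientGroup.mk' (Subgroup.center (Cfsg.SU 3 F q))) :=
    QuotientGroup.mk'_surjective _
  refine ⟨fun H hH => ?_, ?_⟩
  · have hne : ((H.comap (QuotientGroup.mk' (Subgroup.center (Cfsg.SU 3 F q)))).map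
        e.toMonoidHom) ≠ ⊤ := by
      intro h
      apply hH
      have h1 := congrArg (Subgroup.comap e.toMonoidHom) h
      rw [Subgroup.comap_map_eq_self_of_injective e.injective, Subgroup.comap_top] at h1
      rw [← Subgroup.map_comap_eq_self_of_surjective hmk H, h1,
        Subgroup.map_top_of_surjective _ hmk]
    have hZ : Subgroup.center (CfsgLib.Classical.Herm.HSU (CfsgLib.Classical.Herm.hermStd 3 hF)) ≤
        (H.comap (QuotientGroup.mk' (Subgroup.center (Cfsg.SU 3 F q)))).map e.toMonoidHom := by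
      rw [← CfsgLib.Classical.Herm.map_center_of_equiv e]
      refine Subgroup.map_mono fun z hz => ?_
      rw [Subgroup.mem_comap, show QuotientGroup.mk' (Subgroup.center (Cfsg.SU 3 F q)) z = 1 from
        (QuotientGroup.eq_one_iff z).2 hz]
      exact H.one_mem
    have h2 := CfsgLib.LocalEvenB.MinIndexSU.le_index_three hherm
      CfsgLib.Classical.Herm.finrank_std (by rw [hσ]; exact hq) _ hne hZ
    rw [hσ, Subgroup.index_map_of_bijective (f := e.toMonoidHom) e.bijective,
      Subgroup.index_comap_of_surjective _ hmk] at h2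
    exact h2.resolve_right fun h => h5 h.1
  · obtain ⟨H, hZ, hH⟩ := CfsgLib.LocalEvenB.MinIndexSU.exists_index hherm
      (m := 1) CfsgLib.Classical.Herm.finrank_std le_rfl
    rw [hσ, CfsgLib.LocalEvenB.MinIndexSU.Pn_three (by omega)] at hH
    refine ⟨(H.comap e.toMonoidHom).map
      (QuotientGroup.mk' (Subgroup.center (Cfsg.SU 3 F q))), ?_⟩
    rw [Subgroup.index_map_eq _ hmk ?_, Subgroup.index_comap_of_surjective (f := e.toMonoidHom) _ e.surjective, hH]
    rw [QuotientGroup.ker_mk']
    intro z hz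
    rw [Subgroup.mem_comap]
    refine hZ ?_
    rw [← CfsgLib.Classical.Herm.map_center_of_equiv e]
    exact Subgroup.mem_map_of_mem _ hz

end Cfsg.Agent.S2148
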