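import Cfsg.Statements.S2149
import Cfsg.Agent.Lib.LocalEvenB.MinIndexSU.ThreeIndex.Main
import Cfsg.Agent.Lib.LocalEvenB.UnitaryFive.Model
import Cfsg.Agent.Lib.Classical.Unitary.MatrixStructure
import Cfsg.Agent.Lib.Classical.Unitary.Two

set_option autoImplicit false
open Cfsg

namespace Cfsg.Agent.S2149

/-- Minimal index of a proper subgroup of PSU₃(5), realised over the field with 25 elements: every proper subgroup has index at least 50, and that index is attained. -/
theorem result {F : Type*} [Field F] [Fintype F] (hF : Fintype.card F = 25) : (∀ H : Subgroup (Cfsg.PSU 3 F 5), H ≠ ⊤ → 50 ≤ H.index) ∧ (∃ H : Subgroup (Cfsg.PSU 3 F 5), H.index = 50) := by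
  have hF2 : Fintype.card F = 5 ^ 2 := hF
  have hσ := CfsgLib.Classical.Herm.card_fixed_powHom hF2
  have hherm := CfsgLib.Classical.Herm.hermStd_isHerm (n := 3) hF2
  obtain ⟨e⟩ : Nonempty (Cfsg.SU 3 F 5 ≃* CfsgLib.Classical.Herm.HSU
      (CfsgLib.Classical.Herm.hermStd 3 hF2)) :=
    ⟨CfsgLib.Classical.Herm.suEquiv 3 hF2⟩
  have hmk : Function.Surjective
      (QuotientGroup.mk' (Subgroup.center (Cfsg.SU 3 F 5))) :=
    QuotientGroup.mk'_surjective _
  refine ⟨fun H hH => ?_, ?_⟩
  · have hne : ((H.comap (QuotientGroup.mk' (Subgroup.center (Cfsg.SU 3 F 5)))).map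
        e.toMonoidHom) ≠ ⊤ := by
      intro h
      apply hH
      have h1 := congrArg (Subgroup.comap e.toMonoidHom) h
      rw [Subgroup.comap_map_eq_self_of_injective e.injective, Subgroup.comap_top] at h1
      rw [← Subgroup.map_comap_eq_self_of_surjective hmk H, h1,
        Subgroup.map_top_of_surjective _ hmk]
    have hZ : Subgroup.center (CfsgLib.Classical.Herm.HSU (CfsgLib.Classical.Herm.hermStd 3 hF2)) ≤
        (H.comap (QuotientGroup.mk' (Subgroup.center (Cfsg.SU 3 F 5)))).map e.toMonoidHom := by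
      rw [← CfsgLib.Classical.Herm.map_center_of_equiv e]
      refine Subgroup.map_mono fun z hz => ?_
      rw [Subgroup.mem_comap, show QuotientGroup.mk' (Subgroup.center (Cfsg.SU 3 F 5)) z = 1 from
        (QuotientGroup.eq_one_iff z).2 hz]
      exact H.one_mem
    have h2 := CfsgLib.LocalEvenB.MinIndexSU.le_index_three hherm
      CfsgLib.Classical.Herm.finrank_std (by rw [hσ]; norm_num) _ hne hZ
    rw [hσ, Subgroup.index_map_of_bijective (f := e.toMonoidHom) e.bijective,
      Subgroup.index_comap_of_surjective _ hmk] at h2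
    omega
  · obtain ⟨hp, s, hs⟩ := CfsgLib.LocalEvenB.UnitaryFive.exists_sqrt_two hF
    have hc : Nat.card (Subgroup.center (Cfsg.SU 3 F 5)) = 3 :=
      CfsgLib.Classical.Herm.card_center_SU hF2 3 le_rfl
    have hP := CfsgLib.Classical.Herm.card_PSU hF2 3 (by norm_num)
    norm_num [Finset.prod_range_succ, Nat.even_iff] at hP
    refine ⟨(CfsgLib.LocalEvenB.UnitaryFive.grp hs).map
      (QuotientGroup.mk' (Subgroup.center (Cfsg.SU 3 F 5))), ?_⟩
    rw [Subgroup.index_map_eq _ hmk (by
      rw [QuotientGroup.ker_mk']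
      exact CfsgLib.LocalEvenB.UnitaryFive.center_le_grp hs hc)]
    have h3 := (CfsgLib.LocalEvenB.UnitaryFive.grp hs).index_mul_card
    have h4 := (Subgroup.center (Cfsg.SU 3 F 5)).card_eq_card_quotient_mul_card_subgroup
    rw [CfsgLib.LocalEvenB.UnitaryFive.card_grp hs, h4, hc] at h3
    unfold Cfsg.PSU at hP
    omega

end Cfsg.Agent.S2149
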