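import Cfsg.Statements.S2151
import Cfsg.Agent.Lib.LocalEvenB.MinIndexSU.MainOdd
import Cfsg.Agent.Lib.Classical.Unitary.MatrixStructure

set_option autoImplicit false
open Cfsg

namespace Cfsg.Agent.S2151

/-- Minimal index of a proper subgroup of the unitary groups of odd dimension n ≥ 5: for a field F with q² elements, every proper subgroup of PSU_n(q) has index at least (q^n + 1)(q^(n−1) − 1)/(q² − 1), and that index is attained. -/
theorem result {F : Type*} [Field F] [Fintype F] (q : ℕ) (hF : Fintype.card F = q ^ 2) (hq : 2 ≤ q) (n : ℕ) (hn : 5 ≤ n) (hodd : Odd n) : (∀ H : Subgroup (Cfsg.PSU n F q), H ≠ ⊤ → (q ^ n + 1) * (q ^ (n - 1) - 1) / (q ^ 2 - 1) ≤ H.index) ∧ (∃ H : Subgroup (Cfsg.PSU n F q), H.index = (q ^ n + 1) * (q ^ (n - 1) - 1) / (q ^ 2 - 1)) := by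
  obtain ⟨k, rfl⟩ : ∃ k, n = 2 * k + 5 := by
    obtain ⟨r, hr⟩ := hodd
    exact ⟨r - 2, by omega⟩
  have hσ := CfsgLib.Classical.Herm.card_fixed_powHom hF
  have hherm := CfsgLib.Classical.Herm.hermStd_isHerm (n := 2 * k + 5) hF
  have hPn : CfsgLib.LocalEvenB.MinIndexSU.Pn q (2 * k + 5) =
      (q ^ (2 * k + 5) + 1) * (q ^ (2 * k + 5 - 1) - 1) / (q ^ 2 - 1) := by
    rw [CfsgLib.LocalEvenB.MinIndexSU.Pn, CfsgLib.Classical.Herm.ordFactor,
      CfsgLib.Classical.Herm.ordFactor, if_pos (by rw [Nat.even_iff]; omega),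
      if_neg (by rw [Nat.even_iff]; omega)]
    congr 3
  rw [← hPn]
  obtain ⟨e⟩ : Nonempty (Cfsg.SU (2 * k + 5) F q ≃* CfsgLib.Classical.Herm.HSU
      (CfsgLib.Classical.Herm.hermStd (2 * k + 5) hF)) :=
    ⟨CfsgLib.Classical.Herm.suEquiv (2 * k + 5) hF⟩
  have hmk : Function.Surjective
      (QuotientGroup.mk' (Subgroup.center (Cfsg.SU (2 * k + 5) F q))) :=
    QuotientGroup.mk'_surjective _
  refine ⟨fun H hH => ?_, ?_⟩
  · have hne : ((H.comap (QuotientGroup.mk' (Subgroup.center (Cfsg.SU (2 * k + 5) F q)))).map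
        e.toMonoidHom) ≠ ⊤ := by
      intro h
      apply hH
      have h1 := congrArg (Subgroup.comap e.toMonoidHom) h
      rw [Subgroup.comap_map_eq_self_of_injective e.injective, Subgroup.comap_top] at h1
      rw [← Subgroup.map_comap_eq_self_of_surjective hmk H, h1,
        Subgroup.map_top_of_surjective _ hmk]
    have h2 := CfsgLib.LocalEvenB.MinIndexSU.le_index_odd (σ := CfsgLib.Classical.Herm.powHom hF)
      k hherm CfsgLib.Classical.Herm.finrank_std _ hne
    rw [hσ, Subgroup.index_map_of_bijective (f := e.toMonoidHom) e.bijective,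
      Subgroup.index_comap_of_surjective _ hmk] at h2
    exact h2
  · obtain ⟨H, hZ, hH⟩ := CfsgLib.LocalEvenB.MinIndexSU.exists_index hherm
      (m := 2 * k + 3) CfsgLib.Classical.Herm.finrank_std (by omega)
    rw [hσ] at hH
    refine ⟨(H.comap e.toMonoidHom).map
      (QuotientGroup.mk' (Subgroup.center (Cfsg.SU (2 * k + 5) F q))), ?_⟩
    rw [Subgroup.index_map_eq _ hmk ?_, Subgroup.index_comap_of_surjective (f := e.toMonoidHom) _ e.surjective, hH]
    rw [QuotientGroup.ker_mk']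
    intro z hz
    rw [Subgroup.mem_comap]
    refine hZ ?_
    rw [← CfsgLib.Classical.Herm.map_center_of_equiv e]
    exact Subgroup.mem_map_of_mem _ hz

end Cfsg.Agent.S2151
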