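import Cfsg.Statements.S2153
import Cfsg.Agent.Lib.LocalEvenB.MinIndexSU.MainTwoEven
import Cfsg.Agent.Lib.Classical.Unitary.MatrixStructure

set_option autoImplicit false
open Cfsg

namespace Cfsg.Agent.S2153

/-- Minimal index of a proper subgroup of the unitary groups PSU_n(2) with n divisible by 6, realised over the field with 4 elements: every proper subgroup has index at least 2^(n−1)(2^n − 1)/3, and that index is attained. -/
theorem result {F : Type*} [Field F] [Fintype F] (hF : Fintype.card F = 4) (n : ℕ) (hn : 6 ∣ n) (hpos : 6 ≤ n) : (∀ H : Subgroup (Cfsg.PSU n F 2), H ≠ ⊤ → 2 ^ (n - 1) * (2 ^ n - 1) / 3 ≤ H.index) ∧ (∃ H : Subgroup (Cfsg.PSU n F 2), H.index = 2 ^ (n - 1) * (2 ^ n - 1) / 3) := by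
  obtain ⟨k, rfl⟩ : ∃ k, n = 2 * k + 6 := by
    obtain ⟨r, hr⟩ := hn
    exact ⟨3 * r - 3, by omega⟩
  have hF2 : Fintype.card F = 2 ^ 2 := by rw [hF]; norm_num
  have hσ := CfsgLib.Classical.Herm.card_fixed_powHom hF2
  have hherm := CfsgLib.Classical.Herm.hermStd_isHerm (n := 2 * k + 6) hF2
  rw [show 2 ^ (2 * k + 6 - 1) * (2 ^ (2 * k + 6) - 1) / 3 =
    CfsgLib.LocalEvenB.MinIndexSU.Nn (2 * k + 6) from rfl]
  obtain ⟨e⟩ : Nonempty (Cfsg.SU (2 * k + 6) F 2 ≃* CfsgLib.Classical.Herm.HSU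
      (CfsgLib.Classical.Herm.hermStd (2 * k + 6) hF2)) :=
    ⟨CfsgLib.Classical.Herm.suEquiv (2 * k + 6) hF2⟩
  have hmk : Function.Surjective
      (QuotientGroup.mk' (Subgroup.center (Cfsg.SU (2 * k + 6) F 2))) :=
    QuotientGroup.mk'_surjective _
  refine ⟨fun H hH => ?_, ?_⟩
  · have hne : ((H.comap (QuotientGroup.mk' (Subgroup.center (Cfsg.SU (2 * k + 6) F 2)))).map
        e.toMonoidHom) ≠ ⊤ := by
      intro h
      apply hH
      have h1 := congrArg (Subgroup.comap e.toMonoidHom) h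
      rw [Subgroup.comap_map_eq_self_of_injective e.injective, Subgroup.comap_top] at h1
      rw [← Subgroup.map_comap_eq_self_of_surjective hmk H, h1,
        Subgroup.map_top_of_surjective _ hmk]
    have h2 := CfsgLib.LocalEvenB.MinIndexSU.le_index_two_even
      (σ := CfsgLib.Classical.Herm.powHom hF2) hσ k hherm CfsgLib.Classical.Herm.finrank_std _ hne
    rw [Subgroup.index_map_of_bijective (f := e.toMonoidHom) e.bijective,
      Subgroup.index_comap_of_surjective _ hmk] at h2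
    exact h2
  · obtain ⟨H, hZ, hH⟩ := CfsgLib.LocalEvenB.MinIndexSU.exists_index_two hherm hσ
      (m := 2 * k + 5) CfsgLib.Classical.Herm.finrank_std ⟨k + 2, by ring⟩ (by omega)
    refine ⟨(H.comap e.toMonoidHom).map
      (QuotientGroup.mk' (Subgroup.center (Cfsg.SU (2 * k + 6) F 2))), ?_⟩
    rw [Subgroup.index_map_eq _ hmk ?_, Subgroup.index_comap_of_surjective (f := e.toMonoidHom) _ e.surjective, hH]
    rw [QuotientGroup.ker_mk']
    intro z hz
    rw [Subgroup.mem_comap]
    refine hZ ?_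
    rw [← CfsgLib.Classical.Herm.map_center_of_equiv e]
    exact Subgroup.mem_map_of_mem _ hz

end Cfsg.Agent.S2153
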