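import Cfsg.Statements.S2154
import Cfsg.Agent.Lib.Lie.Rel.BorelTits
import Cfsg.Agent.Lib.Lie.Rel.Sylow
import Cfsg.Agent.Lib.Lie.Rel.ParabolicFacts
import Cfsg.Agent.Lib.Lie.Rel.ParabolicData

set_option autoImplicit false
open Cfsg

namespace Cfsg.Agent.S2154

open CfsgLib.Lie.Chev

/-- The Borel–Tits property of the finite Chevalley groups of types G₂, B₂, D₄, F₄, E₆, E₇, E₈ over a finite field of characteristic p: for every non-trivial p-subgroup U of the group G there are an element g of G and a proper set J of fundamental roots such that the normaliser of U in G lies in the conjugate by g of the standard parabolic subgroup P_J and U lies in the conjugate by g of its unipotent radical U_J. -/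
theorem result {F : Type*} [Field F] [Fintype F] (p : ℕ) [Fact p.Prime] [CharP F p] (D : Cfsg.Lie.ChevalleyDatum) (hD : D ∈ [Cfsg.Lie.chevG2, Cfsg.Lie.chevB2, Cfsg.Lie.chevD4, Cfsg.Lie.chevF4, Cfsg.Lie.chevE6, Cfsg.Lie.chevE7, Cfsg.Lie.chevE8]) (U : Subgroup (GL D.Idx F)) (hUG : U ≤ D.group F) (hU : IsPGroup p ↥U) (hne : U ≠ ⊥) : ∃ g ∈ D.group F, ∃ J : Set ℕ, (∃ i, i < D.rank ∧ i ∉ J) ∧ Subgroup.normalizer (U : Set (GL D.Idx F)) ⊓ D.group F ≤ (D.parabolicSubgroup F J).map (MulAut.conj g).toMonoidHom ∧ U ≤ (D.unipotentRadical F J).map (MulAut.conj g).toMonoidHom := by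
  classical
  obtain ⟨X, C, -⟩ := exists_desc hD
  let R := chevRel C F
  have hfin : Finite ↥(D.group F) := R.Finite_of_field
  let Q : Subgroup ↥(D.group F) := U.subgroupOf (D.group F)
  have hQne : Q ≠ ⊥ := by
    intro h
    refine hne ((Subgroup.eq_bot_iff_forall _).2 fun x hx => ?_)
    have h1 : (⟨x, hUG hx⟩ : ↥(D.group F)) ∈ Q := hx
    rw [h, Subgroup.mem_bot] at h1
    exact congrArg Subtype.val h1
  have hQp : IsPGroup p ↥Q := hU.of_equiv (Subgroup.subgroupOfEquivOfLe hUG).symm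
  obtain ⟨P, hP⟩ := pos_unipotent_sylow C F p
  have hPUP : (P : Subgroup ↥(D.group F)) = R.UP := by rw [hP, posUnipotent_eq C F, subgroupOf_map C F]
  obtain ⟨S, hS⟩ := hQp.exists_le_sylow
  obtain ⟨g₀, hg₀⟩ := MulAction.exists_smul_eq ↥(D.group F) P S
  obtain ⟨g, J, hJ, hN, hR⟩ := R.borel_tits Q hQne g₀ fun x hx => by
    have h1 := hS hx
    rw [← hg₀, Sylow.coe_subgroup_smul, Subgroup.mem_pointwise_smul_iff_inv_smul_mem] at h1
    have h2 : g₀⁻¹ * x * g₀⁻¹⁻¹ ∈ (P : Subgroup ↥(D.group F)) := h1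
    rw [inv_inv, hPUP] at h2
    exact h2
  refine ⟨g, g.2, J, hJ, ?_, ?_⟩
  · rintro x ⟨hx, hxG⟩
    have h1 : (⟨x, hxG⟩ : ↥(D.group F)) ∈ Subgroup.normalizer (Q : Set ↥(D.group F)) :=
      Subgroup.mem_normalizer_iff.2 fun y => Subgroup.mem_normalizer_iff.1 hx (y : GL D.Idx F)
    refine ⟨((g⁻¹ * ⟨x, hxG⟩ * g : ↥(D.group F)) : GL D.Idx F), ?_, ?_⟩
    · rw [parabolicSubgroup_eq C F J]
      exact ⟨_, hN _ h1, rfl⟩
    · simp only [Subgroup.coe_mul, InvMemClass.coe_inv, MulEquiv.coe_toMonoidHom, MulAut.conj_apply]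
      group
  · intro x hx
    refine ⟨((g⁻¹ * ⟨x, hUG hx⟩ * g : ↥(D.group F)) : GL D.Idx F), ?_, ?_⟩
    · rw [unipotentRadical_eq C F J]
      exact ⟨_, hR _ hx, rfl⟩
    · simp only [Subgroup.coe_mul, InvMemClass.coe_inv, MulEquiv.coe_toMonoidHom, MulAut.conj_apply]
      group

end Cfsg.Agent.S2154
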