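import Cfsg.Statements.S2155
import Cfsg.Agent.Lib.Lie.Rel.ParabolicFacts
import Cfsg.Agent.Lib.Lie.Rel.Checks
import Cfsg.Agent.Lib.Lie.Rel.Sylow
import Cfsg.Agent.Lib.LocalEvenB.CharP
import Cfsg.Agent.Lib.Lie.WeakClosed.ParabolicCentralizer

set_option autoImplicit false
open Cfsg

namespace Cfsg.Agent.S2155

/-- In a Chevalley group of type G₂, B₂, D₄, F₄, E₆, E₇ or E₈ over a finite field of characteristic p (for types G₂ and B₂ the field is assumed to have at least 3 elements, so that the group is simple), the generalized Fitting subgroup of every proper standard parabolic subgroup P_J is a p-group (P_J is p-constrained with trivial largest normal subgroup of order prime to p). -/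
theorem result {F : Type*} [Field F] [Fintype F] (p : ℕ) [Fact p.Prime] [CharP F p] (D : Cfsg.Lie.ChevalleyDatum) (hD : D ∈ [Cfsg.Lie.chevG2, Cfsg.Lie.chevB2, Cfsg.Lie.chevD4, Cfsg.Lie.chevF4, Cfsg.Lie.chevE6, Cfsg.Lie.chevE7, Cfsg.Lie.chevE8]) (hq : (D = Cfsg.Lie.chevG2 ∨ D = Cfsg.Lie.chevB2) → 3 ≤ Fintype.card F) (J : Set ℕ) (hJ : ∃ i, i < D.rank ∧ i ∉ J) : IsPGroup p ↥(Cfsg.generalizedFittingSubgroup ↥(D.parabolicSubgroup F J)) := by
  classical
  obtain ⟨A, hC, hdesc⟩ := CfsgLib.Lie.Chev.exists_desc hD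
  obtain ⟨R, hR⟩ : ∃ R, R = CfsgLib.Lie.Chev.chevRel hC F := ⟨_, rfl⟩
  have : Finite ↥(D.group F) := R.Finite_of_field
  obtain ⟨P, hP⟩ := CfsgLib.Lie.Chev.pos_unipotent_sylow hC F p
  rw [CfsgLib.Lie.Chev.posUnipotent_eq hC F, CfsgLib.Lie.Chev.subgroupOf_map hC F, ← hR] at hP
  have hUpg : IsPGroup p ↥R.UP := hP ▸ P.isPGroup'
  have hle : R.UR J ≤ R.PJ J :=
    le_trans le_sup_left (R.UR_sup_LJ J hdesc).le
  have hker : R.θ.ker = ⊥ := by
    rw [hR]; exact (MonoidHom.ker_eq_bot_iff _).2 (CfsgLib.Lie.Chev.chevRel_injective hC F)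
  have hcent := R.centralizer_UR_le J hdesc (CfsgLib.Lie.Chev.chkSymm_of_mem hD)
    (CfsgLib.Lie.Chev.connected_of_mem hD) hker hJ
  have hn : ((R.UR J).subgroupOf (R.PJ J)).Normal :=
    Subgroup.normal_subgroupOf_of_le_normalizer (R.PJ_le_normalizer J hdesc)
  have hQ : (R.UR J).subgroupOf (R.PJ J) ≤ Cfsg.pCore p ↥(R.PJ J) :=
    CfsgLib.Core.le_pCore ((hUpg.to_le (R.US_mono fun r hr => hr.1)).comap_subtype)
  have hC' : Subgroup.centralizer ((Cfsg.pCore p ↥(R.PJ J) : Subgroup ↥(R.PJ J)) : Set ↥(R.PJ J)) ≤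
      Cfsg.pCore p ↥(R.PJ J) := by
    intro x hx
    refine hQ (Subgroup.mem_subgroupOf.2 (hcent (Subgroup.mem_inf.2 ⟨x.2, Subgroup.mem_centralizer_iff.2 fun q hq => ?_⟩)))
    exact congrArg Subtype.val (Subgroup.mem_centralizer_iff.1 hx ⟨q, hle hq⟩ (hQ (Subgroup.mem_subgroupOf.2 hq)))
  have h1 := (CfsgLib.LocalEvenB.gFitting_eq_pCore_iff (G := ↥(R.PJ J)) (p := p)).2 hC'
  rw [CfsgLib.Lie.Chev.parabolicSubgroup_eq hC F J, ← hR]
  have hpg : IsPGroup p ↥(Cfsg.generalizedFittingSubgroup ↥(R.PJ J)) := by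
    rw [h1]; exact CfsgLib.Components.pCore_isPGroup p
  have e := (R.PJ J).equivMapOfInjective (D.group F).subtype Subtype.val_injective
  rw [← CfsgLib.Components.gFitting_map_equiv e]
  exact hpg.map _

end Cfsg.Agent.S2155
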