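import Cfsg.Statements.S2160
import Cfsg.Agent.Lib.Known.ChevGen
import Cfsg.Agent.Lib.Lie.Chev.All

set_option autoImplicit false
open Cfsg

namespace Cfsg.Agent.S2160

/-- In a Chevalley group of type G₂, B₂, D₄, F₄, E₆, E₇ or E₈ over a finite field, every field automorphism commutes with every graph automorphism. -/
theorem result {F : Type*} [Field F] [Finite F] (D : Cfsg.Lie.ChevalleyDatum) (hD : D ∈ [Cfsg.Lie.chevG2, Cfsg.Lie.chevB2, Cfsg.Lie.chevD4, Cfsg.Lie.chevF4, Cfsg.Lie.chevE6, Cfsg.Lie.chevE7, Cfsg.Lie.chevE8]) (f g : ↥(D.group F) ≃* ↥(D.group F))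
    (hf : D.IsFieldAut f) (hg : D.IsGraphAut g) (y : ↥(D.group F)) : f (g y) = g (f y) := by
  obtain ⟨X, C⟩ := CfsgLib.Lie.Chev.cert_of_mem hD
  obtain ⟨R, hR⟩ : ∃ R, R = CfsgLib.Lie.Chev.chevRel C F := ⟨_, rfl⟩
  obtain ⟨σ, hσ⟩ := hf
  obtain ⟨π, -, hπ⟩ := hg
  subst hR
  have hfx : ∀ (r : ℕ), r < D.nroots → ∀ t : F,
      f ((CfsgLib.Lie.Chev.chevRel C F).xe r t) = (CfsgLib.Lie.Chev.chevRel C F).xe r (σ t) :=
    fun r hr t => Subtype.ext (Units.ext (hσ _ r t hr rfl))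
  have hgx : ∀ (i : Fin D.rank) (t : F),
      g ((CfsgLib.Lie.Chev.chevRel C F).xe (D.simple i) t) =
          (CfsgLib.Lie.Chev.chevRel C F).xe (D.simple (π i)) (t ^ D.graphExp (ringChar F) i (π i)) ∧
      g ((CfsgLib.Lie.Chev.chevRel C F).xe (D.neg (D.simple i)) t) =
          (CfsgLib.Lie.Chev.chevRel C F).xe (D.neg (D.simple (π i))) (t ^ D.graphExp (ringChar F) i (π i)) :=
    fun i t => ⟨Subtype.ext (Units.ext ((hπ _ i t).1 rfl)), Subtype.ext (Units.ext ((hπ _ i t).2 rfl))⟩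
  have key : f.toMonoidHom.comp g.toMonoidHom = g.toMonoidHom.comp f.toMonoidHom := by
    refine CfsgLib.Known.ChevGen.hom_ext (CfsgLib.Lie.Chev.chevRel C F) fun i t => ?_
    have hs := C.simple_lt i.2
    have hs' := C.simple_lt (π i).2
    simp only [MonoidHom.comp_apply, MulEquiv.coe_toMonoidHom]
    refine ⟨?_, ?_⟩
    · rw [(hgx i t).1, hfx _ hs', hfx _ hs, (hgx i _).1, map_pow]
    · rw [(hgx i t).2, hfx _ (C.neg_lt hs'), hfx _ (C.neg_lt hs), (hgx i _).2, map_pow]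
  exact DFunLike.congr_fun key y

end Cfsg.Agent.S2160
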