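import Cfsg.Statements.S2163

-- helpers

set_option autoImplicit false
open Cfsg

namespace Cfsg.Agent.S2163

/-- Over a finite field of characteristic two and for n ≥ 3: for every ℓ with 1 ≤ ℓ and 2ℓ ≤ n, the matrix j_ℓ that is the identity plus the entries 1 in positions (n − ℓ + i, i) for i < ℓ (an identity block of size ℓ in the lower left corner) lies in SL_n(F), has order 2, and j_ℓ − 1 has rank ℓ. Together with the conjugacy criterion by rank, these matrices represent the conjugacy classes of involutions of SL_n(F). -/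
theorem result {F : Type*} [Field F] [Fintype F] [CharP F 2] {n : ℕ} (hn : 3 ≤ n) (ℓ : ℕ) (h1 : 1 ≤ ℓ) (h2 : 2 * ℓ ≤ n) :
    ∃ a : Matrix.SpecialLinearGroup (Fin n) F, (a : Matrix (Fin n) (Fin n) F) = 1 + Matrix.of (fun i j : Fin n => if j.val < ℓ ∧ i.val = j.val + (n - ℓ) then (1 : F) else 0) ∧ orderOf a = 2 ∧ ((a : Matrix (Fin n) (Fin n) F) - 1).rank = ℓ := by
  classical
  haveI : NeZero n := ⟨by omega⟩
  set A : Matrix (Fin n) (Fin n) F :=
    Matrix.of (fun i j : Fin n => if j.val < ℓ ∧ i.val = j.val + (n - ℓ) then (1 : F) else 0) with hA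
  have hAA : A * A = 0 := by
    ext i j
    rw [Matrix.mul_apply, Matrix.zero_apply]
    refine Finset.sum_eq_zero fun k _ => ?_
    simp only [hA, Matrix.of_apply]
    by_cases h : k.val < ℓ ∧ i.val = k.val + (n - ℓ)
    · rw [if_neg (show ¬ (j.val < ℓ ∧ k.val = j.val + (n - ℓ)) by omega), mul_zero]
    · rw [if_neg h, zero_mul]
  have hsq : (1 + A) * (1 + A) = 1 := by
    rw [mul_add, add_mul, add_mul, mul_one, one_mul, hAA, add_zero, mul_one]
    ext i j
    simp only [Matrix.add_apply]
    rw [add_assoc, CharTwo.add_self_eq_zero, add_zero]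
  have hd : (1 + A).det = 1 := by
    have h := congrArg Matrix.det hsq
    rw [Matrix.det_mul, Matrix.det_one, mul_self_eq_one_iff] at h
    rcases h with h | h
    · exact h
    · rw [h, CharTwo.neg_eq]
  let a : Matrix.SpecialLinearGroup (Fin n) F := ⟨1 + A, hd⟩
  let σ : Fin n ≃ Fin n := Equiv.addRight (⟨n - ℓ, by omega⟩ : Fin n)
  have hrank : A.rank = ℓ := by
    have hAD : A.submatrix σ (Equiv.refl _) = Matrix.diagonal (fun i : Fin n => if i.val < ℓ then (1 : F) else 0) := by
      ext i j
      simp only [hA, σ, Matrix.submatrix_apply, Matrix.of_apply, Equiv.refl_apply, Equiv.coe_addRight,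
        Matrix.diagonal_apply, Fin.ext_iff]
      have hv : ((i + (⟨n - ℓ, by omega⟩ : Fin n) : Fin n) : ℕ) = (i.val + (n - ℓ)) % n := Fin.val_add _ _
      rcases lt_or_ge (i.val + (n - ℓ)) n with h | h
      · rw [Nat.mod_eq_of_lt h] at hv
        split_ifs <;> first | rfl | omega
      · have hm : (i.val + (n - ℓ)) % n = i.val + (n - ℓ) - n := by
          rw [Nat.mod_eq_sub_mod h, Nat.mod_eq_of_lt (by omega)]
        rw [hm] at hv
        split_ifs <;> first | rfl | omega
    rw [← Matrix.rank_submatrix A σ (Equiv.refl _), hAD, Matrix.rank_diagonal]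
    have hiff : ∀ i : Fin n, (if i.val < ℓ then (1 : F) else 0) ≠ 0 ↔ i.val < ℓ := fun i => by
      split_ifs with h <;> simp [h]
    rw [Fintype.card_congr (Equiv.subtypeEquivRight hiff)]
    rw [Fintype.card_congr (Fin.castLEquiv (n := ℓ) (m := n) (by omega)).symm, Fintype.card_fin]
  refine ⟨a, rfl, orderOf_eq_prime (Subtype.ext ?_) ?_, ?_⟩
  · rw [sq, Matrix.SpecialLinearGroup.coe_mul, Matrix.SpecialLinearGroup.coe_one]
    exact hsq
  · intro h
    have h' : 1 + A = 1 := congrArg Subtype.val h
    rw [add_eq_left] at h'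
    rw [h', Matrix.rank_zero] at hrank
    omega
  · show (1 + A - 1).rank = ℓ
    rw [add_sub_cancel_left, hrank]

end Cfsg.Agent.S2163
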