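import Cfsg.Statements.S2165

-- helpers

set_option autoImplicit false
open Cfsg

namespace Cfsg.Agent.S2165

/-- In SU_n(q), q even, n ≥ 3 (matrices of determinant 1 over the field with q² elements preserving Σ u_i v_i^q): for every ℓ with 1 ≤ ℓ and 2ℓ ≤ n, the permutation matrix of the involution of {0, …, n−1} exchanging i and n − ℓ + i for each i < ℓ lies in SU_n(q), has order 2, and differs from the identity by a matrix of rank ℓ. So every rank between 1 and n/2 occurs for involutions of SU_n(q). -/
theorem result {F : Type*} [Field F] [Fintype F] [CharP F 2] {n q : ℕ} (hF : Fintype.card F = q ^ 2) (hn : 3 ≤ n) (ℓ : ℕ) (h1 : 1 ≤ ℓ) (h2 : 2 * ℓ ≤ n) :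
    ∃ a : ↥(Cfsg.SU n F q), (((a : Matrix.SpecialLinearGroup (Fin n) F) : Matrix (Fin n) (Fin n) F) = Matrix.of (fun i j : Fin n => if (j.val < ℓ ∧ i.val = j.val + (n - ℓ)) ∨ (i.val < ℓ ∧ j.val = i.val + (n - ℓ)) ∨ (i = j ∧ ℓ ≤ i.val ∧ i.val < n - ℓ) then (1 : F) else 0)) ∧ orderOf a = 2 ∧ ((((a : Matrix.SpecialLinearGroup (Fin n) F) : Matrix (Fin n) (Fin n) F)) - 1).rank = ℓ := by
  classical
  set d := n - ℓ with hd
  have hval : ∀ i : Fin n, (if i.val < ℓ then i.val + d else if d ≤ i.val then i.val - d else i.val) < n := fun i => by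
    split_ifs <;> omega
  let s : Fin n → Fin n := fun i => ⟨_, hval i⟩
  have hs : Function.Involutive s := fun i => Fin.ext (by
    simp only [s]
    split_ifs <;> omega)
  let σ : Equiv.Perm (Fin n) := hs.toPerm s
  have hM : Matrix.of (fun i j : Fin n => if (j.val < ℓ ∧ i.val = j.val + (n - ℓ)) ∨
      (i.val < ℓ ∧ j.val = i.val + (n - ℓ)) ∨ (i = j ∧ ℓ ≤ i.val ∧ i.val < n - ℓ) then (1 : F) else 0) =
      σ.permMatrix F := by
    ext i j
    rw [Matrix.of_apply, Equiv.Perm.permMatrix, PEquiv.toMatrix_apply]
    refine if_congr ?_ rfl rfl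
    simp only [Equiv.toPEquiv_apply, Option.mem_some_iff]
    show _ ↔ s i = j
    simp only [s, Fin.ext_iff]
    split_ifs <;> omega
  have hdet : (σ.permMatrix F).det = 1 := by
    rw [Matrix.det_permutation]
    rcases Int.units_eq_one_or (Equiv.Perm.sign σ) with h | h <;> simp [h, CharTwo.neg_eq]
  have hmul : ∀ v, (σ.permMatrix F).mulVec v = fun i => v (σ i) := fun v => by
    rw [Equiv.Perm.permMatrix, PEquiv.toMatrix_toPEquiv_mulVec]
    rfl
  let a0 : Matrix.SpecialLinearGroup (Fin n) F := ⟨σ.permMatrix F, hdet⟩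
  have ha0 : a0 ∈ Cfsg.SU n F q := fun u v => by
    show Cfsg.hermForm n F q ((σ.permMatrix F).mulVec u) ((σ.permMatrix F).mulVec v) = _
    rw [hmul, hmul]
    exact Equiv.sum_comp σ fun i => u i * v i ^ q
  have hsq : a0 * a0 = 1 := by
    refine Subtype.ext (Matrix.toLin'.injective (LinearMap.ext fun v => ?_))
    rw [Matrix.toLin'_apply, Matrix.toLin'_apply, Matrix.SpecialLinearGroup.coe_one, Matrix.one_mulVec,
      Matrix.SpecialLinearGroup.coe_mul, ← Matrix.mulVec_mulVec]
    show (σ.permMatrix F).mulVec ((σ.permMatrix F).mulVec v) = v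
    rw [hmul, hmul]
    funext i
    exact congrArg v (hs i)
  have hrank : (σ.permMatrix F - 1).rank = ℓ := by
    let ι : Fin ℓ → Fin n := fun k => ⟨k.val, by omega⟩
    have hentry : ∀ i j, (σ.permMatrix F - 1) i j = (if s i = j then 1 else 0) - (if i = j then 1 else 0) := by
      intro i j
      rw [Matrix.sub_apply, Equiv.Perm.permMatrix, PEquiv.toMatrix_apply, Matrix.one_apply]
      simp [σ]
    refine le_antisymm ?_ ?_
    · have hfac : σ.permMatrix F - 1 =
          Matrix.of (fun (i : Fin n) (k : Fin ℓ) => if (i : ℕ) = k.val ∨ (i : ℕ) = k.val + d then (1 : F) else 0) *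
            (σ.permMatrix F - 1).submatrix ι id := by
        ext i j
        rw [Matrix.mul_apply]
        simp only [Matrix.of_apply, Matrix.submatrix_apply, id, hentry]
        by_cases h : i.val < ℓ
        · rw [Finset.sum_eq_single (⟨i.val, h⟩ : Fin ℓ)]
          · simp [ι]
          · intro k _ hk
            rw [if_neg, zero_mul]
            simp only [Ne, Fin.ext_iff] at hk
            omega
          · simp
        by_cases h' : d ≤ i.val
        · rw [Finset.sum_eq_single (⟨i.val - d, by omega⟩ : Fin ℓ)]
          · rw [if_pos (Or.inr (by simp only; omega)), one_mul]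
            have e1 : s i = ι ⟨i.val - d, by omega⟩ := Fin.ext (by simp only [s, ι]; rw [if_neg h, if_pos h'])
            rw [← e1, hs i, ← CharTwo.neg_eq ((if i = j then (1 : F) else 0) - if s i = j then (1 : F) else 0),
              neg_sub]
          · intro k _ hk
            rw [if_neg, zero_mul]
            simp only [Ne, Fin.ext_iff] at hk
            omega
          · simp
        · rw [show s i = i from Fin.ext (by simp only [s]; rw [if_neg h, if_neg h']), sub_self]
          refine (Finset.sum_eq_zero fun k _ => ?_).symm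
          rw [if_neg, zero_mul]
          omega
      rw [hfac]
      exact le_trans (Matrix.rank_mul_le_left _ _) (le_trans (Matrix.rank_le_width _) le_rfl)
    · have h := Matrix.rank_submatrix_le (σ.permMatrix F - 1) ι ι
      have he : (σ.permMatrix F - 1).submatrix ι ι = (1 : Matrix (Fin ℓ) (Fin ℓ) F) := by
        ext k l
        rw [Matrix.submatrix_apply, hentry, if_neg, Matrix.one_apply]
        · simp [ι, Fin.ext_iff, CharTwo.neg_eq]
        · intro hh
          have := congrArg Fin.val hh
          simp only [s, ι] at this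
          rw [if_pos k.2] at this
          omega
      rw [he, Matrix.rank_one, Fintype.card_fin] at h
      exact h
  refine ⟨⟨a0, ha0⟩, hM.symm, ?_, hrank⟩
  refine orderOf_eq_prime ?_ ?_
  · rw [sq]
    exact Subtype.ext hsq
  · intro h
    have h' : σ.permMatrix F = 1 := congrArg (fun x : ↥(Cfsg.SU n F q) =>
      ((x : Matrix.SpecialLinearGroup (Fin n) F) : Matrix (Fin n) (Fin n) F)) h
    rw [h', sub_self, Matrix.rank_zero] at hrank
    omega

end Cfsg.Agent.S2165
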