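import Cfsg.Statements.S2167
import Cfsg.Agent.Lib.Known.AltRank

set_option autoImplicit false
open Cfsg

namespace Cfsg.Agent.S2167

/-- For an involution t of the symplectic group Sp_{2m}(F), m ≥ 2, F a finite field of characteristic two (matrices A with A J Aᵀ = J acting on column vectors, alternating form f(u, v) = u ⬝ (J v)): the set V(t) of vectors v with f(v, t v) = 0 has either q^{2m} or q^{2m−1} elements, q the order of F (it is a subspace of codimension at most 1), and if it is the whole space then t − 1 has even rank. -/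
theorem result {F : Type*} [Field F] [Fintype F] [CharP F 2] {m : ℕ} (hm : 2 ≤ m) (a : ↥(Matrix.symplecticGroup (Fin m) F)) (ha : orderOf a = 2) :
    (Nat.card {v : Fin m ⊕ Fin m → F // Cfsg.sympForm m F v (Matrix.mulVec ((a : ↥(Matrix.symplecticGroup (Fin m) F)) : Matrix (Fin m ⊕ Fin m) (Fin m ⊕ Fin m) F) v) = 0} = Fintype.card F ^ (2 * m) ∨ Nat.card {v : Fin m ⊕ Fin m → F // Cfsg.sympForm m F v (Matrix.mulVec ((a : ↥(Matrix.symplecticGroup (Fin m) F)) : Matrix (Fin m ⊕ Fin m) (Fin m ⊕ Fin m) F) v) = 0} * Fintype.card F = Fintype.card F ^ (2 * m)) ∧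
    ((∀ v : Fin m ⊕ Fin m → F, Cfsg.sympForm m F v (Matrix.mulVec ((a : ↥(Matrix.symplecticGroup (Fin m) F)) : Matrix (Fin m ⊕ Fin m) (Fin m ⊕ Fin m) F) v) = 0) → Even (((a : ↥(Matrix.symplecticGroup (Fin m) F)) : Matrix (Fin m ⊕ Fin m) (Fin m ⊕ Fin m) F) - 1).rank) := by
  classical
  set T : Matrix (Fin m ⊕ Fin m) (Fin m ⊕ Fin m) F := (a : Matrix (Fin m ⊕ Fin m) (Fin m ⊕ Fin m) F) with hTdef
  set J : Matrix (Fin m ⊕ Fin m) (Fin m ⊕ Fin m) F := Matrix.J (Fin m) F with hJdef
  have h2 : (2 : F) = 0 := CharTwo.two_eq_zero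
  have hTT : T * T = 1 := by
    have h := pow_orderOf_eq_one a
    rw [ha, sq] at h
    exact congrArg Subtype.val h
  have hTJ : Matrix.transpose T * J * T = J := by
    exact SymplecticGroup.mem_iff'.1 a.2
  have hf : ∀ x y, Cfsg.sympForm m F (T.mulVec x) (T.mulVec y) = Cfsg.sympForm m F x y := fun x y => by
    simp only [Cfsg.sympForm, ← hJdef]
    rw [Matrix.mulVec_mulVec, Matrix.dotProduct_mulVec, Matrix.vecMul_mulVec, ← Matrix.dotProduct_mulVec,
      ← mul_assoc, hTJ]
  have hskew : ∀ x y, Cfsg.sympForm m F y x = Cfsg.sympForm m F x y := fun x y => by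
    simp only [Cfsg.sympForm]
    rw [dotProduct_comm y, ← Matrix.vecMul_transpose, Matrix.J_transpose, Matrix.vecMul_neg,
      neg_dotProduct, ← Matrix.dotProduct_mulVec, CharTwo.neg_eq]
  have hadd : ∀ x y, Cfsg.sympForm m F (x + y) (T.mulVec (x + y)) =
      Cfsg.sympForm m F x (T.mulVec x) + Cfsg.sympForm m F y (T.mulVec y) := fun x y => by
    have h1 : Cfsg.sympForm m F y (T.mulVec x) = Cfsg.sympForm m F x (T.mulVec y) := by
      rw [← hf y, Matrix.mulVec_mulVec, hTT, Matrix.one_mulVec, hskew]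
    simp only [Cfsg.sympForm] at h1 ⊢
    simp only [Matrix.mulVec_add, add_dotProduct, dotProduct_add]
    linear_combination h1 + (x ⬝ᵥ (Matrix.J (Fin m) F).mulVec (T.mulVec y)) * h2
  have hsmul : ∀ (c : F) x, Cfsg.sympForm m F (c • x) (T.mulVec (c • x)) = c ^ 2 * Cfsg.sympForm m F x (T.mulVec x) :=
    fun c x => by
      simp only [Cfsg.sympForm, Matrix.mulVec_smul, smul_dotProduct, dotProduct_smul, smul_eq_mul]
      ring
  let φ : (Fin m ⊕ Fin m → F) →+ F :=
    AddMonoidHom.mk' (fun x => Cfsg.sympForm m F x (T.mulVec x)) hadd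
  refine ⟨?_, fun hall => ?_⟩
  · by_cases h0 : ∀ x, φ x = 0
    · left
      rw [Nat.card_congr (Equiv.subtypeUnivEquiv (fun v => show Cfsg.sympForm m F v (T.mulVec v) = 0 from h0 v)), Nat.card_fun, Nat.card_sum, Nat.card_fin,
        Nat.card_eq_fintype_card, two_mul]
    · right
      push Not at h0
      obtain ⟨x, hx⟩ := h0
      have hsurj : Function.Surjective φ := fun b => by
        obtain ⟨c, hc⟩ := FiniteField.isSquare_of_char_two (ringChar.eq F 2) (b / φ x)
        refine ⟨c • x, (hsmul c x).trans ?_⟩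
        rw [sq, ← hc]
        exact div_mul_cancel₀ b hx
      have h1 := φ.ker.card_mul_index
      rw [AddSubgroup.index_ker, AddMonoidHom.range_eq_top.2 hsurj, AddSubgroup.card_top,
        Nat.card_eq_fintype_card (α := F), Nat.card_fun, Nat.card_sum, Nat.card_fin,
        Nat.card_eq_fintype_card (α := F), ← two_mul] at h1
      exact h1
  · have hJ : IsUnit J.det := Matrix.isUnit_det_J (Fin m) F
    have hr := CfsgLib.Known.AltRank.even_rank (J * (T - 1)) fun v => by
      have h1 : v ⬝ᵥ J.mulVec (T.mulVec v) = 0 := hall v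
      have h3 : v ⬝ᵥ J.mulVec v = 0 := by
        simp only [hJdef, Matrix.J, dotProduct, Fintype.sum_sum_type, Matrix.fromBlocks_mulVec]
        simp only [Sum.elim_inl, Sum.elim_inr, Pi.add_apply, Matrix.zero_mulVec, Matrix.neg_mulVec,
          Matrix.one_mulVec, Pi.zero_apply, Pi.neg_apply, zero_add, add_zero, Function.comp_apply]
        rw [← Finset.sum_add_distrib]
        exact Finset.sum_eq_zero fun i _ => by ring
      rw [← Matrix.mulVec_mulVec, Matrix.sub_mulVec, Matrix.one_mulVec, Matrix.mulVec_sub, dotProduct_sub,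
        h1, h3, sub_zero]
    rwa [Matrix.rank_mul_eq_right_of_isUnit_det J _ hJ] at hr

end Cfsg.Agent.S2167
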