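import Cfsg.Statements.S2173
import Cfsg.Agent.Lib.Classical.CharTwo.OrthMinus

set_option autoImplicit false
open Cfsg

namespace Cfsg.Agent.S2173

/-- For the quadratic form Σ x_i y_i + (z₁² + c z₁ z₂ + d z₂²) in dimension 2m with anisotropic binary part over a finite field F of characteristic two, m ≥ 4 (minus type): two involutions of the commutator subgroup Ω that are conjugate in the full isometry group O are conjugate by an element of Ω (no class of involutions of O inside Ω splits). -/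
theorem result {F : Type*} [Field F] [Fintype F] [CharP F 2] {m : ℕ} (hm : 4 ≤ m) (c d : F) (hcd : ∀ z₁ z₂ : F, z₁ ^ 2 + c * z₁ * z₂ + d * z₂ ^ 2 = 0 → z₁ = 0 ∧ z₂ = 0) (t s : ↥(Cfsg.isometryGroup F (Cfsg.quadFormMinus (m - 1) F c d))) (ht : orderOf t = 2) (hs : orderOf s = 2) (htO : t ∈ Cfsg.Omega F (Cfsg.quadFormMinus (m - 1) F c d)) (hsO : s ∈ Cfsg.Omega F (Cfsg.quadFormMinus (m - 1) F c d)) (hconj : IsConj t s) :
    ∃ g ∈ Cfsg.Omega F (Cfsg.quadFormMinus (m - 1) F c d), g * t * g⁻¹ = s := by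
  revert t s
  rw [← CfsgLib.Classical.Quad.coe_qMinus]
  intro t s ht hs htO hsO hconj
  classical
  have hQ := CfsgLib.Classical.Quad.qMinus_nondeg hcd (m - 1)
  have hι : Fintype.card ((Fin (m - 1) ⊕ Fin (m - 1)) ⊕ Fin 2) = 2 * m := by
    simp only [Fintype.card_sum, Fintype.card_fin]; omega
  have hex : (∃ c : F, c ≠ 0 ∧ c ≠ 1) ∨ Fintype.card ((Fin (m - 1) ⊕ Fin (m - 1)) ⊕ Fin 2) ≠ 4 :=
    Or.inr (by omega)
  have ht2 : t ^ 2 = 1 := orderOf_dvd_iff_pow_eq_one.1 (dvd_of_eq ht)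
  refine CfsgLib.Classical.CharTwo.exists_omega_conj hQ hι hex ht2 hconj
    (CfsgLib.Classical.CharTwo.not_exceptional_of_neg hQ (CfsgLib.Classical.CharTwo.sqZero_omap hQ ht2)
      (CfsgLib.Classical.CharTwo.finrank_pi_eq hι) ?_)
  rw [CfsgLib.Classical.CharTwo.signSum_qMinus hcd]
  exact neg_neg_of_pos (pow_pos (by exact_mod_cast Fintype.card_pos) _)

end Cfsg.Agent.S2173
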