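import Cfsg.Statements.S2174
import Cfsg.Agent.Lib.Lie.CharTwoTree.F4.Main

set_option autoImplicit false
open Cfsg

namespace Cfsg.Agent.S2174

/-- Conjugacy classes of involutions in the Chevalley group of type F₄ over a finite field F of characteristic two (the matrix group generated by the root elements x_r(t)). In this problem's root numbering for type F₄ (the Chevalley data module; fundamental roots p₁, p₂ short and p₃, p₄ long; roots indexed by their coefficient vectors in increasing order) let r = 47 be the highest root (2,4,3,2), s = 44 the highest short root (2,3,2,1), and α = 39 = (1,2,2,1), β = 45 = (2,4,2,1), an orthogonal short/long pair; consider the four elements x_r(1), x_s(1), x_r(1)x_s(1), x_α(1)x_β(1). Then: each invertible matrix equal to one of these four products lies in the group and has order 2; every element of order 2 of the group is conjugate in the group to one of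 them; and no two of them are conjugate in the group (so, the four matrices being distinct, the group has exactly four conjugacy classes of involutions). -/
theorem result {F : Type*} [Field F] [Fintype F] [CharP F 2] :
    (∀ y : GL Cfsg.Lie.chevF4.Idx F, ((y : GL Cfsg.Lie.chevF4.Idx F) : Matrix Cfsg.Lie.chevF4.Idx Cfsg.Lie.chevF4.Idx F) ∈ [Cfsg.Lie.chevF4.x F 47 1, Cfsg.Lie.chevF4.x F 44 1, Cfsg.Lie.chevF4.x F 47 1 * Cfsg.Lie.chevF4.x F 44 1, Cfsg.Lie.chevF4.x F 39 1 * Cfsg.Lie.chevF4.x F 45 1] → y ∈ Cfsg.Lie.chevF4.group F ∧ orderOf y = 2) ∧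
    (∀ g ∈ Cfsg.Lie.chevF4.group F, orderOf g = 2 → ∃ y ∈ Cfsg.Lie.chevF4.group F, ((y : GL Cfsg.Lie.chevF4.Idx F) : Matrix Cfsg.Lie.chevF4.Idx Cfsg.Lie.chevF4.Idx F) ∈ [Cfsg.Lie.chevF4.x F 47 1, Cfsg.Lie.chevF4.x F 44 1, Cfsg.Lie.chevF4.x F 47 1 * Cfsg.Lie.chevF4.x F 44 1, Cfsg.Lie.chevF4.x F 39 1 * Cfsg.Lie.chevF4.x F 45 1] ∧ ∃ h ∈ Cfsg.Lie.chevF4.group F, h * g * h⁻¹ = y) ∧
    (∀ y₁ ∈ Cfsg.Lie.chevF4.group F, ∀ y₂ ∈ Cfsg.Lie.chevF4.group F, ((y₁ : GL Cfsg.Lie.chevF4.Idx F) : Matrix Cfsg.Lie.chevF4.Idx Cfsg.Lie.chevF4.Idx F) ∈ [Cfsg.Lie.chevF4.x F 47 1, Cfsg.Lie.chevF4.x F 44 1, Cfsg.Lie.chevF4.x F 47 1 * Cfsg.Lie.chevF4.x F 44 1, Cfsg.Lie.chevF4.x F 39 1 * Cfsg.Lie.chevF4.x F 45 1] → ((y₂ : GL Cfsg.Lie.chevF4.Idx F) : Matrix Cfsg.Lie.chevF4.Idx Cfsg.Lie.chevF4.Idx F) ∈ [Cfsg.Lie.chevF4.x F 47 1, Cfsg.Lie.chevF4.x F 44 1, Cfsg.Lie.chevF4.x F 47 1 * Cfsg.Lie.chevF4.x F 44 1, Cfsg.Lie.chevF4.x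 F 39 1 * Cfsg.Lie.chevF4.x F 45 1] →
      (∃ h ∈ Cfsg.Lie.chevF4.group F, h * y₁ * h⁻¹ = y₂) → ((y₁ : GL Cfsg.Lie.chevF4.Idx F) : Matrix Cfsg.Lie.chevF4.Idx Cfsg.Lie.chevF4.Idx F) = ((y₂ : GL Cfsg.Lie.chevF4.Idx F) : Matrix Cfsg.Lie.chevF4.Idx Cfsg.Lie.chevF4.Idx F)) := by
  classical
  obtain ⟨h1, h2, h3⟩ := CfsgLib.Lie.Chev.InvTree.F4.classes F
  obtain ⟨R, hR⟩ : ∃ R, R = CfsgLib.Lie.Chev.chevRel CfsgLib.Lie.Chev.certF4 F := ⟨_, rfl⟩
  rw [← hR] at h1 h2 h3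
  have hrep : ∀ y : GL Cfsg.Lie.chevF4.Idx F, (y : Matrix Cfsg.Lie.chevF4.Idx Cfsg.Lie.chevF4.Idx F) ∈ [Cfsg.Lie.chevF4.x F 47 1, Cfsg.Lie.chevF4.x F 44 1, Cfsg.Lie.chevF4.x F 47 1 * Cfsg.Lie.chevF4.x F 44 1, Cfsg.Lie.chevF4.x F 39 1 * Cfsg.Lie.chevF4.x F 45 1] →
      ∃ T ∈ CfsgLib.Lie.Chev.InvTree.F4.reps, y = (R.prodOnes T : ↥(Cfsg.Lie.chevF4.group F)) := by
    intro y hy
    subst hR
    simp only [List.mem_cons, List.not_mem_nil, or_false] at hy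
    rcases hy with e | e | e | e
    · refine ⟨[47], by simp [CfsgLib.Lie.Chev.InvTree.F4.reps], Units.ext (e.trans ?_)⟩
      simp only [CfsgLib.Lie.Chev.Rel.prodOnes, List.map_cons, List.map_nil, List.prod_cons, List.prod_nil, mul_one]
      rfl
    · refine ⟨[44], by simp [CfsgLib.Lie.Chev.InvTree.F4.reps], Units.ext (e.trans ?_)⟩
      simp only [CfsgLib.Lie.Chev.Rel.prodOnes, List.map_cons, List.map_nil, List.prod_cons, List.prod_nil, mul_one]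
      rfl
    · refine ⟨[47, 44], by simp [CfsgLib.Lie.Chev.InvTree.F4.reps], Units.ext (e.trans ?_)⟩
      simp only [CfsgLib.Lie.Chev.Rel.prodOnes, List.map_cons, List.map_nil, List.prod_cons, List.prod_nil, mul_one]
      rfl
    · refine ⟨[39, 45], by simp [CfsgLib.Lie.Chev.InvTree.F4.reps], Units.ext (e.trans ?_)⟩
      simp only [CfsgLib.Lie.Chev.Rel.prodOnes, List.map_cons, List.map_nil, List.prod_cons, List.prod_nil, mul_one]
      rfl
  refine ⟨fun y hy => ?_, fun g hg ho => ?_, fun y₁ h₁ y₂ h₂ e₁ e₂ hc => ?_⟩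
  · obtain ⟨T, hT, rfl⟩ := hrep y hy
    exact ⟨SetLike.coe_mem _, by rw [Subgroup.orderOf_coe]; exact h1 T hT⟩
  · obtain ⟨T, hT, hc⟩ := h2 ⟨g, hg⟩ (by rw [Subgroup.orderOf_mk]; exact ho)
    obtain ⟨m, hm⟩ := isConj_iff.1 hc
    refine ⟨_, SetLike.coe_mem _, ?_, m, m.2, congrArg Subtype.val hm⟩
    subst hR
    simp only [CfsgLib.Lie.Chev.InvTree.F4.reps, List.mem_cons, List.not_mem_nil, or_false] at hT
    rcases hT with rfl | rfl | rfl | rfl <;>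
      · simp only [CfsgLib.Lie.Chev.Rel.prodOnes, List.map_cons, List.map_nil, List.prod_cons, List.prod_nil, mul_one,
          List.mem_cons, List.not_mem_nil, or_false]
        first
          | exact Or.inl rfl
          | exact Or.inr (Or.inl rfl)
          | exact Or.inr (Or.inr (Or.inl rfl))
          | exact Or.inr (Or.inr (Or.inr rfl))
  · obtain ⟨T, hT, rfl⟩ := hrep y₁ e₁
    obtain ⟨T', hT', rfl⟩ := hrep y₂ e₂
    obtain ⟨m, hm, e⟩ := hc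
    rw [h3 T hT T' hT' (isConj_iff.2 ⟨⟨m, hm⟩, Subtype.ext e⟩)]

end Cfsg.Agent.S2174
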