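import Cfsg.Statements.S2175
import Cfsg.Agent.Lib.Lie.CharTwoInv.Final
import Cfsg.Agent.Lib.Lie.CharTwoInv.ClassE6
import Cfsg.Agent.Lib.Lie.CharTwoInv.RankE6

set_option autoImplicit false
open Cfsg

namespace Cfsg.Agent.S2175

/-- Conjugacy classes of involutions in the Chevalley group of type E₆ over a finite field F of characteristic two (the matrix group generated by the root elements x_r(t)). In this problem's root numbering for type E₆ (the Chevalley data module; fundamental roots numbered so that p₁–p₃–p₄–p₅–p₆ is the long chain of the diagram and p₂ is joined to p₄; roots indexed by their coefficient vectors in increasing order) let r = 71 be the highest root (1,2,2,3,2,1), α = 68 = (1,1,2,2,1,1), β = 66 = (1,1,1,2,2,1), γ = 55 = (0,1,1,2,2,1), δ = 65 = (1,1,1,2,1,1), ε = 67 = (1,1,2,2,1,0) (α ⊥ β and γ, δ, ε pairwise orthogonal); consider x_r(1), x_α(1)x_β(1) and x_γ(1)x_δ(1)x_ε(1).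 Then: each invertible matrix equal to one of these three products lies in the group and has order 2; every element of order 2 of the group is conjugate in the group to one of them; and no two of them are conjugate in the group (so, the three matrices being distinct, the group has exactly three conjugacy classes of involutions). -/
theorem result {F : Type*} [Field F] [Fintype F] [CharP F 2] :
    (∀ y : GL Cfsg.Lie.chevE6.Idx F, ((y : GL Cfsg.Lie.chevE6.Idx F) : Matrix Cfsg.Lie.chevE6.Idx Cfsg.Lie.chevE6.Idx F) ∈ [Cfsg.Lie.chevE6.x F 71 1, Cfsg.Lie.chevE6.x F 68 1 * Cfsg.Lie.chevE6.x F 66 1, Cfsg.Lie.chevE6.x F 55 1 * Cfsg.Lie.chevE6.x F 65 1 * Cfsg.Lie.chevE6.x F 67 1] → y ∈ Cfsg.Lie.chevE6.group F ∧ orderOf y = 2) ∧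
    (∀ g ∈ Cfsg.Lie.chevE6.group F, orderOf g = 2 → ∃ y ∈ Cfsg.Lie.chevE6.group F, ((y : GL Cfsg.Lie.chevE6.Idx F) : Matrix Cfsg.Lie.chevE6.Idx Cfsg.Lie.chevE6.Idx F) ∈ [Cfsg.Lie.chevE6.x F 71 1, Cfsg.Lie.chevE6.x F 68 1 * Cfsg.Lie.chevE6.x F 66 1, Cfsg.Lie.chevE6.x F 55 1 * Cfsg.Lie.chevE6.x F 65 1 * Cfsg.Lie.chevE6.x F 67 1] ∧ ∃ h ∈ Cfsg.Lie.chevE6.group F, h * g * h⁻¹ = y) ∧
    (∀ y₁ ∈ Cfsg.Lie.chevE6.group F, ∀ y₂ ∈ Cfsg.Lie.chevE6.group F, ((y₁ : GL Cfsg.Lie.chevE6.Idx F) : Matrix Cfsg.Lie.chevE6.Idx Cfsg.Lie.chevE6.Idx F) ∈ [Cfsg.Lie.chevE6.x F 71 1, Cfsg.Lie.chevE6.x F 68 1 * Cfsg.Lie.chevE6.x F 66 1, Cfsg.Lie.chevE6.x F 55 1 * Cfsg.Lie.chevE6.x F 65 1 * Cfsg.Lie.chevE6.x F 67 1] → ((y₂ : GL Cfsg.Lie.chevE6.Idx F) : Matrix Cfsg.Lie.chevE6.Idx Cfsg.Lie.chevE6.Idx F) ∈ [Cfsg.Lie.chevE6.x F 71 1, Cfsg.Lie.chevE6.x F 68 1 * Cfsg.Lie.chevE6.x F 66 1, Cfsg.Lie.chevE6.x F 55 1 * Cfsg.Lie.chevE6.x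 F 65 1 * Cfsg.Lie.chevE6.x F 67 1] →
      (∃ h ∈ Cfsg.Lie.chevE6.group F, h * y₁ * h⁻¹ = y₂) → ((y₁ : GL Cfsg.Lie.chevE6.Idx F) : Matrix Cfsg.Lie.chevE6.Idx Cfsg.Lie.chevE6.Idx F) = ((y₂ : GL Cfsg.Lie.chevE6.Idx F) : Matrix Cfsg.Lie.chevE6.Idx Cfsg.Lie.chevE6.Idx F)) := by
  classical
  obtain ⟨R, hR⟩ : ∃ R, R = CfsgLib.Lie.Chev.chevRel CfsgLib.Lie.Chev.slE6.cert F := ⟨_, rfl⟩
  obtain ⟨L, hL⟩ : ∃ L : List (List ℕ × ℕ), L = [([71], 22), ([68, 66], 32), ([55, 65, 67], 38)] := ⟨_, rfl⟩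
  have hrk : ∀ p ∈ L, R.rkSub (R.prodOne p.1) = p.2 := by
    intro p hp
    simp only [hL, List.mem_cons, List.not_mem_nil, or_false] at hp
    rcases hp with rfl | rfl | rfl
    · exact R.rkSub_prodOne CfsgLib.Lie.Chev.rankE6_1
    · exact R.rkSub_prodOne CfsgLib.Lie.Chev.rankE6_2
    · exact R.rkSub_prodOne CfsgLib.Lie.Chev.rankE6_3
  subst hR
  obtain ⟨h1, h2, h3⟩ := CfsgLib.Lie.Chev.involution_classes CfsgLib.Lie.Chev.slE6 F
    CfsgLib.Lie.Chev.classE6_tab CfsgLib.Lie.Chev.classE6_quad (L := L) (by rw [hL]; decide +kernel) hrk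
  subst hL
  obtain ⟨R, hR⟩ : ∃ R, R = CfsgLib.Lie.Chev.chevRel CfsgLib.Lie.Chev.slE6.cert F := ⟨_, rfl⟩
  rw [← hR] at h1 h2 h3
  have hrep : ∀ y : GL Cfsg.Lie.chevE6.Idx F, (y : Matrix Cfsg.Lie.chevE6.Idx Cfsg.Lie.chevE6.Idx F) ∈ [Cfsg.Lie.chevE6.x F 71 1, Cfsg.Lie.chevE6.x F 68 1 * Cfsg.Lie.chevE6.x F 66 1, Cfsg.Lie.chevE6.x F 55 1 * Cfsg.Lie.chevE6.x F 65 1 * Cfsg.Lie.chevE6.x F 67 1] →
      ∃ p ∈ ([([71], 22), ([68, 66], 32), ([55, 65, 67], 38)] : List (List ℕ × ℕ)), y = (R.prodOne p.1 : ↥(Cfsg.Lie.chevE6.group F)) := by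
    intro y hy
    simp only [List.mem_cons, List.not_mem_nil, or_false] at hy
    rcases hy with e | e | e
    · refine ⟨([71], 22), by simp, Units.ext (e.trans ?_)⟩
      subst hR; simp only [CfsgLib.Lie.Chev.Rel.prodOne, List.map_cons, List.map_nil, List.prod_cons, List.prod_nil, mul_one,
        Subgroup.coe_mul, Units.val_mul, mul_assoc]
      rfl
    · refine ⟨([68, 66], 32), by simp, Units.ext (e.trans ?_)⟩
      subst hR; simp only [CfsgLib.Lie.Chev.Rel.prodOne, List.map_cons, List.map_nil, List.prod_cons, List.prod_nil, mul_one,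
        Subgroup.coe_mul, Units.val_mul, mul_assoc]
      rfl
    · refine ⟨([55, 65, 67], 38), by simp, Units.ext (e.trans ?_)⟩
      subst hR; simp only [CfsgLib.Lie.Chev.Rel.prodOne, List.map_cons, List.map_nil, List.prod_cons, List.prod_nil, mul_one,
        Subgroup.coe_mul, Units.val_mul, mul_assoc]
      rfl
  refine ⟨fun y hy => ?_, fun g hg ho => ?_, fun y₁ h₁ y₂ h₂ e₁ e₂ hc => ?_⟩
  · obtain ⟨p, hp, rfl⟩ := hrep y hy
    exact ⟨SetLike.coe_mem _, by rw [Subgroup.orderOf_coe]; exact h1 p hp⟩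
  · obtain ⟨p, hp, hc⟩ := h2 ⟨g, hg⟩ (by rw [Subgroup.orderOf_mk]; exact ho)
    obtain ⟨m, hm⟩ := isConj_iff.1 hc
    refine ⟨_, SetLike.coe_mem _, ?_, m, m.2, congrArg Subtype.val hm⟩
    subst hR
    simp only [List.mem_cons, List.not_mem_nil, or_false] at hp
    rcases hp with rfl | rfl | rfl <;>
      · simp only [CfsgLib.Lie.Chev.Rel.prodOne, List.map_cons, List.map_nil, List.prod_cons, List.prod_nil, mul_one,
          Subgroup.coe_mul, Units.val_mul, mul_assoc]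
        simp only [List.mem_cons, List.not_mem_nil, or_false]
        first
          | exact Or.inl rfl
          | exact Or.inr (Or.inl rfl)
          | exact Or.inr (Or.inr (rfl))
  · obtain ⟨p, hp, rfl⟩ := hrep y₁ e₁
    obtain ⟨p', hp', rfl⟩ := hrep y₂ e₂
    obtain ⟨m, hm, e⟩ := hc
    rw [h3 p hp p' hp' (isConj_iff.2 ⟨⟨m, hm⟩, Subtype.ext e⟩)]

end Cfsg.Agent.S2175
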