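import Cfsg.Statements.S2176
import Cfsg.Agent.Lib.Lie.CharTwoInv.Final
import Cfsg.Agent.Lib.Lie.CharTwoInv.ClassE8
import Cfsg.Agent.Lib.Lie.CharTwoInv.RankE8

set_option autoImplicit false
open Cfsg

namespace Cfsg.Agent.S2176

/-- Conjugacy classes of involutions in the Chevalley group of type E₈ over a finite field F of characteristic two (the matrix group generated by the root elements x_r(t)). In this problem's root numbering for type E₈ (the Chevalley data module; fundamental roots numbered so that p₁–p₃–p₄–p₅–p₆–p₇–p₈ is the long chain of the diagram and p₂ is joined to p₄; roots indexed by their coefficient vectors in increasing order) let r = 239 be the highest root (2,3,4,6,5,4,3,2), α = 232 = (2,2,4,5,4,3,2,1), β = 233 = (2,3,3,5,4,3,2,1), γ = 228 = (2,2,3,4,3,2,2,1), δ = 222 = (1,2,3,4,3,3,2,1), ε = 218 = (1,2,2,4,4,3,2,1), φ = 226 = (2,2,3,4,3,2,1,0), ψ = 220 = (1,2,3,4,3,2,1,1),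 θ = 213 = (1,2,2,3,3,3,2,1), ω = 216 = (1,2,2,4,3,2,2,1) (the roots within each of {α, β}, {γ, δ, ε}, {φ, ψ, θ, ω} pairwise orthogonal); consider x_r(1), x_α(1)x_β(1), x_γ(1)x_δ(1)x_ε(1) and x_φ(1)x_ψ(1)x_θ(1)x_ω(1). Then: each invertible matrix equal to one of these four products lies in the group and has order 2; every element of order 2 of the group is conjugate in the group to one of them; and no two of them are conjugate in the group (so, the four matrices being distinct, the group has exactly four conjugacy classes of involutions). -/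
theorem result {F : Type*} [Field F] [Fintype F] [CharP F 2] :
    (∀ y : GL Cfsg.Lie.chevE8.Idx F, ((y : GL Cfsg.Lie.chevE8.Idx F) : Matrix Cfsg.Lie.chevE8.Idx Cfsg.Lie.chevE8.Idx F) ∈ [Cfsg.Lie.chevE8.x F 239 1, Cfsg.Lie.chevE8.x F 232 1 * Cfsg.Lie.chevE8.x F 233 1, Cfsg.Lie.chevE8.x F 228 1 * Cfsg.Lie.chevE8.x F 222 1 * Cfsg.Lie.chevE8.x F 218 1, Cfsg.Lie.chevE8.x F 226 1 * Cfsg.Lie.chevE8.x F 220 1 * Cfsg.Lie.chevE8.x F 213 1 * Cfsg.Lie.chevE8.x F 216 1] → y ∈ Cfsg.Lie.chevE8.group F ∧ orderOf y = 2) ∧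
    (∀ g ∈ Cfsg.Lie.chevE8.group F, orderOf g = 2 → ∃ y ∈ Cfsg.Lie.chevE8.group F, ((y : GL Cfsg.Lie.chevE8.Idx F) : Matrix Cfsg.Lie.chevE8.Idx Cfsg.Lie.chevE8.Idx F) ∈ [Cfsg.Lie.chevE8.x F 239 1, Cfsg.Lie.chevE8.x F 232 1 * Cfsg.Lie.chevE8.x F 233 1, Cfsg.Lie.chevE8.x F 228 1 * Cfsg.Lie.chevE8.x F 222 1 * Cfsg.Lie.chevE8.x F 218 1, Cfsg.Lie.chevE8.x F 226 1 * Cfsg.Lie.chevE8.x F 220 1 * Cfsg.Lie.chevE8.x F 213 1 * Cfsg.Lie.chevE8.x F 216 1] ∧ ∃ h ∈ Cfsg.Lie.chevE8.group F, h * g * h⁻¹ = y) ∧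
    (∀ y₁ ∈ Cfsg.Lie.chevE8.group F, ∀ y₂ ∈ Cfsg.Lie.chevE8.group F, ((y₁ : GL Cfsg.Lie.chevE8.Idx F) : Matrix Cfsg.Lie.chevE8.Idx Cfsg.Lie.chevE8.Idx F) ∈ [Cfsg.Lie.chevE8.x F 239 1, Cfsg.Lie.chevE8.x F 232 1 * Cfsg.Lie.chevE8.x F 233 1, Cfsg.Lie.chevE8.x F 228 1 * Cfsg.Lie.chevE8.x F 222 1 * Cfsg.Lie.chevE8.x F 218 1, Cfsg.Lie.chevE8.x F 226 1 * Cfsg.Lie.chevE8.x F 220 1 * Cfsg.Lie.chevE8.x F 213 1 * Cfsg.Lie.chevE8.x F 216 1] → ((y₂ : GL Cfsg.Lie.chevE8.Idx F) : Matrix Cfsg.Lie.chevE8.Idx Cfsg.Lie.chevE8.Idx F) ∈ [Cfsg.Lie.chevE8.x F 239 1, Cfsg.Lie.chevE8.x F 232 1 * Cfsg.Lie.chevE8.x F 233 1, Cfsg.Lie.chevE8.x F 228 1 * Cfsg.Lie.chevE8.x F 222 1 * Cfsg.Lie.chevE8.x F 218 1, Cfsg.Lie.chevE8.x F 226 1 * Cfsg.Lie.chevE8.x F 220 1 * Cfsg.Lie.chevE8.x F 213 1 * Cfsg.Lie.chevE8.x F 216 1] →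
      (∃ h ∈ Cfsg.Lie.chevE8.group F, h * y₁ * h⁻¹ = y₂) → ((y₁ : GL Cfsg.Lie.chevE8.Idx F) : Matrix Cfsg.Lie.chevE8.Idx Cfsg.Lie.chevE8.Idx F) = ((y₂ : GL Cfsg.Lie.chevE8.Idx F) : Matrix Cfsg.Lie.chevE8.Idx Cfsg.Lie.chevE8.Idx F)) := by
  classical
  obtain ⟨R, hR⟩ : ∃ R, R = CfsgLib.Lie.Chev.chevRel CfsgLib.Lie.Chev.slE8.cert F := ⟨_, rfl⟩
  obtain ⟨L, hL⟩ : ∃ L : List (List ℕ × ℕ), L = [([239], 58), ([232, 233], 92), ([228, 222, 218], 110), ([226, 220, 213, 216], 120)] := ⟨_, rfl⟩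
  have hrk : ∀ p ∈ L, R.rkSub (R.prodOne p.1) = p.2 := by
    intro p hp
    simp only [hL, List.mem_cons, List.not_mem_nil, or_false] at hp
    rcases hp with rfl | rfl | rfl | rfl
    · exact R.rkSub_prodOne CfsgLib.Lie.Chev.rankE8_1
    · exact R.rkSub_prodOne CfsgLib.Lie.Chev.rankE8_2
    · exact R.rkSub_prodOne CfsgLib.Lie.Chev.rankE8_3
    · exact R.rkSub_prodOne CfsgLib.Lie.Chev.rankE8_4
  subst hR
  obtain ⟨h1, h2, h3⟩ := CfsgLib.Lie.Chev.involution_classes CfsgLib.Lie.Chev.slE8 F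
    CfsgLib.Lie.Chev.classE8_tab CfsgLib.Lie.Chev.classE8_quad (L := L) (by rw [hL]; decide +kernel) hrk
  subst hL
  obtain ⟨R, hR⟩ : ∃ R, R = CfsgLib.Lie.Chev.chevRel CfsgLib.Lie.Chev.slE8.cert F := ⟨_, rfl⟩
  rw [← hR] at h1 h2 h3
  have hrep : ∀ y : GL Cfsg.Lie.chevE8.Idx F, (y : Matrix Cfsg.Lie.chevE8.Idx Cfsg.Lie.chevE8.Idx F) ∈ [Cfsg.Lie.chevE8.x F 239 1, Cfsg.Lie.chevE8.x F 232 1 * Cfsg.Lie.chevE8.x F 233 1, Cfsg.Lie.chevE8.x F 228 1 * Cfsg.Lie.chevE8.x F 222 1 * Cfsg.Lie.chevE8.x F 218 1, Cfsg.Lie.chevE8.x F 226 1 * Cfsg.Lie.chevE8.x F 220 1 * Cfsg.Lie.chevE8.x F 213 1 * Cfsg.Lie.chevE8.x F 216 1] →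
      ∃ p ∈ ([([239], 58), ([232, 233], 92), ([228, 222, 218], 110), ([226, 220, 213, 216], 120)] : List (List ℕ × ℕ)), y = (R.prodOne p.1 : ↥(Cfsg.Lie.chevE8.group F)) := by
    intro y hy
    simp only [List.mem_cons, List.not_mem_nil, or_false] at hy
    rcases hy with e | e | e | e
    · refine ⟨([239], 58), by simp, Units.ext (e.trans ?_)⟩
      subst hR; simp only [CfsgLib.Lie.Chev.Rel.prodOne, List.map_cons, List.map_nil, List.prod_cons, List.prod_nil, mul_one,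
        Subgroup.coe_mul, Units.val_mul, mul_assoc]
      rfl
    · refine ⟨([232, 233], 92), by simp, Units.ext (e.trans ?_)⟩
      subst hR; simp only [CfsgLib.Lie.Chev.Rel.prodOne, List.map_cons, List.map_nil, List.prod_cons, List.prod_nil, mul_one,
        Subgroup.coe_mul, Units.val_mul, mul_assoc]
      rfl
    · refine ⟨([228, 222, 218], 110), by simp, Units.ext (e.trans ?_)⟩
      subst hR; simp only [CfsgLib.Lie.Chev.Rel.prodOne, List.map_cons, List.map_nil, List.prod_cons, List.prod_nil, mul_one,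
        Subgroup.coe_mul, Units.val_mul, mul_assoc]
      rfl
    · refine ⟨([226, 220, 213, 216], 120), by simp, Units.ext (e.trans ?_)⟩
      subst hR; simp only [CfsgLib.Lie.Chev.Rel.prodOne, List.map_cons, List.map_nil, List.prod_cons, List.prod_nil, mul_one,
        Subgroup.coe_mul, Units.val_mul, mul_assoc]
      rfl
  refine ⟨fun y hy => ?_, fun g hg ho => ?_, fun y₁ h₁ y₂ h₂ e₁ e₂ hc => ?_⟩
  · obtain ⟨p, hp, rfl⟩ := hrep y hy
    exact ⟨SetLike.coe_mem _, by rw [Subgroup.orderOf_coe]; exact h1 p hp⟩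
  · obtain ⟨p, hp, hc⟩ := h2 ⟨g, hg⟩ (by rw [Subgroup.orderOf_mk]; exact ho)
    obtain ⟨m, hm⟩ := isConj_iff.1 hc
    refine ⟨_, SetLike.coe_mem _, ?_, m, m.2, congrArg Subtype.val hm⟩
    subst hR
    simp only [List.mem_cons, List.not_mem_nil, or_false] at hp
    rcases hp with rfl | rfl | rfl | rfl <;>
      · simp only [CfsgLib.Lie.Chev.Rel.prodOne, List.map_cons, List.map_nil, List.prod_cons, List.prod_nil, mul_one,
          Subgroup.coe_mul, Units.val_mul, mul_assoc]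
        simp only [List.mem_cons, List.not_mem_nil, or_false]
        first
          | exact Or.inl rfl
          | exact Or.inr (Or.inl rfl)
          | exact Or.inr (Or.inr (Or.inl rfl))
          | exact Or.inr (Or.inr (Or.inr (rfl)))
  · obtain ⟨p, hp, rfl⟩ := hrep y₁ e₁
    obtain ⟨p', hp', rfl⟩ := hrep y₂ e₂
    obtain ⟨m, hm, e⟩ := hc
    rw [h3 p hp p' hp' (isConj_iff.2 ⟨⟨m, hm⟩, Subtype.ext e⟩)]

end Cfsg.Agent.S2176
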