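import Cfsg.Statements.S2177
import Cfsg.Agent.Lib.Lie.CharTwoCent.G2Classes
import Cfsg.Agent.Lib.Lie.Rel.Sylow
import Cfsg.Agent.Lib.Techniques.Basic

set_option autoImplicit false
open Cfsg

namespace Cfsg.Agent.S2177

/-- Conjugacy classes of involutions in the Chevalley group of type G₂ over a finite field F of characteristic two with at least four elements (the matrix group generated by the root elements x_r(t)). In this problem's root numbering for type G₂ (the Chevalley data module; p₁ = a short, p₂ = b long; roots indexed by coefficient vectors in increasing order) let 11 be the highest root 3a + 2b (long) and 9 the short root 2a + b; consider x_{3a+2b}(1) and x_{2a+b}(1). Then: each invertible matrix equal to one of these two products lies in the group and has order 2; every element of order 2 of the group is conjugate in the group to one of them; and no two of them are conjugate in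 the group (so, the two matrices being distinct, the group has exactly two conjugacy classes of involutions). -/
theorem result {F : Type*} [Field F] [Fintype F] [CharP F 2] (hF : 4 ≤ Fintype.card F) :
    (∀ y : GL Cfsg.Lie.chevG2.Idx F, ((y : GL Cfsg.Lie.chevG2.Idx F) : Matrix Cfsg.Lie.chevG2.Idx Cfsg.Lie.chevG2.Idx F) ∈ [Cfsg.Lie.chevG2.x F 11 1, Cfsg.Lie.chevG2.x F 9 1] → y ∈ Cfsg.Lie.chevG2.group F ∧ orderOf y = 2) ∧
    (∀ g ∈ Cfsg.Lie.chevG2.group F, orderOf g = 2 → ∃ y ∈ Cfsg.Lie.chevG2.group F, ((y : GL Cfsg.Lie.chevG2.Idx F) : Matrix Cfsg.Lie.chevG2.Idx Cfsg.Lie.chevG2.Idx F) ∈ [Cfsg.Lie.chevG2.x F 11 1, Cfsg.Lie.chevG2.x F 9 1] ∧ ∃ h ∈ Cfsg.Lie.chevG2.group F, h * g * h⁻¹ = y) ∧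
    (∀ y₁ ∈ Cfsg.Lie.chevG2.group F, ∀ y₂ ∈ Cfsg.Lie.chevG2.group F, ((y₁ : GL Cfsg.Lie.chevG2.Idx F) : Matrix Cfsg.Lie.chevG2.Idx Cfsg.Lie.chevG2.Idx F) ∈ [Cfsg.Lie.chevG2.x F 11 1, Cfsg.Lie.chevG2.x F 9 1] → ((y₂ : GL Cfsg.Lie.chevG2.Idx F) : Matrix Cfsg.Lie.chevG2.Idx Cfsg.Lie.chevG2.Idx F) ∈ [Cfsg.Lie.chevG2.x F 11 1, Cfsg.Lie.chevG2.x F 9 1] →
      (∃ h ∈ Cfsg.Lie.chevG2.group F, h * y₁ * h⁻¹ = y₂) → ((y₁ : GL Cfsg.Lie.chevG2.Idx F) : Matrix Cfsg.Lie.chevG2.Idx Cfsg.Lie.chevG2.Idx F) = ((y₂ : GL Cfsg.Lie.chevG2.Idx F) : Matrix Cfsg.Lie.chevG2.Idx Cfsg.Lie.chevG2.Idx F)) := by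
  classical
  obtain ⟨R, hR⟩ : ∃ R, R = CfsgLib.Lie.Chev.chevRel CfsgLib.Lie.Chev.certG2 F := ⟨_, rfl⟩
  have : Finite ↥(Cfsg.Lie.chevG2.group F) := R.Finite_of_field
  have hperf : ∀ x : F, IsSquare x := FiniteField.isSquare_of_char_two (ringChar.eq F 2)
  have hval : ∀ (r : ℕ) (t : F), (((R.xe r t : ↥(Cfsg.Lie.chevG2.group F)) : GL Cfsg.Lie.chevG2.Idx F) :
      Matrix Cfsg.Lie.chevG2.Idx Cfsg.Lie.chevG2.Idx F) = Cfsg.Lie.chevG2.x F r t := by
    intro r t; rw [hR]; rfl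
  have hrep : ∀ y : GL Cfsg.Lie.chevG2.Idx F, (y : Matrix Cfsg.Lie.chevG2.Idx Cfsg.Lie.chevG2.Idx F) ∈
      [Cfsg.Lie.chevG2.x F 11 1, Cfsg.Lie.chevG2.x F 9 1] →
      ∃ r, (r = 11 ∨ r = 9) ∧ y = (R.xe r 1 : ↥(Cfsg.Lie.chevG2.group F)) := by
    intro y hy
    simp only [List.mem_cons, List.not_mem_nil, or_false] at hy
    rcases hy with e | e
    · exact ⟨11, Or.inl rfl, Units.ext (e.trans (hval 11 1).symm)⟩
    · exact ⟨9, Or.inr rfl, Units.ext (e.trans (hval 9 1).symm)⟩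
  have hne : ∀ r, r < Cfsg.Lie.chevG2.nroots → R.xe r 1 ≠ 1 := fun r hr h =>
    one_ne_zero (R.xe_inj_param (r := ⟨r, hr⟩) (h.trans (R.xe_zero r).symm))
  refine ⟨fun y hy => ?_, fun g hg ho => ?_, fun y₁ h₁ y₂ h₂ e₁ e₂ hc => ?_⟩
  · obtain ⟨r, hr, rfl⟩ := hrep y hy
    refine ⟨SetLike.coe_mem _, ?_⟩
    rw [Subgroup.orderOf_coe]
    refine orderOf_eq_prime ?_ (hne r ?_)
    · rw [sq, R.G2_self]
    · rcases hr with rfl | rfl <;> decide +kernel
  · obtain ⟨P, hP⟩ := CfsgLib.Lie.Chev.pos_unipotent_sylow CfsgLib.Lie.Chev.certG2 F 2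
    rw [CfsgLib.Lie.Chev.posUnipotent_eq CfsgLib.Lie.Chev.certG2 F,
      CfsgLib.Lie.Chev.subgroupOf_map CfsgLib.Lie.Chev.certG2 F, ← hR] at hP
    obtain ⟨g', hg'⟩ : ∃ g' : ↥(Cfsg.Lie.chevG2.group F), g' = ⟨g, hg⟩ := ⟨_, rfl⟩
    have ho' : orderOf g' = 2 := by rw [hg', Subgroup.orderOf_mk, ho]
    have hpg : IsPGroup 2 ↥(Subgroup.zpowers g') := IsPGroup.of_card (n := 1) (by rw [Nat.card_zpowers, ho', pow_one])
    obtain ⟨k, hk⟩ := CfsgLib.Techniques.exists_conj_mem_sylow P hpg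
    have hkU := hk g' (Subgroup.mem_zpowers g')
    rw [hP] at hkU
    have hsq : (k * g' * k⁻¹) * (k * g' * k⁻¹) = 1 := by
      have h2 : g' * g' = 1 := by rw [← sq, ← ho', pow_orderOf_eq_one]
      calc (k * g' * k⁻¹) * (k * g' * k⁻¹) = k * (g' * g') * k⁻¹ := by group
        _ = 1 := by rw [h2]; group
    have hc : IsConj g' (k * g' * k⁻¹) := isConj_iff.2 ⟨k, rfl⟩
    rcases R.G2_red hperf hkU hsq with h1 | h1 | h1
    · rw [h1] at hc
      rw [isConj_one_left.1 hc, orderOf_one] at ho'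
      exact absurd ho' (by norm_num)
    all_goals
      obtain ⟨m, hm⟩ := isConj_iff.1 (hc.trans h1)
      refine ⟨_, SetLike.coe_mem _, ?_, m, m.2, congrArg Subtype.val (hg' ▸ hm)⟩
      rw [hval]; simp
  · obtain ⟨r₁, hr₁, rfl⟩ := hrep y₁ e₁
    obtain ⟨r₂, hr₂, rfl⟩ := hrep y₂ e₂
    obtain ⟨m, hm, e⟩ := hc
    have hcc : IsConj (R.xe r₁ 1) (R.xe r₂ 1) := isConj_iff.2 ⟨⟨m, hm⟩, Subtype.ext e⟩
    rcases hr₁ with rfl | rfl <;> rcases hr₂ with rfl | rfl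
    · rfl
    · exact absurd hcc.symm R.G2_not_isConj
    · exact absurd hcc R.G2_not_isConj
    · rfl

end Cfsg.Agent.S2177
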