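import Cfsg.Statements.S2178
import Cfsg.Agent.Lib.Lie.CharTwoCent.Chev

set_option autoImplicit false
open Cfsg

namespace Cfsg.Agent.S2178

/-- Centralizers of the long and the short root involutions in the Chevalley group G of type F₄ over a finite field F of characteristic two (this problem's root numbering for type F₄, from the Chevalley data module: fundamental roots p₁, p₂ short, p₃, p₄ long, with indices 33, 27, 25, 24, their negatives 14, 20, 22, 23; highest root 47, highest short root 44; U the subgroup generated by the positive root subgroups). For an element t of G with matrix x_47(1): the centralizer of t in G is the subgroup generated by U and the root subgroups X_{−p₁}, X_{−p₂}, X_{−p₃} (the unipotent radical of the maximal parabolic subgroup whose Levi factor has fundamental roots p₁, p₂, p₃, together with that Levi factor's root subgroups; the Levi factor is of type C₃). For an element u of G with matrix x_44(1): the centralizer of u in G is generated by U and X_{−p₂}, X_{−p₃},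 X_{−p₄} (the same construction for the Levi factor with fundamental roots p₂, p₃, p₄, of type B₃). -/
theorem result {F : Type*} [Field F] [Fintype F] [CharP F 2] (t u : GL Cfsg.Lie.chevF4.Idx F) (ht : (t : Matrix Cfsg.Lie.chevF4.Idx Cfsg.Lie.chevF4.Idx F) = Cfsg.Lie.chevF4.x F 47 1) (hu : (u : Matrix Cfsg.Lie.chevF4.Idx Cfsg.Lie.chevF4.Idx F) = Cfsg.Lie.chevF4.x F 44 1) :
    Cfsg.Lie.chevF4.group F ⊓ Subgroup.centralizer {t} = Cfsg.Lie.chevF4.posUnipotent F ⊔ Cfsg.Lie.chevF4.rootSubgroup F 14 ⊔ Cfsg.Lie.chevF4.rootSubgroup F 20 ⊔ Cfsg.Lie.chevF4.rootSubgroup F 22 ∧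
    Cfsg.Lie.chevF4.group F ⊓ Subgroup.centralizer {u} = Cfsg.Lie.chevF4.posUnipotent F ⊔ Cfsg.Lie.chevF4.rootSubgroup F 20 ⊔ Cfsg.Lie.chevF4.rootSubgroup F 22 ⊔ Cfsg.Lie.chevF4.rootSubgroup F 23 := by
  have hd : CfsgLib.Lie.Chev.Desc Cfsg.Lie.chevF4 CfsgLib.Lie.Chev.auxF4 :=
    CfsgLib.Lie.Chev.desc_of_chk (by decide +kernel)
  constructor
  · rw [CfsgLib.Lie.Chev.centElt_one CfsgLib.Lie.Chev.certF4 F (d := CfsgLib.Lie.Chev.centF4long) rfl
      (by decide +kernel) (by decide +kernel) t ht,
      CfsgLib.Lie.Chev.group_inf_centralizer CfsgLib.Lie.Chev.certF4 F hd CfsgLib.Lie.Chev.centF4long_chk,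
      CfsgLib.Lie.Chev.posUnipotent_xclos CfsgLib.Lie.Chev.certF4 F]
    simp only [CfsgLib.Lie.Chev.rootSubgroup_xclos, CfsgLib.Lie.Chev.xclos_sup]
    exact CfsgLib.Lie.Chev.xclos_congr F (CfsgLib.Lie.Chev.list_mem_congr (by decide +kernel))
  · rw [CfsgLib.Lie.Chev.centElt_one CfsgLib.Lie.Chev.certF4 F (d := CfsgLib.Lie.Chev.centF4short) rfl
      (by decide +kernel) (by decide +kernel) u hu,
      CfsgLib.Lie.Chev.group_inf_centralizer CfsgLib.Lie.Chev.certF4 F hd CfsgLib.Lie.Chev.centF4short_chk,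
      CfsgLib.Lie.Chev.posUnipotent_xclos CfsgLib.Lie.Chev.certF4 F]
    simp only [CfsgLib.Lie.Chev.rootSubgroup_xclos, CfsgLib.Lie.Chev.xclos_sup]
    exact CfsgLib.Lie.Chev.xclos_congr F (CfsgLib.Lie.Chev.list_mem_congr (by decide +kernel))

end Cfsg.Agent.S2178
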