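import Cfsg.Statements.S2179
import Cfsg.Agent.Lib.Lie.CharTwoCent.Chev

set_option autoImplicit false
open Cfsg

namespace Cfsg.Agent.S2179

/-- Centralizers of the two remaining classes of involutions in the Chevalley group G of type F₄ over a finite field F of characteristic two (this problem's root numbering for type F₄, from the Chevalley data module: p₁, p₂ short, p₃, p₄ long with indices 33, 27, 25, 24 and negatives 14, 20, 22, 23; U generated by the positive root subgroups). For an element of G with matrix x_47(1)x_44(1) (highest root times highest short root): its centralizer in G is generated by U, X_{−p₂} and X_{−p₃}. For an element of G with matrix x_39(1)x_45(1) (roots (1,2,2,1) and (2,4,2,1), an orthogonal short/long pair): its centralizer in G is generated by X_{p₁}, X_{−p₁}, X_{p₄}, X_{−p₄} and the root subgroups of all positive roots other than p₂ (27), p₃ (25), p₁ + p₂ (34) and p₃ + p₄ (26). -/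
theorem result {F : Type*} [Field F] [Fintype F] [CharP F 2] (w v : GL Cfsg.Lie.chevF4.Idx F) (hw : (w : Matrix Cfsg.Lie.chevF4.Idx Cfsg.Lie.chevF4.Idx F) = Cfsg.Lie.chevF4.x F 47 1 * Cfsg.Lie.chevF4.x F 44 1) (hv : (v : Matrix Cfsg.Lie.chevF4.Idx Cfsg.Lie.chevF4.Idx F) = Cfsg.Lie.chevF4.x F 39 1 * Cfsg.Lie.chevF4.x F 45 1) :
    Cfsg.Lie.chevF4.group F ⊓ Subgroup.centralizer {w} = Cfsg.Lie.chevF4.posUnipotent F ⊔ Cfsg.Lie.chevF4.rootSubgroup F 20 ⊔ Cfsg.Lie.chevF4.rootSubgroup F 22 ∧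
    Cfsg.Lie.chevF4.group F ⊓ Subgroup.centralizer {v} = Cfsg.Lie.chevF4.rootSubgroup F 33 ⊔ Cfsg.Lie.chevF4.rootSubgroup F 14 ⊔ Cfsg.Lie.chevF4.rootSubgroup F 24 ⊔ Cfsg.Lie.chevF4.rootSubgroup F 23 ⊔
      Subgroup.closure {g : GL Cfsg.Lie.chevF4.Idx F | ∃ (r : ℕ) (c : F), Cfsg.Lie.chevF4.IsPosRoot r ∧ r ∉ [27, 25, 34, 26] ∧ (g : Matrix Cfsg.Lie.chevF4.Idx Cfsg.Lie.chevF4.Idx F) = Cfsg.Lie.chevF4.x F r c} := by
  have hd : CfsgLib.Lie.Chev.Desc Cfsg.Lie.chevF4 CfsgLib.Lie.Chev.auxF4 :=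
    CfsgLib.Lie.Chev.desc_of_chk (by decide +kernel)
  constructor
  · rw [CfsgLib.Lie.Chev.centElt_two CfsgLib.Lie.Chev.certF4 F (d := CfsgLib.Lie.Chev.centF4central) rfl
      (CfsgLib.Lie.Chev.CentData.chk_split CfsgLib.Lie.Chev.centF4central_chk).1 (by decide) w hw,
      CfsgLib.Lie.Chev.group_inf_centralizer CfsgLib.Lie.Chev.certF4 F hd CfsgLib.Lie.Chev.centF4central_chk,
      CfsgLib.Lie.Chev.posUnipotent_xclos CfsgLib.Lie.Chev.certF4 F]
    simp only [CfsgLib.Lie.Chev.rootSubgroup_xclos, CfsgLib.Lie.Chev.xclos_sup]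
    exact CfsgLib.Lie.Chev.xclos_congr F (CfsgLib.Lie.Chev.list_mem_congr (by decide +kernel))
  · have hpos : Subgroup.closure {g : GL Cfsg.Lie.chevF4.Idx F | ∃ (r : ℕ) (c : F),
        Cfsg.Lie.chevF4.IsPosRoot r ∧ r ∉ [27, 25, 34, 26] ∧
        (g : Matrix Cfsg.Lie.chevF4.Idx Cfsg.Lie.chevF4.Idx F) = Cfsg.Lie.chevF4.x F r c} =
        CfsgLib.Lie.Chev.xclos Cfsg.Lie.chevF4 F ((List.range' (CfsgLib.Lie.Chev.half Cfsg.Lie.chevF4)
          (CfsgLib.Lie.Chev.half Cfsg.Lie.chevF4)).filter fun r => decide (r ∉ [27, 25, 34, 26])) := by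
      unfold CfsgLib.Lie.Chev.xclos
      simp only [List.mem_filter, decide_eq_true_iff, CfsgLib.Lie.Chev.isPosRoot_iff_mem CfsgLib.Lie.Chev.certF4,
        and_assoc]
    rw [CfsgLib.Lie.Chev.centElt_two CfsgLib.Lie.Chev.certF4 F (d := CfsgLib.Lie.Chev.centF4pair) rfl
      (CfsgLib.Lie.Chev.CentData.chk_split CfsgLib.Lie.Chev.centF4pair_chk).1 (by decide) v hv,
      CfsgLib.Lie.Chev.group_inf_centralizer CfsgLib.Lie.Chev.certF4 F hd CfsgLib.Lie.Chev.centF4pair_chk, hpos]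
    simp only [CfsgLib.Lie.Chev.rootSubgroup_xclos, CfsgLib.Lie.Chev.xclos_sup]
    exact CfsgLib.Lie.Chev.xclos_congr F (CfsgLib.Lie.Chev.list_mem_congr (by decide +kernel))

end Cfsg.Agent.S2179
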