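import Cfsg.Statements.S2180
import Cfsg.Agent.Lib.Lie.CharTwoCent.Chev

set_option autoImplicit false
open Cfsg

namespace Cfsg.Agent.S2180

/-- Centralizers of involutions in the Chevalley group G of type G₂ over a finite field F of characteristic two with at least four elements (this problem's root numbering for type G₂, from the Chevalley data module: a = p₁ short with index 7, b = p₂ long with index 6, −a = 4, −b = 5, 2a + b = 9, 3a + b = 10, 3a + 2b = 11; U generated by the positive root subgroups). For an element z of G with matrix x_{3a+2b}(1): the centralizer of z in G is generated by U and X_{−a}. For an element t of G with matrix x_{2a+b}(1): the centralizer of t in G is generated by X_{2a+b}, X_{3a+b}, X_{3a+2b}, X_b and X_{−b}. -/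
theorem result {F : Type*} [Field F] [Fintype F] [CharP F 2] (hF : 4 ≤ Fintype.card F) (z t : GL Cfsg.Lie.chevG2.Idx F) (hz : (z : Matrix Cfsg.Lie.chevG2.Idx Cfsg.Lie.chevG2.Idx F) = Cfsg.Lie.chevG2.x F 11 1) (ht : (t : Matrix Cfsg.Lie.chevG2.Idx Cfsg.Lie.chevG2.Idx F) = Cfsg.Lie.chevG2.x F 9 1) :
    Cfsg.Lie.chevG2.group F ⊓ Subgroup.centralizer {z} = Cfsg.Lie.chevG2.posUnipotent F ⊔ Cfsg.Lie.chevG2.rootSubgroup F 4 ∧
    Cfsg.Lie.chevG2.group F ⊓ Subgroup.centralizer {t} = Cfsg.Lie.chevG2.rootSubgroup F 9 ⊔ Cfsg.Lie.chevG2.rootSubgroup F 10 ⊔ Cfsg.Lie.chevG2.rootSubgroup F 11 ⊔ Cfsg.Lie.chevG2.rootSubgroup F 6 ⊔ Cfsg.Lie.chevG2.rootSubgroup F 5 := by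
  have hd : CfsgLib.Lie.Chev.Desc Cfsg.Lie.chevG2 CfsgLib.Lie.Chev.auxG2 :=
    CfsgLib.Lie.Chev.desc_of_chk (by decide +kernel)
  constructor
  · rw [CfsgLib.Lie.Chev.centElt_one CfsgLib.Lie.Chev.certG2 F (d := CfsgLib.Lie.Chev.centG2long) rfl
      (by decide +kernel) (by decide +kernel) z hz,
      CfsgLib.Lie.Chev.group_inf_centralizer CfsgLib.Lie.Chev.certG2 F hd CfsgLib.Lie.Chev.centG2long_chk,
      CfsgLib.Lie.Chev.posUnipotent_xclos CfsgLib.Lie.Chev.certG2 F]
    simp only [CfsgLib.Lie.Chev.rootSubgroup_xclos, CfsgLib.Lie.Chev.xclos_sup]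
    exact CfsgLib.Lie.Chev.xclos_congr F (CfsgLib.Lie.Chev.list_mem_congr (by decide +kernel))
  · rw [CfsgLib.Lie.Chev.centElt_one CfsgLib.Lie.Chev.certG2 F (d := CfsgLib.Lie.Chev.centG2short) rfl
      (by decide +kernel) (by decide +kernel) t ht,
      CfsgLib.Lie.Chev.group_inf_centralizer CfsgLib.Lie.Chev.certG2 F hd CfsgLib.Lie.Chev.centG2short_chk]
    simp only [CfsgLib.Lie.Chev.rootSubgroup_xclos, CfsgLib.Lie.Chev.xclos_sup]
    exact CfsgLib.Lie.Chev.xclos_congr F (CfsgLib.Lie.Chev.list_mem_congr (by decide +kernel))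

end Cfsg.Agent.S2180
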