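import Cfsg.Statements.S2181
import Cfsg.Agent.Lib.Lie.CharTwoInv.Final
import Cfsg.Agent.Lib.Lie.CharTwoInv.ClassE7
import Cfsg.Agent.Lib.Lie.CharTwoInv.RankE7

set_option autoImplicit false
open Cfsg

namespace Cfsg.Agent.S2181

/-- The Chevalley group of type E₇ over a finite field of characteristic two (the matrix group generated by the root elements) has exactly five conjugacy classes of elements of order 2. -/
theorem result {F : Type*} [Field F] [Fintype F] [CharP F 2] :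
    (ConjClasses.mk '' {g : ↥(Cfsg.Lie.chevE7.group F) | orderOf g = 2}).ncard = 5 := by
  classical
  obtain ⟨R, hR⟩ : ∃ R, R = CfsgLib.Lie.Chev.chevRel CfsgLib.Lie.Chev.slE7.cert F := ⟨_, rfl⟩
  let L : List (List ℕ × ℕ) :=
    [([125], 34), ([92, 125], 52), ([87, 92, 125], 62), ([63, 92, 125], 53), ([78, 87, 92, 125], 63)]
  have hrk : ∀ p ∈ L, R.rkSub (R.prodOne p.1) = p.2 := by
    intro p hp
    simp only [L, List.mem_cons, List.not_mem_nil, or_false] at hp
    rcases hp with rfl | rfl | rfl | rfl | rfl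
    · exact R.rkSub_prodOne CfsgLib.Lie.Chev.rankE7_1
    · exact R.rkSub_prodOne CfsgLib.Lie.Chev.rankE7_2
    · exact R.rkSub_prodOne CfsgLib.Lie.Chev.rankE7_3
    · exact R.rkSub_prodOne CfsgLib.Lie.Chev.rankE7_4
    · exact R.rkSub_prodOne CfsgLib.Lie.Chev.rankE7_5
  subst hR
  obtain ⟨h1, h2, h3⟩ := CfsgLib.Lie.Chev.involution_classes CfsgLib.Lie.Chev.slE7 F
    CfsgLib.Lie.Chev.classE7_tab CfsgLib.Lie.Chev.classE7_quad (L := L) (by decide +kernel) hrk
  have hset : ConjClasses.mk '' {g : ↥(Cfsg.Lie.chevE7.group F) | orderOf g = 2} =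
      ↑((L.map (·.1)).toFinset.image fun T =>
        ConjClasses.mk ((CfsgLib.Lie.Chev.chevRel CfsgLib.Lie.Chev.slE7.cert F).prodOne T)) := by
    ext c
    simp only [Set.mem_image, Set.mem_setOf_eq, Finset.coe_image, Finset.mem_coe, List.mem_toFinset, List.mem_map]
    constructor
    · rintro ⟨g, hg, rfl⟩
      obtain ⟨p, hp, hc⟩ := h2 g hg
      exact ⟨p.1, ⟨p, hp, rfl⟩, (ConjClasses.mk_eq_mk_iff_isConj.2 hc).symm⟩
    · rintro ⟨_, ⟨p, hp, rfl⟩, rfl⟩
      exact ⟨_, h1 p hp, rfl⟩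
  rw [hset, Set.ncard_coe_finset, Finset.card_image_of_injOn]
  · decide
  · intro T hT T' hT' e
    simp only [Finset.mem_coe, List.mem_toFinset, List.mem_map] at hT hT'
    obtain ⟨p, hp, rfl⟩ := hT
    obtain ⟨p', hp', rfl⟩ := hT'
    exact h3 p hp p' hp' (ConjClasses.mk_eq_mk_iff_isConj.1 e)

end Cfsg.Agent.S2181
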