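import Cfsg.Statements.S2189
import Cfsg.Agent.Lib.Known.Overgroup.Rational

set_option autoImplicit false
open Cfsg

namespace Cfsg.Agent.S2189

/-- Finite subgroups of an adjoint Chevalley group over an algebraically closed field that contain the group over a finite subfield. Let k be an algebraically closed field of prime characteristic p, G the Chevalley group of type G₂, B₂, D₄, F₄, E₆, E₇ or E₈ over k (the matrix group generated by the root elements x_s(t), t ∈ k), and q = p^a with a ≥ 1. Let L be the subgroup generated by the root elements x_s(t) with t^q = t (the Chevalley group over the field of q elements inside G), and let M be a finite subgroup of G containing L. Then for some r ≥ 1, M contains every root element x_s(t) with t^(q^r) = t and every element of M is a matrix all of whose entries c satisfy c^(q^r) = c (so M lies between the Chevalley group over the field with q^r elements and the group of points of G fixed by the q^r-th power map). -/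
theorem result {k : Type*} [Field k] [IsAlgClosed k] (p : ℕ) [Fact p.Prime] [CharP k p] (D : Cfsg.Lie.ChevalleyDatum) (hD : D ∈ [Cfsg.Lie.chevG2, Cfsg.Lie.chevB2, Cfsg.Lie.chevD4, Cfsg.Lie.chevF4, Cfsg.Lie.chevE6, Cfsg.Lie.chevE7, Cfsg.Lie.chevE8]) (a : ℕ) (ha : 1 ≤ a) (M : Subgroup (GL D.Idx k)) (hMfin : Finite ↥M) (hMG : M ≤ D.group k)
    (hLM : Subgroup.closure {g : GL D.Idx k | ∃ (s : ℕ) (t : k), t ^ (p ^ a) = t ∧ (g : Matrix D.Idx D.Idx k) = D.x k s t} ≤ M) :
    ∃ r : ℕ, 1 ≤ r ∧ Subgroup.closure {g : GL D.Idx k | ∃ (s : ℕ) (t : k), t ^ ((p ^ a) ^ r) = t ∧ (g : Matrix D.Idx D.Idx k) = D.x k s t} ≤ M ∧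
      ∀ g ∈ M, ∀ i j : D.Idx, ((g : Matrix D.Idx D.Idx k) i j) ^ ((p ^ a) ^ r) = (g : Matrix D.Idx D.Idx k) i j := by
  obtain ⟨X, C⟩ := CfsgLib.Lie.Chev.cert_of_mem hD
  have hfin : Finite (M.subgroupOf (D.group k)) :=
    Finite.of_injective (fun g => (⟨_, g.2⟩ : M)) fun x y h =>
      Subtype.ext (Subtype.ext (congrArg (fun z : M => (z : GL D.Idx k)) h))
  have hmem : ∀ (s : ℕ) (t : k), t ^ (p ^ a) = t →
      CfsgLib.Lie.Chev.xG C k s t ∈ M.subgroupOf (D.group k) := fun s t ht =>
    hLM (Subgroup.subset_closure ⟨s, t, ht, rfl⟩)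
  obtain ⟨f, K, hKfin, hcard, hfix, hK, hent⟩ :=
    CfsgLib.Known.Overgroup.rational_of_ones hD C p (H := M.subgroupOf (D.group k))
      fun r _ => hmem r 1 (one_pow _)
  have hn : 0 < D.nroots := (Nat.zero_le _).trans_lt (C.simple_lt (i := 0) C.rank_pos)
  obtain ⟨r, hr, hKr⟩ := CfsgLib.Known.Overgroup.card_eq_pow p ha
    (CfsgLib.Known.Overgroup.card_pow_fixed p ha) K fun t ht => (hK 0 hn t).1 (hmem 0 t ht)
  have hpf : p ^ f = (p ^ a) ^ r := hcard.symm.trans hKr
  refine ⟨r, hr, (Subgroup.closure_le _).2 ?_, fun g hg i j => ?_⟩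
  · rintro g ⟨s, t, ht, hg⟩
    rw [← hpf, hfix] at ht
    by_cases hs : s < D.nroots
    · have h : (CfsgLib.Lie.Chev.xG C k s t : GL D.Idx k) ∈ M := (hK s hs t).2 ht
      rwa [show g = (CfsgLib.Lie.Chev.xG C k s t : GL D.Idx k) from Units.ext hg]
    · rw [show g = 1 from Units.ext (hg.trans (CfsgLib.Lie.Chev.x_oob k hs t))]
      exact one_mem M
  · rw [← hpf]
    exact hent ⟨g, hMG hg⟩ hg i j

end Cfsg.Agent.S2189
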