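import Cfsg.Statements.S2190
import Cfsg.Agent.Lib.Known.Overgroup.Rational

set_option autoImplicit false
open Cfsg

namespace Cfsg.Agent.S2190

/-- Subfield subgroups of prime degree are maximal. Let K be a finite field with q^r elements, r a prime, q a power of the characteristic, and G the Chevalley group of type G₂, B₂, D₄, F₄, E₆, E₇ or E₈ over K (the matrix group generated by the root elements). Let M be the subgroup of G consisting of the matrices all of whose entries lie in the subfield with q elements (entries c with c^q = c). Then M is a proper subgroup of G and is maximal: every subgroup of G containing M is M or G. -/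
theorem result {K : Type*} [Field K] [Fintype K] (p : ℕ) [Fact p.Prime] [CharP K p] (D : Cfsg.Lie.ChevalleyDatum) (hD : D ∈ [Cfsg.Lie.chevG2, Cfsg.Lie.chevB2, Cfsg.Lie.chevD4, Cfsg.Lie.chevF4, Cfsg.Lie.chevE6, Cfsg.Lie.chevE7, Cfsg.Lie.chevE8]) (a r : ℕ) (ha : 1 ≤ a) (hr : r.Prime) (hK : Fintype.card K = (p ^ a) ^ r) (M : Subgroup (GL D.Idx K))
    (hM : ∀ g : GL D.Idx K, g ∈ M ↔ g ∈ D.group K ∧ ∀ i j : D.Idx, ((g : Matrix D.Idx D.Idx K) i j) ^ (p ^ a) = (g : Matrix D.Idx D.Idx K) i j) :
    M ≠ D.group K ∧ ∀ H : Subgroup (GL D.Idx K), M ≤ H → H ≤ D.group K → H = M ∨ H = D.group K := by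
  obtain ⟨X, C⟩ := CfsgLib.Lie.Chev.cert_of_mem hD
  have hMG : M ≤ D.group K := fun g hg => ((hM g).1 hg).1
  have hn : 0 < D.nroots := (Nat.zero_le _).trans_lt (C.simple_lt (i := 0) C.rank_pos)
  have hxM : ∀ (s : ℕ) (t : K), t ^ (p ^ a) = t → (CfsgLib.Lie.Chev.xG C K s t : GL D.Idx K) ∈ M := fun s t ht => by
    refine (hM _).2 ⟨(CfsgLib.Lie.Chev.xG C K s t).2, fun i j => ?_⟩
    have h := congrFun (congrFun (CfsgLib.Known.ChevFixed.groupMap_xe C (iterateFrobenius K p a) s t |>
      congrArg fun x : ↥(D.group K) => ((x : GL D.Idx K) : Matrix D.Idx D.Idx K)) i) j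
    rw [iterateFrobenius_def, ht] at h
    exact h
  have hq : Nat.card {x : K // x ^ p ^ a = x} = p ^ a := CfsgLib.Known.Overgroup.card_pow_fixed_finite p ha hK
  refine ⟨fun e => ?_, fun H hMH hHG => ?_⟩
  · have hall : ∀ t : K, t ^ p ^ a = t := fun t => by
      have hmem : (CfsgLib.Lie.Chev.xG C K 0 t : GL D.Idx K) ∈ M := e ▸ (CfsgLib.Lie.Chev.xG C K 0 t).2
      have h : CfsgLib.Known.ChevFixed.groupMap D (iterateFrobenius K p a) (CfsgLib.Lie.Chev.xG C K 0 t) =
          CfsgLib.Lie.Chev.xG C K 0 t := Subtype.ext (Units.ext (Matrix.ext fun i j => ((hM _).1 hmem).2 i j))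
      have h2 := (CfsgLib.Known.ChevFixed.groupMap_xe C (iterateFrobenius K p a) 0 t).symm.trans h
      rw [iterateFrobenius_def] at h2
      exact (CfsgLib.Lie.Chev.chevRel C K).xe_inj_param (r := ⟨0, hn⟩) h2
    have h1 : Nat.card {x : K // x ^ p ^ a = x} = Nat.card K :=
      Nat.card_congr (Equiv.subtypeUnivEquiv hall)
    rw [hq, Nat.card_eq_fintype_card, hK] at h1
    have h2 := Nat.pow_lt_pow_right (Nat.one_lt_pow (by omega) (Fact.out : p.Prime).one_lt : 1 < p ^ a) hr.one_lt
    rw [pow_one] at h2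
    omega
  · obtain ⟨f, K', hKfin, hcard, hfix, hK', hent⟩ :=
      CfsgLib.Known.Overgroup.rational_of_ones hD C p (H := H.subgroupOf (D.group K))
        fun s _ => hMH (hxM s 1 (one_pow _))
    obtain ⟨s, hs, hKs⟩ := CfsgLib.Known.Overgroup.card_eq_pow p ha hq K' fun t ht =>
      (hK' 0 hn t).1 (hMH (hxM 0 t ht))
    have hpow := Module.natCard_eq_pow_finrank (K := K') (V := K)
    rw [Nat.card_eq_fintype_card (α := K), hK, hKs, ← pow_mul (p ^ a) s] at hpow
    have hrs : r = s * Module.finrank K' K :=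
      Nat.pow_right_injective (Nat.one_lt_pow (by omega) (Fact.out : p.Prime).one_lt) hpow
    rcases hr.eq_one_or_self_of_dvd s ⟨_, hrs⟩ with rfl | rfl
    · refine Or.inl (le_antisymm (fun g hg => (hM g).2 ⟨hHG hg, fun i j => ?_⟩) hMH)
      have h := hent ⟨g, hHG hg⟩ hg i j
      rw [hcard.symm.trans hKs, pow_one] at h
      exact h
    · refine Or.inr (le_antisymm hHG ((Subgroup.closure_le _).2 ?_))
      rintro g ⟨u, t, hg⟩
      have htop : ∀ x : K, x ∈ K' := by
        have h1 : Nat.card K' = Nat.card K := by rw [hKs, Nat.card_eq_fintype_card, hK]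
        have hb := (Nat.bijective_iff_injective_and_card (fun x : K' => (x : K))).2 ⟨Subtype.val_injective, h1⟩
        intro x
        obtain ⟨y, rfl⟩ := hb.2 x
        exact y.2
      have h : (CfsgLib.Lie.Chev.xG C K u t : GL D.Idx K) ∈ H := (hK' u u.2 t).2 (htop t)
      have e : g = (CfsgLib.Lie.Chev.xG C K u t : GL D.Idx K) :=
        Units.ext (hg.trans (show D.xMat K u t = D.x K u t by rw [Cfsg.Lie.ChevalleyDatum.x, dif_pos u.2]))
      rwa [SetLike.mem_coe, e]

end Cfsg.Agent.S2190
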