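import Cfsg.Statements.S2222
import Cfsg.Agent.Lib.LocalEvenB.AltSylowTwo

set_option autoImplicit false
open Cfsg

namespace Cfsg.Agent.S2222

/-- In the alternating group of degree n ≥ 5 every subgroup H of odd index is pronormal: for every element g, the subgroups H and gHg⁻¹ are conjugate by an element of the subgroup they generate. -/
theorem result (n : ℕ) (hn : 5 ≤ n)
    (H : Subgroup (alternatingGroup (Fin n))) (hH : Odd H.index) : Cfsg.IsPronormal H := by
  classical
  haveI := Fact.mk Nat.prime_two
  obtain ⟨T₀⟩ := (inferInstance : Nonempty (Sylow 2 H))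
  -- a Sylow subgroup of the whole group inside `H`
  set T₁ : Subgroup (alternatingGroup (Fin n)) := (T₀ : Subgroup H).map H.subtype with hT₁
  have hT₁le : T₁ ≤ H := Subgroup.map_subtype_le _
  have hcardT : Nat.card T₁ = 2 ^ (Nat.card (alternatingGroup (Fin n))).factorization 2 := by
    rw [hT₁, Subgroup.card_map_of_injective H.subtype_injective, T₀.card_eq_multiplicity]
    congr 1
    rw [← H.card_mul_index, Nat.factorization_mul Nat.card_pos.ne' H.index_ne_zero_of_finite,
      Finsupp.add_apply, Nat.factorization_eq_zero_of_not_dvd hH.not_two_dvd_nat, add_zero]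
  let T : Sylow 2 (alternatingGroup (Fin n)) := Sylow.ofCard T₁ hcardT
  have hTle : (T : Subgroup (alternatingGroup (Fin n))) ≤ H := hT₁le
  have hreduce : (∀ g : alternatingGroup (Fin n), g • T = T →
      ∀ y, y ∈ H ↔ g * y * g⁻¹ ∈ H) → Cfsg.IsPronormal H := by
    intro hN g
    set M := H ⊔ H.map (MulAut.conj g).toMonoidHom
    have h1 : ((g • T : Sylow 2 (alternatingGroup (Fin n))) : Subgroup (alternatingGroup (Fin n))) ≤ M := by
      rw [Sylow.coe_subgroup_smul]
      exact (Subgroup.map_mono hTle).trans le_sup_right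
    obtain ⟨m, hm⟩ := MulAction.exists_smul_eq M ((g • T).subtype h1)
      (T.subtype (hTle.trans le_sup_left))
    have hm' : ((m : alternatingGroup (Fin n)) * g) • T = T := by
      rw [mul_smul]
      rw [Sylow.smul_subtype h1 m] at hm
      have h := congrArg (fun S : Sylow 2 M => (S : Subgroup M).map M.subtype) hm
      refine Sylow.ext ?_
      simp only [Sylow.coe_subtype, Subgroup.map_subgroupOf_eq_of_le] at h
      rw [Subgroup.map_subgroupOf_eq_of_le (by
          exact (Sylow.coe_subgroup_smul (g := (m : alternatingGroup (Fin n))) (P := g • T)) ▸ Subgroup.conj_smul_le_of_le h1 m),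
        Subgroup.map_subgroupOf_eq_of_le (hTle.trans le_sup_left)] at h
      exact h
    have hH' := hN _ hm'
    refine ⟨(m : alternatingGroup (Fin n))⁻¹, inv_mem m.2, ?_⟩
    ext x
    simp only [Subgroup.mem_map, MulEquiv.coe_toMonoidHom, MulAut.conj_apply]
    constructor
    · rintro ⟨y, hy, rfl⟩
      exact ⟨(m : alternatingGroup (Fin n)) * g * y * ((m : alternatingGroup (Fin n)) * g)⁻¹,
        (hH' y).1 hy, by group⟩
    · rintro ⟨y, hy, rfl⟩
      refine ⟨((m : alternatingGroup (Fin n)) * g)⁻¹ * y * ((m : alternatingGroup (Fin n)) * g),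
        (hH' _).2 ?_, by group⟩
      convert hy using 1
      group
  obtain ⟨P, hP⟩ := (T.isPGroup'.map (alternatingGroup (Fin n)).subtype).exists_le_sylow
  have hTP : (T : Subgroup (alternatingGroup (Fin n))) =
      (P : Subgroup (Equiv.Perm (Fin n))).subgroupOf (alternatingGroup (Fin n)) :=
    (T.is_maximal' (P.isPGroup'.comap_of_injective _ (alternatingGroup (Fin n)).subtype_injective)
      fun t ht => hP (Subgroup.mem_map_of_mem _ ht)).symm
  rcases Nat.lt_or_ge n 6 with h5 | h6
  · -- degree five
    obtain rfl : n = 5 := by omega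
    have hu : ∀ (t : alternatingGroup (Fin 5)) (a b : Fin 5), t * t = 1 → t ≠ 1 →
        (t : Equiv.Perm (Fin 5)) a = a → (t : Equiv.Perm (Fin 5)) b = b → a = b := by decide +kernel
    have hst : ∀ a : Fin 5, Fintype.card
        {g : alternatingGroup (Fin 5) // (g : Equiv.Perm (Fin 5)) a = a} = 12 := by decide +kernel
    have hA : Nat.card (alternatingGroup (Fin 5)) = 60 := by
      rw [Nat.card_eq_fintype_card]; rfl
    have hTc : Nat.card (T : Subgroup (alternatingGroup (Fin 5))) = 4 := by
      rw [T.card_eq_multiplicity, hA]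
      have : (60 : ℕ).factorization 2 = 2 := by
        rw [show (60 : ℕ) = 2 ^ 2 * 15 by norm_num, Nat.factorization_mul (by norm_num) (by norm_num),
          Finsupp.add_apply, Nat.prime_two.factorization_pow,
          Nat.factorization_eq_zero_of_not_dvd (show ¬ 2 ∣ 15 by norm_num)]
        simp
      rw [this]; norm_num
    have hsq : ∀ t ∈ (T : Subgroup (alternatingGroup (Fin 5))), t * t = 1 := by
      have : ∀ t : alternatingGroup (Fin 5), t ^ 4 = 1 → t * t = 1 := by decide +kernel
      intro t ht
      refine this t (orderOf_dvd_iff_pow_eq_one.1 ?_)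
      rw [← hTc]
      exact Subgroup.orderOf_mk (a := t) ht ▸ orderOf_dvd_natCard _
    have hmod := T.isPGroup'.card_modEq_card_fixedPoints (Fin 5)
    rw [Nat.card_eq_fintype_card (α := Fin 5), Fintype.card_fin, Nat.ModEq] at hmod
    obtain ⟨⟨a, ha⟩⟩ := (Nat.card_pos_iff.1 (show 0 < Nat.card (MulAction.fixedPoints
      (T : Subgroup (alternatingGroup (Fin 5))) (Fin 5)) by omega)).1
    have ha' : ∀ t ∈ (T : Subgroup (alternatingGroup (Fin 5))), (t : Equiv.Perm (Fin 5)) a = a :=
      fun t ht => ha ⟨t, ht⟩
    have hN : ∀ g : alternatingGroup (Fin 5), g • T = T → (g : Equiv.Perm (Fin 5)) a = a := by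
      intro g hg
      haveI : Nontrivial (T : Subgroup (alternatingGroup (Fin 5))) :=
        Finite.one_lt_card_iff_nontrivial.1 (by omega)
      obtain ⟨⟨t, ht⟩, ht1⟩ := exists_ne (1 : (T : Subgroup (alternatingGroup (Fin 5))))
      refine hu t _ _ (hsq t ht) (fun h => ht1 (Subtype.ext h)) ?_ (ha' t ht)
      have hg' : g⁻¹ * t * g ∈ (T : Subgroup (alternatingGroup (Fin 5))) :=
        (Subgroup.mem_normalizer_iff.1 (Sylow.smul_eq_iff_mem_normalizer.1 hg) _).2
          (by convert ht using 1; group)
      have h := ha' _ hg'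
      simp only [Subgroup.coe_mul, Subgroup.coe_inv, Equiv.Perm.mul_apply,
        Equiv.Perm.inv_eq_iff_eq] at h
      exact h
    by_cases hH4 : H = T
    · refine hreduce fun g hg => ?_
      rw [hH4]
      exact Subgroup.mem_normalizer_iff.1 (Sylow.smul_eq_iff_mem_normalizer.1 hg)
    suffices hsub : ∀ g : alternatingGroup (Fin 5), g • T = T → g ∈ H from hreduce fun g hg y => by
      rw [H.mul_mem_cancel_right (inv_mem (hsub g hg)), H.mul_mem_cancel_left (hsub g hg)]
    by_cases htop : H = ⊤
    · intro g _; rw [htop]; trivial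
    have hHdvd : Nat.card H ∣ 60 := hA ▸ H.card_subgroup_dvd_card
    have h4H : 4 ∣ Nat.card H := hTc ▸ Subgroup.card_dvd_of_le hTle
    have hidx3 : H.index ≠ 3 := by
      intro h3
      haveI := alternatingGroup.isSimpleGroup_five
      have hker : H.normalCore = ⊥ := (Subgroup.Normal.eq_bot_or_eq_top inferInstance).resolve_right
        fun h => htop (top_le_iff.1 (h ▸ H.normalCore_le))
      have hinj : Function.Injective (MulAction.toPermHom (alternatingGroup (Fin 5))
          (alternatingGroup (Fin 5) ⧸ H)) := by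
        rw [← MonoidHom.ker_eq_bot_iff, ← Subgroup.normalCore_eq_ker, hker]
      have := Nat.card_le_card_of_injective _ hinj
      rw [hA, Nat.card_perm, ← Subgroup.index_eq_card, h3] at this
      exact absurd this (by decide)
    have hfixH : ∀ h ∈ H, (h : Equiv.Perm (Fin 5)) a = a := by
      intro h hh
      by_contra hne
      have hinj : Function.Injective (fun t : (T : Subgroup (alternatingGroup (Fin 5))) =>
          ((t : alternatingGroup (Fin 5)) : Equiv.Perm (Fin 5)) ((h : Equiv.Perm (Fin 5)) a)) := by
        intro t u htu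
        by_contra htu'
        refine hne (hu ((t : alternatingGroup (Fin 5))⁻¹ * u) _ _
          (hsq _ (mul_mem (inv_mem t.2) u.2)) ?_ ?_ (ha' _ (mul_mem (inv_mem t.2) u.2)))
        · exact fun e => htu' (Subtype.ext (inv_mul_eq_one.1 e))
        · simp only [Subgroup.coe_mul, Subgroup.coe_inv, Equiv.Perm.mul_apply,
            Equiv.Perm.inv_eq_iff_eq]
          exact htu.symm
      have hall : ∀ b, b ∈ MulAction.orbit H a := by
        intro b
        by_cases hb : b = a
        · rw [hb]; exact MulAction.mem_orbit_self a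
        have hsurj : ∀ c, c ≠ a → ∃ t : (T : Subgroup (alternatingGroup (Fin 5))),
            ((t : alternatingGroup (Fin 5)) : Equiv.Perm (Fin 5)) ((h : Equiv.Perm (Fin 5)) a) = c := by
          intro c hc
          have himg : (Finset.univ.image fun t : (T : Subgroup (alternatingGroup (Fin 5))) =>
              ((t : alternatingGroup (Fin 5)) : Equiv.Perm (Fin 5)) ((h : Equiv.Perm (Fin 5)) a)) =
              Finset.univ.erase a := by
            refine Finset.eq_of_subset_of_card_le (fun x hx => ?_) ?_
            · obtain ⟨t, -, rfl⟩ := Finset.mem_image.1 hx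
              refine Finset.mem_erase.2 ⟨fun e => hne ?_, Finset.mem_univ _⟩
              exact ((t : alternatingGroup (Fin 5)) : Equiv.Perm (Fin 5)).injective
                (e.trans (ha' _ t.2).symm)
            · rw [Finset.card_image_of_injective _ hinj, Finset.card_univ,
                ← Nat.card_eq_fintype_card, hTc, Finset.card_erase_of_mem (Finset.mem_univ a)]
              simp
          obtain ⟨t, -, ht⟩ := Finset.mem_image.1 (himg ▸ Finset.mem_erase.2 ⟨hc, Finset.mem_univ c⟩)
          exact ⟨t, ht⟩
        obtain ⟨t, ht⟩ := hsurj b hb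
        exact ⟨⟨(t : alternatingGroup (Fin 5)) * h, mul_mem (hTle t.2) hh⟩, ht⟩
      have h5 : Nat.card (MulAction.orbit H a) = 5 := by
        rw [Set.eq_univ_of_forall hall, Nat.card_coe_set_eq, Set.ncard_univ, Nat.card_eq_fintype_card,
          Fintype.card_fin]
      have h5' : 5 ∣ Nat.card H := by
        rw [← Nat.card_congr (MulAction.orbitProdStabilizerEquivGroup H a), Nat.card_prod, h5]
        exact dvd_mul_right 5 _
      have h20 : 20 ∣ Nat.card H := Nat.Coprime.mul_dvd_of_dvd_of_dvd (by norm_num : Nat.Coprime 4 5) h4H h5'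
      obtain ⟨r, hr⟩ := h20
      have hr3 : r ∣ 3 := Nat.dvd_of_mul_dvd_mul_left (by norm_num : 0 < 20) (hr ▸ hHdvd)
      have hidx := H.card_mul_index
      rw [hA, hr] at hidx
      rcases (Nat.dvd_prime Nat.prime_three).1 hr3 with e | e <;> subst e
      · exact hidx3 (by omega)
      · exact htop (Subgroup.index_eq_one.1 (by omega))
    let St : Subgroup (alternatingGroup (Fin 5)) := MulAction.stabilizer _ a
    have hStc : Nat.card St = 12 := by
      rw [← hst a, Nat.card_eq_fintype_card]
      exact Fintype.card_congr (Equiv.subtypeEquivRight fun g => Iff.rfl)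
    have hHSt : H ≤ St := hfixH
    have hTH : (T : Subgroup (alternatingGroup (Fin 5))) < H := lt_of_le_of_ne hTle (Ne.symm hH4)
    obtain ⟨r, hr⟩ := h4H
    have hr3 : r ∣ 3 := Nat.dvd_of_mul_dvd_mul_left (by norm_num : 0 < 4) (by
      rw [← hr, show 4 * 3 = Nat.card St from hStc.symm]
      exact Subgroup.card_dvd_of_le hHSt)
    have hH12 : H = St := by
      refine Subgroup.eq_of_le_of_card_ge hHSt (le_of_eq ?_)
      rcases (Nat.dvd_prime Nat.prime_three).1 hr3 with e | e <;> subst e
      · exact absurd (Subgroup.eq_of_le_of_card_ge hTle (by omega)) (Ne.symm hH4)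
      · omega
    intro g hg
    rw [hH12]
    exact hN g hg
  · refine hreduce fun g hg => ?_
    suffices hgT : g ∈ (T : Subgroup (alternatingGroup (Fin n))) from fun y => by
      rw [H.mul_mem_cancel_right (inv_mem (hTle hgT)), H.mul_mem_cancel_left (hTle hgT)]
    by_contra hgT
    have hgN := Sylow.smul_eq_iff_mem_normalizer.1 hg
    have hodd : Odd ((T : Subgroup (alternatingGroup (Fin n))).subgroupOf
        (Subgroup.normalizer ((T : Subgroup (alternatingGroup (Fin n))) : Set _))).index := by
      rw [Nat.odd_iff, ← Nat.not_even_iff, even_iff_two_dvd]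
      intro h2
      exact Sylow.not_dvd_index T (h2.trans (Subgroup.relIndex_dvd_index_of_le Subgroup.le_normalizer))
    set N := Subgroup.normalizer ((T : Subgroup (alternatingGroup (Fin n))) : Set (alternatingGroup (Fin n)))
    have hne : ((T : Subgroup (alternatingGroup (Fin n))).subgroupOf N).index ≠ 1 := by
      rw [Ne, Subgroup.index_eq_one, Subgroup.subgroupOf_eq_top]
      exact fun h => hgT (h hgN)
    obtain ⟨q, hq, hqd⟩ := Nat.exists_prime_and_dvd hne
    haveI := Fact.mk hq
    obtain ⟨k, hk⟩ := exists_prime_orderOf_dvd_card' q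
      (hqd.trans (Subgroup.index_dvd_card _))
    have hq2 : q ≠ 2 := fun h => hodd.not_two_dvd_nat (h ▸ hqd)
    have hk' : orderOf (((k : alternatingGroup (Fin n))) : Equiv.Perm (Fin n)) = q := by
      rw [Subgroup.orderOf_coe, Subgroup.orderOf_coe, hk]
    have h1 := CfsgLib.LocalEvenB.AltSylowTwo.odd_normalizer_alt_eq_one (by simpa using h6) P
      (g := ((k : alternatingGroup (Fin n)) : Equiv.Perm (Fin n)))
      (by rw [hk']; exact hq.odd_of_ne_two hq2) fun s => by
        constructor
        · rintro ⟨hs, hsgn⟩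
          have h := (Subgroup.mem_normalizer_iff.1 k.2 ⟨s, hsgn⟩).1 (by rw [hTP]; exact hs)
          rw [hTP] at h
          exact ⟨h, Equiv.Perm.mem_alternatingGroup.1
            ((k : alternatingGroup (Fin n)) * ⟨s, hsgn⟩ * (k : alternatingGroup (Fin n))⁻¹).2⟩
        · rintro ⟨hs, hsgn⟩
          have hs1 : Equiv.Perm.sign s = 1 := by
            rw [map_mul, map_mul, map_inv] at hsgn
            rwa [Equiv.Perm.mem_alternatingGroup.1 (k : alternatingGroup (Fin n)).2, one_mul,
              inv_one, mul_one] at hsgn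
          have h := (Subgroup.mem_normalizer_iff.1 k.2 ⟨s, hs1⟩).2 (by rw [hTP]; exact hs)
          rw [hTP] at h
          exact ⟨h, hs1⟩
    rw [h1, orderOf_one] at hk'
    exact hq.ne_one hk'.symm

end Cfsg.Agent.S2222
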