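import Cfsg.Statements.S2227
import Cfsg.Agent.Lib.Lie.Twisted.E6Two.Fusion

set_option autoImplicit false
open Cfsg

namespace Cfsg.Agent.S2227

/-- In the twisted group ²E₆(2) all elements of order 5 are conjugate, and the centralizer of an element of order 5 is isomorphic to the direct product of a cyclic group of order 5 with the alternating group of degree 8. -/
theorem result {K : Type*} [Field K] [Fintype K] (hK : Fintype.card K = 4) :
    (∀ x y : ↥(Cfsg.Lie.twistedE6 K 2), orderOf x = 5 → orderOf y = 5 → IsConj x y) ∧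
      ∀ x : ↥(Cfsg.Lie.twistedE6 K 2), orderOf x = 5 →
        Nonempty (↥(Subgroup.centralizer ({x} : Set ↥(Cfsg.Lie.twistedE6 K 2))) ≃* (Multiplicative (ZMod 5) × ↥(alternatingGroup (Fin 8)))) := by
  obtain ⟨S⟩ := CfsgLib.Lie.E6Two.exists_four hK
  refine ⟨fun x y hx hy => ?_, fun x hx => ?_⟩
  · exact ((CfsgLib.Lie.E6Two.conj_five (S := S) (hK := hK) hx).symm.trans
      (CfsgLib.Lie.E6Two.conj_five (S := S) (hK := hK) hy))
  · obtain ⟨g, hg⟩ := isConj_iff.1 (CfsgLib.Lie.E6Two.conj_five (S := S) (hK := hK) hx)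
    obtain ⟨e⟩ := CfsgLib.Lie.E6Two.centralizer_iso (S := S) (hK := hK)
    have hmap : Subgroup.centralizer ({x} : Set ↥(Cfsg.Lie.twistedE6 K 2)) =
        (Subgroup.centralizer {S.x hK}).map (MulAut.conj g).toMonoidHom := by
      ext z
      rw [Subgroup.mem_map_equiv, Subgroup.mem_centralizer_singleton_iff, Subgroup.mem_centralizer_singleton_iff,
        MulAut.conj_symm_apply, ← hg]
      refine ⟨fun h => ?_, fun h => ?_⟩
      · calc g⁻¹ * z * g * S.x hK = g⁻¹ * (z * (g * S.x hK * g⁻¹)) * g := by group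
          _ = g⁻¹ * (g * S.x hK * g⁻¹ * z) * g := by rw [h]
          _ = S.x hK * (g⁻¹ * z * g) := by group
      · calc z * (g * S.x hK * g⁻¹) = g * (g⁻¹ * z * g * S.x hK) * g⁻¹ := by group
          _ = g * (S.x hK * (g⁻¹ * z * g)) * g⁻¹ := by rw [h]
          _ = g * S.x hK * g⁻¹ * z := by group
    exact ⟨(MulEquiv.subgroupCongr hmap).trans ((Subgroup.equivMapOfInjective _ _ (MulAut.conj g).injective).symm.trans e)⟩

end Cfsg.Agent.S2227
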