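import Cfsg.Statements.S2228
import Cfsg.Agent.Lib.Known.JankoThreeNormalizers.Main
import Cfsg.Agent.Lib.Recog.JankoThree.Adapter
import Cfsg.Agent.Lib.Recog.JankoThree.Iso

set_option autoImplicit false
open Cfsg

namespace Cfsg.Agent.S2228

theorem sq_sq_eq_one {P : Type*} [Group P] [Finite P] (hP : Cfsg.IsExtraspecial 2 P) (a : P) : a ^ 4 = 1 := by
  obtain ⟨⟨-, -, hcomm⟩, hcard⟩ := hP
  have hc : a ^ 2 ∈ Subgroup.center P := by
    rw [Subgroup.mem_center_iff]
    intro x
    have hd : a * x * a⁻¹ * x⁻¹ ∈ Subgroup.center P := hcomm ▸ Subgroup.commutator_mem_commutator (Subgroup.mem_top a) (Subgroup.mem_top x)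
    have hd2 : (a * x * a⁻¹ * x⁻¹) ^ 2 = 1 := by
      have := pow_card_eq_one' (G := Subgroup.center P) (x := ⟨_, hd⟩)
      rw [hcard] at this
      exact congrArg Subtype.val this
    have h1 : a ^ 2 * x * (a ^ 2)⁻¹ * x⁻¹ = 1 := by
      rw [← hd2, pow_two (a * x * a⁻¹ * x⁻¹), pow_two a]
      calc a * a * x * (a * a)⁻¹ * x⁻¹
          = a * (a * x * a⁻¹ * x⁻¹) * a⁻¹ * (a * x * a⁻¹ * x⁻¹) := by group
        _ = _ := by rw [(Subgroup.mem_center_iff.1 hd a), mul_inv_cancel_right]
    exact (mul_inv_eq_iff_eq_mul.1 (mul_inv_eq_one.1 h1)).symm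
  have := pow_card_eq_one' (G := Subgroup.center P) (x := ⟨_, hc⟩)
  rw [hcard] at this
  rw [show a ^ 4 = (a ^ 2) ^ 2 by rw [← pow_mul]]
  exact congrArg Subtype.val this

/-- Let G be a finite simple group in which all involutions are conjugate and the centralizer of an involution has a normal extraspecial subgroup of order 32 complemented by a subgroup isomorphic to the alternating group of degree 5 (a group of J₃-type). Then a Sylow 19-subgroup of G is self-centralizing with normalizer-quotient cyclic of order 9, and a Sylow 17-subgroup is self-centralizing with normalizer-quotient cyclic of order 8. -/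
theorem result {G : Type*} [Group G] [Finite G] [IsSimpleGroup G]
    (hone : ∀ x y : G, orderOf x = 2 → orderOf y = 2 → IsConj x y)
    (t : G) (ht : orderOf t = 2) (E A : Subgroup ↥(Subgroup.centralizer ({t} : Set G))) [E.Normal]
    (hE : Cfsg.IsExtraspecial 2 ↥E) (hE32 : Nat.card ↥E = 32) (hEA : E.IsComplement' A)
    (eA : ↥A ≃* ↥(alternatingGroup (Fin 5))) :
    (∀ X : Sylow 19 G, Subgroup.centralizer ((X : Subgroup G) : Set G) = X ∧
        ∃ h : ((X : Subgroup G).subgroupOf (Subgroup.normalizer ((X : Subgroup G) : Set G))).Normal,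
          IsCyclic (↥(Subgroup.normalizer ((X : Subgroup G) : Set G)) ⧸ (X : Subgroup G).subgroupOf _) ∧
          Nat.card (↥(Subgroup.normalizer ((X : Subgroup G) : Set G)) ⧸ (X : Subgroup G).subgroupOf _) = 9) ∧
    (∀ Y : Sylow 17 G, Subgroup.centralizer ((Y : Subgroup G) : Set G) = Y ∧
        ∃ h : ((Y : Subgroup G).subgroupOf (Subgroup.normalizer ((Y : Subgroup G) : Set G))).Normal,
          IsCyclic (↥(Subgroup.normalizer ((Y : Subgroup G) : Set G)) ⧸ (Y : Subgroup G).subgroupOf _) ∧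
          Nat.card (↥(Subgroup.normalizer ((Y : Subgroup G) : Set G)) ⧸ (Y : Subgroup G).subgroupOf _) = 8) := by
  haveI : Fact (Nat.Prime 2) := ⟨Nat.prime_two⟩
  let hq : (↥(Subgroup.centralizer ({t} : Set G)) ⧸ E) ≃* ↥(alternatingGroup (Fin 5)) :=
    (hEA.symm.QuotientMulEquiv).trans eA
  obtain ⟨Q₀, hloc⟩ := CfsgLib.Recog.J3T.local_of_statement t ht E hE hE32 hq
  obtain ⟨F, _, _, ω, hF, hω, ⟨e⟩⟩ := CfsgLib.Recog.J3T.isoJ3 ⟨hloc, hone⟩
  haveI : CharP F 2 := by
    obtain ⟨p, hp⟩ := CharP.exists F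
    haveI := hp
    obtain ⟨n, hpp, hn⟩ := FiniteField.card F p
    have hdvd : p ∣ (2 : ℕ) ^ 2 := by
      rw [show (2 : ℕ) ^ 2 = p ^ (n : ℕ) by rw [← hn, hF]; norm_num]
      exact dvd_pow_self p n.ne_zero
    have : p = 2 := (Nat.prime_dvd_prime_iff_eq hpp Nat.prime_two).1 (hpp.dvd_of_dvd_pow hdvd)
    exact this ▸ hp
  have hG : Nat.card G = 50232960 := by rw [Nat.card_congr e.toEquiv, CfsgLib.Sporadic.J3.card_J3 hω hF]
  obtain ⟨x, w, hx, hw, hcx⟩ := CfsgLib.Known.JankoThreeNorm.exists_witness hω hF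
  have hcx' : ∀ y : G, Commute y (e.symm x) → (orderOf y).Prime → orderOf y = 3 ∨ orderOf y = 19 := by
    intro y hy hp
    have h1 : Commute (e y) x := by simpa using hy.map e.toMonoidHom
    have h2 := hcx (e y) h1 (by rwa [MulEquiv.orderOf_eq])
    rwa [MulEquiv.orderOf_eq] at h2
  have hx' : orderOf (e.symm x) = 19 := by rw [MulEquiv.orderOf_eq, hx]
  have hw' : e.symm w * e.symm x * (e.symm w)⁻¹ = e.symm x ^ 4 := by
    rw [← map_inv, ← map_mul, ← map_mul, hw, map_pow]
  have hCcard : Nat.card ↥(Subgroup.centralizer ({t} : Set G)) = 1920 := by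
    rw [← hEA.card_mul_card, hE32, Nat.card_congr eA.toEquiv, nat_card_alternatingGroup, Nat.card_fin]
    rfl
  have hto : ∀ s y : G, orderOf s = 2 → Commute s y → ∃ y' : ↥(Subgroup.centralizer ({t} : Set G)), orderOf y' = orderOf y := by
    intro s y hs hsy
    obtain ⟨g, hg⟩ := isConj_iff.1 (hone s t hs ht)
    have hmem : g * y * g⁻¹ ∈ Subgroup.centralizer ({t} : Set G) := by
      rw [Subgroup.mem_centralizer_singleton_iff, ← hg]
      show g * y * g⁻¹ * (g * s * g⁻¹) = g * s * g⁻¹ * (g * y * g⁻¹)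
      rw [show g * y * g⁻¹ * (g * s * g⁻¹) = g * (y * s) * g⁻¹ by group, ← hsy.eq]
      group
    exact ⟨⟨_, hmem⟩, (Subgroup.orderOf_mk _ _).trans (MulEquiv.orderOf_eq (MulAut.conj g) y)⟩
  have h2 : ∀ s y : G, orderOf s = 2 → orderOf y = 17 → ¬ Commute s y := by
    intro s y hs hy hsy
    obtain ⟨y', hy'⟩ := hto s y hs hsy
    have := orderOf_dvd_natCard y'
    rw [hy', hy, hCcard] at this
    norm_num at this
  have h16 : ∀ v : G, orderOf v ≠ 16 := by
    intro v hv
    have hs : orderOf (v ^ 8) = 2 := by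
      rw [orderOf_pow_of_dvd (by norm_num) (by rw [hv]; norm_num), hv]
    obtain ⟨y', hy'⟩ := hto _ v hs ((Commute.refl v).pow_left 8)
    rw [hv] at hy'
    set a := hq (QuotientGroup.mk y') with ha
    have ha16 : a ^ 16 = 1 := by
      rw [ha, ← map_pow, ← QuotientGroup.mk_pow, ← hy', pow_orderOf_eq_one, QuotientGroup.mk_one, map_one]
    have ha60 : a ^ 60 = 1 := by
      have h60 : Nat.card (alternatingGroup (Fin 5)) = 60 := by
        rw [nat_card_alternatingGroup, Nat.card_fin]; rfl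
      rw [← h60]; exact pow_card_eq_one'
    have ha4 : a ^ 4 = 1 := by
      have := pow_gcd_eq_one.2 ⟨ha16, ha60⟩
      rwa [show Nat.gcd 16 60 = 4 by norm_num] at this
    have ha2 := CfsgLib.Recog.J3T.five_four a ha4
    have hmem : y' ^ 2 ∈ E := by
      rw [← QuotientGroup.eq_one_iff, QuotientGroup.mk_pow]
      exact hq.injective (by rw [map_pow, ← ha, ha2, map_one])
    have h8 : y' ^ 8 = 1 := by
      have := congrArg Subtype.val (sq_sq_eq_one hE ⟨_, hmem⟩)
      rw [show (8 : ℕ) = 2 * 4 from rfl, pow_mul]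
      exact this
    have := orderOf_dvd_of_pow_eq_one h8
    rw [hy'] at this
    norm_num at this
  have h19 : ∀ a y : G, orderOf a = 19 → orderOf y = 17 → ¬ Commute a y := by
    haveI : Fact (Nat.Prime 19) := ⟨by norm_num⟩
    intro a y ha hy hay
    let P : Sylow 19 G := Sylow.ofCard (Subgroup.zpowers a) (by
      rw [Nat.card_zpowers, ha]
      exact (CfsgLib.Known.JankoThreeNorm.sylow_card_prime (p := 19) (m := 2643840) (r := 9)
        (by rw [hG]) (by norm_num) (by norm_num) (default : Sylow 19 G)).symm.trans (Sylow.card_eq_multiplicity _))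
    obtain ⟨hP, -, -, -⟩ := CfsgLib.Known.JankoThreeNorm.shape_nineteen hG hx' hw' hcx' P
    have hym : y ∈ Subgroup.centralizer ((P : Subgroup G) : Set G) := by
      rw [Subgroup.mem_centralizer_iff]
      intro b hb
      obtain ⟨i, rfl⟩ := Subgroup.mem_zpowers_iff.1 (show b ∈ Subgroup.zpowers a from hb)
      exact (hay.zpow_left i).eq
    rw [hP] at hym
    have := orderOf_dvd_natCard (⟨y, hym⟩ : (P : Subgroup G))
    rw [Subgroup.orderOf_mk, hy, show Nat.card (P : Subgroup G) = 19 from (Nat.card_zpowers a).trans ha] at this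
    norm_num at this
  exact ⟨fun X => CfsgLib.Known.JankoThreeNorm.shape_nineteen hG hx' hw' hcx' X,
    fun Y => CfsgLib.Known.JankoThreeNorm.shape_seventeen hG h2 h19 h16 Y⟩

end Cfsg.Agent.S2228
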