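import Cfsg.Statements.S2231
import Cfsg.Agent.Lib.LocalEven.QdPrime

set_option linter.all false

set_option autoImplicit false
open Cfsg

namespace Cfsg.Agent.S2231

/-- Let p be an odd prime and K a finite field of characteristic p. Then Qd(p) (the natural semidirect product of an elementary abelian group of order p² by SL₂(p)) is not involved in the projective special linear group PSL₂(K). -/
theorem result {p : ℕ} [Fact p.Prime] (hp : p ≠ 2) {K : Type*} [Field K] [Fintype K] [CharP K p] : ¬ Cfsg.Involves ↥(Cfsg.qd p) (Matrix.ProjectiveSpecialLinearGroup (Fin 2) K) := by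
  classical
  rintro ⟨M, R, hR, ⟨e⟩⟩
  -- the Sylow subgroups of `PSL₂` are commutative
  obtain ⟨T₀⟩ : Nonempty (Sylow p (Matrix.SpecialLinearGroup (Fin 2) K)) := inferInstance
  obtain ⟨y, hy⟩ := CfsgLib.Classical.Two.exists_point_sylow_SL p T₀
  have hroot : ∀ (y : Projectivization K (Fin 2 → K)) a, a ∈ CfsgLib.Classical.Two.rootGroup y →
      ∀ b ∈ CfsgLib.Classical.Two.rootGroup y, a * b = b * a := by
    intro y a ha b hb
    obtain ⟨g, rfl⟩ := MulAction.exists_smul_eq (Matrix.SpecialLinearGroup (Fin 2) K)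
      (CfsgLib.Classical.Two.basePoint K 0) y
    rw [CfsgLib.Classical.Two.rootGroup_smul, Subgroup.mem_pointwise_smul_iff_inv_smul_mem] at ha hb
    have key : ∀ c d : Matrix.SpecialLinearGroup (Fin 2) K,
        c ∈ CfsgLib.Classical.Two.rootGroup (CfsgLib.Classical.Two.basePoint K 0) →
        d ∈ CfsgLib.Classical.Two.rootGroup (CfsgLib.Classical.Two.basePoint K 0) → c * d = d * c := by
      intro c d hc hd
      rw [← SetLike.mem_coe, CfsgLib.Classical.Two.rootGroup_basePoint] at hc hd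
      obtain ⟨u, rfl⟩ := hc
      obtain ⟨v, rfl⟩ := hd
      refine Matrix.SpecialLinearGroup.ext _ _ fun i j => ?_
      fin_cases i <;> fin_cases j <;>
        simp [Matrix.SpecialLinearGroup.transvection_coe, Matrix.mul_apply, Fin.sum_univ_two,
          Matrix.transvection, Matrix.one_apply, Matrix.single_apply, add_comm]
    have h := key _ _ ha hb
    rw [← smul_mul', ← smul_mul'] at h
    exact MulAction.injective (MulAut.conj g)⁻¹ h
  let π := QuotientGroup.mk' (Subgroup.center (Matrix.SpecialLinearGroup (Fin 2) K))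
  have hT : ∀ T : Sylow p (Matrix.ProjectiveSpecialLinearGroup (Fin 2) K),
      ∀ a ∈ (T : Subgroup (Matrix.ProjectiveSpecialLinearGroup (Fin 2) K)),
        ∀ b ∈ (T : Subgroup (Matrix.ProjectiveSpecialLinearGroup (Fin 2) K)), a * b = b * a := by
    intro T a ha b hb
    obtain ⟨g, rfl⟩ := MulAction.exists_smul_eq (Matrix.ProjectiveSpecialLinearGroup (Fin 2) K)
      (T₀.mapSurjective (f := π) (QuotientGroup.mk'_surjective _)) T
    rw [Sylow.coe_subgroup_smul, Subgroup.mem_pointwise_smul_iff_inv_smul_mem] at ha hb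
    obtain ⟨a', ha', ea⟩ := ha
    obtain ⟨b', hb', eb⟩ := hb
    have h : (MulAut.conj g)⁻¹ • (a * b) = (MulAut.conj g)⁻¹ • (b * a) := by
      rw [smul_mul', smul_mul', ← ea, ← eb, ← map_mul, ← map_mul,
        hroot y a' (hy ▸ ha') b' (hy ▸ hb')]
    exact MulAction.injective _ h
  -- so a Sylow subgroup of `Qd(p)` would be commutative
  haveI := hR
  let f : M →* ↥(Cfsg.qd p) := e.toMonoidHom.comp (QuotientGroup.mk' (R.subgroupOf M))
  have hf : Function.Surjective f := e.surjective.comp (QuotientGroup.mk'_surjective _)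
  obtain ⟨P⟩ : Nonempty (Sylow p M) := inferInstance
  obtain ⟨T, hT'⟩ := (P.2.map M.subtype).exists_le_sylow
  have hS : ∀ a ∈ ((P.mapSurjective hf : Sylow p ↥(Cfsg.qd p)) : Subgroup ↥(Cfsg.qd p)),
      ∀ b ∈ ((P.mapSurjective hf : Sylow p ↥(Cfsg.qd p)) : Subgroup ↥(Cfsg.qd p)), a * b = b * a := by
    rintro _ ⟨a, ha, rfl⟩ _ ⟨b, hb, rfl⟩
    rw [← map_mul, ← map_mul]
    congr 1
    exact Subtype.ext (hT T _ (hT' (Subgroup.mem_map_of_mem _ ha)) _ (hT' (Subgroup.mem_map_of_mem _ hb)))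
  let S : Sylow p ↥(Cfsg.qdOver (ZMod p)) := P.mapSurjective hf
  obtain ⟨x, hx1, hx⟩ := CfsgLib.LocalEven.Qd.exists_point S
  obtain ⟨A, hA, hA1⟩ : ∃ A ∈ CfsgLib.Classical.Two.rootGroup x, A ≠ 1 := by
    refine (Subgroup.bot_or_exists_ne_one _).resolve_left fun h => ?_
    have hc := CfsgLib.Classical.Two.card_rootGroup x
    rw [h, Subgroup.card_bot, Nat.card_zmod] at hc
    exact (Fact.out : p.Prime).ne_one hc.symm
  refine hA1 (Matrix.SpecialLinearGroup.ext _ _ fun i j => ?_)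
  have ha : CfsgLib.LocalEven.Qd.mkElt (ZMod p) A 0 ∈ (S : Subgroup ↥(Cfsg.qdOver (ZMod p))) := by
    rw [hx, Subgroup.mem_comap, CfsgLib.LocalEven.Qd.block_mkElt]
    exact hA
  have hv : CfsgLib.LocalEven.Qd.mkElt (ZMod p) 1 (Pi.single j 1) ∈ (S : Subgroup ↥(Cfsg.qdOver (ZMod p))) := by
    rw [hx, Subgroup.mem_comap, CfsgLib.LocalEven.Qd.block_mkElt]
    exact one_mem _
  have h2 : CfsgLib.LocalEven.Qd.mkElt (ZMod p) A 0 * CfsgLib.LocalEven.Qd.mkElt (ZMod p) 1 (Pi.single j 1) =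
      CfsgLib.LocalEven.Qd.mkElt (ZMod p) 1 (Pi.single j 1) * CfsgLib.LocalEven.Qd.mkElt (ZMod p) A 0 :=
    hS _ ha _ hv
  have h : ((CfsgLib.LocalEven.Qd.mkElt (ZMod p) A 0 * CfsgLib.LocalEven.Qd.mkElt (ZMod p) 1 (Pi.single j 1) :
        ↥(Cfsg.qdOver (ZMod p))) : Matrix.SpecialLinearGroup (Fin 3) (ZMod p)).1 i.castSucc 2 =
      ((CfsgLib.LocalEven.Qd.mkElt (ZMod p) 1 (Pi.single j 1) * CfsgLib.LocalEven.Qd.mkElt (ZMod p) A 0 :
        ↥(Cfsg.qdOver (ZMod p))) : Matrix.SpecialLinearGroup (Fin 3) (ZMod p)).1 i.castSucc 2 := by rw [h2]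
  simp only [Subgroup.coe_mul, Matrix.SpecialLinearGroup.coe_mul] at h
  fin_cases i <;> fin_cases j <;>
    simp [CfsgLib.LocalEven.Qd.mkElt, Matrix.mul_apply, Fin.sum_univ_three, Matrix.one_apply] at h ⊢ <;>
    first | exact h | linear_combination h

end Cfsg.Agent.S2231
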