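import Cfsg.Statements.S2239
import Cfsg.Agent.Lib.Lie.Suzuki.SubgroupClass

set_option autoImplicit false
open Cfsg

namespace Cfsg.Agent.S2239

/-- Subfield subgroups of the Suzuki group: let q = 2^(2m+1) and s = 2^(2k+1) with m, k ≥ 1 and 2k+1 dividing 2m+1 (so q is a power of s), both groups realised as stabilisers in SL₄ of the Suzuki–Tits ovoid. Then Sz(q) has a subgroup isomorphic to Sz(s), and any two subgroups of Sz(q) isomorphic to Sz(s) are conjugate. -/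
theorem result {F : Type*} [Field F] [Fintype F] {m : ℕ} (hm : 1 ≤ m) (hF : Fintype.card F = 2 ^ (2 * m + 1)) {K : Type*} [Field K] [Fintype K] {k : ℕ} (hk : 1 ≤ k) (hK : Fintype.card K = 2 ^ (2 * k + 1)) (hdiv : 2 * k + 1 ∣ 2 * m + 1) :
    (∃ S : Subgroup ↥(Cfsg.Sz F m), Nonempty (↥S ≃* ↥(Cfsg.Sz K k))) ∧
    ∀ S₁ S₂ : Subgroup ↥(Cfsg.Sz F m), Nonempty (↥S₁ ≃* ↥(Cfsg.Sz K k)) → Nonempty (↥S₂ ≃* ↥(Cfsg.Sz K k)) →
      ∃ g : ↥(Cfsg.Sz F m), S₂ = S₁.map (MulAut.conj g).toMonoidHom := by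
  haveI := CfsgLib.Lie.Suzuki.charTwo_of_card hF
  haveI := CfsgLib.Lie.Suzuki.charTwo_of_card hK
  obtain ⟨f⟩ := CfsgLib.Lie.Suzuki.exists_fieldHom (K := K) hF hK hdiv
  refine ⟨⟨_, ⟨(CfsgLib.Lie.Suzuki.subEquiv hk hF hK hdiv f).symm⟩⟩, fun S₁ S₂ ⟨e₁⟩ ⟨e₂⟩ => ?_⟩
  obtain ⟨g₁, h₁⟩ := CfsgLib.Lie.Suzuki.exists_conj_of_equiv hF hm hk hK hdiv f e₁
  obtain ⟨g₂, h₂⟩ := CfsgLib.Lie.Suzuki.exists_conj_of_equiv hF hm hk hK hdiv f e₂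
  refine ⟨g₂⁻¹ * g₁, ?_⟩
  have h := congrArg (fun H : Subgroup _ => H.map (MulAut.conj g₂⁻¹).toMonoidHom) (h₂.trans h₁.symm)
  simp only [Subgroup.map_map] at h
  ext x
  constructor
  · intro hx
    have hx' : (MulAut.conj g₂⁻¹).toMonoidHom ((MulAut.conj g₂).toMonoidHom x) ∈
        S₂.map ((MulAut.conj g₂⁻¹).toMonoidHom.comp (MulAut.conj g₂).toMonoidHom) := ⟨x, hx, rfl⟩
    rw [h] at hx'
    obtain ⟨y, hy, e⟩ := hx'
    exact ⟨y, hy, by simpa [mul_assoc] using e⟩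
  · rintro ⟨y, hy, rfl⟩
    have hy' : (MulAut.conj g₂⁻¹).toMonoidHom ((MulAut.conj g₁).toMonoidHom y) ∈
        S₁.map ((MulAut.conj g₂⁻¹).toMonoidHom.comp (MulAut.conj g₁).toMonoidHom) := ⟨y, hy, rfl⟩
    rw [← h] at hy'
    obtain ⟨x, hx, e⟩ := hy'
    simp [mul_assoc] at e ⊢
    rwa [← e]

end Cfsg.Agent.S2239
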