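import Cfsg.Statements.S2241
import Cfsg.Agent.Lib.Lie.Suzuki.Structure

set_option autoImplicit false
open Cfsg
open CfsgLib.Lie.Suzuki

namespace Cfsg.Agent.S2241

/-- Real 2-elements of the Suzuki group: with q = 2^(2m+1), m ≥ 1, and the group realised as the stabiliser in SL₄ of the Suzuki–Tits ovoid, a non-identity element of a Sylow 2-subgroup is conjugate to its inverse if and only if it is an involution; in particular no element of order 4 is conjugate to its inverse. -/
theorem result {F : Type*} [Field F] [Fintype F] {m : ℕ} (hm : 1 ≤ m) (hF : Fintype.card F = 2 ^ (2 * m + 1)) (P : Sylow 2 ↥(Cfsg.Sz F m)) (g : ↥(Cfsg.Sz F m)) (hg : g ∈ (P : Subgroup ↥(Cfsg.Sz F m))) (h1 : g ≠ 1) :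
    IsConj g g⁻¹ ↔ orderOf g = 2 := by
  haveI := CfsgLib.Lie.Suzuki.charTwo_of_card hF
  obtain ⟨x, hx⟩ := exists_conj_sylow hF hm P
  rw [hx] at hg
  obtain ⟨u, ⟨a, b, rfl⟩, rfl⟩ := hg
  constructor
  · intro h
    have h' : IsConj (uS hF a b) (uS hF a b)⁻¹ := by
      obtain ⟨c, hc⟩ := isConj_iff.1 h
      refine isConj_iff.2 ⟨x⁻¹ * c * x, ?_⟩
      simp [MulAut.conj_apply, mul_inv_rev] at hc
      calc x⁻¹ * c * x * uS hF a b * (x⁻¹ * c * x)⁻¹
          = x⁻¹ * (c * (x * uS hF a b * x⁻¹) * c⁻¹) * x := by group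
        _ = (uS hF a b)⁻¹ := by rw [hc]; group
    have ha : a = 0 := by
      by_contra ha
      exact not_conj_inv hF hm ha h'
    refine orderOf_eq_prime_iff.2 ⟨?_, h1⟩
    rw [← map_pow, uS_sq, ha, mul_zero, uS_one, map_one]
  · intro h
    have h2 := pow_orderOf_eq_one ((MulAut.conj x).toMonoidHom (uS hF a b))
    rw [h, sq] at h2
    rw [inv_eq_of_mul_eq_one_right h2]

end Cfsg.Agent.S2241
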