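import Cfsg.Statements.S2244
import Cfsg.Agent.Lib.Lie.Rel.ParabolicFacts
import Cfsg.Agent.Lib.Lie.Rel.EmbedData
import Cfsg.Agent.Lib.Lie.WeakClosed.Main

set_option autoImplicit false
open Cfsg

namespace Cfsg.Agent.S2244

/-- Weakly closed unipotent subgroups of Chevalley groups: let G be the Chevalley group of type G₂, B₂, D₄, F₄, E₆, E₇ or E₈ over a finite field F (the matrix group generated by the root elements), with |F| ≠ 2, and |F| ≠ 3 as well for the types G₂, B₂, D₄, F₄. Let U be the subgroup generated by the positive root subgroups. If X ≤ U is weakly closed in U with respect to G (every G-conjugate of X lying in U equals X), then X is the unipotent radical U_J of a standard parabolic subgroup for some set J of fundamental roots. -/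
theorem result {F : Type*} [Field F] [Fintype F] (D : Cfsg.Lie.ChevalleyDatum) (hD : D ∈ [Cfsg.Lie.chevG2, Cfsg.Lie.chevB2, Cfsg.Lie.chevD4, Cfsg.Lie.chevF4, Cfsg.Lie.chevE6, Cfsg.Lie.chevE7, Cfsg.Lie.chevE8])
    (h2 : Fintype.card F ≠ 2) (h3 : D ∈ [Cfsg.Lie.chevG2, Cfsg.Lie.chevB2, Cfsg.Lie.chevD4, Cfsg.Lie.chevF4] → Fintype.card F ≠ 3)
    (X : Subgroup (GL D.Idx F)) (hXU : X ≤ D.posUnipotent F)
    (hwc : ∀ g ∈ D.group F, X.map (MulAut.conj g).toMonoidHom ≤ D.posUnipotent F → X.map (MulAut.conj g).toMonoidHom = X) :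
    ∃ J : Set ℕ, (∀ j ∈ J, j < D.rank) ∧ X = D.unipotentRadical F J := by
  classical
  obtain ⟨A, hC, hdesc⟩ := CfsgLib.Lie.Chev.exists_desc hD
  have hW : CfsgLib.Lie.Chev.Rel.WCData D F := by
    have h1 := Fintype.one_lt_card (α := F)
    by_cases h : ∃ v : F, v ≠ 0 ∧ v ≠ 1 ∧ v ^ 2 ≠ 1
    · obtain ⟨v, hv⟩ := h
      exact Or.inl ⟨v, hv.1, hv.2.1, hv.2.2, CfsgLib.Lie.Chev.wcBig_of_mem hD⟩
    · simp only [not_exists, not_and, not_not] at h
      have hle : (Finset.univ : Finset F) ⊆ {0, 1, -1} := fun v _ => by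
        simp only [Finset.mem_insert, Finset.mem_singleton]
        by_cases h0 : v = 0
        · exact Or.inl h0
        · by_cases h1' : v = 1
          · exact Or.inr (Or.inl h1')
          · exact Or.inr (Or.inr ((sq_eq_one_iff.1 (h v h0 h1')).resolve_left h1'))
      have h3' : Fintype.card F = 3 := by
        have := (Finset.card_le_card hle).trans Finset.card_le_three
        rw [Finset.card_univ] at this
        omega
      have hE : D ∈ [Cfsg.Lie.chevE6, Cfsg.Lie.chevE7, Cfsg.Lie.chevE8] := by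
        simp only [List.mem_cons, List.not_mem_nil, or_false] at hD h3 ⊢
        rcases hD with e | e | e | e | e
        · exact absurd h3' (h3 (Or.inl e))
        · exact absurd h3' (h3 (Or.inr (Or.inl e)))
        · exact absurd h3' (h3 (Or.inr (Or.inr (Or.inl e))))
        · exact absurd h3' (h3 (Or.inr (Or.inr (Or.inr e))))
        · exact e
      refine Or.inr ⟨fun e => ?_, CfsgLib.Lie.Chev.wcThree_of_mem hE⟩
      have hm : (-1 : F) = 1 := by linear_combination -e
      rw [hm] at hle
      have h2' := Finset.card_le_card hle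
      simp only [Finset.insert_eq_of_mem, Finset.mem_singleton] at h2'
      rw [Finset.card_univ, Finset.card_pair zero_ne_one] at h2'
      omega
  have hX : X ≤ D.group F := hXU.trans (by
    rw [CfsgLib.Lie.Chev.posUnipotent_eq hC F]; exact Subgroup.map_subtype_le _)
  obtain ⟨Y, rfl⟩ : ∃ Y : Subgroup ↥(D.group F), Y.map (D.group F).subtype = X :=
    ⟨X.subgroupOf (D.group F), Subgroup.map_subgroupOf_eq_of_le hX⟩
  rw [CfsgLib.Lie.Chev.posUnipotent_eq hC F, Subgroup.map_subtype_le_map_subtype] at hXU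
  obtain ⟨J, hJ, hJe⟩ := (CfsgLib.Lie.Chev.chevRel hC F).weaklyClosed_eq_UR hdesc hW hXU fun g hg => by
    have hc : (Y.map (D.group F).subtype).map (MulAut.conj (g : GL D.Idx F)).toMonoidHom =
        (Y.map (MulAut.conj g).toMonoidHom).map (D.group F).subtype := by
      rw [Subgroup.map_map, Subgroup.map_map]; rfl
    have h := hwc g g.2 (by
      rw [hc, CfsgLib.Lie.Chev.posUnipotent_eq hC F]; exact Subgroup.map_mono hg)
    rw [hc] at h
    exact Subgroup.map_injective Subtype.val_injective h
  exact ⟨J, hJ, by rw [CfsgLib.Lie.Chev.unipotentRadical_eq hC F, hJe]⟩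

end Cfsg.Agent.S2244
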