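import Cfsg.Statements.S2245
import Cfsg.Agent.Lib.LeadSylowTwo.Negative
import Cfsg.Agent.Lib.LeadSylowTwo.Positive

set_option autoImplicit false
set_option linter.style.haveILetI false
open Cfsg

namespace Cfsg.Agent.S2245

open Equiv Equiv.Perm MulAction CfsgLib.LeadSylowTwo

theorem unique_of {G : Type*} [Group G] (R S : Subgroup G) (hRS : R ≤ S) (hS : S ≠ ⊤)
    (h : ∀ M : Subgroup G, R ≤ M → M ≠ ⊤ → M ≤ S) : ∃! M : Subgroup G, IsCoatom M ∧ R ≤ M := by
  have hco : IsCoatom S :=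
    ⟨hS, fun M hM => by_contra fun hne => hM.not_ge (h M (hRS.trans hM.le) hne)⟩
  refine ⟨S, ⟨hco, hRS⟩, fun M ⟨hM, hRM⟩ => ?_⟩
  exact ((eq_or_lt_of_le (h M hRM hM.1)).resolve_right fun hlt => hS (hM.2 S hlt))

theorem not_unique_of {G : Type*} [Group G] [Finite G] (R A B : Subgroup G) (hA : R ≤ A)
    (hB : R ≤ B) (hA' : A ≠ ⊤) (hB' : B ≠ ⊤) (hgen : A ⊔ B = ⊤) :
    ¬ ∃! M : Subgroup G, IsCoatom M ∧ R ≤ M := by
  rintro ⟨M, -, huniq⟩
  obtain ⟨M₁, h1, hAM⟩ := (eq_top_or_exists_le_coatom A).resolve_left hA'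
  obtain ⟨M₂, h2, hBM⟩ := (eq_top_or_exists_le_coatom B).resolve_left hB'
  have e1 := huniq M₁ ⟨h1, hA.trans hAM⟩
  have e2 := huniq M₂ ⟨h2, hB.trans hBM⟩
  exact h1.1 (top_le_iff.mp (hgen ▸ sup_le hAM ((e1.trans e2.symm) ▸ hBM)))

variable {α : Type*} [Fintype α] [DecidableEq α]

theorem sylow_alt_eq (R : Sylow 2 ↥(alternatingGroup α)) :
    ∃ P : Sylow 2 (Perm α), (R : Subgroup ↥(alternatingGroup α)) =
      (P : Subgroup (Perm α)).subgroupOf (alternatingGroup α) := by
  obtain ⟨P, hP⟩ := (R.isPGroup'.map (alternatingGroup α).subtype).exists_le_sylow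
  refine ⟨P, (R.is_maximal' ?_ ?_).symm⟩
  · exact P.isPGroup'.comap_of_injective _ (Subgroup.subtype_injective _)
  · exact fun r hr => hP (Subgroup.mem_map_of_mem _ hr)

theorem alt_unique {k : ℕ} (hk : 2 ≤ k) (hn : Fintype.card α = 2 ^ k + 1)
    (R : Sylow 2 ↥(alternatingGroup α)) :
    ∃! M : Subgroup ↥(alternatingGroup α), IsCoatom M ∧ (R : Subgroup _) ≤ M := by
  classical
  haveI : Fact (Nat.Prime 2) := ⟨Nat.prime_two⟩
  have h4 : 4 ≤ 2 ^ k := (show 4 = 2 ^ 2 by norm_num) ▸ Nat.pow_le_pow_right (by norm_num) hk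
  obtain ⟨P, hP⟩ := sylow_alt_eq R
  obtain ⟨x, hx⟩ := exists_fixed P (by rw [hn]; exact Even.add_one ((Nat.even_pow).mpr ⟨even_two, by omega⟩))
  refine unique_of _ (stabilizer ↥(alternatingGroup α) x) (hP ▸ fun g hg => hx _ hg) ?_ ?_
  · intro h
    obtain ⟨b, hb⟩ := Fintype.exists_ne_of_one_lt_card (show 1 < Fintype.card α by omega) x
    obtain ⟨c, hc, hcb⟩ : ∃ c, c ≠ x ∧ c ≠ b := by
      by_contra hall
      push Not at hall
      have h1 := Finset.card_le_card (s := (Finset.univ : Finset α)) (t := {x, b}) fun c _ => by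
        simp only [Finset.mem_insert, Finset.mem_singleton]
        exact or_iff_not_imp_left.mpr (hall c)
      have := Finset.card_le_two (a := x) (b := b)
      rw [Finset.card_univ] at h1
      omega
    have hmem : (⟨cyc x b c, mem_alternatingGroup.mpr (sign_cyc hb.symm hcb.symm)⟩ :
        ↥(alternatingGroup α)) ∈ stabilizer ↥(alternatingGroup α) x := h ▸ Subgroup.mem_top _
    have : cyc x b c x = x := hmem
    rw [(cyc_apply hb.symm hc.symm hcb.symm).1] at this
    exact hb this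
  intro M hRM hM
  by_contra hle
  apply hM
  set M' := M.map (alternatingGroup α).subtype with hM'
  have hPM : ∀ g ∈ (P : Subgroup (Perm α)), sign g = 1 → g ∈ M' := fun g hg hs =>
    ⟨⟨g, mem_alternatingGroup.mpr hs⟩, hRM (hP ▸ hg), rfl⟩
  obtain ⟨m, hmM, hmx⟩ := SetLike.not_le_iff_exists.mp hle
  have h2 : IsMultiplyPretransitive M' α 2 :=
    isPreprimitive_of_moves M' {g | g ∈ (P : Subgroup (Perm α)) ∧ sign g = 1}
      (fun g hg => hPM g hg.1 hg.2) (fun g hg => hx g hg.1)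
      (fun y z hy hz => let ⟨g, h1, h2, h3⟩ := even_transitive_rest P hk hn hx hy hz
        ⟨g, ⟨h1, h2⟩, h3⟩)
      ⟨(m : Perm α), ⟨m, hmM, rfl⟩, hmx⟩
  have hprim := isPreprimitive_of_is_two_pretransitive h2
  suffices hAM : alternatingGroup α ≤ M' by
    rw [eq_top_iff]
    intro g _
    obtain ⟨g', hg', hgg⟩ := hAM g.2
    rwa [← show g' = g from Subtype.ext hgg]
  by_cases hk3 : 3 ≤ k
  · obtain ⟨g, hg, h3⟩ := exists_three_cycle P hk3 hn hx M' hPM h2
    exact alternatingGroup_le_of_isPreprimitive_of_isThreeCycle_mem hprim h3 hg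
  obtain rfl : k = 2 := by omega
  norm_num at hn
  have hcard : Nat.card ↥(alternatingGroup α) = 60 := by
    haveI : Nontrivial α := Fintype.one_lt_card_iff_nontrivial.mp (by omega)
    rw [nat_card_alternatingGroup, Nat.card_eq_fintype_card, hn]; rfl
  have h5 : 5 ∣ Nat.card M := by
    haveI : IsPretransitive M' α := hprim.toIsPretransitive
    have := MulAction.index_stabilizer_of_transitive (G := M') x
    rw [Nat.card_eq_fintype_card, hn] at this
    have h := (stabilizer M' x).index_dvd_card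
    rwa [this, hM', Subgroup.card_map_of_injective (Subgroup.subtype_injective _)] at h
  have h4' : 4 ∣ Nat.card M := by
    have hR : Nat.card R = 2 ^ (60 : ℕ).factorization 2 := by
      rw [R.card_eq_multiplicity, hcard]
    have : 4 = Nat.card R := by
      rw [hR, show (60 : ℕ) = 2 ^ 2 * 15 by norm_num, Nat.factorization_mul (by norm_num)
        (by norm_num), Nat.Prime.factorization_pow Nat.prime_two]
      simp [Nat.factorization_eq_zero_of_not_dvd]
    exact this ▸ Subgroup.card_dvd_of_le hRM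
  have h20 : 20 ∣ Nat.card M := (show Nat.Coprime 4 5 by norm_num).mul_dvd_of_dvd_of_dvd h4' h5
  have hidx := M.card_mul_index
  rw [hcard] at hidx
  have hi3 : M.index ≤ 3 := by
    obtain ⟨c, hc⟩ := h20
    rcases Nat.eq_zero_or_pos c with rfl | hc0
    · rw [hc] at hidx; omega
    · have : 60 = 20 * (c * M.index) := by rw [← hidx, hc]; ring
      have : c * M.index = 3 := by omega
      exact Nat.le_of_dvd (by norm_num) ⟨c, by rw [mul_comm, this]⟩
  exact absurd hi3 (by
    have hsimple : IsSimpleGroup ↥(alternatingGroup α) := alternatingGroup.isSimpleGroup (by rw [Nat.card_eq_fintype_card]; omega)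
    intro hi
    have hdvd : Nat.card ↥(alternatingGroup α) ∣ M.index.factorial := by
      rcases hsimple.eq_bot_or_eq_top_of_normal M.normalCore inferInstance with e | e
      · have h' : M.normalCore.index ∣ M.index.factorial := by
          rw [Subgroup.index_eq_card, M.normalCore_eq_ker]
          refine (Nat.card_congr (QuotientGroup.quotientKerEquivRange
            (MulAction.toPermHom ↥(alternatingGroup α) (↥(alternatingGroup α) ⧸ M))).toEquiv).symm ▸ ?_
          refine (Subgroup.card_subgroup_dvd_card _).trans ?_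
          rw [Nat.card_perm]; rfl
        rwa [e, Subgroup.index_bot] at h'
      · exact absurd (top_le_iff.mp (e ▸ M.normalCore_le)) hM
    rw [hcard] at hdvd
    interval_cases h : M.index <;> norm_num [Nat.factorial] at hdvd)

theorem perm_unique {k : ℕ} (hk : 2 ≤ k) (hn : Fintype.card α = 2 ^ k + 1)
    (P : Sylow 2 (Perm α)) :
    ∃! M : Subgroup (Perm α), IsCoatom M ∧ (P : Subgroup _) ≤ M := by
  classical
  have h4 : 4 ≤ 2 ^ k := (show 4 = 2 ^ 2 by norm_num) ▸ Nat.pow_le_pow_right (by norm_num) hk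
  obtain ⟨x, hx⟩ := exists_fixed P (by rw [hn]; exact Even.add_one ((Nat.even_pow).mpr ⟨even_two, by omega⟩))
  refine unique_of _ (stabilizer (Perm α) x) (fun g hg => hx g hg) ?_ ?_
  · intro h
    obtain ⟨b, hb⟩ := Fintype.exists_ne_of_one_lt_card (show 1 < Fintype.card α by omega) x
    have : swap x b x = x := (h ▸ Subgroup.mem_top (swap x b) : swap x b ∈ stabilizer (Perm α) x)
    rw [swap_apply_left] at this
    exact hb this
  intro M hPM hM
  by_contra hle
  obtain ⟨m, hmM, hmx⟩ := SetLike.not_le_iff_exists.mp hle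
  have h2 : IsMultiplyPretransitive M α 2 :=
    isPreprimitive_of_moves M (P : Set (Perm α)) (fun g hg => hPM hg) (fun g hg => hx g hg)
      (fun y z hy hz => transitive_rest P hn hx hy hz) ⟨m, hmM, hmx⟩
  obtain ⟨c, d, hcd, hsw⟩ := exists_swap_mem P (by omega)
  exact hM (subgroup_eq_top_of_isPreprimitive_of_isSwap_mem
    (isPreprimitive_of_is_two_pretransitive h2) _ ⟨c, d, hcd, rfl⟩ (hPM hsw))

theorem alt_not_unique (hn5 : 5 ≤ Fintype.card α)
    (hne : ∀ k, 2 ≤ k → Fintype.card α ≠ 2 ^ k + 1) (R : Sylow 2 ↥(alternatingGroup α)) :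
    ¬ ∃! M : Subgroup ↥(alternatingGroup α), IsCoatom M ∧ (R : Subgroup _) ≤ M := by
  obtain ⟨P, hP⟩ := sylow_alt_eq R
  obtain ⟨A, B, hA, hB, hA', hB', hgen⟩ := hasPair P hn5 hne
  refine not_unique_of _ (A.subgroupOf _) (B.subgroupOf _) (hP ▸ fun g hg => hA hg)
    (hP ▸ fun g hg => hB hg) (fun h => hA' (Subgroup.subgroupOf_eq_top.mp h))
    (fun h => hB' (Subgroup.subgroupOf_eq_top.mp h)) (top_le_iff.mp fun g _ => ?_)
  have hm : (g : Perm α) ∈ (A.subgroupOf (alternatingGroup α) ⊔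
      B.subgroupOf (alternatingGroup α)).map (alternatingGroup α).subtype := by
    rw [Subgroup.map_sup, Subgroup.subgroupOf_map_subtype, Subgroup.subgroupOf_map_subtype]
    exact hgen g.2
  obtain ⟨g', hg', hgg⟩ := hm
  rwa [← show g' = g from Subtype.ext hgg]

theorem perm_not_unique (hn5 : 5 ≤ Fintype.card α)
    (hne : ∀ k, 2 ≤ k → Fintype.card α ≠ 2 ^ k + 1) (P : Sylow 2 (Perm α)) :
    ¬ ∃! M : Subgroup (Perm α), IsCoatom M ∧ (P : Subgroup _) ≤ M := by
  obtain ⟨A, B, hA, hB, hA', hB', hgen⟩ := hasPair P hn5 hne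
  have hAlt : alternatingGroup α ≤ A ⊔ B :=
    hgen.trans (sup_le_sup inf_le_left inf_le_left)
  refine not_unique_of _ A B hA hB (fun h => hA' (h ▸ le_top)) (fun h => hB' (h ▸ le_top))
    (top_le_iff.mp fun g _ => ?_)
  obtain ⟨c, d, hcd, hsw⟩ := exists_swap_mem P (by omega)
  have hswm : swap c d ∈ A ⊔ B := Subgroup.mem_sup_left (hA hsw)
  rcases Int.units_eq_one_or (sign g) with h | h
  · exact hAlt (mem_alternatingGroup.mpr h)
  · have : g * swap c d ∈ A ⊔ B :=
      hAlt (mem_alternatingGroup.mpr (by simp [h, sign_swap hcd]))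
    simpa [mul_assoc, swap_mul_self] using mul_mem this hswm

/-- For n ≥ 5 with n ≠ 6, a Sylow 2-subgroup of the alternating group A_n lies in exactly one maximal subgroup of A_n if and only if n = 2^k + 1 for some k ≥ 2; the same holds for the symmetric group S_n. -/
theorem result (n : ℕ) (hn : 5 ≤ n) (h6 : n ≠ 6) :
    ((∀ R : Sylow 2 ↥(alternatingGroup (Fin n)), (∃! M : Subgroup ↥(alternatingGroup (Fin n)), IsCoatom M ∧ (R : Subgroup ↥(alternatingGroup (Fin n))) ≤ M) ↔ ∃ k : ℕ, 2 ≤ k ∧ n = 2 ^ k + 1)) ∧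
    (∀ R : Sylow 2 (Equiv.Perm (Fin n)), (∃! M : Subgroup (Equiv.Perm (Fin n)), IsCoatom M ∧ (R : Subgroup (Equiv.Perm (Fin n))) ≤ M) ↔ ∃ k : ℕ, 2 ≤ k ∧ n = 2 ^ k + 1) := by
  have key : (¬ ∃ k : ℕ, 2 ≤ k ∧ n = 2 ^ k + 1) →
      ∀ k, 2 ≤ k → Fintype.card (Fin n) ≠ 2 ^ k + 1 := fun h k hk e =>
    h ⟨k, hk, by simpa using e⟩
  refine ⟨fun R => ⟨fun hu => ?_, fun ⟨k, hk, e⟩ => alt_unique hk (by simp [e]) R⟩,
    fun R => ⟨fun hu => ?_, fun ⟨k, hk, e⟩ => perm_unique hk (by simp [e]) R⟩⟩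
  · by_contra h
    exact alt_not_unique (by simpa using hn) (key h) R hu
  · by_contra h
    exact perm_not_unique (by simpa using hn) (key h) R hu

end Cfsg.Agent.S2245
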