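import Cfsg.Statements.S2247
import Cfsg.Agent.Lib.Lie.Suzuki.Structure

set_option autoImplicit false
open Cfsg
open CfsgLib.Lie.Suzuki

namespace Cfsg.Agent.S2247

/-- In the Suzuki group with q = 2^(2m+1), m ≥ 1 (realised as the stabiliser in SL₄ of the Suzuki–Tits ovoid), the normalizer of a Sylow 2-subgroup P is a maximal subgroup and is the only maximal subgroup containing P. -/
theorem result {F : Type*} [Field F] [Fintype F] {m : ℕ} (hm : 1 ≤ m) (hF : Fintype.card F = 2 ^ (2 * m + 1)) (P : Sylow 2 ↥(Cfsg.Sz F m)) :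
    IsCoatom (Subgroup.normalizer ((P : Subgroup ↥(Cfsg.Sz F m)) : Set ↥(Cfsg.Sz F m))) ∧
    ∀ M : Subgroup ↥(Cfsg.Sz F m), IsCoatom M → (P : Subgroup ↥(Cfsg.Sz F m)) ≤ M → M = Subgroup.normalizer ((P : Subgroup ↥(Cfsg.Sz F m)) : Set ↥(Cfsg.Sz F m)) := by
  haveI := CfsgLib.Lie.Suzuki.charTwo_of_card hF
  obtain ⟨x, hx⟩ := exists_conj_sylow hF hm P
  have hN : Subgroup.normalizer ((P : Subgroup (Cfsg.Sz F m)) : Set (Cfsg.Sz F m)) =
      (borel F m).map (MulAut.conj x).toMonoidHom := by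
    rw [hx, ← normalizer_unip hF hm]
    exact (Subgroup.map_equiv_normalizer_eq (unip hF) (MulAut.conj x)).symm
  have key : ∀ M : Subgroup (Cfsg.Sz F m), (P : Subgroup (Cfsg.Sz F m)) ≤ M →
      M ≤ (borel F m).map (MulAut.conj x).toMonoidHom ∨ M = ⊤ := fun M hM => by
    rw [hx, Subgroup.map_le_iff_le_comap] at hM
    rcases torus_le_of_unip_le hF hm hM with h | h
    · exact Or.inl fun y hy => ⟨x⁻¹ * y * x, h (show x * (x⁻¹ * y * x) * x⁻¹ ∈ M by
        rwa [show x * (x⁻¹ * y * x) * x⁻¹ = y by group]), show x * (x⁻¹ * y * x) * x⁻¹ = y by group⟩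
    · refine Or.inr ((Subgroup.eq_top_iff' M).2 fun y => ?_)
      have : x⁻¹ * y * x ∈ M.comap (MulAut.conj x).toMonoidHom := h ▸ Subgroup.mem_top _
      rwa [Subgroup.mem_comap, show (MulAut.conj x).toMonoidHom (x⁻¹ * y * x) = x * (x⁻¹ * y * x) * x⁻¹ from rfl,
        show x * (x⁻¹ * y * x) * x⁻¹ = y by group] at this
  have hne : (borel F m).map (MulAut.conj x).toMonoidHom ≠ ⊤ := fun h => borel_ne_top hF
    (Subgroup.map_injective (MulAut.conj x).injective
      (h.trans (Subgroup.map_top_of_surjective _ (MulAut.conj x).surjective).symm))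
  have hP : (P : Subgroup (Cfsg.Sz F m)) ≤ (borel F m).map (MulAut.conj x).toMonoidHom :=
    hx ▸ Subgroup.map_mono (unip_le_borel hF)
  rw [hN]
  refine ⟨⟨hne, fun M hM => ?_⟩, fun M hM hPM => ?_⟩
  · rcases key M (hP.trans hM.le) with h | h
    · exact absurd h (not_le_of_gt hM)
    · exact h
  · rcases key M hPM with h | h
    · exact (hM.le_iff.1 h).resolve_left hne |>.symm
    · exact absurd h hM.1

end Cfsg.Agent.S2247
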