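import Cfsg.Statements.S2249
import Cfsg.Agent.Lib.Classical.ClassicalTwoRank

set_option autoImplicit false
open Cfsg

namespace Cfsg.Agent.S2249

/-- The normal 2-rank of the general linear group over a finite field of odd order q: for n ≥ 1 and S a Sylow 2-subgroup of GL_n(F), the largest rank of an elementary abelian subgroup of S that is normal in S equals n when q ≡ 1 (mod 4) and ⌊(n + 1)/2⌋ when q ≡ 3 (mod 4). -/
theorem result {F : Type*} [Field F] [Fintype F] {q : ℕ} (hF : Fintype.card F = q) (hodd : Odd q) (n : ℕ) (hn : 1 ≤ n) (S : Sylow 2 (Matrix.GeneralLinearGroup (Fin n) F)) :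
    (q % 4 = 1 → ((∃ E : Subgroup ↥(S : Subgroup (Matrix.GeneralLinearGroup (Fin n) F)), E.Normal ∧ Cfsg.IsElementaryAbelian 2 E ∧ 2 ^ (n) ≤ Nat.card ↥E) ∧
      ∀ E : Subgroup ↥(S : Subgroup (Matrix.GeneralLinearGroup (Fin n) F)), E.Normal → Cfsg.IsElementaryAbelian 2 E → Nat.card ↥E ≤ 2 ^ (n))) ∧
    (q % 4 = 3 → ((∃ E : Subgroup ↥(S : Subgroup (Matrix.GeneralLinearGroup (Fin n) F)), E.Normal ∧ Cfsg.IsElementaryAbelian 2 E ∧ 2 ^ ((n + 1) / 2) ≤ Nat.card ↥E) ∧
      ∀ E : Subgroup ↥(S : Subgroup (Matrix.GeneralLinearGroup (Fin n) F)), E.Normal → Cfsg.IsElementaryAbelian 2 E → Nat.card ↥E ≤ 2 ^ ((n + 1) / 2))) := by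
  subst hF
  have hq : 1 < Fintype.card F := Fintype.one_lt_card
  refine ⟨fun h4 => ⟨?_, fun E _ hE => ?_⟩, fun h4 => ⟨?_, fun E hn' hE => ?_⟩⟩
  · obtain ⟨E, h1, h2, h3⟩ := CfsgLib.Classical.TwoRank.exists_normal_GL (d := 1) (m := n) (l := 0) hodd one_pos
      (by omega) (by rw [CfsgLib.Classical.TwoRank.val_prod_split hq hodd h4, CfsgLib.Classical.TwoRank.val_prod_split hq hodd h4]; simp) S
    exact ⟨E, h1, h2, by rw [h3, Nat.add_zero]⟩
  · refine le_trans (le_of_eq ?_) (CfsgLib.Classical.TwoRank.card_elementary_GL hodd n _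
      (CfsgLib.PLocal.elementary_map S.toSubgroup.subtype hE))
    exact (Subgroup.card_map_of_injective S.toSubgroup.subtype_injective).symm
  · obtain ⟨E, h1, h2, h3⟩ := CfsgLib.Classical.TwoRank.exists_normal_GL (d := 2) (m := n / 2) (l := n % 2) hodd two_pos
      (by omega) (by rw [CfsgLib.Classical.TwoRank.val_prod_half hq hodd, CfsgLib.Classical.TwoRank.val_prod_half hq hodd]; simp) S
    exact ⟨E, h1, h2, by rw [h3, show (n + 1) / 2 = n / 2 + n % 2 by omega]⟩
  · exact CfsgLib.Classical.TwoRank.card_normal_GL_three hodd h4 n S E hn' hE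

end Cfsg.Agent.S2249
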