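import Cfsg.Statements.S2260

set_option autoImplicit false
open Cfsg

namespace Cfsg.Agent.S2260

/-- Let F be a finite field of prime characteristic p and u an invertible d × d matrix over F with u − 1 nilpotent (a unipotent element). Then the order of u is at most p^⌈log_p d⌉; and if moreover (u − 1)^(d−1) ≠ 0 (u is a single Jordan block) then the order of u is exactly p^⌈log_p d⌉. -/
theorem result {F : Type*} [Field F] [Finite F] (p : ℕ) [Fact p.Prime] [CharP F p] (d : ℕ)
    (u : GL (Fin d) F) (hu : IsNilpotent ((u : Matrix (Fin d) (Fin d) F) - 1)) :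
    orderOf u ≤ p ^ Nat.clog p d ∧
    (((u : Matrix (Fin d) (Fin d) F) - 1) ^ (d - 1) ≠ 0 → orderOf u = p ^ Nat.clog p d) := by
  have hp := (inferInstance : Fact p.Prime).out
  rcases Nat.eq_zero_or_pos d with rfl | hd
  · have : u = 1 := Subsingleton.elim _ _
    subst this
    exact ⟨by simp, fun _ => by simp⟩
  haveI : Nonempty (Fin d) := ⟨⟨0, hd⟩⟩
  haveI : CharP (Matrix (Fin d) (Fin d) F) p := charP_of_injective_algebraMap' F p
  set N : Matrix (Fin d) (Fin d) F := (u : Matrix (Fin d) (Fin d) F) - 1 with hN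
  have hNd : ∀ k, d ≤ k → N ^ k = 0 := fun k hk => by
    obtain ⟨e, he⟩ := hu
    have hdvd : minpoly F N ∣ (Polynomial.X : Polynomial F) ^ e := minpoly.dvd F N (by simp [he])
    obtain ⟨j, -, hj⟩ := (dvd_prime_pow Polynomial.prime_X _).1 hdvd
    have hjd : j ≤ d := by
      have := Polynomial.natDegree_le_of_dvd (Matrix.minpoly_dvd_charpoly N)
        (Matrix.charpoly_monic N).ne_zero
      rw [Matrix.charpoly_natDegree_eq_dim, Fintype.card_fin,
        Polynomial.natDegree_eq_of_degree_eq (Polynomial.degree_eq_degree_of_associated hj),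
        Polynomial.natDegree_X_pow] at this
      exact this
    obtain ⟨c, hc⟩ := hj.dvd.trans (pow_dvd_pow _ (hjd.trans hk))
    simpa [minpoly.aeval] using congrArg (Polynomial.aeval N) hc
  have hpow : ∀ k : ℕ, u ^ p ^ k = 1 ↔ N ^ p ^ k = 0 := by
    intro k
    rw [Units.ext_iff, Units.val_pow_eq_pow_val, Units.val_one,
      show (u : Matrix (Fin d) (Fin d) F) = 1 + N by rw [hN]; abel,
      add_pow_char_pow_of_commute _ _ (Commute.one_left _), one_pow, add_eq_left]
  have h1 : orderOf u ∣ p ^ Nat.clog p d :=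
    orderOf_dvd_of_pow_eq_one ((hpow _).2 (hNd _ (Nat.le_pow_clog hp.one_lt d)))
  refine ⟨Nat.le_of_dvd (pow_pos hp.pos _) h1, fun hne => ?_⟩
  obtain ⟨j, hj, hju⟩ := (Nat.dvd_prime_pow hp).1 h1
  rw [hju]
  congr 1
  refine le_antisymm hj (Nat.clog_le_of_le_pow ?_)
  by_contra hcon
  push Not at hcon
  refine hne (pow_eq_zero_of_le (by omega : p ^ j ≤ d - 1) ((hpow j).1 ?_))
  rw [← hju]
  exact pow_orderOf_eq_one u

end Cfsg.Agent.S2260
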