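import Cfsg.Statements.S2262
import Cfsg.Agent.Lib.Known.PSLMaxOrder

set_option autoImplicit false
open Cfsg

namespace Cfsg.Agent.S2262

/-- Let F be a finite field with q elements and d ≥ 2, with q ≥ 4 when d = 2, and (d, q) ∉ {(2, 4), (3, 2)}. Then every automorphism of the simple group PSL_d(F) has order at most (q^d − 1)/(q − 1) as an element of the automorphism group, and some automorphism has exactly this order. -/
theorem result {F : Type*} [Field F] [Fintype F] (d : ℕ) (hd : 2 ≤ d)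
    (h2 : d = 2 → 4 ≤ Fintype.card F) (h24 : ¬ (d = 2 ∧ Fintype.card F = 4)) (h32 : ¬ (d = 3 ∧ Fintype.card F = 2)) :
    (∀ φ : MulAut (Matrix.ProjectiveSpecialLinearGroup (Fin d) F),
      (Fintype.card F - 1) * orderOf φ ≤ Fintype.card F ^ d - 1) ∧
    (∃ φ : MulAut (Matrix.ProjectiveSpecialLinearGroup (Fin d) F),
      (Fintype.card F - 1) * orderOf φ = Fintype.card F ^ d - 1) := by
  classical
  obtain ⟨p, hc⟩ := CharP.exists F
  haveI := hc
  obtain ⟨f, hp, hq⟩ := FiniteField.card F p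
  haveI : Fact p.Prime := ⟨hp⟩
  refine ⟨fun φ => CfsgLib.Known.PSLMaxOrder.aut_bound hq f.2 hd h24 h32 φ, ?_⟩
  obtain ⟨g, hg⟩ := CfsgLib.Known.PGLOrder.exists_card_mul_orderOf_eq (F := F) (d := d) (by omega)
  refine ⟨CfsgLib.Known.AutPSL.innDiag d F g, le_antisymm (CfsgLib.Known.PSLMaxOrder.aut_bound hq f.2 hd h24 h32 _) ?_⟩
  refine le_trans hg.ge (Nat.mul_le_mul_left _ (le_of_eq ?_))
  rw [orderOf_eq_orderOf_iff]
  intro m
  rw [← QuotientGroup.mk_pow, QuotientGroup.eq_one_iff, ← map_pow,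
    CfsgLib.Known.AutPSL.innDiag_eq_one_iff hd, Matrix.GeneralLinearGroup.center_eq_range_scalar]
  haveI : Nonempty (Fin d) := ⟨⟨0, by omega⟩⟩
  constructor
  · rintro ⟨u, hu⟩
    refine ⟨(u : F), ?_⟩
    rw [← hu]
    ext i j
    by_cases h : i = j <;> simp [h]
  · rintro ⟨c, hc⟩
    have hc0 : c ≠ 0 := by
      rintro rfl
      rw [zero_smul] at hc
      exact (g ^ m).ne_zero hc
    refine ⟨Units.mk0 c hc0, Units.ext ?_⟩
    rw [hc]
    ext i j
    by_cases h : i = j <;> simp [h]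

end Cfsg.Agent.S2262
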