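import Cfsg.Statements.S2265
import Cfsg.Agent.Lib.Known.SelfDualOrdersGroups
import Cfsg.Agent.Lib.Classical.Quad.StandardForms

set_option autoImplicit false
open Cfsg

namespace Cfsg.Agent.S2265

/-- Let F be a finite field with q elements. Every element g of PΩ_(2m+1)(F) (m ≥ 3, q odd), of PΩ⁺_2m(F) (m ≥ 4), or of PΩ⁻_2m(F) (m ≥ 4, the form having an anisotropic binary part) satisfies (q − 1)·|g| ≤ q^(m+1), i.e. has order at most q^(m+1)/(q − 1). -/
theorem result {F : Type*} [Field F] [Fintype F] (m : ℕ) :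
    (3 ≤ m → Odd (Fintype.card F) → ∀ g : Cfsg.POmega F (Cfsg.quadFormOdd m F),
      (Fintype.card F - 1) * orderOf g ≤ Fintype.card F ^ (m + 1)) ∧
    (4 ≤ m → ∀ g : Cfsg.POmega F (Cfsg.quadFormPlus m F),
      (Fintype.card F - 1) * orderOf g ≤ Fintype.card F ^ (m + 1)) ∧
    (4 ≤ m → ∀ a b : F, (∀ z₁ z₂ : F, z₁ ^ 2 + a * z₁ * z₂ + b * z₂ ^ 2 = 0 → z₁ = 0 ∧ z₂ = 0) →
      ∀ g : Cfsg.POmega F (Cfsg.quadFormMinus (m - 1) F a b),
      (Fintype.card F - 1) * orderOf g ≤ Fintype.card F ^ (m + 1)) := by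
  simp only [← Nat.card_eq_fintype_card]
  refine ⟨fun hm hodd => ?_, fun hm => ?_, fun hm a b hab => ?_⟩
  · have h2 : (2 : F) ≠ 0 := fun h => by
      rw [Nat.card_eq_fintype_card] at hodd
      have h' := ringChar.eq_iff.2 (CharTwo.of_one_ne_zero_of_two_eq_zero one_ne_zero h : CharP F 2)
      exact Nat.not_even_iff_odd.2 hodd (Nat.even_iff.2 (FiniteField.even_card_iff_char_two.1 h'))
    rw [← CfsgLib.Classical.Quad.coe_qOdd]
    intro g
    refine le_of_le_of_eq (CfsgLib.Known.SelfDualOrders.orderOf_pomega_le _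
      (CfsgLib.Classical.Quad.qOdd_nondeg h2 m) (Or.inr ⟨h2, by simp; omega⟩) g) ?_
    congr 1
    simp; omega
  · rw [← CfsgLib.Classical.Quad.coe_qPlus]
    intro g
    refine le_of_le_of_eq (CfsgLib.Known.SelfDualOrders.orderOf_pomega_le _
      (CfsgLib.Classical.Quad.qPlus_nondeg m) (Or.inl ⟨m, by simp⟩) g) ?_
    congr 1
    simp; omega
  · rw [← CfsgLib.Classical.Quad.coe_qMinus]
    intro g
    refine le_of_le_of_eq (CfsgLib.Known.SelfDualOrders.orderOf_pomega_le _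
      (CfsgLib.Classical.Quad.qMinus_nondeg hab _) (Or.inl ⟨m, by simp; omega⟩) g) ?_
    congr 1
    simp; omega

end Cfsg.Agent.S2265
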