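import Cfsg.Statements.S2268

set_option autoImplicit false
open Cfsg

namespace Cfsg.Agent.S2268

/-- Let G be a finite group with an abelian Sylow p-subgroup P and let Q ≤ P. Then N_G(Q) = (N_G(Q) ∩ N_G(P))·C_G(Q), so that N_G(Q)/C_G(Q) is a homomorphic image of the subgroup (N_G(Q) ∩ N_G(P))/C_G(P) of N_G(P)/C_G(P); in particular the order of N_G(Q)/C_G(Q) divides the order of N_G(P)/C_G(P). -/
theorem result {G : Type*} [Group G] [Finite G] {p : ℕ} [Fact p.Prime]
    (P : Sylow p G) (hP : IsMulCommutative (P : Subgroup G)) (Q : Subgroup G) (hQ : Q ≤ (P : Subgroup G)) :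
    Subgroup.normalizer (Q : Set G) =
      (Subgroup.normalizer (Q : Set G) ⊓ Subgroup.normalizer ((P : Subgroup G) : Set G)) ⊔ Subgroup.centralizer (Q : Set G) ∧
    ((Subgroup.centralizer (Q : Set G)).subgroupOf (Subgroup.normalizer (Q : Set G))).index ∣ ((Subgroup.centralizer ((P : Subgroup G) : Set G)).subgroupOf (Subgroup.normalizer ((P : Subgroup G) : Set G))).index := by
  set N := Subgroup.normalizer (Q : Set G) with hN
  set C := Subgroup.centralizer (Q : Set G) with hC
  set NP := Subgroup.normalizer ((P : Subgroup G) : Set G)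
  set CP := Subgroup.centralizer ((P : Subgroup G) : Set G)
  have hPC : (P : Subgroup G) ≤ C := fun x hx => Subgroup.mem_centralizer_iff.2 fun y hy =>
    congrArg Subtype.val (hP.is_comm.comm ⟨y, hQ hy⟩ ⟨x, hx⟩)
  have hCN : C ≤ N := Subgroup.centralizer_le_normalizer _
  have heq : N = (N ⊓ NP) ⊔ C := by
    refine le_antisymm (fun g hg => ?_) (sup_le inf_le_left hCN)
    have hgP : ((g • P : Sylow p G) : Subgroup G) ≤ C := by
      rintro _ ⟨x, hx, rfl⟩
      refine Subgroup.mem_centralizer_iff.2 fun y hy => ?_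
      have hy' : g⁻¹ * y * g ∈ Q := (Subgroup.mem_normalizer_iff''.1 hg y).1 hy
      have := Subgroup.mem_centralizer_iff.1 (hPC hx) _ hy'
      simp only [MulDistribMulAction.toMonoidEnd_apply, MulDistribMulAction.toMonoidHom_apply,
        MulAut.smul_def, MulAut.conj_apply]
      calc y * (g * x * g⁻¹) = g * (g⁻¹ * y * g * x) * g⁻¹ := by group
        _ = g * (x * (g⁻¹ * y * g)) * g⁻¹ := by rw [this]
        _ = _ := by group
    obtain ⟨c, hc⟩ := MulAction.exists_smul_eq ↥C ((g • P).subtype hgP) (P.subtype hPC)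
    rw [Sylow.smul_subtype] at hc
    replace hc := Sylow.subtype_injective hc
    have hcg : (c : G) * g ∈ N ⊓ NP :=
      ⟨N.mul_mem (hCN c.2) hg, Sylow.smul_eq_iff_mem_normalizer.1 (by rw [mul_smul]; exact hc)⟩
    rw [show g = (c : G)⁻¹ * ((c : G) * g) by group]
    exact Subgroup.mul_mem _ (Subgroup.mem_sup_right (C.inv_mem c.2)) (Subgroup.mem_sup_left hcg)
  refine ⟨heq, ?_⟩
  have hCPC : CP ≤ C := Subgroup.centralizer_le hQ
  show C.relIndex N ∣ CP.relIndex NP
  haveI hCn : (C.subgroupOf N).Normal := Subgroup.normal_subgroupOf_centralizer_normalizer _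
  calc C.relIndex N = C.relIndex ((N ⊓ NP) ⊔ C) := by rw [← heq]
    _ = C.relIndex (N ⊓ NP) := by
        rw [← Subgroup.relIndex_subgroupOf (L := N) (sup_le inf_le_left hCN),
          Subgroup.subgroupOf_sup inf_le_left hCN, Subgroup.relIndex_sup_right,
          Subgroup.relIndex_subgroupOf inf_le_left]
    _ ∣ CP.relIndex (N ⊓ NP) := Subgroup.relIndex_dvd_of_le_left _ hCPC
    _ ∣ CP.relIndex NP := ⟨(N ⊓ NP).relIndex NP, (Subgroup.relIndex_mul_relIndex _ _ _
        (le_inf (hCPC.trans hCN) (Subgroup.centralizer_le_normalizer _)) inf_le_right).symm⟩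

end Cfsg.Agent.S2268
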