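import Cfsg.Statements.S2269
import Mathlib.GroupTheory.SpecificGroups.Alternating.Simple
import Mathlib.GroupTheory.SpecificGroups.KleinFour
import Mathlib.GroupTheory.Perm.Centralizer
import Mathlib.GroupTheory.Perm.ViaEmbedding
import Mathlib.GroupTheory.Transfer
import Mathlib.Tactic.IntervalCases

set_option autoImplicit false
open Cfsg
open scoped Pointwise

namespace Cfsg.Agent.S2269

open Subgroup Equiv

variable {n : ℕ}

theorem two_mul_card (hn : 5 ≤ n) :
    2 * Nat.card (alternatingGroup (Fin n)) = n.factorial := by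
  have : Nontrivial (Fin n) := Fin.nontrivial_iff_two_le.2 (by omega)
  rw [two_mul_nat_card_alternatingGroup, Nat.card_perm, Nat.card_fin]

/-- A noncyclic Sylow subgroup for an odd prime needs `2p` letters. -/
theorem two_mul_le_of_not_cyclic (hn : 5 ≤ n) {p : ℕ} [Fact p.Prime] (hp : p ≠ 2)
    (P : Sylow p (alternatingGroup (Fin n)))
    (hc : ¬ IsCyclic (P : Subgroup (alternatingGroup (Fin n)))) : 2 * p ≤ n := by
  by_contra hlt
  push Not at hlt
  have hpp : p.Prime := Fact.out
  refine hc ?_
  have hv : (Nat.card (alternatingGroup (Fin n))).factorization p ≤ 1 := by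
    have h1 : n.factorial.factorization p = (Nat.card (alternatingGroup (Fin n))).factorization p := by
      rw [← two_mul_card hn, Nat.factorization_mul (by norm_num) Nat.card_pos.ne',
        Finsupp.add_apply, Nat.prime_two.factorization, Finsupp.single_eq_of_ne hp, zero_add]
    rw [← h1, Nat.factorization_def _ hpp, padicValNat_factorial (b := n + 1)
      (Nat.lt_succ_of_le (Nat.log_le_self p n))]
    have hp2 := hpp.two_le
    refine le_trans (le_of_eq (Finset.sum_eq_single_of_mem 1
      (Finset.mem_Ico.2 ⟨le_rfl, by omega⟩) fun i hi hi1 => ?_)) ?_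
    · rw [Finset.mem_Ico] at hi
      refine Nat.div_eq_of_lt (lt_of_lt_of_le hlt ?_)
      calc 2 * p ≤ p * p := Nat.mul_le_mul_right p hp2
        _ = p ^ 2 := by ring
        _ ≤ p ^ i := Nat.pow_le_pow_right hpp.pos (by omega)
    · rw [pow_one]
      exact Nat.lt_succ_iff.1 ((Nat.div_lt_iff_lt_mul hpp.pos).2 hlt)
  rcases Nat.le_one_iff_eq_zero_or_eq_one.1 hv with h | h
  · have : Subsingleton (P : Subgroup (alternatingGroup (Fin n))) :=
      (Nat.card_eq_one_iff_unique.1 (by rw [P.card_eq_multiplicity, h, pow_zero])).1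
    exact isCyclic_of_subsingleton
  · exact isCyclic_of_prime_card (p := p) (by rw [P.card_eq_multiplicity, h, pow_one])

/-- The automizer of an abelian noncyclic Sylow subgroup for an odd prime has even order. -/
theorem even_automizer (hn : 5 ≤ n) {p : ℕ} [Fact p.Prime] (hp : p ≠ 2)
    (P : Sylow p (alternatingGroup (Fin n)))
    (hP : IsMulCommutative (P : Subgroup (alternatingGroup (Fin n)))) (h2p : 2 * p ≤ n) :
    2 ∣ ((centralizer ((P : Subgroup (alternatingGroup (Fin n))) : Set (alternatingGroup (Fin n)))).subgroupOf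
      (normalizer ((P : Subgroup (alternatingGroup (Fin n))) : Set (alternatingGroup (Fin n))))).index := by
  have hpp : p.Prime := Fact.out
  have h3 : 3 ≤ p := by have := hpp.two_le; omega
  obtain ⟨σ, hσ⟩ := (Equiv.Perm.exists_with_cycleType_iff (α := Fin n) (m := {p})).2
    ⟨by simp; omega, by simp; exact hpp.two_le⟩
  have hcyc : σ.IsCycle := Equiv.Perm.card_cycleType_eq_one.1 (by rw [hσ]; simp)
  have hsupp : σ.support.card = p := by rw [← σ.sum_cycleType, hσ]; simp
  have hsign : σ ∈ alternatingGroup (Fin n) := by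
    rw [Equiv.Perm.mem_alternatingGroup, hcyc.sign, hsupp,
      (hpp.odd_of_ne_two hp).neg_one_pow, neg_neg]
  set x : alternatingGroup (Fin n) := ⟨σ, hsign⟩
  have hx : orderOf x = p := by
    rw [← Subgroup.orderOf_coe, ← Equiv.Perm.lcm_cycleType, hσ]; simp
  obtain ⟨Q, hQ⟩ := (IsPGroup.of_card (n := 1)
    (by rw [Nat.card_zpowers, hx, pow_one]) : IsPGroup p (zpowers x)).exists_le_sylow
  obtain ⟨t, ht⟩ := MulAction.exists_smul_eq (alternatingGroup (Fin n)) Q P
  set y : alternatingGroup (Fin n) := t * x * t⁻¹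
  have hy : y ∈ (P : Subgroup (alternatingGroup (Fin n))) := by
    rw [← ht, Sylow.coe_subgroup_smul]
    exact ⟨x, hQ (mem_zpowers x), rfl⟩
  have hyc : (y : Perm (Fin n)).cycleType = {p} := by
    show ((t : Perm (Fin n)) * σ * (t : Perm (Fin n))⁻¹).cycleType = {p}
    rw [Equiv.Perm.cycleType_conj, hσ]
  obtain ⟨π, hπ⟩ := isConj_iff.1
    (Equiv.Perm.isConj_iff_cycleType_eq.2 (Equiv.Perm.cycleType_inv (y : Perm (Fin n))).symm)
  obtain ⟨a, ha, b, hb, hab⟩ := (Finset.one_lt_card (s := ((y : Perm (Fin n)).supportᶜ))).1 (by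
      rw [Finset.card_compl, Fintype.card_fin, ← (y : Perm (Fin n)).sum_cycleType, hyc]
      simp; omega)
  rw [Finset.mem_compl, Equiv.Perm.mem_support, not_not] at ha hb
  have hsw : swap a b * (y : Perm (Fin n)) = y * swap a b := by
    rw [Equiv.mul_swap_eq_swap_mul, ha, hb]
  obtain ⟨g, hg⟩ : ∃ g : alternatingGroup (Fin n),
      (g : Perm (Fin n)) * y * (g : Perm (Fin n))⁻¹ = (y : Perm (Fin n))⁻¹ := by
    rcases Int.units_eq_one_or (Perm.sign π) with h | h
    · exact ⟨⟨π, Equiv.Perm.mem_alternatingGroup.2 h⟩, hπ⟩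
    · refine ⟨⟨π * swap a b, Equiv.Perm.mem_alternatingGroup.2 ?_⟩, ?_⟩
      · rw [map_mul, h, Perm.sign_swap hab]; rfl
      · show π * swap a b * (y : Perm (Fin n)) * (π * swap a b)⁻¹ = _
        rw [mul_assoc π (swap a b), hsw, ← hπ]
        group
  have hg' : g⁻¹⁻¹ * y * g⁻¹ = y⁻¹ := by
    rw [inv_inv]; exact Subtype.ext hg
  obtain ⟨m, hm, hmy⟩ := P.conj_eq_normalizer_conj_of_mem y g⁻¹ hy (hg' ▸ inv_mem hy)
  rw [hg'] at hmy
  set N := normalizer ((P : Subgroup (alternatingGroup (Fin n))) : Set (alternatingGroup (Fin n)))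
  set C := (centralizer ((P : Subgroup (alternatingGroup (Fin n))) :
    Set (alternatingGroup (Fin n)))).subgroupOf N
  have : C.Normal := by
    rw [show C = _ from (Subgroup.normalizerMonoidHom_ker _).symm]
    infer_instance
  by_contra hodd
  have hmem := C.pow_index_mem ⟨m, hm⟩
  have hfix : y * m ^ C.index = m ^ C.index * y := mem_centralizer_iff.1 hmem y hy
  have hiter : ∀ i : ℕ, (m ^ i)⁻¹ * y * m ^ i = y ^ ((-1 : ℤ) ^ i) := by
    intro i
    induction i with
    | zero => simp
    | succ i ih =>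
      have : (m ^ (i + 1))⁻¹ * y * m ^ (i + 1) = m⁻¹ * ((m ^ i)⁻¹ * y * m ^ i) * m := by
        rw [pow_succ]; group
      rw [this, ih, pow_succ, zpow_mul, zpow_neg_one]
      have h1 : ∀ k : ℤ, m⁻¹ * y ^ k * m = (m⁻¹ * y * m) ^ k := fun k => by
        simpa using (map_zpow (MulAut.conj m⁻¹) y k)
      rw [h1, ← hmy, inv_zpow]
  have h2 := hiter C.index
  rw [Odd.neg_one_pow (Nat.odd_iff.2 (by omega)), zpow_neg_one, mul_assoc, hfix,
    inv_mul_cancel_left] at h2
  have hord : orderOf y ∣ 2 := orderOf_dvd_of_pow_eq_one (by rw [sq]; exact mul_eq_one_iff_eq_inv.2 h2)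
  have hoy : orderOf y = p := by
    rw [← Subgroup.orderOf_coe, ← Equiv.Perm.lcm_cycleType, hyc]; simp
  rw [hoy] at hord
  have := Nat.le_of_dvd (by norm_num) hord
  omega

/-- For `n ≥ 6` the Sylow `2`-subgroups are not abelian. -/
theorem not_abelian_two (hn : 6 ≤ n) [Fact (Nat.Prime 2)] (P : Sylow 2 (alternatingGroup (Fin n)))
    (hP : IsMulCommutative (P : Subgroup (alternatingGroup (Fin n)))) : False := by
  let f : Perm (Fin 6) →* Perm (Fin n) := Perm.viaEmbeddingHom (Fin.castLEEmb hn)
  have hinj : Function.Injective f := Perm.viaEmbeddingHom_injective _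
  have hsign : ∀ σ : Perm (Fin 6), σ ∈ alternatingGroup (Fin 6) → f σ ∈ alternatingGroup (Fin n) := by
    intro σ hσ
    rw [Perm.mem_alternatingGroup] at hσ ⊢
    show Perm.sign (σ.viaEmbedding _) = 1
    rw [Perm.viaEmbedding, Perm.sign_extendDomain, hσ]
  let r : Perm (Fin 6) := swap 0 1 * swap 1 2 * swap 2 3 * swap 4 5
  let s : Perm (Fin 6) := swap 0 1 * swap 2 3
  let a : alternatingGroup (Fin n) := ⟨f r, hsign r (Perm.mem_alternatingGroup.2 (by decide))⟩
  let b : alternatingGroup (Fin n) := ⟨f s, hsign s (Perm.mem_alternatingGroup.2 (by decide))⟩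
  have ha : a ^ 2 ^ 2 = 1 := Subtype.ext (by
    show f r ^ 2 ^ 2 = 1
    rw [← map_pow, show r ^ 2 ^ 2 = 1 by decide, map_one])
  have hb : b ^ 2 ^ 1 = 1 := Subtype.ext (by
    show f s ^ 2 ^ 1 = 1
    rw [← map_pow, show s ^ 2 ^ 1 = 1 by decide, map_one])
  have hconj : b * a * b⁻¹ = a⁻¹ := Subtype.ext (by
    show f s * f r * (f s)⁻¹ = (f r)⁻¹
    rw [← map_inv, ← map_mul, ← map_mul, ← map_inv, show s * r * s⁻¹ = r⁻¹ by decide])
  have hpz : ∀ (u : alternatingGroup (Fin n)) (k : ℕ), u ^ 2 ^ k = 1 → IsPGroup 2 (zpowers u) := by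
    intro u k hk
    obtain ⟨i, -, hi⟩ := (Nat.dvd_prime_pow Nat.prime_two).1 (orderOf_dvd_of_pow_eq_one hk)
    exact IsPGroup.of_card (n := i) (by rw [Nat.card_zpowers, hi])
  have hnorm : zpowers b ≤ normalizer (zpowers a : Set (alternatingGroup (Fin n))) := by
    rw [zpowers_le, mem_normalizer_iff_map_conj_eq, MonoidHom.map_zpowers]
    show zpowers (b * a * b⁻¹) = _
    rw [hconj, zpowers_inv]
  obtain ⟨Q, hQ⟩ := (IsPGroup.to_sup_of_normal_right' (hpz b 1 hb) (hpz a 2 ha) hnorm).exists_le_sylow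
  obtain ⟨t, ht⟩ := MulAction.exists_smul_eq (alternatingGroup (Fin n)) Q P
  have hm : ∀ u ∈ zpowers b ⊔ zpowers a, t * u * t⁻¹ ∈ (P : Subgroup (alternatingGroup (Fin n))) :=
    fun u hu => by rw [← ht, Sylow.coe_subgroup_smul]; exact ⟨u, hQ hu, rfl⟩
  have h : (t * b * t⁻¹) * (t * a * t⁻¹) = (t * a * t⁻¹) * (t * b * t⁻¹) :=
    congrArg Subtype.val (hP.is_comm.comm
      (⟨_, hm b (mem_sup_left (mem_zpowers b))⟩ : (P : Subgroup (alternatingGroup (Fin n))))
      ⟨_, hm a (mem_sup_right (mem_zpowers a))⟩)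
  have h' : b * a = a * b := by
    have := congrArg (fun z => t⁻¹ * z * t) h
    simpa [mul_assoc] using this
  have h'' : f (s * r) = f (r * s) := by
    have h0 : f s * f r = f r * f s := congrArg Subtype.val h'
    exact (map_mul f s r).trans (h0.trans (map_mul f r s).symm)
  exact absurd (hinj h'') (by decide)

/-- The Sylow `2`-subgroups of `A₅`. -/
theorem five_two [Fact (Nat.Prime 2)] (P : Sylow 2 (alternatingGroup (Fin 5))) :
    ((centralizer ((P : Subgroup (alternatingGroup (Fin 5))) : Set (alternatingGroup (Fin 5)))).subgroupOf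
      (normalizer ((P : Subgroup (alternatingGroup (Fin 5))) : Set (alternatingGroup (Fin 5))))).index = 3 ∧
      IsKleinFour (P : Subgroup (alternatingGroup (Fin 5))) := by
  have : IsSimpleGroup (alternatingGroup (Fin 5)) :=
    alternatingGroup.isSimpleGroup (by rw [Nat.card_fin])
  have hA : Nat.card (alternatingGroup (Fin 5)) = 60 := by
    have := two_mul_card (n := 5) le_rfl
    have : (5 : ℕ).factorial = 120 := rfl
    omega
  have hPc : Nat.card (P : Subgroup (alternatingGroup (Fin 5))) = 4 := by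
    rw [P.card_eq_multiplicity, hA, show (60 : ℕ) = 2 ^ 2 * 15 from rfl,
      Nat.factorization_mul (by norm_num) (by norm_num), Finsupp.add_apply,
      Nat.Prime.factorization_pow Nat.prime_two, Finsupp.single_eq_same,
      Nat.factorization_eq_zero_of_not_dvd (by norm_num : ¬ 2 ∣ 15)]
    rfl
  have hsq : ∀ x : (P : Subgroup (alternatingGroup (Fin 5))), x ^ 2 = 1 := by
    intro x
    have h4 : (x : alternatingGroup (Fin 5)) ^ 4 = 1 := by
      rw [← hPc]
      exact congrArg Subtype.val (pow_card_eq_one' (x := x))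
    have key : ∀ σ : alternatingGroup (Fin 5), σ ^ 4 = 1 → σ ^ 2 = 1 := by decide +kernel
    exact Subtype.ext (key _ h4)
  have hK : IsKleinFour (P : Subgroup (alternatingGroup (Fin 5))) := by
    refine ⟨hPc, ?_⟩
    refine Nat.dvd_antisymm (Monoid.exponent_dvd_of_forall_pow_eq_one hsq) ?_
    by_contra h
    have h1 : Monoid.exponent (P : Subgroup (alternatingGroup (Fin 5))) = 1 := by
      rcases (Nat.dvd_prime Nat.prime_two).1 (Monoid.exponent_dvd_of_forall_pow_eq_one hsq) with h' | h'
      · exact h'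
      · exact absurd h'.symm.dvd h
    have := Monoid.exp_eq_one_iff.1 h1
    have := Nat.card_unique (α := (P : Subgroup (alternatingGroup (Fin 5))))
    omega
  refine ⟨?_, hK⟩
  have hcomm : (P : Subgroup (alternatingGroup (Fin 5))) ≤
      centralizer ((P : Subgroup (alternatingGroup (Fin 5))) : Set (alternatingGroup (Fin 5))) := by
    intro a ha
    refine mem_centralizer_iff.2 fun b hb => ?_
    have ha1 := hsq ⟨a, ha⟩
    have hb1 := hsq ⟨b, hb⟩
    have hab := hsq (⟨b, hb⟩ * ⟨a, ha⟩)
    rw [sq] at ha1 hb1 hab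
    have hai : a⁻¹ = a := inv_eq_of_mul_eq_one_right (congrArg Subtype.val ha1)
    have hbi : b⁻¹ = b := inv_eq_of_mul_eq_one_right (congrArg Subtype.val hb1)
    have habi : (b * a)⁻¹ = b * a := inv_eq_of_mul_eq_one_right (congrArg Subtype.val hab)
    rw [← habi, mul_inv_rev, hai, hbi]
  set N := normalizer ((P : Subgroup (alternatingGroup (Fin 5))) : Set (alternatingGroup (Fin 5)))
  set C := centralizer ((P : Subgroup (alternatingGroup (Fin 5))) : Set (alternatingGroup (Fin 5)))
  have hCN : C ≤ N := centralizer_le_normalizer _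
  -- the centralizer is `P`
  have hC : Nat.card C = 4 := by
    obtain ⟨k, hk⟩ := card_dvd_of_le hcomm
    rw [hPc] at hk
    have h60 : 4 * k ∣ 60 := hk ▸ hA ▸ C.card_subgroup_dvd_card
    have hk15 : k ∣ 15 := (Nat.mul_dvd_mul_iff_left (by norm_num : 0 < 4)).1 (h60 : 4 * k ∣ 4 * 15)
    have hno : ∀ q : ℕ, q.Prime → q ∣ k → q = 3 ∨ q = 5 → False := by
      intro q hq hqk hq35
      have := Fact.mk hq
      obtain ⟨c, hc⟩ := exists_prime_orderOf_dvd_card' (G := C) q (hk ▸ hqk.mul_left 4)
      obtain ⟨u, hu⟩ := exists_prime_orderOf_dvd_card' (G := (P : Subgroup (alternatingGroup (Fin 5)))) 2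
        (by rw [hPc]; norm_num)
      have hcu : Commute (u : alternatingGroup (Fin 5)) (c : alternatingGroup (Fin 5)) :=
        mem_centralizer_iff.1 c.2 u u.2
      have hord : orderOf ((u : alternatingGroup (Fin 5)) * (c : alternatingGroup (Fin 5))) = 2 * q := by
        rw [hcu.orderOf_mul_eq_mul_orderOf_of_coprime] <;> rw [Subgroup.orderOf_coe, Subgroup.orderOf_coe, hu, hc]
        rcases hq35 with rfl | rfl <;> norm_num
      have k6 : ∀ σ : alternatingGroup (Fin 5), σ ^ 6 = 1 → σ ^ 2 = 1 ∨ σ ^ 3 = 1 := by decide +kernel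
      have k10 : ∀ σ : alternatingGroup (Fin 5), σ ^ 10 = 1 → σ ^ 2 = 1 ∨ σ ^ 5 = 1 := by decide +kernel
      rcases hq35 with rfl | rfl
      · rcases k6 _ (orderOf_dvd_iff_pow_eq_one.1 (dvd_of_eq hord)) with h | h <;>
          · have := Nat.le_of_dvd (by norm_num) (hord ▸ orderOf_dvd_of_pow_eq_one h)
            omega
      · rcases k10 _ (orderOf_dvd_iff_pow_eq_one.1 (dvd_of_eq hord)) with h | h <;>
          · have := Nat.le_of_dvd (by norm_num) (hord ▸ orderOf_dvd_of_pow_eq_one h)
            omega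
    have hk1 : k = 1 := by
      by_contra hk1
      obtain ⟨q, hq, hqk⟩ := Nat.exists_prime_and_dvd hk1
      refine hno q hq hqk ?_
      rcases hq.dvd_mul.1 (show q ∣ 3 * 5 from hqk.trans hk15) with h | h
      · exact Or.inl ((Nat.prime_dvd_prime_iff_eq hq Nat.prime_three).1 h)
      · exact Or.inr ((Nat.prime_dvd_prime_iff_eq hq (by decide : Nat.Prime 5)).1 h)
    rw [hk, hk1]
  -- the number of Sylow subgroups is five
  have hN : Nat.card N = 12 := by
    have h4 : 4 ∣ Nat.card N := hPc ▸ card_dvd_of_le le_normalizer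
    have hmul := N.card_mul_index
    rw [hA] at hmul
    obtain ⟨k, hk⟩ := h4
    have hidx : k * N.index = 15 := by rw [hk, mul_assoc] at hmul; omega
    have hk15 : k ∣ 15 := Dvd.intro _ hidx
    have := Nat.le_of_dvd (by norm_num) hk15
    rcases (show k = 1 ∨ k = 3 ∨ k = 5 ∨ k = 15 by interval_cases k <;> omega) with h | h | h | h
    · exfalso
      have heq : (P : Subgroup (alternatingGroup (Fin 5))) = N :=
        eq_of_le_of_card_ge le_normalizer (by rw [hk, h, hPc])
      have hc := MonoidHom.ker_transferSylow_isComplement' P (heq.ge.trans hcomm)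
      rcases (inferInstance : (MonoidHom.transferSylow P (heq.ge.trans hcomm)).ker.Normal).eq_bot_or_eq_top
        with h' | h'
      · rw [h', isComplement'_bot_left] at hc
        rw [hc, card_top, hA] at hPc
        norm_num at hPc
      · rw [h', isComplement'_top_left] at hc
        rw [hc, card_bot] at hPc
        norm_num at hPc
    · rw [hk, h]
    · exfalso
      have hi : N.index = 3 := by rw [h] at hidx; omega
      rcases N.normalCore_normal.eq_bot_or_eq_top with h' | h'
      · rw [normalCore_eq_ker, MonoidHom.ker_eq_bot_iff] at h'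
        have := Nat.card_le_card_of_injective _ h'
        rw [hA, Nat.card_perm, ← index_eq_card, hi] at this
        norm_num [Nat.factorial] at this
      · have := N.normalCore_le
        rw [h', top_le_iff] at this
        rw [this, index_top] at hi
        norm_num at hi
    · exfalso
      have htop : N = ⊤ := by
        refine eq_top_of_card_eq _ ?_
        rw [hk, h, hA]
      have hn : (P : Subgroup (alternatingGroup (Fin 5))).Normal := normalizer_eq_top_iff.1 htop
      rcases hn.eq_bot_or_eq_top with h' | h'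
      · rw [h', card_bot] at hPc; norm_num at hPc
      · rw [h', card_top, hA] at hPc; norm_num at hPc
  have := (C.subgroupOf N).card_mul_index
  rw [Nat.card_congr (subgroupOfEquivOfLe hCN).toEquiv, hC, hN] at this
  omega

/-- Let n ≥ 5 and let P be an abelian Sylow p-subgroup of the alternating group A_n. Then N(P)/C(P) (taken in A_n) has even order, or P is cyclic, except when n = 5 and p = 2, where P is a four-group and N(P)/C(P) has order 3. -/
theorem result (n : ℕ) (hn : 5 ≤ n) {p : ℕ} [Fact p.Prime]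
    (P : Sylow p (alternatingGroup (Fin n))) (hP : IsMulCommutative (P : Subgroup (alternatingGroup (Fin n)))) :
    (¬ (n = 5 ∧ p = 2) → 2 ∣ ((Subgroup.centralizer ((P : Subgroup (alternatingGroup (Fin n))) : Set (alternatingGroup (Fin n)))).subgroupOf (Subgroup.normalizer ((P : Subgroup (alternatingGroup (Fin n))) : Set (alternatingGroup (Fin n))))).index ∨ IsCyclic (P : Subgroup (alternatingGroup (Fin n)))) ∧
    ((n = 5 ∧ p = 2) → ((Subgroup.centralizer ((P : Subgroup (alternatingGroup (Fin n))) : Set (alternatingGroup (Fin n)))).subgroupOf (Subgroup.normalizer ((P : Subgroup (alternatingGroup (Fin n))) : Set (alternatingGroup (Fin n))))).index = 3 ∧ IsKleinFour (P : Subgroup (alternatingGroup (Fin n)))) := by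
  refine ⟨fun hne => ?_, ?_⟩
  · by_cases hp : p = 2
    · subst hp
      exact (not_abelian_two (by omega) P hP).elim
    · by_cases hc : IsCyclic (P : Subgroup (alternatingGroup (Fin n)))
      · exact Or.inr hc
      · exact Or.inl (even_automizer hn hp P hP (two_mul_le_of_not_cyclic hn hp P hc))
  · rintro ⟨rfl, rfl⟩
    exact five_two P

end Cfsg.Agent.S2269
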