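import Cfsg.Statements.S2270

set_option autoImplicit false
open Cfsg

namespace Cfsg.Agent.S2270

/-- Let n ≥ 3, p an odd prime, and P an abelian Sylow p-subgroup of the symmetric group S_n (with p dividing n!, so that P ≠ 1). Then N(P)/C(P) has even order. -/
theorem result (n : ℕ) (hn : 3 ≤ n) {p : ℕ} [Fact p.Prime] (hp : p ≠ 2) (hpn : p ≤ n)
    (P : Sylow p (Equiv.Perm (Fin n))) (hP : IsMulCommutative (P : Subgroup (Equiv.Perm (Fin n)))) :
    2 ∣ ((Subgroup.centralizer ((P : Subgroup (Equiv.Perm (Fin n))) : Set (Equiv.Perm (Fin n)))).subgroupOf (Subgroup.normalizer ((P : Subgroup (Equiv.Perm (Fin n))) : Set (Equiv.Perm (Fin n))))).index := by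
  classical
  set CP := Subgroup.centralizer ((P : Subgroup (Equiv.Perm (Fin n))) : Set (Equiv.Perm (Fin n)))
  set NP := Subgroup.normalizer ((P : Subgroup (Equiv.Perm (Fin n))) : Set (Equiv.Perm (Fin n)))
  have hp' := (inferInstance : Fact p.Prime).out
  have hdvd : p ∣ Nat.card (P : Subgroup (Equiv.Perm (Fin n))) := by
    apply P.dvd_card_of_dvd_card
    rw [Nat.card_perm, Nat.card_eq_fintype_card, Fintype.card_fin]
    exact Nat.dvd_factorial hp'.pos hpn
  obtain ⟨⟨x, hxP⟩, hx⟩ := exists_prime_orderOf_dvd_card' p hdvd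
  rw [Subgroup.orderOf_mk] at hx
  obtain ⟨a, ha⟩ := isConj_iff.1 ((Equiv.Perm.isConj_iff_cycleType_eq (σ := x) (τ := x⁻¹)).2
    (Equiv.Perm.cycleType_inv x).symm)
  -- both `P` and `a P a⁻¹` centralize `x⁻¹`
  set C := Subgroup.centralizer ({x⁻¹} : Set (Equiv.Perm (Fin n)))
  have hcomm : ∀ y ∈ (P : Subgroup (Equiv.Perm (Fin n))), y * x = x * y := fun y hy =>
    congrArg Subtype.val (hP.is_comm.comm ⟨y, hy⟩ ⟨x, hxP⟩)
  have hPC : (P : Subgroup (Equiv.Perm (Fin n))) ≤ C := fun y hy => by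
    rw [Subgroup.mem_centralizer_singleton_iff]
    exact (Commute.inv_right (hcomm y hy)).eq
  have haC : ((a • P : Sylow p (Equiv.Perm (Fin n))) : Subgroup (Equiv.Perm (Fin n))) ≤ C := by
    rintro _ ⟨y, hy, rfl⟩
    simp only [C, Subgroup.mem_centralizer_singleton_iff, MulDistribMulAction.toMonoidEnd_apply,
      MulDistribMulAction.toMonoidHom_apply, MulAut.smul_def, MulAut.conj_apply, ← ha]
    calc a * y * a⁻¹ * (a * x * a⁻¹) = a * (y * x) * a⁻¹ := by group
      _ = a * (x * y) * a⁻¹ := by rw [hcomm y hy]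
      _ = _ := by group
  obtain ⟨c, hc⟩ := MulAction.exists_smul_eq ↥C ((a • P).subtype haC) (P.subtype hPC)
  rw [Sylow.smul_subtype] at hc
  replace hc := Sylow.subtype_injective hc
  set g := (c : Equiv.Perm (Fin n)) * a with hg
  have hgN : g ∈ NP := Sylow.smul_eq_iff_mem_normalizer.1 (by rw [hg, mul_smul]; exact hc)
  have hgx : g * x * g⁻¹ = x⁻¹ := by
    have h := Subgroup.mem_centralizer_singleton_iff.1 c.2
    calc g * x * g⁻¹ = (c : Equiv.Perm (Fin n)) * (a * x * a⁻¹) * (c : Equiv.Perm (Fin n))⁻¹ := by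
          rw [hg]; group
      _ = (c : Equiv.Perm (Fin n)) * x⁻¹ * (c : Equiv.Perm (Fin n))⁻¹ := by rw [ha]
      _ = _ := by rw [h]; group
  haveI hCn : (CP.subgroupOf NP).Normal := Subgroup.normal_subgroupOf_centralizer_normalizer _
  rw [← even_iff_two_dvd, ← Nat.not_odd_iff_even]
  rintro ⟨j, hj⟩
  have hpow := Subgroup.pow_index_mem (CP.subgroupOf NP) ⟨g, hgN⟩
  rw [Subgroup.mem_subgroupOf] at hpow
  have h1 := Subgroup.mem_centralizer_iff.1 hpow x hxP
  have h2 : ∀ k : ℕ, g ^ (2 * k + 1) * x = x⁻¹ * g ^ (2 * k + 1) := by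
    intro k
    have hg1 : g * x = x⁻¹ * g := by rw [← hgx]; group
    have hg2 : g * x⁻¹ = x * g := by
      calc g * x⁻¹ = (g * x * g⁻¹)⁻¹ * g := by group
        _ = _ := by rw [hgx]; group
    induction k with
    | zero => simpa using hg1
    | succ k ih =>
      calc g ^ (2 * (k + 1) + 1) * x = g * g * (g ^ (2 * k + 1) * x) := by group
        _ = g * g * (x⁻¹ * g ^ (2 * k + 1)) := by rw [ih]
        _ = g * (g * x⁻¹) * g ^ (2 * k + 1) := by group
        _ = g * (x * g) * g ^ (2 * k + 1) := by rw [hg2]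
        _ = (g * x) * g * g ^ (2 * k + 1) := by group
        _ = (x⁻¹ * g) * g * g ^ (2 * k + 1) := by rw [hg1]
        _ = _ := by group
  rw [SubgroupClass.coe_pow, Subtype.coe_mk, hj] at h1
  rw [h2 j] at h1
  have h3 := mul_right_cancel h1
  have h4 : orderOf x ∣ 2 := orderOf_dvd_of_pow_eq_one (by
    rw [sq]; nth_rw 1 [h3]; exact inv_mul_cancel x)
  rw [hx, Nat.prime_dvd_prime_iff_eq hp' Nat.prime_two] at h4
  exact hp h4

end Cfsg.Agent.S2270
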