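import Cfsg.Statements.S2272
import Cfsg.Agent.Lib.Classical.ClassTheory.ClassProduct

set_option autoImplicit false
open Cfsg

namespace Cfsg.Agent.S2272

/-- Let F be a finite field and d ≥ 3, and let a, b be non-identity elements of PSL_d(F). Then the product of the conjugacy classes of a and b is not a single conjugacy class: there are conjugates a′ of a and b′ of b such that a′b′ is not conjugate to ab. -/
theorem result {F : Type*} [Field F] [Fintype F] (d : ℕ) (hd : 3 ≤ d)
    (a b : Matrix.ProjectiveSpecialLinearGroup (Fin d) F) (ha : a ≠ 1) (hb : b ≠ 1) :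
    ∃ g h : Matrix.ProjectiveSpecialLinearGroup (Fin d) F, ¬ IsConj (a * b) (g * a * g⁻¹ * (h * b * h⁻¹)) := by
  by_contra hne
  push Not at hne
  obtain ⟨A, rfl⟩ := QuotientGroup.mk_surjective a
  obtain ⟨B, rfl⟩ := QuotientGroup.mk_surjective b
  have hns : ∀ M : Matrix.SpecialLinearGroup (Fin d) F,
      (QuotientGroup.mk M : Matrix.ProjectiveSpecialLinearGroup (Fin d) F) ≠ 1 →
      ∀ c : F, M.1 ≠ c • (1 : Matrix (Fin d) (Fin d) F) := fun M hM c hc => by
    refine hM ((QuotientGroup.eq_one_iff M).2 (Matrix.SpecialLinearGroup.mem_center_iff.2 ⟨c, ?_, ?_⟩))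
    · have h := M.2
      rw [hc, Matrix.det_smul, Matrix.det_one, mul_one] at h
      exact h
    · rw [hc]; ext i j; simp [Matrix.scalar_apply, Matrix.diagonal, Matrix.one_apply]
  have key : ∀ t : F, ∃ z : F, z ≠ 0 ∧ t = z * (A.1 * B.1).trace := fun t => by
    obtain ⟨X, hX⟩ := CfsgLib.Classical.ClassTheory.ClassProduct.exists_trace_eq (B := B)
      (by rw [Fintype.card_fin]; exact hd) (hns A ha) (hns B hb) t
    obtain ⟨Y, hY⟩ := isConj_iff.1 (hne 1 (QuotientGroup.mk X))
    obtain ⟨Y, rfl⟩ := QuotientGroup.mk_surjective Y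
    simp only [one_mul, inv_one, mul_one, ← QuotientGroup.mk_mul, ← QuotientGroup.mk_inv] at hY
    obtain ⟨r, hr, hrc⟩ := Matrix.SpecialLinearGroup.mem_center_iff.1 (QuotientGroup.eq.1 hY)
    set C := Y * (A * B) * Y⁻¹
    have hr0 : r ≠ 0 := fun h0 => zero_ne_one (by
      rw [← hr, h0, zero_pow (by rw [Fintype.card_fin]; omega)])
    refine ⟨r, hr0, ?_⟩
    have e : A * (X * B * X⁻¹) = C * (C⁻¹ * (A * (X * B * X⁻¹))) := (mul_inv_cancel_left _ _).symm
    have e' := congrArg (fun M : Matrix.SpecialLinearGroup (Fin d) F => M.1.trace) e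
    change ((A * (X * B * X⁻¹)).1).trace = ((C * (C⁻¹ * (A * (X * B * X⁻¹)))).1).trace at e'
    rw [Matrix.SpecialLinearGroup.coe_mul C, ← hrc, Matrix.SpecialLinearGroup.coe_mul A, hX] at e'
    rw [e', show C.1 * Matrix.scalar (Fin d) r = r • C.1 by
      rw [Matrix.scalar_apply, ← Matrix.smul_eq_mul_diagonal], Matrix.trace_smul, smul_eq_mul]
    congr 1
    simp only [C, Matrix.SpecialLinearGroup.coe_mul]
    rw [Matrix.trace_mul_comm, ← Matrix.mul_assoc, ← Matrix.SpecialLinearGroup.coe_mul, inv_mul_cancel,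
      Matrix.SpecialLinearGroup.coe_one, Matrix.one_mul]
  obtain ⟨z, hz, h0⟩ := key 0
  obtain ⟨z', -, h1⟩ := key 1
  rw [(mul_eq_zero.1 h0.symm).resolve_left hz, mul_zero] at h1
  exact one_ne_zero h1

end Cfsg.Agent.S2272
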