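import Cfsg.Statements.S2276
import Cfsg.Agent.Lib.Perm.FreePair

set_option autoImplicit false
open Cfsg

namespace Cfsg.Agent.S2276

-- Let n ≥ 5, p ≥ 3 a prime, and u, w non-identity elements of p-power order in the alternating group A_n. Then there is g ∈ A_n such that u·(g w g⁻¹) does not have p-power order and ⟨u, g w g⁻¹⟩ is not solvable. -/
theorem result (n : ℕ) (hn : 5 ≤ n) (p : ℕ) (hp : p.Prime) (hp3 : 3 ≤ p) (u w : alternatingGroup (Fin n)) (hu : u ≠ 1) (hw : w ≠ 1)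
    (hu' : ∃ k : ℕ, orderOf u = p ^ k) (hw' : ∃ k : ℕ, orderOf w = p ^ k) :
    ∃ g : alternatingGroup (Fin n), (¬ ∃ k : ℕ, orderOf (u * (g * w * g⁻¹)) = p ^ k) ∧
      ¬ Group.IsSolvable ↥(Subgroup.closure ({u, g * w * g⁻¹} : Set (alternatingGroup (Fin n)))) := by
  obtain ⟨k, hk⟩ := hu'
  obtain ⟨l, hl⟩ := hw'
  obtain ⟨g, hg, h⟩ := CfsgLib.Perm.FreePair.exists_good (k := k) (l := l) hp hp3
    (by rwa [Fintype.card_fin]) (a := (u : Equiv.Perm (Fin n))) (b := (w : Equiv.Perm (Fin n)))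
    (by rw [← hk, ← Subgroup.orderOf_coe u, pow_orderOf_eq_one])
    (by rw [← hl, ← Subgroup.orderOf_coe w, pow_orderOf_eq_one])
    (fun e => hu (Subtype.ext e)) (fun e => hw (Subtype.ext e))
  set g' : alternatingGroup (Fin n) := ⟨g, hg⟩
  have h' : CfsgLib.Perm.FreePair.Good p ((alternatingGroup (Fin n)).subtype u)
      ((alternatingGroup (Fin n)).subtype (g' * w * g'⁻¹)) := by
    rw [map_mul, map_mul, map_inv, Subgroup.subtype_apply, Subgroup.subtype_apply, Subgroup.subtype_apply]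
    exact h
  exact ⟨g', (CfsgLib.Perm.FreePair.good_of_hom hp _ h').1,
    (CfsgLib.Perm.FreePair.good_of_hom hp _ h').2⟩

end Cfsg.Agent.S2276
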