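import Cfsg.Statements.S2278
import Cfsg.Agent.Lib.Perm.UnipotentPairsThreeMain
-- import your own Cfsg.Agent.* helpers here

set_option autoImplicit false
open Cfsg

namespace Cfsg.Agent.S2278

/-- Let F be a finite field. Then SL_3(F) is generated by two conjugate regular unipotent elements: there are u with u − 1 nilpotent and (u − 1)² ≠ 0, and g, such that u and g u g⁻¹ generate SL_3(F). -/
theorem result {F : Type*} [Field F] [Fintype F] :
    ∃ u g : Matrix.SpecialLinearGroup (Fin 3) F, IsNilpotent ((u : Matrix (Fin 3) (Fin 3) F) - 1) ∧ ((u : Matrix (Fin 3) (Fin 3) F) - 1) ^ (3 - 1) ≠ 0 ∧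
      Subgroup.closure ({u, g * u * g⁻¹} : Set (Matrix.SpecialLinearGroup (Fin 3) F)) = ⊤ := by
  obtain ⟨g, hg⟩ := CfsgLib.Perm.UnipotentPairsThree.exists_pair (F := F)
  have e : ((CfsgLib.Perm.UnipotentPairsThree.up : Matrix.SpecialLinearGroup (Fin 3) F) :
      Matrix (Fin 3) (Fin 3) F) - 1 = !![0, 1, 0; 0, 0, 1; 0, 0, 0] := by
    ext i j
    fin_cases i <;> fin_cases j <;> simp [CfsgLib.Perm.UnipotentPairsThree.up]
  refine ⟨_, g, ⟨3, ?_⟩, ?_, hg⟩
  · rw [e, pow_succ, pow_two]
    ext i j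
    fin_cases i <;> fin_cases j <;> simp [Matrix.mul_apply, Fin.sum_univ_three]
  · intro h
    rw [e, show (3 - 1 : ℕ) = 2 from rfl, pow_two] at h
    have := congrFun (congrFun h 0) 2
    simp [Matrix.mul_apply, Fin.sum_univ_three] at this

end Cfsg.Agent.S2278
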