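import Cfsg.Statements.S2280
import Cfsg.Agent.Lib.Classical.SLGroup

set_option autoImplicit false
open Cfsg

namespace Cfsg.Agent.S2280

open Matrix

variable {F : Type*} [Field F] {n : ℕ}

/-- basis vector with a natural index -/
def ev (F : Type*) [Field F] (n k : ℕ) : Fin n → F := fun i => if i.val = k then 1 else 0

lemma mulVec_ev (M : Matrix (Fin n) (Fin n) F) {k : ℕ} (hk : k < n) :
    M *ᵥ ev F n k = fun i => M i ⟨k, hk⟩ := by
  funext i
  rw [Matrix.mulVec, dotProduct, Finset.sum_eq_single ⟨k, hk⟩]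
  · simp [ev]
  · intro j _ hj
    have : j.val ≠ k := fun h => hj (Fin.ext h)
    simp [ev, this]
  · simp

lemma ev_vecMul (M : Matrix (Fin n) (Fin n) F) {k : ℕ} (hk : k < n) :
    ev F n k ᵥ* M = fun j => M ⟨k, hk⟩ j := by
  funext i
  rw [Matrix.vecMul, dotProduct, Finset.sum_eq_single ⟨k, hk⟩]
  · simp [ev]
  · intro j _ hj
    have : j.val ≠ k := fun h => hj (Fin.ext h)
    simp [ev, this]
  · simp

lemma dot_ev (v : Fin n → F) {k : ℕ} (hk : k < n) : v ⬝ᵥ ev F n k = v ⟨k, hk⟩ := by
  rw [dotProduct, Finset.sum_eq_single ⟨k, hk⟩]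
  · simp [ev]
  · intro j _ hj
    have : j.val ≠ k := fun h => hj (Fin.ext h)
    simp [ev, this]
  · simp

lemma ev_dot (v : Fin n → F) {k : ℕ} (hk : k < n) : ev F n k ⬝ᵥ v = v ⟨k, hk⟩ := by
  rw [dotProduct_comm, dot_ev v hk]

lemma ev_dot_ev {j k : ℕ} (h : j ≠ k) : ev F n j ⬝ᵥ ev F n k = 0 := by
  refine Finset.sum_eq_zero fun i _ => ?_
  simp only [ev]
  split_ifs <;> simp_all

section Carrier

variable (H : Subgroup (Matrix.SpecialLinearGroup (Fin n) F))

/-- matrices of elements of a subgroup -/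
def InH (M : Matrix (Fin n) (Fin n) F) : Prop := ∃ g ∈ H, (g : Matrix (Fin n) (Fin n) F) = M

/-- one element of a transvection group -/
def One1 (t : F) (a φ : Fin n → F) : Prop := InH H (1 + t • Matrix.vecMulVec a φ)

/-- a whole transvection group -/
def Full (a φ : Fin n → F) : Prop := φ ⬝ᵥ a = 0 ∧ ∀ t : F, One1 H t a φ

variable {H}

lemma InH.mul {M N : Matrix (Fin n) (Fin n) F} (h1 : InH H M) (h2 : InH H N) : InH H (M * N) := by
  obtain ⟨g, hg, rfl⟩ := h1
  obtain ⟨k, hk, rfl⟩ := h2
  exact ⟨g * k, mul_mem hg hk, rfl⟩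

lemma InH.inv {M N : Matrix (Fin n) (Fin n) F} (h1 : InH H M) (h : N * M = 1) : InH H N := by
  obtain ⟨g, hg, rfl⟩ := h1
  refine ⟨g⁻¹, inv_mem hg, ?_⟩
  have h2 : (g : Matrix (Fin n) (Fin n) F) *
      ((g⁻¹ : Matrix.SpecialLinearGroup (Fin n) F) : Matrix (Fin n) (Fin n) F) = 1 := by
    rw [← Matrix.SpecialLinearGroup.coe_mul, mul_inv_cancel, Matrix.SpecialLinearGroup.coe_one]
  exact (left_inv_eq_right_inv h h2).symm

lemma InH.conj {M g g' : Matrix (Fin n) (Fin n) F} (hM : InH H M) (hg : InH H g)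
    (h : g' * g = 1) : InH H (g * M * g') :=
  (hg.mul hM).mul (hg.inv h)

lemma vmv_mul (a φ b ψ : Fin n → F) :
    Matrix.vecMulVec a φ * Matrix.vecMulVec b ψ = (φ ⬝ᵥ b) • Matrix.vecMulVec a ψ := by
  rw [Matrix.vecMulVec_mul_vecMulVec, Matrix.vecMulVec_smul]

lemma conj_eq {g g' : Matrix (Fin n) (Fin n) F} (h : g * g' = 1) (t : F) (a φ : Fin n → F) :
    g * (1 + t • Matrix.vecMulVec a φ) * g' =
      1 + t • Matrix.vecMulVec (g *ᵥ a) (φ ᵥ* g') := by
  simp [Matrix.mul_add, Matrix.add_mul, h, Matrix.mul_vecMulVec, Matrix.vecMulVec_mul,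
    Matrix.mul_smul, Matrix.smul_mul]

lemma One1.conj {t : F} {a φ : Fin n → F} {g g' : Matrix (Fin n) (Fin n) F}
    (hM : One1 H t a φ) (hg : InH H g) (h : g' * g = 1) :
    One1 H t (g *ᵥ a) (φ ᵥ* g') := by
  have := InH.conj hM hg h
  rwa [conj_eq (mul_eq_one_comm.1 h)] at this

lemma Full.conj {a φ : Fin n → F} {g g' : Matrix (Fin n) (Fin n) F}
    (hM : Full H a φ) (hg : InH H g) (h : g' * g = 1) :
    Full H (g *ᵥ a) (φ ᵥ* g') := by
  refine ⟨?_, fun t => (hM.2 t).conj hg h⟩
  rw [← Matrix.dotProduct_mulVec, Matrix.mulVec_mulVec, h, Matrix.one_mulVec, hM.1]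

lemma One1.add {s t : F} {a φ : Fin n → F} (ha : φ ⬝ᵥ a = 0) (h1 : One1 H s a φ)
    (h2 : One1 H t a φ) : One1 H (s + t) a φ := by
  have := InH.mul h1 h2
  unfold One1
  convert this using 1
  simp [Matrix.mul_add, Matrix.add_mul, vmv_mul, ha, Matrix.mul_smul, Matrix.smul_mul, add_smul]
  abel

lemma One1.neg {t : F} {a φ : Fin n → F} (ha : φ ⬝ᵥ a = 0) (h1 : One1 H t a φ) :
    One1 H (-t) a φ := by
  refine InH.inv h1 ?_
  simp [Matrix.mul_add, Matrix.add_mul, vmv_mul, ha, Matrix.mul_smul, Matrix.smul_mul]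

lemma One1.comm {s t : F} {a φ b ψ : Fin n → F} (ha : φ ⬝ᵥ a = 0) (hb : ψ ⬝ᵥ b = 0)
    (hφb : φ ⬝ᵥ b = 0) (h1 : One1 H s a φ) (h2 : One1 H t b ψ) :
    One1 H (-(ψ ⬝ᵥ a) * s * t) b φ := by
  have := InH.mul (InH.mul (InH.mul h1 h2) (One1.neg ha h1)) (One1.neg hb h2)
  unfold One1
  convert this using 1
  simp [Matrix.mul_add, Matrix.add_mul, vmv_mul, ha, hb, hφb, Matrix.mul_smul, Matrix.smul_mul,
    smul_smul]
  module

lemma Full.comm {a φ b ψ : Fin n → F} (hφb : φ ⬝ᵥ b = 0) (hψa : ψ ⬝ᵥ a ≠ 0)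
    (h1 : Full H a φ) (h2 : Full H b ψ) : Full H b φ := by
  refine ⟨hφb, fun t => ?_⟩
  have := One1.comm h1.1 h2.1 hφb (h1.2 (-(t / (ψ ⬝ᵥ a)))) (h2.2 1)
  convert this using 1
  field_simp

lemma Full.smul {a φ : Fin n → F} (r : F) (h : Full H a φ) : Full H (r • a) φ := by
  refine ⟨by rw [dotProduct_smul, h.1, smul_zero], fun t => ?_⟩
  have := h.2 (t * r)
  unfold One1 at this ⊢
  rwa [Matrix.smul_vecMulVec, smul_smul]

lemma Full.smul' {a φ : Fin n → F} (r : F) (h : Full H a φ) : Full H a (r • φ) := by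
  refine ⟨by rw [smul_dotProduct, h.1, smul_zero], fun t => ?_⟩
  have := h.2 (t * r)
  unfold One1 at this ⊢
  rwa [Matrix.vecMulVec_smul, smul_smul]

lemma Full.add {a b φ : Fin n → F} (h : Full H a φ) (h' : Full H b φ) : Full H (a + b) φ := by
  refine ⟨by rw [dotProduct_add, h.1, h'.1, add_zero], fun t => ?_⟩
  have := InH.mul (h.2 t) (h'.2 t)
  unfold One1
  convert this using 1
  simp [Matrix.mul_add, Matrix.add_mul, vmv_mul, h'.1, Matrix.mul_smul, Matrix.smul_mul,
    Matrix.add_vecMulVec]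
  abel

lemma Full.add' {a φ ψ : Fin n → F} (h : Full H a φ) (h' : Full H a ψ) : Full H a (φ + ψ) := by
  refine ⟨by rw [add_dotProduct, h.1, h'.1, add_zero], fun t => ?_⟩
  have := InH.mul (h.2 t) (h'.2 t)
  unfold One1
  convert this using 1
  simp [Matrix.mul_add, Matrix.add_mul, vmv_mul, h.1, Matrix.mul_smul, Matrix.smul_mul,
    Matrix.vecMulVec_add]
  abel

lemma One1.split {t : F} {a b φ : Fin n → F} (hb : φ ⬝ᵥ b = 0)
    (h : One1 H t (a + b) φ) (h' : One1 H t b φ) : One1 H t a φ := by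
  have := InH.mul h (One1.neg hb h')
  unfold One1
  convert this using 1
  simp [Matrix.mul_add, Matrix.add_mul, vmv_mul, hb, Matrix.mul_smul, Matrix.smul_mul,
    Matrix.add_vecMulVec]
  abel

end Carrier

/-- upper regular unipotent matrix -/
def upperU (n : ℕ) (F : Type*) [Field F] : Matrix (Fin n) (Fin n) F :=
  Matrix.of fun i j => if i = j then 1 else if i.val + 1 = j.val then 1 else 0

/-- lower regular unipotent matrix -/
def lowerU (n : ℕ) (d : ℕ → F) : Matrix (Fin n) (Fin n) F :=
  Matrix.of fun i j => if i = j then 1 else if j.val + 1 = i.val then d j.val else 0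

lemma upperU_det : (upperU n F).det = 1 := by
  rw [Matrix.det_of_isUpperTriangular]
  · exact Finset.prod_eq_one fun i _ => by simp [upperU]
  · intro i j hij
    simp only [id] at hij
    simp only [upperU, Matrix.of_apply]
    rw [if_neg (by intro h; rw [h] at hij; exact lt_irrefl _ hij),
      if_neg (by have := Fin.lt_def.1 hij; omega)]

lemma lowerU_det (d : ℕ → F) : (lowerU n d).det = 1 := by
  rw [Matrix.det_of_isLowerTriangular]
  · exact Finset.prod_eq_one fun i _ => by simp [lowerU]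
  · intro i j hij
    have h : i < j := by simpa using hij
    simp only [lowerU, Matrix.of_apply]
    rw [if_neg (ne_of_lt h), if_neg (by have := Fin.lt_def.1 h; omega)]

/-- the corner coefficient -/
def corner (hn : 3 ≤ n) (d : ℕ → F) : F :=
  (ev F n (n - 1) ᵥ* (lowerU n d).adjugate) ⟨0, by omega⟩

lemma corner_ne (hn : 3 ≤ n) (d : ℕ → F) (hd : ∀ k, d k ≠ 0) : corner hn d ≠ 0 := by
  set f := ev F n (n - 1) ᵥ* (lowerU n d).adjugate with hf
  have hfB : f ᵥ* lowerU n d = ev F n (n - 1) := by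
    rw [hf, Matrix.vecMul_vecMul, Matrix.adjugate_mul, lowerU_det, one_smul, Matrix.vecMul_one]
  have key : ∀ (j : ℕ) (hj : j + 1 < n),
      f ⟨j, by omega⟩ + f ⟨j + 1, hj⟩ * d j = 0 := by
    intro j hj
    have h := congrFun hfB ⟨j, by omega⟩
    rw [Matrix.vecMul, dotProduct, Finset.sum_eq_add (⟨j, by omega⟩ : Fin n) ⟨j + 1, hj⟩] at h
    · simpa [lowerU, ev, show j ≠ n - 1 by omega] using h
    · intro e; simp at e
    · intro i _ hi
      simp only [lowerU, Matrix.of_apply]
      rw [if_neg hi.1, if_neg (fun e => hi.2 (Fin.ext (by simp only at e ⊢; omega)))]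
      simp
    · simp
    · simp
  intro h0
  change f ⟨0, _⟩ = 0 at h0
  have hall : ∀ (j : ℕ) (hj : j < n), f ⟨j, hj⟩ = 0 := by
    intro j
    induction j with
    | zero => intro _; exact h0
    | succ j ih =>
      intro hj
      have := key j hj
      rw [ih (by omega), zero_add] at this
      exact (mul_eq_zero.1 this).resolve_right (hd j)
  have : f = 0 := funext fun i => hall i.val i.isLt
  rw [this, Matrix.zero_vecMul] at hfB
  have := congrFun hfB ⟨n - 1, by omega⟩
  simp [ev] at this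

theorem eq_top [Finite F] (hn : 3 ≤ n) (d : ℕ → F) (hd : ∀ k, d k ≠ 0) (c : F)
    (hc : c ≠ 0) (hgen : ∀ t : F, t ≠ 0 → ∃ k : ℕ, t = c * (-(d 0 * corner hn d) * c) ^ k)
    (H : Subgroup (Matrix.SpecialLinearGroup (Fin n) F))
    (hA : InH H (upperU n F)) (hB : InH H (lowerU n d))
    (hc1 : One1 H c (ev F n 0) (ev F n (n - 1))) : H = ⊤ := by
  have n0 : 0 < n := by omega
  have n1 : n - 1 < n := by omega
  set A := upperU n F with hAdef
  set B := lowerU n d with hBdef
  set A' := A.adjugate with hA'def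
  set B' := B.adjugate with hB'def
  have hAA : A' * A = 1 := by rw [Matrix.adjugate_mul, upperU_det, one_smul]
  have hBB : B' * B = 1 := by rw [Matrix.adjugate_mul, lowerU_det, one_smul]
  have hBB' : B * B' = 1 := mul_eq_one_comm.1 hBB
  have hB' : InH H B' := hB.inv hBB
  set e := ev F n with he
  set f := e (n - 1) ᵥ* B' with hf
  have hf0 : f ⟨0, n0⟩ ≠ 0 := corner_ne hn d hd
  have Bcol : ∀ k, k + 1 < n → B *ᵥ e k = e k + d k • e (k + 1) := by
    intro k hk
    rw [he, mulVec_ev B (show k < n by omega)]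
    funext i
    simp only [hBdef, lowerU, Matrix.of_apply, Pi.add_apply, Pi.smul_apply, ev, smul_eq_mul,
      Fin.ext_iff]
    by_cases h : i.val = k
    · simp [h]
    · by_cases h' : i.val = k + 1
      · simp [h']
      · simp [h, h', Ne.symm h']
  have Brow : ∀ k, 1 ≤ k → k < n → e k ᵥ* B = e k + d (k - 1) • e (k - 1) := by
    intro k h1 hk
    rw [he, ev_vecMul B hk]
    funext i
    simp only [hBdef, lowerU, Matrix.of_apply, Pi.add_apply, Pi.smul_apply, ev, smul_eq_mul,
      Fin.ext_iff]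
    by_cases h : k = i.val
    · simp [h]; omega
    · by_cases h' : i.val + 1 = k
      · have : i.val = k - 1 := by omega
        rw [if_neg h, if_pos h', if_neg (Ne.symm h), if_pos this, this]
        ring
      · have : ¬ i.val = k - 1 := by omega
        simp [h, h', this, Ne.symm h]
  have Brow0 : e 0 ᵥ* B' = e 0 := by
    have : e 0 ᵥ* B = e 0 := by
      rw [he, ev_vecMul B n0]
      funext i
      simp only [hBdef, lowerU, Matrix.of_apply, ev, Fin.ext_iff]
      by_cases h : i.val = 0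
      · simp [h]
      · simp [h, Ne.symm h]
    conv_lhs => rw [← this]
    rw [Matrix.vecMul_vecMul, hBB', Matrix.vecMul_one]
  have Aone : A *ᵥ e 0 = e 0 ∧ A *ᵥ e 1 = e 1 + e 0 ∧ e (n - 1) ᵥ* A' = e (n - 1) := by
    refine ⟨?_, ?_, ?_⟩
    · rw [he, mulVec_ev A n0]
      funext i
      simp only [hAdef, upperU, Matrix.of_apply, ev, Fin.ext_iff]
      by_cases h : i.val = 0 <;> simp [h]
    · rw [he, mulVec_ev A (show 1 < n by omega)]
      funext i
      simp only [hAdef, upperU, Matrix.of_apply, Pi.add_apply, ev, Fin.ext_iff]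
      by_cases h : i.val = 1
      · simp [h]
      · by_cases h' : i.val = 0 <;> simp [h, h']
    · have : e (n - 1) ᵥ* A = e (n - 1) := by
        rw [he, ev_vecMul A n1]
        funext i
        simp only [hAdef, upperU, Matrix.of_apply, ev, Fin.ext_iff]
        by_cases h : i.val = n - 1
        · simp [h]
        · have : ¬ n - 1 + 1 = i.val := by omega
          simp [h, Ne.symm h, this]
      conv_lhs => rw [← this]
      rw [Matrix.vecMul_vecMul, mul_eq_one_comm.1 hAA, Matrix.vecMul_one]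
  obtain ⟨A0, A1, An⟩ := Aone
  have ne_dot : ∀ {j k : ℕ}, j ≠ k → e j ⬝ᵥ e k = 0 := fun h => ev_dot_ev h
  have b0dot : e (n - 1) ⬝ᵥ (B *ᵥ e 0) = 0 := by
    rw [Bcol 0 (by omega), dotProduct_add, dotProduct_smul, ne_dot (by omega), ne_dot (by omega)]
    simp
  have fb0 : f ⬝ᵥ (B *ᵥ e 0) = 0 := by
    rw [hf, ← Matrix.dotProduct_mulVec, Matrix.mulVec_mulVec, hBB, Matrix.one_mulVec]
    exact ne_dot (by omega)
  have fe0 : f ⬝ᵥ e 0 = f ⟨0, n0⟩ := dot_ev f n0
  -- scalars
  set γ := -(d 0 * f ⟨0, n0⟩) * c with hγ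
  have stepT : ∀ t, One1 H t (e 0) (e (n - 1)) → One1 H (γ * t) (e 0) (e (n - 1)) := by
    intro t ht
    have hY := hc1.conj hB hBB
    have h1 := One1.comm (ne_dot (show n - 1 ≠ 0 by omega)) fb0 b0dot ht hY
    have h2 := h1.conj hA hAA
    rw [fe0, An, Bcol 0 (by omega), Matrix.mulVec_add, Matrix.mulVec_smul, A0, A1] at h2
    rw [fe0, Bcol 0 (by omega)] at h1
    have h3 := One1.split (a := d 0 • e 0) (b := e 0 + d 0 • e 1) ?_
      (by convert h2 using 1; simp [smul_add]; abel) h1
    · unfold One1 at h3 ⊢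
      convert h3 using 2
      rw [Matrix.smul_vecMulVec, smul_smul]
      congr 1
      rw [hγ]; ring
    · rw [dotProduct_add, dotProduct_smul, ne_dot (by omega), ne_dot (by omega)]
      simp
  have hT : ∀ k : ℕ, One1 H (c * γ ^ k) (e 0) (e (n - 1)) := by
    intro k
    induction k with
    | zero => simpa using hc1
    | succ k ih =>
      have := stepT _ ih
      rwa [pow_succ, show c * (γ ^ k * γ) = γ * (c * γ ^ k) by ring]
  have h0n : Full H (e 0) (e (n - 1)) := by
    refine ⟨ne_dot (by omega), fun t => ?_⟩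
    by_cases ht : t = 0
    · subst ht
      exact ⟨1, one_mem _, by simp⟩
    · obtain ⟨k, hk⟩ := hgen t ht
      rw [hk]
      exact hT k
  -- the last column
  have hcol : ∀ k, k + 1 < n → Full H (e k) (e (n - 1)) := by
    intro k
    induction k with
    | zero => intro _; exact h0n
    | succ k ih =>
      intro hk
      have hk' := ih (by omega)
      have hY := hk'.conj hB hBB
      have hdot : e (n - 1) ⬝ᵥ (B *ᵥ e k) = 0 := by
        rw [Bcol k (by omega), dotProduct_add, dotProduct_smul, ne_dot (by omega),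
          ne_dot (by omega)]
        simp
      have := Full.comm hdot (by rw [fe0]; exact hf0) h0n hY
      rw [Bcol k (by omega)] at this
      have h2 := (this.add (hk'.smul (-1))).smul (d k)⁻¹
      convert h2 using 1
      simp [smul_smul, hd k]
  -- the first row
  have hrow : ∀ m j, j + m = n - 1 → 1 ≤ j → Full H (e 0) (e j) := by
    intro m
    induction m with
    | zero => intro j hj _; rw [show j = n - 1 by omega]; exact h0n
    | succ m ih =>
      intro j hj h1
      have hj' := ih (j + 1) (by omega) (by omega)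
      have hX := hj'.conj hB' hBB'
      rw [Brow (j + 1) (by omega) (by omega), Nat.add_sub_cancel] at hX
      have hdot : (e (j + 1) + d j • e j) ⬝ᵥ e 0 = 0 := by
        rw [add_dotProduct, smul_dotProduct, ne_dot (by omega), ne_dot (by omega)]
        simp
      have hne : e (n - 1) ⬝ᵥ (B' *ᵥ e 0) ≠ 0 := by
        rw [Matrix.dotProduct_mulVec, ← hf, fe0]; exact hf0
      have := Full.comm hdot hne hX h0n
      have h2 := (this.add' (hj'.smul' (-1))).smul' (d j)⁻¹
      convert h2 using 1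
      simp [smul_smul, hd j]
  have hrow' : ∀ j, 1 ≤ j → j < n → Full H (e 0) (e j) :=
    fun j h1 h2 => hrow (n - 1 - j) j (by omega) h1
  -- the two-dimensional block
  set b := B *ᵥ e 0 with hb
  have hbf : Full H b f := h0n.conj hB hBB
  have hbj : ∀ j, 2 ≤ j → j < n → Full H b (e j) := by
    intro j h2 hj
    have hdot : e j ⬝ᵥ b = 0 := by
      rw [hb, Bcol 0 (by omega), dotProduct_add, dotProduct_smul, ne_dot (by omega),
        ne_dot (by omega)]
      simp
    exact Full.comm hdot (by rw [fe0]; exact hf0) (hrow' j (by omega) hj) hbf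
  have hsum : Full H b (f + ∑ i ∈ Finset.univ.filter (fun i : Fin n => 2 ≤ i.val),
      (-(f i)) • e i.val) := by
    refine hbf.add' (Finset.sum_induction _ (Full H b) (fun _ _ => Full.add') ?_ ?_)
    · exact ⟨zero_dotProduct b, fun t => ⟨1, one_mem _, by simp⟩⟩
    · intro i hi
      exact (hbj i.val (Finset.mem_filter.1 hi).2 i.isLt).smul' _
  have hf1 : f ⟨0, n0⟩ + d 0 * f ⟨1, by omega⟩ = 0 := by
    have := fb0
    rw [hb, Bcol 0 (by omega), dotProduct_add, dotProduct_smul, dot_ev f n0,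
      dot_ev f (show 0 + 1 < n by omega)] at this
    exact this
  have hsum' : f + ∑ i ∈ Finset.univ.filter (fun i : Fin n => 2 ≤ i.val), (-(f i)) • e i.val =
      f ⟨0, n0⟩ • e 0 + f ⟨1, by omega⟩ • e 1 := by
    funext j
    simp only [Pi.add_apply, Finset.sum_apply, Pi.smul_apply, smul_eq_mul, he, ev,
      Finset.sum_filter]
    rw [Finset.sum_eq_single j]
    · rcases Nat.lt_or_ge j.val 2 with h | h
      · rcases (show j.val = 0 ∨ j.val = 1 by omega) with h0 | h0
        · rw [show j = ⟨0, n0⟩ from Fin.ext h0]; simp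
        · rw [show j = ⟨1, by omega⟩ from Fin.ext h0]; simp
      · simp [show ¬ j.val = 0 by omega, show ¬ j.val = 1 by omega, h, ev]
    · intro i _ hij
      have : ¬ j.val = i.val := fun e => hij (Fin.ext e).symm
      split_ifs <;> simp [ev, this]
    · simp
  rw [hsum'] at hsum
  set P := 1 + (-(d 0)⁻¹) • Matrix.vecMulVec (e 0) (e 1) with hP
  have hP' : (1 + (d 0)⁻¹ • Matrix.vecMulVec (e 0) (e 1)) * P = 1 := by
    simp [hP, Matrix.mul_add, Matrix.add_mul, vmv_mul, ne_dot (show 1 ≠ 0 by omega),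
      Matrix.mul_smul, Matrix.smul_mul]
  have hsum2 := hsum.conj ((hrow' 1 le_rfl (by omega)).2 _) hP'
  have e0e0 : e 0 ⬝ᵥ e 0 = 1 := by rw [he, dot_ev _ n0]; simp [ev]
  have e1e1 : e 1 ⬝ᵥ e 1 = 1 := by rw [he, dot_ev _ (show 1 < n by omega)]; simp [ev]
  have h10 : Full H (e 1) (e 0) := by
    have hv : (1 + (-(d 0)⁻¹) • Matrix.vecMulVec (e 0) (e 1)) *ᵥ b = d 0 • e 1 := by
      rw [hb, Bcol 0 (by omega), Matrix.add_mulVec, Matrix.one_mulVec, Matrix.smul_mulVec,
        Matrix.vecMulVec_mulVec, dotProduct_add, dotProduct_smul,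
        ne_dot (show (1 : ℕ) ≠ 0 by omega), e1e1]
      simp [smul_smul, hd 0]
    have hw : (f ⟨0, n0⟩ • e 0 + f ⟨1, by omega⟩ • e 1) ᵥ*
        (1 + (d 0)⁻¹ • Matrix.vecMulVec (e 0) (e 1)) = f ⟨0, n0⟩ • e 0 := by
      simp [Matrix.vecMul_add, Matrix.vecMul_smul, Matrix.vecMul_vecMulVec, add_dotProduct,
        smul_dotProduct, e0e0, ne_dot (show 1 ≠ 0 by omega), smul_smul, add_assoc, ← add_smul]
      left
      rw [eq_neg_of_add_eq_zero_left hf1]
      field_simp [hd 0]
      ring
    rw [hv, hw] at hsum2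
    have := (hsum2.smul (d 0)⁻¹).smul' (f ⟨0, n0⟩)⁻¹
    simpa [smul_smul, hd 0, hf0] using this
  -- the first column
  have hfirst : ∀ k, 1 ≤ k → k < n → Full H (e k) (e 0) := by
    intro k
    induction k with
    | zero => intro h; omega
    | succ k ih =>
      intro _ hk
      by_cases h0 : k = 0
      · subst h0; exact h10
      · have hk' := ih (by omega) (by omega)
        have hY := hk'.conj hB hBB
        rw [Bcol k (by omega), Brow0] at hY
        have h2 := (hY.add (hk'.smul (-1))).smul (d k)⁻¹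
        convert h2 using 1
        simp [smul_smul, hd k]
  have hall : ∀ i j : Fin n, i ≠ j → Full H (e i.val) (e j.val) := by
    intro i j hij
    have hij' : i.val ≠ j.val := fun e => hij (Fin.ext e)
    by_cases hi : i.val = 0
    · rw [hi]; exact hrow' j.val (by omega) j.isLt
    by_cases hj : j.val = 0
    · rw [hj]; exact hfirst i.val (by omega) i.isLt
    exact Full.comm (ne_dot (Ne.symm hij')) (by rw [e0e0]; exact one_ne_zero)
      (hrow' j.val (by omega) j.isLt) (hfirst i.val (by omega) i.isLt)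
  have : Nontrivial (Fin n) := Fin.nontrivial_iff_two_le.2 (by omega)
  refine CfsgLib.Classical.closure_transvection_eq_top H fun i j hij t => ?_
  obtain ⟨g, hg, hgeq⟩ := (hall i j hij).2 t
  convert hg using 1
  apply Subtype.ext
  rw [Matrix.SpecialLinearGroup.transvection_coe]
  refine Eq.trans ?_ hgeq.symm
  congr 1
  ext a b
  simp only [Matrix.single_apply, Matrix.smul_apply, Matrix.vecMulVec_apply, he, ev, smul_eq_mul]
  by_cases ha : a = i <;> by_cases hb : b = j
  · simp [ha, hb]
  · simp [ha, hb, Ne.symm hb, Fin.ext_iff.not.1 hb]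
  · simp [ha, hb, Ne.symm ha, Fin.ext_iff.not.1 ha]
  · simp [ha, hb, Ne.symm ha, Fin.ext_iff.not.1 ha]

lemma upperU_pow (k : ℕ) (i j : Fin n) :
    ((upperU n F - 1) ^ k) i j = if i.val + k = j.val then 1 else 0 := by
  induction k generalizing i j with
  | zero => simp [Matrix.one_apply, Fin.ext_iff]
  | succ k ih =>
    rw [pow_succ, Matrix.mul_apply]
    have hN : ∀ x y : Fin n, (upperU n F - 1) x y = if x.val + 1 = y.val then 1 else 0 := by
      intro x y
      by_cases h : x = y
      · subst h; simp [upperU]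
      · simp [upperU, h, Matrix.one_apply]
    simp only [ih, hN]
    split_ifs with h
    · rw [Finset.sum_eq_single (⟨i.val + k, by omega⟩ : Fin n)]
      · rw [if_pos rfl, if_pos (by simp only; omega), mul_one]
      · intro b _ hb
        rw [if_neg (fun e => hb (Fin.ext e.symm)), zero_mul]
      · simp
    · refine Finset.sum_eq_zero fun b _ => ?_
      split_ifs <;> simp_all <;> omega


/-- Let F be a finite field and n ≥ 3. Then SL_n(F) is generated by three conjugate regular unipotent elements: there are u with u − 1 nilpotent and (u − 1)^(n−1) ≠ 0, and g, h, such that u, g u g⁻¹ and h u h⁻¹ generate SL_n(F). -/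
theorem result {F : Type*} [Field F] [Fintype F] (n : ℕ) (hn : 3 ≤ n) :
    ∃ u g h : Matrix.SpecialLinearGroup (Fin n) F, (IsNilpotent ((u : Matrix (Fin n) (Fin n) F) - 1) ∧ ((u : Matrix (Fin n) (Fin n) F) - 1) ^ (n - 1) ≠ 0) ∧
      Subgroup.closure ({u, g * u * g⁻¹, h * u * h⁻¹} : Set (Matrix.SpecialLinearGroup (Fin n) F)) = ⊤ := by
  classical
  set P : Matrix (Fin n) (Fin n) F := (Fin.revPerm : Equiv.Perm (Fin n)).permMatrix F with hP
  set ε := P.det with hε
  have hε0 : ε ≠ 0 := by
    rw [hε, hP, Matrix.det_permutation]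
    rcases Int.units_eq_one_or (Equiv.Perm.sign (Fin.revPerm : Equiv.Perm (Fin n))) with h | h <;>
      simp [h]
  set s : Fin n → F := fun j => if j.val = 0 then ε⁻¹ else 1 with hs
  set d : ℕ → F := fun k => if k + 2 = n then ε⁻¹ else 1 with hd'
  have hd : ∀ k, d k ≠ 0 := by
    intro k
    simp only [hd']
    split_ifs <;> simp [hε0]
  obtain ⟨γ, hγ⟩ := IsCyclic.exists_generator (α := Fˣ)
  set c : F := (γ : F) / (-(d 0 * corner hn d)) with hc'
  have hden : -(d 0 * corner hn d) ≠ 0 := neg_ne_zero.2 (mul_ne_zero (hd 0) (corner_ne hn d hd))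
  have hc : c ≠ 0 := div_ne_zero γ.ne_zero hden
  have hcg : -(d 0 * corner hn d) * c = γ := mul_div_cancel₀ _ hden
  let u : Matrix.SpecialLinearGroup (Fin n) F := ⟨upperU n F, upperU_det⟩
  let v : Matrix.SpecialLinearGroup (Fin n) F := ⟨lowerU n d, lowerU_det d⟩
  have hdet : (P * Matrix.diagonal s).det = 1 := by
    rw [Matrix.det_mul, Matrix.det_diagonal, Finset.prod_eq_single (⟨0, by omega⟩ : Fin n)]
    · simp [hs, ← hε, hε0]
    · intro b _ hb
      have : b.val ≠ 0 := fun e => hb (Fin.ext e)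
      simp [hs, this]
    · simp
  let h : Matrix.SpecialLinearGroup (Fin n) F := ⟨P * Matrix.diagonal s, hdet⟩
  have hent : ∀ i j : Fin n, (P * Matrix.diagonal s) i j = if j = i.rev then s j else 0 := by
    intro i j
    rw [Matrix.mul_diagonal, hP, Equiv.Perm.permMatrix, PEquiv.toMatrix_toPEquiv_apply]
    by_cases hj : j = i.rev <;> simp [hj, eq_comm]
  have hconj : h * u * h⁻¹ = v := by
    rw [mul_inv_eq_iff_eq_mul]
    apply Subtype.ext
    show (P * Matrix.diagonal s) * upperU n F = lowerU n d * (P * Matrix.diagonal s)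
    ext i j
    rw [Matrix.mul_apply, Matrix.mul_apply, Finset.sum_eq_single i.rev, Finset.sum_eq_single j.rev]
    · rw [hent, hent, if_pos rfl, if_pos (Fin.rev_rev j).symm]
      simp only [upperU, lowerU, Matrix.of_apply, Fin.ext_iff, Fin.val_rev]
      by_cases h1 : j.val = n - (i.val + 1)
      · rw [if_pos h1.symm, if_pos (by omega), hs]
        simp [Fin.val_rev, h1]
      · by_cases h2 : n - (i.val + 1) + 1 = j.val
        · rw [if_neg (Ne.symm h1), if_pos h2, if_neg (by omega), if_pos (by omega), mul_one]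
          simp only [hs, hd', Fin.val_rev]
          rw [if_neg (show ¬ j.val = 0 by omega), mul_one]
          refine if_congr ?_ rfl rfl
          omega
        · rw [if_neg (Ne.symm h1), if_neg h2, if_neg (by omega), if_neg (by omega)]
          simp
    · intro b _ hb
      rw [hent, if_neg (fun e => hb (by rw [e, Fin.rev_rev]))]
      simp
    · simp
    · intro b _ hb
      rw [hent, if_neg hb]
      simp
    · simp
  let i1 : Fin n := ⟨1, by omega⟩
  let il : Fin n := ⟨n - 1, by omega⟩
  have h1l : i1 ≠ il := by intro e; have := Fin.ext_iff.1 e; simp [i1, il] at this; omega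
  let g : Matrix.SpecialLinearGroup (Fin n) F := Matrix.SpecialLinearGroup.transvection h1l (-c)
  refine ⟨u, g, h, ⟨⟨n, ?_⟩, ?_⟩, ?_⟩
  · ext i j
    show ((upperU n F - 1) ^ n) i j = 0
    rw [upperU_pow, if_neg (by omega)]
  · intro h0
    have := congrFun (congrFun h0 ⟨0, by omega⟩) ⟨n - 1, by omega⟩
    change ((upperU n F - 1) ^ (n - 1)) _ _ = 0 at this
    rw [upperU_pow, if_pos (by simp)] at this
    exact one_ne_zero this
  set H := Subgroup.closure
    ({u, g * u * g⁻¹, h * u * h⁻¹} : Set (Matrix.SpecialLinearGroup (Fin n) F)) with hH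
  have huH : u ∈ H := Subgroup.subset_closure (by simp)
  have hvH : v ∈ H := Subgroup.subset_closure (by simp [hconj])
  have hgH : g * u * g⁻¹ ∈ H := Subgroup.subset_closure (by simp)
  refine eq_top hn d hd c hc (fun t ht => ?_) H ⟨u, huH, rfl⟩ ⟨v, hvH, rfl⟩ ?_
  · have := (isOfFinOrder_of_finite γ).mem_powers_iff_mem_zpowers.2 (hγ (Units.mk0 (t / c) (div_ne_zero ht hc)))
    obtain ⟨k, hk⟩ := Submonoid.mem_powers_iff _ _ |>.1 this
    refine ⟨k, ?_⟩
    rw [hcg]
    have := congrArg (fun x : Fˣ => (x : F)) hk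
    simp only [Units.val_pow_eq_pow_val, Units.val_mk0] at this
    rw [this, mul_div_cancel₀ _ hc]
  · refine ⟨(g * u * g⁻¹) * u⁻¹, mul_mem hgH (inv_mem huH), ?_⟩
    rw [mul_assoc, mul_assoc]
    have key : (upperU n F) * Matrix.single i1 il c =
        (Matrix.single i1 il c + c • Matrix.vecMulVec (ev F n 0) (ev F n (n - 1))) * upperU n F := by
      have hrow : ev F n (n - 1) ᵥ* upperU n F = ev F n (n - 1) := by
        rw [ev_vecMul _ (show n - 1 < n by omega)]
        funext i
        simp only [upperU, Matrix.of_apply, ev, Fin.ext_iff]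
        by_cases h : i.val = n - 1
        · simp [h]
        · have : ¬ n - 1 + 1 = i.val := by omega
          simp [h, Ne.symm h, this]
      have hsingle : Matrix.single i1 il c = c • Matrix.vecMulVec (ev F n 1) (ev F n (n - 1)) := by
        ext a b
        simp only [Matrix.single_apply, Matrix.smul_apply, Matrix.vecMulVec_apply, ev, smul_eq_mul,
          i1, il, Fin.ext_iff]
        by_cases ha : a.val = 1 <;> by_cases hb : b.val = n - 1 <;>
          simp [ha, hb, Ne.symm, eq_comm]
      have hcol : upperU n F *ᵥ ev F n 1 = ev F n 1 + ev F n 0 := by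
        rw [mulVec_ev _ (show 1 < n by omega)]
        funext i
        simp only [upperU, Matrix.of_apply, Pi.add_apply, ev, Fin.ext_iff]
        by_cases h : i.val = 1
        · simp [h]
        · by_cases h' : i.val = 0 <;> simp [h, h']
      rw [hsingle]
      simp [Matrix.mul_smul, Matrix.smul_mul, Matrix.add_mul, Matrix.mul_vecMulVec,
        Matrix.vecMulVec_mul, hrow, hcol, Matrix.add_vecMulVec, smul_add]
    have e1 : g⁻¹ = Matrix.SpecialLinearGroup.transvection h1l c := by
      rw [Matrix.SpecialLinearGroup.transvection_inv, neg_neg]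
    rw [e1]
    show ((g * (u * (Matrix.SpecialLinearGroup.transvection h1l c * u⁻¹)) :
      Matrix.SpecialLinearGroup (Fin n) F) : Matrix (Fin n) (Fin n) F) = _
    simp only [Matrix.SpecialLinearGroup.coe_mul]
    rw [← Matrix.mul_assoc (u : Matrix (Fin n) (Fin n) F)]
    have hu' : (u : Matrix (Fin n) (Fin n) F) *
        ((u⁻¹ : Matrix.SpecialLinearGroup (Fin n) F) : Matrix (Fin n) (Fin n) F) = 1 := by
      rw [← Matrix.SpecialLinearGroup.coe_mul, mul_inv_cancel, Matrix.SpecialLinearGroup.coe_one]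
    rw [show (u : Matrix (Fin n) (Fin n) F) *
        (Matrix.SpecialLinearGroup.transvection h1l c : Matrix (Fin n) (Fin n) F) =
        (1 + (Matrix.single i1 il c + c • Matrix.vecMulVec (ev F n 0) (ev F n (n - 1)))) *
          (u : Matrix (Fin n) (Fin n) F) by
      rw [Matrix.SpecialLinearGroup.transvection_coe, Matrix.add_mul, Matrix.mul_add,
        Matrix.one_mul, Matrix.mul_one, key],
      Matrix.mul_assoc, hu', Matrix.mul_one, Matrix.SpecialLinearGroup.transvection_coe]
    have hz : ev F n (n - 1) ⬝ᵥ ev F n 0 = 0 := ev_dot_ev (by omega)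
    have hs1 : Matrix.single i1 il (-c) * Matrix.single i1 il c = 0 :=
      Matrix.single_mul_single_of_ne _ _ _ _ h1l.symm _
    have hs2 : Matrix.single i1 il (-c) * Matrix.vecMulVec (ev F n 0) (ev F n (n - 1)) = 0 := by
      rw [Matrix.mul_vecMulVec]
      have : Matrix.single i1 il (-c) *ᵥ ev F n 0 = 0 := by
        rw [mulVec_ev _ (show 0 < n by omega)]
        funext a
        simp [Matrix.single_apply, il, Fin.ext_iff]
        omega
      rw [this, Matrix.zero_vecMulVec]
    rw [Matrix.add_mul, Matrix.one_mul, Matrix.mul_add, Matrix.mul_one, Matrix.mul_add, hs1,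
      Matrix.mul_smul, hs2, smul_zero, add_zero, add_zero]
    rw [show Matrix.single i1 il (-c) = -Matrix.single i1 il c by
      ext a b; simp [Matrix.single_apply]; split <;> simp]
    abel

end Cfsg.Agent.S2280
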