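import Cfsg.Statements.S2287
import Cfsg.Agent.Lib.Known.SL3Bounded.Main

set_option autoImplicit false
open Cfsg

namespace Cfsg.Agent.S2287

/-- For every finite field F other than the field with 9 elements, SL_3(F) has a presentation with 4 generators and at most 14 relations. -/
theorem result {F : Type*} [Field F] [Fintype F] (hq9 : Fintype.card F ≠ 9) : ∃ rels : Finset (FreeGroup (Fin 4)), rels.card ≤ 14 ∧ Nonempty (PresentedGroup (↑rels : Set (FreeGroup (Fin 4))) ≃* Matrix.SpecialLinearGroup (Fin 3) F) := by
  obtain ⟨p, hp⟩ := CharP.exists F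
  haveI : Fact p.Prime := ⟨CharP.char_is_prime F p⟩
  letI := ZMod.algebra F p
  obtain ⟨L, h1, e1⟩ := CfsgLib.Known.SL3Bounded.presentation F p
  classical
  exact ⟨L.toFinset, (List.toFinset_card_le L).trans h1, by rw [List.coe_toFinset]; exact e1⟩

end Cfsg.Agent.S2287
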