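import Cfsg.Statements.S2292
import Cfsg.Agent.Lib.Known.SpBounded.All
import Cfsg.Agent.Lib.Classical.ClassTheory.SpTwoGenerated

set_option autoImplicit false
open Cfsg

namespace Cfsg.Agent.S2292

/-- Let F be a finite field with q elements and m ≥ 2 with (m, q) ≠ (2, 2). Then the simple group PSp_2m(F) has a presentation with 2 generators and at most 80 relations. -/
theorem result {F : Type*} [Field F] [Fintype F] (m : ℕ) (hm : 2 ≤ m) (h22 : ¬ (m = 2 ∧ Fintype.card F = 2)) :
    ∃ rels : Finset (FreeGroup (Fin 2)), rels.card ≤ 80 ∧ Nonempty (PresentedGroup (↑rels : Set (FreeGroup (Fin 2))) ≃* Cfsg.PSp m F) := by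
  obtain ⟨α, _, R, hR, ⟨e⟩⟩ := CfsgLib.Known.SpBounded.psp_few_rels (F := F) hm
  obtain ⟨a, b, hab⟩ := CfsgLib.Classical.ClassTheory.SpTwoGenerated.exists_pair_psp (F := F) m hm (fun h => by
    have h1 : 1 < Fintype.card F := Fintype.one_lt_card
    rcases Nat.lt_or_ge 2 (Fintype.card F) with h2 | h2
    · exact h2
    · exact absurd ⟨h, by omega⟩ h22)
  obtain ⟨R', hR', e', -⟩ := CfsgLib.Perm.AltBounded.Tietze.to_pair R e hab
  exact ⟨R', by omega, ⟨e'⟩⟩

end Cfsg.Agent.S2292
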