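import Cfsg.Statements.S2298
import Cfsg.Agent.Lib.Known.SL2Char.TableGL

set_option autoImplicit false
open Cfsg

namespace Cfsg.Agent.S2298

/-- Over a finite field F with q elements, every irreducible complex character of GL₂ has degree 1, q − 1, q or q + 1; and when q ≥ 3 (so that these four numbers are distinct) there are exactly q − 1 irreducible characters of degree 1, exactly q − 1 of degree q, exactly (q − 1)(q − 2)/2 of degree q + 1 and exactly q(q − 1)/2 of degree q − 1. -/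
theorem result {F : Type*} [Field F] [Fintype F] :
    (∀ χ : Matrix.GeneralLinearGroup (Fin 2) F → ℂ, Cfsg.IsIrrCharacter (Matrix.GeneralLinearGroup (Fin 2) F) χ →
      χ 1 = 1 ∨ χ 1 = (Fintype.card F : ℂ) - 1 ∨ χ 1 = (Fintype.card F : ℂ) ∨ χ 1 = (Fintype.card F : ℂ) + 1) ∧
    (3 ≤ Fintype.card F →
      Nat.card {χ : Cfsg.IrrCharacter (Matrix.GeneralLinearGroup (Fin 2) F) // (χ : Matrix.GeneralLinearGroup (Fin 2) F → ℂ) 1 = 1} = Fintype.card F - 1 ∧
      Nat.card {χ : Cfsg.IrrCharacter (Matrix.GeneralLinearGroup (Fin 2) F) // (χ : Matrix.GeneralLinearGroup (Fin 2) F → ℂ) 1 = (Fintype.card F : ℂ)} = Fintype.card F - 1 ∧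
      Nat.card {χ : Cfsg.IrrCharacter (Matrix.GeneralLinearGroup (Fin 2) F) // (χ : Matrix.GeneralLinearGroup (Fin 2) F → ℂ) 1 = (Fintype.card F : ℂ) + 1} = (Fintype.card F - 1) * (Fintype.card F - 2) / 2 ∧
      Nat.card {χ : Cfsg.IrrCharacter (Matrix.GeneralLinearGroup (Fin 2) F) // (χ : Matrix.GeneralLinearGroup (Fin 2) F → ℂ) 1 = (Fintype.card F : ℂ) - 1} = Fintype.card F * (Fintype.card F - 1) / 2) := by
  classical
  have := Fintype.ofFinite (Matrix.GeneralLinearGroup (Fin 2) F)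
  have := Fintype.ofFinite (CfsgLib.SL2Char.Orbits (⊤ : Subgroup Fˣ))
  obtain ⟨g₀, hg₀⟩ := CfsgLib.SL2Char.exists_elliptic (F := F)
  obtain ⟨ψ, hψ⟩ := CfsgLib.SL2Char.exists_addChar (F := F)
  obtain ⟨L, T, P, C, iL, iT, iP, iC, hall, lL, lT, lP, lC, cL, cT, cP, cC, ctot⟩ :=
    CfsgLib.SL2Char.tableGL hg₀ hψ
  have hq2 : 1 < Fintype.card F := Fintype.one_lt_card
  refine ⟨fun χ hχ => ?_, fun hq => ?_⟩
  · have h := (hall χ).1 hχ
    simp only [Finset.mem_union] at h
    rcases h with ((h | h) | h) | h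
    · exact Or.inl ((iL χ).1 h).2.1
    · exact Or.inr (Or.inr (Or.inl ((iT χ).1 h).2))
    · exact Or.inr (Or.inr (Or.inr ((iP χ).1 h).2))
    · exact Or.inr (Or.inl ((iC χ).1 h).2.1)
  have hm : (3 : ℝ) ≤ Fintype.card F := by exact_mod_cast hq
  have ne1 : (Fintype.card F : ℂ) - 1 ≠ 1 := fun e => by
    have := congrArg Complex.re e
    simp at this
    linarith
  have hu : ∀ f, Cfsg.IsIrrCharacter (Matrix.GeneralLinearGroup (Fin 2) F) f →
      (f 1 = 1 → f ∈ L) ∧ (f 1 = (Fintype.card F : ℂ) - 1 → f ∈ C) := fun f hf => by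
    have h := (hall f).1 hf
    simp only [Finset.mem_union] at h
    rcases h with ((h | h) | h) | h
    · exact ⟨fun _ => h, fun e => absurd (e.symm.trans ((iL f).1 h).2.1) ne1⟩
    · have e0 := ((iT f).1 h).2
      refine ⟨fun e => ?_, fun e => ?_⟩ <;>
      · rw [e] at e0
        have := congrArg Complex.re e0
        simp at this <;> linarith
    · have e0 := ((iP f).1 h).2
      refine ⟨fun e => ?_, fun e => ?_⟩ <;>
      · rw [e] at e0
        have := congrArg Complex.re e0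
        simp at this <;> linarith
    · exact ⟨fun e => absurd (((iC f).1 h).2.1.symm.trans e) ne1, fun _ => h⟩
  refine ⟨?_, ?_, ?_, ?_⟩
  · rw [CfsgLib.SL2Char.card_irr_subtype L (fun f => f 1 = 1) fun f =>
      ⟨fun h => ⟨((iL f).1 h).1, ((iL f).1 h).2.1⟩, fun h => (hu f h.1).1 h.2⟩, cL]
  · rw [CfsgLib.SL2Char.card_irr_subtype T (fun f => f 1 = (Fintype.card F : ℂ)) iT, cT]
  · rw [CfsgLib.SL2Char.card_irr_subtype P (fun f => f 1 = (Fintype.card F : ℂ) + 1) iP, ← cP,
      Nat.mul_div_cancel_left _ (show 0 < 2 by norm_num)]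
  · rw [CfsgLib.SL2Char.card_irr_subtype C (fun f => f 1 = (Fintype.card F : ℂ) - 1) fun f =>
      ⟨fun h => ⟨((iC f).1 h).1, ((iC f).1 h).2.1⟩, fun h => (hu f h.1).2 h.2⟩, ← cC,
      Nat.mul_div_cancel_left _ (show 0 < 2 by norm_num)]

end Cfsg.Agent.S2298
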