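import Cfsg.Statements.S2299
import Cfsg.Agent.Lib.Known.SL2Char.TableSLOdd
import Cfsg.Agent.Lib.Known.SL2Char.TableGL

set_option autoImplicit false
open Cfsg

namespace Cfsg.Agent.S2299

/-- Over a finite field F with q elements, q odd, every irreducible complex character of SL₂ has degree 1, q, q + 1, q − 1, (q + 1)/2 or (q − 1)/2; and when q ≥ 5 (so that these six numbers are distinct) there are exactly one irreducible character of degree 1, one of degree q, (q − 3)/2 of degree q + 1, (q − 1)/2 of degree q − 1, two of degree (q + 1)/2 and two of degree (q − 1)/2. -/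
theorem result {F : Type*} [Field F] [Fintype F] (hodd : Odd (Fintype.card F)) :
    (∀ χ : Matrix.SpecialLinearGroup (Fin 2) F → ℂ, Cfsg.IsIrrCharacter (Matrix.SpecialLinearGroup (Fin 2) F) χ →
      χ 1 = 1 ∨ χ 1 = (Fintype.card F : ℂ) ∨ χ 1 = (Fintype.card F : ℂ) + 1 ∨ χ 1 = (Fintype.card F : ℂ) - 1 ∨
        χ 1 = (((Fintype.card F + 1) / 2 : ℕ) : ℂ) ∨ χ 1 = (((Fintype.card F - 1) / 2 : ℕ) : ℂ)) ∧
    (5 ≤ Fintype.card F →
      Nat.card {χ : Cfsg.IrrCharacter (Matrix.SpecialLinearGroup (Fin 2) F) // (χ : Matrix.SpecialLinearGroup (Fin 2) F → ℂ) 1 = 1} = 1 ∧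
      Nat.card {χ : Cfsg.IrrCharacter (Matrix.SpecialLinearGroup (Fin 2) F) // (χ : Matrix.SpecialLinearGroup (Fin 2) F → ℂ) 1 = (Fintype.card F : ℂ)} = 1 ∧
      Nat.card {χ : Cfsg.IrrCharacter (Matrix.SpecialLinearGroup (Fin 2) F) // (χ : Matrix.SpecialLinearGroup (Fin 2) F → ℂ) 1 = (Fintype.card F : ℂ) + 1} = (Fintype.card F - 3) / 2 ∧
      Nat.card {χ : Cfsg.IrrCharacter (Matrix.SpecialLinearGroup (Fin 2) F) // (χ : Matrix.SpecialLinearGroup (Fin 2) F → ℂ) 1 = (Fintype.card F : ℂ) - 1} = (Fintype.card F - 1) / 2 ∧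
      Nat.card {χ : Cfsg.IrrCharacter (Matrix.SpecialLinearGroup (Fin 2) F) // (χ : Matrix.SpecialLinearGroup (Fin 2) F → ℂ) 1 = (((Fintype.card F + 1) / 2 : ℕ) : ℂ)} = 2 ∧
      Nat.card {χ : Cfsg.IrrCharacter (Matrix.SpecialLinearGroup (Fin 2) F) // (χ : Matrix.SpecialLinearGroup (Fin 2) F → ℂ) 1 = (((Fintype.card F - 1) / 2 : ℕ) : ℂ)} = 2) := by
  classical
  have := Fintype.ofFinite (Matrix.SpecialLinearGroup (Fin 2) F)
  have := Fintype.ofFinite (CfsgLib.SL2Char.Orbits (⊥ : Subgroup Fˣ))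
  obtain ⟨g₀, hg₀⟩ := CfsgLib.SL2Char.exists_elliptic (F := F)
  have := Fintype.ofFinite (Matrix.GeneralLinearGroup (Fin 2) F)
  obtain ⟨ψ, hψ⟩ := CfsgLib.SL2Char.exists_addChar (F := F)
  have hq2 : 1 < Fintype.card F := Fintype.one_lt_card
  obtain ⟨θ₀, a, b, c, d, P, C, hθ1, hθ0, hab, hcd, hA, hB, ha, hb, hc, hd, sab, scd, hsw, iP, iC, vP, vC,
    cP, cC, ctot, hall⟩ := CfsgLib.SL2Char.tableSLOdd hg₀ hψ hodd
  obtain ⟨m, hm⟩ := id hodd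
  have e6 : (Fintype.card F + 1) / 2 = m + 1 ∧ (Fintype.card F - 1) / 2 = m := ⟨by omega, by omega⟩
  have dA : ∀ {X σ} {f : Matrix.SpecialLinearGroup (Fin 2) F → ℂ},
      CfsgLib.SL2Char.Half ψ 1 σ X f → f 1 = ((m + 1 : ℕ) : ℂ) := fun h => by
    have e := h.deg
    rw [hm] at e
    push_cast at e ⊢
    linear_combination e / 2
  have dC : ∀ {X σ} {f : Matrix.SpecialLinearGroup (Fin 2) F → ℂ},
      CfsgLib.SL2Char.Half ψ (-1) σ X f → f 1 = ((m : ℕ) : ℂ) := fun h => by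
    have e := h.deg
    rw [hm] at e
    push_cast at e ⊢
    linear_combination e / 2
  have hQ : (Fintype.card F : ℂ) = ((2 * m + 1 : ℕ) : ℂ) := by rw [hm]
  have hQ1 : (Fintype.card F : ℂ) + 1 = ((2 * m + 2 : ℕ) : ℂ) := by rw [hQ]; push_cast; ring
  have hQ2 : (Fintype.card F : ℂ) - 1 = ((2 * m : ℕ) : ℂ) := by rw [hQ]; push_cast; ring
  have h1C : (1 : ℂ) = ((1 : ℕ) : ℂ) := Nat.cast_one.symm
  have hdeg : ∀ f, Cfsg.IsIrrCharacter (Matrix.SpecialLinearGroup (Fin 2) F) f →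
      (f = 1 ∧ f 1 = ((1 : ℕ) : ℂ)) ∨
      (f = CfsgLib.SL2Char.stSL ∧ f 1 = ((2 * m + 1 : ℕ) : ℂ)) ∨
      (f ∈ P ∧ f 1 = ((2 * m + 2 : ℕ) : ℂ)) ∨ (f ∈ C ∧ f 1 = ((2 * m : ℕ) : ℂ)) ∨
      ((f = a ∨ f = b) ∧ f 1 = ((m + 1 : ℕ) : ℂ)) ∨ ((f = c ∨ f = d) ∧ f 1 = ((m : ℕ) : ℂ)) := by
    intro f hf
    rcases (hall f).1 hf with rfl | rfl | h | h | rfl | rfl | rfl | rfl
    · exact Or.inl ⟨rfl, by simp⟩
    · exact Or.inr (Or.inl ⟨rfl, CfsgLib.SL2Char.stSL_one.trans hQ⟩)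
    · exact Or.inr (Or.inr (Or.inl ⟨h, (vP f h).2.trans hQ1⟩))
    · exact Or.inr (Or.inr (Or.inr (Or.inl ⟨h, (vC f h).2.trans hQ2⟩)))
    · exact Or.inr (Or.inr (Or.inr (Or.inr (Or.inl ⟨Or.inl rfl, dA ha⟩))))
    · exact Or.inr (Or.inr (Or.inr (Or.inr (Or.inl ⟨Or.inr rfl, dA hb⟩))))
    · exact Or.inr (Or.inr (Or.inr (Or.inr (Or.inr ⟨Or.inl rfl, dC hc⟩))))
    · exact Or.inr (Or.inr (Or.inr (Or.inr (Or.inr ⟨Or.inr rfl, dC hd⟩))))
  rw [e6.1, e6.2, hQ1, hQ2, hQ]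
  refine ⟨fun χ hχ => ?_, fun hq => ?_⟩
  · rcases hdeg χ hχ with ⟨-, e⟩ | ⟨-, e⟩ | ⟨-, e⟩ | ⟨-, e⟩ | ⟨-, e⟩ | ⟨-, e⟩ <;> rw [e]
    · simp
    all_goals simp
  have key : ∀ (f : Matrix.SpecialLinearGroup (Fin 2) F → ℂ) (n : ℕ),
      Cfsg.IsIrrCharacter (Matrix.SpecialLinearGroup (Fin 2) F) f → f 1 = (n : ℂ) →
      (n = 1 → f = 1) ∧ (n = 2 * m + 1 → f = CfsgLib.SL2Char.stSL) ∧ (n = 2 * m + 2 → f ∈ P) ∧
        (n = 2 * m → f ∈ C) ∧ (n = m + 1 → f = a ∨ f = b) ∧ (n = m → f = c ∨ f = d) := by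
    intro f n hf hn
    rcases hdeg f hf with ⟨h, e⟩ | ⟨h, e⟩ | ⟨h, e⟩ | ⟨h, e⟩ | ⟨h, e⟩ | ⟨h, e⟩ <;>
      (rw [hn, Nat.cast_inj] at e; subst e;
        refine ⟨fun e => ?_, fun e => ?_, fun e => ?_, fun e => ?_, fun e => ?_, fun e => ?_⟩ <;>
          first | exact h | omega)
  refine ⟨?_, ?_, ?_, ?_, ?_, ?_⟩
  · rw [CfsgLib.SL2Char.card_irr_subtype {1} (fun f => f 1 = 1) fun f => ?_, Finset.card_singleton]
    rw [Finset.mem_singleton]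
    constructor
    · rintro rfl
      exact ⟨CfsgLib.Char.isIrrCharacter_one, rfl⟩
    · rintro ⟨hf, e⟩
      exact (key f 1 hf (e.trans h1C)).1 rfl
  · rw [CfsgLib.SL2Char.card_irr_subtype {CfsgLib.SL2Char.stSL}
      (fun f => f 1 = ((2 * m + 1 : ℕ) : ℂ)) fun f => ?_, Finset.card_singleton]
    rw [Finset.mem_singleton]
    constructor
    · rintro rfl
      exact ⟨CfsgLib.SL2Char.isIrr_stSL, CfsgLib.SL2Char.stSL_one.trans hQ⟩
    · rintro ⟨hf, e⟩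
      exact (key f _ hf e).2.1 rfl
  · rw [CfsgLib.SL2Char.card_irr_subtype P (fun f => f 1 = ((2 * m + 2 : ℕ) : ℂ)) fun f =>
      ⟨fun h => ⟨(vP f h).1, (vP f h).2.trans hQ1⟩, fun h => (key f _ h.1 h.2).2.2.1 rfl⟩]
    omega
  · rw [CfsgLib.SL2Char.card_irr_subtype C (fun f => f 1 = ((2 * m : ℕ) : ℂ)) fun f =>
      ⟨fun h => ⟨(vC f h).1, (vC f h).2.trans hQ2⟩, fun h => (key f _ h.1 h.2).2.2.2.1 rfl⟩]
    omega
  · rw [CfsgLib.SL2Char.card_irr_subtype {a, b} (fun f => f 1 = ((m + 1 : ℕ) : ℂ)) fun f => ?_,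
      Finset.card_pair hab]
    simp only [Finset.mem_insert, Finset.mem_singleton]
    constructor
    · rintro (rfl | rfl)
      exacts [⟨ha.irr, dA ha⟩, ⟨hb.irr, dA hb⟩]
    · rintro ⟨hf, e⟩
      exact (key f _ hf e).2.2.2.2.1 rfl
  · rw [CfsgLib.SL2Char.card_irr_subtype {c, d} (fun f => f 1 = ((m : ℕ) : ℂ)) fun f => ?_,
      Finset.card_pair hcd]
    simp only [Finset.mem_insert, Finset.mem_singleton]
    constructor
    · rintro (rfl | rfl)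
      exacts [⟨hc.irr, dC hc⟩, ⟨hd.irr, dC hd⟩]
    · rintro ⟨hf, e⟩
      exact (key f _ hf e).2.2.2.2.2 rfl

end Cfsg.Agent.S2299
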