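import Cfsg.Statements.S2300
import Cfsg.Agent.Lib.Known.SL2Char.TableSLOdd
import Cfsg.Agent.Lib.Known.SL2Char.TableGL
import Cfsg.Agent.Lib.Known.SL2Char.TableSLEven

set_option autoImplicit false
open Cfsg

namespace Cfsg.Agent.S2300

/-- Over a finite field F with q elements, q even, every irreducible complex character of SL₂ has degree 1, q − 1, q or q + 1; and when q ≥ 4 (so that these four numbers are distinct) there are exactly one irreducible character of degree 1, one of degree q, (q − 2)/2 of degree q + 1 and q/2 of degree q − 1. -/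
theorem result {F : Type*} [Field F] [Fintype F] [CharP F 2] :
    (∀ χ : Matrix.SpecialLinearGroup (Fin 2) F → ℂ, Cfsg.IsIrrCharacter (Matrix.SpecialLinearGroup (Fin 2) F) χ →
      χ 1 = 1 ∨ χ 1 = (Fintype.card F : ℂ) - 1 ∨ χ 1 = (Fintype.card F : ℂ) ∨ χ 1 = (Fintype.card F : ℂ) + 1) ∧
    (4 ≤ Fintype.card F →
      Nat.card {χ : Cfsg.IrrCharacter (Matrix.SpecialLinearGroup (Fin 2) F) // (χ : Matrix.SpecialLinearGroup (Fin 2) F → ℂ) 1 = 1} = 1 ∧
      Nat.card {χ : Cfsg.IrrCharacter (Matrix.SpecialLinearGroup (Fin 2) F) // (χ : Matrix.SpecialLinearGroup (Fin 2) F → ℂ) 1 = (Fintype.card F : ℂ)} = 1 ∧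
      Nat.card {χ : Cfsg.IrrCharacter (Matrix.SpecialLinearGroup (Fin 2) F) // (χ : Matrix.SpecialLinearGroup (Fin 2) F → ℂ) 1 = (Fintype.card F : ℂ) + 1} = (Fintype.card F - 2) / 2 ∧
      Nat.card {χ : Cfsg.IrrCharacter (Matrix.SpecialLinearGroup (Fin 2) F) // (χ : Matrix.SpecialLinearGroup (Fin 2) F → ℂ) 1 = (Fintype.card F : ℂ) - 1} = Fintype.card F / 2) := by
  classical
  have := Fintype.ofFinite (Matrix.SpecialLinearGroup (Fin 2) F)
  have := Fintype.ofFinite (CfsgLib.SL2Char.Orbits (⊥ : Subgroup Fˣ))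
  obtain ⟨g₀, hg₀⟩ := CfsgLib.SL2Char.exists_elliptic (F := F)
  have := Fintype.ofFinite (Matrix.GeneralLinearGroup (Fin 2) F)
  obtain ⟨ψ, hψ⟩ := CfsgLib.SL2Char.exists_addChar (F := F)
  have hq2 : 1 < Fintype.card F := Fintype.one_lt_card
  have heven : Even (Fintype.card F) :=
    Nat.even_iff.2 (FiniteField.even_card_iff_char_two.1 (ringChar.eq F 2))
  obtain ⟨P, C, iP, iC, vP, vC, cP, cC, ctot, hall⟩ := CfsgLib.SL2Char.tableSLEven hg₀ hψ heven
  refine ⟨fun χ hχ => ?_, fun hq => ?_⟩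
  · rcases (hall χ).1 hχ with rfl | rfl | h | h
    · exact Or.inl rfl
    · exact Or.inr (Or.inr (Or.inl CfsgLib.SL2Char.stSL_one))
    · exact Or.inr (Or.inr (Or.inr (vP χ h).2))
    · exact Or.inr (Or.inl (vC χ h).2)
  have hm : (4 : ℝ) ≤ Fintype.card F := by exact_mod_cast hq
  have key : ∀ f, Cfsg.IsIrrCharacter (Matrix.SpecialLinearGroup (Fin 2) F) f →
      (f 1 = 1 → f = 1) ∧ (f 1 = (Fintype.card F : ℂ) → f = CfsgLib.SL2Char.stSL) ∧
      (f 1 = (Fintype.card F : ℂ) + 1 → f ∈ P) ∧ (f 1 = (Fintype.card F : ℂ) - 1 → f ∈ C) := by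
    intro f hf
    have hrw : ∀ {x y : ℂ}, f 1 = x → f 1 = y → x.re = y.re := fun h h' => by rw [← h, ← h']
    rcases (hall f).1 hf with rfl | rfl | h | h
    · refine ⟨fun _ => rfl, fun e => ?_, fun e => ?_, fun e => ?_⟩ <;>
      · have := hrw (Pi.one_apply _) e; simp at this <;> linarith
    · refine ⟨fun e => ?_, fun _ => rfl, fun e => ?_, fun e => ?_⟩ <;>
      · have := hrw CfsgLib.SL2Char.stSL_one e; simp at this <;> linarith
    · refine ⟨fun e => ?_, fun e => ?_, fun _ => h, fun e => ?_⟩ <;>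
      · have := hrw (vP f h).2 e; simp at this <;> linarith
    · refine ⟨fun e => ?_, fun e => ?_, fun e => ?_, fun _ => h⟩ <;>
      · have := hrw (vC f h).2 e; simp at this <;> linarith
  refine ⟨?_, ?_, ?_, ?_⟩
  · rw [CfsgLib.SL2Char.card_irr_subtype {1} (fun f => f 1 = 1) fun f => ?_, Finset.card_singleton]
    rw [Finset.mem_singleton]
    constructor
    · rintro rfl
      exact ⟨CfsgLib.Char.isIrrCharacter_one, rfl⟩
    · exact fun h => (key f h.1).1 h.2
  · rw [CfsgLib.SL2Char.card_irr_subtype {CfsgLib.SL2Char.stSL}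
      (fun f => f 1 = (Fintype.card F : ℂ)) fun f => ?_, Finset.card_singleton]
    rw [Finset.mem_singleton]
    constructor
    · rintro rfl
      exact ⟨CfsgLib.SL2Char.isIrr_stSL, CfsgLib.SL2Char.stSL_one⟩
    · exact fun h => (key f h.1).2.1 h.2
  · rw [CfsgLib.SL2Char.card_irr_subtype P (fun f => f 1 = (Fintype.card F : ℂ) + 1) fun f =>
      ⟨vP f, fun h => (key f h.1).2.2.1 h.2⟩]
    omega
  · rw [CfsgLib.SL2Char.card_irr_subtype C (fun f => f 1 = (Fintype.card F : ℂ) - 1) fun f =>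
      ⟨vC f, fun h => (key f h.1).2.2.2 h.2⟩]
    omega

end Cfsg.Agent.S2300
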