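import Cfsg.Statements.S2301
import Cfsg.Agent.Lib.Known.SL2Char.Unipotent

set_option autoImplicit false
open Cfsg

namespace Cfsg.Agent.S2301

/-- Over a finite field with q elements of odd characteristic p, the elements of order p of SL₂ (the non-identity unipotent elements) fall into exactly two conjugacy classes, each of size (q² − 1)/2; two upper unitriangular matrices with non-zero off-diagonal entries b and b′ are conjugate exactly when bb′ is a square. -/
theorem result {F : Type*} [Field F] [Fintype F] (p : ℕ) [Fact p.Prime] [CharP F p] (hp : p ≠ 2) :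
    Nat.card {C : ConjClasses (Matrix.SpecialLinearGroup (Fin 2) F) // ∃ g : Matrix.SpecialLinearGroup (Fin 2) F, orderOf g = p ∧ ConjClasses.mk g = C} = 2 ∧
    (∀ g : Matrix.SpecialLinearGroup (Fin 2) F, orderOf g = p → Nat.card (ConjClasses.mk g).carrier = (Fintype.card F ^ 2 - 1) / 2) ∧
    ∀ g h : Matrix.SpecialLinearGroup (Fin 2) F, (g : Matrix (Fin 2) (Fin 2) F) 0 0 = 1 → (g : Matrix (Fin 2) (Fin 2) F) 1 1 = 1 → (g : Matrix (Fin 2) (Fin 2) F) 1 0 = 0 → (g : Matrix (Fin 2) (Fin 2) F) 0 1 ≠ 0 →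
      (h : Matrix (Fin 2) (Fin 2) F) 0 0 = 1 → (h : Matrix (Fin 2) (Fin 2) F) 1 1 = 1 → (h : Matrix (Fin 2) (Fin 2) F) 1 0 = 0 → (h : Matrix (Fin 2) (Fin 2) F) 0 1 ≠ 0 →
      (IsConj g h ↔ IsSquare ((g : Matrix (Fin 2) (Fin 2) F) 0 1 * (h : Matrix (Fin 2) (Fin 2) F) 0 1)) := by
  classical
  have h2 : (2 : F) ≠ 0 := CfsgLib.Classical.Two.two_ne_zero_of_char hp
  have hchar : ringChar F ≠ 2 := by rw [ringChar.eq F p]; exact hp
  have hU : ∀ g : Matrix.SpecialLinearGroup (Fin 2) F, orderOf g = p →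
      ∃ b : F, b ≠ 0 ∧ IsConj g (CfsgLib.PLocal.SLTwo.U b) := fun g hg => by
    obtain ⟨h, b, hb, e⟩ := CfsgLib.SL2Char.exists_conj_U_ne
      (fun e : g = 1 => (Fact.out : p.Prime).ne_one (by rw [← hg, e, orderOf_one]))
      (CfsgLib.PLocal.SLTwo.tr_eq_two_of_pow_p (p := p) (by rw [← hg, pow_orderOf_eq_one]))
    exact ⟨b, hb, isConj_iff.2 ⟨h, e⟩⟩
  have hord : ∀ b : F, b ≠ 0 → orderOf (CfsgLib.PLocal.SLTwo.U b) = p := fun b hb =>
    orderOf_eq_prime (CfsgLib.PLocal.SLTwo.pow_p_of_trace_two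
      (by simp [CfsgLib.PLocal.SLTwo.tr]; norm_num))
      (fun e => hb (by
        have := congrArg (fun y : Matrix.SpecialLinearGroup (Fin 2) F => y.1 0 1) e
        simpa using this))
  have hsq : ∀ b c : F, b ≠ 0 → c ≠ 0 →
      (IsConj (CfsgLib.PLocal.SLTwo.U b) (CfsgLib.PLocal.SLTwo.U c) ↔ IsSquare (b * c)) := by
    intro b c hb hc
    rw [CfsgLib.SL2Char.isConj_U_iff hb]
    constructor
    · rintro ⟨a, -, rfl⟩
      exact ⟨a * b, by ring⟩
    · rintro ⟨r, hr⟩
      refine ⟨r / b, fun e => ?_, by field_simp; linear_combination hr⟩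
      rcases div_eq_zero_iff.1 e with e | e
      · rw [e, mul_zero] at hr
        exact mul_ne_zero hb hc hr
      · exact hb e
  obtain ⟨ν, hν⟩ := FiniteField.exists_nonsquare hchar
  have hν0 : ν ≠ 0 := fun e => hν (e ▸ IsSquare.zero)
  refine ⟨?_, fun g hg => ?_, fun g h g00 g11 g10 g01 h00 h11 h10 h01 => ?_⟩
  · have hset : {C : ConjClasses (Matrix.SpecialLinearGroup (Fin 2) F) |
        ∃ g : Matrix.SpecialLinearGroup (Fin 2) F, orderOf g = p ∧ ConjClasses.mk g = C} =
        {ConjClasses.mk (CfsgLib.PLocal.SLTwo.U 1), ConjClasses.mk (CfsgLib.PLocal.SLTwo.U ν)} := by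
      ext C
      constructor
      · rintro ⟨g, hg, rfl⟩
        obtain ⟨b, hb, hgb⟩ := hU g hg
        by_cases hbs : IsSquare b
        · refine Or.inl (ConjClasses.mk_eq_mk_iff_isConj.2 (hgb.trans ?_))
          rw [hsq b 1 hb one_ne_zero, mul_one]
          exact hbs
        · refine Or.inr (ConjClasses.mk_eq_mk_iff_isConj.2 (hgb.trans ?_))
          rw [hsq b ν hb hν0]
          have e1 := FiniteField.isSquare_iff hchar (mul_ne_zero hb hν0)
          have e2 := FiniteField.pow_dichotomy hchar hb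
          have e3 := FiniteField.pow_dichotomy hchar hν0
          rw [e1, mul_pow, e2.resolve_left fun e => hbs ((FiniteField.isSquare_iff hchar hb).2 e),
            e3.resolve_left fun e => hν ((FiniteField.isSquare_iff hchar hν0).2 e), neg_one_mul,
            neg_neg]
      · rintro (rfl | rfl)
        · exact ⟨_, hord 1 one_ne_zero, rfl⟩
        · exact ⟨_, hord ν hν0, rfl⟩
    rw [show Nat.card {C : ConjClasses (Matrix.SpecialLinearGroup (Fin 2) F) //
      ∃ g : Matrix.SpecialLinearGroup (Fin 2) F, orderOf g = p ∧ ConjClasses.mk g = C} =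
      Set.ncard {C : ConjClasses (Matrix.SpecialLinearGroup (Fin 2) F) |
      ∃ g : Matrix.SpecialLinearGroup (Fin 2) F, orderOf g = p ∧ ConjClasses.mk g = C} from rfl, hset,
      Set.ncard_pair]
    rw [Ne, ConjClasses.mk_eq_mk_iff_isConj, hsq 1 ν one_ne_zero hν0, one_mul]
    exact hν
  · obtain ⟨b, hb, hgb⟩ := hU g hg
    rw [ConjClasses.mk_eq_mk_iff_isConj.2 hgb]
    have h := CfsgLib.SL2Char.card_carrier_mul (CfsgLib.PLocal.SLTwo.U b)
    rw [CfsgLib.SL2Char.card_centralizer_U hb, CfsgLib.SL2Char.card_sqrt_one_odd h2,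
      CfsgLib.Classical.Two.card_SL_two, Nat.card_eq_fintype_card (α := F)] at h
    have : 0 < Fintype.card F := Fintype.card_pos
    refine (Nat.div_eq_of_eq_mul_left (by norm_num) ?_).symm
    exact Nat.eq_of_mul_eq_mul_left this (by rw [← h]; ring)
  · have hg : g = CfsgLib.PLocal.SLTwo.U (g.1 0 1) :=
      CfsgLib.PLocal.SLTwo.ext2 g00 rfl g10 g11
    have hh : h = CfsgLib.PLocal.SLTwo.U (h.1 0 1) :=
      CfsgLib.PLocal.SLTwo.ext2 h00 rfl h10 h11
    rw [hg, hh]
    exact hsq _ _ g01 h01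

end Cfsg.Agent.S2301
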