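import Cfsg.Statements.S2302
import Cfsg.Agent.Lib.Known.SL2Char.Unipotent

set_option autoImplicit false
open Cfsg

namespace Cfsg.Agent.S2302

/-- Over a finite field with q elements of characteristic 2, the involutions of SL₂ (the non-identity unipotent elements) form a single conjugacy class, of size q² − 1. -/
theorem result {F : Type*} [Field F] [Fintype F] [CharP F 2] (g h : Matrix.SpecialLinearGroup (Fin 2) F) (hg : orderOf g = 2) (hh : orderOf h = 2) :
    IsConj g h ∧ Nat.card (ConjClasses.mk g).carrier = Fintype.card F ^ 2 - 1 := by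
  classical
  have : Fact (Nat.Prime 2) := ⟨Nat.prime_two⟩
  have hU : ∀ g : Matrix.SpecialLinearGroup (Fin 2) F, orderOf g = 2 →
      IsConj g (CfsgLib.PLocal.SLTwo.U 1) := fun g hg => by
    obtain ⟨h, b, hb, e⟩ := CfsgLib.SL2Char.exists_conj_U_ne
      (fun e : g = 1 => (show (2 : ℕ) ≠ 1 by norm_num) (by rw [← hg, e, orderOf_one]))
      (CfsgLib.PLocal.SLTwo.tr_eq_two_of_pow_p (p := 2) (orderOf_dvd_iff_pow_eq_one.1 (dvd_of_eq hg)))
    obtain ⟨r, hr⟩ := FiniteField.isSquare_of_char_two (ringChar.eq F 2) b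
    refine (isConj_iff.2 ⟨h, e⟩).trans (IsConj.symm ?_)
    rw [CfsgLib.SL2Char.isConj_U_iff one_ne_zero]
    exact ⟨r, fun e => hb (by rw [hr, e, mul_zero]), by rw [hr, mul_one]⟩
  refine ⟨(hU g hg).trans (hU h hh).symm, ?_⟩
  rw [ConjClasses.mk_eq_mk_iff_isConj.2 (hU g hg)]
  have h := CfsgLib.SL2Char.card_carrier_mul (CfsgLib.PLocal.SLTwo.U (1 : F))
  rw [CfsgLib.SL2Char.card_centralizer_U one_ne_zero, CfsgLib.SL2Char.card_sqrt_one_even,
    CfsgLib.Classical.Two.card_SL_two, Nat.card_eq_fintype_card (α := F), one_mul, mul_comm] at h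
  exact Nat.eq_of_mul_eq_mul_left Fintype.card_pos h

end Cfsg.Agent.S2302
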