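import Cfsg.Statements.S2303
import Cfsg.Agent.Lib.Known.SL2Char.Normalizers

set_option autoImplicit false
open Cfsg

namespace Cfsg.Agent.S2303

/-- Over a finite field with q elements: a diagonal element of GL₂ with two distinct diagonal entries has centralizer of order (q − 1)² (so q(q + 1) conjugates), and an element of GL₂ with no eigenvector in F² has centralizer of order q² − 1 (so q(q − 1) conjugates). -/
theorem result {F : Type*} [Field F] [Fintype F] (g : Matrix.GeneralLinearGroup (Fin 2) F) :
    ((g : Matrix (Fin 2) (Fin 2) F) 0 1 = 0 → (g : Matrix (Fin 2) (Fin 2) F) 1 0 = 0 → (g : Matrix (Fin 2) (Fin 2) F) 0 0 ≠ (g : Matrix (Fin 2) (Fin 2) F) 1 1 →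
      Nat.card (Subgroup.centralizer ({g} : Set (Matrix.GeneralLinearGroup (Fin 2) F))) = (Fintype.card F - 1) ^ 2) ∧
    ((∀ (c : F) (v : Fin 2 → F), v ≠ 0 → (g : Matrix (Fin 2) (Fin 2) F).mulVec v ≠ c • v) →
      Nat.card (Subgroup.centralizer ({g} : Set (Matrix.GeneralLinearGroup (Fin 2) F))) = Fintype.card F ^ 2 - 1) := by
  classical
  refine ⟨fun h01 h10 hne => ?_, fun h => CfsgLib.SL2Char.card_centralizer h⟩
  have hdiag : ∀ y : Matrix.GeneralLinearGroup (Fin 2) F,
      y ∈ Subgroup.centralizer ({g} : Set (Matrix.GeneralLinearGroup (Fin 2) F)) ↔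
        (y : Matrix (Fin 2) (Fin 2) F) 0 1 = 0 ∧ (y : Matrix (Fin 2) (Fin 2) F) 1 0 = 0 := by
    intro y
    rw [Subgroup.mem_centralizer_singleton_iff, Units.ext_iff]
    constructor
    · intro h
      have e01 := congrFun (congrFun h 0) 1
      have e10 := congrFun (congrFun h 1) 0
      simp [Matrix.mul_apply, Fin.sum_univ_two, h01, h10] at e01 e10
      refine ⟨?_, ?_⟩
      · by_contra hy
        exact hne (mul_right_cancel₀ hy (by linear_combination -e01))
      · by_contra hy
        exact hne (mul_right_cancel₀ hy (by linear_combination e10))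
    · rintro ⟨e01, e10⟩
      ext i j
      fin_cases i <;> fin_cases j <;>
        simp [Matrix.mul_apply, Fin.sum_univ_two, h01, h10, e01, e10, mul_comm]
  have e : (Fˣ × Fˣ) ≃ Subgroup.centralizer ({g} : Set (Matrix.GeneralLinearGroup (Fin 2) F)) :=
    Equiv.ofBijective (fun u => ⟨Matrix.GeneralLinearGroup.mkOfDetNeZero !![(u.1 : F), 0; 0, (u.2 : F)]
      (by simp [Matrix.det_fin_two_of]), (hdiag _).2 ⟨rfl, rfl⟩⟩)
      ⟨fun u v h => by
        have e := congrArg (fun y : Subgroup.centralizer ({g} : Set (Matrix.GeneralLinearGroup (Fin 2) F)) =>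
          ((y : Matrix.GeneralLinearGroup (Fin 2) F) : Matrix (Fin 2) (Fin 2) F)) h
        exact Prod.ext (Units.ext (congrFun (congrFun e 0) 0)) (Units.ext (congrFun (congrFun e 1) 1)),
      fun y => by
        obtain ⟨e01, e10⟩ := (hdiag _).1 y.2
        have hd := ((Matrix.isUnit_iff_isUnit_det _).1
          (y : Matrix.GeneralLinearGroup (Fin 2) F).isUnit).ne_zero
        rw [Matrix.det_fin_two, e01, e10, mul_zero, sub_zero, mul_ne_zero_iff] at hd
        refine ⟨(Units.mk0 _ hd.1, Units.mk0 _ hd.2), Subtype.ext (Units.ext ?_)⟩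
        ext i j
        fin_cases i <;> fin_cases j
        · rfl
        · exact e01.symm
        · exact e10.symm
        · rfl⟩
  rw [← Nat.card_congr e, Nat.card_prod, Nat.card_units, Nat.card_eq_fintype_card, sq]

end Cfsg.Agent.S2303
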