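import Cfsg.Statements.S2305
import Cfsg.Agent.Lib.Known.SL2Char.Principal

set_option autoImplicit false
open Cfsg

namespace Cfsg.Agent.S2305

/-- Over a finite field F, for multiplicative characters α, β, α′, β′ of F, the characters of GL₂ induced from the linear characters b ↦ α(b₁₁) β(b₂₂) and b ↦ α′(b₁₁) β′(b₂₂) of the upper triangular subgroup coincide exactly when {α, β} = {α′, β′} as unordered pairs. -/
theorem result {F : Type*} [Field F] [Fintype F] [DecidableEq F] (α β α' β' : MulChar F ℂ) :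
    Cfsg.indFun (Cfsg.upperTriangularGL 2 F) (fun b => α (((b : Matrix.GeneralLinearGroup (Fin 2) F) : Matrix (Fin 2) (Fin 2) F) 0 0) * β (((b : Matrix.GeneralLinearGroup (Fin 2) F) : Matrix (Fin 2) (Fin 2) F) 1 1)) = Cfsg.indFun (Cfsg.upperTriangularGL 2 F) (fun b => α' (((b : Matrix.GeneralLinearGroup (Fin 2) F) : Matrix (Fin 2) (Fin 2) F) 0 0) * β' (((b : Matrix.GeneralLinearGroup (Fin 2) F) : Matrix (Fin 2) (Fin 2) F) 1 1)) ↔
      (α = α' ∧ β = β') ∨ (α = β' ∧ β = α') := by
  classical
  have := Fintype.ofFinite (Matrix.SpecialLinearGroup (Fin 2) F)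
  have hAA := CfsgLib.SL2Char.classInner_principalGL α β α β
  have hBB := CfsgLib.SL2Char.classInner_principalGL α' β' α' β'
  have hAB := CfsgLib.SL2Char.classInner_principalGL α β α' β'
  constructor
  · intro h
    by_contra hcon
    push Not at hcon
    have h2 := hAA.symm.trans ((congrArg (Cfsg.classInner _) h).trans hAB)
    rw [if_neg (show ¬ (α = α' ∧ β = β') from fun hh => hcon.1 hh.1 hh.2),
      if_neg (show ¬ (α = β' ∧ β = α') from fun hh => hcon.2 hh.1 hh.2), if_pos ⟨rfl, rfl⟩,
      add_zero] at h2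
    split_ifs at h2 <;> norm_num at h2
  · intro h
    refine CfsgLib.SL2Char.eq_of_classInner_eq_self hAA (hBB.trans ?_) (hAB.trans ?_)
    all_goals
      rcases h with ⟨rfl, rfl⟩ | ⟨rfl, rfl⟩
      · rfl
      · by_cases e : α = β
        · simp [e]
        · simp [e, Ne.symm e]

end Cfsg.Agent.S2305
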