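import Cfsg.Statements.S2306
import Cfsg.Agent.Lib.Known.SL2Char.Principal

set_option autoImplicit false
open Cfsg

namespace Cfsg.Agent.S2306

/-- Over a finite field F, for a multiplicative character α of F, the function induced to SL₂ from the linear character b ↦ α(b₁₁) of the upper triangular subgroup is an irreducible character if and only if α² ≠ 1. -/
theorem result {F : Type*} [Field F] [Fintype F] [DecidableEq F] (α : MulChar F ℂ) :
    Cfsg.IsIrrCharacter (Matrix.SpecialLinearGroup (Fin 2) F) (Cfsg.indFun ((Cfsg.upperTriangularGL 2 F).comap Matrix.SpecialLinearGroup.toGL) (fun b => α (((b : Matrix.SpecialLinearGroup (Fin 2) F) : Matrix (Fin 2) (Fin 2) F) 0 0))) ↔ α ^ 2 ≠ 1 := by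
  classical
  have := Fintype.ofFinite (Matrix.GeneralLinearGroup (Fin 2) F)
  have hn := CfsgLib.SL2Char.classInner_principalSL α α
  have hiff : α = α⁻¹ ↔ α ^ 2 = 1 := by rw [pow_two, mul_eq_one_iff_eq_inv]
  constructor
  · intro h h2
    have h1 := CfsgLib.Char.classInner_irr_self (⟨_, h⟩ : Cfsg.IrrCharacter _)
    have h3 := h1.symm.trans hn
    rw [if_pos rfl, if_pos (hiff.2 h2)] at h3
    norm_num at h3
  · intro h
    refine CfsgLib.Char.IsChar.isIrr_of_classInner_eq_one
      (CfsgLib.Char.isCharacter_indFun _ (CfsgLib.SL2Char.isCharacter_borelSL α)) ?_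
    refine hn.trans ?_
    rw [if_pos rfl, if_neg (fun e => h (hiff.1 e)), add_zero]

end Cfsg.Agent.S2306
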