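import Cfsg.Statements.S2307
import Cfsg.Agent.Lib.Known.SL2Char.Values
import Cfsg.Agent.Lib.Known.SL2Char.TableGL

set_option autoImplicit false
open Cfsg

namespace Cfsg.Agent.S2307

/-- Over a finite field F with q elements, q odd, let α be the multiplicative character of F of order 2. The character of SL₂ induced from the linear character b ↦ α(b₁₁) of the upper triangular subgroup is the sum of two distinct irreducible characters, each of degree (q + 1)/2, which are conjugate under GL₂: some fixed element of GL₂ conjugates the one into the other. -/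
theorem result {F : Type*} [Field F] [Fintype F] [DecidableEq F] (hodd : Odd (Fintype.card F)) (α : MulChar F ℂ)
    (hα : α ^ 2 = 1) (hα1 : α ≠ 1) :
    ∃ χ₁ χ₂ : Matrix.SpecialLinearGroup (Fin 2) F → ℂ, Cfsg.IsIrrCharacter (Matrix.SpecialLinearGroup (Fin 2) F) χ₁ ∧ Cfsg.IsIrrCharacter (Matrix.SpecialLinearGroup (Fin 2) F) χ₂ ∧ χ₁ ≠ χ₂ ∧
      Cfsg.indFun ((Cfsg.upperTriangularGL 2 F).comap Matrix.SpecialLinearGroup.toGL) (fun b => α (((b : Matrix.SpecialLinearGroup (Fin 2) F) : Matrix (Fin 2) (Fin 2) F) 0 0)) = χ₁ + χ₂ ∧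
      χ₁ 1 = (((Fintype.card F + 1) / 2 : ℕ) : ℂ) ∧ χ₂ 1 = (((Fintype.card F + 1) / 2 : ℕ) : ℂ) ∧
      ∃ x : Matrix.GeneralLinearGroup (Fin 2) F, ∀ g h : Matrix.SpecialLinearGroup (Fin 2) F,
        Matrix.SpecialLinearGroup.toGL h = x * Matrix.SpecialLinearGroup.toGL g * x⁻¹ → χ₂ h = χ₁ g := by
  classical
  have := Fintype.ofFinite (CfsgLib.SL2Char.Orbits (⊥ : Subgroup Fˣ))
  obtain ⟨g₀, hg₀⟩ := CfsgLib.SL2Char.exists_elliptic (F := F)
  have := Fintype.ofFinite (Matrix.GeneralLinearGroup (Fin 2) F)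
  obtain ⟨ψ, hψ⟩ := CfsgLib.SL2Char.exists_addChar (F := F)
  have hq2 : 1 < Fintype.card F := Fintype.one_lt_card
  obtain ⟨θ₀, a, b, c, d, P, C, hθ1, hθ0, hab, hcd, hA, hB, ha, hb, hc, hd, sab, scd, hsw, iP, iC, vP, vC,
    cP, cC, ctot, hall⟩ := CfsgLib.SL2Char.tableSLOdd hg₀ hψ hodd
  obtain ⟨m, hm⟩ := id hodd
  have e6 : (Fintype.card F + 1) / 2 = m + 1 ∧ (Fintype.card F - 1) / 2 = m := ⟨by omega, by omega⟩
  have dA : ∀ {X σ} {f : Matrix.SpecialLinearGroup (Fin 2) F → ℂ},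
      CfsgLib.SL2Char.Half ψ 1 σ X f → f 1 = ((m + 1 : ℕ) : ℂ) := fun h => by
    have e := h.deg
    rw [hm] at e
    push_cast at e ⊢
    linear_combination e / 2
  have dC : ∀ {X σ} {f : Matrix.SpecialLinearGroup (Fin 2) F → ℂ},
      CfsgLib.SL2Char.Half ψ (-1) σ X f → f 1 = ((m : ℕ) : ℂ) := fun h => by
    have e := h.deg
    rw [hm] at e
    push_cast at e ⊢
    linear_combination e / 2
  have hQ : (Fintype.card F : ℂ) = ((2 * m + 1 : ℕ) : ℂ) := by rw [hm]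
  have hQ1 : (Fintype.card F : ℂ) + 1 = ((2 * m + 2 : ℕ) : ℂ) := by rw [hQ]; push_cast; ring
  have hQ2 : (Fintype.card F : ℂ) - 1 = ((2 * m : ℕ) : ℂ) := by rw [hQ]; push_cast; ring
  have h1C : (1 : ℂ) = ((1 : ℕ) : ℂ) := Nat.cast_one.symm
  have hDG : ∀ f, Cfsg.IsIrrCharacter (Matrix.SpecialLinearGroup (Fin 2) F) f →
      (f = 1 ∧ f 1 = ((1 : ℕ) : ℂ)) ∨
      (f = CfsgLib.SL2Char.stSL ∧ f 1 = ((2 * m + 1 : ℕ) : ℂ)) ∨
      (f ∈ P ∧ f 1 = ((2 * m + 2 : ℕ) : ℂ)) ∨ (f ∈ C ∧ f 1 = ((2 * m : ℕ) : ℂ)) ∨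
      ((f = a ∨ f = b) ∧ f 1 = ((m + 1 : ℕ) : ℂ)) ∨ ((f = c ∨ f = d) ∧ f 1 = ((m : ℕ) : ℂ)) := by
    intro f hf
    rcases (hall f).1 hf with rfl | rfl | h | h | rfl | rfl | rfl | rfl
    · exact Or.inl ⟨rfl, by simp⟩
    · exact Or.inr (Or.inl ⟨rfl, CfsgLib.SL2Char.stSL_one.trans hQ⟩)
    · exact Or.inr (Or.inr (Or.inl ⟨h, (vP f h).2.trans hQ1⟩))
    · exact Or.inr (Or.inr (Or.inr (Or.inl ⟨h, (vC f h).2.trans hQ2⟩)))
    · exact Or.inr (Or.inr (Or.inr (Or.inr (Or.inl ⟨Or.inl rfl, dA ha⟩))))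
    · exact Or.inr (Or.inr (Or.inr (Or.inr (Or.inl ⟨Or.inr rfl, dA hb⟩))))
    · exact Or.inr (Or.inr (Or.inr (Or.inr (Or.inr ⟨Or.inl rfl, dC hc⟩))))
    · exact Or.inr (Or.inr (Or.inr (Or.inr (Or.inr ⟨Or.inr rfl, dC hd⟩))))
  have key : ∀ (f : Matrix.SpecialLinearGroup (Fin 2) F → ℂ) (n : ℕ),
      Cfsg.IsIrrCharacter (Matrix.SpecialLinearGroup (Fin 2) F) f → f 1 = (n : ℂ) →
      (n = 2 * m + 1 → f = CfsgLib.SL2Char.stSL) ∧ (n = 2 * m + 2 → f ∈ P) ∧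
        (n = 2 * m → f ∈ C ∨ (m = 1 ∧ (f = a ∨ f = b))) ∧
        (n = m + 1 → (f = a ∨ f = b) ∨ (m = 1 ∧ f ∈ C)) ∧ (n = m → (f = c ∨ f = d) ∨ m = 1) := by
    intro f n hf hn
    have hm1 : 1 ≤ m := by omega
    rcases hDG f hf with ⟨h, e⟩ | ⟨h, e⟩ | ⟨h, e⟩ | ⟨h, e⟩ | ⟨h, e⟩ | ⟨h, e⟩ <;>
      (rw [hn, Nat.cast_inj] at e; subst e;
        refine ⟨fun e => ?_, fun e => ?_, fun e => ?_, fun e => ?_, fun e => ?_⟩ <;>
          first
            | exact h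
            | exact Or.inl h
            | exact Or.inr ⟨by omega, h⟩
            | exact Or.inr (by omega)
            | omega)
  have h2 : ringChar F ≠ 2 := fun h => by
    have := FiniteField.even_card_iff_char_two.1 h
    omega
  have hαq : α = CfsgLib.SL2Char.qcC F := by
    refine MulChar.ext fun u => ?_
    have hsq : ∀ β : MulChar F ℂ, β ^ 2 = 1 → ∀ x : Fˣ, β.toUnitHom x * β.toUnitHom x = 1 :=
      fun β hβ x => Units.ext (by
        rw [Units.val_mul, MulChar.coe_toUnitHom, ← MulChar.mul_apply, ← pow_two, hβ,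
          MulChar.one_apply_coe, Units.val_one])
    have hne : ∀ β : MulChar F ℂ, β ≠ 1 → β.toUnitHom ≠ 1 := fun β hβ e => hβ (MulChar.ext fun x => by
      rw [MulChar.one_apply_coe, ← MulChar.coe_toUnitHom, e]; rfl)
    have hcard : Nat.card Fˣ = 2 * m := by rw [Nat.card_units, Nat.card_eq_fintype_card]; omega
    obtain ⟨p1, p2⟩ := CfsgLib.SL2Char.quad_hom_iff (hsq α hα) (hne α hα1) hcard u
    obtain ⟨r1, r2⟩ := CfsgLib.SL2Char.quad_hom_iff (hsq _ CfsgLib.SL2Char.qcC_sq)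
      (hne _ (CfsgLib.SL2Char.qcC_ne_one h2)) hcard u
    rw [← MulChar.coe_toUnitHom, ← MulChar.coe_toUnitHom]
    by_cases h : u ^ m = 1
    · rw [p1 h, r1 h]
    · rw [p2 h, r2 h]
  subst hαq
  obtain ⟨ν, hν⟩ := FiniteField.exists_nonsquare h2
  have hν0 : ν ≠ 0 := fun e => hν (e ▸ IsSquare.zero)
  refine ⟨a, b, ha.irr, hb.irr, hab, hA, by rw [e6.1]; exact dA ha, by rw [e6.1]; exact dA hb,
    Matrix.GeneralLinearGroup.mkOfDetNeZero !![ν, 0; 0, 1] (by simp [Matrix.det_fin_two_of, hν0]),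
    fun g h e => ?_⟩
  have e' : (h : Matrix (Fin 2) (Fin 2) F) * !![ν, 0; 0, 1] =
      !![ν, 0; 0, 1] * (g : Matrix (Fin 2) (Fin 2) F) :=
    congrArg Units.val (eq_mul_inv_iff_mul_eq.1 e)
  have e00 := congrFun (congrFun e' 0) 0
  have e01 := congrFun (congrFun e' 0) 1
  have e10 := congrFun (congrFun e' 1) 0
  have e11 := congrFun (congrFun e' 1) 1
  simp [Matrix.mul_apply, Fin.sum_univ_two] at e00 e01 e10 e11
  have hh : h = CfsgLib.PLocal.SLTwo.scale ν hν0 g := by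
    refine CfsgLib.PLocal.SLTwo.ext2 ?_ ?_ ?_ ?_
    · show h.1 0 0 = g.1 0 0
      refine mul_left_cancel₀ hν0 ?_
      linear_combination e00
    · show h.1 0 1 = g.1 0 1 * ν
      rw [e01, mul_comm]
    · show h.1 1 0 = g.1 1 0 / ν
      rw [eq_div_iff hν0, e10]
    · show h.1 1 1 = g.1 1 1
      exact e11
  rw [hh]
  exact ((hsw ν hν0 hν g).1)

end Cfsg.Agent.S2307
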