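import Cfsg.Statements.S2308
import Cfsg.Agent.Lib.Known.SL2Char.Borel

set_option autoImplicit false
open Cfsg

namespace Cfsg.Agent.S2308

/-- Values of the permutation character of GL₂ over a finite field F with q elements on the cosets of its upper triangular subgroup (equivalently, the number of lines of F² that an element maps to themselves): q + 1 at a scalar matrix, 2 at a diagonal matrix with two different diagonal entries, 0 at an element with no eigenvector in F², and 1 at an upper triangular matrix with equal diagonal entries and non-zero upper right entry. -/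
theorem result {F : Type*} [Field F] [Fintype F] (g : Matrix.GeneralLinearGroup (Fin 2) F) :
    ((∃ a : F, (g : Matrix (Fin 2) (Fin 2) F) = a • (1 : Matrix (Fin 2) (Fin 2) F)) → Cfsg.fixedPointCharacter (Cfsg.upperTriangularGL 2 F) g = Fintype.card F + 1) ∧
    ((g : Matrix (Fin 2) (Fin 2) F) 0 1 = 0 → (g : Matrix (Fin 2) (Fin 2) F) 1 0 = 0 → (g : Matrix (Fin 2) (Fin 2) F) 0 0 ≠ (g : Matrix (Fin 2) (Fin 2) F) 1 1 →
      Cfsg.fixedPointCharacter (Cfsg.upperTriangularGL 2 F) g = 2) ∧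
    ((∀ (c : F) (v : Fin 2 → F), v ≠ 0 → (g : Matrix (Fin 2) (Fin 2) F).mulVec v ≠ c • v) → Cfsg.fixedPointCharacter (Cfsg.upperTriangularGL 2 F) g = 0) ∧
    ((g : Matrix (Fin 2) (Fin 2) F) 1 0 = 0 → (g : Matrix (Fin 2) (Fin 2) F) 0 0 = (g : Matrix (Fin 2) (Fin 2) F) 1 1 → (g : Matrix (Fin 2) (Fin 2) F) 0 1 ≠ 0 →
      Cfsg.fixedPointCharacter (Cfsg.upperTriangularGL 2 F) g = 1) := by
  classical
  have := Fintype.ofFinite (Matrix.GeneralLinearGroup (Fin 2) F ⧸ Cfsg.upperTriangularGL 2 F)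
  have hperm : Cfsg.fixedPointCharacter (Cfsg.upperTriangularGL 2 F) g =
      Cfsg.indFun (Cfsg.upperTriangularGL 2 F)
        (fun b : Cfsg.upperTriangularGL 2 F => (fun _ _ : F => (1 : ℂ))
          (CfsgLib.SL2Char.MGL (b : Matrix.GeneralLinearGroup (Fin 2) F) 0 0)
          (CfsgLib.SL2Char.MGL (b : Matrix.GeneralLinearGroup (Fin 2) F) 1 1)) g := by
    rw [CfsgLib.Clifford.indFun_eq_sum_quotient _ (fun _ _ => rfl)]
    unfold Cfsg.fixedPointCharacter
    rw [Nat.card_eq_fintype_card, Fintype.card_subtype, Finset.card_filter, Nat.cast_sum]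
    refine Finset.sum_congr rfl fun x _ => ?_
    have hx : x ∈ MulAction.fixedBy (Matrix.GeneralLinearGroup (Fin 2) F ⧸ Cfsg.upperTriangularGL 2 F) g ↔
        x.out⁻¹ * g * x.out ∈ Cfsg.upperTriangularGL 2 F := by
      conv_lhs => rw [MulAction.mem_fixedBy, ← QuotientGroup.out_eq' x, MulAction.Quotient.smul_mk,
        eq_comm, QuotientGroup.eq, smul_eq_mul]
      rw [mul_assoc]
    by_cases h : x.out⁻¹ * g * x.out ∈ Cfsg.upperTriangularGL 2 F
    · rw [if_pos (hx.2 h), CfsgLib.Char.extendByZero_of_mem _ _ h, Nat.cast_one]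
    · rw [if_neg (fun e => h (hx.1 e)), CfsgLib.Char.extendByZero_of_notMem _ _ h, Nat.cast_zero]
  rw [hperm]
  have hup := CfsgLib.SL2Char.indFun_apply_upper CfsgLib.SL2Char.MGL CfsgLib.SL2Char.mem_upperGL
    CfsgLib.SL2Char.MGL_repGL (fun _ _ : F => (1 : ℂ)) (g := g)
  refine ⟨?_, fun h01 h10 hne => ?_, fun h => ?_, fun h10 heq h01 => ?_⟩
  · rintro ⟨a, ha⟩
    have e : ∀ i j, CfsgLib.SL2Char.MGL g i j = (a • (1 : Matrix (Fin 2) (Fin 2) F)) i j := fun i j => by
      rw [← ha]; rfl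
    rw [hup (by rw [e]; simp), if_pos (by rw [e, e]; simp), if_pos (by rw [e]; simp), mul_one,
      add_comm]
  · have hne' : CfsgLib.SL2Char.MGL g 0 0 ≠ CfsgLib.SL2Char.MGL g 1 1 := hne
    rw [hup h10, if_neg hne']; norm_num
  · exact CfsgLib.SL2Char.indFun_apply_irreducible CfsgLib.SL2Char.MGL CfsgLib.SL2Char.mem_upperGL
      CfsgLib.SL2Char.MGL_repGL (fun _ _ : F => (1 : ℂ)) h
  · have heq' : CfsgLib.SL2Char.MGL g 0 0 = CfsgLib.SL2Char.MGL g 1 1 := heq
    have h01' : CfsgLib.SL2Char.MGL g 0 1 ≠ 0 := h01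
    rw [hup h10, if_pos heq', if_neg h01', add_zero]

end Cfsg.Agent.S2308
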