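import Cfsg.Statements.S2309
import Cfsg.Agent.Lib.Known.SL2Char.TableGL

set_option autoImplicit false
open Cfsg

namespace Cfsg.Agent.S2309

/-- Over a finite field F with q elements: every irreducible complex character of GL₂ of degree q − 1 vanishes at every diagonal matrix with two distinct entries, and every irreducible complex character of degree q + 1 vanishes at every element with no eigenvector in F². -/
theorem result {F : Type*} [Field F] [Fintype F] (χ : Matrix.GeneralLinearGroup (Fin 2) F → ℂ) (hχ : Cfsg.IsIrrCharacter (Matrix.GeneralLinearGroup (Fin 2) F) χ) (g : Matrix.GeneralLinearGroup (Fin 2) F) :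
    (χ 1 = (Fintype.card F : ℂ) - 1 → (g : Matrix (Fin 2) (Fin 2) F) 0 1 = 0 → (g : Matrix (Fin 2) (Fin 2) F) 1 0 = 0 → (g : Matrix (Fin 2) (Fin 2) F) 0 0 ≠ (g : Matrix (Fin 2) (Fin 2) F) 1 1 → χ g = 0) ∧
    (χ 1 = (Fintype.card F : ℂ) + 1 → (∀ (c : F) (v : Fin 2 → F), v ≠ 0 → (g : Matrix (Fin 2) (Fin 2) F).mulVec v ≠ c • v) → χ g = 0) := by
  classical
  have := Fintype.ofFinite (Matrix.GeneralLinearGroup (Fin 2) F)
  have := Fintype.ofFinite (CfsgLib.SL2Char.Orbits (⊤ : Subgroup Fˣ))
  obtain ⟨g₀, hg₀⟩ := CfsgLib.SL2Char.exists_elliptic (F := F)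
  obtain ⟨ψ, hψ⟩ := CfsgLib.SL2Char.exists_addChar (F := F)
  obtain ⟨L, T, P, C, iL, iT, iP, iC, hall, lL, lT, lP, lC, cL, cT, cP, cC, ctot⟩ :=
    CfsgLib.SL2Char.tableGL hg₀ hψ
  have hq2 : 1 < Fintype.card F := Fintype.one_lt_card
  have h := (hall χ).1 hχ
  simp only [Finset.mem_union] at h
  refine ⟨fun hd h01 h10 hne => ?_, fun hd hell => ?_⟩
  · have hdet := ((Matrix.isUnit_iff_isUnit_det _).1 g.isUnit).ne_zero
    rw [Matrix.det_fin_two, h01, h10, mul_zero, sub_zero, mul_ne_zero_iff] at hdet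
    have hq3 : 3 ≤ Fintype.card F :=
      Fintype.two_lt_card_iff.2 ⟨0, _, _, Ne.symm hdet.1, Ne.symm hdet.2, hne⟩
    have hm : (3 : ℝ) ≤ Fintype.card F := by exact_mod_cast hq3
    rcases h with ((h | h) | h) | h
    · have e0 := hd.symm.trans ((iL χ).1 h).2.1
      have := congrArg Complex.re e0; simp at this; linarith
    · have e0 := hd.symm.trans ((iT χ).1 h).2
      have := congrArg Complex.re e0; simp at this
    · have e0 := hd.symm.trans ((iP χ).1 h).2
      have := congrArg Complex.re e0; simp at this; linarith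
    · obtain ⟨θ, -, rfl⟩ := lC χ h
      have := Fintype.ofFinite (CfsgLib.SL2Char.diags (⊤ : Subgroup Fˣ))
      refine CfsgLib.SL2Char.emb_GL.cusp_split hg₀ ψ θ hne ?_ ?_
      · exact Matrix.trace_fin_two _
      · show (g : Matrix (Fin 2) (Fin 2) F).det = _
        rw [Matrix.det_fin_two, h01, h10, mul_zero, sub_zero]
  · have hm : (2 : ℝ) ≤ Fintype.card F := by exact_mod_cast hq2
    rcases h with ((h | h) | h) | h
    · have e0 := hd.symm.trans ((iL χ).1 h).2.1
      have := congrArg Complex.re e0; simp at this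
    · have e0 := hd.symm.trans ((iT χ).1 h).2
      have := congrArg Complex.re e0; simp at this
    · obtain ⟨α, β, -, rfl⟩ := lP χ h
      exact CfsgLib.SL2Char.prGL_elliptic α β hell
    · have e0 := hd.symm.trans ((iC χ).1 h).2.1
      have := congrArg Complex.re e0; simp at this; linarith

end Cfsg.Agent.S2309
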