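import Cfsg.Statements.S2310
import Cfsg.Agent.Lib.Known.SL2Char.TableGL

set_option autoImplicit false
open Cfsg

namespace Cfsg.Agent.S2310

/-- Over a finite field F with q ≥ 3 elements, let u be the upper unitriangular matrix of GL₂ with off-diagonal entry 1. An irreducible complex character χ of GL₂ takes at u the value 1 if χ has degree 1 or q + 1, the value −1 if χ has degree q − 1, and the value 0 if χ has degree q. -/
theorem result {F : Type*} [Field F] [Fintype F] (hq : 3 ≤ Fintype.card F) (χ : Matrix.GeneralLinearGroup (Fin 2) F → ℂ) (hχ : Cfsg.IsIrrCharacter (Matrix.GeneralLinearGroup (Fin 2) F) χ)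
    (u : Matrix.GeneralLinearGroup (Fin 2) F) (hu : (u : Matrix (Fin 2) (Fin 2) F) = !![1, 1; 0, 1]) :
    (χ 1 = 1 → χ u = 1) ∧ (χ 1 = (Fintype.card F : ℂ) + 1 → χ u = 1) ∧
    (χ 1 = (Fintype.card F : ℂ) - 1 → χ u = -1) ∧ (χ 1 = (Fintype.card F : ℂ) → χ u = 0) := by
  classical
  have := Fintype.ofFinite (Matrix.GeneralLinearGroup (Fin 2) F)
  have := Fintype.ofFinite (CfsgLib.SL2Char.Orbits (⊤ : Subgroup Fˣ))
  obtain ⟨g₀, hg₀⟩ := CfsgLib.SL2Char.exists_elliptic (F := F)
  obtain ⟨ψ, hψ⟩ := CfsgLib.SL2Char.exists_addChar (F := F)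
  obtain ⟨L, T, P, C, iL, iT, iP, iC, hall, lL, lT, lP, lC, cL, cT, cP, cC, ctot⟩ :=
    CfsgLib.SL2Char.tableGL hg₀ hψ
  have hq2 : 1 < Fintype.card F := Fintype.one_lt_card
  have hm : (3 : ℝ) ≤ Fintype.card F := by exact_mod_cast hq
  have hu' : u = CfsgLib.SL2Char.u1GL := Units.ext hu
  subst hu'
  have h := (hall χ).1 hχ
  simp only [Finset.mem_union] at h
  rcases h with ((h | h) | h) | h
  · obtain ⟨-, e0, ev⟩ := (iL χ).1 h
    refine ⟨fun _ => ev, fun _ => ev, fun e => ?_, fun e => ?_⟩ <;>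
    · have := congrArg Complex.re (e.symm.trans e0); simp at this; linarith
  · obtain ⟨α, rfl⟩ := lT χ h
    have e0 := CfsgLib.SL2Char.stGL_one α
    refine ⟨fun e => ?_, fun e => ?_, fun e => ?_, fun _ => CfsgLib.SL2Char.stGL_u α⟩ <;>
    · have := congrArg Complex.re (e.symm.trans e0); simp at this <;> linarith
  · obtain ⟨α, β, -, rfl⟩ := lP χ h
    have e0 := CfsgLib.SL2Char.prGL_one α β
    refine ⟨fun _ => CfsgLib.SL2Char.prGL_u α β, fun _ => CfsgLib.SL2Char.prGL_u α β,
      fun e => ?_, fun e => ?_⟩ <;>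
    · have := congrArg Complex.re (e.symm.trans e0); simp at this <;> linarith
  · obtain ⟨-, e0, ev⟩ := (iC χ).1 h
    refine ⟨fun e => ?_, fun e => ?_, fun _ => ev, fun e => ?_⟩ <;>
    · have := congrArg Complex.re (e.symm.trans e0); simp at this <;> linarith

end Cfsg.Agent.S2310
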