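import Cfsg.Statements.S2312
import Cfsg.Agent.Lib.Lie.Rel.StFacts
import Cfsg.Agent.Lib.Lie.Rel.StValue

set_option autoImplicit false
open Cfsg

namespace Cfsg.Agent.S2312

/-- In a Chevalley group of type G₂, B₂, D₄, F₄, E₆, E₇ or E₈ over a finite field of characteristic p, the value of the Steinberg character at an element g of order prime to p (a semisimple element) is, up to sign, the largest power of p dividing the order of the centralizer of g. -/
theorem result {F : Type*} [Field F] [Fintype F] (p : ℕ) [Fact p.Prime] [CharP F p] (D : Cfsg.Lie.ChevalleyDatum) (hD : D ∈ [Cfsg.Lie.chevG2, Cfsg.Lie.chevB2, Cfsg.Lie.chevD4, Cfsg.Lie.chevF4, Cfsg.Lie.chevE6, Cfsg.Lie.chevE7, Cfsg.Lie.chevE8]) (g : ↥(D.group F)) (hg : ¬ p ∣ orderOf g) :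
    D.steinbergCharacter F g = ((p ^ (Nat.card ↥(Subgroup.centralizer ({g} : Set ↥(D.group F)))).factorization p : ℕ) : ℂ) ∨
      D.steinbergCharacter F g = -((p ^ (Nat.card ↥(Subgroup.centralizer ({g} : Set ↥(D.group F)))).factorization p : ℕ) : ℂ) := by
  classical
  obtain ⟨X, C, hd⟩ := CfsgLib.Lie.Chev.exists_desc hD
  set R := CfsgLib.Lie.Chev.chevRel C F with hR
  have : Finite ↥(D.group F) := R.Finite_of_field
  let _ : Fintype ↥(D.group F) := Fintype.ofFinite _
  have hp : p.Prime := Fact.out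
  -- conjugate into a parabolic as small as possible
  have hrange : ∀ i < D.rank, i ∈ ((Finset.range D.rank : Finset ℕ) : Set ℕ) :=
    fun i hi => Finset.mem_coe.2 (Finset.mem_range.2 hi)
  obtain ⟨J, hJmem, hJmin⟩ := Finset.exists_min_image
    ((Finset.range D.rank).powerset.filter fun J : Finset ℕ => ∃ a, a⁻¹ * g * a ∈ R.PJ (J : Set ℕ)) Finset.card
    ⟨Finset.range D.rank, Finset.mem_filter.2 ⟨Finset.mem_powerset_self _, 1,
      by rw [R.PJ_eq_top hrange]; trivial⟩⟩
  obtain ⟨hJsub, a, ha⟩ := Finset.mem_filter.1 hJmem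
  have hJ : ∀ j ∈ J, j < D.rank := fun j hj => Finset.mem_range.1 (Finset.mem_powerset.1 hJsub hj)
  set s := a⁻¹ * g * a with hs
  have hcusp : R.IsCusp J s := by
    refine ⟨ha, fun S hS b hb => ?_⟩
    have h1 := hJmin S (Finset.mem_filter.2 ⟨Finset.mem_powerset.2
      (hS.subset.trans (Finset.mem_powerset.1 hJsub)), a * b, by
        rw [hs] at hb; simpa [mul_assoc] using hb⟩)
    exact absurd h1 (not_le.2 (Finset.card_lt_card hS))
  have hord : orderOf s = orderOf g := by
    have e : s = MulAut.conj a⁻¹ g := by rw [hs, MulAut.conj_apply, inv_inv]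
    rw [e]
    exact orderOf_injective (MulAut.conj a⁻¹).toMonoidHom (MulAut.conj a⁻¹).injective g
  have hcop : ¬ p ∣ orderOf s := hord ▸ hg
  -- the Steinberg values as integers
  have hSt : ∀ x, D.steinbergCharacter F x = (R.stK (Finset.range D.rank) x : ℂ) :=
    fun x => CfsgLib.Lie.Chev.steinberg_eq C F x
  have hconj : ∀ b x, R.stK (Finset.range D.rank) (b * x * b⁻¹) = R.stK (Finset.range D.rank) x :=
    fun b x => R.stK_conj (by rw [R.PJ_eq_top hrange]; trivial) x
  -- the radical and the centraliser of `s` in it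
  set U := R.UR (J : Set ℕ) with hU
  let _ : Fintype ↥U := Fintype.ofFinite _
  obtain ⟨P, hP⟩ := CfsgLib.Lie.Chev.exists_sylow_UP C F p
  have hUp : IsPGroup p U := P.2.to_le (hP.symm ▸ R.UR_le_UP _)
  have hsn : ∀ u ∈ U, s * u * s⁻¹ ∈ U := fun u hu => by
    have h := (R.UR_conj_mem hd (u := u) (inv_mem ha)).2 hu
    rwa [inv_inv] at h
  set C0 : Subgroup ↥U := (Subgroup.centralizer ({s} : Set ↥(D.group F))).subgroupOf U with hC0
  have hC0mem : ∀ c : ↥U, c ∈ C0 ↔ (c : ↥(D.group F)) * s = s * (c : ↥(D.group F)) := fun c => by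
    rw [hC0, Subgroup.mem_subgroupOf, Subgroup.mem_centralizer_singleton_iff]
  let φ : (↥U ⧸ C0) × ↥C0 → ↥U := fun z =>
    ⟨(z.1.out : ↥(D.group F)) * (z.2 : ↥U) * (s * (z.1.out : ↥(D.group F))⁻¹ * s⁻¹),
      mul_mem (mul_mem z.1.out.2 (z.2 : ↥U).2) (hsn _ (inv_mem z.1.out.2))⟩
  have hφs : ∀ z, (φ z : ↥(D.group F)) * s =
      (z.1.out : ↥(D.group F)) * ((z.2 : ↥U) * s) * (z.1.out : ↥(D.group F))⁻¹ := fun z => by
    show (z.1.out : ↥(D.group F)) * (z.2 : ↥U) * (s * (z.1.out : ↥(D.group F))⁻¹ * s⁻¹) * s = _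
    group
  have hcomm : ∀ c : ↥C0, Commute ((c : ↥U) : ↥(D.group F)) s := fun c => (hC0mem c).1 c.2
  have hpow : ∀ c : ↥C0, ∃ k : ℕ, orderOf ((c : ↥U) : ↥(D.group F)) = p ^ k := fun c => by
    obtain ⟨k, hk⟩ := IsPGroup.iff_orderOf.1 hUp (c : ↥U)
    exact ⟨k, by rw [Subgroup.orderOf_coe, hk]⟩
  have hzero : ∀ c : ↥C0, c ≠ 1 → R.stK (Finset.range D.rank) ((c : ↥U) * s) = 0 := fun c hc => by
    obtain ⟨k, hk⟩ := hpow c
    have hk0 : k ≠ 0 := by
      rintro rfl
      rw [pow_zero, orderOf_eq_one_iff] at hk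
      exact hc (Subtype.ext (Subtype.ext hk))
    have h1 := (hcomm c).orderOf_mul_eq_mul_orderOf_of_coprime (by
      rw [hk]; exact Nat.Coprime.pow_left k ((Nat.Prime.coprime_iff_not_dvd hp).2 hcop))
    have h2 := CfsgLib.Lie.Chev.steinberg_p_singular C F p ((c : ↥U) * s)
      (h1 ▸ Dvd.dvd.mul_right (hk ▸ dvd_pow_self p hk0) _)
    rw [hSt] at h2
    exact_mod_cast h2
  have hbij : Function.Bijective φ := by
    refine (Nat.bijective_iff_injective_and_card _).2 ⟨?_, ?_⟩
    · rintro ⟨q, c⟩ ⟨q', c'⟩ e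
      have e' : (q.out : ↥(D.group F)) * ((c : ↥U) * s) * (q.out : ↥(D.group F))⁻¹ =
          (q'.out : ↥(D.group F)) * ((c' : ↥U) * s) * (q'.out : ↥(D.group F))⁻¹ := by
        have h1 := hφs (q, c)
        have h2 := hφs (q', c')
        simp only at h1 h2
        rw [← h1, ← h2, e]
      -- the p'-parts agree
      obtain ⟨k, hk⟩ := hpow c
      obtain ⟨k', hk'⟩ := hpow c'
      have hcop' : Nat.Coprime (p ^ (k + k')) (orderOf s) :=
        Nat.Coprime.pow_left _ ((Nat.Prime.coprime_iff_not_dvd hp).2 hcop)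
      obtain ⟨i, hi⟩ := exists_pow_eq_self_of_coprime hcop'
      have hck : ((c : ↥U) : ↥(D.group F)) ^ p ^ (k + k') = 1 :=
        orderOf_dvd_iff_pow_eq_one.1 (by rw [hk]; exact pow_dvd_pow p (Nat.le_add_right k k'))
      have hck' : ((c' : ↥U) : ↥(D.group F)) ^ p ^ (k + k') = 1 :=
        orderOf_dvd_iff_pow_eq_one.1 (by rw [hk']; exact pow_dvd_pow p (Nat.le_add_left k' k))
      have e2 := congrArg (fun z => (z ^ p ^ (k + k')) ^ i) e'
      simp only [conj_pow, (hcomm c).mul_pow, (hcomm c').mul_pow, hck, hck', one_mul, hi] at e2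
      obtain rfl : q = q' := by
        rw [← QuotientGroup.out_eq' q, ← QuotientGroup.out_eq' q', QuotientGroup.eq, hC0mem,
          Subgroup.coe_mul, Subgroup.coe_inv]
        calc (q.out : ↥(D.group F))⁻¹ * q'.out * s
            = (q.out : ↥(D.group F))⁻¹ * ((q'.out : ↥(D.group F)) * s * (q'.out : ↥(D.group F))⁻¹) * q'.out := by
              group
          _ = s * ((q.out : ↥(D.group F))⁻¹ * q'.out) := by rw [← e2]; group
      have e3 : ((c : ↥U) : ↥(D.group F)) = (c' : ↥U) :=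
        mul_right_cancel (mul_left_cancel (mul_right_cancel e'))
      exact Prod.ext rfl (Subtype.ext (Subtype.ext e3))
    · rw [Nat.card_prod, Subgroup.card_eq_card_quotient_mul_card_subgroup C0]
  have hsum := R.sum_stK_rad hd hJ hcusp
  rw [← Equiv.sum_comp (Equiv.ofBijective φ hbij)
    (fun u : ↥U => R.stK (Finset.range D.rank) ((u : ↥(D.group F)) * s)), Fintype.sum_prod_type] at hsum
  simp only [Equiv.ofBijective_apply, hφs, hconj] at hsum
  rw [Finset.sum_congr rfl (fun q _ => Finset.sum_eq_single (1 : ↥C0) (fun c _ hc => hzero c hc)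
    (fun h => absurd (Finset.mem_univ _) h)), Finset.sum_const, Finset.card_univ, nsmul_eq_mul,
    ← Nat.card_eq_fintype_card (α := ↥U ⧸ C0),
    Subgroup.card_eq_card_quotient_mul_card_subgroup C0, Nat.cast_mul, mul_assoc] at hsum
  simp only [OneMemClass.coe_one, one_mul] at hsum
  have hval := mul_left_cancel₀ (Nat.cast_ne_zero.2 (Nat.card_pos (α := ↥U ⧸ C0)).ne') hsum
  have hgs : R.stK (Finset.range D.rank) g = R.stK (Finset.range D.rank) s := by
    rw [← hconj a s, hs]; congr 1; group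
  -- the order of the centraliser in the radical is the whole p-part
  obtain ⟨e, he⟩ := IsPGroup.iff_card.1 (hUp.to_subgroup C0)
  set cg := Nat.card ↥(Subgroup.centralizer ({g} : Set ↥(D.group F))) with hcg
  have hcs : Nat.card ↥(Subgroup.centralizer ({s} : Set ↥(D.group F))) = cg := by
    refine Nat.card_congr ((MulAut.conj a).toEquiv.subtypeEquiv fun x => ?_)
    show x ∈ _ ↔ MulAut.conj a x ∈ _
    have : MulAut.conj a s = g := by rw [hs, MulAut.conj_apply]; group
    rw [Subgroup.mem_centralizer_singleton_iff, Subgroup.mem_centralizer_singleton_iff, ← this, ← map_mul,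
      ← map_mul, (MulAut.conj a).injective.eq_iff]
  have hle : e ≤ cg.factorization p := by
    refine (hp.pow_dvd_iff_le_factorization Nat.card_pos.ne').1 ?_
    rw [← he, ← hcg, ← hcs]
    let f : ↥C0 →* ↥(Subgroup.centralizer ({s} : Set ↥(D.group F))) :=
      { toFun := fun c => ⟨((c : ↥U) : ↥(D.group F)), Subgroup.mem_subgroupOf.1 c.2⟩
        map_one' := rfl
        map_mul' := fun _ _ => rfl }
    exact Subgroup.card_dvd_of_injective f fun x y h => Subtype.ext (Subtype.ext (congrArg Subtype.val h :))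
  obtain ⟨d, ρ, hρ, hχ⟩ := CfsgLib.Lie.Chev.isIrr_steinberg C F
  have hK : ∀ i < D.rank, i ∈ (Set.univ : Set ℕ) := fun i _ => Set.mem_univ i
  obtain ⟨m, hm⟩ := CfsgLib.CharIntegral.finrank_dvd_card ρ
  have hd1 : Module.finrank ℂ (Fin d → ℂ) = Nat.card R.UP := by
    have h := congrFun hχ 1
    rw [Representation.char_one, CfsgLib.Lie.Chev.steinberg_one C F] at h
    rw [R.card_UP_eq hK, R.nSub_univ hK, Nat.card_eq_fintype_card]
    exact_mod_cast h
  have hpm : ¬ p ∣ m := fun hpm => by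
    refine Nat.pow_succ_factorization_not_dvd (Nat.card_pos (α := ↥(D.group F))).ne' hp ?_
    rw [pow_succ, ← P.card_eq_multiplicity, hP, hm, hd1]
    exact mul_dvd_mul_left _ hpm
  have hint := CfsgLib.CharIntegral.isIntegral_central ρ g
  have hidx : ((Subgroup.centralizer ({g} : Set ↥(D.group F))).index : ℂ) * cg =
      (Module.finrank ℂ (Fin d → ℂ) : ℂ) * m := by
    rw [← Nat.cast_mul, ← Nat.cast_mul, ← hm, hcg,
      (Subgroup.centralizer ({g} : Set ↥(D.group F))).index_mul_card]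
  have hcg0 : (cg : ℂ) ≠ 0 := Nat.cast_ne_zero.2 Nat.card_pos.ne'
  have hge : cg.factorization p ≤ e := by
    have hdvd : cg ∣ m * p ^ e := by
      refine CfsgLib.CharIntegral.dvd_of_isIntegral_div Nat.card_pos.ne' ?_
      have h2 : IsIntegral ℤ ((((-1 : ℤ) ^ J.card : ℤ) : ℂ) *
          (((Subgroup.centralizer ({g} : Set ↥(D.group F))).index : ℂ) * ρ.character g /
            (Module.finrank ℂ (Fin d → ℂ) : ℂ))) := (isIntegral_algebraMap (x := ((-1 : ℤ) ^ J.card))).mul hint
      convert h2 using 1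
      rw [hχ, hSt, hgs, hval, he]
      rw [div_eq_iff hcg0]
      push_cast
      have hd0 : (Module.finrank ℂ (Fin d → ℂ) : ℂ) ≠ 0 := CfsgLib.CharIntegral.finrank_cast_ne_zero ρ
      have hsq : ((-1 : ℂ) ^ J.card) * (-1) ^ J.card = 1 := by rw [← mul_pow]; norm_num
      field_simp
      rw [sq, hsq]
      linear_combination (-((p : ℂ) ^ e)) * hidx
    have h3 : p ^ cg.factorization p ∣ m * p ^ e := (Nat.ordProj_dvd cg p).trans hdvd
    exact (Nat.pow_dvd_pow_iff_le_right hp.one_lt).1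
      ((Nat.Coprime.pow_left _ ((Nat.Prime.coprime_iff_not_dvd hp).2 hpm)).dvd_of_dvd_mul_left h3)
  rw [hSt, hgs, hval, he, le_antisymm hle hge]
  rcases neg_one_pow_eq_or ℤ J.card with h | h
  · exact Or.inl (by rw [h]; push_cast; ring)
  · exact Or.inr (by rw [h]; push_cast; ring)

end Cfsg.Agent.S2312
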