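import Cfsg.Statements.S2315
import Cfsg.Agent.Lib.Known.NilpotentCount

set_option autoImplicit false
open Cfsg

namespace Cfsg.Agent.S2315

/-- Steinberg's count of unipotent elements for the general linear group: over a finite field with q elements of characteristic p, the number of elements of GL_n of p-power order (the unipotent matrices) is q^(n(n−1)). -/
theorem result {F : Type*} [Field F] [Fintype F] (p : ℕ) [Fact p.Prime] [CharP F p] (n : ℕ) :
    Nat.card {g : Matrix.GeneralLinearGroup (Fin n) F // ∃ k : ℕ, orderOf g = p ^ k} = Fintype.card F ^ (n * (n - 1)) := by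
  classical
  have hp : p.Prime := Fact.out
  have hU : ∀ g : Matrix.GeneralLinearGroup (Fin n) F,
      (∃ k : ℕ, orderOf g = p ^ k) ↔ IsNilpotent ((g : Matrix (Fin n) (Fin n) F) - 1) := by
    intro g
    rcases isEmpty_or_nonempty (Fin n) with h | h
    · exact ⟨fun _ => ⟨1, Subsingleton.elim _ _⟩,
        fun _ => ⟨0, by rw [pow_zero, orderOf_eq_one_iff]; exact Units.ext (Subsingleton.elim _ _)⟩⟩
    have key : ∀ k, ((g : Matrix (Fin n) (Fin n) F) - 1) ^ p ^ k =
        ((g ^ p ^ k : Matrix.GeneralLinearGroup (Fin n) F) : Matrix (Fin n) (Fin n) F) - 1 := fun k => by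
      rw [sub_pow_char_pow_of_commute (p := p) (h := Commute.one_right _), one_pow, Units.val_pow_eq_pow_val]
    constructor
    · rintro ⟨k, hk⟩
      refine ⟨p ^ k, ?_⟩
      rw [key, ← hk, pow_orderOf_eq_one, Units.val_one, sub_self]
    · rintro ⟨m, hm⟩
      have h1 : ((g : Matrix (Fin n) (Fin n) F) - 1) ^ p ^ m = 0 :=
        pow_eq_zero_of_le (Nat.lt_pow_self hp.one_lt).le hm
      rw [key, sub_eq_zero] at h1
      have h2 : g ^ p ^ m = 1 := Units.ext h1
      obtain ⟨k, -, hk⟩ := (Nat.dvd_prime_pow hp).1 (orderOf_dvd_of_pow_eq_one h2)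
      exact ⟨k, hk⟩
  let A := Matrix.toLinAlgEquiv' (R := F) (n := Fin n)
  have h := CfsgLib.Known.NilpotentCount.card_nilpotent (F := F) (V := Fin n → F)
  rw [Module.finrank_fin_fun, Nat.card_eq_fintype_card (α := F)] at h
  rw [← h]
  refine Nat.card_congr
    { toFun := fun g => ⟨A ((g.1 : Matrix (Fin n) (Fin n) F) - 1), ((hU g.1).1 g.2).map A⟩
      invFun := fun T => ⟨(T.2.map A.symm).isUnit_one_add.unit, (hU _).2 (by
        rw [IsUnit.unit_spec, add_sub_cancel_left]; exact T.2.map A.symm)⟩
      left_inv := fun g => Subtype.ext (Units.ext (by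
        rw [IsUnit.unit_spec]
        show 1 + A.symm (A ((g.1 : Matrix (Fin n) (Fin n) F) - 1)) = _
        rw [AlgEquiv.symm_apply_apply, add_sub_cancel]))
      right_inv := fun T => Subtype.ext (by
        show A _ = _
        rw [IsUnit.unit_spec, add_sub_cancel_left, AlgEquiv.apply_symm_apply]) }

end Cfsg.Agent.S2315
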