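import Cfsg.Statements.S2317
import Cfsg.Agent.Lib.Known.UnipotentClasses

set_option autoImplicit false
open Cfsg

namespace Cfsg.Agent.S2317

/-- Over a finite field of characteristic p, the conjugacy classes of GL_n consisting of elements of p-power order (the unipotent classes) are as many as the partitions of n. -/
theorem result {F : Type*} [Field F] [Fintype F] (p : ℕ) [Fact p.Prime] [CharP F p] (n : ℕ) :
    Nat.card {C : ConjClasses (Matrix.GeneralLinearGroup (Fin n) F) //
      ∃ g : Matrix.GeneralLinearGroup (Fin n) F, (∃ k : ℕ, orderOf g = p ^ k) ∧ ConjClasses.mk g = C} =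
      Fintype.card (Nat.Partition n) := by
  classical
  have hp : p.Prime := Fact.out
  have hU : ∀ g : Matrix.GeneralLinearGroup (Fin n) F,
      (∃ k : ℕ, orderOf g = p ^ k) ↔ IsNilpotent ((g : Matrix (Fin n) (Fin n) F) - 1) := by
    intro g
    rcases isEmpty_or_nonempty (Fin n) with h | h
    · exact ⟨fun _ => ⟨1, Subsingleton.elim _ _⟩,
        fun _ => ⟨0, by rw [pow_zero, orderOf_eq_one_iff]; exact Units.ext (Subsingleton.elim _ _)⟩⟩
    have key : ∀ k, ((g : Matrix (Fin n) (Fin n) F) - 1) ^ p ^ k =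
        ((g ^ p ^ k : Matrix.GeneralLinearGroup (Fin n) F) : Matrix (Fin n) (Fin n) F) - 1 := fun k => by
      rw [sub_pow_char_pow_of_commute (p := p) (h := Commute.one_right _), one_pow, Units.val_pow_eq_pow_val]
    constructor
    · rintro ⟨k, hk⟩
      refine ⟨p ^ k, ?_⟩
      rw [key, ← hk, pow_orderOf_eq_one, Units.val_one, sub_self]
    · rintro ⟨m, hm⟩
      have h1 : ((g : Matrix (Fin n) (Fin n) F) - 1) ^ p ^ m = 0 :=
        pow_eq_zero_of_le (Nat.lt_pow_self hp.one_lt).le hm
      rw [key, sub_eq_zero] at h1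
      have h2 : g ^ p ^ m = 1 := Units.ext h1
      obtain ⟨k, -, hk⟩ := (Nat.dvd_prime_pow hp).1 (orderOf_dvd_of_pow_eq_one h2)
      exact ⟨k, hk⟩
  let S := {C : ConjClasses (Matrix.GeneralLinearGroup (Fin n) F) //
      ∃ g : Matrix.GeneralLinearGroup (Fin n) F, (∃ k : ℕ, orderOf g = p ^ k) ∧ ConjClasses.mk g = C}
  choose rep hrepo hrep using fun C : S => C.2
  choose μ hμpos hμsum hμprof using fun C : S =>
    CfsgLib.Known.UnipotentClasses.exists_blocks (rep C) ((hU _).1 (hrepo C))
  rw [← Nat.card_eq_fintype_card]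
  refine Nat.card_congr (Equiv.ofBijective
    (fun C : S => (⟨μ C, fun {a} ha => hμpos C a ha, hμsum C⟩ : Nat.Partition n)) ⟨fun C D h => ?_, fun ν => ?_⟩)
  · have h' : μ C = μ D := congrArg Nat.Partition.parts h
    apply Subtype.ext
    rw [← hrep C, ← hrep D]
    exact ConjClasses.mk_eq_mk_iff_isConj.2 (CfsgLib.Known.UnipotentClasses.isConj_of_rank _ _
      ((hU _).1 (hrepo C)) ((hU _).1 (hrepo D)) fun k => by rw [hμprof, hμprof, h'])
  · obtain ⟨g, hg, hgp⟩ := CfsgLib.Known.UnipotentClasses.exists_unipotent (F := F) ν.parts ν.parts_sum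
    let C : S := ⟨ConjClasses.mk g, g, (hU g).2 hg, rfl⟩
    refine ⟨C, Nat.Partition.ext ?_⟩
    show μ C = ν.parts
    exact CfsgLib.Known.Jordan.prof_injective (hμpos C) (fun a ha => ν.parts_pos ha) fun k => by
      rw [← hμprof, ← hgp]
      exact CfsgLib.Known.UnipotentClasses.rank_pow_of_isConj (ConjClasses.mk_eq_mk_iff_isConj.1 (hrep C)) k

end Cfsg.Agent.S2317
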