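import Cfsg.Statements.S2318
import Cfsg.Agent.Lib.Lie.Rel.StFacts
import Cfsg.Agent.Lib.Lie.Rel.StUnique
import Cfsg.Agent.Lib.ZStar.PrincipalBlock

set_option autoImplicit false
open Cfsg

namespace Cfsg.Agent.S2318

/-- In a Chevalley group of type G₂, B₂, D₄, F₄, E₆, E₇ or E₈ over a finite field of characteristic p (for types G₂ and B₂ the field is assumed to have at least 3 elements, so that the group is perfect), the Steinberg character is the only irreducible complex character whose degree is divisible by the full power of p dividing the group order (the only irreducible character of p-defect zero). -/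
theorem result {F : Type*} [Field F] [Fintype F] (p : ℕ) [Fact p.Prime] [CharP F p] (D : Cfsg.Lie.ChevalleyDatum) (hD : D ∈ [Cfsg.Lie.chevG2, Cfsg.Lie.chevB2, Cfsg.Lie.chevD4, Cfsg.Lie.chevF4, Cfsg.Lie.chevE6, Cfsg.Lie.chevE7, Cfsg.Lie.chevE8]) (hq : (D = Cfsg.Lie.chevG2 ∨ D = Cfsg.Lie.chevB2) → 3 ≤ Fintype.card F)
    (χ : ↥(D.group F) → ℂ) (hχ : Cfsg.IsIrrCharacter ↥(D.group F) χ)
    (hdeg : ∃ d : ℕ, χ 1 = (d : ℂ) ∧ p ^ (Nat.card ↥(D.group F)).factorization p ∣ d) :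
    χ = D.steinbergCharacter F := by
  obtain ⟨X, C, -⟩ := CfsgLib.Lie.Chev.exists_desc hD
  classical
  have : Finite ↥(D.group F) := (CfsgLib.Lie.Chev.chevRel C F).Finite_of_field
  let _ : Fintype ↥(D.group F) := Fintype.ofFinite _
  have hp : p.Prime := Fact.out
  set a := (Nat.card ↥(D.group F)).factorization p with ha
  have key : ∀ ψ : ↥(D.group F) → ℂ, Cfsg.IsIrrCharacter ↥(D.group F) ψ →
      (∃ d : ℕ, ψ 1 = (d : ℂ) ∧ p ^ a ∣ d) →
      ∃ m : ℕ, (Nat.card ↥(D.group F) : ℂ) = ψ 1 * m ∧ ¬ p ∣ m := by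
    rintro ψ ⟨n, ρ, hρ, rfl⟩ ⟨d, hd, hdvd⟩
    obtain ⟨m, hm⟩ := CfsgLib.CharIntegral.finrank_dvd_card ρ
    rw [Representation.char_one, Nat.cast_inj] at hd
    refine ⟨m, by rw [Representation.char_one, hm, Nat.cast_mul], fun hpm => ?_⟩
    refine Nat.pow_succ_factorization_not_dvd (Nat.card_pos (α := ↥(D.group F))).ne' hp ?_
    rw [← ha, pow_succ, hm, hd]
    exact mul_dvd_mul hdvd hpm
  obtain ⟨P, hP⟩ := CfsgLib.Lie.Chev.exists_sylow_UP C F p
  have hSt : ∃ d : ℕ, D.steinbergCharacter F 1 = (d : ℂ) ∧ p ^ a ∣ d := by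
    refine ⟨Fintype.card F ^ (D.nroots / 2), by rw [CfsgLib.Lie.Chev.steinberg_one C F]; push_cast; rfl, ?_⟩
    have hK : ∀ i < D.rank, i ∈ (Set.univ : Set ℕ) := fun i _ => Set.mem_univ i
    rw [ha, ← P.card_eq_multiplicity, hP, (CfsgLib.Lie.Chev.chevRel C F).card_UP_eq hK,
      (CfsgLib.Lie.Chev.chevRel C F).nSub_univ hK, Nat.card_eq_fintype_card]
  obtain ⟨M, hM⟩ := CfsgLib.ZStar.exists_isPModular hp
  have := hM.2.1.isPrime
  have := CfsgLib.Blocks.charP_residueField hM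
  have hI := CfsgLib.Lie.Chev.isIrr_steinberg C F
  obtain ⟨m, hm, hpm⟩ := key χ hχ hdeg
  obtain ⟨m', hm', hpm'⟩ := key _ hI hSt
  obtain ⟨A, hA⟩ := CfsgLib.DefectZeroIdem.exists_datum hM hχ hm hpm
  obtain ⟨B, hB⟩ := CfsgLib.DefectZeroIdem.exists_datum hM hI hm' hpm'
  by_contra hne
  refine (CfsgLib.Lie.Chev.chevRel C F).not_orthogonal p (hP ▸ P.isPGroup') A B fun g => ?_
  rw [hA, hB]
  exact CfsgLib.DefectZeroIdem.red_orthogonal hI hχ (Ne.symm hne) g

end Cfsg.Agent.S2318
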