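import Cfsg.Statements.S2320
import Cfsg.Agent.Lib.Known.SL2Char.TableGL

set_option autoImplicit false
open Cfsg

namespace Cfsg.Agent.S2320

/-- Over a finite field F with q elements, every irreducible complex character of GL₂ of degree q takes a value of absolute value 1 at every diagonal matrix with two different diagonal entries and at every element with no eigenvector in F². -/
theorem result {F : Type*} [Field F] [Fintype F] (χ : Matrix.GeneralLinearGroup (Fin 2) F → ℂ) (hχ : Cfsg.IsIrrCharacter (Matrix.GeneralLinearGroup (Fin 2) F) χ) (hdeg : χ 1 = (Fintype.card F : ℂ)) (g : Matrix.GeneralLinearGroup (Fin 2) F) :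
    ((g : Matrix (Fin 2) (Fin 2) F) 0 1 = 0 → (g : Matrix (Fin 2) (Fin 2) F) 1 0 = 0 → (g : Matrix (Fin 2) (Fin 2) F) 0 0 ≠ (g : Matrix (Fin 2) (Fin 2) F) 1 1 → ‖χ g‖ = 1) ∧
    ((∀ (c : F) (v : Fin 2 → F), v ≠ 0 → (g : Matrix (Fin 2) (Fin 2) F).mulVec v ≠ c • v) → ‖χ g‖ = 1) := by
  classical
  have := Fintype.ofFinite (Matrix.GeneralLinearGroup (Fin 2) F)
  have := Fintype.ofFinite (CfsgLib.SL2Char.Orbits (⊤ : Subgroup Fˣ))
  obtain ⟨g₀, hg₀⟩ := CfsgLib.SL2Char.exists_elliptic (F := F)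
  obtain ⟨ψ, hψ⟩ := CfsgLib.SL2Char.exists_addChar (F := F)
  obtain ⟨L, T, P, C, iL, iT, iP, iC, hall, lL, lT, lP, lC, cL, cT, cP, cC, ctot⟩ :=
    CfsgLib.SL2Char.tableGL hg₀ hψ
  have hq2 : 1 < Fintype.card F := Fintype.one_lt_card
  obtain ⟨α, rfl⟩ := lT χ ((iT χ).2 ⟨hχ, hdeg⟩)
  have hnorm : ∀ x : F, x ≠ 0 → ‖α x‖ = 1 := fun x hx => by
    refine Complex.norm_eq_one_of_pow_eq_one (n := Fintype.card F - 1) ?_ (by omega)
    rw [← map_pow, FiniteField.pow_card_sub_one_eq_one x hx, map_one]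
  have hdet := ((Matrix.isUnit_iff_isUnit_det _).1 g.isUnit).ne_zero
  refine ⟨fun h01 h10 hne => ?_, fun hell => ?_⟩
  · have h10' : CfsgLib.SL2Char.MGL g 1 0 = 0 := h10
    have hne' : CfsgLib.SL2Char.MGL g 0 0 ≠ CfsgLib.SL2Char.MGL g 1 1 := hne
    rw [Matrix.det_fin_two, h01, h10, mul_zero, sub_zero] at hdet
    have e : CfsgLib.SL2Char.stGL α g =
        α ((g : Matrix (Fin 2) (Fin 2) F) 0 0 * (g : Matrix (Fin 2) (Fin 2) F) 1 1) := by
      rw [CfsgLib.SL2Char.stGL, Pi.sub_apply, CfsgLib.SL2Char.prGL_upper α α h10', if_neg hne',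
        CfsgLib.SL2Char.detChar, CfsgLib.SL2Char.det_upper h10', map_mul, CfsgLib.SL2Char.MGL_apply,
        map_mul]
      ring
    rw [e]
    exact hnorm _ hdet
  · rw [CfsgLib.SL2Char.stGL, Pi.sub_apply, CfsgLib.SL2Char.prGL_elliptic α α hell, zero_sub, norm_neg]
    exact hnorm _ hdet

end Cfsg.Agent.S2320
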