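import Cfsg.Statements.S2321
import Cfsg.Agent.Lib.Known.SL2Char.Values
import Cfsg.Agent.Lib.Known.SL2Char.TableGL
import Cfsg.Agent.Lib.Known.SL2Char.TableSLEven

set_option autoImplicit false
open Cfsg

namespace Cfsg.Agent.S2321

/-- Over a finite field F with q elements, an irreducible complex character of SL₂ of degree q (the Steinberg character) takes the value 1 at every diagonal matrix whose diagonal entry a has a² ≠ 1, the value −1 at every element with no eigenvector in F², and the value 0 at every upper triangular matrix with equal diagonal entries and non-zero upper right entry. -/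
theorem result {F : Type*} [Field F] [Fintype F] (χ : Matrix.SpecialLinearGroup (Fin 2) F → ℂ) (hχ : Cfsg.IsIrrCharacter (Matrix.SpecialLinearGroup (Fin 2) F) χ) (hdeg : χ 1 = (Fintype.card F : ℂ)) (g : Matrix.SpecialLinearGroup (Fin 2) F) :
    ((g : Matrix (Fin 2) (Fin 2) F) 0 1 = 0 → (g : Matrix (Fin 2) (Fin 2) F) 1 0 = 0 → (g : Matrix (Fin 2) (Fin 2) F) 0 0 ^ 2 ≠ 1 → χ g = 1) ∧
    ((∀ (c : F) (v : Fin 2 → F), v ≠ 0 → (g : Matrix (Fin 2) (Fin 2) F).mulVec v ≠ c • v) → χ g = -1) ∧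
    ((g : Matrix (Fin 2) (Fin 2) F) 1 0 = 0 → (g : Matrix (Fin 2) (Fin 2) F) 0 0 = (g : Matrix (Fin 2) (Fin 2) F) 1 1 → (g : Matrix (Fin 2) (Fin 2) F) 0 1 ≠ 0 → χ g = 0) := by
  classical
  have := Fintype.ofFinite (Matrix.SpecialLinearGroup (Fin 2) F)
  have hst : χ = CfsgLib.SL2Char.stSL := by
    have := Fintype.ofFinite (CfsgLib.SL2Char.Orbits (⊥ : Subgroup Fˣ))
    obtain ⟨g₀, hg₀⟩ := CfsgLib.SL2Char.exists_elliptic (F := F)
    have := Fintype.ofFinite (Matrix.GeneralLinearGroup (Fin 2) F)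
    obtain ⟨ψ, hψ⟩ := CfsgLib.SL2Char.exists_addChar (F := F)
    have hq2 : 1 < Fintype.card F := Fintype.one_lt_card
    rcases (Fintype.card F).even_or_odd with heven | hodd
    · obtain ⟨P, C, iP, iC, vP, vC, cP, cC, ctot, hall⟩ := CfsgLib.SL2Char.tableSLEven hg₀ hψ heven
      rcases (hall χ).1 hχ with rfl | h | h | h
      · exfalso
        rw [Pi.one_apply] at hdeg
        exact absurd (show ((1 : ℕ) : ℂ) = (Fintype.card F : ℂ) by simpa using hdeg)
          (by rw [Nat.cast_inj]; omega)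
      · exact h
      · have e := (vP χ h).2
        rw [hdeg] at e
        exact absurd (show (0 : ℂ) = 1 by linear_combination e) zero_ne_one
      · have e := (vC χ h).2
        rw [hdeg] at e
        exact absurd (show (0 : ℂ) = 1 by linear_combination -e) zero_ne_one
    · obtain ⟨θ₀, a, b, c, d, P, C, hθ1, hθ0, hab, hcd, hA, hB, ha, hb, hc, hd, sab, scd, hsw, iP, iC, vP, vC,
        cP, cC, ctot, hall⟩ := CfsgLib.SL2Char.tableSLOdd hg₀ hψ hodd
      obtain ⟨m, hm⟩ := id hodd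
      have e6 : (Fintype.card F + 1) / 2 = m + 1 ∧ (Fintype.card F - 1) / 2 = m := ⟨by omega, by omega⟩
      have dA : ∀ {X σ} {f : Matrix.SpecialLinearGroup (Fin 2) F → ℂ},
          CfsgLib.SL2Char.Half ψ 1 σ X f → f 1 = ((m + 1 : ℕ) : ℂ) := fun h => by
        have e := h.deg
        rw [hm] at e
        push_cast at e ⊢
        linear_combination e / 2
      have dC : ∀ {X σ} {f : Matrix.SpecialLinearGroup (Fin 2) F → ℂ},
          CfsgLib.SL2Char.Half ψ (-1) σ X f → f 1 = ((m : ℕ) : ℂ) := fun h => by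
        have e := h.deg
        rw [hm] at e
        push_cast at e ⊢
        linear_combination e / 2
      have hQ : (Fintype.card F : ℂ) = ((2 * m + 1 : ℕ) : ℂ) := by rw [hm]
      have hQ1 : (Fintype.card F : ℂ) + 1 = ((2 * m + 2 : ℕ) : ℂ) := by rw [hQ]; push_cast; ring
      have hQ2 : (Fintype.card F : ℂ) - 1 = ((2 * m : ℕ) : ℂ) := by rw [hQ]; push_cast; ring
      have h1C : (1 : ℂ) = ((1 : ℕ) : ℂ) := Nat.cast_one.symm
      have hDG : ∀ f, Cfsg.IsIrrCharacter (Matrix.SpecialLinearGroup (Fin 2) F) f →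
          (f = 1 ∧ f 1 = ((1 : ℕ) : ℂ)) ∨
          (f = CfsgLib.SL2Char.stSL ∧ f 1 = ((2 * m + 1 : ℕ) : ℂ)) ∨
          (f ∈ P ∧ f 1 = ((2 * m + 2 : ℕ) : ℂ)) ∨ (f ∈ C ∧ f 1 = ((2 * m : ℕ) : ℂ)) ∨
          ((f = a ∨ f = b) ∧ f 1 = ((m + 1 : ℕ) : ℂ)) ∨ ((f = c ∨ f = d) ∧ f 1 = ((m : ℕ) : ℂ)) := by
        intro f hf
        rcases (hall f).1 hf with rfl | rfl | h | h | rfl | rfl | rfl | rfl
        · exact Or.inl ⟨rfl, by simp⟩
        · exact Or.inr (Or.inl ⟨rfl, CfsgLib.SL2Char.stSL_one.trans hQ⟩)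
        · exact Or.inr (Or.inr (Or.inl ⟨h, (vP f h).2.trans hQ1⟩))
        · exact Or.inr (Or.inr (Or.inr (Or.inl ⟨h, (vC f h).2.trans hQ2⟩)))
        · exact Or.inr (Or.inr (Or.inr (Or.inr (Or.inl ⟨Or.inl rfl, dA ha⟩))))
        · exact Or.inr (Or.inr (Or.inr (Or.inr (Or.inl ⟨Or.inr rfl, dA hb⟩))))
        · exact Or.inr (Or.inr (Or.inr (Or.inr (Or.inr ⟨Or.inl rfl, dC hc⟩))))
        · exact Or.inr (Or.inr (Or.inr (Or.inr (Or.inr ⟨Or.inr rfl, dC hd⟩))))
      have key : ∀ (f : Matrix.SpecialLinearGroup (Fin 2) F → ℂ) (n : ℕ),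
          Cfsg.IsIrrCharacter (Matrix.SpecialLinearGroup (Fin 2) F) f → f 1 = (n : ℂ) →
          (n = 2 * m + 1 → f = CfsgLib.SL2Char.stSL) ∧ (n = 2 * m + 2 → f ∈ P) ∧
            (n = 2 * m → f ∈ C ∨ (m = 1 ∧ (f = a ∨ f = b))) ∧
            (n = m + 1 → (f = a ∨ f = b) ∨ (m = 1 ∧ f ∈ C)) ∧ (n = m → (f = c ∨ f = d) ∨ m = 1) := by
        intro f n hf hn
        have hm1 : 1 ≤ m := by omega
        rcases hDG f hf with ⟨h, e⟩ | ⟨h, e⟩ | ⟨h, e⟩ | ⟨h, e⟩ | ⟨h, e⟩ | ⟨h, e⟩ <;>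
          (rw [hn, Nat.cast_inj] at e; subst e;
            refine ⟨fun e => ?_, fun e => ?_, fun e => ?_, fun e => ?_, fun e => ?_⟩ <;>
              first
                | exact h
                | exact Or.inl h
                | exact Or.inr ⟨by omega, h⟩
                | exact Or.inr (by omega)
                | omega)
      exact (key χ _ hχ (hdeg.trans hQ)).1 rfl
  subst hst
  exact ⟨fun _ h10 ha => CfsgLib.SL2Char.stSL_diag h10 (CfsgLib.SL2Char.diag_ne h10 ha),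
    fun h => CfsgLib.SL2Char.stSL_elliptic h, fun h10 ha hb => CfsgLib.SL2Char.stSL_unipotent h10 ha hb⟩

end Cfsg.Agent.S2321
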