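import Cfsg.Statements.S2322
import Cfsg.Agent.Lib.Known.SL2Char.Values
import Cfsg.Agent.Lib.Known.SL2Char.TableGL

set_option autoImplicit false
open Cfsg

namespace Cfsg.Agent.S2322

/-- Over a finite field F with q elements, q odd: every irreducible complex character of SL₂ of degree q − 1 or (q − 1)/2 vanishes at every diagonal matrix whose diagonal entry a has a² ≠ 1, and every irreducible complex character of degree q + 1 or (q + 1)/2 vanishes at every element with no eigenvector in F². -/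
theorem result {F : Type*} [Field F] [Fintype F] (hodd : Odd (Fintype.card F)) (χ : Matrix.SpecialLinearGroup (Fin 2) F → ℂ) (hχ : Cfsg.IsIrrCharacter (Matrix.SpecialLinearGroup (Fin 2) F) χ) (g : Matrix.SpecialLinearGroup (Fin 2) F) :
    ((χ 1 = (Fintype.card F : ℂ) - 1 ∨ χ 1 = (((Fintype.card F - 1) / 2 : ℕ) : ℂ)) →
      (g : Matrix (Fin 2) (Fin 2) F) 0 1 = 0 → (g : Matrix (Fin 2) (Fin 2) F) 1 0 = 0 → (g : Matrix (Fin 2) (Fin 2) F) 0 0 ^ 2 ≠ 1 → χ g = 0) ∧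
    ((χ 1 = (Fintype.card F : ℂ) + 1 ∨ χ 1 = (((Fintype.card F + 1) / 2 : ℕ) : ℂ)) →
      (∀ (c : F) (v : Fin 2 → F), v ≠ 0 → (g : Matrix (Fin 2) (Fin 2) F).mulVec v ≠ c • v) → χ g = 0) := by
  classical
  refine ⟨fun hdg h01 h10 ha => ?_, fun hdg hell => ?_⟩
  · have := Fintype.ofFinite (Matrix.SpecialLinearGroup (Fin 2) F)
    have := Fintype.ofFinite (CfsgLib.SL2Char.Orbits (⊥ : Subgroup Fˣ))
    obtain ⟨g₀, hg₀⟩ := CfsgLib.SL2Char.exists_elliptic (F := F)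
    have := Fintype.ofFinite (Matrix.GeneralLinearGroup (Fin 2) F)
    obtain ⟨ψ, hψ⟩ := CfsgLib.SL2Char.exists_addChar (F := F)
    have hq2 : 1 < Fintype.card F := Fintype.one_lt_card
    obtain ⟨θ₀, a, b, c, d, P, C, hθ1, hθ0, hab, hcd, hA, hB, hA₁, hb, hc, hd, sab, scd, hsw, iP, iC, vP, vC,
      cP, cC, ctot, hall⟩ := CfsgLib.SL2Char.tableSLOdd hg₀ hψ hodd
    obtain ⟨m, hm⟩ := id hodd
    have e6 : (Fintype.card F + 1) / 2 = m + 1 ∧ (Fintype.card F - 1) / 2 = m := ⟨by omega, by omega⟩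
    have dA : ∀ {X σ} {f : Matrix.SpecialLinearGroup (Fin 2) F → ℂ},
        CfsgLib.SL2Char.Half ψ 1 σ X f → f 1 = ((m + 1 : ℕ) : ℂ) := fun h => by
      have e := h.deg
      rw [hm] at e
      push_cast at e ⊢
      linear_combination e / 2
    have dC : ∀ {X σ} {f : Matrix.SpecialLinearGroup (Fin 2) F → ℂ},
        CfsgLib.SL2Char.Half ψ (-1) σ X f → f 1 = ((m : ℕ) : ℂ) := fun h => by
      have e := h.deg
      rw [hm] at e
      push_cast at e ⊢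
      linear_combination e / 2
    have hQ : (Fintype.card F : ℂ) = ((2 * m + 1 : ℕ) : ℂ) := by rw [hm]
    have hQ1 : (Fintype.card F : ℂ) + 1 = ((2 * m + 2 : ℕ) : ℂ) := by rw [hQ]; push_cast; ring
    have hQ2 : (Fintype.card F : ℂ) - 1 = ((2 * m : ℕ) : ℂ) := by rw [hQ]; push_cast; ring
    have h1C : (1 : ℂ) = ((1 : ℕ) : ℂ) := Nat.cast_one.symm
    have hDG : ∀ f, Cfsg.IsIrrCharacter (Matrix.SpecialLinearGroup (Fin 2) F) f →
        (f = 1 ∧ f 1 = ((1 : ℕ) : ℂ)) ∨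
        (f = CfsgLib.SL2Char.stSL ∧ f 1 = ((2 * m + 1 : ℕ) : ℂ)) ∨
        (f ∈ P ∧ f 1 = ((2 * m + 2 : ℕ) : ℂ)) ∨ (f ∈ C ∧ f 1 = ((2 * m : ℕ) : ℂ)) ∨
        ((f = a ∨ f = b) ∧ f 1 = ((m + 1 : ℕ) : ℂ)) ∨ ((f = c ∨ f = d) ∧ f 1 = ((m : ℕ) : ℂ)) := by
      intro f hf
      rcases (hall f).1 hf with rfl | rfl | h | h | rfl | rfl | rfl | rfl
      · exact Or.inl ⟨rfl, by simp⟩
      · exact Or.inr (Or.inl ⟨rfl, CfsgLib.SL2Char.stSL_one.trans hQ⟩)
      · exact Or.inr (Or.inr (Or.inl ⟨h, (vP f h).2.trans hQ1⟩))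
      · exact Or.inr (Or.inr (Or.inr (Or.inl ⟨h, (vC f h).2.trans hQ2⟩)))
      · exact Or.inr (Or.inr (Or.inr (Or.inr (Or.inl ⟨Or.inl rfl, dA hA₁⟩))))
      · exact Or.inr (Or.inr (Or.inr (Or.inr (Or.inl ⟨Or.inr rfl, dA hb⟩))))
      · exact Or.inr (Or.inr (Or.inr (Or.inr (Or.inr ⟨Or.inl rfl, dC hc⟩))))
      · exact Or.inr (Or.inr (Or.inr (Or.inr (Or.inr ⟨Or.inr rfl, dC hd⟩))))
    have key : ∀ (f : Matrix.SpecialLinearGroup (Fin 2) F → ℂ) (n : ℕ),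
        Cfsg.IsIrrCharacter (Matrix.SpecialLinearGroup (Fin 2) F) f → f 1 = (n : ℂ) →
        (n = 2 * m + 1 → f = CfsgLib.SL2Char.stSL) ∧ (n = 2 * m + 2 → f ∈ P) ∧
          (n = 2 * m → f ∈ C ∨ (m = 1 ∧ (f = a ∨ f = b))) ∧
          (n = m + 1 → (f = a ∨ f = b) ∨ (m = 1 ∧ f ∈ C)) ∧ (n = m → (f = c ∨ f = d) ∨ m = 1) := by
      intro f n hf hn
      have hm1 : 1 ≤ m := by omega
      rcases hDG f hf with ⟨h, e⟩ | ⟨h, e⟩ | ⟨h, e⟩ | ⟨h, e⟩ | ⟨h, e⟩ | ⟨h, e⟩ <;>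
        (rw [hn, Nat.cast_inj] at e; subst e;
          refine ⟨fun e => ?_, fun e => ?_, fun e => ?_, fun e => ?_, fun e => ?_⟩ <;>
            first
              | exact h
              | exact Or.inl h
              | exact Or.inr ⟨by omega, h⟩
              | exact Or.inr (by omega)
              | omega)
    have hne := CfsgLib.SL2Char.diag_ne h10 ha
    have hd₂ : CfsgLib.PLocal.SLTwo.tr g ^ 2 ≠ 4 := fun e => hne (sub_eq_zero.1 (mul_self_eq_zero.1 (by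
      have hdet := CfsgLib.PLocal.SLTwo.det2 g
      rw [h10, mul_zero, sub_zero] at hdet
      simp only [CfsgLib.PLocal.SLTwo.tr] at e
      linear_combination e - 4 * hdet)))
    have hm2 : m ≠ 1 := fun h => by
      have h3 : Fintype.card F = 3 := by omega
      have h0 : (g : Matrix (Fin 2) (Fin 2) F) 0 0 ≠ 0 := left_ne_zero_of_mul_eq_one (b := g.1 1 1) (by
        have hdet := CfsgLib.PLocal.SLTwo.det2 g
        rwa [h10, mul_zero, sub_zero] at hdet)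
      have := FiniteField.pow_card_sub_one_eq_one _ h0
      rw [h3] at this
      exact ha this
    have hC0 : ∀ f ∈ C, f g = 0 := fun f hf => by
      obtain ⟨θ, -, rfl⟩ := (iC f).1 hf
      exact CfsgLib.SL2Char.cuspSL_diag hg₀ θ h10 hne
    have hcd0 : ∀ {f σ}, CfsgLib.SL2Char.Half ψ (-1) σ (CfsgLib.SL2Char.cuspSL ψ θ₀) f → f g = 0 := fun h => by
      have e := h.ss g hd₂
      rw [CfsgLib.SL2Char.cuspSL_diag hg₀ θ₀ h10 hne] at e
      linear_combination e / 2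
    rcases hdg with e | e
    · exact hC0 χ (((key χ _ hχ (e.trans hQ2)).2.2.1 rfl).resolve_right fun h => hm2 h.1)
    · rw [e6.2] at e
      rcases ((key χ _ hχ e).2.2.2.2 rfl).resolve_right hm2 with rfl | rfl
      exacts [hcd0 hc, hcd0 hd]
  · have := Fintype.ofFinite (Matrix.SpecialLinearGroup (Fin 2) F)
    have := Fintype.ofFinite (CfsgLib.SL2Char.Orbits (⊥ : Subgroup Fˣ))
    obtain ⟨g₀, hg₀, c₀, hc₀⟩ : ∃ g₀ : Matrix.GeneralLinearGroup (Fin 2) F,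
        CfsgLib.SL2Char.Elliptic (g₀ : Matrix (Fin 2) (Fin 2) F) ∧
        ∃ c : CfsgLib.SL2Char.torus
          (Matrix.SpecialLinearGroup.toGL :
            Matrix.SpecialLinearGroup (Fin 2) F →* Matrix.GeneralLinearGroup (Fin 2) F) g₀,
          (c : Matrix.SpecialLinearGroup (Fin 2) F) = g :=
      ⟨Matrix.SpecialLinearGroup.toGL g, hell, ⟨g, Subgroup.mem_centralizer_singleton_iff.2 rfl⟩, rfl⟩
    have := Fintype.ofFinite (Matrix.GeneralLinearGroup (Fin 2) F)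
    obtain ⟨ψ, hψ⟩ := CfsgLib.SL2Char.exists_addChar (F := F)
    have hq2 : 1 < Fintype.card F := Fintype.one_lt_card
    obtain ⟨θ₀, a, b, c, d, P, C, hθ1, hθ0, hab, hcd, hA, hB, ha, hb, hc, hd, sab, scd, hsw, iP, iC, vP, vC,
      cP, cC, ctot, hall⟩ := CfsgLib.SL2Char.tableSLOdd hg₀ hψ hodd
    obtain ⟨m, hm⟩ := id hodd
    have e6 : (Fintype.card F + 1) / 2 = m + 1 ∧ (Fintype.card F - 1) / 2 = m := ⟨by omega, by omega⟩
    have dA : ∀ {X σ} {f : Matrix.SpecialLinearGroup (Fin 2) F → ℂ},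
        CfsgLib.SL2Char.Half ψ 1 σ X f → f 1 = ((m + 1 : ℕ) : ℂ) := fun h => by
      have e := h.deg
      rw [hm] at e
      push_cast at e ⊢
      linear_combination e / 2
    have dC : ∀ {X σ} {f : Matrix.SpecialLinearGroup (Fin 2) F → ℂ},
        CfsgLib.SL2Char.Half ψ (-1) σ X f → f 1 = ((m : ℕ) : ℂ) := fun h => by
      have e := h.deg
      rw [hm] at e
      push_cast at e ⊢
      linear_combination e / 2
    have hQ : (Fintype.card F : ℂ) = ((2 * m + 1 : ℕ) : ℂ) := by rw [hm]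
    have hQ1 : (Fintype.card F : ℂ) + 1 = ((2 * m + 2 : ℕ) : ℂ) := by rw [hQ]; push_cast; ring
    have hQ2 : (Fintype.card F : ℂ) - 1 = ((2 * m : ℕ) : ℂ) := by rw [hQ]; push_cast; ring
    have h1C : (1 : ℂ) = ((1 : ℕ) : ℂ) := Nat.cast_one.symm
    have hDG : ∀ f, Cfsg.IsIrrCharacter (Matrix.SpecialLinearGroup (Fin 2) F) f →
        (f = 1 ∧ f 1 = ((1 : ℕ) : ℂ)) ∨
        (f = CfsgLib.SL2Char.stSL ∧ f 1 = ((2 * m + 1 : ℕ) : ℂ)) ∨
        (f ∈ P ∧ f 1 = ((2 * m + 2 : ℕ) : ℂ)) ∨ (f ∈ C ∧ f 1 = ((2 * m : ℕ) : ℂ)) ∨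
        ((f = a ∨ f = b) ∧ f 1 = ((m + 1 : ℕ) : ℂ)) ∨ ((f = c ∨ f = d) ∧ f 1 = ((m : ℕ) : ℂ)) := by
      intro f hf
      rcases (hall f).1 hf with rfl | rfl | h | h | rfl | rfl | rfl | rfl
      · exact Or.inl ⟨rfl, by simp⟩
      · exact Or.inr (Or.inl ⟨rfl, CfsgLib.SL2Char.stSL_one.trans hQ⟩)
      · exact Or.inr (Or.inr (Or.inl ⟨h, (vP f h).2.trans hQ1⟩))
      · exact Or.inr (Or.inr (Or.inr (Or.inl ⟨h, (vC f h).2.trans hQ2⟩)))
      · exact Or.inr (Or.inr (Or.inr (Or.inr (Or.inl ⟨Or.inl rfl, dA ha⟩))))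
      · exact Or.inr (Or.inr (Or.inr (Or.inr (Or.inl ⟨Or.inr rfl, dA hb⟩))))
      · exact Or.inr (Or.inr (Or.inr (Or.inr (Or.inr ⟨Or.inl rfl, dC hc⟩))))
      · exact Or.inr (Or.inr (Or.inr (Or.inr (Or.inr ⟨Or.inr rfl, dC hd⟩))))
    have key : ∀ (f : Matrix.SpecialLinearGroup (Fin 2) F → ℂ) (n : ℕ),
        Cfsg.IsIrrCharacter (Matrix.SpecialLinearGroup (Fin 2) F) f → f 1 = (n : ℂ) →
        (n = 2 * m + 1 → f = CfsgLib.SL2Char.stSL) ∧ (n = 2 * m + 2 → f ∈ P) ∧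
          (n = 2 * m → f ∈ C ∨ (m = 1 ∧ (f = a ∨ f = b))) ∧
          (n = m + 1 → (f = a ∨ f = b) ∨ (m = 1 ∧ f ∈ C)) ∧ (n = m → (f = c ∨ f = d) ∨ m = 1) := by
      intro f n hf hn
      have hm1 : 1 ≤ m := by omega
      rcases hDG f hf with ⟨h, e⟩ | ⟨h, e⟩ | ⟨h, e⟩ | ⟨h, e⟩ | ⟨h, e⟩ | ⟨h, e⟩ <;>
        (rw [hn, Nat.cast_inj] at e; subst e;
          refine ⟨fun e => ?_, fun e => ?_, fun e => ?_, fun e => ?_, fun e => ?_⟩ <;>
            first
              | exact h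
              | exact Or.inl h
              | exact Or.inr ⟨by omega, h⟩
              | exact Or.inr (by omega)
              | omega)
    have hab0 : ∀ {f σ}, CfsgLib.SL2Char.Half ψ 1 σ (CfsgLib.SL2Char.prSL (CfsgLib.SL2Char.qcC F)) f →
        f g = 0 := fun h => by
      have e := h.ss g (CfsgLib.SL2Char.tr_sq_ne_of_elliptic hell)
      rw [CfsgLib.SL2Char.prSL_elliptic _ hell] at e
      linear_combination e / 2
    rcases hdg with e | e
    · obtain ⟨α, -, rfl⟩ := (iP χ).1 ((key χ _ hχ (e.trans hQ1)).2.1 rfl)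
      exact CfsgLib.SL2Char.prSL_elliptic _ hell
    · rw [e6.1] at e
      rcases (key χ _ hχ e).2.2.2.1 rfl with (rfl | rfl) | ⟨hm1, h⟩
      · exact hab0 ha
      · exact hab0 hb
      · obtain ⟨θ, hθ, rfl⟩ := (iC χ).1 h
        have h3 : Fintype.card F = 3 := by omega
        have hc' : CfsgLib.SL2Char.Elliptic (c₀ : Matrix.SpecialLinearGroup (Fin 2) F).1 := by
          rw [hc₀]; exact hell
        have ev := CfsgLib.SL2Char.cuspSL_ell hg₀ (ψ := ψ) θ hc'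
        rw [hc₀, h3, pow_succ', CfsgLib.SL2Char.theta_three hg₀ h3 hθ hc'] at ev
        rw [ev]
        ring

end Cfsg.Agent.S2322
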