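import Cfsg.Statements.S2323
import Cfsg.Agent.Lib.Known.SL2Char.Values
import Cfsg.Agent.Lib.Known.SL2Char.TableGL
import Cfsg.Agent.Lib.Known.SL2Char.TableSLEven

set_option autoImplicit false
open Cfsg

namespace Cfsg.Agent.S2323

/-- Over a finite field F with q ≥ 4 elements, let u be the upper unitriangular matrix of SL₂ with off-diagonal entry 1. An irreducible complex character of SL₂ takes at u the value 1 if its degree is q + 1 and the value −1 if its degree is q − 1. -/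
theorem result {F : Type*} [Field F] [Fintype F] (hq : 4 ≤ Fintype.card F) (χ : Matrix.SpecialLinearGroup (Fin 2) F → ℂ) (hχ : Cfsg.IsIrrCharacter (Matrix.SpecialLinearGroup (Fin 2) F) χ)
    (u : Matrix.SpecialLinearGroup (Fin 2) F) (hu : (u : Matrix (Fin 2) (Fin 2) F) = !![1, 1; 0, 1]) :
    (χ 1 = (Fintype.card F : ℂ) + 1 → χ u = 1) ∧ (χ 1 = (Fintype.card F : ℂ) - 1 → χ u = -1) := by
  classical
  have := Fintype.ofFinite (Matrix.SpecialLinearGroup (Fin 2) F)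
  have := Fintype.ofFinite (CfsgLib.SL2Char.Orbits (⊥ : Subgroup Fˣ))
  obtain ⟨g₀, hg₀⟩ := CfsgLib.SL2Char.exists_elliptic (F := F)
  have := Fintype.ofFinite (Matrix.GeneralLinearGroup (Fin 2) F)
  obtain ⟨ψ, hψ⟩ := CfsgLib.SL2Char.exists_addChar (F := F)
  have hq2 : 1 < Fintype.card F := Fintype.one_lt_card
  have hu1 : u = CfsgLib.PLocal.SLTwo.U 1 := Subtype.ext hu
  subst hu1
  suffices h : ∀ P C : Finset (Matrix.SpecialLinearGroup (Fin 2) F → ℂ),
      (∀ f ∈ P, ∃ α, f = CfsgLib.SL2Char.prSL α) → (∀ f ∈ C, ∃ θ, f = CfsgLib.SL2Char.cuspSL (g₀ := g₀) ψ θ) →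
      (χ 1 = (Fintype.card F : ℂ) + 1 → χ ∈ P) → (χ 1 = (Fintype.card F : ℂ) - 1 → χ ∈ C) →
      (χ 1 = (Fintype.card F : ℂ) + 1 → χ (CfsgLib.PLocal.SLTwo.U 1) = 1) ∧
        (χ 1 = (Fintype.card F : ℂ) - 1 → χ (CfsgLib.PLocal.SLTwo.U 1) = -1) by
    rcases (Fintype.card F).even_or_odd with heven | hodd
    · obtain ⟨P, C, iP, iC, vP, vC, cP, cC, ctot, hall⟩ := CfsgLib.SL2Char.tableSLEven hg₀ hψ heven
      refine h P C (fun f hf => ?_) (fun f hf => ?_) (fun e => ?_) fun e => ?_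
      · obtain ⟨α, -, rfl⟩ := (iP f).1 hf
        exact ⟨α, rfl⟩
      · obtain ⟨θ, -, rfl⟩ := (iC f).1 hf
        exact ⟨θ, rfl⟩
      all_goals
        have hne : ∀ x y : ℝ, (x : ℂ) = (y : ℂ) → x = y := fun x y => Complex.ofReal_inj.1
        have hq4 : (4 : ℝ) ≤ Fintype.card F := by exact_mod_cast hq
        rcases (hall χ).1 hχ with rfl | rfl | h' | h'
      · have := congrArg Complex.re ((Pi.one_apply _).symm.trans e); simp at this <;> linarith
      · have := congrArg Complex.re (CfsgLib.SL2Char.stSL_one.symm.trans e); simp at this <;> linarith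
      · exact h'
      · have := congrArg Complex.re ((vC χ h').2.symm.trans e); simp at this <;> linarith
      · have := congrArg Complex.re ((Pi.one_apply _).symm.trans e); simp at this <;> linarith
      · have := congrArg Complex.re (CfsgLib.SL2Char.stSL_one.symm.trans e); simp at this <;> linarith
      · have := congrArg Complex.re ((vP χ h').2.symm.trans e); simp at this <;> linarith
      · exact h'
    · obtain ⟨θ₀, a, b, c, d, P, C, hθ1, hθ0, hab, hcd, hA, hB, ha, hb, hc, hd, sab, scd, hsw, iP, iC, vP, vC,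
        cP, cC, ctot, hall⟩ := CfsgLib.SL2Char.tableSLOdd hg₀ hψ hodd
      obtain ⟨m, hm⟩ := id hodd
      have e6 : (Fintype.card F + 1) / 2 = m + 1 ∧ (Fintype.card F - 1) / 2 = m := ⟨by omega, by omega⟩
      have dA : ∀ {X σ} {f : Matrix.SpecialLinearGroup (Fin 2) F → ℂ},
          CfsgLib.SL2Char.Half ψ 1 σ X f → f 1 = ((m + 1 : ℕ) : ℂ) := fun h => by
        have e := h.deg
        rw [hm] at e
        push_cast at e ⊢
        linear_combination e / 2
      have dC : ∀ {X σ} {f : Matrix.SpecialLinearGroup (Fin 2) F → ℂ},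
          CfsgLib.SL2Char.Half ψ (-1) σ X f → f 1 = ((m : ℕ) : ℂ) := fun h => by
        have e := h.deg
        rw [hm] at e
        push_cast at e ⊢
        linear_combination e / 2
      have hQ : (Fintype.card F : ℂ) = ((2 * m + 1 : ℕ) : ℂ) := by rw [hm]
      have hQ1 : (Fintype.card F : ℂ) + 1 = ((2 * m + 2 : ℕ) : ℂ) := by rw [hQ]; push_cast; ring
      have hQ2 : (Fintype.card F : ℂ) - 1 = ((2 * m : ℕ) : ℂ) := by rw [hQ]; push_cast; ring
      have h1C : (1 : ℂ) = ((1 : ℕ) : ℂ) := Nat.cast_one.symm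
      have hDG : ∀ f, Cfsg.IsIrrCharacter (Matrix.SpecialLinearGroup (Fin 2) F) f →
          (f = 1 ∧ f 1 = ((1 : ℕ) : ℂ)) ∨
          (f = CfsgLib.SL2Char.stSL ∧ f 1 = ((2 * m + 1 : ℕ) : ℂ)) ∨
          (f ∈ P ∧ f 1 = ((2 * m + 2 : ℕ) : ℂ)) ∨ (f ∈ C ∧ f 1 = ((2 * m : ℕ) : ℂ)) ∨
          ((f = a ∨ f = b) ∧ f 1 = ((m + 1 : ℕ) : ℂ)) ∨ ((f = c ∨ f = d) ∧ f 1 = ((m : ℕ) : ℂ)) := by
        intro f hf
        rcases (hall f).1 hf with rfl | rfl | h | h | rfl | rfl | rfl | rfl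
        · exact Or.inl ⟨rfl, by simp⟩
        · exact Or.inr (Or.inl ⟨rfl, CfsgLib.SL2Char.stSL_one.trans hQ⟩)
        · exact Or.inr (Or.inr (Or.inl ⟨h, (vP f h).2.trans hQ1⟩))
        · exact Or.inr (Or.inr (Or.inr (Or.inl ⟨h, (vC f h).2.trans hQ2⟩)))
        · exact Or.inr (Or.inr (Or.inr (Or.inr (Or.inl ⟨Or.inl rfl, dA ha⟩))))
        · exact Or.inr (Or.inr (Or.inr (Or.inr (Or.inl ⟨Or.inr rfl, dA hb⟩))))
        · exact Or.inr (Or.inr (Or.inr (Or.inr (Or.inr ⟨Or.inl rfl, dC hc⟩))))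
        · exact Or.inr (Or.inr (Or.inr (Or.inr (Or.inr ⟨Or.inr rfl, dC hd⟩))))
      have key : ∀ (f : Matrix.SpecialLinearGroup (Fin 2) F → ℂ) (n : ℕ),
          Cfsg.IsIrrCharacter (Matrix.SpecialLinearGroup (Fin 2) F) f → f 1 = (n : ℂ) →
          (n = 2 * m + 1 → f = CfsgLib.SL2Char.stSL) ∧ (n = 2 * m + 2 → f ∈ P) ∧
            (n = 2 * m → f ∈ C ∨ (m = 1 ∧ (f = a ∨ f = b))) ∧
            (n = m + 1 → (f = a ∨ f = b) ∨ (m = 1 ∧ f ∈ C)) ∧ (n = m → (f = c ∨ f = d) ∨ m = 1) := by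
        intro f n hf hn
        have hm1 : 1 ≤ m := by omega
        rcases hDG f hf with ⟨h, e⟩ | ⟨h, e⟩ | ⟨h, e⟩ | ⟨h, e⟩ | ⟨h, e⟩ | ⟨h, e⟩ <;>
          (rw [hn, Nat.cast_inj] at e; subst e;
            refine ⟨fun e => ?_, fun e => ?_, fun e => ?_, fun e => ?_, fun e => ?_⟩ <;>
              first
                | exact h
                | exact Or.inl h
                | exact Or.inr ⟨by omega, h⟩
                | exact Or.inr (by omega)
                | omega)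
      refine h P C (fun f hf => ?_) (fun f hf => ?_) (fun e => (key χ _ hχ (e.trans hQ1)).2.1 rfl)
        fun e => ((key χ _ hχ (e.trans hQ2)).2.2.1 rfl).resolve_right (by omega)
      · obtain ⟨α, -, rfl⟩ := (iP f).1 hf
        exact ⟨α, rfl⟩
      · obtain ⟨θ, -, rfl⟩ := (iC f).1 hf
        exact ⟨θ, rfl⟩
  intro P C hP hC h1 h2
  refine ⟨fun e => ?_, fun e => ?_⟩
  · obtain ⟨α, rfl⟩ := hP χ (h1 e)
    exact CfsgLib.SL2Char.prSL_U α one_ne_zero
  · obtain ⟨θ, rfl⟩ := hC χ (h2 e)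
    exact CfsgLib.SL2Char.cuspSL_U hg₀ hψ θ one_ne_zero

end Cfsg.Agent.S2323
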