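import Cfsg.Statements.S2324
import Cfsg.Agent.Lib.Known.SL2Char.Values
import Cfsg.Agent.Lib.Known.SL2Char.TableGL

set_option autoImplicit false
open Cfsg

namespace Cfsg.Agent.S2324

/-- Over a finite field F with q elements, q odd and q ≥ 5, let u be the upper unitriangular matrix of SL₂ with off-diagonal entry 1 and let δ = (−1)^((q−1)/2). Every irreducible complex character χ of SL₂ of degree (q + 1)/2 satisfies (2χ(u) − 1)² = δq, and every irreducible complex character χ of degree (q − 1)/2 satisfies (2χ(u) + 1)² = δq; that is, χ(u) = (1 ± √(δq))/2 in the first case and χ(u) = (−1 ± √(δq))/2 in the second. Moreover two different irreducible characters of degree (q + 1)/2 take the two different values (their values at u add up to 1), and likewise for degree (q − 1)/2 (values adding up to −1). -/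
theorem result {F : Type*} [Field F] [Fintype F] (hodd : Odd (Fintype.card F)) (hq : 5 ≤ Fintype.card F)
    (u : Matrix.SpecialLinearGroup (Fin 2) F) (hu : (u : Matrix (Fin 2) (Fin 2) F) = !![1, 1; 0, 1]) :
    (∀ χ : Matrix.SpecialLinearGroup (Fin 2) F → ℂ, Cfsg.IsIrrCharacter (Matrix.SpecialLinearGroup (Fin 2) F) χ → χ 1 = (((Fintype.card F + 1) / 2 : ℕ) : ℂ) → (2 * χ u - 1) ^ 2 = (-1 : ℂ) ^ ((Fintype.card F - 1) / 2) * (Fintype.card F : ℂ)) ∧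
    (∀ χ : Matrix.SpecialLinearGroup (Fin 2) F → ℂ, Cfsg.IsIrrCharacter (Matrix.SpecialLinearGroup (Fin 2) F) χ → χ 1 = (((Fintype.card F - 1) / 2 : ℕ) : ℂ) → (2 * χ u + 1) ^ 2 = (-1 : ℂ) ^ ((Fintype.card F - 1) / 2) * (Fintype.card F : ℂ)) ∧
    (∀ χ₁ χ₂ : Matrix.SpecialLinearGroup (Fin 2) F → ℂ, Cfsg.IsIrrCharacter (Matrix.SpecialLinearGroup (Fin 2) F) χ₁ → Cfsg.IsIrrCharacter (Matrix.SpecialLinearGroup (Fin 2) F) χ₂ → χ₁ ≠ χ₂ →
      χ₁ 1 = (((Fintype.card F + 1) / 2 : ℕ) : ℂ) → χ₂ 1 = (((Fintype.card F + 1) / 2 : ℕ) : ℂ) → χ₁ u + χ₂ u = 1) ∧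
    (∀ χ₁ χ₂ : Matrix.SpecialLinearGroup (Fin 2) F → ℂ, Cfsg.IsIrrCharacter (Matrix.SpecialLinearGroup (Fin 2) F) χ₁ → Cfsg.IsIrrCharacter (Matrix.SpecialLinearGroup (Fin 2) F) χ₂ → χ₁ ≠ χ₂ →
      χ₁ 1 = (((Fintype.card F - 1) / 2 : ℕ) : ℂ) → χ₂ 1 = (((Fintype.card F - 1) / 2 : ℕ) : ℂ) → χ₁ u + χ₂ u = -1) := by
  classical
  have := Fintype.ofFinite (Matrix.SpecialLinearGroup (Fin 2) F)
  have := Fintype.ofFinite (CfsgLib.SL2Char.Orbits (⊥ : Subgroup Fˣ))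
  obtain ⟨g₀, hg₀⟩ := CfsgLib.SL2Char.exists_elliptic (F := F)
  have := Fintype.ofFinite (Matrix.GeneralLinearGroup (Fin 2) F)
  obtain ⟨ψ, hψ⟩ := CfsgLib.SL2Char.exists_addChar (F := F)
  have hq2 : 1 < Fintype.card F := Fintype.one_lt_card
  obtain ⟨θ₀, a, b, c, d, P, C, hθ1, hθ0, hab, hcd, hA, hB, ha, hb, hc, hd, sab, scd, hsw, iP, iC, vP, vC,
    cP, cC, ctot, hall⟩ := CfsgLib.SL2Char.tableSLOdd hg₀ hψ hodd
  obtain ⟨m, hm⟩ := id hodd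
  have e6 : (Fintype.card F + 1) / 2 = m + 1 ∧ (Fintype.card F - 1) / 2 = m := ⟨by omega, by omega⟩
  have dA : ∀ {X σ} {f : Matrix.SpecialLinearGroup (Fin 2) F → ℂ},
      CfsgLib.SL2Char.Half ψ 1 σ X f → f 1 = ((m + 1 : ℕ) : ℂ) := fun h => by
    have e := h.deg
    rw [hm] at e
    push_cast at e ⊢
    linear_combination e / 2
  have dC : ∀ {X σ} {f : Matrix.SpecialLinearGroup (Fin 2) F → ℂ},
      CfsgLib.SL2Char.Half ψ (-1) σ X f → f 1 = ((m : ℕ) : ℂ) := fun h => by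
    have e := h.deg
    rw [hm] at e
    push_cast at e ⊢
    linear_combination e / 2
  have hQ : (Fintype.card F : ℂ) = ((2 * m + 1 : ℕ) : ℂ) := by rw [hm]
  have hQ1 : (Fintype.card F : ℂ) + 1 = ((2 * m + 2 : ℕ) : ℂ) := by rw [hQ]; push_cast; ring
  have hQ2 : (Fintype.card F : ℂ) - 1 = ((2 * m : ℕ) : ℂ) := by rw [hQ]; push_cast; ring
  have h1C : (1 : ℂ) = ((1 : ℕ) : ℂ) := Nat.cast_one.symm
  have hDG : ∀ f, Cfsg.IsIrrCharacter (Matrix.SpecialLinearGroup (Fin 2) F) f →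
      (f = 1 ∧ f 1 = ((1 : ℕ) : ℂ)) ∨
      (f = CfsgLib.SL2Char.stSL ∧ f 1 = ((2 * m + 1 : ℕ) : ℂ)) ∨
      (f ∈ P ∧ f 1 = ((2 * m + 2 : ℕ) : ℂ)) ∨ (f ∈ C ∧ f 1 = ((2 * m : ℕ) : ℂ)) ∨
      ((f = a ∨ f = b) ∧ f 1 = ((m + 1 : ℕ) : ℂ)) ∨ ((f = c ∨ f = d) ∧ f 1 = ((m : ℕ) : ℂ)) := by
    intro f hf
    rcases (hall f).1 hf with rfl | rfl | h | h | rfl | rfl | rfl | rfl
    · exact Or.inl ⟨rfl, by simp⟩
    · exact Or.inr (Or.inl ⟨rfl, CfsgLib.SL2Char.stSL_one.trans hQ⟩)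
    · exact Or.inr (Or.inr (Or.inl ⟨h, (vP f h).2.trans hQ1⟩))
    · exact Or.inr (Or.inr (Or.inr (Or.inl ⟨h, (vC f h).2.trans hQ2⟩)))
    · exact Or.inr (Or.inr (Or.inr (Or.inr (Or.inl ⟨Or.inl rfl, dA ha⟩))))
    · exact Or.inr (Or.inr (Or.inr (Or.inr (Or.inl ⟨Or.inr rfl, dA hb⟩))))
    · exact Or.inr (Or.inr (Or.inr (Or.inr (Or.inr ⟨Or.inl rfl, dC hc⟩))))
    · exact Or.inr (Or.inr (Or.inr (Or.inr (Or.inr ⟨Or.inr rfl, dC hd⟩))))
  have key : ∀ (f : Matrix.SpecialLinearGroup (Fin 2) F → ℂ) (n : ℕ),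
      Cfsg.IsIrrCharacter (Matrix.SpecialLinearGroup (Fin 2) F) f → f 1 = (n : ℂ) →
      (n = 2 * m + 1 → f = CfsgLib.SL2Char.stSL) ∧ (n = 2 * m + 2 → f ∈ P) ∧
        (n = 2 * m → f ∈ C ∨ (m = 1 ∧ (f = a ∨ f = b))) ∧
        (n = m + 1 → (f = a ∨ f = b) ∨ (m = 1 ∧ f ∈ C)) ∧ (n = m → (f = c ∨ f = d) ∨ m = 1) := by
    intro f n hf hn
    have hm1 : 1 ≤ m := by omega
    rcases hDG f hf with ⟨h, e⟩ | ⟨h, e⟩ | ⟨h, e⟩ | ⟨h, e⟩ | ⟨h, e⟩ | ⟨h, e⟩ <;>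
      (rw [hn, Nat.cast_inj] at e; subst e;
        refine ⟨fun e => ?_, fun e => ?_, fun e => ?_, fun e => ?_, fun e => ?_⟩ <;>
          first
            | exact h
            | exact Or.inl h
            | exact Or.inr ⟨by omega, h⟩
            | exact Or.inr (by omega)
            | omega)
  have hu1 : u = CfsgLib.PLocal.SLTwo.U 1 := Subtype.ext hu
  subst hu1
  have h2 : ringChar F ≠ 2 := fun h => by
    have := FiniteField.even_card_iff_char_two.1 h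
    omega
  have hsq : ∀ {w : ℤ} {σ X f}, CfsgLib.SL2Char.Half ψ w σ X f →
      (2 * f (CfsgLib.PLocal.SLTwo.U 1) - w) ^ 2 =
        (-1 : ℂ) ^ ((Fintype.card F - 1) / 2) * (Fintype.card F : ℂ) := fun h => by
    obtain ⟨ε, hε, e⟩ := h.unip
    rw [e 1 one_ne_zero, map_one, mul_one, add_sub_cancel_left, mul_pow,
      CfsgLib.SL2Char.gauss_sq h2 hψ, CfsgLib.SL2Char.qcC_neg_one hodd h2]
    rcases hε with rfl | rfl <;> ring
  have hA' : ∀ f, Cfsg.IsIrrCharacter (Matrix.SpecialLinearGroup (Fin 2) F) f →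
      f 1 = (((Fintype.card F + 1) / 2 : ℕ) : ℂ) → f = a ∨ f = b := fun f hf e => by
    rw [e6.1] at e
    exact ((key f _ hf e).2.2.2.1 rfl).resolve_right (by omega)
  have hC' : ∀ f, Cfsg.IsIrrCharacter (Matrix.SpecialLinearGroup (Fin 2) F) f →
      f 1 = (((Fintype.card F - 1) / 2 : ℕ) : ℂ) → f = c ∨ f = d := fun f hf e => by
    rw [e6.2] at e
    exact ((key f _ hf e).2.2.2.2 rfl).resolve_right (by omega)
  refine ⟨fun χ hχ e => ?_, fun χ hχ e => ?_, fun χ₁ χ₂ h₁ h₂ hne e₁ e₂ => ?_,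
    fun χ₁ χ₂ h₁ h₂ hne e₁ e₂ => ?_⟩
  · rcases hA' χ hχ e with rfl | rfl
    exacts [by simpa using hsq ha, by simpa using hsq hb]
  · rcases hC' χ hχ e with rfl | rfl
    exacts [by simpa [sub_neg_eq_add] using hsq hc, by simpa [sub_neg_eq_add] using hsq hd]
  · rcases hA' χ₁ h₁ e₁ with rfl | rfl <;> rcases hA' χ₂ h₂ e₂ with rfl | rfl
    exacts [absurd rfl hne, sab, (add_comm _ _).trans sab, absurd rfl hne]
  · rcases hC' χ₁ h₁ e₁ with rfl | rfl <;> rcases hC' χ₂ h₂ e₂ with rfl | rfl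
    exacts [absurd rfl hne, scd, (add_comm _ _).trans scd, absurd rfl hne]

end Cfsg.Agent.S2324
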