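import Cfsg.Statements.S2329
import Cfsg.Agent.Lib.Known.SL2Char.Unipotent

set_option autoImplicit false
open Cfsg

namespace Cfsg.Agent.S2329

/-- Over a finite field of characteristic p, any two elements of order p of GL₂ are conjugate: there is a single conjugacy class of non-identity unipotent elements. -/
theorem result {F : Type*} [Field F] [Fintype F] (p : ℕ) [Fact p.Prime] [CharP F p] (g h : Matrix.GeneralLinearGroup (Fin 2) F)
    (hg : orderOf g = p) (hh : orderOf h = p) : IsConj g h := by
  classical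
  let J : Matrix (Fin 2) (Fin 2) F := !![1, 1; 0, 1]
  have key : ∀ k : Matrix.GeneralLinearGroup (Fin 2) F, orderOf k = p →
      ∃ P : Matrix.GeneralLinearGroup (Fin 2) F,
        (k : Matrix (Fin 2) (Fin 2) F) * (P : Matrix (Fin 2) (Fin 2) F) =
          (P : Matrix (Fin 2) (Fin 2) F) * J := by
    intro k hk
    have hkp : (k : Matrix (Fin 2) (Fin 2) F) ^ p = 1 := by
      rw [← Units.val_pow_eq_pow_val, ← hk, pow_orderOf_eq_one, Units.val_one]
    set N : Matrix (Fin 2) (Fin 2) F := (k : Matrix (Fin 2) (Fin 2) F) - 1 with hN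
    have hnil : IsNilpotent N := ⟨p, by
      rw [hN, sub_pow_char_of_commute p (Commute.one_right _), hkp, one_pow, sub_self]⟩
    have htr := (Matrix.isNilpotent_trace_of_isNilpotent hnil).eq_zero
    have hdet : N.det = 0 := by
      obtain ⟨m, hm⟩ := hnil
      have := congrArg Matrix.det hm
      rw [Matrix.det_pow, Matrix.det_zero] at this
      exact pow_eq_zero_iff'.1 this |>.1
    have hN0 : N ≠ 0 := fun e => (Fact.out : p.Prime).ne_one (by
      rw [← hk, orderOf_eq_one_iff]
      exact Units.ext (sub_eq_zero.1 e))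
    rw [Matrix.trace_fin_two] at htr
    rw [Matrix.det_fin_two] at hdet
    have hk' : (k : Matrix (Fin 2) (Fin 2) F) = N + 1 := by rw [hN, sub_add_cancel]
    by_cases hc : N 1 0 = 0
    · have ha : N 0 0 = 0 := by
        refine mul_self_eq_zero.1 ?_
        linear_combination (N 0 0) * htr - hdet - N 0 1 * hc
      have hb : N 0 1 ≠ 0 := fun hb => hN0 (by
        ext i j
        fin_cases i <;> fin_cases j
        · exact ha
        · exact hb
        · exact hc
        · simpa [ha] using htr)
      refine ⟨Matrix.GeneralLinearGroup.mkOfDetNeZero !![N 0 1, 0; 0, 1]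
        (by simpa [Matrix.det_fin_two_of] using hb), ?_⟩
      change _ * !![N 0 1, 0; 0, 1] = !![N 0 1, 0; 0, 1] * J
      have h11 : N 1 1 = 0 := by linear_combination htr - ha
      rw [hk']
      ext i j
      fin_cases i <;> fin_cases j <;> simp [J, Matrix.mul_apply, Fin.sum_univ_two, ha, hc, h11]
    · refine ⟨Matrix.GeneralLinearGroup.mkOfDetNeZero !![N 0 0, 1; N 1 0, 0]
        (by simpa [Matrix.det_fin_two_of] using hc), ?_⟩
      change _ * !![N 0 0, 1; N 1 0, 0] = !![N 0 0, 1; N 1 0, 0] * J
      rw [hk']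
      ext i j
      fin_cases i <;> fin_cases j <;> simp [J, Matrix.mul_apply, Fin.sum_univ_two]
      · linear_combination (N 0 0) * htr - hdet
      · linear_combination (N 1 0) * htr
  obtain ⟨P, hP⟩ := key g hg
  obtain ⟨Q, hQ⟩ := key h hh
  rw [isConj_iff]
  refine ⟨Q * P⁻¹, ?_⟩
  have e : P⁻¹ * g * P = Q⁻¹ * h * Q := by
    refine Units.ext ?_
    simp only [Units.val_mul]
    rw [mul_assoc, hP, ← mul_assoc, Units.inv_mul, one_mul, mul_assoc, hQ, ← mul_assoc,
      Units.inv_mul, one_mul]
  calc Q * P⁻¹ * g * (Q * P⁻¹)⁻¹ = Q * (P⁻¹ * g * P) * Q⁻¹ := by group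
    _ = h := by rw [e]; group

end Cfsg.Agent.S2329
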