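import Cfsg.Statements.S2330
import Cfsg.Agent.Lib.Known.SL2Char.TableGL

set_option autoImplicit false
open Cfsg

namespace Cfsg.Agent.S2330

/-- Over a finite field with q elements, the general linear group GL₂ has exactly q² − 1 conjugacy classes. -/
theorem result {F : Type*} [Field F] [Fintype F] :
    Nat.card (ConjClasses (Matrix.GeneralLinearGroup (Fin 2) F)) = Fintype.card F ^ 2 - 1 := by
  classical
  have := Fintype.ofFinite (Matrix.GeneralLinearGroup (Fin 2) F)
  have := Fintype.ofFinite (CfsgLib.SL2Char.Orbits (⊤ : Subgroup Fˣ))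
  obtain ⟨g₀, hg₀⟩ := CfsgLib.SL2Char.exists_elliptic (F := F)
  obtain ⟨ψ, hψ⟩ := CfsgLib.SL2Char.exists_addChar (F := F)
  obtain ⟨L, T, P, C, iL, iT, iP, iC, hall, lL, lT, lP, lC, cL, cT, cP, cC, ctot⟩ :=
    CfsgLib.SL2Char.tableGL hg₀ hψ
  have hq2 : 1 < Fintype.card F := Fintype.one_lt_card
  rw [CfsgLib.SL2Char.card_conjClasses_eq _ fun f => (hall f).symm, ctot, cL, cT]
  obtain ⟨m, hm⟩ : ∃ m, Fintype.card F = m + 2 := ⟨Fintype.card F - 2, by omega⟩
  rw [hm, show m + 2 - 1 = m + 1 by omega, show m + 2 - 2 = m by omega] at cP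
  rw [hm, show m + 2 - 1 = m + 1 by omega] at cC
  rw [hm, show m + 2 - 1 = m + 1 by omega,
    show (m + 2) ^ 2 - 1 = (m + 3) * (m + 1) from Nat.sub_eq_of_eq_add (by ring)]
  ring_nf at cP cC ⊢
  omega

end Cfsg.Agent.S2330
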