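import Cfsg.Statements.S2331
import Cfsg.Agent.Lib.Known.SL2Char.TableSLOdd
import Cfsg.Agent.Lib.Known.SL2Char.TableGL
import Cfsg.Agent.Lib.Known.SL2Char.TableSLEven

set_option autoImplicit false
open Cfsg

namespace Cfsg.Agent.S2331

/-- Over a finite field with q elements, q even, the special linear group SL₂ has exactly q + 1 conjugacy classes. -/
theorem result {F : Type*} [Field F] [Fintype F] [CharP F 2] :
    Nat.card (ConjClasses (Matrix.SpecialLinearGroup (Fin 2) F)) = Fintype.card F + 1 := by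
  classical
  have := Fintype.ofFinite (Matrix.SpecialLinearGroup (Fin 2) F)
  have := Fintype.ofFinite (CfsgLib.SL2Char.Orbits (⊥ : Subgroup Fˣ))
  obtain ⟨g₀, hg₀⟩ := CfsgLib.SL2Char.exists_elliptic (F := F)
  have := Fintype.ofFinite (Matrix.GeneralLinearGroup (Fin 2) F)
  obtain ⟨ψ, hψ⟩ := CfsgLib.SL2Char.exists_addChar (F := F)
  have hq2 : 1 < Fintype.card F := Fintype.one_lt_card
  have heven : Even (Fintype.card F) :=
    Nat.even_iff.2 (FiniteField.even_card_iff_char_two.1 (ringChar.eq F 2))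
  obtain ⟨P, C, iP, iC, vP, vC, cP, cC, ctot, hall⟩ := CfsgLib.SL2Char.tableSLEven hg₀ hψ heven
  rw [CfsgLib.SL2Char.card_conjClasses_eq ({(1 : Matrix.SpecialLinearGroup (Fin 2) F → ℂ),
      CfsgLib.SL2Char.stSL} ∪ P ∪ C) fun f => ?_, ctot]
  · omega
  · rw [hall f]
    simp only [Finset.mem_union, Finset.mem_insert, Finset.mem_singleton, or_assoc]

end Cfsg.Agent.S2331
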