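import Cfsg.Statements.S2333
import Cfsg.Agent.Lib.Known.SpEvenDegree.Main

set_option autoImplicit false
open Cfsg

namespace Cfsg.Agent.S2333

/-- For a finite field F of even order q and n ≥ 2 with (n, q) ≠ (2, 2), every irreducible complex representation of the symplectic group Sp_{2n}(F) of degree at least 2 has degree at least (q^n − 1)(q^n − q)/(2(q + 1)). -/
theorem result {F : Type*} [Field F] [Fintype F] [DecidableEq F] (n : ℕ) (hn : 2 ≤ n) (heven : Even (Fintype.card F)) (hex : (n, Fintype.card F) ≠ (2, 2)) :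
    (∀ (k : ℕ) (ρ : Representation ℂ (Matrix.symplecticGroup (Fin n) F) (Fin k → ℂ)), ρ.IsIrreducible → 2 ≤ k → (Fintype.card F ^ n - 1) * (Fintype.card F ^ n - Fintype.card F) / (2 * (Fintype.card F + 1)) ≤ k) := by
  intro k ρ hρ hk
  obtain ⟨p, hp⟩ := CharP.exists F
  haveI := hp
  haveI : Fact p.Prime := ⟨(CharP.char_is_prime_or_zero F p).resolve_right fun h => by
    subst h
    haveI : CharZero F := CharP.charP_to_charZero F
    exact not_finite F⟩
  obtain ⟨j, -, hj⟩ := FiniteField.card F p
  obtain rfl : p = 2 := by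
    by_contra h
    have hodd : Odd p := (Fact.out : p.Prime).odd_of_ne_two h
    exact Nat.not_even_iff_odd.2 (hj ▸ hodd.pow) heven
  obtain ⟨m, rfl⟩ : ∃ m, n = m + 1 := ⟨n - 1, by omega⟩
  have hR : ∃ g, ρ g ≠ 1 := by
    by_contra hcon
    push Not at hcon
    haveI := hρ.toNontrivial
    let i : Fin k := ⟨0, by omega⟩
    let W : Subrepresentation ρ := ⟨ℂ ∙ (Pi.single i 1 : Fin k → ℂ), fun g v hv => by
      rw [hcon g]; exact hv⟩
    rcases hρ.eq_bot_or_eq_top W with h | h
    · have : (Pi.single i 1 : Fin k → ℂ) ∈ (⊥ : Subrepresentation ρ).toSubmodule :=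
        h ▸ Submodule.mem_span_singleton_self _
      exact one_ne_zero (α := ℂ) (by simpa using congrFun ((Submodule.mem_bot ℂ).1 this) i)
    · have h1 := congrArg (fun S : Subrepresentation ρ => Module.finrank ℂ S.toSubmodule) h
      simp only [W] at h1
      rw [finrank_span_singleton (by simp)] at h1
      change 1 = Module.finrank ℂ (⊤ : Submodule ℂ (Fin k → ℂ)) at h1
      rw [finrank_top, Module.finrank_fin_fun] at h1
      omega
  have h := CfsgLib.Known.SpEvenDegree.le_finrank m (Fin k → ℂ) ρ hR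
  rw [Module.finrank_fin_fun] at h
  refine Nat.div_le_of_le_mul (le_trans (le_of_eq ?_) h)
  have e : Fintype.card F ^ (m + 1) - Fintype.card F = Fintype.card F * (Fintype.card F ^ m - 1) := by
    rw [Nat.mul_sub, mul_one, pow_succ']
  rw [e]
  ring

end Cfsg.Agent.S2333
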