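import Cfsg.Statements.S2337
import Cfsg.Agent.Lib.Lie.Suzuki.MinDegree

set_option autoImplicit false
open Cfsg
open CfsgLib.Lie.Suzuki

namespace Cfsg.Agent.S2337

/-- For the Suzuki group Sz(q), q = 2^(2m+1) with m ≥ 1 (realised inside Sp₄ over the field with q elements), every irreducible complex representation of degree at least 2 has degree at least 2^m·(q − 1). -/
theorem result {F : Type*} [Field F] [Fintype F] (m : ℕ) (hm : 1 ≤ m) (hF : Fintype.card F = 2 ^ (2 * m + 1)) :
    (∀ (k : ℕ) (ρ : Representation ℂ (Cfsg.Lie.Sz F (2 ^ (m + 1))) (Fin k → ℂ)), ρ.IsIrreducible → 2 ≤ k → 2 ^ m * (2 ^ (2 * m + 1) - 1) ≤ k) := by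
  haveI := CfsgLib.Lie.Suzuki.charTwo_of_card hF
  intro k ρ hirr hk
  let e := equivLie hm hF
  let σ : Representation ℂ (Cfsg.Sz F m) (Fin k → ℂ) := ρ.comp e.toMonoidHom
  let o : Subrepresentation σ ≃o Subrepresentation ρ :=
    { toFun := fun W => ⟨W.toSubmodule, fun g v hv => by
        have := W.apply_mem_toSubmodule (e.symm g) hv
        simpa [σ] using this⟩
      invFun := fun W => ⟨W.toSubmodule, fun g v hv => W.apply_mem_toSubmodule (e g) hv⟩
      left_inv := fun W => rfl
      right_inv := fun W => rfl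
      map_rel_iff' := Iff.rfl }
  have hσ : σ.IsIrreducible := by
    haveI := hirr
    exact o.isSimpleOrder
  have h := MinDegree.min_degree hF σ hm hσ (by simpa using hk)
  simpa [hF] using h

end Cfsg.Agent.S2337
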