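import Cfsg.Statements.S2339
import Cfsg.Agent.Lib.PLocal.Rad.ExclE8
import Cfsg.Agent.Lib.Char.Central
import Cfsg.Agent.S1054
import Cfsg.Agent.S1065

set_option autoImplicit false
open Cfsg

namespace Cfsg.Agent.S2339

/-- For the Chevalley group of type E₈ over a finite field with q elements, every irreducible complex representation of degree at least 2 has degree at least q(q¹² + 1)(q¹⁰ + 1)(q⁶ + 1). -/
theorem result {F : Type*} [Field F] [Fintype F] (k : ℕ) (ρ : Representation ℂ (Cfsg.Lie.chevE8.group F) (Fin k → ℂ)) (hρ : ρ.IsIrreducible) (hk : 2 ≤ k) :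
    Fintype.card F * (Fintype.card F ^ 12 + 1) * (Fintype.card F ^ 10 + 1) * (Fintype.card F ^ 6 + 1) ≤ k := by
  let _ := hρ
  have hd : Module.finrank ℂ (Fin k → ℂ) = k := by simp
  set q := Fintype.card F with hq
  have hval : ∀ x : ℕ, CfsgLib.PLocal.Rad.bVal CfsgLib.PLocal.Rad.E8.exps x =
      x * (x ^ 12 + 1) * (x ^ 10 + 1) * (x ^ 6 + 1) := fun x => by
    simp [CfsgLib.PLocal.Rad.bVal, CfsgLib.PLocal.Rad.E8.exps]
    ring
  have hq2 : 2 ≤ q := Fintype.one_lt_card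
  have hlen : CfsgLib.PLocal.Rad.E8.top.pairs.length = 27 := by decide
  have hleft : CfsgLib.PLocal.Rad.bVal CfsgLib.PLocal.Rad.E8.exps q ≤
      2 * (q ^ (CfsgLib.PLocal.Rad.E8.top.pairs.length + 2) - q ^ CfsgLib.PLocal.Rad.E8.top.pairs.length) := by
    rw [hlen]
    have h : ∀ m, m ≤ 23 → q ^ m ≤ q ^ 23 := fun m hm => Nat.pow_le_pow_right (by omega) hm
    have h29 : 4 * q ^ 27 ≤ q ^ (27 + 2) := by
      rw [pow_add q 27 2, mul_comm 4]
      exact Nat.mul_le_mul_left _ (Nat.pow_le_pow_left hq2 2)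
    have h27 : 16 * q ^ 23 ≤ q ^ 27 := by
      rw [pow_add q 23 4, mul_comm 16]
      exact Nat.mul_le_mul_left _ (Nat.pow_le_pow_left hq2 4)
    simp [CfsgLib.PLocal.Rad.bVal, CfsgLib.PLocal.Rad.E8.exps]
    have := Nat.le_self_pow (show 23 ≠ 0 by norm_num) q; have := h 7 (by norm_num); have := h 11 (by norm_num); have := h 13 (by norm_num)
    have := h 17 (by norm_num); have := h 19 (by norm_num)
    norm_num at h29 h27 ⊢
    omega
  rcases CfsgLib.PLocal.Rad.bound_or CfsgLib.Lie.Chev.certE8 CfsgLib.PLocal.Rad.E8.topOK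
    CfsgLib.PLocal.Rad.E8.edgesOK CfsgLib.PLocal.Rad.E8.reachOK CfsgLib.PLocal.Rad.E8.coefOK
    CfsgLib.PLocal.Rad.E8.cellsOK CfsgLib.PLocal.Rad.E8.cellsγ CfsgLib.PLocal.Rad.E8.sumOK' hleft
    (Cfsg.Agent.S1054.result Cfsg.Lie.chevE8 (by simp)).1 ρ (by rw [hd]; exact hk) with h | ⟨j, hj, hjr, hdj, -⟩
  · rwa [hval, hd] at h
  exfalso
  refine CfsgLib.PLocal.Rad.E8.excl_all (q := q) (d := k) (FiniteField.isPrimePow_card F) hj hjr (hd ▸ hdj) ?_
  have hdvd := CfsgLib.CharIntegral.finrank_dvd_card ρ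
  rw [hd, Cfsg.Agent.S1065.result (q := q) hq.symm] at hdvd
  simpa [CfsgLib.PLocal.Rad.gVal, CfsgLib.PLocal.Rad.E8.degs, mul_assoc] using hdvd

end Cfsg.Agent.S2339
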