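import Cfsg.Statements.S2340
import Cfsg.Agent.Lib.PLocal.Rad.ExclE6
import Cfsg.Agent.Lib.PLocal.Rad.Orbit
import Cfsg.Agent.Lib.Char.Central
import Cfsg.Agent.S1054
import Cfsg.Agent.S1063

set_option autoImplicit false
open Cfsg

namespace Cfsg.Agent.S2340

open CfsgLib.Lie.Chev CfsgLib.PLocal.Rad

/-- five commuting long roots orthogonal to the highest one -/
def aRoot (i : Fin 5) : ℕ := [56, 57, 58, 59, 60].getD i 0

/-- the roots moving them -/
def rRoot (i j : Fin 5) : ℕ :=
  ([[0, 42, 43, 44, 45], [29, 0, 39, 40, 41], [28, 32, 0, 37, 38], [27, 31, 34, 0, 36],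
    [26, 30, 33, 35, 0]].getD i []).getD j 0

theorem orbitOK : OrbitOK Cfsg.Lie.chevE6 E6.top.z aRoot rRoot := by decide +kernel

/-- the order of the centraliser of a long root element -/
theorem dvd_centralizer (F : Type*) [Field F] [Fintype F] :
    Fintype.card F ^ 5 - 1 ∣ Nat.card ↥(Subgroup.centralizer
      ({(chevRel certE6 F).xe E6.top.z (1 : F)} : Set ↥(Cfsg.Lie.chevE6.group F))) :=
  card_orbit_dvd (chevRel certE6 F) (by norm_num) orbitOK fun i =>
    xG_ne_one certE6 ((by decide : ∀ i, aRoot i < Cfsg.Lie.chevE6.nroots) i)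

/-- excluding a degree divisible by a prime that divides the order once -/
theorem no_degree {G : Type*} [Group G] [Finite G] {V : Type*} [AddCommGroup V] [Module ℂ V]
    [FiniteDimensional ℂ V] (ρ : Representation ℂ G V) [ρ.IsIrreducible] (g : G) {p m e : ℕ} (hp : p.Prime)
    (hpd : p ∣ Module.finrank ℂ V) (hpm : ¬ p ∣ m ^ e)
    (htr : LinearMap.trace ℂ V (ρ g) = (Module.finrank ℂ V : ℂ) - (m : ℂ) ^ e)
    (hC : p ∣ Nat.card ↥(Subgroup.centralizer ({g} : Set G))) (hG : ¬ p * p ∣ Nat.card G) : False := by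
  have h := CfsgLib.CharIntegral.isIntegral_central ρ g
  set I := (Subgroup.centralizer ({g} : Set G)).index with hI
  set d := Module.finrank ℂ V with hd
  have hd0 : d ≠ 0 := (CfsgLib.CharIntegral.finrank_pos_of_irreducible ρ).ne'
  rw [show ρ.character g = LinearMap.trace ℂ V (ρ g) from rfl, htr] at h
  have h2 : IsIntegral ℤ (((I * m ^ e : ℕ) : ℂ) / (d : ℂ)) := by
    have e1 : ((I * m ^ e : ℕ) : ℂ) / (d : ℂ) = (I : ℂ) - (I : ℂ) * ((d : ℂ) - (m : ℂ) ^ e) / (d : ℂ) := by
      field_simp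
      push_cast
      ring
    rw [e1]
    exact IsIntegral.sub (isIntegral_natCast I) h
  have h3 : p ∣ I := (hp.dvd_mul.1 (hpd.trans (CfsgLib.CharIntegral.dvd_of_isIntegral_div hd0 h2))).resolve_right hpm
  exact hG (Subgroup.index_mul_card (Subgroup.centralizer ({g} : Set G)) ▸ Nat.mul_dvd_mul h3 hC)

/-- For the Chevalley group of type E₆ over a finite field with q elements (the group generated by the root elements), every irreducible complex representation of degree at least 2 has degree at least q(q⁶ + q³ + 1)(q⁴ + 1). -/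
theorem result {F : Type*} [Field F] [Fintype F] :
    (∀ (k : ℕ) (ρ : Representation ℂ (Cfsg.Lie.chevE6.group F) (Fin k → ℂ)), ρ.IsIrreducible → 2 ≤ k → Fintype.card F * (Fintype.card F ^ 6 + Fintype.card F ^ 3 + 1) * (Fintype.card F ^ 4 + 1) ≤ k) := by
  intro k ρ hρ hk
  let _ := hρ
  have hd : Module.finrank ℂ (Fin k → ℂ) = k := by simp
  set q := Fintype.card F with hq
  have hval : ∀ x : ℕ, bVal E6.exps x = x * (x ^ 6 + x ^ 3 + 1) * (x ^ 4 + 1) := fun x => by
    simp [bVal, E6.exps]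
    ring
  have hq2 : 2 ≤ q := Fintype.one_lt_card
  have hlen : E6.top.pairs.length = 9 := by decide
  have hleft : bVal E6.exps q ≤ 2 * (q ^ (E6.top.pairs.length + 2) - q ^ E6.top.pairs.length) := by
    rw [hlen]
    have h : ∀ m, m ≤ 7 → q ^ m ≤ q ^ 7 := fun m hm => Nat.pow_le_pow_right (by omega) hm
    have h11 : 4 * q ^ 9 ≤ q ^ (9 + 2) := by
      rw [pow_add q 9 2, mul_comm 4]
      exact Nat.mul_le_mul_left _ (Nat.pow_le_pow_left hq2 2)
    have h8 : 2 * q ^ 8 ≤ q ^ 9 := by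
      rw [pow_succ q 8, mul_comm 2]
      exact Nat.mul_le_mul_left _ hq2
    have h7 : 2 * q ^ 7 ≤ q ^ 8 := by
      rw [pow_succ q 7, mul_comm 2]
      exact Nat.mul_le_mul_left _ hq2
    simp [bVal, E6.exps]
    have := Nat.le_self_pow (show 7 ≠ 0 by norm_num) q; have := h 4 (by norm_num); have := h 5 (by norm_num)
    norm_num at h11 ⊢
    omega
  rcases bound_or certE6 E6.topOK E6.edgesOK E6.reachOK E6.coefOK E6.cellsOK E6.cellsγ E6.sumOK' hleft
    (Cfsg.Agent.S1054.result Cfsg.Lie.chevE6 (by simp)).1 ρ (by rw [hd]; exact hk) with h | ⟨j, hj, hjr, hdj, htr⟩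
  · rwa [hval, hd] at h
  exfalso
  have hform := Cfsg.Agent.S1063.result (F := F) (q := q) hq.symm
  have hG : Nat.card ↥(Cfsg.Lie.chevE6.group F) ∣
      q ^ 36 * (q ^ 2 - 1) * (q ^ 5 - 1) * (q ^ 6 - 1) * (q ^ 8 - 1) * (q ^ 9 - 1) * (q ^ 12 - 1) :=
    ⟨_, (hform.symm.trans (mul_comm _ _))⟩
  have hdvd := (CfsgLib.CharIntegral.finrank_dvd_card ρ).trans hG
  have key := E6.excl_all (q := q) (FiniteField.isPrimePow_card F) hj hjr hdj
    (by simpa [gVal, E6.degs, mul_assoc] using hdvd)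
  rw [hlen] at htr
  have hcent := dvd_centralizer F
  rw [← hq] at hcent hdj htr
  rcases key with ⟨h1, h2⟩ | ⟨h1, h2⟩ <;>
    (rw [h1, h2, hval] at hdj
     rw [h1] at hcent hG htr
     refine no_degree ρ _ (p := 31) (by norm_num) (by omega) (by norm_num) htr
       (dvd_trans (by norm_num) hcent) fun hh => ?_
     have := hh.trans hG
     norm_num at this)

end Cfsg.Agent.S2340
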