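import Cfsg.Statements.S2341
import Cfsg.Agent.Lib.PLocal.RadTw.Bound
import Cfsg.Agent.Lib.Lie.Twisted.E6Perfect
import Cfsg.Agent.Lib.Lie.Twisted.Group
import Cfsg.Agent.Lib.Char.Central
import Cfsg.Agent.Lib.Char.Weights

set_option autoImplicit false
open Cfsg

namespace Cfsg.Agent.S2341

open CfsgLib.Lie.Chev CfsgLib.Lie.Chev.TwGroups CfsgLib.PLocal.RadTw

/-- For the twisted group ²E₆(q), realised over the field with q² elements (q a prime power), every irreducible complex representation of degree at least 2 has degree at least q(q⁶ − q³ + 1)(q⁴ + 1). -/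
theorem result {K : Type*} [Field K] [Fintype K] (q : ℕ) (hq : IsPrimePow q) (hK : Fintype.card K = q ^ 2) :
    (∀ (k : ℕ) (ρ : Representation ℂ (Cfsg.Lie.twistedE6 K q) (Fin k → ℂ)), ρ.IsIrreducible → 2 ≤ k → q * (q ^ 6 - q ^ 3 + 1) * (q ^ 4 + 1) ≤ k) := by
  intro k ρ hρ hk
  let _ := hρ
  have hd : Module.finrank ℂ (Fin k → ℂ) = k := by simp
  have hS : IsSimpleGroup ↥(Cfsg.Lie.twistedE6 K q) :=
    (twisted_simple certE6 twE6_le (twE6 hq hK) (twE6_P1 hq hK) (faithfulE6 hq hK) connE6 (perfectE6 hq hK)).1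
  let e : ↥(twE6 hq hK).P1 ≃* ↥(Cfsg.Lie.twistedE6 K q) := Subgroup.subgroupOfEquivOfLe twE6_le
  have hne : ∃ t, (ρ.comp e.toMonoidHom) (Z hq hK rz t) ≠ 1 := by
    by_contra h
    push Not at h
    have hmem : e (Z hq hK rz (oneP hq hK rz)) ∈ MonoidHom.ker ρ := MonoidHom.mem_ker.2 (h _)
    rcases (MonoidHom.normal_ker ρ).eq_bot_or_eq_top with hb | ht
    · rw [hb, Subgroup.mem_bot, MulEquiv.map_eq_one_iff] at hmem
      exact oneP_ne_zero hq hK rz (Z_injective hq hK rz (hmem.trans (AddChar.map_zero_eq_one _).symm))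
    · have h1 : ∀ g, ρ g = 1 := fun g => MonoidHom.mem_ker.1 (ht ▸ Subgroup.mem_top g)
      obtain ⟨v, hv⟩ : ∃ v : Fin k → ℂ, v ≠ 0 := ⟨fun _ => 1, fun hh => one_ne_zero (congrFun hh ⟨0, by omega⟩)⟩
      have htop := CfsgLib.CharWeights.eq_top_of_invariant ρ (Submodule.span ℂ {v})
        (fun g w hw => by rw [h1]; exact hw) (by rwa [Ne, Submodule.span_singleton_eq_bot])
      have := finrank_span_singleton (K := ℂ) hv
      rw [htop, finrank_top, hd] at this
      omega
  have h := bound_two hq hK (ρ.comp e.toMonoidHom) hne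
  rw [hd] at h
  by_contra hlt
  have hdvd : k ∣ Nat.card ↥(Cfsg.Lie.twistedE6 K q) := by
    have := CfsgLib.CharIntegral.finrank_dvd_card ρ
    rwa [hd] at this
  refine excl_all hq (lt_of_not_ge hlt) h ?_
  have h2 := (hdvd.mul_left (Nat.gcd 3 (q + 1)))
  rw [card_twE6 hq hK] at h2
  simpa only [gT, mul_assoc] using h2

end Cfsg.Agent.S2341
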