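import Cfsg.Statements.S2342
import Cfsg.Agent.Lib.PLocal.TrialityGroup
import Cfsg.Agent.Lib.Char.Central
import Cfsg.Agent.Lib.Char.Weights

set_option autoImplicit false
open Cfsg

namespace Cfsg.Agent.S2342

open CfsgLib.Lie.Chev CfsgLib.Lie.Chev.TwGroups CfsgLib.PLocal.Triality
open Cfsg.Lie (chevD4)

theorem step {M P R X : ℤ} {c : ℤ} (h : M ∣ X * P) (hc : ∃ a b : ℤ, a * P + b * M = c) (hR : R = X * c) :
    M ∣ R := by
  obtain ⟨a, b, hab⟩ := hc
  rw [hR, ← hab, mul_add, mul_left_comm, ← mul_assoc X b M]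
  exact dvd_add (dvd_mul_of_dvd_right h a) (dvd_mul_left _ _)

/-- the number `q⁴ + q³ + 1` does not divide the group order -/
theorem not_dvd (q : ℕ) (hq : 2 ≤ q) :
    ¬ (q ^ 4 + q ^ 3 + 1) ∣ q ^ 12 * (q ^ 2 - 1) * (q ^ 6 - 1) * (q ^ 8 + q ^ 4 + 1) := by
  intro h
  have h' := Int.natCast_dvd_natCast.2 h
  push_cast [Nat.one_le_pow _ q (by omega)] at h'
  generalize hx : (q : ℤ) = x at h'
  set M := x ^ 4 + x ^ 3 + 1 with hM
  have cq : IsCoprime M (x ^ 12) :=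
    IsCoprime.pow_right ⟨1, -(x ^ 3 + x ^ 2), by rw [hM]; ring⟩
  have c2 : IsCoprime M (x + 1) := ⟨1, -x ^ 3, by rw [hM]; ring⟩
  have c6 : IsCoprime M (x ^ 2 - x + 1) := ⟨x - 1, 1 - (x - 1) * (x + 1) ^ 2, by rw [hM]; ring⟩
  have c12 : IsCoprime M (x ^ 4 - x ^ 2 + 1) := ⟨-(x - 1), x, by rw [hM]; ring⟩
  rw [show x ^ 12 * (x ^ 2 - 1) * (x ^ 6 - 1) * (x ^ 8 + x ^ 4 + 1) =
    x ^ 12 * ((x + 1) ^ 2 * ((x ^ 2 - x + 1) ^ 2 * ((x ^ 4 - x ^ 2 + 1) *
      ((x - 1) * (x - 1) * (x ^ 2 + x + 1) * (x ^ 2 + x + 1))))) by ring] at h'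
  have h2 := c12.dvd_of_dvd_mul_left (c6.pow_right.dvd_of_dvd_mul_left (c2.pow_right.dvd_of_dvd_mul_left
    (cq.dvd_of_dvd_mul_left h')))
  have a3 : ∃ a b : ℤ, a * (x ^ 2 + x + 1) + b * M = 3 :=
    ⟨1 + (x - 1) * (x ^ 2 - 1), -(x - 1), by rw [hM]; ring⟩
  have a1 : ∃ a b : ℤ, a * (x - 1) + b * M = 3 := ⟨-(x ^ 3 + 2 * x ^ 2 + 2 * x + 2), 1, by rw [hM]; ring⟩
  have h3 : M ∣ 3 * (x - 1) * (x - 1) * (x ^ 2 + x + 1) := step h2 a3 (by ring)
  have h4 : M ∣ 9 * (x - 1) * (x - 1) := step h3 a3 (by ring)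
  have h5 : M ∣ 27 * (x - 1) := step h4 a1 (by ring)
  have h6 : M ∣ 81 := step h5 a1 (by ring)
  have h7 : q ^ 4 + q ^ 3 + 1 ∣ 81 := by
    rw [← Int.natCast_dvd_natCast]
    push_cast
    rw [hx, ← hM]
    exact h6
  have hle := Nat.le_of_dvd (by norm_num) h7
  have : q < 3 := by
    by_contra h3'
    have := Nat.pow_le_pow_left (show 3 ≤ q by omega) 4
    omega
  interval_cases q
  norm_num at h7

/-- For the twisted group ³D₄(q), realised over the field with q³ elements (q a prime power), every irreducible complex representation of degree at least 2 has degree at least q(q⁴ − q² + 1). -/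
theorem result {K : Type*} [Field K] [Fintype K] (q : ℕ) (hq : IsPrimePow q) (hK : Fintype.card K = q ^ 3) :
    (∀ (k : ℕ) (ρ : Representation ℂ (Cfsg.Lie.twistedD4 K q) (Fin k → ℂ)), ρ.IsIrreducible → 2 ≤ k → q * (q ^ 4 - q ^ 2 + 1) ≤ k) := by
  intro k ρ hρ hk
  let _ := hρ
  have hd : Module.finrank ℂ (Fin k → ℂ) = k := by simp
  have hS : IsSimpleGroup ↥(Cfsg.Lie.twistedD4 K q) :=
    (twisted_simple certD4 twD4_le (twD4 hq hK) (twD4_P1 hq hK) (faithfulD4 hq hK) connD4 (perfectD4 hq hK)).1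
  let e : ↥(twD4 hq hK).P1 ≃* ↥(Cfsg.Lie.twistedD4 K q) := Subgroup.subgroupOfEquivOfLe twD4_le
  let D := triData hq hK
  have hne : ∃ i, (ρ.comp e.toMonoidHom) (D.z i) ≠ 1 := by
    by_contra h
    push Not at h
    have hmem : e (D.z 1) ∈ MonoidHom.ker ρ := MonoidHom.mem_ker.2 (h 1)
    rcases (MonoidHom.normal_ker ρ).eq_bot_or_eq_top with hb | ht
    · rw [hb, Subgroup.mem_bot, MulEquiv.map_eq_one_iff] at hmem
      have h23 : 23 < chevD4.nroots := comm_lt (by decide)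
      exact xG_ne_one certD4 h23 (congrArg Subtype.val hmem)
    · have h1 : ∀ g, ρ g = 1 := fun g => MonoidHom.mem_ker.1 (ht ▸ Subgroup.mem_top g)
      obtain ⟨v, hv⟩ : ∃ v : Fin k → ℂ, v ≠ 0 := ⟨fun _ => 1, fun hh => one_ne_zero (congrFun hh ⟨0, by omega⟩)⟩
      have htop := CfsgLib.CharWeights.eq_top_of_invariant ρ (Submodule.span ℂ {v})
        (fun g w hw => by rw [h1]; exact hw) (by rwa [Ne, Submodule.span_singleton_eq_bot])
      have := finrank_span_singleton (K := ℂ) hv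
      rw [htop, finrank_top, hd] at this
      omega
  classical
  letI : Fintype (FF hq hK) := Fintype.ofFinite _
  have hF : Fintype.card (FF hq hK) = q := by rw [← Nat.card_eq_fintype_card, FF_card]
  rcases D.bound (ρ.comp e.toMonoidHom) q hF hK hne with h | h
  · rwa [hd] at h
  rw [hd] at h
  exfalso
  have hdvd : k ∣ Nat.card ↥(Cfsg.Lie.twistedD4 K q) := by
    have := CfsgLib.CharIntegral.finrank_dvd_card ρ
    rwa [hd] at this
  rw [card_twD4 hq hK, h] at hdvd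
  exact not_dvd q hq.two_le (dvd_trans (dvd_mul_left _ _) hdvd)

end Cfsg.Agent.S2342
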