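import Cfsg.Statements.S2344
import Cfsg.Agent.Lib.Geo.OrthMinDeg.OddMain

set_option autoImplicit false
open Cfsg

namespace Cfsg.Agent.S2344

/-- For a finite field F of odd order q > 3 and n ≥ 3, every irreducible complex representation of degree at least 2 of Ω_{2n+1}(F) (the commutator subgroup of the isometry group of the quadratic form x₀² + x₁y₁ + ⋯ + x_ny_n) has degree at least (q^{2n} − 1)/(q² − 1). -/
theorem result {F : Type*} [Field F] [Fintype F] (n : ℕ) (hn : 3 ≤ n) (hodd : Odd (Fintype.card F)) (h3 : 3 < Fintype.card F) :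
    (∀ (k : ℕ) (ρ : Representation ℂ (Cfsg.Omega F (Cfsg.quadFormOdd n F)) (Fin k → ℂ)), ρ.IsIrreducible → 2 ≤ k → (Fintype.card F ^ (2 * n) - 1) / (Fintype.card F ^ 2 - 1) ≤ k) := by
  intro k ρ hirr hk
  haveI := hirr
  classical
  obtain ⟨i, rfl⟩ : ∃ i, n = i + 3 := ⟨n - 3, by omega⟩
  obtain ⟨g, hg⟩ := CfsgLib.OrthDeg.nontrivial_of_two_le ρ (by simpa using hk)
  let e := CfsgLib.Classical.Quad.omegaEquiv (CfsgLib.Classical.Quad.qOdd (i + 3) F)
  have h5 : 5 ≤ Fintype.card F := by obtain ⟨t, ht⟩ := hodd; omega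
  have key : CfsgLib.OrthDeg.MinDeg (Cfsg.Omega F (Cfsg.quadFormOdd (i + 3) F))
      (CfsgLib.OrthDeg.Odd.Bk (Fintype.card F) (i + 3)) := by
    rw [← CfsgLib.Classical.Quad.coe_qOdd]
    exact (CfsgLib.OrthDeg.Odd.minDeg_odd hodd h5 i).of_equiv e.symm
  have h := key _ ρ ⟨g, hg⟩
  rw [Module.finrank_fin_fun] at h
  refine le_trans (le_of_eq ?_) h
  have hq : 2 ≤ Fintype.card F ^ 2 := by nlinarith
  rw [CfsgLib.OrthDeg.Odd.Bk, pow_mul, ← Nat.geomSum_eq hq]
  simp only [pow_mul]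

end Cfsg.Agent.S2344
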