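import Cfsg.Statements.S2345
import Cfsg.Agent.Lib.Geo.OrthMinDeg.Plus

set_option autoImplicit false
open Cfsg

namespace Cfsg.Agent.S2345

/-- For a finite field F with q > 3 elements and n ≥ 4, every irreducible complex representation of degree at least 2 of Ω⁺_{2n}(F) (the commutator subgroup of the isometry group of the hyperbolic quadratic form x₁y₁ + ⋯ + x_ny_n) has degree at least (q^n − 1)(q^{n−1} + q)/(q² − 1). -/
theorem result {F : Type*} [Field F] [Fintype F] (n : ℕ) (hn : 4 ≤ n) (h3 : 3 < Fintype.card F) :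
    (∀ (k : ℕ) (ρ : Representation ℂ (Cfsg.Omega F (Cfsg.quadFormPlus n F)) (Fin k → ℂ)), ρ.IsIrreducible → 2 ≤ k → (Fintype.card F ^ n - 1) * (Fintype.card F ^ (n - 1) + Fintype.card F) / (Fintype.card F ^ 2 - 1) ≤ k) := by
  intro k ρ hirr hk
  haveI := hirr
  obtain ⟨j, rfl⟩ : ∃ j, n = j + 3 := ⟨n - 3, by omega⟩
  obtain ⟨g, hg⟩ := CfsgLib.OrthDeg.nontrivial_of_two_le ρ (by simpa using hk)
  let e := CfsgLib.Classical.Quad.omegaEquiv (CfsgLib.Classical.Quad.qPlus (j + 3) F)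
  have key : CfsgLib.OrthDeg.MinDeg (Cfsg.Omega F (Cfsg.quadFormPlus (j + 3) F))
      (CfsgLib.OrthDeg.Bp (Fintype.card F) j) := by
    rw [← CfsgLib.Classical.Quad.coe_qPlus]
    exact (CfsgLib.OrthDeg.minDeg_plus h3 j).of_equiv e.symm
  have h := key _ ρ ⟨g, hg⟩
  rw [Module.finrank_fin_fun] at h
  refine le_trans (le_of_eq ?_) h
  set q := Fintype.card F
  have hB := CfsgLib.OrthDeg.Bp_eq (show 1 ≤ q by omega) j
  have hq2 : 1 < q ^ 2 := Nat.one_lt_pow (by omega) (by omega)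
  have hN : (q ^ (j + 3) - 1) * (q ^ (j + 3 - 1) + q) = CfsgLib.OrthDeg.Bp q j * (q ^ 2 - 1) := by
    zify [hq2.le, Nat.one_le_pow (j + 3) q (by omega)]
    rw [hB]
    simp
  rw [hN, Nat.mul_div_cancel _ (by omega)]

end Cfsg.Agent.S2345
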