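import Cfsg.Statements.S2346
import Cfsg.Agent.Lib.Geo.OrthMinDeg.Minus

set_option autoImplicit false
open Cfsg

namespace Cfsg.Agent.S2346

/-- For a finite field F with q elements, n ≥ 4, and a, b ∈ F with z₁² + a z₁z₂ + b z₂² anisotropic, every irreducible complex representation of degree at least 2 of Ω⁻_{2n}(F) (the commutator subgroup of the isometry group of x₁y₁ + ⋯ + x_{n−1}y_{n−1} + z₁² + a z₁z₂ + b z₂²) has degree at least (q^n + 1)(q^{n−1} − q)/(q² − 1). -/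
theorem result {F : Type*} [Field F] [Fintype F] (n : ℕ) (hn : 4 ≤ n) (a b : F) (hab : ∀ z₁ z₂ : F, z₁ ^ 2 + a * z₁ * z₂ + b * z₂ ^ 2 = 0 → z₁ = 0 ∧ z₂ = 0) :
    (∀ (k : ℕ) (ρ : Representation ℂ (Cfsg.Omega F (Cfsg.quadFormMinus (n - 1) F a b)) (Fin k → ℂ)), ρ.IsIrreducible → 2 ≤ k → (Fintype.card F ^ n + 1) * (Fintype.card F ^ (n - 1) - Fintype.card F) / (Fintype.card F ^ 2 - 1) ≤ k) := by
  intro k ρ hirr hk
  haveI := hirr
  obtain ⟨j, rfl⟩ : ∃ j, n = j + 4 := ⟨n - 4, by omega⟩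
  obtain ⟨g, hg⟩ := CfsgLib.OrthDeg.nontrivial_of_two_le ρ (by simpa using hk)
  let e := CfsgLib.Classical.Quad.omegaEquiv (CfsgLib.Classical.Quad.qMinus (j + 4 - 1) F a b)
  have key : CfsgLib.OrthDeg.MinDeg (Cfsg.Omega F (Cfsg.quadFormMinus (j + 4 - 1) F a b))
      (CfsgLib.OrthDeg.Bm (Fintype.card F) j) := by
    rw [← CfsgLib.Classical.Quad.coe_qMinus]
    exact (CfsgLib.OrthDeg.minDeg_minus hab j).of_equiv e.symm
  have h := key _ ρ ⟨g, hg⟩
  rw [Module.finrank_fin_fun] at h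
  refine le_trans (le_of_eq ?_) h
  set q := Fintype.card F
  have hq : 2 ≤ q := Fintype.one_lt_card
  have hB := CfsgLib.OrthDeg.Bm_eq (show 1 ≤ q by omega) j
  have hq2 : 1 < q ^ 2 := Nat.one_lt_pow (by omega) (by omega)
  have hle : q ≤ q ^ (j + 4 - 1) := Nat.le_self_pow (by omega) _
  have hN : (q ^ (j + 4) + 1) * (q ^ (j + 4 - 1) - q) = CfsgLib.OrthDeg.Bm q j * (q ^ 2 - 1) := by
    zify [hq2.le, hle]
    rw [hB]
    simp
  rw [hN, Nat.mul_div_cancel _ (by omega)]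

end Cfsg.Agent.S2346
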