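import Cfsg.Statements.S2355
import Cfsg.Agent.Lib.Known.Laws
import Cfsg.Agent.Lib.Known.ClassicalSections

set_option autoImplicit false
open Cfsg

namespace Cfsg.Agent.S2355

open CfsgLib.Known CfsgLib.Known.ClassicalSections

/-- A law in `S ⧸ Z(S)` passes to `H ⧸ Z(H)` for every `H` embedded in `S`. -/
theorem holds_psl {w : FreeGroup ℕ} {G S H : Type*} [Group G] [Group S] [Group H]
    (h : Laws.Holds w G) (e : G ≃* S ⧸ Subgroup.center S) (φ : H →* S) (hφ : Function.Injective φ) :
    Laws.Holds w (H ⧸ Subgroup.center H) := by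
  refine (h.of_mulEquiv e).of_section ((QuotientGroup.mk' _).comp φ) (QuotientGroup.mk' _)
    QuotientGroup.mk_surjective fun x hx => ?_
  refine (QuotientGroup.eq_one_iff _).2 (Subgroup.mem_center_iff.2 fun y => hφ ?_)
  rw [map_mul, map_mul]
  exact Subgroup.mem_center_iff.1 ((QuotientGroup.eq_one_iff _).1 hx) (φ y)

theorem alt_lt {w : FreeGroup ℕ} {NA : ℕ} (hNA : ∀ n, NA ≤ n → ¬ Laws.Holds w (alternatingGroup (Fin n)))
    {G S : Type*} [Group G] [Group S] {k : ℕ}
    (h : Laws.Holds w G) (e : G ≃* S ⧸ Subgroup.center S) (φ : alternatingGroup (Fin k) →* S)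
    (hφ : Function.Injective φ) : k < max NA 5 := by
  by_contra hcon
  push Not at hcon
  have h4 : 4 ≤ Nat.card (Fin k) := by
    rw [Nat.card_eq_fintype_card, Fintype.card_fin]
    exact (by omega : 4 ≤ 5).trans ((le_max_right _ _).trans hcon)
  refine hNA k ((le_max_left _ _).trans hcon) ?_
  refine (holds_psl h e φ hφ).of_section (QuotientGroup.mk' _) (MonoidHom.id _)
    Function.surjective_id fun x hx => ?_
  have hx' := (QuotientGroup.eq_one_iff _).1 hx
  rw [alternatingGroup.center_eq_bot h4, Subgroup.mem_bot] at hx'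
  exact hx'

theorem field_lt {w : FreeGroup ℕ} (hw : w ≠ 1) {G S : Type*} [Group G] [Group S] {F : Type*}
    [Field F] [Fintype F] (h : Laws.Holds w G) (e : G ≃* S ⧸ Subgroup.center S)
    (φ : Matrix.SpecialLinearGroup (Fin 2) F →* S) (hφ : Function.Injective φ) :
    Fintype.card F ≤ Laws.wordBound w.toWord := by
  by_contra hcon
  push Not at hcon
  exact Laws.fails_psl_two w hw F hcon (holds_psl h e φ hφ)

theorem map_mem_commutator {H O : Type*} [Group H] [Group O] (hH : commutator H = ⊤) (φ : H →* O)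
    (x : H) : φ x ∈ commutator O := by
  have h : (commutator H).map φ ≤ commutator O := by
    rw [commutator_def, Subgroup.map_commutator, commutator_def]
    exact Subgroup.commutator_mono le_top le_top
  exact h ⟨x, by simp [hH], rfl⟩

theorem sl_two_perfect {F : Type*} [Field F] [Fintype F] (h : 4 ≤ Fintype.card F) :
    commutator (Matrix.SpecialLinearGroup (Fin 2) F) = ⊤ := by
  classical
  obtain ⟨a, -, ha⟩ : ∃ a ∈ (Finset.univ : Finset F), a ∉ ({0, 1, -1} : Finset F) := by
    apply Finset.exists_mem_notMem_of_card_lt_card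
    rw [Finset.card_univ]
    exact lt_of_le_of_lt Finset.card_le_three h
  simp only [Finset.mem_insert, Finset.mem_singleton, not_or] at ha
  exact Matrix.SL2.commutator_eq_top ha.1 fun h => by
    rcases sq_eq_one_iff.1 h with h | h
    · exact ha.2.1 h
    · exact ha.2.2 h

theorem card_le_matrix {G F S : Type*} [Group G] [Group S] [Field F] [Fintype F] {ι : Type*}
    [Fintype ι] [DecidableEq ι] (e : G ≃* S ⧸ Subgroup.center S) (f : S → Matrix ι ι F)
    (hf : Function.Injective f) : Nat.card G ≤ Fintype.card F ^ (Fintype.card ι ^ 2) := by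
  haveI : Finite S := Finite.of_injective f hf
  rw [Nat.card_congr e.toEquiv]
  refine ((Nat.card_le_card_of_surjective _ QuotientGroup.mk_surjective).trans
    (Nat.card_le_card_of_injective f hf)).trans (le_of_eq ?_)
  rw [Nat.card_eq_fintype_card, show Fintype.card (Matrix ι ι F) = Fintype.card (ι → ι → F) from rfl,
    Fintype.card_fun, Fintype.card_fun, ← pow_mul, sq]

/-- The orthogonal case, given the embedding of `SL_m`. -/
theorem omega_case {w : FreeGroup ℕ} (hw : w ≠ 1) {NA : ℕ}
    (hNA : ∀ n, NA ≤ n → ¬ Laws.Holds w (alternatingGroup (Fin n)))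
    {G : Type*} [Group G] {F : Type} [Field F] [Fintype F] {ι : Type} [Fintype ι] [DecidableEq ι]
    {Q : (ι → F) → F} {m : ℕ} (hm : 2 ≤ m) (hι : Fintype.card ι ≤ 2 * m + 2)
    (h : Laws.Holds w G) (e : G ≃* Cfsg.POmega F Q)
    (L : Matrix.SpecialLinearGroup (Fin m) F →* ↥(Cfsg.isometryGroup F Q)) (hL : Function.Injective L) :
    m ≤ max NA 5 ∧ Fintype.card ι ≤ 2 * m + 2 ∧
      Fintype.card F ≤ (Laws.wordBound w.toWord + 5) ^ 2 ∧
      Nat.card G ≤ Fintype.card F ^ (Fintype.card ι ^ 2) := by
  refine ⟨?_, hι, ?_, card_le_matrix e (fun g => (((g : ↥(Cfsg.Omega F Q)).1.1 : GL ι F) : Matrix ι ι F))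
    fun a b hab => Subtype.ext (Subtype.ext (Units.ext hab))⟩
  · rcases Nat.lt_or_ge m 5 with hm5 | hm5
    · exact hm5.le.trans (le_max_right _ _)
    have hperf : commutator (alternatingGroup (Fin m)) = ⊤ :=
      commutator_alternatingGroup_eq_top (by rw [Nat.card_eq_fintype_card, Fintype.card_fin]; exact hm5)
    exact (alt_lt hNA h e ((L.comp (altSL m)).codRestrict (Cfsg.Omega F Q) (map_mem_commutator hperf _))
      fun a b hab => (hL.comp (altSL_injective m)) (congrArg Subtype.val hab)).le
  · rcases Nat.lt_or_ge (Fintype.card F) 4 with hF4 | hF4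
    · have := Nat.le_self_pow two_ne_zero (Laws.wordBound w.toWord + 5); omega
    obtain ⟨r, rfl⟩ := Nat.exists_eq_add_of_le hm
    have := field_lt hw h e ((L.comp (blockSL (finSumFinEquiv (m := 2) (n := r)))).codRestrict
      (Cfsg.Omega F Q) (map_mem_commutator (sl_two_perfect hF4) _))
      fun a b hab => (hL.comp (blockSL_injective _)) (congrArg Subtype.val hab)
    have := Nat.le_self_pow two_ne_zero (Laws.wordBound w.toWord + 5); omega


/-- A non-trivial law is satisfied by only finitely many finite simple groups that are alternating or classical, up to isomorphism: for every non-trivial element w of the free group on countably many generators there is a bound N such that every alternating group of degree ≥ 5 and every simple classical group (linear, symplectic, unitary or orthogonal, in this problem's sense) in which w is a law has order at most N. -/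
theorem result (w : FreeGroup ℕ) (hw : w ≠ 1) :
    ∃ N : ℕ, ∀ (G : Type*) [Group G] [Finite G],
      (Cfsg.IsAlternating G ∨ Cfsg.IsPSL G ∨ Cfsg.IsPSp G ∨ Cfsg.IsPSU G ∨ Cfsg.IsPOmegaOdd G ∨
          Cfsg.IsPOmegaPlus G ∨ Cfsg.IsPOmegaMinus G) →
      (∀ f : ℕ → G, FreeGroup.lift f w = 1) → Nat.card G ≤ N := by
  obtain ⟨NA, hNA⟩ := CfsgLib.Known.Laws.fails_alternating w hw
  set M := max NA 5 with hMdef
  set Q := (Laws.wordBound w.toWord + 5) ^ 2 with hQdef
  refine ⟨max M.factorial (Q ^ ((2 * M + 2) ^ 2)), fun G _ _ hG hlaw => ?_⟩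
  replace hlaw : Laws.Holds w G := hlaw
  have h5 : Laws.wordBound w.toWord ≤ Q := by rw [hQdef]; nlinarith
  have fin : ∀ (qF d : ℕ), Nat.card G ≤ qF ^ (d ^ 2) → qF ≤ Q → d ≤ 2 * M + 2 → 1 ≤ qF →
      Nat.card G ≤ max M.factorial (Q ^ ((2 * M + 2) ^ 2)) := by
    intro qF d h1 h2 h3 h4
    exact ((h1.trans (Nat.pow_le_pow_left h2 _)).trans
      (Nat.pow_le_pow_right (h4.trans h2) (Nat.pow_le_pow_left h3 2))).trans (le_max_right _ _)
  rcases hG with ⟨n, hn, ⟨e⟩⟩ | hG | hG | hG | hG | hG | hG
  · have h1 : n < M := by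
      by_contra hcon
      exact hNA n ((le_max_left _ _).trans (not_lt.1 hcon)) (hlaw.of_mulEquiv e)
    rw [Nat.card_congr e.toEquiv]
    refine le_trans ?_ (le_max_left _ _)
    refine (Subgroup.card_le_card_group _).trans ?_
    rw [Nat.card_perm, Nat.card_eq_fintype_card, Fintype.card_fin]
    exact Nat.factorial_le h1.le
  · obtain ⟨F, _, _, n, hn, -, ⟨e⟩⟩ := hG
    obtain ⟨r, rfl⟩ := Nat.exists_eq_add_of_le hn
    have h1 := alt_lt hNA hlaw e (altSL (F := F) (2 + r)) (altSL_injective _)
    have h2 := field_lt hw hlaw e (blockSL (F := F) (finSumFinEquiv (m := 2) (n := r))) (blockSL_injective _)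
    refine fin _ _ (card_le_matrix e _ Subtype.val_injective) (h2.trans h5) ?_ Fintype.card_pos
    rw [Fintype.card_fin]; omega
  · obtain ⟨F, _, _, m, hm, -, ⟨e⟩⟩ := hG
    obtain ⟨r, rfl⟩ := Nat.exists_eq_add_of_le hm
    have h1 := alt_lt hNA hlaw e ((leviSp (F := F) (2 + r)).comp (altSL (2 + r)))
      ((leviSp_injective _).comp (altSL_injective _))
    have h2 := field_lt hw hlaw e ((leviSp (F := F) (2 + r)).comp (blockSL (finSumFinEquiv (m := 2) (n := r))))
      ((leviSp_injective _).comp (blockSL_injective _))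
    refine fin _ _ (card_le_matrix e _ Subtype.val_injective) (h2.trans h5) ?_ Fintype.card_pos
    rw [Fintype.card_sum, Fintype.card_fin]; omega
  · obtain ⟨F, _, _, n, q, hF, hn, -, ⟨e⟩⟩ := hG
    have h1 := alt_lt hNA hlaw e (altSU n F q) (altSU_injective _ _)
    obtain ⟨K, hK, φ, hφ⟩ := exists_SL_two_in_SU (n := n) (by omega) hF
    haveI : Fintype K := Fintype.ofFinite K
    have h2 := field_lt hw hlaw e φ hφ
    rw [Nat.card_eq_fintype_card] at hK
    refine fin _ _ (card_le_matrix e (fun g => g.1.1) fun a b hab => Subtype.ext (Subtype.ext hab)) ?_ ?_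
      Fintype.card_pos
    · rw [hF, hQdef]
      exact Nat.pow_le_pow_left (by omega) 2
    · rw [Fintype.card_fin]; omega
  · obtain ⟨F, _, _, m, hm, -, ⟨e⟩⟩ := hG
    obtain ⟨h1, h2, h3, h4⟩ := omega_case hw hNA (m := m) (by omega)
      (by simp only [Fintype.card_sum, Fintype.card_fin, Fintype.card_unit]; omega)
      hlaw e (leviOdd m) (leviOdd_injective m)
    exact fin _ _ h4 h3 (h2.trans (by omega)) Fintype.card_pos
  · obtain ⟨F, _, _, m, hm, ⟨e⟩⟩ := hG
    obtain ⟨h1, h2, h3, h4⟩ := omega_case hw hNA (m := m) (by omega)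
      (by simp only [Fintype.card_sum, Fintype.card_fin]; omega)
      hlaw e (leviPlus m) (leviPlus_injective m)
    exact fin _ _ h4 h3 (h2.trans (by omega)) Fintype.card_pos
  · obtain ⟨F, _, _, m, a, b, hm, -, ⟨e⟩⟩ := hG
    obtain ⟨h1, h2, h3, h4⟩ := omega_case hw hNA (m := m - 1) (by omega)
      (by simp only [Fintype.card_sum, Fintype.card_fin]; omega)
      hlaw e (leviMinus (m - 1) a b) (leviMinus_injective _ a b)
    exact fin _ _ h4 h3 (h2.trans (by omega)) Fintype.card_pos

end Cfsg.Agent.S2355
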