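import Cfsg.Statements.S2356
import Cfsg.Agent.Lib.Classical.Unitary.ThreeInvolutionsCount

set_option autoImplicit false
open Cfsg

namespace Cfsg.Agent.S2356

/-- Let q be odd, F the field with q² elements, S = SU_3(F) (determinant-one isometries of the standard Hermitian form) and t an involution of S. Then: exactly q(q−1) involutions other than t commute with t; exactly q(q−2)(q²−1) involutions do not commute with t but commute with some involution commuting with t; exactly (q+1)(q²−1) involutions x do not commute with t and admit no involution commuting with both t and x; and every involution can be reached from t in at most three steps, each step going to an involution that commutes with the previous one (the commuting involution graph is connected of diameter 3). -/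
theorem result {F : Type*} [Field F] [Fintype F] {q : ℕ} (hq : Odd q)
    (hF : Fintype.card F = q ^ 2) (t : ↥(Cfsg.SU 3 F q)) (ht : t ≠ 1) (ht2 : t * t = 1) :
    Nat.card {x : ↥(Cfsg.SU 3 F q) // x ≠ 1 ∧ x * x = 1 ∧ x ≠ t ∧ Commute t x} = q * (q - 1) ∧
    Nat.card {x : ↥(Cfsg.SU 3 F q) // x ≠ 1 ∧ x * x = 1 ∧ ¬ Commute t x ∧
        ∃ y : ↥(Cfsg.SU 3 F q), y ≠ 1 ∧ y * y = 1 ∧ Commute t y ∧ Commute y x} = q * (q - 2) * (q ^ 2 - 1) ∧
    Nat.card {x : ↥(Cfsg.SU 3 F q) // x ≠ 1 ∧ x * x = 1 ∧ ¬ Commute t x ∧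
        ∀ y : ↥(Cfsg.SU 3 F q), y ≠ 1 → y * y = 1 → ¬ (Commute t y ∧ Commute y x)} = (q + 1) * (q ^ 2 - 1) ∧
    ∀ x : ↥(Cfsg.SU 3 F q), x ≠ 1 → x * x = 1 →
      ∃ y z : ↥(Cfsg.SU 3 F q), y ≠ 1 ∧ y * y = 1 ∧ z ≠ 1 ∧ z * z = 1 ∧
        Commute t y ∧ Commute y z ∧ Commute z x := by
  have h2 := CfsgLib.Classical.Herm.two_ne_zero_of_odd_card hq hF
  have h := CfsgLib.Classical.Herm.hermStd_isHerm (n := 3) hF
  have h3 : Module.finrank F (Fin 3 → F) = 3 := CfsgLib.Classical.Herm.finrank_std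
  have hQ := CfsgLib.Classical.Herm.card_fixed_powHom hF
  set e := CfsgLib.Classical.Herm.suEquiv 3 hF with he
  have hc : ∀ a b : ↥(Cfsg.SU 3 F q), Commute a b ↔ Commute (e a) (e b) := fun a b =>
    ⟨fun hab => hab.map e.toMonoidHom, fun hab => by
      simpa using hab.map e.symm.toMonoidHom⟩
  have h1' : ∀ a : ↥(Cfsg.SU 3 F q), a ≠ 1 ↔ e a ≠ 1 := fun a =>
    (map_ne_one_iff e e.injective).symm
  have hm : ∀ a : ↥(Cfsg.SU 3 F q), a * a = 1 ↔ e a * e a = 1 := fun a => by
    rw [← map_mul, MulEquiv.map_eq_one_iff]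
  have hn : ∀ a b : ↥(Cfsg.SU 3 F q), a ≠ b ↔ e a ≠ e b := fun a b => e.injective.ne_iff.symm
  have t1 := (h1' t).1 ht
  have t2 := (hm t).1 ht2
  refine ⟨?_, ?_, ?_, fun x hx hx2 => ?_⟩
  · rw [Nat.card_congr (e.toEquiv.subtypeEquiv
      (q := fun y => y ≠ 1 ∧ y * y = 1 ∧ y ≠ e t ∧ Commute (e t) y)
      fun a => and_congr (h1' a) (and_congr (hm a) (and_congr (hn a t) (hc t a)))),
      h.card_commuting_involutions h3 h2 t1 t2, hQ]
  · rw [Nat.card_congr (e.toEquiv.subtypeEquiv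
      (q := fun x => x ≠ 1 ∧ x * x = 1 ∧ ¬ Commute (e t) x ∧
        ∃ y, y ≠ 1 ∧ y * y = 1 ∧ Commute (e t) y ∧ Commute y x)
      fun a => and_congr (h1' a) (and_congr (hm a) (and_congr (not_congr (hc t a))
        (e.toEquiv.exists_congr fun y =>
          and_congr (h1' y) (and_congr (hm y) (and_congr (hc t y) (hc y a))))))),
      h.card_common_neighbour h3 h2 t1 t2, hQ]
  · rw [Nat.card_congr (e.toEquiv.subtypeEquiv
      (q := fun x => x ≠ 1 ∧ x * x = 1 ∧ ¬ Commute (e t) x ∧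
        ∀ y, y ≠ 1 → y * y = 1 → ¬ (Commute (e t) y ∧ Commute y x))
      fun a => and_congr (h1' a) (and_congr (hm a) (and_congr (not_congr (hc t a))
        (e.toEquiv.forall_congr fun y =>
          imp_congr (h1' y) (imp_congr (hm y) (not_congr (and_congr (hc t y) (hc y a)))))))),
      h.card_no_common_neighbour h3 h2 t1 t2, hQ]
  · obtain ⟨y, z, a1, a2, a3, a4, a5, a6, a7⟩ :=
      h.exists_path_three h3 h2 t1 t2 ((h1' x).1 hx) ((hm x).1 hx2)
    refine ⟨e.symm y, e.symm z, ?_, ?_, ?_, ?_, ?_, ?_, ?_⟩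
    all_goals simp only [h1', hm, hc, MulEquiv.apply_symm_apply]
    all_goals assumption

end Cfsg.Agent.S2356
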