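import Cfsg.Statements.S2357
import Cfsg.Agent.Lib.Lie.Twisted.Ree.Tori

set_option autoImplicit false
open Cfsg

namespace Cfsg.Agent.S2357

open CfsgLib.Lie CfsgLib.Lie.Ree

/-- Let R be the small Ree group over the field with q = 3^(2m+1) ≥ 27 elements and write φ for Euler's totient function. Then R has exactly q²(q²−q+1) involutions, (q²−1)(q³+1) elements of order 3, and q²(q−1)(q³+1) elements of order 6 and as many of order 9; for i > 2 dividing q−1 it has φ(i)q³(q³+1)/2 elements of order i; for i > 1 dividing (q+1)/4 it has φ(i)q³(q−1)(q²−q+1)/6 elements of order i and φ(i)q³(q−1)(q²−q+1)/2 elements of order 2i; and for i > 1 dividing q − 3^(m+1) + 1 (respectively q + 3^(m+1) + 1) it has φ(i)q³(q²−1)(q + 3^(m+1) + 1)/6 (respectively φ(i)q³(q²−1)(q − 3^(m+1) + 1)/6) elements of order i. -/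
theorem result {K : Type*} [Field K] [Fintype K] {m : ℕ} (hm : 1 ≤ m)
    (hK : Fintype.card K = 3 ^ (2 * m + 1)) :
    Nat.card {g : ↥(Cfsg.Lie.twistedG2 K (3 ^ m)) // orderOf g = 2} = (3 ^ (2 * m + 1)) ^ 2 * ((3 ^ (2 * m + 1)) ^ 2 - 3 ^ (2 * m + 1) + 1) ∧
    Nat.card {g : ↥(Cfsg.Lie.twistedG2 K (3 ^ m)) // orderOf g = 3} = ((3 ^ (2 * m + 1)) ^ 2 - 1) * ((3 ^ (2 * m + 1)) ^ 3 + 1) ∧
    Nat.card {g : ↥(Cfsg.Lie.twistedG2 K (3 ^ m)) // orderOf g = 6} = (3 ^ (2 * m + 1)) ^ 2 * (3 ^ (2 * m + 1) - 1) * ((3 ^ (2 * m + 1)) ^ 3 + 1) ∧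
    Nat.card {g : ↥(Cfsg.Lie.twistedG2 K (3 ^ m)) // orderOf g = 9} = (3 ^ (2 * m + 1)) ^ 2 * (3 ^ (2 * m + 1) - 1) * ((3 ^ (2 * m + 1)) ^ 3 + 1) ∧
    (∀ i : ℕ, 2 < i → i ∣ 3 ^ (2 * m + 1) - 1 →
      2 * Nat.card {g : ↥(Cfsg.Lie.twistedG2 K (3 ^ m)) // orderOf g = i} = Nat.totient i * (3 ^ (2 * m + 1)) ^ 3 * ((3 ^ (2 * m + 1)) ^ 3 + 1)) ∧
    (∀ i : ℕ, 1 < i → i ∣ (3 ^ (2 * m + 1) + 1) / 4 →
      6 * Nat.card {g : ↥(Cfsg.Lie.twistedG2 K (3 ^ m)) // orderOf g = i} =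
          Nat.totient i * (3 ^ (2 * m + 1)) ^ 3 * (3 ^ (2 * m + 1) - 1) * ((3 ^ (2 * m + 1)) ^ 2 - 3 ^ (2 * m + 1) + 1) ∧
        2 * Nat.card {g : ↥(Cfsg.Lie.twistedG2 K (3 ^ m)) // orderOf g = 2 * i} =
          Nat.totient i * (3 ^ (2 * m + 1)) ^ 3 * (3 ^ (2 * m + 1) - 1) * ((3 ^ (2 * m + 1)) ^ 2 - 3 ^ (2 * m + 1) + 1)) ∧
    (∀ i : ℕ, 1 < i → i ∣ 3 ^ (2 * m + 1) - 3 ^ (m + 1) + 1 →
      6 * Nat.card {g : ↥(Cfsg.Lie.twistedG2 K (3 ^ m)) // orderOf g = i} =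
        Nat.totient i * (3 ^ (2 * m + 1)) ^ 3 * ((3 ^ (2 * m + 1)) ^ 2 - 1) * (3 ^ (2 * m + 1) + 3 ^ (m + 1) + 1)) ∧
    (∀ i : ℕ, 1 < i → i ∣ 3 ^ (2 * m + 1) + 3 ^ (m + 1) + 1 →
      6 * Nat.card {g : ↥(Cfsg.Lie.twistedG2 K (3 ^ m)) // orderOf g = i} =
        Nat.totient i * (3 ^ (2 * m + 1)) ^ 3 * ((3 ^ (2 * m + 1)) ^ 2 - 1) * (3 ^ (2 * m + 1) - 3 ^ (m + 1) + 1)) := by
  have hN : (3 ^ (2 * m + 1)) ^ 2 - 3 ^ (2 * m + 1) + 1 = nSix m := by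
    rw [nSix, Nat.mul_sub, mul_one, sq]
  obtain ⟨A6, B6, hA6, hB6, hca, hcb, hmul⟩ := six_tori hK hm
  have six : ∀ (A B : Subgroup (RG K m)), SixTorus A → Nat.card ↥A * Nat.card ↥B = nSix m →
      ∀ i, 1 < i → i ∣ Nat.card ↥A → 6 * Nat.card {g : RG K m // orderOf g = i} =
        Nat.totient i * (3 ^ (2 * m + 1)) ^ 3 * ((3 ^ (2 * m + 1)) ^ 2 - 1) * Nat.card ↥B := by
    intro A B hA hAB i hi hd
    have h := hA.count hK hi hd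
    rw [card_RG' hK, ← hAB] at h
    have hsq : (3 ^ (2 * m + 1)) ^ 2 - 1 = (3 ^ (2 * m + 1) - 1) * (3 ^ (2 * m + 1) + 1) := by
      have e := Nat.sq_sub_sq (3 ^ (2 * m + 1)) 1
      rw [one_pow] at e
      rw [e, mul_comm]
    rw [hsq]
    refine Nat.eq_of_mul_eq_mul_right (Nat.card_pos (α := ↥A)) ?_
    rw [h]; ring
  refine ⟨?_, ?_, ?_, ?_, fun i hi hd => count_half hK hm hi hd,
    fun i hi hd => ⟨hN ▸ count_quarter hK hm hi hd, hN ▸ count_double hK hm hi hd⟩, ?_, ?_⟩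
  · rw [hN]; exact card_order_two hK hm
  · show Nat.card {g : RG K m // orderOf g = 3} = _
    rw [card_order_BR hK hm dvd_rfl, card_BR_three hK, mul_comm]
  · show Nat.card {g : RG K m // orderOf g = 6} = _
    rw [card_order_BR hK hm (by norm_num), card_BR_six hK, mul_comm]
  · show Nat.card {g : RG K m // orderOf g = 9} = _
    rw [card_order_BR hK hm (by norm_num), card_BR_nine hK, mul_comm]
  · intro i hi hd
    rw [← hcb]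
    exact six A6 B6 hA6 hmul i hi (hca ▸ hd)
  · intro i hi hd
    rw [← hca]
    exact six B6 A6 hB6 (by rw [mul_comm, hmul]) i hi (hcb ▸ hd)

end Cfsg.Agent.S2357
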