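import Cfsg.Statements.S2359
import Cfsg.Agent.Lib.Lie.Twisted.Ree.Tori

set_option autoImplicit false
open Cfsg

namespace Cfsg.Agent.S2359

open CfsgLib.Lie CfsgLib.Lie.Ree

/-- Let R be the small Ree group over the field with q = 3^(2m+1) ≥ 27 elements. If H is a cyclic subgroup of R of order (q−1)/2, then the centralizer of H in R is cyclic of order q−1, and every non-trivial subgroup of H has the same centralizer as H. If H is a cyclic subgroup of order (q+1)/4, then the centralizer of H is abelian of order q+1 with no element of order 4 (so it is the direct product of H and a group of order 4 whose non-identity elements all have order 2), and every non-trivial subgroup of H has the same centralizer as H. -/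
theorem result {K : Type*} [Field K] [Fintype K] {m : ℕ} (hm : 1 ≤ m)
    (hK : Fintype.card K = 3 ^ (2 * m + 1)) (H : Subgroup ↥(Cfsg.Lie.twistedG2 K (3 ^ m))) (hH : IsCyclic H) :
    (Nat.card H = (3 ^ (2 * m + 1) - 1) / 2 →
      IsCyclic ↥(Subgroup.centralizer (H : Set ↥(Cfsg.Lie.twistedG2 K (3 ^ m)))) ∧
        Nat.card ↥(Subgroup.centralizer (H : Set ↥(Cfsg.Lie.twistedG2 K (3 ^ m)))) = 3 ^ (2 * m + 1) - 1 ∧
        ∀ A : Subgroup ↥(Cfsg.Lie.twistedG2 K (3 ^ m)), A ≤ H → A ≠ ⊥ →
          Subgroup.centralizer (A : Set ↥(Cfsg.Lie.twistedG2 K (3 ^ m))) = Subgroup.centralizer (H : Set ↥(Cfsg.Lie.twistedG2 K (3 ^ m)))) ∧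
    (Nat.card H = (3 ^ (2 * m + 1) + 1) / 4 →
      IsMulCommutative ↥(Subgroup.centralizer (H : Set ↥(Cfsg.Lie.twistedG2 K (3 ^ m)))) ∧
        Nat.card ↥(Subgroup.centralizer (H : Set ↥(Cfsg.Lie.twistedG2 K (3 ^ m)))) = 3 ^ (2 * m + 1) + 1 ∧
        (∀ x ∈ Subgroup.centralizer (H : Set ↥(Cfsg.Lie.twistedG2 K (3 ^ m))), orderOf x ≠ 4) ∧
        ∀ A : Subgroup ↥(Cfsg.Lie.twistedG2 K (3 ^ m)), A ≤ H → A ≠ ⊥ →
          Subgroup.centralizer (A : Set ↥(Cfsg.Lie.twistedG2 K (3 ^ m))) = Subgroup.centralizer (H : Set ↥(Cfsg.Lie.twistedG2 K (3 ^ m)))) := by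
  have pull : ∀ (T C : Subgroup (RG K m)), IsCyclic ↥T → Nat.card ↥H = Nat.card ↥T →
      (∀ y : RG K m, orderOf y = Nat.card ↥T → ∃ g : RG K m, g⁻¹ * y * g ∈ T) → T ≠ ⊥ →
      (∀ A0 ≤ T, A0 ≠ ⊥ → Subgroup.centralizer (A0 : Set (RG K m)) = C) →
      ∃ g : RG K m, Subgroup.centralizer (H : Set (RG K m)) = C.map (MulAut.conj g).toMonoidHom ∧
        ∀ A : Subgroup (RG K m), A ≤ H → A ≠ ⊥ →
          Subgroup.centralizer (A : Set (RG K m)) = Subgroup.centralizer (H : Set (RG K m)) := by
    intro T C hT hc hcov hTne hcent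
    obtain ⟨g, hg⟩ := conj_of_cover hK hT hT hH hc.symm hcov
    have hHC : Subgroup.centralizer (H : Set (RG K m)) = C.map (MulAut.conj g).toMonoidHom := by
      rw [hg, centralizer_map_conj hK, hcent T le_rfl hTne]
    refine ⟨g, hHC, fun A hA hAne => ?_⟩
    obtain ⟨A', hA'⟩ : ∃ A', A' = A.comap (MulAut.conj g).toMonoidHom := ⟨_, rfl⟩
    have hmap : A'.map (MulAut.conj g).toMonoidHom = A := by
      rw [hA', Subgroup.map_comap_eq_self_of_surjective (MulAut.conj g).surjective]
    have hle : A' ≤ T := by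
      rw [← Subgroup.map_le_map_iff_of_injective (f := (MulAut.conj g).toMonoidHom) (MulAut.conj g).injective, hmap, ← hg]
      exact hA
    rw [hHC, ← hmap, centralizer_map_conj hK, hcent A' hle fun e => hAne (by rw [← hmap, e, Subgroup.map_bot])]
  constructor
  · intro hc
    obtain ⟨g, hC, hsub⟩ := pull (AH hK) (HR K m) (AH_cyclic hK) (hc.trans (card_AH hK).symm)
      (fun y hy => cover_half hK hm dvd_rfl (hy.trans (card_AH hK)))
      (fun e => by have := card_AH hK; rw [e, Subgroup.card_bot] at this; have := nH_gt m hm; omega)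
      (fun A0 h h' => centralizer_of_le_AH hK hm h h')
    refine ⟨?_, ?_, hsub⟩
    · rw [hC]
      have := HR_cyclic hK
      exact isCyclic_of_surjective ((HR K m).equivMapOfInjective _ (MulAut.conj g).injective).toMonoidHom
        ((HR K m).equivMapOfInjective _ (MulAut.conj g).injective).surjective
    · rw [hC]
      exact (Nat.card_congr ((HR K m).equivMapOfInjective _ (MulAut.conj g).injective).toEquiv).symm.trans (card_HR hK)
  · intro hc
    obtain ⟨g, hC, hsub⟩ := pull (A1 hK) (TD hK) (A1_cyclic hK) (hc.trans (card_A1 hK).symm)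
      (fun y hy => cover_quarter hK hm dvd_rfl (hy.trans (card_A1 hK)))
      (fun e => by have := card_A1 hK; rw [e, Subgroup.card_bot] at this; have := nQ_gt m hm; omega)
      (fun A0 h h' => centralizer_of_le_A1 hK hm h h')
    refine ⟨?_, ?_, ?_, hsub⟩
    · rw [hC]
      refine ⟨⟨fun a b => Subtype.ext ?_⟩⟩
      obtain ⟨u, hu, hua⟩ := a.2
      obtain ⟨v, hv, hvb⟩ := b.2
      rw [Subgroup.coe_mul, Subgroup.coe_mul, ← hua, ← hvb, ← map_mul, ← map_mul, TD_comm hK hu hv]
    · rw [hC]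
      exact (Nat.card_congr ((TD hK).equivMapOfInjective _ (MulAut.conj g).injective).toEquiv).symm.trans (card_TD hK)
    · rw [hC]
      rintro _ ⟨u, hu, rfl⟩ h4
      rw [MulEquiv.coe_toMonoidHom, MulEquiv.orderOf_eq] at h4
      have h := orderOf_dvd_of_pow_eq_one (TD_pow hK hu)
      have := (nQ_spec m).2
      rw [h4] at h
      omega

end Cfsg.Agent.S2359
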