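import Cfsg.Statements.S2360
import Cfsg.Agent.Lib.Classical.Unitary.ThreeInvolutionsCount

set_option autoImplicit false
open Cfsg

namespace Cfsg.Agent.S2360

/-- Let q be odd, F the field with q² elements and S = SU_3(F) (determinant-one isometries of the standard Hermitian form). Then all involutions of S are conjugate; there are exactly q²(q²−q+1) of them; the centralizer of an involution has order q(q+1)(q²−1), the order of the full unitary group of degree 2; and for two distinct commuting involutions t and x there is exactly one further involution commuting with both. -/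
theorem result {F : Type*} [Field F] [Fintype F] {q : ℕ} (hq : Odd q)
    (hF : Fintype.card F = q ^ 2) (t : ↥(Cfsg.SU 3 F q)) (ht : t ≠ 1) (ht2 : t * t = 1) :
    (∀ x : ↥(Cfsg.SU 3 F q), x ≠ 1 → x * x = 1 → ∃ g : ↥(Cfsg.SU 3 F q), g * t * g⁻¹ = x) ∧
    Nat.card {x : ↥(Cfsg.SU 3 F q) // x ≠ 1 ∧ x * x = 1} = q ^ 2 * (q ^ 2 - q + 1) ∧
    Nat.card ↥(Subgroup.centralizer ({t} : Set ↥(Cfsg.SU 3 F q))) = q * (q + 1) * (q ^ 2 - 1) ∧
    ∀ x : ↥(Cfsg.SU 3 F q), x ≠ 1 → x * x = 1 → x ≠ t → Commute t x →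
      Nat.card {y : ↥(Cfsg.SU 3 F q) // y ≠ 1 ∧ y * y = 1 ∧ y ≠ t ∧ y ≠ x ∧ Commute t y ∧ Commute x y} = 1 := by
  have h2 := CfsgLib.Classical.Herm.two_ne_zero_of_odd_card hq hF
  have h := CfsgLib.Classical.Herm.hermStd_isHerm (n := 3) hF
  have h3 : Module.finrank F (Fin 3 → F) = 3 := CfsgLib.Classical.Herm.finrank_std
  have hQ := CfsgLib.Classical.Herm.card_fixed_powHom hF
  set e := CfsgLib.Classical.Herm.suEquiv 3 hF with he
  have hc : ∀ a b : ↥(Cfsg.SU 3 F q), Commute a b ↔ Commute (e a) (e b) := fun a b =>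
    ⟨fun hab => hab.map e.toMonoidHom, fun hab => by
      simpa using hab.map e.symm.toMonoidHom⟩
  have h1' : ∀ a : ↥(Cfsg.SU 3 F q), a ≠ 1 ↔ e a ≠ 1 := fun a =>
    (map_ne_one_iff e e.injective).symm
  have hm : ∀ a : ↥(Cfsg.SU 3 F q), a * a = 1 ↔ e a * e a = 1 := fun a => by
    rw [← map_mul, MulEquiv.map_eq_one_iff]
  have hn : ∀ a b : ↥(Cfsg.SU 3 F q), a ≠ b ↔ e a ≠ e b := fun a b => e.injective.ne_iff.symm
  have t1 := (h1' t).1 ht
  have t2 := (hm t).1 ht2
  refine ⟨fun x hx hx2 => ?_, ?_, ?_, fun x hx hx2 hxt hcx => ?_⟩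
  · obtain ⟨g, hg⟩ := h.exists_conj_involution h3 h2 t1 t2 ((h1' x).1 hx) ((hm x).1 hx2)
    exact ⟨e.symm g, e.injective (by simpa using hg)⟩
  · rw [Nat.card_congr (e.toEquiv.subtypeEquiv (q := fun y => y ≠ 1 ∧ y * y = 1)
      fun a => and_congr (h1' a) (hm a)), h.card_involutions h3 h2, hQ]
  · refine (Nat.card_congr (e.toEquiv.subtypeEquiv
      (q := fun y => y ∈ Subgroup.centralizer {e t}) fun a => ?_)).trans
      ((h.card_centralizer_involution h3 h2 t1 t2).trans (by rw [hQ]))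
    simp only [Subgroup.mem_centralizer_singleton_iff]
    exact hc a t
  · rw [Nat.card_congr (e.toEquiv.subtypeEquiv (q := fun y =>
        y ≠ 1 ∧ y * y = 1 ∧ y ≠ e t ∧ y ≠ e x ∧ Commute (e t) y ∧ Commute (e x) y)
      fun a => and_congr (h1' a) (and_congr (hm a) (and_congr (hn a t) (and_congr (hn a x)
        (and_congr (hc t a) (hc x a))))))]
    exact h.card_third_involution h3 h2 t1 t2 ((h1' x).1 hx) ((hm x).1 hx2) ((hn x t).1 hxt)
      ((hc t x).1 hcx)

end Cfsg.Agent.S2360
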