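import Cfsg.Statements.S2367
import Mathlib.Data.Nat.Factorization.Basic
import Mathlib.Tactic.IntervalCases
import Mathlib.Data.Nat.Multiplicity

set_option autoImplicit false
open Cfsg

namespace Cfsg.Agent.S2367

theorem factorization_ge_of_dvd {N q a : ℕ} (hq : q.Prime) (hN : N ≠ 0) (h : q ^ a ∣ N) :
    a ≤ N.factorization q := (hq.pow_dvd_iff_le_factorization hN).1 h

theorem mem_of_prime_dvd {p : ℕ} (hp : p.Prime) : ∀ L : List (ℕ × ℕ),
    (∀ f ∈ L, f.1.Prime) → p ∣ (L.map fun f => f.1 ^ f.2).prod → ∃ f ∈ L, f.1 = p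
  | [], _, h => absurd (by simpa using h) hp.ne_one
  | f :: L, hL, h => by
    rw [List.map_cons, List.prod_cons] at h
    rcases hp.dvd_mul.1 h with h | h
    · exact ⟨f, List.mem_cons_self, ((Nat.prime_dvd_prime_iff_eq hp (hL f List.mem_cons_self)).1
        (hp.dvd_of_dvd_pow h)).symm⟩
    · obtain ⟨g, hg, hgp⟩ := mem_of_prime_dvd hp L (fun g hg => hL g (List.mem_cons_of_mem f hg)) h
      exact ⟨g, List.mem_cons_of_mem f hg, hgp⟩

theorem cube_lt_two_pow : ∀ p : ℕ, 5 ≤ p → p ^ 3 < 2 ^ (2 * p - 3) := by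
  intro p hp
  induction p, hp using Nat.le_induction with
  | base => decide
  | succ n hn ih =>
      rw [show 2 * (n + 1) - 3 = 2 * n - 3 + 2 by omega, pow_add]
      have h3 : n ^ 3 = n * n * n := by ring
      have h4 : (n + 1) ^ 3 ≤ 4 * n ^ 3 := by
        rw [h3, show (n + 1) ^ 3 = n * n * n + 3 * (n * n) + 3 * n + 1 by ring]
        have h5 : 5 * (n * n) ≤ n * (n * n) := Nat.mul_le_mul_right _ hn
        have h6 : 5 * n ≤ n * n := Nat.mul_le_mul_right _ hn
        have h7 : n * n * n = n * (n * n) := mul_assoc _ _ _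
        omega
      omega

/-- Let G be an alternating group of degree at least 5 or a simple group with the order of one of the 26 sporadic groups, and let p be an odd prime such that p³ is the exact power of p dividing the order of G. Then p³ is less than the 2-part of the order of G. -/
theorem result {G : Type*} [Group G] [Finite G] (hG : Cfsg.IsAlternating G ∨ Cfsg.IsSporadic G)
    (p : ℕ) (hp : p.Prime) (hodd : p ≠ 2) (h3 : (Nat.card G).factorization p = 3) :
    p ^ 3 < 2 ^ (Nat.card G).factorization 2 := by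
  have hgen : ∀ (N a : ℕ) (L : List (ℕ × ℕ)), Nat.card G = N → (L.map fun f => f.1 ^ f.2).prod = N →
      (2 ^ a ∣ N ∧ N ≠ 0 ∧ ∀ f ∈ L, f.1.Prime ∧ (f.1 = 2 ∨ f.1 ^ 3 < 2 ^ a ∨ f.1 ^ 4 ∣ N ∨
        ¬ f.1 ^ 3 ∣ N)) → p ^ 3 < 2 ^ (Nat.card G).factorization 2 := by
    rintro N a L hN hprod ⟨ha, hN0, hL⟩
    rw [hN] at h3 ⊢
    have hdvd : p ^ 3 ∣ N := (hp.pow_dvd_iff_le_factorization hN0).2 h3.ge
    obtain ⟨f, hf, rfl⟩ := mem_of_prime_dvd hp L (fun f hf => (hL f hf).1)
      (hprod.symm ▸ (dvd_pow_self p (by norm_num)).trans hdvd)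
    rcases (hL f hf).2 with h | h | h | h
    · exact absurd h hodd
    · exact h.trans_le (Nat.pow_le_pow_right (by norm_num)
        (factorization_ge_of_dvd Nat.prime_two hN0 ha))
    · exact absurd ((hp.pow_dvd_iff_le_factorization hN0).1 h) (by omega)
    · exact absurd hdvd h
  rcases hG with ⟨n, hn, ⟨e⟩⟩ | hG
  · have : Nontrivial (Fin n) := Fin.nontrivial_iff_two_le.2 (by omega)
    have hA : 2 * Nat.card G = n.factorial := by
      rw [Nat.card_congr e.toEquiv, two_mul_nat_card_alternatingGroup, Nat.card_perm,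
        Nat.card_fin]
    have hG0 : Nat.card G ≠ 0 := Nat.card_pos.ne'
    have h2 : n.factorial.factorization 2 = (Nat.card G).factorization 2 + 1 := by
      rw [← hA, Nat.factorization_mul (by norm_num) hG0, Finsupp.add_apply,
        Nat.prime_two.factorization_self, add_comm]
    have hpn : n.factorial.factorization p = 3 := by
      rw [← hA, Nat.factorization_mul (by norm_num) hG0, Finsupp.add_apply, h3,
        Nat.prime_two.factorization, Finsupp.single_eq_of_ne hodd, zero_add]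
    have := Fact.mk hp
    have := Fact.mk Nat.prime_two
    rw [Nat.factorization_def _ hp, padicValNat_factorial (b := n + 1)
      (Nat.lt_succ_of_le (Nat.log_le_self p n))] at hpn
    have hv2 : n / 2 + n / 4 ≤ n.factorial.factorization 2 := by
      rw [Nat.factorization_def _ Nat.prime_two, padicValNat_factorial (b := n + 1)
        (Nat.lt_succ_of_le (Nat.log_le_self 2 n))]
      have hsub : ({1, 2} : Finset ℕ) ⊆ Finset.Ico 1 (n + 1) := by
        intro i hi
        simp only [Finset.mem_insert, Finset.mem_singleton] at hi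
        rw [Finset.mem_Ico]; omega
      refine le_trans ?_ (Finset.sum_le_sum_of_subset hsub)
      simp
    have hsum : ∀ i, i ∈ Finset.Ico 1 (n + 1) → n / p ^ i ≤ 3 := fun i hi =>
      (Finset.single_le_sum (f := fun i => n / p ^ i) (fun _ _ => Nat.zero_le _) hi).trans hpn.le
    have h5 : 5 ≤ p := by
      rcases Nat.lt_or_ge p 5 with h | h
      · exfalso
        have hp3 : p = 3 := by
          have := hp.two_le
          interval_cases p
          · exact absurd rfl hodd
          · rfl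
          · exact absurd hp (by decide)
        subst hp3
        have h1 : n / 3 ^ 1 ≤ 3 := hsum 1 (Finset.mem_Ico.2 ⟨le_rfl, by omega⟩)
        simp only [pow_one] at h1
        have : n < 12 := by omega
        interval_cases n <;> revert hpn <;> decide
      · exact h
    have hn3 : 3 * p ≤ n := by
      by_contra hlt
      push Not at hlt
      have h1 : n / p ≤ 2 := Nat.lt_succ_iff.1 ((Nat.div_lt_iff_lt_mul hp.pos).2 hlt)
      have h2' : ∀ i ∈ Finset.Ico 1 (n + 1), i ≠ 1 → n / p ^ i = 0 := fun i hi hi1 => by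
        rw [Finset.mem_Ico] at hi
        refine Nat.div_eq_of_lt (lt_of_lt_of_le hlt ?_)
        calc 3 * p ≤ p * p := Nat.mul_le_mul_right p (by omega)
          _ = p ^ 2 := by ring
          _ ≤ p ^ i := Nat.pow_le_pow_right hp.pos (by omega)
      rw [Finset.sum_eq_single_of_mem 1 (Finset.mem_Ico.2 ⟨le_rfl, by omega⟩) h2', pow_one] at hpn
      omega
    exact (cube_lt_two_pow p h5).trans_le (Nat.pow_le_pow_right (by norm_num) (by omega))
  rcases hG with h | h | h | h | h | h | h | h | h | h | h | h | h | h | h | h | h | h | h | h |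
    h | h | h | h | h | h
  · exact hgen _ 4 [(2, 4), (3, 2), (5, 1), (11, 1)] h.2 (by norm_num) (by decide)
  · exact hgen _ 6 [(2, 6), (3, 3), (5, 1), (11, 1)] h.2 (by norm_num) (by decide)
  · exact hgen _ 7 [(2, 7), (3, 2), (5, 1), (7, 1), (11, 1)] h.2 (by norm_num) (by decide)
  · exact hgen _ 7 [(2, 7), (3, 2), (5, 1), (7, 1), (11, 1), (23, 1)] h.2 (by norm_num) (by decide)
  · exact hgen _ 10 [(2, 10), (3, 3), (5, 1), (7, 1), (11, 1), (23, 1)] h.2 (by norm_num) (by decide)
  · exact hgen _ 3 [(2, 3), (3, 1), (5, 1), (7, 1), (11, 1), (19, 1)] h.2 (by norm_num) (by decide)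
  · exact hgen _ 7 [(2, 7), (3, 3), (5, 2), (7, 1)] h.2 (by norm_num) (by decide)
  · exact hgen _ 7 [(2, 7), (3, 5), (5, 1), (17, 1), (19, 1)] h.2 (by norm_num) (by decide)
  · exact hgen _ 21 [(2, 21), (3, 3), (5, 1), (7, 1), (11, 3), (23, 1), (29, 1), (31, 1), (37, 1), (43, 1)] h.2 (by norm_num) (by decide)
  · exact hgen _ 21 [(2, 21), (3, 9), (5, 4), (7, 2), (11, 1), (13, 1), (23, 1)] h.2 (by norm_num) (by decide)
  · exact hgen _ 18 [(2, 18), (3, 6), (5, 3), (7, 1), (11, 1), (23, 1)] h.2 (by norm_num) (by decide)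
  · exact hgen _ 10 [(2, 10), (3, 7), (5, 3), (7, 1), (11, 1), (23, 1)] h.2 (by norm_num) (by decide)
  · exact hgen _ 17 [(2, 17), (3, 9), (5, 2), (7, 1), (11, 1), (13, 1)] h.2 (by norm_num) (by decide)
  · exact hgen _ 18 [(2, 18), (3, 13), (5, 2), (7, 1), (11, 1), (13, 1), (17, 1), (23, 1)] h.2 (by norm_num) (by decide)
  · exact hgen _ 21 [(2, 21), (3, 16), (5, 2), (7, 3), (11, 1), (13, 1), (17, 1), (23, 1), (29, 1)] h.2 (by norm_num) (by decide)
  · exact hgen _ 9 [(2, 9), (3, 2), (5, 3), (7, 1), (11, 1)] h.2 (by norm_num) (by decide)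
  · exact hgen _ 7 [(2, 7), (3, 6), (5, 3), (7, 1), (11, 1)] h.2 (by norm_num) (by decide)
  · exact hgen _ 10 [(2, 10), (3, 3), (5, 2), (7, 3), (17, 1)] h.2 (by norm_num) (by decide)
  · exact hgen _ 14 [(2, 14), (3, 3), (5, 3), (7, 1), (13, 1), (29, 1)] h.2 (by norm_num) (by decide)
  · exact hgen _ 13 [(2, 13), (3, 7), (5, 2), (7, 1), (11, 1), (13, 1)] h.2 (by norm_num) (by decide)
  · exact hgen _ 9 [(2, 9), (3, 4), (5, 1), (7, 3), (11, 1), (19, 1), (31, 1)] h.2 (by norm_num) (by decide)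
  · exact hgen _ 14 [(2, 14), (3, 6), (5, 6), (7, 1), (11, 1), (19, 1)] h.2 (by norm_num) (by decide)
  · exact hgen _ 8 [(2, 8), (3, 7), (5, 6), (7, 1), (11, 1), (31, 1), (37, 1), (67, 1)] h.2 (by norm_num) (by decide)
  · exact hgen _ 15 [(2, 15), (3, 10), (5, 3), (7, 2), (13, 1), (19, 1), (31, 1)] h.2 (by norm_num) (by decide)
  · exact hgen _ 41 [(2, 41), (3, 13), (5, 6), (7, 2), (11, 1), (13, 1), (17, 1), (19, 1), (23, 1), (31, 1), (47, 1)] h.2 (by norm_num) (by decide)
  · exact hgen _ 46 [(2, 46), (3, 20), (5, 9), (7, 6), (11, 2), (13, 3), (17, 1), (19, 1), (23, 1), (29, 1), (31, 1), (41, 1), (47, 1), (59, 1), (71, 1)] h.2 (by norm_num) (by decide)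

end Cfsg.Agent.S2367
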