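import Cfsg.Statements.S2368
import Cfsg.Agent.Lib.Known.GLOrders

set_option autoImplicit false
open Cfsg

namespace Cfsg.Agent.S2368

/-- Let F be a finite field of characteristic p and m ≥ 1. Every element of GL(m, F) of p-power order has order less than p·m, and GL(m, F) has an element of p-power order at least m; so the largest order of a p-element of GL(m, F) is the least power of p that is at least m. -/
theorem result {F : Type*} [Field F] [Fintype F] (p : ℕ) [Fact p.Prime] [CharP F p] (m : ℕ) (hm : 1 ≤ m) :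
    (∀ g : Matrix.GeneralLinearGroup (Fin m) F, (∃ j : ℕ, orderOf g = p ^ j) → orderOf g < p * m) ∧
      ∃ g : Matrix.GeneralLinearGroup (Fin m) F, (∃ j : ℕ, orderOf g = p ^ j) ∧ m ≤ orderOf g := by
  have hp := (inferInstance : Fact p.Prime).out
  have hlt : p ^ Nat.clog p m < p * m := by
    rcases Nat.lt_or_ge m 2 with h | h
    · rw [Nat.clog_of_right_le_one (by omega), pow_zero]
      have : m = 1 := by omega
      subst this
      simpa using hp.one_lt
    obtain ⟨c, hc⟩ := Nat.exists_eq_add_of_le' (Nat.clog_pos hp.one_lt h)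
    have h2 := Nat.pow_pred_clog_lt_self hp.one_lt h
    rw [hc] at h2 ⊢
    rw [pow_succ']
    exact Nat.mul_lt_mul_of_pos_left (by simpa using h2) hp.pos
  refine ⟨fun g ⟨j, hj⟩ => lt_of_le_of_lt (Nat.le_of_dvd (pow_pos hp.pos _)
    (CfsgLib.Known.GLOrders.char_pow_dvd g hj.dvd)) hlt, ?_⟩
  obtain ⟨g, hg⟩ := CfsgLib.Known.GLOrders.exists_orderOf_eq_char_pow (F := F) (p := p) m
  exact ⟨g, ⟨_, hg⟩, hg ▸ Nat.le_pow_clog hp.one_lt m⟩

end Cfsg.Agent.S2368
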