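import Cfsg.Statements.S2369
import Cfsg.Agent.Lib.Lie.Twisted.F4Inv.Cent

set_option autoImplicit false
open Cfsg

namespace Cfsg.Agent.S2369

/-- Let q = 2^(2m+1) with m ≥ 1 and let a, b be commuting elements of the large Ree group ²F₄(q) with a an involution. Then every prime divisor of the order of b divides q(q⁴ − 1). -/
theorem result {K : Type*} [Field K] [Fintype K] (m : ℕ) (hm : 1 ≤ m) (hK : Fintype.card K = 2 ^ (2 * m + 1))
    (a b : ↥(Cfsg.Lie.twistedF4 K (2 ^ m))) (ha : orderOf a = 2) (hab : Commute a b) :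
    (orderOf b).primeFactors ⊆ (2 ^ (2 * m + 1) * ((2 ^ (2 * m + 1)) ^ 4 - 1)).primeFactors := by
  obtain ⟨hpow, hne⟩ := orderOf_eq_prime_iff.1 ha
  intro p hp
  rw [Nat.mem_primeFactors] at hp ⊢
  obtain ⟨hp1, hp2, -⟩ := hp
  refine ⟨hp1, ?_, ?_⟩
  · obtain ⟨e, he⟩ : ∃ e : ↥(Cfsg.Lie.twistedF4 K (2 ^ m)) →* ↥(Cfsg.Lie.chevF4.group K),
        e = Subgroup.inclusion CfsgLib.Lie.Chev.TwGroups.twF4_le := ⟨_, rfl⟩
    have hinj : Function.Injective e := he ▸ Subgroup.inclusion_injective _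
    have hmem : ∀ g, e g ∈ CfsgLib.Lie.Chev.TwGroups.F4Inv.P1 (K := K) m := fun g => by
      rw [he, Subgroup.mem_subgroupOf]
      exact g.2
    refine CfsgLib.Lie.Chev.TwGroups.F4Inv.primes_of_commute hK (hmem a) ?_ ?_ (hmem b) (hab.map e) hp1 ?_
    · rw [← map_mul, ← sq, hpow, map_one]
    · exact fun h => hne (hinj (h.trans (map_one e).symm))
    · rwa [orderOf_injective e hinj]
  · have h2 : 2 ≤ 2 ^ (2 * m + 1) := Nat.le_self_pow (by omega) 2
    have h4 : 2 ^ (2 * m + 1) ≤ (2 ^ (2 * m + 1)) ^ 4 := Nat.le_self_pow (by norm_num) _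
    exact mul_ne_zero (by omega) (by omega)

end Cfsg.Agent.S2369
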