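import Cfsg.Statements.S2373
import Cfsg.Agent.Lib.Known.ScTorus.E6

set_option autoImplicit false
open Cfsg

namespace Cfsg.Agent.S2373

private theorem three_val : ∀ x : ZMod 3, x ^ 4 - x ^ 2 + 1 ≠ 0 := by decide

/-- The group E₆(q) (the simple Chevalley group of type E₆) contains a cyclic subgroup of order (q⁴ − q² + 1)(q² + q + 1)/gcd(3, q − 1) which is its own centralizer. -/
theorem result {F : Type*} [Field F] [Fintype F] (q : ℕ) (hF : Fintype.card F = q) :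
    ∃ H : Subgroup ↥(Cfsg.Lie.chevE6.group F), IsCyclic ↥H ∧ Nat.card ↥H = (q ^ 4 - q ^ 2 + 1) * (q ^ 2 + q + 1) / Nat.gcd 3 (q - 1) ∧
      Subgroup.centralizer (H : Set ↥(Cfsg.Lie.chevE6.group F)) = H := by
  classical
  have hq : 1 < q := hF ▸ Fintype.one_lt_card
  obtain ⟨A, hA⟩ : ∃ A : ℕ, A = q ^ 4 - q ^ 2 + 1 := ⟨_, rfl⟩
  have hle : q ^ 2 ≤ q ^ 4 := Nat.pow_le_pow_right (by omega) (by norm_num)
  have hA' : (A : ℤ) = (q : ℤ) ^ 4 - (q : ℤ) ^ 2 + 1 := by rw [hA]; push_cast [Nat.cast_sub hle]; ring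
  have hA1 : 1 < A := by
    have : q ^ 2 < q ^ 4 := Nat.pow_lt_pow_right hq (by norm_num)
    omega
  obtain ⟨r, hr, hrA⟩ := Nat.exists_prime_and_dvd hA1.ne'
  have : Fact r.Prime := ⟨hr⟩
  have hrZ : (r : ℤ) ∣ (q : ℤ) ^ 4 - (q : ℤ) ^ 2 + 1 := hA' ▸ Int.natCast_dvd_natCast.2 hrA
  have hr23 : r ≠ 2 ∧ r ≠ 3 := by
    refine ⟨?_, ?_⟩ <;> rintro rfl
    · have h := (ZMod.intCast_zmod_eq_zero_iff_dvd _ 2).2 hrZ
      push_cast at h
      exact CfsgLib.Known.ScTorus.two_val (q : ZMod 2) (by rw [h, zero_mul])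
    · have h := (ZMod.intCast_zmod_eq_zero_iff_dvd _ 3).2 hrZ
      push_cast at h
      exact three_val (q : ZMod 3) h
  have hprim := CfsgLib.Known.ScTorus.primitive_twelve hr23.1 hr23.2 hrZ
  have hz0 : ((q : ℕ) : ZMod r) ≠ 0 := fun h => by
    have h1 := hprim.pow_eq_one
    rw [h, zero_pow (by norm_num)] at h1
    exact zero_ne_one h1
  have hr13 : 13 ≤ r := by
    have h := ZMod.orderOf_dvd_card_sub_one hz0
    rw [← hprim.eq_orderOf] at h
    have := Nat.le_of_dvd (by have := hr.two_le; omega) h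
    omega
  obtain ⟨p, hc⟩ := CharP.exists F
  have := hc
  obtain ⟨pa, hp, -⟩ := FiniteField.card F p
  have : Fact p.Prime := ⟨hp⟩
  let K := FiniteField.Extension F p 12
  have : Finite K := Module.finite_of_finite F
  let : Fintype K := Fintype.ofFinite K
  obtain ⟨P, hP⟩ : ∃ P : ℕ, P = (q ^ 4 - q ^ 2 + 1) * (q ^ 2 + q + 1) := ⟨_, rfl⟩
  have hP' : (P : ℤ) = ((q : ℤ) ^ 4 - (q : ℤ) ^ 2 + 1) * ((q : ℤ) ^ 2 + q + 1) := by
    rw [hP, Nat.cast_mul, ← hA, hA']; push_cast; ring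
  have hrW : ¬ r ∣ [2, 5, 6, 8, 9, 12].prod := by
    intro h
    obtain ⟨x, hx, hrx⟩ := (Prime.dvd_prod_iff hr.prime).1 h
    have hx2 : 0 < x ∧ x ≤ 12 := by simp at hx; omega
    have := Nat.le_of_dvd hx2.1 hrx
    omega
  obtain ⟨H, h1, h2, h3⟩ := CfsgLib.Known.ScTorus.exists_torus CfsgLib.Lie.Chev.certE6 CfsgLib.Lie.Chev.cmat_E6
    CfsgLib.Lie.Chev.smithE6 CfsgLib.Lie.Chev.polyE6 rfl (by decide +kernel) CfsgLib.Known.ScTorus.slacedE6
    (CfsgLib.Lie.Chev.connected_of_chk (by decide +kernel)) CfsgLib.Lie.Chev.witE6 CfsgLib.Lie.Chev.embE6E8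
    (K := K) (n := 12) (P := P) (g := Nat.gcd 3 (q - 1)) (r := r)
    (f := Polynomial.cyclotomic 12 ℤ * Polynomial.cyclotomic 3 ℤ) hF
    (by rw [← Nat.card_eq_fintype_card, ← hF, ← Nat.card_eq_fintype_card]; exact FiniteField.natCard_extension F p 12)
    (by norm_num)
    (by
      rw [Polynomial.eval_mul, CfsgLib.Known.ScTorus.cyclotomic_twelve, Polynomial.cyclotomic_three]
      simp only [Polynomial.eval_add, Polynomial.eval_sub, Polynomial.eval_pow, Polynomial.eval_X, Polynomial.eval_one]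
      rw [← hP', Int.natAbs_natCast])
    (by rw [hP, ← hA]; positivity)
    (by
      rw [← Int.natCast_dvd_natCast, Nat.cast_sub (Nat.one_le_pow _ _ (by omega)), hP']
      exact ⟨((q : ℤ) ^ 2 + 1) * ((q : ℤ) ^ 2 - 1) * ((q : ℤ) ^ 2 - q + 1), by push_cast; ring⟩)
    (hrA.trans (hP ▸ hA ▸ dvd_mul_right _ _))
    (fun h => hz0 ((ZMod.natCast_eq_zero_iff _ _).2 h)) hrW
    ⟨12, by simp, by
      rw [← ZMod.natCast_eq_zero_iff, Nat.cast_sub (Nat.one_le_pow _ _ (by omega)), Nat.cast_pow, Nat.cast_one,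
        hprim.pow_eq_one, sub_self]⟩
    (hF ▸ CfsgLib.Lie.Chev.card_center_E6 F) (CfsgLib.Known.ScTorus.torusOK_E6 hr13 hrZ hP')
  exact ⟨H, h1, hP ▸ h2, h3⟩

end Cfsg.Agent.S2373
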