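import Cfsg.Statements.S2383
import Cfsg.Agent.Lib.Lie.Rel.Modular.Classes

set_option autoImplicit false
open Cfsg

namespace Cfsg.Agent.S2383

open CfsgLib.Lie.Chev

/-- Steinberg's count of semisimple classes in characteristic 2 for the types B₂, D₄, E₇, where the finite simply connected group has trivial centre and so coincides with the Chevalley group: for the Chevalley group of type B₂, D₄ or E₇ over a field with `q` elements of characteristic 2, the conjugacy classes of elements of odd order number exactly `q^l`, `l` the rank. -/
theorem result {F : Type*} [Field F] [Fintype F] {q : ℕ} (hq : Fintype.card F = q) [CharP F 2]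
    (D : Cfsg.Lie.ChevalleyDatum) (hD : D ∈ [Cfsg.Lie.chevB2, Cfsg.Lie.chevD4, Cfsg.Lie.chevE7]) :
    Nat.card {c : ConjClasses ↥(D.group F) // ∃ g : ↥(D.group F), ConjClasses.mk g = c ∧ Odd (orderOf g)} = q ^ D.rank := by
  subst hq
  have : Fact (Nat.Prime 2) := ⟨Nat.prime_two⟩
  have hcop : (Fintype.card F - 1).Coprime 2 := by
    rw [Nat.coprime_two_right]
    obtain ⟨⟨m, _⟩, -, hm⟩ := FiniteField.card F 2
    rw [hm]
    exact Nat.Even.sub_odd Nat.one_le_two_pow (Nat.even_pow.2 ⟨even_two, by simp; omega⟩) odd_one
  simp_rw [← Nat.coprime_two_right]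
  simp only [List.mem_cons, List.not_mem_nil, or_false] at hD
  rcases hD with rfl | rfl | rfl
  · rw [card_regularClasses (chevRel certB2 F) 2
      (torusHom_bijective certB2 F cmat_B2 smithB2 (by intro i; fin_cases i <;> first | exact hcop | simp)), Nat.card_eq_fintype_card]
  · rw [card_regularClasses (chevRel certD4 F) 2
      (torusHom_bijective certD4 F cmat_D4 smithD4 (by intro i; fin_cases i <;> first | exact hcop | simp)), Nat.card_eq_fintype_card]
  · rw [card_regularClasses (chevRel certE7 F) 2
      (torusHom_bijective certE7 F cmat_E7 smithE7 (by intro i; fin_cases i <;> first | exact hcop | simp)), Nat.card_eq_fintype_card]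

end Cfsg.Agent.S2383
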