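import Cfsg.Statements.S2391

-- helpers

set_option autoImplicit false
open Cfsg

namespace Cfsg.Agent.S2391

/-- The chain of iterated fixed spaces of `U`. -/
def fixChain {F : Type*} [Field F] {n : ℕ} (U : Subgroup (Matrix.SpecialLinearGroup (Fin n) F)) :
    ℕ → Submodule F (Fin n → F)
  | 0 => ⊥
  | i + 1 =>
    { carrier := {v | ∀ u ∈ U, (u : Matrix (Fin n) (Fin n) F).mulVec v - v ∈ fixChain U i}
      add_mem' := fun {a b} ha hb u hu => by
        have h := (fixChain U i).add_mem (ha u hu) (hb u hu)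
        rw [Matrix.mulVec_add]
        rwa [sub_add_sub_comm] at h
      zero_mem' := fun u hu => by simp
      smul_mem' := fun c a ha u hu => by
        rw [Matrix.mulVec_smul, ← smul_sub]
        exact (fixChain U i).smul_mem c (ha u hu) }

theorem fixChain_invariant {F : Type*} [Field F] {n : ℕ} (U : Subgroup (Matrix.SpecialLinearGroup (Fin n) F))
    {g : Matrix.SpecialLinearGroup (Fin n) F}
    (hg : g ∈ Subgroup.normalizer (U : Set (Matrix.SpecialLinearGroup (Fin n) F))) :
    ∀ i v, v ∈ fixChain U i → (g : Matrix (Fin n) (Fin n) F).mulVec v ∈ fixChain U i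
  | 0, v, hv => by
    rw [fixChain, Submodule.mem_bot] at hv ⊢
    rw [hv, Matrix.mulVec_zero]
  | i + 1, v, hv => fun u hu => by
    have hu' : g⁻¹ * u * g ∈ U := by
      have h1 := Subgroup.mem_normalizer_iff.1 (inv_mem hg) u
      rw [inv_inv] at h1
      exact h1.1 hu
    have h2 := fixChain_invariant U hg i _ (hv _ hu')
    rw [Matrix.mulVec_sub, Matrix.mulVec_mulVec, ← Matrix.SpecialLinearGroup.coe_mul,
      show g * (g⁻¹ * u * g) = u * g by group, Matrix.SpecialLinearGroup.coe_mul, ← Matrix.mulVec_mulVec] at h2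
    exact h2

theorem fixChain_mono {F : Type*} [Field F] {n : ℕ} (U : Subgroup (Matrix.SpecialLinearGroup (Fin n) F)) :
    Monotone (fixChain U) := by
  refine monotone_nat_of_le_succ fun i v hv u hu => ?_
  exact (fixChain U i).sub_mem (fixChain_invariant U (Subgroup.le_normalizer hu) i v hv) hv

theorem fixChain_map {F : Type*} [Field F] {n : ℕ} (U : Subgroup (Matrix.SpecialLinearGroup (Fin n) F))
    {g : Matrix.SpecialLinearGroup (Fin n) F}
    (hg : g ∈ Subgroup.normalizer (U : Set (Matrix.SpecialLinearGroup (Fin n) F))) (i : ℕ) :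
    (fixChain U i).map (Matrix.mulVecLin (g : Matrix (Fin n) (Fin n) F)) = fixChain U i := by
  refine le_antisymm ?_ fun v hv => ?_
  · rintro _ ⟨v, hv, rfl⟩
    exact fixChain_invariant U hg i v hv
  · refine ⟨_, fixChain_invariant U (inv_mem hg) i v hv, ?_⟩
    rw [Matrix.mulVecLin_apply, Matrix.mulVec_mulVec, ← Matrix.SpecialLinearGroup.coe_mul, mul_inv_cancel,
      Matrix.SpecialLinearGroup.coe_one, Matrix.one_mulVec]

theorem fixChain_lt {F : Type*} [Field F] [Fintype F] (p : ℕ) [Fact p.Prime] [CharP F p] {n : ℕ}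
    (U : Subgroup (Matrix.SpecialLinearGroup (Fin n) F)) (hU : IsPGroup p ↥U) (i : ℕ) (hi : fixChain U i ≠ ⊤) :
    fixChain U i < fixChain U (i + 1) := by
  classical
  set W := fixChain U i
  let T : ↥U → (Fin n → F) ⧸ W →ₗ[F] (Fin n → F) ⧸ W := fun u =>
    W.mapQ W (Matrix.mulVecLin ((u : Matrix.SpecialLinearGroup (Fin n) F) : Matrix (Fin n) (Fin n) F))
      fun v hv => fixChain_invariant U (Subgroup.le_normalizer u.2) i v hv
  have hT : ∀ (u : ↥U) (v : Fin n → F), T u (Submodule.Quotient.mk v) =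
      Submodule.Quotient.mk (((u : Matrix.SpecialLinearGroup (Fin n) F) : Matrix (Fin n) (Fin n) F).mulVec v) :=
    fun u v => rfl
  letI : MulAction ↥U ((Fin n → F) ⧸ W) :=
    { smul := fun u x => T u x
      one_smul := fun x => by
        obtain ⟨v, rfl⟩ := Submodule.Quotient.mk_surjective W x
        show T 1 _ = _
        rw [hT, Subgroup.coe_one, Matrix.SpecialLinearGroup.coe_one, Matrix.one_mulVec]
      mul_smul := fun a b x => by
        obtain ⟨v, rfl⟩ := Submodule.Quotient.mk_surjective W x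
        show T _ _ = T _ (T _ _)
        rw [hT, hT, hT, Subgroup.coe_mul, Matrix.SpecialLinearGroup.coe_mul, Matrix.mulVec_mulVec] }
  haveI : Nontrivial ((Fin n → F) ⧸ W) := Submodule.Quotient.nontrivial_iff.2 hi
  haveI : Finite ((Fin n → F) ⧸ W) := Finite.of_surjective _ (Submodule.Quotient.mk_surjective W)
  have hp : p ∣ Nat.card ((Fin n → F) ⧸ W) := by
    obtain ⟨e, -, he⟩ := FiniteField.card F p
    rw [Module.natCard_eq_pow_finrank (K := F), Nat.card_eq_fintype_card, he, ← pow_mul]
    exact dvd_pow_self _ (Nat.mul_ne_zero e.ne_zero Module.finrank_pos.ne')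
  have h0 : (0 : (Fin n → F) ⧸ W) ∈ MulAction.fixedPoints ↥U ((Fin n → F) ⧸ W) := fun u => map_zero (T u)
  obtain ⟨x, hx, hx0⟩ := hU.exists_fixed_point_of_prime_dvd_card_of_fixed_point _ hp h0
  obtain ⟨v, rfl⟩ := Submodule.Quotient.mk_surjective W x
  refine lt_of_le_of_ne (fixChain_mono U (Nat.le_succ i)) fun he => ?_
  have hv : v ∈ fixChain U (i + 1) := fun u hu => (Submodule.Quotient.eq W).1 (hx ⟨u, hu⟩)
  rw [← he] at hv
  exact hx0 ((Submodule.Quotient.mk_eq_zero W).2 hv).symm


/-- The Borel–Tits property of `SL_n(q)` in flag form: for a field `F` of characteristic `p` with finitely many elements and a non-trivial `p`-subgroup `U` of `SL_n(F)`, there is a flag `0 = V₀ < V₁ < ⋯ < V_{k+1} = F^n` with at least one proper non-zero member such that every element of the normaliser of `U` maps each `V_i` onto itself and every element of `U` acts trivially on each quotient `V_{i+1}/V_i` (so the normaliser lies in the parabolic subgroup of the flag and `U` in its unipotent radical). -/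
theorem result {F : Type*} [Field F] [Fintype F] (p : ℕ) [Fact p.Prime] [CharP F p] (n : ℕ)
    (U : Subgroup (Matrix.SpecialLinearGroup (Fin n) F)) (hU : IsPGroup p ↥U) (hne : U ≠ ⊥) :
    ∃ (k : ℕ) (V : Fin (k + 2) → Submodule F (Fin n → F)), 1 ≤ k ∧ StrictMono V ∧ V 0 = ⊥ ∧ V (Fin.last (k + 1)) = ⊤ ∧
      (∀ g ∈ Subgroup.normalizer (U : Set (Matrix.SpecialLinearGroup (Fin n) F)), ∀ i, (V i).map (Matrix.mulVecLin (g : Matrix (Fin n) (Fin n) F)) = V i) ∧
      (∀ u ∈ U, ∀ i : Fin (k + 1), ∀ v ∈ V i.succ, (u : Matrix (Fin n) (Fin n) F).mulVec v - v ∈ V (Fin.castSucc i)) := by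
  classical
  let W : ℕ → Submodule F (Fin n → F) := fun i => fixChain U i
  have hstrict : ∀ i, W i ≠ ⊤ → W i < W (i + 1) := fun i hi => fixChain_lt p U hU i hi
  have hex : ∃ i, W i = ⊤ := by
    by_contra hcon
    push Not at hcon
    have hfr : ∀ i, i ≤ Module.finrank F (W i) := by
      intro i
      induction i with
      | zero => omega
      | succ i ih => exact Nat.succ_le_of_lt (lt_of_le_of_lt ih (Submodule.finrank_lt_finrank_of_lt (hstrict i (hcon i))))
    have := hfr (n + 1)
    have h2 := Submodule.finrank_le (W (n + 1))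
    rw [Module.finrank_fin_fun] at h2
    omega
  have hk : W (Nat.find hex) = ⊤ := Nat.find_spec hex
  have hbelow : ∀ i, i < Nat.find hex → W i ≠ ⊤ := fun i hi => Nat.find_min hex hi
  have h2 : 2 ≤ Nat.find hex := by
    by_contra hcon
    have hW1 : W 1 = ⊤ := top_le_iff.1 (hk ▸ fixChain_mono U (by omega : Nat.find hex ≤ 1))
    refine hne (eq_bot_iff.2 fun u hu => Subgroup.mem_bot.2 ?_)
    refine Subtype.ext (Matrix.ext_of_mulVec_single fun j => ?_)
    have hj : (Pi.single j 1 : Fin n → F) ∈ W 1 := hW1 ▸ Submodule.mem_top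
    have := hj u hu
    rw [show fixChain U 0 = ⊥ from rfl, Submodule.mem_bot, sub_eq_zero] at this
    rw [this, Matrix.SpecialLinearGroup.coe_one, Matrix.one_mulVec]
  obtain ⟨k, hk'⟩ : ∃ k, Nat.find hex = k + 1 := ⟨Nat.find hex - 1, by omega⟩
  refine ⟨k, fun i => W i, by omega, ?_, rfl, ?_, fun g hg i => fixChain_map U hg i, ?_⟩
  · refine Fin.strictMono_iff_lt_succ.2 fun i => ?_
    simp only [Fin.val_castSucc, Fin.val_succ]
    exact hstrict i (hbelow i (by omega))
  · simp only [Fin.val_last]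
    rw [← hk']
    exact hk
  · intro u hu i v hv
    exact hv u hu

end Cfsg.Agent.S2391
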