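import Cfsg.Statements.S2392
import Cfsg.Agent.Lib.Char.Exceptional.CrossChar

set_option autoImplicit false
open scoped MatrixGroups
open Cfsg

namespace Cfsg.Agent.S2392

/-- A lower bound for representations in cross characteristic: for `n ≥ 3` and a field `F` with `q` elements, every homomorphism from `SL_n(F)` to `GL_d(K)`, `K` a field of characteristic different from that of `F`, whose kernel is central has `d ≥ q^(n-1) - 1`. -/
theorem result {F : Type*} [Field F] [Fintype F] {q : ℕ} (hq : Fintype.card F = q) (n : ℕ) (hn : 3 ≤ n)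
    {K : Type*} [Field K] (hK : ringChar K ≠ ringChar F) {d : ℕ}
    (ρ : Matrix.SpecialLinearGroup (Fin n) F →* GL (Fin d) K) (hker : ρ.ker ≤ Subgroup.center (Matrix.SpecialLinearGroup (Fin n) F)) :
    q ^ (n - 1) - 1 ≤ d := by
  classical
  obtain ⟨m, rfl⟩ : ∃ m, n = m + 1 := ⟨n - 1, by omega⟩
  rw [Nat.add_sub_cancel]
  obtain ⟨p, hcp⟩ := CharP.exists F
  have hp : Nat.Prime p := (CharP.char_is_prime_or_zero F p).resolve_right (fun h => by
    subst h
    haveI : CharZero F := CharP.charP_to_charZero F
    exact not_finite F)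
  haveI : CharP K (ringChar K) := ringChar.charP K
  have hpK : (p : AlgebraicClosure K) ≠ 0 := by
    rw [← map_natCast (algebraMap K (AlgebraicClosure K)), Ne,
      map_eq_zero_iff _ (algebraMap K (AlgebraicClosure K)).injective]
    intro h
    rw [CharP.cast_eq_zero_iff K (ringChar K)] at h
    rcases (Nat.dvd_prime hp).1 h with h1 | h1
    · exact CharP.char_ne_one K (ringChar K) h1
    · exact hK (h1.trans (ringChar.eq F p).symm)
  -- the first row
  let u : Fin (m + 1) → F := Pi.single 0 1
  let M : (Fin m → F) → Matrix (Fin (m + 1)) (Fin (m + 1)) F := fun x =>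
    1 + Matrix.vecMulVec u (Fin.cons 0 x)
  have hM : ∀ x, M x = Matrix.of fun a b => if a = b then 1 else if a = 0 then Fin.cons (α := fun _ => F) 0 x b else 0 := by
    intro x
    ext a b
    by_cases hab : a = b
    · subst hab
      by_cases ha : a = 0
      · subst ha; simp [M, u, Matrix.vecMulVec]
      · simp [M, u, Matrix.vecMulVec, ha]
    · by_cases ha : a = 0
      · subst ha; simp [M, u, Matrix.vecMulVec, hab]
      · simp [M, u, Matrix.vecMulVec, hab, ha]
  have hdet : ∀ x, (M x).det = 1 := fun x => by
    rw [Matrix.det_of_upperTriangular]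
    · simp [hM]
    · intro a b hab
      have hab' : b < a := hab
      rw [hM]
      simp [hab'.ne', Fin.pos_iff_ne_zero.1 (lt_of_le_of_lt (Fin.zero_le b) hab')]
  have hmul : ∀ x y, M x * M y = M (x + y) := fun x y => by
    have h0 : Matrix.vecMulVec u (Fin.cons 0 x) * Matrix.vecMulVec u (Fin.cons 0 y) = 0 := by
      ext a b
      simp [Matrix.mul_apply, Matrix.vecMulVec, u, Pi.single_apply]
    have hc : (Fin.cons 0 (x + y) : Fin (m + 1) → F) = Fin.cons 0 x + Fin.cons 0 y := by
      funext b; refine Fin.cases ?_ (fun c => ?_) b <;> simp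
    simp only [M, hc, Matrix.vecMulVec_add, mul_add, add_mul, one_mul, mul_one, h0, add_zero]
    abel
  let ι : Multiplicative (Fin m → F) →* Matrix.SpecialLinearGroup (Fin (m + 1)) F :=
    MonoidHom.mk' (fun x => ⟨M x.toAdd, hdet _⟩) (fun x y => Subtype.ext (hmul _ _).symm)
  have htr : ∀ (j k : Fin m) (hjk : j ≠ k) (c : F) (x : Fin m → F),
      Matrix.SpecialLinearGroup.transvection (Fin.succ_injective _ |>.ne hjk) c *
        ι (Multiplicative.ofAdd (x + Pi.single k (c * x j))) =
      ι (Multiplicative.ofAdd x) * Matrix.SpecialLinearGroup.transvection (Fin.succ_injective _ |>.ne hjk) c := by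
    intro j k hjk c x
    refine Subtype.ext ?_
    show Matrix.transvection j.succ k.succ c * M (x + Pi.single k (c * x j)) =
      M x * Matrix.transvection j.succ k.succ c
    have h1 : Matrix.single j.succ k.succ c * Matrix.vecMulVec u
        (Fin.cons 0 (x + Pi.single k (c * x j))) = (0 : Matrix (Fin (m + 1)) (Fin (m + 1)) F) := by
      ext a b
      simp [Matrix.mul_apply, Matrix.vecMulVec_apply, Matrix.single_apply, u, ite_and,
        Fin.succ_ne_zero]
    have h2 : Matrix.vecMulVec u (Fin.cons 0 x) * Matrix.single j.succ k.succ c =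
        Matrix.vecMulVec u (Pi.single k.succ (c * x j)) := by
      ext a b
      by_cases hb : b = k.succ
      · subst hb
        simp [Matrix.mul_apply, Matrix.vecMulVec_apply, Matrix.single_apply, ite_and]
        ring
      · simp [Matrix.mul_apply, Matrix.vecMulVec_apply, Matrix.single_apply, ite_and, hb, Ne.symm hb]
    have h3 : (Fin.cons 0 (x + Pi.single k (c * x j)) : Fin (m + 1) → F) =
        Fin.cons 0 x + Pi.single k.succ (c * x j) := by
      funext b
      refine Fin.cases ?_ (fun b' => ?_) b
      · simp [Fin.succ_ne_zero, (Fin.succ_ne_zero k).symm]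
      · simp [Pi.single_apply]
    simp only [M, Matrix.transvection, Matrix.add_mul, Matrix.mul_add, Matrix.one_mul, Matrix.mul_one]
    rw [h1, h2, h3, Matrix.vecMulVec_add, add_zero]
    abel
  let R := CfsgLib.CrossChar.closureRep ρ
  have hne : ∃ v, R (ι (Multiplicative.ofAdd v)) ≠ 1 := by
    let j : Fin m := ⟨0, by omega⟩
    let k : Fin m := ⟨1, by omega⟩
    have hjk : j ≠ k := by simp [j, k, Fin.ext_iff]
    refine ⟨Pi.single j 1, fun h => ?_⟩
    rw [CfsgLib.CrossChar.closureRep_eq_one_iff] at h
    have hc := Subgroup.mem_center_iff.1 (hker h)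
    have h1 := htr j k hjk 1 (Pi.single j 1)
    rw [← hc, mul_right_inj] at h1
    have h2 := congrFun (congrFun (congrArg Subtype.val h1) 0) k.succ
    change M (Pi.single j 1 + Pi.single k (1 * (Pi.single j 1 : Fin m → F) j)) 0 k.succ =
      M (Pi.single j 1) 0 k.succ at h2
    rw [hM, hM] at h2
    simp [(Fin.succ_ne_zero k).symm, hjk, hjk.symm] at h2
  obtain ⟨v₀, hv₀⟩ := hne
  obtain ⟨μ, hμ1, hμ⟩ := CfsgLib.CrossChar.exists_has_ne_one R ι hpK (fun v => by
    funext i
    rw [Pi.smul_apply, Pi.zero_apply, nsmul_eq_mul, CharP.cast_eq_zero, zero_mul]) v₀ hv₀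
  obtain ⟨ψ, hinj, y₀, hy₀, rfl⟩ := CfsgLib.CrossChar.exists_dot μ hμ1
  -- closure under elementary moves
  have hmove : ∀ y, CfsgLib.CrossChar.Has R ι (CfsgLib.CrossChar.dotChar ψ y) → ∀ j k, j ≠ k →
      ∀ c : F, CfsgLib.CrossChar.Has R ι (CfsgLib.CrossChar.dotChar ψ (y + Pi.single j (c * y k))) := by
    intro y hy j k hjk c
    let f : (Fin m → F) →+ (Fin m → F) :=
      { toFun := fun x => x + Pi.single k (c * x j)
        map_zero' := by simp
        map_add' := fun a b => by simp [mul_add, Pi.single_add]; abel }
    have h := CfsgLib.CrossChar.has_conj hy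
      (Matrix.SpecialLinearGroup.transvection (Fin.succ_injective _ |>.ne hjk) c)⁻¹ f (fun v => by
        rw [inv_inv, mul_assoc, ← htr j k hjk c v, inv_mul_cancel_left]
        rfl)
    convert h using 1
    refine DFunLike.ext _ _ fun x => ?_
    simp only [CfsgLib.CrossChar.dotChar_apply, AddChar.compAddMonoidHom_apply, AddMonoidHom.coe_mk,
      ZeroHom.coe_mk, f]
    congr 1
    simp [add_mul, mul_add, Finset.sum_add_distrib, Pi.single_apply]
    ring
  have hall : ∀ z : Fin m → F, z ≠ 0 → CfsgLib.CrossChar.Has R ι (CfsgLib.CrossChar.dotChar ψ z) := by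
    -- from a vector, change every coordinate but a nonzero one
    have hset : ∀ (s : Finset (Fin m)) (y : Fin m → F) (k : Fin m), k ∉ s → y k ≠ 0 →
        CfsgLib.CrossChar.Has R ι (CfsgLib.CrossChar.dotChar ψ y) → ∀ z : Fin m → F,
        (∀ i ∉ s, z i = y i) → CfsgLib.CrossChar.Has R ι (CfsgLib.CrossChar.dotChar ψ z) := by
      intro s
      induction s using Finset.induction_on with
      | empty => intro y k _ _ hy z hz; rwa [show z = y from funext fun i => hz i (Finset.notMem_empty i)]
      | insert i s hi ih =>
        intro y k hk hyk hy z hz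
        rw [Finset.mem_insert, not_or] at hk
        refine ih _ k hk.2 ?_ (hmove y hy i k (Ne.symm hk.1) ((z i - y i) / y k)) z fun j hj => ?_
        · simp [Pi.single_apply, hk.1, hyk]
        · by_cases hji : j = i
          · subst hji; simp [div_mul_cancel₀ _ hyk]
          · simp [Pi.single_apply, hji, hz j (by simp [hji, hj])]
    obtain ⟨k, hk⟩ := Function.ne_iff.1 hy₀
    intro z hz
    obtain ⟨l, hl⟩ := Function.ne_iff.1 hz
    -- pass through the vector with all coordinates one
    have h1 := hset (Finset.univ.erase k) y₀ k (by simp) hk hμ (Function.update (fun _ => 1) k (y₀ k))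
      fun i hi => by
        obtain rfl : i = k := by simpa using hi
        simp
    obtain ⟨k', hk'⟩ : ∃ k' : Fin m, k' ≠ k := by
      by_cases h : k = ⟨0, by omega⟩
      · exact ⟨⟨1, by omega⟩, by rw [h]; simp [Fin.ext_iff]⟩
      · exact ⟨⟨0, by omega⟩, Ne.symm h⟩
    have h2 := hset {k} _ k' (by simpa using hk') (by simp [hk']) h1 (fun _ => 1)
      fun i hi => by simp at hi; simp [hi]
    have h3 := hset (Finset.univ.erase k') (fun _ => 1) k' (by simp) one_ne_zero h2
      (Function.update z k' 1) fun i hi => by
        obtain rfl : i = k' := by simpa using hi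
        simp
    by_cases hlk : l = k'
    · subst hlk
      -- a second path through another coordinate
      have h4 := hset (Finset.univ.erase k) (fun _ => 1) k (by simp) one_ne_zero h2
        (Function.update z k 1) fun i hi => by
          obtain rfl : i = k := by simpa using hi
          simp
      exact hset {k} _ l (by simpa using hk') (by simpa [hk'] using hl) h4 z fun i hi => by
        simp at hi; simp [hi]
    · exact hset {k'} _ l (by simpa using hlk) (by simpa [hlk] using hl) h3 z fun i hi => by
        simp at hi; simp [hi]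
  have hd := CfsgLib.CrossChar.card_le_finrank R ι
    (fun z : {z : Fin m → F // z ≠ 0} => CfsgLib.CrossChar.dotChar ψ z.1)
    (hinj.comp Subtype.val_injective) fun z => hall z.1 z.2
  rw [Module.finrank_fin_fun, Fintype.card_subtype_compl, Fintype.card_fun, Fintype.card_fin, hq,
    Fintype.card_subtype_eq] at hd
  exact hd

end Cfsg.Agent.S2392
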