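import Cfsg.Statements.S2393
import Cfsg.Agent.Lib.Char.Exceptional.CrossChar

set_option autoImplicit false
open scoped MatrixGroups
open Cfsg

namespace Cfsg.Agent.S2393

/-- A lower bound for representations in cross characteristic: for `n ≥ 2` and a field `F` with `q` elements, `q` odd, every homomorphism from the symplectic group `Sp_{2n}(F)` to `GL_d(K)`, `K` a field of characteristic different from that of `F`, whose kernel is central has `d ≥ q^(n-1)(q-1)/2`. -/
theorem result {F : Type*} [Field F] [Fintype F] {q : ℕ} (hq : Fintype.card F = q) (hodd : Odd q) (n : ℕ) (hn : 2 ≤ n)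
    {K : Type*} [Field K] (hK : ringChar K ≠ ringChar F) {d : ℕ}
    (ρ : ↥(Matrix.symplecticGroup (Fin n) F) →* GL (Fin d) K) (hker : ρ.ker ≤ Subgroup.center ↥(Matrix.symplecticGroup (Fin n) F)) :
    q ^ (n - 1) * (q - 1) / 2 ≤ d := by
  classical
  obtain ⟨p, hcp⟩ := CharP.exists F
  have hp : Nat.Prime p := (CharP.char_is_prime_or_zero F p).resolve_right (fun h => by
    subst h
    haveI : CharZero F := CharP.charP_to_charZero F
    exact not_finite F)
  have h2 : (2 : F) ≠ 0 := by
    intro h
    haveI := Fact.mk hp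
    have hp2 : p = 2 := ((Nat.prime_two.eq_one_or_self_of_dvd p
      ((CharP.cast_eq_zero_iff F p 2).1 (by exact_mod_cast h))).resolve_left hp.ne_one)
    subst hp2
    obtain ⟨k, -, hk⟩ := FiniteField.card F 2
    rw [hq] at hk
    have : 2 ∣ q := hk ▸ dvd_pow_self 2 k.pos.ne'
    obtain ⟨j, hj⟩ := hodd
    omega
  haveI : CharP K (ringChar K) := ringChar.charP K
  have hpK : (p : AlgebraicClosure K) ≠ 0 := by
    rw [← map_natCast (algebraMap K (AlgebraicClosure K)), Ne,
      map_eq_zero_iff _ (algebraMap K (AlgebraicClosure K)).injective]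
    intro h
    rw [CharP.cast_eq_zero_iff K (ringChar K)] at h
    rcases (Nat.dvd_prime hp).1 h with h1 | h1
    · exact CharP.char_ne_one K (ringChar K) h1
    · exact hK (h1.trans (ringChar.eq F p).symm)
  -- the two unipotent radicals and the Levi complement
  have hup : ∀ S : Matrix (Fin n) (Fin n) F, S.transpose = S →
      Matrix.fromBlocks 1 S 0 1 ∈ Matrix.symplecticGroup (Fin n) F := fun S hS => by
    rw [SymplecticGroup.mem_iff, Matrix.J, Matrix.fromBlocks_transpose, Matrix.fromBlocks_multiply,
      Matrix.fromBlocks_multiply]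
    simp [hS]
  have hlo : ∀ S : Matrix (Fin n) (Fin n) F, S.transpose = S →
      Matrix.fromBlocks 1 0 S 1 ∈ Matrix.symplecticGroup (Fin n) F := fun S hS => by
    rw [SymplecticGroup.mem_iff, Matrix.J, Matrix.fromBlocks_transpose, Matrix.fromBlocks_multiply,
      Matrix.fromBlocks_multiply]
    simp [hS]
  have hlevi : ∀ A : GL (Fin n) F,
      Matrix.fromBlocks (A : Matrix (Fin n) (Fin n) F) 0 0
        ((A⁻¹ : GL (Fin n) F) : Matrix (Fin n) (Fin n) F).transpose ∈
        Matrix.symplecticGroup (Fin n) F := fun A => by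
    rw [SymplecticGroup.mem_iff, Matrix.J, Matrix.fromBlocks_transpose, Matrix.fromBlocks_multiply,
      Matrix.fromBlocks_multiply]
    simp [← Matrix.transpose_mul]
  let sym : (Fin n × Fin n → F) → Matrix (Fin n) (Fin n) F := fun x =>
    Matrix.of fun i j => x (i, j) + x (j, i)
  have hsym : ∀ x, (sym x).transpose = sym x := fun x => by
    ext i j; simp [sym, add_comm]
  let ι : Multiplicative (Fin n × Fin n → F) →* ↥(Matrix.symplecticGroup (Fin n) F) :=
    MonoidHom.mk' (fun x => ⟨_, hup _ (hsym x.toAdd)⟩) (fun x y => Subtype.ext (by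
      show Matrix.fromBlocks 1 (sym (x * y).toAdd) 0 1 = Matrix.fromBlocks 1 _ 0 1 * Matrix.fromBlocks 1 _ 0 1
      rw [Matrix.fromBlocks_multiply]
      simp only [mul_one, one_mul, mul_zero, add_zero, zero_add, zero_mul]
      congr 1
      ext i j
      simp [sym]
      abel))
  let R := CfsgLib.CrossChar.closureRep ρ
  have hne : ∃ v, R (ι (Multiplicative.ofAdd v)) ≠ 1 := by
    let i₀ : Fin n := ⟨0, by omega⟩
    refine ⟨Pi.single (i₀, i₀) 1, fun h => ?_⟩
    rw [CfsgLib.CrossChar.closureRep_eq_one_iff] at h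
    set S := sym (Pi.single (i₀, i₀) 1) with hS
    have hc := congrArg Subtype.val (Subgroup.mem_center_iff.1 (hker h) ⟨_, hlo S (hsym _)⟩)
    change Matrix.fromBlocks 1 0 S 1 * Matrix.fromBlocks 1 S 0 1 =
      Matrix.fromBlocks 1 S 0 1 * Matrix.fromBlocks 1 0 S 1 at hc
    rw [Matrix.fromBlocks_multiply, Matrix.fromBlocks_multiply] at hc
    simp only [mul_one, one_mul, mul_zero, add_zero, zero_add, zero_mul, Matrix.fromBlocks_inj] at hc
    have h1 := congrFun (congrFun hc.1 i₀) i₀
    simp [hS, sym, Matrix.mul_apply, Pi.single_apply, add_mul, mul_add, Finset.sum_add_distrib] at h1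
    exact mul_ne_zero h2 h2 (by linear_combination h1)
  obtain ⟨v₀, hv₀⟩ := hne
  obtain ⟨μ, hμ1, hμ⟩ := CfsgLib.CrossChar.exists_has_ne_one R ι hpK (fun v => by
    funext i
    rw [Pi.smul_apply, Pi.zero_apply, nsmul_eq_mul, CharP.cast_eq_zero, zero_mul]) v₀ hv₀
  obtain ⟨ψ, hinj, y₀, hy₀, rfl⟩ := CfsgLib.CrossChar.exists_dot μ hμ1
  let T : Matrix (Fin n) (Fin n) F := Matrix.of fun i j => y₀ (i, j)
  -- the weight is given by a symmetric matrix
  have hTsym : T.transpose = T := by
    obtain ⟨x, hx0, hx⟩ := hμ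
    have e : CfsgLib.CrossChar.dotChar ψ (fun c : Fin n × Fin n => y₀ (c.2, c.1)) =
        CfsgLib.CrossChar.dotChar ψ y₀ := by
      refine DFunLike.ext _ _ fun v => smul_left_injective _ hx0 ?_
      show CfsgLib.CrossChar.dotChar ψ _ v • x = CfsgLib.CrossChar.dotChar ψ y₀ v • x
      have hsame : ι (Multiplicative.ofAdd fun c : Fin n × Fin n => v (c.2, c.1)) =
          ι (Multiplicative.ofAdd v) := Subtype.ext (by
        show Matrix.fromBlocks 1 (sym _) 0 1 = Matrix.fromBlocks 1 (sym v) 0 1
        congr 1
        ext i j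
        simp [sym, add_comm])
      rw [← hx v, ← hsame, hx]
      congr 1
      simp only [CfsgLib.CrossChar.dotChar_apply]
      congr 1
      exact Fintype.sum_equiv (Equiv.prodComm _ _) _ _ fun _ => rfl
    ext i j
    exact congrFun (hinj e) (i, j)
  have hT0 : T ≠ 0 := fun h => hy₀ (funext fun c => congrFun (congrFun h c.1) c.2)
  let flat : Matrix (Fin n) (Fin n) F → (Fin n × Fin n → F) := fun B c => B c.1 c.2
  have hflat : Function.Injective flat := fun B B' h => by
    ext i j; exact congrFun h (i, j)
  have hmove : ∀ A : GL (Fin n) F, CfsgLib.CrossChar.Has R ι (CfsgLib.CrossChar.dotChar ψ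
      (flat ((A : Matrix (Fin n) (Fin n) F).transpose * T * (A : Matrix (Fin n) (Fin n) F)))) := by
    intro A
    let M : (Fin n × Fin n → F) → Matrix (Fin n) (Fin n) F := fun v => Matrix.of fun i j => v (i, j)
    let f : (Fin n × Fin n → F) →+ (Fin n × Fin n → F) :=
      { toFun := fun v => flat ((A : Matrix (Fin n) (Fin n) F) * M v * (A : Matrix (Fin n) (Fin n) F).transpose)
        map_zero' := by
          have : M 0 = 0 := rfl
          simp only [this, mul_zero, zero_mul]
          rfl
        map_add' := fun v w => by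
          have : M (v + w) = M v + M w := rfl
          simp only [this, mul_add, add_mul]
          rfl }
    have hsymf : ∀ v, sym (f v) = (A : Matrix (Fin n) (Fin n) F) * sym v *
        (A : Matrix (Fin n) (Fin n) F).transpose := fun v => by
      have e1 : sym v = M v + (M v).transpose := rfl
      have e2 : sym (f v) = (A : Matrix (Fin n) (Fin n) F) * M v * (A : Matrix (Fin n) (Fin n) F).transpose +
          ((A : Matrix (Fin n) (Fin n) F) * M v * (A : Matrix (Fin n) (Fin n) F).transpose).transpose := rfl
      rw [e1, e2, mul_add, add_mul, Matrix.transpose_mul, Matrix.transpose_mul,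
        Matrix.transpose_transpose, mul_assoc, mul_assoc]
    have h := CfsgLib.CrossChar.has_conj hμ ⟨_, hlevi A⟩ f (fun v => by
      rw [mul_inv_eq_iff_eq_mul]
      refine Subtype.ext ?_
      show Matrix.fromBlocks _ _ _ _ * Matrix.fromBlocks 1 (sym v) 0 1 =
        Matrix.fromBlocks 1 (sym (f v)) 0 1 * Matrix.fromBlocks _ _ _ _
      rw [Matrix.fromBlocks_multiply, Matrix.fromBlocks_multiply]
      simp only [mul_one, one_mul, mul_zero, add_zero, zero_add, zero_mul]
      congr 1
      rw [hsymf, mul_assoc, ← Matrix.transpose_mul, Units.inv_mul, Matrix.transpose_one, mul_one])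
    convert h using 1
    refine DFunLike.ext _ _ fun v => ?_
    simp only [CfsgLib.CrossChar.dotChar_apply, AddChar.compAddMonoidHom_apply]
    congr 1
    have etr : ∀ B C : Matrix (Fin n) (Fin n) F,
        ∑ c : Fin n × Fin n, flat B c * flat C c = (B * C.transpose).trace := fun B C => by
      simp [Matrix.trace, Matrix.diag, Matrix.mul_apply, Fintype.sum_prod_type, flat]
    have ev : v = flat (M v) := rfl
    have ey : y₀ = flat T := rfl
    show ∑ c, v c * flat _ c = ∑ c, flat ((A : Matrix (Fin n) (Fin n) F) * M v * _) c * y₀ c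
    conv_lhs => rw [ev]
    rw [ey, etr, etr, Matrix.transpose_mul, Matrix.transpose_mul, Matrix.transpose_transpose, hTsym]
    conv_rhs => rw [mul_assoc, mul_assoc, Matrix.trace_mul_comm]
    simp only [mul_assoc, M]
  -- some vector takes a nonzero value
  obtain ⟨A₀, k, hk⟩ : ∃ (A : GL (Fin n) F) (k : Fin n),
      ((A : Matrix (Fin n) (Fin n) F).transpose * T * (A : Matrix (Fin n) (Fin n) F)) k k ≠ 0 := by
    by_cases hd : ∃ k, T k k ≠ 0
    · obtain ⟨k, hk⟩ := hd
      exact ⟨1, k, by simpa using hk⟩
    push Not at hd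
    obtain ⟨i, j, hij⟩ : ∃ i j, T i j ≠ 0 := by
      by_contra h
      push Not at h
      exact hT0 (Matrix.ext h)
    have hne' : i ≠ j := by rintro rfl; exact hij (hd i)
    refine ⟨Matrix.SpecialLinearGroup.toGL (Matrix.SpecialLinearGroup.transvection hne' (1 : F)), j, ?_⟩
    have hji : T j i = T i j := congrFun (congrFun hTsym i) j
    show ((Matrix.transvection i j (1 : F)).transpose * T * Matrix.transvection i j (1 : F)) j j ≠ 0
    rw [Matrix.mul_transvection_apply_same, Matrix.transvection, Matrix.transpose_add,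
      Matrix.transpose_one, Matrix.transpose_single, Matrix.add_mul, Matrix.one_mul, one_mul]
    simp only [Matrix.add_apply, Matrix.single_mul_apply_same, one_mul, hd, hji, add_zero, zero_add]
    rw [← two_mul]
    exact mul_ne_zero h2 hij
  set T' := (A₀ : Matrix (Fin n) (Fin n) F).transpose * T * (A₀ : Matrix (Fin n) (Fin n) F) with hT'
  set a := T' k k with ha
  let Sq : Finset F := (Finset.univ.filter fun s : F => s ≠ 0).image fun s => s ^ 2
  have hSq : q - 1 ≤ 2 * Sq.card := by
    have h1 : (Finset.univ.filter fun s : F => s ≠ 0).card = q - 1 := by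
      rw [Finset.filter_ne', Finset.card_erase_of_mem (Finset.mem_univ _), Finset.card_univ, hq]
    rw [← h1]
    refine Finset.card_le_mul_card_image _ 2 fun b _ => ?_
    by_cases hb : ∃ s : F, s ^ 2 = b
    · obtain ⟨s, rfl⟩ := hb
      refine (Finset.card_le_card (t := {s, -s}) fun x hx => ?_).trans Finset.card_le_two
      simp only [Finset.mem_filter] at hx
      simpa using sq_eq_sq_iff_eq_or_eq_neg.1 hx.2
    · rw [Finset.filter_false_of_mem fun x _ hx => hb ⟨x, hx⟩]
      simp
  let Y := {i : Fin n // i ≠ k} → F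
  -- the congruences giving distinct weights
  have hchoice : ∀ z : ↥Sq × Y, ∃ B : Matrix (Fin n) (Fin n) F,
      CfsgLib.CrossChar.Has R ι (CfsgLib.CrossChar.dotChar ψ (flat B)) ∧
        B k k = a * z.1 ∧ ∀ j : {i : Fin n // i ≠ k}, B k j = z.2 j := by
    rintro ⟨⟨b, hb⟩, y⟩
    obtain ⟨s, hs, rfl⟩ := Finset.mem_image.1 hb
    have hs0 : s ≠ 0 := (Finset.mem_filter.1 hs).2
    let r : Fin n → F := fun j => if h : j = k then s else (y ⟨j, h⟩ / s - T' k j) / a
    let E : Matrix (Fin n) (Fin n) F := Matrix.of fun i j => if i = k then r j else if i = j then 1 else 0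
    let E' : Matrix (Fin n) (Fin n) F :=
      Matrix.of fun i j => if i = k then (if j = k then 1 / s else -(r j / s)) else if i = j then 1 else 0
    have hrk : r k = s := by simp [r]
    have hEE : E * E' = 1 := by
      ext i j
      rw [Matrix.mul_apply]
      by_cases hi : i = k
      · subst hi
        rw [← Finset.add_sum_erase _ _ (Finset.mem_univ i)]
        by_cases hj : j = i
        · subst hj
          rw [Finset.sum_eq_zero fun x hx => by simp [E, E', Finset.ne_of_mem_erase hx]]
          simp [E, E', hrk, hs0]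
        · rw [Finset.sum_eq_single j (fun x hx hxj => by simp [E', Finset.ne_of_mem_erase hx, hxj])
            fun hx => absurd (Finset.mem_erase.2 ⟨hj, Finset.mem_univ j⟩) hx]
          simp [E, E', hrk, hj, Ne.symm hj]
          field_simp
          ring
      · rw [Finset.sum_eq_single i (fun x _ hx => by simp [E, hi, Ne.symm hx])
          fun hx => absurd (Finset.mem_univ i) hx]
        simp [E, E', hi, Matrix.one_apply]
    let Eu : GL (Fin n) F := ⟨E, E', hEE, mul_eq_one_comm.1 hEE⟩
    have h := hmove (A₀ * Eu)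
    have he : ((A₀ * Eu : GL (Fin n) F) : Matrix (Fin n) (Fin n) F).transpose * T *
        ((A₀ * Eu : GL (Fin n) F) : Matrix (Fin n) (Fin n) F) = E.transpose * T' * E := by
      simp only [Units.val_mul, Matrix.transpose_mul, hT', mul_assoc]
      rfl
    rw [he] at h
    refine ⟨_, h, ?_⟩
    have hcol : ∀ x, E x k = if x = k then s else 0 := fun x => by
      by_cases hx : x = k <;> simp [E, hx, hrk]
    have hrow : ∀ j, (E.transpose * T' * E) k j = s * (T' * E) k j := fun j => by
      rw [mul_assoc, Matrix.mul_apply, Finset.sum_eq_single k (fun x _ hx => by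
        simp [Matrix.transpose_apply, hcol, hx]) fun hx => absurd (Finset.mem_univ k) hx]
      simp [Matrix.transpose_apply, hcol]
    refine ⟨?_, fun j => ?_⟩
    · rw [hrow, Matrix.mul_apply, Finset.sum_eq_single k (fun x _ hx => by simp [hcol, hx])
        fun hx => absurd (Finset.mem_univ k) hx, hcol, if_pos rfl, ← ha]
      show s * (a * s) = a * s ^ 2
      ring
    · rw [hrow, Matrix.mul_apply, ← Finset.add_sum_erase _ _ (Finset.mem_univ k),
        Finset.sum_eq_single (j : Fin n) (fun x hx hxj => by simp [E, Finset.ne_of_mem_erase hx, hxj])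
        fun hx => absurd (Finset.mem_erase.2 ⟨j.2, Finset.mem_univ (j : Fin n)⟩) hx, ← ha]
      simp [E, r, j.2]
      field_simp
      ring
  choose B hB hBk hBj using hchoice
  have hd := CfsgLib.CrossChar.card_le_finrank R ι
    (fun z : ↥Sq × Y => CfsgLib.CrossChar.dotChar ψ (flat (B z))) (fun z z' h => by
      have hBB : B z = B z' := hflat (hinj h)
      refine Prod.ext (Subtype.ext ?_) (funext fun j => ?_)
      · have := congrFun (congrFun hBB k) k
        rw [hBk, hBk] at this
        exact mul_left_cancel₀ hk this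
      · rw [← hBj z j, ← hBj z' j, hBB]) hB
  rw [Module.finrank_fin_fun, Fintype.card_prod, Fintype.card_coe, Fintype.card_fun, hq,
    Fintype.card_subtype_compl, Fintype.card_fin, Fintype.card_subtype_eq] at hd
  calc q ^ (n - 1) * (q - 1) / 2 ≤ q ^ (n - 1) * (2 * Sq.card) / 2 :=
        Nat.div_le_div_right (Nat.mul_le_mul_left _ hSq)
    _ = Sq.card * q ^ (n - 1) := by
        rw [show q ^ (n - 1) * (2 * Sq.card) = 2 * (Sq.card * q ^ (n - 1)) by ring,
          Nat.mul_div_cancel_left _ (by norm_num)]
    _ ≤ d := hd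

end Cfsg.Agent.S2393
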