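import Cfsg.Statements.S2394
import Cfsg.Agent.Lib.Char.Exceptional.CrossChar
import Cfsg.Agent.Lib.Char.Exceptional.CommutingPairs

set_option autoImplicit false
open scoped MatrixGroups
open Cfsg

namespace Cfsg.Agent.S2394

section
variable {F : Type*} [Field F]

theorem pair_of_matrices (C T : Matrix (Fin 2) (Fin 2) F) (hC : C.det = 1) (hT : T.det = 1) (m : ℕ)
    (h1 : C ^ m = 1) (h2 : T * C = C ^ (m - 1) * T) (h3 : C * T = T * C ^ (m - 1)) (h4 : C ^ 2 ≠ 1) :
    ∃ c t : Matrix.SpecialLinearGroup (Fin 2) F, c ^ m = 1 ∧ t * c = c ^ (m - 1) * t ∧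
      c * t = t * c ^ (m - 1) ∧ c ^ 2 ≠ 1 := by
  let c : Matrix.SpecialLinearGroup (Fin 2) F := ⟨C, hC⟩
  let t : Matrix.SpecialLinearGroup (Fin 2) F := ⟨T, hT⟩
  refine ⟨c, t, Subtype.ext ?_, Subtype.ext ?_, Subtype.ext ?_, fun h => h4 ?_⟩
  · rw [Matrix.SpecialLinearGroup.coe_pow, Matrix.SpecialLinearGroup.coe_one]; exact h1
  · rw [Matrix.SpecialLinearGroup.coe_mul, Matrix.SpecialLinearGroup.coe_mul,
      Matrix.SpecialLinearGroup.coe_pow]
    exact h2
  · rw [Matrix.SpecialLinearGroup.coe_mul, Matrix.SpecialLinearGroup.coe_mul,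
      Matrix.SpecialLinearGroup.coe_pow]
    exact h3
  · have h' := congrArg Subtype.val h
    rw [Matrix.SpecialLinearGroup.coe_pow, Matrix.SpecialLinearGroup.coe_one] at h'
    exact h' 
theorem even_case (h2 : (2:F) = 0) : ∃ (c t : Matrix.SpecialLinearGroup (Fin 2) F), c ^ 3 = 1 ∧ t * c = c ^ 2 * t ∧ c * t = t * c ^ 2 ∧ c ^ 2 ≠ 1 := by
  have hn : (-1 : F) = 1 := by linear_combination (-1 : F) * h2
  have ho : (1 : F) + 1 = 0 := by rw [one_add_one_eq_two, h2]
  refine pair_of_matrices !![0, 1; 1, 1] !![0, 1; 1, 0] (by simp [Matrix.det_fin_two_of, hn])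
    (by simp [Matrix.det_fin_two_of, hn]) 3 ?_ ?_ ?_ ?_
  · simp [pow_three, Matrix.mul_fin_two, Matrix.one_fin_two, ho]
  · simp [pow_two, Matrix.mul_fin_two, ho]
  · simp [pow_two, Matrix.mul_fin_two, ho]
  · intro h
    have h' := congrFun (congrFun h 1) 0
    simp [pow_two, Matrix.mul_fin_two, ho] at h'
theorem odd_case (h2 : (2:F) ≠ 0) (a b : F) (hab : a^2+b^2 = -1) : ∃ (c t : Matrix.SpecialLinearGroup (Fin 2) F), c ^ 4 = 1 ∧ t * c = c ^ 3 * t ∧ c * t = t * c ^ 3 ∧ c ^ 2 ≠ 1 := by
  refine pair_of_matrices !![0, -1; 1, 0] !![a, b; b, -a] (by simp [Matrix.det_fin_two_of])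
    (by rw [Matrix.det_fin_two_of]; linear_combination (-1:F) * hab) 4 ?_ ?_ ?_ ?_
  · rw [show (4:ℕ) = 3+1 from rfl, pow_succ]
    simp [pow_three, Matrix.mul_fin_two, Matrix.one_fin_two]
  · simp [pow_three, Matrix.mul_fin_two]
  · simp [pow_three, Matrix.mul_fin_two]
  · intro h
    have h' := congrFun (congrFun h 0) 0
    simp [pow_two, Matrix.mul_fin_two] at h'
    exact h2 (by linear_combination (-1:F) * h')

end


section
variable {A : Type*} [Group A] {K : Type*} [Field K] [IsAlgClosed K] {V : Type*} [AddCommGroup V]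
  [Module K V] [FiniteDimensional K V] {n : ℕ}

theorem two_mul_le_finrank (c t : A) (m : ℕ) (Φ : (Fin n → A) →* Module.End K V)
    (hm : (m : K) ≠ 0) (hm1 : 1 ≤ m) (hcm : c ^ m = 1) (htc : t * c = c ^ (m - 1) * t)
    (hct : c * t = t * c ^ (m - 1)) (hfree : ∀ i, Φ (Pi.mulSingle i (c ^ 2)) ≠ 1) :
    2 * n ≤ Module.finrank K V := by
  have hne : ∀ i j : Fin n, i ≠ j → ∀ x y : A,
      Commute (Φ (Pi.mulSingle i x)) (Φ (Pi.mulSingle j y)) := fun i j hij x y =>
    (Pi.mulSingle_commute (f := fun _ : Fin n => A) hij x y).map Φ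
  have hP : CfsgLib.CrossChar.Pairs (fun i : Fin n => Φ (Pi.mulSingle i c))
      (fun i : Fin n => Φ (Pi.mulSingle i t)) m :=
    { cast_ne := hm
      pos := hm1
      pow_eq := fun i => by
        rw [← map_pow, ← Pi.mulSingle_pow, hcm, Pi.mulSingle_one, map_one]
      cc := fun i j => by
        by_cases hij : i = j
        · subst hij; exact Commute.refl _
        · exact hne i j hij c c
      ct := fun i j hij => hne i j hij c t
      tc := fun i => by
        rw [← map_pow, ← map_mul, ← map_mul, ← Pi.mulSingle_pow, ← Pi.mulSingle_mul, ← Pi.mulSingle_mul, htc]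
      ct' := fun i => by
        rw [← map_pow, ← map_mul, ← map_mul, ← Pi.mulSingle_pow, ← Pi.mulSingle_mul, ← Pi.mulSingle_mul, hct]
      inj := fun i u v huv => by
        have h := congrArg (Φ (Pi.mulSingle i t)⁻¹) huv
        rwa [← Module.End.mul_apply, ← Module.End.mul_apply, ← map_mul, inv_mul_cancel, map_one] at h }
  have hd := hP.two_mul_card_le _ ⊤ le_rfl (fun _ _ _ => ⟨Submodule.mem_top, Submodule.mem_top⟩)
    Finset.univ (fun i _ => by
      by_contra hcon
      push Not at hcon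
      refine hfree i ?_
      rw [Pi.mulSingle_pow, map_pow]
      exact LinearMap.ext fun w => hcon w Submodule.mem_top)
  rwa [finrank_top, Finset.card_univ, Fintype.card_fin] at hd

end

/-- The smallest degree of a faithful representation of the symplectic group `Sp_{2n}(q)` over its own field `F_q` is `2n`: every injective homomorphism from `Sp_{2n}(F)` to `GL_d(F)`, `F` the field with `q` elements, has `d ≥ 2n`. -/
theorem result {F : Type*} [Field F] [Fintype F] (n : ℕ) {d : ℕ}
    (ρ : ↥(Matrix.symplecticGroup (Fin n) F) →* GL (Fin d) F) (hρ : Function.Injective ρ) : 2 * n ≤ d := by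
  classical
  let Sp := ↥(Matrix.symplecticGroup (Fin n) F)
  -- the product of the commuting copies of the special linear group
  have hmem : ∀ a b c e : Fin n → F, (∀ i, a i * e i - b i * c i = 1) →
      Matrix.fromBlocks (Matrix.diagonal a) (Matrix.diagonal b) (Matrix.diagonal c) (Matrix.diagonal e) ∈
        Matrix.symplecticGroup (Fin n) F := by
    intro a b c e h
    rw [SymplecticGroup.mem_iff, Matrix.J, Matrix.fromBlocks_transpose, Matrix.fromBlocks_multiply,
      Matrix.fromBlocks_multiply, Matrix.fromBlocks_inj]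
    refine ⟨?_, ?_, ?_, ?_⟩ <;>
      simp only [Matrix.diagonal_transpose, mul_zero, zero_add, add_zero, mul_one, mul_neg, neg_mul,
        Matrix.diagonal_mul_diagonal]
    · ext i j; by_cases hij : i = j <;> simp [hij, mul_comm]
    · ext i j
      by_cases hij : i = j
      · subst hij; simp; linear_combination (-1 : F) * h i
      · simp [hij]
    · ext i j
      by_cases hij : i = j
      · subst hij; simp; linear_combination h i
      · simp [hij]
    · ext i j; by_cases hij : i = j <;> simp [hij, mul_comm]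
  have hSL : ∀ (x : Fin n → Matrix.SpecialLinearGroup (Fin 2) F) (i : Fin n),
      (x i : Matrix (Fin 2) (Fin 2) F) 0 0 * (x i : Matrix (Fin 2) (Fin 2) F) 1 1 -
        (x i : Matrix (Fin 2) (Fin 2) F) 0 1 * (x i : Matrix (Fin 2) (Fin 2) F) 1 0 = 1 := fun x i => by
    rw [← Matrix.det_fin_two]; exact (x i).2
  let e : (Fin n → Matrix.SpecialLinearGroup (Fin 2) F) →* Sp :=
    MonoidHom.mk' (fun x => ⟨_, hmem (fun i => (x i : Matrix (Fin 2) (Fin 2) F) 0 0)
      (fun i => (x i : Matrix (Fin 2) (Fin 2) F) 0 1) (fun i => (x i : Matrix (Fin 2) (Fin 2) F) 1 0)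
      (fun i => (x i : Matrix (Fin 2) (Fin 2) F) 1 1) (hSL x)⟩) (fun x y => Subtype.ext (by
        show _ = Matrix.fromBlocks _ _ _ _ * Matrix.fromBlocks _ _ _ _
        rw [Matrix.fromBlocks_multiply]
        simp only [Matrix.diagonal_mul_diagonal, Matrix.diagonal_add]
        simp [Matrix.mul_apply, Fin.sum_univ_two]))
  have heinj : Function.Injective e := by
    intro x y h
    have h' := congrArg Subtype.val h
    change Matrix.fromBlocks _ _ _ _ = Matrix.fromBlocks _ _ _ _ at h'
    rw [Matrix.fromBlocks_inj, Matrix.diagonal_injective.eq_iff, Matrix.diagonal_injective.eq_iff,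
      Matrix.diagonal_injective.eq_iff, Matrix.diagonal_injective.eq_iff] at h'
    funext i
    refine Subtype.ext ?_
    ext a b
    fin_cases a <;> fin_cases b
    · exact congrFun h'.1 i
    · exact congrFun h'.2.1 i
    · exact congrFun h'.2.2.1 i
    · exact congrFun h'.2.2.2 i
  -- a semisimple element and an inverting one
  obtain ⟨c, t, m, hm1, hm, hcm, htc, hct, hc2⟩ :
      ∃ (c t : Matrix.SpecialLinearGroup (Fin 2) F) (m : ℕ), 1 ≤ m ∧ (m : F) ≠ 0 ∧ c ^ m = 1 ∧
        t * c = c ^ (m - 1) * t ∧ c * t = t * c ^ (m - 1) ∧ c ^ 2 ≠ 1 := by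
    by_cases h2 : (2 : F) = 0
    · obtain ⟨c, t, h⟩ := even_case h2
      refine ⟨c, t, 3, by norm_num, ?_, h⟩
      rw [show ((3 : ℕ) : F) = 1 + 2 by norm_num, h2, add_zero]
      exact one_ne_zero
    · obtain ⟨p, hp⟩ := CharP.exists F
      haveI := hp
      haveI : NeZero p := ⟨fun h => by subst h; haveI : CharZero F := CharP.charP_to_charZero F; exact not_finite F⟩
      obtain ⟨a, b, hab⟩ := CharP.sq_add_sq F p (-1)
      have hab' : (a : F) ^ 2 + (b : F) ^ 2 = -1 := by exact_mod_cast hab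
      obtain ⟨c, t, h⟩ := odd_case h2 _ _ hab'
      refine ⟨c, t, 4, by norm_num, ?_, h⟩
      rw [show ((4 : ℕ) : F) = 2 * 2 by norm_num]
      exact mul_ne_zero h2 h2
  refine two_mul_le_finrank (V := Fin d → AlgebraicClosure F) c t m
    ((CfsgLib.CrossChar.closureRep ρ).comp e) ?_ hm1 hcm htc hct (fun i h => ?_) |>.trans ?_
  · rw [← map_natCast (algebraMap F (AlgebraicClosure F)), Ne,
      map_eq_zero_iff _ (algebraMap F (AlgebraicClosure F)).injective]
    exact hm
  · have h' : CfsgLib.CrossChar.closureRep ρ (e (Pi.mulSingle i (c ^ 2))) = 1 := h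
    rw [CfsgLib.CrossChar.closureRep_eq_one_iff, MonoidHom.mem_ker] at h'
    have h2 := heinj ((hρ (h'.trans (map_one ρ).symm)).trans (map_one e).symm)
    exact hc2 (by simpa using congrFun h2 i)
  · rw [Module.finrank_fin_fun]

end Cfsg.Agent.S2394
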