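import Cfsg.Statements.S2399
import Cfsg.Agent.Lib.Known.UnivLiftData

set_option autoImplicit false
open scoped MatrixGroups
open Cfsg

namespace Cfsg.Agent.S2399

/-- Projective representations in the natural characteristic lift: for each of the types G₂, B₂, D₄, F₄, E₆, E₇, E₈ over any field `K` (for types B₂ and G₂ the field must have more than two elements — the cases where the Chevalley group is not simple are set aside), every homomorphism from the Chevalley group to `PGL_n(L) = GL_n(L)/Z`, `L` a field of the same characteristic as `K`, lifts uniquely to a homomorphism from the group Δ presented by (R1), (R2) to `GL_n(L)`, compatibly with the projection Δ → Chevalley group sending x̄_r(t) to x_r(t). -/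
theorem result {K : Type*} [Field K] (D : Cfsg.Lie.ChevalleyDatum) (hD : D ∈ [Cfsg.Lie.chevG2, Cfsg.Lie.chevB2, Cfsg.Lie.chevD4, Cfsg.Lie.chevF4, Cfsg.Lie.chevE6, Cfsg.Lie.chevE7, Cfsg.Lie.chevE8]) (hK : D ∈ [Cfsg.Lie.chevB2, Cfsg.Lie.chevG2] → ∃ x : K, x ≠ 0 ∧ x ≠ 1)
    (θ : D.SteinbergCover K →* ↥(D.group K))
    (hθ : ∀ (r : ℕ) (t : K), r < D.nroots → ((θ (D.scGen K r t) : GL D.Idx K) : Matrix D.Idx D.Idx K) = D.x K r t)
    {L : Type*} [Field L] (hL : ringChar L = ringChar K) {n : ℕ}
    (φ : ↥(D.group K) →* GL (Fin n) L ⧸ Subgroup.center (GL (Fin n) L)) :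
    ∃! ψ : D.SteinbergCover K →* GL (Fin n) L, (QuotientGroup.mk' (Subgroup.center (GL (Fin n) L))).comp ψ = φ.comp θ := by
  have hs : Function.Surjective (QuotientGroup.mk' (Subgroup.center (GL (Fin n) L))) :=
    QuotientGroup.mk'_surjective _
  have hk : (QuotientGroup.mk' (Subgroup.center (GL (Fin n) L))).ker = Subgroup.center (GL (Fin n) L) :=
    QuotientGroup.ker_mk' _
  have hle : (QuotientGroup.mk' (Subgroup.center (GL (Fin n) L))).ker ≤ Subgroup.center (GL (Fin n) L) := hk.le
  rcases CharP.char_is_prime_or_zero K (ringChar K) with hp | hp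
  · refine CfsgLib.Known.Univ.existsUnique_lift_tors (D := D) hD
      (fun h => hK (by rcases h with rfl | rfl <;> simp)) _ hs hle
      (p := ringChar K) (ringChar.Nat.cast_ringChar) ?_ (φ.comp θ)
    intro g hg hgp
    rw [hk, Matrix.GeneralLinearGroup.center_eq_range_scalar] at hg
    obtain ⟨a, rfl⟩ := hg
    rcases isEmpty_or_nonempty (Fin n) with hn | hn
    · exact Subsingleton.elim _ _
    have hL' : CharP L (ringChar K) := by rw [← hL]; exact ringChar.charP L
    have := Fact.mk hp
    obtain ⟨i⟩ := hn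
    rw [← map_pow] at hgp
    have h1 : ((a ^ ringChar K : Lˣ) : L) = 1 := by
      have h2 := congrArg (fun g : GL (Fin n) L => (g : Matrix (Fin n) (Fin n) L) i i) hgp
      simpa [Matrix.diagonal_pow] using h2
    rw [Units.val_pow_eq_pow_val] at h1
    have h3 : ((a : L) - 1) ^ ringChar K = 0 := by rw [sub_pow_char, h1, one_pow, sub_self]
    have h4 : a = 1 := Units.ext (sub_eq_zero.1 (eq_zero_of_pow_eq_zero h3))
    rw [h4, map_one]
  · have : CharP K 0 := by rw [← hp]; exact ringChar.charP K
    have : CharZero K := CharP.charP_to_charZero K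
    obtain ⟨s, hs5⟩ := Infinite.exists_subset_card_eq K 5
    exact CfsgLib.Known.Univ.existsUnique_lift_large (s := s) (by omega) hD _ hs hle (φ.comp θ)

end Cfsg.Agent.S2399
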