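import Cfsg.Statements.S2400
import Cfsg.Agent.Lib.Known.UnivSmallData

set_option autoImplicit false
open Cfsg

namespace Cfsg.Agent.S2400

open CfsgLib.Lie.Chev

/-- Over a finite field `K`, the group presented by Steinberg's relators (R1)–(R3) (the universal Chevalley group) of type E₆ or E₇, or of type B₂ or D₄ with `K` of more than two elements, has trivial Schur multiplier: every finite stem extension of it is an isomorphism (Schur multiplier described through stem extensions as in the definitions). Types G₂, F₄ and E₈ are not covered here. -/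
theorem result {K : Type*} [Field K] [Fintype K] (e : Cfsg.Lie.ChevalleyDatum × ℕ)
    (he : e ∈ [(Cfsg.Lie.chevE6, 0), (Cfsg.Lie.chevE7, 0), (Cfsg.Lie.chevB2, 2), (Cfsg.Lie.chevD4, 2)]) (hK : Fintype.card K ≠ e.2) :
    Cfsg.HasCyclicSchurMultiplier (e.1.SteinbergGroup K) 1 := by
  have key : ∀ (D : Cfsg.Lie.ChevalleyDatum) (X : Aux) (C : Cert D X) (L : List (ℕ × ℕ × ℕ × List ℤ))
      (hL : chkWits D X L = true), CfsgLib.Known.Univ.HasSections (D := D) (X := X) K → Rel.PerfectData D K →
      Cfsg.HasCyclicSchurMultiplier (D.SteinbergGroup K) 1 := by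
    intro D X C L hL h hp
    obtain ⟨eS, -⟩ := CfsgLib.Known.StCover.equiv_steinbergGroup C (K := K) hL
    have hker : eS.toMonoidHom.ker = ⊥ := (MonoidHom.ker_eq_bot_iff _).2 eS.injective
    have : Subsingleton eS.toMonoidHom.ker := by rw [hker]; infer_instance
    refine CfsgLib.Known.Univ.hasSchurMultiplier C hL h hp eS.toMonoidHom eS.surjective
      (by rw [hker]; exact bot_le) (mulEquivOfCyclicCardEq ?_)
    rw [Nat.card_unique, Nat.card_eq_one_iff_unique.2 ⟨inferInstance, inferInstance⟩]
  simp only [List.mem_cons, List.not_mem_nil, or_false] at he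
  have h2 : e.2 = 2 → 3 ≤ Fintype.card K := fun h => by
    have := Fintype.one_lt_card (α := K); omega
  rcases he with rfl | rfl | rfl | rfl
  · exact key _ _ certE6 _ witE6 (CfsgLib.Known.Univ.hasSections_laced CfsgLib.Known.Univ.lacedE6_ok K)
      (perfectData_of_chk (by decide +kernel) K)
  · exact key _ _ certE7 _ witE7 (CfsgLib.Known.Univ.hasSections_laced CfsgLib.Known.Univ.lacedE7_ok K)
      (perfectData_of_chk (by decide +kernel) K)
  · exact key _ _ certB2 _ witB2 (CfsgLib.Known.Univ.hasSections_B2 (h2 rfl))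
      (perfectData_of_mem (by simp) K fun _ => CfsgLib.Known.Univ.exists_ne_zero_one (h2 rfl))
  · exact key _ _ certD4 _ witD4 (CfsgLib.Known.Univ.hasSections_D4 (h2 rfl))
      (perfectData_of_chk (by decide +kernel) K)

end Cfsg.Agent.S2400
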