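import Cfsg.Statements.S2405
import Cfsg.Agent.Lib.Lie.TwoGen.Main
import Cfsg.Agent.Lib.Lie.TwoGen.Data

set_option autoImplicit false
open Cfsg

namespace Cfsg.Agent.S2405

/-- Each Chevalley group of type G₂, B₂, D₄, F₄, E₆, E₇ or E₈ over a finite field is generated by two of its elements (types B₂ and G₂ over the field with two elements, where the group is not simple, excepted). -/
theorem result {F : Type*} [Field F] [Finite F] (D : Cfsg.Lie.ChevalleyDatum) (hD : D ∈ [Cfsg.Lie.chevG2, Cfsg.Lie.chevB2, Cfsg.Lie.chevD4, Cfsg.Lie.chevF4, Cfsg.Lie.chevE6, Cfsg.Lie.chevE7, Cfsg.Lie.chevE8])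
    (hF : D ∈ [Cfsg.Lie.chevB2, Cfsg.Lie.chevG2] → ∃ x : F, x ≠ 0 ∧ x ≠ 1) :
    ∃ a b : ↥(D.group F), Subgroup.closure ({a, b} : Set ↥(D.group F)) = ⊤ := by
  open CfsgLib.Lie.Chev CfsgLib.Lie.Chev.TwoGen in
  classical
  by_cases hq : ∃ x : F, x ≠ 0 ∧ x ≠ 1
  · simp only [List.mem_cons, List.not_mem_nil, or_false] at hD
    rcases hD with rfl | rfl | rfl | rfl | rfl | rfl | rfl
    · exact (chevRel certG2 F).two_gen_main mainG2 mainG2_chk hq
    · exact (chevRel certB2 F).two_gen_main mainB2 mainB2_chk hq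
    · exact (chevRel certD4 F).two_gen_main mainD4 mainD4_chk hq
    · exact (chevRel certF4 F).two_gen_main mainF4 mainF4_chk hq
    · exact (chevRel certE6 F).two_gen_main mainE6 mainE6_chk hq
    · exact (chevRel certE7 F).two_gen_main mainE7 mainE7_chk hq
    · exact (chevRel certE8 F).two_gen_main mainE8 mainE8_chk hq
  · have h2 : ∀ x : F, x = 0 ∨ x = 1 := fun x => or_iff_not_imp_left.2 fun h => by
      by_contra h1; exact hq ⟨x, h, h1⟩
    simp only [List.mem_cons, List.not_mem_nil, or_false] at hD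
    rcases hD with rfl | rfl | rfl | rfl | rfl | rfl | rfl
    · exact absurd (hF (by simp)) hq
    · exact absurd (hF (by simp)) hq
    · exact (chevRel certD4 F).two_gen_two twoD4 twoD4_chk h2
    · exact (chevRel certF4 F).two_gen_two twoF4 twoF4_chk h2
    · exact (chevRel certE6 F).two_gen_two twoE6 twoE6_chk h2
    · exact (chevRel certE7 F).two_gen_two twoE7 twoE7_chk h2
    · exact (chevRel certE8 F).two_gen_two twoE8 twoE8_chk h2

end Cfsg.Agent.S2405
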