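import Cfsg.Statements.S2419
import Cfsg.Agent.Lib.Known.WeylCoxElt
import Cfsg.Agent.Lib.Lie.Rel.Checks

set_option autoImplicit false
open Cfsg

namespace Cfsg.Agent.S2419

open CfsgLib.Known.WeylCoxElt CfsgLib.Lie.Chev in
private theorem gen_of_cert {D : Cfsg.Lie.ChevalleyDatum} {X : Aux} (C : Cert D X) (M : CoxeterMatrix (Fin D.rank))
    (hM : chkCox D X M.M = true) (init : List (Fin D.rank)) (hn' : (init.map fun i : Fin D.rank => (i : ℕ)).Nodup)
    (steps : List (ℕ × List ℕ × ℕ)) (last : ℕ) (h : chkGen D X (init.map fun i : Fin D.rank => (i : ℕ)) steps last = true) :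
    ∃ T : Finset M.Group, T.card = init.length ∧ (∀ t ∈ T, ∃ (g : M.Group) (i : Fin D.rank), t = g * M.simple i * g⁻¹) ∧
      Subgroup.closure (({((List.finRange D.rank).map M.simple).prod} : Set M.Group) ∪ ↑T) = ⊤ := by
  classical
  have hn : init.Nodup := hn'.of_map _
  obtain ⟨e, he⟩ := coxeter_iso C M hM
  have hinj : Function.Injective M.simple := fun i j hij =>
    (chevRel C ℚ).wperm_injective (by rw [← (chevRel C ℚ).qact_qgen, ← (chevRel C ℚ).qact_qgen,
      e.injective (show e ((chevRel C ℚ).qgen i) = e ((chevRel C ℚ).qgen j) by rw [he, he, hij])])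
  refine ⟨(init.map M.simple).toFinset, ?_, fun t ht => ?_, ?_⟩
  · rw [List.toFinset_card_of_nodup (hn.map hinj), List.length_map]
  · obtain ⟨i, -, rfl⟩ := List.mem_map.1 (List.mem_toFinset.1 ht)
    exact ⟨1, i, by simp⟩
  · rw [eq_top_iff, ← M.toCoxeterSystem.subgroup_closure_range_simple, Subgroup.closure_le]
    rintro _ ⟨i, rfl⟩
    refine gen_spec C M he (Subgroup.subset_closure (Or.inl rfl)) steps _ last h (fun k hk hkr => ?_) i
    obtain ⟨x, hx, rfl⟩ := List.mem_map.1 hk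
    exact Subgroup.subset_closure (Or.inr (List.mem_toFinset.2 (List.mem_map_of_mem hx)))


/-- The Coxeter groups of types B₂, G₂, E₆, E₇, E₈ are generated by the Coxeter element `s₁ s₂ ⋯ s_l` together with one suitable reflection (a conjugate of a simple reflection); for types D₄ and F₄ the Coxeter element together with two suitable reflections suffices. -/
theorem result (c : (Σ n : ℕ, CoxeterMatrix (Fin n)) × ℕ)
    (hc : c ∈ [(⟨2, CoxeterMatrix.B 2⟩, 1), (⟨2, CoxeterMatrix.G₂⟩, 1), (⟨4, Cfsg.Lie.coxeterD4⟩, 2), (⟨4, CoxeterMatrix.F₄⟩, 2),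
      (⟨6, CoxeterMatrix.E₆⟩, 1), (⟨7, CoxeterMatrix.E₇⟩, 1), (⟨8, CoxeterMatrix.E₈⟩, 1)]) :
    ∃ T : Finset c.1.2.Group, T.card = c.2 ∧ (∀ t ∈ T, ∃ (g : c.1.2.Group) (i : Fin c.1.1), t = g * c.1.2.simple i * g⁻¹) ∧
      Subgroup.closure (({((List.finRange c.1.1).map c.1.2.simple).prod} : Set c.1.2.Group) ∪ ↑T) = ⊤ := by
  simp only [List.mem_cons, List.not_mem_nil, or_false] at hc
  open CfsgLib.Lie.Chev in
  rcases hc with rfl | rfl | rfl | rfl | rfl | rfl | rfl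
  · exact gen_of_cert (D := Cfsg.Lie.chevB2) certB2 _ coxB2 ([0] : List (Fin 2)) (by decide +kernel) [] 1 (by decide +kernel)
  · exact gen_of_cert (D := Cfsg.Lie.chevG2) certG2 _ coxG2 ([0] : List (Fin 2)) (by decide +kernel) [] 1 (by decide +kernel)
  · exact gen_of_cert (D := Cfsg.Lie.chevD4) certD4 _ coxD4 ([0, 2] : List (Fin 4)) (by decide +kernel) [(1, [4], 0)] 3 (by decide +kernel)
  · exact gen_of_cert (D := Cfsg.Lie.chevF4) certF4 _ coxF4 ([0, 2] : List (Fin 4)) (by decide +kernel) [(1, [4], 0)] 3 (by decide +kernel)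
  · exact gen_of_cert (D := Cfsg.Lie.chevE6) certE6 _ coxE6 ([0] : List (Fin 6)) (by decide +kernel)
      [(2, [6], 0), (3, [6, 6, 6, 6, 6], 0), (1, [3, 6, 6], 0), (4, [6, 2, 3, 6], 0)] 5 (by decide +kernel)
  · exact gen_of_cert (D := Cfsg.Lie.chevE7) certE7 _ coxE7 ([1] : List (Fin 7)) (by decide +kernel)
      [(0, [7, 7, 7, 1, 7, 7, 1], 1), (3, [7, 7, 7, 7, 0, 7], 1), (4, [7, 1, 3], 1), (2, [3, 0, 7], 1), (5, [7, 7, 1, 3], 1)] 6 (by decide +kernel)
  · exact gen_of_cert (D := Cfsg.Lie.chevE8) certE8 _ coxE8 ([0] : List (Fin 8)) (by decide +kernel)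
      [(2, [8], 0), (3, [8, 8, 8, 8, 0, 8, 8, 8], 0), (1, [3, 8, 8], 0), (4, [8, 2, 3, 8], 0), (5, [8, 8, 2, 3, 8], 0), (6, [8, 8, 8, 2, 3, 8], 0)] 7 (by decide +kernel)

end Cfsg.Agent.S2419
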