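import Cfsg.Statements.S2424
import Mathlib
import Cfsg.Agent.Lib.Char.Exceptional.GLParabolic

set_option autoImplicit false
open scoped MatrixGroups
open Cfsg

namespace Cfsg.Agent.S2424

open Finset Polynomial Matrix CfsgLib.GLParabolic in
/-- The determinant of the falling products. -/
theorem det_falling {n : ℕ} (y : Fin n → ℂ) (b : ℕ → ℂ) :
    (Matrix.of fun i k : Fin n => ∏ l ∈ range k.val, (y i - b l)).det =
      ∏ i : Fin n, ∏ j ∈ Ioi i, (y j - y i) := by
  rw [← det_vandermonde, det_eval_matrixOfPolynomials_eq_det_vandermonde y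
    (fun k => ∏ l ∈ range k.val, (X - C (b l)))
    (fun k => by rw [natDegree_prod _ _ fun l _ => X_sub_C_ne_zero _]; simp)
    (fun k => monic_prod_of_monic _ _ fun l _ => monic_X_sub_C _)]
  congr 1
  ext i k
  simp [eval_prod]

open Finset CfsgLib.GLParabolic in
theorem qFac_add (q : ℕ) (x k : ℕ) :
    (qFac q (x + k) : ℂ) * ((q : ℂ) ^ (k * (k - 1) / 2)) = (qFac q x : ℂ) *
      ∏ l ∈ range k, (((∑ t ∈ range (x + k), q ^ t : ℕ) : ℂ) - ((∑ t ∈ range l, q ^ t : ℕ) : ℂ)) := by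
  have h : ∀ l ∈ range k, (((∑ t ∈ range (x + k), q ^ t : ℕ) : ℂ) - ((∑ t ∈ range l, q ^ t : ℕ) : ℂ)) =
      (q : ℂ) ^ l * ((∑ t ∈ range (x + (k - 1 - l) + 1), q ^ t : ℕ) : ℂ) := by
    intro l hl
    rw [mem_range] at hl
    rw [show x + k = l + (x + (k - 1 - l) + 1) by omega, sum_range_add]
    push_cast
    rw [mul_sum, add_sub_cancel_left]
    simp [pow_add]
  rw [prod_congr rfl h, prod_mul_distrib, prod_pow_eq_pow_sum, sum_range_id,
    prod_range_reflect (fun j => ((∑ t ∈ range (x + j + 1), q ^ t : ℕ) : ℂ)) k, qFac, qFac,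
    prod_range_add]
  push_cast
  ring

open Finset CfsgLib.GLParabolic in
theorem sum_choose_two (n : ℕ) : ∑ k ∈ range n, k * (k - 1) / 2 = n * (n - 1) * (n - 2) / 6 := by
  have h : ∀ m : ℕ, (∑ k ∈ range (m + 2), k.choose 2) = (m + 2).choose 3 := fun m => by
    induction m with
    | zero => rfl
    | succ m ih => rw [sum_range_succ, ih, add_comm]; exact (Nat.choose_succ_succ (m + 2) 2).symm
  rcases n with _ | _ | m
  · rfl
  · rfl
  · rw [← sum_congr rfl fun k _ => Nat.choose_two_right k, h, Nat.choose_eq_descFactorial_div_factorial,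
      show Nat.factorial 3 = 6 from rfl]
    simp [Nat.descFactorial_succ, mul_comm, mul_assoc, mul_left_comm]

open Finset Matrix CfsgLib.GLParabolic in
theorem deg_eq {F : Type*} [Field F] [Fintype F] {n : ℕ} (q : ℕ) (ν : Fin n → ℕ) (hsum : ∑ i, ν i = n)
    (hq1 : 1 < q) (hq : Fintype.card F = q) :
    Cfsg.unipotentCharacterGL n F ν 1 * (q : ℂ) ^ (n * (n - 1) * (n - 2) / 6) *
        ∏ i : Fin n, (qFac q (ν i + i.val) : ℂ) =
      (qFac q n : ℂ) * ∏ i : Fin n, ∏ j ∈ univ.filter (fun j : Fin n => i < j),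
        (((∑ l ∈ range (ν j + j.val), q ^ l : ℕ) : ℂ) - ((∑ l ∈ range (ν i + i.val), q ^ l : ℕ) : ℂ)) := by
  classical
  let y : Fin n → ℂ := fun i => ((∑ l ∈ range (ν i + i.val), q ^ l : ℕ) : ℂ)
  let b : ℕ → ℂ := fun l => ((∑ t ∈ range l, q ^ t : ℕ) : ℂ)
  have hfil : ∀ i : Fin n, univ.filter (fun j : Fin n => i < j) = Ioi i := fun i => by ext; simp
  simp only [hfil]
  rw [show ∏ i : Fin n, ∏ j ∈ Ioi i, _ = (Matrix.of fun i k : Fin n =>
    ∏ l ∈ range k.val, (y i - b l)).det from (det_falling y b).symm, ← det_transpose, det_apply',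
    ← sum_choose_two, ← prod_pow_eq_pow_sum, ← Fin.prod_univ_eq_prod_range, mul_sum,
    Cfsg.unipotentCharacterGL, sum_mul, sum_mul]
  refine sum_congr rfl fun κ _ => ?_
  simp only [transpose_apply, of_apply]
  by_cases hκ : ∀ i : Fin n, (κ i).val ≤ ν i + i.val
  · rw [if_pos hκ]
    have hμ : ∑ i : Fin n, (ν i + i.val - (κ i).val) = n := by
      have : ∑ i : Fin n, (ν i + i.val - (κ i).val) + ∑ i : Fin n, (κ i).val = ∑ i : Fin n, (ν i + i.val) := by
        rw [← sum_add_distrib]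
        exact sum_congr rfl fun i _ => Nat.sub_add_cancel (hκ i)
      rw [Equiv.sum_comp κ (fun i => i.val), sum_add_distrib, hsum] at this
      omega
    have hidx := congrArg (Nat.cast : ℕ → ℂ) (index_mul (F := F) hμ)
    rw [hq] at hidx
    push_cast at hidx
    have hfix : Cfsg.fixedPointCharacter (Cfsg.parabolicGL n F fun i => ν i + i.val - (κ i).val) 1 =
        ((Cfsg.parabolicGL n F fun i => ν i + i.val - (κ i).val).index : ℂ) := by
      rw [Cfsg.fixedPointCharacter, MulAction.fixedBy_one_eq_univ, Nat.card_univ]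
      rfl
    have hkey : (∏ i : Fin n, (qFac q (ν i + i.val) : ℂ)) * (∏ i : Fin n, (q : ℂ) ^ (i.val * (i.val - 1) / 2)) =
        (∏ i : Fin n, (qFac q (ν i + i.val - (κ i).val) : ℂ)) *
          ∏ i : Fin n, ∏ l ∈ range (κ i).val, (y i - b l) := by
      rw [← Equiv.prod_comp κ (fun i : Fin n => (q : ℂ) ^ (i.val * (i.val - 1) / 2)), ← prod_mul_distrib,
        ← prod_mul_distrib]
      refine prod_congr rfl fun i _ => ?_
      have h := qFac_add q (ν i + i.val - (κ i).val) (κ i).val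
      rw [Nat.sub_add_cancel (hκ i)] at h
      exact h
    rw [hfix, mul_assoc, mul_comm (∏ i : Fin n, (q : ℂ) ^ _), hkey, ← hidx]
    ring
  · rw [if_neg hκ, zero_mul, zero_mul]
    push Not at hκ
    obtain ⟨i, hi⟩ := hκ
    rw [prod_eq_zero (mem_univ i) (prod_eq_zero (mem_range.2 hi) (sub_self (y i)))]
    simp


/-- Degrees of the partition-indexed irreducible characters of `GL_n(q)`: for `ν` a partition of `n` with `n` non-decreasing parts `ν_0 ≤ ⋯ ≤ ν_{n−1}` (zeros allowed; positions counted from 0) and `λ_i = ν_i + i`, write `Q(r)` for the q-integer `1 + q + ⋯ + q^(r−1)` and `Q!(r)` for `Q(1)Q(2)⋯Q(r)`; then the degree `γ(ν)` of the character satisfies `γ(ν) · q^(n(n−1)(n−2)/6) · ∏_i Q!(λ_i) = Q!(n) · ∏_{i<j} (Q(λ_j) − Q(λ_i))`. For `ν = (1,…,1)` this gives the Steinberg degree `q^(n(n−1)/2)`, for `ν = (0,…,0,n)` degree 1. -/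
theorem result {F : Type*} [Field F] [Fintype F] {q : ℕ} (hq : Fintype.card F = q) {n : ℕ} (ν : Fin n → ℕ) (hmono : Monotone ν) (hsum : ∑ i, ν i = n) :
    Cfsg.unipotentCharacterGL n F ν 1 * (q : ℂ) ^ (n * (n - 1) * (n - 2) / 6) *
        ∏ i : Fin n, ∏ j ∈ Finset.range (ν i + i.val), ((∑ l ∈ Finset.range (j + 1), q ^ l : ℕ) : ℂ) =
      (∏ j ∈ Finset.range n, ((∑ l ∈ Finset.range (j + 1), q ^ l : ℕ) : ℂ)) *
        ∏ i : Fin n, ∏ j ∈ Finset.univ.filter (fun j : Fin n => i < j),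
          (((∑ l ∈ Finset.range (ν j + j.val), q ^ l : ℕ) : ℂ) - ((∑ l ∈ Finset.range (ν i + i.val), q ^ l : ℕ) : ℂ)) := by
  subst hq
  classical
  have h := deg_eq _ ν hsum (Fintype.one_lt_card (α := F)) (rfl : Fintype.card F = _)
  simp only [CfsgLib.GLParabolic.qFac, Nat.cast_prod] at h
  exact h

end Cfsg.Agent.S2424
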