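import Cfsg.Statements.S2421
import Cfsg.Agent.Lib.HallGen.GLUnipotent
import Cfsg.Agent.S2424

set_option autoImplicit false
open scoped MatrixGroups
open Cfsg

namespace Cfsg.Agent.S2421

/-- Irreducible characters of `GL_n(q)` indexed by partitions: for `ν` a partition of `n` written with `n` non-decreasing parts `ν_0 ≤ ⋯ ≤ ν_{n−1}` (zeros allowed; positions counted from 0) and `λ_i = ν_i + i`, the alternating sum over permutations `κ` of `{0, …, n−1}` of `sign κ` times the permutation character on partial flags of type `λ − κ` (terms with a negative entry omitted) is an irreducible complex character of `GL_n(q)`. For `ν = (1, …, 1)` this is the Steinberg character. -/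
theorem result {F : Type*} [Field F] [Fintype F] {n : ℕ} (ν : Fin n → ℕ) (hmono : Monotone ν) (hsum : ∑ i, ν i = n) :
    Cfsg.IsIrrCharacter (GL (Fin n) F) (Cfsg.unipotentCharacterGL n F ν) := by
  classical
  refine CfsgLib.Char.IsGen.isIrr_of_norm_one (CfsgLib.HallGen.GLUnipotent.isGen_unipotent ν)
    ((CfsgLib.HallGen.GLUnipotent.classInner_unipotent (F := F) hmono hsum hmono hsum).trans (if_pos rfl)) ?_
  have hd := Cfsg.Agent.S2424.result (F := F) rfl ν hmono hsum
  have hq : 1 < Fintype.card F := Fintype.one_lt_card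
  generalize Fintype.card F = q at hd hq
  have hl : ∀ i j : Fin n, i < j → ν i + i.val < ν j + j.val := fun i j h =>
    Nat.add_lt_add_of_le_of_lt (hmono h.le) h
  obtain ⟨r, hr, hrpos⟩ : ∃ r : ℝ, Cfsg.unipotentCharacterGL n F ν 1 = (r : ℂ) ∧ 0 < r := by
    have hA : (0 : ℝ) < (q : ℝ) ^ (n * (n - 1) * (n - 2) / 6) *
        ∏ i : Fin n, ∏ j ∈ Finset.range (ν i + i.val), ((∑ l ∈ Finset.range (j + 1), q ^ l : ℕ) : ℝ) := by
      refine mul_pos (by positivity) (Finset.prod_pos fun i _ => Finset.prod_pos fun j _ => Nat.cast_pos.2 ?_)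
      exact lt_of_lt_of_le one_pos (le_trans (by simp) (Finset.single_le_sum (f := fun l => q ^ l)
        (fun _ _ => Nat.zero_le _) (Finset.mem_range.2 (Nat.succ_pos j))))
    have hB : (0 : ℝ) < (∏ j ∈ Finset.range n, ((∑ l ∈ Finset.range (j + 1), q ^ l : ℕ) : ℝ)) *
        ∏ i : Fin n, ∏ j ∈ Finset.univ.filter (fun j : Fin n => i < j),
          (((∑ l ∈ Finset.range (ν j + j.val), q ^ l : ℕ) : ℝ) - ((∑ l ∈ Finset.range (ν i + i.val), q ^ l : ℕ) : ℝ)) := by
      refine mul_pos (Finset.prod_pos fun j _ => Nat.cast_pos.2 ?_)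
        (Finset.prod_pos fun i _ => Finset.prod_pos fun j hj => sub_pos.2 (Nat.cast_lt.2 ?_))
      · exact lt_of_lt_of_le one_pos (le_trans (by simp) (Finset.single_le_sum (f := fun l => q ^ l)
          (fun _ _ => Nat.zero_le _) (Finset.mem_range.2 (Nat.succ_pos j))))
      · refine Finset.sum_lt_sum_of_subset
          (Finset.range_mono (hl i j (Finset.mem_filter.1 hj).2).le) (i := ν i + i.val)
          (Finset.mem_range.2 (hl i j (Finset.mem_filter.1 hj).2)) (by simp) (pow_pos (by omega) _)
          fun l _ _ => Nat.zero_le _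
    refine ⟨_, ?_, div_pos hB hA⟩
    rw [Complex.ofReal_div, eq_div_iff (Complex.ofReal_ne_zero.2 hA.ne')]
    push_cast
    rw [← mul_assoc]
    push_cast at hd
    exact hd
  rw [hr, Complex.ofReal_re]
  exact hrpos
end Cfsg.Agent.S2421
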