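import Cfsg.Statements.S2426
import Cfsg.Agent.Lib.Known.SL2Presentation

set_option autoImplicit false
open Cfsg

namespace Cfsg.Agent.S2426

/-- The rank-one Steinberg presentation of `SL₂` over a finite field `K`: generators `x(t)`, `y(t)` (`t ∈ K`; the two opposite root subgroups) subject to additivity `x(t)x(u) = x(t+u)`, `y(t)y(u) = y(t+u)` and, with `w(t) = x(t) y(−t⁻¹) x(t)` and `w'(t) = y(t) x(−t⁻¹) y(t)` for `t ≠ 0`, the relations `w(t) x(u) w(t)⁻¹ = y(−t⁻² u)` and `w'(t) y(u) w'(t)⁻¹ = x(−t⁻² u)`, present `SL₂(K)`, with `x(t) ↦ (1 t; 0 1)` and `y(t) ↦ (1 0; t 1)`. -/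
theorem result {K : Type*} [Field K] [Finite K] :
    ∃ e : PresentedGroup
        ({g : FreeGroup (Bool × K) | ∃ (b : Bool) (t u : K), g = FreeGroup.of (b, t) * FreeGroup.of (b, u) * (FreeGroup.of (b, t + u))⁻¹} ∪
          {g | ∃ (b : Bool) (t u : K), t ≠ 0 ∧
            g = (FreeGroup.of (b, t) * FreeGroup.of (!b, -t⁻¹) * FreeGroup.of (b, t)) * FreeGroup.of (b, u) *
                  (FreeGroup.of (b, t) * FreeGroup.of (!b, -t⁻¹) * FreeGroup.of (b, t))⁻¹ * (FreeGroup.of (!b, -(t⁻¹ ^ 2 * u)))⁻¹})
        ≃* Matrix.SpecialLinearGroup (Fin 2) K,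
      (∀ t : K, ((e (PresentedGroup.of (true, t)) : Matrix (Fin 2) (Fin 2) K)) = !![1, t; 0, 1]) ∧
      (∀ t : K, ((e (PresentedGroup.of (false, t)) : Matrix (Fin 2) (Fin 2) K)) = !![1, 0; t, 1]) := by
  classical
  let gens : Bool × K → Matrix.SpecialLinearGroup (Fin 2) K := fun p =>
    if p.1 then CfsgLib.Known.SLPresentation.upper p.2 else CfsgLib.Known.SLPresentation.lower p.2
  let rels : Set (FreeGroup (Bool × K)) := ({g : FreeGroup (Bool × K) | ∃ (b : Bool) (t u : K), g = FreeGroup.of (b, t) * FreeGroup.of (b, u) * (FreeGroup.of (b, t + u))⁻¹} ∪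
          {g | ∃ (b : Bool) (t u : K), t ≠ 0 ∧
            g = (FreeGroup.of (b, t) * FreeGroup.of (!b, -t⁻¹) * FreeGroup.of (b, t)) * FreeGroup.of (b, u) *
                  (FreeGroup.of (b, t) * FreeGroup.of (!b, -t⁻¹) * FreeGroup.of (b, t))⁻¹ * (FreeGroup.of (!b, -(t⁻¹ ^ 2 * u)))⁻¹})
  have hrels : ∀ g ∈ rels,
      FreeGroup.lift gens g = 1 := by
    rintro g (⟨b, t, u, rfl⟩ | ⟨b, t, u, ht, rfl⟩)
    · simp only [map_mul, map_inv, FreeGroup.lift_apply_of, mul_inv_eq_one]
      refine Subtype.ext ?_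
      cases b <;> simp [gens, CfsgLib.Known.SLPresentation.coe_upper, CfsgLib.Known.SLPresentation.coe_lower,
        Matrix.mul_fin_two, add_comm]
    · simp only [map_mul, map_inv, FreeGroup.lift_apply_of, mul_inv_eq_one]
      rw [mul_inv_eq_iff_eq_mul]
      refine Subtype.ext ?_
      cases b <;> simp [gens, CfsgLib.Known.SLPresentation.coe_upper, CfsgLib.Known.SLPresentation.coe_lower,
        Matrix.mul_fin_two, ht] <;> field_simp
  let f := PresentedGroup.toGroup hrels
  have hf : ∀ p, f (PresentedGroup.of p) = gens p := fun p => PresentedGroup.toGroup.of hrels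
  let R : CfsgLib.Known.SLPresentation.Rel1 K (PresentedGroup rels) :=
    { x := fun t => PresentedGroup.of (true, t)
      y := fun t => PresentedGroup.of (false, t)
      f := f
      x_add := fun t u => by
        have h := PresentedGroup.one_of_mem (rels := rels) (Or.inl ⟨true, t, u, rfl⟩)
        simp only [map_mul, map_inv, mul_inv_eq_one] at h
        exact h
      y_add := fun t u => by
        have h := PresentedGroup.one_of_mem (rels := rels) (Or.inl ⟨false, t, u, rfl⟩)
        simp only [map_mul, map_inv, mul_inv_eq_one] at h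
        exact h
      x_conj := fun t u ht => by
        have h := PresentedGroup.one_of_mem (rels := rels) (Or.inr ⟨true, t, u, ht, rfl⟩)
        simp only [map_mul, map_inv, mul_inv_eq_one] at h
        exact h
      y_conj := fun t u ht => by
        have h := PresentedGroup.one_of_mem (rels := rels) (Or.inr ⟨false, t, u, ht, rfl⟩)
        simp only [map_mul, map_inv, mul_inv_eq_one] at h
        exact h
      fx := fun t => by simp [hf, gens]
      fy := fun t => by simp [hf, gens]
      gen := by
        refine top_le_iff.1 ?_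
        rw [← PresentedGroup.closure_range_of _, Subgroup.closure_le]
        rintro _ ⟨⟨b, t⟩, rfl⟩
        refine Subgroup.subset_closure ?_
        cases b
        · exact Or.inr ⟨t, rfl⟩
        · exact Or.inl ⟨t, rfl⟩ }
  exact ⟨MulEquiv.ofBijective R.f ⟨R.injective, R.surjective⟩,
    fun t => congrArg Subtype.val (R.fx t), fun t => congrArg Subtype.val (R.fy t)⟩

end Cfsg.Agent.S2426
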