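import Cfsg.Statements.S2427
import Cfsg.Agent.Lib.Classical.SLTwoThree

set_option autoImplicit false
open Cfsg

namespace Cfsg.Agent.S2427

/-- The group SL₂ over the field with 3 elements has order 24 and centre of order 2; its commutator subgroup has order 8, is isomorphic to the quaternion group of order 8 and is complemented by every Sylow 3-subgroup (so the group is a semidirect product of a quaternion group of order 8 by a cyclic group of order 3); and its only normal subgroups besides the trivial subgroup and the whole group are the centre and the commutator subgroup. -/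
theorem result :
    Nat.card (Matrix.SpecialLinearGroup (Fin 2) (ZMod 3)) = 24 ∧
    Nat.card (Subgroup.center (Matrix.SpecialLinearGroup (Fin 2) (ZMod 3))) = 2 ∧
    Nat.card (commutator (Matrix.SpecialLinearGroup (Fin 2) (ZMod 3))) = 8 ∧
    Nonempty (commutator (Matrix.SpecialLinearGroup (Fin 2) (ZMod 3)) ≃* QuaternionGroup 2) ∧
    (∀ P : Sylow 3 (Matrix.SpecialLinearGroup (Fin 2) (ZMod 3)),
      Subgroup.IsComplement' (commutator (Matrix.SpecialLinearGroup (Fin 2) (ZMod 3)))
        (P : Subgroup (Matrix.SpecialLinearGroup (Fin 2) (ZMod 3)))) ∧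
    ∀ N : Subgroup (Matrix.SpecialLinearGroup (Fin 2) (ZMod 3)), N.Normal →
      N = ⊥ ∨ N = ⊤ ∨ N = Subgroup.center (Matrix.SpecialLinearGroup (Fin 2) (ZMod 3)) ∨
        N = commutator (Matrix.SpecialLinearGroup (Fin 2) (ZMod 3)) := by
  classical
  let G := Matrix.SpecialLinearGroup (Fin 2) (ZMod 3)
  have hG : Nat.card G = 24 := by
    rw [Nat.card_eq_fintype_card]; decide +kernel
  set Q : Subgroup G := CfsgLib.Classical.Two.quatHom.range with hQdef
  have hQn : Q.Normal := CfsgLib.Classical.Two.quatHom_range_normal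
  have hQc : Nat.card Q = 8 := by
    rw [hQdef, ← Nat.card_congr (MonoidHom.ofInjective
      CfsgLib.Classical.Two.quatHom_injective).toEquiv, Nat.card_eq_fintype_card,
      QuaternionGroup.card]
  have hQmem : ∀ g : G, g ^ 4 = 1 → g ∈ Q := fun g hg => by
    obtain ⟨x, hx⟩ := CfsgLib.Classical.Two.exists_quat_of_pow_four g hg
    exact ⟨x, hx⟩
  have hQpow : ∀ g ∈ Q, g ^ 4 = 1 := by
    rintro g ⟨x, rfl⟩
    revert x; decide +kernel
  have hQi : Q.index = 3 := by
    have := Q.card_mul_index
    rw [hQc, hG] at this; omega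
  have hQcom : commutator G = Q := by
    refine le_antisymm ?_ ?_
    · have hp : Nat.card (G ⧸ Q) = 3 := hQi
      haveI : Fact (Nat.Prime 3) := ⟨Nat.prime_three⟩
      haveI := isCyclic_of_prime_card hp
      exact Subgroup.Normal.quotient_commutative_iff_commutator_le.mp IsCyclic.isMulCommutative
    · rintro g ⟨x, rfl⟩
      have h : ∀ x : QuaternionGroup 2, ∃ a b : G,
          CfsgLib.Classical.Two.quatHom x = a * b * a⁻¹ * b⁻¹ := by decide +kernel
      obtain ⟨a, b, hab⟩ := h x
      rw [hab]
      exact Subgroup.commutator_mem_commutator (Subgroup.mem_top a) (Subgroup.mem_top b)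
  have hZ : Nat.card (Subgroup.center G) = 2 := by
    rw [Nat.card_congr (Equiv.subtypeEquivRight (q := fun g : G => ∀ h : G, h * g = g * h)
      fun g => Subgroup.mem_center_iff), Nat.card_eq_fintype_card]
    decide +kernel
  refine ⟨hG, hZ, hQcom ▸ hQc, ?_, ?_, ?_⟩
  · rw [hQcom]
    exact ⟨(MonoidHom.ofInjective CfsgLib.Classical.Two.quatHom_injective).symm⟩
  · intro P
    haveI : Fact (Nat.Prime 3) := ⟨Nat.prime_three⟩
    have hP : Nat.card (P : Subgroup G) = 3 := by
      rw [P.card_eq_multiplicity, hG, show (24 : ℕ) = 3 ^ 1 * 8 from rfl,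
        Nat.factorization_mul (by norm_num) (by norm_num)]
      simp [Nat.Prime.factorization Nat.prime_three,
        Nat.factorization_eq_zero_of_not_dvd (show ¬ (3 ∣ 8) by norm_num)]
    rw [hQcom]
    refine Subgroup.isComplement'_of_coprime (by rw [hQc, hP, hG]) ?_
    rw [hQc, hP]
    norm_num
  intro N hN
  rw [hQcom]
  by_cases h4 : ∃ g ∈ N, g ^ 2 ≠ 1
  · obtain ⟨g, hg, hg2⟩ := h4
    have hQN : Q ≤ N := by
      intro h hh
      have h4h := hQpow h hh
      by_cases hg4 : g ^ 4 = 1
      · have key : ∀ g h : G, g ^ 4 = 1 → g ^ 2 ≠ 1 → h ^ 4 = 1 →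
            h = 1 ∨ ∃ a : G, h = a * g * a⁻¹ ∨ h = (a * g * a⁻¹) ^ 2 := by decide +kernel
        rcases key g h hg4 hg2 h4h with rfl | ⟨a, rfl | rfl⟩
        exacts [one_mem N, hN.conj_mem g hg a, pow_mem (hN.conj_mem g hg a) 2]
      · have key : ∀ g h : G, g ^ 4 ≠ 1 → h ^ 4 = 1 →
            ∃ a b : G, h = (g * (a * g⁻¹ * a⁻¹)) * (g * (b * g⁻¹ * b⁻¹)) := by decide +kernel
        obtain ⟨a, b, rfl⟩ := key g h hg4 h4h
        exact mul_mem (mul_mem hg (hN.conj_mem _ (inv_mem hg) a))
          (mul_mem hg (hN.conj_mem _ (inv_mem hg) b))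
    by_cases hg' : g ∈ Q
    · by_cases hle : N ≤ Q
      · exact Or.inr (Or.inr (Or.inr (le_antisymm hle hQN)))
      · refine Or.inr (Or.inl ?_)
        have hd := Subgroup.relIndex_mul_index hQN
        rw [hQi] at hd
        have h1 : Q.relIndex N ≠ 1 := fun e => hle (Subgroup.relIndex_eq_one.mp e)
        refine Subgroup.index_eq_one.mp ?_
        rcases (Nat.dvd_prime Nat.prime_three).mp (Dvd.intro_left _ hd) with e | e
        · exact e
        · rw [e] at hd; omega
    · refine Or.inr (Or.inl ?_)
      have hd := Subgroup.relIndex_mul_index hQN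
      rw [hQi] at hd
      have h1 : Q.relIndex N ≠ 1 := fun e => hg' (Subgroup.relIndex_eq_one.mp e hg)
      refine Subgroup.index_eq_one.mp ?_
      rcases (Nat.dvd_prime Nat.prime_three).mp (Dvd.intro_left _ hd) with e | e
      · exact e
      · rw [e] at hd; omega
  · push Not at h4
    have hc : ∀ g h : G, g ^ 2 = 1 → h * g = g * h := by decide +kernel
    have hle : N ≤ Subgroup.center G :=
      fun g hg => Subgroup.mem_center_iff.mpr fun h => hc g h (h4 g hg)
    have hd := Subgroup.card_dvd_of_le hle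
    rw [hZ] at hd
    rcases (Nat.dvd_prime Nat.prime_two).mp hd with e | e
    · exact Or.inl (Subgroup.eq_bot_of_card_eq N e)
    · exact Or.inr (Or.inr (Or.inl (Subgroup.eq_of_le_of_card_ge hle (by rw [hZ, e]))))

end Cfsg.Agent.S2427
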