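import Cfsg.Statements.S2428
import Cfsg.Agent.Lib.Known.SL2Char.Normalizers

set_option autoImplicit false
open Cfsg

namespace Cfsg.Agent.S2428

/-- Let F be a finite field with q elements, q odd, and let d be a diagonal element of SL₂ over F whose diagonal entry a has a² ≠ 1 (such d exist exactly when q > 3). Then the centraliser of d is precisely the diagonal subgroup T; the normaliser of T has order 2(q − 1) and exactly (q + 5)/2 conjugacy classes; and every element of that normaliser outside T has square equal to −1. -/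
theorem result {F : Type*} [Field F] [Fintype F] (hodd : Odd (Fintype.card F))
    (d : Matrix.SpecialLinearGroup (Fin 2) F) (hd01 : (d : Matrix (Fin 2) (Fin 2) F) 0 1 = 0) (hd10 : (d : Matrix (Fin 2) (Fin 2) F) 1 0 = 0) (hda : (d : Matrix (Fin 2) (Fin 2) F) 0 0 ^ 2 ≠ 1) :
    (∀ g : Matrix.SpecialLinearGroup (Fin 2) F, g ∈ Subgroup.centralizer ({d} : Set (Matrix.SpecialLinearGroup (Fin 2) F)) ↔ ((g : Matrix (Fin 2) (Fin 2) F) 0 1 = 0 ∧ (g : Matrix (Fin 2) (Fin 2) F) 1 0 = 0)) ∧
    Nat.card (Subgroup.normalizer ((Subgroup.centralizer ({d} : Set (Matrix.SpecialLinearGroup (Fin 2) F))) : Set (Matrix.SpecialLinearGroup (Fin 2) F))) = 2 * (Fintype.card F - 1) ∧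
    Nat.card (ConjClasses (Subgroup.normalizer ((Subgroup.centralizer ({d} : Set (Matrix.SpecialLinearGroup (Fin 2) F))) : Set (Matrix.SpecialLinearGroup (Fin 2) F)))) = (Fintype.card F + 5) / 2 ∧
    ∀ g : Matrix.SpecialLinearGroup (Fin 2) F, g ∈ Subgroup.normalizer ((Subgroup.centralizer ({d} : Set (Matrix.SpecialLinearGroup (Fin 2) F))) : Set (Matrix.SpecialLinearGroup (Fin 2) F)) →
      g ∉ Subgroup.centralizer ({d} : Set (Matrix.SpecialLinearGroup (Fin 2) F)) → ((g * g) : Matrix (Fin 2) (Fin 2) F) = -1 := by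
  classical
  have h2 : (2 : F) ≠ 0 := Ring.two_ne_zero fun h => by
    have := FiniteField.even_card_iff_char_two.1 h
    rw [Nat.odd_iff] at hodd
    omega
  have hns := CfsgLib.SL2Char.nonScalar_diag hd01 hd10 hda
  have hd := CfsgLib.SL2Char.tr_sq_ne_diag hd01 hd10 hda
  have hw := CfsgLib.SL2Char.weylS_conj_diag hd01 hd10
  have hT := CfsgLib.SL2Char.card_centralizer_diag hd01 hd10 hda
  rw [Nat.card_eq_fintype_card (α := F)] at hT
  refine ⟨CfsgLib.SL2Char.mem_centralizer_diag hd01 hd10 hda, ?_, ?_, fun g hg hgT => ?_⟩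
  · rw [CfsgLib.SL2Char.card_normalizer h2 hns hd hw, hT]
  · have hc := CfsgLib.SL2Char.card_conjClasses_normalizer h2 hns hd hw
    rw [hT] at hc
    have : 0 < Fintype.card F := Fintype.card_pos
    rw [← Nat.mul_div_cancel_left (Nat.card _) (show 0 < 2 by norm_num), hc]
    congr 1
    omega
  · rw [← Matrix.SpecialLinearGroup.coe_mul, CfsgLib.SL2Char.sq_eq_neg_one h2 hns hd hg hgT]
    simp

end Cfsg.Agent.S2428
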