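import Cfsg.Statements.S2429
import Cfsg.Agent.Lib.Known.SL2Char.Normalizers

set_option autoImplicit false
open Cfsg

namespace Cfsg.Agent.S2429

/-- Let F be a finite field with q elements, q odd. Then SL₂ over F contains a cyclic subgroup T′ of order q + 1 (a non-split torus) with the following properties: T′ is its own centraliser, and indeed the centraliser of each element of T′ other than 1 and −1 is exactly T′; every element of SL₂ having no eigenvector in F² is conjugate to an element of T′; the normaliser of T′ has order 2(q + 1) and exactly (q + 7)/2 conjugacy classes; and every element of that normaliser outside T′ has square −1. -/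
theorem result {F : Type*} [Field F] [Fintype F] (hodd : Odd (Fintype.card F)) :
    ∃ T' : Subgroup (Matrix.SpecialLinearGroup (Fin 2) F), IsCyclic T' ∧ Nat.card T' = Fintype.card F + 1 ∧
      Subgroup.centralizer ((T' : Set (Matrix.SpecialLinearGroup (Fin 2) F))) = T' ∧
      (∀ g : Matrix.SpecialLinearGroup (Fin 2) F, g ∈ T' → (g : Matrix (Fin 2) (Fin 2) F) ≠ 1 → (g : Matrix (Fin 2) (Fin 2) F) ≠ -1 → Subgroup.centralizer ({g} : Set (Matrix.SpecialLinearGroup (Fin 2) F)) = T') ∧
      (∀ g : Matrix.SpecialLinearGroup (Fin 2) F, (∀ (c : F) (v : Fin 2 → F), v ≠ 0 → (g : Matrix (Fin 2) (Fin 2) F).mulVec v ≠ c • v) → ∃ h : Matrix.SpecialLinearGroup (Fin 2) F, h * g * h⁻¹ ∈ T') ∧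
      Nat.card (Subgroup.normalizer (T' : Set (Matrix.SpecialLinearGroup (Fin 2) F))) = 2 * (Fintype.card F + 1) ∧
      Nat.card (ConjClasses (Subgroup.normalizer (T' : Set (Matrix.SpecialLinearGroup (Fin 2) F)))) = (Fintype.card F + 7) / 2 ∧
      ∀ g : Matrix.SpecialLinearGroup (Fin 2) F, g ∈ Subgroup.normalizer (T' : Set (Matrix.SpecialLinearGroup (Fin 2) F)) → g ∉ T' → ((g * g) : Matrix (Fin 2) (Fin 2) F) = -1 := by
  classical
  have h2 : (2 : F) ≠ 0 := Ring.two_ne_zero fun h => by
    have := FiniteField.even_card_iff_char_two.1 h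
    rw [Nat.odd_iff] at hodd
    omega
  obtain ⟨x, hx⟩ := CfsgLib.SL2Char.exists_elliptic_SL (F := F)
  have hns := CfsgLib.SL2Char.nonScalar_of_elliptic hx
  have hd := CfsgLib.SL2Char.tr_sq_ne_of_elliptic hx
  obtain ⟨w, hw⟩ := CfsgLib.SL2Char.exists_inverter hx
  have hT := CfsgLib.SL2Char.card_centralizer_SL hx
  refine ⟨Subgroup.centralizer {x}, CfsgLib.Classical.Two.isCyclic_centralizer hns hd, hT,
    CfsgLib.SL2Char.centralizer_self hns, fun g hg h1 hn => ?_,
    fun g hg => CfsgLib.SL2Char.exists_conj_mem hx hg, ?_, ?_, fun g hg hgT => ?_⟩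
  · refine CfsgLib.SL2Char.centralizer_eq_of_commute hns (CfsgLib.SL2Char.nonScalar_of_ne
      (fun e => h1 (by rw [e]; simp)) (fun e => hn (by rw [e]; simp))) ?_
    exact (Subgroup.mem_centralizer_singleton_iff.1 hg).symm
  · rw [CfsgLib.SL2Char.card_normalizer h2 hns hd hw, hT]
  · have hc := CfsgLib.SL2Char.card_conjClasses_normalizer h2 hns hd hw
    rw [hT] at hc
    rw [← Nat.mul_div_cancel_left (Nat.card _) (show 0 < 2 by norm_num), hc]
  · rw [← Matrix.SpecialLinearGroup.coe_mul, CfsgLib.SL2Char.sq_eq_neg_one h2 hns hd hg hgT]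
    simp

end Cfsg.Agent.S2429
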