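import Cfsg.Statements.S2434
import Cfsg.Agent.Lib.Known.SL2Char.Values
import Cfsg.Agent.Lib.Known.SL2Char.TableGL

set_option autoImplicit false
open Cfsg

namespace Cfsg.Agent.S2434

/-- Let F be a finite field with q elements, q odd, and C a cyclic subgroup of order q + 1 of SL₂ over F (a non-split torus; it contains the centre). For every homomorphism θ from C to the non-zero complex numbers with θ² ≠ 1 there is an irreducible complex character χ of degree q − 1 such that χ(c) = −θ(c) − θ(c)⁻¹ for every non-central c in C, χ(zg) = θ(z)χ(g) for central z in C, χ vanishes at diagonal elements with entry a, a² ≠ 1, and χ takes the value −1 at every upper unitriangular element other than 1. Conversely every irreducible character of degree q − 1 has, for some such θ, the values −θ(c) − θ(c)⁻¹ at the non-central elements c of C (for q ≥ 5 these are exactly the cuspidal characters of degree q − 1). -/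
theorem result {F : Type*} [Field F] [Fintype F] (hodd : Odd (Fintype.card F))
    (C : Subgroup (Matrix.SpecialLinearGroup (Fin 2) F)) (hC : IsCyclic C) (hcard : Nat.card C = Fintype.card F + 1) :
    (∀ θ : C →* ℂˣ, (∃ c : C, θ c ^ 2 ≠ 1) →
      ∃ χ : Matrix.SpecialLinearGroup (Fin 2) F → ℂ, Cfsg.IsIrrCharacter (Matrix.SpecialLinearGroup (Fin 2) F) χ ∧ χ 1 = (Fintype.card F : ℂ) - 1 ∧
        (∀ c : C, (c : Matrix.SpecialLinearGroup (Fin 2) F) ∉ Subgroup.center (Matrix.SpecialLinearGroup (Fin 2) F) → χ c = -((θ c).val + (θ c)⁻¹.val)) ∧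
        (∀ c : C, (c : Matrix.SpecialLinearGroup (Fin 2) F) ∈ Subgroup.center (Matrix.SpecialLinearGroup (Fin 2) F) → ∀ g : Matrix.SpecialLinearGroup (Fin 2) F, χ ((c : Matrix.SpecialLinearGroup (Fin 2) F) * g) = (θ c).val * χ g) ∧
        (∀ g : Matrix.SpecialLinearGroup (Fin 2) F, (g : Matrix (Fin 2) (Fin 2) F) 0 1 = 0 → (g : Matrix (Fin 2) (Fin 2) F) 1 0 = 0 → (g : Matrix (Fin 2) (Fin 2) F) 0 0 ^ 2 ≠ 1 → χ g = 0) ∧
        (∀ g : Matrix.SpecialLinearGroup (Fin 2) F, (g : Matrix (Fin 2) (Fin 2) F) 1 0 = 0 → (g : Matrix (Fin 2) (Fin 2) F) 0 0 = 1 → (g : Matrix (Fin 2) (Fin 2) F) 1 1 = 1 → (g : Matrix (Fin 2) (Fin 2) F) 0 1 ≠ 0 → χ g = -1)) ∧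
    (∀ χ : Matrix.SpecialLinearGroup (Fin 2) F → ℂ, Cfsg.IsIrrCharacter (Matrix.SpecialLinearGroup (Fin 2) F) χ → χ 1 = (Fintype.card F : ℂ) - 1 →
      ∃ θ : C →* ℂˣ, (∃ c : C, θ c ^ 2 ≠ 1) ∧
        ∀ c : C, (c : Matrix.SpecialLinearGroup (Fin 2) F) ∉ Subgroup.center (Matrix.SpecialLinearGroup (Fin 2) F) → χ c = -((θ c).val + (θ c)⁻¹.val)) := by
  classical
  have := Fintype.ofFinite (Matrix.SpecialLinearGroup (Fin 2) F)
  obtain ⟨γ, hγ⟩ := IsCyclic.exists_generator (α := C)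
  have hord : orderOf (γ : Matrix.SpecialLinearGroup (Fin 2) F) = Fintype.card F + 1 := by
    rw [Subgroup.orderOf_coe, orderOf_eq_card_of_forall_mem_zpowers hγ, hcard]
  have hell := CfsgLib.SL2Char.elliptic_of_orderOf hord
  obtain ⟨g₀, hg₀, hCT⟩ : ∃ g₀ : Matrix.GeneralLinearGroup (Fin 2) F,
      CfsgLib.SL2Char.Elliptic (g₀ : Matrix (Fin 2) (Fin 2) F) ∧
      C = CfsgLib.SL2Char.torus (Matrix.SpecialLinearGroup.toGL :
          Matrix.SpecialLinearGroup (Fin 2) F →* Matrix.GeneralLinearGroup (Fin 2) F) g₀ := by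
    refine ⟨Matrix.SpecialLinearGroup.toGL (γ : Matrix.SpecialLinearGroup (Fin 2) F), hell, ?_⟩
    refine Subgroup.eq_of_le_of_card_ge (fun x hx => ?_) ?_
    · let _ : CommGroup C := IsCyclic.commGroup
      refine Subgroup.mem_centralizer_singleton_iff.2 ?_
      rw [← map_mul, ← map_mul]
      exact congrArg _ (congrArg Subtype.val (mul_comm (⟨x, hx⟩ : C) γ))
    · rw [hcard, CfsgLib.SL2Char.card_torusSL hell]
  subst hCT
  have := Fintype.ofFinite (CfsgLib.SL2Char.Orbits (⊥ : Subgroup Fˣ))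
  have := Fintype.ofFinite (Matrix.GeneralLinearGroup (Fin 2) F)
  obtain ⟨ψ, hψ⟩ := CfsgLib.SL2Char.exists_addChar (F := F)
  have hq2 : 1 < Fintype.card F := Fintype.one_lt_card
  obtain ⟨θ₀, a, b, c, d, P, Cs, hθ1, hθ0, hab, hcd, hA, hB, ha, hb, hc, hd, sab, scd, hsw, iP, iC, vP, vC,
    cP, cC, ctot, hall⟩ := CfsgLib.SL2Char.tableSLOdd hg₀ hψ hodd
  obtain ⟨m, hm⟩ := id hodd
  have e6 : (Fintype.card F + 1) / 2 = m + 1 ∧ (Fintype.card F - 1) / 2 = m := ⟨by omega, by omega⟩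
  have dA : ∀ {X σ} {f : Matrix.SpecialLinearGroup (Fin 2) F → ℂ},
      CfsgLib.SL2Char.Half ψ 1 σ X f → f 1 = ((m + 1 : ℕ) : ℂ) := fun h => by
    have e := h.deg
    rw [hm] at e
    push_cast at e ⊢
    linear_combination e / 2
  have dC : ∀ {X σ} {f : Matrix.SpecialLinearGroup (Fin 2) F → ℂ},
      CfsgLib.SL2Char.Half ψ (-1) σ X f → f 1 = ((m : ℕ) : ℂ) := fun h => by
    have e := h.deg
    rw [hm] at e
    push_cast at e ⊢
    linear_combination e / 2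
  have hQ : (Fintype.card F : ℂ) = ((2 * m + 1 : ℕ) : ℂ) := by rw [hm]
  have hQ1 : (Fintype.card F : ℂ) + 1 = ((2 * m + 2 : ℕ) : ℂ) := by rw [hQ]; push_cast; ring
  have hQ2 : (Fintype.card F : ℂ) - 1 = ((2 * m : ℕ) : ℂ) := by rw [hQ]; push_cast; ring
  have h1C : (1 : ℂ) = ((1 : ℕ) : ℂ) := Nat.cast_one.symm
  have hDG : ∀ f, Cfsg.IsIrrCharacter (Matrix.SpecialLinearGroup (Fin 2) F) f →
      (f = 1 ∧ f 1 = ((1 : ℕ) : ℂ)) ∨
      (f = CfsgLib.SL2Char.stSL ∧ f 1 = ((2 * m + 1 : ℕ) : ℂ)) ∨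
      (f ∈ P ∧ f 1 = ((2 * m + 2 : ℕ) : ℂ)) ∨ (f ∈ Cs ∧ f 1 = ((2 * m : ℕ) : ℂ)) ∨
      ((f = a ∨ f = b) ∧ f 1 = ((m + 1 : ℕ) : ℂ)) ∨ ((f = c ∨ f = d) ∧ f 1 = ((m : ℕ) : ℂ)) := by
    intro f hf
    rcases (hall f).1 hf with rfl | rfl | h | h | rfl | rfl | rfl | rfl
    · exact Or.inl ⟨rfl, by simp⟩
    · exact Or.inr (Or.inl ⟨rfl, CfsgLib.SL2Char.stSL_one.trans hQ⟩)
    · exact Or.inr (Or.inr (Or.inl ⟨h, (vP f h).2.trans hQ1⟩))
    · exact Or.inr (Or.inr (Or.inr (Or.inl ⟨h, (vC f h).2.trans hQ2⟩)))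
    · exact Or.inr (Or.inr (Or.inr (Or.inr (Or.inl ⟨Or.inl rfl, dA ha⟩))))
    · exact Or.inr (Or.inr (Or.inr (Or.inr (Or.inl ⟨Or.inr rfl, dA hb⟩))))
    · exact Or.inr (Or.inr (Or.inr (Or.inr (Or.inr ⟨Or.inl rfl, dC hc⟩))))
    · exact Or.inr (Or.inr (Or.inr (Or.inr (Or.inr ⟨Or.inr rfl, dC hd⟩))))
  have key : ∀ (f : Matrix.SpecialLinearGroup (Fin 2) F → ℂ) (n : ℕ),
      Cfsg.IsIrrCharacter (Matrix.SpecialLinearGroup (Fin 2) F) f → f 1 = (n : ℂ) →
      (n = 2 * m + 1 → f = CfsgLib.SL2Char.stSL) ∧ (n = 2 * m + 2 → f ∈ P) ∧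
        (n = 2 * m → f ∈ Cs ∨ (m = 1 ∧ (f = a ∨ f = b))) ∧
        (n = m + 1 → (f = a ∨ f = b) ∨ (m = 1 ∧ f ∈ Cs)) ∧ (n = m → (f = c ∨ f = d) ∨ m = 1) := by
    intro f n hf hn
    have hm1 : 1 ≤ m := by omega
    rcases hDG f hf with ⟨h, e⟩ | ⟨h, e⟩ | ⟨h, e⟩ | ⟨h, e⟩ | ⟨h, e⟩ | ⟨h, e⟩ <;>
      (rw [hn, Nat.cast_inj] at e; subst e;
        refine ⟨fun e => ?_, fun e => ?_, fun e => ?_, fun e => ?_, fun e => ?_⟩ <;>
          first
            | exact h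
            | exact Or.inl h
            | exact Or.inr ⟨by omega, h⟩
            | exact Or.inr (by omega)
            | omega)
  set T := CfsgLib.SL2Char.torus (Matrix.SpecialLinearGroup.toGL :
    Matrix.SpecialLinearGroup (Fin 2) F →* Matrix.GeneralLinearGroup (Fin 2) F) g₀ with hT
  have hinv : ∀ (θ : T →* ℂˣ) (x : T), (θ x : ℂ) ^ Fintype.card F = ((θ x)⁻¹).val := fun θ x => by
    rw [← Units.val_pow_eq_pow_val]
    congr 1
    refine eq_inv_of_mul_eq_one_left ?_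
    rw [← pow_succ, ← map_pow, ← CfsgLib.SL2Char.card_torusSL hg₀, pow_card_eq_one', map_one]
  have hiff : ∀ θ : T →* ℂˣ, θ ≠ θ ^ Fintype.card F ↔ ∃ x : T, θ x ^ 2 ≠ 1 := fun θ => by
    rw [not_iff_comm]
    push Not
    have hp : ∀ x : T, θ x ^ Fintype.card F = (θ x)⁻¹ := fun x => Units.ext (by
      rw [Units.val_pow_eq_pow_val]; exact hinv θ x)
    constructor
    · intro h
      ext x
      rw [MonoidHom.pow_apply, hp]
      congr 1
      exact eq_inv_of_mul_eq_one_left (by rw [← pow_two]; exact h x)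
    · intro h x
      have e : θ x = (θ x)⁻¹ := by
        rw [← hp, ← MonoidHom.pow_apply, ← h]
      rw [pow_two]
      nth_rewrite 2 [e]
      exact mul_inv_cancel _
  refine ⟨fun θ hθ => ?_, fun χ hχ e => ?_⟩
  · have hmem : CfsgLib.SL2Char.cuspSL ψ θ ∈ Cs := (iC _).2 ⟨θ, (hiff θ).2 hθ, rfl⟩
    refine ⟨CfsgLib.SL2Char.cuspSL ψ θ, (vC _ hmem).1, (vC _ hmem).2, fun x hx => ?_, fun z hz g => ?_,
      fun g _ h10 ha' => CfsgLib.SL2Char.cuspSL_diag hg₀ θ h10 (CfsgLib.SL2Char.diag_ne h10 ha'),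
      fun g h10 h00 h11 h01 => ?_⟩
    · rw [CfsgLib.SL2Char.cuspSL_ell hg₀ θ (CfsgLib.SL2Char.elliptic_of_noncentral hg₀ hx), hinv]
    · rcases CfsgLib.SL2Char.emb_SL.torus_cases hg₀ z with ⟨s, rfl⟩ | h
      · have := Fintype.ofFinite (CfsgLib.SL2Char.diags (⊥ : Subgroup Fˣ))
        exact CfsgLib.SL2Char.emb_SL.cusp_mul_scalar hg₀ θ s g
      · exact absurd hz (CfsgLib.SL2Char.not_central_of_elliptic h)
    · rw [show g = CfsgLib.PLocal.SLTwo.U (g.1 0 1) from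
        CfsgLib.PLocal.SLTwo.ext2 h00 rfl h10 h11]
      exact CfsgLib.SL2Char.cuspSL_U hg₀ hψ θ h01
  · rcases (key χ _ hχ (e.trans hQ2)).2.2.1 rfl with h | ⟨hm1, h⟩
    · obtain ⟨θ, hθ, rfl⟩ := (iC χ).1 h
      refine ⟨θ, (hiff θ).1 hθ, fun x hx => ?_⟩
      rw [CfsgLib.SL2Char.cuspSL_ell hg₀ θ (CfsgLib.SL2Char.elliptic_of_noncentral hg₀ hx), hinv]
    · obtain ⟨f, hf⟩ : Cs.Nonempty := Finset.card_pos.1 (by omega)
      obtain ⟨θ, hθ, -⟩ := (iC f).1 hf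
      refine ⟨θ, (hiff θ).1 hθ, fun x hx => ?_⟩
      have he := CfsgLib.SL2Char.elliptic_of_noncentral hg₀ hx
      have h0 : χ (x : Matrix.SpecialLinearGroup (Fin 2) F) = 0 := by
        rcases h with rfl | rfl
        · have ev := ha.ss _ (CfsgLib.SL2Char.tr_sq_ne_of_elliptic he)
          rw [CfsgLib.SL2Char.prSL_elliptic _ he] at ev
          linear_combination ev / 2
        · have ev := hb.ss _ (CfsgLib.SL2Char.tr_sq_ne_of_elliptic he)
          rw [CfsgLib.SL2Char.prSL_elliptic _ he] at ev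
          linear_combination ev / 2
      have h3 : Fintype.card F = 3 := by omega
      rw [h0, ← hinv, h3, pow_succ', CfsgLib.SL2Char.theta_three hg₀ h3 hθ he]
      ring

end Cfsg.Agent.S2434
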