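import Cfsg.Statements.S2435
import Cfsg.Agent.Lib.Known.SL2Char.Values
import Cfsg.Agent.Lib.Known.SL2Char.TableGL

set_option autoImplicit false
open Cfsg

namespace Cfsg.Agent.S2435

/-- Let F be a finite field with q elements, q odd and q ≥ 5, and χ an irreducible complex character of SL₂ over F. If χ has degree (q + 1)/2, then at a diagonal element with entry a, a² ≠ 1, χ takes the value 1 when a is a square in F and −1 otherwise. If χ has degree (q − 1)/2, then at an element g with no eigenvector in F² (so g has order dividing q + 1), χ takes the value −1 when g raised to the power (q + 1)/2 is the identity and the value 1 otherwise. -/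
theorem result {F : Type*} [Field F] [Fintype F] (hodd : Odd (Fintype.card F)) (hq : 5 ≤ Fintype.card F)
    (χ : Matrix.SpecialLinearGroup (Fin 2) F → ℂ) (hχ : Cfsg.IsIrrCharacter (Matrix.SpecialLinearGroup (Fin 2) F) χ) (g : Matrix.SpecialLinearGroup (Fin 2) F) :
    (χ 1 = (((Fintype.card F + 1) / 2 : ℕ) : ℂ) → (g : Matrix (Fin 2) (Fin 2) F) 0 1 = 0 → (g : Matrix (Fin 2) (Fin 2) F) 1 0 = 0 → (g : Matrix (Fin 2) (Fin 2) F) 0 0 ^ 2 ≠ 1 →
      (IsSquare ((g : Matrix (Fin 2) (Fin 2) F) 0 0) → χ g = 1) ∧ (¬ IsSquare ((g : Matrix (Fin 2) (Fin 2) F) 0 0) → χ g = -1)) ∧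
    (χ 1 = (((Fintype.card F - 1) / 2 : ℕ) : ℂ) → (∀ (c : F) (v : Fin 2 → F), v ≠ 0 → (g : Matrix (Fin 2) (Fin 2) F).mulVec v ≠ c • v) →
      (((g ^ ((Fintype.card F + 1) / 2)) : Matrix (Fin 2) (Fin 2) F) = 1 → χ g = -1) ∧ (((g ^ ((Fintype.card F + 1) / 2)) : Matrix (Fin 2) (Fin 2) F) ≠ 1 → χ g = 1)) := by
  classical
  refine ⟨fun hdg h01 h10 ha => ?_, fun hdg hell => ?_⟩
  · have := Fintype.ofFinite (Matrix.SpecialLinearGroup (Fin 2) F)
    have := Fintype.ofFinite (CfsgLib.SL2Char.Orbits (⊥ : Subgroup Fˣ))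
    obtain ⟨g₀, hg₀⟩ := CfsgLib.SL2Char.exists_elliptic (F := F)
    have := Fintype.ofFinite (Matrix.GeneralLinearGroup (Fin 2) F)
    obtain ⟨ψ, hψ⟩ := CfsgLib.SL2Char.exists_addChar (F := F)
    have hq2 : 1 < Fintype.card F := Fintype.one_lt_card
    obtain ⟨θ₀, a, b, c, d, P, C, hθ1, hθ0, hab, hcd, hA, hB, hA₁, hb, hc, hd, sab, scd, hsw, iP, iC, vP, vC,
      cP, cC, ctot, hall⟩ := CfsgLib.SL2Char.tableSLOdd hg₀ hψ hodd
    obtain ⟨m, hm⟩ := id hodd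
    have e6 : (Fintype.card F + 1) / 2 = m + 1 ∧ (Fintype.card F - 1) / 2 = m := ⟨by omega, by omega⟩
    have dA : ∀ {X σ} {f : Matrix.SpecialLinearGroup (Fin 2) F → ℂ},
        CfsgLib.SL2Char.Half ψ 1 σ X f → f 1 = ((m + 1 : ℕ) : ℂ) := fun h => by
      have e := h.deg
      rw [hm] at e
      push_cast at e ⊢
      linear_combination e / 2
    have dC : ∀ {X σ} {f : Matrix.SpecialLinearGroup (Fin 2) F → ℂ},
        CfsgLib.SL2Char.Half ψ (-1) σ X f → f 1 = ((m : ℕ) : ℂ) := fun h => by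
      have e := h.deg
      rw [hm] at e
      push_cast at e ⊢
      linear_combination e / 2
    have hQ : (Fintype.card F : ℂ) = ((2 * m + 1 : ℕ) : ℂ) := by rw [hm]
    have hQ1 : (Fintype.card F : ℂ) + 1 = ((2 * m + 2 : ℕ) : ℂ) := by rw [hQ]; push_cast; ring
    have hQ2 : (Fintype.card F : ℂ) - 1 = ((2 * m : ℕ) : ℂ) := by rw [hQ]; push_cast; ring
    have h1C : (1 : ℂ) = ((1 : ℕ) : ℂ) := Nat.cast_one.symm
    have hDG : ∀ f, Cfsg.IsIrrCharacter (Matrix.SpecialLinearGroup (Fin 2) F) f →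
        (f = 1 ∧ f 1 = ((1 : ℕ) : ℂ)) ∨
        (f = CfsgLib.SL2Char.stSL ∧ f 1 = ((2 * m + 1 : ℕ) : ℂ)) ∨
        (f ∈ P ∧ f 1 = ((2 * m + 2 : ℕ) : ℂ)) ∨ (f ∈ C ∧ f 1 = ((2 * m : ℕ) : ℂ)) ∨
        ((f = a ∨ f = b) ∧ f 1 = ((m + 1 : ℕ) : ℂ)) ∨ ((f = c ∨ f = d) ∧ f 1 = ((m : ℕ) : ℂ)) := by
      intro f hf
      rcases (hall f).1 hf with rfl | rfl | h | h | rfl | rfl | rfl | rfl
      · exact Or.inl ⟨rfl, by simp⟩
      · exact Or.inr (Or.inl ⟨rfl, CfsgLib.SL2Char.stSL_one.trans hQ⟩)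
      · exact Or.inr (Or.inr (Or.inl ⟨h, (vP f h).2.trans hQ1⟩))
      · exact Or.inr (Or.inr (Or.inr (Or.inl ⟨h, (vC f h).2.trans hQ2⟩)))
      · exact Or.inr (Or.inr (Or.inr (Or.inr (Or.inl ⟨Or.inl rfl, dA hA₁⟩))))
      · exact Or.inr (Or.inr (Or.inr (Or.inr (Or.inl ⟨Or.inr rfl, dA hb⟩))))
      · exact Or.inr (Or.inr (Or.inr (Or.inr (Or.inr ⟨Or.inl rfl, dC hc⟩))))
      · exact Or.inr (Or.inr (Or.inr (Or.inr (Or.inr ⟨Or.inr rfl, dC hd⟩))))
    have key : ∀ (f : Matrix.SpecialLinearGroup (Fin 2) F → ℂ) (n : ℕ),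
        Cfsg.IsIrrCharacter (Matrix.SpecialLinearGroup (Fin 2) F) f → f 1 = (n : ℂ) →
        (n = 2 * m + 1 → f = CfsgLib.SL2Char.stSL) ∧ (n = 2 * m + 2 → f ∈ P) ∧
          (n = 2 * m → f ∈ C ∨ (m = 1 ∧ (f = a ∨ f = b))) ∧
          (n = m + 1 → (f = a ∨ f = b) ∨ (m = 1 ∧ f ∈ C)) ∧ (n = m → (f = c ∨ f = d) ∨ m = 1) := by
      intro f n hf hn
      have hm1 : 1 ≤ m := by omega
      rcases hDG f hf with ⟨h, e⟩ | ⟨h, e⟩ | ⟨h, e⟩ | ⟨h, e⟩ | ⟨h, e⟩ | ⟨h, e⟩ <;>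
        (rw [hn, Nat.cast_inj] at e; subst e;
          refine ⟨fun e => ?_, fun e => ?_, fun e => ?_, fun e => ?_, fun e => ?_⟩ <;>
            first
              | exact h
              | exact Or.inl h
              | exact Or.inr ⟨by omega, h⟩
              | exact Or.inr (by omega)
              | omega)
    rw [e6.1] at hdg
    have hdet := CfsgLib.PLocal.SLTwo.det2 g
    rw [h10, mul_zero, sub_zero] at hdet
    have hne := CfsgLib.SL2Char.diag_ne h10 ha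
    have ha0 : g.1 0 0 ≠ 0 := left_ne_zero_of_mul_eq_one hdet
    have hd₂ : CfsgLib.PLocal.SLTwo.tr g ^ 2 ≠ 4 := fun e => hne (sub_eq_zero.1 (mul_self_eq_zero.1 (by
      simp only [CfsgLib.PLocal.SLTwo.tr] at e
      linear_combination e - 4 * hdet)))
    have hv : ∀ {f σ}, CfsgLib.SL2Char.Half ψ 1 σ (CfsgLib.SL2Char.prSL (CfsgLib.SL2Char.qcC F)) f →
        f g = CfsgLib.SL2Char.qcC F (g.1 0 0) := fun h => by
      have e := h.ss g hd₂
      have hs : CfsgLib.SL2Char.qcC F (g.1 1 1) = CfsgLib.SL2Char.qcC F (g.1 0 0) := by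
        rw [eq_inv_of_mul_eq_one_right hdet, CfsgLib.SL2Char.qcC_sq_one _ (inv_ne_zero ha0),
          CfsgLib.SL2Char.qcC_sq_one _ ha0]
        simp only [show IsSquare (g.1 0 0)⁻¹ ↔ IsSquare (g.1 0 0) from
          ⟨fun h => by simpa using h.inv, fun h => h.inv⟩]
      rw [CfsgLib.SL2Char.prSL_upper _ h10, if_neg hne, hs] at e
      linear_combination e / 2
    rcases ((key χ _ hχ hdg).2.2.2.1 rfl).resolve_right (by omega) with rfl | rfl
    · rw [hv hA₁, CfsgLib.SL2Char.qcC_sq_one _ ha0]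
      exact ⟨fun h => if_pos h, fun h => if_neg h⟩
    · rw [hv hb, CfsgLib.SL2Char.qcC_sq_one _ ha0]
      exact ⟨fun h => if_pos h, fun h => if_neg h⟩
  · have := Fintype.ofFinite (Matrix.SpecialLinearGroup (Fin 2) F)
    have := Fintype.ofFinite (CfsgLib.SL2Char.Orbits (⊥ : Subgroup Fˣ))
    obtain ⟨g₀, hg₀, c₀, hc₀⟩ : ∃ g₀ : Matrix.GeneralLinearGroup (Fin 2) F,
        CfsgLib.SL2Char.Elliptic (g₀ : Matrix (Fin 2) (Fin 2) F) ∧
        ∃ c : CfsgLib.SL2Char.torus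
          (Matrix.SpecialLinearGroup.toGL :
            Matrix.SpecialLinearGroup (Fin 2) F →* Matrix.GeneralLinearGroup (Fin 2) F) g₀,
          (c : Matrix.SpecialLinearGroup (Fin 2) F) = g :=
      ⟨Matrix.SpecialLinearGroup.toGL g, hell, ⟨g, Subgroup.mem_centralizer_singleton_iff.2 rfl⟩, rfl⟩
    have := Fintype.ofFinite (Matrix.GeneralLinearGroup (Fin 2) F)
    obtain ⟨ψ, hψ⟩ := CfsgLib.SL2Char.exists_addChar (F := F)
    have hq2 : 1 < Fintype.card F := Fintype.one_lt_card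
    obtain ⟨θ₀, a, b, c, d, P, C, hθ1, hθ0, hab, hcd, hA, hB, ha, hb, hc, hd, sab, scd, hsw, iP, iC, vP, vC,
      cP, cC, ctot, hall⟩ := CfsgLib.SL2Char.tableSLOdd hg₀ hψ hodd
    obtain ⟨m, hm⟩ := id hodd
    have e6 : (Fintype.card F + 1) / 2 = m + 1 ∧ (Fintype.card F - 1) / 2 = m := ⟨by omega, by omega⟩
    have dA : ∀ {X σ} {f : Matrix.SpecialLinearGroup (Fin 2) F → ℂ},
        CfsgLib.SL2Char.Half ψ 1 σ X f → f 1 = ((m + 1 : ℕ) : ℂ) := fun h => by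
      have e := h.deg
      rw [hm] at e
      push_cast at e ⊢
      linear_combination e / 2
    have dC : ∀ {X σ} {f : Matrix.SpecialLinearGroup (Fin 2) F → ℂ},
        CfsgLib.SL2Char.Half ψ (-1) σ X f → f 1 = ((m : ℕ) : ℂ) := fun h => by
      have e := h.deg
      rw [hm] at e
      push_cast at e ⊢
      linear_combination e / 2
    have hQ : (Fintype.card F : ℂ) = ((2 * m + 1 : ℕ) : ℂ) := by rw [hm]
    have hQ1 : (Fintype.card F : ℂ) + 1 = ((2 * m + 2 : ℕ) : ℂ) := by rw [hQ]; push_cast; ring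
    have hQ2 : (Fintype.card F : ℂ) - 1 = ((2 * m : ℕ) : ℂ) := by rw [hQ]; push_cast; ring
    have h1C : (1 : ℂ) = ((1 : ℕ) : ℂ) := Nat.cast_one.symm
    have hDG : ∀ f, Cfsg.IsIrrCharacter (Matrix.SpecialLinearGroup (Fin 2) F) f →
        (f = 1 ∧ f 1 = ((1 : ℕ) : ℂ)) ∨
        (f = CfsgLib.SL2Char.stSL ∧ f 1 = ((2 * m + 1 : ℕ) : ℂ)) ∨
        (f ∈ P ∧ f 1 = ((2 * m + 2 : ℕ) : ℂ)) ∨ (f ∈ C ∧ f 1 = ((2 * m : ℕ) : ℂ)) ∨
        ((f = a ∨ f = b) ∧ f 1 = ((m + 1 : ℕ) : ℂ)) ∨ ((f = c ∨ f = d) ∧ f 1 = ((m : ℕ) : ℂ)) := by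
      intro f hf
      rcases (hall f).1 hf with rfl | rfl | h | h | rfl | rfl | rfl | rfl
      · exact Or.inl ⟨rfl, by simp⟩
      · exact Or.inr (Or.inl ⟨rfl, CfsgLib.SL2Char.stSL_one.trans hQ⟩)
      · exact Or.inr (Or.inr (Or.inl ⟨h, (vP f h).2.trans hQ1⟩))
      · exact Or.inr (Or.inr (Or.inr (Or.inl ⟨h, (vC f h).2.trans hQ2⟩)))
      · exact Or.inr (Or.inr (Or.inr (Or.inr (Or.inl ⟨Or.inl rfl, dA ha⟩))))
      · exact Or.inr (Or.inr (Or.inr (Or.inr (Or.inl ⟨Or.inr rfl, dA hb⟩))))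
      · exact Or.inr (Or.inr (Or.inr (Or.inr (Or.inr ⟨Or.inl rfl, dC hc⟩))))
      · exact Or.inr (Or.inr (Or.inr (Or.inr (Or.inr ⟨Or.inr rfl, dC hd⟩))))
    have key : ∀ (f : Matrix.SpecialLinearGroup (Fin 2) F → ℂ) (n : ℕ),
        Cfsg.IsIrrCharacter (Matrix.SpecialLinearGroup (Fin 2) F) f → f 1 = (n : ℂ) →
        (n = 2 * m + 1 → f = CfsgLib.SL2Char.stSL) ∧ (n = 2 * m + 2 → f ∈ P) ∧
          (n = 2 * m → f ∈ C ∨ (m = 1 ∧ (f = a ∨ f = b))) ∧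
          (n = m + 1 → (f = a ∨ f = b) ∨ (m = 1 ∧ f ∈ C)) ∧ (n = m → (f = c ∨ f = d) ∨ m = 1) := by
      intro f n hf hn
      have hm1 : 1 ≤ m := by omega
      rcases hDG f hf with ⟨h, e⟩ | ⟨h, e⟩ | ⟨h, e⟩ | ⟨h, e⟩ | ⟨h, e⟩ | ⟨h, e⟩ <;>
        (rw [hn, Nat.cast_inj] at e; subst e;
          refine ⟨fun e => ?_, fun e => ?_, fun e => ?_, fun e => ?_, fun e => ?_⟩ <;>
            first
              | exact h
              | exact Or.inl h
              | exact Or.inr ⟨by omega, h⟩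
              | exact Or.inr (by omega)
              | omega)
    rw [e6.2] at hdg
    rw [e6.1]
    have hc' : CfsgLib.SL2Char.Elliptic (c₀ : Matrix.SpecialLinearGroup (Fin 2) F).1 := by
      rw [hc₀]; exact hell
    have hv : ∀ {f σ}, CfsgLib.SL2Char.Half ψ (-1) σ (CfsgLib.SL2Char.cuspSL ψ θ₀) f →
        f g = -(θ₀ c₀ : ℂ) := fun h => by
      have e := h.ss g (CfsgLib.SL2Char.tr_sq_ne_of_elliptic hell)
      have ev := CfsgLib.SL2Char.cuspSL_ell hg₀ (ψ := ψ) θ₀ hc'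
      rw [hc₀, ← Units.val_pow_eq_pow_val, ← MonoidHom.pow_apply, ← hθ0] at ev
      rw [ev] at e
      linear_combination e / 2
    have := CfsgLib.SL2Char.isCyclic_torusSL hg₀
    obtain ⟨t1, t2⟩ := CfsgLib.SL2Char.quad_hom_iff (CfsgLib.SL2Char.quad_theta hg₀ hθ0) hθ1
      (n := m + 1) (by rw [CfsgLib.SL2Char.card_torusSL hg₀]; omega) c₀
    have hpow : c₀ ^ (m + 1) = 1 ↔ ((g ^ (m + 1) : Matrix.SpecialLinearGroup (Fin 2) F) :
        Matrix (Fin 2) (Fin 2) F) = 1 := by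
      rw [← hc₀, ← Subgroup.coe_pow]
      exact ⟨fun h => by rw [h]; rfl, fun h => Subtype.ext (Subtype.ext h)⟩
    rcases ((key χ _ hχ hdg).2.2.2.2 rfl).resolve_right (by omega) with rfl | rfl
    · rw [hv hc]
      exact ⟨fun h => by rw [t1 (hpow.2 (by simpa using h))],
        fun h => by rw [t2 fun h' => h (by simpa using hpow.1 h'), neg_neg]⟩
    · rw [hv hd]
      exact ⟨fun h => by rw [t1 (hpow.2 (by simpa using h))],
        fun h => by rw [t2 fun h' => h (by simpa using hpow.1 h'), neg_neg]⟩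

end Cfsg.Agent.S2435
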