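import Cfsg.Statements.S2436
import Cfsg.Agent.Lib.Known.SL2Char.McKaySLTwo
import Cfsg.Agent.Lib.Known.SL2Char.TableGL

set_option autoImplicit false
set_option maxHeartbeats 1000000
open Cfsg

namespace Cfsg.Agent.S2436

/-- Let F be a finite field with q elements, q odd, ℓ any prime and S a Sylow ℓ-subgroup of SL₂ over F with normaliser N. Then SL₂ and N have the same number of irreducible complex characters of degree not divisible by ℓ (the McKay equality holds for SL₂ over F at every prime). -/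
theorem result {F : Type*} [Field F] [Fintype F] (hodd : Odd (Fintype.card F)) (ℓ : ℕ) [Fact ℓ.Prime] (S : Sylow ℓ (Matrix.SpecialLinearGroup (Fin 2) F)) :
    Nat.card {χ : Cfsg.IrrCharacter (Matrix.SpecialLinearGroup (Fin 2) F) // ¬ ℓ ∣ Cfsg.charDegree (χ : Matrix.SpecialLinearGroup (Fin 2) F → ℂ)} =
      Nat.card {ψ : Cfsg.IrrCharacter (Subgroup.normalizer ((S : Subgroup (Matrix.SpecialLinearGroup (Fin 2) F)) : Set (Matrix.SpecialLinearGroup (Fin 2) F))) //
        ¬ ℓ ∣ Cfsg.charDegree (ψ : Subgroup.normalizer ((S : Subgroup (Matrix.SpecialLinearGroup (Fin 2) F)) : Set (Matrix.SpecialLinearGroup (Fin 2) F)) → ℂ)} := by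
  classical
  have := Fintype.ofFinite (Matrix.SpecialLinearGroup (Fin 2) F)
  have hl : ℓ.Prime := Fact.out
  have hG : Nat.card (Matrix.SpecialLinearGroup (Fin 2) F) =
      Fintype.card F * (Fintype.card F ^ 2 - 1) := CfsgLib.Classical.Two.card_SL_two
  by_cases hdvd : ℓ ∣ Nat.card (Matrix.SpecialLinearGroup (Fin 2) F)
  swap
  · obtain ⟨j, hj⟩ := IsPGroup.iff_card.1 S.isPGroup'
    have hj0 : j = 0 := by
      by_contra h
      exact hdvd ((dvd_pow_self ℓ h).trans (hj ▸ Subgroup.card_subgroup_dvd_card _))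
    have hbot : (S : Subgroup (Matrix.SpecialLinearGroup (Fin 2) F)) = ⊥ :=
      Subgroup.card_eq_one.1 (by rw [hj, hj0, pow_zero])
    have hN : Subgroup.normalizer ((S : Subgroup (Matrix.SpecialLinearGroup (Fin 2) F)) :
        Set (Matrix.SpecialLinearGroup (Fin 2) F)) = ⊤ := Subgroup.normalizer_eq_top_iff.2 (by rw [hbot]; infer_instance)
    have e1 : ∀ (H : Subgroup (Matrix.SpecialLinearGroup (Fin 2) F)),
        Nat.card {ψ : IrrCharacter H // ¬ ℓ ∣ charDegree (ψ : H → ℂ)} = Nat.card (ConjClasses H) :=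
      fun H => CfsgLib.McKaySLTwo.card_degree_eq_conjClasses ⊥
        (fun a ha b hb => by rw [Subgroup.mem_bot.1 ha, Subgroup.mem_bot.1 hb])
        (by rw [Subgroup.index_bot]; exact fun h => hdvd (h.trans (Subgroup.card_subgroup_dvd_card H)))
    have e2 : Nat.card {χ : IrrCharacter (Matrix.SpecialLinearGroup (Fin 2) F) //
        ¬ ℓ ∣ charDegree (χ : Matrix.SpecialLinearGroup (Fin 2) F → ℂ)} =
        Nat.card (ConjClasses (Matrix.SpecialLinearGroup (Fin 2) F)) :=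
      CfsgLib.McKaySLTwo.card_degree_eq_conjClasses ⊥
        (fun a ha b hb => by rw [Subgroup.mem_bot.1 ha, Subgroup.mem_bot.1 hb])
        (by rw [Subgroup.index_bot]; exact hdvd)
    rw [e1, e2]
    exact CfsgLib.McKaySLTwo.card_degree_congr ((MulEquiv.subgroupCongr hN).trans Subgroup.topEquiv).symm
  have := Fintype.ofFinite (CfsgLib.SL2Char.Orbits (⊥ : Subgroup Fˣ))
  have := Fintype.ofFinite (Matrix.GeneralLinearGroup (Fin 2) F)
  obtain ⟨g₀, hg₀⟩ := CfsgLib.SL2Char.exists_elliptic (F := F)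
  obtain ⟨ψ, hψ⟩ := CfsgLib.SL2Char.exists_addChar (F := F)
  obtain ⟨θ₀, a, b, c, d, P, C, -, -, hab, hcd, -, -, ha, hb, hc, hd, -, -, -, -, -, vP, vC,
    cP, cC, ctot, hall⟩ := CfsgLib.SL2Char.tableSLOdd hg₀ hψ hodd
  obtain ⟨m, hm⟩ := id hodd
  have hq2 : 1 < Fintype.card F := Fintype.one_lt_card
  set X : Finset (Matrix.SpecialLinearGroup (Fin 2) F → ℂ) := {1} with hX
  set Y : Finset (Matrix.SpecialLinearGroup (Fin 2) F → ℂ) := {CfsgLib.SL2Char.stSL} with hY
  have hdX : ∀ f ∈ X, f 1 = ((1 : ℕ) : ℂ) := fun f hf => by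
    rw [Finset.mem_singleton.1 hf]; simp
  have hdY : ∀ f ∈ Y, f 1 = ((2 * m + 1 : ℕ) : ℂ) := fun f hf => by
    rw [Finset.mem_singleton.1 hf, CfsgLib.SL2Char.stSL_one, hm]
  have hdP : ∀ f ∈ P, f 1 = ((2 * m + 2 : ℕ) : ℂ) := fun f hf => by
    rw [(vP f hf).2, hm]; push_cast; ring
  have hdC : ∀ f ∈ C, f 1 = ((2 * m : ℕ) : ℂ) := fun f hf => by
    rw [(vC f hf).2, hm]; push_cast; ring
  have hdA : ∀ f ∈ ({a, b} : Finset _), f 1 = ((m + 1 : ℕ) : ℂ) := fun f hf => by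
    simp only [Finset.mem_insert, Finset.mem_singleton] at hf
    rcases hf with rfl | rfl
    · have e := ha.deg; rw [hm] at e; push_cast at e ⊢; linear_combination e / 2
    · have e := hb.deg; rw [hm] at e; push_cast at e ⊢; linear_combination e / 2
  have hdB : ∀ f ∈ ({c, d} : Finset _), f 1 = ((m : ℕ) : ℂ) := fun f hf => by
    simp only [Finset.mem_insert, Finset.mem_singleton] at hf
    rcases hf with rfl | rfl
    · have e := hc.deg; rw [hm] at e; push_cast at e ⊢; linear_combination e / 2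
    · have e := hd.deg; rw [hm] at e; push_cast at e ⊢; linear_combination e / 2
  have htot : (X ∪ Y ∪ P ∪ C ∪ {a, b} ∪ {c, d}).card = P.card + C.card + 6 := by
    rw [← ctot]; congr 1; ext f; simp [hX, hY]; tauto
  -- selections of degree classes
  let sel : Prop → Finset (Matrix.SpecialLinearGroup (Fin 2) F → ℂ) →
      Finset (Matrix.SpecialLinearGroup (Fin 2) F → ℂ) := fun q T => if q then T else ∅
  have hcount : Nat.card {χ : IrrCharacter (Matrix.SpecialLinearGroup (Fin 2) F) //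
      ¬ ℓ ∣ charDegree (χ : Matrix.SpecialLinearGroup (Fin 2) F → ℂ)} =
      (sel (¬ ℓ ∣ 1) X ∪ sel (¬ ℓ ∣ 2 * m + 1) Y ∪ sel (¬ ℓ ∣ 2 * m + 2) P ∪ sel (¬ ℓ ∣ 2 * m) C ∪
        sel (¬ ℓ ∣ m + 1) {a, b} ∪ sel (¬ ℓ ∣ m) {c, d}).card := by
    refine CfsgLib.SL2Char.card_irr_subtype _ (fun f => ¬ ℓ ∣ charDegree f) fun f => ?_
    have hmem : ∀ (q : Prop) (T : Finset (Matrix.SpecialLinearGroup (Fin 2) F → ℂ)),
        f ∈ sel q T ↔ q ∧ f ∈ T := by
      intro q T; simp only [sel]; split_ifs with h <;> simp [h]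
    have hdeg : ∀ n : ℕ, f 1 = (n : ℂ) → charDegree f = n := fun n h => by simp [charDegree, h]
    simp only [Finset.mem_union, hmem]
    constructor
    · rintro (((((⟨h, hf⟩ | ⟨h, hf⟩) | ⟨h, hf⟩) | ⟨h, hf⟩) | ⟨h, hf⟩) | ⟨h, hf⟩)
      · exact ⟨(hall f).2 (Or.inl (Finset.mem_singleton.1 hf)), by rwa [hdeg _ (hdX f hf)]⟩
      · exact ⟨(hall f).2 (Or.inr (Or.inl (Finset.mem_singleton.1 hf))), by rwa [hdeg _ (hdY f hf)]⟩
      · exact ⟨(vP f hf).1, by rwa [hdeg _ (hdP f hf)]⟩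
      · exact ⟨(vC f hf).1, by rwa [hdeg _ (hdC f hf)]⟩
      · refine ⟨?_, by rwa [hdeg _ (hdA f hf)]⟩
        simp only [Finset.mem_insert, Finset.mem_singleton] at hf
        rcases hf with rfl | rfl
        exacts [ha.irr, hb.irr]
      · refine ⟨?_, by rwa [hdeg _ (hdB f hf)]⟩
        simp only [Finset.mem_insert, Finset.mem_singleton] at hf
        rcases hf with rfl | rfl
        exacts [hc.irr, hd.irr]
    · rintro ⟨hf, hl'⟩
      rcases (hall f).1 hf with h | h | h | h | h | h | h | h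
      · have h' : f ∈ X := Finset.mem_singleton.2 h
        exact Or.inl (Or.inl (Or.inl (Or.inl (Or.inl ⟨by rwa [hdeg _ (hdX f h')] at hl', h'⟩))))
      · have h' : f ∈ Y := Finset.mem_singleton.2 h
        exact Or.inl (Or.inl (Or.inl (Or.inl (Or.inr ⟨by rwa [hdeg _ (hdY f h')] at hl', h'⟩))))
      · exact Or.inl (Or.inl (Or.inl (Or.inr ⟨by rwa [hdeg _ (hdP f h)] at hl', h⟩)))
      · exact Or.inl (Or.inl (Or.inr ⟨by rwa [hdeg _ (hdC f h)] at hl', h⟩))
      · have h' : f ∈ ({a, b} : Finset _) := by simp [h]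
        exact Or.inl (Or.inr ⟨by rwa [hdeg _ (hdA f h')] at hl', h'⟩)
      · have h' : f ∈ ({a, b} : Finset _) := by simp [h]
        exact Or.inl (Or.inr ⟨by rwa [hdeg _ (hdA f h')] at hl', h'⟩)
      · have h' : f ∈ ({c, d} : Finset _) := by simp [h]
        exact Or.inr ⟨by rwa [hdeg _ (hdB f h')] at hl', h'⟩
      · have h' : f ∈ ({c, d} : Finset _) := by simp [h]
        exact Or.inr ⟨by rwa [hdeg _ (hdB f h')] at hl', h'⟩
  -- disjointness turns the union into a sum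
  have hsplit : ∀ A1 A2 A3 A4 A5 A6 : Finset (Matrix.SpecialLinearGroup (Fin 2) F → ℂ),
      A1 ⊆ X → A2 ⊆ Y → A3 ⊆ P → A4 ⊆ C → A5 ⊆ {a, b} → A6 ⊆ {c, d} →
      (A1 ∪ A2 ∪ A3 ∪ A4 ∪ A5 ∪ A6).card = A1.card + A2.card + A3.card + A4.card + A5.card + A6.card := by
    intro A1 A2 A3 A4 A5 A6 h1 h2 h3 h4 h5 h6
    have hle : ∀ U1 U2 U3 U4 U5 U6 : Finset (Matrix.SpecialLinearGroup (Fin 2) F → ℂ),
        (U1 ∪ U2 ∪ U3 ∪ U4 ∪ U5 ∪ U6).card ≤
          U1.card + U2.card + U3.card + U4.card + U5.card + U6.card := by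
      intro U1 U2 U3 U4 U5 U6
      refine (Finset.card_union_le _ _).trans (Nat.add_le_add_right ?_ _)
      refine (Finset.card_union_le _ _).trans (Nat.add_le_add_right ?_ _)
      refine (Finset.card_union_le _ _).trans (Nat.add_le_add_right ?_ _)
      refine (Finset.card_union_le _ _).trans (Nat.add_le_add_right ?_ _)
      exact Finset.card_union_le _ _
    have hsub : X ∪ Y ∪ P ∪ C ∪ {a, b} ∪ {c, d} ⊆ (A1 ∪ A2 ∪ A3 ∪ A4 ∪ A5 ∪ A6) ∪
        ((X \ A1) ∪ (Y \ A2) ∪ (P \ A3) ∪ (C \ A4) ∪ ({a, b} \ A5) ∪ ({c, d} \ A6)) := by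
      intro f hf
      simp only [Finset.mem_union, Finset.mem_sdiff] at hf ⊢
      tauto
    have hu := (Finset.card_le_card hsub).trans (Finset.card_union_le _ _)
    have e1 := hle A1 A2 A3 A4 A5 A6
    have e2 := hle (X \ A1) (Y \ A2) (P \ A3) (C \ A4) ({a, b} \ A5) ({c, d} \ A6)
    rw [Finset.card_sdiff_of_subset h1, Finset.card_sdiff_of_subset h2, Finset.card_sdiff_of_subset h3,
      Finset.card_sdiff_of_subset h4, Finset.card_sdiff_of_subset h5, Finset.card_sdiff_of_subset h6] at e2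
    rw [htot, hX, hY, Finset.card_singleton, Finset.card_singleton, Finset.card_pair hab,
      Finset.card_pair hcd] at *
    have := (Finset.card_le_card h1).trans_eq (Finset.card_singleton _)
    have := (Finset.card_le_card h2).trans_eq (Finset.card_singleton _)
    have := Finset.card_le_card h3
    have := Finset.card_le_card h4
    have := (Finset.card_le_card h5).trans_eq (Finset.card_pair hab)
    have := (Finset.card_le_card h6).trans_eq (Finset.card_pair hcd)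
    omega
  have hsel : ∀ (q : Prop) T, sel q T ⊆ T := fun q T => by simp only [sel]; split_ifs <;> simp
  have hselc : ∀ (q : Prop) [Decidable q] T, (sel q T).card = if q then T.card else 0 := fun q _ T => by
    simp only [sel]; split_ifs with h <;> simp_all
  rw [hcount, hsplit _ _ _ _ _ _ (hsel _ _) (hsel _ _) (hsel _ _) (hsel _ _) (hsel _ _) (hsel _ _),
    hselc, hselc, hselc, hselc, hselc, hselc, hX, hY, Finset.card_singleton, Finset.card_singleton,
    Finset.card_pair hab, Finset.card_pair hcd, if_pos hl.not_dvd_one]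
  rw [hm] at cP cC
  have hnat : ∀ k : ℕ, ℓ ∣ k → ℓ ∣ k + 1 → False := fun k h h' =>
    hl.not_dvd_one ((Nat.dvd_add_right h).1 h')
  by_cases h2 : ℓ = 2
  · subst h2
    rw [CfsgLib.McKaySLTwo.local_two hodd S]
    rw [if_pos (by omega : ¬ 2 ∣ 2 * m + 1), if_neg (not_not.2 ⟨m + 1, by ring⟩ : ¬ ¬ 2 ∣ 2 * m + 2),
      if_neg (not_not.2 (dvd_mul_right 2 m) : ¬ ¬ 2 ∣ 2 * m)]
    split_ifs <;> omega
  have htwo : ∀ k : ℕ, ℓ ∣ 2 * k → ℓ ∣ k := fun k h => (hl.dvd_mul.1 h).resolve_left fun h' =>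
    h2 ((Nat.prime_dvd_prime_iff_eq hl Nat.prime_two).1 h')
  rw [hG] at hdvd
  rcases hl.dvd_mul.1 hdvd with hdq | hdq
  · have hp : CharP F ℓ := by
      obtain ⟨p, hp⟩ := CharP.exists F
      have hpp : p.Prime := CharP.char_is_prime F p
      obtain ⟨k, -, hk⟩ := FiniteField.card F p
      rw [hk] at hdq
      rwa [(Nat.prime_dvd_prime_iff_eq hl hpp).1 (hl.dvd_of_dvd_pow hdq)]
    rw [CfsgLib.McKaySLTwo.local_defining hodd ℓ S, hm]
    rw [hm] at hdq
    have n4 : ¬ ℓ ∣ 2 * m := fun h => hnat _ h hdq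
    have n3 : ¬ ℓ ∣ 2 * m + 2 := fun h => hnat _ hdq h
    rw [if_neg (not_not.2 hdq), if_pos n3, if_pos n4,
      if_pos (fun h => n3 (by rw [show 2 * m + 2 = 2 * (m + 1) by ring]; exact h.mul_left 2) : ¬ ℓ ∣ m + 1),
      if_pos (fun h => n4 (h.mul_left 2) : ¬ ℓ ∣ m)]
    omega
  rw [CfsgLib.SL2Char.card_eq_succ_mul, hm] at hdq
  rcases hl.dvd_mul.1 hdq with hd' | hd'
  · obtain ⟨x, hx⟩ := CfsgLib.SL2Char.exists_elliptic_SL (F := F)
    obtain ⟨w, hw⟩ := CfsgLib.SL2Char.exists_inverter hx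
    have hT := CfsgLib.SL2Char.card_centralizer_SL hx
    have h := CfsgLib.McKaySLTwo.local_torus hodd ℓ h2 S _ (by rw [hm]; exact hd') x w
      (CfsgLib.SL2Char.nonScalar_of_elliptic hx) (CfsgLib.SL2Char.tr_sq_ne_of_elliptic hx) hw hT
      fun P => ⟨((Cfsg.Agent.S2430.result hodd ℓ h2 P).2 (by rw [hm]; exact hd')).1,
        ((Cfsg.Agent.S2430.result hodd ℓ h2 P).2 (by rw [hm]; exact hd')).2.2⟩
    have n1 : ℓ ∣ m + 1 := htwo _ (by rwa [mul_add, mul_one])
    have n2 : ¬ ℓ ∣ m := fun h => hnat _ h n1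
    rw [if_pos (fun h => hnat _ h hd' : ¬ ℓ ∣ 2 * m + 1), if_neg (not_not.2 hd'),
      if_pos (fun h => n2 (htwo _ h) : ¬ ℓ ∣ 2 * m), if_neg (not_not.2 n1), if_pos n2]
    rw [hm] at h
    refine Nat.eq_of_mul_eq_mul_left two_pos (Eq.trans ?_ h.symm)
    omega
  · rw [show 2 * m + 1 - 1 = 2 * m by omega] at hd'
    have hq3 : 3 < Fintype.card F := by
      rcases Nat.lt_or_ge m 2 with hlt | hge
      · exfalso
        interval_cases m
        · omega
        · exact h2 ((Nat.prime_dvd_prime_iff_eq hl Nat.prime_two).1 hd')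
      · omega
    obtain ⟨u, hu⟩ := CfsgLib.SL2Char.exists_unit_sq_ne_one hq3
    have hT := CfsgLib.SL2Char.card_centralizer_diag (d := CfsgLib.SL2Char.diagS u) rfl rfl hu
    rw [Nat.card_eq_fintype_card (α := F)] at hT
    have hd'' : ℓ ∣ Fintype.card F - 1 := by rw [hm, show 2 * m + 1 - 1 = 2 * m by omega]; exact hd'
    have h := CfsgLib.McKaySLTwo.local_torus hodd ℓ h2 S _ hd'' (CfsgLib.SL2Char.diagS u)
      CfsgLib.SL2Char.weylS (CfsgLib.SL2Char.nonScalar_diag rfl rfl hu)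
      (CfsgLib.SL2Char.tr_sq_ne_diag rfl rfl hu) (CfsgLib.SL2Char.weylS_conj_diag rfl rfl) hT
      fun P => ⟨((Cfsg.Agent.S2430.result hodd ℓ h2 P).1 hd'').1,
        ((Cfsg.Agent.S2430.result hodd ℓ h2 P).1 hd'').2.2⟩
    have n2 : ℓ ∣ m := htwo _ hd'
    have n1 : ¬ ℓ ∣ m + 1 := fun h => hnat _ n2 h
    rw [if_pos (fun h => hnat _ hd' h : ¬ ℓ ∣ 2 * m + 1),
      if_pos (fun h => n1 (htwo _ (by rwa [mul_add, mul_one])) : ¬ ℓ ∣ 2 * m + 2),
      if_neg (not_not.2 hd'), if_pos n1, if_neg (not_not.2 n2)]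
    rw [hm] at h
    refine Nat.eq_of_mul_eq_mul_left two_pos (Eq.trans ?_ h.symm)
    omega

end Cfsg.Agent.S2436
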