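import Cfsg.Statements.S2439
import Cfsg.Agent.Lib.Known.SL2Char.DefiningBlocks
import Cfsg.Agent.Lib.Blocks.Kernel

set_option autoImplicit false
open Cfsg

namespace Cfsg.Agent.S2439

/-- Let F be a finite field with q elements of odd characteristic p, and M a maximal ideal of the algebraic integers containing p. Then SL₂ over F has exactly three p-blocks relative to M: the irreducible character of degree q (the Steinberg character) alone; the other irreducible characters taking the same value at −1 as at 1 (the principal block); and the irreducible characters χ with χ(−1) = −χ(1). Every Sylow p-subgroup is a defect group of each of the last two blocks. -/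
theorem result {F : Type*} [Field F] [Fintype F] (p : ℕ) [Fact p.Prime] [CharP F p] (hp : p ≠ 2)
    (M : Ideal Cfsg.AlgInt) (hM : Cfsg.IsPModular p M) :
    (∀ B : Set (Cfsg.IrrCharacter (Matrix.SpecialLinearGroup (Fin 2) F)), Cfsg.IsPBlock M B ↔
      (B = {χ : Cfsg.IrrCharacter (Matrix.SpecialLinearGroup (Fin 2) F) | (χ : Matrix.SpecialLinearGroup (Fin 2) F → ℂ) 1 = (Fintype.card F : ℂ)} ∨
       B = {χ : Cfsg.IrrCharacter (Matrix.SpecialLinearGroup (Fin 2) F) | (χ : Matrix.SpecialLinearGroup (Fin 2) F → ℂ) (-1) = (χ : Matrix.SpecialLinearGroup (Fin 2) F → ℂ) 1 ∧ (χ : Matrix.SpecialLinearGroup (Fin 2) F → ℂ) 1 ≠ (Fintype.card F : ℂ)} ∨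
       B = {χ : Cfsg.IrrCharacter (Matrix.SpecialLinearGroup (Fin 2) F) | (χ : Matrix.SpecialLinearGroup (Fin 2) F → ℂ) (-1) = -(χ : Matrix.SpecialLinearGroup (Fin 2) F → ℂ) 1})) ∧
    Nat.card {B : Set (Cfsg.IrrCharacter (Matrix.SpecialLinearGroup (Fin 2) F)) // Cfsg.IsPBlock M B} = 3 ∧
    ∀ P : Sylow p (Matrix.SpecialLinearGroup (Fin 2) F),
      Cfsg.IsDefectGroup p M {χ : Cfsg.IrrCharacter (Matrix.SpecialLinearGroup (Fin 2) F) | (χ : Matrix.SpecialLinearGroup (Fin 2) F → ℂ) (-1) = (χ : Matrix.SpecialLinearGroup (Fin 2) F → ℂ) 1 ∧ (χ : Matrix.SpecialLinearGroup (Fin 2) F → ℂ) 1 ≠ (Fintype.card F : ℂ)} (P : Subgroup (Matrix.SpecialLinearGroup (Fin 2) F)) ∧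
      Cfsg.IsDefectGroup p M {χ : Cfsg.IrrCharacter (Matrix.SpecialLinearGroup (Fin 2) F) | (χ : Matrix.SpecialLinearGroup (Fin 2) F → ℂ) (-1) = -(χ : Matrix.SpecialLinearGroup (Fin 2) F → ℂ) 1} (P : Subgroup (Matrix.SpecialLinearGroup (Fin 2) F)) := by
  classical
  have := Fintype.ofFinite (Matrix.SpecialLinearGroup (Fin 2) F)
  have : M.IsPrime := hM.2.1.isPrime
  obtain ⟨k, -, hk⟩ := FiniteField.card F p
  have hodd : Odd (Fintype.card F) := by
    rw [hk]
    exact ((Fact.out : p.Prime).odd_of_ne_two hp).pow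
  set B₁ : Set (IrrCharacter (Matrix.SpecialLinearGroup (Fin 2) F)) :=
    {χ | (χ : Matrix.SpecialLinearGroup (Fin 2) F → ℂ) 1 = (Fintype.card F : ℂ)} with hB₁
  set B₂ : Set (IrrCharacter (Matrix.SpecialLinearGroup (Fin 2) F)) :=
    {χ | (χ : Matrix.SpecialLinearGroup (Fin 2) F → ℂ) (-1) = (χ : Matrix.SpecialLinearGroup (Fin 2) F → ℂ) 1 ∧
      (χ : Matrix.SpecialLinearGroup (Fin 2) F → ℂ) 1 ≠ (Fintype.card F : ℂ)} with hB₂
  set B₃ : Set (IrrCharacter (Matrix.SpecialLinearGroup (Fin 2) F)) :=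
    {χ | (χ : Matrix.SpecialLinearGroup (Fin 2) F → ℂ) (-1) = -(χ : Matrix.SpecialLinearGroup (Fin 2) F → ℂ) 1} with hB₃
  set St : IrrCharacter (Matrix.SpecialLinearGroup (Fin 2) F) := CfsgLib.SL2Char.stIrr with hSt
  have hq0 : (Fintype.card F : ℂ) ≠ 0 := Nat.cast_ne_zero.2 Fintype.card_ne_zero
  have hdeg : ∀ χ : IrrCharacter (Matrix.SpecialLinearGroup (Fin 2) F),
      (χ : Matrix.SpecialLinearGroup (Fin 2) F → ℂ) ≠ CfsgLib.SL2Char.stSL →
      ¬ p ∣ charDegree (χ : Matrix.SpecialLinearGroup (Fin 2) F → ℂ) ∧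
        (χ : Matrix.SpecialLinearGroup (Fin 2) F → ℂ) 1 ≠ (Fintype.card F : ℂ) :=
    fun χ h => (CfsgLib.SL2Char.degree_dichotomy hodd χ).resolve_left h
  have hst : ∀ χ : IrrCharacter (Matrix.SpecialLinearGroup (Fin 2) F),
      (χ : Matrix.SpecialLinearGroup (Fin 2) F → ℂ) 1 = (Fintype.card F : ℂ) ↔
        (χ : Matrix.SpecialLinearGroup (Fin 2) F → ℂ) = CfsgLib.SL2Char.stSL := fun χ =>
    ⟨fun h => by_contra fun hne => (hdeg χ hne).2 h, fun h => by rw [h]; exact CfsgLib.SL2Char.stSL_one⟩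
  have hodd3 : ∀ χ ∈ B₃, (χ : Matrix.SpecialLinearGroup (Fin 2) F → ℂ) ≠ CfsgLib.SL2Char.stSL := by
    intro χ hχ e
    have h := hχ
    simp only [hB₃, Set.mem_ofPred_eq, e, CfsgLib.SL2Char.stSL_neg_one, CfsgLib.SL2Char.stSL_one] at h
    exact hq0 (by linear_combination h / 2)
  have e1 : blockOf M (CfsgLib.SL2Char.stSL : Matrix.SpecialLinearGroup (Fin 2) F → ℂ) = B₁ := by
    rw [CfsgLib.SL2Char.blockOf_stIrr hM]
    ext χ
    rw [hB₁, Set.mem_ofPred_eq, hst, Set.mem_singleton_iff]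
    exact ⟨fun h => by rw [h]; rfl, fun h => Subtype.ext h⟩
  have e2 : ∀ χ ∈ B₂, blockOf M (χ : Matrix.SpecialLinearGroup (Fin 2) F → ℂ) = B₂ := by
    intro χ hχ
    have h1 := CfsgLib.Char.IsIrr.apply_one_ne_zero χ.2
    have hne : (χ : Matrix.SpecialLinearGroup (Fin 2) F → ℂ) ≠ CfsgLib.SL2Char.stSL :=
      fun e => hχ.2 ((hst χ).2 e)
    ext θ
    have h2 := CfsgLib.Char.IsIrr.apply_one_ne_zero θ.2
    rw [CfsgLib.SL2Char.mem_blockOf_iff hM hodd hne, hχ.1, div_self h1, div_eq_one_iff_eq h2, hB₂,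
      Set.mem_ofPred_eq, Ne, Ne, hst θ, and_comm]
  have e3 : ∀ χ ∈ B₃, blockOf M (χ : Matrix.SpecialLinearGroup (Fin 2) F → ℂ) = B₃ := by
    intro χ hχ
    have h1 := CfsgLib.Char.IsIrr.apply_one_ne_zero χ.2
    ext θ
    have h2 := CfsgLib.Char.IsIrr.apply_one_ne_zero θ.2
    rw [CfsgLib.SL2Char.mem_blockOf_iff hM hodd (hodd3 χ hχ)]
    have hχ' : (χ : Matrix.SpecialLinearGroup (Fin 2) F → ℂ) (-1) /
        (χ : Matrix.SpecialLinearGroup (Fin 2) F → ℂ) 1 = -1 := by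
      rw [show (χ : Matrix.SpecialLinearGroup (Fin 2) F → ℂ) (-1) =
        -(χ : Matrix.SpecialLinearGroup (Fin 2) F → ℂ) 1 from hχ, neg_div, div_self h1]
    rw [hχ', div_eq_iff h2, neg_one_mul]
    exact ⟨fun h => h.2, fun h => ⟨hodd3 θ h, h⟩⟩
  have hmem1 : St ∈ B₁ := CfsgLib.SL2Char.stSL_one
  have hmem2 : CfsgLib.Char.trivChar (Matrix.SpecialLinearGroup (Fin 2) F) ∈ B₂ := by
    refine ⟨rfl, ?_⟩
    rw [CfsgLib.Char.trivChar_apply]
    exact_mod_cast (Fintype.one_lt_card (α := F)).ne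
  obtain ⟨χ₃, hmem3⟩ : ∃ χ, χ ∈ B₃ := by
    by_contra hno
    push Not at hno
    have := Fintype.ofFinite (IrrCharacter (Matrix.SpecialLinearGroup (Fin 2) F))
    have hne : (-1 : Matrix.SpecialLinearGroup (Fin 2) F) ≠ 1 := by
      intro e
      have h2 : (2 : F) ≠ 0 := Ring.two_ne_zero (by rw [ringChar.eq F p]; exact hp)
      have e' := congrArg (fun x : Matrix.SpecialLinearGroup (Fin 2) F => x.1 0 0) e
      simp at e'
      exact h2 (by linear_combination -e')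
    have h0 := CfsgLib.Char.sum_degree_mul_apply_of_ne_one hne
    have hsq := CfsgLib.Char.sum_sq_degree (G := Matrix.SpecialLinearGroup (Fin 2) F)
    rw [Finset.sum_congr rfl fun χ _ => by
      rw [(CfsgLib.SL2Char.apply_neg_one_sign χ).resolve_right (hno χ), ← sq]] at h0
    rw [h0] at hsq
    exact Nat.card_pos.ne' (by exact_mod_cast hsq.symm)
  have hiff : ∀ B : Set (IrrCharacter (Matrix.SpecialLinearGroup (Fin 2) F)),
      IsPBlock M B ↔ (B = B₁ ∨ B = B₂ ∨ B = B₃) := by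
    intro B
    constructor
    · rintro ⟨χ, rfl⟩
      by_cases hs : (χ : Matrix.SpecialLinearGroup (Fin 2) F → ℂ) = CfsgLib.SL2Char.stSL
      · exact Or.inl (by rw [hs, e1])
      · rcases CfsgLib.SL2Char.apply_neg_one_sign χ with h | h
        · exact Or.inr (Or.inl (e2 χ ⟨h, (hdeg χ hs).2⟩))
        · exact Or.inr (Or.inr (e3 χ h))
    · rintro (rfl | rfl | rfl)
      · exact ⟨St, e1.symm⟩
      · exact ⟨_, (e2 _ hmem2).symm⟩
      · exact ⟨_, (e3 _ hmem3).symm⟩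
  have n12 : B₁ ≠ B₂ := fun e => (e ▸ hmem1 : St ∈ B₂).2 hmem1
  have n13 : B₁ ≠ B₃ := fun e => hodd3 St (e ▸ hmem1 : St ∈ B₃) rfl
  have n23 : B₂ ≠ B₃ := fun e => by
    have h : CfsgLib.Char.trivChar (Matrix.SpecialLinearGroup (Fin 2) F) ∈ B₃ := e ▸ hmem2
    simp only [hB₃, Set.mem_ofPred_eq, CfsgLib.Char.trivChar_apply] at h
    norm_num at h
  refine ⟨hiff, ?_, ?_⟩
  · rw [Nat.card_congr (Equiv.subtypeEquivRight hiff)]
    rw [show (3 : ℕ) = ({B₁, B₂, B₃} : Finset (Set (IrrCharacter (Matrix.SpecialLinearGroup (Fin 2) F)))).card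
      from (Finset.card_eq_three.2 ⟨B₁, B₂, B₃, n12, n13, n23, rfl⟩).symm, ← Nat.card_eq_finsetCard]
    exact Nat.card_congr (Equiv.subtypeEquivRight fun B => by simp)
  · intro P
    have key : ∀ B, IsPBlock M B → ∀ χ ∈ B, (χ : Matrix.SpecialLinearGroup (Fin 2) F → ℂ) ≠ CfsgLib.SL2Char.stSL →
        IsDefectGroup p M B (P : Subgroup (Matrix.SpecialLinearGroup (Fin 2) F)) := by
      intro B hB χ hχ hne
      obtain ⟨D, hD⟩ := CfsgLib.Blocks.exists_isDefectGroup (p := p) hB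
      have hd : blockDefect p B = (Nat.card (Matrix.SpecialLinearGroup (Fin 2) F)).factorization p := by
        have h0 : sInf ((fun χ : IrrCharacter (Matrix.SpecialLinearGroup (Fin 2) F) =>
            (charDegree (χ : Matrix.SpecialLinearGroup (Fin 2) F → ℂ)).factorization p) '' B) = 0 :=
          Nat.le_zero.1 (Nat.sInf_le ⟨χ, hχ, Nat.factorization_eq_zero_of_not_dvd (hdeg χ hne).1⟩)
        rw [blockDefect, h0, Nat.sub_zero]
      have hc := CfsgLib.Blocks.IsDefectGroup.card_eq hM hB hD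
      rw [hd] at hc
      obtain ⟨x, hx⟩ := MulAction.exists_smul_eq (Matrix.SpecialLinearGroup (Fin 2) F) (Sylow.ofCard D hc) P
      rw [← hx]
      exact CfsgLib.Blocks.IsDefectGroup.map_conj hD x
    exact ⟨key B₂ ((hiff _).2 (Or.inr (Or.inl rfl))) _ hmem2 (fun e => hmem2.2 ((hst _).2 e)),
      key B₃ ((hiff _).2 (Or.inr (Or.inr rfl))) _ hmem3 (hodd3 _ hmem3)⟩

end Cfsg.Agent.S2439
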