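import Cfsg.Statements.S2450
import Cfsg.Agent.Lib.Classical.SL2TracePSL

set_option linter.all false

set_option autoImplicit false
open Cfsg

namespace Cfsg.Agent.S2450

open CfsgLib.Classical.Trace
open scoped MatrixGroups

variable {F : Type*} [Field F]

theorem exists_corner {a : SL(2, F)} (ha : ¬ IsScalar a) :
    ∃ h : SL(2, F), ((h⁻¹ * a * h : SL(2, F)) : Matrix (Fin 2) (Fin 2) F) 0 0 = 0 ∧
      ((h⁻¹ * a * h : SL(2, F)) : Matrix (Fin 2) (Fin 2) F) 1 0 ≠ 0 := by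
  obtain ⟨P, hP, haP⟩ := exists_frame ha
  have hdet : (P * !![1, 0; 0, P.det⁻¹]).det = 1 := by
    simp [Matrix.det_mul, Matrix.det_fin_two_of, hP]
  refine ⟨⟨_, hdet⟩, ?_⟩
  set h : SL(2, F) := ⟨_, hdet⟩ with hh
  have e : ((h⁻¹ * a * h : SL(2, F)) : Matrix (Fin 2) (Fin 2) F) = !![0, -P.det⁻¹; P.det, trc a] := by
    have e1 : (a : Matrix (Fin 2) (Fin 2) F) * (h : Matrix (Fin 2) (Fin 2) F) =
        (h : Matrix (Fin 2) (Fin 2) F) * !![0, -P.det⁻¹; P.det, trc a] := by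
      show _ * (P * !![1, 0; 0, P.det⁻¹]) = P * !![1, 0; 0, P.det⁻¹] * _
      rw [← mul_assoc, haP, mul_assoc, mul_assoc]
      congr 1
      ext i j
      fin_cases i <;> fin_cases j <;> simp [comp, Matrix.mul_apply, Fin.sum_univ_two, hP] <;> ring
    have e2 : ((h⁻¹ : SL(2, F)) : Matrix (Fin 2) (Fin 2) F) * (h : Matrix (Fin 2) (Fin 2) F) = 1 := by
      rw [← Matrix.SpecialLinearGroup.coe_mul, inv_mul_cancel, Matrix.SpecialLinearGroup.coe_one]
    rw [Matrix.SpecialLinearGroup.coe_mul, Matrix.SpecialLinearGroup.coe_mul, mul_assoc, e1,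
      ← mul_assoc, e2, one_mul]
  rw [e]
  simpa using hP

theorem exists_lower {b : SL(2, F)} (hb : ¬ IsScalar b) :
    ∃ k : SL(2, F), ((k * b * k⁻¹ : SL(2, F)) : Matrix (Fin 2) (Fin 2) F) 1 0 ≠ 0 := by
  obtain ⟨h, -, h2⟩ := exists_corner hb
  exact ⟨h⁻¹, by rwa [inv_inv]⟩

/-- The unitriangular element. -/
def up (x : F) : SL(2, F) := ⟨!![1, x; 0, 1], by simp [Matrix.det_fin_two_of]⟩

theorem trc_mul_up {a b : SL(2, F)} (ha : (a : Matrix (Fin 2) (Fin 2) F) 0 0 = 0) (x : F) :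
    trc (a * (up x * b * (up x)⁻¹)) =
      (a : Matrix (Fin 2) (Fin 2) F) 0 1 * (b : Matrix (Fin 2) (Fin 2) F) 1 0 +
        (a : Matrix (Fin 2) (Fin 2) F) 1 0 * ((b : Matrix (Fin 2) (Fin 2) F) 0 1 +
          x * ((b : Matrix (Fin 2) (Fin 2) F) 1 1 - (b : Matrix (Fin 2) (Fin 2) F) 0 0) -
            x ^ 2 * (b : Matrix (Fin 2) (Fin 2) F) 1 0) +
        (a : Matrix (Fin 2) (Fin 2) F) 1 1 * ((b : Matrix (Fin 2) (Fin 2) F) 1 1 -
          x * (b : Matrix (Fin 2) (Fin 2) F) 1 0) := by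
  have hi : (((up x)⁻¹ : SL(2, F)) : Matrix (Fin 2) (Fin 2) F) = !![1, -x; 0, 1] := by
    rw [Matrix.SpecialLinearGroup.coe_inv]
    simp [up, Matrix.adjugate_fin_two]
  have hu : ((up x : SL(2, F)) : Matrix (Fin 2) (Fin 2) F) = !![1, x; 0, 1] := rfl
  simp only [trc, Matrix.SpecialLinearGroup.coe_mul, hi, hu]
  simp only [Matrix.mul_apply, Fin.sum_univ_two, ha]
  simp
  ring


/-- The Arad–Herzog conjecture for PSL(2,q): let F be a finite field with q ≥ 4 elements. For any two non-identity elements a, b of PSL(2,F), the set of products of a conjugate of a with a conjugate of b is not a single conjugacy class. -/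
theorem result {F : Type*} [Field F] [Fintype F] (h4 : 4 ≤ Fintype.card F)
    (a b : Matrix.ProjectiveSpecialLinearGroup (Fin 2) F) (ha : a ≠ 1) (hb : b ≠ 1) (c : Matrix.ProjectiveSpecialLinearGroup (Fin 2) F) :
    {g : Matrix.ProjectiveSpecialLinearGroup (Fin 2) F | ∃ u v : Matrix.ProjectiveSpecialLinearGroup (Fin 2) F, g = (u * a * u⁻¹) * (v * b * v⁻¹)} ≠ {g | IsConj c g} := by
  classical
  obtain ⟨a₀, rfl⟩ := QuotientGroup.mk_surjective a
  obtain ⟨b₀, rfl⟩ := QuotientGroup.mk_surjective b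
  obtain ⟨c₀, rfl⟩ := QuotientGroup.mk_surjective c
  intro hset
  obtain ⟨h, ha0, ha1⟩ := exists_corner (fun e => ha (mk_eq_one_iff.2 e))
  obtain ⟨k, hb1⟩ := exists_lower (fun e => hb (mk_eq_one_iff.2 e))
  set a' : SL(2, F) := h⁻¹ * a₀ * h with ha'
  set b' : SL(2, F) := k * b₀ * k⁻¹ with hb'
  have hval : ∀ x : F, trc (a' * (up x * b' * (up x)⁻¹)) ^ 2 = trc c₀ ^ 2 := fun x => by
    refine trc_sq_eq_of_isConj ((Set.ext_iff.1 hset _).1 ?_)
    refine ⟨QuotientGroup.mk h⁻¹, QuotientGroup.mk (up x * k), ?_⟩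
    rw [ha', hb']
    simp only [QuotientGroup.mk_mul, QuotientGroup.mk_inv, inv_inv, mul_inv_rev, mul_assoc]
  set f : F → F := fun x => trc (a' * (up x * b' * (up x)⁻¹)) with hf
  have himg : Finset.univ.image f ⊆ {trc c₀, -trc c₀} := by
    intro y hy
    obtain ⟨x, -, rfl⟩ := Finset.mem_image.1 hy
    rcases sq_eq_sq_iff_eq_or_eq_neg.1 (hval x) with e | e <;> simp [hf, e]
  have hfib : ∀ y ∈ Finset.univ.image f, (Finset.univ.filter fun x => f x = y).card ≤ 2 := by
    intro y hy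
    obtain ⟨x₀, -, rfl⟩ := Finset.mem_image.1 hy
    set r := (b' : Matrix (Fin 2) (Fin 2) F) 1 0
    set d := (a' : Matrix (Fin 2) (Fin 2) F) 1 0
    refine le_trans (Finset.card_le_card (t := {x₀, (d * ((b' : Matrix (Fin 2) (Fin 2) F) 1 1 -
      (b' : Matrix (Fin 2) (Fin 2) F) 0 0) - (a' : Matrix (Fin 2) (Fin 2) F) 1 1 * r) / (d * r) - x₀}) ?_)
      Finset.card_le_two
    intro x hx
    have hxx := (Finset.mem_filter.1 hx).2
    simp only [hf, trc_mul_up ha0] at hxx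
    rw [Finset.mem_insert, Finset.mem_singleton]
    by_cases hne : x = x₀
    · exact Or.inl hne
    · right
      have e : (d * ((b' : Matrix (Fin 2) (Fin 2) F) 1 1 - (b' : Matrix (Fin 2) (Fin 2) F) 0 0) -
          (a' : Matrix (Fin 2) (Fin 2) F) 1 1 * r) - d * r * (x + x₀) = 0 :=
        (mul_eq_zero.1 (show (x - x₀) * _ = 0 by linear_combination hxx)).resolve_left (sub_ne_zero.2 hne)
      field_simp
      linear_combination -e
  have hq := Finset.card_le_mul_card_image Finset.univ 2 hfib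
  have hc2 := Finset.card_le_card himg
  rw [Finset.card_univ] at hq
  have hle := Finset.card_le_two (a := trc c₀) (b := -trc c₀)
  have hq4 : Fintype.card F = 4 := by omega
  have hF : ringChar F = 2 := by
    by_contra h2
    have := FiniteField.odd_card_of_char_ne_two h2
    omega
  have : CharP F 2 := ringChar.eq_iff.1 hF
  rw [CharTwo.neg_eq, Finset.pair_eq_singleton, Finset.card_singleton] at hc2
  omega

end Cfsg.Agent.S2450
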