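import Cfsg.Statements.S2455
import Cfsg.Agent.Lib.Classical.SL2Trace
import Cfsg.Agent.Lib.Classical.SL2TracePSL

set_option linter.all false

set_option autoImplicit false
open Cfsg

namespace Cfsg.Agent.S2455

/-- A strong covering result in the direction of Thompson's conjecture (non-identity elements) for PSL(2,q), q odd: let F be a finite field of odd characteristic p with at least 5 elements and let x ∈ PSL(2,F) have order greater than 2 and not divisible by p (so x is not unipotent). Then every non-identity element of PSL(2,F) is a product of two conjugates of x. -/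
theorem result {F : Type*} [Field F] [Fintype F] (p : ℕ) [Fact p.Prime] [CharP F p] (hp : p ≠ 2) (h5 : 5 ≤ Fintype.card F)
    (x : Matrix.ProjectiveSpecialLinearGroup (Fin 2) F) (hx2 : 2 < orderOf x) (hxp : ¬ p ∣ orderOf x) : ∀ g : Matrix.ProjectiveSpecialLinearGroup (Fin 2) F, g ≠ 1 → ∃ u v : Matrix.ProjectiveSpecialLinearGroup (Fin 2) F, g = (u * x * u⁻¹) * (v * x * v⁻¹) := by
  intro g hg
  obtain ⟨x₀, rfl⟩ := QuotientGroup.mk_surjective x
  obtain ⟨g₀, rfl⟩ := QuotientGroup.mk_surjective g
  have h2 : (2 : F) ≠ 0 := Ring.two_ne_zero (by rwa [ringChar.eq F p])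
  have hodd : Fintype.card F % 2 = 1 := FiniteField.odd_card_of_char_ne_two (by rwa [ringChar.eq F p])
  have ht0 : CfsgLib.Classical.Trace.trc x₀ ≠ 0 := fun h => absurd
    (Nat.le_of_dvd two_pos (orderOf_dvd_of_pow_eq_one (CfsgLib.Classical.Trace.mk_sq_eq_one h))) (not_le.2 hx2)
  have ht4 : CfsgLib.Classical.Trace.trc x₀ ^ 2 ≠ 4 := fun h => by
    have h1 := CfsgLib.Classical.Trace.mk_pow_char_eq_one p (e := CfsgLib.Classical.Trace.trc x₀ / 2)
      (by rw [div_pow, h, div_eq_one_iff_eq (pow_ne_zero _ h2)]; norm_num) (by field_simp)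
    rcases (Nat.dvd_prime (Fact.out : p.Prime)).1 (orderOf_dvd_of_pow_eq_one h1) with h' | h' <;>
      rw [h'] at hx2 hxp
    · omega
    · exact hxp dvd_rfl
  have hN := CfsgLib.Classical.Trace.normSurj_of_odd hodd h2 ht4
  have hgs : ¬ CfsgLib.Classical.Trace.IsScalar g₀ := fun h => hg (CfsgLib.Classical.Trace.mk_eq_one_iff.2 h)
  by_cases hs : CfsgLib.Classical.Trace.trc g₀ = 2
  · rw [← CfsgLib.Classical.Trace.mk_neg_eq g₀]
    refine CfsgLib.Classical.Trace.exists_conj_mul_eq ht4 hN
      (CfsgLib.Classical.Trace.exists_mul_eq h2 hodd (fun h => hg ?_) ht0 ?_)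
    · rw [← CfsgLib.Classical.Trace.mk_neg_eq g₀]
      exact CfsgLib.Classical.Trace.mk_eq_one_iff.2 h
    · rw [CfsgLib.Classical.Trace.trc_neg, hs]
      exact fun h => mul_ne_zero h2 h2 (by linear_combination -h)
  · exact CfsgLib.Classical.Trace.exists_conj_mul_eq ht4 hN
      (CfsgLib.Classical.Trace.exists_mul_eq h2 hodd hgs ht0 hs)

end Cfsg.Agent.S2455
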