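import Cfsg.Statements.S2456
import Cfsg.Agent.Lib.Classical.SL2TracePSL
import Cfsg.Agent.Lib.Known.SL2Char.Tori

set_option linter.all false

set_option autoImplicit false
open Cfsg

namespace Cfsg.Agent.S2456

/-- A strong covering result in the direction of Thompson's conjecture (non-identity elements) for PSL(2,q), q even: let F be a finite field of characteristic 2 with q ≥ 4 elements and let x ∈ PSL(2,F) have order greater than 2 and not dividing q + 1. Then every non-identity element of PSL(2,F) is a product of two conjugates of x. -/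
theorem result {F : Type*} [Field F] [Fintype F] [CharP F 2] (h4 : 4 ≤ Fintype.card F)
    (x : Matrix.ProjectiveSpecialLinearGroup (Fin 2) F) (hx2 : 2 < orderOf x) (hxq : ¬ orderOf x ∣ Fintype.card F + 1) : ∀ g : Matrix.ProjectiveSpecialLinearGroup (Fin 2) F, g ≠ 1 → ∃ u v : Matrix.ProjectiveSpecialLinearGroup (Fin 2) F, g = (u * x * u⁻¹) * (v * x * v⁻¹) := by
  intro g hg
  obtain ⟨x₀, rfl⟩ := QuotientGroup.mk_surjective x
  obtain ⟨g₀, rfl⟩ := QuotientGroup.mk_surjective g
  have h2 : (2 : F) = 0 := CharTwo.two_eq_zero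
  have ht0 : CfsgLib.Classical.Trace.trc x₀ ≠ 0 := fun h => absurd
    (Nat.le_of_dvd two_pos (orderOf_dvd_of_pow_eq_one (CfsgLib.Classical.Trace.mk_sq_eq_one h))) (not_le.2 hx2)
  have ht4 : CfsgLib.Classical.Trace.trc x₀ ^ 2 ≠ 4 := by
    rw [show (4 : F) = 2 * 2 by norm_num, h2, mul_zero]
    exact pow_ne_zero _ ht0
  have hgs : ¬ CfsgLib.Classical.Trace.IsScalar g₀ := fun h => hg (CfsgLib.Classical.Trace.mk_eq_one_iff.2 h)
  by_cases hroot : ∃ l : F, l ^ 2 - CfsgLib.Classical.Trace.trc x₀ * l + 1 = 0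
  · obtain ⟨l, hl⟩ := hroot
    exact CfsgLib.Classical.Trace.exists_conj_mul_eq ht4 (CfsgLib.Classical.Trace.normSurj_of_two _)
      (CfsgLib.Classical.Trace.exists_mul_eq_of_split hgs hl)
  · refine absurd ?_ hxq
    have he : CfsgLib.SL2Char.Elliptic (x₀ : Matrix (Fin 2) (Fin 2) F) :=
      CfsgLib.SL2Char.elliptic_iff.2 fun c hc => hroot ⟨c, by
        rw [x₀.2, Matrix.trace_fin_two] at hc
        rw [CfsgLib.Classical.Trace.trc]
        linear_combination hc⟩
    rw [← CfsgLib.SL2Char.card_centralizer_SL he]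
    refine (orderOf_map_dvd (QuotientGroup.mk' _) x₀).trans ?_
    rw [← Subgroup.orderOf_mk (H := Subgroup.centralizer ({x₀} : Set _)) x₀
      (Subgroup.mem_centralizer_singleton_iff.2 rfl)]
    exact orderOf_dvd_natCard _

end Cfsg.Agent.S2456
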