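import Cfsg.Statements.S2466
import Mathlib.GroupTheory.Perm.Cycle.PossibleTypes

set_option autoImplicit false
open Cfsg

namespace Cfsg.Agent.S2466

theorem exists_mem_of_prime_dvd_lcm {p : ℕ} (hp : p.Prime) (m : Multiset ℕ) :
    p ∣ m.lcm → ∃ a ∈ m, p ∣ a := by
  induction m using Multiset.induction_on with
  | empty => intro h; exact absurd h (by simpa using hp.ne_one)
  | cons a m ih =>
    intro h
    rw [Multiset.lcm_cons] at h
    rcases hp.dvd_mul.1 (h.trans (lcm_dvd (dvd_mul_right a m.lcm) (dvd_mul_left m.lcm a))) with h | h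
    · exact ⟨a, Multiset.mem_cons_self _ _, h⟩
    · obtain ⟨b, hb, hpb⟩ := ih h
      exact ⟨b, Multiset.mem_cons_of_mem hb, hpb⟩


/-- Adjacency of odd primes in the prime graph of the alternating groups: let r ≠ s be odd primes at most n. The alternating group of degree n has an element of order r·s if and only if r + s ≤ n. -/
theorem result (n r s : ℕ) (hr : r.Prime) (hs : s.Prime) (hr2 : r ≠ 2) (hs2 : s ≠ 2) (hrs : r ≠ s) (hrn : r ≤ n) (hsn : s ≤ n) :
    (r * s ∈ Set.range (orderOf : alternatingGroup (Fin n) → ℕ)) ↔ r + s ≤ n := by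
  constructor
  · rintro ⟨g, hg⟩
    set σ : Equiv.Perm (Fin n) := (g : Equiv.Perm (Fin n))
    have hord : σ.cycleType.lcm = r * s := by
      rw [Equiv.Perm.lcm_cycleType, ← hg]
      exact Subgroup.orderOf_coe g
    have hsum := Equiv.Perm.sum_cycleType_le σ
    rw [Fintype.card_fin] at hsum
    obtain ⟨a, ha, hra⟩ := exists_mem_of_prime_dvd_lcm hr σ.cycleType (hord ▸ dvd_mul_right r s)
    obtain ⟨b, hb, hsb⟩ := exists_mem_of_prime_dvd_lcm hs σ.cycleType (hord ▸ dvd_mul_left s r)
    have ha2 := Equiv.Perm.two_le_of_mem_cycleType ha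
    have hb2 := Equiv.Perm.two_le_of_mem_cycleType hb
    have hra' := Nat.le_of_dvd (by omega) hra
    have hsb' := Nat.le_of_dvd (by omega) hsb
    by_cases hab : a = b
    · have h1 : r * s ∣ a := ((Nat.coprime_primes hr hs).2 hrs).mul_dvd_of_dvd_of_dvd hra (hab ▸ hsb)
      have h2 := Nat.le_of_dvd (by omega) h1
      have h3 : r + s ≤ r * s := Nat.add_le_mul hr.two_le hs.two_le
      have h4 := Multiset.single_le_sum (fun x _ => Nat.zero_le x) a ha
      omega
    · obtain ⟨t, ht⟩ := Multiset.exists_cons_of_mem ha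
      have hbt : b ∈ t := by
        rw [ht, Multiset.mem_cons] at hb
        exact hb.resolve_left (Ne.symm hab)
      have h4 := Multiset.single_le_sum (fun x _ => Nat.zero_le x) b hbt
      rw [ht, Multiset.sum_cons] at hsum
      omega
  · intro h
    obtain ⟨σ, hσ⟩ := (Equiv.Perm.exists_with_cycleType_iff (Fin n) (m := {r, s})).2
      ⟨by simpa using h, by
        intro a ha
        rcases Multiset.mem_cons.1 ha with rfl | ha
        · exact hr.two_le
        · rw [Multiset.mem_singleton] at ha
          exact ha ▸ hs.two_le⟩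
    have hsgn : Equiv.Perm.sign σ = 1 := by
      rw [Equiv.Perm.sign_of_cycleType, hσ]
      refine Even.neg_one_pow ?_
      simp only [Multiset.insert_eq_cons, Multiset.sum_cons, Multiset.sum_singleton, Multiset.card_cons, Multiset.card_singleton]
      exact Even.add ((hr.odd_of_ne_two hr2).add_odd (hs.odd_of_ne_two hs2)) even_two
    refine ⟨⟨σ, Equiv.Perm.mem_alternatingGroup.2 hsgn⟩, ?_⟩
    rw [← Subgroup.orderOf_coe]
    show orderOf σ = r * s
    rw [← Equiv.Perm.lcm_cycleType, hσ]
    simp only [Multiset.insert_eq_cons, Multiset.lcm_cons, Multiset.lcm_singleton, normalize_eq]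
    exact Nat.Coprime.lcm_eq_mul ((Nat.coprime_primes hr hs).2 hrs)

end Cfsg.Agent.S2466
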