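import Cfsg.Statements.S2467
import Mathlib.GroupTheory.Perm.Cycle.PossibleTypes

set_option autoImplicit false
open Cfsg

namespace Cfsg.Agent.S2467

theorem exists_mem_of_prime_dvd_lcm {p : ℕ} (hp : p.Prime) (m : Multiset ℕ) :
    p ∣ m.lcm → ∃ a ∈ m, p ∣ a := by
  induction m using Multiset.induction_on with
  | empty => intro h; exact absurd h (by simpa using hp.ne_one)
  | cons a m ih =>
    intro h
    rw [Multiset.lcm_cons] at h
    rcases hp.dvd_mul.1 (h.trans (lcm_dvd (dvd_mul_right a m.lcm) (dvd_mul_left m.lcm a))) with h | h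
    · exact ⟨a, Multiset.mem_cons_self _ _, h⟩
    · obtain ⟨b, hb, hpb⟩ := ih h
      exact ⟨b, Multiset.mem_cons_of_mem hb, hpb⟩


/-- Adjacency of 2 and an odd prime in the prime graph of the alternating groups: let r be an odd prime at most n, with n ≥ 4. The alternating group of degree n has an element of order 2r if and only if r + 4 ≤ n. -/
theorem result (n r : ℕ) (hn : 4 ≤ n) (hr : r.Prime) (hr2 : r ≠ 2) (hrn : r ≤ n) :
    (2 * r ∈ Set.range (orderOf : alternatingGroup (Fin n) → ℕ)) ↔ r + 4 ≤ n := by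
  have hrodd := hr.odd_of_ne_two hr2
  have hr3 : 3 ≤ r := by
    rcases hrodd with ⟨k, hk⟩
    have := hr.two_le
    omega
  constructor
  · rintro ⟨g, hg⟩
    set σ : Equiv.Perm (Fin n) := (g : Equiv.Perm (Fin n))
    have hord : σ.cycleType.lcm = 2 * r := by
      rw [Equiv.Perm.lcm_cycleType, ← hg]
      exact Subgroup.orderOf_coe g
    have hsum := Equiv.Perm.sum_cycleType_le σ
    rw [Fintype.card_fin] at hsum
    have hsgn : Equiv.Perm.sign σ = 1 := Equiv.Perm.mem_alternatingGroup.1 g.2
    rw [Equiv.Perm.sign_of_cycleType, neg_one_pow_eq_one_iff_even (by decide)] at hsgn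
    obtain ⟨a, ha, hra⟩ := exists_mem_of_prime_dvd_lcm hr σ.cycleType (hord ▸ dvd_mul_left r 2)
    obtain ⟨b, hb, h2b⟩ := exists_mem_of_prime_dvd_lcm Nat.prime_two σ.cycleType (hord ▸ dvd_mul_right 2 r)
    have ha2 := Equiv.Perm.two_le_of_mem_cycleType ha
    have hb2 := Equiv.Perm.two_le_of_mem_cycleType hb
    have hra' := Nat.le_of_dvd (by omega) hra
    obtain ⟨t, ht⟩ := Multiset.exists_cons_of_mem hb
    rw [ht, Multiset.sum_cons] at hsum
    rw [ht, Multiset.sum_cons, Multiset.card_cons] at hsgn
    by_cases hab : a = b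
    · subst hab
      have h1 : r * 2 ∣ a := ((Nat.coprime_primes hr Nat.prime_two).2 hr2).mul_dvd_of_dvd_of_dvd hra h2b
      have h2 := Nat.le_of_dvd (by omega) h1
      have ht0 : t ≠ 0 := by
        rintro rfl
        rw [Nat.even_iff] at hsgn
        simp at hsgn
        omega
      obtain ⟨c, hc⟩ := Multiset.exists_mem_of_ne_zero ht0
      have hc2 := Equiv.Perm.two_le_of_mem_cycleType (σ := σ) (n := c) (ht ▸ Multiset.mem_cons_of_mem hc)
      have h4 := Multiset.single_le_sum (fun x _ => Nat.zero_le x) c hc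
      omega
    · have hat : a ∈ t := by
        rw [ht, Multiset.mem_cons] at ha
        exact ha.resolve_left hab
      obtain ⟨t', ht'⟩ := Multiset.exists_cons_of_mem hat
      rw [ht', Multiset.sum_cons] at hsum
      rw [ht', Multiset.sum_cons, Multiset.card_cons] at hsgn
      have hodd_or : 2 * r ≤ a ∨ a % 2 = 1 := by
        rcases Nat.mod_two_eq_zero_or_one a with h | h
        · exact Or.inl (Nat.le_of_dvd (by omega) (Nat.Coprime.mul_dvd_of_dvd_of_dvd
            ((Nat.coprime_primes Nat.prime_two hr).2 (Ne.symm hr2)) (Nat.dvd_of_mod_eq_zero h) hra))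
        · exact Or.inr h
      rcases hodd_or with h | h
      · omega
      have ht0 : t' ≠ 0 := by
        rintro rfl
        rw [Nat.even_iff] at hsgn
        simp at hsgn
        omega
      obtain ⟨c, hc⟩ := Multiset.exists_mem_of_ne_zero ht0
      have hc2 := Equiv.Perm.two_le_of_mem_cycleType (σ := σ) (n := c)
        (ht ▸ Multiset.mem_cons_of_mem (ht' ▸ Multiset.mem_cons_of_mem hc))
      have h4 := Multiset.single_le_sum (fun x _ => Nat.zero_le x) c hc
      omega
  · intro h
    obtain ⟨σ, hσ⟩ := (Equiv.Perm.exists_with_cycleType_iff (Fin n) (m := {r, 2, 2})).2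
      ⟨by simp; omega, by
        intro a ha
        simp at ha
        rcases ha with rfl | rfl <;> omega⟩
    have hsgn : Equiv.Perm.sign σ = 1 := by
      rw [Equiv.Perm.sign_of_cycleType, hσ]
      refine Even.neg_one_pow ?_
      simp only [Multiset.insert_eq_cons, Multiset.sum_cons, Multiset.sum_singleton, Multiset.card_cons, Multiset.card_singleton]
      rw [Nat.even_iff]
      have := Nat.odd_iff.1 hrodd
      omega
    refine ⟨⟨σ, Equiv.Perm.mem_alternatingGroup.2 hsgn⟩, ?_⟩
    rw [← Subgroup.orderOf_coe]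
    show orderOf σ = 2 * r
    rw [← Equiv.Perm.lcm_cycleType, hσ]
    simp only [Multiset.insert_eq_cons, Multiset.lcm_cons, Multiset.lcm_singleton, normalize_eq, lcm_same]
    rw [mul_comm]
    exact Nat.Coprime.lcm_eq_mul ((Nat.coprime_primes hr Nat.prime_two).2 hr2)

end Cfsg.Agent.S2467
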