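import Cfsg.Statements.S2471
import Cfsg.Agent.Lib.Recog.PSLTwoOrders

set_option autoImplicit false
open Cfsg

namespace Cfsg.Agent.S2471

/-- In PSL(2,q) with q odd, the characteristic p is isolated from 2 in the prime graph: for F a finite field of odd characteristic p with at least 5 elements, PSL(2,F) has no element of order 2p. -/
theorem result {F : Type*} [Field F] [Fintype F] (p : ℕ) [Fact p.Prime] [CharP F p] (hp : p ≠ 2) (h5 : 5 ≤ Fintype.card F) (g : Matrix.ProjectiveSpecialLinearGroup (Fin 2) F) :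
    orderOf g ≠ 2 * p := by
  intro h
  have hr : orderOf g ∈ Set.range (orderOf : Matrix.ProjectiveSpecialLinearGroup (Fin 2) F → ℕ) := ⟨g, rfl⟩
  rw [CfsgLib.Recog.PSLTwoOrders.range_orderOf p (by omega), Set.mem_setOf_eq, h] at hr
  have hp' : p.Prime := Fact.out
  obtain ⟨k, hk, hq⟩ := FiniteField.card F p
  have hpq : p ∣ Fintype.card F := hq ▸ dvd_pow_self p k.ne_zero
  rcases hr with hr | hr | hr
  · exact absurd hr (by have := hp'.pos; omega)
  · have h1 : p ∣ Fintype.card F - 1 :=
      (Dvd.intro_left 2 rfl : p ∣ 2 * p).trans (hr.trans (Nat.div_dvd_of_dvd (Nat.gcd_dvd_right _ _)))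
    have h2 := Nat.dvd_sub hpq h1
    rw [show Fintype.card F - (Fintype.card F - 1) = 1 by omega] at h2
    exact hp'.not_dvd_one h2
  · have h1 : p ∣ Fintype.card F + 1 := by
      refine (Dvd.intro_left 2 rfl : p ∣ 2 * p).trans (hr.trans (Nat.div_dvd_of_dvd ?_))
      rw [show Fintype.card F + 1 = (Fintype.card F - 1) + 2 by omega]
      exact dvd_add (Nat.gcd_dvd_right _ _) (Nat.gcd_dvd_left _ _)
    exact hp'.not_dvd_one ((Nat.dvd_add_right hpq).1 h1)

end Cfsg.Agent.S2471
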