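import Cfsg.Statements.S2474
import Cfsg.Agent.Lib.HallGen.PrimeGraphBC.Orthogonal

set_option autoImplicit false
open Cfsg

namespace Cfsg.Agent.S2474

/-- For q odd and n ≥ 3 the simple groups PΩ(2n+1,q) and PSp(2n,q) (which have the same order but different sets of element orders) have the same prime graph: for all distinct primes r, s, one of them has an element of order r·s if and only if the other does. -/
theorem result {F : Type*} [Field F] [Fintype F] (hodd : Odd (Fintype.card F)) (n : ℕ) (hn : 3 ≤ n) (r s : ℕ) (hr : r.Prime) (hs : s.Prime) (hrs : r ≠ s) :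
    (r * s ∈ Set.range (orderOf : Cfsg.POmega F (Cfsg.quadFormOdd n F) → ℕ)) ↔ (r * s ∈ Set.range (orderOf : Cfsg.PSp n F → ℕ)) := by
  classical
  obtain ⟨p, hchar⟩ := CharP.exists F
  haveI := hchar
  have hp : p.Prime := CharP.char_is_prime F p
  haveI := Fact.mk hp
  have h2 := CfsgLib.HallGen.PrimeGraphBC.two_ne hodd
  have hp2 : p ≠ 2 := fun h => h2 (by
    have := (CharP.cast_eq_zero_iff F p 2).2 (by rw [h])
    exact_mod_cast this)
  have hcast : ∀ k : ℕ, k.Prime → k ≠ p → (k : F) ≠ 0 := fun k hk hkp e =>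
    hkp ((Nat.prime_dvd_prime_iff_eq hp hk).1 ((CharP.cast_eq_zero_iff F p k).1 e)).symm
  open CfsgLib.HallGen.PrimeGraphBC CfsgLib.Classical.Quad CfsgLib.Known.OmegaCriterion in
  have hlift : ∀ M : ℕ, M ∈ Set.range (orderOf : Cfsg.POmega F (Cfsg.quadFormOdd n F) → ℕ) →
      ∃ g : OQ (qOdd n F), g ∈ commutator (OQ (qOdd n F)) ∧ orderOf g = M := by
    rintro M ⟨y, hy⟩
    obtain ⟨x, rfl⟩ := QuotientGroup.mk_surjective y
    obtain ⟨w, hw⟩ : ∃ w : Cfsg.Omega F ⇑(qOdd n F), orderOf w = M := by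
      rw [coe_qOdd]
      exact ⟨x ^ (orderOf x / M), orderOf_pow_orderOf_div (orderOf_pos x).ne'
        (hy ▸ orderOf_map_dvd (QuotientGroup.mk' _) x)⟩
    refine ⟨_, (omegaEquiv (qOdd n F) w).2, ?_⟩
    rw [Subgroup.orderOf_coe, MulEquiv.orderOf_eq, hw]
  open CfsgLib.HallGen.PrimeGraphBC CfsgLib.Classical.Quad CfsgLib.Known.OmegaCriterion in
  have hQ := qOdd_nondeg h2 n (F := F)
  have hdim : Module.finrank F (Unit ⊕ (Fin n ⊕ Fin n) → F) = 2 * n + 1 := by
    rw [Module.finrank_pi]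
    simp
    ring
  open CfsgLib.HallGen.PrimeGraphBC CfsgLib.Classical.Quad CfsgLib.Known.OmegaCriterion in
  have hR := reflGroup_eq_top hQ (Or.inr (by omega))
  open CfsgLib.HallGen.PrimeGraphBC in
  have key : ∀ a b : ℕ, a.Prime → b.Prime → a ≠ b → (a = 2 ∨ a = p ∧ b ≠ 2 ∨ (a ≠ p ∧ b ≠ p ∧ b ≠ 2 ∧ a ≠ 2)) →
      ((a * b ∈ Set.range (orderOf : Cfsg.POmega F (Cfsg.quadFormOdd n F) → ℕ)) ↔
        (a * b ∈ Set.range (orderOf : Cfsg.PSp n F → ℕ))) := by
    intro a b ha hb hab hcase
    rcases hcase with rfl | ⟨rfl, hb2⟩ | ⟨hap, hbp, hb2, ha2⟩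
    · by_cases hbp : b = p
      · subst hbp
        refine iff_of_true (orth_two_char_exists hodd hn hp2) ?_
        rw [mul_comm]
        refine psp_char_exists Nat.prime_two hp2 hp2 ⟨1, le_rfl, by omega, Or.inl ?_⟩
        obtain ⟨c, hc⟩ := hodd
        exact ⟨c + 1, by rw [pow_one]; omega⟩
      constructor
      · intro h
        obtain ⟨g, hg, hgo⟩ := hlift _ h
        exact psp_two_exists hodd (by omega) hb hab.symm
          (orth_two_cases hodd hQ hR (by omega) hdim hb hab.symm (hcast b hb hbp) g hg hgo)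
      · intro h
        exact orth_two_exists hodd hn hb hab.symm
          (psp_two_cases hodd (by omega) hb hab.symm (hcast b hb hbp) h)
    · constructor
      · intro h
        obtain ⟨g, -, hgo⟩ := hlift _ h
        exact psp_char_exists hb hab hp2 (orth_char_cases hodd hQ (by omega) hdim hb hb2 hab g hgo)
      · intro h
        exact orth_char_exists hodd hn hb hb2 hab (psp_char_cases hodd (by omega) hb hb2 hab hp2 h)
    · constructor
      · intro h
        obtain ⟨g, -, hgo⟩ := hlift _ h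
        exact psp_odd_exists ha hb hab ha2 hb2
          (orth_odd_cases hQ hdim ha hb hab ha2 hb2 (hcast a ha hap) (hcast b hb hbp) g hgo)
      · intro h
        exact orth_odd_exists hodd hn ha hb hab ha2 hb2
          (psp_odd_cases (by omega) ha hb hab ha2 hb2 (hcast a ha hap) (hcast b hb hbp) h)
  by_cases hr2 : r = 2
  · exact key r s hr hs hrs (Or.inl hr2)
  by_cases hs2 : s = 2
  · rw [mul_comm r s]
    exact key s r hs hr hrs.symm (Or.inl hs2)
  by_cases hrp : r = p
  · exact key r s hr hs hrs (Or.inr (Or.inl ⟨hrp, hs2⟩))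
  by_cases hsp : s = p
  · rw [mul_comm r s]
    exact key s r hs hr hrs.symm (Or.inr (Or.inl ⟨hsp, hr2⟩))
  exact key r s hr hs hrs (Or.inr (Or.inr ⟨hrp, hsp, hs2, hr2⟩))

end Cfsg.Agent.S2474
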