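import Cfsg.Statements.S2477
import Mathlib.GroupTheory.Perm.Cycle.PossibleTypes

set_option autoImplicit false
open Cfsg

namespace Cfsg.Agent.S2477

/-- One more cycle of length `a` added to a state (sum, lcm, parity). -/
def step (x : ℕ × ℕ × ℕ) (a : ℕ) : ℕ × ℕ × ℕ := (x.1 + a, Nat.lcm a x.2.1, (x.2.2 + a + 1) % 2)

def expand (l : List (ℕ × ℕ × ℕ)) : List (ℕ × ℕ × ℕ) :=
  (l ++ (l.flatMap fun x => ((List.range' 2 9).filter fun a => x.1 + a ≤ 10).map (step x))).dedup

def states : List (ℕ × ℕ × ℕ) := expand (expand (expand (expand (expand [(0, 1, 0)]))))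

def targets : List ℕ := [1, 2, 3, 4, 5, 6, 7, 8, 9, 10, 12, 15, 21]

theorem states_closed : ∀ x ∈ states, ∀ a ∈ List.range' 2 9, x.1 + a ≤ 10 → step x a ∈ states := by
  decide +kernel

theorem states_start : (0, 1, 0) ∈ states := by decide +kernel

theorem states_sound : ∀ x ∈ states, x.2.2 = 0 → x.2.1 ∈ targets := by decide +kernel

theorem mem_states (m : Multiset ℕ) :
    (∀ a ∈ m, 2 ≤ a) → m.sum ≤ 10 → (m.sum, m.lcm, (m.sum + Multiset.card m) % 2) ∈ states := by
  induction m using Multiset.induction_on with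
  | empty => intro _ _; simpa using states_start
  | cons a m ih =>
    intro h hs
    rw [Multiset.sum_cons] at hs
    have ha := h a (Multiset.mem_cons_self a m)
    have h1 := states_closed _ (ih (fun b hb => h b (Multiset.mem_cons_of_mem hb)) (by omega)) a
      (by rw [List.mem_range']; exact ⟨a - 2, by omega, by omega⟩) (by omega)
    rw [Multiset.sum_cons, Multiset.lcm_cons, Multiset.card_cons]
    have he : (a + m.sum + (Multiset.card m + 1)) % 2 = ((m.sum + Multiset.card m) % 2 + a + 1) % 2 := by omega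
    rw [he, add_comm a m.sum]
    exact h1

theorem exists_orderOf (m : Multiset ℕ) (hm : m.sum ≤ 10 ∧ ∀ a ∈ m, 2 ≤ a)
    (he : (m.sum + Multiset.card m) % 2 = 0) :
    ∃ g : alternatingGroup (Fin 10), orderOf g = m.lcm := by
  obtain ⟨σ, hσ⟩ := (Equiv.Perm.exists_with_cycleType_iff (Fin 10) (m := m)).2
    ⟨by simpa using hm.1, hm.2⟩
  have hsgn : Equiv.Perm.sign σ = 1 := by
    rw [Equiv.Perm.sign_of_cycleType, hσ]
    exact Even.neg_one_pow (Nat.even_iff.2 he)
  refine ⟨⟨σ, Equiv.Perm.mem_alternatingGroup.2 hsgn⟩, ?_⟩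
  rw [← Subgroup.orderOf_coe]
  show orderOf σ = m.lcm
  rw [← Equiv.Perm.lcm_cycleType, hσ]


/-- The set of element orders of the alternating group of degree 10 is {1, 2, 3, 4, 5, 6, 7, 8, 9, 10, 12, 15, 21}. -/
theorem result : Set.range (orderOf : alternatingGroup (Fin 10) → ℕ) = {1, 2, 3, 4, 5, 6, 7, 8, 9, 10, 12, 15, 21} := by
  apply Set.Subset.antisymm
  · rintro _ ⟨g, rfl⟩
    set σ : Equiv.Perm (Fin 10) := (g : Equiv.Perm (Fin 10))
    have hsum := Equiv.Perm.sum_cycleType_le σ
    rw [Fintype.card_fin] at hsum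
    have hsgn : Equiv.Perm.sign σ = 1 := Equiv.Perm.mem_alternatingGroup.1 g.2
    rw [Equiv.Perm.sign_of_cycleType, neg_one_pow_eq_one_iff_even (by decide), Nat.even_iff] at hsgn
    have h1 := states_sound _ (mem_states σ.cycleType (fun a ha => Equiv.Perm.two_le_of_mem_cycleType ha) hsum) hsgn
    simp only at h1
    rw [Equiv.Perm.lcm_cycleType] at h1
    have h2 : orderOf σ = orderOf g := Subgroup.orderOf_coe g
    rw [h2] at h1
    simpa [targets] using h1
  · intro n hn
    simp only [Set.mem_insert_iff, Set.mem_singleton_iff] at hn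
    obtain ⟨m, hm, he, hl⟩ : ∃ m : Multiset ℕ, (m.sum ≤ 10 ∧ ∀ a ∈ m, 2 ≤ a) ∧
        (m.sum + Multiset.card m) % 2 = 0 ∧ m.lcm = n := by
      rcases hn with rfl | rfl | rfl | rfl | rfl | rfl | rfl | rfl | rfl | rfl | rfl | rfl | rfl
      · exact ⟨0, by simp, by simp, by simp⟩
      · exact ⟨{2, 2}, by decide, by decide +kernel, by decide +kernel⟩
      · exact ⟨{3}, by decide, by decide +kernel, by decide +kernel⟩
      · exact ⟨{4, 2}, by decide, by decide +kernel, by decide +kernel⟩
      · exact ⟨{5}, by decide, by decide +kernel, by decide +kernel⟩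
      · exact ⟨{3, 2, 2}, by decide, by decide +kernel, by decide +kernel⟩
      · exact ⟨{7}, by decide, by decide +kernel, by decide +kernel⟩
      · exact ⟨{8, 2}, by decide, by decide +kernel, by decide +kernel⟩
      · exact ⟨{9}, by decide, by decide +kernel, by decide +kernel⟩
      · exact ⟨{5, 2, 2}, by decide, by decide +kernel, by decide +kernel⟩
      · exact ⟨{4, 3, 2}, by decide, by decide +kernel, by decide +kernel⟩
      · exact ⟨{5, 3}, by decide, by decide +kernel, by decide +kernel⟩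
      · exact ⟨{7, 3}, by decide, by decide +kernel, by decide +kernel⟩
    obtain ⟨g, hg⟩ := exists_orderOf m hm he
    exact ⟨g, hg.trans hl⟩

end Cfsg.Agent.S2477
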