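import Cfsg.Statements.S2485
import Cfsg.Agent.Lib.Classical.LinearOrder
import Cfsg.Agent.Lib.Classical.SL2Sylow

set_option linter.all false

set_option autoImplicit false
open scoped Pointwise
open Cfsg

namespace Cfsg.Agent.S2485

open Matrix

variable {F : Type*} [Field F]

local notation "G2" => GL (Fin 2) F
local notation "PG" => GL (Fin 2) F ⧸ Subgroup.center (GL (Fin 2) F)

theorem mk_eq_iff {a b : G2} :
    (QuotientGroup.mk a : PG) = QuotientGroup.mk b ↔
      ∃ c : F, (b : Matrix (Fin 2) (Fin 2) F) = c • (a : Matrix (Fin 2) (Fin 2) F) := by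
  rw [QuotientGroup.eq, GeneralLinearGroup.center_eq_range_scalar]
  constructor
  · rintro ⟨r, hr⟩
    refine ⟨r, ?_⟩
    have h1 : b = a * GeneralLinearGroup.scalar (Fin 2) r := by rw [hr, mul_inv_cancel_left]
    rw [h1, Units.val_mul]
    ext i j
    fin_cases i <;> fin_cases j <;> simp [Matrix.mul_apply, Fin.sum_univ_two] <;> ring
  · rintro ⟨c, hc⟩
    have hc0 : c ≠ 0 := fun h => by
      have := congrArg Matrix.det hc
      rw [h, zero_smul] at this
      simp at this
      exact ((Matrix.isUnit_iff_isUnit_det _).1 b.isUnit).ne_zero this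
    refine ⟨Units.mk0 c hc0, mul_left_cancel (a := a) ?_⟩
    rw [mul_inv_cancel_left]
    ext i j
    rw [hc]
    fin_cases i <;> fin_cases j <;> simp [Matrix.mul_apply, Fin.sum_univ_two] <;> ring

theorem mk_commute_of {a b : G2} {c : F}
    (h : (b : Matrix (Fin 2) (Fin 2) F) * a = c • ((a : Matrix (Fin 2) (Fin 2) F) * b)) :
    (QuotientGroup.mk a : PG) * QuotientGroup.mk b = QuotientGroup.mk b * QuotientGroup.mk a :=
  mk_eq_iff.2 ⟨c, by rw [Units.val_mul, Units.val_mul, h]⟩

/-- A common nontrivial neighbour of two elliptic involutions. -/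
theorem exists_common (h2 : (2 : F) ≠ 0) (hneg : ∀ c : F, c * c ≠ -1) {a b : G2} {A B : Matrix (Fin 2) (Fin 2) F}
    (ha : (a : Matrix (Fin 2) (Fin 2) F) = A) (hb : (b : Matrix (Fin 2) (Fin 2) F) = B)
    (hA : A.trace = 0) (hAd : A.det = 1) (hB : B.trace = 0) (hBd : B.det = 1) :
    ∃ w : PG, w ≠ 1 ∧ QuotientGroup.mk a * w = w * QuotientGroup.mk a ∧
      QuotientGroup.mk b * w = w * QuotientGroup.mk b := by
  have hns : ∀ {c : G2}, (c : Matrix (Fin 2) (Fin 2) F).trace = 0 → (QuotientGroup.mk c : PG) ≠ 1 := by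
    intro c hc h
    rw [← QuotientGroup.mk_one, eq_comm, mk_eq_iff] at h
    obtain ⟨r, hr⟩ := h
    rw [hr, Units.val_one, Matrix.trace_smul, Matrix.trace_one, Fintype.card_fin, smul_eq_mul,
      mul_eq_zero] at hc
    rcases hc with h0 | h0
    · have := congrArg Matrix.det hr
      rw [h0, zero_smul] at this
      simp at this
      exact ((Matrix.isUnit_iff_isUnit_det _).1 c.isUnit).ne_zero this
    · exact h2 (by exact_mod_cast h0)
  set W : Matrix (Fin 2) (Fin 2) F := A * B - B * A with hW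
  rw [Matrix.trace_fin_two] at hA hB
  rw [Matrix.det_fin_two] at hAd hBd
  have hA11 : A 1 1 = -A 0 0 := by linear_combination hA
  have hB11 : B 1 1 = -B 0 0 := by linear_combination hB
  rw [hA11] at hAd
  rw [hB11] at hBd
  by_cases hW0 : W = 0
  · exact ⟨QuotientGroup.mk a, hns (by rw [ha, Matrix.trace_fin_two, hA11, add_neg_cancel]), rfl,
      mk_commute_of (c := 1) (by rw [ha, hb, one_smul]; exact sub_eq_zero.1 (hW ▸ hW0))⟩
  have hWA : W * A = (-1 : F) • (A * W) := by
    ext i j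
    fin_cases i <;> fin_cases j <;>
      simp [hW, Matrix.mul_apply, Fin.sum_univ_two, hA11, hB11] <;> ring
  have hWB : W * B = (-1 : F) • (B * W) := by
    ext i j
    fin_cases i <;> fin_cases j <;>
      simp [hW, Matrix.mul_apply, Fin.sum_univ_two, hA11, hB11] <;> ring
  have hdW : W.det ≠ 0 := fun hd => by
    obtain ⟨v, hv0, hv⟩ := Matrix.exists_mulVec_eq_zero_iff.2 hd
    -- the kernel line is stable under `A`, which has no eigenvector
    have hWv : W.mulVec (A.mulVec v) = 0 := by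
      rw [Matrix.mulVec_mulVec, hWA, Matrix.smul_mulVec, ← Matrix.mulVec_mulVec, hv,
        Matrix.mulVec_zero, smul_zero]
    have e0 := congrFun hv 0
    have e1 := congrFun hv 1
    have f0 := congrFun hWv 0
    have f1 := congrFun hWv 1
    simp [Matrix.mulVec, dotProduct, Fin.sum_univ_two] at e0 e1 f0 f1
    -- `v` and `A v` are independent
    have hind : v 0 * (A 1 0 * v 0 + A 1 1 * v 1) - v 1 * (A 0 0 * v 0 + A 0 1 * v 1) ≠ 0 := by
      intro h
      rw [hA11] at h
      have hb10 : A 1 0 ≠ 0 := fun h0 => hneg (A 0 0) (by rw [h0] at hAd; linear_combination -hAd)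
      by_cases h1 : v 1 = 0
      · have h00 : v 0 ≠ 0 := fun h00 => hv0 (funext fun i => by fin_cases i <;> assumption)
        exact hb10 (by
          rw [h1] at h
          simpa [h00] using h)
      · exact hneg ((A 1 0 * v 0 - A 0 0 * v 1) / v 1) (by
          field_simp
          linear_combination A 1 0 * h - v 1 ^ 2 * hAd)
    have z : ∀ x y : F, x * v 0 + y * v 1 = 0 →
        x * (A 0 0 * v 0 + A 0 1 * v 1) + y * (A 1 0 * v 0 + A 1 1 * v 1) = 0 → x = 0 ∧ y = 0 :=
      fun x y h h' => ⟨(mul_eq_zero.1 (show x * _ = 0 by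
          linear_combination (A 1 0 * v 0 + A 1 1 * v 1) * h - v 1 * h')).resolve_right hind,
        (mul_eq_zero.1 (show y * _ = 0 by
          linear_combination v 0 * h' - (A 0 0 * v 0 + A 0 1 * v 1) * h)).resolve_right hind⟩
    apply hW0
    ext i j
    fin_cases i <;> fin_cases j
    exacts [(z _ _ e0 f0).1, (z _ _ e0 f0).2, (z _ _ e1 f1).1, (z _ _ e1 f1).2]
  obtain ⟨w, hw⟩ : ∃ w : G2, (w : Matrix (Fin 2) (Fin 2) F) = W :=
    ⟨GeneralLinearGroup.mkOfDetNeZero W hdW, rfl⟩
  exact ⟨QuotientGroup.mk w, hns (by rw [hw, hW, Matrix.trace_sub, Matrix.trace_mul_comm, sub_self]),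
    mk_commute_of (c := -1) (by rw [hw, ha]; exact hWA),
    mk_commute_of (c := -1) (by rw [hw, hb]; exact hWB)⟩

/-- The centraliser of the standard elliptic involution has order `2 (q + 1)`. -/
theorem card_centralizer [Fintype F] (h2 : (2 : F) ≠ 0) (hneg : ∀ c : F, c * c ≠ -1) (j : G2)
    (hj : (j : Matrix (Fin 2) (Fin 2) F) = !![0, -1; 1, 0]) :
    Nat.card (Subgroup.centralizer ({QuotientGroup.mk j} : Set PG)) = 2 * (Fintype.card F + 1) := by
  classical
  set K := (Subgroup.centralizer ({QuotientGroup.mk j} : Set PG)).comap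
    (QuotientGroup.mk' (Subgroup.center G2)) with hK
  have hmem : ∀ g : G2, g ∈ K ↔ ∃ c : F, (j : Matrix (Fin 2) (Fin 2) F) * g =
      c • ((g : Matrix (Fin 2) (Fin 2) F) * j) := fun g => by
    rw [hK, Subgroup.mem_comap, Subgroup.mem_centralizer_singleton_iff]
    exact Iff.trans mk_eq_iff (by simp only [Units.val_mul])
  -- the parametrisation
  have hd : ∀ v : {v : F × F // v ≠ 0}, v.1.1 * v.1.1 + v.1.2 * v.1.2 ≠ 0 := fun v h => by
    by_cases h1 : v.1.2 = 0
    · rw [h1, mul_zero, add_zero, mul_self_eq_zero] at h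
      exact v.2 (Prod.ext h h1)
    · exact hneg (v.1.1 / v.1.2) (by field_simp; linear_combination h)
  let M : Bool × {v : F × F // v ≠ 0} → Matrix (Fin 2) (Fin 2) F := fun x =>
    if x.1 then !![x.2.1.1, x.2.1.2; x.2.1.2, -x.2.1.1] else !![x.2.1.1, -x.2.1.2; x.2.1.2, x.2.1.1]
  have hMd : ∀ x, (M x).det ≠ 0 := by
    rintro ⟨_ | _, v⟩ h <;> simp [M, Matrix.det_fin_two_of] at h
    · exact hd v (by linear_combination h)
    · exact hd v (by linear_combination -h)
  let f : Bool × {v : F × F // v ≠ 0} → K := fun x => ⟨GeneralLinearGroup.mkOfDetNeZero (M x) (hMd x),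
    (hmem _).2 ⟨if x.1 then -1 else 1, by
      rcases x with ⟨_ | _, v⟩ <;> ext i l <;> fin_cases i <;> fin_cases l <;>
        simp [M, hj, GeneralLinearGroup.mkOfDetNeZero, Matrix.mul_apply, Fin.sum_univ_two]⟩⟩
  have hfv : ∀ x, ((f x : G2) : Matrix (Fin 2) (Fin 2) F) = M x := fun x => rfl
  have hinj : Function.Injective f := by
    rintro ⟨s, v⟩ ⟨s', v'⟩ h
    have h' := congrArg (fun g : K => ((g : G2) : Matrix (Fin 2) (Fin 2) F)) h
    simp only [hfv] at h'
    have e00 := congrFun (congrFun h' 0) 0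
    have e10 := congrFun (congrFun h' 1) 0
    have e01 := congrFun (congrFun h' 0) 1
    have e11 := congrFun (congrFun h' 1) 1
    rcases s <;> rcases s' <;> simp [M] at e00 e10 e01 e11
    · exact congrArg _ (Subtype.ext (Prod.ext e00 e10))
    · exact absurd (Prod.ext (mul_left_cancel₀ h2 (show 2 * v.1.1 = 2 * 0 by linear_combination e00 + e11))
        (mul_left_cancel₀ h2 (show 2 * v.1.2 = 2 * 0 by linear_combination e10 - e01))) v.2
    · exact absurd (Prod.ext (mul_left_cancel₀ h2 (show 2 * v.1.1 = 2 * 0 by linear_combination e00 - e11))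
        (mul_left_cancel₀ h2 (show 2 * v.1.2 = 2 * 0 by linear_combination e10 + e01))) v.2
    · exact congrArg _ (Subtype.ext (Prod.ext e00 e10))
  have hsurj : Function.Surjective f := by
    rintro ⟨g, hg⟩
    obtain ⟨c, hc⟩ := (hmem g).1 hg
    set A := (g : Matrix (Fin 2) (Fin 2) F) with hA
    have hgd : A.det ≠ 0 := ((Matrix.isUnit_iff_isUnit_det _).1 g.isUnit).ne_zero
    have hdc := congrArg Matrix.det hc
    rw [Matrix.det_smul, Matrix.det_mul, Matrix.det_mul, hj] at hdc
    simp [Matrix.det_fin_two_of] at hdc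
    have hc2 : c ^ 2 = 1 := mul_right_cancel₀ hgd (by linear_combination -hdc)
    have c00 := congrFun (congrFun hc 0) 0
    have c01 := congrFun (congrFun hc 0) 1
    simp [hj, Matrix.mul_apply, Fin.sum_univ_two] at c00 c01
    have hv : (A 0 0, A 1 0) ≠ 0 := fun h => hgd (by
      rw [Matrix.det_fin_two, (Prod.mk.inj h).1, (Prod.mk.inj h).2]; ring)
    rcases sq_eq_one_iff.1 hc2 with rfl | rfl
    · refine ⟨(false, ⟨_, hv⟩), Subtype.ext (Units.ext ?_)⟩
      rw [hfv]
      ext i l
      fin_cases i <;> fin_cases l <;> simp [M, ← hA] <;>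
        first | linear_combination c00 | linear_combination -c00 | linear_combination c01 | linear_combination -c01
    · refine ⟨(true, ⟨_, hv⟩), Subtype.ext (Units.ext ?_)⟩
      rw [hfv]
      ext i l
      fin_cases i <;> fin_cases l <;> simp [M, ← hA] <;>
        first | linear_combination c00 | linear_combination -c00 | linear_combination c01 | linear_combination -c01
  have hKc : Nat.card K = 2 * (Fintype.card F ^ 2 - 1) := by
    rw [← Nat.card_eq_of_bijective f ⟨hinj, hsurj⟩, Nat.card_prod, Nat.card_eq_fintype_card,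
      Fintype.card_bool, Nat.card_eq_fintype_card, Fintype.card_subtype_compl,
      Fintype.card_subtype_eq, Fintype.card_prod, pow_two]
  have hcz : Nat.card (Subgroup.center G2) = Fintype.card F - 1 := CfsgLib.Classical.card_center_GL
  have key : (Subgroup.centralizer ({QuotientGroup.mk j} : Set PG)).index * Nat.card K = Nat.card G2 := by
    rw [← Subgroup.index_comap_of_surjective _ (QuotientGroup.mk'_surjective _), ← hK,
      Subgroup.index_mul_card]
  rw [Subgroup.card_eq_card_quotient_mul_card_subgroup (Subgroup.center G2),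
    ← Subgroup.index_mul_card (Subgroup.centralizer ({QuotientGroup.mk j} : Set PG)), hcz, hKc,
    mul_assoc] at key
  have hpos : 0 < (Subgroup.centralizer ({QuotientGroup.mk j} : Set PG)).index :=
    Nat.pos_of_ne_zero Subgroup.index_ne_zero_of_finite
  have h1 := Nat.eq_of_mul_eq_mul_left hpos key
  have hq : 1 < Fintype.card F := Fintype.one_lt_card
  obtain ⟨d, hd'⟩ : ∃ d, Fintype.card F = d + 2 := ⟨Fintype.card F - 2, by omega⟩
  rw [hd'] at h1 ⊢
  refine Nat.eq_of_mul_eq_mul_right (show 0 < d + 2 - 1 by omega) ?_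
  have e2 : (d + 2) ^ 2 - 1 = (d + 2 + 1) * (d + 2 - 1) := by rw [← Nat.sq_sub_sq, one_pow]
  rw [e2] at h1
  linarith


/-- Let q = 2^k − 1 ≥ 7 be a prime and let G = PGL(2,q), the general linear group of degree 2 over the field with q elements modulo its centre. Then any two Sylow 2-subgroups of G have a non-trivial intersection: for a Sylow 2-subgroup H and every x ∈ G, H ∩ H^x ≠ 1. -/
theorem result {q k : ℕ} [Fact q.Prime] (hk : q + 1 = 2 ^ k) (hq : 7 ≤ q)
    (H : Sylow 2 (GL (Fin 2) (ZMod q) ⧸ Subgroup.center (GL (Fin 2) (ZMod q))))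
    (x : GL (Fin 2) (ZMod q) ⧸ Subgroup.center (GL (Fin 2) (ZMod q))) :
    (H : Subgroup (GL (Fin 2) (ZMod q) ⧸ Subgroup.center (GL (Fin 2) (ZMod q)))) ⊓ MulAut.conj x • (H : Subgroup _) ≠ ⊥ := by
  classical
  obtain ⟨k', rfl⟩ : ∃ k', k = k' + 2 := ⟨k - 2, by
    rcases k with _ | _ | k <;> simp at hk ⊢ <;> omega⟩
  have h2 : (2 : ZMod q) ≠ 0 := by
    intro h
    have : ((2 : ℕ) : ZMod q) = 0 := by exact_mod_cast h
    rw [ZMod.natCast_eq_zero_iff] at this
    have := Nat.le_of_dvd two_pos this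
    omega
  have hq4 : q % 4 = 3 := by
    have : 4 ∣ q + 1 := hk ▸ ⟨2 ^ k', by ring⟩
    omega
  have hneg : ∀ c : ZMod q, c * c ≠ -1 := fun c h => ZMod.mod_four_ne_three_of_sq_eq_neg_one (y := c) (by rw [pow_two, h]) hq4
  obtain ⟨j, hj⟩ : ∃ j : GL (Fin 2) (ZMod q), (j : Matrix (Fin 2) (Fin 2) (ZMod q)) = !![0, -1; 1, 0] :=
    ⟨Matrix.GeneralLinearGroup.mkOfDetNeZero !![0, -1; 1, 0] (by simp [Matrix.det_fin_two_of]), rfl⟩
  set C : Subgroup (GL (Fin 2) (ZMod q) ⧸ Subgroup.center (GL (Fin 2) (ZMod q))) := Subgroup.centralizer ({QuotientGroup.mk j} : Set (GL (Fin 2) (ZMod q) ⧸ Subgroup.center (GL (Fin 2) (ZMod q)))) with hC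
  have hCc : Nat.card C = 2 ^ (k' + 3) := by
    rw [hC, card_centralizer h2 hneg j hj, ZMod.card, hk, pow_succ' 2 (k' + 2)]
  have hG : Nat.card (GL (Fin 2) (ZMod q) ⧸ Subgroup.center (GL (Fin 2) (ZMod q))) = q * (q ^ 2 - 1) := by
    have h1 := Subgroup.card_eq_card_quotient_mul_card_subgroup (Subgroup.center (GL (Fin 2) (ZMod q)))
    rw [CfsgLib.Classical.card_center_GL, ← CfsgLib.Classical.card_SL_mul,
      CfsgLib.Classical.Two.card_SL_two, ZMod.card, mul_comm (q - 1)] at h1
    exact (Nat.eq_of_mul_eq_mul_right (by omega) h1).symm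
  have hfac : (Nat.card (GL (Fin 2) (ZMod q) ⧸ Subgroup.center (GL (Fin 2) (ZMod q)))).factorization 2 = k' + 3 := by
    obtain ⟨m, hm, hm1⟩ : ∃ m, m % 2 = 1 ∧ q * (q ^ 2 - 1) = 2 ^ (k' + 3) * m := by
      refine ⟨q * ((q - 1) / 2), ?_, ?_⟩
      · rw [Nat.mul_mod]
        have : q % 2 = 1 := by omega
        have : ((q - 1) / 2) % 2 = 1 := by omega
        simp [*]
      · obtain ⟨r, hr⟩ : ∃ r, q = 2 * r + 1 := ⟨q / 2, by omega⟩
        have e : (q ^ 2 - 1) = (q + 1) * (q - 1) := by rw [← Nat.sq_sub_sq, one_pow]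
        rw [e, hk, hr, Nat.add_sub_cancel, Nat.mul_div_cancel_left _ two_pos, pow_succ 2 (k' + 2)]
        ring
    have hm0 : m ≠ 0 := by omega
    rw [hG, hm1, Nat.factorization_mul (by positivity) hm0, Finsupp.add_apply,
      Nat.Prime.factorization_pow Nat.prime_two, Finsupp.single_eq_same,
      Nat.factorization_eq_zero_of_not_dvd (by omega), add_zero]
  set P : Sylow 2 (GL (Fin 2) (ZMod q) ⧸ Subgroup.center (GL (Fin 2) (ZMod q))) := Sylow.ofCard C (by rw [hCc, hfac]) with hP
  obtain ⟨g, hg⟩ := MulAction.exists_smul_eq (GL (Fin 2) (ZMod q) ⧸ Subgroup.center (GL (Fin 2) (ZMod q))) P H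
  obtain ⟨y₀, hy₀⟩ := QuotientGroup.mk_surjective (g⁻¹ * x * g)
  set y := g⁻¹ * x * g with hy
  obtain ⟨w, hw1, hwa, hwb⟩ := exists_common (a := j) (b := y₀ * j * y₀⁻¹) h2 hneg hj rfl
    (by simp [Matrix.trace_fin_two]) (by simp [Matrix.det_fin_two_of])
    (by rw [Units.val_mul, Matrix.trace_mul_comm, ← Units.val_mul, inv_mul_cancel_left, hj]; simp [Matrix.trace_fin_two])
    (by
      rw [Units.val_mul, Units.val_mul, Matrix.det_mul, Matrix.det_mul, mul_right_comm, ← Matrix.det_mul,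
        Units.mul_inv, Matrix.det_one, one_mul, hj]
      simp [Matrix.det_fin_two_of])
  intro hbot
  have hH : (H : Subgroup (GL (Fin 2) (ZMod q) ⧸ Subgroup.center (GL (Fin 2) (ZMod q)))) = MulAut.conj g • C := by rw [← hg]; rfl
  have hmem : MulAut.conj g w ∈ (H : Subgroup (GL (Fin 2) (ZMod q) ⧸ Subgroup.center (GL (Fin 2) (ZMod q)))) ⊓ MulAut.conj x • (H : Subgroup (GL (Fin 2) (ZMod q) ⧸ Subgroup.center (GL (Fin 2) (ZMod q)))) := by
    refine Subgroup.mem_inf.2 ⟨?_, ?_⟩
    · rw [hH]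
      exact Subgroup.smul_mem_pointwise_smul _ _ _ (Subgroup.mem_centralizer_singleton_iff.2 hwa.symm)
    · rw [hH, Subgroup.mem_pointwise_smul_iff_inv_smul_mem, Subgroup.mem_pointwise_smul_iff_inv_smul_mem]
      refine Subgroup.mem_centralizer_singleton_iff.2 ?_
      have e : (MulAut.conj g)⁻¹ • (MulAut.conj x)⁻¹ • MulAut.conj g w = y⁻¹ * w * y := by
        rw [hy]
        simp only [MulAut.smul_def, ← map_inv, MulAut.conj_apply]
        group
      rw [e]
      have hwb' : y * QuotientGroup.mk j * y⁻¹ * w = w * (y * QuotientGroup.mk j * y⁻¹) := by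
        rw [← hy₀]; exact hwb
      generalize (QuotientGroup.mk j : (GL (Fin 2) (ZMod q) ⧸ Subgroup.center (GL (Fin 2) (ZMod q)))) = z at hwb' ⊢
      calc y⁻¹ * w * y * z = y⁻¹ * (w * (y * z * y⁻¹)) * y := by group
        _ = y⁻¹ * (y * z * y⁻¹ * w) * y := by rw [hwb']
        _ = z * (y⁻¹ * w * y) := by group
  exact hw1 ((MulEquiv.map_eq_one_iff _).1 (Subgroup.mem_bot.1 (le_of_eq hbot hmem)))

end Cfsg.Agent.S2485
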