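import Cfsg.Statements.S2488
import Cfsg.Agent.Lib.Transfer.Tate
import Mathlib.GroupTheory.SpecificGroups.Alternating.Simple
import Mathlib.GroupTheory.Perm.Centralizer

set_option autoImplicit false
open Cfsg
open scoped Pointwise

namespace Cfsg.Agent.S2488

open Subgroup

theorem card_A6 : Nat.card (alternatingGroup (Fin 6)) = 360 := by
  have h := two_mul_nat_card_alternatingGroup (α := Fin 6)
  rw [Nat.card_perm, Nat.card_fin] at h
  have : (6 : ℕ).factorial = 720 := rfl
  omega

/-- An involution of `A₆` has centralizer of order at most `8`. -/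
theorem card_centralizer_involution {a : alternatingGroup (Fin 6)} (ha : orderOf a = 2) :
    Nat.card (centralizer ({a} : Set (alternatingGroup (Fin 6)))) ≤ 8 := by
  set σ : Equiv.Perm (Fin 6) := (a : Equiv.Perm (Fin 6)) with hσ
  have hord : orderOf σ = 2 := by rw [hσ, Subgroup.orderOf_coe, ha]
  obtain ⟨k, hk⟩ := Equiv.Perm.cycleType_prime_order (hord.symm ▸ Nat.prime_two)
  rw [hord] at hk
  have hsum := σ.sum_cycleType_le
  rw [hk, Multiset.sum_replicate, Fintype.card_fin, smul_eq_mul] at hsum
  have hsign := Equiv.Perm.sign_of_cycleType σ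
  rw [Equiv.Perm.mem_alternatingGroup.1 a.2, hk, Multiset.sum_replicate, Multiset.card_replicate,
    smul_eq_mul] at hsign
  have hk1 : k = 1 := by
    have hle : k ≤ 2 := by omega
    interval_cases k
    · exact absurd hsign (by decide)
    · rfl
    · exact absurd hsign (by decide)
  have hcent : Nat.card (centralizer ({σ} : Set (Equiv.Perm (Fin 6)))) = 16 := by
    rw [Equiv.Perm.nat_card_centralizer, hk, hk1]
    decide
  -- the transposition of the two fixed points
  have hsupp : σ.support.card = 4 := by
    rw [← σ.sum_cycleType, hk, hk1]; rfl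
  obtain ⟨x, y, hxy, hc⟩ : ∃ x y, x ≠ y ∧ (σ.supportᶜ : Finset (Fin 6)) = {x, y} := by
    refine Finset.card_eq_two.1 ?_
    rw [Finset.card_compl, hsupp, Fintype.card_fin]
  have hfix : ∀ z ∈ ({x, y} : Finset (Fin 6)), σ z = z := fun z hz => by
    rw [← hc, Finset.mem_compl, Equiv.Perm.mem_support, not_not] at hz
    exact hz
  have hτ : Equiv.swap x y ∈ centralizer ({σ} : Set (Equiv.Perm (Fin 6))) := by
    refine mem_centralizer_singleton_iff.2 ?_
    rw [Equiv.mul_swap_eq_swap_mul, hfix x (by simp), hfix y (by simp)]
  set C := centralizer ({σ} : Set (Equiv.Perm (Fin 6))) with hC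
  set M := (centralizer ({a} : Set (alternatingGroup (Fin 6)))).map
    (alternatingGroup (Fin 6)).subtype with hM
  have hle : M ≤ C := by
    rintro _ ⟨c, hc, rfl⟩
    exact mem_centralizer_singleton_iff.2
      (congrArg Subtype.val (mem_centralizer_singleton_iff.1 hc))
  have hlt : M ≠ C := fun he => by
    have : Equiv.swap x y ∈ alternatingGroup (Fin 6) := by
      obtain ⟨c, -, hc⟩ := (he.symm ▸ hτ : Equiv.swap x y ∈ M)
      exact hc ▸ c.2
    rw [Equiv.Perm.mem_alternatingGroup, Equiv.Perm.sign_swap hxy] at this
    exact absurd this (by decide)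
  rw [← card_subtype, ← hM]
  obtain ⟨q, hq⟩ := Subgroup.card_dvd_of_le hle
  rcases Nat.lt_or_ge q 2 with h | h
  · exfalso
    interval_cases q
    · rw [mul_zero] at hq; exact Nat.card_pos.ne' hq
    · exact hlt (eq_of_le_of_card_ge hle (by rw [hq, mul_one]))
  · rw [hcent] at hq
    nlinarith

/-- An element of odd order in `A₆` has order `1`, `3` or `5`. -/
theorem orderOf_of_odd (a : alternatingGroup (Fin 6)) (ha : Odd (orderOf a)) :
    orderOf a = 1 ∨ orderOf a = 3 ∨ orderOf a = 5 := by
  rw [← Subgroup.orderOf_coe] at ha ⊢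
  set σ : Equiv.Perm (Fin 6) := (a : Equiv.Perm (Fin 6))
  have hparts : ∀ m ∈ σ.cycleType, m = 3 ∨ m = 5 := by
    intro m hm
    have h2 := Equiv.Perm.two_le_of_mem_cycleType hm
    have h6 : m ≤ 6 := (Multiset.le_sum_of_mem hm).trans
      (σ.sum_cycleType_le.trans (Fintype.card_fin 6).le)
    have hodd : Odd m := ha.of_dvd_nat (Equiv.Perm.dvd_of_mem_cycleType hm)
    rw [Nat.odd_iff] at hodd
    omega
  rw [← Equiv.Perm.lcm_cycleType]
  by_cases h5 : 5 ∈ σ.cycleType
  · right; right
    obtain ⟨t, ht⟩ := Multiset.exists_cons_of_mem h5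
    have hs := σ.sum_cycleType_le
    rw [ht, Multiset.sum_cons, Fintype.card_fin] at hs
    have : t = 0 := Multiset.eq_zero_of_forall_notMem fun m hm => by
      have h1 := Multiset.le_sum_of_mem hm
      have h2 := Equiv.Perm.two_le_of_mem_cycleType (σ := σ) (ht ▸ Multiset.mem_cons_of_mem hm)
      omega
    rw [ht, this]
    simp
  · have h3 : σ.cycleType.lcm ∣ 3 := Multiset.lcm_dvd.2 fun m hm => by
      rcases hparts m hm with rfl | rfl
      · exact dvd_rfl
      · exact absurd hm h5
    rcases (Nat.dvd_prime Nat.prime_three).1 h3 with h | h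
    · exact Or.inl h
    · exact Or.inr (Or.inl h)

variable {K : Type*} [Group K] [Finite K] [IsSimpleGroup K]

/-- The normalizer of an abelian Sylow subgroup of a nonabelian simple group does more than
centralize it. -/
theorem not_normalizer_le_centralizer {p : ℕ} [Fact p.Prime] (P : Sylow p K)
    (hP1 : (P : Subgroup K) ≠ ⊥) (hPt : (P : Subgroup K) ≠ ⊤) :
    ¬ normalizer ((P : Subgroup K) : Set K) ≤ centralizer ((P : Subgroup K) : Set K) := by
  intro h
  have hc := MonoidHom.ker_transferSylow_isComplement' P h
  rcases (inferInstance : ((MonoidHom.transferSylow P h).ker).Normal).eq_bot_or_eq_top with h' | h'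
  · rw [h', isComplement'_bot_left] at hc
    exact hPt hc
  · rw [h', isComplement'_top_left] at hc
    exact hP1 hc

/-- In a simple group of order `360` a Sylow `3`-normalizer has order divisible by `4`. -/
theorem four_dvd_normalizer (hK : Nat.card K = 360) [Fact (Nat.Prime 3)] (P : Sylow 3 K) :
    4 ∣ Nat.card (normalizer ((P : Subgroup K) : Set K)) := by
  have hf : (Nat.card K).factorization 3 = 2 := by
    rw [hK, show (360 : ℕ) = 3 ^ 2 * 40 from rfl, Nat.factorization_mul (by norm_num) (by norm_num),
      Finsupp.add_apply, Nat.Prime.factorization_pow Nat.prime_three, Finsupp.single_eq_same,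
      Nat.factorization_eq_zero_of_not_dvd (by norm_num : ¬ 3 ∣ 40)]
  have hPc : Nat.card (P : Subgroup K) = 9 := by
    rw [P.card_eq_multiplicity, hf]; rfl
  set N := normalizer ((P : Subgroup K) : Set K)
  have h1 : Nat.card (Sylow 3 K) ≡ 1 [MOD 3] := card_sylow_modEq_one 3 K
  rw [P.card_eq_index_normalizer] at h1
  have hle : (P : Subgroup K) ≤ N := le_normalizer
  have h9 : 9 ∣ Nat.card N := hPc ▸ card_dvd_of_le hle
  have hmul := N.card_mul_index
  rw [hK] at hmul
  obtain ⟨m, hm⟩ := h9
  have hidx : m * N.index = 40 := by rw [hm, mul_assoc] at hmul; omega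
  have hdvd : m ∣ 40 := Dvd.intro _ hidx
  have hm40 : m ≤ 40 := Nat.le_of_dvd (by norm_num) hdvd
  replace h1 : N.index % 3 = 1 := h1
  rw [hm]
  by_contra h4
  have hcases : (m = 1 ∧ N.index = 40) ∨ (m = 10 ∧ N.index = 4) := by
    interval_cases m <;> first
      | omega
      | (norm_num at hdvd)
  rcases hcases with ⟨hm1, -⟩ | ⟨-, hi⟩
  · have heq : (P : Subgroup K) = N :=
      eq_of_le_of_card_ge hle (by rw [hm, hm1, hPc])
    have hcomm : IsMulCommutative (P : Subgroup K) :=
      IsPGroup.isMulCommutative_of_card_eq_prime_sq (p := 3) (by rw [hPc]; rfl)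
    refine not_normalizer_le_centralizer P ?_ ?_ ?_
    · intro hb; rw [hb, card_bot] at hPc; norm_num at hPc
    · intro ht; rw [ht, card_top, hK] at hPc; norm_num at hPc
    · refine heq.ge.trans ?_
      intro a ha
      exact mem_centralizer_iff.2 fun b hb =>
        congrArg Subtype.val (hcomm.is_comm.comm (⟨b, hb⟩ : (P : Subgroup K)) ⟨a, ha⟩)
  · rcases N.normalCore_normal.eq_bot_or_eq_top with h | h
    · rw [normalCore_eq_ker, MonoidHom.ker_eq_bot_iff] at h
      have := Nat.card_le_card_of_injective _ h
      rw [hK, Nat.card_perm, ← index_eq_card, hi] at this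
      norm_num [Nat.factorial] at this
    · have := N.normalCore_le
      rw [h, top_le_iff] at this
      rw [this, index_top] at hi
      norm_num at hi

variable {G : Type*} [Group G] [Finite G]

omit [Finite G] in
theorem centralizer_map_card_le (N : Subgroup G) (a : N) :
    Nat.card (centralizer ({(a : G)} : Set G) ⊓ N : Subgroup G) ≤
      Nat.card (centralizer ({a} : Set N)) ∨ Infinite G := by
  rcases finite_or_infinite G with h | h
  · left
    rw [← card_subtype N (centralizer ({a} : Set N))]
    refine card_le_of_le ?_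
    rintro c ⟨hc, hcN⟩
    exact ⟨⟨c, hcN⟩, mem_centralizer_singleton_iff.2
      (Subtype.ext (mem_centralizer_singleton_iff.1 hc)), rfl⟩
  · exact Or.inr h

/-- Let G be a finite group with a normal subgroup N of index 4 isomorphic to the alternating group of degree 6 and with trivial centralizer in G (so G is the full automorphism group of A₆). Then any two Sylow 2-subgroups of G have a non-trivial intersection: for a Sylow 2-subgroup H and every x ∈ G, H ∩ H^x ≠ 1. -/
theorem result {G : Type*} [Group G] [Finite G] (N : Subgroup G) [N.Normal]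
    (e : N ≃* alternatingGroup (Fin 6)) (hidx : N.index = 4)
    (hC : Subgroup.centralizer (N : Set G) = ⊥)
    (H : Sylow 2 G) (x : G) :
    (H : Subgroup G) ⊓ MulAut.conj x • (H : Subgroup G) ≠ ⊥ := by
  have : Fact (Nat.Prime 2) := ⟨Nat.prime_two⟩
  have : IsSimpleGroup (alternatingGroup (Fin 6)) :=
    alternatingGroup.isSimpleGroup (by rw [Nat.card_fin]; norm_num)
  have : Nontrivial N := e.toEquiv.nontrivial
  have : IsSimpleGroup N :=
    IsSimpleGroup.isSimpleGroup_of_surjective e.symm.toMonoidHom e.symm.surjective
  have hN : Nat.card N = 360 := by rw [Nat.card_congr e.toEquiv, card_A6]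
  have hG : Nat.card G = 1440 := by rw [← N.card_mul_index, hN, hidx]
  have hH : Nat.card (H : Subgroup G) = 32 := by
    rw [H.card_eq_multiplicity, hG, show (1440 : ℕ) = 2 ^ 5 * 45 from rfl,
      Nat.factorization_mul (by norm_num) (by norm_num), Finsupp.add_apply,
      Nat.Prime.factorization_pow Nat.prime_two, Finsupp.single_eq_same,
      Nat.factorization_eq_zero_of_not_dvd (by norm_num : ¬ 2 ∣ 45)]
    rfl
  -- the central involution
  have hne : ((H : Subgroup G) ⊓ N).subgroupOf (H : Subgroup G) ≠ ⊥ := by
    intro h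
    rw [subgroupOf_eq_bot, disjoint_iff, inf_comm, ← inf_assoc, inf_idem, inf_comm] at h
    have h1 := relIndex_dvd_index_of_normal N (H : Subgroup G)
    rw [← inf_relIndex_right, h, relIndex_bot_left, hH, hidx] at h1
    norm_num at h1
  have : (((H : Subgroup G) ⊓ N).subgroupOf (H : Subgroup G)).Normal := by
    rw [inf_comm, inf_subgroupOf_right]
    exact Normal.subgroupOf inferInstance _
  obtain ⟨z₀, hz₀, hz₀c, hz₀o⟩ :=
    CfsgLib.Transfer.exists_mem_center_orderOf_eq H.isPGroup' hne
  set z : G := (z₀ : G) with hzdef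
  have hzN : z ∈ N := (mem_subgroupOf.1 hz₀).2
  have hzo : orderOf z = 2 := by rw [hzdef, Subgroup.orderOf_coe, hz₀o]
  have hHz : (H : Subgroup G) = centralizer ({z} : Set G) := by
    refine eq_of_le_of_card_ge (fun h hh => mem_centralizer_singleton_iff.2 ?_) ?_
    · exact congrArg Subtype.val (mem_center_iff.1 hz₀c ⟨h, hh⟩)
    · set C := centralizer ({z} : Set G)
      have h1 : N.relIndex C ∣ 4 := hidx ▸ relIndex_dvd_index_of_normal N C
      have h2 : (N ⊓ C).relIndex C = N.relIndex C := inf_relIndex_right _ _
      have h3 := relIndex_mul_relIndex ⊥ (N ⊓ C) C bot_le inf_le_right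
      rw [relIndex_bot_left, relIndex_bot_left, h2] at h3
      rw [← h3, hH]
      have h4 : Nat.card (N ⊓ C : Subgroup G) ≤ 8 := by
        rw [inf_comm]
        rcases centralizer_map_card_le N ⟨z, hzN⟩ with h | h
        · refine h.trans ?_
          have hcong : Nat.card (centralizer ({(⟨z, hzN⟩ : N)} : Set N)) =
              Nat.card (centralizer ({e ⟨z, hzN⟩} : Set (alternatingGroup (Fin 6)))) := by
            rw [← card_map_of_injective (f := e.toMonoidHom) e.injective]
            congr 2
            ext c
            constructor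
            · rintro ⟨d, hd, rfl⟩
              exact mem_centralizer_singleton_iff.2 (by
                show e d * e _ = e _ * e d
                rw [← map_mul, ← map_mul, mem_centralizer_singleton_iff.1 hd])
            · intro hc
              refine ⟨e.symm c, mem_centralizer_singleton_iff.2 (e.injective ?_), by simp⟩
              rw [map_mul, map_mul, e.apply_symm_apply]
              exact mem_centralizer_singleton_iff.1 hc
          rw [hcong]
          refine card_centralizer_involution ?_
          rw [e.orderOf_eq, ← orderOf_coe]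
          exact hzo
        · exact absurd h (not_infinite_iff_finite.2 inferInstance)
      calc Nat.card (N ⊓ C : Subgroup G) * N.relIndex C ≤ 8 * 4 :=
            Nat.mul_le_mul h4 (Nat.le_of_dvd (by norm_num) h1)
        _ = 32 := by norm_num
  -- a common nontrivial centralizing element
  set z' : G := x * z * x⁻¹ with hz'
  suffices ∃ t : G, t ≠ 1 ∧ Commute t z ∧ Commute t z' by
    obtain ⟨t, ht1, htz, htz'⟩ := this
    intro hbot
    refine ht1 ((eq_bot_iff_forall _).1 hbot t ⟨?_, ?_⟩)
    · show t ∈ (H : Subgroup G)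
      rw [hHz]; exact mem_centralizer_singleton_iff.2 htz
    · show t ∈ MulAut.conj x • (H : Subgroup G)
      rw [Subgroup.mem_pointwise_smul_iff_inv_smul_mem]
      show (MulAut.conj x)⁻¹ • t ∈ (H : Subgroup G)
      rw [hHz, mem_centralizer_singleton_iff, MulAut.smul_def, MulAut.inv_def, MulAut.conj_symm_apply]
      have := congrArg (fun g => x⁻¹ * g * x) htz'.eq
      simpa [hz', mul_assoc] using this
  have hz'o : orderOf z' = 2 := by rw [hz', ← MulAut.conj_apply, MulEquiv.orderOf_eq, hzo]
  have hz2 : z * z = 1 := by rw [← sq, ← hzo, pow_orderOf_eq_one]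
  have hz'2 : z' * z' = 1 := by rw [← sq, ← hz'o, pow_orderOf_eq_one]
  have hz1 : z ≠ 1 := fun h => by rw [h, orderOf_one] at hzo; norm_num at hzo
  set w := z * z' with hw
  have hwN : w ∈ N := N.mul_mem hzN (Normal.conj_mem inferInstance z hzN x)
  have hzw : z * w * z⁻¹ = w⁻¹ := by
    rw [hw, mul_inv_rev, inv_eq_of_mul_eq_one_right hz'2, inv_eq_of_mul_eq_one_right hz2,
      ← mul_assoc z z z', hz2, one_mul]
  have hfin : ∀ t : G, Commute t z → Commute t w → Commute t z' := fun t h1 h2 => by
    have : z' = z * w := by rw [hw, ← mul_assoc, hz2, one_mul]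
    rw [this]; exact h1.mul_right h2
  rcases Nat.even_or_odd (orderOf w) with ⟨j, hj⟩ | hodd
  · have hj0 : 0 < j := by have := orderOf_pos w; omega
    have hcz : Commute (w ^ j) z := by
      have h1 : z * w ^ j * z⁻¹ = w ^ j := by
        rw [← conj_pow, hzw, inv_pow]
        refine inv_eq_of_mul_eq_one_right ?_
        rw [← pow_add, ← hj, pow_orderOf_eq_one]
      exact (mul_inv_eq_iff_eq_mul.1 h1).symm
    refine ⟨w ^ j, fun h => ?_, hcz, hfin _ hcz ((Commute.refl w).pow_left j)⟩
    have := orderOf_dvd_of_pow_eq_one h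
    have := Nat.le_of_dvd hj0 this
    omega
  by_cases hw1 : w = 1
  · refine ⟨z, hz1, Commute.refl z, hfin z (Commute.refl z) ?_⟩
    rw [hw1]; exact Commute.one_right z
  set C := centralizer ({w} : Set G) with hCdef
  -- the centralizer of `w` has even order
  have hCeven : 2 ∣ Nat.card C := by
    by_contra hne2
    have hCN : C ≤ N := by
      have h1 : N.relIndex C ∣ 4 := hidx ▸ relIndex_dvd_index_of_normal N C
      have h2 : N.relIndex C ∣ Nat.card C := relIndex_dvd_card N C
      have h3 : N.relIndex C = 1 := by
        have hcop : (Nat.card C).Coprime 4 :=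
          (show (Nat.card C).Coprime (2 ^ 2) from
            (((Nat.prime_two.coprime_iff_not_dvd).2 hne2).symm).pow_right 2)
        exact Nat.eq_one_of_dvd_coprimes hcop h2 h1
      exact relIndex_eq_one.1 h3
    set wN : N := ⟨w, hwN⟩ with hwNdef
    have how : orderOf wN = 1 ∨ orderOf wN = 3 ∨ orderOf wN = 5 := by
      rw [← e.orderOf_eq]
      refine orderOf_of_odd _ ?_
      rw [e.orderOf_eq, ← orderOf_coe]
      exact hodd
    have key : ∀ (q : ℕ) [Fact q.Prime], orderOf wN = q → False := by
      intro q hq ho
      have hp : IsPGroup q (zpowers wN) := IsPGroup.of_card (n := 1) (by rw [Nat.card_zpowers, ho, pow_one])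
      obtain ⟨P, hP⟩ := hp.exists_le_sylow
      have hwP : wN ∈ (P : Subgroup N) := hP (mem_zpowers wN)
      set Q := (P : Subgroup N).map N.subtype
      set M := normalizer (Q : Set G)
      have hfr : M ⊔ N = ⊤ := Sylow.normalizer_sup_eq_top P
      have hMN : M ⊓ N = (normalizer ((P : Subgroup N) : Set N)).map N.subtype := by
        ext g
        constructor
        · rintro ⟨hg, hgN⟩
          refine ⟨⟨g, hgN⟩, mem_normalizer_iff.2 fun k => ?_, rfl⟩
          have := mem_normalizer_iff.1 hg (k : G)
          simp only [Q, mem_map] at this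
          constructor
          · intro hk
            obtain ⟨l, hl, hlk⟩ := this.1 ⟨k, hk, rfl⟩
            exact (Subtype.ext hlk : l = ⟨g, hgN⟩ * k * ⟨g, hgN⟩⁻¹) ▸ hl
          · intro hk
            obtain ⟨l, hl, hlk⟩ := this.2 ⟨_, hk, rfl⟩
            exact (Subtype.ext hlk : l = k) ▸ hl
        · rintro ⟨g, hg, rfl⟩
          exact ⟨le_normalizer_map (f := N.subtype) ⟨g, hg, rfl⟩, g.2⟩
      have hcard : Nat.card M = 4 * Nat.card (normalizer ((P : Subgroup N) : Set N)) := by
        have h1 : N.relIndex M = 4 := by
          rw [← relIndex_sup_right, hfr, relIndex_top_right, hidx]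
        have h3 := relIndex_mul_relIndex ⊥ (M ⊓ N) M bot_le inf_le_left
        rw [relIndex_bot_left, relIndex_bot_left, inf_comm, inf_relIndex_right, inf_comm, h1,
          hMN, card_subtype] at h3
        rw [← h3, mul_comm]
      have hwQ : w ∈ Q := ⟨wN, hwP, rfl⟩
      -- orbit of `w` under `M`
      set C' := C.subgroupOf M with hC'
      have horb : C'.index ≤ Nat.card Q - 1 := by
        let f : M ⧸ C' → {a : Q // a ≠ 1} := Quotient.lift
          (fun m : M => (⟨⟨(m : G) * w * (m : G)⁻¹, (mem_normalizer_iff.1 m.2 w).1 hwQ⟩, fun h =>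
            hw1 (by simpa using congrArg Subtype.val h)⟩ : {a : Q // a ≠ 1})) (by
            intro a b hab
            have hab' : (a : G)⁻¹ * b * w = w * ((a : G)⁻¹ * b) :=
              mem_centralizer_singleton_iff.1 (QuotientGroup.leftRel_apply.1 hab :)
            refine Subtype.ext (Subtype.ext ?_)
            show (a : G) * w * (a : G)⁻¹ = b * w * (b : G)⁻¹
            have : (b : G) * w = a * w * ((a : G)⁻¹ * b) := by
              rw [mul_assoc (a : G) w, ← hab', ← mul_assoc (a : G), mul_inv_cancel_left]
            rw [this]; group)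
        have hf : Function.Injective f := by
          rintro ⟨a⟩ ⟨b⟩ hab
          refine Quotient.sound (QuotientGroup.leftRel_apply.2 (mem_centralizer_singleton_iff.2 ?_))
          have h1 : (a : G) * w * (a : G)⁻¹ = b * w * (b : G)⁻¹ :=
            congrArg (fun z : {a : Q // a ≠ 1} => ((z.1 : Q) : G)) hab
          show (a : G)⁻¹ * b * w = w * ((a : G)⁻¹ * b)
          calc (a : G)⁻¹ * b * w = (a : G)⁻¹ * (b * w * (b : G)⁻¹) * b := by group
            _ = w * ((a : G)⁻¹ * b) := by rw [← h1]; group
        rw [index_eq_card]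
        refine (Nat.card_le_card_of_injective f hf).trans (le_of_eq ?_)
        classical
        have := Fintype.ofFinite Q
        rw [Nat.card_eq_fintype_card, Nat.card_eq_fintype_card, Fintype.card_subtype_compl,
          Fintype.card_subtype_eq]
      have hC'odd : ¬ 2 ∣ Nat.card C' := by
        intro h
        refine hne2 (h.trans ?_)
        rw [← card_subtype M C']
        exact card_dvd_of_le (map_comap_le _ _)
      have hQc : Nat.card Q = q ^ (Nat.card N).factorization q := by
        rw [card_subtype, P.card_eq_multiplicity]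
      have hmul := C'.card_mul_index
      rcases how with h | h | h <;> rw [h] at ho
      · exact hq.out.ne_one ho.symm
      · subst ho
        have h4 := four_dvd_normalizer hN P
        rw [hQc, hN, show (360 : ℕ) = 3 ^ 2 * 40 from rfl,
          Nat.factorization_mul (by norm_num) (by norm_num), Finsupp.add_apply,
          Nat.Prime.factorization_pow Nat.prime_three, Finsupp.single_eq_same,
          Nat.factorization_eq_zero_of_not_dvd (by norm_num : ¬ 3 ∣ 40)] at horb
        have h16 : 2 ^ 4 ∣ C'.index := by
          refine (Nat.Coprime.pow_left 4 ((Nat.prime_two.coprime_iff_not_dvd).2 hC'odd)).dvd_of_dvd_mul_left ?_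
          rw [hmul, hcard]
          exact mul_dvd_mul_left 4 h4
        have := Nat.le_of_dvd (Nat.pos_of_ne_zero index_ne_zero_of_finite) h16
        norm_num at horb this
        omega
      · subst ho
        rw [hQc, hN, show (360 : ℕ) = 5 ^ 1 * 72 from rfl,
          Nat.factorization_mul (by norm_num) (by norm_num), Finsupp.add_apply,
          Nat.Prime.factorization_pow (by decide : Nat.Prime 5), Finsupp.single_eq_same,
          Nat.factorization_eq_zero_of_not_dvd (by norm_num : ¬ 5 ∣ 72)] at horb
        norm_num at horb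
        have hP5 : (P : Subgroup N) = zpowers wN := (eq_of_le_of_card_ge hP (by
          rw [P.card_eq_multiplicity, hN, Nat.card_zpowers, h, show (360 : ℕ) = 5 ^ 1 * 72 from rfl,
            Nat.factorization_mul (by norm_num) (by norm_num), Finsupp.add_apply,
            Nat.Prime.factorization_pow (by decide : Nat.Prime 5), Finsupp.single_eq_same,
            Nat.factorization_eq_zero_of_not_dvd (by norm_num : ¬ 5 ∣ 72)]
          norm_num)).symm
        -- the centralizer inside the normalizer of `P`
        have hle : Nat.card C' ≤ Nat.card ((normalizer ((P : Subgroup N) : Set N)) ⊓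
            centralizer ({wN} : Set N) : Subgroup N) := by
          rw [← card_subtype M C', ← card_subtype N]
          refine card_le_of_le ?_
          rintro _ ⟨m, hm, rfl⟩
          have hmw : (m : G) * w = w * m := mem_centralizer_singleton_iff.1 hm
          have hmN : (m : G) ∈ N := hCN hm
          obtain ⟨n, hn, hnm⟩ := hMN.le ⟨m.2, hmN⟩
          exact ⟨n, ⟨hn, mem_centralizer_singleton_iff.2 (Subtype.ext (by
            show (n : G) * w = w * (n : G)
            rw [show (n : G) = m from hnm]; exact hmw))⟩, hnm⟩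
        set NP := normalizer ((P : Subgroup N) : Set N)
        have h5 : Nat.card M ≤ Nat.card C' * 4 := hmul ▸ Nat.mul_le_mul_left _ horb
        have heq : NP ⊓ centralizer ({wN} : Set N) = NP := eq_of_le_of_card_ge inf_le_left (by omega)
        refine not_normalizer_le_centralizer P ?_ ?_ ?_
        · intro hb
          rw [hb, mem_bot] at hwP
          exact hw1 (congrArg Subtype.val hwP)
        · intro ht
          have := congrArg (fun K : Subgroup N => Nat.card K) (hP5.symm.trans ht)
          simp [Nat.card_zpowers, h, hN] at this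
        · rw [hP5, zpowers_eq_closure, centralizer_closure, ← zpowers_eq_closure]
          refine le_trans ?_ (heq.ge.trans inf_le_right)
          rw [← hP5]
    rcases how with h | h | h
    · exact hw1 (congrArg Subtype.val (orderOf_eq_one_iff.1 h))
    · exact @key 3 ⟨Nat.prime_three⟩ h
    · exact @key 5 ⟨by decide⟩ h
  -- an element of the centralizer fixed by `z`
  have hzC : z ∈ normalizer (C : Set G) := by
    refine mem_normalizer_iff.2 fun g => ?_
    rw [hCdef, mem_centralizer_singleton_iff, mem_centralizer_singleton_iff]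
    have key : ∀ g : G, g * w = w * g → z * g * z⁻¹ * w = w * (z * g * z⁻¹) := by
      intro g hg
      have h1 : g * w⁻¹ = w⁻¹ * g := (Commute.inv_right hg).eq
      rw [← hzw] at h1
      have h2 := congrArg (fun a => z * a * z⁻¹) h1
      have hzz : z⁻¹ = z := inv_eq_of_mul_eq_one_right hz2
      simp only [hzz, mul_assoc] at h2 ⊢
      simp only [← mul_assoc z z, hz2, one_mul, mul_one] at h2 ⊢
      simpa [mul_assoc] using h2
    refine ⟨key g, fun h => ?_⟩
    have h2 := key _ h
    have hzz : z⁻¹ = z := inv_eq_of_mul_eq_one_right hz2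
    have e : z * (z * g * z⁻¹) * z⁻¹ = g := by
      rw [hzz, ← mul_assoc, ← mul_assoc, hz2, one_mul, mul_assoc, hz2, mul_one]
    rwa [e] at h2
  set D := C ⊔ zpowers z with hD
  have hDn : D ≤ normalizer (C : Set G) := sup_le le_normalizer (zpowers_le.2 hzC)
  have hzp : IsPGroup 2 ((zpowers z).subgroupOf D) :=
    (IsPGroup.of_card (n := 1) (by rw [Nat.card_zpowers, hzo, pow_one])).of_equiv
      (subgroupOfEquivOfLe le_sup_right).symm
  obtain ⟨U, hU⟩ := hzp.exists_le_sylow
  have : (C.subgroupOf D).Normal := (normal_subgroupOf_iff_le_normalizer le_sup_left).2 hDn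
  have hUC : (C.subgroupOf D).subgroupOf (U : Subgroup D) ≠ ⊥ := by
    intro h
    rw [subgroupOf_eq_bot, disjoint_iff] at h
    have h1 := U.not_dvd_index
    have h2 : (C.subgroupOf D).relIndex (U : Subgroup D) * 1 ∣ (C.subgroupOf D).index := by
      rw [mul_one]; exact relIndex_dvd_index_of_normal _ _
    rw [mul_one, ← inf_relIndex_right, h, relIndex_bot_left] at h2
    have h3 := (C.subgroupOf D).card_mul_index
    have h4 := (U : Subgroup D).card_mul_index
    obtain ⟨k, hk⟩ := h2
    rw [hk] at h3
    refine h1 ?_
    have hpos : 0 < Nat.card (U : Subgroup D) := Nat.card_pos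
    have h5 : Nat.card (C.subgroupOf D) * k = (U : Subgroup D).index := by
      refine Nat.eq_of_mul_eq_mul_left hpos ?_
      rw [h4, ← h3]; ring
    rw [← h5, Nat.card_congr (subgroupOfEquivOfLe le_sup_left).toEquiv]
    exact hCeven.trans (dvd_mul_right _ _)
  obtain ⟨t, ht, htc, hto⟩ := CfsgLib.Transfer.exists_mem_center_orderOf_eq U.isPGroup' hUC
  have hzU : (⟨z, mem_sup_right (mem_zpowers z)⟩ : D) ∈ (U : Subgroup D) := hU (mem_zpowers z)
  have hcz : Commute ((t : D) : G) z :=
    (congrArg (fun a : (U : Subgroup D) => ((a : D) : G)) (mem_center_iff.1 htc ⟨_, hzU⟩)).symm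
  refine ⟨((t : D) : G), fun h => ?_, hcz, hfin _ hcz (mem_centralizer_singleton_iff.1 ht)⟩
  have : t = 1 := Subtype.ext (Subtype.ext h)
  rw [this, orderOf_one] at hto
  norm_num at hto

end Cfsg.Agent.S2488
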