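import Cfsg.Statements.S2500
import Cfsg.Agent.Lib.Known.CoverTwo.Linear
import Cfsg.Agent.Lib.Known.CoverTwo.UnitaryFour
import Cfsg.Agent.Lib.Known.CoverTwo.UnitaryThree
import Cfsg.Agent.Lib.Known.CoverTwo.SympEven
import Cfsg.Agent.Lib.Known.CoverTwo.SympSix
import Cfsg.Agent.Lib.Known.CoverTwo.GTwo

set_option autoImplicit false
open Cfsg

namespace Cfsg.Agent.S2500

/-- The infinite families of simple groups with normal covering number 2. For a finite field F: each of PSL_2(F) (|F| ≥ 4), PSL_3(F), PSL_4(F), PSU_4 over F (|F| = q²), PSU_3 over F when |F| = q² with q a power of 3, PSp_{2m}(F) for |F| even, m ≥ 2 and (m, |F|) ≠ (2, 2), PSp_6(F) for |F| a power of 3, and G_2(F) (automorphisms of the split octonions) for |F| = 2^a ≥ 4 is the union of the conjugates of two proper subgroups: there are proper subgroups H, K such that every element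 is conjugate into H or into K. -/
theorem result {F : Type} [Field F] [Fintype F] :
    (4 ≤ Fintype.card F → (∃ H K : Subgroup (Matrix.ProjectiveSpecialLinearGroup (Fin 2) F), H ≠ ⊤ ∧ K ≠ ⊤ ∧ ∀ g : (Matrix.ProjectiveSpecialLinearGroup (Fin 2) F), ∃ x : (Matrix.ProjectiveSpecialLinearGroup (Fin 2) F), x * g * x⁻¹ ∈ H ∨ x * g * x⁻¹ ∈ K)) ∧
    (∃ H K : Subgroup (Matrix.ProjectiveSpecialLinearGroup (Fin 3) F), H ≠ ⊤ ∧ K ≠ ⊤ ∧ ∀ g : (Matrix.ProjectiveSpecialLinearGroup (Fin 3) F), ∃ x : (Matrix.ProjectiveSpecialLinearGroup (Fin 3) F), x * g * x⁻¹ ∈ H ∨ x * g * x⁻¹ ∈ K) ∧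
    (∃ H K : Subgroup (Matrix.ProjectiveSpecialLinearGroup (Fin 4) F), H ≠ ⊤ ∧ K ≠ ⊤ ∧ ∀ g : (Matrix.ProjectiveSpecialLinearGroup (Fin 4) F), ∃ x : (Matrix.ProjectiveSpecialLinearGroup (Fin 4) F), x * g * x⁻¹ ∈ H ∨ x * g * x⁻¹ ∈ K) ∧
    (∀ q : ℕ, Fintype.card F = q ^ 2 → (∃ H K : Subgroup (Cfsg.PSU 4 F q), H ≠ ⊤ ∧ K ≠ ⊤ ∧ ∀ g : (Cfsg.PSU 4 F q), ∃ x : (Cfsg.PSU 4 F q), x * g * x⁻¹ ∈ H ∨ x * g * x⁻¹ ∈ K)) ∧
    (∀ q a : ℕ, Fintype.card F = q ^ 2 → 1 ≤ a → q = 3 ^ a → (∃ H K : Subgroup (Cfsg.PSU 3 F q), H ≠ ⊤ ∧ K ≠ ⊤ ∧ ∀ g : (Cfsg.PSU 3 F q), ∃ x : (Cfsg.PSU 3 F q), x * g * x⁻¹ ∈ H ∨ x * g * x⁻¹ ∈ K)) ∧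
    (∀ m : ℕ, 2 ≤ m → ¬ Odd (Fintype.card F) → ¬ (m = 2 ∧ Fintype.card F = 2) → (∃ H K : Subgroup (Cfsg.PSp m F), H ≠ ⊤ ∧ K ≠ ⊤ ∧ ∀ g : (Cfsg.PSp m F), ∃ x : (Cfsg.PSp m F), x * g * x⁻¹ ∈ H ∨ x * g * x⁻¹ ∈ K)) ∧
    (∀ a : ℕ, 1 ≤ a → Fintype.card F = 3 ^ a → (∃ H K : Subgroup (Cfsg.PSp 3 F), H ≠ ⊤ ∧ K ≠ ⊤ ∧ ∀ g : (Cfsg.PSp 3 F), ∃ x : (Cfsg.PSp 3 F), x * g * x⁻¹ ∈ H ∨ x * g * x⁻¹ ∈ K)) ∧
    (∀ a : ℕ, 2 ≤ a → Fintype.card F = 2 ^ a → (∃ H K : Subgroup (Cfsg.Lie.G2 F), H ≠ ⊤ ∧ K ≠ ⊤ ∧ ∀ g : (Cfsg.Lie.G2 F), ∃ x : (Cfsg.Lie.G2 F), x * g * x⁻¹ ∈ H ∨ x * g * x⁻¹ ∈ K)) := by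
  classical
  obtain ⟨p, hp⟩ := CharP.exists F
  haveI : Fact p.Prime := ⟨CharP.char_is_prime F p⟩
  obtain ⟨n, -, hcard⟩ := FiniteField.card F p
  have char_eq : ∀ (r a : ℕ), r.Prime → 1 ≤ a → Fintype.card F = r ^ a → CharP F r := by
    intro r a hr ha h
    have h1 : r ∣ p ^ (n : ℕ) := by rw [← hcard, h]; exact dvd_pow_self r (by omega)
    have h2 := (Nat.prime_dvd_prime_iff_eq hr Fact.out).1 (hr.dvd_of_dvd_pow h1)
    exact h2 ▸ hp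
  refine ⟨fun _ => CfsgLib.Known.CoverTwo.covered_PSL p 2 2 le_rfl le_rfl dvd_rfl (fun k h1 h2 h3 => by
      obtain rfl : k = 2 := by omega
      exact dvd_rfl),
    CfsgLib.Known.CoverTwo.covered_PSL p 3 3 (by norm_num) (by norm_num) dvd_rfl (fun k h1 h2 h3 => by
      obtain rfl : k = 3 := by omega
      exact dvd_rfl),
    CfsgLib.Known.CoverTwo.covered_PSL p 4 2 (by norm_num) le_rfl (by norm_num) (fun k h1 h2 h3 => by
      interval_cases k <;> omega),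
    fun q hq => CfsgLib.Known.CoverTwo.covered_PSU_four hq, ?_, ?_, ?_, ?_⟩
  · intro q a hq ha h3
    haveI : CharP F 3 := char_eq 3 (a * 2) Nat.prime_three (by omega) (by rw [hq, h3, pow_mul])
    exact CfsgLib.Known.CoverTwo.covered_PSU_three hq
  · intro m hm hodd _
    haveI : CharP F 2 := by
      rcases Nat.Prime.eq_two_or_odd' (Fact.out : p.Prime) with h2 | h2
      · exact h2 ▸ hp
      · exact absurd (hcard ▸ h2.pow) hodd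
    exact CfsgLib.Known.CoverTwo.covered_PSp_even m hm
  · intro a ha h
    haveI : CharP F 3 := char_eq 3 a Nat.prime_three ha h
    exact CfsgLib.Known.CoverTwo.covered_PSp_six F
  · intro a ha h
    haveI : CharP F 2 := char_eq 2 a Nat.prime_two (by omega) h
    exact CfsgLib.Known.CoverTwo.covered_G2 (by rw [h]; exact le_trans (by norm_num) (Nat.pow_le_pow_right (by norm_num) ha))

end Cfsg.Agent.S2500
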