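import Cfsg.Statements.S2503
import Cfsg.Agent.Lib.Known.SL2Factor

set_option autoImplicit false
open Cfsg

namespace Cfsg.Agent.S2503

/-- Let F be a finite field with q = 2^t ≥ 4 elements and L = PSL(2,F). Then L has a cyclic subgroup A of order q + 1 and an elementary abelian 2-subgroup B of order q such that L = ABA: every element of L is a product a·b·a' with a, a' ∈ A and b ∈ B. -/
theorem result {F : Type*} [Field F] [Fintype F]
    (h2 : 2 ∣ Fintype.card F) (h4 : 4 ≤ Fintype.card F) :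
    ∃ A B : Subgroup (Matrix.ProjectiveSpecialLinearGroup (Fin 2) F),
      IsCyclic A ∧ Nat.card A = Fintype.card F + 1 ∧ IsMulCommutative B ∧ (∀ b ∈ B, b * b = 1) ∧
        Nat.card B = Fintype.card F ∧
        ∀ g : Matrix.ProjectiveSpecialLinearGroup (Fin 2) F, ∃ a ∈ A, ∃ b ∈ B, ∃ c ∈ A, g = a * b * c := by
  haveI : CharP F 2 := by
    have h : ringChar F = 2 := FiniteField.even_card_iff_char_two.2 (Nat.mod_eq_zero_of_dvd h2)
    exact h ▸ ringChar.charP F
  obtain ⟨e⟩ := CfsgLib.Recog.AffineTwo.psl_equiv_sl F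
  obtain ⟨A, B, hA, hAc, hB, hB2, hBc, hf⟩ := CfsgLib.Known.SL2Factor.exists_ABA (F := F)
  refine ⟨A.map e.symm.toMonoidHom, B.map e.symm.toMonoidHom,
    isCyclic_of_surjective (e.symm.subgroupMap A) (e.symm.subgroupMap A).surjective, ?_, inferInstance, ?_, ?_,
    fun g => ?_⟩
  · exact (Nat.card_congr (e.symm.subgroupMap A).toEquiv).symm.trans hAc
  · rintro _ ⟨b, hb, rfl⟩
    rw [← map_mul, hB2 b hb, map_one]
  · exact (Nat.card_congr (e.symm.subgroupMap B).toEquiv).symm.trans hBc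
  · obtain ⟨a, ha, b, hb, c, hc, h⟩ := hf (e g)
    refine ⟨_, Subgroup.mem_map_of_mem _ ha, _, Subgroup.mem_map_of_mem _ hb, _, Subgroup.mem_map_of_mem _ hc, ?_⟩
    show g = e.symm a * e.symm b * e.symm c
    rw [← map_mul, ← map_mul, ← h, e.symm_apply_apply]

end Cfsg.Agent.S2503
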