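import Cfsg.Statements.S2504
import Cfsg.Agent.Lib.Perm.OrbitBound

set_option autoImplicit false
open Cfsg

namespace Cfsg.Agent.S2504

open CfsgLib.OrbitBound

theorem greatest {n c : ℕ} (h : Ach true n c)
    (hle : ∀ A : Subgroup (Equiv.Perm (Fin n)), IsMulCommutative A →
      (∀ a ∈ A, Equiv.Perm.sign a = 1) → Nat.card A ≤ c) :
    IsGreatest {c : ℕ | ∃ A : Subgroup (alternatingGroup (Fin n)), IsMulCommutative A ∧ Nat.card A = c} c := by
  refine ⟨h.alternating, ?_⟩
  rintro d ⟨A, hA, rfl⟩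
  haveI := hA
  obtain ⟨hc, he⟩ := card_alternating_le A
  rw [he]
  refine hle _ hc ?_
  rintro _ ⟨a, -, rfl⟩
  exact Equiv.Perm.mem_alternatingGroup.mp a.2

/-- The largest order of an abelian subgroup of the alternating group of degree n is 3^k when n = 3k, 4·3^(k−1) when n = 3k + 1, and 16·3^(k−2) when n = 3k + 2, for every k ≥ 2 (so for all degrees n ≥ 6). -/
theorem result (k : ℕ) (hk : 2 ≤ k) :
    IsGreatest {c : ℕ | ∃ A : Subgroup (alternatingGroup (Fin (3 * k))), IsMulCommutative A ∧ Nat.card A = c} (3 ^ k) ∧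
    IsGreatest {c : ℕ | ∃ A : Subgroup (alternatingGroup (Fin (3 * k + 1))), IsMulCommutative A ∧ Nat.card A = c}
      (4 * 3 ^ (k - 1)) ∧
    IsGreatest {c : ℕ | ∃ A : Subgroup (alternatingGroup (Fin (3 * k + 2))), IsMulCommutative A ∧ Nat.card A = c}
      (16 * 3 ^ (k - 2)) := by
  obtain ⟨k, rfl⟩ : ∃ j, k = j + 2 := ⟨k - 2, by omega⟩
  refine ⟨greatest (ach_three_mul _) (fun A hA _ => ?_), ?_, ?_⟩
  · haveI := hA
    exact (card_le_g3 A).trans (by rw [Nat.card_fin, g3_three_mul])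
  · rw [show 3 * (k + 2) + 1 = 4 + 3 * (k + 1) by ring, show k + 2 - 1 = k + 1 from rfl]
    refine greatest (ach_four.add (ach_three_mul _)) (fun A hA _ => ?_)
    haveI := hA
    exact (card_le_g3 A).trans (by rw [Nat.card_fin, add_comm 4, g3_three_mul_four])
  · rw [show 3 * (k + 2) + 2 = 4 + 4 + 3 * k by ring, Nat.add_sub_cancel,
      show (16 : ℕ) = 4 * 4 from rfl]
    refine greatest ((ach_four.add ach_four).add (ach_three_mul _)) (fun A hA hs => ?_)
    haveI := hA
    by_contra hlt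
    obtain ⟨a, ha, hodd⟩ := exists_odd (k + 2) (by rw [Fintype.card_fin]; omega) A
      (by rw [pow_add]; omega)
    have h1 : Equiv.Perm.sign a = -1 := by convert hodd
    exact absurd ((hs a ha).symm.trans h1) (by decide)

end Cfsg.Agent.S2504
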