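import Cfsg.Statements.S2505
import Cfsg.Agent.Lib.Perm.OrbitBound

set_option autoImplicit false
open Cfsg

namespace Cfsg.Agent.S2505

open CfsgLib.OrbitBound

theorem greatest {n c : ℕ} (h : Ach false n c) (hle : g3 n ≤ c) :
    IsGreatest {c : ℕ | ∃ A : Subgroup (Equiv.Perm (Fin n)), IsMulCommutative A ∧ Nat.card A = c} c := by
  refine ⟨?_, ?_⟩
  · obtain ⟨A, hA, hc, -⟩ := h
    exact ⟨A, hA, hc⟩
  · rintro d ⟨A, hA, rfl⟩
    haveI := hA
    exact (card_le_g3 A).trans ((Nat.card_fin n).symm ▸ hle)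

/-- The largest order of an abelian subgroup of the symmetric group of degree n is 3^k when n = 3k, 4·3^(k−1) when n = 3k + 1, and 2·3^k when n = 3k + 2, for every k ≥ 1. -/
theorem result (k : ℕ) (hk : 1 ≤ k) :
    IsGreatest {c : ℕ | ∃ A : Subgroup (Equiv.Perm (Fin (3 * k))), IsMulCommutative A ∧ Nat.card A = c} (3 ^ k) ∧
    IsGreatest {c : ℕ | ∃ A : Subgroup (Equiv.Perm (Fin (3 * k + 1))), IsMulCommutative A ∧ Nat.card A = c}
      (4 * 3 ^ (k - 1)) ∧
    IsGreatest {c : ℕ | ∃ A : Subgroup (Equiv.Perm (Fin (3 * k + 2))), IsMulCommutative A ∧ Nat.card A = c}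
      (2 * 3 ^ k) := by
  obtain ⟨k, rfl⟩ : ∃ j, k = j + 1 := ⟨k - 1, by omega⟩
  refine ⟨greatest (ach_three_mul _) (g3_three_mul _).le, ?_, ?_⟩
  · rw [show 3 * (k + 1) + 1 = 4 + 3 * k by ring, Nat.add_sub_cancel]
    refine greatest (ach_four.add (ach_three_mul k)) (le_of_eq ?_)
    rw [add_comm, g3_three_mul_four]
  · rw [show 3 * (k + 1) + 2 = 2 + 3 * (k + 1) by ring]
    refine greatest (ach_two.add (ach_three_mul _)) (le_of_eq ?_)
    rw [add_comm, g3_three_mul_two]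

end Cfsg.Agent.S2505
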