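import Cfsg.Statements.S2506
import Cfsg.Agent.Lib.Perm.AbelianAlt

set_option autoImplicit false
open scoped Pointwise
open Cfsg

namespace Cfsg.Agent.S2506

/-- In the alternating group of any degree, any two abelian subgroups of the largest possible order (among abelian subgroups) are conjugate. -/
theorem result (n : ℕ)
    (A B : Subgroup (alternatingGroup (Fin n))) (hA : IsMulCommutative A) (hB : IsMulCommutative B)
    (hAmax : ∀ C : Subgroup (alternatingGroup (Fin n)), IsMulCommutative C → Nat.card C ≤ Nat.card A)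
    (hBmax : ∀ C : Subgroup (alternatingGroup (Fin n)), IsMulCommutative C → Nat.card C ≤ Nat.card B) :
    ∃ g : alternatingGroup (Fin n), B = MulAut.conj g • A := by
  have key : ∀ (X : Subgroup (alternatingGroup (Fin n))),
      (∀ C : Subgroup (alternatingGroup (Fin n)), IsMulCommutative C → Nat.card C ≤ Nat.card X) →
      ∀ C : Subgroup (Equiv.Perm (Fin n)), C ≤ alternatingGroup (Fin n) → IsMulCommutative C →
        Nat.card C ≤ Nat.card (X.map (alternatingGroup (Fin n)).subtype) := by
    intro X hX C hC hCc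
    rw [Subgroup.card_subtype, ← Nat.card_congr (Subgroup.subgroupOfEquivOfLe hC).toEquiv]
    exact hX _ (Subgroup.subgroupOf_isMulCommutative _ _)
  obtain ⟨g, hg, he⟩ := CfsgLib.Perm.AbelianAlt.exists_conj
    (A.map (alternatingGroup (Fin n)).subtype) (B.map (alternatingGroup (Fin n)).subtype)
    (Subgroup.map_subtype_le A) (Subgroup.map_subtype_le B) (key A hAmax) (key B hBmax)
  refine ⟨⟨g, hg⟩, Subgroup.map_injective (Subgroup.subtype_injective _) ?_⟩
  rw [he]
  ext x
  constructor
  · rintro ⟨y, ⟨a, ha, rfl⟩, rfl⟩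
    exact ⟨MulAut.conj ⟨g, hg⟩ a, ⟨a, ha, rfl⟩, rfl⟩
  · rintro ⟨y, ⟨a, ha, rfl⟩, rfl⟩
    exact ⟨a, ⟨a, ha, rfl⟩, rfl⟩

end Cfsg.Agent.S2506
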