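import Cfsg.Statements.S2510
import Cfsg.Agent.Lib.Known.PSLTori

set_option autoImplicit false
open Cfsg

namespace Cfsg.Agent.S2510

open CfsgLib.Known PSLTori in
theorem block_mul {F : Type*} [Field F] {d m : ℕ} (A A' : Matrix (Fin d) (Fin d) F)
    (B B' : Matrix (Fin m) (Fin m) F) :
    Matrix.reindex finSumFinEquiv finSumFinEquiv (Matrix.fromBlocks A 0 0 B) *
      Matrix.reindex finSumFinEquiv finSumFinEquiv (Matrix.fromBlocks A' 0 0 B') =
        Matrix.reindex finSumFinEquiv finSumFinEquiv (Matrix.fromBlocks (A * A') 0 0 (B * B')) := by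
  simp [Matrix.reindex_apply, Matrix.submatrix_mul_equiv, Matrix.fromBlocks_multiply]

/-- Block diagonal embedding. -/
def blockPair {F : Type*} [Field F] (d m : ℕ) :
    Matrix.SpecialLinearGroup (Fin d) F × Matrix.SpecialLinearGroup (Fin m) F →*
      Matrix.SpecialLinearGroup (Fin (d + m)) F where
  toFun x := ⟨Matrix.reindex finSumFinEquiv finSumFinEquiv (Matrix.fromBlocks x.1.1 0 0 x.2.1), by
    rw [Matrix.det_reindex_self, Matrix.det_fromBlocks_zero₂₁, x.1.2, x.2.2, one_mul]⟩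
  map_one' := Subtype.ext (by simp [Matrix.fromBlocks_one])
  map_mul' x y := Subtype.ext (block_mul x.1.1 y.1.1 x.2.1 y.2.1).symm

/-- A unipotent element of `SL m` of order `p ^ clog p m`, also modulo scalars. -/
theorem exists_unipotent {F : Type*} [Field F] [Fintype F] {p : ℕ} [hp : Fact p.Prime] [CharP F p]
    {m : ℕ} (hm : 1 ≤ m) :
    ∃ U : Matrix.SpecialLinearGroup (Fin m) F, ∀ (k : ℕ) (c : F),
      (U : Matrix (Fin m) (Fin m) F) ^ k = Matrix.scalar (Fin m) c →
        p ^ Nat.clog p m ∣ k ∧ c = 1 := by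
  haveI : Nonempty (Fin m) := ⟨⟨0, hm⟩⟩
  obtain ⟨u, hu⟩ := CfsgLib.Known.GLOrders.exists_orderOf_eq_char_pow (F := F) (p := p) m
  have hroot : ∀ x : F, x ^ p ^ Nat.clog p m = 1 → x = 1 := fun x hx =>
    (iterateFrobenius_inj (R := F) p (Nat.clog p m))
      (by rw [iterateFrobenius_def, iterateFrobenius_def, hx, one_pow])
  have hupow : (u : Matrix (Fin m) (Fin m) F) ^ p ^ Nat.clog p m = 1 := by
    rw [← Units.val_pow_eq_pow_val, ← hu, pow_orderOf_eq_one, Units.val_one]
  refine ⟨⟨(u : Matrix (Fin m) (Fin m) F), hroot _ (by rw [← Matrix.det_pow, hupow, Matrix.det_one])⟩,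
    fun k c hk => ?_⟩
  have hc : c = 1 := by
    apply hroot
    have := congrArg (· ^ p ^ Nat.clog p m) hk
    simp only [← pow_mul, mul_comm k, ← map_pow] at this
    rw [pow_mul, hupow, one_pow, ← map_one (Matrix.scalar (Fin m))] at this
    exact (Matrix.scalar_inj.1 this).symm
  subst hc
  refine ⟨?_, rfl⟩
  rw [← hu]
  refine orderOf_dvd_of_pow_eq_one (Units.ext ?_)
  rw [Units.val_pow_eq_pow_val, hk, map_one, Units.val_one]

open CfsgLib.Known PSLTori in
/-- Orders dividing `E_d * p ^ clog p (n - d)` are good. -/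
theorem good_of_dvd {F : Type*} [Field F] [Fintype F] {p : ℕ} [hp : Fact p.Prime] [CharP F p]
    {d m r N : ℕ} [Fact r.Prime] (hd : 1 ≤ d) (hm : 1 ≤ m) (hrq : r ∣ Fintype.card F - 1)
    (hrn : ¬ r ∣ d + m) (hN : N ∣ p ^ Nat.clog p m * ((Fintype.card F ^ d - 1) / (Fintype.card F - 1)))
    (hrN : ¬ r ∣ N) :
    ∃ h : Matrix.ProjectiveSpecialLinearGroup (Fin (d + m)) F, r * N ∣ orderOf h := by
  classical
  obtain ⟨B, hB⟩ := exists_norm_one (F := F) d hd
  obtain ⟨U, hU⟩ := exists_unipotent (F := F) (p := p) hm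
  set y := blockPair (F := F) d m (B, U) with hy
  set E := (Fintype.card F ^ d - 1) / (Fintype.card F - 1) with hE
  have hco : Nat.Coprime (p ^ Nat.clog p m) E := by
    refine Nat.Coprime.pow_left _ (hp.out.coprime_iff_not_dvd.2 fun h => ?_)
    have h2 : E ∣ Fintype.card F ^ d - 1 := Nat.div_dvd_of_dvd (by
      simpa using Nat.sub_dvd_pow_sub_pow (Fintype.card F) 1 d)
    obtain ⟨a, -, hq⟩ := FiniteField.card F p
    have h3 : p ∣ Fintype.card F ^ d :=
      (hq ▸ dvd_pow_self p a.pos.ne').trans (dvd_pow_self _ (by omega))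
    have h4 := Nat.dvd_sub h3 (h.trans h2)
    rw [Nat.sub_sub_self (Nat.one_le_pow _ _ Fintype.card_pos)] at h4
    exact hp.out.not_dvd_one h4
  have hord : p ^ Nat.clog p m * E ∣ orderOf (proj (d + m) y) := by
    obtain ⟨c, hc⟩ := (proj_eq_one_iff _).1 ((map_pow (proj (d + m)) y _).trans
      (pow_orderOf_eq_one (proj (d + m) y)))
    set K := orderOf (proj (d + m) y)
    rw [hy, ← map_pow] at hc
    change Matrix.reindex finSumFinEquiv finSumFinEquiv (Matrix.fromBlocks
      ((B ^ K : Matrix.SpecialLinearGroup (Fin d) F) : Matrix (Fin d) (Fin d) F) 0 0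
      ((U ^ K : Matrix.SpecialLinearGroup (Fin m) F) : Matrix (Fin m) (Fin m) F)) = _ at hc
    have hc' : Matrix.fromBlocks
        ((B ^ K : Matrix.SpecialLinearGroup (Fin d) F) : Matrix (Fin d) (Fin d) F) 0 0
        ((U ^ K : Matrix.SpecialLinearGroup (Fin m) F) : Matrix (Fin m) (Fin m) F) =
        Matrix.fromBlocks (Matrix.scalar (Fin d) c) 0 0 (Matrix.scalar (Fin m) c) := by
      apply (Matrix.reindex finSumFinEquiv finSumFinEquiv).injective
      rw [hc]
      simp [Matrix.fromBlocks_diagonal, Matrix.submatrix_diagonal_equiv]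
    obtain ⟨h1, -, -, h2⟩ := Matrix.fromBlocks_inj.1 hc'
    rw [Matrix.SpecialLinearGroup.coe_pow] at h2
    obtain ⟨h3, rfl⟩ := hU K c h2
    refine hco.mul_dvd_of_dvd_of_dvd h3 ((hB K).1.1 (Subtype.ext ?_))
    rw [h1, map_one]; rfl
  set h := proj (d + m) y with hh
  set j := orderOf h / N
  have hj : orderOf (h ^ j) = N :=
    orderOf_pow_orderOf_div (orderOf_pos h).ne' (hN.trans hord)
  obtain ⟨h', hh'⟩ := mul_mem_range_of_idempotent hrq hrn (y ^ j)
    (Matrix.reindex finSumFinEquiv finSumFinEquiv (Matrix.fromBlocks 1 0 0 0))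
    (by
      unfold IsIdempotentElem
      rw [block_mul, one_mul, mul_zero])
    (by
      rw [hy, ← map_pow]
      change _ * Matrix.reindex finSumFinEquiv finSumFinEquiv (Matrix.fromBlocks
        ((B ^ j : Matrix.SpecialLinearGroup (Fin d) F) : Matrix (Fin d) (Fin d) F) 0 0
        ((U ^ j : Matrix.SpecialLinearGroup (Fin m) F) : Matrix (Fin m) (Fin m) F)) =
        Matrix.reindex finSumFinEquiv finSumFinEquiv (Matrix.fromBlocks
        ((B ^ j : Matrix.SpecialLinearGroup (Fin d) F) : Matrix (Fin d) (Fin d) F) 0 0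
        ((U ^ j : Matrix.SpecialLinearGroup (Fin m) F) : Matrix (Fin m) (Fin m) F)) * _
      rw [block_mul, block_mul, one_mul, mul_one, zero_mul, mul_zero])
    (fun h0 => by
      have h1 := (Matrix.fromBlocks_inj (A' := (0 : Matrix (Fin d) (Fin d) F)) (B' := 0) (C' := 0)
        (D' := (0 : Matrix (Fin m) (Fin m) F))).1
        ((Matrix.reindex finSumFinEquiv finSumFinEquiv).injective (h0.trans (by simp)))
      simpa using congrFun (congrFun h1.1 ⟨0, hd⟩) ⟨0, hd⟩)
    (fun h0 => by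
      have h1 := (Matrix.fromBlocks_inj (A' := (1 : Matrix (Fin d) (Fin d) F)) (B' := 0) (C' := 0)
        (D' := (1 : Matrix (Fin m) (Fin m) F))).1
        ((Matrix.reindex finSumFinEquiv finSumFinEquiv).injective
          (h0.trans (by simp [Matrix.fromBlocks_one])))
      simpa using congrFun (congrFun h1.2.2.2 ⟨0, hm⟩) ⟨0, hm⟩)
    (by rw [map_pow, hj]; exact hrN)
  exact ⟨h', by rwa [map_pow, hj] at hh'⟩

open CfsgLib.Known PSLTori in
/-- The classification: good, Singer or regular unipotent. -/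
theorem classify {F : Type*} [Field F] [Fintype F] {p : ℕ} [hp : Fact p.Prime] [CharP F p]
    {n r : ℕ} [hr : Fact r.Prime] (hn : 2 ≤ n) (hrq : r ∣ Fintype.card F - 1) (hrn : ¬ r ∣ n)
    (g : Matrix.ProjectiveSpecialLinearGroup (Fin n) F) (hg : ¬ r ∣ orderOf g) :
    ∃ B : Matrix.SpecialLinearGroup (Fin n) F, (∀ k : ℕ, proj n B ^ k = 1 ↔
        (Fintype.card F ^ n - 1) / (Fintype.card F - 1) ∣ k * (Fintype.card F - 1)) ∧
      ((∃ h : Matrix.ProjectiveSpecialLinearGroup (Fin n) F, r * orderOf g ∣ orderOf h) ∨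
        orderOf g ∣ orderOf (proj n B) ∨ orderOf g ∣ p ^ Nat.clog p n) := by
  classical
  obtain ⟨B, hB⟩ := exists_norm_one (F := F) n (by omega)
  refine ⟨B, fun k => (hB k).2, ?_⟩
  obtain ⟨A, rfl⟩ := proj_surjective n g
  rcases idempotent_or_primePower (A : Matrix (Fin n) (Fin n) F) (by omega) with
    ⟨ε, h1, h2, h3, h4⟩ | ⟨f, k, hf, hfm, hk, hmin, hdk⟩
  · exact Or.inl (mul_mem_range_of_idempotent hrq hrn A ε h1 h2 h3 h4 hg)
  have hd := hf.natDegree_pos
  have hX : ¬ f = Polynomial.X := by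
    rintro rfl
    obtain ⟨w, hw⟩ := ((dvd_pow_self _ (by omega : k ≠ 0)).trans hmin.symm.dvd).trans
      (Matrix.minpoly_dvd_charpoly (A : Matrix (Fin n) (Fin n) F))
    have := Matrix.det_eq_sign_charpoly_coeff (A : Matrix (Fin n) (Fin n) F)
    rw [A.2, hw, Polynomial.mul_coeff_zero, Polynomial.coeff_X_zero, zero_mul, mul_zero] at this
    exact one_ne_zero this
  obtain ⟨c, -, hc⟩ := pow_eq_scalar (p := p) (A : Matrix (Fin n) (Fin n) F) f hf hfm hX k hmin.dvd
  have hdvd : orderOf (proj n A) ∣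
      p ^ Nat.clog p k * ((Fintype.card F ^ f.natDegree - 1) / (Fintype.card F - 1)) := by
    rw [orderOf_dvd_iff_pow_eq_one, ← map_pow, proj_eq_one_iff]
    exact ⟨_, by rw [Matrix.SpecialLinearGroup.coe_pow, hc]⟩
  by_cases hgood : f.natDegree < n ∧ f.natDegree + k ≤ n
  · left
    obtain ⟨m, rfl⟩ := Nat.exists_eq_add_of_le hgood.1.le
    exact good_of_dvd hd (by omega) hrq hrn (hdvd.trans (mul_dvd_mul_right
      (pow_dvd_pow p (Nat.clog_mono_right p (by omega))) _)) hg
  right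
  rcases Nat.lt_or_ge 1 f.natDegree with hd1 | hd1
  · -- the degree is `n`
    left
    have hk1 : k = 1 := by
      by_contra hk1
      obtain ⟨a, ha⟩ := Nat.exists_eq_add_of_le hd1
      obtain ⟨b, hb⟩ := Nat.exists_eq_add_of_le (show 2 ≤ k by omega)
      refine hgood ⟨?_, ?_⟩ <;> (rw [ha, hb] at hdk; simp only [ha, hb]; nlinarith)
    subst hk1
    have hdn : f.natDegree = n := by omega
    rw [pow_one] at hmin
    have hchar : (A : Matrix (Fin n) (Fin n) F).charpoly = f := by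
      refine Polynomial.eq_of_monic_of_dvd_of_natDegree_le hfm (Matrix.charpoly_monic _)
        (hmin ▸ Matrix.minpoly_dvd_charpoly _) ?_
      rw [Matrix.charpoly_natDegree_eq_dim, Fintype.card_fin, hdn]
    have hroot := root_pow_eq f hf hfm
    have hdet := Matrix.det_eq_sign_charpoly_coeff (A : Matrix (Fin n) (Fin n) F)
    rw [A.2, hchar, Fintype.card_fin] at hdet
    rw [hdn, ← hdet, map_one] at hroot
    obtain ⟨c', hc'⟩ := exists_pow_eq_scalar (A : Matrix (Fin n) (Fin n) F) f hf hmin.dvd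
      (orderOf (proj n B)) _ hroot ((hB _).2.1 (pow_orderOf_eq_one _))
    rw [orderOf_dvd_iff_pow_eq_one, ← map_pow, proj_eq_one_iff]
    exact ⟨c', by rw [Matrix.SpecialLinearGroup.coe_pow, hc']⟩
  · right
    have hd1' : f.natDegree = 1 := by omega
    rw [hd1'] at hdvd hgood hdk
    have hkn : k = n := by omega
    subst hkn
    rwa [pow_one, Nat.div_self (by have := Fintype.one_lt_card (α := F); omega), mul_one] at hdvd

theorem orderOf_dvd_prod3 {G : Type*} [Group G] [Finite G] (N : ℕ) (a b c : G)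
    (h : N ∣ Nat.lcm (orderOf a) (Nat.lcm (orderOf b) (orderOf c))) :
    N ∈ Set.range (orderOf : G × G × G → ℕ) := by
  rw [← Prod.orderOf_mk, ← Prod.orderOf_mk] at h
  exact ⟨_, orderOf_pow_orderOf_div (orderOf_pos (a, b, c)).ne' h⟩

theorem orderOf_dvd_prod2 {G : Type*} [Group G] [Finite G] (N : ℕ) (a b : G)
    (h : N ∣ Nat.lcm (orderOf a) (orderOf b)) :
    N ∈ Set.range (orderOf : G × G → ℕ) := by
  rw [← Prod.orderOf_mk] at h
  exact ⟨_, orderOf_pow_orderOf_div (orderOf_pos (a, b)).ne' h⟩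


/-- Let F be a finite field with q = p^a elements, n ≥ 2 (with q ≥ 4 when n = 2), L = PSL(n, F), and let r be a prime dividing q − 1 and not dividing n. Then for every m the direct product L × L × L × (ℤ/r)^m has the same set of element orders as L × L × L; and if n − 1 ≠ p^j for every j ≥ 0 (so never when n = 2, since 1 = p^0), then already L × L × (ℤ/r)^m has the same set of element orders as L × L. -/
theorem result {F : Type*} [Field F] [Fintype F] (p a n r m : ℕ) (hp : p.Prime) (ha : 1 ≤ a) (hF : Fintype.card F = p ^ a)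
    (hn : 2 ≤ n) (hn2 : n = 2 → 4 ≤ Fintype.card F) (hr : r.Prime) (hrq : r ∣ Fintype.card F - 1) (hrn : ¬ r ∣ n) :
    Set.range (orderOf : Matrix.ProjectiveSpecialLinearGroup (Fin n) F × Matrix.ProjectiveSpecialLinearGroup (Fin n) F × Matrix.ProjectiveSpecialLinearGroup (Fin n) F × Multiplicative (Fin m → ZMod r) → ℕ) =
      Set.range (orderOf : Matrix.ProjectiveSpecialLinearGroup (Fin n) F × Matrix.ProjectiveSpecialLinearGroup (Fin n) F × Matrix.ProjectiveSpecialLinearGroup (Fin n) F → ℕ) ∧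
    ((¬ ∃ j : ℕ, n - 1 = p ^ j) →
      Set.range (orderOf : Matrix.ProjectiveSpecialLinearGroup (Fin n) F × Matrix.ProjectiveSpecialLinearGroup (Fin n) F × Multiplicative (Fin m → ZMod r) → ℕ) =
        Set.range (orderOf : Matrix.ProjectiveSpecialLinearGroup (Fin n) F × Matrix.ProjectiveSpecialLinearGroup (Fin n) F → ℕ)) := by
  classical
  haveI : Fact p.Prime := ⟨hp⟩
  haveI : Fact r.Prime := ⟨hr⟩
  haveI : CharP F p := by
    obtain ⟨p', hc⟩ := CharP.exists F
    haveI := hc
    obtain ⟨a', hp', hq⟩ := FiniteField.card F p'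
    have : p = p' := (Nat.prime_dvd_prime_iff_eq hp hp').1
      (hp.dvd_of_dvd_pow (by rw [← hq, hF]; exact dvd_pow_self p (by omega)))
    exact this ▸ hc
  haveI : Finite (Matrix.ProjectiveSpecialLinearGroup (Fin n) F) :=
    Finite.of_surjective _ (CfsgLib.Known.PSLTori.proj_surjective n)
  let L := Matrix.ProjectiveSpecialLinearGroup (Fin n) F
  obtain ⟨B₀, hB₀⟩ := CfsgLib.Known.PSLTori.exists_norm_one (F := F) n (by omega)
  set M := orderOf (CfsgLib.Known.PSLTori.proj n B₀) with hM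
  -- every element is good, has order dividing `M`, or has order dividing `p ^ clog p n`
  have hcl : ∀ g : L, r ∣ orderOf g ∨ (∃ h : L, r * orderOf g ∣ orderOf h) ∨ orderOf g ∣ M ∨
      orderOf g ∣ p ^ Nat.clog p n := by
    intro g
    by_cases hg : r ∣ orderOf g
    · exact Or.inl hg
    obtain ⟨B, hB, h⟩ := classify (p := p) hn hrq hrn g hg
    rcases h with h | h | h
    · exact Or.inr (Or.inl h)
    · refine Or.inr (Or.inr (Or.inl (h.trans ?_)))
      exact orderOf_dvd_of_pow_eq_one ((hB M).2 ((hB₀ M).2.1 (by rw [hM, pow_orderOf_eq_one])))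
    · exact Or.inr (Or.inr (Or.inr h))
  -- elements of the orders we need
  obtain ⟨U, hU⟩ := exists_unipotent (F := F) (p := p) (m := n) (by omega)
  have hpU : p ^ Nat.clog p n ∣ orderOf (CfsgLib.Known.PSLTori.proj n U) := by
    obtain ⟨c, hc⟩ := (CfsgLib.Known.PSLTori.proj_eq_one_iff _).1
      ((map_pow (CfsgLib.Known.PSLTori.proj n) U _).trans (pow_orderOf_eq_one _))
    rw [Matrix.SpecialLinearGroup.coe_pow] at hc
    exact (hU _ c hc).1
  obtain ⟨R, hR⟩ : ∃ R : L, r ∣ orderOf R := by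
    obtain ⟨m', rfl⟩ := Nat.exists_eq_add_of_le (show 1 ≤ n by omega)
    obtain ⟨h, hh⟩ := good_of_dvd (F := F) (p := p) (N := 1) le_rfl (show 1 ≤ m' by omega) hrq hrn
      (one_dvd _) hr.not_dvd_one
    exact ⟨h, by rwa [mul_one] at hh⟩
  have haR : ∀ x : Multiplicative (Fin m → ZMod r), orderOf x ∣ r := fun x =>
    orderOf_dvd_of_pow_eq_one (Multiplicative.toAdd.injective (funext fun i => by
      simp))
  refine ⟨?_, fun hj => ?_⟩
  · apply Set.Subset.antisymm
    · rintro N ⟨⟨x, y, z, w⟩, rfl⟩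
      rw [Prod.orderOf_mk, Prod.orderOf_mk, Prod.orderOf_mk]
      set A := orderOf x; set B := orderOf y; set C := orderOf z
      have hw : Nat.lcm A (Nat.lcm B (Nat.lcm C (orderOf w))) ∣
          Nat.lcm A (Nat.lcm B (Nat.lcm C r)) :=
        lcm_dvd_lcm dvd_rfl (lcm_dvd_lcm dvd_rfl (lcm_dvd_lcm dvd_rfl (haR w)))
      have fin : ∀ a b c : L, A ∣ Nat.lcm (orderOf a) (Nat.lcm (orderOf b) (orderOf c)) →
          B ∣ Nat.lcm (orderOf a) (Nat.lcm (orderOf b) (orderOf c)) →
          C ∣ Nat.lcm (orderOf a) (Nat.lcm (orderOf b) (orderOf c)) →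
          r ∣ Nat.lcm (orderOf a) (Nat.lcm (orderOf b) (orderOf c)) →
          Nat.lcm A (Nat.lcm B (Nat.lcm C (orderOf w))) ∈ Set.range (orderOf : L × L × L → ℕ) :=
        fun a b c h1 h2 h3 h4 => orderOf_dvd_prod3 _ a b c
          (hw.trans (Nat.lcm_dvd h1 (Nat.lcm_dvd h2 (Nat.lcm_dvd h3 h4))))
      have l1 : ∀ u v t : ℕ, u ∣ Nat.lcm u (Nat.lcm v t) := fun u v t => Nat.dvd_lcm_left _ _
      have l2 : ∀ u v t : ℕ, v ∣ Nat.lcm u (Nat.lcm v t) := fun u v t =>
        (Nat.dvd_lcm_left v t).trans (Nat.dvd_lcm_right _ _)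
      have l3 : ∀ u v t : ℕ, t ∣ Nat.lcm u (Nat.lcm v t) := fun u v t =>
        (Nat.dvd_lcm_right v t).trans (Nat.dvd_lcm_right _ _)
      -- replace one coordinate
      rcases hcl x with hx | ⟨h, hx⟩ | hx
      · exact fin x y z (l1 _ _ _) (l2 _ _ _) (l3 _ _ _) (hx.trans (l1 _ _ _))
      · exact fin h y z (((dvd_mul_left _ r).trans hx).trans (l1 _ _ _)) (l2 _ _ _) (l3 _ _ _)
          (((dvd_mul_right r _).trans hx).trans (l1 _ _ _))
      rcases hcl y with hy | ⟨h, hy⟩ | hy
      · exact fin x y z (l1 _ _ _) (l2 _ _ _) (l3 _ _ _) (hy.trans (l2 _ _ _))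
      · exact fin x h z (l1 _ _ _) (((dvd_mul_left _ r).trans hy).trans (l2 _ _ _)) (l3 _ _ _)
          (((dvd_mul_right r _).trans hy).trans (l2 _ _ _))
      rcases hcl z with hz | ⟨h, hz⟩ | hz
      · exact fin x y z (l1 _ _ _) (l2 _ _ _) (l3 _ _ _) (hz.trans (l3 _ _ _))
      · exact fin x y h (l1 _ _ _) (l2 _ _ _) (((dvd_mul_left _ r).trans hz).trans (l3 _ _ _))
          (((dvd_mul_right r _).trans hz).trans (l3 _ _ _))
      -- two classes only: one torus element, one unipotent element, one element of order `r`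
      set a := CfsgLib.Known.PSLTori.proj n B₀
      set b := CfsgLib.Known.PSLTori.proj n U
      have key : ∀ t : ℕ, t ∣ M ∨ t ∣ p ^ Nat.clog p n →
          t ∣ Nat.lcm (orderOf a) (Nat.lcm (orderOf b) (orderOf R)) := fun t ht =>
        ht.elim (fun h => h.trans (l1 _ _ _)) fun h => (h.trans hpU).trans (l2 _ _ _)
      exact fin a b R (key _ hx) (key _ hy) (key _ hz) (hR.trans (l3 _ _ _))
    · rintro N ⟨⟨x, y, z⟩, rfl⟩
      exact ⟨(x, y, z, 1), by simp [Prod.orderOf_mk]⟩
  · -- `n - 1` is not a power of `p`: regular unipotent orders are good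
    have hcl' : ∀ g : L, r ∣ orderOf g ∨ (∃ h : L, r * orderOf g ∣ orderOf h) ∨ orderOf g ∣ M := by
      intro g
      rcases hcl g with h | h | h | h
      · exact Or.inl h
      · exact Or.inr (Or.inl h)
      · exact Or.inr (Or.inr h)
      · by_cases hg : r ∣ orderOf g
        · exact Or.inl hg
        refine Or.inr (Or.inl ?_)
        obtain ⟨m', rfl⟩ := Nat.exists_eq_add_of_le (show 1 ≤ n by omega)
        refine good_of_dvd (p := p) le_rfl (show 1 ≤ m' by omega) hrq hrn ?_ hg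
        rw [pow_one, Nat.div_self (by have := Fintype.one_lt_card (α := F); omega), mul_one]
        refine h.trans (pow_dvd_pow p (Nat.clog_le_of_le_pow ?_))
        have hne : m' ≠ p ^ Nat.clog p m' := fun he => hj ⟨Nat.clog p m', by omega⟩
        have := Nat.le_pow_clog hp.one_lt m'
        omega
    apply Set.Subset.antisymm
    · rintro N ⟨⟨x, y, w⟩, rfl⟩
      rw [Prod.orderOf_mk, Prod.orderOf_mk]
      set A := orderOf x; set B := orderOf y
      have hw : Nat.lcm A (Nat.lcm B (orderOf w)) ∣ Nat.lcm A (Nat.lcm B r) :=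
        lcm_dvd_lcm dvd_rfl (lcm_dvd_lcm dvd_rfl (haR w))
      have fin : ∀ a b : L, A ∣ Nat.lcm (orderOf a) (orderOf b) →
          B ∣ Nat.lcm (orderOf a) (orderOf b) → r ∣ Nat.lcm (orderOf a) (orderOf b) →
          Nat.lcm A (Nat.lcm B (orderOf w)) ∈ Set.range (orderOf : L × L → ℕ) :=
        fun a b h1 h2 h3 => orderOf_dvd_prod2 _ a b
          (hw.trans (Nat.lcm_dvd h1 (Nat.lcm_dvd h2 h3)))
      rcases hcl' x with hx | ⟨h, hx⟩ | hx
      · exact fin x y (Nat.dvd_lcm_left _ _) (Nat.dvd_lcm_right _ _) (hx.trans (Nat.dvd_lcm_left _ _))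
      · exact fin h y (((dvd_mul_left _ r).trans hx).trans (Nat.dvd_lcm_left _ _))
          (Nat.dvd_lcm_right _ _) (((dvd_mul_right r _).trans hx).trans (Nat.dvd_lcm_left _ _))
      rcases hcl' y with hy | ⟨h, hy⟩ | hy
      · exact fin x y (Nat.dvd_lcm_left _ _) (Nat.dvd_lcm_right _ _) (hy.trans (Nat.dvd_lcm_right _ _))
      · exact fin x h (Nat.dvd_lcm_left _ _) (((dvd_mul_left _ r).trans hy).trans (Nat.dvd_lcm_right _ _))
          (((dvd_mul_right r _).trans hy).trans (Nat.dvd_lcm_right _ _))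
      exact fin (CfsgLib.Known.PSLTori.proj n B₀) R (hx.trans (Nat.dvd_lcm_left _ _))
        (hy.trans (Nat.dvd_lcm_left _ _)) (hR.trans (Nat.dvd_lcm_right _ _))
    · rintro N ⟨⟨x, y⟩, rfl⟩
      exact ⟨(x, y, 1), by simp [Prod.orderOf_mk]⟩

end Cfsg.Agent.S2510
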