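import Cfsg.Statements.S2511
import Cfsg.Agent.Lib.HallGen.UnitarySpectrum.Main

set_option autoImplicit false
open Cfsg CfsgLib.HallGen.UnitarySpectrum

namespace Cfsg.Agent.S2511

/-- Let F be a finite field with q² elements, q = p^a, n ≥ 3 with (n, q) ≠ (3, 2), L = PSU(n, q) realised over F, and let r be a prime dividing q + 1 and not dividing n. Then for every m the direct product L × L × L × (ℤ/r)^m has the same set of element orders as L × L × L; and if n − 1 is not a power of p, then already L × L × (ℤ/r)^m has the same set of element orders as L × L. -/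
theorem result {F : Type*} [Field F] [Fintype F] (p a n q r m : ℕ) (hp : p.Prime) (ha : 1 ≤ a) (hq : q = p ^ a) (hF : Fintype.card F = q ^ 2)
    (hn : 3 ≤ n) (hn3 : ¬ (n = 3 ∧ q = 2)) (hr : r.Prime) (hrq : r ∣ q + 1) (hrn : ¬ r ∣ n) :
    Set.range (orderOf : Cfsg.PSU n F q × Cfsg.PSU n F q × Cfsg.PSU n F q × Multiplicative (Fin m → ZMod r) → ℕ) = Set.range (orderOf : Cfsg.PSU n F q × Cfsg.PSU n F q × Cfsg.PSU n F q → ℕ) ∧
    ((¬ ∃ j : ℕ, n - 1 = p ^ j) →
      Set.range (orderOf : Cfsg.PSU n F q × Cfsg.PSU n F q × Multiplicative (Fin m → ZMod r) → ℕ) = Set.range (orderOf : Cfsg.PSU n F q × Cfsg.PSU n F q → ℕ)) := by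
  classical
  have hqr := hr.two_le
  have : Fact p.Prime := ⟨hp⟩
  have : CharP F p := by
    obtain ⟨s, hs⟩ := CharP.exists F
    have : Fact s.Prime := ⟨CharP.char_is_prime F s⟩
    obtain ⟨c, hs', hc⟩ := FiniteField.card F s
    have : s ∣ (p ^ a) ^ 2 := by rw [← hq, ← hF, hc]; exact dvd_pow_self s c.pos.ne'
    rwa [← (Nat.prime_dvd_prime_iff_eq hs' hp).1 (hs'.dvd_of_dvd_pow (hs'.dvd_of_dvd_pow this))]
  have : Fact r.Prime := ⟨hr⟩
  have hrp : r ≠ p := ne_char_of_dvd hF hrq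
  obtain ⟨xE, hxE⟩ := exists_torus_psu (n := n) hF hn
  have hEcop := torus_coprime (p := p) (n := n) hF (by omega)
  set E := torusOrder q n / Nat.gcd n (q + 1) with hEdef
  have hsr : ∀ {T : ℕ}, (T = 0 ∨ p ^ (T - 1) < n - 1) → Spec F q n (r * 1 * p ^ T) := fun {T} h => by
    obtain ⟨b, rfl⟩ : ∃ b, n = 1 + b := ⟨n - 1, by omega⟩
    exact spec_block hF hr hrq hn hrn le_rfl (by omega) (by simpa using hr.ne_one) (Nat.coprime_one_left p)
      (one_dvd _) (by simpa using h)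
  obtain ⟨xr, hxr⟩ := hsr (T := 0) (Or.inl rfl)
  rw [mul_one, pow_zero, mul_one] at hxr
  have hz : ∀ z : Multiplicative (Fin m → ZMod r), orderOf z = 1 ∨ orderOf z = r := fun z => by
    refine (Nat.dvd_prime hr).1 (orderOf_dvd_of_pow_eq_one ?_)
    exact Multiplicative.toAdd.injective (funext fun i => by simp [toAdd_pow])
  have h2 : ∀ A B : ℕ, r ∣ A → B ∣ A → ¬ r ∣ B → r * B ∣ A := fun A B ha hb ho =>
    Nat.Coprime.mul_dvd_of_dvd_of_dvd (hr.coprime_iff_not_dvd.2 ho) ha hb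
  refine ⟨range_eq hr (fun x => (x.1, x.2.1, x.2.2, 1)) (fun x => ?_) (fun y => ⟨(y.1, y.2.1, y.2.2.1), ?_⟩) ?_,
    fun hnp => range_eq hr (fun x => (x.1, x.2, 1)) (fun x => ?_) (fun y => ⟨(y.1, y.2.1), ?_⟩) ?_⟩
  · simp [Prod.orderOf]
  · rcases hz y.2.2.2 with h | h <;> simp [Prod.orderOf, h, Nat.lcm_assoc]
  · intro x hx
    have hodd' : ∀ g ∈ [x.1, x.2.1, x.2.2], ¬ r ∣ orderOf g := by
      intro g hg h
      refine hx (h.trans ?_)
      simp only [List.mem_cons, List.not_mem_nil, or_false] at hg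
      rcases hg with rfl | rfl | rfl <;> simp only [Prod.orderOf]
      · exact Nat.dvd_lcm_left _ _
      · exact (Nat.dvd_lcm_left _ _).trans (Nat.dvd_lcm_right _ _)
      · exact (Nat.dvd_lcm_right _ _).trans (Nat.dvd_lcm_right _ _)
    rcases double_or_exceptional (p := p) hF hn hr hrq hrn _ hodd' with ⟨g, hg, y, hy⟩ | ⟨T, -, ⟨u, hu⟩, hd⟩
    · simp only [List.mem_cons, List.not_mem_nil, or_false] at hg
      rcases hg with rfl | rfl | rfl
      on_goal 1 => refine ⟨(y, x.2), h2 _ _ ?_ ?_ hx⟩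
      on_goal 3 => refine ⟨(x.1, y, x.2.2), h2 _ _ ?_ ?_ hx⟩
      on_goal 5 => refine ⟨(x.1, x.2.1, y), h2 _ _ ?_ ?_ hx⟩
      all_goals simp only [Prod.orderOf]
      · exact ((dvd_mul_right _ _).trans hy).trans (Nat.dvd_lcm_left _ _)
      · exact lcm_dvd_lcm ((dvd_mul_left _ _).trans hy) dvd_rfl
      · exact (((dvd_mul_right _ _).trans hy).trans (Nat.dvd_lcm_left _ _)).trans (Nat.dvd_lcm_right _ _)
      · exact lcm_dvd_lcm dvd_rfl (lcm_dvd_lcm ((dvd_mul_left _ _).trans hy) dvd_rfl)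
      · exact (((dvd_mul_right _ _).trans hy).trans (Nat.dvd_lcm_right _ _)).trans (Nat.dvd_lcm_right _ _)
      · exact lcm_dvd_lcm dvd_rfl (lcm_dvd_lcm dvd_rfl ((dvd_mul_left _ _).trans hy))
    · refine ⟨(xE, u, xr), h2 _ _ ?_ ?_ hx⟩
      · simp only [Prod.orderOf]
        exact (hxr.trans (Nat.dvd_lcm_right _ _)).trans (Nat.dvd_lcm_right _ _)
      · have hall : orderOf x ∣ E * p ^ T := by
          simp only [Prod.orderOf]
          exact Nat.lcm_dvd (hd _ (by simp)) (Nat.lcm_dvd (hd _ (by simp)) (hd _ (by simp)))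
        refine hall.trans (Nat.Coprime.mul_dvd_of_dvd_of_dvd (hEcop.pow_right T) ?_ ?_) <;> simp only [Prod.orderOf]
        · exact hxE.trans (Nat.dvd_lcm_left _ _)
        · exact (hu.trans (Nat.dvd_lcm_left _ _)).trans (Nat.dvd_lcm_right _ _)
  · simp [Prod.orderOf]
  · rcases hz y.2.2 with h | h <;> simp [Prod.orderOf, h, Nat.lcm_assoc]
  · intro x hx
    have hodd' : ∀ g ∈ [x.1, x.2], ¬ r ∣ orderOf g := by
      intro g hg h
      refine hx (h.trans ?_)
      simp only [List.mem_cons, List.not_mem_nil, or_false] at hg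
      rcases hg with rfl | rfl <;> simp only [Prod.orderOf]
      · exact Nat.dvd_lcm_left _ _
      · exact Nat.dvd_lcm_right _ _
    rcases double_or_exceptional (p := p) hF hn hr hrq hrn _ hodd' with ⟨g, hg, y, hy⟩ | ⟨T, hT, -, hd⟩
    · simp only [List.mem_cons, List.not_mem_nil, or_false] at hg
      rcases hg with rfl | rfl
      on_goal 1 => refine ⟨(y, x.2), h2 _ _ ?_ ?_ hx⟩
      on_goal 3 => refine ⟨(x.1, y), h2 _ _ ?_ ?_ hx⟩
      all_goals simp only [Prod.orderOf]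
      · exact ((dvd_mul_right _ _).trans hy).trans (Nat.dvd_lcm_left _ _)
      · exact lcm_dvd_lcm ((dvd_mul_left _ _).trans hy) dvd_rfl
      · exact ((dvd_mul_right _ _).trans hy).trans (Nat.dvd_lcm_right _ _)
      · exact lcm_dvd_lcm dvd_rfl ((dvd_mul_left _ _).trans hy)
    · obtain ⟨u, hu⟩ := hsr (T := T) (hT.imp id fun h => lt_of_le_of_ne (by omega) fun h' => hnp ⟨T - 1, by omega⟩)
      have hall : orderOf x ∣ E * p ^ T := by
        simp only [Prod.orderOf]
        exact Nat.lcm_dvd (hd _ (by simp)) (hd _ (by simp))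
      refine ⟨(xE, u), h2 _ _ ?_ (hall.trans (Nat.Coprime.mul_dvd_of_dvd_of_dvd (hEcop.pow_right T) ?_ ?_)) hx⟩ <;>
        simp only [Prod.orderOf]
      · exact ((dvd_mul_right r 1).trans ((dvd_mul_right _ _).trans hu)).trans (Nat.dvd_lcm_right _ _)
      · exact hxE.trans (Nat.dvd_lcm_left _ _)
      · exact ((dvd_mul_left _ _).trans hu).trans (Nat.dvd_lcm_right _ _)
end Cfsg.Agent.S2511
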