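import Cfsg.Statements.S2512
import Cfsg.Agent.Lib.HallGen.SympSpectrum.Main

set_option autoImplicit false
open Cfsg CfsgLib.HallGen.SympSpectrum

namespace Cfsg.Agent.S2512

/-- Let F be a finite field of odd order q = p^a, n ≥ 2 (with q ≥ 3 automatic), and L = PSp(2n, F). Then for every m the direct product L × L × L × (ℤ/2)^m has the same set of element orders as L × L × L; and if 2n − 1 is not a power of p, then already L × L × (ℤ/2)^m has the same set of element orders as L × L. -/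
theorem result {F : Type*} [Field F] [Fintype F] (p a n m : ℕ) (hp : p.Prime) (ha : 1 ≤ a) (hF : Fintype.card F = p ^ a) (hodd : Odd (Fintype.card F))
    (hn : 2 ≤ n) :
    Set.range (orderOf : Cfsg.PSp n F × Cfsg.PSp n F × Cfsg.PSp n F × Multiplicative (Fin m → ZMod 2) → ℕ) = Set.range (orderOf : Cfsg.PSp n F × Cfsg.PSp n F × Cfsg.PSp n F → ℕ) ∧
    ((¬ ∃ j : ℕ, 2 * n - 1 = p ^ j) →
      Set.range (orderOf : Cfsg.PSp n F × Cfsg.PSp n F × Multiplicative (Fin m → ZMod 2) → ℕ) = Set.range (orderOf : Cfsg.PSp n F × Cfsg.PSp n F → ℕ)) := by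
  classical
  have : Fact p.Prime := ⟨hp⟩
  have : CharP F p := by
    obtain ⟨r, hr⟩ := CharP.exists F
    have : Fact r.Prime := ⟨CharP.char_is_prime F r⟩
    obtain ⟨c, hr', hc⟩ := FiniteField.card F r
    have : r ∣ p ^ a := hF ▸ hc ▸ dvd_pow_self r c.pos.ne'
    rwa [← (Nat.prime_dvd_prime_iff_eq hr' hp).1 (hr'.dvd_of_dvd_pow this)]
  have hp2 : p ≠ 2 := by
    rintro rfl
    rw [hF, Nat.odd_iff, Nat.pow_mod] at hodd
    simp [zero_pow (show a ≠ 0 by omega)] at hodd
  have hn1 : 1 ≤ n := by omega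
  obtain ⟨E, hEo, hE, c, hc⟩ := exists_exceptional (F := F) (n := n) (p := p) hp2
  obtain ⟨xE, hxE⟩ := spec_half_torus (F := F) hn1 hE
  obtain ⟨x2, hx2⟩ : Spec F n 2 := (spec_half_torus (F := F) hn1 (N := 2 * c) (by omega)).mono (dvd_mul_right 2 c)
  have hz : ∀ z : Multiplicative (Fin m → ZMod 2), orderOf z = 1 ∨ orderOf z = 2 := fun z => by
    refine (Nat.dvd_prime Nat.prime_two).1 (orderOf_dvd_of_pow_eq_one ?_)
    rw [pow_two]
    exact Multiplicative.toAdd.injective (funext fun i => CharTwo.add_self_eq_zero _)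
  refine ⟨range_eq (fun x => (x.1, x.2.1, x.2.2, 1)) (fun x => ?_) (fun y => ⟨(y.1, y.2.1, y.2.2.1), ?_⟩) ?_,
    fun hnp => range_eq (fun x => (x.1, x.2, 1)) (fun x => ?_) (fun y => ⟨(y.1, y.2.1), ?_⟩) ?_⟩
  · simp [Prod.orderOf]
  · rcases hz y.2.2.2 with h | h <;> simp [Prod.orderOf, h, Nat.lcm_assoc]
  · intro x hx
    have hodd' : ∀ g ∈ [x.1, x.2.1, x.2.2], Odd (orderOf g) := by
      intro g hg
      refine hx.of_dvd_nat ?_
      simp only [List.mem_cons, List.not_mem_nil, or_false] at hg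
      rcases hg with rfl | rfl | rfl <;> simp only [Prod.orderOf]
      · exact Nat.dvd_lcm_left _ _
      · exact (Nat.dvd_lcm_left _ _).trans (Nat.dvd_lcm_right _ _)
      · exact (Nat.dvd_lcm_right _ _).trans (Nat.dvd_lcm_right _ _)
    rcases double_or_exceptional hp2 hn1 hEo hE _ hodd' with ⟨g, hg, y, hy⟩ | ⟨T, -, ⟨u, hu⟩, hd⟩
    · have h2 : ∀ A B : ℕ, 2 ∣ A → B ∣ A → Odd B → 2 * B ∣ A := fun A B ha hb ho =>
        Nat.Coprime.mul_dvd_of_dvd_of_dvd (Nat.coprime_two_left.2 ho) ha hb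
      simp only [List.mem_cons, List.not_mem_nil, or_false] at hg
      rcases hg with rfl | rfl | rfl
      on_goal 1 => refine ⟨(y, x.2), h2 _ _ ?_ ?_ hx⟩
      on_goal 3 => refine ⟨(x.1, y, x.2.2), h2 _ _ ?_ ?_ hx⟩
      on_goal 5 => refine ⟨(x.1, x.2.1, y), h2 _ _ ?_ ?_ hx⟩
      all_goals simp only [Prod.orderOf]
      · exact ((dvd_mul_right _ _).trans hy).trans (Nat.dvd_lcm_left _ _)
      · exact lcm_dvd_lcm ((dvd_mul_left _ _).trans hy) dvd_rfl
      · exact (((dvd_mul_right _ _).trans hy).trans (Nat.dvd_lcm_left _ _)).trans (Nat.dvd_lcm_right _ _)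
      · exact lcm_dvd_lcm dvd_rfl (lcm_dvd_lcm ((dvd_mul_left _ _).trans hy) dvd_rfl)
      · exact (((dvd_mul_right _ _).trans hy).trans (Nat.dvd_lcm_right _ _)).trans (Nat.dvd_lcm_right _ _)
      · exact lcm_dvd_lcm dvd_rfl (lcm_dvd_lcm dvd_rfl ((dvd_mul_left _ _).trans hy))
    · refine ⟨(xE, u, x2), Nat.Coprime.mul_dvd_of_dvd_of_dvd (Nat.coprime_two_left.2 hx) ?_ ?_⟩
      · simp only [Prod.orderOf]
        exact (hx2.trans (Nat.dvd_lcm_right _ _)).trans (Nat.dvd_lcm_right _ _)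
      · have hall : orderOf x ∣ E * p ^ T := by
          simp only [Prod.orderOf]
          exact Nat.lcm_dvd (hd _ (by simp)) (Nat.lcm_dvd (hd _ (by simp)) (hd _ (by simp)))
        have hcop : E.Coprime (p ^ T) := Nat.Coprime.pow_right T (exceptional_coprime (p := p) hn1 hE)
        refine hall.trans (Nat.Coprime.mul_dvd_of_dvd_of_dvd hcop ?_ ?_) <;> simp only [Prod.orderOf]
        · exact hxE.trans (Nat.dvd_lcm_left _ _)
        · exact (hu.trans (Nat.dvd_lcm_left _ _)).trans (Nat.dvd_lcm_right _ _)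
  · simp [Prod.orderOf]
  · rcases hz y.2.2 with h | h <;> simp [Prod.orderOf, h, Nat.lcm_assoc]
  · intro x hx
    have hodd' : ∀ g ∈ [x.1, x.2], Odd (orderOf g) := by
      intro g hg
      refine hx.of_dvd_nat ?_
      simp only [List.mem_cons, List.not_mem_nil, or_false] at hg
      rcases hg with rfl | rfl <;> simp only [Prod.orderOf]
      · exact Nat.dvd_lcm_left _ _
      · exact Nat.dvd_lcm_right _ _
    rcases double_or_exceptional hp2 hn1 hEo hE _ hodd' with ⟨g, hg, y, hy⟩ | ⟨T, hT, -, hd⟩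
    · have h2 : ∀ A B : ℕ, 2 ∣ A → B ∣ A → Odd B → 2 * B ∣ A := fun A B ha hb ho =>
        Nat.Coprime.mul_dvd_of_dvd_of_dvd (Nat.coprime_two_left.2 ho) ha hb
      simp only [List.mem_cons, List.not_mem_nil, or_false] at hg
      rcases hg with rfl | rfl
      on_goal 1 => refine ⟨(y, x.2), h2 _ _ ?_ ?_ hx⟩
      on_goal 3 => refine ⟨(x.1, y), h2 _ _ ?_ ?_ hx⟩
      all_goals simp only [Prod.orderOf]
      · exact ((dvd_mul_right _ _).trans hy).trans (Nat.dvd_lcm_left _ _)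
      · exact lcm_dvd_lcm ((dvd_mul_left _ _).trans hy) dvd_rfl
      · exact ((dvd_mul_right _ _).trans hy).trans (Nat.dvd_lcm_right _ _)
      · exact lcm_dvd_lcm dvd_rfl ((dvd_mul_left _ _).trans hy)
    · obtain ⟨u, hu⟩ : Spec F n (2 * 1 * p ^ T) := by
        obtain ⟨b, rfl⟩ : ∃ b, n = 1 + (b + 1) := ⟨n - 2, by omega⟩
        refine spec_block hp2 le_rfl (by omega) odd_one (Nat.coprime_one_left p) (Or.inl (one_dvd _)) ?_
        rcases Nat.lt_or_ge T 2 with h | h
        · rcases Nat.eq_zero_or_pos T with h0 | h0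
          · exact Or.inl h0
          · exact Or.inr (by rw [show T - 1 = 0 by omega, pow_zero]; omega)
        · have h1 := hT.resolve_left (by omega)
          obtain ⟨e, he⟩ : Odd (p ^ (T - 1)) := (hp.odd_of_ne_two hp2).pow
          refine Or.inr (not_le.1 fun h4 => hnp ⟨T - 1, ?_⟩)
          omega
      have hall : orderOf x ∣ E * p ^ T := by
        simp only [Prod.orderOf]
        exact Nat.lcm_dvd (hd _ (by simp)) (hd _ (by simp))
      refine ⟨(xE, u), Nat.Coprime.mul_dvd_of_dvd_of_dvd (Nat.coprime_two_left.2 hx) ?_ (hall.trans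
        (Nat.Coprime.mul_dvd_of_dvd_of_dvd (Nat.Coprime.pow_right T (exceptional_coprime (p := p) hn1 hE)) ?_ ?_))⟩ <;>
        simp only [Prod.orderOf]
      · exact ((dvd_mul_right 2 1).trans ((dvd_mul_right _ _).trans hu)).trans (Nat.dvd_lcm_right _ _)
      · exact hxE.trans (Nat.dvd_lcm_left _ _)
      · exact ((dvd_mul_left _ _).trans hu).trans (Nat.dvd_lcm_right _ _)
end Cfsg.Agent.S2512
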