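import Cfsg.Statements.S2513
import Mathlib
import Cfsg.Agent.Lib.Known.GLOrders

set_option autoImplicit false
open Cfsg

namespace Cfsg.Agent.S2513

open CfsgLib.Known in
/-- Over the field with two elements `PSL n F` is isomorphic to `GL n F`. -/
theorem gl_to_psl {F : Type*} [Field F] [Fintype F] (hF : Fintype.card F = 2) (n : ℕ) :
    ∃ ψ : GL (Fin n) F →* Matrix.ProjectiveSpecialLinearGroup (Fin n) F, Function.Bijective ψ := by
  classical
  have hu : ∀ x : Fˣ, x = 1 := by
    have hc : Fintype.card Fˣ ≤ 1 := by rw [Fintype.card_units, hF]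
    exact fun x => Fintype.card_le_one_iff.1 hc x 1
  let ψ₀ : GL (Fin n) F →* Matrix.SpecialLinearGroup (Fin n) F :=
    { toFun := fun g => ⟨g, by
        have := congrArg Units.val (hu (Matrix.GeneralLinearGroup.det g))
        simpa using this⟩
      map_one' := by ext; simp
      map_mul' := fun a b => Subtype.ext (Units.val_mul a b) }
  have hc : ∀ z ∈ Subgroup.center (Matrix.SpecialLinearGroup (Fin n) F), z = 1 := by
    intro z hz
    obtain ⟨r, hr, hz'⟩ := Matrix.SpecialLinearGroup.mem_center_iff.1 hz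
    apply Matrix.SpecialLinearGroup.ext
    rcases n with _ | n
    · exact fun i => i.elim0
    have hr0 : r ≠ 0 := by
      rintro rfl
      simp at hr
    have h1 : r = 1 := congrArg Units.val (hu (Units.mk0 r hr0))
    subst h1
    intro i j
    rw [← hz']
    simp
  refine ⟨(QuotientGroup.mk' _).comp ψ₀, ?_, ?_⟩
  · refine (MonoidHom.ker_eq_bot_iff _).1 ?_
    rw [eq_bot_iff]
    intro g hg
    have h1 := hc _ ((QuotientGroup.eq_one_iff _).1 hg)
    have h2 := congrArg (fun z : Matrix.SpecialLinearGroup (Fin n) F => (z : Matrix (Fin n) (Fin n) F)) h1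
    exact Subgroup.mem_bot.2 (Units.ext h2)
  · intro x
    obtain ⟨y, rfl⟩ := QuotientGroup.mk_surjective x
    exact ⟨Matrix.SpecialLinearGroup.toGL y, rfl⟩

theorem primePow_dvd_lcm {ι : Type*} (s : Finset ι) (f : ι → ℕ) {r a : ℕ} (hr : r.Prime) (ha : a ≠ 0)
    (h0 : ∀ i ∈ s, f i ≠ 0) (h : r ^ a ∣ s.lcm f) : ∃ i ∈ s, r ^ a ∣ f i := by
  classical
  induction s using Finset.induction_on with
  | empty =>
    rw [Finset.lcm_empty, Nat.dvd_one, Nat.pow_eq_one] at h
    rcases h with h | h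
    · exact absurd h hr.ne_one
    · exact absurd h ha
  | insert i s hi ih =>
    rw [Finset.lcm_insert] at h
    have h2 : s.lcm f ≠ 0 := by
      rw [Ne, Finset.lcm_eq_zero_iff]
      rintro ⟨j, hj, hj'⟩
      exact h0 j (Finset.mem_insert_of_mem hj) hj'
    have h1 := h0 i (Finset.mem_insert_self i s)
    change r ^ a ∣ Nat.lcm (f i) (s.lcm f) at h
    rw [hr.pow_dvd_iff_le_factorization (Nat.lcm_ne_zero h1 h2), Nat.factorization_lcm h1 h2,
      Finsupp.sup_apply, le_sup_iff, ← hr.pow_dvd_iff_le_factorization h1,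
      ← hr.pow_dvd_iff_le_factorization h2] at h
    rcases h with h | h
    · exact ⟨i, Finset.mem_insert_self i s, h⟩
    · obtain ⟨j, hj, hj'⟩ := ih (fun j hj => h0 j (Finset.mem_insert_of_mem hj)) h
      exact ⟨j, Finset.mem_insert_of_mem hj, hj'⟩

theorem exists_pow_orderOf {G : Type*} [Group G] [Finite G] (g : G) {m : ℕ} (h : m ∣ orderOf g) :
    ∃ g' : G, orderOf g' = m := by
  obtain ⟨c, hc⟩ := h
  refine ⟨g ^ c, ?_⟩
  have hc0 : c ≠ 0 := by
    rintro rfl
    exact (orderOf_pos g).ne' (by simpa using hc)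
  rw [orderOf_pow' _ hc0, hc, Nat.gcd_eq_right (Dvd.intro_left _ rfl),
    Nat.mul_div_cancel _ (Nat.pos_of_ne_zero hc0)]

open CfsgLib.Known in
theorem gl_powers {F : Type*} [Field F] [Fintype F] (hF : Fintype.card F = 2) (n k : ℕ) (hn : 2 ≤ n)
    (f : Fin k → GL (Fin n) F) :
    ∃ f' : Fin ((n + 3) / 2) → GL (Fin n) F, orderOf f' = orderOf f := by
  classical
  haveI : CharP F 2 := charP_of_card_eq_prime hF
  haveI : Fact (Nat.Prime 2) := ⟨Nat.prime_two⟩
  set m := orderOf f with hm
  have hm0 : m ≠ 0 := (orderOf_pos f).ne'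
  obtain ⟨e, m', hm', hme⟩ := Nat.exists_eq_two_pow_mul_odd hm0
  have hlcm : m = Finset.univ.lcm fun i => orderOf (f i) := Pi.orderOf f
  have hpp : ∀ r a : ℕ, r.Prime → r ^ a ∣ m → a ≠ 0 → ∃ g : GL (Fin n) F, orderOf g = r ^ a := by
    intro r a hr h ha
    rw [hlcm] at h
    obtain ⟨i, -, hi⟩ := primePow_dvd_lcm _ _ hr ha (fun i _ => (orderOf_pos (f i)).ne') h
    exact exists_pow_orderOf _ hi
  have he : 2 ^ e ∣ 2 ^ Nat.clog 2 n := by
    rcases Nat.eq_zero_or_pos e with rfl | he
    · simp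
    · obtain ⟨g, hg⟩ := hpp 2 e Nat.prime_two (hme ▸ Dvd.intro m' rfl) he.ne'
      rw [← hg]
      exact GLOrders.char_pow_dvd g (by rw [hg])
  obtain ⟨u₀, hu₀⟩ := GLOrders.exists_orderOf_eq_char_pow (F := F) (p := 2) n
  obtain ⟨u, hu⟩ := exists_pow_orderOf u₀ (hu₀ ▸ he)
  have hsd : ∀ i : Fin ((n + 1) / 2), ∃ g : GL (Fin n) F,
      orderOf g = Nat.gcd m (2 ^ (n - i.val) - 1) := by
    intro i
    exact GLOrders.exists_orderOf_eq_of_dvd (d := n - i.val) (by have := i.isLt; omega) (by omega)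
      (by rw [hF]; exact Nat.gcd_dvd_right _ _)
  choose s hs using hsd
  let f₁ : Fin ((n + 1) / 2 + 1) → GL (Fin n) F := Fin.cons u s
  have hd' : ∀ j, orderOf (f₁ j) ∣ orderOf f₁ := fun j => by
    rw [Pi.orderOf f₁]
    exact Finset.dvd_lcm (f := fun j => orderOf (f₁ j)) (Finset.mem_univ j)
  have hf₁ : orderOf f₁ = m := by
    refine Nat.dvd_antisymm ?_ ?_
    · rw [Pi.orderOf f₁, Finset.lcm_dvd_iff]
      intro i _
      refine Fin.cases ?_ (fun j => ?_) i
      · simp only [f₁, Fin.cons_zero, hu, hme]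
        exact Dvd.intro m' rfl
      · simp only [f₁, Fin.cons_succ, hs]
        exact Nat.gcd_dvd_left _ _
    · rw [Nat.dvd_iff_prime_pow_dvd_dvd]
      intro r a hr h
      rcases Nat.eq_zero_or_pos a with rfl | ha
      · simp
      obtain ⟨g, hg⟩ := hpp r a hr h ha.ne'
      by_cases hr2 : r = 2
      · subst hr2
        have hae : 2 ^ a ∣ 2 ^ e :=
          (Nat.Coprime.pow_left a (Nat.coprime_two_left.2 hm')).dvd_of_dvd_mul_right (hme ▸ h)
        have h0 : orderOf (f₁ 0) ∣ orderOf f₁ := hd' 0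
        exact (hae.trans (by simp [f₁, hu])).trans h0
      · have h2r : ¬ 2 ∣ r := fun h => hr2 ((Nat.prime_dvd_prime_iff_eq Nat.prime_two hr).1 h).symm
        obtain ⟨d, hd1, hdn, hd⟩ := GLOrders.primePow_dvd_card_pow_sub_one (by omega) g hr h2r hg
        rw [hF] at hd
        have hdd : d ∣ d * (n / d) := Dvd.intro _ rfl
        have hle : d * (n / d) ≤ n := Nat.mul_div_le n d
        have hlt : n < d * (n / d) + d := by
          have := Nat.lt_mul_div_succ n (show 0 < d by omega)
          rwa [mul_add, mul_one] at this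
        have hge : d ≤ d * (n / d) := Nat.le_mul_of_pos_right _ (Nat.div_pos hdn (by omega))
        let i : Fin ((n + 1) / 2) := ⟨n - d * (n / d), by omega⟩
        have hi : n - i.val = d * (n / d) := by simp only [i]; omega
        have h0 : orderOf (f₁ i.succ) ∣ orderOf f₁ := hd' i.succ
        refine dvd_trans ?_ h0
        simp only [f₁, Fin.cons_succ, hs, hi]
        exact Nat.dvd_gcd h (hd.trans (Nat.pow_sub_one_dvd_pow_sub_one 2 hdd))
  refine ⟨fun i => f₁ (i.cast (by omega)), ?_⟩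
  rw [← hf₁, Pi.orderOf, Pi.orderOf]
  apply Nat.dvd_antisymm
  · exact Finset.lcm_dvd fun i _ => Finset.dvd_lcm (f := fun j => orderOf (f₁ j)) (Finset.mem_univ _)
  · refine Finset.lcm_dvd fun i _ => ?_
    have := Finset.dvd_lcm (f := fun j : Fin ((n + 3) / 2) => orderOf (f₁ (j.cast (by omega))))
      (Finset.mem_univ (i.cast (by omega)))
    simpa using this


/-- Let F be the field with two elements, n ≥ 2, L = PSL(n, F) and k₀ = ⌊(n + 3)/2⌋. Then for every k ≥ k₀ the direct product of k copies of L has the same set of element orders as the direct product of k₀ copies of L. -/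
theorem result {F : Type*} [Field F] [Fintype F] (hF : Fintype.card F = 2) (n k : ℕ) (hn : 2 ≤ n) (hk : (n + 3) / 2 ≤ k) :
    Set.range (orderOf : (Fin k → Matrix.ProjectiveSpecialLinearGroup (Fin n) F) → ℕ) = Set.range (orderOf : (Fin ((n + 3) / 2) → Matrix.ProjectiveSpecialLinearGroup (Fin n) F) → ℕ) := by
  classical
  obtain ⟨ψ, hψ⟩ := gl_to_psl hF n
  ext m
  constructor
  · rintro ⟨f, rfl⟩
    choose g hg using fun i => hψ.2 (f i)
    obtain ⟨g', hg'⟩ := gl_powers hF n k hn g
    refine ⟨fun i => ψ (g' i), ?_⟩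
    have h1 : orderOf (fun i => ψ (g' i)) = orderOf g' := by
      simp only [Pi.orderOf, orderOf_injective ψ hψ.1]
    have h2 : orderOf f = orderOf g := by
      simp only [Pi.orderOf, ← hg, orderOf_injective ψ hψ.1]
    rw [h1, hg', h2]
  · rintro ⟨f, rfl⟩
    refine ⟨fun j => if h : j.val < (n + 3) / 2 then f ⟨j.val, h⟩ else 1, ?_⟩
    rw [Pi.orderOf, Pi.orderOf]
    apply Nat.dvd_antisymm
    · refine Finset.lcm_dvd fun j _ => ?_
      by_cases h : j.val < (n + 3) / 2
      · simpa [h] using Finset.dvd_lcm (f := fun i => orderOf (f i)) (Finset.mem_univ ⟨j.val, h⟩)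
      · simp [h]
    · refine Finset.lcm_dvd fun i _ => ?_
      have hi : i.val < k := lt_of_lt_of_le i.isLt hk
      have := Finset.dvd_lcm (f := fun j : Fin k =>
        orderOf (if h : j.val < (n + 3) / 2 then f ⟨j.val, h⟩ else 1)) (Finset.mem_univ ⟨i.val, hi⟩)
      simpa [i.isLt] using this

end Cfsg.Agent.S2513
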