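import Cfsg.Statements.S2514

set_option autoImplicit false
open Cfsg

namespace Cfsg.Agent.S2514

theorem hdvd {G : Type*} [Group G] [Finite G] {x : G} {n : ℕ} (h : n ∣ orderOf x) :
    n ∈ Set.range (orderOf : G → ℕ) :=
  ⟨x ^ (orderOf x / n), orderOf_pow_orderOf_div (orderOf_pos x).ne' h⟩

theorem hmax {G : Type*} [Group G] [Finite G] (x : G) : ∃ m : ℕ, orderOf x ∣ m ∧
    m ∈ Set.range (orderOf : G → ℕ) ∧ ∀ m' ∈ Set.range (orderOf : G → ℕ), m ∣ m' → m' = m := by
  have hS : {m ∈ Set.range (orderOf : G → ℕ) | orderOf x ∣ m}.Finite :=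
    (Set.finite_range _).subset fun m hm => hm.1
  obtain ⟨m, hm⟩ := hS.exists_maximal ⟨_, ⟨x, rfl⟩, dvd_rfl⟩
  refine ⟨m, hm.1.2, hm.1.1, fun m' hm' h => ?_⟩
  obtain ⟨y, rfl⟩ := hm'
  have h0 : 0 < m := by obtain ⟨z, rfl⟩ := hm.1.1; exact orderOf_pos z
  exact le_antisymm (hm.2 ⟨⟨y, rfl⟩, hm.1.2.trans h⟩ (Nat.le_of_dvd (orderOf_pos y) h))
    (Nat.le_of_dvd (orderOf_pos y) h)


/-- For a finite group X write μ(X) for the set of element orders of X that are maximal under divisibility. Let G and H be finite groups and k ≥ 1 such that μ(H) ⊆ μ(G) and μ(G) has fewer than k elements outside μ(H). Then the direct product of k copies of G has the same set of element orders as the direct product of k − 1 copies of G with H. -/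
theorem result {G H : Type*} [Group G] [Finite G] [Group H] [Finite H] (k : ℕ) (hk : 1 ≤ k)
    (hsub : {n : ℕ | n ∈ Set.range (orderOf : H → ℕ) ∧ ∀ m ∈ Set.range (orderOf : H → ℕ), n ∣ m → m = n} ⊆ {n : ℕ | n ∈ Set.range (orderOf : G → ℕ) ∧ ∀ m ∈ Set.range (orderOf : G → ℕ), n ∣ m → m = n})
    (hfew : ({n : ℕ | n ∈ Set.range (orderOf : G → ℕ) ∧ ∀ m ∈ Set.range (orderOf : G → ℕ), n ∣ m → m = n} \ {n : ℕ | n ∈ Set.range (orderOf : H → ℕ) ∧ ∀ m ∈ Set.range (orderOf : H → ℕ), n ∣ m → m = n}).ncard < k) :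
    Set.range (orderOf : (Fin k → G) → ℕ) = Set.range (orderOf : (Fin (k - 1) → G) × H → ℕ) := by
  obtain ⟨k, rfl⟩ := Nat.exists_eq_add_of_le' hk
  apply Set.Subset.antisymm
  · rintro n ⟨f, rfl⟩
    choose m hm hmG hmax' using fun i => hmax (f i)
    by_cases hH : ∃ i, m i ∈ {n : ℕ | n ∈ Set.range (orderOf : H → ℕ) ∧
        ∀ m ∈ Set.range (orderOf : H → ℕ), n ∣ m → m = n}
    · obtain ⟨i, ⟨y, hy⟩, -⟩ := hH
      obtain ⟨z, hz⟩ := hdvd (x := y) (hy ▸ hm i)
      refine ⟨(fun j => f (i.succAbove j), z), orderOf_eq_orderOf_iff.2 fun n => ?_⟩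
      simp only [Prod.ext_iff, funext_iff, Prod.pow_fst, Prod.pow_snd, Pi.pow_apply, Prod.fst_one,
        Prod.snd_one, Pi.one_apply, Fin.forall_iff_succAbove i]
      simp only [← orderOf_dvd_iff_pow_eq_one, hz]
      exact and_comm
    · push Not at hH
      rw [← show (Set.univ : Set (Fin (k + 1))).ncard = k + 1 from by
        rw [Set.ncard_univ, Nat.card_eq_fintype_card, Fintype.card_fin]] at hfew
      obtain ⟨a, -, b, -, hab, hmab⟩ := Set.exists_ne_map_eq_of_ncard_lt_of_maps_to hfew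
        (f := m) (fun i _ => ⟨⟨hmG i, hmax' i⟩, hH i⟩)
        (((Set.finite_range (orderOf : G → ℕ)).subset fun n hn => hn.1).sdiff)
      obtain ⟨y, hy⟩ := hmG a
      obtain ⟨z, hz⟩ := hdvd (x := y) (n := Nat.lcm (orderOf (f a)) (orderOf (f b)))
        (by rw [hy]; exact Nat.lcm_dvd (hm a) (hmab ▸ hm b))
      refine ⟨(fun j => if b.succAbove j = a then z else f (b.succAbove j), 1),
        orderOf_eq_orderOf_iff.2 fun n => ?_⟩
      simp only [Prod.ext_iff, funext_iff, Prod.pow_fst, Prod.pow_snd, Pi.pow_apply, Prod.fst_one,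
        Prod.snd_one, Pi.one_apply, one_pow, and_true]
      simp only [← orderOf_dvd_iff_pow_eq_one]
      constructor
      · intro h
        obtain ⟨j₀, hj₀⟩ := Fin.exists_succAbove_eq hab
        have ha := h j₀
        rw [if_pos hj₀, hz, Nat.lcm_dvd_iff] at ha
        rw [Fin.forall_iff_succAbove b]
        refine ⟨ha.2, fun j => ?_⟩
        by_cases hja : b.succAbove j = a
        · rw [hja]; exact ha.1
        · have := h j
          rwa [if_neg hja] at this
      · intro h j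
        split_ifs
        · rw [hz]; exact Nat.lcm_dvd (h a) (h b)
        · exact h _
  · rintro n ⟨⟨f, y⟩, rfl⟩
    obtain ⟨m, hym, hmH⟩ := hmax y
    obtain ⟨x, hx⟩ := (hsub hmH).1
    obtain ⟨z, hz⟩ := hdvd (x := x) (hx ▸ hym)
    refine ⟨Fin.cons z f, orderOf_eq_orderOf_iff.2 fun n => ?_⟩
    simp only [Prod.ext_iff, funext_iff, Prod.pow_fst, Prod.pow_snd, Pi.pow_apply, Prod.fst_one,
      Prod.snd_one, Pi.one_apply, Fin.forall_fin_succ, Fin.cons_zero, Fin.cons_succ]
    simp only [← orderOf_dvd_iff_pow_eq_one, hz]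
    exact and_comm

end Cfsg.Agent.S2514
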