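import Cfsg.Statements.S2516

set_option autoImplicit false
open Cfsg

namespace Cfsg.Agent.S2516

/-- Let F be a field of characteristic p > 0, V a non-zero finite-dimensional F-vector space, G a finite group and ρ a representation of G on V; form the semidirect product V ⋊ G. For g ∈ G of order k, the coset Vg contains an element of order pk if and only if the minimal polynomial of ρ(g) does not divide 1 + X + ⋯ + X^(k−1). -/
theorem result {F : Type*} [Field F] (p : ℕ) [Fact p.Prime] [CharP F p] {V : Type*} [AddCommGroup V] [Module F V] [FiniteDimensional F V] [Nontrivial V]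
    {G : Type*} [Group G] [Finite G] (ρ : Representation F G V) (g : G) :
    (∃ x : Multiplicative V ⋊[(MulAutMultiplicative V).symm.toMonoidHom.comp
        ((DistribMulAction.toAddAut ((V →ₗ[F] V)ˣ) V).comp ρ.asGroupHom)] G,
        x.right = g ∧ orderOf x = p * orderOf g) ↔
      ¬ (minpoly F (ρ g) ∣ ∑ i ∈ Finset.range (orderOf g), (Polynomial.X : Polynomial F) ^ i) := by
  classical
  set φ := (MulAutMultiplicative V).symm.toMonoidHom.comp
        ((DistribMulAction.toAddAut ((V →ₗ[F] V)ˣ) V).comp ρ.asGroupHom) with hφ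
  set k := orderOf g with hk
  set S : V →ₗ[F] V := ∑ i ∈ Finset.range k, ρ g ^ i with hS
  have hφapply : ∀ (h : G) (v : Multiplicative V), φ h v = Multiplicative.ofAdd (ρ h v.toAdd) := fun h v => rfl
  have hdvd : minpoly F (ρ g) ∣ ∑ i ∈ Finset.range k, (Polynomial.X : Polynomial F) ^ i ↔ S = 0 := by
    have he : Polynomial.aeval (ρ g) (∑ i ∈ Finset.range k, (Polynomial.X : Polynomial F) ^ i) = S := by
      simp [hS]
    exact ⟨fun h => he ▸ (minpoly.dvd_iff.1 h), fun h => minpoly.dvd_iff.2 (he.trans h)⟩
  have hpow : ∀ (x : Multiplicative V ⋊[φ] G), x.right = g → ∀ l : ℕ,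
      (x ^ l).right = g ^ l ∧ (x ^ l).left = Multiplicative.ofAdd ((∑ i ∈ Finset.range l, ρ g ^ i) x.left.toAdd) := by
    intro x hx l
    induction l with
    | zero => simp
    | succ l ih =>
      refine ⟨by rw [pow_succ, SemidirectProduct.mul_right, ih.1, hx, pow_succ], ?_⟩
      rw [pow_succ, SemidirectProduct.mul_left, ih.1, ih.2, hφapply, Finset.sum_range_succ, LinearMap.add_apply,
        ofAdd_add, map_pow]
  have hp0 : ∀ v : V, p • v = 0 := fun v => by
    rw [← Nat.cast_smul_eq_nsmul F, CharP.cast_eq_zero, zero_smul]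
  have hord : ∀ (x : Multiplicative V ⋊[φ] G), x.right = g →
      orderOf x = k * (if S x.left.toAdd = 0 then 1 else p) := by
    intro x hx
    have hk1 : k ∣ orderOf x := by
      rw [hk, ← hx]
      exact orderOf_map_dvd (SemidirectProduct.rightHom (φ := φ)) x
    obtain ⟨c, hc⟩ := hk1
    have hxk : x ^ k = SemidirectProduct.inl (Multiplicative.ofAdd (S x.left.toAdd)) := by
      obtain ⟨h1, h2⟩ := hpow x hx k
      refine SemidirectProduct.ext ?_ ?_
      · rw [h2, SemidirectProduct.left_inl, hS]
      · rw [h1, hk, pow_orderOf_eq_one, SemidirectProduct.right_inl]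
    have hordk : orderOf (x ^ k) = if S x.left.toAdd = 0 then 1 else p := by
      rw [hxk, orderOf_injective _ SemidirectProduct.inl_injective]
      split
      · next h => rw [h, ofAdd_zero, orderOf_one]
      · next h =>
        refine orderOf_eq_prime ?_ fun h' => h ?_
        · rw [← ofAdd_nsmul, hp0, ofAdd_zero]
        · exact Multiplicative.ofAdd.injective (h'.trans ofAdd_zero.symm)
    rw [← hordk, orderOf_pow' _ (orderOf_pos g).ne', hc, Nat.gcd_eq_right (dvd_mul_right k c),
      Nat.mul_div_cancel_left _ (orderOf_pos g)]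
  rw [hdvd]
  constructor
  · rintro ⟨x, hx, ho⟩ h0
    rw [hord x hx, h0, LinearMap.zero_apply, if_pos rfl, mul_one] at ho
    have := (Fact.out : p.Prime).two_le
    have := orderOf_pos g
    nlinarith
  · intro h
    obtain ⟨v, hv⟩ : ∃ v, S v ≠ 0 := by
      by_contra hcon
      push Not at hcon
      exact h (LinearMap.ext hcon)
    refine ⟨⟨Multiplicative.ofAdd v, g⟩, rfl, ?_⟩
    rw [hord _ rfl, if_neg (by simpa using hv), mul_comm]

end Cfsg.Agent.S2516
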