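import Cfsg.Statements.S2518
import Cfsg.Agent.Lib.Known.G2Three
import Cfsg.Agent.Lib.Recog.PSLTwoOrders
import Cfsg.Agent.Lib.Classical.SmallIso

set_option autoImplicit false
open Cfsg

namespace Cfsg.Agent.S2518

/-- Let F₃ be the field with 3 elements and F₁₃ the field with 13 elements. The Chevalley group G₂(F₃) and PSL(2, F₁₃) have the same prime graph: the same prime divisors of their orders, and for distinct primes r, s an element of order rs in one iff in the other. -/
theorem result {F : Type*} [Field F] [Fintype F] (hF : Fintype.card F = 3) {E : Type*} [Field E] [Fintype E] (hE : Fintype.card E = 13) :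
    ((∀ r : ℕ, r.Prime → (r ∣ Nat.card ↥(Cfsg.Lie.chevG2.group F) ↔ r ∣ Nat.card (Matrix.ProjectiveSpecialLinearGroup (Fin 2) E))) ∧
      (∀ r s : ℕ, r.Prime → s.Prime → r ≠ s → ((∃ x : ↥(Cfsg.Lie.chevG2.group F), orderOf x = r * s) ↔ (∃ y : (Matrix.ProjectiveSpecialLinearGroup (Fin 2) E), orderOf y = r * s)))) := by
  classical
  obtain ⟨e⟩ := CfsgLib.Known.G2Three.nonempty_equiv hF
  haveI : Fact (Nat.Prime 13) := ⟨by norm_num⟩
  haveI : CharP E 13 := charP_of_card_eq_prime hE
  have hcard : Nat.card (Matrix.ProjectiveSpecialLinearGroup (Fin 2) E) = 1092 := by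
    have h := CfsgLib.Classical.Two.card_PSL_two (F := E)
    rw [hE, show Nat.gcd 2 (13 - 1) = 2 by decide] at h
    omega
  have hord : ∀ n : ℕ, (∃ y : Matrix.ProjectiveSpecialLinearGroup (Fin 2) E, orderOf y = n) ↔
      n = 13 ∨ n ∣ 6 ∨ n ∣ 7 := by
    intro n
    have h := CfsgLib.Recog.PSLTwoOrders.range_orderOf (F := E) 13 (by rw [hE]; norm_num)
    rw [hE] at h
    norm_num at h
    simpa using Set.ext_iff.1 h n
  refine ⟨fun r hr => ?_, fun r s hr hs hrs => ?_⟩
  · rw [Nat.card_congr e.toEquiv, CfsgLib.Known.G2Three.card_G, hcard,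
      show (4245696 : ℕ) = 2 ^ 6 * (3 ^ 6 * (7 * 13)) by norm_num,
      show (1092 : ℕ) = 2 ^ 2 * (3 * (7 * 13)) by norm_num]
    simp only [hr.dvd_mul]
    constructor <;> rintro (h | h)
    · exact Or.inl ((hr.dvd_of_dvd_pow h).trans (dvd_pow_self 2 (by norm_num)))
    · exact Or.inr (h.imp_left hr.dvd_of_dvd_pow)
    · exact Or.inl ((hr.dvd_of_dvd_pow h).trans (dvd_pow_self 2 (by norm_num)))
    · exact Or.inr (h.imp_left fun h => h.trans (dvd_pow_self 3 (by norm_num)))
  · have key : ∀ r s : ℕ, r.Prime → s.Prime → r < s →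
        ((∃ x : ↥(Cfsg.Lie.chevG2.group F), orderOf x = r * s) ↔
          ∃ y : Matrix.ProjectiveSpecialLinearGroup (Fin 2) E, orderOf y = r * s) := by
      intro r s hr hs hrs
      have h1 : (∃ x : ↥(Cfsg.Lie.chevG2.group F), orderOf x = r * s) ↔
          ∃ x : CfsgLib.Known.G2Three.G, orderOf x = r * s :=
        ⟨fun ⟨x, hx⟩ => ⟨e x, by rw [e.orderOf_eq, hx]⟩,
          fun ⟨x, hx⟩ => ⟨e.symm x, by rw [e.symm.orderOf_eq, hx]⟩⟩
      rw [h1, CfsgLib.Known.G2Three.order_pairs hr hs hrs, hord]
      constructor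
      · rintro ⟨rfl, rfl⟩
        norm_num
      · rintro (h | h | h)
        · exact absurd h (by
            intro h
            have := (Nat.prime_mul_iff.1 (h ▸ (by norm_num : Nat.Prime 13))).resolve_left
              (fun h => hs.ne_one h.2)
            exact hr.ne_one this.2)
        · have hr6 : r ≤ 6 := Nat.le_of_dvd (by norm_num) ((dvd_mul_right r s).trans h)
          have hs6 : s ≤ 6 := Nat.le_of_dvd (by norm_num) ((dvd_mul_left s r).trans h)
          interval_cases r <;> interval_cases s <;> first | omega | norm_num at *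
        · rcases ((by norm_num : Nat.Prime 7).eq_one_or_self_of_dvd _ h) with h | h
          · exact absurd (Nat.eq_one_of_mul_eq_one_right h) hr.ne_one
          · have h7 : Nat.Prime (r * s) := h ▸ (by norm_num)
            rcases Nat.prime_mul_iff.1 h7 with h | h
            · exact absurd h.2 hs.ne_one
            · exact absurd h.2 hr.ne_one
    rcases lt_or_gt_of_ne hrs with h | h
    · exact key r s hr hs h
    · rw [mul_comm]; exact key s r hs hr h

end Cfsg.Agent.S2518
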