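import Cfsg.Statements.S2519
import Cfsg.Agent.Lib.Known.G2Oct.Spectrum

set_option autoImplicit false
open Cfsg

namespace Cfsg.Agent.S2519

/-- Let F be a finite field of odd order q = p^a ≥ 5. The element orders of the Chevalley group G₂(F) that are maximal under divisibility are exactly p(q + 1), p(q − 1), q² − 1, q² + q + 1, q² − q + 1, together with p² when p is 3 or 5. -/
theorem result {F : Type*} [Field F] [Fintype F] (p a : ℕ) (hp : p.Prime) (hp2 : p ≠ 2) (ha : 1 ≤ a) (hF : Fintype.card F = p ^ a) (hq5 : 5 ≤ Fintype.card F) :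
    {n : ℕ | n ∈ Set.range (orderOf : ↥(Cfsg.Lie.chevG2.group F) → ℕ) ∧ ∀ m ∈ Set.range (orderOf : ↥(Cfsg.Lie.chevG2.group F) → ℕ), n ∣ m → m = n} =
      ({p * (p ^ a + 1), p * (p ^ a - 1), p ^ (2 * a) - 1, p ^ (2 * a) + p ^ a + 1, p ^ (2 * a) - p ^ a + 1} : Set ℕ) ∪
        (if p = 3 ∨ p = 5 then ({p ^ 2} : Set ℕ) else ∅) := by
  haveI : Fact p.Prime := ⟨hp⟩
  haveI : CharP F p := by
    obtain ⟨p', _⟩ := CharP.exists F
    haveI : Fact p'.Prime := ⟨CharP.char_is_prime F p'⟩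
    obtain ⟨n, hp', hn⟩ := FiniteField.card F p'
    have : p' = p := (Nat.prime_dvd_prime_iff_eq hp' hp).1
      (hp'.dvd_of_dvd_pow (n := a) (by rw [← hF, hn]; exact dvd_pow_self _ n.ne_zero))
    subst this; assumption
  rw [CfsgLib.Known.G2Oct.range_chev_eq, pow_mul', ← hF]
  have hpq : p ∣ Fintype.card F := hF ▸ dvd_pow_self p (by omega)
  have h5 := CfsgLib.Known.G2Oct.exists_five (F := F) (p := p) rfl
  have hL := CfsgLib.Known.G2Oct.dvd_list_odd (F := F) (p := p) rfl hp2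
  have hA := CfsgLib.Known.G2Oct.antichain (p := p) hp2 hpq hq5
  have hR : ∀ n ∈ ({p * (Fintype.card F + 1), p * (Fintype.card F - 1), Fintype.card F ^ 2 - 1,
      Fintype.card F ^ 2 + Fintype.card F + 1, Fintype.card F ^ 2 - Fintype.card F + 1} : Set ℕ) ∪
        (if p = 3 ∨ p = 5 then ({p ^ 2} : Set ℕ) else ∅),
      n ∈ Set.range (orderOf : ↥(Lie.G2 F) → ℕ) := by
    rintro n (h | h)
    · exact h5 n h
    · split_ifs at h with h35
      · rcases h35 with rfl | rfl
        · rw [Set.mem_singleton_iff.1 h]; exact CfsgLib.Known.G2Oct.exists_order_nine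
        · rw [Set.mem_singleton_iff.1 h]; exact CfsgLib.Known.G2Oct.exists_order_twentyfive
      · exact absurd h (Set.notMem_empty n)
  ext n
  constructor
  · rintro ⟨⟨g, rfl⟩, hmax⟩
    obtain ⟨m, hm, hd⟩ := hL g
    exact hmax m (hR m hm) hd ▸ hm
  · intro hn
    refine ⟨hR n hn, ?_⟩
    rintro m ⟨g, rfl⟩ hd
    obtain ⟨b, hb, hd'⟩ := hL g
    have := hA n hn b hb (hd.trans hd')
    subst this
    exact Nat.dvd_antisymm hd' hd

end Cfsg.Agent.S2519
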