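import Cfsg.Statements.S2520
import Cfsg.Agent.Lib.Known.G2Oct.Spectrum

set_option autoImplicit false
open Cfsg

namespace Cfsg.Agent.S2520

/-- Let F be a finite field with q = 2^a ≥ 4 elements and G₂(F) the Chevalley group of type G₂ over it. Every element order of G₂(F) maximal under divisibility lies in the set {8, 12, 2(q + 1), 2(q − 1), q² − 1, q² + q + 1, q² − q + 1}, and every member of that set is an element order of G₂(F). -/
theorem result {F : Type*} [Field F] [Fintype F] (a : ℕ) (ha : 2 ≤ a) (hF : Fintype.card F = 2 ^ a) :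
    {n : ℕ | n ∈ Set.range (orderOf : ↥(Cfsg.Lie.chevG2.group F) → ℕ) ∧ ∀ m ∈ Set.range (orderOf : ↥(Cfsg.Lie.chevG2.group F) → ℕ), n ∣ m → m = n} ⊆ ({8, 12, 2 * (2 ^ a + 1), 2 * (2 ^ a - 1), 2 ^ (2 * a) - 1, 2 ^ (2 * a) + 2 ^ a + 1, 2 ^ (2 * a) - 2 ^ a + 1} : Set ℕ) ∧
    ({8, 12, 2 * (2 ^ a + 1), 2 * (2 ^ a - 1), 2 ^ (2 * a) - 1, 2 ^ (2 * a) + 2 ^ a + 1, 2 ^ (2 * a) - 2 ^ a + 1} : Set ℕ) ⊆ Set.range (orderOf : ↥(Cfsg.Lie.chevG2.group F) → ℕ) := by
  haveI : Fact (Nat.Prime 2) := ⟨Nat.prime_two⟩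
  haveI : CharP F 2 := by
    obtain ⟨p', _⟩ := CharP.exists F
    haveI : Fact p'.Prime := ⟨CharP.char_is_prime F p'⟩
    obtain ⟨n, hp', hn⟩ := FiniteField.card F p'
    have : p' = 2 := (Nat.prime_dvd_prime_iff_eq hp' Nat.prime_two).1
      (hp'.dvd_of_dvd_pow (n := a) (by rw [← hF, hn]; exact dvd_pow_self _ n.ne_zero))
    subst this; assumption
  rw [CfsgLib.Known.G2Oct.range_chev_eq, pow_mul', ← hF]
  have h5 := CfsgLib.Known.G2Oct.exists_five (F := F) (p := 2) rfl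
  have hR : ({8, 12, 2 * (Fintype.card F + 1), 2 * (Fintype.card F - 1), Fintype.card F ^ 2 - 1,
      Fintype.card F ^ 2 + Fintype.card F + 1, Fintype.card F ^ 2 - Fintype.card F + 1} : Set ℕ) ⊆
      Set.range (orderOf : ↥(Lie.G2 F) → ℕ) := by
    intro n hn
    rcases hn with rfl | rfl | h
    · exact CfsgLib.Known.G2Oct.exists_order_eight
    · exact CfsgLib.Known.G2Oct.exists_order_twelve
    · exact h5 n h
  refine ⟨?_, hR⟩
  rintro n ⟨⟨g, rfl⟩, hmax⟩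
  have key : ∀ m ∈ ({8, 12, 2 * (Fintype.card F + 1), 2 * (Fintype.card F - 1), Fintype.card F ^ 2 - 1,
      Fintype.card F ^ 2 + Fintype.card F + 1, Fintype.card F ^ 2 - Fintype.card F + 1} : Set ℕ),
      orderOf g ∣ m → orderOf g ∈ ({8, 12, 2 * (Fintype.card F + 1), 2 * (Fintype.card F - 1),
        Fintype.card F ^ 2 - 1, Fintype.card F ^ 2 + Fintype.card F + 1,
        Fintype.card F ^ 2 - Fintype.card F + 1} : Set ℕ) :=
    fun m hm hd => hmax m (hR hm) hd ▸ hm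
  rcases CfsgLib.Known.G2Oct.order_cases (p := 2) rfl g with ⟨m, hm, h⟩ | ⟨m, hm, h⟩ | ⟨-, h | h⟩ | ⟨e, -⟩
  · exact key (2 * m) (by rcases hm with rfl | rfl <;> simp) h
  · exact key m (by rcases hm with rfl | rfl | rfl <;> simp) h
  · exact key 12 (by simp) h
  · exact key 8 (by simp) h
  · exact absurd rfl e

end Cfsg.Agent.S2520
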