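import Cfsg.Statements.S2521

set_option autoImplicit false
open Cfsg

namespace Cfsg.Agent.S2521

/-- Let B be a finite group that is the semidirect product of a nilpotent normal subgroup U by an abelian subgroup T (U ∩ T = 1, UT = B), and let t ∈ T have centralizer exactly T. Then every element of the coset tU is conjugate to t in B: for each u ∈ U there is b ∈ B with b t b⁻¹ = t u. -/
theorem result {B : Type*} [Group B] [Finite B] (U T : Subgroup B) [U.Normal] (hU : Group.IsNilpotent ↥U) (hT : IsMulCommutative ↥T)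
    (hcompl : Subgroup.IsComplement' U T) (t : B) (ht : t ∈ T) (hreg : Subgroup.centralizer ({t} : Set B) = T) (u : B) (hu : u ∈ U) :
    ∃ b : B, b * t * b⁻¹ = t * u := by
  have hmem : ∀ b : ↥U, t⁻¹ * ((b : B) * t * (b : B)⁻¹) ∈ U := fun b => by
    rw [← mul_assoc, ← mul_assoc]
    exact U.mul_mem (by simpa using ‹U.Normal›.conj_mem _ b.2 t⁻¹) (U.inv_mem b.2)
  let f : ↥U → ↥U := fun b => ⟨_, hmem b⟩
  have hf : Function.Injective f := by
    intro b c h
    have h1 : (b : B) * t * (b : B)⁻¹ = (c : B) * t * (c : B)⁻¹ :=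
      mul_left_cancel (congrArg Subtype.val h)
    have h2 : (c : B)⁻¹ * b ∈ Subgroup.centralizer ({t} : Set B) := by
      rw [Subgroup.mem_centralizer_singleton_iff]
      calc (c : B)⁻¹ * b * t = (c : B)⁻¹ * ((b : B) * t * (b : B)⁻¹) * b := by group
        _ = _ := by rw [h1]; group
    rw [hreg] at h2
    have h3 : (c : B)⁻¹ * b ∈ U ⊓ T := ⟨U.mul_mem (U.inv_mem c.2) b.2, h2⟩
    rw [hcompl.disjoint.eq_bot, Subgroup.mem_bot] at h3
    exact Subtype.ext (inv_mul_eq_one.1 h3).symm
  obtain ⟨b, hb⟩ := (Finite.injective_iff_surjective.1 hf) ⟨u, hu⟩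
  refine ⟨b, ?_⟩
  have := congrArg Subtype.val hb
  simp only [f] at this
  rw [← this]
  group

end Cfsg.Agent.S2521
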