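import Cfsg.Statements.S2525
import Cfsg.Agent.Lib.Known.PrimeGraphF4.Main
-- import your own Cfsg.Agent.* helpers here

set_option autoImplicit false
open Cfsg

namespace Cfsg.Agent.S2525

open CfsgLib.Known

/-- Let F be a finite field with q = 2^n elements and G = F₄(F). For an odd prime r let e(r, q) be the multiplicative order of q modulo r. Two distinct primes r, s dividing the order of G are non-adjacent in the prime graph of G (no element of order rs) if and only if, up to swapping r and s, either r = 2 and e(s, q) ∈ {8, 12}, or r, s are both odd with k = e(r, q) < l = e(s, q) and one of: l ∈ {8, 12}; l = 6 and k ∈ {3, 4}; l = 4 and k = 3. -/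
theorem result {F : Type*} [Field F] [Fintype F] (n : ℕ) (hn : 1 ≤ n) (hF : Fintype.card F = 2 ^ n)
    (r s : ℕ) (hr : r.Prime) (hs : s.Prime) (hrs : r ≠ s) (hrG : r ∣ Nat.card ↥(Cfsg.Lie.chevF4.group F)) (hsG : s ∣ Nat.card ↥(Cfsg.Lie.chevF4.group F)) :
    (¬ ∃ x : ↥(Cfsg.Lie.chevF4.group F), orderOf x = r * s) ↔
      ((r = 2 ∧ orderOf ((Fintype.card F : ℕ) : ZMod s) ∈ ({8, 12} : Finset ℕ)) ∨ (s = 2 ∧ orderOf ((Fintype.card F : ℕ) : ZMod r) ∈ ({8, 12} : Finset ℕ)) ∨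
       (r ≠ 2 ∧ s ≠ 2 ∧
         ((orderOf ((Fintype.card F : ℕ) : ZMod r) < orderOf ((Fintype.card F : ℕ) : ZMod s) ∧ (orderOf ((Fintype.card F : ℕ) : ZMod s) ∈ ({8, 12} : Finset ℕ) ∨ (orderOf ((Fintype.card F : ℕ) : ZMod s) = 6 ∧ orderOf ((Fintype.card F : ℕ) : ZMod r) ∈ ({3, 4} : Finset ℕ)) ∨ (orderOf ((Fintype.card F : ℕ) : ZMod s) = 4 ∧ orderOf ((Fintype.card F : ℕ) : ZMod r) = 3))) ∨
          (orderOf ((Fintype.card F : ℕ) : ZMod s) < orderOf ((Fintype.card F : ℕ) : ZMod r) ∧ (orderOf ((Fintype.card F : ℕ) : ZMod r) ∈ ({8, 12} : Finset ℕ) ∨ (orderOf ((Fintype.card F : ℕ) : ZMod r) = 6 ∧ orderOf ((Fintype.card F : ℕ) : ZMod s) ∈ ({3, 4} : Finset ℕ)) ∨ (orderOf ((Fintype.card F : ℕ) : ZMod r) = 4 ∧ orderOf ((Fintype.card F : ℕ) : ZMod s) = 3)))))) := by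
  obtain ⟨q, hq⟩ : ∃ q, q = Fintype.card F := ⟨_, rfl⟩
  have hq' : q = 2 ^ n := hq.trans hF
  have hev : Even q := by rw [hq', Nat.even_pow]; exact ⟨even_two, by omega⟩
  have : CharP F 2 := by
    obtain ⟨p, hc⟩ := CharP.exists F
    obtain ⟨a, hp, ha⟩ := FiniteField.card F p
    rw [hF] at ha
    have : p = 2 := (Nat.prime_dvd_prime_iff_eq hp Nat.prime_two).1
      (hp.dvd_of_dvd_pow (ha ▸ dvd_pow_self p a.ne_zero : p ∣ 2 ^ n))
    exact this ▸ hc
  have hnd : ∀ p : ℕ, p.Prime → p ≠ 2 → ¬ p ∣ q := fun p hp hp2 h =>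
    hp2 ((Nat.prime_dvd_prime_iff_eq hp Nat.prime_two).1 (hp.dvd_of_dvd_pow (hq' ▸ h)))
  have hfin : ∀ x : ℕ, (x ∈ ({8, 12} : Finset ℕ)) ↔ (x = 8 ∨ x = 12) := fun x => by simp
  rw [← hq]
  by_cases hr2 : r = 2
  · subst hr2
    rw [PrimeGraphF4.two_criterion hq.symm hev hs (Ne.symm hrs) (hnd s hs (Ne.symm hrs)) hsG]
    simp [hfin, Ne.symm hrs]
  by_cases hs2 : s = 2
  · subst hs2
    have h := PrimeGraphF4.two_criterion hq.symm hev hr hr2 (hnd r hr hr2) hrG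
    rw [mul_comm 2 r] at h
    rw [h]
    simp [hfin, hr2]
  rw [PrimeGraphF4.odd_criterion hq.symm hr hs hrs hr2 hs2 (hnd r hr hr2) (hnd s hs hs2) hrG hsG]
  simp only [PrimeGraphF4.Sep, hfin, hr2, hs2, ne_eq, not_false_eq_true, false_and, false_or, true_and,
    Finset.mem_insert, Finset.mem_singleton, or_assoc]

end Cfsg.Agent.S2525
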