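import Cfsg.Statements.S2531
-- import your own Cfsg.Agent.* helpers here

set_option autoImplicit false
open Cfsg

namespace Cfsg.Agent.S2531

open Projectivization

/-- A point lies in a subspace iff any representative does. -/
lemma rep_mk_mem_iff {F V : Type*} [Field F] [AddCommGroup V] [Module F V] (W : Submodule F V)
    (v : V) (hv : v ≠ 0) : (Projectivization.mk F v hv).rep ∈ W ↔ v ∈ W := by
  obtain ⟨a, ha⟩ := exists_smul_eq_mk_rep F v hv
  rw [← ha, Submodule.smul_mem_iff' W a]

/-- The number of points of a non-zero subspace is congruent to one modulo the field order. -/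
lemma card_points_cast {F V : Type*} [Field F] [Finite F] [AddCommGroup V] [Module F V] [Finite V]
    (W : Submodule F V) (hW : W ≠ ⊥) :
    (Nat.card {x : Projectivization F V // x.rep ∈ W} : ZMod (Nat.card F)) = 1 := by
  have hne : ∀ y : Projectivization F W, ((y.rep : W) : V) ≠ 0 := fun y h =>
    y.rep_nonzero (Subtype.ext h)
  let g : Projectivization F W → {x : Projectivization F V // x.rep ∈ W} := fun y =>
    ⟨Projectivization.mk F ((y.rep : W) : V) (hne y), (rep_mk_mem_iff W _ _).2 y.rep.2⟩
  have hg : Function.Bijective g := by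
    constructor
    · intro y y' h
      have h' := congrArg Subtype.val h
      simp only [g, mk_eq_mk_iff'] at h'
      obtain ⟨a, ha⟩ := h'
      rw [← mk_rep y, ← mk_rep y', mk_eq_mk_iff']
      exact ⟨a, Subtype.ext ha⟩
    · rintro ⟨x, hx⟩
      have h0 : (⟨x.rep, hx⟩ : W) ≠ 0 := fun h => x.rep_nonzero (congrArg Subtype.val h)
      refine ⟨Projectivization.mk F ⟨x.rep, hx⟩ h0, Subtype.ext ?_⟩
      obtain ⟨a, ha⟩ := exists_smul_eq_mk_rep F (⟨x.rep, hx⟩ : W) h0
      refine Eq.trans ?_ (mk_rep x)
      simp only [g, mk_eq_mk_iff']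
      exact ⟨(a : F), congrArg Subtype.val ha⟩
  rw [← Nat.card_congr (Equiv.ofBijective g hg)]
  have h1 : Nat.card W = Nat.card (Projectivization F W) * (Nat.card F - 1) + 1 :=
    Projectivization.card' F W
  have h2 : Nat.card W = Nat.card F ^ Module.finrank F W := Module.natCard_eq_pow_finrank
  have hd : Module.finrank F W ≠ 0 := fun h => hW (Submodule.finrank_eq_zero.1 h)
  have hq : 1 ≤ Nat.card F := Nat.card_pos
  have h3 := congrArg (Nat.cast : ℕ → ZMod (Nat.card F)) (h2.symm.trans h1)
  push_cast [Nat.cast_sub hq, ZMod.natCast_self, zero_pow hd] at h3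
  linear_combination h3


/-- Let `F` be a finite field and `n ≥ 3`. No set of permutations of the points of the projective space of `Fⁿ`, each induced by an invertible semilinear transformation of `Fⁿ` (so a subset of the full projective semilinear group), is sharply 2-transitive on the points: it is impossible that for all pairs of distinct points `(a, b)` and `(c, d)` exactly one member of the set sends `a` to `c` and `b` to `d`. -/
theorem result {F : Type*} [Field F] [Finite F]
    (n : ℕ) (hn : 3 ≤ n) (S : Set (Equiv.Perm (Projectivization F (Fin n → F))))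
    (hS : ∀ s ∈ S, ∃ (σ : F ≃+* F) (f : (Fin n → F) →ₛₗ[(σ : F →+* F)] (Fin n → F)) (hf : Function.Injective f),
      ∀ x, s x = Projectivization.map f hf x) :
    ¬ (∀ a b c d : Projectivization F (Fin n → F), a ≠ b → c ≠ d →
        ∃! s, s ∈ S ∧ s a = c ∧ s b = d) := by
  intro h
  classical
  have : Fact (1 < Nat.card F) := ⟨Finite.one_lt_card⟩
  let i0 : Fin n := ⟨0, by omega⟩
  let H : Submodule F (Fin n → F) := LinearMap.ker (LinearMap.proj i0)
  have hv : (Pi.single i0 (1 : F) : Fin n → F) ≠ 0 := fun h0 => by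
    simpa using congrFun h0 i0
  set e : Projectivization F (Fin n → F) := Projectivization.mk F _ hv with he
  have heH : e.rep ∉ H := by
    rw [he, rep_mk_mem_iff]; simp [H]
  have hHbot : H ≠ ⊥ := by
    intro hb
    have : (Pi.single (⟨1, by omega⟩ : Fin n) (1 : F) : Fin n → F) ∈ H := by
      simp [H, i0]
    rw [hb, Submodule.mem_bot] at this
    simpa using congrFun this ⟨1, by omega⟩
  let A := {x : Projectivization F (Fin n → F) // x.rep ∈ H}
  have hA : (Nat.card A : ZMod (Nat.card F)) = 1 := card_points_cast H hHbot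
  obtain ⟨b0⟩ : Nonempty A := by
    by_contra hc
    rw [not_nonempty_iff] at hc
    have h0 : Nat.card A = 0 := Nat.card_of_isEmpty
    rw [h0, Nat.cast_zero] at hA
    exact zero_ne_one hA
  have hne : ∀ x : A, e ≠ x.1 := fun x hx => heH (hx ▸ x.2)
  let T := {s // s ∈ S ∧ s e = e}
  have hT : (Nat.card T : ZMod (Nat.card F)) = 0 := by
    let g : T → {d // d ≠ e} := fun s => ⟨s.1 b0.1, fun hh =>
      hne b0 (s.1.injective (s.2.2.trans hh.symm))⟩
    have hg : Function.Bijective g := by
      constructor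
      · intro s s' hss
        obtain ⟨u, _, hu⟩ := h e b0.1 e (s.1 b0.1) (hne b0) (g s).2.symm
        exact Subtype.ext ((hu s.1 ⟨s.2.1, s.2.2, rfl⟩).trans
          (hu s'.1 ⟨s'.2.1, s'.2.2, (congrArg Subtype.val hss).symm⟩).symm)
      · rintro ⟨d, hd⟩
        obtain ⟨u, ⟨huS, hue, hub⟩, _⟩ := h e b0.1 e d (hne b0) hd.symm
        exact ⟨⟨u, huS, hue⟩, Subtype.ext hub⟩
    rw [Nat.card_congr (Equiv.ofBijective g hg)]
    have htop : (⊤ : Submodule F (Fin n → F)) ≠ ⊥ := fun ht => hHbot (le_bot_iff.1 (le_top.trans ht.le))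
    have hN := card_points_cast (⊤ : Submodule F (Fin n → F)) htop
    rw [Nat.card_congr (Equiv.subtypeUnivEquiv fun x => Submodule.mem_top),
      ← Nat.card_congr (Equiv.optionSubtypeNe e), Finite.card_option, Nat.cast_add, Nat.cast_one] at hN
    simpa using hN
  let B : T → Type _ := fun s =>
    {b : Projectivization F (Fin n → F) // b.rep ∈ H ∧ (s.1 b).rep ∈ H}
  have hB : ∀ s, (Nat.card (B s) : ZMod (Nat.card F)) = 1 := by
    intro s
    obtain ⟨σ, f, hf, hs⟩ := hS s.1 s.2.1
    have hiff : ∀ b, (s.1 b).rep ∈ H ↔ b.rep ∈ H.comap f := by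
      intro b
      have : s.1 b = Projectivization.mk F (f b.rep) (map_zero f ▸ hf.ne b.rep_nonzero) := by
        rw [hs]
        conv_lhs => rw [← mk_rep b]
        exact map_mk f hf _ _
      rw [this, rep_mk_mem_iff, Submodule.mem_comap]
    let g : (Fin n → F) →ₗ[F] F × F :=
      { toFun := fun x => (x i0, σ.symm (f x i0))
        map_add' := fun x y => by simp
        map_smul' := fun r x => by simp }
    have hW : H ⊓ H.comap f ≠ ⊥ := by
      intro hb
      have hinj : Function.Injective g := by
        rw [← LinearMap.ker_eq_bot, eq_bot_iff, ← hb]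
        intro x hx
        have hx' : x i0 = 0 ∧ f x i0 = 0 := by simpa [g] using hx
        exact ⟨by simpa [H] using hx'.1, by simpa [H] using hx'.2⟩
      have hle := LinearMap.finrank_le_finrank_of_injective hinj
      simp at hle
      omega
    calc (Nat.card (B s) : ZMod (Nat.card F))
        = (Nat.card {b : Projectivization F (Fin n → F) // b.rep ∈ H ⊓ H.comap f} :
            ZMod (Nat.card F)) := by
          congr 1
          exact Nat.card_congr (Equiv.subtypeEquivRight fun b => by rw [Submodule.mem_inf, hiff])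
      _ = 1 := card_points_cast _ hW
  let G : (Σ s : T, B s) → A × A := fun p => (⟨p.2.1, p.2.2.1⟩, ⟨p.1.1 p.2.1, p.2.2.2⟩)
  have hG : Function.Bijective G := by
    constructor
    · rintro ⟨s, b⟩ ⟨s', b'⟩ hh
      simp only [G, Prod.mk.injEq, Subtype.mk.injEq, A] at hh
      obtain ⟨hb, hsb⟩ := hh
      have hne' : e ≠ s.1 b.1 := fun hh => heH (hh ▸ b.2.2)
      obtain ⟨u, _, hu⟩ := h e b.1 e (s.1 b.1) (fun hh => heH (hh ▸ b.2.1)) hne'
      have hss : s = s' := Subtype.ext ((hu s.1 ⟨s.2.1, s.2.2, rfl⟩).trans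
        (hu s'.1 ⟨s'.2.1, s'.2.2, (congrArg (⇑s'.1) hb).trans hsb.symm⟩).symm)
      subst hss
      rw [Subtype.ext hb]
    · rintro ⟨b, d⟩
      obtain ⟨u, ⟨huS, hue, hub⟩, _⟩ := h e b.1 e d.1 (hne b) (hne d)
      exact ⟨⟨⟨u, huS, hue⟩, b.1, b.2, show (u b.1).rep ∈ H by rw [hub]; exact d.2⟩,
        Prod.ext rfl (Subtype.ext hub)⟩
  have : Fintype T := Fintype.ofFinite _
  have hc := congrArg (Nat.cast : ℕ → ZMod (Nat.card F)) (Nat.card_congr (Equiv.ofBijective G hG))
  rw [Nat.card_sigma, Nat.card_prod, Nat.cast_sum, Nat.cast_mul, hA, one_mul,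
    Finset.sum_congr rfl fun s _ => hB s, Finset.sum_const, Finset.card_univ, nsmul_one,
    ← Nat.card_eq_fintype_card, hT] at hc
  exact zero_ne_one hc

end Cfsg.Agent.S2531
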