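import Cfsg.Statements.S2532
import Mathlib

set_option autoImplicit false
open Cfsg

namespace Cfsg.Agent.S2532

/-- There is a function `f` of two natural-number arguments such that, whenever `m ≥ f(n, r)`, every subgroup of order `n` of the alternating group of degree `m` centralizes some subgroup of that alternating group isomorphic to the alternating group of degree `r`. -/
theorem result :
    ∃ f : ℕ → ℕ → ℕ, ∀ (m r : ℕ) (H : Subgroup ↥(alternatingGroup (Fin m))), f (Nat.card H) r ≤ m →
      ∃ K : Subgroup ↥(alternatingGroup (Fin m)), Nonempty (↥K ≃* ↥(alternatingGroup (Fin r))) ∧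
        K ≤ Subgroup.centralizer (H : Set ↥(alternatingGroup (Fin m))) := by
  classical
  refine ⟨fun h r => h * ((r + 1) * 2 ^ h) + 1, fun m r H hm => ?_⟩
  simp only at hm
  haveI := Fintype.ofFinite ↥H
  let Q := MulAction.orbitRel.Quotient ↥H (Fin m)
  haveI : Fintype Q := Fintype.ofFinite Q
  have hQ : m ≤ Fintype.card Q * Nat.card ↥H := by
    have h1 := Nat.card_le_card_of_surjective (fun p : Q × ↥H => p.2 • p.1.out) (fun y => by
      obtain ⟨g, hg⟩ := MulAction.mem_orbit_iff.1
        (MulAction.orbitRel_apply.1 (Quotient.exact (Quotient.out_eq (Quotient.mk'' y : Q))))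
      exact ⟨(Quotient.mk'' y, g⁻¹), inv_smul_eq_iff.2 hg.symm⟩)
    rw [Nat.card_prod, Nat.card_eq_fintype_card (α := Q), Nat.card_eq_fintype_card (α := Fin m),
      Fintype.card_fin] at h1
    exact h1
  let key : Q → Finset ↥H := fun q => Finset.univ.filter fun h => h • q.out = q.out
  obtain ⟨S, hS⟩ : ∃ S : Finset ↥H, r + 1 ≤ (Finset.univ.filter fun q => key q = S).card := by
    obtain ⟨S, hS⟩ := Fintype.exists_lt_card_fiber_of_mul_lt_card key (n := r) (by
      rw [Fintype.card_finset, ← Nat.card_eq_fintype_card (α := ↥H)]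
      by_contra hcon
      push Not at hcon
      have h2 := Nat.mul_le_mul_left (Nat.card ↥H) hcon
      nlinarith [Nat.one_le_two_pow (n := Nat.card ↥H), Nat.card_pos (α := ↥H)])
    exact ⟨S, hS⟩
  obtain ⟨e⟩ : Nonempty (Fin (r + 1) ↪ {q : Q // key q = S}) :=
    Function.Embedding.nonempty_of_card_le (by rw [Fintype.card_fin, Fintype.card_subtype]; exact hS)
  let x : Fin (r + 1) → Fin m := fun i => (e i).1.out
  have hkey : ∀ i j, ∀ g : ↥H, g • x i = x i → g • x j = x j := by
    intro i j g hg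
    have h1 : g ∈ key (e i).1 := by simpa [key] using hg
    rw [(e i).2, ← (e j).2] at h1
    simpa [key] using h1
  let St := MulAction.stabilizer ↥H (x 0)
  have hst : ∀ i (a b : ↥H), (a : ↥H ⧸ St) = (b : ↥H ⧸ St) ↔ a • x i = b • x i := by
    intro i a b
    rw [QuotientGroup.eq, MulAction.mem_stabilizer_iff]
    constructor
    · intro h
      have := hkey 0 i _ h
      rw [mul_smul, inv_smul_eq_iff] at this
      exact this.symm
    · intro h
      refine hkey i 0 _ ?_
      rw [mul_smul, inv_smul_eq_iff, h]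
  let ι : Fin r × (↥H ⧸ St) ↪ Fin m :=
    ⟨fun p => p.2.out • x p.1.castSucc, by
      rintro ⟨i, c⟩ ⟨j, d⟩ h
      simp only at h
      have hij : i.castSucc = j.castSucc := by
        apply e.injective
        apply Subtype.ext
        rw [← Quotient.out_eq (e i.castSucc).1, ← Quotient.out_eq (e j.castSucc).1]
        apply Quotient.sound
        exact MulAction.orbitRel_apply.2 (MulAction.mem_orbit_iff.2
          ⟨c.out⁻¹ * d.out, by rw [mul_smul, inv_smul_eq_iff]; exact h.symm⟩)
      have hij' := Fin.castSucc_injective _ hij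
      subst hij'
      have hcd := (hst _ c.out d.out).2 h
      rw [QuotientGroup.out_eq', QuotientGroup.out_eq'] at hcd
      subst hcd
      rfl⟩
  have hact : ∀ (h : ↥H) i c, h • ι (i, c) = ι (i, h • c) := by
    intro h i c
    change h • (c.out • x i.castSucc) = (h • c).out • x i.castSucc
    rw [← mul_smul]
    apply (hst _ _ _).1
    rw [QuotientGroup.out_eq']
    conv_rhs => rw [← QuotientGroup.out_eq' c]
    rfl
  let d : Equiv.Perm (Fin r) →* Equiv.Perm (Fin r × (↥H ⧸ St)) :=
    { toFun := fun s => Equiv.prodCongrLeft fun _ => s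
      map_one' := by ext y <;> simp
      map_mul' := fun a b => by ext y <;> simp }
  let φ₀ : alternatingGroup (Fin r) →* Equiv.Perm (Fin m) :=
    ((Equiv.Perm.viaEmbeddingHom ι).comp d).comp (alternatingGroup (Fin r)).subtype
  have hsign : ∀ s, φ₀ s ∈ alternatingGroup (Fin m) := by
    intro s
    rw [Equiv.Perm.mem_alternatingGroup]
    simp only [φ₀, MonoidHom.coe_comp, Function.comp_apply, Equiv.Perm.viaEmbeddingHom_apply,
      Equiv.Perm.viaEmbedding]
    rw [Equiv.Perm.sign_extendDomain]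
    change Equiv.Perm.sign (Equiv.prodCongrLeft fun _ : ↥H ⧸ St => (s : Equiv.Perm (Fin r))) = 1
    rw [Equiv.Perm.sign_prodCongrLeft, Finset.prod_const, Equiv.Perm.mem_alternatingGroup.1 s.2, one_pow]
  let φ := φ₀.codRestrict _ hsign
  have hinj : Function.Injective φ := by
    intro a b hab
    have h2 := Equiv.Perm.viaEmbeddingHom_injective ι (congrArg Subtype.val hab : φ₀ a = φ₀ b)
    apply Subtype.ext
    ext i
    have h3 := congrArg (fun P : Equiv.Perm (Fin r × (↥H ⧸ St)) => (P (i, ((1 : ↥H) : ↥H ⧸ St))).1) h2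
    simpa [d] using congrArg Fin.val h3
  refine ⟨φ.range, ⟨(MonoidHom.ofInjective hinj).symm⟩, ?_⟩
  rintro _ ⟨s, rfl⟩
  rw [Subgroup.mem_centralizer_iff]
  intro h hh
  apply Subtype.ext
  refine Equiv.ext fun y => ?_
  change (⟨h, hh⟩ : ↥H) • (φ₀ s y) = φ₀ s ((⟨h, hh⟩ : ↥H) • y)
  have hon : ∀ p, φ₀ s (ι p) = ι (d s.1 p) := fun p => Equiv.Perm.viaEmbedding_apply _ ι p
  have hoff : ∀ y, y ∉ Set.range ι → φ₀ s y = y := fun y hy =>
    Equiv.Perm.viaEmbedding_apply_of_notMem _ ι y hy
  by_cases hy : y ∈ Set.range ι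
  · obtain ⟨⟨i, c⟩, rfl⟩ := hy
    rw [hon, hact _ i c, hon]
    exact hact _ _ c
  · rw [hoff y hy, hoff]
    rintro ⟨⟨i, c⟩, hc⟩
    apply hy
    refine ⟨(i, (⟨h, hh⟩ : ↥H)⁻¹ • c), ?_⟩
    rw [← hact, hc, inv_smul_smul]

end Cfsg.Agent.S2532
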