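import Cfsg.Statements.S2533
-- import your own Cfsg.Agent.* helpers here

set_option autoImplicit false
open Cfsg

namespace Cfsg.Agent.S2533

open Matrix

/-- shift matrix -/
def shiftMat (m : ℕ) (R : Type*) [CommRing R] : Matrix (Fin m) (Fin m) R :=
  fun i j => if i.val + 1 = j.val then 1 else 0

lemma mul_shift {m : ℕ} {R : Type*} [CommRing R] (X : Matrix (Fin m) (Fin m) R) (i j : Fin m) :
    (X * shiftMat m R) i j =
      if h : 0 < j.val then X i ⟨j.val - 1, by omega⟩ else 0 := by
  rw [Matrix.mul_apply]
  split_ifs with h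
  · rw [Finset.sum_eq_single ⟨j.val - 1, by omega⟩]
    · have : j.val - 1 + 1 = j.val := by omega
      simp [shiftMat, this]
    · intro k _ hk
      have : ¬ k.val + 1 = j.val := by
        intro hh; apply hk; ext; simp; omega
      simp [shiftMat, this]
    · simp
  · refine Finset.sum_eq_zero fun k _ => ?_
    have : ¬ k.val + 1 = j.val := by omega
    simp [shiftMat, this]

lemma shift_mul {m : ℕ} {R : Type*} [CommRing R] (X : Matrix (Fin m) (Fin m) R) (i j : Fin m) :
    (shiftMat m R * X) i j =
      if h : i.val + 1 < m then X ⟨i.val + 1, h⟩ j else 0 := by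
  rw [Matrix.mul_apply]
  split_ifs with h
  · rw [Finset.sum_eq_single ⟨i.val + 1, h⟩]
    · simp [shiftMat]
    · intro k _ hk
      have : ¬ i.val + 1 = k.val := by
        intro hh; apply hk; ext; simp; omega
      simp [shiftMat, this]
    · simp
  · refine Finset.sum_eq_zero fun k _ => ?_
    have : ¬ i.val + 1 = k.val := by omega
    simp [shiftMat, this]

lemma lower_zero {m : ℕ} {R : Type*} [CommRing R] (X : Matrix (Fin m) (Fin m) R)
    (hX : X * shiftMat m R = shiftMat m R * X) :
    (∀ j i : Fin m, j.val < i.val → X i j = 0) ∧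
      (∀ i j : Fin m, i.val + 1 = j.val → X i i = X j j) := by
  have key : ∀ (i j : Fin m) (hi : i.val + 1 < m),
      X ⟨i.val + 1, hi⟩ j = if h : 0 < j.val then X i ⟨j.val - 1, by omega⟩ else 0 := by
    intro i j hi
    have := congrFun (congrFun hX i) j
    rw [mul_shift, shift_mul, dif_pos hi] at this
    exact this.symm
  constructor
  · have : ∀ k : ℕ, ∀ j i : Fin m, j.val = k → j.val < i.val → X i j = 0 := by
      intro k
      induction k with
      | zero =>
        intro j i hj hji
        have := key ⟨i.val - 1, by omega⟩ j (by simp only; omega)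
        rw [dif_neg (by omega)] at this
        convert this using 2
        ext; simp only; omega
      | succ k ih =>
        intro j i hj hji
        have := key ⟨i.val - 1, by omega⟩ j (by simp only; omega)
        rw [dif_pos (by omega)] at this
        rw [ih ⟨j.val - 1, by omega⟩ ⟨i.val - 1, by omega⟩ (by simp only; omega)
          (by simp only; omega)] at this
        convert this using 2
        ext; simp only; omega
    exact fun j i => this j.val j i rfl
  · intro i j hij
    have := key i j (by omega)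
    rw [dif_pos (by omega)] at this
    have e1 : (⟨i.val + 1, by omega⟩ : Fin m) = j := by ext; simp only; omega
    have e2 : (⟨j.val - 1, by omega⟩ : Fin m) = i := by ext; simp only; omega
    rw [e1, e2] at this
    exact this.symm

lemma commutant {m : ℕ} {R : Type*} [CommRing R] (hm : 0 < m) (X : Matrix (Fin m) (Fin m) R)
    (h1 : X * shiftMat m R = shiftMat m R * X)
    (h2 : X * (shiftMat m R)ᵀ = (shiftMat m R)ᵀ * X) :
    X = X ⟨0, hm⟩ ⟨0, hm⟩ • (1 : Matrix (Fin m) (Fin m) R) := by
  obtain ⟨hl, hd⟩ := lower_zero X h1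
  obtain ⟨hu, -⟩ := lower_zero Xᵀ (by
    have := congrArg Matrix.transpose h2
    simpa [Matrix.transpose_mul] using this.symm)
  have diag : ∀ k : ℕ, ∀ i : Fin m, i.val = k → X i i = X ⟨0, hm⟩ ⟨0, hm⟩ := by
    intro k
    induction k with
    | zero => intro i hi; congr 1 <;> (ext; simp [hi])
    | succ k ih =>
      intro i hi
      rw [← hd ⟨k, by omega⟩ i (by simp only; omega)]
      exact ih _ rfl
  ext i j
  rcases lt_trichotomy i.val j.val with h | h | h
  · rw [Matrix.smul_apply, Matrix.one_apply_ne (by intro e; rw [e] at h; omega), smul_zero]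
    exact hu i j h
  · have : i = j := Fin.ext h
    subst this
    rw [Matrix.smul_apply, Matrix.one_apply_eq, smul_eq_mul, mul_one]
    exact diag _ i rfl
  · rw [Matrix.smul_apply, Matrix.one_apply_ne (by intro e; rw [e] at h; omega), smul_zero]
    exact hl j i h

variable (p : ℕ)

/-- the elementary abelian group of order `p ^ 3` -/
abbrev Vp := Multiplicative (Fin 3 → ZMod p)

/-- inversion action -/
def negAct : ℤˣ →* MulAut (Vp p) where
  toFun u :=
    { toFun := fun v => Multiplicative.ofAdd ((u : ℤ) • Multiplicative.toAdd v)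
      invFun := fun v => Multiplicative.ofAdd ((u : ℤ) • Multiplicative.toAdd v)
      left_inv := fun v => by
        rcases Int.units_eq_one_or u with rfl | rfl <;> simp
      right_inv := fun v => by
        rcases Int.units_eq_one_or u with rfl | rfl <;> simp
      map_mul' := fun v w => by simp [smul_add] }
  map_one' := by ext v; simp
  map_mul' u w := by ext v; simp [mul_assoc]

/-- the group of order `2 p ^ 3` -/
abbrev Hp := Vp p ⋊[negAct p] ℤˣ

/-- the pencil -/
def pencil (m : ℕ) (v : Fin 3 → ZMod p) : Matrix (Fin m) (Fin m) (ZMod p) :=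
  v 0 • 1 + v 1 • shiftMat m (ZMod p) + v 2 • (shiftMat m (ZMod p))ᵀ

lemma pencil_add (m : ℕ) (v w : Fin 3 → ZMod p) :
    pencil p m (v + w) = pencil p m v + pencil p m w := by
  simp [pencil, add_smul]; abel

lemma pencil_zsmul (m : ℕ) (z : ℤ) (v : Fin 3 → ZMod p) :
    pencil p m (z • v) = (z : ZMod p) • pencil p m v := by
  simp [pencil, smul_add, smul_smul]

/-- the representing matrix -/
def repMat (m : ℕ) (h : Hp p) : Matrix (Fin m ⊕ Fin m) (Fin m ⊕ Fin m) (ZMod p) :=
  Matrix.fromBlocks 1 (((h.right : ℤ) : ZMod p) • pencil p m (Multiplicative.toAdd h.left)) 0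
    (((h.right : ℤ) : ZMod p) • 1)

lemma repMat_mul (m : ℕ) (h k : Hp p) : repMat p m (h * k) = repMat p m h * repMat p m k := by
  have hs : ((h.right : ℤ) : ZMod p) * ((h.right : ℤ) : ZMod p) = 1 := by
    rw [← Int.cast_mul, ← Units.val_mul, Int.units_mul_self]; simp
  simp only [repMat, Matrix.fromBlocks_multiply, SemidirectProduct.mul_left,
    SemidirectProduct.mul_right, Units.val_mul, Int.cast_mul]
  congr 1
  · simp
  · show _ • pencil p m (Multiplicative.toAdd h.left +
      (h.right : ℤ) • Multiplicative.toAdd k.left) = _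
    rw [pencil_add, pencil_zsmul, smul_add, smul_smul]
    simp only [one_mul, Matrix.mul_smul, Matrix.smul_mul, mul_one, smul_smul]
    rw [mul_right_comm, hs, one_mul, add_comm]
    congr 1
    rw [mul_comm]
  · simp
  · simp [smul_smul, mul_comm]

lemma repMat_det (m : ℕ) (hm : Even m) (h : Hp p) : (repMat p m h).det = 1 := by
  rw [repMat, Matrix.det_fromBlocks_zero₂₁, Matrix.det_one, one_mul, Matrix.det_smul,
    Matrix.det_one, mul_one, Fintype.card_fin]
  obtain ⟨k, rfl⟩ := hm
  rw [← two_mul, pow_mul, sq, ← Int.cast_mul, ← Units.val_mul, Int.units_mul_self]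
  simp

/-- the map into the special linear group -/
def repSL (m : ℕ) (hm : Even m) : Hp p →* Matrix.SpecialLinearGroup (Fin (m + m)) (ZMod p) where
  toFun h := ⟨Matrix.reindexAlgEquiv (ZMod p) (ZMod p) finSumFinEquiv (repMat p m h), by
    rw [Matrix.coe_reindexAlgEquiv, Matrix.det_reindex_self]; exact repMat_det p m hm h⟩
  map_one' := by
    apply Subtype.ext
    have : repMat p m 1 = 1 := by
      rw [repMat, ← Matrix.fromBlocks_one]
      congr 1 <;> simp [pencil]
    show Matrix.reindexAlgEquiv (ZMod p) (ZMod p) finSumFinEquiv (repMat p m 1) = _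
    rw [this, map_one]; rfl
  map_mul' h k := by
    apply Subtype.ext
    show Matrix.reindexAlgEquiv (ZMod p) (ZMod p) finSumFinEquiv (repMat p m (h * k)) = _
    rw [repMat_mul, map_mul]; rfl

lemma signCast_inj [Fact p.Prime] (hp : p ≠ 2) (u : ℤˣ) (h : ((u : ℤ) : ZMod p) = 1) : u = 1 := by
  rcases Int.units_eq_one_or u with rfl | rfl
  · rfl
  · exfalso
    have h2 : ((2 : ℕ) : ZMod p) = 0 := by
      have : ((-1 : ℤ) : ZMod p) = 1 := by simpa using h
      push_cast at this ⊢
      linear_combination -this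
    rw [ZMod.natCast_eq_zero_iff] at h2
    exact hp ((Nat.prime_dvd_prime_iff_eq Fact.out Nat.prime_two).mp h2)


/-- For every odd prime `p` there is a finite group `H` of order `2p³` which, for infinitely many `n`, embeds in the projective special linear group `PSL(n, p)` as a subgroup with trivial centralizer. -/
theorem result
    (p : ℕ) [Fact p.Prime] (hp : p ≠ 2) :
    ∃ (H : Type) (_ : Group H) (_ : Finite H), Nat.card H = 2 * p ^ 3 ∧
      ∀ N : ℕ, ∃ n, N ≤ n ∧ ∃ φ : H →* Matrix.ProjectiveSpecialLinearGroup (Fin n) (ZMod p),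
        Function.Injective φ ∧ Subgroup.centralizer (φ.range : Set (Matrix.ProjectiveSpecialLinearGroup (Fin n) (ZMod p))) = ⊥ := by
  refine ⟨Hp p, inferInstance, ?_, ?_, fun N => ?_⟩
  · exact Finite.of_equiv _ SemidirectProduct.equivProd.symm
  · rw [SemidirectProduct.card]
    have h2 : Nat.card ℤˣ = 2 := by
      rw [Nat.card_eq_fintype_card]; rfl
    have h3 : Nat.card (Vp p) = p ^ 3 := by
      rw [Nat.card_congr Multiplicative.toAdd, Nat.card_fun, Nat.card_zmod, Nat.card_fin]
    rw [h2, h3, mul_comm]
  obtain ⟨m, hm, hm2, hmN⟩ : ∃ m, Even m ∧ 2 ≤ m ∧ N ≤ m :=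
    ⟨2 * (N + 1), even_two_mul _, by omega, by omega⟩
  set e := Matrix.reindexAlgEquiv (ZMod p) (ZMod p) (finSumFinEquiv (m := m) (n := m)) with he
  refine ⟨m + m, by omega, (QuotientGroup.mk' _).comp (repSL p m hm), ?_, ?_⟩
  · rw [injective_iff_map_eq_one]
    intro h hh
    rw [MonoidHom.comp_apply, QuotientGroup.mk'_apply, QuotientGroup.eq_one_iff,
      Matrix.SpecialLinearGroup.mem_center_iff] at hh
    obtain ⟨r, -, hr⟩ := hh
    have hr' : repMat p m h = Matrix.scalar (Fin m ⊕ Fin m) r := by
      apply e.injective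
      change _ = e (Matrix.scalar (Fin m ⊕ Fin m) r)
      refine hr.symm.trans ?_
      rw [show (Matrix.scalar (Fin m ⊕ Fin m) r) = algebraMap (ZMod p) _ r from rfl, AlgEquiv.commutes]
      rfl
    have hm0 : 0 < m := by omega
    have e11 := congrFun (congrFun hr' (Sum.inl ⟨0, hm0⟩)) (Sum.inl ⟨0, hm0⟩)
    simp [repMat] at e11
    have e22 := congrFun (congrFun hr' (Sum.inr ⟨0, hm0⟩)) (Sum.inr ⟨0, hm0⟩)
    simp [repMat, ← e11] at e22
    have hu := signCast_inj p hp _ e22
    have e12 : ∀ i j, pencil p m (Multiplicative.toAdd h.left) i j = 0 := fun i j => by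
      have := congrFun (congrFun hr' (Sum.inl i)) (Sum.inr j)
      simpa [repMat, hu] using this
    refine SemidirectProduct.ext ?_ hu
    apply Multiplicative.toAdd.injective
    funext i
    have a0 := e12 ⟨0, hm0⟩ ⟨0, hm0⟩
    have a1 := e12 ⟨0, hm0⟩ ⟨1, by omega⟩
    have a2 := e12 ⟨1, by omega⟩ ⟨0, hm0⟩
    simp [pencil, shiftMat] at a0 a1 a2
    fin_cases i <;> simpa
  · rw [eq_bot_iff]
    intro q hq
    obtain ⟨g, rfl⟩ := QuotientGroup.mk_surjective q
    rw [Subgroup.mem_bot, QuotientGroup.eq_one_iff, Matrix.SpecialLinearGroup.mem_center_iff]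
    rw [Subgroup.mem_centralizer_iff] at hq
    have comm : ∀ h : Hp p, ∃ r : ZMod p, e.symm ↑g * repMat p m h =
        r • (repMat p m h * e.symm ↑g) := by
      intro h
      have h1 := hq _ ⟨h, rfl⟩
      rw [MonoidHom.comp_apply, QuotientGroup.mk'_apply, ← QuotientGroup.mk_mul,
        ← QuotientGroup.mk_mul, QuotientGroup.eq, Matrix.SpecialLinearGroup.mem_center_iff] at h1
      obtain ⟨r, -, hr⟩ := h1
      refine ⟨r, ?_⟩
      have h2 : g * repSL p m hm h = (repSL p m hm h * g) *
          ((repSL p m hm h * g)⁻¹ * (g * repSL p m hm h)) := by group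
      have h3 := congrArg (fun x : Matrix.SpecialLinearGroup (Fin (m + m)) (ZMod p) =>
        (x : Matrix (Fin (m + m)) (Fin (m + m)) (ZMod p))) h2
      simp only [Matrix.SpecialLinearGroup.coe_mul] at h3
      simp only [Matrix.SpecialLinearGroup.coe_mul] at hr
      rw [← hr] at h3
      apply e.injective
      rw [map_mul, map_smul, map_mul, AlgEquiv.apply_symm_apply]
      refine h3.trans ?_
      rw [show Matrix.scalar (Fin (m + m)) r = r • (1 : Matrix (Fin (m + m)) (Fin (m + m)) (ZMod p))
        from (Matrix.smul_one_eq_diagonal r).symm, Matrix.mul_smul, mul_one]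
      rfl
    obtain ⟨P, Q, R, S, hG⟩ : ∃ P Q R S, e.symm ↑g = Matrix.fromBlocks P Q R S :=
      ⟨_, _, _, _, (Matrix.fromBlocks_toBlocks _).symm⟩
    have hne : e.symm ↑g ≠ 0 := by
      intro h0
      have : (g : Matrix (Fin (m + m)) (Fin (m + m)) (ZMod p)) = 0 := by
        simpa using congrArg e h0
      have hd := g.2
      have hne' : Nonempty (Fin (m + m)) := ⟨⟨0, by omega⟩⟩
      rw [this, Matrix.det_zero] at hd
      exact zero_ne_one hd
    rw [hG] at hne
    simp only [hG] at comm
    have eqs : ∀ (u : ℤˣ) (v : Fin 3 → ZMod p), ∃ r : ZMod p,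
        P = r • (P + ((u : ℤ) : ZMod p) • pencil p m v * R) ∧
        ((u : ℤ) : ZMod p) • (P * pencil p m v) + ((u : ℤ) : ZMod p) • Q =
          r • (Q + ((u : ℤ) : ZMod p) • pencil p m v * S) ∧
        R = r • (((u : ℤ) : ZMod p) • R) := by
      intro u v
      obtain ⟨r, hr⟩ := comm ⟨Multiplicative.ofAdd v, u⟩
      simp only [repMat, Matrix.fromBlocks_multiply, Matrix.fromBlocks_smul,
        Matrix.fromBlocks_inj, toAdd_ofAdd] at hr
      obtain ⟨a, b, c, -⟩ := hr
      exact ⟨r, by simpa using a, by simpa using b, by simpa using c⟩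
    have hR : R = 0 := by
      obtain ⟨r, a, b, c⟩ := eqs 1 ![1, 0, 0]
      simp [pencil] at a b c
      by_contra hR0
      have hr1 : r = 1 := by
        by_contra hr1
        apply hR0
        have : (r - 1) • R = 0 := by rw [sub_smul, one_smul, ← c, sub_self]
        exact (smul_eq_zero.mp this).resolve_left (sub_ne_zero.mpr hr1)
      rw [hr1, one_smul] at a
      exact hR0 (by simpa using a.symm)
    subst hR
    have hP : P ≠ 0 := by
      intro hP0; subst hP0
      obtain ⟨r, a, b, c⟩ := eqs (-1) ![0, 0, 0]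
      obtain ⟨r', a', b', c'⟩ := eqs 1 ![1, 0, 0]
      simp [pencil] at b b'
      have hdet : (Matrix.fromBlocks (0 : Matrix (Fin m) (Fin m) (ZMod p)) Q 0 S).det = 1 := by
        rw [← hG, he]
        simp
      have hne' : Nonempty (Fin m) := ⟨⟨0, by omega⟩⟩
      rw [Matrix.det_fromBlocks_zero₂₁, Matrix.det_zero, zero_mul] at hdet
      exact zero_ne_one hdet
    have r_one : ∀ r : ZMod p, P = r • P → r = 1 := by
      intro r h
      by_contra hr1
      apply hP
      have : (r - 1) • P = 0 := by rw [sub_smul, one_smul, ← h, sub_self]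
      exact (smul_eq_zero.mp this).resolve_left (sub_ne_zero.mpr hr1)
    have hQ : Q = 0 := by
      obtain ⟨r, a, b, -⟩ := eqs (-1) 0
      simp [pencil] at a b
      rw [r_one r a, one_smul] at b
      ext i j
      have hb := congrFun (congrFun b i) j
      simp at hb
      have h2 : ((2 : ℕ) : ZMod p) ≠ 0 := by
        rw [Ne, ZMod.natCast_eq_zero_iff]
        exact fun h => hp ((Nat.prime_dvd_prime_iff_eq Fact.out Nat.prime_two).mp h)
      have : ((2 : ℕ) : ZMod p) * Q i j = 0 := by push_cast; linear_combination -hb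
      exact (mul_eq_zero.mp this).resolve_left h2
    subst hQ
    have hv : ∀ v, P * pencil p m v = pencil p m v * S := by
      intro v
      obtain ⟨r, a, b, -⟩ := eqs 1 v
      simp at a b
      rw [r_one r a, one_smul] at b
      exact b
    have hS : P = S := by simpa [pencil] using hv ![1, 0, 0]
    subst hS
    have hm0 : 0 < m := by omega
    have hsc := commutant hm0 P (by simpa [pencil] using hv ![0, 1, 0])
      (by simpa [pencil] using hv ![0, 0, 1])
    set r := P ⟨0, hm0⟩ ⟨0, hm0⟩
    have hgr : (g : Matrix (Fin (m + m)) (Fin (m + m)) (ZMod p)) =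
        Matrix.scalar (Fin (m + m)) r := by
      have : e.symm ↑g = algebraMap (ZMod p) _ r := by
        rw [hG, hsc, Algebra.algebraMap_eq_smul_one, ← Matrix.fromBlocks_one,
          Matrix.fromBlocks_smul, smul_zero]
      have := congrArg e this
      rwa [AlgEquiv.apply_symm_apply, AlgEquiv.commutes] at this
    refine ⟨r, ?_, hgr.symm⟩
    have hd := g.2
    rw [hgr] at hd
    simpa [Matrix.det_diagonal] using hd

end Cfsg.Agent.S2533
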