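import Cfsg.Statements.S2540
import Cfsg.Agent.Lib.Classical.SLGroup

set_option autoImplicit false
open Cfsg
open scoped commutatorElement

namespace Cfsg.Agent.S2540

/-- Let F be a finite field and n ≥ 1, excluding the case n = 2 with #F ≤ 3. A subgroup of GL_n(F) that is normalized by every element of SL_n(F) either consists of scalar matrices or contains SL_n(F). -/
theorem result {F : Type*} [Field F] [Fintype F] (n : ℕ) (hn : 1 ≤ n) (hex : ¬ (n = 2 ∧ Fintype.card F ≤ 3)) (G : Subgroup (Matrix.GeneralLinearGroup (Fin n) F)) (hG : ∀ s : Matrix.SpecialLinearGroup (Fin n) F, ∀ g ∈ G, (Matrix.SpecialLinearGroup.toGL s) * g * (Matrix.SpecialLinearGroup.toGL s)⁻¹ ∈ G) : (∀ g ∈ G, ∃ c : F, (g : Matrix (Fin n) (Fin n) F) = c • (1 : Matrix (Fin n) (Fin n) F)) ∨ (Matrix.SpecialLinearGroup.toGL : Matrix.SpecialLinearGroup (Fin n) F →* _).range ≤ G := by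
  classical
  rcases Nat.lt_or_ge n 2 with h1 | h2
  · obtain rfl : n = 1 := by omega
    refine Or.inl fun g _ => ⟨(g : Matrix (Fin 1) (Fin 1) F) 0 0, ?_⟩
    ext i j
    simp [Subsingleton.elim i 0, Subsingleton.elim j 0]
  haveI : Nontrivial (Fin n) := Fin.nontrivial_iff_two_le.2 h2
  have hperf : commutator (Matrix.SpecialLinearGroup (Fin n) F) = ⊤ := by
    rcases Nat.lt_or_ge n 3 with h3 | h3
    · obtain rfl : n = 2 := by omega
      have hq : 4 ≤ Fintype.card F := by
        by_contra hc
        exact hex ⟨rfl, by omega⟩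
      obtain ⟨a, ha⟩ : ∃ a : F, a ∉ ({0, 1, -1} : Finset F) := by
        by_contra hcon
        push Not at hcon
        have := Finset.card_le_card (show (Finset.univ : Finset F) ⊆ {0, 1, -1} from fun x _ => hcon x)
        rw [Finset.card_univ] at this
        exact absurd (this.trans Finset.card_le_three) (by omega)
      simp only [Finset.mem_insert, Finset.mem_singleton, not_or] at ha
      exact Matrix.SL2.commutator_eq_top ha.1 (fun h => (sq_eq_one_iff.1 h).elim ha.2.1 ha.2.2)
    · exact CfsgLib.Classical.commutator_SL_eq_top h3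
  haveI : IsSimpleGroup (Matrix.ProjectiveSpecialLinearGroup (Fin n) F) :=
    CfsgLib.Classical.isSimpleGroup_PSL_of_perfect hperf
  let N : Subgroup (Matrix.SpecialLinearGroup (Fin n) F) := G.comap Matrix.SpecialLinearGroup.toGL
  haveI hN : N.Normal := ⟨fun x hx s => by
    show Matrix.SpecialLinearGroup.toGL (s * x * s⁻¹) ∈ G
    rw [map_mul, map_mul, map_inv]
    exact hG s _ hx⟩
  let π := QuotientGroup.mk' (Subgroup.center (Matrix.SpecialLinearGroup (Fin n) F))
  rcases Subgroup.Normal.eq_bot_or_eq_top (hN.map π (QuotientGroup.mk'_surjective _)) with h | h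
  · left
    have hNZ : N ≤ Subgroup.center (Matrix.SpecialLinearGroup (Fin n) F) := by
      rw [Subgroup.map_eq_bot_iff, QuotientGroup.ker_mk'] at h
      exact h
    intro g hg
    have hd : ∀ s : Matrix.SpecialLinearGroup (Fin n) F,
        ((g * Matrix.SpecialLinearGroup.toGL s * g⁻¹ * (Matrix.SpecialLinearGroup.toGL s)⁻¹ : GL (Fin n) F) :
          Matrix (Fin n) (Fin n) F).det = 1 := fun s => by
      have h : Matrix.GeneralLinearGroup.det (g * Matrix.SpecialLinearGroup.toGL s * g⁻¹ * (Matrix.SpecialLinearGroup.toGL s)⁻¹) = 1 := by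
        have hs : Matrix.GeneralLinearGroup.det (Matrix.SpecialLinearGroup.toGL s) = 1 := Units.ext s.2
        rw [map_mul, map_mul, map_mul, map_inv, map_inv, hs, mul_one, inv_one, mul_one, mul_inv_cancel]
      rw [← Matrix.GeneralLinearGroup.val_det_apply, h]; rfl
    let c : Matrix.SpecialLinearGroup (Fin n) F → Matrix.SpecialLinearGroup (Fin n) F := fun s => ⟨_, hd s⟩
    have hc : ∀ s, Matrix.SpecialLinearGroup.toGL (c s) =
        g * Matrix.SpecialLinearGroup.toGL s * g⁻¹ * (Matrix.SpecialLinearGroup.toGL s)⁻¹ := fun s => Units.ext rfl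
    have hcZ : ∀ s, c s ∈ Subgroup.center (Matrix.SpecialLinearGroup (Fin n) F) := fun s => hNZ (by
      show Matrix.SpecialLinearGroup.toGL (c s) ∈ G
      rw [hc]
      have e : g * Matrix.SpecialLinearGroup.toGL s * g⁻¹ * (Matrix.SpecialLinearGroup.toGL s)⁻¹ =
          g * (Matrix.SpecialLinearGroup.toGL s * g⁻¹ * (Matrix.SpecialLinearGroup.toGL s)⁻¹) := by group
      rw [e]
      exact G.mul_mem hg (hG s _ (G.inv_mem hg)))
    let φ : Matrix.SpecialLinearGroup (Fin n) F →* ↥(Subgroup.center (Matrix.SpecialLinearGroup (Fin n) F)) :=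
      MonoidHom.mk' (fun s => ⟨c s, hcZ s⟩) fun s t => Subtype.ext (Matrix.SpecialLinearGroup.toGL_injective (by
        show Matrix.SpecialLinearGroup.toGL (c (s * t)) = Matrix.SpecialLinearGroup.toGL (c s * c t)
        rw [← Subgroup.mem_center_iff.1 (hcZ s) (c t), map_mul, hc, map_mul]
        have ht := congrArg Matrix.SpecialLinearGroup.toGL (Subgroup.mem_center_iff.1 (hcZ t) s)
        rw [map_mul, map_mul] at ht
        rw [hc s, hc t] at *
        calc g * (Matrix.SpecialLinearGroup.toGL s * Matrix.SpecialLinearGroup.toGL t) * g⁻¹ *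
              (Matrix.SpecialLinearGroup.toGL s * Matrix.SpecialLinearGroup.toGL t)⁻¹
            = g * Matrix.SpecialLinearGroup.toGL s * g⁻¹ *
                (g * Matrix.SpecialLinearGroup.toGL t * g⁻¹ * (Matrix.SpecialLinearGroup.toGL t)⁻¹) *
                  (Matrix.SpecialLinearGroup.toGL s)⁻¹ := by group
          _ = g * Matrix.SpecialLinearGroup.toGL s * g⁻¹ * (Matrix.SpecialLinearGroup.toGL s)⁻¹ *
                (Matrix.SpecialLinearGroup.toGL s *
                  (g * Matrix.SpecialLinearGroup.toGL t * g⁻¹ * (Matrix.SpecialLinearGroup.toGL t)⁻¹)) *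
                  (Matrix.SpecialLinearGroup.toGL s)⁻¹ := by group
          _ = g * Matrix.SpecialLinearGroup.toGL s * g⁻¹ * (Matrix.SpecialLinearGroup.toGL s)⁻¹ *
                (g * Matrix.SpecialLinearGroup.toGL t * g⁻¹ * (Matrix.SpecialLinearGroup.toGL t)⁻¹) := by
              rw [ht]; group
          _ = _ := by
              have hst := congrArg Matrix.SpecialLinearGroup.toGL (Subgroup.mem_center_iff.1 (hcZ s) (c t))
              rw [map_mul, map_mul, hc, hc] at hst
              exact hst.symm))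
    have hφ : φ = 1 := by
      rw [← MonoidHom.ker_eq_top_iff, ← top_le_iff, ← hperf]
      rw [commutator_def, Subgroup.commutator_le]
      intro a _ b _
      rw [MonoidHom.mem_ker, map_commutatorElement, commutatorElement_eq_one_iff_mul_comm]
      exact Subtype.ext (Subgroup.mem_center_iff.1 (φ b).2 _)
    have hcomm : ∀ s, g * Matrix.SpecialLinearGroup.toGL s = Matrix.SpecialLinearGroup.toGL s * g := fun s => by
      have h' := congrArg Matrix.SpecialLinearGroup.toGL (congrArg Subtype.val (DFunLike.congr_fun hφ s))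
      simp only [φ, MonoidHom.mk'_apply, MonoidHom.one_apply, Subgroup.coe_one, map_one, hc] at h'
      rw [mul_inv_eq_one, mul_inv_eq_iff_eq_mul] at h'
      exact h'
    obtain ⟨r, hr⟩ := (Matrix.mem_range_scalar_iff_commute_transvectionStruct (M := (g : Matrix (Fin n) (Fin n) F))).2
      fun t => by
        let s : Matrix.SpecialLinearGroup (Fin n) F := ⟨t.toMatrix, by simp⟩
        exact (congrArg Units.val (hcomm s)).symm
    exact ⟨r, by rw [← hr, Matrix.scalar_apply, Matrix.smul_one_eq_diagonal]⟩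
  · right
    rw [MonoidHom.range_eq_map, Subgroup.map_le_iff_le_comap]
    show ⊤ ≤ N
    rw [← hperf, commutator_def, Subgroup.commutator_le]
    intro a _ b _
    have hsplit : ∀ a, ∃ z ∈ Subgroup.center (Matrix.SpecialLinearGroup (Fin n) F), ∃ m ∈ N, a = m * z := fun a => by
      obtain ⟨m, hm, hma⟩ := Subgroup.mem_map.1 (h.ge (Subgroup.mem_top (π a)))
      exact ⟨m⁻¹ * a, QuotientGroup.eq.1 hma, m, hm, by group⟩
    obtain ⟨z, hz, m, hm, rfl⟩ := hsplit a
    obtain ⟨z', hz', m', hm', rfl⟩ := hsplit b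
    have e : ⁅m * z, m' * z'⁆ = ⁅m, m'⁆ := by
      have hzc := Subgroup.mem_center_iff.1 hz
      have hzc' := Subgroup.mem_center_iff.1 hz'
      rw [commutatorElement_def, commutatorElement_def]
      calc m * z * (m' * z') * (m * z)⁻¹ * (m' * z')⁻¹
          = m * (z * (m' * z')) * z⁻¹ * m⁻¹ * z'⁻¹ * m'⁻¹ := by group
        _ = m * m' * (z' * m⁻¹) * z'⁻¹ * m'⁻¹ := by rw [← hzc (m' * z')]; group
        _ = m * m' * m⁻¹ * m'⁻¹ := by rw [← hzc' m⁻¹]; group
    rw [e, commutatorElement_def]
    exact N.mul_mem (N.mul_mem (N.mul_mem hm hm') (N.inv_mem hm)) (N.inv_mem hm')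

end Cfsg.Agent.S2540
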