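import Cfsg.Statements.S2541
import Cfsg.Agent.Lib.Known.PGLOrder

set_option autoImplicit false
open Cfsg

namespace Cfsg.Agent.S2541

/-- Let F be a field with 9 elements. The symmetric group S_6 is not isomorphic to PGL_2(F) (although both have index-2 subgroups isomorphic to A_6). -/
theorem result {F : Type*} [Field F] [Fintype F] (hF : Fintype.card F = 9) : ¬ Nonempty (Equiv.Perm (Fin 6) ≃* Matrix.ProjGenLinGroup (Fin 2) F) := by
  rintro ⟨e⟩
  obtain ⟨g, hg⟩ := CfsgLib.Known.PGLOrder.exists_card_mul_orderOf_eq (F := F) (d := 2) (by omega)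
  rw [hF] at hg
  norm_num at hg
  set x : Matrix.ProjGenLinGroup (Fin 2) F :=
    (QuotientGroup.mk g : GL (Fin 2) F ⧸ Subgroup.center (GL (Fin 2) F))
  have hx : orderOf x = 10 :=
    Nat.eq_of_mul_eq_mul_left (show 0 < 8 by norm_num) hg
  set σ := e.symm x
  have hσ : orderOf σ = 10 := by rw [MulEquiv.orderOf_eq, hx]
  have hlcm : σ.cycleType.lcm = 10 := by rw [Equiv.Perm.lcm_cycleType, hσ]
  have hsum : σ.cycleType.sum ≤ 6 := by
    rw [Equiv.Perm.sum_cycleType]
    exact le_trans (Finset.card_le_univ _) (by rw [Fintype.card_fin])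
  have hmem : ∀ a ∈ σ.cycleType, a = 2 ∨ a = 5 := by
    intro a ha
    have h1 : a ∣ 10 := hlcm ▸ Multiset.dvd_lcm ha
    have h2 := Equiv.Perm.two_le_of_mem_cycleType ha
    have h3 : a ≤ 6 := le_trans (Multiset.single_le_sum (fun b _ => Nat.zero_le b) _ ha) hsum
    interval_cases a <;> omega
  have h5 : 5 ∈ σ.cycleType := by
    by_contra hcon
    have : σ.cycleType.lcm ∣ 2 := Multiset.lcm_dvd.2 fun a ha => by
      rcases hmem a ha with rfl | rfl
      · exact dvd_refl _
      · exact absurd ha hcon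
    rw [hlcm] at this
    omega
  obtain ⟨s, hs⟩ := Multiset.exists_cons_of_mem h5
  have hs0 : s = 0 := Multiset.eq_zero_of_forall_notMem fun a ha => by
    have h2 := Equiv.Perm.two_le_of_mem_cycleType (σ := σ) (hs ▸ Multiset.mem_cons_of_mem ha)
    have h3 := Multiset.single_le_sum (fun b _ => Nat.zero_le b) _ ha
    rw [hs, Multiset.sum_cons] at hsum
    omega
  rw [hs, hs0, Multiset.lcm_cons, Multiset.lcm_zero] at hlcm
  exact absurd hlcm (by decide)

end Cfsg.Agent.S2541
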