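import Cfsg.Statements.S2543
import Cfsg.Agent.Lib.Known.PSLTwoElevenClasses

set_option linter.all false

set_option autoImplicit false
open scoped Pointwise
open Cfsg

namespace Cfsg.Agent.S2543

/-- Let F be a field with 11 elements. PSL_2(F) has exactly 22 subgroups isomorphic to the alternating group A_5, and they form two conjugacy classes: there are two such subgroups that are not conjugate, and every such subgroup is conjugate to one of these two. -/
theorem result {F : Type*} [Field F] [Fintype F] (hF : Fintype.card F = 11) : Nat.card {H : Subgroup (Matrix.ProjectiveSpecialLinearGroup (Fin 2) F) // Nonempty (H ≃* alternatingGroup (Fin 5))} = 22 ∧ ∃ H K : Subgroup (Matrix.ProjectiveSpecialLinearGroup (Fin 2) F), Nonempty (H ≃* alternatingGroup (Fin 5)) ∧ Nonempty (K ≃* alternatingGroup (Fin 5)) ∧ (∀ g : Matrix.ProjectiveSpecialLinearGroup (Fin 2) F, MulAut.conj g • H ≠ K) ∧ ∀ L : Subgroup (Matrix.ProjectiveSpecialLinearGroup (Fin 2) F), Nonempty (L ≃* alternatingGroup (Fin 5)) → ∃ g : Matrix.ProjectiveSpecialLinearGroup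 (Fin 2) F, MulAut.conj g • L = H ∨ MulAut.conj g • L = K := by
  obtain ⟨e⟩ := CfsgLib.Known.PSL11.exists_pslEquiv F hF
  obtain ⟨A, B, hA, hB, hAi, hBi, ⟨g, hg⟩, ⟨g', hg'⟩, hne, hall⟩ := CfsgLib.Known.PSL11.exists_classes e
  refine ⟨?_, A, B, hAi, hBi, hne, hall⟩
  exact CfsgLib.Known.PSL11.card_of_two_classes (p := 11) _ A B hA hB
    (CfsgLib.Known.PSL11.normalizer_eq_of_index (by norm_num) A hA hg)
    (CfsgLib.Known.PSL11.normalizer_eq_of_index (by norm_num) B hB hg')
    (fun x L hL => hL.map fun i => (Subgroup.equivSMul (MulAut.conj x) L).symm.trans i) hAi hBi hne hall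

end Cfsg.Agent.S2543
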