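import Cfsg.Statements.S2551
import Cfsg.Agent.S0256
import Cfsg.Agent.Lib.Classical.AltSevenTrans
import Mathlib.LinearAlgebra.Matrix.GeneralLinearGroup.Card

set_option autoImplicit false
open Cfsg

namespace Cfsg.Agent.S2551

/-- Let F be the field with 2 elements. GL_4(F) (≅ A_8) has a subgroup isomorphic to the alternating group A_7, and every such subgroup acts 2-transitively on the 15 non-zero vectors of F⁴: any ordered pair of distinct non-zero vectors is carried to any other by some element of the subgroup. -/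
theorem result {F : Type*} [Field F] [Fintype F] (hF : Fintype.card F = 2) : (∃ H : Subgroup (Matrix.GeneralLinearGroup (Fin 4) F), Nonempty (H ≃* alternatingGroup (Fin 7))) ∧ ∀ H : Subgroup (Matrix.GeneralLinearGroup (Fin 4) F), Nonempty (H ≃* alternatingGroup (Fin 7)) → ∀ v w v' w' : Fin 4 → F, v ≠ 0 → w ≠ 0 → v ≠ w → v' ≠ 0 → w' ≠ 0 → v' ≠ w' → ∃ g ∈ H, (g : Matrix (Fin 4) (Fin 4) F).mulVec v = v' ∧ (g : Matrix (Fin 4) (Fin 4) F).mulVec w = w' := by
  classical
  have hone : ∀ g : Matrix.GeneralLinearGroup (Fin 4) F, (g : Matrix (Fin 4) (Fin 4) F).det = 1 :=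
    fun g => (CfsgLib.Classical.AltSevenTrans.eq_zero_or_one hF _).resolve_left
      ((Matrix.isUnit_iff_isUnit_det _).1 g.isUnit).ne_zero
  refine ⟨?_, ?_⟩
  · have hc : Subgroup.center (Matrix.SpecialLinearGroup (Fin 4) F) = ⊥ := by
      refine (Subgroup.eq_bot_iff_forall _).2 fun A hA => ?_
      obtain ⟨r, hr, hrA⟩ := Matrix.SpecialLinearGroup.mem_center_iff.1 hA
      have hr1 : r = 1 := (CfsgLib.Classical.AltSevenTrans.eq_zero_or_one hF r).resolve_left
        fun h => by simp [h] at hr
      exact Subtype.ext (by rw [← hrA, hr1]; simp)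
    obtain ⟨e⟩ := Cfsg.Agent.S0256.result hF
    let eS : Matrix.GeneralLinearGroup (Fin 4) F ≃* Matrix.SpecialLinearGroup (Fin 4) F :=
      { toFun := fun g => ⟨(g : Matrix (Fin 4) (Fin 4) F), hone g⟩
        invFun := fun A => Matrix.SpecialLinearGroup.toGL A
        left_inv := fun g => Units.ext rfl
        right_inv := fun A => Subtype.ext rfl
        map_mul' := fun a b => Subtype.ext rfl }
    let em : Fin 7 ↪ Fin 8 := Fin.castLEEmb (by norm_num)
    let i : alternatingGroup (Fin 7) →* alternatingGroup (Fin 8) :=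
      ((Equiv.Perm.viaEmbeddingHom em).comp (alternatingGroup (Fin 7)).subtype).codRestrict _
        fun σ => by
          rw [Equiv.Perm.mem_alternatingGroup]
          simp only [MonoidHom.comp_apply, Equiv.Perm.viaEmbeddingHom,
            Equiv.Perm.extendDomainHom_apply, Equiv.Perm.sign_extendDomain]
          exact Equiv.Perm.mem_alternatingGroup.1 σ.2
    have hi : Function.Injective i := fun a b h => Subtype.ext
      (Equiv.Perm.viaEmbeddingHom_injective em (congrArg Subtype.val h))
    let e' : Matrix.GeneralLinearGroup (Fin 4) F ≃* alternatingGroup (Fin 8) :=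
      eS.trans (((QuotientGroup.quotientMulEquivOfEq hc).trans QuotientGroup.quotientBot).symm.trans e)
    refine ⟨(e'.symm.toMonoidHom.comp i).range, ⟨(MonoidHom.ofInjective ?_).symm⟩⟩
    exact e'.symm.injective.comp hi
  rintro H ⟨eH⟩ v w v' w' hv hw hvw hv' hw' hvw'
  let eT : Matrix.GeneralLinearGroup (Fin 4) F ≃* ((Fin 4 → F) ≃ₗ[F] (Fin 4 → F)) :=
    Matrix.GeneralLinearGroup.toLin.trans (LinearMap.GeneralLinearGroup.generalLinearEquiv F _)
  have hcard : Nat.card (H.map eT.toMonoidHom) = 2520 := by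
    rw [← Nat.card_congr (H.equivMapOfInjective eT.toMonoidHom eT.injective).toEquiv,
      Nat.card_congr eH.toEquiv, nat_card_alternatingGroup, Nat.card_fin]
    rfl
  obtain ⟨g, hg, h1, h2⟩ := CfsgLib.Classical.AltSevenTrans.pairs hF _ hcard v w v' w' hv hw hvw
    hv' hw' hvw'
  obtain ⟨g, hgH, rfl⟩ := hg
  exact ⟨g, hgH, h1, h2⟩

end Cfsg.Agent.S2551
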