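import Cfsg.Statements.S2552

-- helpers

set_option autoImplicit false
open Cfsg

namespace Cfsg.Agent.S2552

/-- Let F be a finite field and n ≥ 1. For every k, the special linear group SL_n(F) acts transitively on the set of k-dimensional subspaces of F^n: any two subspaces of the same dimension are carried onto each other by some matrix of determinant 1. -/
theorem result {F : Type*} [Field F] [Fintype F] (n : ℕ) (hn : 1 ≤ n) (U₁ U₂ : Submodule F (Fin n → F)) (h : Module.finrank F U₁ = Module.finrank F U₂) : ∃ g : Matrix.SpecialLinearGroup (Fin n) F, U₁.map ((Matrix.SpecialLinearGroup.toLin' g : (Fin n → F) ≃ₗ[F] (Fin n → F)) : (Fin n → F) →ₗ[F] (Fin n → F)) = U₂ := by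
  classical
  rcases Nat.eq_zero_or_pos (Module.finrank F U₁) with h0 | hpos
  · refine ⟨1, ?_⟩
    have e1 : U₁ = ⊥ := Submodule.finrank_eq_zero.1 h0
    have e2 : U₂ = ⊥ := Submodule.finrank_eq_zero.1 (h.symm.trans h0)
    rw [e1, e2, Submodule.map_bot]
  obtain ⟨W₁, hW₁⟩ := Submodule.exists_isCompl U₁
  obtain ⟨W₂, hW₂⟩ := Submodule.exists_isCompl U₂
  have hW : Module.finrank F W₁ = Module.finrank F W₂ := by
    have h1 := Submodule.finrank_add_eq_of_isCompl hW₁
    have h2 := Submodule.finrank_add_eq_of_isCompl hW₂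
    omega
  let e0 : (Fin n → F) ≃ₗ[F] (Fin n → F) :=
    (Submodule.prodEquivOfIsCompl U₁ W₁ hW₁).symm.trans
      (((LinearEquiv.ofFinrankEq U₁ U₂ h).prodCongr (LinearEquiv.ofFinrankEq W₁ W₂ hW)).trans
        (Submodule.prodEquivOfIsCompl U₂ W₂ hW₂))
  let c : Fˣ := LinearEquiv.det e0
  let b := Module.finBasis F U₂
  haveI : Nonempty (Fin (Module.finrank F U₂)) := ⟨⟨0, by omega⟩⟩
  let i₀ : Fin (Module.finrank F U₂) := ⟨0, by omega⟩
  let a : U₂ ≃ₗ[F] U₂ := b.equiv (b.unitsSMul (Function.update 1 i₀ c⁻¹)) (Equiv.refl _)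
  have ha : LinearMap.det (a : U₂ →ₗ[F] U₂) = (c⁻¹ : Fˣ) := by
    rw [← LinearMap.det_toMatrix b]
    have : LinearMap.toMatrix b b (a : U₂ →ₗ[F] U₂) = Matrix.diagonal (fun i => ((Function.update 1 i₀ c⁻¹ : Fin (Module.finrank F U₂) → Fˣ) i : F)) := by
      ext i j
      rw [LinearMap.toMatrix_apply, Matrix.diagonal_apply]
      simp only [a, LinearEquiv.coe_coe, Module.Basis.equiv_apply, Equiv.refl_apply, Module.Basis.unitsSMul_apply,
        Units.smul_def, map_smul, Module.Basis.repr_self, Finsupp.smul_single, smul_eq_mul, mul_one]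
      rw [Finsupp.single_apply]
      rcases eq_or_ne i j with rfl | hij
      · simp
      · simp [hij, Ne.symm hij]
    rw [this, Matrix.det_diagonal, Finset.prod_eq_single i₀]
    · simp
    · intro j _ hj
      simp [hj]
    · simp
  let A : (Fin n → F) ≃ₗ[F] (Fin n → F) :=
    (Submodule.prodEquivOfIsCompl U₂ W₂ hW₂).symm.trans
      ((a.prodCongr (LinearEquiv.refl F W₂)).trans (Submodule.prodEquivOfIsCompl U₂ W₂ hW₂))
  let e := e0.trans A
  have hAdet : LinearMap.det (A : (Fin n → F) →ₗ[F] (Fin n → F)) = (c⁻¹ : Fˣ) := by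
    have hA : (A : (Fin n → F) →ₗ[F] (Fin n → F)) = ((Submodule.prodEquivOfIsCompl U₂ W₂ hW₂ : (U₂ × W₂) →ₗ[F] (Fin n → F)) ∘ₗ
        (LinearMap.prodMap (a : U₂ →ₗ[F] U₂) LinearMap.id)) ∘ₗ
          ((Submodule.prodEquivOfIsCompl U₂ W₂ hW₂).symm : (Fin n → F) →ₗ[F] (U₂ × W₂)) := rfl
    rw [hA, LinearMap.comp_assoc, LinearMap.det_conj, LinearMap.det_prodMap, LinearMap.det_id, mul_one, ha]
  have hdet : LinearMap.det (e : (Fin n → F) →ₗ[F] (Fin n → F)) = 1 := by
    have he : (e : (Fin n → F) →ₗ[F] (Fin n → F)) = (A : (Fin n → F) →ₗ[F] (Fin n → F)) * (e0 : (Fin n → F) →ₗ[F] (Fin n → F)) := rfl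
    rw [he, map_mul, hAdet, ← LinearEquiv.coe_det e0, ← Units.val_mul, inv_mul_cancel, Units.val_one]
  refine ⟨⟨LinearMap.toMatrix' (e : (Fin n → F) →ₗ[F] (Fin n → F)), by rw [LinearMap.det_toMatrix']; exact hdet⟩, ?_⟩
  have hg : Matrix.toLin' (LinearMap.toMatrix' (e : (Fin n → F) →ₗ[F] (Fin n → F))) = (e : (Fin n → F) →ₗ[F] (Fin n → F)) :=
    Matrix.toLin'_toMatrix' _
  show U₁.map (Matrix.toLin' (LinearMap.toMatrix' (e : (Fin n → F) →ₗ[F] (Fin n → F)))) = U₂
  rw [hg]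
  refine Submodule.eq_of_le_of_finrank_eq ?_ ((LinearEquiv.finrank_map_eq e U₁).trans h)
  rintro _ ⟨u, hu, rfl⟩
  have hu' : (Submodule.prodEquivOfIsCompl U₁ W₁ hW₁).symm u = (⟨u, hu⟩, 0) :=
    Submodule.prodEquivOfIsCompl_symm_apply_left U₁ W₁ hW₁ (⟨u, hu⟩ : U₁)
  simp only [e, e0, A, LinearEquiv.coe_coe, LinearEquiv.trans_apply, hu', LinearEquiv.prodCongr_apply, map_zero]
  rw [LinearEquiv.symm_apply_apply]
  simp [Submodule.coe_prodEquivOfIsCompl']

end Cfsg.Agent.S2552
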