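import Cfsg.Statements.S2556
import Cfsg.Agent.Lib.Lie.Suzuki.AutSylow

set_option autoImplicit false
open Cfsg

namespace Cfsg.Agent.S2556

/-- Let S be a Sylow 2-subgroup of the Suzuki group Sz(q), q = 2ⁿ with n = 2m + 1 ≥ 3 (realised as 4 × 4 matrices over the field with q elements). Then the largest normal 2-subgroup of the automorphism group of S is elementary abelian of order 2^(n²), and the automorphism group of S has order 2^(n²) · n · (q − 1). -/
theorem result {S : Type*} [Group S] [Finite S] (m : ℕ) (hm : 1 ≤ m)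
    {F : Type*} [Field F] [Fintype F] (hF : Fintype.card F = 2 ^ (2 * m + 1))
    (P : Sylow 2 ↥(Cfsg.Lie.Sz F (2 ^ (m + 1)))) (hS : Nonempty (S ≃* ↥(P : Subgroup ↥(Cfsg.Lie.Sz F (2 ^ (m + 1)))))) :
    Cfsg.IsElementaryAbelian 2 (Cfsg.pCore 2 (MulAut S)) ∧ Nat.card ↥(Cfsg.pCore 2 (MulAut S)) = 2 ^ ((2 * m + 1) ^ 2) ∧
      Nat.card (MulAut S) = 2 ^ ((2 * m + 1) ^ 2) * ((2 * m + 1) * (2 ^ (2 * m + 1) - 1)) := by
  haveI := CfsgLib.Lie.Suzuki.charTwo_of_card hF
  haveI := Fact.mk Nat.prime_two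
  obtain ⟨e⟩ := hS
  let E := CfsgLib.Lie.Suzuki.equivLie hm hF
  let U := CfsgLib.Lie.Suzuki.sylU hF hm
  have hU : Nat.card ↥((U : Subgroup ↥(Cfsg.Sz F m)).map E.toMonoidHom) =
      2 ^ (Nat.card ↥(Cfsg.Lie.Sz F (2 ^ (m + 1)))).factorization 2 := by
    rw [Subgroup.card_map_of_injective E.injective, U.card_eq_multiplicity, Nat.card_congr E.toEquiv]
  let e2 : S ≃* ↥(CfsgLib.Lie.Suzuki.unip hF) :=
    e.trans ((P.equiv (Sylow.ofCard _ hU)).trans
      ((Subgroup.equivMapOfInjective (U : Subgroup ↥(Cfsg.Sz F m)) E.toMonoidHom E.injective).symm.trans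
        (MulEquiv.subgroupCongr (CfsgLib.Lie.Suzuki.coe_sylU hF hm))))
  exact CfsgLib.Lie.Suzuki.AutSylow.transfer (MulAut.congr e2.symm)
    (CfsgLib.Lie.Suzuki.AutSylow.aut_structure hF hm)

end Cfsg.Agent.S2556
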