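import Cfsg.Statements.S2558
import Cfsg.Agent.Lib.ClassCount.Orthogonal.Bounds
import Cfsg.Agent.Lib.ClassCount.Orthogonal.Lower
-- import your own Cfsg.Agent.* helpers here

set_option autoImplicit false
open Cfsg

namespace Cfsg.Agent.S2558

/-- The number of conjugacy classes of the full orthogonal groups O⁺(2n,q) and O⁻(2n,q), q odd, 2n ≥ 4: for F a finite field of odd order q and n ≥ 2, the number k of conjugacy classes of the isometry group of the hyperbolic quadratic form Σ xᵢyᵢ on F^{2n}, and likewise of the elliptic form Σ xᵢyᵢ + (z₁² + a z₁z₂ + b z₂²) with anisotropic binary part, satisfies q^n/2 ≤ k ≤ 9.5·q^n. -/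
theorem result {F : Type*} [Field F] [Fintype F] (hodd : Odd (Fintype.card F)) (n : ℕ) (hn : 2 ≤ n) (a b : F) (hab : ∀ z₁ z₂ : F, z₁ ^ 2 + a * z₁ * z₂ + b * z₂ ^ 2 = 0 → z₁ = 0 ∧ z₂ = 0) :
    (Fintype.card F ^ n ≤ 2 * Nat.card (ConjClasses ↥(Cfsg.isometryGroup F (Cfsg.quadFormPlus n F))) ∧
      2 * Nat.card (ConjClasses ↥(Cfsg.isometryGroup F (Cfsg.quadFormPlus n F))) ≤ 19 * Fintype.card F ^ n) ∧
    (Fintype.card F ^ n ≤ 2 * Nat.card (ConjClasses ↥(Cfsg.isometryGroup F (Cfsg.quadFormMinus (n - 1) F a b))) ∧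
      2 * Nat.card (ConjClasses ↥(Cfsg.isometryGroup F (Cfsg.quadFormMinus (n - 1) F a b))) ≤ 19 * Fintype.card F ^ n) := by
  have h2 : (2 : F) ≠ 0 := Ring.two_ne_zero fun h => by
    have := FiniteField.even_card_of_char_two h
    exact Nat.not_even_iff_odd.2 hodd (Nat.even_iff.2 this)
  have hP : Fintype.card (Fin n ⊕ Fin n) = 2 * n := by simp [two_mul]
  have hM : Fintype.card ((Fin (n - 1) ⊕ Fin (n - 1)) ⊕ Fin 2) = 2 * n := by simp; omega
  have hnP := CfsgLib.Classical.Quad.qPlus_nondeg (F := F) n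
  have hnM := CfsgLib.Classical.Quad.qMinus_nondeg (F := F) (a := a) (b := b) hab (n - 1)
  rw [← CfsgLib.Classical.Quad.coe_qPlus, ← CfsgLib.Classical.Quad.coe_qMinus]
  exact ⟨⟨CfsgLib.ClassNumber.orth_classes_ge h2 hn _ hP hnP,
      CfsgLib.ClassNumber.orth_classes_le hodd n (by omega) _ hnP hP⟩,
    CfsgLib.ClassNumber.orth_classes_ge h2 hn _ hM hnM,
      CfsgLib.ClassNumber.orth_classes_le hodd n (by omega) _ hnM hM⟩

end Cfsg.Agent.S2558
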