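import Cfsg.Statements.S2563
import Cfsg.Agent.Lib.Classical.OrthogonalEmbedding

set_option autoImplicit false
open Cfsg

namespace Cfsg.Agent.S2563

/-- For k ≥ 1 the symmetric group of degree 4k + 4 embeds in a full orthogonal group in dimension 4k + 2 over the field of two elements: in the isometry group of the plus-type form Σ xᵢyᵢ when k is odd, and in that of the minus-type form Σ xᵢyᵢ + (z₁² + z₁z₂ + z₂²) when k is even (through its action on even partitions of a (4k+4)-set, with the form 'half the size of a part, modulo 2'). -/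
theorem result (k : ℕ) (hk : 1 ≤ k) :
    (Odd k → ∃ φ : Equiv.Perm (Fin (4 * k + 4)) →* ↥(Cfsg.isometryGroup (ZMod 2) (Cfsg.quadFormPlus (2 * k + 1) (ZMod 2))), Function.Injective φ) ∧
    (Even k → ∃ φ : Equiv.Perm (Fin (4 * k + 4)) →* ↥(Cfsg.isometryGroup (ZMod 2) (Cfsg.quadFormMinus (2 * k) (ZMod 2) 1 1)), Function.Injective φ) := by
  refine ⟨fun hodd => ?_, fun hev => ?_⟩
  · obtain ⟨t, rfl⟩ := hodd
    have hE : CfsgLib.Classical.OrthEmbed.Emb (4 * (2 * t + 1) + 3)
        ⇑(CfsgLib.Classical.Quad.qPlus (2 * (2 * t + 1) + 1) (ZMod 2)) := by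
      rw [CfsgLib.Classical.Quad.coe_qPlus, show 4 * (2 * t + 1) + 3 = 8 * t + 7 by omega,
        show 2 * (2 * t + 1) + 1 = 3 + 4 * t by omega]
      exact CfsgLib.Classical.OrthEmbed.emb_plus t
    obtain ⟨f, hf⟩ := CfsgLib.Classical.OrthEmbed.exists_embedding (by omega) (by omega)
      (CfsgLib.Classical.Quad.qPlus (2 * (2 * t + 1) + 1) (ZMod 2))
      (CfsgLib.Classical.Quad.qPlus_nondeg _) (by simp; omega) hE
    revert f
    rw [CfsgLib.Classical.Quad.coe_qPlus]
    exact fun f hf => ⟨f, hf⟩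
  · obtain ⟨t, rfl⟩ := hev
    have hE : CfsgLib.Classical.OrthEmbed.Emb (4 * (t + t) + 3)
        ⇑(CfsgLib.Classical.Quad.qMinus (2 * (t + t)) (ZMod 2) 1 1) := by
      rw [CfsgLib.Classical.Quad.coe_qMinus, show 4 * (t + t) + 3 = 8 * t + 3 by omega,
        show 2 * (t + t) = 4 * t by omega]
      exact CfsgLib.Classical.OrthEmbed.emb_minus t
    obtain ⟨f, hf⟩ := CfsgLib.Classical.OrthEmbed.exists_embedding (by omega) (by omega)
      (CfsgLib.Classical.Quad.qMinus (2 * (t + t)) (ZMod 2) 1 1)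
      (CfsgLib.Classical.Quad.qMinus_nondeg (F := ZMod 2) (a := 1) (b := 1) (by decide +kernel) _) (by simp; omega) hE
    revert f
    rw [CfsgLib.Classical.Quad.coe_qMinus]
    exact fun f hf => ⟨f, hf⟩

end Cfsg.Agent.S2563
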