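import Cfsg.Statements.S2567

set_option autoImplicit false
open Cfsg

namespace Cfsg.Agent.S2567

/-- Lifting elements of prime order from PGL to GL: let F be a finite field with q elements, r a prime not dividing q − 1, and x an element of order r in GL_n(F) modulo its centre (the scalar matrices). Then x has exactly one preimage in GL_n(F) of order r. -/
theorem result {F : Type*} [Field F] [Fintype F] {q n r : ℕ} (hF : Fintype.card F = q) (hr : r.Prime) (hdiv : ¬ r ∣ q - 1) (x : GL (Fin n) F ⧸ Subgroup.center (GL (Fin n) F)) (hx : orderOf x = r) : ∃! g : GL (Fin n) F, (QuotientGroup.mk g : GL (Fin n) F ⧸ Subgroup.center (GL (Fin n) F)) = x ∧ orderOf g = r := by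
  classical
  haveI : Fact r.Prime := ⟨hr⟩
  have hZ : ∀ z ∈ Subgroup.center (GL (Fin n) F), z ^ (q - 1) = 1 := by
    intro z hz
    rw [Matrix.GeneralLinearGroup.center_eq_range_scalar] at hz
    obtain ⟨c, rfl⟩ := hz
    rw [← map_pow, ← hF, ← Fintype.card_units, pow_card_eq_one, map_one]
  have hco : Nat.Coprime r (q - 1) := (hr.coprime_iff_not_dvd).2 hdiv
  obtain ⟨g0, hg0⟩ := QuotientGroup.mk_surjective x
  subst hg0
  have hz : g0 ^ r ∈ (Subgroup.center (GL (Fin n) F)) := by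
    rw [← QuotientGroup.eq_one_iff, QuotientGroup.mk_pow, ← hx, pow_orderOf_eq_one]
  -- an `r`-th root of `g0 ^ r` inside the center
  obtain ⟨k, hk⟩ : ∃ k : ℕ, (g0 ^ r) ^ (r * k) = g0 ^ r := by
    have hcop : Nat.Coprime (orderOf (g0 ^ r)) r :=
      Nat.Coprime.coprime_dvd_left (orderOf_dvd_of_pow_eq_one (hZ _ hz)) hco.symm
    obtain ⟨k, hk⟩ := exists_pow_eq_self_of_coprime hcop.symm
    exact ⟨k, by rwa [← pow_mul] at hk⟩
  set c := (g0 ^ r) ^ k
  have hc : c ∈ (Subgroup.center (GL (Fin n) F)) := (Subgroup.center (GL (Fin n) F)).pow_mem hz k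
  have hcomm : Commute g0 c⁻¹ := ((Commute.refl g0).pow_right r |>.pow_right k).inv_right
  have hne : (QuotientGroup.mk g0 : GL (Fin n) F ⧸ (Subgroup.center (GL (Fin n) F))) ≠ 1 := fun h => by
    rw [h, orderOf_one] at hx
    exact hr.one_lt.ne hx
  refine ⟨g0 * c⁻¹, ⟨?_, ?_⟩, ?_⟩
  · rw [QuotientGroup.mk_mul, (QuotientGroup.eq_one_iff _).2 ((Subgroup.center (GL (Fin n) F)).inv_mem hc), mul_one]
  · refine orderOf_eq_prime ?_ fun h => hne ?_
    · rw [hcomm.mul_pow, inv_pow, ← pow_mul, mul_comm k r, hk, mul_inv_cancel]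
    · rw [mul_inv_eq_one] at h
      rw [h]
      exact (QuotientGroup.eq_one_iff _).2 hc
  · rintro g ⟨hg, hgr⟩
    have hd : g0⁻¹ * g ∈ (Subgroup.center (GL (Fin n) F)) := QuotientGroup.eq.1 hg.symm
    have hd2 : (c * (g0⁻¹ * g)) ∈ (Subgroup.center (GL (Fin n) F)) := (Subgroup.center (GL (Fin n) F)).mul_mem hc hd
    have h1 : (c * (g0⁻¹ * g)) ^ r = 1 := by
      have hcg : Commute c (g0⁻¹ * g) := (Subgroup.mem_center_iff.1 hd c)
      have hgg : Commute g0 (g0⁻¹ * g) := Subgroup.mem_center_iff.1 hd g0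
      have hg' : g = g0 * (g0⁻¹ * g) := by group
      have : (g0 * (g0⁻¹ * g)) ^ r = 1 := by rw [← hg', ← hgr, pow_orderOf_eq_one]
      rw [hgg.mul_pow] at this
      rw [hcg.mul_pow, ← pow_mul, mul_comm k r, hk, this]
    have h2 : c * (g0⁻¹ * g) = 1 := by
      rw [← orderOf_eq_one_iff]
      exact Nat.eq_one_of_dvd_coprimes hco (orderOf_dvd_of_pow_eq_one h1)
        (orderOf_dvd_of_pow_eq_one (hZ _ hd2))
    rw [eq_inv_of_mul_eq_one_left h2] at *
    group

end Cfsg.Agent.S2567
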