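import Cfsg.Statements.S2574
import Cfsg.Agent.Lib.Known.RegularUnipotent
import Cfsg.Agent.Lib.Classical.Symplectic.Matrix

set_option autoImplicit false
open Cfsg

namespace Cfsg.Agent.S2574

/-- A regular unipotent element of the symplectic group has totally isotropic small invariant subspaces: over a finite field, if u ∈ Sp_2m(F) satisfies (u − 1)^(2m) = 0 and rank(u − 1) = 2m − 1, and W is a u-invariant subspace with 2 dim W ≤ 2m, then the alternating form vanishes identically on W. -/
theorem result {F : Type*} [Field F] [Finite F] {m : ℕ} (u : Matrix.symplecticGroup (Fin m) F) (hnil : ((u : Matrix (Fin m ⊕ Fin m) (Fin m ⊕ Fin m) F) - 1) ^ (2 * m) = 0) (hreg : ((u : Matrix (Fin m ⊕ Fin m) (Fin m ⊕ Fin m) F) - 1).rank = 2 * m - 1) (W : Submodule F (Fin m ⊕ Fin m → F)) (hW : ∀ v ∈ W, (u : Matrix (Fin m ⊕ Fin m) (Fin m ⊕ Fin m) F).mulVec v ∈ W) (hdim : 2 * Module.finrank F W ≤ 2 * m) : ∀ v ∈ W, ∀ w ∈ W, Cfsg.sympForm m F v w = 0 := by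
  intro v hv w hw
  set U := (u : Matrix (Fin m ⊕ Fin m) (Fin m ⊕ Fin m) F) with hU
  set U' := ((u⁻¹ : Matrix.symplecticGroup (Fin m) F) : Matrix (Fin m ⊕ Fin m) (Fin m ⊕ Fin m) F) with hU'
  have hcard : Fintype.card (Fin m ⊕ Fin m) = 2 * m := by rw [Fintype.card_sum, Fintype.card_fin]; omega
  have hUU' : U * U' = 1 := congrArg Subtype.val (mul_inv_cancel u)
  have hU'U : U' * U = 1 := congrArg Subtype.val (inv_mul_cancel u)
  have hW' := CfsgLib.Known.RegularUnipotent.eq_ker_pow U (hcard ▸ hnil) (hcard ▸ hreg) W hW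
  set N := U - 1 with hN
  set T : Module.End F (Fin m ⊕ Fin m → F) := N.mulVecLin with hT
  have hker : Module.finrank F (LinearMap.ker T) ≤ 1 :=
    CfsgLib.Known.RegularUnipotent.finrank_ker_le_one U (hcard ▸ hreg)
  have hmem : ∀ x ∈ W, (T ^ m) x = 0 := fun x hx => by
    rw [hW', LinearMap.mem_ker, ← CfsgLib.Known.RegularUnipotent.mulVecLin_pow] at hx
    obtain ⟨e, he⟩ := Nat.exists_eq_add_of_le (show Module.finrank F W ≤ m by omega)
    rw [show T ^ m = T ^ e * T ^ Module.finrank F W by rw [← pow_add]; congr 1; omega, Module.End.mul_apply]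
    change (T ^ Module.finrank F W) x = 0 at hx
    rw [hx, map_zero]
  have hrange : LinearMap.range (T ^ m) = LinearMap.ker (T ^ m) := by
    refine Submodule.eq_of_le_of_finrank_le ?_ ?_
    · rintro _ ⟨x, rfl⟩
      rw [LinearMap.mem_ker, ← Module.End.mul_apply, ← pow_add, hT, CfsgLib.Known.RegularUnipotent.mulVecLin_pow,
        show m + m = 2 * m by omega, hnil, Matrix.mulVecLin_zero]
      rfl
    · have h1 := CfsgLib.Known.RegularUnipotent.finrank_ker_pow_le T hker m
      have h2 := CfsgLib.Known.UnipotentCentralizer.finrank_range_pow_ge T hker m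
      rw [Module.finrank_pi, hcard] at h2
      omega
  obtain ⟨a, ha⟩ : v ∈ LinearMap.range (T ^ m) := hrange ▸ LinearMap.mem_ker.2 (hmem v hv)
  have hform := CfsgLib.Classical.Symp.mem_symplecticGroup_iff_form.1 u.2
  have step : ∀ (k : ℕ) (x y : Fin m ⊕ Fin m → F),
      Cfsg.sympForm m F ((T ^ k) x) y = Cfsg.sympForm m F x (((U' - 1) ^ k).mulVec y) := by
    intro k
    induction k with
    | zero => intro x y; rw [pow_zero, pow_zero, Matrix.one_mulVec]; rfl
    | succ k ih =>
      intro x y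
      rw [pow_succ, Module.End.mul_apply, ih, pow_succ', ← Matrix.mulVec_mulVec]
      generalize ((U' - 1) ^ k).mulVec y = z
      show Cfsg.sympForm m F (N.mulVec x) z = Cfsg.sympForm m F x ((U' - 1).mulVec z)
      have h1 := hform x (U'.mulVec z)
      rw [Matrix.mulVec_mulVec, hUU', Matrix.one_mulVec] at h1
      simp only [hN, Cfsg.sympForm, Matrix.sub_mulVec, Matrix.one_mulVec, sub_dotProduct, Matrix.mulVec_sub,
        dotProduct_sub] at h1 ⊢
      rw [← h1]
  have hcomm : U' - 1 = (-U') * N := by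
    rw [hN, neg_mul, mul_sub, hU'U, mul_one, neg_sub]
  have hc : Commute (-U') N := by
    show -U' * N = N * -U'
    rw [hN, mul_sub, sub_mul, neg_mul, mul_neg, hU'U, hUU', mul_one, one_mul]
  rw [← ha, step, hcomm, hc.mul_pow, ← Matrix.mulVec_mulVec]
  have h3 : (N ^ m).mulVec w = 0 := by
    have := hmem w hw
    rwa [hT, CfsgLib.Known.RegularUnipotent.mulVecLin_pow] at this
  rw [h3, Matrix.mulVec_zero]
  simp [Cfsg.sympForm]

end Cfsg.Agent.S2574
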