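import Cfsg.Statements.S2575

set_option autoImplicit false
open Cfsg

namespace Cfsg.Agent.S2575

theorem neg_one_ne_one' {F : Type*} [Field F] [Fintype F] {q : ℕ} (hF : Fintype.card F = q) (hq : Odd q) :
    (-1 : F) ≠ 1 :=
  Ring.neg_one_ne_one_of_char_ne_two fun h2 => by
    have := FiniteField.even_card_iff_char_two.1 h2
    rw [hF] at this
    have := hq.not_two_dvd_nat
    omega

theorem odd_part {n : ℕ} (hn : n ≠ 0) : ∃ o, Odd o ∧ n = 2 ^ padicValNat 2 n * o := by
  obtain ⟨o, ho⟩ := pow_padicValNat_dvd (p := 2) (n := n)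
  refine ⟨o, ?_, ho⟩
  rw [← Nat.not_even_iff_odd]
  rintro ⟨r, rfl⟩
  refine pow_succ_padicValNat_not_dvd (p := 2) hn ⟨r, ?_⟩
  conv_lhs => rw [ho]
  ring

/-- `-1` is a `2 ^ a * odd` power iff `a` is smaller than the 2-part exponent of `q - 1`. -/
theorem neg_one_pow_iff {F : Type*} [Field F] [Fintype F] {q : ℕ} (hF : Fintype.card F = q) (hq : Odd q)
    {n : ℕ} (hn : n ≠ 0) :
    (∃ c : F, c ^ n = -1) ↔ padicValNat 2 n < padicValNat 2 (q - 1) := by
  classical
  have hne := neg_one_ne_one' hF hq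
  have hq1 : q - 1 ≠ 0 := by
    have := hF ▸ Fintype.one_lt_card (α := F)
    omega
  obtain ⟨o, ho, hno⟩ := odd_part hn
  obtain ⟨m, hm, hqm⟩ := odd_part hq1
  generalize padicValNat 2 n = a at hno ⊢
  generalize padicValNat 2 (q - 1) = b at hqm ⊢
  constructor
  · rintro ⟨c, hc⟩
    by_contra hcon
    push Not at hcon
    obtain ⟨d, rfl⟩ := Nat.exists_eq_add_of_le hcon
    have hc0 : c ≠ 0 := fun h => by simp [h, hn] at hc
    have h1 := FiniteField.pow_card_sub_one_eq_one c hc0
    rw [hF, hqm] at h1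
    apply hne
    calc (-1 : F) = (-1) ^ m := hm.neg_one_pow.symm
      _ = (c ^ n) ^ m := by rw [hc]
      _ = (c ^ (2 ^ b * m)) ^ (2 ^ d * o) := by rw [← pow_mul, ← pow_mul, hno]; congr 1; ring
      _ = 1 := by rw [h1, one_pow]
  · intro hab
    obtain ⟨z, hz⟩ := IsCyclic.exists_ofOrder_eq_natCard (α := Fˣ)
    rw [Nat.card_eq_fintype_card, Fintype.card_units, hF] at hz
    have hdvd : 2 ^ (a + 1) ∣ q - 1 := hqm ▸ (pow_dvd_pow 2 hab).mul_right m
    set y := z ^ ((q - 1) / 2 ^ (a + 1))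
    have hy : orderOf y = 2 ^ (a + 1) := by
      simp only [y, ← hz] at hdvd hq1 ⊢
      exact orderOf_pow_orderOf_div hq1 hdvd
    refine ⟨(y : F), ?_⟩
    have h2 : ((y : F) ^ 2 ^ a) ^ 2 = 1 := by
      rw [← pow_mul, ← pow_succ, ← hy, ← Units.val_pow_eq_pow_val, pow_orderOf_eq_one, Units.val_one]
    rcases sq_eq_one_iff.1 h2 with h | h
    · exfalso
      have h3 : orderOf y ∣ 2 ^ a := orderOf_dvd_of_pow_eq_one (Units.ext (by simpa using h))
      rw [hy, Nat.pow_dvd_pow_iff_le_right (by norm_num)] at h3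
      omega
    · rw [hno, pow_mul, h, ho.neg_one_pow]


/-- Which diagonal involutions of PGL_n(q) lie in PSL_n(q), q odd: for the diagonal matrix t with i entries −1 and n − i entries 1, some non-zero scalar multiple of t has determinant one if and only if i is even or the 2-part of q − 1 exceeds the 2-part of n (that is, −1 is an n-th power in the field exactly in the latter case). -/
theorem result {F : Type*} [Field F] [Fintype F] {q : ℕ} (hF : Fintype.card F = q) (hq : Odd q) {n : ℕ} (hn : 1 ≤ n) (i : ℕ) (hi : i ≤ n) : (∃ c : F, c ≠ 0 ∧ (c • Matrix.diagonal (fun j : Fin n => if (j : ℕ) < i then (-1 : F) else 1)).det = 1) ↔ (Even i ∨ padicValNat 2 n < padicValNat 2 (q - 1)) := by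
  have hn0 : n ≠ 0 := by omega
  have hdet : ∀ c : F, (c • Matrix.diagonal (fun j : Fin n => if (j : ℕ) < i then (-1 : F) else 1)).det
      = c ^ n * (-1) ^ i := by
    intro c
    rw [Matrix.det_smul, Fintype.card_fin, Matrix.det_diagonal, Finset.prod_ite, Finset.prod_const,
      Finset.prod_const_one, mul_one, Fin.card_filter_val_lt, min_eq_right hi]
  simp only [hdet]
  rcases Nat.even_or_odd i with he | he
  · exact ⟨fun _ => Or.inl he, fun _ => ⟨1, one_ne_zero, by simp [he.neg_one_pow]⟩⟩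
  · rw [← neg_one_pow_iff hF hq hn0, he.neg_one_pow]
    simp only [Nat.not_even_iff_odd.2 he, false_or]
    constructor
    · rintro ⟨c, -, hc⟩
      exact ⟨c, by rw [mul_neg_one, neg_eq_iff_eq_neg] at hc; exact hc⟩
    · rintro ⟨c, hc⟩
      exact ⟨c, fun h => by simp [h, hn0] at hc, by simp [hc]⟩

end Cfsg.Agent.S2575
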