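import Cfsg.Statements.S2576
import Cfsg.Agent.S2575

set_option autoImplicit false
open Cfsg

namespace Cfsg.Agent.S2576

/-- Which involutions of PGL_2m(q) coming from a scalar of the quadratic extension field lie in PSL_2m(q), q odd: let μ generate the Sylow 2-subgroup of the multiplicative group of the field with q elements (μ has order the 2-part of q − 1) and let t be the block-diagonal matrix with m diagonal blocks [[0, 1], [μ, 0]] (so t² is the scalar μ and t is an involution modulo scalars). Then some non-zero scalar multiple of t has determinant one if and only if q ≡ 3 (mod 4) or the 2-part of q − 1 is less than the 2-part of 2m. -/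
theorem result {F : Type*} [Field F] [Fintype F] {q : ℕ} (hF : Fintype.card F = q) (hq : Odd q) {m : ℕ} (hm : 1 ≤ m) (μ : F) (hμ : orderOf μ = 2 ^ padicValNat 2 (q - 1)) : (∃ c : F, c ≠ 0 ∧ (c • Matrix.blockDiagonal (fun _ : Fin m => !![(0 : F), 1; μ, 0])).det = 1) ↔ (q % 4 = 3 ∨ padicValNat 2 (q - 1) < padicValNat 2 (2 * m)) := by
  classical
  have hne := S2575.neg_one_ne_one' hF hq
  have hq1 : q - 1 ≠ 0 := by
    have := hF ▸ Fintype.one_lt_card (α := F)
    omega
  have hdet : ∀ c : F, (c • Matrix.blockDiagonal (fun _ : Fin m => !![(0 : F), 1; μ, 0])).det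
      = c ^ (2 * m) * (-μ) ^ m := by
    intro c
    rw [Matrix.det_smul, Matrix.det_blockDiagonal, Fintype.card_prod, Fintype.card_fin,
      Fintype.card_fin, Finset.prod_const, Finset.card_univ, Fintype.card_fin, Matrix.det_fin_two_of]
    ring
  simp only [hdet]
  have hv : padicValNat 2 (2 * m) = padicValNat 2 m + 1 := by
    rw [padicValNat.mul (by norm_num) (by omega), padicValNat.self (by norm_num), add_comm]
  obtain ⟨o, ho, hmo⟩ := S2575.odd_part (n := m) (by omega)
  obtain ⟨t, ht, hqt⟩ := S2575.odd_part hq1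
  rw [hv]
  generalize padicValNat 2 m = a at hmo ⊢
  generalize padicValNat 2 (q - 1) = b at hqt hμ ⊢
  have hb1 : 1 ≤ b := by
    by_contra h
    rw [Nat.lt_one_iff.1 (by omega : b < 1), pow_zero, one_mul] at hqt
    obtain ⟨u, hu⟩ := hq
    obtain ⟨v, hv⟩ := ht
    omega
  have hμb : μ ^ 2 ^ (b - 1) = -1 := by
    have h2 : (μ ^ 2 ^ (b - 1)) ^ 2 = 1 := by
      rw [← pow_mul, ← pow_succ, show b - 1 + 1 = b by omega, ← hμ, pow_orderOf_eq_one]
    refine (sq_eq_one_iff.1 h2).resolve_left fun h => ?_
    have := orderOf_dvd_of_pow_eq_one h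
    rw [hμ, Nat.pow_dvd_pow_iff_le_right (by norm_num)] at this
    omega
  have hb2 : q % 4 = 3 ↔ b = 1 := by
    rcases Nat.lt_or_ge b 2 with h | h
    · obtain rfl : b = 1 := by omega
      obtain ⟨v, hv⟩ := ht
      simp only [pow_one] at hqt
      omega
    · obtain ⟨c, rfl⟩ := Nat.exists_eq_add_of_le h
      rw [pow_add] at hqt
      norm_num [mul_assoc] at hqt
      omega
  rw [hb2, Nat.lt_succ_iff]
  constructor
  · rintro ⟨c, hc0, hc⟩
    by_contra hcon
    push Not at hcon
    obtain ⟨hb, hab⟩ := hcon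
    obtain ⟨d, rfl⟩ := Nat.exists_eq_add_of_le (show a + 2 ≤ b + 1 by omega) |>.imp fun d h =>
      (show b = a + 1 + d by omega)
    have h1 := FiniteField.pow_card_sub_one_eq_one c hc0
    rw [hF, hqt] at h1
    -- raise to the power `2 ^ d * t`
    have h3 : (-μ) ^ (m * (2 ^ d * t)) = 1 := by
      have := congrArg (fun x => x ^ (2 ^ d * t)) hc
      simp only [one_pow, mul_pow] at this
      rw [← pow_mul, show 2 * m * (2 ^ d * t) = (2 ^ (a + 1 + d) * t) * o by rw [hmo]; ring,
        pow_mul, h1, one_pow, one_mul, ← pow_mul] at this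
      exact this
    apply hne
    rw [show m * (2 ^ d * t) = 2 ^ (a + d) * (o * t) by rw [hmo]; ring, pow_mul,
      neg_pow, Even.neg_one_pow (Nat.even_pow.2 ⟨even_two, by omega⟩), one_mul,
      show a + d = a + 1 + d - 1 by omega, hμb, (ho.mul ht).neg_one_pow] at h3
    exact h3
  · rintro (rfl | h)
    · refine ⟨1, one_ne_zero, ?_⟩
      simp only [Nat.sub_self, pow_zero, pow_one] at hμb
      simp [hμb]
    · rcases Nat.lt_or_ge b 2 with hb | hb
      · obtain rfl : b = 1 := by omega
        refine ⟨1, one_ne_zero, ?_⟩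
        simp only [Nat.sub_self, pow_zero, pow_one] at hμb
        simp [hμb]
      refine ⟨1, one_ne_zero, ?_⟩
      obtain ⟨d, rfl⟩ := Nat.exists_eq_add_of_le h
      have hev : Even (2 ^ (b + d)) := Nat.even_pow.2 ⟨even_two, by omega⟩
      rw [hmo, pow_mul (-μ), hev.neg_pow, pow_add, pow_mul μ, ← hμ, pow_orderOf_eq_one]
      simp

end Cfsg.Agent.S2576
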