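import Cfsg.Statements.S2585

set_option autoImplicit false
open Cfsg

namespace Cfsg.Agent.S2585

/-- Over a finite field of characteristic two every element of the symplectic group is orthogonal for a suitable quadratic form: for each A in Sp_2m(F) there is a quadratic form Q on F^(2m) whose polar form is the alternating form defining Sp_2m(F) (so Q is non-degenerate) and which A preserves. Equivalently, for m ≥ 1, Sp_2m(F) is the union of the conjugates of its two orthogonal subgroups O⁺_2m(F) and O⁻_2m(F). -/
theorem result {F : Type*} [Field F] [Fintype F] [CharP F 2] {m : ℕ} (A : Matrix.symplecticGroup (Fin m) F) : ∃ Q : QuadraticForm F (Fin m ⊕ Fin m → F), (∀ u v : Fin m ⊕ Fin m → F, QuadraticMap.polar ⇑Q u v = Cfsg.sympForm m F u v) ∧ ∀ v : Fin m ⊕ Fin m → F, Q ((A : Matrix (Fin m ⊕ Fin m) (Fin m ⊕ Fin m) F).mulVec v) = Q v := by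
  classical
  let M0 : Matrix (Fin m ⊕ Fin m) (Fin m ⊕ Fin m) F := Matrix.fromBlocks 0 1 0 0
  set G := (A : Matrix (Fin m ⊕ Fin m) (Fin m ⊕ Fin m) F) with hG
  have hsum : M0 + M0.transpose = Matrix.J (Fin m) F := by
    rw [Matrix.fromBlocks_transpose, Matrix.fromBlocks_add, Matrix.J]
    have hneg : (-1 : Matrix (Fin m) (Fin m) F) = 1 := by ext i j; exact CharTwo.neg_eq _
    simp [hneg]
  have hAJ : G.transpose * Matrix.J (Fin m) F * G = Matrix.J (Fin m) F := by
    have := SymplecticGroup.mem_iff.1 (SymplecticGroup.transpose_mem A.2)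
    rwa [Matrix.transpose_transpose] at this
  set N := G.transpose * M0 * G - M0 with hN
  have hNsymm : N.transpose = N := by
    have h0 : N + N.transpose = 0 := by
      rw [hN, Matrix.transpose_sub, Matrix.transpose_mul, Matrix.transpose_mul, Matrix.transpose_transpose]
      rw [show G.transpose * M0 * G - M0 + (G.transpose * (M0.transpose * G) - M0.transpose) =
        G.transpose * (M0 + M0.transpose) * G - (M0 + M0.transpose) by noncomm_ring, hsum, hAJ, sub_self]
    rw [eq_neg_of_add_eq_zero_right h0]
    ext i j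
    exact CharTwo.neg_eq _
  have hsqrt : ∀ a : F, ∃ b : F, b ^ 2 = a := fun a => by
    obtain ⟨b, hb⟩ := FiniteField.isSquare_of_char_two (ringChar.eq F 2) a
    exact ⟨b, by rw [sq, hb]⟩
  choose rt hrt using hsqrt
  set c0 : Fin m ⊕ Fin m → F := fun i => rt (N i i) with hc0
  have hdiag : ∀ v : Fin m ⊕ Fin m → F, dotProduct v (N.mulVec v) = dotProduct c0 v ^ 2 := by
    intro v
    rw [dotProduct, dotProduct, sum_pow_char 2]
    simp only [Matrix.mulVec, dotProduct, Finset.mul_sum, mul_pow, hc0, hrt]
    rw [← Finset.sum_product']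
    rw [← Finset.sum_filter_add_sum_filter_not (Finset.univ ×ˢ Finset.univ) (fun x => x.1 = x.2)]
    have h2 : ∑ x ∈ (Finset.univ ×ˢ (Finset.univ : Finset (Fin m ⊕ Fin m))).filter (fun x => ¬ x.1 = x.2),
        v x.1 * (N x.1 x.2 * v x.2) = 0 := by
      refine Finset.sum_involution (fun x _ => Prod.swap x) (fun x _ => ?_) (fun x hx _ h => ?_)
        (fun x hx => ?_) (fun x _ => Prod.swap_swap x)
      · show v x.1 * (N x.1 x.2 * v x.2) + v x.2 * (N x.2 x.1 * v x.1) = 0
        rw [show N x.2 x.1 = N x.1 x.2 by conv_lhs => rw [← hNsymm, Matrix.transpose_apply]]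
        rw [show v x.2 * (N x.1 x.2 * v x.1) = v x.1 * (N x.1 x.2 * v x.2) by ring, CharTwo.add_self_eq_zero]
      · exact (Finset.mem_filter.1 hx).2 (congrArg Prod.fst h).symm
      · simp only [Finset.mem_filter, Finset.mem_product, Finset.mem_univ, and_self, true_and] at hx ⊢
        exact fun h => hx h.symm
    rw [h2, add_zero]
    refine Finset.sum_bij (fun x _ => x.1) (fun x _ => Finset.mem_univ _) ?_ ?_ ?_
    · intro x hx y hy h
      simp only [Finset.mem_filter] at hx hy
      exact Prod.ext h (hx.2.symm.trans (h.trans hy.2))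
    · intro i _
      exact ⟨(i, i), by simp, rfl⟩
    · intro x hx
      simp only [Finset.mem_filter] at hx
      rw [← hx.2]
      ring
  obtain ⟨c, hc⟩ : ∃ c, (G.transpose + 1).mulVec c = c0 := by
    by_contra hcon
    have hnot : c0 ∉ LinearMap.range (Matrix.mulVecLin (G.transpose + 1)) := fun ⟨c, hc⟩ => hcon ⟨c, hc⟩
    obtain ⟨φ, hφc, hφ⟩ := Submodule.exists_dual_map_eq_bot_of_notMem hnot inferInstance
    set w := (dotProductEquiv F (Fin m ⊕ Fin m)).symm φ
    have hφw : ∀ u, φ u = dotProduct w u := fun u => by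
      conv_lhs => rw [← (dotProductEquiv F (Fin m ⊕ Fin m)).apply_symm_apply φ]
      rfl
    have hw : (G + 1).mulVec w = 0 := by
      apply dotProduct_eq_zero_iff.1
      intro u
      have h1 : φ ((G.transpose + 1).mulVec u) = 0 := by
        have := Submodule.mem_map_of_mem (f := φ) (show (G.transpose + 1).mulVec u ∈ LinearMap.range
          (Matrix.mulVecLin (G.transpose + 1)) from ⟨u, rfl⟩)
        rw [hφ] at this
        exact this
      rw [hφw, Matrix.dotProduct_mulVec] at h1
      rw [← h1]
      congr 1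
      rw [← Matrix.mulVec_transpose, Matrix.transpose_add, Matrix.transpose_transpose, Matrix.transpose_one]
    rw [Matrix.add_mulVec, Matrix.one_mulVec] at hw
    have hGw : G.mulVec w = w := by
      rw [eq_neg_of_add_eq_zero_left hw]
      funext i
      exact CharTwo.neg_eq _
    have h2 := hdiag w
    rw [hN, Matrix.sub_mulVec, dotProduct_sub, ← Matrix.mulVec_mulVec, ← Matrix.mulVec_mulVec,
      Matrix.dotProduct_mulVec w G.transpose, Matrix.vecMul_transpose, hGw, sub_self] at h2
    refine hφc ?_
    rw [hφw, dotProduct_comm]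
    exact pow_eq_zero_iff two_ne_zero |>.1 h2.symm
  let M := M0 + Matrix.vecMulVec c c
  have hMsum : M + M.transpose = Matrix.J (Fin m) F := by
    rw [Matrix.transpose_add, Matrix.transpose_vecMulVec]
    rw [show M + (M0.transpose + Matrix.vecMulVec c c) = (M0 + M0.transpose) + (Matrix.vecMulVec c c + Matrix.vecMulVec c c) by
      simp only [M]; abel, hsum, show Matrix.vecMulVec c c + Matrix.vecMulVec c c = 0 from Matrix.ext fun i j => CharTwo.add_self_eq_zero _, add_zero]
  have hQ : ∀ v, M.toBilin'.toQuadraticMap v = dotProduct v (M.mulVec v) := fun v => by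
    rw [LinearMap.BilinMap.toQuadraticMap_apply, Matrix.toBilin'_apply']
  refine ⟨M.toBilin'.toQuadraticMap, fun u v => ?_, fun v => ?_⟩
  · rw [LinearMap.BilinMap.polar_toQuadraticMap, Matrix.toBilin'_apply', Matrix.toBilin'_apply', Cfsg.sympForm,
      ← hMsum]
    have e : dotProduct v (M.mulVec u) = dotProduct u (M.transpose.mulVec v) := by
      rw [Matrix.dotProduct_mulVec, ← Matrix.mulVec_transpose, dotProduct_comm]
    rw [e, ← dotProduct_add, ← Matrix.add_mulVec]
  · rw [hQ, hQ]
    have key : ∀ u, dotProduct u (M.mulVec u) = dotProduct u (M0.mulVec u) + dotProduct c u ^ 2 := fun u => by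
      simp only [M, Matrix.add_mulVec, dotProduct_add, Matrix.vecMulVec_mulVec, op_smul_eq_smul,
        dotProduct_smul, smul_eq_mul]
      rw [dotProduct_comm u c, sq]
    rw [key, key]
    have h1 : dotProduct (G.mulVec v) (M0.mulVec (G.mulVec v)) = dotProduct v (M0.mulVec v) + dotProduct c0 v ^ 2 := by
      rw [← hdiag, hN, Matrix.sub_mulVec, dotProduct_sub, ← Matrix.mulVec_mulVec, ← Matrix.mulVec_mulVec,
        Matrix.dotProduct_mulVec v G.transpose, Matrix.vecMul_transpose]
      abel
    have h2 : dotProduct c0 v = dotProduct c (G.mulVec v) + dotProduct c v := by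
      rw [← hc, Matrix.add_mulVec, Matrix.one_mulVec, add_dotProduct, Matrix.mulVec_transpose,
        ← Matrix.dotProduct_mulVec]
    rw [h1, h2, CharTwo.add_sq]
    have h3 := CharTwo.add_self_eq_zero (dotProduct c (G.mulVec v) ^ 2)
    linear_combination h3

end Cfsg.Agent.S2585
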