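import Cfsg.Statements.S2586
import Cfsg.Agent.Lib.Known.TransposeSimilar

set_option autoImplicit false
open Cfsg

namespace Cfsg.Agent.S2586

/-- Over a finite field, every element of the symplectic group Sp_2m(F) is conjugate by an invertible matrix to its inverse. -/
theorem result {F : Type*} [Field F] [Finite F] {m : ℕ} (A : Matrix.symplecticGroup (Fin m) F) : IsConj (A : Matrix (Fin m ⊕ Fin m) (Fin m ⊕ Fin m) F) ((A⁻¹ : Matrix.symplecticGroup (Fin m) F) : Matrix (Fin m ⊕ Fin m) (Fin m ⊕ Fin m) F) := by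
  have hA : (A : Matrix (Fin m ⊕ Fin m) (Fin m ⊕ Fin m) F) * Matrix.J (Fin m) F *
      (A : Matrix (Fin m ⊕ Fin m) (Fin m ⊕ Fin m) F).transpose = Matrix.J (Fin m) F :=
    SymplecticGroup.mem_iff.1 A.2
  set M := (A : Matrix (Fin m ⊕ Fin m) (Fin m ⊕ Fin m) F)
  set M' := ((A⁻¹ : Matrix.symplecticGroup (Fin m) F) : Matrix (Fin m ⊕ Fin m) (Fin m ⊕ Fin m) F)
  have hMM' : M' * M = 1 := by
    have h := congrArg (Subtype.val : Matrix.symplecticGroup (Fin m) F → _) (inv_mul_cancel A)
    exact h
  let e : Fin (m + m) ≃ Fin m ⊕ Fin m := finSumFinEquiv.symm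
  have h1 := CfsgLib.Known.TransposeSimilar.isConj_transpose (Matrix.reindexAlgEquiv F F e.symm M)
  have h2 : IsConj M M.transpose := by
    have h3 := MonoidHom.map_isConj ((Matrix.reindexAlgEquiv F F e).toRingEquiv.toMulEquiv.toMonoidHom) h1
    have e1 : (Matrix.reindexAlgEquiv F F e).toRingEquiv.toMulEquiv.toMonoidHom (Matrix.reindexAlgEquiv F F e.symm M) = M := by
      show Matrix.reindex e e (Matrix.reindex e.symm e.symm M) = M
      ext i j
      simp
    have e2 : (Matrix.reindexAlgEquiv F F e).toRingEquiv.toMulEquiv.toMonoidHom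
        (Matrix.reindexAlgEquiv F F e.symm M).transpose = M.transpose := by
      show Matrix.reindex e e (Matrix.reindex e.symm e.symm M).transpose = M.transpose
      ext i j
      simp
    rwa [e1, e2] at h3
  refine h2.trans ⟨⟨Matrix.J (Fin m) F, -Matrix.J (Fin m) F, by rw [mul_neg, Matrix.J_squared, neg_neg],
    by rw [neg_mul, Matrix.J_squared, neg_neg]⟩, ?_⟩
  show Matrix.J (Fin m) F * M.transpose = M' * Matrix.J (Fin m) F
  calc Matrix.J (Fin m) F * M.transpose = M' * (M * Matrix.J (Fin m) F * M.transpose) := by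
        rw [← mul_assoc, ← mul_assoc, hMM', one_mul]
    _ = _ := by rw [hA]

end Cfsg.Agent.S2586
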