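import Cfsg.Statements.S2599

-- helpers

set_option autoImplicit false
open Cfsg

namespace Cfsg.Agent.S2599

/-- An irreducible invariant subspace of a semisimple isometry is non-degenerate or totally singular: let Q be a quadratic form on F^n (F finite of characteristic p) with non-degenerate polar form f, x an isometry of Q of order prime to p, and U a non-zero x-invariant subspace containing no x-invariant subspace other than 0 and U. Then U meets its f-orthogonal trivially, or Q vanishes on U, or p = 2, U is a line spanned by a non-singular vector and x fixes U pointwise. -/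
theorem result {F : Type*} [Field F] [Fintype F] {p : ℕ} [Fact p.Prime] [CharP F p] {n : ℕ} (Q : QuadraticForm F (Fin n → F)) (hQ : (QuadraticMap.polarBilin Q).Nondegenerate) (x : ↥(Cfsg.isometryGroup F ⇑Q)) (hx : (orderOf x).Coprime p) (U : Submodule F (Fin n → F)) (hU0 : U ≠ ⊥) (hUx : ∀ u ∈ U, ((x : Matrix.GeneralLinearGroup (Fin n) F) : Matrix (Fin n) (Fin n) F).mulVec u ∈ U) (hirr : ∀ W : Submodule F (Fin n → F), W ≤ U → (∀ w ∈ W, ((x : Matrix.GeneralLinearGroup (Fin n) F) : Matrix (Fin n) (Fin n) F).mulVec w ∈ W) → W = ⊥ ∨ W = U) : U ⊓ LinearMap.BilinForm.orthogonal (QuadraticMap.polarBilin Q) U = ⊥ ∨ (∀ u ∈ U, Q u = 0) ∨ (p = 2 ∧ Module.finrank F U = 1 ∧ (∃ u ∈ U, Q u ≠ 0) ∧ ∀ u ∈ U, ((x : Matrix.GeneralLinearGroup (Fin n) F) : Matrix (Fin n) (Fin n) F).mulVec u = u) := by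
  classical
  set M := ((x : Matrix.GeneralLinearGroup (Fin n) F) : Matrix (Fin n) (Fin n) F) with hM
  set B := QuadraticMap.polarBilin Q
  have hQx : ∀ v, Q (M.mulVec v) = Q v := fun v => x.2 v v
  have hBx : ∀ u v, B (M.mulVec u) (M.mulVec v) = B u v := fun u v => by
    simp only [B, QuadraticMap.polarBilin_apply_apply, QuadraticMap.polar, ← Matrix.mulVec_add, hQx]
  -- `M` maps `U` onto itself
  have honto : ∀ u ∈ U, ∃ w ∈ U, M.mulVec w = u := fun u hu => by
    let f : ↥U → ↥U := fun w => ⟨M.mulVec w, hUx w w.2⟩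
    have hf : Function.Injective f := fun v w h =>
      Subtype.ext (Matrix.mulVec_injective_iff_isUnit.2 (x : Matrix.GeneralLinearGroup (Fin n) F).isUnit
        (congrArg Subtype.val h))
    obtain ⟨w, hw⟩ := (Finite.injective_iff_surjective.1 hf) ⟨u, hu⟩
    exact ⟨w, w.2, congrArg Subtype.val hw⟩
  rcases hirr (U ⊓ LinearMap.BilinForm.orthogonal B U) inf_le_left (fun w hw => ⟨hUx w hw.1, fun u hu => by
      obtain ⟨u', hu', rfl⟩ := honto u hu
      show B (M.mulVec u') (M.mulVec w) = 0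
      rw [hBx]
      exact hw.2 u' hu'⟩) with h | h
  · exact Or.inl h
  right
  have hperp : ∀ u ∈ U, ∀ w ∈ U, B u w = 0 := fun u hu w hw => (((inf_eq_left.1 h : U ≤ LinearMap.BilinForm.orthogonal B U)) hw) u hu
  have hadd : ∀ u ∈ U, ∀ w ∈ U, Q (u + w) = Q u + Q w := fun u hu w hw => by
    have h1 := hperp u hu w hw
    rw [QuadraticMap.polarBilin_apply_apply, QuadraticMap.polar] at h1
    linear_combination h1
  by_cases hQ0 : ∀ u ∈ U, Q u = 0
  · exact Or.inl hQ0
  right
  push Not at hQ0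
  obtain ⟨u, hu, hQu⟩ := hQ0
  have hp : p = 2 := by
    by_contra hp
    have h2 : (2 : F) ≠ 0 := by
      intro h0
      have : p ∣ 2 := (CharP.cast_eq_zero_iff F p 2).1 (by exact_mod_cast h0)
      exact hp ((Nat.prime_dvd_prime_iff_eq Fact.out Nat.prime_two).1 this)
    have h1 := hperp u hu u hu
    rw [QuadraticMap.polarBilin_apply_apply, QuadraticMap.polar_self, nsmul_eq_mul] at h1
    exact hQu ((mul_eq_zero.1 h1).resolve_left (by exact_mod_cast h2))
  subst hp
  let W : Submodule F (Fin n → F) :=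
    { carrier := {w | w ∈ U ∧ Q w = 0}
      add_mem' := fun {a b} ha hb => ⟨U.add_mem ha.1 hb.1, by rw [hadd a ha.1 b hb.1, ha.2, hb.2, add_zero]⟩
      zero_mem' := ⟨U.zero_mem, map_zero Q⟩
      smul_mem' := fun c a ha => ⟨U.smul_mem c ha.1, by rw [QuadraticMap.map_smul, ha.2, smul_zero]⟩ }
  rcases hirr W (fun w hw => hw.1) (fun w hw => ⟨hUx w hw.1, (hQx w).trans hw.2⟩) with hW | hW
  swap
  · exact absurd (hW.ge hu).2 hQu
  have huniq : ∀ w ∈ U, ∃ c : F, w = c • u := fun w hw => by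
    obtain ⟨c, hc⟩ := FiniteField.isSquare_of_char_two (ringChar.eq F 2) (Q w / Q u)
    refine ⟨c, ?_⟩
    have h2 : w + c • u ∈ W := ⟨U.add_mem hw (U.smul_mem c hu), by
      rw [hadd w hw _ (U.smul_mem c hu), QuadraticMap.map_smul, ← hc, smul_eq_mul, div_mul_cancel₀ _ hQu,
        CharTwo.add_self_eq_zero]⟩
    rw [hW, Submodule.mem_bot] at h2
    rw [eq_neg_of_add_eq_zero_left h2, ← neg_smul, CharTwo.neg_eq]
  refine ⟨rfl, ?_, ⟨u, hu, hQu⟩, fun w hw => ?_⟩
  · rw [show U = F ∙ u from le_antisymm (fun w hw => by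
      obtain ⟨c, rfl⟩ := huniq w hw
      exact Submodule.smul_mem _ _ (Submodule.mem_span_singleton_self u)) ((Submodule.span_singleton_le_iff_mem _ _).2 hu)]
    exact finrank_span_singleton (fun h0 => hQu (by rw [h0, map_zero]))
  · obtain ⟨c, hc⟩ := huniq _ (hUx w hw)
    obtain ⟨d, rfl⟩ := huniq w hw
    obtain ⟨e, he⟩ := huniq _ (hUx u hu)
    have h1 := hQx u
    rw [he, QuadraticMap.map_smul, smul_eq_mul] at h1
    have h2 : e * e = 1 := mul_right_cancel₀ hQu (by rw [h1, one_mul])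
    have h3 : e = 1 := by
      have h4 : (e - 1) * (e - 1) = 0 := by linear_combination h2 + (1 - e) * (CharTwo.two_eq_zero : (2 : F) = 0)
      exact sub_eq_zero.1 (mul_self_eq_zero.1 h4)
    rw [Matrix.mulVec_smul, he, h3, one_smul]

end Cfsg.Agent.S2599
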