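import Cfsg.Statements.S2601
import Cfsg.Agent.Lib.Known.AutPSL.Structure

set_option autoImplicit false
open Cfsg

namespace Cfsg.Agent.S2601

/-- Structure of the outer automorphism group of PSL_n(q), n ≥ 3, q = p^f: it has a normal cyclic subgroup of order gcd(n, q − 1) (the diagonal automorphisms) whose quotient is the direct product of a cyclic group of order f (field automorphisms) and a group of order 2 (the inverse-transpose graph automorphism). -/
theorem result {F : Type*} [Field F] [Fintype F] {p f n : ℕ} [Fact p.Prime] (hf : 1 ≤ f) (hF : Fintype.card F = p ^ f) (hn : 3 ≤ n) : ∃ φ : Cfsg.Out (Matrix.ProjectiveSpecialLinearGroup (Fin n) F) →* Multiplicative (ZMod f × ZMod 2), Function.Surjective φ ∧ IsCyclic φ.ker ∧ Nat.card φ.ker = Nat.gcd n (p ^ f - 1) := by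
  obtain ⟨φ, h1, -, h3, h4⟩ := CfsgLib.Known.AutPSL.exists_out_hom (n := n) (F := F) (by omega) hF hf
  let ω : Multiplicative (ZMod f) × Multiplicative (ZMod 2) ≃* Multiplicative (ZMod f × ZMod 2) :=
    MulEquiv.prodMultiplicative (ZMod f) (ZMod 2) |>.symm
  have hker : (ω.toMonoidHom.comp φ).ker = φ.ker := by
    ext x; simp [MonoidHom.mem_ker]
  refine ⟨ω.toMonoidHom.comp φ, fun y => ?_, hker ▸ h3, hker ▸ h4⟩
  obtain ⟨x, hx⟩ := h1 (ω.symm y).1 (ω.symm y).2 (fun h => by omega)
  refine ⟨x, ?_⟩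
  show ω (φ x) = y
  rw [hx]
  exact ω.apply_symm_apply y

end Cfsg.Agent.S2601
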