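import Cfsg.Statements.S2606
import Cfsg.Agent.Lib.Known.AutPOmega.OutMinus
import Cfsg.Agent.Lib.Known.AutPOmega.Transport

set_option autoImplicit false
open Cfsg

namespace Cfsg.Agent.S2606

/-- Outer automorphism group of PΩ⁻_2m(q), m ≥ 4, q = p^f odd: it is dihedral of order 8 times cyclic of order f when q ≡ 3 (mod 4) and m is odd, and otherwise the direct product of a group of order 2 with a cyclic group of order 2f. -/
theorem result {F : Type*} [Field F] [Fintype F] {p f m : ℕ} [Fact p.Prime] (hf : 1 ≤ f) (hF : Fintype.card F = p ^ f) (hp : p ≠ 2) (hm : 4 ≤ m) (a b : F) (hab : ∀ z₁ z₂ : F, z₁ ^ 2 + a * z₁ * z₂ + b * z₂ ^ 2 = 0 → z₁ = 0 ∧ z₂ = 0) : if p ^ f % 4 = 3 ∧ Odd m then Nonempty (Cfsg.Out (Cfsg.POmega F (Cfsg.quadFormMinus (m - 1) F a b)) ≃* DihedralGroup 4 × Multiplicative (ZMod f)) else Nonempty (Cfsg.Out (Cfsg.POmega F (Cfsg.quadFormMinus (m - 1) F a b)) ≃* Multiplicative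 (ZMod 2 × ZMod (2 * f))) := by
  classical
  have hpo : Odd p := (Fact.out : p.Prime).odd_of_ne_two hp
  obtain ⟨a', b', hab', h1, h2⟩ :=
    CfsgLib.Known.AutPOmega.out_minus_odd_std (F := F) hf hF hpo (m := m - 1) (by omega)
  obtain ⟨e⟩ := CfsgLib.Known.AutPOmega.pOmega_minus_congr (m - 1) a b a' b' hab hab'
  obtain ⟨ψ⟩ := CfsgLib.Known.AutPOmega.out_congr e
  rw [← CfsgLib.Classical.Quad.coe_qMinus]
  have hpar : Even (m - 1) ↔ Odd m := by rw [Nat.even_iff, Nat.odd_iff]; omega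
  split_ifs with h
  · obtain ⟨φ⟩ := (h1 ⟨hpar.2 h.2, h.1⟩).1
    exact ⟨ψ.trans φ⟩
  · obtain ⟨φ⟩ := (h2 fun h' => h ⟨h'.2, hpar.1 h'.1⟩).1
    exact ⟨ψ.trans φ⟩

end Cfsg.Agent.S2606
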