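import Cfsg.Statements.S2611
import Cfsg.Agent.Lib.Known.HyperbolicClasses
import Cfsg.Agent.Lib.Classical.Quad.NegOne

set_option autoImplicit false
open Cfsg

namespace Cfsg.Agent.S2611

open QuadraticMap (polar polarBilin)
open CfsgLib.Known.HyperbolicClasses
open scoped Matrix
open CfsgLib.Classical.Quad CfsgLib.Known.OmegaCriterion

/-- For the hyperbolic quadratic form Σ x_i y_i on F^(2m) (F finite, m ≥ 1, excluding m = 2 over the field of two elements) and an invertible m × m matrix A, the block-diagonal isometry diag(A, (A⁻¹)ᵀ), which stabilises the two maximal totally singular subspaces x = 0 and y = 0, lies in Ω⁺_2m(F) (the commutator subgroup of the orthogonal group) if and only if det A is a square in F. -/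
theorem result {F : Type*} [Field F] [Fintype F] {m : ℕ} (hm : 1 ≤ m) (h : Fintype.card F ≠ 2 ∨ m ≠ 2) (A : GL (Fin m) F) : (∃ g : ↥(Cfsg.isometryGroup F (Cfsg.quadFormPlus m F)), g ∈ Cfsg.Omega F (Cfsg.quadFormPlus m F) ∧ ((g : Matrix.GeneralLinearGroup (Fin m ⊕ Fin m) F) : Matrix (Fin m ⊕ Fin m) (Fin m ⊕ Fin m) F) = Matrix.fromBlocks (A : Matrix (Fin m) (Fin m) F) 0 0 ((A : Matrix (Fin m) (Fin m) F)⁻¹).transpose) ↔ IsSquare (A : Matrix (Fin m) (Fin m) F).det := by
  have hm2 : m = 2 → ∃ a : F, a ≠ 0 ∧ a ≠ 1 := fun e =>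
    (hex_of_card (n := 4) (h.imp_right fun h' => absurd e h')).resolve_right fun h' => h' rfl
  have hex : (∃ c : F, c ≠ 0 ∧ c ≠ 1) ∨ Fintype.card (Fin m ⊕ Fin m) ≠ 4 :=
    hex_of_card (h.imp_right fun h' => by simp; omega)
  have hR := reflGroup_pi_eq_top (qPlus_nondeg (F := F) m) hex
  rw [← coe_qPlus m F]
  refine (exists_mem_Omega_iff (qPlus_nondeg m) hex _ (levi A) fun z => ?_).trans ?_
  · rw [levi_apply, Matrix.fromBlocks_mulVec, Matrix.coe_units_inv]
    simp
  · obtain ⟨e1, e2⟩ := invariants_levi hR hm2 ⟨0, hm⟩ A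
    rw [e1, e2, sqc_eq_one_iff (Matrix.isUnits_det_units A).ne_zero]
    simp

end Cfsg.Agent.S2611
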