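import Cfsg.Statements.S2612
import Cfsg.Agent.Lib.Known.HyperbolicClasses
import Cfsg.Agent.Lib.Classical.Quad.NegOne

set_option autoImplicit false
open Cfsg

namespace Cfsg.Agent.S2612

open QuadraticMap (polar polarBilin)
open CfsgLib.Known.HyperbolicClasses
open scoped Matrix
open CfsgLib.Classical.Quad CfsgLib.Known.OmegaCriterion

/-- For the hyperbolic quadratic form Σ x_i y_i on F^(2m) (F finite, m ≥ 1, excluding m = 2 over the field of two elements), Ω⁺_2m(F) (the commutator subgroup of the orthogonal group) contains an element interchanging the two complementary maximal totally singular subspaces {y = 0} and {x = 0} if and only if m is even (dimension divisible by 4). -/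
theorem result {F : Type*} [Field F] [Fintype F] {m : ℕ} (hm : 1 ≤ m) (h : Fintype.card F ≠ 2 ∨ m ≠ 2) : (∃ g : ↥(Cfsg.isometryGroup F (Cfsg.quadFormPlus m F)), g ∈ Cfsg.Omega F (Cfsg.quadFormPlus m F) ∧ (∀ v : Fin m ⊕ Fin m → F, (∀ i, v (Sum.inr i) = 0) → ∀ i, (((g : Matrix.GeneralLinearGroup (Fin m ⊕ Fin m) F) : Matrix (Fin m ⊕ Fin m) (Fin m ⊕ Fin m) F).mulVec v) (Sum.inl i) = 0) ∧ (∀ v : Fin m ⊕ Fin m → F, (∀ i, v (Sum.inl i) = 0) → ∀ i, (((g : Matrix.GeneralLinearGroup (Fin m ⊕ Fin m) F) : Matrix (Fin m ⊕ Fin m) (Fin m ⊕ Fin m) F).mulVec v) (Sum.inr i) = 0)) ↔ Even m := by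
  have hm2 : m = 2 → ∃ a : F, a ≠ 0 ∧ a ≠ 1 := fun e =>
    (hex_of_card (n := 4) (h.imp_right fun h' => absurd e h')).resolve_right fun h' => h' rfl
  have hex : (∃ c : F, c ≠ 0 ∧ c ≠ 1) ∨ Fintype.card (Fin m ⊕ Fin m) ≠ 4 :=
    hex_of_card (h.imp_right fun h' => by simp; omega)
  have hR := reflGroup_pi_eq_top (qPlus_nondeg (F := F) m) hex
  rw [← coe_qPlus m F]
  have key : ∀ g : OQ (qPlus m F), (∀ v : Fin m ⊕ Fin m → F, (∀ i, v (Sum.inr i) = 0) →
      ∀ i, (g : (Fin m ⊕ Fin m → F) ≃ₗ[F] (Fin m ⊕ Fin m → F)) v (Sum.inl i) = 0) →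
      par g = (m : ZMod 2) := by
    intro g hg
    rw [par_eq hR hm2]
    have hbot : U0 m F ⊓ (U0 m F).map
        ((g : (Fin m ⊕ Fin m → F) ≃ₗ[F] (Fin m ⊕ Fin m → F)) : (Fin m ⊕ Fin m → F) →ₗ[F] (Fin m ⊕ Fin m → F)) = ⊥ := by
      refine eq_bot_iff.2 ?_
      rintro z ⟨hz, y, hy, rfl⟩
      rw [Submodule.mem_bot]
      funext l
      rcases l with l | l
      · exact hg y (mem_U0.1 hy) l
      · exact mem_U0.1 hz l
    rw [hbot, finrank_bot, Nat.sub_zero]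
  constructor
  · rintro ⟨g, hg, h1, -⟩
    rw [← ZMod.natCast_eq_zero_iff_even, ← key (oEquiv _ g) h1]
    exact ((mem_Omega_iff (qPlus_nondeg m) hex g).1 hg).1
  · intro he
    let s : OQ (qPlus m F) := ofPreserves (qPlus_nondeg m) (LinearMap.funLeft F F Sum.swap) fun z => by
      rw [qPlus_apply, qPlus_apply, dotProduct_comm]
      rfl
    have hs : ∀ z, (s : (Fin m ⊕ Fin m → F) ≃ₗ[F] (Fin m ⊕ Fin m → F)) z = z ∘ Sum.swap := fun z => rfl
    obtain ⟨A, hA0, hA⟩ := exists_levi_spinor (F := F) ⟨0, hm⟩ (spinor s)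
    have hp : par s = 0 := by
      rw [key s fun v hv i => by rw [hs]; exact hv i, ZMod.natCast_eq_zero_iff_even]
      exact he
    refine ⟨(oEquiv _).symm (levi A * s), (mem_Omega_iff (qPlus_nondeg m) hex _).2 ?_, ?_, ?_⟩
    · rw [MulEquiv.apply_symm_apply, par_mul (qPlus_nondeg m) hR, spinor_mul (qPlus_nondeg m) hR, hA0, hA, hp,
        sqClass_mul_self]
      exact ⟨add_zero _, rfl⟩
    all_goals
      intro v hv i
      rw [← oEquiv_apply, MulEquiv.apply_symm_apply]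
      show (levi A : (Fin m ⊕ Fin m → F) ≃ₗ[F] (Fin m ⊕ Fin m → F))
        ((s : (Fin m ⊕ Fin m → F) ≃ₗ[F] (Fin m ⊕ Fin m → F)) v) _ = 0
      rw [levi_apply, hs]
    · rw [Sum.elim_inl, show (v ∘ Sum.swap) ∘ Sum.inl = 0 from funext hv, Matrix.mulVec_zero, Pi.zero_apply]
    · rw [Sum.elim_inr, show (v ∘ Sum.swap) ∘ Sum.inr = 0 from funext hv, Matrix.mulVec_zero, Pi.zero_apply]

end Cfsg.Agent.S2612
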