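import Cfsg.Statements.S2613
import Cfsg.Agent.Lib.Known.HyperbolicClasses
import Cfsg.Agent.Lib.Classical.Quad.NegOne

set_option autoImplicit false
open Cfsg

namespace Cfsg.Agent.S2613

open QuadraticMap (polar polarBilin)
open CfsgLib.Known.HyperbolicClasses
open scoped Matrix
open CfsgLib.Classical.Quad CfsgLib.Known.OmegaCriterion

/-- For the hyperbolic form Σ x_j y_j on F^(2m), F finite with q elements, q odd, and 1 ≤ i ≤ m: the involution negating the first i hyperbolic pairs (x_j, y_j ↦ −x_j, −y_j for j < i) and fixing the rest lies in Ω⁺_2m(q) (commutator subgroup of the orthogonal group) if and only if q^i ≡ 1 (mod 4); its (−1)-eigenspace is a hyperbolic 2i-space. -/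
theorem result {F : Type*} [Field F] [Fintype F] {q : ℕ} (hF : Fintype.card F = q) (hq : Odd q) {m : ℕ} (i : ℕ) (hi : 1 ≤ i) (him : i ≤ m) : (∃ g : ↥(Cfsg.isometryGroup F (Cfsg.quadFormPlus m F)), g ∈ Cfsg.Omega F (Cfsg.quadFormPlus m F) ∧ ((g : Matrix.GeneralLinearGroup (Fin m ⊕ Fin m) F) : Matrix (Fin m ⊕ Fin m) (Fin m ⊕ Fin m) F) = Matrix.diagonal (fun k : Fin m ⊕ Fin m => if (Sum.elim (fun j : Fin m => (j : ℕ)) (fun j : Fin m => (j : ℕ)) k) < i then (-1 : F) else 1)) ↔ q ^ i % 4 = 1 := by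
  have h2 := two_ne_zero_of_odd hF hq
  rw [← coe_qPlus m F]
  obtain ⟨g, hg, hp, hs⟩ := exists_negPairs (qPlus_nondeg m) i (fun j => Sum.inl (Fin.castLE him j)) (fun j => Sum.inr (Fin.castLE him j))
    (by rintro (x | x) (y | y) hxy <;> simp_all [Fin.ext_iff]) (fun j => single_facts (F := F) _)
  refine (exists_mem_Omega_iff (qPlus_nondeg m) (hex_of_two_ne_zero h2) _ g fun z => ?_).trans ?_
  · funext l
    rw [Matrix.mulVec_diagonal]
    rcases l with l | l
    · by_cases hl : (l : ℕ) < i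
      · rw [(hg z _).1 ⟨⟨l, hl⟩, Or.inl (by simp [Fin.ext_iff])⟩]
        simp [hl]
      · rw [(hg z _).2 fun ⟨j, hj⟩ => by
          rcases hj with hj | hj <;> simp at hj
          exact hl (hj ▸ j.isLt)]
        simp [hl]
    · by_cases hl : (l : ℕ) < i
      · rw [(hg z _).1 ⟨⟨l, hl⟩, Or.inr (by simp [Fin.ext_iff])⟩]
        simp [hl]
      · rw [(hg z _).2 fun ⟨j, hj⟩ => by
          rcases hj with hj | hj <;> simp at hj
          exact hl (hj ▸ j.isLt)]
        simp [hl]
  · rw [hp, hs, sqc_eq_one_iff (pow_ne_zero _ (neg_ne_zero.2 one_ne_zero)), isSquare_neg_one_pow hF hq]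
    simp

end Cfsg.Agent.S2613
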