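import Cfsg.Statements.S2614
import Cfsg.Agent.Lib.Known.HyperbolicClasses
import Cfsg.Agent.Lib.Classical.Quad.NegOne

set_option autoImplicit false
open Cfsg

namespace Cfsg.Agent.S2614

open QuadraticMap (polar polarBilin)
open CfsgLib.Known.HyperbolicClasses
open scoped Matrix
open CfsgLib.Classical.Quad CfsgLib.Known.OmegaCriterion

theorem comp_single {κ μ F : Type*} [Zero F] [DecidableEq κ] [DecidableEq μ] (φ : κ → μ)
    (hφ : Function.Injective φ) (a : κ) (c : F) : (Pi.single (φ a) c : μ → F) ∘ φ = Pi.single a c := by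
  funext x
  by_cases hx : x = a
  · subst hx; simp
  · simp [hx, hφ.ne hx]

theorem facts {F : Type*} [Field F] {m : ℕ} (a : Fin m ⊕ Fin m) :
    qOdd m F (Pi.single (Sum.inr a) 1) = qPlus m F (Pi.single a 1) ∧
      ∀ z, polar (qOdd m F) z (Pi.single (Sum.inr a) 1) = polar (qPlus m F) (z ∘ Sum.inr) (Pi.single a 1) := by
  refine ⟨?_, fun z => ?_⟩
  · rw [qOdd, QuadraticMap.add_apply, QuadraticMap.comp_apply]
    show _ + qPlus m F ((Pi.single (Sum.inr a) 1 : Unit ⊕ (Fin m ⊕ Fin m) → F) ∘ Sum.inr) = _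
    rw [comp_single _ Sum.inr_injective]
    simp
  · rw [polar_qOdd, comp_single _ Sum.inr_injective]
    simp

/-- For the form x_0² + Σ x_j y_j on F^(2m+1), F finite with q elements, q odd, and 1 ≤ i ≤ m: the involution of determinant one negating the first i hyperbolic pairs (and fixing x_0 and the other pairs) lies in Ω_(2m+1)(q) (commutator subgroup of the orthogonal group) if and only if q^i ≡ 1 (mod 4); its (−1)-eigenspace is a hyperbolic 2i-space. -/
theorem result {F : Type*} [Field F] [Fintype F] {q : ℕ} (hF : Fintype.card F = q) (hq : Odd q) {m : ℕ} (i : ℕ) (hi : 1 ≤ i) (him : i ≤ m) : (∃ g : ↥(Cfsg.isometryGroup F (Cfsg.quadFormOdd m F)), g ∈ Cfsg.Omega F (Cfsg.quadFormOdd m F) ∧ ((g : Matrix.GeneralLinearGroup (Unit ⊕ (Fin m ⊕ Fin m)) F) : Matrix (Unit ⊕ (Fin m ⊕ Fin m)) (Unit ⊕ (Fin m ⊕ Fin m)) F) = Matrix.diagonal (fun k : Unit ⊕ (Fin m ⊕ Fin m) => if (Sum.elim (fun _ : Unit => i) (Sum.elim (fun j : Fin m => (j : ℕ)) (fun j : Fin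 m => (j : ℕ))) k) < i then (-1 : F) else 1)) ↔ q ^ i % 4 = 1 := by
  have h2 := two_ne_zero_of_odd hF hq
  rw [← coe_qOdd m F]
  obtain ⟨g, hg, hp, hs⟩ := exists_negPairs (qOdd_nondeg h2 m) i (fun j => Sum.inr (Sum.inl (Fin.castLE him j))) (fun j => Sum.inr (Sum.inr (Fin.castLE him j)))
    (by rintro (x | x) (y | y) hxy <;> simp_all [Fin.ext_iff]) (fun j => by
      obtain ⟨a1, a2, a3, a4⟩ := single_facts (F := F) (Fin.castLE him j)
      obtain ⟨p1, p3⟩ := facts (F := F) (Sum.inl (Fin.castLE him j))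
      obtain ⟨p2, p4⟩ := facts (F := F) (Sum.inr (Fin.castLE him j))
      exact ⟨p1.trans a1, p2.trans a2, fun z => (p3 z).trans (a3 _), fun z => (p4 z).trans (a4 _)⟩)
  refine (exists_mem_Omega_iff (qOdd_nondeg h2 m) (hex_of_two_ne_zero h2) _ g fun z => ?_).trans ?_
  · funext l
    rw [Matrix.mulVec_diagonal]
    rcases l with u | l | l
    · rw [(hg z _).2 fun ⟨j, hj⟩ => by rcases hj with hj | hj <;> simp at hj]
      simp
    · by_cases hl : (l : ℕ) < i
      · rw [(hg z _).1 ⟨⟨l, hl⟩, Or.inl (by simp [Fin.ext_iff])⟩]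
        simp [hl]
      · rw [(hg z _).2 fun ⟨j, hj⟩ => by
          rcases hj with hj | hj <;> simp at hj
          exact hl (hj ▸ j.isLt)]
        simp [hl]
    · by_cases hl : (l : ℕ) < i
      · rw [(hg z _).1 ⟨⟨l, hl⟩, Or.inr (by simp [Fin.ext_iff])⟩]
        simp [hl]
      · rw [(hg z _).2 fun ⟨j, hj⟩ => by
          rcases hj with hj | hj <;> simp at hj
          exact hl (hj ▸ j.isLt)]
        simp [hl]
  · rw [hp, hs, sqc_eq_one_iff (pow_ne_zero _ (neg_ne_zero.2 one_ne_zero)), isSquare_neg_one_pow hF hq]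
    simp

end Cfsg.Agent.S2614
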