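import Cfsg.Statements.S2615
import Cfsg.Agent.Lib.Known.HyperbolicClasses
import Cfsg.Agent.Lib.Classical.Quad.NegOne

set_option autoImplicit false
open Cfsg

namespace Cfsg.Agent.S2615

open QuadraticMap (polar polarBilin)
open CfsgLib.Known.HyperbolicClasses
open scoped Matrix
open CfsgLib.Classical.Quad CfsgLib.Known.OmegaCriterion

theorem comp_single {κ μ F : Type*} [Zero F] [DecidableEq κ] [DecidableEq μ] (φ : κ → μ)
    (hφ : Function.Injective φ) (a : κ) (c : F) : (Pi.single (φ a) c : μ → F) ∘ φ = Pi.single a c := by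
  funext x
  by_cases hx : x = a
  · subst hx; simp
  · simp [hx, hφ.ne hx]

theorem facts {F : Type*} [Field F] {m : ℕ} (a b : F) (x : Fin m ⊕ Fin m) :
    qMinus m F a b (Pi.single (Sum.inl x) 1) = qPlus m F (Pi.single x 1) ∧
      ∀ z, polar (qMinus m F a b) z (Pi.single (Sum.inl x) 1) =
        polar (qPlus m F) (z ∘ Sum.inl) (Pi.single x 1) := by
  have e : (Pi.single (Sum.inl x) 1 : (Fin m ⊕ Fin m) ⊕ Fin 2 → F) ∘ Sum.inr = 0 := by
    funext t; simp
  refine ⟨?_, fun z => ?_⟩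
  · rw [qMinus, QuadraticMap.add_apply, QuadraticMap.comp_apply, QuadraticMap.comp_apply]
    show qPlus m F ((Pi.single (Sum.inl x) 1 : (Fin m ⊕ Fin m) ⊕ Fin 2 → F) ∘ Sum.inl) +
      qBin a b ((Pi.single (Sum.inl x) 1 : (Fin m ⊕ Fin m) ⊕ Fin 2 → F) ∘ Sum.inr) = _
    rw [comp_single _ Sum.inl_injective, e, QuadraticMap.map_zero, add_zero]
  · rw [polar_qMinus, comp_single _ Sum.inl_injective, e, QuadraticMap.polar_zero_right, add_zero]

/-- For an elliptic form Σ_(j<m−1) x_j y_j + (z₁² + a z₁z₂ + b z₂²) (anisotropic binary part) on F^(2m), F finite with q elements, q odd, and 1 ≤ i ≤ m − 1: the involution negating the first i hyperbolic pairs and fixing the rest lies in Ω⁻_2m(q) (commutator subgroup of the orthogonal group) if and only if q^i ≡ 1 (mod 4). -/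
theorem result {F : Type*} [Field F] [Fintype F] {q : ℕ} (hF : Fintype.card F = q) (hq : Odd q) {m : ℕ} (a b : F) (hab : ∀ z₁ z₂ : F, z₁ ^ 2 + a * z₁ * z₂ + b * z₂ ^ 2 = 0 → z₁ = 0 ∧ z₂ = 0) (i : ℕ) (hi : 1 ≤ i) (him : i + 1 ≤ m) : (∃ g : ↥(Cfsg.isometryGroup F (Cfsg.quadFormMinus (m - 1) F a b)), g ∈ Cfsg.Omega F (Cfsg.quadFormMinus (m - 1) F a b) ∧ ((g : Matrix.GeneralLinearGroup ((Fin (m - 1) ⊕ Fin (m - 1)) ⊕ Fin 2) F) : Matrix ((Fin (m - 1) ⊕ Fin (m - 1)) ⊕ Fin 2) ((Fin (m - 1) ⊕ Fin (m - 1)) ⊕ Fin 2) F) = Matrix.diagonal (fun k : (Fin (m - 1) ⊕ Fin (m - 1)) ⊕ Fin 2 => if (Sum.elim (Sum.elim (fun j : Fin (m - 1) => (j : ℕ)) (fun j : Fin (m - 1) => (j : ℕ))) (fun _ : Fin 2 => i) k) < i then (-1 : F) else 1)) ↔ q ^ i % 4 = 1 := by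
  have h2 := two_ne_zero_of_odd hF hq
  rw [← coe_qMinus (m - 1) F a b]
  obtain ⟨g, hg, hp, hs⟩ := exists_negPairs (qMinus_nondeg hab (m - 1)) i (fun j => Sum.inl (Sum.inl (Fin.castLE (show i ≤ m - 1 by omega) j))) (fun j => Sum.inl (Sum.inr (Fin.castLE (show i ≤ m - 1 by omega) j)))
    (by rintro (x | x) (y | y) hxy <;> simp_all [Fin.ext_iff]) (fun j => by
      set x := Fin.castLE (show i ≤ m - 1 by omega) j
      obtain ⟨a1, a2, a3, a4⟩ := single_facts (F := F) x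
      obtain ⟨p1, p3⟩ := facts a b (Sum.inl x)
      obtain ⟨p2, p4⟩ := facts a b (Sum.inr x)
      exact ⟨p1.trans a1, p2.trans a2, fun z => (p3 z).trans (a3 _), fun z => (p4 z).trans (a4 _)⟩)
  refine (exists_mem_Omega_iff (qMinus_nondeg hab (m - 1)) (hex_of_two_ne_zero h2) _ g fun z => ?_).trans ?_
  · funext l
    rw [Matrix.mulVec_diagonal]
    rcases l with (l | l) | u
    · by_cases hl : (l : ℕ) < i
      · rw [(hg z _).1 ⟨⟨l, hl⟩, Or.inl (by simp [Fin.ext_iff])⟩]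
        simp [hl]
      · rw [(hg z _).2 fun ⟨j, hj⟩ => by
          rcases hj with hj | hj <;> simp at hj
          exact hl (hj ▸ j.isLt)]
        simp [hl]
    · by_cases hl : (l : ℕ) < i
      · rw [(hg z _).1 ⟨⟨l, hl⟩, Or.inr (by simp [Fin.ext_iff])⟩]
        simp [hl]
      · rw [(hg z _).2 fun ⟨j, hj⟩ => by
          rcases hj with hj | hj <;> simp at hj
          exact hl (hj ▸ j.isLt)]
        simp [hl]
    · rw [(hg z _).2 fun ⟨j, hj⟩ => by rcases hj with hj | hj <;> simp at hj]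
      simp
  · rw [hp, hs, sqc_eq_one_iff (pow_ne_zero _ (neg_ne_zero.2 one_ne_zero)), isSquare_neg_one_pow hF hq]
    simp

end Cfsg.Agent.S2615
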