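import Cfsg.Statements.S2619

set_option autoImplicit false
open Cfsg

namespace Cfsg.Agent.S2619

/-- Over a finite field of characteristic two, given an alternating bilinear form B on a finite-dimensional space, a basis (v_i) and scalars (λ_i), there is exactly one quadratic form whose polar form is B and whose value at each v_i is λ_i. -/
theorem result {F V ι : Type*} [Field F] [Finite F] [CharP F 2] [AddCommGroup V] [Module F V] [Fintype ι] (b : Module.Basis ι F V) (B : LinearMap.BilinForm F V) (hB : B.IsAlt) (c : ι → F) : ∃! Q : QuadraticForm F V, QuadraticMap.polarBilin Q = B ∧ ∀ i, Q (b i) = c i := by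
  classical
  letI : LinearOrder ι := LinearOrder.lift' _ (Fintype.equivFin ι).injective
  let M : Matrix ι ι F := Matrix.of fun i j => if i = j then c i else if i < j then B (b i) (b j) else 0
  refine ⟨LinearMap.BilinMap.toQuadraticMap (Matrix.toLinearMap₂ b b M), ⟨?_, fun i => ?_⟩, fun Q hQ => ?_⟩
  · rw [LinearMap.BilinMap.polarBilin_toQuadraticMap]
    refine b.ext fun i => b.ext fun j => ?_
    simp only [LinearMap.add_apply, LinearMap.flip_apply, Matrix.toLinearMap₂_apply_basis, M,
      Matrix.of_apply]
    rcases lt_trichotomy i j with h | rfl | h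
    · simp [h, h.ne, h.ne', not_lt.2 h.le]
    · simp [hB (b i), CharTwo.add_self_eq_zero]
    · simp [h, h.ne, h.ne', not_lt.2 h.le]
      rw [← LinearMap.IsAlt.neg hB (b i) (b j), CharTwo.neg_eq]
  · rw [LinearMap.BilinMap.toQuadraticMap_apply, Matrix.toLinearMap₂_apply_basis]; simp [M]
  · ext x
    have hQ2 : (Matrix.toLinearMap₂ b b M) = Q.toBilin b := by
      refine b.ext fun i => b.ext fun j => ?_
      rw [QuadraticMap.toBilin_apply, Matrix.toLinearMap₂_apply_basis]
      simp only [M, Matrix.of_apply, ← QuadraticMap.polarBilin_apply_apply, hQ.1, hQ.2]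
    rw [hQ2, QuadraticMap.toQuadraticMap_toBilin]

end Cfsg.Agent.S2619
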