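import Cfsg.Statements.S2620
import Cfsg.Agent.Lib.Known.QuadClassify

set_option autoImplicit false
open Cfsg CfsgLib.Known.QuadClassify

namespace Cfsg.Agent.S2620

/-- Discriminant of the hyperbolic quadratic form Σ_(i<m) x_i y_i over a field with q elements, q odd, m ≥ 1: the determinant of the Gram matrix of its polar form in any basis is a square if and only if m(q − 1)/2 is even (equivalently q^m ≡ 1 (mod 4)). -/
theorem result {F : Type*} [Field F] [Fintype F] {q : ℕ} (hF : Fintype.card F = q) (hq : Odd q) {m : ℕ} (hm : 1 ≤ m) {ι : Type*} [Fintype ι] [DecidableEq ι] (b : Module.Basis ι F (Fin m ⊕ Fin m → F)) : IsSquare (Matrix.of (fun i j : ι => QuadraticMap.polar (Cfsg.quadFormPlus m F) (b i) (b j))).det ↔ Even (m * (q - 1) / 2) := by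
  classical
  let Q : QuadraticForm F (Fin m ⊕ Fin m → F) :=
    QuadraticMap.ofPolar (quadFormPlus m F)
      (fun a z => by simp [quadFormPlus, Finset.mul_sum]; exact Finset.sum_congr rfl fun i _ => by ring)
      (fun x y z => by
        simp only [QuadraticMap.polar, polar_plus, ← Finset.sum_add_distrib, Pi.add_apply]
        exact Finset.sum_congr rfl fun i _ => by ring)
      (fun a x z => by
        simp only [QuadraticMap.polar, polar_plus, smul_eq_mul, Finset.mul_sum, Pi.smul_apply]
        exact Finset.sum_congr rfl fun i _ => by ring)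
  have h := gram_det_isSquare_iff Q b (Pi.basisFun F (Fin m ⊕ Fin m))
  have hQ : ⇑Q = quadFormPlus m F := rfl
  rw [hQ] at h
  rw [h, ← isSquare_neg_one_pow hF hq m, ← det_pairs (F := F) m]
  refine Iff.of_eq (congrArg (fun M : Matrix (Fin m ⊕ Fin m) (Fin m ⊕ Fin m) F => IsSquare M.det) ?_)
  ext i j
  rcases i with i | i <;> rcases j with j | j <;>
    simp [QuadraticMap.polar, polar_plus, Pi.single_apply, Matrix.one_apply, eq_comm]

end Cfsg.Agent.S2620
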