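import Cfsg.Statements.S2621
import Cfsg.Agent.Lib.Known.QuadClassify

set_option autoImplicit false
open Cfsg CfsgLib.Known.QuadClassify

namespace Cfsg.Agent.S2621

/-- Discriminant of an elliptic quadratic form Σ_(i<m−1) x_i y_i + z₁² + a z₁z₂ + c z₂² (binary part anisotropic) in dimension 2m over a field with q elements, q odd, m ≥ 1: the determinant of the Gram matrix of its polar form in any basis is a square if and only if m(q − 1)/2 is odd (equivalently q^m ≡ 3 (mod 4)). -/
theorem result {F : Type*} [Field F] [Fintype F] {q : ℕ} (hF : Fintype.card F = q) (hq : Odd q) {m : ℕ} (hm : 1 ≤ m) (a c : F) (hac : ∀ z₁ z₂ : F, z₁ ^ 2 + a * z₁ * z₂ + c * z₂ ^ 2 = 0 → z₁ = 0 ∧ z₂ = 0) {ι : Type*} [Fintype ι] [DecidableEq ι] (b : Module.Basis ι F ((Fin (m - 1) ⊕ Fin (m - 1)) ⊕ Fin 2 → F)) : IsSquare (Matrix.of (fun i j : ι => QuadraticMap.polar (Cfsg.quadFormMinus (m - 1) F a c) (b i) (b j))).det ↔ ¬ Even (m * (q - 1) / 2) := by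
  classical
  obtain ⟨k, rfl⟩ : ∃ k, m = k + 1 := ⟨m - 1, by omega⟩
  show IsSquare (Matrix.of fun i j : ι => QuadraticMap.polar (Cfsg.quadFormMinus k F a c) (b i) (b j)).det ↔ _
  let Q : QuadraticForm F ((Fin k ⊕ Fin k) ⊕ Fin 2 → F) :=
    QuadraticMap.ofPolar (quadFormMinus k F a c)
      (fun t z => by
        simp only [quadFormMinus, Pi.smul_apply, smul_eq_mul, mul_add, Finset.mul_sum]
        congr 1
        · exact Finset.sum_congr rfl fun i _ => by ring
        · ring)
      (fun x y z => by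
        simp only [QuadraticMap.polar, polar_minus, Pi.add_apply, mul_add, add_mul, Finset.sum_add_distrib]
        ring)
      (fun t x z => by
        simp only [QuadraticMap.polar, polar_minus, smul_eq_mul, Pi.smul_apply]
        rw [mul_add t, Finset.mul_sum]
        congr 1
        · exact Finset.sum_congr rfl fun i _ => by ring
        · ring)
  have h := gram_det_isSquare_iff Q b (Pi.basisFun F ((Fin k ⊕ Fin k) ⊕ Fin 2))
  have hQ : ⇑Q = quadFormMinus k F a c := rfl
  rw [hQ] at h
  have h2 : (2 : F) ≠ 0 := fun h' => by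
    have := FiniteField.even_card_iff_char_two.1
      (ringChar.eq_iff.2 (CharTwo.of_one_ne_zero_of_two_eq_zero one_ne_zero h'))
    obtain ⟨l, hl⟩ := hq
    omega
  have hd : ¬ IsSquare (a ^ 2 - 4 * c) := by
    rintro ⟨w, hw⟩
    have := hac ((-a + w) / 2) 1 (by field_simp; linear_combination -hw)
    exact one_ne_zero this.2
  have hM : (Matrix.of fun i j => QuadraticMap.polar (quadFormMinus k F a c)
      (Pi.basisFun F ((Fin k ⊕ Fin k) ⊕ Fin 2) i) (Pi.basisFun F ((Fin k ⊕ Fin k) ⊕ Fin 2) j)) =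
      Matrix.fromBlocks (Matrix.fromBlocks (0 : Matrix (Fin k) (Fin k) F) (1 : Matrix (Fin k) (Fin k) F)
        (1 : Matrix (Fin k) (Fin k) F) (0 : Matrix (Fin k) (Fin k) F)) 0 0 !![2, a; a, 2 * c] := by
    ext i j
    rcases i with (i | i) | i <;> rcases j with (j | j) | j <;>
      first
        | (simp [QuadraticMap.polar, polar_minus, Pi.single_apply, Matrix.one_apply, eq_comm]; done)
        | (fin_cases i <;> fin_cases j <;> simp [QuadraticMap.polar, polar_minus, Pi.single_apply])
  rw [h, hM, Matrix.det_fromBlocks_zero₁₂, det_pairs, Matrix.det_fin_two_of]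
  have hne : a ^ 2 - 4 * c ≠ 0 := fun h0 => hd (h0 ▸ IsSquare.zero)
  rw [show (-1 : F) ^ k * (2 * (2 * c) - a * a) = (-1) ^ (k + 1) * (a ^ 2 - 4 * c) by ring,
    ← isSquare_neg_one_pow hF hq (k + 1)]
  have hu : (-1 : F) ^ (k + 1) ≠ 0 := pow_ne_zero _ (neg_ne_zero.2 one_ne_zero)
  rw [← quadraticChar_one_iff_isSquare (mul_ne_zero hu hne), map_mul,
    quadraticChar_neg_one_iff_not_isSquare.2 hd, ← quadraticChar_one_iff_isSquare hu]
  rcases quadraticChar_dichotomy hu with h' | h' <;> rw [h'] <;> decide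

end Cfsg.Agent.S2621
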