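import Cfsg.Statements.S2623
import Cfsg.Agent.Lib.Known.QuadClassify

set_option autoImplicit false
open Cfsg CfsgLib.Known.QuadClassify

namespace Cfsg.Agent.S2623

/-- Over a finite field of odd order, two quadratic forms on F^n with non-degenerate polar forms are isometric (related by an invertible linear change of variables) if and only if their discriminants (determinants of the Gram matrices of their polar forms) lie in the same square class. -/
theorem result {F : Type*} [Field F] [Fintype F] (h2 : (2 : F) ≠ 0) {n : ℕ} (Q₁ Q₂ : QuadraticForm F (Fin n → F)) (h₁ : (QuadraticMap.polarBilin Q₁).Nondegenerate) (h₂ : (QuadraticMap.polarBilin Q₂).Nondegenerate) : (∃ g : (Fin n → F) ≃ₗ[F] (Fin n → F), ∀ v, Q₂ (g v) = Q₁ v) ↔ IsSquare ((Matrix.of (fun i j : Fin n => QuadraticMap.polar ⇑Q₁ (Pi.single i 1) (Pi.single j 1))).det * (Matrix.of (fun i j : Fin n => QuadraticMap.polar ⇑Q₂ (Pi.single i 1) (Pi.single j 1))).det) := by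
  classical
  have gram : ∀ Q : QuadraticForm F (Fin n → F),
      Matrix.of (fun i j : Fin n => QuadraticMap.polar ⇑Q (Pi.single i 1) (Pi.single j 1)) =
        LinearMap.BilinForm.toMatrix (Pi.basisFun F (Fin n)) (QuadraticMap.polarBilin Q) := by
    intro Q
    rw [← gram_eq]
    simp
  rw [gram, gram]
  have hdet : ∀ Q : QuadraticForm F (Fin n → F), (QuadraticMap.polarBilin Q).Nondegenerate →
      (LinearMap.BilinForm.toMatrix (Pi.basisFun F (Fin n)) (QuadraticMap.polarBilin Q)).det ≠ 0 :=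
    fun Q hQ => (LinearMap.BilinForm.nondegenerate_iff_det_ne_zero _).1 hQ
  constructor
  · rintro ⟨g, hg⟩
    have h := CfsgLib.Classical.Quad.det_gram_of_isometry (Pi.basisFun F (Fin n)) (Pi.basisFun F (Fin n))
      (QuadraticMap.polarBilin Q₁) (QuadraticMap.polarBilin Q₂) g fun u v => by
        simp [QuadraticMap.polar, ← map_add, hg]
    rw [h]
    exact ⟨(LinearMap.toMatrix (Pi.basisFun F (Fin n)) (Pi.basisFun F (Fin n))
      (g : (Fin n → F) →ₗ[F] (Fin n → F))).det *
        (LinearMap.BilinForm.toMatrix (Pi.basisFun F (Fin n)) (QuadraticMap.polarBilin Q₂)).det, by ring⟩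
  intro hsq
  obtain rfl | hn := Nat.eq_zero_or_pos n
  · exact ⟨LinearEquiv.refl F _, fun v => by
      rw [Subsingleton.elim v 0, LinearEquiv.refl_apply, QuadraticMap.map_zero, QuadraticMap.map_zero]⟩
  obtain ⟨k, rfl⟩ : ∃ k, n = k + 1 := ⟨n - 1, by omega⟩
  obtain ⟨α, hα⟩ : ∃ α : F, ¬ IsSquare α := FiniteField.exists_nonsquare fun h => h2 (by
    have := ringChar.eq_iff.1 h
    exact CharTwo.two_eq_zero)
  have hα0 : α ≠ 0 := by rintro rfl; exact hα IsSquare.zero
  obtain ⟨b, hb1, hb2, hb3⟩ := CfsgLib.Classical.Quad.exists_normal_basis h2 hα k (QuadraticMap.polarBilin Q₁)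
    ⟨fun u v => QuadraticMap.polar_comm _ u v⟩ h₁ (Module.finrank_fin_fun F)
  obtain ⟨c, hc1, hc2, hc3⟩ := CfsgLib.Classical.Quad.exists_normal_basis h2 hα k (QuadraticMap.polarBilin Q₂)
    ⟨fun u v => QuadraticMap.polar_comm _ u v⟩ h₂ (Module.finrank_fin_fun F)
  have hlast : QuadraticMap.polarBilin Q₁ (b (Fin.last k)) (b (Fin.last k)) =
      QuadraticMap.polarBilin Q₂ (c (Fin.last k)) (c (Fin.last k)) := by
    have hd : ∀ (Q : QuadraticForm F (Fin (k + 1) → F)) (e : Module.Basis (Fin (k + 1)) F (Fin (k + 1) → F)),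
        (∀ i j, i ≠ j → QuadraticMap.polarBilin Q (e i) (e j) = 0) →
        (∀ i, i ≠ Fin.last k → QuadraticMap.polarBilin Q (e i) (e i) = 1) →
        ∃ D : F, D ≠ 0 ∧ (LinearMap.BilinForm.toMatrix (Pi.basisFun F _) (QuadraticMap.polarBilin Q)).det =
          D ^ 2 * QuadraticMap.polarBilin Q (e (Fin.last k)) (e (Fin.last k)) := by
      intro Q e a o
      refine ⟨(LinearMap.toMatrix (Pi.basisFun F (Fin (k + 1))) e
        (LinearEquiv.refl F (Fin (k + 1) → F) : (Fin (k + 1) → F) →ₗ[F] (Fin (k + 1) → F))).det, ?_, (CfsgLib.Classical.Quad.det_gram_of_isometry (Pi.basisFun F _) e (QuadraticMap.polarBilin Q)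
        (QuadraticMap.polarBilin Q) (LinearEquiv.refl F _) fun _ _ => rfl).trans ?_⟩
      swap
      · rw [CfsgLib.Classical.Quad.det_gram_diag e _ a,
          Finset.prod_eq_single (Fin.last k) (fun i _ hi => o i hi) (by simp)]
      · exact ((LinearEquiv.refl F (Fin (k + 1) → F)).isUnit_det (Pi.basisFun F _) e).ne_zero
    obtain ⟨D, hD, hD'⟩ := hd Q₁ b hb1 hb2
    obtain ⟨E, hE, hE'⟩ := hd Q₂ c hc1 hc2
    rw [hD', hE'] at hsq
    obtain ⟨w, hw⟩ := hsq
    have hx : IsSquare (QuadraticMap.polarBilin Q₁ (b (Fin.last k)) (b (Fin.last k)) *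
        QuadraticMap.polarBilin Q₂ (c (Fin.last k)) (c (Fin.last k))) :=
      ⟨w / (D * E), by field_simp; linear_combination hw⟩
    rcases hb3 with h | h <;> rcases hc3 with h' | h' <;> rw [h, h'] at hx ⊢
    · exact absurd (by simpa using hx) hα
    · exact absurd (by simpa using hx) hα
  have hgram : ∀ i j, QuadraticMap.polarBilin Q₂ (c i) (c j) = QuadraticMap.polarBilin Q₁ (b i) (b j) := by
    intro i j
    by_cases hij : i = j
    · subst hij
      by_cases hi : i = Fin.last k
      · rw [hi]; exact hlast.symm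
      · rw [hb2 i hi, hc2 i hi]
    · rw [hb1 i j hij, hc1 i j hij]
  refine ⟨b.equiv c (Equiv.refl _), fun v => ?_⟩
  have h3 := CfsgLib.Classical.Quad.equiv_of_gram b c (QuadraticMap.polarBilin Q₁) (QuadraticMap.polarBilin Q₂)
    hgram v v
  simp only [QuadraticMap.polarBilin_apply_apply, CfsgLib.Classical.Quad.polar_self'] at h3
  exact mul_left_cancel₀ h2 h3

end Cfsg.Agent.S2623
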