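import Cfsg.Statements.S2625

set_option autoImplicit false
open Cfsg

namespace Cfsg.Agent.S2625

/-- For a quadratic form Q on F^n with non-degenerate polar form, F finite and n odd (so |F| is odd), the multiplier of any similarity is a square: if g is an invertible linear map with Q(g v) = c·Q(v) for all v then c is a square. -/
theorem result {F : Type*} [Field F] [Fintype F] {n : ℕ} (hn : Odd n) (Q : QuadraticForm F (Fin n → F)) (hQ : (QuadraticMap.polarBilin Q).Nondegenerate) (g : (Fin n → F) ≃ₗ[F] (Fin n → F)) (c : F) (hg : ∀ v, Q (g v) = c * Q v) : IsSquare c := by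
  classical
  set B := QuadraticMap.polarBilin Q with hB
  set M : Matrix (Fin n) (Fin n) F := LinearMap.toMatrix₂' F B with hM
  have hdet : M.det ≠ 0 := (LinearMap.BilinForm.nondegenerate_toMatrix'_iff.2 hQ).det_ne_zero
  have hcomp : B.compl₁₂ (g : (Fin n → F) →ₗ[F] (Fin n → F)) (g : (Fin n → F) →ₗ[F] (Fin n → F)) = c • B := by
    refine LinearMap.ext fun u => LinearMap.ext fun v => ?_
    simp [hB, QuadraticMap.polar, ← map_add, hg, mul_sub]
  have h := congrArg (fun T => (LinearMap.toMatrix₂' F T).det) hcomp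
  simp only [LinearMap.toMatrix₂'_compl₁₂, map_smul, Matrix.det_mul, Matrix.det_transpose,
    Matrix.det_smul, Fintype.card_fin, ← hM] at h
  have h2 : c ^ n = (LinearMap.toMatrix' (g : (Fin n → F) →ₗ[F] (Fin n → F))).det ^ 2 :=
    mul_right_cancel₀ hdet (by rw [← h]; ring)
  obtain ⟨j, rfl⟩ := hn
  rcases eq_or_ne c 0 with rfl | hc
  · exact IsSquare.zero
  refine ⟨(LinearMap.toMatrix' (g : (Fin (2 * j + 1) → F) →ₗ[F] (Fin (2 * j + 1) → F))).det / c ^ j, ?_⟩
  rw [div_mul_div_comm, ← sq, ← h2, eq_div_iff (by positivity)]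
  ring

end Cfsg.Agent.S2625
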