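import Cfsg.Statements.S2626

-- helpers

set_option autoImplicit false
open Cfsg

namespace Cfsg.Agent.S2626

/-- Block diagonal matrices. -/
def blockHom {F : Type*} [Field F] {k l : ℕ} :
    GL (Fin k) F × GL (Fin l) F →* GL (Fin k ⊕ Fin l) F where
  toFun p :=
    { val := Matrix.fromBlocks (p.1 : Matrix (Fin k) (Fin k) F) 0 0 (p.2 : Matrix (Fin l) (Fin l) F)
      inv := Matrix.fromBlocks ((p.1⁻¹ : GL (Fin k) F) : Matrix (Fin k) (Fin k) F) 0 0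
        ((p.2⁻¹ : GL (Fin l) F) : Matrix (Fin l) (Fin l) F)
      val_inv := by simp [Matrix.fromBlocks_multiply, Matrix.fromBlocks_one]
      inv_val := by simp [Matrix.fromBlocks_multiply, Matrix.fromBlocks_one] }
  map_one' := Units.ext (by simp [Matrix.fromBlocks_one])
  map_mul' a b := Units.ext (by simp [Matrix.fromBlocks_multiply])


/-- Ω of an orthogonal direct sum contains the product of the Ω's: for quadratic forms Q₁ on F^k and Q₂ on F^l with non-degenerate polar forms (F finite) and Q = Q₁ ⊕ Q₂ on F^(k+l), if g₁ lies in Ω(Q₁) and g₂ in Ω(Q₂) (commutator subgroups of the orthogonal groups) then the block-diagonal isometry diag(g₁, g₂) lies in Ω(Q). -/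
theorem result {F : Type*} [Field F] [Fintype F] {k l : ℕ} (Q₁ : QuadraticForm F (Fin k → F)) (Q₂ : QuadraticForm F (Fin l → F)) (h₁ : (QuadraticMap.polarBilin Q₁).Nondegenerate) (h₂ : (QuadraticMap.polarBilin Q₂).Nondegenerate) (g₁ : ↥(Cfsg.isometryGroup F ⇑Q₁)) (g₂ : ↥(Cfsg.isometryGroup F ⇑Q₂)) (hg₁ : g₁ ∈ Cfsg.Omega F ⇑Q₁) (hg₂ : g₂ ∈ Cfsg.Omega F ⇑Q₂) : ∃ g : ↥(Cfsg.isometryGroup F (fun v : Fin k ⊕ Fin l → F => Q₁ (v ∘ Sum.inl) + Q₂ (v ∘ Sum.inr))), g ∈ Cfsg.Omega F (fun v : Fin k ⊕ Fin l → F => Q₁ (v ∘ Sum.inl) + Q₂ (v ∘ Sum.inr)) ∧ ((g : Matrix.GeneralLinearGroup (Fin k ⊕ Fin l) F) : Matrix (Fin k ⊕ Fin l) (Fin k ⊕ Fin l) F) = Matrix.fromBlocks ((g₁ : Matrix.GeneralLinearGroup (Fin k) F) : Matrix (Fin k) (Fin k) F) 0 0 ((g₂ : Matrix.GeneralLinearGroup (Fin l) F) : Matrix (Fin l) (Fin l) F) := by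
  let ψ : GL (Fin k) F × GL (Fin l) F →* GL (Fin k ⊕ Fin l) F := blockHom
  have hψ : ∀ a : ↥(Cfsg.isometryGroup F ⇑Q₁), ∀ b : ↥(Cfsg.isometryGroup F ⇑Q₂),
      ψ ((a : GL (Fin k) F), (b : GL (Fin l) F)) ∈
        Cfsg.isometryGroup F (fun v : Fin k ⊕ Fin l → F => Q₁ (v ∘ Sum.inl) + Q₂ (v ∘ Sum.inr)) := by
    intro a b u v
    show Q₁ ((Matrix.fromBlocks ((a : GL (Fin k) F) : Matrix (Fin k) (Fin k) F) 0 0
        ((b : GL (Fin l) F) : Matrix (Fin l) (Fin l) F)).mulVec u ∘ Sum.inl) +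
      Q₂ ((Matrix.fromBlocks ((a : GL (Fin k) F) : Matrix (Fin k) (Fin k) F) 0 0
        ((b : GL (Fin l) F) : Matrix (Fin l) (Fin l) F)).mulVec u ∘ Sum.inr) = _
    rw [Matrix.fromBlocks_mulVec]
    simp only [Sum.elim_comp_inl, Sum.elim_comp_inr, Matrix.zero_mulVec, add_zero, zero_add]
    exact congrArg₂ (· + ·) (a.2 (u ∘ Sum.inl) (u ∘ Sum.inl)) (b.2 (u ∘ Sum.inr) (u ∘ Sum.inr))
  let Φ : ↥(Cfsg.isometryGroup F ⇑Q₁) × ↥(Cfsg.isometryGroup F ⇑Q₂) →*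
      ↥(Cfsg.isometryGroup F (fun v : Fin k ⊕ Fin l → F => Q₁ (v ∘ Sum.inl) + Q₂ (v ∘ Sum.inr))) :=
    (ψ.comp ((Cfsg.isometryGroup F ⇑Q₁).subtype.prodMap (Cfsg.isometryGroup F ⇑Q₂).subtype)).codRestrict _
      fun p => hψ p.1 p.2
  refine ⟨Φ (g₁, g₂), ?_, rfl⟩
  have h1 : (g₁, g₂) ∈ commutator (↥(Cfsg.isometryGroup F ⇑Q₁) × ↥(Cfsg.isometryGroup F ⇑Q₂)) := by
    rw [commutator_def, ← Subgroup.top_prod_top, Subgroup.commutator_prod_prod]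
    exact ⟨hg₁, hg₂⟩
  have h2 := Subgroup.mem_map_of_mem Φ h1
  rw [commutator_def, Subgroup.map_commutator] at h2
  exact Subgroup.commutator_mono le_top le_top h2

end Cfsg.Agent.S2626
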