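import Cfsg.Statements.S2627
import Cfsg.Agent.Lib.Known.OmegaSums

set_option autoImplicit false
open Cfsg

namespace Cfsg.Agent.S2627

open QuadraticMap (polar polarBilin)
open CfsgLib.Classical.Quad CfsgLib.Known.OmegaCriterion
open CfsgLib.Known.OmegaSums

/-- For an orthogonal direct sum Q = Q₁ ⊕ Q₂ of quadratic forms with non-degenerate polar forms over a finite field, an isometry g₁ of Q₁ extended by the identity on the second summand lies in Ω(Q) (the commutator subgroup of the orthogonal group of Q) if and only if g₁ lies in Ω(Q₁). (Excluded: the field of two elements when the first summand or the whole space has dimension 4, where the commutator subgroup of O⁺₄(2) is smaller than the group usually called Ω.) -/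
theorem result {F : Type*} [Field F] [Fintype F] {k l : ℕ} (h : Fintype.card F ≠ 2 ∨ (k ≠ 4 ∧ k + l ≠ 4)) (Q₁ : QuadraticForm F (Fin k → F)) (Q₂ : QuadraticForm F (Fin l → F)) (h₁ : (QuadraticMap.polarBilin Q₁).Nondegenerate) (h₂ : (QuadraticMap.polarBilin Q₂).Nondegenerate) (g₁ : ↥(Cfsg.isometryGroup F ⇑Q₁)) : (∃ g : ↥(Cfsg.isometryGroup F (fun v : Fin k ⊕ Fin l → F => Q₁ (v ∘ Sum.inl) + Q₂ (v ∘ Sum.inr))), g ∈ Cfsg.Omega F (fun v : Fin k ⊕ Fin l → F => Q₁ (v ∘ Sum.inl) + Q₂ (v ∘ Sum.inr)) ∧ ((g : Matrix.GeneralLinearGroup (Fin k ⊕ Fin l) F) : Matrix (Fin k ⊕ Fin l) (Fin k ⊕ Fin l) F) = Matrix.fromBlocks ((g₁ : Matrix.GeneralLinearGroup (Fin k) F) : Matrix (Fin k) (Fin k) F) 0 0 1) ↔ g₁ ∈ Cfsg.Omega F ⇑Q₁ := by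
  have hex₁ : (∃ c : F, c ≠ 0 ∧ c ≠ 1) ∨ Fintype.card (Fin k) ≠ 4 :=
    hex_of_card (h.imp_right fun h' => by simpa using h'.1)
  have hex : (∃ c : F, c ≠ 0 ∧ c ≠ 1) ∨ Fintype.card (Fin k ⊕ Fin l) ≠ 4 :=
    hex_of_card (h.imp_right fun h' => by simpa using h'.2)
  obtain ⟨s, hs, hp, hsp⟩ := exists_sum h₁ h₂ (oEquiv Q₁ g₁) 1 _ 1 (fun z => (oEquiv_apply Q₁ g₁ z).symm)
    (fun z => by simp)
  refine (exists_mem_Omega_iff (sumForm_nondeg h₁ h₂) hex _ s hs).trans ?_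
  rw [mem_Omega_iff h₁ hex₁, hp, hsp, par_one h₂, spinor_one h₂, add_zero, mul_one]

end Cfsg.Agent.S2627
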