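import Cfsg.Statements.S2628
import Cfsg.Agent.Lib.Known.OmegaSums

set_option autoImplicit false
open Cfsg

namespace Cfsg.Agent.S2628

open QuadraticMap (polar polarBilin)
open CfsgLib.Classical.Quad CfsgLib.Known.OmegaCriterion
open CfsgLib.Known.OmegaSums

/-- For the orthogonal direct sum Q ⊕ Q of two copies of a quadratic form Q with non-degenerate polar form on F^k (F finite), every isometry g of Q acting diagonally, diag(g, g), lies in Ω(Q ⊕ Q), the commutator subgroup of the orthogonal group of Q ⊕ Q. (Excluded: k = 2 over the field of two elements, where Q ⊕ Q is the hyperbolic 4-space whose orthogonal group's commutator subgroup is smaller than the group usually called Ω.) -/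
theorem result {F : Type*} [Field F] [Fintype F] {k : ℕ} (h : Fintype.card F ≠ 2 ∨ k ≠ 2) (Q : QuadraticForm F (Fin k → F)) (hQ : (QuadraticMap.polarBilin Q).Nondegenerate) (g : ↥(Cfsg.isometryGroup F ⇑Q)) : ∃ x : ↥(Cfsg.isometryGroup F (fun v : Fin k ⊕ Fin k → F => Q (v ∘ Sum.inl) + Q (v ∘ Sum.inr))), x ∈ Cfsg.Omega F (fun v : Fin k ⊕ Fin k → F => Q (v ∘ Sum.inl) + Q (v ∘ Sum.inr)) ∧ ((x : Matrix.GeneralLinearGroup (Fin k ⊕ Fin k) F) : Matrix (Fin k ⊕ Fin k) (Fin k ⊕ Fin k) F) = Matrix.fromBlocks ((g : Matrix.GeneralLinearGroup (Fin k) F) : Matrix (Fin k) (Fin k) F) 0 0 ((g : Matrix.GeneralLinearGroup (Fin k) F) : Matrix (Fin k) (Fin k) F) := by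
  have hex : (∃ c : F, c ≠ 0 ∧ c ≠ 1) ∨ Fintype.card (Fin k ⊕ Fin k) ≠ 4 :=
    hex_of_card (h.imp_right fun h' => by simp; omega)
  obtain ⟨s, hs, hp, hsp⟩ := exists_sum hQ hQ (oEquiv Q g) (oEquiv Q g) _ _
    (fun z => (oEquiv_apply Q g z).symm) (fun z => (oEquiv_apply Q g z).symm)
  refine (exists_mem_Omega_iff (sumForm_nondeg hQ hQ) hex _ s hs).2 ⟨?_, ?_⟩
  · rw [hp]; exact CharTwo.add_self_eq_zero _
  · rw [hsp]; exact sqClass_mul_self _

end Cfsg.Agent.S2628
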