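import Cfsg.Statements.S2630
import Cfsg.Agent.Lib.Known.HyperbolicClasses
import Cfsg.Agent.Lib.Classical.Quad.NegOne

set_option autoImplicit false
open Cfsg

namespace Cfsg.Agent.S2630

open QuadraticMap (polar polarBilin)
open CfsgLib.Known.HyperbolicClasses
open scoped Matrix
open CfsgLib.Classical.Quad CfsgLib.Known.OmegaCriterion

/-- For the hyperbolic form Σ x_i y_i on F^(2m) over a finite field of characteristic two (m ≥ 1, excluding m = 2 over the field of two elements), an isometry g preserves the class of the maximal totally singular subspace U₀ = {y = 0} (m − dim(U₀ ∩ gU₀) even) if and only if g lies in Ω (the commutator subgroup of the orthogonal group): the stabiliser of each class is Ω. -/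
theorem result {F : Type*} [Field F] [Fintype F] [CharP F 2] {m : ℕ} (hm : 1 ≤ m) (h : Fintype.card F ≠ 2 ∨ m ≠ 2) (g : ↥(Cfsg.isometryGroup F (Cfsg.quadFormPlus m F))) : Even (m - Module.finrank F ↥(LinearMap.ker (LinearMap.funLeft F F (Sum.inr : Fin m → Fin m ⊕ Fin m)) ⊓ (LinearMap.ker (LinearMap.funLeft F F (Sum.inr : Fin m → Fin m ⊕ Fin m))).map (Matrix.mulVecLin ((g : Matrix.GeneralLinearGroup (Fin m ⊕ Fin m) F) : Matrix (Fin m ⊕ Fin m) (Fin m ⊕ Fin m) F)))) ↔ g ∈ Cfsg.Omega F (Cfsg.quadFormPlus m F) := by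
  have hm2 : m = 2 → ∃ a : F, a ≠ 0 ∧ a ≠ 1 := fun e =>
    (hex_of_card (n := 4) (h.imp_right fun h' => absurd e h')).resolve_right fun h' => h' rfl
  have hex : (∃ c : F, c ≠ 0 ∧ c ≠ 1) ∨ Fintype.card (Fin m ⊕ Fin m) ≠ 4 :=
    hex_of_card (h.imp_right fun h' => by simp; omega)
  have hR := reflGroup_pi_eq_top (qPlus_nondeg (F := F) m) hex
  revert g
  rw [← coe_qPlus m F]
  intro g
  have hp := par_eq hR hm2 (oEquiv (qPlus m F) g)
  rw [map_mulVecLin, ← ZMod.natCast_eq_zero_iff_even, ← hp, mem_Omega_iff (qPlus_nondeg m) hex]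
  exact ⟨fun e => ⟨e, spinor_of_two_eq_zero CharTwo.two_eq_zero _⟩, And.left⟩

end Cfsg.Agent.S2630
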