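import Cfsg.Statements.S2631
import Cfsg.Agent.Lib.Known.HyperbolicClasses
import Cfsg.Agent.Lib.Classical.Quad.NegOne

set_option autoImplicit false
open Cfsg

namespace Cfsg.Agent.S2631

open QuadraticMap (polar polarBilin)
open CfsgLib.Known.HyperbolicClasses
open scoped Matrix
open CfsgLib.Classical.Quad CfsgLib.Known.OmegaCriterion

/-- For the hyperbolic form Σ x_i y_i on F^(2m) over a finite field (m ≥ 1, excluding m = 2 over the field of two elements), Ω (the commutator subgroup of the orthogonal group) acts transitively on each of the two classes of maximal totally singular subspaces: if U and W are m-dimensional totally singular subspaces with m − dim(U ∩ W) even, some element of Ω carries U to W. -/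
theorem result {F : Type*} [Field F] [Fintype F] {m : ℕ} (hm : 1 ≤ m) (h : Fintype.card F ≠ 2 ∨ m ≠ 2) (U W : Submodule F (Fin m ⊕ Fin m → F)) (hU : Module.finrank F U = m) (hW : Module.finrank F W = m) (hU0 : ∀ u ∈ U, Cfsg.quadFormPlus m F u = 0) (hW0 : ∀ w ∈ W, Cfsg.quadFormPlus m F w = 0) (he : Even (m - Module.finrank F ↥(U ⊓ W))) : ∃ g : ↥(Cfsg.isometryGroup F (Cfsg.quadFormPlus m F)), g ∈ Cfsg.Omega F (Cfsg.quadFormPlus m F) ∧ U.map (Matrix.mulVecLin ((g : Matrix.GeneralLinearGroup (Fin m ⊕ Fin m) F) : Matrix (Fin m ⊕ Fin m) (Fin m ⊕ Fin m) F)) = W := by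
  have hm2 : m = 2 → ∃ a : F, a ≠ 0 ∧ a ≠ 1 := fun e =>
    (hex_of_card (n := 4) (h.imp_right fun h' => absurd e h')).resolve_right fun h' => h' rfl
  have hex : (∃ c : F, c ≠ 0 ∧ c ≠ 1) ∨ Fintype.card (Fin m ⊕ Fin m) ≠ 4 :=
    hex_of_card (h.imp_right fun h' => by simp; omega)
  have hR := reflGroup_pi_eq_top (qPlus_nondeg (F := F) m) hex
  rw [← coe_qPlus m F] at hU0 hW0 ⊢
  have hQ := qPlus_nondeg (F := F) m
  obtain ⟨s₁, hs₁, -⟩ := exists_to U hU hU0 _ rfl
  obtain ⟨s₂, hs₂, -⟩ := exists_to W hW hW0 _ rfl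
  have hinv : ∀ t : OQ (qPlus m F), par t⁻¹ = par t ∧ spinor t⁻¹ = spinor t := fun t => by
    have e1 := par_mul hQ hR t t⁻¹
    have e2 := spinor_mul hQ hR t t⁻¹
    rw [mul_inv_cancel] at e1 e2
    rw [par_one hQ] at e1
    rw [spinor_one hQ] at e2
    exact ⟨(CharTwo.add_eq_zero.1 e1.symm).symm, mul_left_cancel (e2.symm.trans (sqClass_mul_self _).symm)⟩
  have hback : U.map (((s₁⁻¹ : OQ (qPlus m F)) : (Fin m ⊕ Fin m → F) ≃ₗ[F] (Fin m ⊕ Fin m → F)) :
      (Fin m ⊕ Fin m → F) →ₗ[F] (Fin m ⊕ Fin m → F)) = U0 m F := by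
    rw [← hs₁, ← map_mul_eq, inv_mul_cancel]
    exact Submodule.map_id _
  have hpar : par s₁ + par s₂ = 0 := by
    rw [← (hinv s₁).1, ← par_mul hQ hR, par_eq hR hm2, map_mul_eq, hs₂, ← hback,
      ← Submodule.map_inf _ (LinearEquiv.injective _), LinearEquiv.finrank_map_eq,
      ZMod.natCast_eq_zero_iff_even]
    exact he
  obtain ⟨A, hA0, hA⟩ := exists_levi_spinor (F := F) ⟨0, hm⟩ (spinor s₂ * spinor s₁)
  refine ⟨(oEquiv _).symm (s₂ * levi A * s₁⁻¹), (mem_Omega_iff hQ hex _).2 ?_, ?_⟩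
  · rw [MulEquiv.apply_symm_apply, par_mul hQ hR, par_mul hQ hR, spinor_mul hQ hR, spinor_mul hQ hR, (hinv s₁).1,
      (hinv s₁).2, hA0, hA, add_zero, add_comm, ← mul_assoc, sqClass_mul_self, one_mul, sqClass_mul_self]
    exact ⟨hpar, rfl⟩
  · rw [map_mulVecLin, MulEquiv.apply_symm_apply, map_mul_eq, hback, map_mul_eq, levi_map_U0, hs₂]

end Cfsg.Agent.S2631
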