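import Cfsg.Statements.S2632
import Cfsg.Agent.Lib.Known.OmegaCriterion

set_option autoImplicit false
open Cfsg

namespace Cfsg.Agent.S2632

open QuadraticMap (polar polarBilin)
open CfsgLib.Classical.Quad CfsgLib.Known.OmegaCriterion

/-- Ω is transitive on non-degenerate subspaces of each isometry type: for a quadratic form Q on F^n, n ≥ 3, with non-degenerate polar form (F finite; excluding dimension 4 over the field of two elements), if U and W are subspaces on which the polar form is non-degenerate and there is a Q-preserving linear isomorphism U → W, then some element of Ω (the commutator subgroup of the orthogonal group) carries U to W. (In dimension 2 this fails: Ω can be {±1}, which fixes every line.) -/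
theorem result {F : Type*} [Field F] [Fintype F] {n : ℕ} (hn : 3 ≤ n) (h : Fintype.card F ≠ 2 ∨ n ≠ 4) (Q : QuadraticForm F (Fin n → F)) (hQ : (QuadraticMap.polarBilin Q).Nondegenerate) (U W : Submodule F (Fin n → F)) (hU : U ⊓ LinearMap.BilinForm.orthogonal (QuadraticMap.polarBilin Q) U = ⊥) (hW : W ⊓ LinearMap.BilinForm.orthogonal (QuadraticMap.polarBilin Q) W = ⊥) (e : U ≃ₗ[F] W) (he : ∀ u : U, Q (e u : Fin n → F) = Q (u : Fin n → F)) : ∃ g : ↥(Cfsg.isometryGroup F ⇑Q), g ∈ Cfsg.Omega F ⇑Q ∧ U.map (Matrix.mulVecLin ((g : Matrix.GeneralLinearGroup (Fin n) F) : Matrix (Fin n) (Fin n) F)) = W := by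
  have hex : (∃ c : F, c ≠ 0 ∧ c ≠ 1) ∨ Fintype.card (Fin n) ≠ 4 :=
    hex_of_card (h.imp_right fun h' => by simpa using h')
  have hR := reflGroup_pi_eq_top hQ hex
  obtain ⟨g₀, hg₀⟩ := witt hQ U (W.subtype.comp e.toLinearMap)
    (W.injective_subtype.comp e.injective) he
  refine exists_omega_map_eq hQ hex g₀ ?_ fun p s => ?_
  · refine le_antisymm ?_ fun w hw => ⟨e.symm ⟨w, hw⟩, (e.symm ⟨w, hw⟩).2, ?_⟩
    · rintro _ ⟨u, hu, rfl⟩
      show (g₀ : (Fin n → F) ≃ₗ[F] (Fin n → F)) ((⟨u, hu⟩ : U) : Fin n → F) ∈ W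
      rw [hg₀]
      exact (e ⟨u, hu⟩).2
    · show (g₀ : (Fin n → F) ≃ₗ[F] (Fin n → F)) ((e.symm ⟨w, hw⟩ : U) : Fin n → F) = w
      rw [hg₀]
      simp
  set O := LinearMap.BilinForm.orthogonal (polarBilin Q) W with hO
  have hnd : ∀ K : Submodule F (Fin n → F), K ⊓ LinearMap.BilinForm.orthogonal (polarBilin Q) K = ⊥ →
      (polarBilin (Q.comp K.subtype)).Nondegenerate := fun K hK => by
    refine nondegenerate_of_left fun x hx => ?_
    refine Subtype.ext ((Submodule.eq_bot_iff _).1 hK _ ⟨x.2, fun y hy => ?_⟩)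
    show polar Q y (x : Fin n → F) = 0
    rw [QuadraticMap.polar_comm]
    have := hx ⟨y, hy⟩
    simpa only [polar, QuadraticMap.comp_apply, Submodule.subtype_apply, Submodule.coe_add] using this
  obtain ⟨K, hK, hK2, hKW⟩ : ∃ K : Submodule F (Fin n → F), (polarBilin (Q.comp K.subtype)).Nondegenerate ∧
      2 ≤ Module.finrank F K ∧ ∀ v ∈ K, v ∈ W ∨ ∀ u ∈ W, polar Q u v = 0 := by
    by_cases hd : 2 ≤ Module.finrank F W
    · exact ⟨W, hnd W hW, hd, fun v hv => Or.inl hv⟩
    · refine ⟨O, hnd O ?_, ?_, fun v hv => Or.inr fun u hu => hv u hu⟩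
      · rw [hO, LinearMap.BilinForm.orthogonal_orthogonal hQ (fun x y hxy => by
          show polar Q y x = 0
          rw [QuadraticMap.polar_comm]; exact hxy), inf_comm]
        exact hW
      · rw [hO, LinearMap.BilinForm.finrank_orthogonal hQ, Module.finrank_pi, Fintype.card_fin]
        omega
  have hrefl : ∀ c : F, c ≠ 0 → ∃ r : OQ Q,
      W.map ((r : (Fin n → F) ≃ₗ[F] (Fin n → F)) : (Fin n → F) →ₗ[F] (Fin n → F)) = W ∧
        par r = 1 ∧ spinor r = sqc c := fun c hc => by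
    obtain ⟨v, hv⟩ := exists_apply_eq hK hK2 hc
    have hv' : Q (v : Fin n → F) = c := hv
    have hv0 : Q (v : Fin n → F) ≠ 0 := hv'.symm ▸ hc
    exact ⟨refl hv0, refl_map_eq hv0 (hKW _ v.2), par_refl hQ hv0, by rw [spinor_refl hQ, hv']⟩
  obtain ⟨c, hc, rfl⟩ := exists_sqc_eq s
  obtain ⟨r, hr, hrp, hrs⟩ := hrefl c hc
  obtain ⟨r', hr', hrp', hrs'⟩ := hrefl 1 one_ne_zero
  rcases (show ∀ x : ZMod 2, x = 0 ∨ x = 1 by decide) p with rfl | rfl
  · refine ⟨r * r', by rw [map_mul_eq, hr', hr], ?_, ?_⟩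
    · rw [par_mul hQ hR, hrp, hrp']; decide
    · rw [spinor_mul hQ hR, hrs, hrs', sqc_one, mul_one]
  · exact ⟨r, hr, hrp, hrs⟩

end Cfsg.Agent.S2632
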