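import Cfsg.Statements.S2633
import Cfsg.Agent.Lib.Known.OmegaCriterion

set_option autoImplicit false
open Cfsg

namespace Cfsg.Agent.S2633

open QuadraticMap (polar polarBilin)
open CfsgLib.Classical.Quad CfsgLib.Known.OmegaCriterion

/-- Ω is transitive on totally singular subspaces of each dimension less than half the dimension: for a quadratic form Q on F^n with non-degenerate polar form (F finite; excluding dimension 4 over the field of two elements), if U and W are subspaces of the same dimension k with 2k < n on which Q vanishes, then some element of Ω (the commutator subgroup of the orthogonal group) carries U to W. -/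
theorem result {F : Type*} [Field F] [Fintype F] {n : ℕ} (h : Fintype.card F ≠ 2 ∨ n ≠ 4) (Q : QuadraticForm F (Fin n → F)) (hQ : (QuadraticMap.polarBilin Q).Nondegenerate) (U W : Submodule F (Fin n → F)) {k : ℕ} (hk : 2 * k < n) (hU : Module.finrank F U = k) (hW : Module.finrank F W = k) (hU0 : ∀ u ∈ U, Q u = 0) (hW0 : ∀ w ∈ W, Q w = 0) : ∃ g : ↥(Cfsg.isometryGroup F ⇑Q), g ∈ Cfsg.Omega F ⇑Q ∧ U.map (Matrix.mulVecLin ((g : Matrix.GeneralLinearGroup (Fin n) F) : Matrix (Fin n) (Fin n) F)) = W := by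
  have hex : (∃ c : F, c ≠ 0 ∧ c ≠ 1) ∨ Fintype.card (Fin n) ≠ 4 :=
    hex_of_card (h.imp_right fun h' => by simpa using h')
  have hR := reflGroup_pi_eq_top hQ hex
  rcases Nat.eq_zero_or_pos k with rfl | hk0
  · refine ⟨1, one_mem _, ?_⟩
    rw [Submodule.finrank_eq_zero.1 hU, Submodule.finrank_eq_zero.1 hW, Submodule.map_bot]
  let e : U ≃ₗ[F] W := LinearEquiv.ofFinrankEq U W (hU.trans hW.symm)
  obtain ⟨g₀, hg₀⟩ := witt hQ U (W.subtype.comp e.toLinearMap)
    (W.injective_subtype.comp e.injective) fun u => (hW0 _ (e u).2).trans (hU0 _ u.2).symm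
  refine exists_omega_map_eq hQ hex g₀ ?_ fun p s => ?_
  · refine le_antisymm ?_ fun w hw => ⟨e.symm ⟨w, hw⟩, (e.symm ⟨w, hw⟩).2, ?_⟩
    · rintro _ ⟨u, hu, rfl⟩
      show (g₀ : (Fin n → F) ≃ₗ[F] (Fin n → F)) ((⟨u, hu⟩ : U) : Fin n → F) ∈ W
      rw [hg₀]
      exact (e ⟨u, hu⟩).2
    · show (g₀ : (Fin n → F) ≃ₗ[F] (Fin n → F)) ((e.symm ⟨w, hw⟩ : U) : Fin n → F) = w
      rw [hg₀]
      simp
  obtain ⟨b, hb, hbW⟩ := exists_nonsingular_perp hQ W (by rw [hW, Module.finrank_pi, Fintype.card_fin]; exact hk)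
  obtain ⟨w, hw, hw0⟩ := W.exists_mem_ne_zero_of_ne_bot fun hb => by
    rw [hb, finrank_bot] at hW; omega
  obtain ⟨w', hw', hww', -⟩ := exists_singular_partner hQ (U := ⊥) (hW0 w hw)
    (fun u hu => by rw [(Submodule.mem_bot F).1 hu, QuadraticMap.polar_zero_left]) (by simpa using hw0)
  have hdil : ∀ t : SqClass F, ∃ d : OQ Q,
      W.map ((d : (Fin n → F) ≃ₗ[F] (Fin n → F)) : (Fin n → F) →ₗ[F] (Fin n → F)) = W ∧
        par d = 0 ∧ spinor d = t := fun t => by
    obtain ⟨c, hc, rfl⟩ := exists_sqc_eq t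
    obtain ⟨d, hd, hdp, hds⟩ := exists_dil hQ (hW0 w hw) hw' hww' hc
    refine ⟨d, Submodule.eq_of_le_of_finrank_eq ?_ (LinearEquiv.finrank_map_eq _ W), hdp, hds⟩
    rintro _ ⟨z, hz, rfl⟩
    show (d : (Fin n → F) ≃ₗ[F] (Fin n → F)) z ∈ W
    have hzw : polar Q z w = 0 := by
      simp only [polar, hW0 _ (W.add_mem hz hw), hW0 z hz, hW0 w hw, sub_zero]
    rw [hd, hzw, mul_zero, zero_smul, add_zero]
    exact W.add_mem hz (W.smul_mem _ hw)
  rcases (show ∀ x : ZMod 2, x = 0 ∨ x = 1 by decide) p with rfl | rfl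
  · exact hdil s
  · obtain ⟨d, hd, hdp, hds⟩ := hdil (sqc (Q b) * s)
    refine ⟨refl hb * d, by rw [map_mul_eq, hd, refl_map_eq hb (Or.inr hbW)], ?_, ?_⟩
    · rw [par_refl_mul hQ, hdp, zero_add]
    · rw [spinor_refl_mul hQ, hds, ← mul_assoc, sqClass_mul_self, one_mul]

end Cfsg.Agent.S2633
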