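import Cfsg.Statements.S2634
import Cfsg.Agent.Lib.Known.OmegaCriterion

set_option autoImplicit false
open Cfsg

namespace Cfsg.Agent.S2634

open QuadraticMap (polar polarBilin)
open CfsgLib.Classical.Quad CfsgLib.Known.OmegaCriterion

/-- Over a finite field of characteristic two, Ω (the commutator subgroup of the orthogonal group of a quadratic form Q on F^n with non-degenerate polar form; excluding dimension 4 over the field of two elements) acts transitively on the non-singular 1-spaces: for u, v with Q(u) ≠ 0 and Q(v) ≠ 0 some element of Ω carries the line through u to the line through v. -/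
theorem result {F : Type*} [Field F] [Fintype F] [CharP F 2] {n : ℕ} (h : Fintype.card F ≠ 2 ∨ n ≠ 4) (Q : QuadraticForm F (Fin n → F)) (hQ : (QuadraticMap.polarBilin Q).Nondegenerate) (u v : Fin n → F) (hu : Q u ≠ 0) (hv : Q v ≠ 0) : ∃ g : ↥(Cfsg.isometryGroup F ⇑Q), g ∈ Cfsg.Omega F ⇑Q ∧ (F ∙ ((g : Matrix.GeneralLinearGroup (Fin n) F) : Matrix (Fin n) (Fin n) F).mulVec u) = F ∙ v := by
  have hex : (∃ c : F, c ≠ 0 ∧ c ≠ 1) ∨ Fintype.card (Fin n) ≠ 4 :=
    hex_of_card (h.imp_right fun h' => by simpa using h')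
  obtain ⟨c, hc⟩ := FiniteField.isSquare_of_char_two (ringChar.eq_iff.2 ‹CharP F 2›) (Q u / Q v)
  have hc' : c ≠ 0 := by
    rintro rfl
    rw [mul_zero, div_eq_zero_iff] at hc
    exact hc.elim hu hv
  have hu0 : u ≠ 0 := fun e => hu (by rw [e, QuadraticMap.map_zero])
  have hv0 : v ≠ 0 := fun e => hv (by rw [e, QuadraticMap.map_zero])
  set t := LinearEquiv.toSpanNonzeroSingleton F (Fin n → F) u hu0 with ht
  have htv : ∀ x, ((t x : F ∙ u) : Fin n → F) = x • u := fun x => rfl
  obtain ⟨g₀, hg₀⟩ := witt hQ (F ∙ u) ((LinearMap.toSpanSingleton F (Fin n → F) (c • v)).comp t.symm.toLinearMap)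
    ((smul_left_injective F (smul_ne_zero hc' hv0)).comp t.symm.injective) fun x => by
      obtain ⟨x, rfl⟩ := t.surjective x
      show Q (t.symm (t x) • (c • v)) = _
      rw [LinearEquiv.symm_apply_apply, htv, apply_smul, apply_smul, apply_smul, ← hc, div_mul_cancel₀ _ hv]
  have hgu : (g₀ : (Fin n → F) ≃ₗ[F] (Fin n → F)) u = c • v := by
    have := hg₀ (t 1)
    rw [htv, one_smul] at this
    rw [this]
    show t.symm (t 1) • (c • v) = _
    rw [LinearEquiv.symm_apply_apply, one_smul]
  obtain ⟨g, hg, hgm⟩ := exists_omega_map_eq hQ hex g₀ (U := F ∙ u) (W := F ∙ v) (by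
      rw [Submodule.map_span, Set.image_singleton]
      show F ∙ ((g₀ : (Fin n → F) ≃ₗ[F] (Fin n → F)) u) = _
      rw [hgu, Submodule.span_singleton_smul_eq (isUnit_iff_ne_zero.2 hc')]) fun p s => by
    have hs : ∀ r : OQ Q, spinor r = s := fun r => by
      obtain ⟨hss, -⟩ := Nat.card_eq_one_iff_unique.1 (card_sqClass_of_two_eq_zero (F := F) CharTwo.two_eq_zero)
      exact hss.elim _ _
    rcases (show ∀ x : ZMod 2, x = 0 ∨ x = 1 by decide) p with rfl | rfl
    · exact ⟨1, Submodule.map_id _, par_one hQ, hs _⟩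
    · exact ⟨refl hv, refl_map_eq hv (Or.inl (Submodule.mem_span_singleton_self v)), par_refl hQ hv, hs _⟩
  refine ⟨g, hg, ?_⟩
  rw [← hgm, Submodule.map_span, Set.image_singleton, Matrix.mulVecLin_apply]

end Cfsg.Agent.S2634
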