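import Cfsg.Statements.S2635
import Cfsg.Agent.Lib.Known.OmegaCriterion

set_option autoImplicit false
open Cfsg

namespace Cfsg.Agent.S2635

open QuadraticMap (polar polarBilin)
open CfsgLib.Classical.Quad CfsgLib.Known.OmegaCriterion

/-- Over a finite field of characteristic two, for a quadratic form Q on F^n with non-degenerate polar form, n ≥ 2, other than dimension 4 over the field of two elements, Ω (the commutator subgroup of the orthogonal group) is exactly the subgroup generated by the products of two reflections (orthogonal transvections) x ↦ x − Q(v)⁻¹ f(x, v) v, Q(v) ≠ 0: the products of an even number of reflections. -/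
theorem result {F : Type*} [Field F] [Fintype F] [CharP F 2] {n : ℕ} (hn : 2 ≤ n) (h : Fintype.card F ≠ 2 ∨ n ≠ 4) (Q : QuadraticForm F (Fin n → F)) (hQ : (QuadraticMap.polarBilin Q).Nondegenerate) : Cfsg.Omega F ⇑Q = Subgroup.closure {g : ↥(Cfsg.isometryGroup F ⇑Q) | ∃ u v : Fin n → F, Q u ≠ 0 ∧ Q v ≠ 0 ∧ ((g : Matrix.GeneralLinearGroup (Fin n) F) : Matrix (Fin n) (Fin n) F) = Cfsg.reflectionMatrix ⇑Q u * Cfsg.reflectionMatrix ⇑Q v} := by
  have hex : (∃ c : F, c ≠ 0 ∧ c ≠ 1) ∨ Fintype.card (Fin n) ≠ 4 :=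
    hex_of_card (h.imp_right fun h' => by simpa using h')
  have hs1 : ∀ r : OQ Q, spinor r = 1 := spinor_of_two_eq_zero CharTwo.two_eq_zero
  set P := Subgroup.closure {g : ↥(Cfsg.isometryGroup F ⇑Q) | ∃ u v : Fin n → F, Q u ≠ 0 ∧ Q v ≠ 0 ∧
    ((g : Matrix.GeneralLinearGroup (Fin n) F) : Matrix (Fin n) (Fin n) F) =
      Cfsg.reflectionMatrix ⇑Q u * Cfsg.reflectionMatrix ⇑Q v} with hP
  refine le_antisymm ?_ ((Subgroup.closure_le _).2 ?_)
  · intro g hg
    have hpair : ∀ (u : Fin n → F) (hu : Q u ≠ 0) (v : Fin n → F) (hv : Q v ≠ 0),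
        (oEquiv Q).symm (refl hu * refl hv) ∈ P := fun u hu v hv => by
      refine Subgroup.subset_closure ⟨u, v, hu, hv, ?_⟩
      rw [map_mul, Subgroup.coe_mul, Units.val_mul,
        (oEquiv_eq_refl_iff Q hu _).2 (MulEquiv.apply_symm_apply _ _),
        (oEquiv_eq_refl_iff Q hv _).2 (MulEquiv.apply_symm_apply _ _)]
    have key : ∀ x ∈ reflGroup Q, (par x = 0 → (oEquiv Q).symm x ∈ P) ∧
        (par x = 1 → ∀ (v : Fin n → F) (hv : Q v ≠ 0), (oEquiv Q).symm (refl hv * x) ∈ P) := by
      intro x hx
      rw [reflGroup] at hx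
      induction hx using Subgroup.closure_induction_left with
      | one =>
        refine ⟨fun _ => by rw [map_one]; exact one_mem P, fun e => ?_⟩
        rw [par_one hQ] at e
        exact absurd e (by decide)
      | mul_left r hr y _ hy =>
        obtain ⟨a, ha, rfl⟩ := hr
        refine ⟨fun e => ?_, fun e v hv => ?_⟩ <;> rw [par_refl_mul hQ] at e
        · exact hy.2 (by
            rcases (show ∀ x : ZMod 2, x = 0 ∨ x = 1 by decide) (par y) with e' | e'
            · rw [e'] at e; exact absurd e (by decide)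
            · exact e') a ha
        · rw [← mul_assoc, map_mul]
          refine mul_mem (hpair v hv a ha) (hy.1 ?_)
          simpa using e
      | inv_mul_cancel r hr y _ hy =>
        obtain ⟨a, ha, rfl⟩ := hr
        rw [inv_eq_of_mul_eq_one_left (refl_mul_self ha)]
        refine ⟨fun e => ?_, fun e v hv => ?_⟩ <;> rw [par_refl_mul hQ] at e
        · exact hy.2 (by
            rcases (show ∀ x : ZMod 2, x = 0 ∨ x = 1 by decide) (par y) with e' | e'
            · rw [e'] at e; exact absurd e (by decide)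
            · exact e') a ha
        · rw [← mul_assoc, map_mul]
          refine mul_mem (hpair v hv a ha) (hy.1 ?_)
          simpa using e
    have := (key (oEquiv Q g) (by rw [reflGroup_pi_eq_top hQ hex]; exact Subgroup.mem_top _)).1
      ((mem_Omega_iff hQ hex g).1 hg).1
    rwa [MulEquiv.symm_apply_apply] at this
  · rintro g ⟨u, v, hu, hv, e⟩
    refine (mem_Omega_iff hQ hex g).2 ⟨?_, hs1 _⟩
    rw [oEquiv_eq_of_mulVec g (CfsgLib.Classical.Quad.refl hu * CfsgLib.Classical.Quad.refl hv) fun z => by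
      rw [e, ← Matrix.mulVec_mulVec, reflectionMatrix_mulVec, reflectionMatrix_mulVec]; rfl,
      par_refl_mul hQ, par_refl hQ]
    decide

end Cfsg.Agent.S2635
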