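import Cfsg.Statements.S2636
import Cfsg.Agent.Lib.Known.AutPSL.Field

set_option autoImplicit false
open Cfsg

namespace Cfsg.Agent.S2636

/-- Centraliser of a field automorphism in PGL_n: let F be the field with q = q₀^r elements, σ a field automorphism of F of prime order r (so its fixed field has q₀ elements) and n ≥ 1. The invertible matrices g whose entrywise image under σ is a scalar multiple of g — those whose coset modulo scalars is fixed by σ — number (q − 1)/(q₀ − 1) · |GL_n(q₀)|; equivalently the centraliser in PGL_n(q) of the induced automorphism has the order of PGL_n(q₀). -/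
theorem result {F : Type*} [Field F] [Fintype F] {q₀ r n : ℕ} (hr : r.Prime) (hn : 1 ≤ n) (hF : Fintype.card F = q₀ ^ r) (σ : F ≃+* F) (hσ : orderOf σ = r) : Nat.card {g : GL (Fin n) F // ∃ c : F, c ≠ 0 ∧ (g : Matrix (Fin n) (Fin n) F).map σ = c • (g : Matrix (Fin n) (Fin n) F)} = (q₀ ^ r - 1) / (q₀ - 1) * ∏ i : Fin n, (q₀ ^ n - q₀ ^ (i : ℕ)) := by
  classical
  obtain ⟨p, hc⟩ := CharP.exists F
  haveI := hc
  obtain ⟨f, hp, hq⟩ := FiniteField.card F p
  haveI : Fact p.Prime := ⟨hp⟩
  obtain ⟨hdvd, hL⟩ := CfsgLib.Known.AutPSL.exists_fixed_field hq f.2 σ hσ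
  set L := σ.toRingHom.eqLocusField (RingHom.id F)
  haveI : Fintype L := Fintype.ofFinite L
  have hq0 : Fintype.card L = q₀ := by
    rw [← Nat.card_eq_fintype_card, hL]
    apply Nat.pow_left_injective hr.ne_zero
    show (p ^ ((f : ℕ) / r)) ^ r = q₀ ^ r
    rw [← pow_mul, Nat.div_mul_cancel hdvd, ← hq, hF]
  let j : L →+* F := L.subtype
  have hj : ∀ a : F, σ a = a ↔ a ∈ j.range := fun a => ⟨fun h => ⟨⟨a, h⟩, rfl⟩, fun ⟨b, hb⟩ => hb ▸ b.2⟩
  let ψ : GL (Fin n) L →* GL (Fin n) F := Units.map (RingHom.mapMatrix j).toMonoidHom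
  let Ψ : Fˣ × GL (Fin n) L →* GL (Fin n) F :=
    MonoidHom.noncommCoprod (Matrix.GeneralLinearGroup.scalar (Fin n)) ψ fun a h =>
      Units.ext (Matrix.scalar_commute (a : F) (fun b => Commute.all _ b) _).eq
  have hΨ : ∀ x, ((Ψ x : GL (Fin n) F) : Matrix (Fin n) (Fin n) F) =
      (x.1 : F) • (x.2 : Matrix (Fin n) (Fin n) L).map j := fun x => by
    show ((Matrix.GeneralLinearGroup.scalar (Fin n) x.1 * ψ x.2 : GL (Fin n) F) : Matrix (Fin n) (Fin n) F) = _
    rw [Units.val_mul]
    show _ * (x.2 : Matrix (Fin n) (Fin n) L).map j = _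
    ext u v
    simp
  have hrange : ∀ g : GL (Fin n) F, g ∈ Ψ.range ↔
      ∃ c : F, c ≠ 0 ∧ (g : Matrix (Fin n) (Fin n) F).map σ = c • (g : Matrix (Fin n) (Fin n) F) := by
    intro g
    constructor
    · rintro ⟨x, rfl⟩
      refine ⟨σ x.1 / x.1, div_ne_zero (by simp) x.1.ne_zero, ?_⟩
      ext u v
      rw [hΨ]
      simp only [Matrix.map_apply, Matrix.smul_apply, smul_eq_mul, map_mul,
        (hj (j ((x.2 : Matrix (Fin n) (Fin n) L) u v))).2 ⟨_, rfl⟩]
      field_simp
    · rintro ⟨c, hc0, hcg⟩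
      obtain ⟨i, k, hik⟩ : ∃ i k, (g : Matrix (Fin n) (Fin n) F) i k ≠ 0 := by
        by_contra hcon
        push Not at hcon
        haveI : Nonempty (Fin n) := ⟨⟨0, hn⟩⟩
        exact g.ne_zero (Matrix.ext hcon)
      set a := (g : Matrix (Fin n) (Fin n) F) i k with ha
      have hca : σ a = c * a := congrFun₂ hcg i k
      have hfix : ∀ u v, (g : Matrix (Fin n) (Fin n) F) u v / a ∈ j.range := fun u v => by
        rw [← hj, map_div₀, hca, show σ ((g : Matrix (Fin n) (Fin n) F) u v) = _ from congrFun₂ hcg u v]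
        rw [Matrix.smul_apply, smul_eq_mul, mul_div_mul_left _ _ hc0]
      choose m hm using hfix
      have hmap : (Matrix.of m).map j = a⁻¹ • (g : Matrix (Fin n) (Fin n) F) := by
        ext u v
        simp [hm, div_eq_inv_mul]
      have hdet : IsUnit (Matrix.of m).det := by
        rw [isUnit_iff_ne_zero, ← map_ne_zero j, RingHom.map_det]
        show ((Matrix.of m).map j).det ≠ 0
        rw [hmap, Matrix.det_smul]
        exact mul_ne_zero (pow_ne_zero _ (inv_ne_zero hik)) (Matrix.GeneralLinearGroup.det g).ne_zero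
      refine ⟨(Units.mk0 a hik, Matrix.GeneralLinearGroup.mk'' _ hdet), Units.ext ?_⟩
      rw [hΨ]
      show a • (Matrix.of m).map j = _
      rw [hmap, smul_inv_smul₀ hik]
  have hker : Nat.card Ψ.ker = q₀ - 1 := by
    rw [← hq0, ← CfsgLib.Classical.card_units_field (F := L)]
    refine (Nat.card_congr (Equiv.ofBijective (fun u : Lˣ => (⟨((Units.map (j : L →* F) u)⁻¹,
      Matrix.GeneralLinearGroup.scalar (Fin n) u), ?_⟩ : Ψ.ker)) ⟨?_, ?_⟩)).symm
    · rw [MonoidHom.mem_ker]
      apply Units.ext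
      rw [hΨ]
      have h0 : j (u : L) ≠ 0 := (map_ne_zero j).2 u.ne_zero
      ext a b
      by_cases hab : a = b <;> simp [hab, h0]
    · intro u v huv
      have h := congrArg (fun x : Ψ.ker => (x : Fˣ × GL (Fin n) L).1) huv
      exact Units.map_injective (f := (j : L →* F)) j.injective (inv_injective h)
    · rintro ⟨⟨a, h⟩, hm⟩
      rw [MonoidHom.mem_ker] at hm
      have hmat := congrArg Units.val hm
      rw [hΨ, Units.val_one] at hmat
      let i0 : Fin n := ⟨0, hn⟩
      have h00 := congrFun₂ hmat i0 i0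
      simp only [Matrix.smul_apply, Matrix.map_apply, Matrix.one_apply_eq, smul_eq_mul] at h00
      have hne : (h : Matrix (Fin n) (Fin n) L) i0 i0 ≠ 0 := fun h0 => by simp [h0] at h00
      refine ⟨Units.mk0 _ hne, Subtype.ext (Prod.ext ?_ ?_)⟩
      · exact inv_eq_of_mul_eq_one_left (Units.ext (by simpa using h00))
      · apply Units.ext
        ext u v
        have huv := congrFun₂ hmat u v
        simp only [Matrix.smul_apply, Matrix.map_apply, smul_eq_mul] at huv
        rcases eq_or_ne u v with rfl | hne'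
        · rw [Matrix.one_apply_eq] at huv
          have := mul_left_cancel₀ a.ne_zero (huv.trans h00.symm)
          simpa [j] using this.symm
        · rw [Matrix.one_apply_ne hne', mul_eq_zero, or_iff_right a.ne_zero] at huv
          simpa [j, hne'] using huv.symm
  have h1 := Ψ.ker.card_mul_index
  rw [Subgroup.index_ker, hker, Nat.card_prod, CfsgLib.Classical.card_units_field, hF, Matrix.card_GL_field, hq0] at h1
  rw [show Nat.card {g : GL (Fin n) F // ∃ c : F, c ≠ 0 ∧ (g : Matrix (Fin n) (Fin n) F).map σ =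
    c • (g : Matrix (Fin n) (Fin n) F)} = Nat.card Ψ.range from
    Nat.card_congr (Equiv.subtypeEquivRight fun g => (hrange g).symm)]
  have h2 : 2 ≤ q₀ := hq0 ▸ Fintype.one_lt_card
  have hdiv : q₀ - 1 ∣ q₀ ^ r - 1 := by simpa using Nat.sub_dvd_pow_sub_pow q₀ 1 r
  apply Nat.eq_of_mul_eq_mul_left (show 0 < q₀ - 1 by omega)
  rw [h1, ← mul_assoc, Nat.mul_div_cancel' hdiv]

end Cfsg.Agent.S2636
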