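import Cfsg.Statements.S2638
import Cfsg.Agent.Lib.Known.SemisimpleClass

set_option autoImplicit false
open Cfsg

namespace Cfsg.Agent.S2638

/-- If an element x of GL_n(q), n ≥ 1, has prime order r and the multiplicative order of q modulo r is n (r is a primitive prime divisor of q^n − 1, so x acts irreducibly), then the centraliser of x in GL_n(q) is cyclic of order q^n − 1 (the multiplicative group of the field with q^n elements, a Singer cycle). -/
theorem result {F : Type*} [Field F] [Fintype F] {p q : ℕ} [Fact p.Prime] [CharP F p] (hF : Fintype.card F = q) {n r : ℕ} (hn : 1 ≤ n) (hr : r.Prime) (hrp : r ≠ p) (hi : orderOf (q : ZMod r) = n) (x : GL (Fin n) F) (hx : orderOf x = r) : IsCyclic ↥(Subgroup.centralizer ({x} : Set (GL (Fin n) F))) ∧ Nat.card ↥(Subgroup.centralizer ({x} : Set (GL (Fin n) F))) = q ^ n - 1 := by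
  classical
  haveI : Nonempty (Fin n) := ⟨⟨0, hn⟩⟩
  haveI : Fact r.Prime := ⟨hr⟩
  obtain ⟨f₀, hf₀, hq⟩ := FiniteField.card F p
  have hcop : p.Coprime r := (Nat.coprime_primes Fact.out hr).2 (Ne.symm hrp)
  have hord : orderOf (ZMod.unitOfCoprime _ (hcop.pow_left (f₀ : ℕ))) = n := by
    rw [← orderOf_units, ZMod.coe_unitOfCoprime, ← hq, hF, hi]
  let A := Matrix.toLinAlgEquiv' (R := F) (n := Fin n)
  set T : Module.End F (Fin n → F) := A (x : Matrix (Fin n) (Fin n) F) with hT
  have hTr : T ^ r = 1 := by
    rw [hT, ← map_pow, ← Units.val_pow_eq_pow_val, orderOf_dvd_iff_pow_eq_one.1 (hx ▸ dvd_rfl), Units.val_one, map_one]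
  have hrF : (r : F) ≠ 0 := by
    rw [Ne, CharP.cast_eq_zero_iff F p]
    exact fun h => hrp ((Nat.prime_dvd_prime_iff_eq Fact.out hr).1 h).symm
  have hTnil : T ≠ 1 := fun h => hr.ne_one (hx ▸ orderOf_eq_one_iff.2 (Units.ext (A.injective (by rw [Units.val_one, map_one]; exact h))))
  -- the minimal polynomial has a cyclotomic factor
  obtain ⟨f, hfm, hf, hfc, hfd⟩ : ∃ f : Polynomial F, f.Monic ∧ Irreducible f ∧ f ∣ Polynomial.cyclotomic r F ∧
      f ∣ T.charpoly := by
    have hmd : minpoly F T ∣ Polynomial.X ^ r - 1 := minpoly.dvd F T (by simp [hTr])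
    by_contra hcon
    push Not at hcon
    have hdvd : minpoly F T ∣ Polynomial.X - 1 := by
      have hcop' : IsCoprime (minpoly F T) (Polynomial.cyclotomic r F) := by
        refine isCoprime_of_irreducible_dvd (fun h => minpoly.ne_zero (Algebra.IsIntegral.isIntegral T) h.1) ?_
        intro g hg hgm hgc
        have h1 := hcon (normalize g) (Polynomial.monic_normalize hg.ne_zero)
          ((normalize_associated g).symm.irreducible hg) (normalize_dvd_iff.2 hgc)
        exact h1 (normalize_dvd_iff.2 (hgm.trans (LinearMap.minpoly_dvd_charpoly T)))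
      rw [← Polynomial.cyclotomic_prime_mul_X_sub_one F r, mul_comm] at hmd
      exact hcop'.dvd_of_dvd_mul_right hmd
    obtain ⟨c, hc⟩ := hdvd
    have h0 := congrArg (Polynomial.aeval T) hc
    rw [map_mul, minpoly.aeval, zero_mul, map_sub, Polynomial.aeval_X, map_one, sub_eq_zero] at h0
    exact hTnil h0
  have hfn : f.natDegree = n := by rw [Polynomial.natDegree_of_dvd_cyclotomic_of_irreducible hq hcop hfc hf, hord]
  obtain ⟨W, T', e, -, -, hTe, -, hWd⟩ := CfsgLib.Known.SemisimpleClass.exists_split T hTr hrF hfm hf hfd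
  haveI : Fact (Irreducible f) := ⟨hf⟩
  haveI : FiniteDimensional F (AdjoinRoot f) := (AdjoinRoot.powerBasis hf.ne_zero).finite
  haveI : Finite (AdjoinRoot f) := Module.finite_of_finite F
  have hW0 : Module.finrank F W = 0 := by rw [Module.finrank_fin_fun, hfn] at hWd; omega
  haveI : Subsingleton W := Module.finrank_zero_iff.1 hW0
  let E : AdjoinRoot f ≃ₗ[F] (Fin n → F) := LinearEquiv.ofBijective (e.toLinearMap.comp (LinearMap.inl F _ W))
    ⟨fun a b h => congrArg Prod.fst (e.injective h), fun y => by
      obtain ⟨⟨a, b⟩, rfl⟩ := e.surjective y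
      exact ⟨a, congrArg e (Prod.ext rfl (Subsingleton.elim _ _))⟩⟩
  have hE : ∀ a, T (E a) = E (AdjoinRoot.root f * a) := fun a => by
    show T (e (a, 0)) = e (AdjoinRoot.root f * a, 0)
    rw [hTe, LinearEquiv.conj_apply_apply, e.symm_apply_apply]
    exact congrArg e (Prod.ext rfl (map_zero T'))
  let Ψ : AdjoinRoot f →* Matrix (Fin n) (Fin n) F :=
    (A.symm : Module.End F (Fin n → F) →* Matrix (Fin n) (Fin n) F).comp
      ((E.conjRingEquiv : Module.End F (AdjoinRoot f) →* Module.End F (Fin n → F)).comp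
        (Algebra.lmul F (AdjoinRoot f) : AdjoinRoot f →* Module.End F (AdjoinRoot f)))
  have hΨ : ∀ a b, A (Ψ a) (E b) = E (a * b) := fun a b => by
    show A (A.symm (E.conj (Algebra.lmul F (AdjoinRoot f) a))) (E b) = _
    rw [A.apply_symm_apply, LinearEquiv.conj_apply_apply, E.symm_apply_apply]
    rfl
  let φ : (AdjoinRoot f)ˣ →* GL (Fin n) F := Units.map Ψ
  have hφ : Function.Injective φ := fun a b h => by
    have h' := congrArg (fun g : GL (Fin n) F => A (g : Matrix (Fin n) (Fin n) F) (E 1)) h
    simp only [φ, Units.coe_map, hΨ, mul_one] at h'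
    exact Units.ext (E.injective h')
  have hrange : φ.range = Subgroup.centralizer ({x} : Set (GL (Fin n) F)) := by
    have hroot : (x : Matrix (Fin n) (Fin n) F) = Ψ (AdjoinRoot.root f) := A.injective (LinearMap.ext fun v => by
      obtain ⟨a, rfl⟩ := E.surjective v
      rw [hΨ, ← hE])
    ext g
    rw [Subgroup.mem_centralizer_singleton_iff]
    constructor
    · rintro ⟨a, rfl⟩
      refine Units.ext ?_
      rw [Units.val_mul, Units.val_mul, hroot]
      show Ψ a * Ψ _ = Ψ _ * Ψ a
      rw [← map_mul, ← map_mul, mul_comm]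
    · intro hg
      have hg' : ∀ a, A (g : Matrix (Fin n) (Fin n) F) (T (E a)) = T (A (g : Matrix (Fin n) (Fin n) F) (E a)) := fun a => by
        rw [hT, ← Module.End.mul_apply, ← Module.End.mul_apply, ← map_mul, ← map_mul, ← Units.val_mul, ← Units.val_mul, hg]
      let G : Module.End F (AdjoinRoot f) := E.symm.conj (A (g : Matrix (Fin n) (Fin n) F))
      have hG : ∀ a, G (AdjoinRoot.root f * a) = AdjoinRoot.root f * G a := fun a => by
        apply E.injective
        simp only [G, LinearEquiv.conj_apply_apply, LinearEquiv.symm_symm, LinearEquiv.apply_symm_apply]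
        rw [← hE, hg', ← hE, E.apply_symm_apply]
      have hGall : ∀ a, G a = G 1 * a := by
        intro a
        obtain ⟨P, rfl⟩ := AdjoinRoot.mk_surjective a
        induction P using Polynomial.induction_on with
        | C c =>
          rw [AdjoinRoot.mk_C, show AdjoinRoot.of f c = c • (1 : AdjoinRoot f) by
            rw [← AdjoinRoot.algebraMap_eq, Algebra.algebraMap_eq_smul_one], map_smul, mul_smul_comm, mul_one]
        | add P Q hP hQ => rw [map_add, map_add, hP, hQ, mul_add]
        | monomial k c h =>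
          rw [pow_succ', ← mul_assoc, mul_comm _ Polynomial.X, mul_assoc, map_mul, AdjoinRoot.mk_X, hG, h]
          ring
      have h1 : G 1 ≠ 0 := by
        intro h0
        obtain ⟨a, ha⟩ := (Module.End.isUnit_iff _).1 ((g.isUnit).map A) |>.2 (E 1)
        obtain ⟨a', rfl⟩ := E.surjective a
        have h2 := hGall a'
        rw [h0, zero_mul] at h2
        simp only [G, LinearEquiv.conj_apply_apply, LinearEquiv.symm_symm] at h2
        rw [ha, E.symm_apply_apply] at h2
        exact one_ne_zero h2
      refine ⟨Units.mk0 (G 1) h1, Units.ext (A.injective (LinearMap.ext fun v => ?_))⟩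
      obtain ⟨a, rfl⟩ := E.surjective v
      show A (Ψ (G 1)) (E a) = _
      rw [hΨ, ← hGall]
      simp [G, LinearEquiv.conj_apply_apply]
  rw [← hrange]
  haveI : Fintype (AdjoinRoot f) := Fintype.ofFinite _
  refine ⟨isCyclic_of_surjective φ.rangeRestrict φ.rangeRestrict_surjective, ?_⟩
  rw [← Nat.card_congr (MonoidHom.ofInjective hφ).toEquiv, Nat.card_units,
    Nat.card_eq_fintype_card, Module.card_eq_pow_finrank (K := F) (V := AdjoinRoot f),
    (AdjoinRoot.powerBasis hf.ne_zero).finrank]
  show Fintype.card F ^ f.natDegree - 1 = q ^ n - 1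
  rw [hF, hfn]

end Cfsg.Agent.S2638
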