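import Cfsg.Statements.S2644
import Cfsg.Agent.Lib.Classical.Unitary.Matrix
import Cfsg.Agent.Lib.Classical.Unitary.Structure
import Cfsg.Agent.Lib.Known.Transvections

set_option autoImplicit false
open Cfsg

namespace Cfsg.Agent.S2644

open CfsgLib.Classical Herm in
theorem exists_tr {K : Type*} [Field K] [Fintype K] {q n : ℕ} (hK : Fintype.card K = q ^ 2)
    (s : ↥(Cfsg.SU n K q))
    (hs : Cfsg.IsTransvection ((s : Matrix.SpecialLinearGroup (Fin n) K) : Matrix (Fin n) (Fin n) K)) :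
    ∃ (u : Fin n → K) (hu : hermStd n hK u u = 0) (c : K) (hc : c + powHom hK c = 0), u ≠ 0 ∧ c ≠ 0 ∧
      ((suEquiv n hK s : HSU (hermStd n hK)) : HU (hermStd n hK)) = (hermStd_isHerm hK).tr hu hc := by
  have h := hermStd_isHerm (n := n) hK
  obtain ⟨a, φ, ha, hφ, hφa, hM⟩ := CfsgLib.Known.Transvections.exists_vecMulVec _ hs
  set B := hermStd n hK
  set g : HU B := ((suEquiv n hK s : HSU B) : HU B)
  have hg : ∀ y : Fin n → K, (g : (Fin n → K) ≃ₗ[K] (Fin n → K)) y = y + (φ ⬝ᵥ y) • a := fun y => by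
    show ((s : Matrix.SpecialLinearGroup (Fin n) K) : Matrix (Fin n) (Fin n) K).mulVec y = _
    rw [eq_add_of_sub_eq hM, Matrix.add_mulVec, Matrix.one_mulVec, Matrix.vecMulVec_mulVec, op_smul_eq_smul]
    exact add_comm _ _
  have hp : ∀ y z, powHom hK (φ ⬝ᵥ y) * B a z + (φ ⬝ᵥ z) * B y a + powHom hK (φ ⬝ᵥ y) * (φ ⬝ᵥ z) * B a a = 0 := by
    intro y z
    have h1 := HU.map_eq g y z
    rw [hg, hg, map_add (B (y + _)), LinearMap.map_add, LinearMap.add_apply, LinearMap.add_apply, smul_left,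
      smul_right, smul_left, smul_right] at h1
    linear_combination h1
  obtain ⟨z₁, hz₁⟩ : ∃ z, φ ⬝ᵥ z ≠ 0 := by
    by_contra hcon
    push Not at hcon
    exact hφ (funext fun i => by simpa using hcon (Pi.single i 1))
  have haa : B a a = 0 := by
    have h1 := hp a z₁
    rw [hφa, map_zero, zero_mul, zero_mul, zero_mul, zero_add, add_zero] at h1
    exact (mul_eq_zero.1 h1).resolve_left hz₁
  obtain ⟨z₀, hz₀⟩ := h.exists_apply_eq_one ha
  set c := -powHom hK (φ ⬝ᵥ z₀)
  have hsym : ∀ y, B y a = powHom hK (B a y) := fun y => (h.symm a y).symm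
  have hφy : ∀ y, φ ⬝ᵥ y = c * B a y := fun y => by
    have h1 := hp y z₀
    rw [haa, hz₀, hsym] at h1
    have h2 := congrArg (powHom hK) h1
    simp only [map_add, map_mul, map_zero, map_one, h.invol.invol] at h2
    linear_combination h2
  have hc : c + powHom hK c = 0 := by
    have h1 := hφy z₀
    rw [hz₀, mul_one] at h1
    rw [show powHom hK c = -(φ ⬝ᵥ z₀) by simp only [c, map_neg, h.invol.invol], h1]
    ring
  refine ⟨a, haa, c, hc, ha, ?_, ?_⟩
  · intro h0
    refine hz₁ ?_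
    rw [hφy, h0, zero_mul]
  · ext y i
    rw [hg, IsHerm.tr_apply, hφy]

open CfsgLib.Classical Herm in
theorem tr_smul {K : Type*} [Field K] [Fintype K] {q n : ℕ} (hK : Fintype.card K = q ^ 2) {u : Fin n → K}
    (hu : hermStd n hK u u = 0) (l c : K) (hc : c + powHom hK c = 0)
    (hlu : hermStd n hK (l • u) (l • u) = 0) {c' : K} (hc' : c' + powHom hK c' = 0)
    (he : l * powHom hK l * c = c') :
    (hermStd_isHerm hK).tr hlu hc = (hermStd_isHerm hK).tr hu hc' := by
  ext y i
  rw [IsHerm.tr_apply, IsHerm.tr_apply, smul_left, smul_smul, ← he]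
  congr 2
  ring


/-- In the special unitary group SU_n(q) with n ≥ 3 (isometries of Σ u_i v_i^q of determinant one over the field with q² elements), any two transvections (elements t with t − 1 of rank one and square zero) are conjugate. -/
theorem result {K : Type*} [Field K] [Fintype K] {q n : ℕ} (hK : Fintype.card K = q ^ 2) (hn : 3 ≤ n) (s t : ↥(Cfsg.SU n K q)) (hs : Cfsg.IsTransvection (((s : GL (Fin n) K) : Matrix (Fin n) (Fin n) K))) (ht : Cfsg.IsTransvection (((t : GL (Fin n) K) : Matrix (Fin n) (Fin n) K))) : IsConj s t := by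
  classical
  have h := CfsgLib.Classical.Herm.hermStd_isHerm (n := n) hK
  obtain ⟨u, hu, c, hc, hu0, hc0, hs'⟩ := exists_tr hK s hs
  obtain ⟨u', hu', c', hc', hu0', hc0', ht'⟩ := exists_tr hK t ht
  have hinv := CfsgLib.Classical.Herm.powHom_isInvol hK
  obtain ⟨l, hl⟩ := hinv.exists_norm_eq (μ := c' / c) (by
    rw [map_div₀, eq_neg_of_add_eq_zero_right hc', eq_neg_of_add_eq_zero_right hc, neg_div_neg_eq])
  have hl0 : l ≠ 0 := fun h0 => by
    rw [h0, zero_mul, eq_comm, div_eq_zero_iff] at hl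
    exact hl.elim hc0' hc0
  have hlu : CfsgLib.Classical.Herm.hermStd n hK (l • u') (l • u') = 0 := by
    rw [CfsgLib.Classical.Herm.IsHerm.smul_self, hu', mul_zero]
  obtain ⟨g, hg, hgu⟩ := h.transitive_isotropic (by rw [Module.finrank_fin_fun]; exact hn) hu0
    (smul_ne_zero hl0 hu0') hu hlu
  obtain ⟨x, hx⟩ := (CfsgLib.Classical.Herm.suEquiv n hK).surjective ⟨g, h.trGroup_le hg⟩
  refine isConj_iff.2 ⟨x, (CfsgLib.Classical.Herm.suEquiv n hK).injective (Subtype.ext ?_)⟩
  rw [map_mul, map_mul, map_inv, hx, Subgroup.coe_mul, Subgroup.coe_mul, Subgroup.coe_inv, hs', ht']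
  show g * h.tr hu hc * g⁻¹ = h.tr hu' hc'
  rw [h.conj_tr hu hc g]
  simp only [hgu]
  exact tr_smul hK hu' l c hc hlu hc' (by rw [hl]; field_simp)

end Cfsg.Agent.S2644
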