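import Cfsg.Statements.S2653
import Cfsg.Agent.Lib.Perm.AltSection.Reduce

set_option autoImplicit false
open scoped MatrixGroups
open Cfsg

namespace Cfsg.Agent.S2653

/-- Alternating sections of finite linear groups. Let `F` be a finite field of characteristic `p` and `n` a natural number, and suppose some subgroup `H` of GL_n(F) has a normal subgroup `K` with `H ⧸ K` isomorphic to the alternating group of degree `r ≥ 9`. Then `n ≥ r - 2` when `p` divides `r`, and `n ≥ r - 1` otherwise (the smallest degree of a nontrivial projective representation of that alternating group in characteristic `p`). The same bound follows for every classical group with natural module of dimension `n` over `F`, since each is a section of a subgroup of GL_n(F). -/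
theorem result {F : Type*} [Field F] [Fintype F] (p : ℕ) [Fact p.Prime] [CharP F p]
    (n : ℕ) (r : ℕ) (H : Subgroup (GL (Fin n) F)) (K : Subgroup ↥H) [K.Normal]
    (h : Nonempty (↥H ⧸ K ≃* ↥(alternatingGroup (Fin r)))) (hr : 9 ≤ r) :
    r - 1 - (if p ∣ r then 1 else 0) ≤ n := by
  classical
  let k : Type := AlgebraicClosure (ZMod p)
  haveI : CharP k p :=
    charP_of_injective_algebraMap (RingHom.injective (algebraMap (ZMod p) k)) p
  letI : Algebra (ZMod p) F := ZMod.algebra F p
  haveI : Algebra.IsAlgebraic (ZMod p) F := Algebra.IsAlgebraic.of_finite (ZMod p) F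
  let φ : F →ₐ[ZMod p] k := IsAlgClosed.lift
  let f : Matrix (Fin n) (Fin n) F →* Module.End k (Fin n → k) :=
    (Matrix.toLinAlgEquiv' (R := k) (n := Fin n)).toMonoidHom.comp
      φ.toRingHom.mapMatrix.toMonoidHom
  have hf : Function.Injective f := fun a b h =>
    Matrix.map_injective φ.toRingHom.injective
      ((Matrix.toLinAlgEquiv' (R := k) (n := Fin n)).injective h)
  let g : GL (Fin n) F →* (Module.End k (Fin n → k))ˣ := Units.map f
  have hg : Function.Injective g := Units.map_injective hf
  let e := H.equivMapOfInjective g hg
  obtain ⟨iso⟩ := h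
  let π : H.map g →* alternatingGroup (Fin r) :=
    (iso.toMonoidHom.comp (QuotientGroup.mk' K)).comp e.symm.toMonoidHom
  have hsurj : Function.Surjective π :=
    (iso.surjective.comp (QuotientGroup.mk'_surjective K)).comp e.symm.surjective
  haveI : Finite H := inferInstance
  have hfin : Finite (H.map g : Subgroup (Module.End k (Fin n → k))ˣ) :=
    Finite.of_equiv _ e.toEquiv
  exact CfsgLib.Perm.AltSection.sectionBound_aux hr n k p (Fin n → k) (by simp)
    ⟨H.map g, hfin, π, hsurj⟩

end Cfsg.Agent.S2653
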