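import Cfsg.Statements.S2666

set_option autoImplicit false
open Cfsg

namespace Cfsg.Agent.S2666

theorem mem_loc {X : Type*} [Group X] (τ : MulAut X) (x : X) :
    x ∈ (MulEquiv.toMonoidHom τ).eqLocus (MonoidHom.id X) ↔ τ x = x := Iff.rfl


/-- Shintani descent, in an abstract form. Let `σ` be an automorphism of a group `X` such that the maps `a ↦ a·σ(a)⁻¹` and `a ↦ a·σᵉ(a)⁻¹` are surjective on `X` (the Lang–Steinberg property, which holds when `X` is a connected algebraic group and `σ` a Steinberg endomorphism), where `e ≥ 1`. Write `G` for the subgroup of fixed points of `σᵉ` and `H` for the subgroup of fixed points of `σ`. The `G`-conjugacy classes in the coset `G σ` of the semidirect product of `G` by `σ` correspond to the orbits of `G` on itself under twisted conjugation `g ↦ k g σ(k)⁻¹`, and the `e`-th power of `g σ` has `G`-part the norm `g σ(g) ⋯ σ^(e-1)(g)`. For `g` in `G` and any `a` with `g = a σ(a)⁻¹`, put `x = σᵉ(a)⁻¹ a`. Then: (1)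 `x` lies in `H`, and `a⁻¹ · (g σ(g) ⋯ σ^(e-1)(g)) · a = x`; (2) for `g, g'` in `G` with such elements `a, b` and `x, x'`, the elements `g, g'` are twisted-conjugate under `G` if and only if `x, x'` are conjugate in `H`; (3) every element of `H` arises as such an `x`. So `g ↦ x` induces a well-defined bijection from the twisted `G`-classes of `G` onto the conjugacy classes of `H` (the Shintani map). -/
theorem result {X : Type*} [Group X] (σ : MulAut X) (e : ℕ) (he : 1 ≤ e)
    (hL : ∀ g : X, ∃ a : X, g = a * (σ a)⁻¹) (hLe : ∀ g : X, ∃ a : X, g = a * ((σ ^ e) a)⁻¹) :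
    (∀ g ∈ (MulEquiv.toMonoidHom (σ ^ e)).eqLocus (MonoidHom.id X), ∀ a : X, g = a * (σ a)⁻¹ →
        ((σ ^ e) a)⁻¹ * a ∈ (MulEquiv.toMonoidHom σ).eqLocus (MonoidHom.id X) ∧
          a⁻¹ * ((List.range e).map (fun i => (σ ^ i) g)).prod * a = ((σ ^ e) a)⁻¹ * a) ∧
    (∀ g ∈ (MulEquiv.toMonoidHom (σ ^ e)).eqLocus (MonoidHom.id X), ∀ g' ∈ (MulEquiv.toMonoidHom (σ ^ e)).eqLocus (MonoidHom.id X), ∀ a b : X,
        g = a * (σ a)⁻¹ → g' = b * (σ b)⁻¹ →
          ((∃ k ∈ (MulEquiv.toMonoidHom (σ ^ e)).eqLocus (MonoidHom.id X), g' = k * g * (σ k)⁻¹) ↔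
            (∃ h ∈ (MulEquiv.toMonoidHom σ).eqLocus (MonoidHom.id X), ((σ ^ e) b)⁻¹ * b = h * (((σ ^ e) a)⁻¹ * a) * h⁻¹))) ∧
    (∀ x ∈ (MulEquiv.toMonoidHom σ).eqLocus (MonoidHom.id X), ∃ g ∈ (MulEquiv.toMonoidHom (σ ^ e)).eqLocus (MonoidHom.id X), ∃ a : X,
        g = a * (σ a)⁻¹ ∧ ((σ ^ e) a)⁻¹ * a = x) := by
  simp only [mem_loc]
  have hfix : ∀ {τ : MulAut X} {y : X}, τ y = y → ∀ n : ℕ, (τ ^ n) y = y := by
    intro τ y hy n
    induction n with
    | zero => simp
    | succ n ih => rw [pow_succ, MulAut.mul_apply, hy, ih]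
  have key : ∀ g a : X, (σ ^ e) g = g → g = a * (σ a)⁻¹ →
      σ (((σ ^ e) a)⁻¹ * a) = ((σ ^ e) a)⁻¹ * a := by
    intro g a hg ha
    rw [ha, map_mul, map_inv, ← MulAut.mul_apply, ← pow_succ, pow_succ', MulAut.mul_apply] at hg
    rw [map_mul, map_inv]
    calc (σ ((σ ^ e) a))⁻¹ * σ a
        = ((σ ^ e) a)⁻¹ * ((σ ^ e) a * (σ ((σ ^ e) a))⁻¹) * σ a := by group
      _ = _ := by rw [hg]; group
  refine ⟨fun g hg a ha => ⟨key g a hg ha, ?_⟩, ?_, ?_⟩
  · have hprod : ∀ n : ℕ, ((List.range n).map (fun i => (σ ^ i) g)).prod = a * ((σ ^ n) a)⁻¹ := by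
      intro n
      induction n with
      | zero => simp
      | succ n ih =>
        rw [List.range_succ, List.map_append, List.prod_append, ih, List.map_singleton,
          List.prod_singleton, ha, map_mul, map_inv, ← MulAut.mul_apply, ← pow_succ]
        group
    rw [hprod]
    group
  · intro g hg g' hg' a b ha hb
    set x := ((σ ^ e) a)⁻¹ * a with hx
    constructor
    · rintro ⟨k, hk, hkg⟩
      refine ⟨b⁻¹ * k * a, ?_, ?_⟩
      · rw [hb, ha] at hkg
        rw [map_mul, map_mul, map_inv]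
        calc (σ b)⁻¹ * σ k * σ a = b⁻¹ * (b * (σ b)⁻¹) * σ k * σ a := by group
          _ = b⁻¹ * (k * (a * (σ a)⁻¹) * (σ k)⁻¹) * σ k * σ a := by rw [hkg]
          _ = _ := by group
      · have hh : σ (b⁻¹ * k * a) = b⁻¹ * k * a := by
          rw [hb, ha] at hkg
          rw [map_mul, map_mul, map_inv]
          calc (σ b)⁻¹ * σ k * σ a = b⁻¹ * (b * (σ b)⁻¹) * σ k * σ a := by group
            _ = b⁻¹ * (k * (a * (σ a)⁻¹) * (σ k)⁻¹) * σ k * σ a := by rw [hkg]
            _ = _ := by group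
        set h := b⁻¹ * k * a with h_def
        have hb' : b = k * a * h⁻¹ := by rw [h_def]; group
        rw [hb', map_mul, map_mul, map_inv, hk, hfix hh e, hx]
        group
    · rintro ⟨h, hh, hbx⟩
      refine ⟨b * h * a⁻¹, ?_, ?_⟩
      · have heb : (σ ^ e) b = b * (h * x * h⁻¹)⁻¹ := by rw [← hbx]; group
        have hea : (σ ^ e) a = a * x⁻¹ := by rw [hx]; group
        rw [map_mul, map_mul, map_inv, hfix hh e, heb, hea]
        group
      · rw [ha, hb, map_mul, map_mul, map_inv, hh]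
        group
  · intro x hx
    obtain ⟨c, hc⟩ := hLe x⁻¹
    obtain ⟨a, ha⟩ : ∃ a : X, a = c⁻¹ := ⟨_, rfl⟩
    have hxa : ((σ ^ e) a)⁻¹ * a = x := by
      rw [ha, map_inv, inv_inv, eq_comm, ← inv_inj, hc]; group
    refine ⟨a * (σ a)⁻¹, ?_, a, rfl, hxa⟩
    have hea : (σ ^ e) a = a * x⁻¹ := by rw [← hxa]; group
    rw [map_mul, map_inv, ← MulAut.mul_apply, ← pow_succ, pow_succ', MulAut.mul_apply, hea,
      map_mul, map_inv, hx]
    group

end Cfsg.Agent.S2666
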