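import Cfsg.Statements.S2667

set_option autoImplicit false
open Cfsg

namespace Cfsg.Agent.S2667

theorem mem_loc {X : Type*} [Group X] (τ : MulAut X) (x : X) :
    x ∈ (MulEquiv.toMonoidHom τ).eqLocus (MonoidHom.id X) ↔ τ x = x := Iff.rfl


/-- Shintani descent, in an abstract form. Let `σ` be an automorphism of a group `X` and `e ≥ 1` (no surjectivity of the Lang maps is needed for this part; in the classical setting `X` is a connected algebraic group and `σ` a Steinberg endomorphism). Write `G` for the subgroup of fixed points of `σᵉ` and `H` for the subgroup of fixed points of `σ`. The `G`-conjugacy classes in the coset `G σ` of the semidirect product of `G` by `σ` correspond to the orbits of `G` on itself under twisted conjugation `g ↦ k g σ(k)⁻¹`, and the `e`-th power of `g σ` has `G`-part the norm `g σ(g) ⋯ σ^(e-1)(g)`. For `g` in `G` and any `a` with `g = a σ(a)⁻¹`, put `x = σᵉ(a)⁻¹ a`. Then conjugation by `a⁻¹` carries the twisted centralizer `{k ∈ G : k g σ(k)⁻¹ = g}` (the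 centralizer of `g σ` in `G`) exactly onto the centralizer of `x` in `H`: an element `k` of `X` lies in `G` and satisfies `k g σ(k)⁻¹ = g` if and only if `a⁻¹ k a` lies in `H` and commutes with `x`. In particular the two centralizers are conjugate in `X` and have the same order. -/
theorem result {X : Type*} [Group X] (σ : MulAut X) (e : ℕ) (he : 1 ≤ e)
    (g : X) (hg : g ∈ (MulEquiv.toMonoidHom (σ ^ e)).eqLocus (MonoidHom.id X)) (a : X) (ha : g = a * (σ a)⁻¹) (k : X) :
    (k ∈ (MulEquiv.toMonoidHom (σ ^ e)).eqLocus (MonoidHom.id X) ∧ k * g * (σ k)⁻¹ = g) ↔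
      (a⁻¹ * k * a ∈ (MulEquiv.toMonoidHom σ).eqLocus (MonoidHom.id X) ∧
        (a⁻¹ * k * a) * (((σ ^ e) a)⁻¹ * a) = (((σ ^ e) a)⁻¹ * a) * (a⁻¹ * k * a)) := by
  rw [mem_loc] at hg ⊢
  rw [mem_loc]
  set x := ((σ ^ e) a)⁻¹ * a with hx
  have hea : (σ ^ e) a = a * x⁻¹ := by rw [hx]; group
  constructor
  · rintro ⟨hk, hkg⟩
    have hh : σ (a⁻¹ * k * a) = a⁻¹ * k * a := by
      rw [ha] at hkg
      rw [map_mul, map_mul, map_inv]
      calc (σ a)⁻¹ * σ k * σ a = a⁻¹ * (a * (σ a)⁻¹) * σ k * σ a := by group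
        _ = a⁻¹ * (k * (a * (σ a)⁻¹) * (σ k)⁻¹) * σ k * σ a := by rw [hkg]
        _ = _ := by group
    refine ⟨hh, ?_⟩
    have h' : ∀ n : ℕ, (σ ^ n) (a⁻¹ * k * a) = a⁻¹ * k * a := fun n => by
      induction n with
      | zero => simp
      | succ n ih => rw [pow_succ, MulAut.mul_apply, hh, ih]
    have := h' e
    rw [map_mul, map_mul, map_inv, hk, hea] at this
    calc a⁻¹ * k * a * x = ((a * x⁻¹)⁻¹ * k * (a * x⁻¹)) * x := by rw [this]
      _ = _ := by group
  · rintro ⟨hh, hhx⟩
    have h' : ∀ n : ℕ, (σ ^ n) (a⁻¹ * k * a) = a⁻¹ * k * a := fun n => by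
      induction n with
      | zero => simp
      | succ n ih => rw [pow_succ, MulAut.mul_apply, hh, ih]
    set h := a⁻¹ * k * a with hh_def
    have hk' : k = a * h * a⁻¹ := by rw [hh_def]; group
    refine ⟨?_, ?_⟩
    · rw [hk', map_mul, map_mul, map_inv, h', hea]
      calc a * x⁻¹ * h * (a * x⁻¹)⁻¹ = a * x⁻¹ * (h * x) * a⁻¹ := by group
        _ = _ := by rw [hhx]; group
    · rw [hk', map_mul, map_mul, map_inv, hh, ha]
      group

end Cfsg.Agent.S2667
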