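import Cfsg.Statements.S2668

set_option autoImplicit false
open Cfsg

namespace Cfsg.Agent.S2668

theorem mem_loc {X : Type*} [Group X] (τ : MulAut X) (x : X) :
    x ∈ (MulEquiv.toMonoidHom τ).eqLocus (MonoidHom.id X) ↔ τ x = x := Iff.rfl

theorem pow_succ_apply {X : Type*} [Group X] (σ : MulAut X) (i : ℕ) (x : X) :
    (σ ^ (i + 1)) x = (σ ^ i) (σ x) := by
  rw [pow_succ]; rfl


/-- Shintani descent and powers (abstract form). Let `σ` be an automorphism of a group `X`, `e ≥ 1` and `d ≥ 1`, let `g` be fixed by `σᵉ` and let `a` satisfy `g = a σ(a)⁻¹`, so that the Shintani map of `(X, σ, e)` sends the class of `g σ` to the class of `x = σᵉ(a)⁻¹ a`. Put `h = g σ(g) ⋯ σ^(d-1)(g)`, the part in `X` of the `d`-th power `(g σ)^d = h σ^d`. Then `h = a σ^d(a)⁻¹` (so `a` also serves for `h` with respect to `σ^d`), `h` is fixed by `(σ^d)ᵉ`, and `(σ^d)ᵉ(a)⁻¹ a = x^d`: the Shintani map of `(X, σ^d, e)` sends the class of `(g σ)^d` to the class of `x^d`. (When `d` divides `e`, the Shintani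 map of `(X, σ^d, e/d)` sends it to the class of `x` itself, since `(σ^d)^(e/d) = σᵉ`.) -/
theorem result {X : Type*} [Group X] (σ : MulAut X) (e d : ℕ) (he : 1 ≤ e) (hd : 1 ≤ d)
    (g : X) (hg : g ∈ (MulEquiv.toMonoidHom (σ ^ e)).eqLocus (MonoidHom.id X)) (a : X) (ha : g = a * (σ a)⁻¹) :
    ((List.range d).map (fun i => (σ ^ i) g)).prod = a * ((σ ^ d) a)⁻¹ ∧
      ((List.range d).map (fun i => (σ ^ i) g)).prod ∈ (MulEquiv.toMonoidHom ((σ ^ d) ^ e)).eqLocus (MonoidHom.id X) ∧
      (((σ ^ d) ^ e) a)⁻¹ * a = (((σ ^ e) a)⁻¹ * a) ^ d := by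
  rw [mem_loc] at hg
  have hprod : ∀ n : ℕ, ((List.range n).map (fun i => (σ ^ i) g)).prod = a * ((σ ^ n) a)⁻¹ := by
    intro n
    induction n with
    | zero => simp
    | succ n ih =>
      rw [List.range_succ, List.map_append, List.prod_append, ih, List.map_singleton,
        List.prod_singleton, ha, map_mul, map_inv, ← pow_succ_apply]
      group
  refine ⟨hprod d, ?_, ?_⟩
  · rw [mem_loc, map_list_prod, List.map_map]
    congr 1
    refine List.map_congr_left fun i _ => ?_
    show ((σ ^ d) ^ e) ((σ ^ i) g) = (σ ^ i) g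
    rw [← pow_mul, mul_comm, pow_mul, ← MulAut.mul_apply]
    have h : ∀ n : ℕ, ((σ ^ e) ^ n) g = g := fun n => by
      induction n with
      | zero => simp
      | succ n ih => rw [pow_succ, MulAut.mul_apply, hg, ih]
    rw [(((Commute.refl σ).pow_pow e i).pow_left d).eq, MulAut.mul_apply, h]
  · set x := ((σ ^ e) a)⁻¹ * a with hx
    have hσx : σ x = x := by
      have h1 : (σ ^ e) g = g := hg
      rw [ha, map_mul, map_inv, ← pow_succ_apply] at h1
      rw [hx, map_mul, map_inv, ← MulAut.mul_apply, ← pow_succ']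
      calc ((σ ^ (e + 1)) a)⁻¹ * σ a
          = ((σ ^ e) a)⁻¹ * ((σ ^ e) a * ((σ ^ (e + 1)) a)⁻¹) * σ a := by group
        _ = _ := by rw [h1]; group
    have hx' : ∀ n : ℕ, (σ ^ n) x = x := fun n => by
      induction n with
      | zero => simp
      | succ n ih => rw [pow_succ_apply, hσx, ih]
    have hea : (σ ^ e) a = a * x⁻¹ := by rw [hx]; group
    have hn : ∀ n : ℕ, ((σ ^ e) ^ n) a = a * (x ^ n)⁻¹ := fun n => by
      induction n with
      | zero => simp
      | succ n ih =>
        rw [pow_succ', MulAut.mul_apply, ih, map_mul, map_inv, map_pow, hx', hea, mul_assoc,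
          ← mul_inv_rev, ← pow_succ]
    rw [← pow_mul, mul_comm d e, pow_mul, hn, mul_inv_rev, inv_inv]
    group

end Cfsg.Agent.S2668
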