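import Cfsg.Statements.S2669

set_option autoImplicit false
open Cfsg

namespace Cfsg.Agent.S2669

/-- Shintani descent preserves numbers of fixed points on coset spaces (abstract form). Let `σ` be an automorphism of a group `X` and `e ≥ 1`; write `G` for the fixed points of `σᵉ` and `H` for the fixed points of `σ`, and assume `G` is finite. Let `Y` be a `σ`-stable subgroup of `X` on which the maps `a ↦ a σ(a)⁻¹` and `a ↦ a σᵉ(a)⁻¹` are surjective (as for a closed connected `σ`-stable subgroup of an algebraic group). Let `g ∈ G`, let `a ∈ X` satisfy `g = a σ(a)⁻¹` and put `x = σᵉ(a)⁻¹ a` (the Shintani image, an element of `H`). The element `g σ` of the semidirect product acts on the cosets of `Y ∩ G` in `G` by `k (Y ∩ G) ↦ g σ(k) (Y ∩ G)`, fixing that coset exactly when `k⁻¹ g σ(k) ∈ Y`; and `x` fixes the coset `h (Y ∩ H)` of `H` exactly when `h⁻¹ x h ∈ Y`. Then the two numbers of fixed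 cosets agree; in cross-multiplied form, `#{k ∈ G : k⁻¹ g σ(k) ∈ Y} · |Y ∩ H| = #{h ∈ H : h⁻¹ x h ∈ Y} · |Y ∩ G|`. -/
theorem result {X : Type*} [Group X] (σ : MulAut X) (e : ℕ) (he : 1 ≤ e)
    [Finite ↥((MulEquiv.toMonoidHom (σ ^ e)).eqLocus (MonoidHom.id X))]
    (Y : Subgroup X) (hY : ∀ y : X, y ∈ Y ↔ σ y ∈ Y)
    (hYL : ∀ y ∈ Y, ∃ a ∈ Y, y = a * (σ a)⁻¹) (hYLe : ∀ y ∈ Y, ∃ a ∈ Y, y = a * ((σ ^ e) a)⁻¹)
    (g : X) (hg : g ∈ (MulEquiv.toMonoidHom (σ ^ e)).eqLocus (MonoidHom.id X)) (a : X) (ha : g = a * (σ a)⁻¹) :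
    Nat.card {k : ↥((MulEquiv.toMonoidHom (σ ^ e)).eqLocus (MonoidHom.id X)) // (k : X)⁻¹ * g * σ k ∈ Y} *
        Nat.card ↥(Y ⊓ (MulEquiv.toMonoidHom σ).eqLocus (MonoidHom.id X)) =
      Nat.card {h : ↥((MulEquiv.toMonoidHom σ).eqLocus (MonoidHom.id X)) // (h : X)⁻¹ * (((σ ^ e) a)⁻¹ * a) * h ∈ Y} *
        Nat.card ↥(Y ⊓ (MulEquiv.toMonoidHom (σ ^ e)).eqLocus (MonoidHom.id X)) := by
  classical
  rw [← Nat.card_prod, ← Nat.card_prod]
  have hσiff : ∀ {x : X}, x ∈ (MulEquiv.toMonoidHom σ).eqLocus (MonoidHom.id X) ↔ σ x = x :=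
    fun {x} => Iff.rfl
  have hGiff : ∀ {x : X}, x ∈ (MulEquiv.toMonoidHom (σ ^ e)).eqLocus (MonoidHom.id X) ↔ (σ ^ e) x = x :=
    fun {x} => Iff.rfl
  have hga : (σ a)⁻¹ = a⁻¹ * g := by rw [ha]; group
  have hfixpow : ∀ (n : ℕ) (x : X), σ x = x → (σ ^ n) x = x := fun n x hx => by
    induction n with
    | zero => rfl
    | succ n ih => rw [pow_succ, MulAut.mul_apply, hx, ih]
  have hYpow : ∀ (n : ℕ) (y : X), y ∈ Y → (σ ^ n) y ∈ Y := fun n => by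
    induction n with
    | zero => exact fun y hy => hy
    | succ n ih => exact fun y hy => by rw [pow_succ, MulAut.mul_apply]; exact ih _ ((hY y).1 hy)
  -- from the left: a solution `z` for each `k`
  have hL : ∀ k : {k : ↥((MulEquiv.toMonoidHom (σ ^ e)).eqLocus (MonoidHom.id X)) // (k : X)⁻¹ * g * σ k ∈ Y},
      ∃ z ∈ Y, σ (a⁻¹ * k.1.1 * z) = a⁻¹ * k.1.1 * z := by
    intro k
    obtain ⟨z, hz, he'⟩ := hYL _ k.2
    refine ⟨z, hz, ?_⟩
    rw [map_mul, map_mul, map_inv, hga]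
    calc a⁻¹ * g * σ k.1.1 * σ z = a⁻¹ * k.1.1 * (k.1.1⁻¹ * g * σ k.1.1) * σ z := by group
      _ = _ := by rw [he']; group
  choose zk hzk hzkfix using hL
  -- from the right: a solution `z` for each `h`
  have hR : ∀ h : {h : ↥((MulEquiv.toMonoidHom σ).eqLocus (MonoidHom.id X)) //
      (h : X)⁻¹ * (((σ ^ e) a)⁻¹ * a) * h ∈ Y},
      ∃ z ∈ Y, (σ ^ e) (a * h.1.1 * z⁻¹) = a * h.1.1 * z⁻¹ := by
    intro h
    obtain ⟨b, hb, he'⟩ := hYLe _ (Y.inv_mem h.2)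
    refine ⟨b⁻¹, Y.inv_mem hb, ?_⟩
    have hh : (σ ^ e) h.1.1 = h.1.1 := hfixpow e _ h.1.2
    rw [inv_inv, map_mul, map_mul, hh]
    have he2 : (σ ^ e) b = ((h.1.1)⁻¹ * (((σ ^ e) a)⁻¹ * a) * h.1.1) * b := by
      have h3 := congrArg (fun t => t⁻¹ * b) he'
      simpa [mul_assoc] using h3.symm
    rw [he2]
    group
  choose zh hzh hzhfix using hR
  -- the bijection
  have key1 : ∀ (k : {k : ↥((MulEquiv.toMonoidHom (σ ^ e)).eqLocus (MonoidHom.id X)) // (k : X)⁻¹ * g * σ k ∈ Y})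
      (w : ↥(Y ⊓ (MulEquiv.toMonoidHom σ).eqLocus (MonoidHom.id X))),
      (σ (a⁻¹ * k.1.1 * (zk k * w.1)) = a⁻¹ * k.1.1 * (zk k * w.1)) ∧
      ((a⁻¹ * k.1.1 * (zk k * w.1))⁻¹ * (((σ ^ e) a)⁻¹ * a) * (a⁻¹ * k.1.1 * (zk k * w.1)) ∈ Y) := by
    intro k w
    have hw : σ w.1 = w.1 := w.2.2
    have h1 : σ (a⁻¹ * k.1.1 * (zk k * w.1)) = a⁻¹ * k.1.1 * (zk k * w.1) := by
      rw [← mul_assoc, map_mul, hzkfix, hw]
    refine ⟨h1, ?_⟩
    have hzy : zk k * w.1 ∈ Y := Y.mul_mem (hzk k) w.2.1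
    have hk : (σ ^ e) k.1.1 = k.1.1 := k.1.2
    have hfix : (σ ^ e) (a⁻¹ * k.1.1 * (zk k * w.1)) = a⁻¹ * k.1.1 * (zk k * w.1) := hfixpow e _ h1
    have hYe : ∀ y ∈ Y, (σ ^ e) y ∈ Y := hYpow e
    rw [map_mul, map_mul, map_inv, hk] at hfix
    have hsum := Y.mul_mem (Y.inv_mem (hYe _ hzy)) hzy
    set v := zk k * w.1
    convert hsum using 1
    have h6 : ((σ ^ e) a)⁻¹ = a⁻¹ * k.1.1 * v * ((σ ^ e) v)⁻¹ * k.1.1⁻¹ := by
      rw [← hfix]; group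
    rw [h6]
    group
  have key2 : ∀ (h : {h : ↥((MulEquiv.toMonoidHom σ).eqLocus (MonoidHom.id X)) //
      (h : X)⁻¹ * (((σ ^ e) a)⁻¹ * a) * h ∈ Y})
      (u : ↥(Y ⊓ (MulEquiv.toMonoidHom (σ ^ e)).eqLocus (MonoidHom.id X))),
      ((σ ^ e) (a * h.1.1 * (u.1 * zh h)⁻¹) = a * h.1.1 * (u.1 * zh h)⁻¹) ∧
      ((a * h.1.1 * (u.1 * zh h)⁻¹)⁻¹ * g * σ (a * h.1.1 * (u.1 * zh h)⁻¹) ∈ Y) := by
    intro h u
    have hu : (σ ^ e) u.1 = u.1 := u.2.2
    have hv : u.1 * zh h ∈ Y := Y.mul_mem u.2.1 (hzh h)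
    refine ⟨?_, ?_⟩
    · rw [_root_.mul_inv_rev, ← mul_assoc, map_mul, hzhfix, map_inv, hu]
    · have hh : σ h.1.1 = h.1.1 := h.1.2
      rw [map_mul, map_mul, map_inv, hh, ha]
      have hsum := Y.mul_mem hv (Y.inv_mem ((hY _).1 hv))
      convert hsum using 1
      group
  have mem1 := fun k w => (key1 k w).1
  refine Nat.card_congr
    { toFun := fun x =>
        let h : {h : ↥((MulEquiv.toMonoidHom σ).eqLocus (MonoidHom.id X)) //
            (h : X)⁻¹ * (((σ ^ e) a)⁻¹ * a) * h ∈ Y} :=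
          ⟨⟨a⁻¹ * x.1.1.1 * (zk x.1 * x.2.1), (key1 x.1 x.2).1⟩, (key1 x.1 x.2).2⟩
        (h, ⟨zk x.1 * x.2.1 * (zh h)⁻¹, Y.mul_mem (Y.mul_mem (hzk _) x.2.2.1) (Y.inv_mem (hzh h)), by
          have h1 := hzhfix h
          have h2 : (σ ^ e) x.1.1.1 = x.1.1.1 := x.1.1.2
          rw [show a * h.1.1 * (zh h)⁻¹ = x.1.1.1 * (zk x.1 * x.2.1 * (zh h)⁻¹) by
            show a * (a⁻¹ * x.1.1.1 * (zk x.1 * x.2.1)) * (zh h)⁻¹ = _
            group, map_mul, h2] at h1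
          exact mul_left_cancel h1⟩)
      invFun := fun x =>
        let k : {k : ↥((MulEquiv.toMonoidHom (σ ^ e)).eqLocus (MonoidHom.id X)) // (k : X)⁻¹ * g * σ k ∈ Y} :=
          ⟨⟨a * x.1.1.1 * (x.2.1 * zh x.1)⁻¹, (key2 x.1 x.2).1⟩, (key2 x.1 x.2).2⟩
        (k, ⟨(zk k)⁻¹ * (x.2.1 * zh x.1), Y.mul_mem (Y.inv_mem (hzk k)) (Y.mul_mem x.2.2.1 (hzh _)), by
          have h1 := hzkfix k
          have h2 : σ x.1.1.1 = x.1.1.1 := x.1.1.2
          show σ ((zk k)⁻¹ * (x.2.1 * zh x.1)) = _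
          rw [show (zk k)⁻¹ * (x.2.1 * zh x.1) = (a⁻¹ * k.1.1 * zk k)⁻¹ * x.1.1.1 by
            show _ = (a⁻¹ * (a * x.1.1.1 * (x.2.1 * zh x.1)⁻¹) * zk k)⁻¹ * x.1.1.1
            group, map_mul, map_inv, h1, h2]
          rfl⟩)
      left_inv := fun x => by
        dsimp only
        refine Prod.ext (Subtype.ext (Subtype.ext ?_)) (Subtype.ext ?_)
        · show _ = x.1.1.1
          dsimp only
          group
        · dsimp only
          generalize hk' : (⟨⟨_, _⟩, _⟩ : {k : ↥((MulEquiv.toMonoidHom (σ ^ e)).eqLocus (MonoidHom.id X)) // (k : X)⁻¹ * g * σ k ∈ Y}) = k'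
          have : k' = x.1 := by
            rw [← hk']
          subst this
          group
      right_inv := fun x => by
        dsimp only
        refine Prod.ext (Subtype.ext (Subtype.ext ?_)) (Subtype.ext ?_)
        · show _ = x.1.1.1
          dsimp only
          group
        · dsimp only
          generalize hh' : (⟨⟨_, _⟩, _⟩ : {h : ↥((MulEquiv.toMonoidHom σ).eqLocus (MonoidHom.id X)) //
            (h : X)⁻¹ * (((σ ^ e) a)⁻¹ * a) * h ∈ Y}) = h'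
          have : h' = x.1 := by
            rw [← hh']
          subst this
          group }

end Cfsg.Agent.S2669
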