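import Cfsg.Statements.S2683
import Cfsg.Agent.Lib.Classical.CharTwo.OrthCentralizer

set_option autoImplicit false
open Cfsg

namespace Cfsg.Agent.S2683

/-- For the hyperbolic form Σ x_j y_j on F^(2m) over a finite field with q elements, q even (excluding m = 2 over the field of two elements), and an involution x of the orthogonal group with s = rank(x − 1) odd (type b_s; such x lie outside Ω): the elements of Ω (the commutator subgroup of the orthogonal group) commuting with x number q^(2m(s−1) − (3s² − 3s)/2) · |Sp_(s−1)(q)| · |Sp_(2m−2s)(q)|, where |Sp_2k(q)| = q^(k²) Π_(i=1)^k (q^(2i) − 1). -/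
theorem result {F : Type*} [Field F] [Fintype F] [CharP F 2] {q : ℕ} (hF : Fintype.card F = q) {m s : ℕ} (h : Fintype.card F ≠ 2 ∨ m ≠ 2) (x : ↥(Cfsg.isometryGroup F (Cfsg.quadFormPlus m F))) (hx : x ^ 2 = 1) (hs : (((x : Matrix.GeneralLinearGroup (Fin m ⊕ Fin m) F) : Matrix (Fin m ⊕ Fin m) (Fin m ⊕ Fin m) F) - 1).rank = s) (hodd : Odd s) : Nat.card {g : ↥(Cfsg.Omega F (Cfsg.quadFormPlus m F)) // (g : ↥(Cfsg.isometryGroup F (Cfsg.quadFormPlus m F))) * x = x * (g : ↥(Cfsg.isometryGroup F (Cfsg.quadFormPlus m F)))} = q ^ (2 * m * (s - 1) - (3 * s ^ 2 - 3 * s) / 2) * ((q : ℕ) ^ (((s - 1) / 2) ^ 2) * ∏ i : Fin ((s - 1) / 2), (q ^ (2 * ((i : ℕ) + 1)) - 1)) * ((q : ℕ) ^ ((m - s) ^ 2) * ∏ i : Fin (m - s), (q ^ (2 * ((i : ℕ) + 1)) - 1)) := by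
  revert x
  rw [← CfsgLib.Classical.Quad.coe_qPlus]
  intro x hx hs
  classical
  have hQ := CfsgLib.Classical.Quad.qPlus_nondeg (F := F) m
  have hι : Fintype.card (Fin m ⊕ Fin m) = 2 * m := by rw [Fintype.card_sum, Fintype.card_fin]; omega
  have hex : (∃ c : F, c ≠ 0 ∧ c ≠ 1) ∨ Fintype.card (Fin m ⊕ Fin m) ≠ 4 :=
    CfsgLib.Classical.Quad.hex_of_card (h.imp_right fun hm => by omega)
  obtain ⟨k, rfl⟩ := hodd
  obtain ⟨v, hv⟩ : ∃ v, CfsgLib.Classical.Quad.qPlus m F (CfsgLib.Classical.CharTwo.omap x v) ≠ 0 := by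
    by_contra hc
    push Not at hc
    obtain ⟨j, y, -, hj⟩ := CfsgLib.Classical.CharTwo.exists_frame_typeA
      (CfsgLib.Classical.CharTwo.isAlt_polarBilin _) (CfsgLib.Classical.CharTwo.sqZero_omap hQ hx)
      (fun v => (CfsgLib.Classical.CharTwo.apply_T (CfsgLib.Classical.CharTwo.omap_inv x) v).symm.trans (hc v))
    rw [CfsgLib.Classical.CharTwo.finrank_range_omap, hs] at hj
    omega
  rw [CfsgLib.Classical.CharTwo.card_commuting_odd hQ hι hex hx hs hv (k := k) rfl, hF,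
    show (2 * k + 1 - 1) / 2 = k by omega,
    Fin.prod_univ_eq_prod_range (fun i => q ^ (2 * (i + 1)) - 1),
    Fin.prod_univ_eq_prod_range (fun i => q ^ (2 * (i + 1)) - 1)]

end Cfsg.Agent.S2683
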