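import Cfsg.Statements.S2685
import Cfsg.Agent.Lib.Classical.CharTwo.OrthCentralizer

set_option autoImplicit false
open Cfsg

namespace Cfsg.Agent.S2685

/-- For the hyperbolic form Q = Σ x_j y_j on F^(2m) over a finite field with q elements, q even (excluding m = 2 over the field of two elements), and an involution x of the orthogonal group with s = rank(x − 1) even and Q not vanishing on the image of x − 1 (f(v, xv) ≠ 0 for some v, where f(u, w) = Q(u + w) − Q(u) − Q(w) is the bilinear form of Q; type c_s, which lies in Ω): its centraliser in Ω (the commutator subgroup of the orthogonal group) has order q^(2m(s−1) − (3s² − 5s)/2 − 1) · |Sp_(s−2)(q)| · |Sp_(2m−2s)(q)|. -/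
theorem result {F : Type*} [Field F] [Fintype F] [CharP F 2] {q : ℕ} (hF : Fintype.card F = q) {m s : ℕ} (h : Fintype.card F ≠ 2 ∨ m ≠ 2) (x : ↥(Cfsg.isometryGroup F (Cfsg.quadFormPlus m F))) (hx : x ^ 2 = 1) (hs : (((x : Matrix.GeneralLinearGroup (Fin m ⊕ Fin m) F) : Matrix (Fin m ⊕ Fin m) (Fin m ⊕ Fin m) F) - 1).rank = s) (heven : Even s) (hna : ∃ v : Fin m ⊕ Fin m → F, Cfsg.quadFormPlus m F ((((x : Matrix.GeneralLinearGroup (Fin m ⊕ Fin m) F) : Matrix (Fin m ⊕ Fin m) (Fin m ⊕ Fin m) F) - 1).mulVec v) ≠ 0) : Nat.card {g : ↥(Cfsg.Omega F (Cfsg.quadFormPlus m F)) // (g : ↥(Cfsg.isometryGroup F (Cfsg.quadFormPlus m F))) * x = x * (g : ↥(Cfsg.isometryGroup F (Cfsg.quadFormPlus m F)))} = q ^ (2 * m * (s - 1) - (3 * s ^ 2 - 5 * s) / 2 - 1) * ((q : ℕ) ^ (((s - 2) / 2) ^ 2) * ∏ i : Fin ((s - 2) / 2), (q ^ (2 * ((i : ℕ) + 1)) - 1)) * ((q : ℕ) ^ ((m - s) ^ 2) * ∏ i : Fin (m - s), (q ^ (2 * ((i : ℕ) + 1)) - 1)) := by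
  revert x
  rw [← CfsgLib.Classical.Quad.coe_qPlus]
  intro x hx hs hna
  classical
  have hQ := CfsgLib.Classical.Quad.qPlus_nondeg (F := F) m
  have hι : Fintype.card (Fin m ⊕ Fin m) = 2 * m := by rw [Fintype.card_sum, Fintype.card_fin]; omega
  have hex : (∃ c : F, c ≠ 0 ∧ c ≠ 1) ∨ Fintype.card (Fin m ⊕ Fin m) ≠ 4 :=
    CfsgLib.Classical.Quad.hex_of_card (h.imp_right fun hm => by omega)
  obtain ⟨j, rfl⟩ := even_iff_exists_two_mul.1 heven
  obtain ⟨v, hv⟩ := hna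
  rcases j with _ | k
  · rw [← CfsgLib.Classical.CharTwo.finrank_range_omap, Nat.mul_zero, Submodule.finrank_eq_zero] at hs
    refine absurd ?_ hv
    have h0 : CfsgLib.Classical.CharTwo.omap x v ∈ LinearMap.range (CfsgLib.Classical.CharTwo.omap x) :=
      LinearMap.mem_range_self _ v
    rw [hs, Submodule.mem_bot] at h0
    show CfsgLib.Classical.Quad.qPlus m F (CfsgLib.Classical.CharTwo.omap x v) = 0
    rw [h0, QuadraticMap.map_zero]
  rw [CfsgLib.Classical.CharTwo.card_commuting_even hQ hι hex hx hs (v := v) hv (k := k) rfl, hF,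
    show (2 * (k + 1) - 2) / 2 = k by omega,
    Fin.prod_univ_eq_prod_range (fun i => q ^ (2 * (i + 1)) - 1),
    Fin.prod_univ_eq_prod_range (fun i => q ^ (2 * (i + 1)) - 1)]

end Cfsg.Agent.S2685
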