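import Cfsg.Statements.S2720
import Cfsg.Agent.Lib.Classical.Quad.SemisimpleFusion
-- import your own Cfsg.Agent.* helpers here

set_option autoImplicit false
open Cfsg
open CfsgLib.Classical.Quad

namespace Cfsg.Agent.S2720

/-- Let T = PΩ⁺_{2m}(F) (m ≥ 4, F finite of odd characteristic p), G = Inndiag(T), and let x be an automorphism of T induced by a similarity of the form (an element of the image G̃ of the conformal orthogonal group) of odd prime order r ≠ p. Then the T-class, the PSO-class and the G-class of x coincide (conjugacy under inner automorphisms, under the image of the special orthogonal group, and under G), and the PO-class of x coincides with its G̃-class. (In characteristic 2 the first equality fails: there the special orthogonal group is the full orthogonal group and some such classes split.) -/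
theorem result {F : Type*} [Field F] [Fintype F] {p : ℕ} [Fact p.Prime] [CharP F p] (hp : p ≠ 2) {m : ℕ} (hm : 4 ≤ m) (x : MulAut (Cfsg.POmega F (Cfsg.quadFormPlus m F))) (hx : x ∈ Cfsg.pgoAut F (Cfsg.quadFormPlus m F)) {r : ℕ} (hr : r.Prime) (hro : Odd r) (hrp : r ≠ p) (hxr : orderOf x = r) :
    (∀ y : MulAut (Cfsg.POmega F (Cfsg.quadFormPlus m F)), (Cfsg.IsConjUnder (Cfsg.Inn (Cfsg.POmega F (Cfsg.quadFormPlus m F))) x y ↔ Cfsg.IsConjUnder (Cfsg.inndiagPOmegaPlus m F) x y) ∧ (Cfsg.IsConjUnder (Cfsg.psoAut F (Cfsg.quadFormPlus m F)) x y ↔ Cfsg.IsConjUnder (Cfsg.inndiagPOmegaPlus m F) x y)) ∧ (∀ y : MulAut (Cfsg.POmega F (Cfsg.quadFormPlus m F)), Cfsg.IsConjUnder (Cfsg.poAut F (Cfsg.quadFormPlus m F)) x y ↔ Cfsg.IsConjUnder (Cfsg.pgoAut F (Cfsg.quadFormPlus m F)) x y) := by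
  have hrF : (r : F) ≠ 0 := fun h => by
    have hd := (CharP.cast_eq_zero_iff F p r).1 h
    rcases (Nat.dvd_prime hr).1 hd with h1 | h1
    · exact (Fact.out : p.Prime).one_lt.ne' h1
    · exact hrp h1.symm
  have hodd : Odd (Fintype.card F) := by
    obtain ⟨f, hpp, hcard⟩ := FiniteField.card F p
    rw [hcard]
    exact (hpp.odd_of_ne_two hp).pow
  obtain ⟨δ, hδ, -, -, -⟩ := exists_delta_plus hodd hm
  have hR : HEq (Cfsg.inndiagPOmegaPlus m F) ((sgnHom (evenForm_qPlus hodd hm)).ker.map (conjAut (qPlus m F))) := by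
    rw [inndiagPlus_eq hodd hm]; exact cast_heq _ _
  refine semisimple_fusion_transfer (evenForm_qPlus hodd hm) (coe_qPlus m F).symm x _ hR δ hδ hx hro hrF ?_
  rw [← hxr]
  exact pow_orderOf_eq_one x

end Cfsg.Agent.S2720
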