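import Cfsg.Statements.S2721
import Cfsg.Agent.Lib.Classical.Quad.SemisimpleFusion
-- import your own Cfsg.Agent.* helpers here

set_option autoImplicit false
open Cfsg
open CfsgLib.Classical.Quad

namespace Cfsg.Agent.S2721

/-- Let T = PΩ⁻_{2m+2}(F) (m ≥ 3, F finite of odd characteristic p), G = Inndiag(T), and let x be an automorphism of T induced by a similarity of the form (an element of the image G̃ of the conformal orthogonal group) of odd prime order r ≠ p. Then the T-class, the PSO-class and the G-class of x coincide (conjugacy under inner automorphisms, under the image of the special orthogonal group, and under G), and the PO-class of x coincides with its G̃-class. (In characteristic 2 the first equality fails: there the special orthogonal group is the full orthogonal group and some such classes split.) -/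
theorem result {F : Type*} [Field F] [Fintype F] {p : ℕ} [Fact p.Prime] [CharP F p] (hp : p ≠ 2) {m : ℕ} (hm : 3 ≤ m) (a b : F) (hab : (∀ z₁ z₂ : F, z₁ ^ 2 + a * z₁ * z₂ + b * z₂ ^ 2 = 0 → z₁ = 0 ∧ z₂ = 0)) (x : MulAut (Cfsg.POmega F (Cfsg.quadFormMinus m F a b))) (hx : x ∈ Cfsg.pgoAut F (Cfsg.quadFormMinus m F a b)) {r : ℕ} (hr : r.Prime) (hro : Odd r) (hrp : r ≠ p) (hxr : orderOf x = r) :
    (∀ y : MulAut (Cfsg.POmega F (Cfsg.quadFormMinus m F a b)), (Cfsg.IsConjUnder (Cfsg.Inn (Cfsg.POmega F (Cfsg.quadFormMinus m F a b))) x y ↔ Cfsg.IsConjUnder (Cfsg.inndiagPOmegaMinus m F a b) x y) ∧ (Cfsg.IsConjUnder (Cfsg.psoAut F (Cfsg.quadFormMinus m F a b)) x y ↔ Cfsg.IsConjUnder (Cfsg.inndiagPOmegaMinus m F a b) x y)) ∧ (∀ y : MulAut (Cfsg.POmega F (Cfsg.quadFormMinus m F a b)), Cfsg.IsConjUnder (Cfsg.poAut F (Cfsg.quadFormMinus m F a b)) x y ↔ Cfsg.IsConjUnder (Cfsg.pgoAut F (Cfsg.quadFormMinus m F a b)) x y) := by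
  have hrF : (r : F) ≠ 0 := fun h => by
    have hd := (CharP.cast_eq_zero_iff F p r).1 h
    rcases (Nat.dvd_prime hr).1 hd with h1 | h1
    · exact (Fact.out : p.Prime).one_lt.ne' h1
    · exact hrp h1.symm
  have hodd : Odd (Fintype.card F) := by
    obtain ⟨f, hpp, hcard⟩ := FiniteField.card F p
    rw [hcard]
    exact (hpp.odd_of_ne_two hp).pow
  obtain ⟨δ, hδ, -, -⟩ := exists_delta_minus hodd hm hab
  have hR : HEq (Cfsg.inndiagPOmegaMinus m F a b) ((sgnHom (evenForm_qMinus hodd hm hab)).ker.map (conjAut (qMinus m F a b))) := by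
    rw [inndiagMinus_eq hodd hm hab]; exact cast_heq _ _
  refine semisimple_fusion_transfer (evenForm_qMinus hodd hm hab) (coe_qMinus m F a b).symm x _ hR δ hδ hx hro hrF ?_
  rw [← hxr]
  exact pow_orderOf_eq_one x

end Cfsg.Agent.S2721
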