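import Cfsg.Statements.S2725
import Cfsg.Agent.Lib.Classical.Quad.SimilarityForms
-- import your own Cfsg.Agent.* helpers here

set_option autoImplicit false
open Cfsg
open CfsgLib.Classical.Quad

namespace Cfsg.Agent.S2725

/-- Let T = PΩ⁺_{2m}(F) with m ≥ 4 and |F| = q odd. The inner-diagonal group G = Inndiag(T) (image of the class-preserving similarities) taken modulo the inner automorphism group T is cyclic of order 2 when m is odd and q ≡ 3 (mod 4), cyclic of order 4 when m is odd and q ≡ 1 (mod 4), and elementary abelian of order 4 when m is even. -/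
theorem result {F : Type*} [Field F] [Fintype F] (hodd : Odd (Fintype.card F)) {m : ℕ} (hm : 4 ≤ m) :
    ((Odd m ∧ Fintype.card F % 4 = 3) → (∃ φ : ↥(Cfsg.inndiagPOmegaPlus m F) →* Multiplicative (ZMod 2), Function.Surjective φ ∧ φ.ker = (Cfsg.Inn (Cfsg.POmega F (Cfsg.quadFormPlus m F))).subgroupOf (Cfsg.inndiagPOmegaPlus m F))) ∧ ((Odd m ∧ Fintype.card F % 4 = 1) → (∃ φ : ↥(Cfsg.inndiagPOmegaPlus m F) →* Multiplicative (ZMod 4), Function.Surjective φ ∧ φ.ker = (Cfsg.Inn (Cfsg.POmega F (Cfsg.quadFormPlus m F))).subgroupOf (Cfsg.inndiagPOmegaPlus m F))) ∧ (Even m → (∃ φ : ↥(Cfsg.inndiagPOmegaPlus m F) →* Multiplicative (ZMod 2 × ZMod 2), Function.Surjective φ ∧ φ.ker = (Cfsg.Inn (Cfsg.POmega F (Cfsg.quadFormPlus m F))).subgroupOf (Cfsg.inndiagPOmegaPlus m F))) := by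
  obtain ⟨δ, hm', hs, -, e, he, hspin⟩ := exists_delta_plus hodd hm
  have hR : HEq (Cfsg.inndiagPOmegaPlus m F)
      ((sgnHom (evenForm_qPlus hodd hm)).ker.map (conjAut (qPlus m F))) := by
    rw [inndiagPlus_eq hodd hm]; exact cast_heq _ _
  have hc := (coe_qPlus m F).symm
  refine ⟨fun h => exists_hom_transfer hc _ _ hR
      (exists_diag_two (evenForm_qPlus hodd hm) δ hm' hs fun hN => (negMem_qPlus hodd hm).1 hN h),
    fun h => exists_hom_transfer hc _ _ hR
      (exists_diag_four (evenForm_qPlus hodd hm) δ hm' hs e he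
        ((negMem_qPlus hodd hm).2 fun h' => by omega)
        fun he1 => Nat.not_even_iff_odd.2 h.1 (hspin.1 he1)),
    fun h => exists_hom_transfer hc _ _ hR
      (exists_diag_klein (evenForm_qPlus hodd hm) δ hm' hs e he
        ((negMem_qPlus hodd hm).2 fun h' => Nat.not_odd_iff_even.2 h h'.1) (hspin.2 h))⟩

end Cfsg.Agent.S2725
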