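import Cfsg.Statements.S2729
import Cfsg.Agent.Lib.Classical.Quad.SimilarityForms
-- import your own Cfsg.Agent.* helpers here

set_option autoImplicit false
open Cfsg
open CfsgLib.Classical.Quad

namespace Cfsg.Agent.S2729

/-- Let T = PΩ⁻_{2m+2}(F) with m ≥ 3 and |F| = q odd (form with anisotropic binary part). The inner-diagonal group G = Inndiag(T) (image of the class-preserving similarities) taken modulo the inner automorphism group T is cyclic of order 4 when m is even and q ≡ 3 (mod 4), and of order 2 otherwise. -/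
theorem result {F : Type*} [Field F] [Fintype F] (hodd : Odd (Fintype.card F)) {m : ℕ} (hm : 3 ≤ m) (a b : F) (hab : (∀ z₁ z₂ : F, z₁ ^ 2 + a * z₁ * z₂ + b * z₂ ^ 2 = 0 → z₁ = 0 ∧ z₂ = 0)) :
    ((Even m ∧ Fintype.card F % 4 = 3) → (∃ φ : ↥(Cfsg.inndiagPOmegaMinus m F a b) →* Multiplicative (ZMod 4), Function.Surjective φ ∧ φ.ker = (Cfsg.Inn (Cfsg.POmega F (Cfsg.quadFormMinus m F a b))).subgroupOf (Cfsg.inndiagPOmegaMinus m F a b))) ∧ (¬ (Even m ∧ Fintype.card F % 4 = 3) → (∃ φ : ↥(Cfsg.inndiagPOmegaMinus m F a b) →* Multiplicative (ZMod 2), Function.Surjective φ ∧ φ.ker = (Cfsg.Inn (Cfsg.POmega F (Cfsg.quadFormMinus m F a b))).subgroupOf (Cfsg.inndiagPOmegaMinus m F a b))) := by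
  obtain ⟨δ, hm', hs, e, he, hspin⟩ := exists_delta_minus hodd hm hab
  have hR : HEq (Cfsg.inndiagPOmegaMinus m F a b)
      ((sgnHom (evenForm_qMinus hodd hm hab)).ker.map (conjAut (qMinus m F a b))) := by
    rw [inndiagMinus_eq hodd hm hab]; exact cast_heq _ _
  have hc := (coe_qMinus m F a b).symm
  refine ⟨fun h => exists_hom_transfer hc _ _ hR
      (exists_diag_four (evenForm_qMinus hodd hm hab) δ hm' hs e he
        ((negMem_qMinus hodd hm hab).2 h)
        fun he1 => Nat.not_odd_iff_even.2 h.1 (hspin.1 he1)),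
    fun h => exists_hom_transfer hc _ _ hR
      (exists_diag_two (evenForm_qMinus hodd hm hab) δ hm' hs
        fun hN => h ((negMem_qMinus hodd hm hab).1 hN))⟩

end Cfsg.Agent.S2729
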