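import Cfsg.Statements.S2734
import Cfsg.Agent.Lib.Known.ChevFoldData

set_option autoImplicit false
open Cfsg

namespace Cfsg.Agent.S2734

open CfsgLib.Lie.Chev CfsgLib.Known

theorem isLong_simple : ∀ i : Fin Cfsg.Lie.chevD4.rank,
    Cfsg.Lie.chevD4.isLong (Cfsg.Lie.chevD4.simple i) = false := by decide +kernel

theorem perm_cases : ∀ π : Equiv.Perm (Fin Cfsg.Lie.chevD4.rank),
    (∀ i j : Fin Cfsg.Lie.chevD4.rank, i ≠ j →
      Cfsg.Lie.chevD4.bonds (π i) (π j) = Cfsg.Lie.chevD4.bonds i j) →
    (∀ i, π (π i) = i) ∨ (∀ i : Fin Cfsg.Lie.chevD4.rank, (π i : ℕ) = ([2, 1, 3, 0] : List ℕ).getD i 0) ∨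
      (∀ i : Fin Cfsg.Lie.chevD4.rank, ([2, 1, 3, 0] : List ℕ).getD (π i : ℕ) 0 = i) := by decide +kernel


/-- In the Chevalley group of type D₄ over a finite field F (the matrix group generated by the root elements), a graph automorphism attached to a symmetry π of the Dynkin diagram (sending each fundamental root element x_p(t) to x_{π(p)}(t) and each x_{−p}(t) to x_{−π(p)}(t)) that has order 3 — a standard triality graph automorphism, π being a 3-cycle of the three outer nodes — has fixed-point subgroup isomorphic to the Chevalley group of type G₂ over F. -/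
theorem result {F : Type*} [Field F] [Fintype F] (τ : MulAut ↥(Cfsg.Lie.chevD4.group F)) (hτ : Cfsg.Lie.chevD4.IsGraphAut τ) (hτ3 : orderOf τ = 3) :
    Nonempty (↥(MonoidHom.eqLocus τ.toMonoidHom (MonoidHom.id ↥(Cfsg.Lie.chevD4.group F))) ≃* ↥(Cfsg.Lie.chevG2.group F)) := by
  obtain ⟨π, hπ, hv⟩ := ChevFoldData.exists_perm certD4 isLong_simple τ hτ
  obtain ⟨e⟩ := ChevFoldData.equivG2 F
  have hs := fun (i : Fin Cfsg.Lie.chevD4.rank) (t : F) => ChevFold.sigma_simple (ChevFoldData.dataG2 F) i t
  have hfix : MonoidHom.eqLocus τ.toMonoidHom (MonoidHom.id _) =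
      (ChevFold.sigma (ChevFoldData.dataG2 F)).eqLocus (MonoidHom.id _) := by
    rcases perm_cases π hπ with h | h | h
    · exfalso
      have h2 : (τ * τ).toMonoidHom = MonoidHom.id _ := by
        refine ChevGen.hom_ext (chevRel certD4 F) fun i t => ?_
        show τ (τ (xG certD4 F _ t)) = xG certD4 F _ t ∧ τ (τ (xG certD4 F _ t)) = xG certD4 F _ t
        rw [(hv i t).1, (hv (π i) t).1, (hv i t).2, (hv (π i) t).2, h i]
        exact ⟨rfl, rfl⟩
      have h3 : τ ^ 2 = 1 := by
        rw [pow_two]; exact MulEquiv.ext fun x => DFunLike.congr_fun h2 x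
      have := orderOf_dvd_of_pow_eq_one h3
      rw [hτ3] at this
      norm_num at this
    · have h2 : τ.toMonoidHom = ChevFold.sigma (ChevFoldData.dataG2 F) := by
        refine ChevGen.hom_ext (chevRel certD4 F) fun i t => ?_
        have hi : π i = ChevFold.piPerm (ChevFoldData.dataG2 F) i := Fin.ext (h i)
        show τ (xG certD4 F _ t) = _ ∧ τ (xG certD4 F _ t) = _
        rw [(hv i t).1, (hv i t).2, hi]
        exact ⟨((hs i t).1).symm, ((hs i t).2).symm⟩
      rw [h2]
    · have h2 : (ChevFold.sigma (ChevFoldData.dataG2 F)).comp τ.toMonoidHom = MonoidHom.id _ := by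
        refine ChevGen.hom_ext (chevRel certD4 F) fun i t => ?_
        have hi : ChevFold.piPerm (ChevFoldData.dataG2 F) (π i) = i := Fin.ext (h i)
        show ChevFold.sigma _ (τ (xG certD4 F _ t)) = xG certD4 F _ t ∧
          ChevFold.sigma _ (τ (xG certD4 F _ t)) = xG certD4 F _ t
        rw [(hv i t).1, (hv i t).2, (hs (π i) t).1, (hs (π i) t).2, hi]
        exact ⟨rfl, rfl⟩
      ext x
      show τ x = x ↔ ChevFold.sigma (ChevFoldData.dataG2 F) x = x
      constructor
      · intro hx
        conv_lhs => rw [← hx]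
        exact DFunLike.congr_fun h2 x
      · intro hx
        obtain ⟨y, rfl⟩ := τ.surjective x
        have e : ChevFold.sigma (ChevFoldData.dataG2 F) (τ y) = y := DFunLike.congr_fun h2 y
        rw [e] at hx
        show τ (τ y) = τ y
        exact congrArg τ hx.symm
  rw [hfix]
  exact ⟨e⟩

end Cfsg.Agent.S2734
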