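import Cfsg.Statements.S2738
import Cfsg.Agent.Lib.Classical.SLGroup
import Cfsg.Agent.Lib.Classical.LinearOrder

set_option autoImplicit false
open Cfsg
open scoped commutatorElement

namespace Cfsg.Agent.S2738

theorem comm_central {G : Type*} [Group G] {z z' : G} (hz : ∀ g, g * z = z * g) (hz' : ∀ g, g * z' = z' * g)
    (k k' : G) : z * k * (z' * k') * (z * k)⁻¹ * (z' * k')⁻¹ = k * k' * k⁻¹ * k'⁻¹ := by
  calc z * k * (z' * k') * (z * k)⁻¹ * (z' * k')⁻¹
      = z * (k * (z' * k') * k⁻¹) * z⁻¹ * k'⁻¹ * z'⁻¹ := by group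
    _ = k * (z' * k') * k⁻¹ * k'⁻¹ * z'⁻¹ := by rw [← hz]; group
    _ = k * (z' * (k' * k⁻¹ * k'⁻¹)) * z'⁻¹ := by group
    _ = k * k' * k⁻¹ * k'⁻¹ := by rw [← hz']; group


/-- The special linear group SL(3, 4) has centre of order 3 and does not split over it: no subgroup is a complement to the centre (so SL(3, 4) is a non-split central extension of PSL(3, 4) by a group of order 3). -/
theorem result (F : Type*) [Field F] [Fintype F] (hF : Fintype.card F = 4) : Nat.card ↥(Subgroup.center (Matrix.SpecialLinearGroup (Fin 3) F)) = 3 ∧ ¬ ∃ K : Subgroup (Matrix.SpecialLinearGroup (Fin 3) F), Subgroup.IsComplement' (Subgroup.center (Matrix.SpecialLinearGroup (Fin 3) F)) K := by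
  classical
  have h3 : Nat.card ↥(Subgroup.center (Matrix.SpecialLinearGroup (Fin 3) F)) = 3 := by
    rw [CfsgLib.Classical.card_center_SL, Fintype.card_fin, hF]; rfl
  refine ⟨h3, ?_⟩
  rintro ⟨K, hK⟩
  have htop : K = ⊤ := by
    rw [← top_le_iff, ← CfsgLib.Classical.commutator_SL_eq_top (F := F) (le_refl 3), commutator_def, Subgroup.commutator_le]
    intro a _ b _
    obtain ⟨⟨z, k⟩, hzk⟩ := hK.2 a
    obtain ⟨⟨z', k'⟩, hzk'⟩ := hK.2 b
    simp only at hzk hzk'
    have hz := Subgroup.mem_center_iff.1 z.2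
    have hz' := Subgroup.mem_center_iff.1 z'.2
    have e : ⁅a, b⁆ = ⁅(k : Matrix.SpecialLinearGroup (Fin 3) F), (k' : Matrix.SpecialLinearGroup (Fin 3) F)⁆ := by
      rw [← hzk, ← hzk', commutatorElement_def, commutatorElement_def]
      exact comm_central hz hz' _ _
    rw [e, commutatorElement_def]
    exact K.mul_mem (K.mul_mem (K.mul_mem k.2 k'.2) (K.inv_mem k.2)) (K.inv_mem k'.2)
  have hd := hK.disjoint
  rw [htop, disjoint_top] at hd
  rw [hd, Subgroup.card_bot] at h3
  omega

end Cfsg.Agent.S2738
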