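import Cfsg.Statements.S2739
import Cfsg.Agent.Lib.Classical.PSLThreeFour

set_option autoImplicit false
open scoped Pointwise
open Cfsg

namespace Cfsg.Agent.S2739

open Matrix
open scoped MatrixGroups

variable {F : Type*} [Field F] [Fintype F]

/-- A non-scalar element of `SL(3, 4)` whose cube is scalar has cube one, trace zero and vanishing
second invariant. -/
lemma invariants (hF : Fintype.card F = 4) (g : SL(3, F)) {c : F}
    (hc : (g : Matrix (Fin 3) (Fin 3) F) ^ 3 = c • 1)
    (hns : ∀ s : F, (g : Matrix (Fin 3) (Fin 3) F) ≠ s • 1) (r : F) (hr : r ≠ 0) :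
    ((g : Matrix (Fin 3) (Fin 3) F) - r • 1).det = 0 := by
  classical
  obtain ⟨-, -, -, -, -, -, h2⟩ := CfsgLib.Classical.PSLThreeFour.exists_coords hF
  have hr3 : ∀ x : F, x ≠ 0 → x ^ 3 = 1 := fun x hx => by
    have := FiniteField.pow_card_sub_one_eq_one x hx
    rwa [hF] at this
  set A := (g : Matrix (Fin 3) (Fin 3) F) with hA
  have hd : A.det = 1 := g.2
  rw [Matrix.det_fin_three] at hd
  set t := A 0 0 + A 1 1 + A 2 2 with ht
  set m := A 0 0 * A 1 1 - A 0 1 * A 1 0 + (A 0 0 * A 2 2 - A 0 2 * A 2 0) +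
    (A 1 1 * A 2 2 - A 1 2 * A 2 1) with hm
  have hCH : A ^ 3 = t • A ^ 2 - m • A + 1 := by
    rw [pow_succ, pow_two]
    ext i j
    fin_cases i <;> fin_cases j <;>
      simp [Matrix.mul_apply, Fin.sum_univ_three, ht, hm] <;>
      first | ring1 | linear_combination hd
  have hq : t • A ^ 2 - m • A + (1 - c) • (1 : Matrix (Fin 3) (Fin 3) F) = 0 := by
    rw [sub_smul, one_smul, ← hc, hCH]; abel
  have ht0 : t = 0 := by
    by_contra ht0
    obtain ⟨a, b, hab⟩ : ∃ a b : F, A ^ 2 = a • A + b • 1 := by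
      refine ⟨t⁻¹ * m, t⁻¹ * (c - 1), ?_⟩
      calc A ^ 2 = t⁻¹ • (t • A ^ 2 - m • A + (1 - c) • 1) + ((t⁻¹ * m) • A + (t⁻¹ * (c - 1)) • 1) := by
            rw [smul_add, smul_sub, smul_smul, smul_smul, smul_smul, inv_mul_cancel₀ ht0, one_smul]
            module
        _ = _ := by rw [hq, smul_zero, zero_add]
    have h3 : (a * a + b) • A = (c - a * b) • (1 : Matrix (Fin 3) (Fin 3) F) := by
      rw [sub_smul, ← hc, pow_succ, hab, add_mul, smul_mul_assoc, smul_mul_assoc, one_mul, ← pow_two A, hab]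
      module
    by_cases hb : a * a + b = 0
    · have hcab : c = a * b := by
        rw [hb, zero_smul] at h3
        have := congrFun (congrFun h3.symm 0) 0
        simp at this
        linear_combination this
      have hc1 : c = 1 := by
        have h1 := congrArg Matrix.det hc
        rw [Matrix.det_pow, show A.det = 1 from g.2, one_pow, Matrix.det_smul, Fintype.card_fin,
          Matrix.det_one, mul_one] at h1
        have hb' : b = a * a := by linear_combination hb - a * a * h2
        rw [hb'] at hcab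
        have ha : a ≠ 0 := by
          intro ha; rw [ha, mul_zero, zero_mul] at hcab; simp [hcab] at h1
        linear_combination hcab + hr3 a ha
      -- `A` is killed by `X ^ 2 + a X + a ^ 2`, whose trace datum forces `A` to be scalar
      have hb' : b = a * a := by linear_combination hb - a * a * h2
      have hq' : (t * a - m) • A = (c - 1 - t * b) • (1 : Matrix (Fin 3) (Fin 3) F) := by
        rw [hab] at hq
        rw [← sub_eq_zero, ← hq]
        module
      by_cases he : t * a - m = 0
      · rw [he, zero_smul, hc1, hb'] at hq'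
        have := congrFun (congrFun hq'.symm 0) 0
        simp at this
        rcases this with h | h
        · exact ht0 h
        · subst h
          rw [hcab] at hc1
          simp at hc1
      · exact hns ((t * a - m)⁻¹ * (c - 1 - t * b))
          (by rw [mul_smul, ← hq', smul_smul, inv_mul_cancel₀ he, one_smul])
    · exact hns ((a * a + b)⁻¹ * (c - a * b))
        (by rw [mul_smul, ← h3, smul_smul, inv_mul_cancel₀ hb, one_smul])
  have hm0 : m = 0 := by
    by_contra hm0
    apply hns (m⁻¹ * (1 - c))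
    rw [ht0, zero_smul, zero_sub, neg_add_eq_zero] at hq
    rw [mul_smul, ← hq, smul_smul, inv_mul_cancel₀ hm0, one_smul]
  rw [Matrix.det_fin_three]
  simp
  linear_combination hd - hr3 r hr + r ^ 2 * ht0 - r * hm0

/-- Every element of order three of `PSL(3, 4)` is the image of a conjugate of one fixed element. -/
lemma isConj_of_order_three (hF : Fintype.card F = 4) (r : Fin 3 → F) (hr : Function.Injective r)
    (hr0 : ∀ i, r i ≠ 0) (D : SL(3, F)) (hD : (D : Matrix (Fin 3) (Fin 3) F) = Matrix.diagonal r)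
    (x : ProjectiveSpecialLinearGroup (Fin 3) F) (hx : orderOf x = 3) :
    IsConj (D : ProjectiveSpecialLinearGroup (Fin 3) F) x := by
  classical
  obtain ⟨X, rfl⟩ := QuotientGroup.mk_surjective x
  have h := pow_orderOf_eq_one (X : ProjectiveSpecialLinearGroup (Fin 3) F)
  rw [hx, ← QuotientGroup.mk_pow, QuotientGroup.eq_one_iff,
    Matrix.SpecialLinearGroup.mem_center_iff] at h
  obtain ⟨c, -, hc⟩ := h
  have hc' : (X : Matrix (Fin 3) (Fin 3) F) ^ 3 = c • 1 := by
    rw [← Matrix.SpecialLinearGroup.coe_pow, ← hc, Matrix.scalar_apply, Matrix.smul_one_eq_diagonal]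
  have hns : ∀ s : F, (X : Matrix (Fin 3) (Fin 3) F) ≠ s • 1 := by
    intro s hs
    have : (X : ProjectiveSpecialLinearGroup (Fin 3) F) = 1 := by
      rw [QuotientGroup.eq_one_iff, Matrix.SpecialLinearGroup.mem_center_iff]
      refine ⟨s, ?_, by rw [hs, Matrix.scalar_apply, Matrix.smul_one_eq_diagonal]⟩
      have h1 := congrArg Matrix.det hs
      rw [Matrix.det_smul, Matrix.det_one, mul_one, show (X : Matrix (Fin 3) (Fin 3) F).det = 1 from X.2] at h1
      exact h1.symm
    rw [this, orderOf_one] at hx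
    omega
  have hev : ∀ i, ∃ v : Fin 3 → F, v ≠ 0 ∧ (X : Matrix (Fin 3) (Fin 3) F) *ᵥ v = r i • v := by
    intro i
    obtain ⟨v, hv, hv'⟩ := Matrix.exists_mulVec_eq_zero_iff.2 (invariants hF X hc' hns (r i) (hr0 i))
    refine ⟨v, hv, ?_⟩
    rwa [Matrix.sub_mulVec, Matrix.smul_mulVec, Matrix.one_mulVec, sub_eq_zero] at hv'
  choose v hv0 hv using hev
  have hli : LinearIndependent F v := by
    refine Module.End.eigenvectors_linearIndependent' (Matrix.toLin' (X : Matrix (Fin 3) (Fin 3) F)) r hr v
      fun i => ⟨Module.End.mem_eigenspace_iff.2 ?_, hv0 i⟩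
    rw [Matrix.toLin'_apply]; exact hv i
  let P : Matrix (Fin 3) (Fin 3) F := Matrix.of fun j i => v i j
  have hP : P.det ≠ 0 := by
    have : IsUnit P := Matrix.linearIndependent_cols_iff_isUnit.1 hli
    exact ((Matrix.isUnit_iff_isUnit_det P).1 this).ne_zero
  let u : Fin 3 → F := ![P.det⁻¹, 1, 1]
  let Q : SL(3, F) := ⟨P * Matrix.diagonal u, by
    rw [Matrix.det_mul, Matrix.det_diagonal, Fin.prod_univ_three]
    simp [u, hP]⟩
  have hPD : (X : Matrix (Fin 3) (Fin 3) F) * P = P * Matrix.diagonal r := by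
    ext j i
    rw [Matrix.mul_diagonal, mul_comm]
    exact congrFun (hv i) j
  have hQ : X * Q = Q * D := by
    apply Subtype.ext
    show (X : Matrix (Fin 3) (Fin 3) F) * (P * Matrix.diagonal u) = P * Matrix.diagonal u * (D : Matrix (Fin 3) (Fin 3) F)
    rw [← mul_assoc, hPD, hD, mul_assoc, mul_assoc, Matrix.diagonal_mul_diagonal,
      Matrix.diagonal_mul_diagonal]
    simp only [mul_comm]
  refine (QuotientGroup.mk' _).map_isConj (a := D) (b := X) (isConj_iff.2 ⟨Q, ?_⟩)
  rw [← hQ, mul_assoc, mul_inv_cancel, mul_one]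


/-- In the projective special linear group PSL(3, 4) all subgroups of order 3 are conjugate. -/
theorem result (F : Type*) [Field F] [Fintype F] (hF : Fintype.card F = 4) (X Y : Subgroup (Matrix.ProjectiveSpecialLinearGroup (Fin 3) F)) (hX : Nat.card ↥X = 3) (hY : Nat.card ↥Y = 3) : ∃ g : Matrix.ProjectiveSpecialLinearGroup (Fin 3) F, MulAut.conj g • X = Y := by
  classical
  have h3 : Fintype.card (Fin 3) = Fintype.card Fˣ := by
    rw [Fintype.card_units, hF, Fintype.card_fin]
  let e : Fin 3 ≃ Fˣ := Fintype.equivOfCardEq h3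
  let r : Fin 3 → F := fun i => (e i : F)
  have hr : Function.Injective r := fun i j h => e.injective (Units.ext h)
  have hdet : (Matrix.diagonal r).det = 1 := by
    rw [Matrix.det_diagonal]
    have h1 : ∏ u : Fˣ, u = -1 := FiniteField.prod_univ_units_id_eq_neg_one
    have h2 : (∏ i, e i : Fˣ) = -1 := (Equiv.prod_comp e id).trans h1
    have h3 := congrArg Units.val h2
    rw [Units.coe_prod, Units.val_neg, Units.val_one] at h3
    obtain ⟨-, -, -, -, -, -, h2⟩ := CfsgLib.Classical.PSLThreeFour.exists_coords hF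
    show (∏ i, (e i : F)) = 1
    rw [h3]; linear_combination -h2
  have key := isConj_of_order_three hF r hr (fun i => (e i).ne_zero) ⟨_, hdet⟩ rfl
  have hgen : ∀ Z : Subgroup (Matrix.ProjectiveSpecialLinearGroup (Fin 3) F), Nat.card Z = 3 →
      ∃ z, orderOf z = 3 ∧ Z = Subgroup.zpowers z := by
    intro Z hZ
    have : Fact (Nat.Prime 3) := ⟨Nat.prime_three⟩
    have := isCyclic_of_prime_card hZ
    obtain ⟨z, hz⟩ := IsCyclic.exists_generator (α := Z)
    have hz' : orderOf z = 3 := by rw [orderOf_eq_card_of_forall_mem_zpowers hz, hZ]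
    refine ⟨z, by rw [Subgroup.orderOf_coe]; exact hz', (Subgroup.eq_of_le_of_card_ge ?_ ?_).symm⟩
    · rw [Subgroup.zpowers_le]; exact z.2
    · rw [hZ, Nat.card_zpowers, Subgroup.orderOf_coe, hz']
  obtain ⟨x, hx, rfl⟩ := hgen X hX
  obtain ⟨y, hy, rfl⟩ := hgen Y hY
  obtain ⟨g, hg⟩ := isConj_iff.1 ((key x hx).symm.trans (key y hy))
  refine ⟨g, ?_⟩
  show (Subgroup.zpowers x).map (MulAut.conj g).toMonoidHom = _
  rw [MonoidHom.map_zpowers]
  simp [hg]

end Cfsg.Agent.S2739
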