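import Cfsg.Statements.S2751
import Cfsg.Agent.Lib.LocalEven.Goldschmidt.Main

set_option autoImplicit false
open Cfsg

namespace Cfsg.Agent.S2751

/-- Goldschmidt's bound for amalgams of index (3, 3): let M₁ and M₂ be finite subgroups of a group G such that M₁ ⊓ M₂ is a Sylow 2-subgroup of both M₁ and M₂, each quotient Mᵢ / O₂(Mᵢ) is isomorphic to the symmetric group of degree 3, and no nontrivial subgroup of M₁ ⊓ M₂ is normal in both M₁ and M₂. Then M₁ ⊓ M₂ has order at most 2^7. -/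
theorem result {G : Type*} [Group G] (M₁ M₂ : Subgroup G) [Finite M₁] [Finite M₂] (ha₁ : ∃ P : Sylow 2 M₁, (P : Subgroup M₁) = (M₁ ⊓ M₂).subgroupOf M₁) (ha₂ : ∃ P : Sylow 2 M₂, (P : Subgroup M₂) = (M₁ ⊓ M₂).subgroupOf M₂) (hb₁ : Nonempty (M₁ ⧸ Cfsg.pCore 2 M₁ ≃* Equiv.Perm (Fin 3))) (hb₂ : Nonempty (M₂ ⧸ Cfsg.pCore 2 M₂ ≃* Equiv.Perm (Fin 3))) (hc : ∀ N : Subgroup G, N ≤ M₁ ⊓ M₂ → (N.subgroupOf M₁).Normal → (N.subgroupOf M₂).Normal → N = ⊥) : Nat.card ↥(M₁ ⊓ M₂) ≤ 2 ^ 7 := by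
  haveI : Fact (Nat.Prime 2) := ⟨Nat.prime_two⟩
  have hS : ∀ P : Subgroup G, Finite ↥P → M₁ ⊓ M₂ ≤ P → (∃ S : Sylow 2 ↥P, (S : Subgroup ↥P) = (M₁ ⊓ M₂).subgroupOf P) →
      Nonempty (↥P ⧸ Cfsg.pCore 2 ↥P ≃* Equiv.Perm (Fin 3)) → CfsgLib.SThree.IsSThree P (M₁ ⊓ M₂) := by
    intro P hfin hTP hPS he
    obtain ⟨S, hS⟩ := hPS
    obtain ⟨e⟩ := he
    obtain ⟨k, hk⟩ := (CfsgLib.Core.isPGroup_pCore 2 ↥P).exists_card_eq
    obtain ⟨m, hm⟩ := S.2.exists_card_eq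
    have hP6 : Nat.card P = 3 * 2 ^ (k + 1) := by
      rw [Subgroup.card_eq_card_quotient_mul_card_subgroup (Cfsg.pCore 2 ↥P), Nat.card_congr e.toEquiv, hk,
        Nat.card_eq_fintype_card, Fintype.card_perm, Fintype.card_fin, pow_succ]
      show 6 * 2 ^ k = 3 * (2 ^ k * 2)
      ring
    have hi : (S : Subgroup ↥P).index * 2 ^ m = 3 * 2 ^ (k + 1) := by
      rw [← hm, Subgroup.index_mul_card]; exact hP6
    have hodd : ¬ 2 ∣ (S : Subgroup ↥P).index := S.not_dvd_index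
    have hmk : m = k + 1 := by
      refine Nat.pow_right_injective (le_refl 2) (Nat.dvd_antisymm ?_ ?_)
      · exact (Nat.Coprime.pow_left m (by norm_num : Nat.Coprime 2 3)).dvd_of_dvd_mul_left ⟨_, by rw [← hi, mul_comm]⟩
      · exact (Nat.Coprime.pow_left (k + 1) (Nat.prime_two.coprime_iff_not_dvd.mpr hodd)).dvd_of_dvd_mul_left
          ⟨3, by rw [hi, mul_comm]⟩
    have hcT : Nat.card ↥(M₁ ⊓ M₂) = 2 ^ m := by
      rw [← hm, hS, Nat.card_congr (Subgroup.subgroupOfEquivOfLe hTP).toEquiv]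
    refine ⟨hfin, hTP, IsPGroup.of_card hcT, ?_, fun hn => ?_⟩
    · rw [hcT, hmk, hP6]
    · have h1 : (M₁ ⊓ M₂).subgroupOf P ≤ Cfsg.pCore 2 ↥P := by
        haveI : ((M₁ ⊓ M₂).subgroupOf P).Normal := Subgroup.normal_subgroupOf_of_le_normalizer hn
        exact CfsgLib.Core.le_pCore (hS ▸ S.2)
      have h2 := Subgroup.card_le_of_le h1
      rw [hk, Nat.card_congr (Subgroup.subgroupOfEquivOfLe hTP).toEquiv, hcT, hmk, pow_succ] at h2
      have : 0 < 2 ^ k := pow_pos (by norm_num) k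
      omega
  exact CfsgLib.Goldschmidt.card_inter_le (hS M₁ inferInstance inf_le_left ha₁ hb₁)
    (hS M₂ inferInstance inf_le_right ha₂ hb₂) rfl fun N hN h1 h2 =>
      hc N hN (Subgroup.normal_subgroupOf_of_le_normalizer h1) (Subgroup.normal_subgroupOf_of_le_normalizer h2)

end Cfsg.Agent.S2751
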