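import Cfsg.Statements.S2756
import Cfsg.Agent.Lib.LocalEven.NormalSylowTwoZJ

set_option autoImplicit false
open Cfsg

namespace Cfsg.Agent.S2756

/-- For a finite group G the following are equivalent: (a) G has a normal Sylow 2-subgroup; (b) for every odd prime q dividing the order of G and every Sylow q-subgroup T, the normalizer of Z(J(T)) has a normal Sylow 2-subgroup; (c) for every odd prime q and every Sylow q-subgroup T, no nonidentity element of T is inverted by an element of the normalizer of Z(J(T)). Here J(T) is the Thompson subgroup generated by the abelian subgroups of T of largest order. Stated as the two equivalences (a) ⇔ (b) and (a) ⇔ (c). -/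
theorem result {G : Type*} [Group G] [Finite G] : ((∀ P : Sylow 2 G, (P : Subgroup G).Normal) ↔ ∀ (q : ℕ) [Fact q.Prime], q ≠ 2 → q ∣ Nat.card G → ∀ T : Sylow q G, ∀ P : Sylow 2 ↥(Subgroup.normalizer (Cfsg.centerThompsonAOf (T : Subgroup G) : Set G)), (P : Subgroup ↥(Subgroup.normalizer (Cfsg.centerThompsonAOf (T : Subgroup G) : Set G))).Normal) ∧ ((∀ P : Sylow 2 G, (P : Subgroup G).Normal) ↔ ∀ (q : ℕ) [Fact q.Prime], q ≠ 2 → ∀ T : Sylow q G, ∀ x ∈ (T : Subgroup G), x ≠ 1 → ∀ g ∈ Subgroup.normalizer (Cfsg.centerThompsonAOf (T : Subgroup G) : Set G), g * x * g⁻¹ ≠ x⁻¹) := by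
  refine ⟨⟨fun ha q _ _ _ T P => CfsgLib.LocalEven.NormalTwo.normal_sylow_two_subgroup ha _ P, fun hb => ?_⟩,
    ⟨fun ha q hq hq2 T x hx hx1 g _ hinv => ?_, fun hc => ?_⟩⟩
  · by_contra h
    obtain ⟨r, hr, hr2, hrd, T, x, hx, hx1, g, hg, hinv⟩ := CfsgLib.LocalEven.NormalTwo.exists_inverted_zj h
    haveI := hr
    have hxN : x ∈ Subgroup.normalizer (Cfsg.centerThompsonAOf (T : Subgroup G) : Set G) :=
      CfsgLib.PLocal.normalizer_le_normalizer_centerThompsonA _ (Subgroup.le_normalizer hx)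
    obtain ⟨k, hk⟩ := IsPGroup.iff_orderOf.1 T.2 ⟨x, hx⟩
    refine hx1 (congrArg Subtype.val (CfsgLib.LocalEven.NormalTwo.not_inverted (hb r hr2 hrd T)
      (g := (⟨g, hg⟩ : ↥(Subgroup.normalizer (Cfsg.centerThompsonAOf (T : Subgroup G) : Set G))))
      (x := ⟨x, hxN⟩) ?_ (Subtype.ext hinv)))
    rw [Subgroup.orderOf_mk]
    rw [Subgroup.orderOf_mk] at hk
    rw [hk]
    exact ((Fact.out : r.Prime).odd_of_ne_two hr2).pow
  · refine hx1 (CfsgLib.LocalEven.NormalTwo.not_inverted ha ?_ hinv)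
    obtain ⟨k, hk⟩ := IsPGroup.iff_orderOf.1 T.2 ⟨x, hx⟩
    rw [Subgroup.orderOf_mk] at hk
    rw [hk]
    exact ((Fact.out : q.Prime).odd_of_ne_two hq2).pow
  · by_contra h
    obtain ⟨r, hr, hr2, -, T, x, hx, hx1, g, hg, hinv⟩ := CfsgLib.LocalEven.NormalTwo.exists_inverted_zj h
    haveI := hr
    exact hc r hr2 T x hx hx1 g hg hinv

end Cfsg.Agent.S2756
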