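import Cfsg.Statements.S2760
import Cfsg.Agent.Lib.LocalEvenB.CharP
import Cfsg.Agent.Lib.Transfer.PResidual
import Cfsg.Agent.Lib.Core.Cores

set_option autoImplicit false
open Cfsg

namespace Cfsg.Agent.S2760

/-- Let G be a finite group with C_G(O₂(G)) ≤ O₂(G) and H a subgroup of G such that H is normal in G, or the subgroup O²(H) generated by the elements of H of odd order is normal in G. Then C_H(O₂(H)) ≤ O₂(H). -/
theorem result {G : Type*} [Group G] [Finite G] (hchar : Subgroup.centralizer (Cfsg.pCore 2 G : Set G) ≤ Cfsg.pCore 2 G) (H : Subgroup G) (hH : H.Normal ∨ ((Cfsg.pResidual 2 ↥H).map H.subtype).Normal) : Subgroup.centralizer (Cfsg.pCore 2 ↥H : Set ↥H) ≤ Cfsg.pCore 2 ↥H := by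
  haveI : Fact (Nat.Prime 2) := ⟨Nat.prime_two⟩
  have hG : CfsgLib.LocalEvenB.HasCharP 2 (⊤ : Subgroup G) := CfsgLib.LocalEvenB.hasCharP_top_iff.mpr hchar
  rw [← CfsgLib.LocalEvenB.hasCharP_iff]
  rcases hH with hn | hn
  · exact hG.of_subnormal hn.isSubnormal
  · set R : Subgroup G := (Cfsg.pResidual 2 ↥H).map H.subtype with hR
    have hRH : R ≤ H := Subgroup.map_subtype_le _
    have hRchar := hG.of_subnormal hn.isSubnormal
    refine CfsgLib.LocalEvenB.hasCharP_of_eq_one fun x hxH hxC hxo => ?_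
    have hxR : x ∈ R := ⟨⟨x, hxH⟩, CfsgLib.Transfer.mem_pResidual_of_coprime
      (by rwa [Subgroup.orderOf_mk]), rfl⟩
    refine hRchar.eq_one hxR hxo (Subgroup.centralizer_le (SetLike.coe_subset_coe.mpr ?_) hxC)
    refine CfsgLib.LocalEvenB.le_pCoreOf ((CfsgLib.LocalEvenB.pCoreOf_le R).trans hRH)
      (CfsgLib.LocalEvenB.isPGroup_pCoreOf R) ?_
    -- `O_2(R)` is normalized by `H`, being characteristic in the normal subgroup `R`
    intro h hh
    have hRn : h ∈ Subgroup.normalizer (R : Set G) := by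
      rw [Subgroup.normalizer_eq_top_iff.mpr hn]; trivial
    haveI : (Cfsg.pCore 2 ↥R).Characteristic := inferInstance
    haveI := hn
    haveI : ((Cfsg.pCore 2 ↥R).map R.subtype).Normal := inferInstance
    exact Subgroup.normalizer_eq_top_iff.mpr this ▸ Subgroup.mem_top h

end Cfsg.Agent.S2760
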