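import Cfsg.Statements.S2762
import Cfsg.Agent.Lib.LocalEven.Qd

set_option autoImplicit false
open Cfsg

namespace Cfsg.Agent.S2762

/-- Structure of Qd over a finite field F of characteristic p (the affine subgroup of SL₃(F)): its largest normal p-subgroup is the group of translations (matrices with upper-left block the identity), the block-diagonal matrices form a complement isomorphic to SL₂(F), and the translation subgroup is a natural SL₂(F)-module for that complement. -/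
theorem result {F : Type*} [Field F] [Fintype F] {p : ℕ} [Fact p.Prime] [CharP F p] : (∀ M : ↥(Cfsg.qdOver F), M ∈ Cfsg.pCore p ↥(Cfsg.qdOver F) ↔ ((M : Matrix.SpecialLinearGroup (Fin 3) F) : Matrix (Fin 3) (Fin 3) F) 0 0 = 1 ∧ ((M : Matrix.SpecialLinearGroup (Fin 3) F) : Matrix (Fin 3) (Fin 3) F) 0 1 = 0 ∧ ((M : Matrix.SpecialLinearGroup (Fin 3) F) : Matrix (Fin 3) (Fin 3) F) 1 0 = 0 ∧ ((M : Matrix.SpecialLinearGroup (Fin 3) F) : Matrix (Fin 3) (Fin 3) F) 1 1 = 1) ∧ ∃ K : Subgroup ↥(Cfsg.qdOver F), (∀ M : ↥(Cfsg.qdOver F), M ∈ K ↔ ((M : Matrix.SpecialLinearGroup (Fin 3) F) : Matrix (Fin 3) (Fin 3) F) 0 2 = 0 ∧ ((M : Matrix.SpecialLinearGroup (Fin 3) F) : Matrix (Fin 3) (Fin 3) F) 1 2 = 0) ∧ K ⊓ Cfsg.pCore p ↥(Cfsg.qdOver F) = ⊥ ∧ K ⊔ Cfsg.pCore p ↥(Cfsg.qdOver F) = ⊤ ∧ Nonempty (↥K ≃* Matrix.SpecialLinearGroup (Fin 2) F) ∧ Cfsg.IsNaturalSL2Module F (Cfsg.pCore p ↥(Cfsg.qdOver F)) K := by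
  have hO : Cfsg.pCore p ↥(Cfsg.qdOver F) = (CfsgLib.LocalEven.Qd.block F).ker :=
    CfsgLib.LocalEven.Qd.pCore_qdOver p
  rw [hO]
  refine ⟨fun M => CfsgLib.LocalEven.Qd.mem_ker_iff M, CfsgLib.LocalEven.Qd.compl F,
    fun M => CfsgLib.LocalEven.Qd.mem_compl_iff M, ?_, ?_, ⟨CfsgLib.LocalEven.Qd.complEquiv F⟩,
    CfsgLib.LocalEven.Qd.isNatural⟩
  · rw [eq_bot_iff]
    rintro M ⟨h1, h2⟩
    refine Subgroup.mem_bot.mpr (CfsgLib.LocalEven.Qd.ext_parts ?_ (h1.trans (CfsgLib.LocalEven.Qd.compl F).one_mem.symm))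
    rw [map_one]
    exact h2
  · rw [eq_top_iff]
    intro M _
    have h : M * (CfsgLib.LocalEven.Qd.mkElt F (CfsgLib.LocalEven.Qd.block F M) 0)⁻¹ ∈
        (CfsgLib.LocalEven.Qd.block F).ker := by
      rw [MonoidHom.mem_ker, map_mul, map_inv, CfsgLib.LocalEven.Qd.block_mkElt, mul_inv_cancel]
    have := mul_mem (Subgroup.mem_sup_right (S := CfsgLib.LocalEven.Qd.compl F) h)
      (Subgroup.mem_sup_left (T := (CfsgLib.LocalEven.Qd.block F).ker)
        (show CfsgLib.LocalEven.Qd.mkElt F (CfsgLib.LocalEven.Qd.block F M) 0 ∈ CfsgLib.LocalEven.Qd.compl F from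
          CfsgLib.LocalEven.Qd.trans_mkElt _ 0))
    rwa [inv_mul_cancel_right] at this

end Cfsg.Agent.S2762
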