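import Cfsg.Statements.S2764
import Cfsg.Agent.Lib.LocalEven.PushUp.Factors

set_option autoImplicit false
open Cfsg

namespace Cfsg.Agent.S2764

/-- Pushing up for a rank-one quotient: let G be a finite group and p a prime with C_G(O_p(G)) ≤ O_p(G), suppose G/K ≅ PSL₂(p^n) for some normal subgroup K and some n ≥ 1, that a Sylow p-subgroup S of G lies in exactly one maximal subgroup of G, and that no nontrivial characteristic subgroup of S is normal in G. Then G/O_p(G) ≅ SL₂(p^n), and every noncentral chief factor U/W of G inside O_p(G) is a natural SL₂-module over the field with p^n elements for the action of G/W. -/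
theorem result {G : Type*} [Group G] [Finite G] {p : ℕ} [Fact p.Prime] (S : Sylow p G) (hE₁ : Subgroup.centralizer (Cfsg.pCore p G : Set G) ≤ Cfsg.pCore p G) (hE₂ : ∃! M : Subgroup G, IsCoatom M ∧ (S : Subgroup G) ≤ M) (K : Subgroup G) [K.Normal] (F : Type) [Field F] [Fintype F] (n : ℕ) (hn : 1 ≤ n) (hF : Fintype.card F = p ^ n) (hE₃ : Nonempty (G ⧸ K ≃* Matrix.ProjectiveSpecialLinearGroup (Fin 2) F)) (hd : ∀ T : Subgroup ↥(S : Subgroup G), T ≠ ⊥ → T.Characteristic → ¬ (T.map (S : Subgroup G).subtype).Normal) : Nonempty (G ⧸ Cfsg.pCore p G ≃* Matrix.SpecialLinearGroup (Fin 2) F) ∧ ∀ (U W : Subgroup G) [W.Normal], U ≤ Cfsg.pCore p G → Cfsg.IsChiefFactor U W → ¬ ⁅U, (⊤ : Subgroup G)⁆ ≤ W → Cfsg.IsNaturalSL2Module F (U.map (QuotientGroup.mk' W)) (⊤ : Subgroup (G ⧸ W)) := by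
  open scoped commutatorElement in
  haveI hQn : (Cfsg.pCore p G).Normal := CfsgLib.Core.normal_pCore p G
  obtain ⟨M, hr⟩ := CfsgLib.PushUp.exists_rankOne S hE₂ K F n hn hF hE₃
  obtain ⟨A, B, hA, hB, ⟨hAQ, -⟩, hcase⟩ := hr.conclusion hE₁ hd
  constructor
  · obtain ⟨χ, σ, hσ, -, -, -, hσk, -⟩ := hA.exists_rep hr.index F hF
    have hker : σ.ker = Cfsg.pCore p G := by ext g; exact MonoidHom.mem_ker.trans (hσk g)
    exact ⟨(QuotientGroup.quotientMulEquivOfEq hker.symm).trans (QuotientGroup.quotientKerEquivOfSurjective σ hσ)⟩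
  intro U W hW hUQ hch hnc
  haveI : U.Normal := hch.2.1
  obtain ⟨hlt, -, -, hmin⟩ := hch
  have hch : Cfsg.IsChiefFactor U W := ⟨hlt, inferInstance, inferInstance, hmin⟩
  have key : ∀ Y : Subgroup G, CfsgLib.PushUp.TopSec (⊤ : Subgroup G) (Cfsg.pCore p G) Y →
      CfsgLib.PushUp.Stable (⊤ : Subgroup G) Y → ¬ U ⊓ Y ≤ W := by
    intro Y hY hYst hle
    haveI := CfsgLib.PushUp.normal_of_stable hYst
    haveI := hQn
    obtain ⟨k, hk⟩ := hY.exists_iter_le (CfsgLib.Core.isPGroup_pCore p G)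
    have hT : U ≤ ⁅U, (⊤ : Subgroup G)⁆ ⊔ W := by
      rcases hmin (⁅U, (⊤ : Subgroup G)⁆ ⊔ W) inferInstance le_sup_right
        (sup_le (Subgroup.commutator_le_left U ⊤) hlt.le) with e | e
      · exact absurd (le_sup_left.trans e.le) hnc
      · exact e.ge
    have hall : ∀ j, U ≤ U ⊓ Cfsg.iterCommutator (Cfsg.pCore p G) ⊤ j ⊔ W := by
      intro j
      induction j with
      | zero => exact le_sup_of_le_left (le_inf le_rfl hUQ)
      | succ j ih =>
        obtain ⟨X, hX⟩ : ∃ X, X = Cfsg.iterCommutator (Cfsg.pCore p G) ⊤ (j + 1) := ⟨_, rfl⟩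
        haveI hn : ∀ i, (Cfsg.iterCommutator (Cfsg.pCore p G) ⊤ i).Normal := by
          intro i
          induction i with
          | zero => exact hQn
          | succ i hi => haveI := hi; show (⁅_, _⁆ : Subgroup G).Normal; infer_instance
        haveI : X.Normal := hX ▸ hn (j + 1)
        rw [← hX]
        refine hT.trans (sup_le ?_ le_sup_right)
        refine (Subgroup.commutator_mono ih le_rfl).trans (Subgroup.commutator_le.2 fun x hx g _ => ?_)
        obtain ⟨π, hπ⟩ : ∃ π, π = QuotientGroup.mk' (U ⊓ X ⊔ W) := ⟨_, rfl⟩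
        refine (QuotientGroup.eq_one_iff _).1 ?_
        show QuotientGroup.mk' (U ⊓ X ⊔ W) ⁅x, g⁆ = 1
        have hc : U ⊓ Cfsg.iterCommutator (Cfsg.pCore p G) ⊤ j ⊔ W ≤ (Subgroup.center (G ⧸ (U ⊓ X ⊔ W))).comap π := by
          refine sup_le (fun a ha => Subgroup.mem_center_iff.2 fun w => ?_) fun a ha => ?_
          · obtain ⟨w, rfl⟩ := (hπ ▸ QuotientGroup.mk'_surjective _ : Function.Surjective π) w
            have h1 : π ⁅a, w⁆ = 1 := by
              rw [hπ]
              refine (QuotientGroup.eq_one_iff _).2 (Subgroup.mem_sup_left ⟨?_, ?_⟩)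
              · exact (Subgroup.commutator_le_left U ⊤) (Subgroup.commutator_mem_commutator ha.1 trivial)
              · rw [hX]; exact Subgroup.commutator_mem_commutator ha.2 trivial
            rw [map_commutatorElement, commutatorElement_eq_one_iff_mul_comm] at h1
            exact h1.symm
          · have e : π a = 1 := by rw [hπ]; exact (QuotientGroup.eq_one_iff a).2 (Subgroup.mem_sup_right ha)
            rw [Subgroup.mem_comap, e]
            exact one_mem _
        rw [← hπ, map_commutatorElement]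
        exact commutatorElement_eq_one_iff_mul_comm.2 (Subgroup.mem_center_iff.1 (hc hx) (π g)).symm
    exact hlt.not_ge ((hall k).trans (sup_le ((inf_le_inf_left U hk).trans hle) le_rfl))
  have hlow0 : U ⊓ B ≤ W := by
    by_contra hne
    exact hnc (CfsgLib.PushUp.comm_le_of_central hB (by simp) hlt.le
      (CfsgLib.PushUp.chief_cover hch hA.stB hne) hA.stB)
  have hnatA : ¬ U ⊓ A ≤ W → Cfsg.IsNaturalSL2Module F (U.map (QuotientGroup.mk' W)) (⊤ : Subgroup (G ⧸ W)) :=
    fun hne => hA.natural hr.index F hF hch hUQ hlow0 hne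
  by_cases hne : U ⊓ A ≤ W
  swap
  · exact hnatA hne
  rcases hcase with ⟨-, -, -, htop⟩ | ⟨-, -, -, -, -, E, V, -, hEA, hV, -, htop⟩
  · exact absurd hne (key A htop hA.stA)
  · have hlow1 : U ⊓ E ≤ W := by
      by_contra hne1
      exact hnc (CfsgLib.PushUp.comm_le_of_central hEA hne hlt.le
        (CfsgLib.PushUp.chief_cover hch hV.stB hne1) hV.stB)
    exact hV.natural hr.index F hF hch hUQ hlow1 (key V htop hV.stA)

end Cfsg.Agent.S2764
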