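import Cfsg.Statements.S2765
import Cfsg.Agent.Lib.LocalEven.PushUp.Factors

set_option autoImplicit false
open Cfsg

namespace Cfsg.Agent.S2765

/-- In the same pushing-up situation (G finite, C_G(O_p(G)) ≤ O_p(G), G/K ≅ PSL₂(p^n) with n ≥ 1, a Sylow p-subgroup S in exactly one maximal subgroup, no nontrivial characteristic subgroup of S normal in G), one of the following holds: (I) S has nilpotency class 2, exponent 4 if p = 2 and exponent p otherwise, and G has exactly one noncentral chief factor inside O_p(G); or (II) p = 3, S has class 3 and exponent 9, and G has exactly two noncentral chief factors inside O_p(G). 'Exactly one' is phrased as: some noncentral chief factor U/W inside O_p(G) with G acting hypercentrally on W and on O_p(G)/U; 'exactly two' analogously with a chain. -/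
theorem result {G : Type*} [Group G] [Finite G] {p : ℕ} [Fact p.Prime] (S : Sylow p G) (hE₁ : Subgroup.centralizer (Cfsg.pCore p G : Set G) ≤ Cfsg.pCore p G) (hE₂ : ∃! M : Subgroup G, IsCoatom M ∧ (S : Subgroup G) ≤ M) (K : Subgroup G) [K.Normal] (F : Type) [Field F] [Fintype F] (n : ℕ) (hn : 1 ≤ n) (hF : Fintype.card F = p ^ n) (hE₃ : Nonempty (G ⧸ K ≃* Matrix.ProjectiveSpecialLinearGroup (Fin 2) F)) (hd : ∀ T : Subgroup ↥(S : Subgroup G), T ≠ ⊥ → T.Characteristic → ¬ (T.map (S : Subgroup G).subtype).Normal) : ((S : Subgroup G).lowerCentralSeries 2 = ⊥ ∧ (S : Subgroup G).lowerCentralSeries 1 ≠ ⊥ ∧ (p = 2 → Monoid.exponent ↥(S : Subgroup G) = 4) ∧ (p ≠ 2 → Monoid.exponent ↥(S : Subgroup G) = p) ∧ (∃ U W : Subgroup G, W ≤ U ∧ U ≤ (Cfsg.pCore p G) ∧ Cfsg.IsChiefFactor U W ∧ ¬ ⁅U, (⊤ : Subgroup G)⁆ ≤ W ∧ (∃ k : ℕ, Cfsg.iterCommutator W ⊤ k = ⊥) ∧ (∃ k : ℕ, Cfsg.iterCommutator (Cfsg.pCore p G) ⊤ k ≤ U))) ∨ (p = 3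 ∧ (S : Subgroup G).lowerCentralSeries 3 = ⊥ ∧ (S : Subgroup G).lowerCentralSeries 2 ≠ ⊥ ∧ Monoid.exponent ↥(S : Subgroup G) = 9 ∧ (∃ U₁ W₁ U₂ W₂ : Subgroup G, W₁ ≤ U₁ ∧ U₁ ≤ W₂ ∧ W₂ ≤ U₂ ∧ U₂ ≤ (Cfsg.pCore p G) ∧ Cfsg.IsChiefFactor U₁ W₁ ∧ Cfsg.IsChiefFactor U₂ W₂ ∧ ¬ ⁅U₁, (⊤ : Subgroup G)⁆ ≤ W₁ ∧ ¬ ⁅U₂, (⊤ : Subgroup G)⁆ ≤ W₂ ∧ (∃ k : ℕ, Cfsg.iterCommutator W₁ ⊤ k = ⊥) ∧ (∃ k : ℕ, Cfsg.iterCommutator W₂ ⊤ k ≤ U₁) ∧ (∃ k : ℕ, Cfsg.iterCommutator (Cfsg.pCore p G) ⊤ k ≤ U₂))) := by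
  open scoped commutatorElement in
  haveI hQn : (Cfsg.pCore p G).Normal := CfsgLib.Core.normal_pCore p G
  obtain ⟨M, hr⟩ := CfsgLib.PushUp.exists_rankOne S hE₂ K F n hn hF hE₃
  obtain ⟨A, B, hA, hB, ⟨hAQ, -⟩, hcase⟩ := hr.conclusion hE₁ hd
  obtain ⟨hAc, hAn⟩ := hA.chief
  have hB0 : ∃ k : ℕ, Cfsg.iterCommutator B ⊤ k = ⊥ := ⟨1, eq_bot_iff.2 (Subgroup.commutator_le.2 fun b hb g _ => by
    have h1 := hB g trivial b hb
    rw [Subgroup.mem_bot] at h1 ⊢
    rw [← commutatorElement_inv, inv_eq_one, commutatorElement_def]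
    exact h1)⟩
  rcases hcase with ⟨c1, c2, c3, htop⟩ | ⟨hp3, c1, c2, c3, ⟨s, hs, hs3⟩, E, V, hAE, hEA, hV, hVQ, htop⟩
  · haveI := CfsgLib.PushUp.normal_of_stable hA.stA
    refine Or.inl ⟨c1, c2, fun hp2 => ?_, fun hp2 => ?_, A, B, hA.le, hAQ, hAc, hAn, hB0,
      htop.exists_iter_le (CfsgLib.Core.isPGroup_pCore p G)⟩
    · rw [if_pos hp2] at c3
      have hdvd : Monoid.exponent ↥(S : Subgroup G) ∣ 2 ^ 2 :=
        Monoid.exponent_dvd_of_forall_pow_eq_one fun x => Subtype.ext (c3 x x.2)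
      obtain ⟨j, hj, hje⟩ := (Nat.dvd_prime_pow Nat.prime_two).1 hdvd
      rcases Nat.lt_or_ge j 2 with hj2 | hj2
      · exfalso
        refine c2 (eq_bot_iff.2 ?_)
        rw [Subgroup.lowerCentralSeries_succ, Subgroup.lowerCentralSeries_zero, Subgroup.commutator_le]
        intro a ha b hb
        have hsq : ∀ x ∈ (S : Subgroup G), x * x = 1 := by
          intro x hx
          have h2 : Monoid.exponent ↥(S : Subgroup G) ∣ 2 := hje ▸ (pow_dvd_pow 2 (by omega : j ≤ 1))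
          have h3 : (⟨x, hx⟩ : ↥(S : Subgroup G)) ^ 2 = 1 :=
            orderOf_dvd_iff_pow_eq_one.1 ((Monoid.order_dvd_exponent _).trans h2)
          exact (sq x).symm.trans (congrArg Subtype.val h3)
        rw [Subgroup.mem_bot, commutatorElement_eq_one_iff_mul_comm]
        calc a * b = b * b * (a * b) * (a * a) := by rw [hsq a ha, hsq b hb]; group
          _ = b * (b * a * (b * a)) * a := by group
          _ = b * a := by rw [hsq _ (mul_mem hb ha)]; group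
      · rw [hje, show j = 2 by omega]; norm_num
    · rw [if_neg hp2] at c3
      have hdvd : Monoid.exponent ↥(S : Subgroup G) ∣ p :=
        Monoid.exponent_dvd_of_forall_pow_eq_one fun x => Subtype.ext (c3 x x.2)
      rcases (Nat.dvd_prime Fact.out).1 hdvd with e | e
      · exfalso
        haveI := Monoid.exp_eq_one_iff.1 e
        refine c2 (eq_bot_iff.2 fun x hx => ?_)
        have hxS := Subgroup.lowerCentralSeries_antitone (S : Subgroup G) (Nat.zero_le 1) hx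
        exact congrArg Subtype.val (Subsingleton.elim (⟨x, hxS⟩ : ↥(S : Subgroup G)) 1)
      · exact e
  · subst hp3
    haveI := CfsgLib.PushUp.normal_of_stable hV.stA
    obtain ⟨hVc, hVn⟩ := hV.chief
    refine Or.inr ⟨rfl, c1, c2, ?_, A, B, V, E, hA.le, hAE, hV.le, hVQ, hAc, hVc, hAn, hVn, hB0, ⟨1, ?_⟩,
      htop.exists_iter_le (CfsgLib.Core.isPGroup_pCore 3 G)⟩
    · have hdvd : Monoid.exponent ↥(S : Subgroup G) ∣ 3 ^ 2 :=
        Monoid.exponent_dvd_of_forall_pow_eq_one fun x => Subtype.ext (c3 x x.2)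
      obtain ⟨j, hj, hje⟩ := (Nat.dvd_prime_pow Nat.prime_three).1 hdvd
      rcases Nat.lt_or_ge j 2 with hj2 | hj2
      · exfalso
        have h2 : Monoid.exponent ↥(S : Subgroup G) ∣ 3 := hje ▸ (pow_dvd_pow 3 (by omega : j ≤ 1))
        exact hs3 (congrArg Subtype.val
          (orderOf_dvd_iff_pow_eq_one.1 ((Monoid.order_dvd_exponent (⟨s, hs⟩ : ↥(S : Subgroup G))).trans h2)))
      · rw [hje, show j = 2 by omega]; norm_num
    · refine Subgroup.commutator_le.2 fun b hb g _ => ?_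
      rw [← commutatorElement_inv, commutatorElement_def]
      exact inv_mem (hEA g trivial b hb)

end Cfsg.Agent.S2765
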