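import Cfsg.Statements.S2766
import Cfsg.Agent.Lib.LocalEven.PushUp.QdSplit
import Cfsg.Agent.Lib.LocalEven.PushUp.LocalSetup
import Cfsg.Agent.Lib.LocalEven.PushUp.Factors

set_option autoImplicit false
open Cfsg

namespace Cfsg.Agent.S2766

/-- Let p ≥ 5 be prime and G a maximal p-local subgroup of a finite group H (G is the normalizer of a nontrivial p-subgroup and lies in no other such normalizer). Suppose C_G(O_p(G)) ≤ O_p(G), G/K ≅ PSL₂(p^n) for some normal K and n ≥ 1, a Sylow p-subgroup S of G lies in exactly one maximal subgroup of G, and N_H(S) is not contained in G. Then G = G₀ × E for subgroups G₀ ≅ Qd(p^n) (the natural semidirect product of the plane over the field with p^n elements by SL₂) and E an elementary abelian p-group. -/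
theorem result {H : Type*} [Group H] [Finite H] {p : ℕ} [Fact p.Prime] (hp : 5 ≤ p) (G : Subgroup H) (hloc : ∃ R : Subgroup H, IsPGroup p ↥R ∧ R ≠ ⊥ ∧ G = Subgroup.normalizer (R : Set H)) (hmax : ∀ R : Subgroup H, IsPGroup p ↥R → R ≠ ⊥ → G ≤ Subgroup.normalizer (R : Set H) → Subgroup.normalizer (R : Set H) = G) (S : Sylow p ↥G) (hE₁ : Subgroup.centralizer (Cfsg.pCore p ↥G : Set ↥G) ≤ Cfsg.pCore p ↥G) (hE₂ : ∃! M : Subgroup ↥G, IsCoatom M ∧ (S : Subgroup ↥G) ≤ M) (K : Subgroup ↥G) [K.Normal] (F : Type) [Field F] [Fintype F] (n : ℕ) (hn : 1 ≤ n) (hF : Fintype.card F = p ^ n) (hE₃ : Nonempty (↥G ⧸ K ≃* Matrix.ProjectiveSpecialLinearGroup (Fin 2) F)) (hN : ¬ Subgroup.normalizer (((S : Subgroup ↥G).map G.subtype : Subgroup H) : Set H) ≤ G) : ∃ G₀ E : Subgroup H, Cfsg.IsInternalDirectProduct G₀ E G ∧ Cfsg.IsElementaryAbelian p E ∧ Nonempty (↥G₀ ≃* ↥(Cfsg.qdOver F)) := by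
  open scoped commutatorElement in
  obtain ⟨M, hr⟩ := CfsgLib.PushUp.exists_rankOne S hE₂ K F n hn hF hE₃
  haveI := CfsgLib.PushUp.charP_of_card hn hF
  obtain ⟨ι, hι'⟩ : ∃ ι : ↥G →* H, ι = G.subtype := ⟨_, rfl⟩
  have hι : Function.Injective ι := hι' ▸ Subgroup.subtype_injective G
  have hGmap : (⊤ : Subgroup ↥G).map ι = G := by rw [← MonoidHom.range_eq_map, hι', Subgroup.range_subtype]
  have hrange : ι.range = G := by rw [hι', Subgroup.range_subtype]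
  rw [← hι'] at hN
  obtain ⟨S', hS'⟩ : ∃ S' : Subgroup H, S' = (S : Subgroup ↥G).map ι := ⟨_, rfl⟩
  rw [← hS'] at hN
  obtain ⟨Q', hQ'⟩ : ∃ Q' : Subgroup H, Q' = (Cfsg.pCore p ↥G).map ι := ⟨_, rfl⟩
  have hnorm : ∀ {T : Subgroup H} {g : H}, CfsgLib.PushUp.cj g T = T → g ∈ Subgroup.normalizer (T : Set H) := by
    intro T g e
    rw [Subgroup.mem_normalizer_iff]
    refine fun x => ⟨fun hx => e ▸ CfsgLib.PushUp.conj_mem_cj hx, fun hx => ?_⟩
    have := CfsgLib.PushUp.mem_cj.1 (e.ge hx)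
    simpa [mul_assoc] using this
  have h : CfsgLib.PushUp.Setup p ((⊤ : Subgroup ↥G).map ι) S' Q' (M.map ι) (Subgroup.normalizer (S' : Set H)) := by
    rw [hS', hQ']
    rw [hS'] at hN
    refine hr.setup_map hE₁ ι hι _ (fun g hg x hx => (Subgroup.mem_normalizer_iff.1 hg x).1 hx) fun T hT hG hTN => ?_
    by_contra hne
    refine hN (fun g hg => ?_)
    rw [← hmax T ((S.2.map ι).to_le hT) hne fun g hg => hnorm (CfsgLib.PushUp.cj_eq_of_forall (hG g (hGmap.ge hg)))]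
    exact hnorm (CfsgLib.PushUp.cj_eq_of_forall (hTN g hg))
  obtain ⟨b, hb1, d⟩ := h.exists_dist
  have hb2 := h.dist_le_two d
  obtain rfl | rfl : b = 1 ∨ b = 2 := by omega
  swap
  · obtain ⟨g₀, m₀, g₁, m₁, m, tw⟩ := h.exists_two
      (fun x _ hx => hnorm (CfsgLib.PushUp.cj_eq_of_forall hx)) d
    have := tw.three h
    omega
  obtain ⟨m, o⟩ := h.exists_one d
  obtain ⟨Z, hZ⟩ : ∃ Z, Z = CfsgLib.PushUp.zc p ((⊤ : Subgroup ↥G).map ι) S' := ⟨_, rfl⟩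
  have hZst : CfsgLib.PushUp.Stable ((⊤ : Subgroup ↥G).map ι) Z := hZ ▸ CfsgLib.PushUp.zc_stable _ _
  have hZQ : Z ≤ Q' := hZ ▸ h.zc_le_Q
  have hSG : S' ≤ G := h.SG.trans hGmap.le
  have hqdec : ∀ q ∈ Q', ∃ a ∈ Z, ∃ e ∈ Q', e ∈ CfsgLib.PushUp.cj m Q' ∧ q = a * e := by
    intro q hq
    have hn' : CfsgLib.PushUp.cj m Q' ≤ Subgroup.normalizer (Z : Set H) := fun x hx =>
      hnorm (CfsgLib.PushUp.cj_eq_of_forall (hZst x (h.SG (o.full'.le (Subgroup.mem_sup_right hx)))))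
    have h1 : q ∈ (↑(Z ⊔ CfsgLib.PushUp.cj m Q') : Set H) := by
      rw [hZ]; exact o.full'.ge (h.QS hq)
    rw [Subgroup.coe_mul_of_right_le_normalizer_left _ _ hn'] at h1
    obtain ⟨a, ha, e, he, rfl⟩ := h1
    exact ⟨a, ha, e, (Subgroup.mul_mem_cancel_left _ (hZQ ha)).1 hq, he, rfl⟩
  have hQab : ∀ a ∈ Q', ∀ b ∈ Q', a * b = b * a := by
    obtain ⟨R, hR⟩ : ∃ R : Subgroup H, R = ⁅Q', Q'⁆ := ⟨_, rfl⟩
    have hcj : ∀ g, CfsgLib.PushUp.cj g R = ⁅CfsgLib.PushUp.cj g Q', CfsgLib.PushUp.cj g Q'⁆ := fun g => by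
      rw [hR]; exact Subgroup.map_commutator _ _ _
    have hle : R ≤ CfsgLib.PushUp.cj m R := by
      rw [hcj m, hR, Subgroup.commutator_le]
      intro a ha b hb
      obtain ⟨a₁, ha₁, d₁, hd₁, hd₁', rfl⟩ := hqdec a ha
      obtain ⟨a₂, ha₂, d₂, hd₂, hd₂', rfl⟩ := hqdec b hb
      have hc : ∀ x ∈ Z, ∀ y ∈ Q', Commute x y := fun x hx y hy => h.zc_comm (hZ ▸ hx) hy
      have e1 : ⁅a₁ * d₁, a₂ * d₂⁆ = ⁅d₁, d₂⁆ := by
        rw [commutatorElement_def, commutatorElement_def]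
        calc a₁ * d₁ * (a₂ * d₂) * (a₁ * d₁)⁻¹ * (a₂ * d₂)⁻¹
            = a₁ * (d₁ * (a₂ * d₂) * d₁⁻¹) * a₁⁻¹ * (a₂ * d₂)⁻¹ := by group
          _ = (d₁ * (a₂ * d₂) * d₁⁻¹) * (a₂ * d₂)⁻¹ := by
              rw [(hc a₁ ha₁ _ (mul_mem (mul_mem hd₁ hb) (inv_mem hd₁))).eq, mul_inv_cancel_right]
          _ = (d₁ * a₂) * (d₂ * d₁⁻¹ * d₂⁻¹) * a₂⁻¹ := by group
          _ = a₂ * (d₁ * (d₂ * d₁⁻¹ * d₂⁻¹)) * a₂⁻¹ := by rw [← (hc a₂ ha₂ d₁ hd₁).eq]; group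
          _ = d₁ * (d₂ * d₁⁻¹ * d₂⁻¹) := by
              rw [(hc a₂ ha₂ _ (mul_mem hd₁ (mul_mem (mul_mem hd₂ (inv_mem hd₁)) (inv_mem hd₂)))).eq, mul_inv_cancel_right]
          _ = _ := by group
      rw [e1]
      exact Subgroup.commutator_mem_commutator hd₁' hd₂'
    intro a ha b hb
    have hab : ⁅a, b⁆ ∈ R := hR ▸ Subgroup.commutator_mem_commutator ha hb
    by_contra hne
    have hRS : R ≤ S' := hR ▸ Subgroup.commutator_le.2 fun x hx y hy => by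
      rw [commutatorElement_def]
      exact mul_mem (mul_mem (mul_mem (h.QS hx) (h.QS hy)) (inv_mem (h.QS hx))) (inv_mem (h.QS hy))
    have hRne : R ≠ ⊥ := fun e => hne (commutatorElement_eq_one_iff_mul_comm.1 (Subgroup.mem_bot.1 (e ▸ hab)))
    have hfix := Subgroup.eq_of_le_of_card_ge hle (CfsgLib.PushUp.card_cj m R).le
    have hmG : m ∈ G := by
      rw [← hmax R (h.pS.to_le hRS) hRne fun g hg => hnorm (by
        rw [hcj, CfsgLib.PushUp.cj_eq_of_forall (h.Qn g (hGmap.ge hg)), hR])]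
      exact hnorm hfix.symm
    refine o.nle ?_
    rw [← hZ, CfsgLib.PushUp.cj_eq_of_forall (hZst m (hGmap.ge hmG))]
    exact hZQ
  obtain ⟨X, hX⟩ : ∃ X : Subgroup H, X = CfsgLib.PushUp.cj m Z := ⟨_, rfl⟩
  obtain ⟨D, hD⟩ : ∃ D : Subgroup H, D = Q' ⊓ CfsgLib.PushUp.cj m Q' := ⟨_, rfl⟩
  have hYc : X ⊔ D ≤ Subgroup.centralizer ((X ⊔ D : Subgroup H) : Set H) := by
    have hxd : ∀ x ∈ X, ∀ y ∈ D, x * y = y * x := fun x hx y hy =>
      h.comm_Q (a := m) (show x ∈ CfsgLib.PushUp.zv p _ S' m by rw [hX, hZ] at hx; exact hx) (hD ▸ hy).2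
    refine sup_le (Subgroup.le_centralizer_iff.1 (sup_le ?_ ?_)) (Subgroup.le_centralizer_iff.1 (sup_le ?_ ?_))
    · exact fun x hx => Subgroup.mem_centralizer_iff.2 fun y hy => by
        rw [hX, hZ] at hx hy
        exact h.zv_comm (a := m) hy hx
    · exact fun x hx => Subgroup.mem_centralizer_iff.2 fun y hy => hxd y hy x hx
    · exact fun x hx => Subgroup.mem_centralizer_iff.2 fun y hy => (hxd x hx y hy).symm
    · exact fun x hx => Subgroup.mem_centralizer_iff.2 fun y hy => hQab y (hD ▸ hy).1 x (hD ▸ hx).1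
  obtain ⟨H₁, hH₁G, hH₁st, -, hH₁Q, hH₁c⟩ := o.exists_H h
  have hexp := o.exponent h
  rw [if_neg (by omega : p ≠ 2)] at hexp
  have hSp : ∀ s ∈ (S : Subgroup ↥G), s ^ p = 1 := fun s hs => hι (by
    rw [map_pow, map_one]; exact hexp _ (hS' ▸ ⟨s, hs, rfl⟩))
  have hnat := h.natSec_zc (o.centralizer_eq h)
  rw [← hZ] at hH₁c hnat
  obtain ⟨Bz, hBz⟩ : ∃ Bz : Subgroup H, Bz = Z ⊓ Subgroup.centralizer (((⊤ : Subgroup ↥G).map ι : Subgroup H) : Set H) :=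
    ⟨_, rfl⟩
  rw [← hBz] at hnat
  subst hS' hQ'
  obtain ⟨F', i1, i2, χ, σ0, hc', hσ0, hadd, hsur, hk, hσk0, hact0⟩ :=
    (hnat.comap hι ((hZQ.trans h.QS).trans (Subgroup.map_le_range ι _))).coord
  have hcard : Fintype.card F' = Fintype.card F := hF ▸ Nat.eq_of_mul_eq_mul_right Nat.card_pos (hc'.trans hr.index.symm)
  obtain ⟨φ⟩ : Nonempty (F' ≃+* F) := ⟨FiniteField.ringEquivOfCardEq hcard⟩
  haveI hQn : (Cfsg.pCore p ↥G).Normal := CfsgLib.Core.normal_pCore p ↥G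
  haveI hZn : (Z.comap ι).Normal := CfsgLib.PushUp.normal_of_stable hZst.comap
  haveI hH₁n : (H₁.comap ι).Normal := CfsgLib.PushUp.normal_of_stable hH₁st.comap
  obtain ⟨σ, hσ⟩ : ∃ σ : ↥G →* Matrix.SpecialLinearGroup (Fin 2) F,
      σ = ((Matrix.SpecialLinearGroup.map φ.toRingHom).comp σ0).comp (Subgroup.topEquiv (G := ↥G)).symm.toMonoidHom :=
    ⟨_, rfl⟩
  have hφs : Function.Surjective (Matrix.SpecialLinearGroup.map (n := Fin 2) φ.toRingHom) := fun T =>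
    ⟨Matrix.SpecialLinearGroup.map φ.symm.toRingHom T, by ext i j; simp⟩
  have hφi : Function.Injective (Matrix.SpecialLinearGroup.map (n := Fin 2) φ.toRingHom) := fun A B e => by
    ext i j
    have := congrArg (fun C => ((C : Matrix.SpecialLinearGroup (Fin 2) F) : Matrix (Fin 2) (Fin 2) F) i j) e
    simpa using this
  obtain ⟨ψ, E, hψ, hE, hEc, hinf, hsup⟩ : ∃ (ψ : ↥(Cfsg.qdOver F) →* ↥G) (E : Subgroup ↥G), Function.Injective ψ ∧
      Cfsg.IsElementaryAbelian p E ∧ (∀ e ∈ E, ∀ g : ↥G, g * e = e * g) ∧ ψ.range ⊓ E = ⊥ ∧ ψ.range ⊔ E = ⊤ := by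
    refine CfsgLib.PushUp.exists_qd_split hp F (S : Subgroup ↥G) (Cfsg.pCore p ↥G)
      (Z.comap ι) (Bz.comap ι) ((X ⊔ D).comap ι) (H₁.comap ι) S.2 ?_ (CfsgLib.Core.pCore_le_sylow S) hSp ?_ ?_ ?_ ?_ ?_
      ?_ ?_ ?_ (fun g i => φ (χ g i)) σ ?_ ?_ ?_ ?_ ?_ ?_
    · obtain ⟨k, hk'⟩ := IsPGroup.iff_card.1 (CfsgLib.Core.isPGroup_pCore p ↥G)
      rw [hk']
      exact ((Fact.out : p.Prime).coprime_iff_not_dvd.2 S.not_dvd_index).pow_left k
    · intro x hx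
      obtain ⟨y, hy, e⟩ := hZQ hx
      exact hι e ▸ hy
    · exact fun a ha b hb => hι (by rw [map_mul, map_mul]; exact hQab _ ⟨a, ha, rfl⟩ _ ⟨b, hb, rfl⟩)
    · exact Subgroup.comap_mono (hBz ▸ inf_le_left)
    · intro b hb g
      rw [Subgroup.mem_comap, hBz] at hb
      exact hι (by rw [map_mul, map_mul]; exact Subgroup.mem_centralizer_iff.1 hb.2 _ ⟨g, trivial, rfl⟩)
    · exact fun a ha b hb => hι (by
        rw [map_mul, map_mul]; exact (Subgroup.mem_centralizer_iff.1 (hYc ha) _ hb).symm)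
    · intro s hs
      obtain ⟨x, hx, q, hq, e⟩ := o.mem_prod h (s := ι s) ⟨s, hs, rfl⟩
      obtain ⟨a, ha, c, hc, hc1, rfl⟩ := hqdec q hq
      rw [← hZ, ← hX] at hx
      obtain ⟨a', rfl⟩ := ((hZQ.trans h.QS).trans (Subgroup.map_le_range ι _)) ha
      obtain ⟨c', rfl⟩ := (h.QS.trans (Subgroup.map_le_range ι _)) hc
      have hxr : x ∈ ι.range := by
        rw [hX, hZ] at hx
        exact (o.le.trans (Subgroup.map_le_range ι _)) hx
      obtain ⟨x', rfl⟩ := hxr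
      have es : s = x' * (a' * c') := hι (by rw [map_mul, map_mul]; exact e)
      rw [es]
      exact mul_mem (Subgroup.mem_sup_right (Subgroup.mem_comap.2 (Subgroup.mem_sup_left hx)))
        (mul_mem (Subgroup.mem_sup_left (Subgroup.mem_comap.2 ha))
          (Subgroup.mem_sup_right (Subgroup.mem_comap.2 (Subgroup.mem_sup_right (hD ▸ ⟨hc, hc1⟩)))))
    · refine Subgroup.map_injective hι ?_
      rw [Subgroup.map_sup, Subgroup.map_comap_eq_self (hH₁G.trans (Subgroup.map_le_range ι _)), hH₁Q]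
    · intro g hg q hq
      rw [Subgroup.mem_comap, map_mul, map_mul, map_mul, map_inv, map_inv]
      exact hH₁c _ hg _ ⟨q, hq, rfl⟩
    · rw [hσ]; exact (hφs.comp hσ0).comp (Subgroup.topEquiv (G := ↥G)).symm.surjective
    · intro g
      rw [hσ]
      exact (map_eq_one_iff _ hφi).trans (hσk0 _)
    · intro u hu v hv
      funext i
      show φ (χ (u * v) i) = φ (χ u i) + φ (χ v i)
      rw [hadd u hu v hv, Pi.add_apply, map_add]
    · intro w
      obtain ⟨u, hu, e⟩ := hsur fun i => φ.symm (w i)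
      exact ⟨u, hu, funext fun i => by show φ (χ u i) = w i; rw [e, φ.apply_symm_apply]⟩
    · intro u hu
      rw [← hk u hu, funext_iff, funext_iff]
      exact forall_congr' fun i => map_eq_zero_iff φ φ.injective
    · intro g u hu
      funext i
      show φ (χ (g * u * g⁻¹) i) = _
      have h1 := hact0 ⟨g, trivial⟩ u hu
      rw [show g * u * g⁻¹ = ((⟨g, trivial⟩ : ↥(⊤ : Subgroup ↥G)) : ↥G) * u * ((⟨g, trivial⟩ : ↥(⊤ : Subgroup ↥G)) : ↥G)⁻¹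
        from rfl, h1, hσ]
      exact φ.toRingHom.map_mulVec _ _ i
  refine ⟨(ι.comp ψ).range, E.map ι, ⟨?_, ?_, ?_, ?_, ?_⟩, ⟨?_, ?_⟩, ⟨(MonoidHom.ofInjective (show Function.Injective (ι.comp ψ) from hι.comp hψ)).symm⟩⟩
  · rintro _ ⟨x, rfl⟩; exact hrange.le ⟨ψ x, rfl⟩
  · exact (Subgroup.map_le_range ι E).trans hrange.le
  · rintro _ ⟨x, rfl⟩ _ ⟨e, he, rfl⟩
    rw [MonoidHom.comp_apply, ← map_mul, ← map_mul, hEc e he (ψ x)]
  · rw [MonoidHom.range_comp, ← Subgroup.map_inf _ _ _ hι, hinf, Subgroup.map_bot]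
  · rw [MonoidHom.range_comp, ← Subgroup.map_sup, hsup, hGmap]
  · refine ⟨⟨fun a b => Subtype.ext ?_⟩⟩
    obtain ⟨a', ha', ea⟩ := a.2
    obtain ⟨b', hb', eb⟩ := b.2
    show (a : H) * b = b * a
    rw [← ea, ← eb, ← map_mul, ← map_mul, hEc b' hb' a']
  · rintro _ ⟨e, he, rfl⟩
    rw [← map_pow, hE.2 e he, map_one]

end Cfsg.Agent.S2766
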