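import Cfsg.Statements.S2773
import Cfsg.Agent.Lib.LocalEven.CommonCore.Split

set_option autoImplicit false
universe u
open Cfsg

namespace Cfsg.Agent.S2773

/-- For every nontrivial finite 3-group S there is a nontrivial characteristic subgroup K of S such that, in every finite group G containing S as a Sylow 3-subgroup, S ∩ G' is the product of S ∩ (C_G(Z(S)))' and S ∩ (N_G(K))' (derived subgroups; product taken elementwise). -/
theorem result {S : Type u} [Group S] [Finite S] [Nontrivial S] (hS : IsPGroup 3 S) : ∃ K : Subgroup S, K ≠ ⊥ ∧ K.Characteristic ∧ ∀ (G : Type u) [Group G] [Finite G] (τ : S →* G), Function.Injective τ → (∃ P : Sylow 3 G, (P : Subgroup G) = τ.range) → ∀ g : G, g ∈ τ.range ⊓ commutator G ↔ ∃ a ∈ τ.range ⊓ ⁅Subgroup.centralizer ((τ.range ⊓ Subgroup.centralizer (τ.range : Set G) : Subgroup G) : Set G), Subgroup.centralizer ((τ.range ⊓ Subgroup.centralizer (τ.range : Set G) : Subgroup G) : Set G)⁆, ∃ b ∈ τ.range ⊓ ⁅Subgroup.normalizer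 ((K.map τ : Subgroup G) : Set G), Subgroup.normalizer ((K.map τ : Subgroup G) : Set G)⁆, g = a * b := by
  have hW := CfsgLib.CommonCore.family_func.{u} (p := 3) (by decide) _ (Or.inr rfl)
  refine ⟨CfsgLib.Transfer3.jFun (CfsgLib.CommonCore.coreK 3) S, hW.1 S hS inferInstance,
    CfsgLib.Transfer3.value_char hW hS, fun G _ _ τ hτ hP g => ?_⟩
  obtain ⟨P, hP⟩ := hP
  have hK : Cfsg.inducedFunctor (G := G) (CfsgLib.Transfer3.jFun (CfsgLib.CommonCore.coreK 3)) (P : Subgroup G) =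
      (CfsgLib.Transfer3.jFun (CfsgLib.CommonCore.coreK 3) S).map τ := by
    have htop : Cfsg.inducedFunctor (G := S) (CfsgLib.Transfer3.jFun (CfsgLib.CommonCore.coreK 3)) (⊤ : Subgroup S) =
        CfsgLib.Transfer3.jFun (CfsgLib.CommonCore.coreK 3) S := by
      have h := hW.2 ↥(⊤ : Subgroup S) S (hS.to_subgroup _) Subgroup.topEquiv
      exact h
    rw [hP, MonoidHom.range_eq_map τ, CfsgLib.Techniques.inducedFunctor_map hW (hS.to_subgroup ⊤) τ hτ.injOn, htop]
  have hfocal := CfsgLib.CommonCore.focal_le (p := 3) (by decide) P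
  rw [hK, hP] at hfocal
  obtain ⟨Z, hZ⟩ : ∃ Z, Z = τ.range ⊓ Subgroup.centralizer (τ.range : Set G) := ⟨_, rfl⟩
  obtain ⟨A, hA⟩ : ∃ A, A = τ.range ⊓ ⁅Subgroup.centralizer (Z : Set G), Subgroup.centralizer (Z : Set G)⁆ :=
    ⟨_, rfl⟩
  rw [← hZ] at hfocal ⊢
  rw [← hA] at hfocal ⊢
  have hPC : τ.range ≤ Subgroup.centralizer (Z : Set G) := fun s hs => Subgroup.mem_centralizer_iff.2 fun z hz =>
    (Subgroup.mem_centralizer_iff.1 (hZ.le hz).2 s hs).symm
  have hn : τ.range ≤ Subgroup.normalizer (A : Set G) := fun s hs => hA ▸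
    CfsgLib.Transfer.normalizer_le_normalizer_inf ⟨Subgroup.le_normalizer hs,
      CfsgLib.CommonCore.mem_normalizer_comm (Subgroup.le_normalizer (hPC hs)) (Subgroup.le_normalizer (hPC hs))⟩
  constructor
  · intro hg
    rw [commutator_def] at hg
    have h := hfocal hg
    rw [← SetLike.mem_coe, Subgroup.coe_mul_of_right_le_normalizer_left _ _ (inf_le_left.trans hn)] at h
    obtain ⟨a, ha, b, hb, e⟩ := h
    exact ⟨a, ha, b, hb, e.symm⟩
  · rintro ⟨a, ha, b, hb, rfl⟩
    obtain ⟨ha1, ha2⟩ := Subgroup.mem_inf.1 (hA.le ha)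
    obtain ⟨hb1, hb2⟩ := Subgroup.mem_inf.1 hb
    refine Subgroup.mem_inf.2 ⟨mul_mem ha1 hb1, ?_⟩
    rw [commutator_def]
    exact mul_mem (Subgroup.commutator_mono le_top le_top ha2) (Subgroup.commutator_mono le_top le_top hb2)

end Cfsg.Agent.S2773
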