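import Cfsg.Statements.S2774
import Cfsg.Agent.S2764
import Cfsg.Agent.Lib.LocalEvenB.ThompsonFive.Criterion
import Cfsg.Agent.Lib.LocalEven.Transfer3.Family
import Cfsg.Agent.Lib.LocalEven.Transfer3.Finish

set_option autoImplicit false
open Cfsg

namespace Cfsg.Agent.S2774

universe w

open CfsgLib.Transfer3 CfsgLib.Techniques
open scoped commutatorElement

/-- The family `{Ω₁Z} ∪ {W ∘ J̃}`. -/
def family (p : ℕ) : Set (∀ (Q : Type w) [Group Q], Subgroup Q) :=
  {W | (∀ (Q : Type w) [Group Q], W Q = zFun p Q) ∨ ∃ W₀, IsCharPFunctor.{w} p W₀ ∧ W = jFun W₀}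

theorem family_func {p : ℕ} [Fact p.Prime] : ∀ W ∈ family.{w} p, IsCharPFunctor.{w} p W := by
  intro W hW
  rcases hW with hW | ⟨W₀, h₀, rfl⟩
  · have : W = zFun p := by funext Q i; exact hW Q
    exact this ▸ zFun_isCharPFunctor
  · exact jFun_isCharPFunctor h₀

theorem family_control {p : ℕ} [Fact p.Prime] (hp : p ≠ 2) (H : Type w) [Group H] [Finite H] :
    FamilyControlsTransferIn p (inducedSet (family.{w} p) H) ⊤ := by
  refine familyTransfer_of_sections family_func (fun G _ _ _ hC ind indq => ?_) H (isSec_self H)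
  by_contra hG
  obtain ⟨S⟩ : Nonempty (Sylow p G) := inferInstance
  have hQne : pCore p G ≠ ⊥ := fun h => by
    rw [h] at hC
    have htop : (⊤ : Subgroup G) ≤ ⊥ := le_trans
      (fun g _ => Subgroup.mem_centralizer_iff.2 fun x hx => by rw [Subgroup.mem_bot.1 hx, one_mul, mul_one]) hC
    refine hG (familyControlsTransfer_of_le S (le_trans inf_le_left ?_))
    exact (le_top.trans htop).trans bot_le
  haveI := CfsgLib.Core.normal_pCore p G
  have hfail := not_pCore_inf_le family_func ind (indq _ hQne) hG S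
  have hnormal : ∀ W ∈ family.{w} p, ¬ (inducedFunctor (G := G) W (S : Subgroup G)).Normal := by
    intro W hW hn
    refine hfail fun x hx => Subgroup.mem_iSup_of_mem _ (Subgroup.mem_iSup_of_mem ⟨W, hW, rfl⟩
      (Subgroup.mem_inf.mpr ⟨CfsgLib.Core.pCore_le_sylow S (Subgroup.mem_inf.1 hx).1, ?_⟩))
    show x ∈ ⁅(⊤ : Subgroup G) ⊓ Subgroup.normalizer
      ((inducedFunctor W (S : Subgroup G) : Subgroup G) : Set G), _⁆
    haveI := hn
    rw [Subgroup.normalizer_eq_top, top_inf_eq]
    exact (Subgroup.mem_inf.1 hx).2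
  have hz : zFun p ∈ family.{w} p := Or.inl fun Q _ => rfl
  have hzN : ¬ (zOne p (S : Subgroup G)).Normal := zFun_induced (p := p) (S : Subgroup G) ▸ hnormal _ hz
  have hth := CfsgLib.LocalEvenB.ThompsonFive.thompsonA_isCharPFunctor.{w} (p := p)
  have hthv : inducedFunctor (G := G) (fun Q _ => thompsonSubgroupA Q) (jtOf (S : Subgroup G)) =
      thompsonSubgroupAOf (S : Subgroup G) :=
    thompson_of_between (jtOf_le _) le_rfl
  have hJ : ¬ thompsonSubgroupAOf (S : Subgroup G) ≤ pCore p G := by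
    intro hle
    refine hnormal _ (Or.inr ⟨_, hth, rfl⟩) ?_
    rw [jFun_induced hth S.2, hthv]
    have e := CfsgLib.Techniques.thompsonAOf_eq_of_le (CfsgLib.Core.pCore_le_sylow S)
      fun A hA => (CfsgLib.LocalEven.JMeasure.le_thompson hA).trans hle
    rw [← e, ← Subgroup.normalizer_eq_top_iff, eq_top_iff]
    exact (Subgroup.normalizer_eq_top (pCore p G)).ge.trans (CfsgLib.LocalEven.JMeasure.normalizer_le _)
  have c : Fail S (family.{w} p) := by
    refine ⟨hp, family_func, ⟨_, hz⟩, hC, ind, hfail, hnormal, hzN, hJ, fun W hW T hT hTS => ?_⟩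
    rcases hW with hW | ⟨W₀, h₀, rfl⟩
    · right
      have : W = zFun p := by funext Q i; exact hW Q
      rw [this, zFun_induced]
      refine ⟨fun t ht => Subgroup.mem_centralizer_iff.2 fun z hz' => ?_, zOne p (S : Subgroup G), ?_, ?_, hzN⟩
      · exact (Subgroup.mem_centralizer_iff.1 (CfsgLib.PGroups.omegaOne_le _ hz').2 t ht).symm
      · refine CfsgLib.PGroups.omegaOne_mono fun z hz' => ⟨?_, Subgroup.centralizer_le hTS hz'.2⟩
        exact hT (Subgroup.mem_sup_right (hC (Subgroup.centralizer_le (CfsgLib.Core.pCore_le_sylow S) hz'.2)))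
      · exact fun s hs => Subgroup.mem_centralizer_iff.2 fun z hz' =>
          (Subgroup.mem_centralizer_iff.1 (CfsgLib.PGroups.omegaOne_le _ hz').2 s hs).symm
    · left
      rw [jFun_induced h₀ (S.2.to_le hTS), jFun_induced h₀ S.2, jtOf_of_between hTS (le_sup_left.trans hT)]
  obtain ⟨F, iF, iFt, n, K, hK, P, hn, hF, hinf, hP, hE₁, hE₂, hE₃⟩ := c.closure_data
  haveI := hK
  refine c.false_of_natural F n hF hinf (fun U W _ => (Cfsg.Agent.S2764.result P hE₁ hE₂ K F n hn hF hE₃ ?_).2 U W)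
  intro T hTne hTc hTn
  obtain ⟨e, he⟩ : ∃ e : ↥(P : Subgroup ↥c.clo) ≃* ↥(jtOf (S : Subgroup G)),
      ∀ x, ((e x : ↥(jtOf (S : Subgroup G))) : G) = ((x : ↥c.clo) : G) :=
    ⟨(MulEquiv.subgroupCongr hP).trans (Subgroup.subgroupOfEquivOfLe c.jt_le_clo), fun x => rfl⟩
  have hK₀ := characteristic_map_equiv e hTc
  have hK₀ne : T.map e.toMonoidHom ≠ ⊥ := fun h => hTne
    ((Subgroup.map_eq_bot_iff_of_injective _ e.injective).1 h)
  have hW₀ := transF_isCharPFunctor (p := p) hK₀ hK₀ne
  refine hnormal _ (Or.inr ⟨_, hW₀, rfl⟩) ?_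
  rw [jFun_induced hW₀ S.2]
  obtain ⟨X, hX⟩ : ∃ X, X = inducedFunctor (G := G) (transF (T.map e.toMonoidHom)) (jtOf (S : Subgroup G)) :=
    ⟨_, rfl⟩
  have hXeq : X = (T.map (P : Subgroup ↥c.clo).subtype).map c.clo.subtype := by
    rw [hX]
    show (transF (T.map e.toMonoidHom) ↥(jtOf (S : Subgroup G))).map (jtOf (S : Subgroup G)).subtype = _
    rw [transF_self hK₀, Subgroup.map_map, Subgroup.map_map]
    congr 1
    ext x
    exact he x
  rw [← hX, ← Subgroup.normalizer_eq_top_iff, eq_top_iff, ← c.clo_sup]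
  refine sup_le ?_ ?_
  · haveI := hTn
    refine le_trans ?_ (hXeq ▸ Subgroup.le_normalizer_map c.clo.subtype)
    rw [Subgroup.normalizer_eq_top, ← MonoidHom.range_eq_map, Subgroup.range_subtype]
  · intro q hq
    rw [hX]
    have hcf := CfsgLib.Techniques.inducedFunctor_isConjugacyFunctor (jFun_isCharPFunctor hW₀) G
    have := CfsgLib.Techniques.le_normalizer_functor hcf S.2 (CfsgLib.Core.pCore_le_sylow S hq)
    rwa [jFun_induced hW₀ S.2] at this

/-- Let p be an odd prime and S a nontrivial Sylow p-subgroup of a finite group G. Then S ∩ G' is generated by the subgroups S ∩ (N_G(K))' as K ranges over the nontrivial characteristic subgroups of S (derived subgroups of the normalizers). -/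
theorem result {G : Type*} [Group G] [Finite G] {p : ℕ} [Fact p.Prime] (hp : p ≠ 2) (S : Sylow p G) (hS : (S : Subgroup G) ≠ ⊥) : (S : Subgroup G) ⊓ commutator G = ⨆ K : {K : Subgroup ↥(S : Subgroup G) // K ≠ ⊥ ∧ K.Characteristic}, (S : Subgroup G) ⊓ ⁅Subgroup.normalizer ((((K : Subgroup ↥(S : Subgroup G))).map (S : Subgroup G).subtype : Subgroup G) : Set G), Subgroup.normalizer ((((K : Subgroup ↥(S : Subgroup G))).map (S : Subgroup G).subtype : Subgroup G) : Set G)⁆ := by
  refine le_antisymm ?_ (iSup_le fun K => inf_le_inf le_rfl (by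
    rw [commutator_def]; exact Subgroup.commutator_mono le_top le_top))
  have hctl := familyControlsTransfer_at (inducedSet_conjugacy family_func G)
    (family_control hp G) (isSylowSub_sylow S)
  rw [commutator_def, hctl]
  refine iSup₂_le ?_
  rintro _ ⟨W, hW, rfl⟩
  have hWf := family_func W hW
  refine le_trans ?_ (le_iSup _ (⟨W ↥(S : Subgroup G), hWf.1 _ S.2
    ((Subgroup.nontrivial_iff_ne_bot _).2 hS), value_char hWf S.2⟩ :
    {K : Subgroup ↥(S : Subgroup G) // K ≠ ⊥ ∧ K.Characteristic}))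
  rw [top_inf_eq]
  exact le_rfl

end Cfsg.Agent.S2774
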