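import Cfsg.Statements.S2779
import Cfsg.Agent.Lib.LocalEven.NaturalModule

set_option autoImplicit false
open Cfsg
open scoped commutatorElement

namespace Cfsg.Agent.S2779

/-- Let L act on the elementary abelian p-group V (inside a finite group, by conjugation, faithfully) as SL₂(F) on its natural module, F a field with p^n elements, and let S be a Sylow p-subgroup of L. Then [V, S, S] = 1; |V| = p^(2n) and |C_V(S)| = p^n; and for every nonidentity s ∈ S and every v ∈ V outside C_V(S): C_V(s) = C_V(S) = [V, S] = [V, s] = the subgroup generated by the commutators [v, t], t ∈ S. -/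
theorem result {G : Type*} [Group G] [Finite G] {p : ℕ} [Fact p.Prime] {F : Type*} [Field F] [Fintype F] (n : ℕ) (hF : Fintype.card F = p ^ n) (V L : Subgroup G) (hnat : Cfsg.IsNaturalSL2Module F V L) (hf : L ⊓ Subgroup.centralizer (V : Set G) = ⊥) (S : Sylow p ↥L) (T : Subgroup G) (hT : T = ((S : Subgroup ↥L).map L.subtype)) : ⁅⁅V, T⁆, T⁆ = ⊥ ∧ Nat.card V = p ^ (2 * n) ∧ Nat.card ↥(V ⊓ Subgroup.centralizer ((T : Subgroup G) : Set G)) = p ^ n ∧ ∀ s ∈ T, s ≠ 1 → (V ⊓ Subgroup.centralizer ({s} : Set G)) = (V ⊓ Subgroup.centralizer ((T : Subgroup G) : Set G)) ∧ ⁅V, T⁆ = (V ⊓ Subgroup.centralizer ((T : Subgroup G) : Set G)) ∧ ⁅V, Subgroup.zpowers s⁆ = (V ⊓ Subgroup.centralizer ((T : Subgroup G) : Set G)) ∧ ∀ v ∈ V, v ∉ Subgroup.centralizer (T : Set G) → Subgroup.closure {x : G | ∃ t ∈ T, x = v * t * v⁻¹ * t⁻¹} = (V ⊓ Subgroup.centralizer ((T : Subgroup G) : Set G)) := by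
  haveI : CharP F p := CfsgLib.LocalEven.charP_of_card_eq F hF
  obtain ⟨c⟩ := CfsgLib.LocalEven.exists_natCoords hnat hf S hT
  set W := V ⊓ Subgroup.centralizer ((T : Subgroup G) : Set G) with hW
  have hcomm : ∀ v : V, ∀ t, ∀ ht : t ∈ T, ∃ w : V, (w : G) = v * t * (v : G)⁻¹ * t⁻¹ ∧
      c.vec w 0 = -(((c.rho ⟨t, c.le_L ht⟩ : Matrix.SpecialLinearGroup (Fin 2) F) : Matrix (Fin 2) (Fin 2) F) 0 1 * c.vec v 1) ∧
      c.vec w 1 = 0 := by
    intro v t ht
    have hmem : (v : G) * t * (v : G)⁻¹ * t⁻¹ ∈ V := by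
      rw [show (v : G) * t * (v : G)⁻¹ * t⁻¹ = (v : G) * (t * (v : G)⁻¹ * t⁻¹) by group]
      exact mul_mem v.2 ((Subgroup.mem_normalizer_iff.mp (c.normalizes (c.le_L ht)) _).mp (inv_mem v.2))
    refine ⟨⟨_, hmem⟩, rfl, ?_⟩
    have := c.vec_commutator ⟨t, c.le_L ht⟩ v ⟨_, hmem⟩ rfl
    rw [this, c.mulVec_of_mem (l := ⟨t, c.le_L ht⟩) ht]
    simp
  have hcW : ∀ v ∈ V, ∀ t ∈ T, v * t * v⁻¹ * t⁻¹ ∈ W := by
    intro v hv t ht
    obtain ⟨w, hw, -, h1⟩ := hcomm ⟨v, hv⟩ t ht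
    exact hw ▸ ⟨w.2, (c.mem_centralizer_iff' w).mpr h1⟩
  have hVT : ⁅V, T⁆ ≤ W := Subgroup.commutator_le.mpr fun v hv t ht => by
    rw [commutatorElement_def]; exact hcW v hv t ht
  have hclos : ∀ v : V, c.vec v 1 ≠ 0 →
      Subgroup.closure {x : G | ∃ t ∈ T, x = v * t * (v : G)⁻¹ * t⁻¹} = W := by
    intro v hv
    refine le_antisymm ((Subgroup.closure_le _).mpr fun x ⟨t, ht, e⟩ => e ▸ hcW v v.2 t ht) fun x hx => ?_
    refine Subgroup.subset_closure ⟨_, c.tElt_mem (-(c.vec ⟨x, hx.1⟩ 0) * (c.vec v 1)⁻¹), ?_⟩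
    obtain ⟨w, hw, h0, h1⟩ := hcomm v _ (c.tElt_mem (-(c.vec ⟨x, hx.1⟩ 0) * (c.vec v 1)⁻¹))
    rw [← hw]
    have : (⟨x, hx.1⟩ : V) = w := by
      apply c.vec.injective
      ext i; fin_cases i
      · simp only [Fin.zero_eta, Fin.isValue, h0, Subtype.coe_eta, c.rho_tElt]
        simp [mul_assoc, hv]
      · simp only [Fin.mk_one, Fin.isValue, h1]
        exact (c.mem_centralizer_iff' ⟨x, hx.1⟩).mp hx.2
    exact congrArg Subtype.val this
  refine ⟨?_, ?_, ?_, fun s hs hs1 => ?_⟩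
  · rw [eq_bot_iff]
    refine (Subgroup.commutator_mono hVT le_rfl).trans (Subgroup.commutator_le.mpr fun w hw t ht => ?_)
    rw [Subgroup.mem_bot, commutatorElement_eq_one_iff_mul_comm]
    exact (Subgroup.mem_centralizer_iff.mp hw.2 t ht).symm
  · rw [c.card_V, hF, ← pow_mul, mul_comm]
  · rw [c.card_fixed, hF]
  have hb := c.param_ne_zero hs hs1
  have hle : ⁅V, Subgroup.zpowers s⁆ ≤ ⁅V, T⁆ := Subgroup.commutator_mono le_rfl (Subgroup.zpowers_le.mpr hs)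
  have hge : W ≤ ⁅V, Subgroup.zpowers s⁆ := by
    intro x hx
    set b := ((c.rho ⟨s, c.le_L hs⟩ : Matrix.SpecialLinearGroup (Fin 2) F) : Matrix (Fin 2) (Fin 2) F) 0 1
    set v := c.vec.symm ![0, -(c.vec ⟨x, hx.1⟩ 0) * b⁻¹] with hv
    obtain ⟨w, hw, h0, h1⟩ := hcomm v s hs
    have : (⟨x, hx.1⟩ : V) = w := by
      apply c.vec.injective
      ext i; fin_cases i
      · simp only [Fin.zero_eta, Fin.isValue, h0, hv, Equiv.apply_symm_apply]
        simp [b]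
        field_simp
        rw [eq_div_iff hb]
      · simp only [Fin.mk_one, Fin.isValue, h1]
        exact (c.mem_centralizer_iff' ⟨x, hx.1⟩).mp hx.2
    have hx' : x = (w : G) := congrArg Subtype.val this
    rw [hx', hw, ← commutatorElement_def]
    exact Subgroup.commutator_mem_commutator v.2 (Subgroup.mem_zpowers s)
  refine ⟨le_antisymm (fun v hv => ⟨hv.1, ?fix⟩) (inf_le_inf_left V (Subgroup.centralizer_le (Set.singleton_subset_iff.mpr hs))),
    le_antisymm hVT (hge.trans hle), le_antisymm (hle.trans hVT) hge, fun v hv hvT => ?clos⟩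
  case fix =>
    refine (c.mem_centralizer_iff' ⟨v, hv.1⟩).mpr ?_
    have := (c.commute_iff ⟨s, c.le_L hs⟩ ⟨v, hv.1⟩).mp (Subgroup.mem_centralizer_iff.mp hv.2 s rfl)
    rw [c.mulVec_of_mem (l := ⟨s, c.le_L hs⟩) hs] at this
    simpa [hb] using congrFun this 0
  case clos => exact hclos ⟨v, hv⟩ fun h => hvT ((c.mem_centralizer_iff' ⟨v, hv⟩).mpr h)

end Cfsg.Agent.S2779
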