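import Cfsg.Statements.S2780
import Cfsg.Agent.Lib.LocalEven.NaturalModule

set_option autoImplicit false
open Cfsg

namespace Cfsg.Agent.S2780

/-- Let L act on the elementary abelian p-group V (inside a finite group, faithfully) as SL₂(F) on its natural module, F a field with p^n elements, S a Sylow p-subgroup of L. Then: for every g ∈ L not normalizing S, V is the internal direct product of C_V(S) and C_V(gSg⁻¹); every nonidentity element of L of order prime to p acts on V without nonidentity fixed points; and C_V(S) and V/C_V(S) are irreducible for N_L(S): the only N_L(S)-invariant subgroups of C_V(S) are 1 and C_V(S), and the only N_L(S)-invariant subgroups between C_V(S) and V are those two. -/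
theorem result {G : Type*} [Group G] [Finite G] {p : ℕ} [Fact p.Prime] {F : Type*} [Field F] [Fintype F] (n : ℕ) (hF : Fintype.card F = p ^ n) (V L : Subgroup G) (hnat : Cfsg.IsNaturalSL2Module F V L) (hf : L ⊓ Subgroup.centralizer (V : Set G) = ⊥) (S : Sylow p ↥L) (T : Subgroup G) (hT : T = ((S : Subgroup ↥L).map L.subtype)) : (∀ g ∈ L, g ∉ Subgroup.normalizer (T : Set G) → Cfsg.IsInternalDirectProduct (V ⊓ Subgroup.centralizer ((T : Subgroup G) : Set G)) (V ⊓ Subgroup.centralizer ((T.map (MulAut.conj g).toMonoidHom : Subgroup G) : Set G)) V) ∧ (∀ x ∈ L, x ≠ 1 → (orderOf x).Coprime p → (V ⊓ Subgroup.centralizer ({x} : Set G)) = ⊥) ∧ (∀ U : Subgroup G, U ≤ (V ⊓ Subgroup.centralizer ((T : Subgroup G) : Set G)) → L ⊓ Subgroup.normalizer (T : Set G) ≤ Subgroup.normalizer (U : Set G) → U = ⊥ ∨ U = (V ⊓ Subgroup.centralizer ((T : Subgroup G) : Set G))) ∧ (∀ U : Subgroup G, (V ⊓ Subgroup.centralizer ((T : Subgroup G) : Set G)) ≤ U → U ≤ V → L ⊓ Subgroup.normalizer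 (T : Set G) ≤ Subgroup.normalizer (U : Set G) → U = (V ⊓ Subgroup.centralizer ((T : Subgroup G) : Set G)) ∨ U = V) := by
  haveI : CharP F p := CfsgLib.LocalEven.charP_of_card_eq F hF
  obtain ⟨c⟩ := CfsgLib.LocalEven.exists_natCoords hnat hf S hT
  set W := V ⊓ Subgroup.centralizer ((T : Subgroup G) : Set G) with hW
  have hcommV : ∀ a ∈ V, ∀ b ∈ V, a * b = b * a := by
    intro a ha b hb
    have h : (⟨a, ha⟩ : V) * ⟨b, hb⟩ = ⟨b, hb⟩ * ⟨a, ha⟩ :=
      c.vec.injective (by rw [c.vec_mul, c.vec_mul, add_comm])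
    exact congrArg Subtype.val h
  have hdiag : ∀ U : Subgroup G, L ⊓ Subgroup.normalizer (T : Set G) ≤ Subgroup.normalizer (U : Set G) →
      ∀ (a : Fˣ) (u : V), (u : G) ∈ U → ∃ w : V, (w : G) ∈ U ∧
        c.vec w = ![(a : F) * c.vec u 0, ((a⁻¹ : Fˣ) : F) * c.vec u 1] := by
    intro U hU a u hu
    refine ⟨c.conjV c.normalizes (c.dElt a) u,
      (Subgroup.mem_normalizer_iff.mp (hU (c.dElt_mem_normalizer a)) _).mp hu, ?_⟩
    rw [c.vec_conjV, c.rho_dElt]
    ext i; fin_cases i <;> simp [Matrix.mulVec, dotProduct, Fin.sum_univ_two]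
  refine ⟨fun g hg hgn => ?_, fun x hx hx1 hxo => ?_, fun U hU hUn => ?_, fun U hWU hUV hUn => ?_⟩
  · set M := ((c.rho ⟨g, hg⟩ : Matrix.SpecialLinearGroup (Fin 2) F) : Matrix (Fin 2) (Fin 2) F) with hM
    have hc0 : M 1 0 ≠ 0 := fun h => hgn (c.mem_normalizer_of_lower_eq_zero (l := ⟨g, hg⟩) h)
    have hgV : g ∈ Subgroup.normalizer (V : Set G) := c.normalizes hg
    have hconjC : V ⊓ Subgroup.centralizer ((T.map (MulAut.conj g).toMonoidHom : Subgroup G) : Set G) =
        W.map (MulAut.conj g).toMonoidHom := by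
      rw [hW, Subgroup.map_inf _ _ _ (MulAut.conj g).injective, CfsgLib.LocalEven.mem_normalizer_conj_iff.mp hgV]
      congr 1
      ext y
      rw [CfsgLib.LocalEven.mem_conj, Subgroup.mem_centralizer_iff, Subgroup.mem_centralizer_iff]
      constructor
      · intro h t ht
        have := h (g * t * g⁻¹) (CfsgLib.LocalEven.conj_mem_conj ht)
        calc t * (g⁻¹ * y * g) = g⁻¹ * (g * t * g⁻¹ * y) * g := by group
          _ = g⁻¹ * (y * (g * t * g⁻¹)) * g := by rw [this]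
          _ = g⁻¹ * y * g * t := by group
      · rintro h _ ⟨t, ht, rfl⟩
        have := h t ht
        show g * t * g⁻¹ * y = y * (g * t * g⁻¹)
        calc g * t * g⁻¹ * y = g * (t * (g⁻¹ * y * g)) * g⁻¹ := by group
          _ = g * (g⁻¹ * y * g * t) * g⁻¹ := by rw [this]
          _ = y * (g * t * g⁻¹) := by group
    rw [hconjC]
    have hWV : W.map (MulAut.conj g).toMonoidHom ≤ V :=
      hconjC ▸ inf_le_left
    have hline : ∀ w : V, (w : G) ∈ W.map (MulAut.conj g).toMonoidHom →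
        c.vec w 0 * M 1 0 = c.vec w 1 * M 0 0 := by
      rintro w ⟨u, hu, hu'⟩
      rw [c.vec_conj ⟨g, hg⟩ ⟨u, hu.1⟩ w hu'.symm]
      have h1 : c.vec ⟨u, hu.1⟩ 1 = 0 := (c.mem_centralizer_iff' ⟨u, hu.1⟩).mp hu.2
      simp [Matrix.mulVec, dotProduct, Fin.sum_univ_two, h1, ← hM]
      ring
    refine ⟨inf_le_left, hWV, fun a ha b hb => hcommV a ha.1 b (hWV hb), ?_, le_antisymm (sup_le inf_le_left hWV) ?_⟩
    · rw [eq_bot_iff]
      rintro x ⟨hx1, hx2⟩
      have h1 : c.vec ⟨x, hx1.1⟩ 1 = 0 := (c.mem_centralizer_iff' ⟨x, hx1.1⟩).mp hx1.2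
      have h2 := hline ⟨x, hx1.1⟩ hx2
      rw [h1, zero_mul, mul_eq_zero] at h2
      have h3 : (⟨x, hx1.1⟩ : V) = 1 := c.vec.injective (by
        rw [c.vec_one]
        ext i; fin_cases i
        · exact h2.resolve_right hc0
        · exact h1)
      exact Subgroup.mem_bot.mpr (congrArg Subtype.val h3)
    · intro x hx
      set y := c.vec ⟨x, hx⟩ 1 * (M 1 0)⁻¹ with hy
      set u := c.vec.symm ![y, 0] with hu
      have huW : (u : G) ∈ W := ⟨u.2, (c.mem_centralizer_iff' u).mpr (by simp [hu])⟩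
      set u' := c.conjV c.normalizes ⟨g, hg⟩ u
      have hrest : ((⟨x, hx⟩ * u'⁻¹ : V) : G) ∈ W := ⟨(⟨x, hx⟩ * u'⁻¹ : V).2, (c.mem_centralizer_iff' _).mpr (by
        rw [c.vec_mul, c.vec_inv, c.vec_conjV, hu, Equiv.apply_symm_apply]
        simp [Matrix.mulVec, dotProduct, Fin.sum_univ_two, ← hM, hy]
        field_simp
        ring)⟩
      have h := mul_mem (Subgroup.mem_sup_left (T := W.map (MulAut.conj g).toMonoidHom) hrest)
        (Subgroup.mem_sup_right (S := W) (CfsgLib.LocalEven.conj_mem_conj (g := g) huW))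
      rwa [show ((⟨x, hx⟩ * u'⁻¹ : V) : G) * (g * (u : G) * g⁻¹) = x from ?_] at h
      show x * (g * (u : G) * g⁻¹)⁻¹ * (g * (u : G) * g⁻¹) = x
      group
  · rw [eq_bot_iff]
    intro v hv
    by_contra hv1
    rw [Subgroup.mem_bot] at hv1
    have h := (c.commute_iff ⟨x, hx⟩ ⟨v, hv.1⟩).mp (Subgroup.mem_centralizer_iff.mp hv.2 x rfl)
    set w := c.vec ⟨v, hv.1⟩ with hw
    set A := ((c.rho ⟨x, hx⟩ : Matrix.SpecialLinearGroup (Fin 2) F) : Matrix (Fin 2) (Fin 2) F) with hA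
    have hdet : A 0 0 * A 1 1 - A 0 1 * A 1 0 = 1 := by
      rw [← Matrix.det_fin_two]; exact (c.rho ⟨x, hx⟩).2
    have hw0 : w ≠ 0 := fun e => hv1 (congrArg Subtype.val (c.vec.injective (a₁ := ⟨v, hv.1⟩) (a₂ := 1) (e.trans c.vec_one.symm)))
    have e0 : A 0 0 * w 0 + A 0 1 * w 1 = w 0 := by
      simpa [Matrix.mulVec, dotProduct, Fin.sum_univ_two] using congrFun h 0
    have e1 : A 1 0 * w 0 + A 1 1 * w 1 = w 1 := by
      simpa [Matrix.mulVec, dotProduct, Fin.sum_univ_two] using congrFun h 1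
    have hd0 : ((A 0 0 - 1) * (A 1 1 - 1) - A 0 1 * A 1 0) = 0 := by
      by_contra hne
      apply hw0
      have z0 : ((A 0 0 - 1) * (A 1 1 - 1) - A 0 1 * A 1 0) * w 0 = 0 := by
        linear_combination (A 1 1 - 1) * e0 - A 0 1 * e1
      have z1 : ((A 0 0 - 1) * (A 1 1 - 1) - A 0 1 * A 1 0) * w 1 = 0 := by
        linear_combination (A 0 0 - 1) * e1 - A 1 0 * e0
      ext i; fin_cases i
      · exact (mul_eq_zero.mp z0).resolve_left hne
      · exact (mul_eq_zero.mp z1).resolve_left hne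
    have htr : A 1 1 = 2 - A 0 0 := by linear_combination hdet - hd0
    have hsq : (A - 1) * (A - 1) = 0 := by
      ext i j
      fin_cases i <;> fin_cases j <;> simp [Matrix.mul_apply, Fin.sum_univ_two, htr]
      · linear_combination -hdet + A 0 0 * htr
      · ring
      · ring
      · linear_combination -hdet + A 0 0 * htr
    have hpow : ∀ k : ℕ, A ^ k = 1 + (k : F) • (A - 1) := by
      intro k
      induction k with
      | zero => simp
      | succ k ih =>
        rw [pow_succ, ih]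
        have hA1 : A = 1 + (A - 1) := by abel
        conv_lhs => arg 2; rw [hA1]
        rw [add_mul, one_mul, mul_add, mul_one, smul_mul_assoc, hsq, smul_zero, add_zero, Nat.cast_succ, add_smul, one_smul]
        abel
    have hxp : x ^ p = 1 := by
      have h1 : c.rho (⟨x, hx⟩ ^ p) = c.rho 1 := by
        rw [map_pow, map_one]
        apply Subtype.ext
        rw [Matrix.SpecialLinearGroup.coe_pow, ← hA, hpow p, CharP.cast_eq_zero, zero_smul, add_zero]
        rfl
      simpa using congrArg Subtype.val (c.rho.injective h1)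
    exact hx1 (orderOf_eq_one_iff.mp (Nat.eq_one_of_dvd_coprimes hxo dvd_rfl (orderOf_dvd_of_pow_eq_one hxp)))
  · by_cases hb : U = ⊥
    · exact Or.inl hb
    right
    obtain ⟨u, huU, hu1⟩ := (Subgroup.bot_or_exists_ne_one U).resolve_left hb
    have h1 : c.vec ⟨u, (hU huU).1⟩ 1 = 0 := (c.mem_centralizer_iff' ⟨u, (hU huU).1⟩).mp (hU huU).2
    have h0 : c.vec ⟨u, (hU huU).1⟩ 0 ≠ 0 := fun e => hu1 (congrArg Subtype.val (c.vec.injective
      (a₁ := ⟨u, (hU huU).1⟩) (a₂ := 1) (by rw [c.vec_one]; ext i; fin_cases i; exacts [e, h1])))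
    refine le_antisymm hU fun x hx => ?_
    have hx1 : c.vec ⟨x, hx.1⟩ 1 = 0 := (c.mem_centralizer_iff' ⟨x, hx.1⟩).mp hx.2
    by_cases hx0 : c.vec ⟨x, hx.1⟩ 0 = 0
    · have : (⟨x, hx.1⟩ : V) = 1 := c.vec.injective (by rw [c.vec_one]; ext i; fin_cases i; exacts [hx0, hx1])
      rw [show x = 1 from congrArg Subtype.val this]; exact one_mem U
    obtain ⟨w, hw, hwe⟩ := hdiag U hUn (Units.mk0 _ hx0 * (Units.mk0 _ h0)⁻¹) ⟨u, (hU huU).1⟩ huU
    have : (⟨x, hx.1⟩ : V) = w := c.vec.injective (by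
      rw [hwe]; ext i; fin_cases i
      · simp [h0]
      · simp [h1, hx1])
    rw [show x = (w : G) from congrArg Subtype.val this]; exact hw
  · by_cases hb : U ≤ W
    · exact Or.inl (le_antisymm hb hWU)
    right
    obtain ⟨u, huU, huW⟩ := SetLike.not_le_iff_exists.mp hb
    have h1 : c.vec ⟨u, hUV huU⟩ 1 ≠ 0 := fun e => huW ⟨hUV huU, (c.mem_centralizer_iff' ⟨u, hUV huU⟩).mpr e⟩
    refine le_antisymm hUV fun x hx => ?_
    have hsub : ∀ w : V, c.vec w 1 = 0 → (w : G) ∈ U := fun w hw => hWU ⟨w.2, (c.mem_centralizer_iff' w).mpr hw⟩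
    by_cases hx1 : c.vec ⟨x, hx⟩ 1 = 0
    · exact hsub ⟨x, hx⟩ hx1
    obtain ⟨w, hw, hwe⟩ := hdiag U hUn (Units.mk0 _ h1 * (Units.mk0 _ hx1)⁻¹) ⟨u, hUV huU⟩ huU
    have h := mul_mem (hsub (⟨x, hx⟩ * w⁻¹) (by rw [c.vec_mul, c.vec_inv, hwe]; simp [h1])) hw
    simpa using h

end Cfsg.Agent.S2780
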