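import Cfsg.Statements.S2781
import Cfsg.Agent.Lib.LocalEven.Averaging
import Cfsg.Agent.Lib.LocalEven.LargestReduced
import Cfsg.Agent.Lib.LocalEven.Basic

set_option autoImplicit false
open Cfsg

namespace Cfsg.Agent.S2781

/-- Let H act faithfully by conjugation on the elementary abelian p-subgroup V of a finite group, let O^p(H) be the subgroup of H generated by its elements of order prime to p, and T a Sylow p-subgroup of O^p(H). If V is generated by the H-conjugates of C_V(T) (V is the smallest H-invariant subgroup containing C_V(T)), then V = [V, O^p(H)]·C_V(O^p(H)). -/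
theorem result {G : Type*} [Group G] [Finite G] {p : ℕ} [Fact p.Prime] (V H : Subgroup G) (hV : Cfsg.IsElementaryAbelian p V) (hHV : H ≤ Subgroup.normalizer (V : Set G)) (hf : H ⊓ Subgroup.centralizer (V : Set G) = ⊥) (R : Subgroup G) (hR : R = (Cfsg.pResidual p ↥H).map H.subtype) (S : Sylow p ↥R) (T : Subgroup G) (hT : T = ((S : Subgroup ↥R).map R.subtype)) (hgen : ∀ W : Subgroup G, H ≤ Subgroup.normalizer (W : Set G) → (V ⊓ Subgroup.centralizer ((T : Subgroup G) : Set G)) ≤ W → V ≤ W) : ⁅V, R⁆ ⊔ (V ⊓ Subgroup.centralizer ((R : Subgroup G) : Set G)) = V := by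
  set C := V ⊓ Subgroup.centralizer (R : Set G) with hC
  refine le_antisymm (sup_le ?_ inf_le_left) ?_
  · subst hR
    exact Subgroup.le_normalizer_iff_commutator_le_left.mp ((Subgroup.map_subtype_le _).trans hHV)
  have hRH : R ≤ H := hR ▸ Subgroup.map_subtype_le _
  have hRn : H ≤ Subgroup.normalizer (R : Set G) := by
    subst hR
    exact CfsgLib.LocalEven.le_normalizer_map_of_normal H _
  refine hgen _ (fun g hg => ?_) fun a ha => ?_
  · have hV' := CfsgLib.LocalEven.mem_normalizer_conj_iff.mp (hHV hg)
    have hR' := CfsgLib.LocalEven.mem_normalizer_conj_iff.mp (hRn hg)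
    rw [CfsgLib.LocalEven.mem_normalizer_conj_iff, Subgroup.map_sup, Subgroup.map_commutator,
      hV', hR', hC, Subgroup.map_inf_eq _ _ _ (MulAut.conj g).injective, hV']
    congr 2
    ext x
    rw [CfsgLib.LocalEven.mem_conj, Subgroup.mem_centralizer_iff, Subgroup.mem_centralizer_iff]
    constructor
    · intro h r hr
      have := h _ ((Subgroup.mem_normalizer_iff''.mp (hRn hg) r).mp hr)
      have h2 := congrArg (fun z => g * z * g⁻¹) this
      simpa [mul_assoc] using h2
    · intro h r hr
      have := h _ ((Subgroup.mem_normalizer_iff.mp (hRn hg) r).mp hr)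
      have h2 := congrArg (fun z => g⁻¹ * z * g) this
      simpa [mul_assoc] using h2
  · rw [sup_comm]
    refine CfsgLib.LocalEven.mem_sup_of_averaging V R hV (hRH.trans hHV) S ha.1 (fun s hs => ?_) _
      fun r hr => ?_
    · exact Subgroup.mem_centralizer_iff.mp ha.2 _ (hT ▸ Subgroup.mem_map_of_mem _ hs)
    · rw [Subgroup.commutator_comm]
      exact Subgroup.commutator_mem_commutator hr ha.1

end Cfsg.Agent.S2781
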