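import Cfsg.Statements.S2788
import Cfsg.Agent.Lib.LocalEven.PpdSL2
import Cfsg.Agent.Lib.LocalEven.PReduced

set_option autoImplicit false
open Cfsg

namespace Cfsg.Agent.S2788

/-- Let H act faithfully by conjugation on the elementary abelian p-subgroup V of a finite group with H ≅ SL₂(F), F a field with p^n elements, S a Sylow p-subgroup of H, and A ≤ S a subgroup of order at least 3 acting quadratically on V ([V, A, A] = 1). Then |V/C_V(a)| ≥ p^n for every nonidentity a ∈ A. -/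
theorem result {G : Type*} [Group G] [Finite G] {p : ℕ} [Fact p.Prime] (V H : Subgroup G) (hV : Cfsg.IsElementaryAbelian p V) (hHV : H ≤ Subgroup.normalizer (V : Set G)) (hf : H ⊓ Subgroup.centralizer (V : Set G) = ⊥) {F : Type*} [Field F] [Fintype F] (n : ℕ) (hF : Fintype.card F = p ^ n) (hiso : Nonempty (↥H ≃* Matrix.SpecialLinearGroup (Fin 2) F)) (S : Sylow p ↥H) (T : Subgroup G) (hT : T = ((S : Subgroup ↥H).map H.subtype)) (A : Subgroup G) (hA : A ≤ T) (hA3 : 3 ≤ Nat.card A) (hquad : ⁅⁅V, A⁆, A⁆ = ⊥) : ∀ a ∈ A, a ≠ 1 → p ^ n ≤ ((V ⊓ Subgroup.centralizer ({a} : Set G))).relIndex V := by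
  haveI : CharP F p := charP_of_card_eq_prime_pow hF
  obtain ⟨φ⟩ := hiso
  subst hT
  intro a ha ha1
  obtain ⟨b, hb, rfl⟩ := hA ha
  obtain ⟨e, he⟩ := CfsgLib.LocalEven.Ppd.exists_pow_eq_one S hb
  let π : ↥H →* Matrix.ProjectiveSpecialLinearGroup (Fin 2) F :=
    (QuotientGroup.mk' (Subgroup.center (Matrix.SpecialLinearGroup (Fin 2) F))).comp φ.toMonoidHom
  refine CfsgLib.LocalEven.Ppd.le_fixIndex_PSL2 hF
    (CfsgLib.LocalEven.isPGroup_of_elementary' hV) hHV hf π
    ((QuotientGroup.mk'_surjective _).comp φ.surjective) b he fun hc => ha1 ?_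
  have h2 : (φ b) ^ 2 = 1 :=
    CfsgLib.LocalEven.Ppd.sq_eq_one_of_mem_center ((QuotientGroup.eq_one_iff _).mp hc)
  rw [← map_pow, MulEquiv.map_eq_one_iff] at h2
  by_cases hp2 : p = 2
  · subst hp2
    by_contra hne
    have hid : φ b = 1 := by
      obtain ⟨c, hc1, hc2⟩ :=
        Matrix.SpecialLinearGroup.mem_center_iff.mp ((QuotientGroup.eq_one_iff _).mp hc)
      have hc' : c = 1 := by
        have h3 : (c - 1) ^ 2 = 0 := by
          rw [sub_pow_char, one_pow, sub_eq_zero]; simpa using hc1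
        exact sub_eq_zero.mp (pow_eq_zero_iff two_ne_zero |>.mp h3)
      have h4 : ((φ b : Matrix.SpecialLinearGroup (Fin 2) F) : Matrix (Fin 2) (Fin 2) F) = 1 :=
        hc2.symm.trans (by rw [hc', map_one])
      exact Subtype.ext h4
    exact hne (by rw [(MulEquiv.map_eq_one_iff φ).mp hid, map_one])
  · have : b = 1 := orderOf_eq_one_iff.mp (Nat.eq_one_of_dvd_coprimes
      (((Nat.coprime_primes Fact.out Nat.prime_two).mpr hp2).pow_left e)
      (orderOf_dvd_iff_pow_eq_one.mpr he) (orderOf_dvd_iff_pow_eq_one.mpr h2))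
    rw [this, map_one]

end Cfsg.Agent.S2788
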