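import Cfsg.Statements.S2793
import Cfsg.Agent.Lib.LocalEven.ZJFusionFailure

set_option autoImplicit false
open Cfsg

namespace Cfsg.Agent.S2793

/-- Let p be an odd prime, S a Sylow p-subgroup of the finite group G, J(S) the subgroup generated by the abelian subgroups of S of largest order, and suppose Z(J(S)) does not control strong fusion in G. Put H = N_G(Z(J(S))). Then the group F(p) of upper triangular 3 × 3 matrices (a b c; 0 a⁻¹ d; 0 0 1) over the field with p elements is involved in H, and Z(J(S)) contains a subgroup C of order p with |N_H(C) : C_H(C)| = p − 1. -/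
theorem result {G : Type*} [Group G] [Finite G] {p : ℕ} [Fact p.Prime] (hp : p ≠ 2) (S : Sylow p G) (h : ¬ Cfsg.ControlsStrongFusion p (Cfsg.centerThompsonAOf (S : Subgroup G))) (H : Subgroup G) (hH : H = Subgroup.normalizer ((Cfsg.centerThompsonAOf (S : Subgroup G)) : Set G)) : Cfsg.Involves ↥(Cfsg.fOver (ZMod p)) ↥H ∧ ∃ C : Subgroup G, C ≤ (Cfsg.centerThompsonAOf (S : Subgroup G)) ∧ Nat.card C = p ∧ (H ⊓ Subgroup.centralizer (C : Set G)).relIndex (H ⊓ Subgroup.normalizer (C : Set G)) = p - 1 := by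
  obtain ⟨hinv, g, hg, v, hv, hvo, k, hk, hgv⟩ :=
    ((CfsgLib.LocalEven.ZJFail.controlsStrongFusion_or_concl hp S).resolve_left h)
  rw [← hH] at hinv hg
  have hpp : p.Prime := Fact.out
  obtain ⟨C, hC⟩ : ∃ C, C = Subgroup.zpowers v := ⟨_, rfl⟩
  have hCp : Nat.card C = p := by rw [hC, Nat.card_zpowers, hvo]
  refine ⟨hinv, C, hC ▸ Subgroup.zpowers_le.2 hv, hCp, ?_⟩
  obtain ⟨K, hK⟩ : ∃ K, K = H ⊓ Subgroup.normalizer (C : Set G) := ⟨_, rfl⟩
  rw [← hK]
  let φ : ↥K →* MulAut ↥C := C.normalizerMonoidHom.comp (Subgroup.inclusion (hK ▸ inf_le_right))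
  have hker : φ.ker = (H ⊓ Subgroup.centralizer (C : Set G)).subgroupOf K := by
    ext x
    show C.normalizerMonoidHom _ = 1 ↔ _
    rw [← MonoidHom.mem_ker, Subgroup.normalizerMonoidHom_ker, Subgroup.mem_subgroupOf, Subgroup.mem_subgroupOf]
    exact ⟨fun hx => ⟨(hK.le x.2).1, hx⟩, fun hx => hx.2⟩
  rw [Subgroup.relIndex, ← hker, Subgroup.index_ker]
  haveI : IsCyclic ↥C := isCyclic_of_prime_card hCp
  have hcard : Nat.card (MulAut ↥C) = p - 1 := by
    rw [IsCyclic.card_mulAut, hCp, Nat.totient_prime hpp]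
  refine Nat.dvd_antisymm (hcard ▸ Subgroup.card_subgroup_dvd_card φ.range) ?_
  have hgC : g ∈ Subgroup.normalizer (C : Set G) := by
    refine CfsgLib.LocalEven.ZJFail.mem_normalizer_of_conj fun w hw => ?_
    rw [hC] at hw ⊢
    obtain ⟨i, rfl⟩ := Subgroup.mem_zpowers_iff.1 hw
    rw [← conj_zpow, hgv]
    exact Subgroup.zpow_mem _ (Subgroup.pow_mem _ (Subgroup.mem_zpowers v) _) _
  obtain ⟨x, hx⟩ : ∃ x : ↥K, (x : G) = g := ⟨⟨g, hK.ge ⟨hg, hgC⟩⟩, rfl⟩
  obtain ⟨d, hd⟩ : ∃ d, d = orderOf (φ x) := ⟨_, rfl⟩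
  have hdiv : d ∣ Nat.card φ.range := by
    rw [hd]
    exact Subgroup.orderOf_dvd_natCard φ.range ⟨x, rfl⟩
  refine dvd_trans ?_ hdiv
  have hord : orderOf k = p - 1 := by
    rw [orderOf_eq_card_of_forall_mem_zpowers hk, Nat.card_eq_fintype_card, ZMod.card_units]
  rw [← hord]
  apply orderOf_dvd_of_pow_eq_one
  have hiter : ∀ i : ℕ, g ^ i * v * (g ^ i)⁻¹ = v ^ ((k : ZMod p).val ^ i) := by
    intro i
    induction i with
    | zero => simp
    | succ i ih =>
      rw [pow_succ g, show g ^ i * g * v * (g ^ i * g)⁻¹ = g ^ i * (g * v * g⁻¹) * (g ^ i)⁻¹ by group, hgv,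
        ← conj_pow, ih, ← pow_mul, pow_succ]
  have hfix : g ^ d * v * (g ^ d)⁻¹ = v := by
    have h1 : φ (x ^ d) = 1 := by rw [map_pow, hd, pow_orderOf_eq_one]
    rw [← MonoidHom.mem_ker, hker, Subgroup.mem_subgroupOf] at h1
    have h2 := Subgroup.mem_centralizer_iff.1 h1.2 v (hC.ge (Subgroup.mem_zpowers v))
    push_cast at h2
    rw [hx] at h2
    rw [← h2, mul_inv_cancel_right]
  rw [hiter] at hfix
  have h1 : v ^ ((k : ZMod p).val ^ d) = v ^ 1 := by rw [hfix, pow_one]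
  have h2 := pow_eq_pow_iff_modEq.1 h1
  rw [hvo, ← ZMod.natCast_eq_natCast_iff] at h2
  refine Units.ext ?_
  push_cast at h2
  rw [ZMod.natCast_zmod_val] at h2
  rw [Units.val_pow_eq_pow_val, h2, Units.val_one]

end Cfsg.Agent.S2793
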