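import Cfsg.Statements.S2802
import Cfsg.Agent.Lib.LocalEven.PReducedClosure
import Cfsg.Agent.Lib.LocalEvenB.CharP

set_option autoImplicit false
open Cfsg

namespace Cfsg.Agent.S2802

/-- Let L be a finite group and p a prime with C_L(O_p(L)) ≤ O_p(L), T a Sylow p-subgroup of L and R a subgroup with T ≤ R. If X is a p-reduced normal subgroup of R (normal in R, elementary abelian, O_p(R/C_R(X)) = 1), then the normal closure of X in L is a p-reduced normal subgroup of L. -/
theorem result {L : Type*} [Group L] [Finite L] {p : ℕ} [Fact p.Prime] (hchar : Subgroup.centralizer (Cfsg.pCore p L : Set L) ≤ Cfsg.pCore p L) (T : Sylow p L) (R : Subgroup L) (hTR : (T : Subgroup L) ≤ R) (X : Subgroup ↥R) (hX : Cfsg.IsPReducedNormal p X) : Cfsg.IsPReducedNormal p (Subgroup.normalClosure ((X.map R.subtype : Subgroup L) : Set L)) := by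
  haveI := hX.1
  set X' := X.map R.subtype with hX'
  have hC : (Subgroup.centralizer (X : Set ↥R)).map R.subtype = R ⊓ Subgroup.centralizer (X' : Set L) :=
    CfsgLib.LocalEven.map_centralizer_eq R X
  refine CfsgLib.LocalEven.isPReducedNormal_normalClosure hchar T ?_ ?_ fun N hN h => ?_
  · rintro _ ⟨x, hx, rfl⟩
    rw [← map_pow, hX.2.1.2 x hx, map_one]
  · have hOR : Cfsg.pCore p L ≤ R := (CfsgLib.Core.pCore_le_sylow T).trans hTR
    have h1 : (Cfsg.pCore p L).subgroupOf R ≤ Subgroup.centralizer (X : Set ↥R) :=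
      CfsgLib.LocalEven.le_centralizer_of_pReduced hX
        ((CfsgLib.Core.isPGroup_pCore p L).comap_of_injective _ R.subtype_injective)
    have h2 := Subgroup.map_mono (f := R.subtype) h1
    rw [Subgroup.map_subgroupOf_eq_of_le hOR, hC] at h2
    exact Subgroup.le_centralizer_iff.mp (h2.trans inf_le_right)
  · haveI := hN
    have h1 : N.subgroupOf R ≤ Subgroup.centralizer (X : Set ↥R) := by
      refine (CfsgLib.LocalEven.isPReducedNormal_iff_pow hX.2.1).mp hX _ inferInstance fun n hn => ?_
      obtain ⟨k, hk⟩ := h n (Subgroup.mem_subgroupOf.mp hn)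
      refine ⟨k, Subgroup.mem_centralizer_iff.mpr fun x hx => Subtype.ext ?_⟩
      have := Subgroup.mem_centralizer_iff.mp hk _ (Subgroup.mem_map_of_mem R.subtype hx)
      simpa using this
    intro t ht
    obtain ⟨htT, htN⟩ := Subgroup.mem_inf.mp ht
    exact (Subgroup.mem_inf.mp (hC.le (Subgroup.mem_map_of_mem R.subtype
      (h1 (show (⟨t, hTR htT⟩ : ↥R) ∈ N.subgroupOf R from Subgroup.mem_subgroupOf.mpr htN))))).2

end Cfsg.Agent.S2802
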