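import Cfsg.Statements.S2803
import Cfsg.Agent.Lib.LocalEven.PReducedClosure
import Cfsg.Agent.Lib.LocalEvenB.CharP

set_option autoImplicit false
open Cfsg

namespace Cfsg.Agent.S2803

/-- Let L be a finite group and p a prime with C_L(O_p(L)) ≤ O_p(L), T a Sylow p-subgroup, and Y the largest p-reduced normal subgroup of L. Put T_L = C_T(Y) and L_T = N_L(T_L). Then L = L_T · C_L(Y) (elementwise), T_L = O_p(L_T), and Y = Ω₁(Z(T_L)). -/
theorem result {L : Type*} [Group L] [Finite L] {p : ℕ} [Fact p.Prime] (hchar : Subgroup.centralizer (Cfsg.pCore p L : Set L) ≤ Cfsg.pCore p L) (T : Sylow p L) (Y : Subgroup L) (hY : (Cfsg.IsPReducedNormal p Y ∧ ∀ V : Subgroup L, Cfsg.IsPReducedNormal p V → V ≤ Y)) (TL : Subgroup L) (hTL : TL = (T : Subgroup L) ⊓ Subgroup.centralizer (Y : Set L)) : (∀ g : L, ∃ a ∈ Subgroup.normalizer (TL : Set L), ∃ c ∈ Subgroup.centralizer (Y : Set L), g = a * c) ∧ (Cfsg.pCore p ↥(Subgroup.normalizer (TL : Set L))).map (Subgroup.normalizer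 (TL : Set L)).subtype = TL ∧ Y = Cfsg.omegaOne p (TL ⊓ Subgroup.centralizer (TL : Set L)) := by
  obtain ⟨hYr, hYmax⟩ := hY
  haveI := hYr.1
  set C := Subgroup.centralizer (Y : Set L) with hC
  haveI hCn : C.Normal := by rw [hC]; infer_instance
  obtain ⟨P, hP⟩ := CfsgLib.LocalEven.exists_sylow_inf T C
  rw [← hTL] at hP
  have hfr : Subgroup.normalizer (TL : Set L) ⊔ C = ⊤ := by
    rw [← hP]; exact Sylow.normalizer_sup_eq_top P
  set NT := Subgroup.normalizer (TL : Set L) with hNT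
  have hfac : ∀ g : L, ∃ a ∈ NT, ∃ c ∈ C, g = a * c := fun g => by
    obtain ⟨a, ha, c, hc, e⟩ := Subgroup.mem_sup_of_normal_right.mp (hfr ▸ Subgroup.mem_top g : g ∈ NT ⊔ C)
    exact ⟨a, ha, c, hc, e.symm⟩
  have hTLT : TL ≤ (T : Subgroup L) := hTL ▸ inf_le_left
  have hTLC : TL ≤ C := hTL ▸ inf_le_right
  have hTN : (T : Subgroup L) ≤ NT := by
    rw [hNT, hTL]
    exact (le_inf Subgroup.le_normalizer (CfsgLib.Core.le_normalizer_of_normal _ C)).trans
      Subgroup.inf_normalizer_le_normalizer_inf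
  have hO : Cfsg.pCore p L ≤ TL := hTL ▸ le_inf (CfsgLib.Core.pCore_le_sylow T)
    (CfsgLib.LocalEven.pCore_le_centralizer hYr)
  refine ⟨hfac, ?_, ?_⟩
  · refine le_antisymm ?_ (CfsgLib.LocalEvenB.le_pCoreOf Subgroup.le_normalizer (T.2.to_le hTLT) le_rfl)
    set R := Cfsg.pCoreOf p NT with hR
    show R ≤ TL
    have hRT : R ≤ (T : Subgroup L) := by
      refine (Subgroup.map_mono (CfsgLib.Core.pCore_le_sylow (T.subtype hTN))).trans ?_
      rw [Sylow.coe_subtype, Subgroup.subgroupOf_map_subtype]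
      exact inf_le_left
    haveI : (R ⊔ C).Normal := Subgroup.normalizer_eq_top_iff.mp (top_le_iff.mp (by
      rw [← hfr]
      refine sup_le ?_ (le_sup_right.trans Subgroup.le_normalizer)
      exact (le_inf (CfsgLib.LocalEvenB.le_normalizer_pCoreOf NT) (CfsgLib.Core.le_normalizer_of_normal _ C)).trans
        (Subgroup.normalizer_inf_normalizer_le_normalizer_sup _ _)))
    rw [hTL]
    refine le_inf hRT (le_sup_left.trans ((CfsgLib.LocalEven.isPReducedNormal_iff_pow hYr.2.1).mp hYr (R ⊔ C) inferInstance fun n hn => ?_))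
    obtain ⟨r, hr, c, hc, rfl⟩ := Subgroup.mem_sup_of_normal_right.mp hn
    obtain ⟨k, hk⟩ := CfsgLib.LocalEvenB.isPGroup_pCoreOf (p := p) NT ⟨r, hr⟩
    refine ⟨k, (QuotientGroup.eq_one_iff _).mp ?_⟩
    rw [QuotientGroup.mk_pow, QuotientGroup.mk_mul, (QuotientGroup.eq_one_iff c).mpr hc, mul_one,
      ← QuotientGroup.mk_pow, show r ^ p ^ k = 1 from congrArg Subtype.val hk, QuotientGroup.mk_one]
  · set W := Cfsg.omegaOne p (TL ⊓ Subgroup.centralizer (TL : Set L)) with hW
    have hYT : Y ≤ (T : Subgroup L) := by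
      refine le_trans ?_ (CfsgLib.Core.pCore_le_sylow T)
      exact CfsgLib.Core.le_pCore (CfsgLib.LocalEven.isPGroup_of_elementary' hYr.2.1)
    have hYW : Y ≤ W := fun y hy => CfsgLib.PGroups.mem_omegaOne (Subgroup.mem_inf.mpr
      ⟨hTL ▸ Subgroup.mem_inf.mpr ⟨hYT hy, by
        haveI := hYr.2.1.1
        exact Subgroup.le_centralizer Y hy⟩, Subgroup.le_centralizer_iff.mp hTLC hy⟩) (hYr.2.1.2 y hy)
    have hWC : W ≤ Subgroup.centralizer (TL : Set L) := (CfsgLib.PGroups.omegaOne_le _).trans inf_le_right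
    refine le_antisymm hYW (Subgroup.subset_normalClosure.trans (hYmax _
      (CfsgLib.LocalEven.isPReducedNormal_normalClosure hchar T (fun x hx => ?_)
        (hWC.trans (Subgroup.centralizer_le (SetLike.coe_subset_coe.mpr hO))) fun N hN h => ?_)))
    · haveI : IsMulCommutative ↥(TL ⊓ Subgroup.centralizer (TL : Set L)) := ⟨⟨fun a b =>
        Subtype.ext (Subgroup.mem_centralizer_iff.mp b.2.2 a a.2.1)⟩⟩
      exact (CfsgLib.PGroups.isElementaryAbelian_omegaOne (p := p) (H := TL ⊓ Subgroup.centralizer (TL : Set L))).2 x hx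
    · have hNY : N ≤ C := (CfsgLib.LocalEven.isPReducedNormal_iff_pow hYr.2.1).mp hYr N hN fun n hn => by
        obtain ⟨k, hk⟩ := h n hn
        exact ⟨k, Subgroup.centralizer_le (SetLike.coe_subset_coe.mpr hYW) hk⟩
      exact ((inf_le_inf_left _ hNY).trans hTL.ge).trans (Subgroup.le_centralizer_iff.mp hWC)

end Cfsg.Agent.S2803
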