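import Cfsg.Statements.S2804
import Cfsg.Agent.Lib.LocalEven.PReducedClosure
import Cfsg.Agent.Lib.LocalEvenB.CharP

set_option autoImplicit false
open Cfsg

namespace Cfsg.Agent.S2804

/-- Let L be a finite group and p a prime with C_L(O_p(L)) ≤ O_p(L), V a p-reduced normal subgroup of L and K a subnormal subgroup of L. Then [V, O^p(K)] is contained in K and is a p-reduced normal subgroup of K, where O^p(K) is the subgroup of K generated by its elements of order prime to p. -/
theorem result {L : Type*} [Group L] [Finite L] {p : ℕ} [Fact p.Prime] (hchar : Subgroup.centralizer (Cfsg.pCore p L : Set L) ≤ Cfsg.pCore p L) (V : Subgroup L) (hV : Cfsg.IsPReducedNormal p V) (K : Subgroup L) (hK : K.IsSubnormal) : ⁅V, (Cfsg.pResidual p ↥K).map K.subtype⁆ ≤ K ∧ Cfsg.IsPReducedNormal p ((⁅V, (Cfsg.pResidual p ↥K).map K.subtype⁆).subgroupOf K) := by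
  haveI := hV.1
  set R := (Cfsg.pResidual p ↥K).map K.subtype with hR
  set W := ⁅V, R⁆ with hW
  have hWK : W ≤ K := CfsgLib.LocalEven.commutator_pResidual_le hV.2.1 hK
  have hWV : W ≤ V := Subgroup.commutator_le_left V R
  have hKR : K ≤ Subgroup.normalizer (R : Set L) :=
    CfsgLib.LocalEven.le_normalizer_map_of_normal K (Cfsg.pResidual p ↥K)
  have hKW : K ≤ Subgroup.normalizer (W : Set L) := by
    intro g hg
    rw [CfsgLib.LocalEven.mem_normalizer_conj_iff, hW, Subgroup.map_commutator,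
      CfsgLib.LocalEven.mem_normalizer_conj_iff.mp (hKR hg),
      CfsgLib.LocalEven.mem_normalizer_conj_iff.mp (by rw [Subgroup.normalizer_eq_top V]; exact Subgroup.mem_top g)]
  haveI : (W.subgroupOf K).Normal := Subgroup.normal_subgroupOf_of_le_normalizer hKW
  have hcomm := isMulCommutative_iff.mp hV.2.1.1
  refine ⟨hWK, (CfsgLib.LocalEven.isPReducedNormal_iff_pow (V := W.subgroupOf K) ⟨isMulCommutative_iff.mpr fun a b => Subtype.ext (Subtype.ext
    (congrArg Subtype.val (hcomm ⟨_, hWV (Subgroup.mem_subgroupOf.mp a.2)⟩ ⟨_, hWV (Subgroup.mem_subgroupOf.mp b.2)⟩) :)), fun a ha => Subtype.ext (by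
      rw [SubgroupClass.coe_pow]; exact hV.2.1.2 _ (hWV ha))⟩).mpr fun N hN h => ?_⟩
  haveI := hN
  have hsn : (N.map K.subtype).IsSubnormal := Subgroup.IsSubnormal.trans' hN.isSubnormal hK
  have hCW : (Subgroup.centralizer (W.subgroupOf K : Set ↥K)).map K.subtype = K ⊓ Subgroup.centralizer (W : Set L) := by
    rw [CfsgLib.LocalEven.map_centralizer_eq, Subgroup.map_subgroupOf_eq_of_le hWK]
  have h1 : N.map K.subtype ≤ Subgroup.centralizer (V : Set L) := by
    refine CfsgLib.LocalEven.le_centralizer_of_subnormal hV hsn ?_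
    rintro _ ⟨n, hn, rfl⟩
    obtain ⟨k, hk⟩ := CfsgLib.Transfer.exists_pow_prime_pow_coprime (p := p) n
    refine ⟨k, ?_⟩
    rw [← map_pow]
    set x := n ^ p ^ k with hx
    have hxR : (x : L) ∈ R := ⟨x, CfsgLib.Transfer.mem_pResidual_of_coprime hk, rfl⟩
    obtain ⟨j, hj⟩ := h x (pow_mem hn _)
    have hxW : (x : L) ∈ Subgroup.centralizer (W : Set L) := by
      obtain ⟨m, hm⟩ := exists_pow_eq_self_of_coprime (Nat.Coprime.pow_left j hk.symm : Nat.Coprime (p ^ j) (orderOf x))
      rw [← hm]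
      exact (hCW.le (Subgroup.mem_map_of_mem K.subtype (pow_mem hj m))).2
    set A := Subgroup.zpowers (x : L) with hA
    have hAV : A ≤ Subgroup.normalizer (V : Set L) := by rw [Subgroup.normalizer_eq_top V]; exact le_top
    have hcop : (Nat.card A).Coprime (Nat.card V) := by
      obtain ⟨i, hi⟩ := (CfsgLib.LocalEven.isPGroup_of_elementary' hV.2.1).exists_card_eq
      rw [Nat.card_zpowers, hi, Subgroup.orderOf_coe]
      exact Nat.Coprime.pow_right i hk
    have h2 : ⁅V, A⁆ ≤ ⊥ := by
      rw [← CfsgLib.Core.commutator_commutator_eq hAV hcop (Or.inl inferInstance)]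
      refine (Subgroup.commutator_mono (Subgroup.commutator_mono le_rfl (Subgroup.zpowers_le.mpr hxR)) le_rfl).trans ?_
      rw [le_bot_iff, Subgroup.commutator_eq_bot_iff_le_centralizer, Subgroup.le_centralizer_iff]
      exact Subgroup.zpowers_le.mpr hxW
    rw [le_bot_iff, Subgroup.commutator_eq_bot_iff_le_centralizer, Subgroup.le_centralizer_iff] at h2
    exact h2 (Subgroup.mem_zpowers _)
  intro n hn
  obtain ⟨z, hz, ez⟩ := hCW.ge (Subgroup.mem_inf.mpr
    ⟨n.2, Subgroup.centralizer_le (SetLike.coe_subset_coe.mpr hWV) (h1 (Subgroup.mem_map_of_mem _ hn))⟩)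
  rwa [← show z = n from Subtype.ext ez]

end Cfsg.Agent.S2804
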