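import Cfsg.Statements.S2806
import Cfsg.Agent.Lib.LocalEven.Kieler
import Cfsg.Agent.Lib.LocalEvenB.SubnormalJoin
import Cfsg.Agent.Lib.Components.Subnormal

set_option autoImplicit false
open Cfsg

namespace Cfsg.Agent.S2806

/-- Let H be a finite group of local characteristic p, T a Sylow p-subgroup, and L₁, L₂ subnormal subgroups of H generating the subgroup L. Then the point stabilizer of L with respect to T ∩ L is generated by the point stabilizers of L₁ and L₂ with respect to T ∩ L₁ and T ∩ L₂ (point stabilizer of X w.r.t. R: the subgroup generated by the p-elements of X centralizing Ω₁(Z(R))). -/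
theorem result {H : Type*} [Group H] [Finite H] {p : ℕ} [Fact p.Prime] (hH : Cfsg.IsOfLocalCharacteristic p H) (T : Sylow p H) (L₁ L₂ : Subgroup H) (h₁ : L₁.IsSubnormal) (h₂ : L₂.IsSubnormal) : Cfsg.pointStabilizer p (L₁ ⊔ L₂) ((T : Subgroup H) ⊓ (L₁ ⊔ L₂)) = Cfsg.pointStabilizer p L₁ ((T : Subgroup H) ⊓ L₁) ⊔ Cfsg.pointStabilizer p L₂ ((T : Subgroup H) ⊓ L₂) := by
  obtain ⟨hdiv, hloc'⟩ := hH
  have hloc : ∀ X : Subgroup H, IsPGroup p X → X ≠ ⊥ →
      CfsgLib.LocalEvenB.HasCharP p (Subgroup.normalizer (X : Set H)) :=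
    fun X hX hX1 => (CfsgLib.LocalEvenB.hasCharP_iff _).mpr (hloc' X hX hX1)
  set M := Subgroup.centralizer (Cfsg.omegaOne p ((T : Subgroup H) ⊓ Subgroup.centralizer ((T : Subgroup H) : Set H)) : Set H) with hM
  set L := L₁ ⊔ L₂ with hLdef
  have hF : ∀ A ∈ ({L₁, L₂} : Set (Subgroup H)), A.IsSubnormal := by
    rintro A (rfl | rfl) <;> assumption
  have hLs : L.IsSubnormal := by
    rw [hLdef, show L₁ ⊔ L₂ = sSup ({L₁, L₂} : Set (Subgroup H)) by rw [sSup_pair]]
    exact CfsgLib.Components.isSubnormal_sSup hF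
  have hTM : (T : Subgroup H) ≤ M := CfsgLib.LocalEven.omegaCenter_le_centralizer _
  let Pst : Subgroup H → Subgroup H := fun X => Subgroup.closure {x : H | x ∈ X ⊓ M ∧ ∃ k : ℕ, orderOf x = p ^ k}
  have hP : ∀ X : Subgroup H, X.IsSubnormal → Cfsg.pointStabilizer p X ((T : Subgroup H) ⊓ X) = Pst X := by
    intro X hX
    show Subgroup.closure _ = Subgroup.closure _
    congr 1
    ext x
    constructor <;> rintro ⟨hx, k, hk⟩ <;> refine ⟨?_, k, hk⟩
    all_goals
      by_cases hne : (T : Subgroup H) ⊓ X = ⊥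
      · obtain ⟨P, hP⟩ := CfsgLib.LocalEven.exists_sylow_inf_subnormal T hX
        rw [hne, Subgroup.map_eq_bot_iff_of_injective _ X.subtype_injective] at hP
        have hx1 : x = 1 := by
          have hp1 : IsPGroup p ↥(Subgroup.zpowers (⟨x, (Subgroup.mem_inf.mp hx).1⟩ : X)) :=
            IsPGroup.of_card (n := k) (by rw [Nat.card_zpowers, Subgroup.orderOf_mk, hk])
          obtain ⟨P', hP'⟩ := hp1.exists_le_sylow
          have hc : Nat.card ↥(P' : Subgroup ↥X) = 1 := by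
            rw [Sylow.card_eq_multiplicity P', ← Sylow.card_eq_multiplicity P, hP, Subgroup.card_bot]
          rw [Subgroup.eq_bot_of_card_eq _ hc, le_bot_iff, Subgroup.zpowers_eq_bot] at hP'
          exact congrArg Subtype.val hP'
        subst hx1
        exact Subgroup.one_mem _
      · first
          | exact (CfsgLib.LocalEven.kieler_local hloc T hX hne).ge hx
          | exact (CfsgLib.LocalEven.kieler_local hloc T hX hne).le hx
  rw [hP L hLs, hP L₁ h₁, hP L₂ h₂]
  have hmono : ∀ X : Subgroup H, X ≤ L → Pst X ≤ Pst L := fun X hXL => Subgroup.closure_mono fun x hx =>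
    ⟨inf_le_inf_right M hXL hx.1, hx.2⟩
  refine le_antisymm ?_ (sup_le (hmono L₁ le_sup_left) (hmono L₂ le_sup_right))
  set K := L ⊓ M with hK
  have hPle : ∀ X : Subgroup H, Pst X ≤ X ⊓ M := fun X => (Subgroup.closure_le _).mpr fun x hx => hx.1
  have hsn : ∀ X : Subgroup H, X.IsSubnormal → X ≤ L → ((Pst X).subgroupOf K).IsSubnormal := by
    intro X hX hXL
    refine Subgroup.IsSubnormal.step _ (X.subgroupOf K) (fun y hy => ?_) hX.subgroupOf ?_
    · exact Subgroup.mem_subgroupOf.mpr (hPle X (Subgroup.mem_subgroupOf.mp hy)).1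
    · refine Subgroup.normal_subgroupOf_of_le_normalizer (Subgroup.le_normalizer_iff.mpr ?_)
      intro g hg y hy
      have key : ∀ g ∈ X ⊓ M, (Pst X).map (MulAut.conj g).toMonoidHom ≤ Pst X := by
        intro g hg
        show (Subgroup.closure _).map _ ≤ Subgroup.closure _
        rw [MonoidHom.map_closure, Subgroup.closure_le]
        rintro _ ⟨x, ⟨hx, k, hk⟩, rfl⟩
        exact Subgroup.subset_closure ⟨mul_mem (mul_mem hg hx) (inv_mem hg), k,
          ((MulAut.conj g).orderOf_eq x).trans hk⟩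
      have hg' : (g : H) ∈ X ⊓ M := Subgroup.mem_inf.mpr ⟨Subgroup.mem_subgroupOf.mp hg, (Subgroup.mem_inf.mp g.2).2⟩
      exact Subgroup.mem_subgroupOf.mpr (key _ hg' ⟨(y : H), Subgroup.mem_subgroupOf.mp hy, rfl⟩)
  set R := Pst L₁ ⊔ Pst L₂ with hR
  have hRK : Pst L₁ ≤ K ∧ Pst L₂ ≤ K :=
    ⟨(hPle L₁).trans (inf_le_inf_right M le_sup_left), (hPle L₂).trans (inf_le_inf_right M le_sup_right)⟩
  have hRs : (R.subgroupOf K).IsSubnormal := by
    rw [hR, Subgroup.subgroupOf_sup hRK.1 hRK.2,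
      show (Pst L₁).subgroupOf K ⊔ (Pst L₂).subgroupOf K = sSup ({(Pst L₁).subgroupOf K, (Pst L₂).subgroupOf K} : Set (Subgroup ↥K)) by rw [sSup_pair]]
    refine CfsgLib.Components.isSubnormal_sSup ?_
    rintro A (rfl | rfl)
    exacts [hsn L₁ h₁ le_sup_left, hsn L₂ h₂ le_sup_right]
  have hTLR : (T : Subgroup H) ⊓ L ≤ R := by
    rw [hLdef, show L₁ ⊔ L₂ = sSup ({L₁, L₂} : Set (Subgroup H)) by rw [sSup_pair],
      CfsgLib.LocalEvenB.sylow_inf_sSup T _ hF]
    refine iSup₂_le fun A hA => ?_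
    intro x hx
    obtain ⟨hxT, hxA⟩ := Subgroup.mem_inf.mp hx
    obtain ⟨k, hk⟩ := (IsPGroup.iff_orderOf.mp T.2) ⟨x, hxT⟩
    rw [Subgroup.orderOf_mk] at hk
    rcases hA with rfl | rfl
    · exact Subgroup.mem_sup_left (Subgroup.subset_closure ⟨Subgroup.mem_inf.mpr ⟨hxA, hTM hxT⟩, k, hk⟩)
    · exact Subgroup.mem_sup_right (Subgroup.subset_closure ⟨Subgroup.mem_inf.mpr ⟨hxA, hTM hxT⟩, k, hk⟩)
  obtain ⟨P, hPT⟩ := CfsgLib.LocalEven.exists_sylow_inf_subnormal T hLs
  obtain ⟨Q, hQ⟩ := ((T.2.to_le inf_le_left : IsPGroup p ↥((T : Subgroup H) ⊓ L)).comap_of_injective _ K.subtype_injective :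
    IsPGroup p (((T : Subgroup H) ⊓ L).subgroupOf K)).exists_le_sylow
  have hQR : (Q : Subgroup ↥K) ≤ R.subgroupOf K := by
    have hle : (T : Subgroup H) ⊓ L ≤ K := le_inf inf_le_right (inf_le_left.trans hTM)
    have he : ((T : Subgroup H) ⊓ L).subgroupOf K = (Q : Subgroup ↥K) := by
      refine Subgroup.eq_of_le_of_card_ge hQ ?_
      have h1 : IsPGroup p ↥(((Q : Subgroup ↥K).map K.subtype).subgroupOf L) :=
        (Q.2.map _).comap_of_injective _ L.subtype_injective
      obtain ⟨P', hP'⟩ := h1.exists_le_sylow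
      have h2 := Subgroup.card_le_of_le hP'
      rw [Nat.card_congr (Subgroup.subgroupOfEquivOfLe ((Subgroup.map_subtype_le _).trans inf_le_left)).toEquiv,
        Sylow.card_eq_multiplicity P', ← Sylow.card_eq_multiplicity P,
        Subgroup.card_map_of_injective K.subtype_injective,
        ← Subgroup.card_map_of_injective (f := L.subtype) (K := (P : Subgroup ↥L)) L.subtype_injective, hPT] at h2
      rwa [Nat.card_congr (Subgroup.subgroupOfEquivOfLe hle).toEquiv]
    rw [← he]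
    exact fun y hy => Subgroup.mem_subgroupOf.mpr (hTLR (Subgroup.mem_subgroupOf.mp hy))
  refine (Subgroup.closure_le _).mpr fun x hx => ?_
  obtain ⟨hxK, k, hk⟩ := hx
  obtain ⟨Q', hQ'⟩ := (IsPGroup.of_card (n := k) (by rw [Nat.card_zpowers, Subgroup.orderOf_mk, hk]) :
    IsPGroup p ↥(Subgroup.zpowers (⟨x, hxK⟩ : K))).exists_le_sylow
  exact Subgroup.mem_subgroupOf.mp (CfsgLib.LocalEven.sylow_le_of_subnormal hRs Q hQR Q' (hQ' (Subgroup.mem_zpowers _)))

end Cfsg.Agent.S2806
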