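import Cfsg.Statements.S2809
import Cfsg.Agent.Lib.Core.Coprime
import Cfsg.Agent.Lib.Transfer.PResidual

set_option autoImplicit false
open Cfsg

namespace Cfsg.Agent.S2809

/-- Let H be a finite group, p a prime, R a p-subgroup of H with C_H(R) ≤ R, and L a subgroup of N_H(R) acting nilpotently on R (some iterated commutator [R, L, …, L] is trivial). Then L is a p-group. -/
theorem result {H : Type*} [Group H] [Finite H] {p : ℕ} [Fact p.Prime] (R : Subgroup H) (hR : IsPGroup p ↥R) (hC : Subgroup.centralizer (R : Set H) ≤ R) (L : Subgroup H) (hL : L ≤ Subgroup.normalizer (R : Set H)) (hnil : ∃ n : ℕ, Cfsg.iterCommutator R L n = ⊥) : IsPGroup p ↥L := by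
  classical
  haveI : Group.IsNilpotent R := hR.isNilpotent
  obtain ⟨n, hn⟩ := hnil
  intro x
  obtain ⟨k, hk⟩ := CfsgLib.Transfer.exists_pow_prime_pow_coprime (p := p) (x : H)
  refine ⟨k, Subtype.ext ?_⟩
  set y := (x : H) ^ p ^ k with hy
  have hyL : y ∈ L := L.pow_mem x.2 _
  have hAR : Subgroup.zpowers y ≤ Subgroup.normalizer (R : Set H) := Subgroup.zpowers_le.mpr (hL hyL)
  have hcop : (Nat.card (Subgroup.zpowers y)).Coprime (Nat.card R) := by
    obtain ⟨j, hj⟩ := hR.exists_card_eq
    rw [Nat.card_zpowers, hj]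
    exact hk.pow_right j
  have hle : ∀ i, ⁅R, Subgroup.zpowers y⁆ ≤ Cfsg.iterCommutator R L i := fun i => by
    induction i with
    | zero => exact CfsgLib.Core.commutator_le_of_normalizes hAR
    | succ i ih =>
      rw [← CfsgLib.Core.commutator_commutator_eq hAR hcop (Or.inr inferInstance)]
      exact Subgroup.commutator_mono ih (Subgroup.zpowers_le.mpr hyL)
  have hcent : y ∈ Subgroup.centralizer (R : Set H) :=
    Subgroup.le_centralizer_iff.mp (Subgroup.commutator_eq_bot_iff_le_centralizer.mp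
      (le_bot_iff.mp ((hle n).trans hn.le))) (Subgroup.mem_zpowers y)
  have := CfsgLib.Transfer.eq_one_of_coprime_of_isPGroup hR (g := ⟨y, hC hcent⟩)
    (by rwa [Subgroup.orderOf_mk])
  rw [Subgroup.coe_pow, Subgroup.coe_one]
  exact congrArg Subtype.val this

end Cfsg.Agent.S2809
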