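import Cfsg.Statements.S2810
import Cfsg.Agent.Lib.Core.Cores
import Cfsg.Agent.Lib.Core.Coprime
import Cfsg.Agent.Lib.Transfer.PResidual

set_option autoImplicit false
open Cfsg

namespace Cfsg.Agent.S2810

/-- Let H be a finite group of characteristic p and L a subgroup of H centralizing every factor of some H-invariant chain 1 = A₀ ≤ A₁ ≤ … ≤ Aₙ = O_p(H) of normal subgroups (that is, [A_{i+1}, L] ≤ Aᵢ for each i). Then L ≤ O_p(H). -/
theorem result {H : Type*} [Group H] [Finite H] {p : ℕ} [Fact p.Prime] (hchar : Subgroup.centralizer (Cfsg.pCore p H : Set H) ≤ Cfsg.pCore p H) (L : Subgroup H) (n : ℕ) (A : Fin (n + 1) → Subgroup H) (h0 : A 0 = ⊥) (hn : A (Fin.last n) = Cfsg.pCore p H) (hmono : Monotone A) (hnorm : ∀ i, (A i).Normal) (hcent : ∀ i : Fin n, ⁅A i.succ, L⁆ ≤ A i.castSucc) : L ≤ Cfsg.pCore p H := by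
  classical
  haveI := hnorm
  haveI : Group.IsNilpotent ↥(Cfsg.pCore p H) := (CfsgLib.Core.isPGroup_pCore p H).isNilpotent
  let Ker : Fin n → Subgroup H := fun i =>
    (Subgroup.centralizer (((A i.succ).map (QuotientGroup.mk' (A i.castSucc)) :
      Subgroup (H ⧸ A i.castSucc)) : Set (H ⧸ A i.castSucc))).comap (QuotientGroup.mk' (A i.castSucc))
  let K : Subgroup H := ⨅ i, Ker i
  haveI hKn : K.Normal := Subgroup.normal_iInf_normal fun i => by
    haveI : ((A i.succ).map (QuotientGroup.mk' (A i.castSucc))).Normal :=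
      (hnorm i.succ).map _ (QuotientGroup.mk'_surjective _)
    infer_instance
  have hKer : ∀ (i : Fin n) (X : Subgroup H), X ≤ Ker i ↔ ⁅A i.succ, X⁆ ≤ A i.castSucc := by
    intro i X
    rw [← Subgroup.map_le_iff_le_comap, Subgroup.le_centralizer_iff,
      ← Subgroup.commutator_eq_bot_iff_le_centralizer, ← Subgroup.map_commutator,
      Subgroup.map_eq_bot_iff, QuotientGroup.ker_mk']
  have hLK : L ≤ K := le_iInf fun i => (hKer i L).mpr (hcent i)
  refine hLK.trans ?_
  have hKp : IsPGroup p K := by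
    intro x
    obtain ⟨k, hk⟩ := CfsgLib.Transfer.exists_pow_prime_pow_coprime (p := p) (x : H)
    refine ⟨k, Subtype.ext ?_⟩
    set y := (x : H) ^ p ^ k with hy
    have hyK : y ∈ K := K.pow_mem x.2 _
    have hAR : Subgroup.zpowers y ≤ Subgroup.normalizer (Cfsg.pCore p H : Set H) :=
      CfsgLib.Core.le_normalizer_of_normal _ _
    have hcop : (Nat.card (Subgroup.zpowers y)).Coprime (Nat.card (Cfsg.pCore p H)) := by
      obtain ⟨j, hj⟩ := (CfsgLib.Core.isPGroup_pCore p H).exists_card_eq
      rw [Nat.card_zpowers, hj]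
      exact hk.pow_right j
    have hle : ∀ i : Fin (n + 1), ⁅Cfsg.pCore p H, Subgroup.zpowers y⁆ ≤ A i := by
      intro i
      induction i using Fin.reverseInduction with
      | last => rw [hn]; exact CfsgLib.Core.commutator_le_of_normalizes hAR
      | cast i ih =>
        rw [← CfsgLib.Core.commutator_commutator_eq hAR hcop (Or.inr inferInstance)]
        exact (Subgroup.commutator_mono ih le_rfl).trans
          ((hKer i _).mp ((Subgroup.zpowers_le.mpr hyK).trans (iInf_le Ker i)))
    have hcent' : y ∈ Subgroup.centralizer (Cfsg.pCore p H : Set H) :=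
      Subgroup.le_centralizer_iff.mp (Subgroup.commutator_eq_bot_iff_le_centralizer.mp
        (le_bot_iff.mp ((hle 0).trans h0.le))) (Subgroup.mem_zpowers y)
    have := CfsgLib.Transfer.eq_one_of_coprime_of_isPGroup (CfsgLib.Core.isPGroup_pCore p H)
      (g := ⟨y, hchar hcent'⟩) (by rwa [Subgroup.orderOf_mk])
    rw [Subgroup.coe_pow, Subgroup.coe_one]
    exact congrArg Subtype.val this
  exact CfsgLib.Core.le_pCore hKp

end Cfsg.Agent.S2810
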