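import Cfsg.Statements.S2813
import Cfsg.Agent.Lib.Core.Cores
import Cfsg.Agent.Lib.Core.Coprime

set_option autoImplicit false
open Cfsg
open scoped commutatorElement

namespace Cfsg.Agent.S2813

/-- Let K be a subgroup of the finite group H with O_p(K) = 1 and Y a p-subgroup of N_H(K) with [K, Y, Y] = 1. Then [K, Y] = 1. -/
theorem result {H : Type*} [Group H] [Finite H] {p : ℕ} [Fact p.Prime] (K : Subgroup H) (hO : Cfsg.pCore p ↥K = ⊥) (Y : Subgroup H) (hY : IsPGroup p ↥Y) (hYK : Y ≤ Subgroup.normalizer (K : Set H)) (hq : ⁅⁅K, Y⁆, Y⁆ = ⊥) : ⁅K, Y⁆ = ⊥ := by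
  classical
  haveI := Fintype.ofFinite H
  set D : Subgroup H := ⁅K, Y⁆ with hD
  have hDK : D ≤ K := CfsgLib.Core.commutator_le_of_normalizes hYK
  have hKD : K ≤ Subgroup.normalizer (D : Set H) := Subgroup.normalizer_commutator_ge_left K Y
  have hDY : Y ≤ Subgroup.centralizer (D : Set H) :=
    Subgroup.le_centralizer_iff.mp (Subgroup.commutator_eq_bot_iff_le_centralizer.mp hq)
  have hcy : ∀ y ∈ Y, ∀ d ∈ D, d * y = y * d := fun y hy d hd =>
    Subgroup.mem_centralizer_iff.mp (hDY hy) d hd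
  -- `D` is abelian
  have hDab : D ≤ Subgroup.centralizer (D : Set H) := by
    rw [hD, Subgroup.commutator_le]
    intro k hk y hy
    rw [Subgroup.mem_centralizer_iff]
    intro d hd
    have hd' : k⁻¹ * d * k ∈ D :=
      (Subgroup.mem_normalizer_iff''.mp (hKD hk) d).mp hd
    have e := hcy y hy _ hd'
    have e2 := hcy y hy d hd
    have hyi : y⁻¹ * d = d * y⁻¹ := by
      rw [inv_mul_eq_iff_eq_mul, ← mul_assoc, ← e2, mul_assoc, mul_inv_cancel, mul_one]
    calc d * ⁅k, y⁆ = k * ((k⁻¹ * d * k) * y) * k⁻¹ * y⁻¹ := by rw [commutatorElement_def]; group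
      _ = k * y * k⁻¹ * (d * y⁻¹) := by rw [e]; group
      _ = _ := by rw [← hyi, commutatorElement_def]; group
  -- the `p`-elements of `D` form a normal `p`-subgroup of `K`
  let P₀ : Subgroup H := {
    carrier := {d | d ∈ D ∧ ∃ n : ℕ, d ^ p ^ n = 1}
    one_mem' := ⟨one_mem _, 0, one_pow _⟩
    mul_mem' := by
      rintro a b ⟨ha, m, hm⟩ ⟨hb, n, hn⟩
      refine ⟨mul_mem ha hb, m + n, ?_⟩
      rw [(show Commute a b from Subgroup.mem_centralizer_iff.mp (hDab hb) a ha).mul_pow, pow_add,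
        pow_mul, hm, one_pow, one_mul, mul_comm, pow_mul, hn, one_pow]
    inv_mem' := by
      rintro a ⟨ha, m, hm⟩
      exact ⟨inv_mem ha, m, by rw [inv_pow, hm, inv_one]⟩ }
  have hP₀K : P₀ ≤ K := fun d hd => hDK hd.1
  have hP₀ : P₀ = ⊥ := by
    haveI : (P₀.subgroupOf K).Normal := by
      refine (Subgroup.normal_subgroupOf_iff hP₀K).mpr fun d k hd hk => ?_
      obtain ⟨hd1, n, hn⟩ := hd
      exact ⟨(Subgroup.mem_normalizer_iff.mp (hKD hk) d).mp hd1, n, by rw [conj_pow, hn, mul_one, mul_inv_cancel]⟩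
    have h1 : IsPGroup p ↥(P₀.subgroupOf K) := by
      rintro ⟨⟨d, hdK⟩, hd⟩
      obtain ⟨-, n, hn⟩ := hd
      exact ⟨n, Subtype.ext (Subtype.ext (by simpa using hn))⟩
    have h2 := CfsgLib.Core.le_pCore h1
    rw [hO, le_bot_iff, Subgroup.subgroupOf_eq_bot, disjoint_iff, inf_eq_left.mpr hP₀K] at h2
    exact h2
  rw [eq_bot_iff, hD, Subgroup.commutator_le]
  intro k hk y hy
  have hpow : ∀ n : ℕ, ⁅k, y ^ n⁆ = ⁅k, y⁆ ^ n := fun n => by
    induction n with
    | zero => simp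
    | succ n ih =>
      have hc : ⁅k, y⁆ * y ^ n = y ^ n * ⁅k, y⁆ :=
        hcy _ (pow_mem hy n) _ (Subgroup.commutator_mem_commutator hk hy)
      rw [pow_succ', pow_succ, commutatorElement_mul_right_eq_mul_conj, ih]
      have hc' : Commute y (⁅k, y⁆ ^ n) :=
        ((show Commute y ⁅k, y⁆ from (hcy _ hy _ (Subgroup.commutator_mem_commutator hk hy)).symm)).pow_right n
      have hc2 : y * ⁅k, y⁆ ^ n * y⁻¹ = ⁅k, y⁆ ^ n := by
        rw [hc'.eq, mul_assoc, mul_inv_cancel, mul_one]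
      rw [mul_assoc ⁅k, y⁆, mul_assoc ⁅k, y⁆, hc2]
      exact (Commute.refl _).pow_right n |>.eq
  obtain ⟨n, hn⟩ := hY ⟨y, hy⟩
  have hmem : ⁅k, y⁆ ∈ P₀ := ⟨Subgroup.commutator_mem_commutator hk hy, n, by
    rw [← hpow, show y ^ p ^ n = 1 from congrArg Subtype.val hn, commutatorElement_one_right]⟩
  rw [hP₀] at hmem
  exact hmem

end Cfsg.Agent.S2813
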