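import Cfsg.Statements.S2814
import Cfsg.Agent.Lib.Components.CoprimeFStar
import Cfsg.Agent.Lib.Transfer.PResidual

set_option autoImplicit false
open Cfsg

namespace Cfsg.Agent.S2814

open CfsgLib.Components
open scoped Pointwise

open CfsgLib.Transfer in
theorem key {H : Type*} [Group H] [Finite H] {p : ℕ} [Fact p.Prime] {A K : Subgroup H}
    (hK : K = Cfsg.subnormalClosure A) :
    (Subgroup.normalClosure ((A.subgroupOf K : Subgroup ↥K) : Set ↥K)).map K.subtype = K ∧
      Subgroup.normalizer (A : Set H) ≤ Subgroup.normalizer (K : Set H) ∧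
      A ⊔ (Cfsg.pResidual p ↥K).map K.subtype = K ∧ (IsPGroup p ↥A →
        ⁅(Cfsg.pResidual p ↥K).map K.subtype, A⁆ = (Cfsg.pResidual p ↥K).map K.subtype) := by
  classical
  have hAK : A ≤ K := hK ▸ le_sInf fun X hX => hX.1
  have hKs : K.IsSubnormal := by
    rw [hK, Cfsg.subnormalClosure]
    have key : ∀ S : Set (Subgroup H), S.Finite → (∀ X ∈ S, X.IsSubnormal) → (sInf S).IsSubnormal := by
      intro S hS
      induction S, hS using Set.Finite.induction_on with
      | empty => intro _; rw [sInf_empty]; exact isSubnormal_of_normal inferInstance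
      | @insert X T _ _ ih =>
        intro h
        rw [sInf_insert]
        exact (h X (Set.mem_insert _ _)).inf (ih fun Y hY => h Y (Set.mem_insert_of_mem _ hY))
    exact key _ (Set.toFinite _) fun X hX => hX.2
  have hmin : ∀ X : Subgroup H, A ≤ X → X.IsSubnormal → K ≤ X :=
    fun X h1 h2 => hK ▸ sInf_le ⟨h1, h2⟩
  have hminK : ∀ M : Subgroup K, A.subgroupOf K ≤ M → M.IsSubnormal → M = ⊤ := by
    intro M h1 h2
    refine top_le_iff.mp fun x _ => ?_
    have h3 : A ≤ M.map K.subtype := by
      rw [← map_subtype_subgroupOf hAK]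
      exact Subgroup.map_mono h1
    obtain ⟨y, hy, hyx⟩ := hmin _ h3 (h2.trans' hKs) x.2
    rwa [← Subtype.ext hyx]
  have hres : A ⊔ (Cfsg.pResidual p ↥K).map K.subtype = K := by
    have h1 : A.subgroupOf K ⊔ Cfsg.pResidual p ↥K = ⊤ := by
      refine hminK _ le_sup_left ?_
      haveI := (isPGroup_quotient_pResidual (p := p) (G := K)).isNilpotent
      have h2 := (CfsgLib.Core.isSubnormal_of_isNilpotent
        ((A.subgroupOf K).map (QuotientGroup.mk' (Cfsg.pResidual p ↥K)))).comap
        (QuotientGroup.mk' (Cfsg.pResidual p ↥K))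
      rwa [Subgroup.comap_map_eq, QuotientGroup.ker_mk'] at h2
    have h3 := congrArg (Subgroup.map K.subtype) h1
    rwa [Subgroup.map_sup, map_subtype_subgroupOf hAK, ← MonoidHom.range_eq_map,
      Subgroup.range_subtype] at h3
  refine ⟨?_, ?_, hres, fun hA => ?_⟩
  · rw [hminK _ Subgroup.subset_normalClosure (isSubnormal_of_normal inferInstance),
      ← MonoidHom.range_eq_map, Subgroup.range_subtype]
  · intro g hg
    refine mem_normalizer_of_smul_eq_self (Subgroup.eq_of_le_of_card_ge
      (hmin _ ?_ (isSubnormal_conj hKs g))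
      (Nat.card_congr (Subgroup.equivSMul (MulAut.conj g) K).toEquiv).ge).symm
    rw [← smul_eq_self_of_mem_normalizer hg]
    exact Subgroup.pointwise_smul_le_pointwise_smul_iff.mpr hAK
  · set R := (Cfsg.pResidual p ↥K).map K.subtype with hR
    have hRn : K ≤ Subgroup.normalizer (R : Set H) := by
      intro k hk
      have h1 : (⟨k, hk⟩ : K) ∈ Subgroup.normalizer ((Cfsg.pResidual p ↥K) : Set ↥K) := by
        rw [Subgroup.normalizer_eq_top]; trivial
      exact Subgroup.le_normalizer_map K.subtype ⟨_, h1, rfl⟩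
    have hRA : ⁅R, A⁆ ≤ R :=
      (Subgroup.commutator_comm R A).le.trans
        (Subgroup.le_normalizer_iff_commutator_le_right.mp (hAK.trans hRn))
    refine le_antisymm hRA ?_
    have hMn : K ≤ Subgroup.normalizer ((⁅R, A⁆ : Subgroup H) : Set H) := by
      rw [← hres]
      exact sup_le (Subgroup.normalizer_commutator_ge_right _ _)
        (Subgroup.normalizer_commutator_ge_left _ _)
    have hMK : ⁅R, A⁆ ≤ K := hRA.trans (Subgroup.map_subtype_le _)
    have hAM : A ⊔ ⁅R, A⁆ = K := by
      refine le_antisymm (sup_le hAK hMK) (hmin _ le_sup_left ?_)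
      refine Subgroup.IsSubnormal.trans (sup_le hAK hMK) (isSubnormal_of_normal ?_) hKs
      refine Subgroup.normal_subgroupOf_of_le_normalizer ?_
      rw [← hres]
      refine sup_le (le_sup_left.trans Subgroup.le_normalizer) fun r hr => ?_
      refine mem_normalizer_of_smul_eq_self (Subgroup.eq_of_le_of_card_ge ?_
        (Nat.card_congr (Subgroup.equivSMul (MulAut.conj r) (A ⊔ ⁅R, A⁆ : Subgroup H)).toEquiv).le)
      rw [Subgroup.smul_sup, sup_le_iff, smul_eq_self_of_mem_normalizer
        (hMn ((Subgroup.map_subtype_le _ : R ≤ K) hr))]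
      refine ⟨?_, le_sup_right⟩
      rintro _ ⟨a, ha, rfl⟩
      show r * a * r⁻¹ ∈ A ⊔ ⁅R, A⁆
      rw [show r * a * r⁻¹ = r * a * r⁻¹ * a⁻¹ * a by group]
      exact mul_mem ((le_sup_right : ⁅R, A⁆ ≤ A ⊔ ⁅R, A⁆)
        (Subgroup.commutator_mem_commutator hr ha)) ((le_sup_left : A ≤ A ⊔ ⁅R, A⁆) ha)
    haveI : (⁅R, A⁆.subgroupOf K).Normal := Subgroup.normal_subgroupOf_of_le_normalizer hMn
    have hq : IsPGroup p (K ⧸ ⁅R, A⁆.subgroupOf K) := by
      have h1 : (A.subgroupOf K).map (QuotientGroup.mk' (⁅R, A⁆.subgroupOf K)) = ⊤ := by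
        rw [← top_le_iff, ← Subgroup.map_top_of_surjective _ (QuotientGroup.mk'_surjective _),
          Subgroup.map_le_iff_le_comap, Subgroup.comap_map_eq, QuotientGroup.ker_mk',
          ← Subgroup.subgroupOf_sup hAK hMK, hAM, Subgroup.subgroupOf_self]
      have h2 := ((hA.comap_of_injective K.subtype K.subtype_injective).map
        (QuotientGroup.mk' (⁅R, A⁆.subgroupOf K)))
      rw [show A.comap K.subtype = A.subgroupOf K from rfl, h1] at h2
      exact h2.of_equiv Subgroup.topEquiv
    calc R ≤ (⁅R, A⁆.subgroupOf K).map K.subtype :=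
          Subgroup.map_mono (pResidual_le_of_isPGroup_quotient hq)
      _ = ⁅R, A⁆ := map_subtype_subgroupOf hMK

/-- Let A be a subgroup of the finite group H and K the subnormal closure of A (intersection of the subnormal subgroups containing A). Then K is the normal closure of A inside K and N_H(A) ≤ N_H(K); K = A·O^p(K), O^p(K) being generated by the elements of K of order prime to p; and if A is a p-group, O^p(K) = [O^p(K), A]. -/
theorem result {H : Type*} [Group H] [Finite H] {p : ℕ} [Fact p.Prime] (A : Subgroup H) (K : Subgroup H) (hK : K = Cfsg.subnormalClosure A) : (Subgroup.normalClosure ((A.subgroupOf K : Subgroup ↥K) : Set ↥K)).map K.subtype = K ∧ Subgroup.normalizer (A : Set H) ≤ Subgroup.normalizer (K : Set H) ∧ A ⊔ (Cfsg.pResidual p ↥K).map K.subtype = K ∧ (IsPGroup p ↥A → ⁅(Cfsg.pResidual p ↥K).map K.subtype, A⁆ = (Cfsg.pResidual p ↥K).map K.subtype) := by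
  exact key hK

end Cfsg.Agent.S2814
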