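import Cfsg.Statements.S2815
import Cfsg.Agent.Lib.Components.CoprimeFStar
import Cfsg.Agent.Lib.Transfer.PResidual

set_option autoImplicit false
open Cfsg

namespace Cfsg.Agent.S2815

open CfsgLib.Components
open scoped Pointwise commutatorElement

theorem key {H : Type*} [Group H] [Finite H] {p : ℕ} [Fact p.Prime] (hp : p ∣ Nat.card H)
    (hO : Cfsg.pCore p H = ⊥) (hq : Cfsg.IsQuasisimple ↥(Cfsg.pResidual p H)) :
    Cfsg.pResidual p H = Cfsg.generalizedFittingSubgroup H ∧
      (∀ Y : Subgroup H, IsPGroup p ↥Y → Y ≠ ⊥ →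
        ⁅Cfsg.pResidual p H, Y⁆ = Cfsg.pResidual p H ∧
        Cfsg.pResidual p H ≤ ⨆ k : ↥(Cfsg.pResidual p H), Y.map (MulAut.conj (k : H)).toMonoidHom) ∧
      (∀ C : Subgroup H, C.Normal → ¬ Cfsg.pResidual p H ≤ C → (Nat.card ↥C).Coprime p) ∧
      Cfsg.IsPIrreducible p H := by
  set K := Cfsg.pResidual p H with hK
  haveI hKn : K.Normal := CfsgLib.Transfer.pResidual_normal
  have hKc : Cfsg.IsComponent K := ⟨hKn.isSubnormal, hq⟩
  have hfit : Cfsg.fittingSubgroup H ≤ K :=
    CfsgLib.Transfer.le_pResidual_of_coprime (fitting_coprime_of_pCore_bot hO)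
  have hF : K = Cfsg.generalizedFittingSubgroup H := by
    refine le_antisymm (component_le_gFitting hKc) (sup_le (layer_le_iff.mpr fun L hL => ?_) hfit)
    by_contra hne
    refine IsComponent.not_isSolvable hL ?_
    haveI := (CfsgLib.Transfer.isPGroup_quotient_pResidual (p := p) (G := H)).isNilpotent
    haveI hsQ : Group.IsSolvable (H ⧸ K) := inferInstance
    have h1 : L.map (QuotientGroup.mk' K) = ⊥ := by
      by_contra hbot
      have h2 : Cfsg.IsQuasisimple ↥(L.map (QuotientGroup.mk' K)) := by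
        haveI : Nontrivial ↥(L.map (QuotientGroup.mk' K)) := (Subgroup.nontrivial_iff_ne_bot _).mpr hbot
        exact IsQuasisimple.of_surjective hL.2 (f := (QuotientGroup.mk' K).subgroupMap L)
          ((QuotientGroup.mk' K).subgroupMap_surjective L)
      exact IsQuasisimple.not_isSolvable h2 inferInstance
    rw [Subgroup.map_eq_bot_iff, QuotientGroup.ker_mk'] at h1
    exact absurd h1 hne
  have hcom : ⁅K, K⁆ = K := IsQuasisimple.commutator_eq_self hq
  have hY : ∀ Y : Subgroup H, IsPGroup p ↥Y → Y ≠ ⊥ → ⁅K, Y⁆ = K := by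
    intro Y hY hne
    by_contra h
    refine hne (eq_bot_of_le_centralizer_gFitting hO hY ?_)
    rw [← hF, ← Subgroup.commutator_eq_bot_iff_le_centralizer, Subgroup.commutator_comm]
    haveI hn : (⁅K, Y⁆.subgroupOf K).Normal :=
      Subgroup.normal_subgroupOf_of_le_normalizer (Subgroup.normalizer_commutator_ge_left _ _)
    have hle : ⁅K, Y⁆ ≤ K := Subgroup.commutator_le_left _ _
    have hcen : ⁅K, Y⁆.subgroupOf K ≤ Subgroup.center K :=
      IsQuasisimple.le_center_of_ne_top hq hn fun e =>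
        h (le_antisymm hle (Subgroup.subgroupOf_eq_top.mp e))
    have h1 : ⁅⁅K, Y⁆, K⁆ = ⊥ := by
      rw [Subgroup.commutator_eq_bot_iff_le_centralizer]
      refine fun x hx => Subgroup.mem_centralizer_iff.mpr fun y hy => ?_
      exact congrArg Subtype.val (Subgroup.mem_center_iff.mp
        (hcen (show (⟨x, hle hx⟩ : K) ∈ ⁅K, Y⁆.subgroupOf K from hx)) ⟨y, hy⟩)
    have h2 : ⁅⁅Y, K⁆, K⁆ = ⊥ := by rwa [Subgroup.commutator_comm Y K]
    have h3 := Subgroup.commutator_commutator_eq_bot_of_rotate h1 h2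
    rwa [hcom] at h3
  have hC : ∀ C : Subgroup H, C.Normal → ¬ K ≤ C → (Nat.card ↥C).Coprime p := by
    intro C hCn hne
    have h0 : ⁅C, K⁆ ≤ C ⊓ K :=
      le_inf (Subgroup.commutator_le_left _ _) (Subgroup.commutator_le_right _ _)
    haveI hn : ((C ⊓ K).subgroupOf K).Normal := inferInstance
    have hcen : (C ⊓ K).subgroupOf K ≤ Subgroup.center K :=
      IsQuasisimple.le_center_of_ne_top hq hn fun e =>
        hne ((Subgroup.subgroupOf_eq_top.mp e).trans inf_le_left)
    have h1 : ⁅⁅C, K⁆, K⁆ = ⊥ := by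
      rw [Subgroup.commutator_eq_bot_iff_le_centralizer]
      refine h0.trans fun x hx => Subgroup.mem_centralizer_iff.mpr fun y hy => ?_
      exact congrArg Subtype.val (Subgroup.mem_center_iff.mp
        (hcen (show (⟨x, hx.2⟩ : K) ∈ (C ⊓ K).subgroupOf K from hx)) ⟨y, hy⟩)
    have h2 : ⁅⁅K, C⁆, K⁆ = ⊥ := by rwa [Subgroup.commutator_comm K C]
    have h3 : ⁅⁅K, K⁆, C⁆ = ⊥ := Subgroup.commutator_commutator_eq_bot_of_rotate h2 h1
    rw [hcom, Subgroup.commutator_comm] at h3
    have h4 : C ≤ Subgroup.centralizer (Cfsg.generalizedFittingSubgroup H : Set H) := by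
      rw [← hF]; exact Subgroup.commutator_eq_bot_iff_le_centralizer.mp h3
    have h5 : C ≤ K := by rw [hF]; exact h4.trans centralizer_gFitting_le
    haveI : IsMulCommutative C := ⟨⟨fun a b => Subtype.ext
      (Subgroup.mem_centralizer_iff.mp (h4 b.2) a (hF ▸ h5 a.2))⟩⟩
    have h6 : C ≤ Cfsg.fittingSubgroup H := le_fitting hCn
      (@CommGroup.isNilpotent C { (inferInstance : Group C) with mul_comm := mul_comm' })
    exact (fitting_coprime_of_pCore_bot hO).coprime_dvd_left (Subgroup.card_dvd_of_le h6)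
  refine ⟨hF, fun Y hY' hne => ⟨hY Y hY' hne, ?_⟩, hC, ?_, ?_⟩
  · refine (hY Y hY' hne).symm.le.trans ?_
    rw [Subgroup.commutator_le]
    intro a ha y hy
    rw [commutatorElement_def]
    refine mul_mem (Subgroup.mem_iSup_of_mem (⟨a, ha⟩ : K) ⟨y, hy, rfl⟩) ?_
    exact Subgroup.mem_iSup_of_mem (1 : K) ⟨y⁻¹, inv_mem hy, by simp⟩
  · intro hcl
    obtain ⟨P⟩ := (inferInstance : Nonempty (Sylow p H))
    have h1 : (P : Subgroup H) = ⊥ := le_bot_iff.mp (hO ▸ le_pCore (hcl P) P.2)
    refine P.not_dvd_index ?_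
    rw [h1, Subgroup.index_bot]
    exact hp
  · intro N hN hcl
    by_contra hne
    refine hcl fun P => ?_
    rw [show (P : Subgroup N) = ⊥ from ?_]
    · infer_instance
    obtain ⟨k, hk⟩ := P.2.exists_card_eq
    rw [Subgroup.eq_bot_iff_card]
    exact Nat.eq_one_of_dvd_coprimes ((hC N hN hne).pow_right k)
      (Subgroup.card_subgroup_dvd_card _) (dvd_of_eq hk)

/-- Let H be a finite group and p a prime dividing its order with O_p(H) = 1, and suppose K = O^p(H) (generated by the elements of order prime to p) is quasisimple. Then K = F*(H); for every nontrivial p-subgroup Y of H, K = [K, Y] and K lies in the subgroup generated by the K-conjugates of Y; every normal subgroup of H not containing K has order prime to p; and H is p-irreducible. -/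
theorem result {H : Type*} [Group H] [Finite H] {p : ℕ} [Fact p.Prime] (hp : p ∣ Nat.card H) (hO : Cfsg.pCore p H = ⊥) (hq : Cfsg.IsQuasisimple ↥(Cfsg.pResidual p H)) : Cfsg.pResidual p H = Cfsg.generalizedFittingSubgroup H ∧ (∀ Y : Subgroup H, IsPGroup p ↥Y → Y ≠ ⊥ → ⁅Cfsg.pResidual p H, Y⁆ = Cfsg.pResidual p H ∧ Cfsg.pResidual p H ≤ ⨆ k : ↥(Cfsg.pResidual p H), Y.map (MulAut.conj (k : H)).toMonoidHom) ∧ (∀ C : Subgroup H, C.Normal → ¬ Cfsg.pResidual p H ≤ C → (Nat.card ↥C).Coprime p) ∧ Cfsg.IsPIrreducible p H := by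
  exact key hp hO hq

end Cfsg.Agent.S2815
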