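import Cfsg.Statements.S2816
import Cfsg.Agent.Lib.Components.CoprimeFStar

set_option autoImplicit false
open Cfsg

namespace Cfsg.Agent.S2816

open CfsgLib.Components

theorem descend {H : Type*} [Group H] {K M Y : Subgroup H} (hK : K.IsSubnormal)
    (hM : M ≤ ⁅M, Y⁆) : Y ≤ K → M ≤ K := by
  induction hK with
  | top => exact fun _ => le_top
  | step A B hle _ hN ih =>
    intro hY
    refine hM.trans ((Subgroup.commutator_mono (ih (hY.trans hle)) hY).trans ?_)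
    exact Subgroup.le_normalizer_iff_commutator_le_right.mp
      ((Subgroup.normal_subgroupOf_iff_le_normalizer hle).mp hN)

/-- Let H be a finite group and p a prime with O_p(H) = 1, and Y a p-subgroup of H. Then for every subnormal subgroup K of H containing Y, [F*(H), Y] = [F*(K), Y] = [F*(K), Y, Y]; and if Y₀ ≤ Y with [F*(H), Y, Y₀] = 1 then Y₀ = 1 (in particular [F*(H), Y] = 1 forces Y = 1). -/
theorem result {H : Type*} [Group H] [Finite H] {p : ℕ} [Fact p.Prime] (hO : Cfsg.pCore p H = ⊥) (Y : Subgroup H) (hY : IsPGroup p ↥Y) : (∀ K : Subgroup H, K.IsSubnormal → Y ≤ K → ⁅Cfsg.generalizedFittingSubgroup H, Y⁆ = ⁅(Cfsg.generalizedFittingSubgroup ↥K).map K.subtype, Y⁆ ∧ ⁅(Cfsg.generalizedFittingSubgroup ↥K).map K.subtype, Y⁆ = ⁅⁅(Cfsg.generalizedFittingSubgroup ↥K).map K.subtype, Y⁆, Y⁆) ∧ (∀ Y₀ : Subgroup H, Y₀ ≤ Y → ⁅⁅Cfsg.generalizedFittingSubgroup H, Y⁆, Y₀⁆ = ⊥ → Y₀ = ⊥) := by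
  refine ⟨fun K hK hYK => ?_, fun Y₀ h1 h2 => eq_bot_of_commutator_commutator hO hY h1 h2⟩
  have h1 := commutator_gFitting_idem hO hY
  rw [gFitting_subnormal hK]
  haveI := gFitting_normal (G := H)
  have h2 : ⁅Cfsg.generalizedFittingSubgroup H, Y⁆ ≤ Cfsg.generalizedFittingSubgroup H ⊓ K :=
    le_inf (Subgroup.commutator_le_left _ _) (descend hK h1.ge hYK)
  have h3 : ⁅Cfsg.generalizedFittingSubgroup H ⊓ K, Y⁆ = ⁅Cfsg.generalizedFittingSubgroup H, Y⁆ :=
    le_antisymm (Subgroup.commutator_mono inf_le_left le_rfl)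
      (h1.ge.trans (Subgroup.commutator_mono h2 le_rfl))
  exact ⟨h3.symm, by rw [h3, h1]⟩

end Cfsg.Agent.S2816
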