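import Cfsg.Statements.S2817
import Cfsg.Agent.Lib.Components.CoprimeFStar
import Cfsg.Agent.Lib.Core.Coprime
import Cfsg.Agent.Lib.Components.LocalBalance
import Cfsg.Agent.Lib.LocalEven.PClosed

set_option autoImplicit false
open Cfsg

namespace Cfsg.Agent.S2817

open CfsgLib.Components
open scoped commutatorElement Pointwise

variable {H : Type*} [Group H] [Finite H] {p : ℕ} [Fact p.Prime]

/-- Coprime fixed points lie in the derived subgroup. -/
theorem inf_centralizer_le_derived {L Q T : Subgroup H} (hn : Q ≤ Subgroup.normalizer (L : Set H))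
    (hQ : IsPGroup p Q) (hLQ : ⁅L, Q⁆ = L) (hT : (Nat.card T).Coprime p) (hTL : T ≤ L)
    (hgen : L ≤ ⁅L, L⁆ ⊔ T) : L ⊓ Subgroup.centralizer (Q : Set H) ≤ ⁅L, L⁆ := by
  set J := L ⊔ Q with hJ
  have hLJ : L ≤ J := le_sup_left
  have hQJ : Q ≤ J := le_sup_right
  have hD : ⁅L, L⁆ ≤ L := Subgroup.commutator_le_self L
  have hJn : J ≤ Subgroup.normalizer ((⁅L, L⁆ : Subgroup H) : Set H) := by
    refine sup_le (Subgroup.normalizer_commutator_ge_left _ _) fun q hq => ?_
    rw [Subgroup.mem_normalizer_iff_map_conj_eq, Subgroup.map_commutator,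
      Subgroup.mem_normalizer_iff_map_conj_eq.mp (hn hq)]
  haveI : (⁅L, L⁆.subgroupOf J).Normal := Subgroup.normal_subgroupOf_of_le_normalizer hJn
  set π := QuotientGroup.mk' (⁅L, L⁆.subgroupOf J) with hπ
  set A := (L.subgroupOf J).map π with hA
  set B := (Q.subgroupOf J).map π with hB
  have hcommA : ⁅A, A⁆ = ⊥ := by
    rw [hA, ← Subgroup.map_commutator, Subgroup.map_eq_bot_iff, hπ, QuotientGroup.ker_mk',
      show ⁅L, L⁆.subgroupOf J = ⁅L, L⁆.comap J.subtype from rfl, ← Subgroup.map_le_iff_le_comap,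
      Subgroup.map_commutator,
      map_subtype_subgroupOf hLJ]
  haveI : IsMulCommutative A := ⟨⟨fun a b => Subtype.ext
    (Subgroup.mem_centralizer_iff.mp
      (Subgroup.commutator_eq_bot_iff_le_centralizer.mp hcommA b.2) a a.2)⟩⟩
  have hAT : A ≤ (T.subgroupOf J).map π := by
    rw [hA, Subgroup.map_le_iff_le_comap, Subgroup.comap_map_eq, hπ, QuotientGroup.ker_mk',
      ← Subgroup.subgroupOf_sup (hTL.trans hLJ) (hD.trans hLJ), sup_comm T]
    exact fun x hx => hgen hx
  obtain ⟨k, hk⟩ := ((hQ.comap_of_injective J.subtype J.subtype_injective).map π).exists_card_eq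
  have hcop : (Nat.card B).Coprime (Nat.card A) := by
    rw [show Nat.card B = p ^ k from hk]
    refine (Nat.Coprime.coprime_dvd_left ?_ hT).symm.pow_left k
    exact (Subgroup.card_dvd_of_le hAT).trans ((Subgroup.card_map_dvd _ _).trans
      (by rw [Nat.card_congr (Subgroup.subgroupOfEquivOfLe (hTL.trans hLJ)).toEquiv]))
  have hAB : ⁅A, B⁆ = A := by
    rw [hA, hB, ← Subgroup.map_commutator]
    congr 1
    apply Subgroup.map_injective J.subtype_injective
    rw [Subgroup.map_commutator, map_subtype_subgroupOf hLJ, map_subtype_subgroupOf hQJ, hLQ]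
  intro z hz
  have hzA : π ⟨z, hLJ hz.1⟩ ∈ A := Subgroup.mem_map_of_mem π hz.1
  have hzC : π ⟨z, hLJ hz.1⟩ ∈ Subgroup.centralizer (B : Set (J ⧸ ⁅L, L⁆.subgroupOf J)) := by
    rw [Subgroup.mem_centralizer_iff]
    rintro _ ⟨b, hb, rfl⟩
    rw [← map_mul, ← map_mul]
    exact congrArg π (Subtype.ext (Subgroup.mem_centralizer_iff.mp hz.2 b hb))
  have hBA : B ≤ Subgroup.normalizer (A : Set (J ⧸ ⁅L, L⁆.subgroupOf J)) := by
    rw [Subgroup.le_normalizer_iff_commutator_le_left, hAB]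
  have h := (CfsgLib.Core.abelian_inf_eq_bot hBA hcop).le ⟨⟨hzA, hzC⟩, hAB.symm ▸ hzA⟩
  rw [Subgroup.mem_bot, hπ, QuotientGroup.mk'_apply, QuotientGroup.eq_one_iff] at h
  exact h

/-- A `p`-group normalizing `X` centralizes an element of order `p` of `X` if `p ∣ |X|`. -/
theorem exists_fixed_of_dvd {X Q : Subgroup H} (hn : Q ≤ Subgroup.normalizer (X : Set H))
    (hQ : IsPGroup p Q) (hd : p ∣ Nat.card X) :
    ∃ Y : Subgroup H, Y ≠ ⊥ ∧ Y ≤ X ∧ IsPGroup p Y ∧ ⁅Y, Q⁆ = ⊥ := by
  set J := X ⊔ Q with hJ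
  have hXJ : X ≤ J := le_sup_left
  haveI : (X.subgroupOf J).Normal :=
    Subgroup.normal_subgroupOf_of_le_normalizer (sup_le Subgroup.le_normalizer hn)
  obtain ⟨T, hT⟩ := (hQ.comap_of_injective J.subtype J.subtype_injective).exists_le_sylow
  obtain ⟨R, hR⟩ := CfsgLib.LocalEven.exists_sylow_inf T (X.subgroupOf J)
  have hne : (T : Subgroup J) ⊓ X.subgroupOf J ≠ ⊥ := by
    rw [← hR, Ne, Subgroup.map_eq_bot_iff_of_injective _ (Subgroup.subtype_injective _)]
    refine R.ne_bot_of_dvd_card ?_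
    rwa [Nat.card_congr (Subgroup.subgroupOfEquivOfLe hXJ).toEquiv]
  haveI : Group.IsNilpotent (T : Subgroup J) := T.2.isNilpotent
  have hne' : (X.subgroupOf J).subgroupOf (T : Subgroup J) ≠ ⊥ := by
    intro e
    refine hne ?_
    rw [inf_comm, ← Subgroup.subgroupOf_map_subtype, e, Subgroup.map_bot]
  set W := (X.subgroupOf J).subgroupOf (T : Subgroup J) ⊓ Subgroup.center (T : Subgroup J) with hW
  have hWne : W ≠ ⊥ := CfsgLib.Core.inf_center_ne_bot_of_isNilpotent _ hne'
  refine ⟨(W.map (T : Subgroup J).subtype).map J.subtype, ?_, ?_, ?_, ?_⟩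
  · rw [Ne, Subgroup.map_eq_bot_iff_of_injective _ J.subtype_injective,
      Subgroup.map_eq_bot_iff_of_injective _ (Subgroup.subtype_injective _)]
    exact hWne
  · rintro _ ⟨_, ⟨x, hx, rfl⟩, rfl⟩
    exact hx.1
  · exact ((T.2.to_subgroup W).map _).map _
  · rw [Subgroup.commutator_eq_bot_iff_le_centralizer]
    rintro _ ⟨_, ⟨x, hx, rfl⟩, rfl⟩
    rw [Subgroup.mem_centralizer_iff]
    intro q hq
    exact congrArg (fun t : (T : Subgroup J) => ((t : J) : H)) (Subgroup.mem_center_iff.mp hx.2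
      ⟨⟨q, le_sup_right (a := X) hq⟩, hT hq⟩)

theorem key (hO : Cfsg.pCore p H = ⊥) {Q : Subgroup H} (hQ : IsPGroup p Q) {L F : Subgroup H}
    (hL : L = ⁅Cfsg.generalizedFittingSubgroup H, Q⁆)
    (hF : F ≤ Cfsg.generalizedFittingSubgroup H ∧
      Cfsg.generalizedFittingSubgroup H ≤ Subgroup.normalizer (F : Set H) ∧
      Q ≤ Subgroup.centralizer (F : Set H) ∧
      ∀ N : Subgroup H, N ≤ Cfsg.generalizedFittingSubgroup H →
        Cfsg.generalizedFittingSubgroup H ≤ Subgroup.normalizer (N : Set H) →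
        Q ≤ Subgroup.centralizer (N : Set H) → N ≤ F) :
    F = Cfsg.generalizedFittingSubgroup H ⊓ Subgroup.centralizer ((L ⊔ Q : Subgroup H) : Set H) ∧
      ⁅L, Q⁆ = L ∧ L ⊓ F ≤ (frattini ↥L).map L.subtype ∧
      (∀ B : Subgroup H, IsPGroup p ↥B → B ≤ Subgroup.normalizer (Q : Set H) → ⁅L, B⁆ ≤ F →
        ⁅L, B⁆ = ⊥) ∧
      (Nat.card ↥(Subgroup.centralizer ((F ⊔ L : Subgroup H) : Set H))).Coprime p := by
  obtain ⟨hFle, hFn, hFQ, hFmax⟩ := hF
  set FS := Cfsg.generalizedFittingSubgroup H with hFS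
  haveI hFSn : FS.Normal := gFitting_normal
  have hLFS : L ≤ FS := hL ▸ Subgroup.commutator_le_left _ _
  have hLn1 : FS ≤ Subgroup.normalizer (L : Set H) :=
    hL ▸ Subgroup.normalizer_commutator_ge_left _ _
  have hLn2 : Q ≤ Subgroup.normalizer (L : Set H) :=
    hL ▸ Subgroup.normalizer_commutator_ge_right _ _
  have hLQ : ⁅L, Q⁆ = L := by rw [hL]; exact commutator_gFitting_idem hO hQ
  have hQF : ⁅Q, F⁆ = ⊥ := Subgroup.commutator_eq_bot_iff_le_centralizer.mpr hFQ
  have hFQ' : ⁅F, Q⁆ = ⊥ := by rw [Subgroup.commutator_comm, hQF]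
  have hFL : ⁅L, F⁆ = ⊥ := by
    rw [hL]
    refine Subgroup.commutator_commutator_eq_bot_of_rotate (H₁ := FS) (H₂ := Q) (H₃ := F) ?_ ?_
    · rw [hQF, Subgroup.commutator_bot_left]
    · rw [eq_bot_iff, ← hFQ']
      exact Subgroup.commutator_mono (Subgroup.le_normalizer_iff_commutator_le_left.mp hFn) le_rfl
  have hFL' : ⁅F, L⁆ = ⊥ := by rw [Subgroup.commutator_comm, hFL]
  have hsub : L.IsSubnormal :=
    Subgroup.IsSubnormal.trans hLFS
      (Subgroup.normal_subgroupOf_of_le_normalizer hLn1).isSubnormal hFSn.isSubnormal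
  have hgen : L ≤ ⁅L, L⁆ ⊔ (Cfsg.fittingSubgroup H ⊓ L) := by
    have h1 := gFitting_subnormal hsub
    rw [← hFS, inf_eq_right.mpr hLFS, Cfsg.generalizedFittingSubgroup, Subgroup.map_sup,
      fitting_subnormal hsub] at h1
    refine h1.ge.trans (sup_le_sup ?_ le_rfl)
    rw [← layer_perfect, Subgroup.map_commutator]
    exact Subgroup.commutator_mono (Subgroup.map_subtype_le _) (Subgroup.map_subtype_le _)
  have hZ : L ⊓ Subgroup.centralizer (Q : Set H) ≤ ⁅L, L⁆ :=
    inf_centralizer_le_derived hLn2 hQ hLQ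
      ((fitting_coprime_of_pCore_bot hO).coprime_dvd_left (Subgroup.card_dvd_of_le inf_le_left))
      inf_le_right hgen
  refine ⟨?_, hLQ, ?_, ?_, ?_⟩
  · refine le_antisymm (le_inf hFle ?_) (hFmax _ inf_le_left ?_ ?_)
    · rw [← Subgroup.commutator_eq_bot_iff_le_centralizer, commutator_sup_right_eq_bot]
      exact ⟨hFL', hFQ'⟩
    · refine (le_inf Subgroup.le_normalizer ?_).trans Subgroup.inf_normalizer_le_normalizer_inf
      refine le_trans ?_ (normalizer_le_normalizer_centralizer' _)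
      intro f hf
      refine mem_normalizer_of_smul_eq_self (Subgroup.eq_of_le_of_card_ge ?_
        (Nat.card_congr (Subgroup.equivSMul (MulAut.conj f) (L ⊔ Q : Subgroup H)).toEquiv).le)
      rw [Subgroup.smul_sup, sup_le_iff, smul_eq_self_of_mem_normalizer (hLn1 hf)]
      refine ⟨le_sup_left, ?_⟩
      rintro _ ⟨q, hq, rfl⟩
      show f * q * f⁻¹ ∈ L ⊔ Q
      rw [show f * q * f⁻¹ = f * q * f⁻¹ * q⁻¹ * q by group]
      exact mul_mem (Subgroup.mem_sup_left (hL ▸ Subgroup.commutator_mem_commutator hf hq))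
        (Subgroup.mem_sup_right hq)
    · exact Subgroup.le_centralizer_iff.mp (inf_le_right.trans
        (Subgroup.centralizer_le fun x hx => Subgroup.mem_sup_right hx))
  · set Z := (L ⊓ F).subgroupOf L with hZdef
    have hcen : ∀ z ∈ Z, ∀ l : L, l * z = z * l := fun z hz l => Subtype.ext
      (Subgroup.mem_centralizer_iff.mp
        (Subgroup.commutator_eq_bot_iff_le_centralizer.mp hFL' hz.2) l l.2)
    suffices h : Z ≤ frattini ↥L by
      rw [← map_subtype_subgroupOf (inf_le_left : L ⊓ F ≤ L)]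
      exact Subgroup.map_mono h
    refine le_iInf₂ fun M hM => ?_
    by_contra hne
    have htop : M ⊔ Z = ⊤ := hM.2 _ (lt_of_le_of_ne le_sup_left fun e => hne (e ▸ le_sup_right))
    haveI : Z.Normal := ⟨fun z hz l => by
      rw [hcen z hz l, mul_inv_cancel_right]; exact hz⟩
    have hder : commutator L ≤ M := by
      rw [commutator_def, Subgroup.commutator_le]
      intro a _ b _
      obtain ⟨m, hm, z, hz, rfl⟩ := Subgroup.mem_sup_of_normal_right.mp (htop.ge (Subgroup.mem_top a))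
      obtain ⟨n, hn, w, hw, rfl⟩ := Subgroup.mem_sup_of_normal_right.mp (htop.ge (Subgroup.mem_top b))
      have e : ⁅m * z, n * w⁆ = ⁅m, n⁆ := by
        have e1 : ⁅z, n⁆ = 1 := commutatorElement_eq_one_iff_mul_comm.mpr (hcen z hz n).symm
        have e2 : ⁅z, w⁆ = 1 := commutatorElement_eq_one_iff_mul_comm.mpr (hcen z hz w).symm
        have e3 : ⁅m, w⁆ = 1 := commutatorElement_eq_one_iff_mul_comm.mpr (hcen w hw m)
        simp [commutatorElement_mul_left_eq_conj_mul, commutatorElement_mul_right_eq_mul_conj,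
          e1, e2, e3]
      rw [e, commutatorElement_def]
      exact mul_mem (mul_mem (mul_mem hm hn) (inv_mem hm)) (inv_mem hn)
    refine hne fun z hz => hder ?_
    have h1 : (z : H) ∈ ⁅L, L⁆ := hZ ⟨z.2,
      Subgroup.commutator_eq_bot_iff_le_centralizer.mp hFQ' hz.2⟩
    rw [← Subgroup.map_subtype_commutator] at h1
    obtain ⟨y, hy, hyz⟩ := h1
    rwa [← Subtype.ext hyz]
  · intro B hB hBQ hLB
    have hcen : ∀ f ∈ F, ∀ q ∈ Q, q * f * q⁻¹ = f := fun f hf q hq => by
      rw [← Subgroup.mem_centralizer_iff.mp (hFQ hq) f hf, mul_inv_cancel_right]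
    have hbq : ⁅B, Q⁆ = ⊥ := by
      rw [eq_bot_iff, Subgroup.commutator_le]
      intro b hb q hq
      set c := ⁅b, q⁆ with hc
      have hcQ : c ∈ Q := Subgroup.le_normalizer_iff_commutator_le_right.mp hBQ
        (Subgroup.commutator_mem_commutator hb hq)
      have hbL : b ∈ Subgroup.normalizer (L : Set H) := by
        rw [hL, Subgroup.mem_normalizer_iff_map_conj_eq, Subgroup.map_commutator,
          Subgroup.mem_normalizer_iff_map_conj_eq.mp (hBQ hb),
          Subgroup.mem_normalizer_iff_map_conj_eq.mp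
            ((FS.normalizer_eq_top).ge (Subgroup.mem_top b))]
      have hδ : ∀ l ∈ L, l * (b * l * b⁻¹)⁻¹ ∈ F := fun l hl => by
        have := hLB (Subgroup.commutator_mem_commutator hl hb)
        rw [commutatorElement_def] at this
        rwa [show l * (b * l * b⁻¹)⁻¹ = l * b * l⁻¹ * b⁻¹ by group]
      have hsame : ∀ l ∈ L, (q * b) * l * (q * b)⁻¹ * ((b * q) * l * (b * q)⁻¹)⁻¹ ∈ F := by
        intro l hl
        have hql : q * l * q⁻¹ ∈ L := (Subgroup.mem_normalizer_iff.mp (hLn2 hq) l).mp hl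
        have h1 := hcen _ (inv_mem (hδ l hl)) q hq
        have h2 : (q * b) * l * (q * b)⁻¹ =
            (l * (b * l * b⁻¹)⁻¹)⁻¹ * (q * l * q⁻¹) := by
          calc (q * b) * l * (q * b)⁻¹ =
                (q * (l * (b * l * b⁻¹)⁻¹)⁻¹ * q⁻¹) * (q * l * q⁻¹) := by group
            _ = _ := by rw [h1]
        have h3 : (b * q) * l * (b * q)⁻¹ = b * (q * l * q⁻¹) * b⁻¹ := by group
        rw [h2, h3, mul_assoc]
        exact mul_mem (inv_mem (hδ l hl)) (hδ _ hql)
      have hC : ⁅L, Subgroup.zpowers c⁆ ≤ F := by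
        have hn : Subgroup.zpowers c ≤ Q := Subgroup.zpowers_le.mpr hcQ
        have h1 : ∀ l ∈ L, c * l * c⁻¹ * l⁻¹ ∈ F := by
          intro l hl
          set l' := (q * b)⁻¹ * l * (q * b) with hl'
          have hl'L : l' ∈ L := by
            have hq1 : q⁻¹ * l * q ∈ L := (Subgroup.mem_normalizer_iff''.mp (hLn2 hq) l).mp hl
            have h2 := (Subgroup.mem_normalizer_iff''.mp hbL _).mp hq1
            rwa [show l' = b⁻¹ * (q⁻¹ * l * q) * b by rw [hl']; group]
          have h := inv_mem (hsame l' hl'L)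
          rwa [hl', show ((q * b) * ((q * b)⁻¹ * l * (q * b)) * (q * b)⁻¹ *
            ((b * q) * ((q * b)⁻¹ * l * (q * b)) * (b * q)⁻¹)⁻¹)⁻¹ = c * l * c⁻¹ * l⁻¹ by
            rw [hc, commutatorElement_def]; group] at h
        rw [Subgroup.commutator_le]
        intro l hl x hx
        obtain ⟨n, rfl⟩ := Submonoid.mem_powers_iff _ _ |>.mp (mem_powers_iff_mem_zpowers.mpr hx)
        induction n with
        | zero => simp
        | succ n ih =>
          have hlc : ⁅l, c⁆ ∈ F := by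
            rw [commutatorElement_def,
              show l * c * l⁻¹ * c⁻¹ = (c * l * c⁻¹ * l⁻¹)⁻¹ by group]
            exact inv_mem (h1 l hl)
          rw [pow_succ, commutatorElement_mul_right_eq_mul_conj, mul_assoc, mul_assoc,
            ← mul_assoc (c ^ n), hcen _ hlc _ (pow_mem hcQ n)]
          exact mul_mem (ih (pow_mem (Subgroup.mem_zpowers c) n)) hlc
      refine Subgroup.mem_bot.mpr ?_
      have hcp : IsPGroup p (Subgroup.zpowers c) := hQ.to_le (Subgroup.zpowers_le.mpr hcQ)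
      refine Subgroup.zpowers_eq_bot.mp (eq_bot_of_commutator_commutator hO hcp le_rfl ?_)
      have hCQ : Subgroup.zpowers c ≤ Q := Subgroup.zpowers_le.mpr hcQ
      rw [eq_bot_iff]
      calc ⁅⁅FS, Subgroup.zpowers c⁆, Subgroup.zpowers c⁆
          = ⁅⁅⁅FS, Subgroup.zpowers c⁆, Subgroup.zpowers c⁆, Subgroup.zpowers c⁆ :=
            congrArg (fun X => ⁅X, Subgroup.zpowers c⁆) (commutator_gFitting_idem hO hcp).symm
        _ ≤ ⁅⁅L, Subgroup.zpowers c⁆, Subgroup.zpowers c⁆ :=
            Subgroup.commutator_mono (Subgroup.commutator_mono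
              (hL ▸ Subgroup.commutator_mono le_rfl hCQ) le_rfl) le_rfl
        _ ≤ ⁅F, Q⁆ := Subgroup.commutator_mono hC hCQ
        _ = ⊥ := hFQ'
    have h := Subgroup.commutator_commutator_eq_bot_of_rotate (H₁ := Q) (H₂ := L) (H₃ := B)
      (by rw [eq_bot_iff, ← hFQ']; exact Subgroup.commutator_mono hLB le_rfl)
      (by rw [hbq, Subgroup.commutator_bot_left])
    rwa [Subgroup.commutator_comm Q L, hLQ] at h
  · rw [Nat.coprime_comm, (Fact.out : p.Prime).coprime_iff_not_dvd]
    intro hd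
    have hQn : Q ≤ Subgroup.normalizer
        (Subgroup.centralizer ((F ⊔ L : Subgroup H) : Set H) : Set H) := by
      refine le_trans ?_ (normalizer_le_normalizer_centralizer' _)
      refine (le_inf (fun q hq => ?_) hLn2).trans (Subgroup.normalizer_inf_normalizer_le_normalizer_sup F L)
      exact Subgroup.centralizer_le_normalizer _ (hFQ hq)
    obtain ⟨Y, hYne, hYX, hYp, hYQ⟩ := exists_fixed_of_dvd hQn hQ hd
    refine hYne (eq_bot_of_commutator_commutator hO hYp le_rfl ?_)
    rw [eq_bot_iff]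
    have hYF : ⁅F, Y⁆ = ⊥ := by
      rw [Subgroup.commutator_comm, Subgroup.commutator_eq_bot_iff_le_centralizer]
      exact hYX.trans (Subgroup.centralizer_le fun x hx => Subgroup.mem_sup_left hx)
    have hYL : ⁅L, Y⁆ = ⊥ := by
      rw [Subgroup.commutator_comm, Subgroup.commutator_eq_bot_iff_le_centralizer]
      exact hYX.trans (Subgroup.centralizer_le fun x hx => Subgroup.mem_sup_right hx)
    rw [← hYF]
    refine Subgroup.commutator_mono (hFmax _ (Subgroup.commutator_le_left _ _)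
      (Subgroup.normalizer_commutator_ge_left _ _) ?_) le_rfl
    rw [← Subgroup.commutator_eq_bot_iff_le_centralizer, Subgroup.commutator_comm]
    refine Subgroup.commutator_commutator_eq_bot_of_rotate (H₁ := FS) (H₂ := Y) (H₃ := Q) ?_ ?_
    · rw [hYQ, Subgroup.commutator_bot_left]
    · rw [Subgroup.commutator_comm Q FS, ← hL, hYL]

/-- Let H be a finite group and p a prime with O_p(H) = 1, Q a p-subgroup of H, L = [F*(H), Q], and F the largest normal subgroup of F*(H) centralized by Q (a normal subgroup of F*(H) centralized by Q and containing every such). Then F = C_{F*(H)}(LQ); L = [L, Q]; L ∩ F ≤ Φ(L); every p-subgroup B of N_H(Q) with [L, B] ≤ F satisfies [L, B] = 1; and C_H(FL) has order prime to p. -/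
theorem result {H : Type*} [Group H] [Finite H] {p : ℕ} [Fact p.Prime] (hO : Cfsg.pCore p H = ⊥) (Q : Subgroup H) (hQ : IsPGroup p ↥Q) (L : Subgroup H) (hL : L = ⁅Cfsg.generalizedFittingSubgroup H, Q⁆) (F : Subgroup H) (hF : F ≤ Cfsg.generalizedFittingSubgroup H ∧ Cfsg.generalizedFittingSubgroup H ≤ Subgroup.normalizer (F : Set H) ∧ Q ≤ Subgroup.centralizer (F : Set H) ∧ ∀ N : Subgroup H, N ≤ Cfsg.generalizedFittingSubgroup H → Cfsg.generalizedFittingSubgroup H ≤ Subgroup.normalizer (N : Set H) → Q ≤ Subgroup.centralizer (N : Set H) → N ≤ F) : F = Cfsg.generalizedFittingSubgroup H ⊓ Subgroup.centralizer ((L ⊔ Q : Subgroup H) : Set H) ∧ ⁅L, Q⁆ = L ∧ L ⊓ F ≤ (frattini ↥L).map L.subtype ∧ (∀ B : Subgroup H, IsPGroup p ↥B → B ≤ Subgroup.normalizer (Q : Set H) → ⁅L, B⁆ ≤ F → ⁅L, B⁆ = ⊥) ∧ (Nat.card ↥(Subgroup.centralizer ((F ⊔ L : Subgroup H) : Set H))).Coprime p := by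
  exact key hO hQ hL hF

end Cfsg.Agent.S2817
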