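import Cfsg.Statements.S2818
import Cfsg.Agent.Lib.PGroups.Omega
import Cfsg.Agent.Lib.PGroups.Basic

set_option autoImplicit false
open Cfsg
open scoped commutatorElement

namespace Cfsg.Agent.S2818

/-- Let P be a finite p-subgroup of a group G and H a subgroup of N_G(P) with [P, H] ≤ Ω₁(Z(P)) (the elements of order dividing p in the centre of P). Then H centralizes the Frattini subgroup of P. -/
theorem result {G : Type*} [Group G] [Finite G] {p : ℕ} [Fact p.Prime] (P : Subgroup G) (hP : IsPGroup p ↥P) (H : Subgroup G) (hH : H ≤ Subgroup.normalizer (P : Set G)) (h : ⁅P, H⁆ ≤ Cfsg.omegaOne p (P ⊓ Subgroup.centralizer (P : Set G))) : ⁅(frattini ↥P).map P.subtype, H⁆ = ⊥ := by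
  classical
  haveI : Group.IsNilpotent P := hP.isNilpotent
  rw [Subgroup.commutator_eq_bot_iff_le_centralizer, Subgroup.le_centralizer_iff]
  intro g hg
  rw [Subgroup.mem_centralizer_iff]
  rintro _ ⟨x, hx, rfl⟩
  suffices hfix : g * (x : G) * g⁻¹ = x by
    show (x : G) * g = g * x
    conv_lhs => rw [← hfix]
    simp
  have hz : ∀ a : P, ∃ z : G, g * (a : G) * g⁻¹ = (a : G) * z ∧ z ^ p = 1 ∧
      z ∈ P ⊓ Subgroup.centralizer (P : Set G) := by
    intro a
    have hm := h (Subgroup.commutator_mem_commutator (P.inv_mem a.2) hg)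
    haveI : IsMulCommutative ↥(P ⊓ Subgroup.centralizer (P : Set G)) :=
      ⟨⟨fun u v => Subtype.ext (Subgroup.mem_centralizer_iff.mp (Subgroup.mem_inf.mp v.2).2 u (Subgroup.mem_inf.mp u.2).1)⟩⟩
    obtain ⟨h1, h2⟩ := CfsgLib.PGroups.mem_omegaOne_iff_of_comm.mp hm
    exact ⟨⁅(a : G)⁻¹, g⁆, by simp [commutatorElement_def, mul_assoc], h2, h1⟩
  let φ : ↥P →* ↥P := ((MulAut.conj g).toMonoidHom.comp P.subtype).codRestrict P fun a => by
    simpa using (Subgroup.mem_normalizer_iff.mp (hH hg) _).mp a.2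
  let Fix : Subgroup ↥P := φ.eqLocus (MonoidHom.id _)
  suffices hle : frattini ↥P ≤ Fix by
    simpa [φ, mul_assoc] using congrArg Subtype.val (hle hx)
  rw [CfsgLib.PGroups.frattini_eq_commutator_sup hP, sup_le_iff, Subgroup.closure_le]
  constructor
  · rw [_root_.commutator_def, Subgroup.commutator_le]
    rintro a - b -
    refine Subtype.ext ?_
    obtain ⟨za, ea, -, hza⟩ := hz a
    obtain ⟨zb, eb, -, hzb⟩ := hz b
    show ((φ ⁅a, b⁆ : ↥P) : G) = ((⁅a, b⁆ : ↥P) : G)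
    have hφ : ∀ a : ↥P, (φ a : G) = g * (a : G) * g⁻¹ := fun a => rfl
    rw [map_commutatorElement, commutatorElement_def, commutatorElement_def]
    simp only [Subgroup.coe_mul, Subgroup.coe_inv, hφ, ea, eb]
    have hzac := Subgroup.mem_centralizer_iff.mp hza.2
    have hzbc := Subgroup.mem_centralizer_iff.mp hzb.2
    have c1 : (b : G) * za = za * b := hzac _ b.2
    have c2 : (a : G)⁻¹ * zb = zb * (a : G)⁻¹ := hzbc _ (P.inv_mem a.2)
    have c3 : za * zb = zb * za := hzbc _ hza.1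
    have c4 : (b : G) * zb = zb * b := hzbc _ b.2
    have c5 : (a : G) * zb = zb * a := hzbc _ a.2
    have c6 : (a : G)⁻¹ * za = za * (a : G)⁻¹ := hzac _ (P.inv_mem a.2)
    simp only [mul_inv_rev]
    calc (a : G) * za * ((b : G) * zb) * (za⁻¹ * (a : G)⁻¹) * (zb⁻¹ * (b : G)⁻¹)
        = (a : G) * (za * b) * zb * za⁻¹ * (a : G)⁻¹ * zb⁻¹ * (b : G)⁻¹ := by group
      _ = (a : G) * b * (za * zb) * za⁻¹ * (a : G)⁻¹ * zb⁻¹ * (b : G)⁻¹ := by rw [← c1]; group
      _ = (a : G) * b * (zb * (a : G)⁻¹) * zb⁻¹ * (b : G)⁻¹ := by rw [c3]; group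
      _ = _ := by rw [← c2]; group
  · rintro _ ⟨a, rfl⟩
    refine Subtype.ext ?_
    obtain ⟨z, e, hzp, hzz⟩ := hz a
    show ((φ (a ^ p) : ↥P) : G) = ((a ^ p : ↥P) : G)
    rw [map_pow, Subgroup.coe_pow, Subgroup.coe_pow, show (φ a : G) = (a : G) * z from (show (φ a : G) = g * (a : G) * g⁻¹ from rfl).trans e,
      (show Commute (a : G) z from Subgroup.mem_centralizer_iff.mp hzz.2 _ a.2).mul_pow, hzp, mul_one]

end Cfsg.Agent.S2818
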