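import Cfsg.Statements.S2820
import Cfsg.Agent.Lib.LocalEven.PClosed

set_option autoImplicit false
open Cfsg

namespace Cfsg.Agent.S2820

/-- Let A and B be subnormal subgroups of the finite group H with A a p-group and B = O^p(B) (B generated by its elements of order prime to p). Then A normalizes B and B = O^p(AB), the subgroup of ⟨A, B⟩ generated by its elements of order prime to p. -/
theorem result {H : Type*} [Group H] [Finite H] {p : ℕ} [Fact p.Prime] (A B : Subgroup H) (hA : A.IsSubnormal) (hB : B.IsSubnormal) (hAp : IsPGroup p ↥A) (hBres : (Cfsg.pResidual p ↥B).map B.subtype = B) : A ≤ Subgroup.normalizer (B : Set H) ∧ (Cfsg.pResidual p ↥(A ⊔ B)).map (A ⊔ B).subtype = B := by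
  set J := A ⊔ B with hJ
  have hAJ : A ≤ J := le_sup_left
  have hBJ : B ≤ J := le_sup_right
  have hA' : (A.subgroupOf J).IsSubnormal := hA.subgroupOf (K := J)
  have hB' : (B.subgroupOf J).IsSubnormal := hB.subgroupOf (K := J)
  have hAP : A.subgroupOf J ≤ pCore p ↥J := CfsgLib.Components.subnormal_pGroup_le_pCore hA'
    (hAp.comap_of_injective J.subtype J.subtype_injective)
  have htop : B.subgroupOf J ⊔ pCore p ↥J = ⊤ := by
    rw [eq_top_iff, ← Subgroup.subgroupOf_self, hJ, Subgroup.subgroupOf_sup hAJ hBJ]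
    exact sup_le (hAP.trans le_sup_right) le_sup_left
  have hidx : ∃ k, (B.subgroupOf J).index = p ^ k := by
    have e := CfsgLib.Core.card_sup_mul_card_inf (B.subgroupOf J) (pCore p ↥J)
      (CfsgLib.Core.le_normalizer_of_normal _ _)
    rw [htop, Subgroup.card_top, ← Subgroup.card_mul_index (B.subgroupOf J), mul_assoc] at e
    have e' := Nat.eq_of_mul_eq_mul_left Nat.card_pos e
    obtain ⟨n, hn⟩ := IsPGroup.iff_card.mp (CfsgLib.Core.isPGroup_pCore p ↥J)
    obtain ⟨k, -, hk⟩ := (Nat.dvd_prime_pow Fact.out).mp (hn ▸ Dvd.intro _ e')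
    exact ⟨k, hk⟩
  have h1 : pResidual p ↥J ≤ B.subgroupOf J :=
    CfsgLib.LocalEven.pResidual_le_of_subnormal hB' hidx
  have h2 : (pResidual p ↥J).map J.subtype = B := by
    refine le_antisymm (Subgroup.map_le_iff_le_comap.mpr h1) ?_
    conv_lhs => rw [← hBres]
    exact CfsgLib.Transfer.map_subtype_pResidual_mono hBJ
  refine ⟨?_, h2⟩
  have h3 : pResidual p ↥J = B.subgroupOf J :=
    le_antisymm h1 (Subgroup.comap_mono (le_of_eq h2.symm) |>.trans
      (le_of_eq (Subgroup.comap_map_eq_self_of_injective J.subtype_injective _)))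
  have h4 : (B.subgroupOf J).Normal := h3 ▸ inferInstance
  exact hAJ.trans ((Subgroup.normal_subgroupOf_iff_le_normalizer hBJ).mp h4)

end Cfsg.Agent.S2820
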