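import Cfsg.Statements.S2821
import Cfsg.Agent.Lib.LocalEven.LargestReduced

set_option autoImplicit false
open Cfsg

namespace Cfsg.Agent.S2821

/-- Let H be a finite group, p a prime, T a Sylow p-subgroup and L a subgroup of characteristic p containing T; let Y_L be the largest p-reduced normal subgroup of L (the join of the normal elementary abelian p-subgroups V of L with O_p(L/C_L(V)) = 1). Then T₀ := C_T(Y_L) is a Sylow p-subgroup of C_H(Y_L); moreover O_p(L) ≤ T₀ ≤ C_L(Y_L) and Ω₁(Z(T)) ≤ Z_L ≤ Y_L ≤ Ω₁(Z(O_p(L))), where Z_L is generated by the Ω₁(Z(S)) over the Sylow p-subgroups S of L. -/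
theorem result {H : Type*} [Group H] [Finite H] {p : ℕ} [Fact p.Prime] (T : Sylow p H) (L : Subgroup H) (hTL : (T : Subgroup H) ≤ L) (hL : Subgroup.centralizer (Cfsg.pCore p ↥L : Set ↥L) ≤ Cfsg.pCore p ↥L) (T₀ : Subgroup H) (hT₀ : T₀ = (T : Subgroup H) ⊓ Subgroup.centralizer (((Cfsg.largestPReducedOf p L) : Subgroup H) : Set H)) : (∃ P : Sylow p ↥(Subgroup.centralizer (((Cfsg.largestPReducedOf p L) : Subgroup H) : Set H)), (P : Subgroup ↥(Subgroup.centralizer (((Cfsg.largestPReducedOf p L) : Subgroup H) : Set H))) = T₀.subgroupOf (Subgroup.centralizer (((Cfsg.largestPReducedOf p L) : Subgroup H) : Set H))) ∧ (Cfsg.pCoreOf p L) ≤ T₀ ∧ T₀ ≤ L ⊓ Subgroup.centralizer (((Cfsg.largestPReducedOf p L) : Subgroup H) : Set H) ∧ (Cfsg.omegaOne p ((T : Subgroup H) ⊓ Subgroup.centralizer (((T : Subgroup H) : Subgroup H) : Set H))) ≤ Cfsg.sylowCenterClosure p L ∧ Cfsg.sylowCenterClosure p L ≤ (Cfsg.largestPReducedOf p L) ∧ (Cfsg.largestPReducedOf p L) ≤ (Cfsg.omegaOne p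 ((Cfsg.pCoreOf p L) ⊓ Subgroup.centralizer (((Cfsg.pCoreOf p L) : Subgroup H) : Set H))) := by
  subst hT₀
  set Y := Cfsg.largestPReducedOf p L with hYdef
  haveI := (CfsgLib.LocalEven.isPReducedNormal_largest (L := ↥L) (p := p)).1
  have hLN : L ≤ Subgroup.normalizer (Y : Set H) := CfsgLib.LocalEven.le_normalizer_map_of_normal L _
  have hC : (Subgroup.centralizer (Cfsg.largestPReduced p ↥L : Set ↥L)).map L.subtype =
      L ⊓ Subgroup.centralizer (Y : Set H) := CfsgLib.LocalEven.map_centralizer_eq L _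
  have hOT : Cfsg.pCoreOf p L ≤ (T : Subgroup H) := by
    refine (Subgroup.map_mono (CfsgLib.Core.pCore_le_sylow (T.subtype hTL))).trans ?_
    rw [Sylow.coe_subtype, Subgroup.subgroupOf_map_subtype]
    exact inf_le_left
  have hOC : Cfsg.pCoreOf p L ≤ Subgroup.centralizer (Y : Set H) :=
    (Subgroup.map_mono (CfsgLib.LocalEven.pCore_le_centralizer
      CfsgLib.LocalEven.isPReducedNormal_largest)).trans (hC.le.trans inf_le_right)
  refine ⟨?_, le_inf hOT hOC, inf_le_inf_right _ hTL, ?_, ?_, ?_⟩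
  · set N := Subgroup.normalizer (Y : Set H)
    set C := Subgroup.centralizer (Y : Set H)
    have hCN : C ≤ N := Subgroup.centralizer_le_normalizer _
    have hTN : (T : Subgroup H) ≤ N := hTL.trans hLN
    haveI : (C.subgroupOf N).Normal := inferInstance
    obtain ⟨P, hP⟩ := CfsgLib.LocalEven.exists_sylow_inf (T.subtype hTN) (C.subgroupOf N)
    have hsurj : Function.Surjective ⇑(Subgroup.subgroupOfEquivOfLe hCN).toMonoidHom :=
      (Subgroup.subgroupOfEquivOfLe hCN).surjective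
    refine ⟨P.mapSurjective hsurj, ?_⟩
    ext x
    show x ∈ (P : Subgroup ↥(C.subgroupOf N)).map _ ↔ _
    rw [Subgroup.mem_subgroupOf]
    constructor
    · rintro ⟨y, hy, rfl⟩
      have := hP.le (Subgroup.mem_map_of_mem _ hy)
      exact ⟨this.1, this.2⟩
    · intro hx
      obtain ⟨y, hy, e⟩ := hP.ge
        (show (⟨(x : H), hTN hx.1⟩ : ↥N) ∈ (T.subtype hTN : Subgroup ↥N) ⊓ C.subgroupOf N from
          ⟨Subgroup.mem_subgroupOf.mpr hx.1, Subgroup.mem_subgroupOf.mpr hx.2⟩)
      refine ⟨y, hy, Subtype.ext ?_⟩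
      exact congrArg (fun z : ↥N => (z : H)) e
  · refine le_iSup_of_le (T.subtype hTL) ?_
    rw [Sylow.coe_subtype, Subgroup.map_subgroupOf_eq_of_le hTL]
  · rw [CfsgLib.LocalEven.sylowCenterClosure_eq]
    exact Subgroup.map_mono (CfsgLib.LocalEven.centerClosure_le_largest hL)
  · refine (Subgroup.map_mono CfsgLib.LocalEven.largest_le_omega).trans ?_
    exact (CfsgLib.LocalEven.map_omegaCenter _ L.subtype_injective _).le

end Cfsg.Agent.S2821
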