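import Cfsg.Statements.S2823
import Cfsg.Agent.Lib.LocalEven.LargestReduced
import Cfsg.Agent.Lib.LocalEven.Basic

set_option autoImplicit false
open Cfsg
open scoped commutatorElement

namespace Cfsg.Agent.S2823

/-- Let H be a finite group, p a prime, T a Sylow p-subgroup and L a subgroup of characteristic p containing T; let Z_L be the subgroup generated by the Ω₁(Z(S)) over the Sylow p-subgroups S of L and O^p(L) the subgroup generated by the elements of L of order prime to p. Then Z_L = Ω₁(Z(L))·[Z_L, O^p(L)] and [Z_L, L] = [Z_L, O^p(L)]. -/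
theorem result {H : Type*} [Group H] [Finite H] {p : ℕ} [Fact p.Prime] (T : Sylow p H) (L : Subgroup H) (hTL : (T : Subgroup H) ≤ L) (hL : Subgroup.centralizer (Cfsg.pCore p ↥L : Set ↥L) ≤ Cfsg.pCore p ↥L) : Cfsg.sylowCenterClosure p L = (Cfsg.omegaOne p (L ⊓ Subgroup.centralizer ((L : Subgroup H) : Set H))) ⊔ ⁅Cfsg.sylowCenterClosure p L, (Cfsg.pResidual p ↥L).map L.subtype⁆ ∧ ⁅Cfsg.sylowCenterClosure p L, L⁆ = ⁅Cfsg.sylowCenterClosure p L, (Cfsg.pResidual p ↥L).map L.subtype⁆ := by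
  rw [CfsgLib.LocalEven.sylowCenterClosure_eq]
  set S := T.subtype hTL with hS
  set Z := CfsgLib.LocalEven.centerClosure p ↥L with hZ
  set K := Cfsg.pResidual p ↥L with hK
  haveI hZn : Z.Normal := CfsgLib.LocalEven.centerClosure_normal
  haveI hKn : K.Normal := hK ▸ inferInstance
  obtain ⟨-, hel, -⟩ := CfsgLib.LocalEven.isPReducedNormal_centerClosure hL
  set A := CfsgLib.LocalEven.omegaCenter p (S : Subgroup ↥L) with hA
  have hAZ : A ≤ Z := le_iSup (fun P : Sylow p ↥L => CfsgLib.LocalEven.omegaCenter p (P : Subgroup ↥L)) S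
  set D := ⁅Z, K⁆ with hD
  have hDZ : D ≤ Z := Subgroup.commutator_le_left Z K
  haveI hDn : D.Normal := hD ▸ inferInstance
  have hKT := CfsgLib.Transfer.pResidual_sup_sylow S
  rw [← hK] at hKT
  -- every element of `L` fixes `A` modulo `D`
  have hfix : ∀ a ∈ A, ∀ g : ↥L, g * a * g⁻¹ * a⁻¹ ∈ D := by
    intro a ha g
    obtain ⟨k, hk, t, ht, rfl⟩ := Subgroup.mem_sup_of_normal_left.mp
      (hKT ▸ Subgroup.mem_top g : g ∈ K ⊔ (S : Subgroup ↥L))
    have e : t * a * t⁻¹ = a := by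
      rw [← Subgroup.mem_centralizer_iff.mp (CfsgLib.LocalEven.omegaCenter_le_centralizer _ ht) a ha,
        mul_inv_cancel_right]
    rw [show k * t * a * (k * t)⁻¹ * a⁻¹ = k * (t * a * t⁻¹) * k⁻¹ * a⁻¹ by group, e, hD,
      Subgroup.commutator_comm]
    exact Subgroup.commutator_mem_commutator hk (hAZ ha)
  have hZAD : Z ≤ A ⊔ D := by
    refine iSup_le fun P => ?_
    obtain ⟨g, hg⟩ := CfsgLib.LocalEven.sylow_conj S P
    rw [← hg, ← CfsgLib.LocalEven.map_omegaCenter _ (MulAut.conj g).injective]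
    rintro _ ⟨a, ha, rfl⟩
    show g * a * g⁻¹ ∈ _
    rw [← inv_mul_cancel_right (g * a * g⁻¹) a]
    exact mul_mem (Subgroup.mem_sup_right (hfix a ha g)) (Subgroup.mem_sup_left ha)
  have hZL : ⁅Z, (⊤ : Subgroup ↥L)⁆ = D := by
    refine le_antisymm (Subgroup.commutator_le.mpr fun z hz g _ => ?_)
      (Subgroup.commutator_mono le_rfl le_top)
    obtain ⟨a, ha, d, hd, rfl⟩ := Subgroup.mem_sup_of_normal_right.mp (hZAD hz)
    rw [commutatorElement_def,
      show a * d * g * (a * d)⁻¹ * g⁻¹ = (a * (d * (g * d⁻¹ * g⁻¹)) * a⁻¹) * (g * a * g⁻¹ * a⁻¹)⁻¹ by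
        group]
    exact mul_mem (hDn.conj_mem _ (mul_mem hd (hDn.conj_mem _ (inv_mem hd) g)) a)
      (inv_mem (hfix a ha g))
  -- averaging over the cosets of the Sylow subgroup
  have hgas : A ≤ Cfsg.omegaOne p (Subgroup.center ↥L) ⊔ D := by
    intro a ha
    haveI := hel.1
    letI : CommGroup ↥Z := { (inferInstance : Group ↥Z) with mul_comm := fun x y => Std.Commutative.comm x y }
    haveI : Fintype (↥L ⧸ (S : Subgroup ↥L)) := Fintype.ofFinite _
    have hwd : ∀ r s : ↥L, r⁻¹ * s ∈ (S : Subgroup ↥L) → r * a * r⁻¹ = s * a * s⁻¹ := by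
      intro r s h
      have := Subgroup.mem_centralizer_iff.mp (CfsgLib.LocalEven.omegaCenter_le_centralizer _ h) a ha
      calc r * a * r⁻¹ = r * (a * (r⁻¹ * s)) * s⁻¹ := by group
        _ = r * (r⁻¹ * s * a) * s⁻¹ := by rw [this]
        _ = s * a * s⁻¹ := by group
    let f : ↥L ⧸ (S : Subgroup ↥L) → ↥Z := Quotient.lift
      (fun r => (⟨r * a * r⁻¹, hZn.conj_mem a (hAZ ha) r⟩ : ↥Z))
      fun r s h => Subtype.ext (hwd r s (QuotientGroup.leftRel_apply.mp h))
    have hf : ∀ g r : ↥L, (f (g • (r : ↥L ⧸ (S : Subgroup ↥L))) : ↥L) = g * (f r : ↥L) * g⁻¹ := by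
      intro g r
      show g * r * a * (g * r)⁻¹ = g * (r * a * r⁻¹) * g⁻¹
      group
    set c : ↥Z := ∏ q, f q with hc
    have hcfix : ∀ g : ↥L, g * (c : ↥L) * g⁻¹ = c := by
      intro g
      let φ : ↥Z →* ↥Z :=
        { toFun := fun z => ⟨g * z * g⁻¹, hZn.conj_mem _ z.2 g⟩
          map_one' := Subtype.ext (by simp)
          map_mul' := fun x y => Subtype.ext (by simp [mul_assoc]) }
      have h1 : φ c = c := by
        rw [hc, map_prod]
        refine Fintype.prod_equiv (MulAction.toPerm g) _ _ fun q => ?_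
        obtain ⟨r, rfl⟩ := QuotientGroup.mk_surjective q
        exact Subtype.ext (hf g r).symm
      exact congrArg Subtype.val h1
    have hcmem : (c : ↥L) ∈ Cfsg.omegaOne p (Subgroup.center ↥L) := by
      refine Subgroup.subset_closure ⟨Subgroup.mem_center_iff.mpr fun g => ?_, hel.2 _ c.2⟩
      conv_rhs => rw [← hcfix g]
      rw [inv_mul_cancel_right]
    set a' : ↥Z := ⟨a, hAZ ha⟩
    have hcong : c / a' ^ Fintype.card (↥L ⧸ (S : Subgroup ↥L)) ∈ D.subgroupOf Z := by
      rw [hc, ← Finset.card_univ, ← Finset.prod_const, ← Finset.prod_div_distrib]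
      refine Subgroup.prod_mem _ fun q _ => ?_
      obtain ⟨r, rfl⟩ := QuotientGroup.mk_surjective q
      rw [Subgroup.mem_subgroupOf, div_eq_mul_inv]
      exact hfix a ha r
    rw [Subgroup.mem_subgroupOf] at hcong
    set m := Fintype.card (↥L ⧸ (S : Subgroup ↥L))
    have hpow : a ^ m ∈ Cfsg.omegaOne p (Subgroup.center ↥L) ⊔ D := by
      have e : a ^ m = ((c / a' ^ m : ↥Z) : ↥L)⁻¹ * c := by
        rw [div_eq_mul_inv, Subgroup.coe_mul, Subgroup.coe_inv, SubgroupClass.coe_pow, mul_inv_rev,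
          inv_inv, inv_mul_cancel_right]
      rw [e]
      exact mul_mem (Subgroup.mem_sup_right (inv_mem hcong)) (Subgroup.mem_sup_left hcmem)
    have hm : m.Coprime (orderOf a) := by
      refine Nat.Coprime.coprime_dvd_right (orderOf_dvd_of_pow_eq_one (hel.2 a (hAZ ha))) ?_
      rw [Nat.coprime_comm, Nat.Prime.coprime_iff_not_dvd Fact.out]
      show ¬ p ∣ Fintype.card _
      rw [← Nat.card_eq_fintype_card]
      exact S.not_dvd_index
    obtain ⟨n, hn⟩ := exists_pow_eq_self_of_coprime hm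
    exact hn ▸ pow_mem hpow n
  have h1 : Z = Cfsg.omegaOne p (Subgroup.center ↥L) ⊔ D := by
    refine le_antisymm (hZAD.trans (sup_le hgas le_sup_right)) (sup_le (le_trans ?_ hAZ) hDZ)
    refine (Subgroup.closure_le _).mpr fun x hx => Subgroup.subset_closure ⟨⟨?_, ?_⟩, hx.2⟩
    · have hxp : IsPGroup p ↥(Subgroup.zpowers x) := by
        obtain ⟨i, -, hi⟩ := (Nat.dvd_prime_pow (m := 1) Fact.out).mp
          (by simpa using orderOf_dvd_of_pow_eq_one hx.2)
        exact IsPGroup.of_card (n := i) (by rw [Nat.card_zpowers, hi])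
      haveI : (Subgroup.zpowers x).Normal := ⟨fun y hy g => by
        rwa [Subgroup.mem_center_iff.mp ((Subgroup.zpowers_le.mpr hx.1) hy) g, mul_inv_cancel_right]⟩
      exact CfsgLib.Core.pCore_le_sylow S (CfsgLib.Core.le_pCore hxp (Subgroup.mem_zpowers x))
    · exact Subgroup.center_le_centralizer _ hx.1
  have hom : (Cfsg.omegaOne p (Subgroup.center ↥L)).map L.subtype =
      Cfsg.omegaOne p (L ⊓ Subgroup.centralizer (L : Set H)) := by
    have h := CfsgLib.LocalEven.map_omegaCenter (p := p) L.subtype L.subtype_injective ⊤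
    simp only [CfsgLib.LocalEven.omegaCenter] at h
    rwa [top_inf_eq, Subgroup.coe_top, Subgroup.centralizer_univ, ← MonoidHom.range_eq_map,
      Subgroup.range_subtype] at h
  have htop : (⊤ : Subgroup ↥L).map L.subtype = L := by
    rw [← MonoidHom.range_eq_map, Subgroup.range_subtype]
  refine ⟨?_, ?_⟩
  · conv_lhs => rw [h1, Subgroup.map_sup, hom]
    rw [← Subgroup.map_commutator]
  · conv_lhs => arg 2; rw [← htop]
    rw [← Subgroup.map_commutator, ← Subgroup.map_commutator, hZL]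

end Cfsg.Agent.S2823
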