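import Cfsg.Statements.S2825
import Cfsg.Agent.Lib.LocalEven.Subnormal

set_option autoImplicit false
open Cfsg

namespace Cfsg.Agent.S2825

/-- Let L be a subnormal subgroup of the finite group H, p a prime, Y_H and Y_L the largest p-reduced normal subgroups. Then Y_H ∩ L = Y_H ∩ Y_L and this subgroup is a p-reduced normal subgroup of L; C_L(Y_L) = C_L(Y_H) = C_L(Y_H ∩ L); and if O^p(H) ≤ L, then [Y_L, L] = 1 if and only if [Y_H, H] = 1. -/
theorem result {H : Type*} [Group H] [Finite H] {p : ℕ} [Fact p.Prime] (L : Subgroup H) (hL : L.IsSubnormal) : Cfsg.largestPReduced p H ⊓ L = Cfsg.largestPReduced p H ⊓ (Cfsg.largestPReducedOf p L) ∧ Cfsg.IsPReducedNormal p ((Cfsg.largestPReduced p H ⊓ L).subgroupOf L) ∧ L ⊓ Subgroup.centralizer ((Cfsg.largestPReducedOf p L : Subgroup H) : Set H) = L ⊓ Subgroup.centralizer (Cfsg.largestPReduced p H : Set H) ∧ L ⊓ Subgroup.centralizer (Cfsg.largestPReduced p H : Set H) = L ⊓ Subgroup.centralizer ((Cfsg.largestPReduced p H ⊓ L : Subgroup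 H) : Set H) ∧ (Cfsg.pResidual p H ≤ L → (⁅(Cfsg.largestPReducedOf p L), L⁆ = ⊥ ↔ ⁅Cfsg.largestPReduced p H, (⊤ : Subgroup H)⁆ = ⊥)) := by
  set Y := Cfsg.largestPReduced p H with hY
  have hred := CfsgLib.LocalEven.isPReducedNormal_largest (L := H) (p := p)
  haveI := hred.1
  set C := Subgroup.centralizer (Y : Set H) with hC
  have hD : L ⊓ Subgroup.centralizer ((Y ⊓ L : Subgroup H) : Set H) ≤ C := by
    refine CfsgLib.LocalEven.le_centralizer_of_subnormal hred ?_
      (CfsgLib.LocalEven.exists_pow_mem_centralizer (CfsgLib.LocalEven.isPGroup_of_elementary' hred.2.1) hL)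
    have hn : L ≤ Subgroup.normalizer ((Y ⊓ L : Subgroup H) : Set H) :=
      (le_inf (CfsgLib.Core.le_normalizer_of_normal L Y) Subgroup.le_normalizer).trans
        Subgroup.inf_normalizer_le_normalizer_inf
    exact Subgroup.IsSubnormal.trans inf_le_left
      ((Subgroup.normal_subgroupOf_iff_le_normalizer inf_le_left).mpr
        ((le_inf Subgroup.le_normalizer (hn.trans CfsgLib.LocalEven.le_normalizer_centralizer)).trans
          Subgroup.inf_normalizer_le_normalizer_inf)).isSubnormal hL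
  have hDeq : L ⊓ Subgroup.centralizer ((Y ⊓ L : Subgroup H) : Set H) = L ⊓ C :=
    le_antisymm (le_inf inf_le_left hD)
      (inf_le_inf_left L (Subgroup.centralizer_le (SetLike.coe_subset_coe.mpr inf_le_left)))
  haveI : ((Y ⊓ L).subgroupOf L).Normal := Subgroup.normal_subgroupOf_of_le_normalizer
    ((le_inf (CfsgLib.Core.le_normalizer_of_normal L Y) Subgroup.le_normalizer).trans
      Subgroup.inf_normalizer_le_normalizer_inf)
  have hcomm : ∀ a ∈ Y, ∀ b ∈ Y, a * b = b * a := fun a ha b hb =>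
    congrArg Subtype.val ((isMulCommutative_iff.mp hred.2.1.1) ⟨a, ha⟩ ⟨b, hb⟩)
  have hCY : (Subgroup.centralizer ((Y ⊓ L).subgroupOf L : Set ↥L)).map L.subtype = L ⊓ C := by
    rw [CfsgLib.LocalEven.map_centralizer_eq, Subgroup.map_subgroupOf_eq_of_le inf_le_right, hDeq]
  have hredL : Cfsg.IsPReducedNormal p ((Y ⊓ L).subgroupOf L) := by
    refine (CfsgLib.LocalEven.isPReducedNormal_iff_pow (V := (Y ⊓ L).subgroupOf L) ⟨isMulCommutative_iff.mpr fun a b =>
        Subtype.ext (Subtype.ext (hcomm _ (Subgroup.mem_subgroupOf.mp a.2).1 _ (Subgroup.mem_subgroupOf.mp b.2).1)),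
      fun a ha => Subtype.ext (by
        rw [SubgroupClass.coe_pow]; exact hred.2.1.2 _ (Subgroup.mem_subgroupOf.mp ha).1)⟩).mpr
      fun N hN h => ?_
    have h1 : N.map L.subtype ≤ C := by
      refine CfsgLib.LocalEven.le_centralizer_of_subnormal hred
        (Subgroup.IsSubnormal.trans' hN.isSubnormal hL) ?_
      rintro _ ⟨n, hn, rfl⟩
      obtain ⟨k, hk⟩ := h n hn
      exact ⟨k, (hCY.le ⟨_, hk, map_pow _ _ _⟩).2⟩
    intro n hn
    obtain ⟨z, hz, ez⟩ := hCY.ge ⟨n.2, h1 (Subgroup.mem_map_of_mem _ hn)⟩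
    rwa [← show z = n from Subtype.ext ez]
  have hYL : Y ⊓ L ≤ Cfsg.largestPReducedOf p L := fun y hy =>
    ⟨⟨y, hy.2⟩, CfsgLib.LocalEven.le_largestPReduced hredL (Subgroup.mem_subgroupOf.mpr hy), rfl⟩
  have htop : Cfsg.largestPReducedOf p (⊤ : Subgroup H) = Y := by
    have hredT := CfsgLib.LocalEven.isPReducedNormal_largest (L := ↥(⊤ : Subgroup H)) (p := p)
    refine le_antisymm ?_ ?_
    · haveI := hredT.1
      haveI : (Cfsg.largestPReducedOf p (⊤ : Subgroup H)).Normal := Subgroup.normalizer_eq_top_iff.mp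
        (top_le_iff.mp (CfsgLib.LocalEven.le_normalizer_largestOf ⊤))
      refine CfsgLib.LocalEven.le_largestPReduced ((CfsgLib.LocalEven.isPReducedNormal_iff_pow
        ⟨isMulCommutative_iff.mpr ?_, fun a ha => CfsgLib.LocalEven.pow_eq_one_of_mem_largest ha⟩).mpr
          fun N hN h => ?_)
      · rintro ⟨_, a, ha, rfl⟩ ⟨_, b, hb, rfl⟩
        exact Subtype.ext (congrArg (fun z : ↥(Cfsg.largestPReduced p ↥(⊤ : Subgroup H)) => ((z : ↥(⊤ : Subgroup H)) : H))
          ((isMulCommutative_iff.mp hredT.2.1.1) ⟨a, ha⟩ ⟨b, hb⟩))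
      · exact CfsgLib.LocalEven.le_centralizer_largest_of_pow le_top
          (CfsgLib.Core.le_normalizer_of_normal ⊤ N) h
    · intro y hy
      refine ⟨⟨y, trivial⟩, CfsgLib.LocalEven.le_largestPReduced
        (V := Y.subgroupOf ⊤) ((CfsgLib.LocalEven.isPReducedNormal_iff_pow
          ⟨isMulCommutative_iff.mpr fun a b => Subtype.ext (Subtype.ext (hcomm _ a.2 _ b.2)),
            fun a ha => Subtype.ext (by rw [SubgroupClass.coe_pow]; exact hred.2.1.2 _ ha)⟩).mpr
              fun N hN h => ?_) hy, rfl⟩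
      have hN' : (N.map (⊤ : Subgroup H).subtype).Normal := hN.map _ (fun x => ⟨⟨x, trivial⟩, rfl⟩)
      have hCt : (Subgroup.centralizer (Y.subgroupOf ⊤ : Set ↥(⊤ : Subgroup H))).map (⊤ : Subgroup H).subtype = C := by
        rw [CfsgLib.LocalEven.map_centralizer_eq, Subgroup.map_subgroupOf_eq_of_le le_top, top_inf_eq]
      have h2 : N.map (⊤ : Subgroup H).subtype ≤ C :=
        (CfsgLib.LocalEven.isPReducedNormal_iff_pow hred.2.1).mp hred _ hN' (by
          rintro _ ⟨n, hn, rfl⟩
          obtain ⟨k, hk⟩ := h n hn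
          exact ⟨k, hCt.le ⟨_, hk, map_pow _ _ _⟩⟩)
      intro n hn
      obtain ⟨z, hz, ez⟩ := hCt.ge (h2 (Subgroup.mem_map_of_mem _ hn))
      rwa [← show z = n from Subtype.ext ez]
  have hchain : ∀ K : Subgroup H, K.IsSubnormal →
      K ⊓ C ≤ Subgroup.centralizer (Cfsg.largestPReducedOf p K : Set H) := by
    intro K hK
    induction hK with
    | top => rw [htop]; exact inf_le_right
    | step A B hAB _ hn ih =>
      exact le_trans (le_inf inf_le_left ((inf_le_inf_right C hAB).trans ih))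
        (CfsgLib.LocalEven.inf_centralizer_le_of_normal hAB
          ((Subgroup.normal_subgroupOf_iff_le_normalizer hAB).mp hn))
  have hCL : L ⊓ Subgroup.centralizer (Cfsg.largestPReducedOf p L : Set H) = L ⊓ C := by
    refine le_antisymm ?_ (le_inf inf_le_left (hchain L hL))
    rw [← hDeq]
    exact inf_le_inf_left L (Subgroup.centralizer_le (SetLike.coe_subset_coe.mpr hYL))
  refine ⟨le_antisymm (le_inf inf_le_left hYL) (inf_le_inf_left Y (Subgroup.map_subtype_le _)), hredL,
    hCL, hDeq.symm, fun hres => ⟨fun h => ?_, fun h => ?_⟩⟩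
  · have h1 : L ≤ C := by
      rw [Subgroup.commutator_eq_bot_iff_le_centralizer] at h
      exact (le_inf le_rfl (Subgroup.le_centralizer_iff.mp h)).trans (hCL.le.trans inf_le_right)
    rw [Subgroup.commutator_eq_bot_iff_le_centralizer]
    refine Subgroup.le_centralizer_iff.mp ((CfsgLib.LocalEven.isPReducedNormal_iff_pow hred.2.1).mp hred ⊤
      inferInstance fun n _ => ?_)
    obtain ⟨k, hk⟩ := CfsgLib.Transfer.exists_pow_prime_pow_coprime (p := p) n
    exact ⟨k, h1 (hres (CfsgLib.Transfer.mem_pResidual_of_coprime hk))⟩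
  · rw [Subgroup.commutator_eq_bot_iff_le_centralizer, Subgroup.le_centralizer_iff]
    rw [Subgroup.commutator_eq_bot_iff_le_centralizer, Subgroup.le_centralizer_iff] at h
    exact (le_inf le_rfl (le_top.trans h)).trans (hCL.ge.trans inf_le_right)

end Cfsg.Agent.S2825
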