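import Cfsg.Statements.S2826
import Cfsg.Agent.Lib.LocalEven.Averaging
import Cfsg.Agent.Lib.LocalEven.PReduced
import Cfsg.Agent.Lib.Transfer.PResidual
import Cfsg.Agent.Lib.Core.Basic
import Cfsg.Agent.Lib.PGroups.Omega

set_option autoImplicit false
open Cfsg

namespace Cfsg.Agent.S2826

/-- Let H be a finite group of characteristic p, T a Sylow p-subgroup, and V a normal elementary abelian p-subgroup of H containing Ω₁(Z(T)). Then C_H(Ω₁(Z(T))) = C_H([V, O^p(H)] ∩ Ω₁(Z(T))), O^p(H) being generated by the elements of order prime to p. -/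
theorem result {H : Type*} [Group H] [Finite H] {p : ℕ} [Fact p.Prime] (hH : Subgroup.centralizer (Cfsg.pCore p H : Set H) ≤ Cfsg.pCore p H) (T : Sylow p H) (V : Subgroup H) [V.Normal] (hV : Cfsg.IsElementaryAbelian p V) (hZV : (Cfsg.omegaOne p ((T : Subgroup H) ⊓ Subgroup.centralizer (((T : Subgroup H) : Subgroup H) : Set H))) ≤ V) : Subgroup.centralizer ((Cfsg.omegaOne p ((T : Subgroup H) ⊓ Subgroup.centralizer (((T : Subgroup H) : Subgroup H) : Set H))) : Set H) = Subgroup.centralizer (((⁅V, Cfsg.pResidual p H⁆ ⊓ (Cfsg.omegaOne p ((T : Subgroup H) ⊓ Subgroup.centralizer (((T : Subgroup H) : Subgroup H) : Set H)))) : Subgroup H) : Set H) := by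
  refine le_antisymm (Subgroup.centralizer_le (SetLike.coe_subset_coe.mpr inf_le_right)) ?_
  set A := Cfsg.omegaOne p ((T : Subgroup H) ⊓ Subgroup.centralizer ((T : Subgroup H) : Set H)) with hA
  set B := ⁅V, Cfsg.pResidual p H⁆ ⊓ A with hB
  intro x hx
  rw [Subgroup.mem_centralizer_iff]
  intro a ha
  have haV : a ∈ V := hZV ha
  have haT : ∀ t ∈ (T : Subgroup H), t * a = a * t := fun t ht =>
    Subgroup.mem_centralizer_iff.mp (CfsgLib.PGroups.omegaOne_le _ ha).2 t ht
  have hKT := CfsgLib.Transfer.pResidual_sup_sylow T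
  let S := T.subtype (le_top : (T : Subgroup H) ≤ ⊤)
  have h1 : a ∈ (V ⊓ Subgroup.centralizer ((⊤ : Subgroup H) : Set H)) ⊔ ⁅V, Cfsg.pResidual p H⁆ := by
    refine CfsgLib.LocalEven.mem_sup_of_averaging V ⊤ hV
      (CfsgLib.Core.le_normalizer_of_normal ⊤ V) S haV (fun s hs => haT s hs) _ fun g _ => ?_
    obtain ⟨k, hk, t, ht, rfl⟩ := Subgroup.mem_sup_of_normal_left.mp
      (hKT ▸ Subgroup.mem_top g : g ∈ Cfsg.pResidual p H ⊔ (T : Subgroup H))
    rw [show k * t * a * (k * t)⁻¹ * a⁻¹ = k * (t * a * t⁻¹) * k⁻¹ * a⁻¹ by group,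
      haT t ht, mul_inv_cancel_right, Subgroup.commutator_comm]
    exact Subgroup.commutator_mem_commutator hk haV
  obtain ⟨c, hc, d, hd, rfl⟩ := Subgroup.mem_sup_of_normal_left.mp h1
  have hcA : c ∈ A := by
    refine Subgroup.subset_closure ⟨⟨?_, ?_⟩, hV.2 c hc.1⟩
    · exact CfsgLib.Core.pCore_le_sylow T
        (CfsgLib.Core.le_pCore (CfsgLib.LocalEven.isPGroup_of_elementary' hV) hc.1)
    · exact Subgroup.centralizer_le (Set.subset_univ _) (by simpa using hc.2)
  have hdB : d ∈ B := by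
    refine Subgroup.mem_inf.mpr ⟨hd, ?_⟩
    have := mul_mem (inv_mem hcA) (show c * d ∈ A from ha)
    rwa [inv_mul_cancel_left] at this
  have e1 : c * x = x * c := (Subgroup.mem_centralizer_iff.mp hc.2 x trivial).symm
  have e2 : d * x = x * d := Subgroup.mem_centralizer_iff.mp hx d hdB
  rw [mul_assoc, e2, ← mul_assoc, e1, mul_assoc]

end Cfsg.Agent.S2826
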