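import Cfsg.Statements.S2827
import Cfsg.Agent.Lib.LocalEven.PClosed

set_option autoImplicit false
open Cfsg
open scoped commutatorElement

namespace Cfsg.Agent.S2827

/-- Let H be a finite p-irreducible group (not p-closed, and O^p(H) lies in every normal subgroup that is not p-closed) and T a Sylow p-subgroup. Then H is generated by the conjugates of T and H = H'·T; O^p(H) ≤ H'; and for every normal subgroup Y of T not contained in O_p(H), O^p(H) = [O^p(H), Y] and O^p(H) is contained in the normal closure of Y in H. -/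
theorem result {H : Type*} [Group H] [Finite H] {p : ℕ} [Fact p.Prime] (hH : Cfsg.IsPIrreducible p H) (T : Sylow p H) : Subgroup.normalClosure ((T : Subgroup H) : Set H) = ⊤ ∧ commutator H ⊔ (T : Subgroup H) = ⊤ ∧ Cfsg.pResidual p H ≤ commutator H ∧ ∀ Y : Subgroup H, Y ≤ (T : Subgroup H) → (T : Subgroup H) ≤ Subgroup.normalizer (Y : Set H) → ¬ Y ≤ Cfsg.pCore p H → ⁅Cfsg.pResidual p H, Y⁆ = Cfsg.pResidual p H ∧ Cfsg.pResidual p H ≤ Subgroup.normalClosure (Y : Set H) := by
  have hgen : ∀ N : Subgroup H, N.Normal → (T : Subgroup H) ≤ N → N = ⊤ := fun N hN hT => by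
    haveI := hN
    have h1 := hH.2 N hN (CfsgLib.LocalEven.not_pClosed_of_sylow_le hH.1 T N hT)
    rw [eq_top_iff, ← CfsgLib.Transfer.pResidual_sup_sylow T]
    exact sup_le h1 hT
  have h1 : commutator H ⊔ (T : Subgroup H) = ⊤ := by
    refine hgen _ ?_ le_sup_right
    rw [← Subgroup.normalizer_eq_top_iff, ← top_le_iff,
      Subgroup.le_normalizer_iff_commutator_le_left]
    exact (Subgroup.commutator_mono le_top le_rfl).trans le_sup_left
  refine ⟨hgen _ inferInstance Subgroup.subset_normalClosure, h1,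
    CfsgLib.LocalEven.pResidual_le_of_sup_eq_top T.2 h1, fun Y hY hTY hYp => ?_⟩
  have hKT := CfsgLib.Transfer.pResidual_sup_sylow T
  set K := pResidual p H with hK
  haveI hKn : K.Normal := hK ▸ inferInstance
  have hKM : K ≤ Subgroup.normalizer (⁅K, Y⁆ : Subgroup H) := Subgroup.normalizer_commutator_ge_left K Y
  have hTM : (T : Subgroup H) ≤ Subgroup.normalizer (⁅K, Y⁆ : Subgroup H) := by
    intro t ht
    rw [CfsgLib.Core.mem_normalizer_iff_conj_smul_eq, CfsgLib.Core.conj_smul_eq_map,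
      Subgroup.map_commutator, ← CfsgLib.Core.conj_smul_eq_map, ← CfsgLib.Core.conj_smul_eq_map,
      (CfsgLib.Core.mem_normalizer_iff_conj_smul_eq).mp (hTY ht),
      (CfsgLib.Core.mem_normalizer_iff_conj_smul_eq).mp
        (CfsgLib.Core.le_normalizer_of_normal ⊤ K trivial)]
  haveI hMn : (⁅K, Y⁆ : Subgroup H).Normal := Subgroup.normalizer_eq_top_iff.mp
    (top_le_iff.mp (hKT ▸ sup_le hKM hTM))
  haveI hMY : (⁅K, Y⁆ ⊔ Y : Subgroup H).Normal := by
    refine Subgroup.normalizer_eq_top_iff.mp (top_le_iff.mp (hKT ▸ sup_le ?_ ?_))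
    · rw [Subgroup.le_normalizer_iff_commutator_le_right, Subgroup.commutator_le]
      intro k hk x hx
      obtain ⟨m, hm, y, hy, rfl⟩ := Subgroup.mem_sup_of_normal_left.mp hx
      apply Subgroup.mem_sup_left
      have hm' := Subgroup.Normal.conj_mem inferInstance m hm k
      rw [commutatorElement_def]
      rw [show k * (m * y) * k⁻¹ * (m * y)⁻¹ = (k * m * k⁻¹) * (k * y * k⁻¹ * y⁻¹) * m⁻¹ by group]
      exact mul_mem (mul_mem hm' (Subgroup.commutator_mem_commutator hk hy)) (inv_mem hm)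
    · intro t ht
      rw [CfsgLib.Core.mem_normalizer_iff_conj_smul_eq, CfsgLib.Core.conj_smul_eq_map,
        Subgroup.map_sup, ← CfsgLib.Core.conj_smul_eq_map, ← CfsgLib.Core.conj_smul_eq_map,
        (CfsgLib.Core.mem_normalizer_iff_conj_smul_eq).mp (hTY ht),
        (CfsgLib.Core.mem_normalizer_iff_conj_smul_eq).mp (hTM ht)]
  have hnc : ¬ IsPClosed p ↥(Subgroup.normalClosure (Y : Set H)) := fun hc => hYp
    ((le_inf hY Subgroup.subset_normalClosure).trans
      ((CfsgLib.LocalEven.pClosed_normal_iff _).mp hc T))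
  have hKN : K ≤ Subgroup.normalClosure (Y : Set H) := hH.2 _ inferInstance hnc
  refine ⟨le_antisymm (Subgroup.commutator_le_left K Y) ?_, hKN⟩
  have hKMY : K ≤ ⁅K, Y⁆ ⊔ Y := hKN.trans (Subgroup.normalClosure_le_normal fun _ hy => Subgroup.mem_sup_right hy)
  rw [hK]
  refine CfsgLib.Transfer.pResidual_le_iff.mpr fun g hg => ?_
  exact CfsgLib.LocalEven.mem_of_coprime_of_mem_sup (T.2.to_le hY)
    (hKMY (CfsgLib.Transfer.mem_pResidual_of_coprime hg)) hg

end Cfsg.Agent.S2827
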