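import Cfsg.Statements.S2828
import Cfsg.Agent.Lib.LocalEven.PClosed

set_option autoImplicit false
open Cfsg

namespace Cfsg.Agent.S2828

/-- Let H be a finite group, p a prime and D a normal p-subgroup of H. Then H is p-irreducible if and only if H/D is p-irreducible, and H is strongly p-irreducible if and only if H/D is strongly p-irreducible. -/
theorem result {H : Type*} [Group H] [Finite H] {p : ℕ} [Fact p.Prime] (D : Subgroup H) [D.Normal] (hD : IsPGroup p ↥D) : (Cfsg.IsPIrreducible p H ↔ Cfsg.IsPIrreducible p (H ⧸ D)) ∧ (Cfsg.IsStronglyPIrreducible p H ↔ Cfsg.IsStronglyPIrreducible p (H ⧸ D)) := by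
  have hs := QuotientGroup.mk'_surjective D
  have hk : IsPGroup p (QuotientGroup.mk' D).ker := by rw [QuotientGroup.ker_mk']; exact hD
  have hcl := CfsgLib.LocalEven.pClosed_iff_of_surjective (QuotientGroup.mk' D) hs hk
  have hres := CfsgLib.Transfer.map_pResidual_of_surjective (p := p) (QuotientGroup.mk' D) hs
  have hsub : ∀ N : Subgroup H, IsPClosed p ↥(N.map (QuotientGroup.mk' D)) ↔ IsPClosed p ↥N :=
    fun N => CfsgLib.LocalEven.pClosed_iff_of_surjective ((QuotientGroup.mk' D).subgroupMap N)
      ((QuotientGroup.mk' D).subgroupMap_surjective N)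
      ((hk.comap_of_injective N.subtype N.subtype_injective).to_le fun x hx => by
        simpa [Subgroup.mem_subgroupOf] using congrArg Subtype.val hx)
  have hcomm : ∀ N : Subgroup H,
      ⁅N.map (QuotientGroup.mk' D), (⊤ : Subgroup (H ⧸ D))⁆ ≤ Cfsg.pCore p (H ⧸ D) ↔
        ⁅N, (⊤ : Subgroup H)⁆ ≤ Cfsg.pCore p H := fun N => by
    rw [← Subgroup.map_top_of_surjective _ hs, ← Subgroup.map_commutator,
      Subgroup.map_le_iff_le_comap, CfsgLib.LocalEven.pCore_map_eq _ hs hk]
  have hto : ∀ (N : Subgroup (H ⧸ D)), pResidual p H ≤ N.comap (QuotientGroup.mk' D) →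
      pResidual p (H ⧸ D) ≤ N := fun N h => by
    rw [← hres, Subgroup.map_le_iff_le_comap]; exact h
  have hfrom : ∀ (N : Subgroup H), N.Normal → pResidual p (H ⧸ D) ≤ N.map (QuotientGroup.mk' D) →
      pResidual p H ≤ N := fun N hN h => by
    rw [← hres, Subgroup.map_le_iff_le_comap, Subgroup.comap_map_eq, QuotientGroup.ker_mk'] at h
    exact CfsgLib.Transfer.pResidual_le_iff.mpr fun g hg =>
      CfsgLib.LocalEven.mem_of_coprime_of_mem_sup hD
        (h (CfsgLib.Transfer.mem_pResidual_of_coprime hg)) hg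
  constructor
  · refine and_congr (not_congr hcl.symm) ⟨fun h N hN hNc => ?_, fun h N hN hNc => ?_⟩
    · refine hto N (h _ (hN.comap _) fun hc => hNc ?_)
      rw [← Subgroup.map_comap_eq_self_of_surjective hs N]
      exact (hsub _).mpr hc
    · exact hfrom N hN (h _ (hN.map _ hs) fun hc => hNc ((hsub _).mp hc))
  · refine and_congr (not_congr hcl.symm) ⟨fun h N hN hNc => ?_, fun h N hN hNc => ?_⟩
    · refine hto N (h _ (hN.comap _) fun hc => hNc ?_)
      rw [← Subgroup.map_comap_eq_self_of_surjective hs N]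
      exact (hcomm _).mpr hc
    · exact hfrom N hN (h _ (hN.map _ hs) fun hc => hNc ((hcomm _).mp hc))

end Cfsg.Agent.S2828
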