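import Cfsg.Statements.S2829
import Cfsg.Agent.Lib.LocalEven.PClosed

set_option autoImplicit false
open Cfsg
open scoped commutatorElement

namespace Cfsg.Agent.S2829

/-- Every strongly p-irreducible finite group is p-irreducible. -/
theorem result {H : Type*} [Group H] [Finite H] {p : ℕ} [Fact p.Prime] (hH : Cfsg.IsStronglyPIrreducible p H) : Cfsg.IsPIrreducible p H := by
  refine ⟨hH.1, fun N hN hNc => hH.2 N hN fun hle => hNc ?_⟩
  haveI := hN
  rw [CfsgLib.LocalEven.pClosed_normal_iff]
  intro P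
  have hp : IsPGroup p ↥(((P : Subgroup H) ⊓ N) ⊔ Cfsg.pCore p H) :=
    P.2.to_le (sup_le inf_le_left (CfsgLib.Core.pCore_le_sylow P))
  haveI : (((P : Subgroup H) ⊓ N) ⊔ Cfsg.pCore p H).Normal := by
    rw [← Subgroup.normalizer_eq_top_iff, ← top_le_iff,
      Subgroup.le_normalizer_iff_commutator_le_left]
    have h1 : ⁅((P : Subgroup H) ⊓ N) ⊔ Cfsg.pCore p H, (⊤ : Subgroup H)⁆ ≤ Cfsg.pCore p H :=
      (Subgroup.commutator_le).mpr fun x hx y hy => by
        obtain ⟨a, ha, b, hb, rfl⟩ := Subgroup.mem_sup_of_normal_right.mp hx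
        have h2 : (⁅a, y⁆ : H) ∈ Cfsg.pCore p H :=
          hle (Subgroup.commutator_mem_commutator ha.2 hy)
        have h3 : (⁅b, y⁆ : H) ∈ Cfsg.pCore p H := by
          rw [commutatorElement_def, mul_assoc, mul_assoc]
          exact mul_mem hb (by simpa [mul_assoc] using Subgroup.Normal.conj_mem inferInstance _ (inv_mem hb) y)
        have h4 : (⁅a * b, y⁆ : H) = a * ⁅b, y⁆ * a⁻¹ * ⁅a, y⁆ := by
          simp only [commutatorElement_def]; group
        rw [h4]
        exact mul_mem (Subgroup.Normal.conj_mem inferInstance _ h3 a) h2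
    exact h1.trans le_sup_right
  exact le_sup_left.trans (CfsgLib.Core.le_pCore hp)

end Cfsg.Agent.S2829
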