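import Cfsg.Statements.S2830
import Cfsg.Agent.Lib.LocalEven.PClosed

set_option autoImplicit false
open Cfsg

namespace Cfsg.Agent.S2830

/-- Let H act by conjugation on the elementary abelian p-subgroup V of a finite group G (H ≤ N(V)), with H p-irreducible and O^p(H) not centralizing V. Then C_H(V) is p-closed and C_T(V) ≤ O_p(H) for every p-subgroup T of H. If in addition O_p(H) centralizes V, then C_T(V) = T ∩ O_p(H) for every p-subgroup T of H, and V is p-reduced for H: O_p(H/C_H(V)) = 1. -/
theorem result {G : Type*} [Group G] [Finite G] {p : ℕ} [Fact p.Prime] (V H : Subgroup G) (hV : Cfsg.IsElementaryAbelian p V) (hHV : H ≤ Subgroup.normalizer (V : Set G)) (hH : Cfsg.IsPIrreducible p ↥H) (hnc : ¬ (Cfsg.pResidual p ↥H).map H.subtype ≤ Subgroup.centralizer (V : Set G)) [hn : ((Subgroup.centralizer (V : Set G)).subgroupOf H).Normal] : Cfsg.IsPClosed p ↥(H ⊓ Subgroup.centralizer (V : Set G)) ∧ (∀ T : Subgroup G, T ≤ H → IsPGroup p ↥T → T ⊓ Subgroup.centralizer (V : Set G) ≤ Cfsg.pCoreOf p H) ∧ (Cfsg.pCoreOf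 p H ≤ Subgroup.centralizer (V : Set G) → (∀ T : Subgroup G, T ≤ H → IsPGroup p ↥T → T ⊓ Subgroup.centralizer (V : Set G) = T ⊓ Cfsg.pCoreOf p H) ∧ Cfsg.pCore p (↥H ⧸ (Subgroup.centralizer (V : Set G)).subgroupOf H) = ⊥) := by
  set C := (Subgroup.centralizer (V : Set G)).subgroupOf H with hC
  have hKC : ¬ pResidual p ↥H ≤ C := fun h => hnc (Subgroup.map_le_iff_le_comap.mpr h)
  have hCc : IsPClosed p ↥C := Classical.byContradiction fun h => hKC (hH.2 C hn h)
  have hmap : C.map H.subtype = H ⊓ Subgroup.centralizer (V : Set G) := by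
    rw [hC, Subgroup.subgroupOf_map_subtype, inf_comm]
  have hT : ∀ T : Subgroup G, T ≤ H → IsPGroup p ↥T →
      T ⊓ Subgroup.centralizer (V : Set G) ≤ Cfsg.pCoreOf p H := by
    intro T hTH hTp x hx
    obtain ⟨P, hP⟩ := (hTp.comap_of_injective H.subtype H.subtype_injective).exists_le_sylow
    exact ⟨⟨x, hTH hx.1⟩, (CfsgLib.LocalEven.pClosed_normal_iff C).mp hCc P
      ⟨hP (show (⟨x, hTH hx.1⟩ : ↥H) ∈ T.comap H.subtype from hx.1), hx.2⟩, rfl⟩
  refine ⟨?_, hT, fun hle => ⟨fun T hTH hTp => le_antisymm (le_inf inf_le_left (hT T hTH hTp))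
    (inf_le_inf_left T hle), ?_⟩⟩
  · exact (CfsgLib.LocalEven.pClosed_iff_of_mulEquiv
      ((C.equivMapOfInjective H.subtype H.subtype_injective).trans
        (MulEquiv.subgroupCongr hmap))).mpr hCc
  · have hpC : pCore p ↥H ≤ C := fun x hx => hle ⟨x, hx, rfl⟩
    set f := QuotientGroup.mk' C with hf
    have hfs : Function.Surjective f := QuotientGroup.mk'_surjective C
    set N := (pCore p (↥H ⧸ C)).comap f with hN
    have hCN : C ≤ N := fun x hx => by
      simp [hN, hf, Subgroup.mem_comap, (QuotientGroup.eq_one_iff x).mpr hx]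
    haveI hNn : N.Normal := Subgroup.Normal.comap inferInstance _
    have hQp : IsPGroup p ↥(N.map f) := by
      rw [hN, Subgroup.map_comap_eq_self_of_surjective hfs]
      exact CfsgLib.Core.isPGroup_pCore _ _
    by_cases hNc : IsPClosed p ↥N
    · have hNC : N ≤ C := by
        intro x hx
        obtain ⟨P⟩ := (inferInstance : Nonempty (Sylow p ↥H))
        obtain ⟨Q, hQ⟩ := CfsgLib.LocalEven.exists_sylow_inf P N
        have hQC : (Q : Subgroup ↥N) ≤ C.subgroupOf N := fun y hy => Subgroup.mem_subgroupOf.mpr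
          (hpC ((CfsgLib.LocalEven.pClosed_normal_iff N).mp hNc P
            (hQ ▸ Subgroup.mem_map_of_mem _ hy)))
        have hker : (f.subgroupMap N).ker = C.subgroupOf N := by
          ext y
          rw [MonoidHom.mem_ker, Subgroup.mem_subgroupOf, ← QuotientGroup.eq_one_iff]
          exact Subtype.ext_iff
        have hidx : (C.subgroupOf N).index = Nat.card ↥(N.map f) := by
          rw [← hker, Subgroup.index_ker, MonoidHom.range_eq_top.mpr
            (f.subgroupMap_surjective N), Subgroup.card_top]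
        obtain ⟨k, hk⟩ := IsPGroup.iff_card.mp hQp
        cases k with
        | zero =>
          have : C.subgroupOf N = ⊤ := Subgroup.index_eq_one.mp (by rw [hidx, hk, pow_zero])
          exact Subgroup.subgroupOf_eq_top.mp this hx
        | succ k =>
          exact absurd ((dvd_pow_self p k.succ_ne_zero).trans
            (hk ▸ hidx ▸ Subgroup.index_dvd_of_le hQC)) Q.not_dvd_index
      rw [eq_bot_iff, ← Subgroup.map_comap_eq_self_of_surjective hfs (pCore p (↥H ⧸ C))]
      exact (Subgroup.map_mono hNC).trans (by rw [hf, QuotientGroup.map_mk'_self])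
    · exfalso
      apply hKC
      refine CfsgLib.Transfer.pResidual_le_iff.mpr fun g hg => ?_
      have hgN : g ∈ N := hH.2 N hNn hNc (CfsgLib.Transfer.mem_pResidual_of_coprime hg)
      rw [← QuotientGroup.eq_one_iff]
      exact congrArg Subtype.val (CfsgLib.Transfer.eq_one_of_coprime_of_isPGroup hQp
        (g := ⟨f g, Subgroup.mem_map_of_mem f hgN⟩)
        (by rw [Subgroup.orderOf_mk]; exact hg.coprime_dvd_left (orderOf_map_dvd f g)))

end Cfsg.Agent.S2830
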