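import Cfsg.Statements.S2832
import Cfsg.Agent.Lib.LocalEven.PClosed

set_option autoImplicit false
open Cfsg

namespace Cfsg.Agent.S2832

/-- Let H be a finite group with Sylow p-subgroup T such that H is T-minimal (generated by the conjugates of T, with T in exactly one maximal subgroup), and let N be a normal subgroup of H. Then either H/N is a p-group or H/N is minimal over the image of T in the same sense. -/
theorem result {H : Type*} [Group H] [Finite H] {p : ℕ} [Fact p.Prime] (T : Sylow p H) (hmin : Cfsg.IsMinimalOver (T : Subgroup H)) (N : Subgroup H) [N.Normal] : IsPGroup p (H ⧸ N) ∨ Cfsg.IsMinimalOver ((T : Subgroup H).map (QuotientGroup.mk' N)) := by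
  obtain ⟨hncl, M, ⟨hM, hTM⟩, huniq⟩ := hmin
  have hs := QuotientGroup.mk'_surjective N
  by_cases htop : N ⊔ (T : Subgroup H) = ⊤
  · left
    have h1 : (T : Subgroup H).map (QuotientGroup.mk' N) = ⊤ := by
      have h := congrArg (Subgroup.map (QuotientGroup.mk' N)) htop
      rwa [Subgroup.map_sup, QuotientGroup.map_mk'_self, bot_sup_eq,
        Subgroup.map_top_of_surjective _ hs] at h
    exact ((T.2.map (QuotientGroup.mk' N)).of_equiv
      ((MulEquiv.subgroupCongr h1).trans Subgroup.topEquiv))
  · right
    obtain ⟨M', hM', hle⟩ := (eq_top_or_exists_le_coatom _).resolve_left htop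
    obtain rfl := huniq M' ⟨hM', le_sup_right.trans hle⟩
    have hNM : N ≤ M' := le_sup_left.trans hle
    have hcm : (M'.map (QuotientGroup.mk' N)).comap (QuotientGroup.mk' N) = M' :=
      Subgroup.comap_map_eq_self (by rw [QuotientGroup.ker_mk']; exact hNM)
    refine ⟨?_, M'.map (QuotientGroup.mk' N), ⟨⟨?_, ?_⟩, Subgroup.map_mono hTM⟩, ?_⟩
    · rw [Subgroup.coe_map, ← Subgroup.map_normalClosure _ _ hs, hncl,
        Subgroup.map_top_of_surjective _ hs]
    · intro h
      exact hM'.1 (by rw [← hcm, h, Subgroup.comap_top])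
    · intro K hK
      have h2 := hM'.2 (K.comap (QuotientGroup.mk' N))
        (hcm ▸ (Subgroup.comap_lt_comap_of_surjective hs).mpr hK)
      rw [← Subgroup.map_comap_eq_self_of_surjective hs K, h2,
        Subgroup.map_top_of_surjective _ hs]
    · rintro K ⟨hK, hTK⟩
      have hK' : IsCoatom (K.comap (QuotientGroup.mk' N)) := by
        refine ⟨fun h => hK.1 ?_, fun L hL => ?_⟩
        · rw [← Subgroup.map_comap_eq_self_of_surjective hs K, h,
            Subgroup.map_top_of_surjective _ hs]
        · have hNL : (QuotientGroup.mk' N).ker ≤ L :=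
            ((MonoidHom.comap_bot _).symm.trans_le (Subgroup.comap_mono bot_le)).trans hL.le
          have h3 := hK.2 (L.map (QuotientGroup.mk' N))
            ((Subgroup.comap_lt_comap_of_surjective hs).mp
              (by rwa [Subgroup.comap_map_eq_self hNL]))
          rw [← Subgroup.comap_map_eq_self hNL, h3, Subgroup.comap_top]
      rw [← huniq _ ⟨hK', (Subgroup.le_comap_map _ _).trans (Subgroup.comap_mono hTK)⟩,
        Subgroup.map_comap_eq_self_of_surjective hs]

end Cfsg.Agent.S2832
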