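import Cfsg.Statements.S2833
import Cfsg.Agent.Lib.LocalEven.Basic

set_option autoImplicit false
open Cfsg

namespace Cfsg.Agent.S2833

/-- Let V be a subgroup of a finite group G normalized by the subgroup L, let X ≤ L and g ∈ L with [V, X, X] = 1 and L generated by X and gXg⁻¹. Put W = [V, L]. Then W = [V, X]·[V, gXg⁻¹], C_W(X) = [V, X], and C_W(L) = [V, X] ∩ [V, gXg⁻¹]. -/
theorem result {G : Type*} [Group G] [Finite G] (V L : Subgroup G) (hLV : L ≤ Subgroup.normalizer (V : Set G)) (X : Subgroup G) (hX : X ≤ L) (g : G) (hg : g ∈ L) (hq : ⁅⁅V, X⁆, X⁆ = ⊥) (hgen : X ⊔ X.map (MulAut.conj g).toMonoidHom = L) (W : Subgroup G) (hW : W = ⁅V, L⁆) : ⁅V, X⁆ ⊔ ⁅V, X.map (MulAut.conj g).toMonoidHom⁆ = W ∧ W ⊓ Subgroup.centralizer (X : Set G) = ⁅V, X⁆ ∧ W ⊓ Subgroup.centralizer (L : Set G) = ⁅V, X⁆ ⊓ ⁅V, X.map (MulAut.conj g).toMonoidHom⁆ := by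
  subst hW
  set X' := X.map (MulAut.conj g).toMonoidHom with hX'
  set A := ⁅V, X⁆ with hA
  set B := ⁅V, X'⁆ with hB
  have hX'L : X' ≤ L := le_sup_right.trans hgen.le
  have hXV := hX.trans hLV
  have hX'V := hX'L.trans hLV
  have hAV : A ≤ V := Subgroup.le_normalizer_iff_commutator_le_left.mp hXV
  have hBV : B ≤ V := Subgroup.le_normalizer_iff_commutator_le_left.mp hX'V
  have hVA : V ≤ Subgroup.normalizer (A : Set G) := Subgroup.normalizer_commutator_ge_left V X
  have hVB : V ≤ Subgroup.normalizer (B : Set G) := Subgroup.normalizer_commutator_ge_left V X'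
  have hBA : B = A.map (MulAut.conj g).toMonoidHom := by
    rw [hA, Subgroup.map_commutator, CfsgLib.LocalEven.mem_normalizer_conj_iff.mp (hLV hg)]
  have hcA : A ≤ Subgroup.centralizer (X : Set G) :=
    Subgroup.commutator_eq_bot_iff_le_centralizer.mp hq
  have hcB : B ≤ Subgroup.centralizer (X' : Set G) := by
    refine Subgroup.commutator_eq_bot_iff_le_centralizer.mp ?_
    rw [hBA, hX', ← Subgroup.map_commutator, hq, Subgroup.map_bot]
  have hAL : A ≤ ⁅V, L⁆ := Subgroup.commutator_mono le_rfl hX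
  have hBL : B ≤ ⁅V, L⁆ := Subgroup.commutator_mono le_rfl hX'L
  have hsup : A ⊔ B = ⁅V, L⁆ := by
    refine le_antisymm (sup_le hAL hBL) ?_
    have hVn : V ≤ Subgroup.normalizer ((A ⊔ B : Subgroup G) : Set G) :=
      (le_inf hVA hVB).trans (Subgroup.normalizer_inf_normalizer_le_normalizer_sup _ _)
    have key : ∀ (Y : Subgroup G), Y ≤ Subgroup.normalizer (V : Set G) → ⁅V, Y⁆ ≤ A ⊔ B →
        Y ≤ Subgroup.normalizer ((A ⊔ B : Subgroup G) : Set G) := by
      intro Y hYV hY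
      rw [Subgroup.le_normalizer_iff_commutator_le_left]
      exact (Subgroup.commutator_mono (sup_le hAV hBV) le_rfl).trans hY
    have hLn : L ≤ Subgroup.normalizer ((A ⊔ B : Subgroup G) : Set G) :=
      hgen.ge.trans (sup_le (key X hXV le_sup_left) (key X' hX'V le_sup_right))
    let T : Subgroup G :=
      { carrier := {l | l ∈ L ∧ ∀ v ∈ V, v * l * v⁻¹ * l⁻¹ ∈ A ⊔ B}
        one_mem' := ⟨one_mem L, fun v _ => by simp⟩
        mul_mem' := by
          rintro s t ⟨hs, hs'⟩ ⟨ht, ht'⟩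
          refine ⟨mul_mem hs ht, fun v hv => ?_⟩
          rw [show v * (s * t) * v⁻¹ * (s * t)⁻¹ =
            (v * s * v⁻¹ * s⁻¹) * (s * (v * t * v⁻¹ * t⁻¹) * s⁻¹) by group]
          exact mul_mem (hs' v hv) ((Subgroup.mem_normalizer_iff.mp (hLn hs) _).mp (ht' v hv))
        inv_mem' := by
          rintro s ⟨hs, hs'⟩
          refine ⟨inv_mem hs, fun v hv => ?_⟩
          rw [show v * s⁻¹ * v⁻¹ * s⁻¹⁻¹ = s⁻¹ * (v * s * v⁻¹ * s⁻¹)⁻¹ * s by group]
          exact (Subgroup.mem_normalizer_iff''.mp (hLn hs) _).mp (inv_mem (hs' v hv)) }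
    have hT : L ≤ T := hgen.ge.trans (sup_le
      (fun x hx => ⟨hX hx, fun v hv => Subgroup.mem_sup_left (Subgroup.commutator_mem_commutator hv hx)⟩)
      (fun x hx => ⟨hX'L hx, fun v hv => Subgroup.mem_sup_right (Subgroup.commutator_mem_commutator hv hx)⟩))
    exact Subgroup.commutator_le.mpr fun v hv l hl => (hT hl).2 v hv
  have hfix : ∀ w, w ∈ Subgroup.centralizer (X : Set G) → w ∈ Subgroup.centralizer (X' : Set G) →
      w ∈ Subgroup.centralizer (L : Set G) := fun w h1 h2 => by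
    have : L ≤ Subgroup.centralizer ({w} : Set G) := hgen.ge.trans (sup_le
      (fun x hx => Subgroup.mem_centralizer_iff.mpr fun y hy => by
        rw [Set.mem_singleton_iff.mp hy]; exact (Subgroup.mem_centralizer_iff.mp h1 x hx).symm)
      (fun x hx => Subgroup.mem_centralizer_iff.mpr fun y hy => by
        rw [Set.mem_singleton_iff.mp hy]; exact (Subgroup.mem_centralizer_iff.mp h2 x hx).symm))
    exact Subgroup.mem_centralizer_iff.mpr fun x hx =>
      (Subgroup.mem_centralizer_iff.mp (this hx) w rfl).symm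
  have hAC : ∀ w ∈ B, w ∈ Subgroup.centralizer (L : Set G) → w ∈ A := fun w hw hc => by
    rw [hBA, CfsgLib.LocalEven.mem_conj] at hw
    rwa [mul_assoc, ← Subgroup.mem_centralizer_iff.mp hc g hg, ← mul_assoc, inv_mul_cancel,
      one_mul] at hw
  have h2 : ⁅V, L⁆ ⊓ Subgroup.centralizer (X : Set G) = A := by
    refine le_antisymm ?_ (le_inf hAL hcA)
    rintro w ⟨hw', hwc⟩
    have hw : w ∈ ((A ⊔ B : Subgroup G) : Set G) := hsup.ge hw'
    rw [Subgroup.coe_mul_of_right_le_normalizer_left A B (hBV.trans hVA)] at hw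
    obtain ⟨a, ha, b, hb, rfl⟩ := hw
    have hbc : b ∈ Subgroup.centralizer (X : Set G) := by
      simpa using mul_mem (inv_mem (hcA ha)) hwc
    exact mul_mem ha (hAC b hb (hfix b hbc (hcB hb)))
  refine ⟨hsup, h2, le_antisymm ?_ ?_⟩
  · rintro w ⟨hw, hwc⟩
    have hwA : w ∈ A := h2.le ⟨hw, Subgroup.centralizer_le (SetLike.coe_subset_coe.mpr hX) hwc⟩
    refine ⟨hwA, ?_⟩
    show w ∈ B
    rw [hBA, CfsgLib.LocalEven.mem_conj, mul_assoc, ← Subgroup.mem_centralizer_iff.mp hwc g hg,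
      ← mul_assoc, inv_mul_cancel, one_mul]
    exact hwA
  · rintro w ⟨hwA, hwB⟩
    exact ⟨hAL hwA, hfix w (hcA hwA) (hcB hwB)⟩

end Cfsg.Agent.S2833
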