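import Cfsg.Statements.S2834
import Cfsg.Agent.Lib.LocalEven.LLemma

set_option autoImplicit false
open Cfsg

namespace Cfsg.Agent.S2834

/-- The L-Lemma: let H be a finite group with Sylow p-subgroup T such that H is T-minimal (generated by the conjugates of T, T in exactly one maximal subgroup M), and let A ≤ T with A not contained in O_p(H). Then there is a subgroup L of H containing A·O_p(H) such that (a) A·O_p(L) lies in exactly one maximal subgroup L₀ of L, and L₀ = L ∩ gMg⁻¹ for some g ∈ H; (b) L = ⟨A, xAx⁻¹⟩·O_p(L) for every x ∈ L outside L₀. -/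
theorem result {H : Type*} [Group H] [Finite H] {p : ℕ} [Fact p.Prime] (T : Sylow p H) (hmin : Cfsg.IsMinimalOver (T : Subgroup H)) (M : Subgroup H) (hM : IsCoatom M ∧ (T : Subgroup H) ≤ M) (A : Subgroup H) (hAT : A ≤ (T : Subgroup H)) (hA : ¬ A ≤ Cfsg.pCore p H) : ∃ L : Subgroup H, A ⊔ Cfsg.pCore p H ≤ L ∧ ∃ L₀ : Subgroup H, A ⊔ (Cfsg.pCoreOf p L) ≤ L₀ ∧ L₀ < L ∧ (∀ X : Subgroup H, A ⊔ (Cfsg.pCoreOf p L) ≤ X → X < L → X ≤ L₀) ∧ (∃ g : H, L₀ = L ⊓ ((M : Subgroup H).map (MulAut.conj (g : H)).toMonoidHom)) ∧ ∀ x ∈ L, x ∉ L₀ → (A ⊔ ((A : Subgroup H).map (MulAut.conj (x : H)).toMonoidHom)) ⊔ (Cfsg.pCoreOf p L) = L := by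
  obtain ⟨L, hAL, g, hB, hLg, hX, hx⟩ := CfsgLib.LocalEven.lLemma T hmin M hM A hAT hA
  refine ⟨L, hAL, L ⊓ M.map (MulAut.conj g).toMonoidHom, le_inf ?_ hB, ?_, fun X h1 h2 => le_inf h2.le (hX X h1 h2),
    ⟨g, rfl⟩, fun x hxL hxn => hx x hxL fun h => hxn ⟨hxL, h⟩⟩
  · exact sup_le (le_sup_left.trans hAL) (CfsgLib.LocalEvenB.pCoreOf_le L)
  · exact lt_of_le_of_ne inf_le_left fun e => hLg (inf_eq_left.mp e)

end Cfsg.Agent.S2834
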