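import Cfsg.Statements.S2835
import Cfsg.Agent.Lib.LocalEven.Basic
import Cfsg.Agent.Lib.Core.Cores

set_option autoImplicit false
open Cfsg

namespace Cfsg.Agent.S2835

/-- Let L be a finite group, L₀ a maximal subgroup, T a Sylow p-subgroup of L₀ and Y ≤ T, and suppose L is Y-minimal (generated by the conjugates of Y, with Y in exactly one maximal subgroup, necessarily L₀). Then N_L(T) ≤ L₀, O_p(L) ≤ L₀ and T is a Sylow p-subgroup of L; N_L(L₀) = L₀; L = ⟨Y, gYg⁻¹⟩ for each g ∈ L outside L₀; and if Y is abelian then Y ∩ gYg⁻¹ = C_Y(L) for each such g. -/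
theorem result {L : Type*} [Group L] [Finite L] {p : ℕ} [Fact p.Prime] (L₀ : Subgroup L) (hL₀ : IsCoatom L₀) (T : Sylow p ↥L₀) (Y : Subgroup L) (hYT : Y ≤ (T : Subgroup ↥L₀).map L₀.subtype) (hmin : Cfsg.IsMinimalOver Y) : Subgroup.normalizer (((T : Subgroup ↥L₀).map L₀.subtype : Subgroup L) : Set L) ≤ L₀ ∧ Cfsg.pCore p L ≤ L₀ ∧ (∃ P : Sylow p L, (P : Subgroup L) = (T : Subgroup ↥L₀).map L₀.subtype) ∧ Subgroup.normalizer (L₀ : Set L) = L₀ ∧ (∀ g : L, g ∉ L₀ → Y ⊔ Y.map (MulAut.conj g).toMonoidHom = ⊤) ∧ (IsMulCommutative ↥Y → ∀ g : L, g ∉ L₀ → Y ⊓ Y.map (MulAut.conj g).toMonoidHom = Y ⊓ Subgroup.center L) := by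
  obtain ⟨hncl, M, ⟨hM, hYM⟩, huniq⟩ := hmin
  set T' := (T : Subgroup ↥L₀).map L₀.subtype with hT'
  have hT'L : T' ≤ L₀ := Subgroup.map_subtype_le _
  have hM₀ : L₀ = M := huniq L₀ ⟨hL₀, hYT.trans hT'L⟩
  subst hM₀
  have hle : ∀ K : Subgroup L, Y ≤ K → K ≠ ⊤ → K ≤ L₀ := fun K hK hne => by
    obtain ⟨X, hX, hKX⟩ := (eq_top_or_exists_le_coatom K).resolve_left hne
    exact huniq X ⟨hX, hK.trans hKX⟩ ▸ hKX
  have hnn : ∀ K : Subgroup L, K.Normal → Y ≤ K → K = ⊤ := fun K hK hYK => by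
    haveI := hK
    exact top_le_iff.mp (hncl ▸ Subgroup.normalClosure_le_normal hYK)
  have hNT : Subgroup.normalizer (T' : Set L) ≤ L₀ := by
    refine hle _ (hYT.trans Subgroup.le_normalizer) fun h => ?_
    exact hL₀.1 (top_le_iff.mp (hnn T' (Subgroup.normalizer_eq_top_iff.mp h) hYT ▸ hT'L))
  obtain ⟨P, hP⟩ := (T.2.map L₀.subtype).exists_le_sylow
  have hPT : (P : Subgroup L) = T' := by
    refine (CfsgLib.LocalEven.eq_of_normalizer_inf_le P.2 hP ?_).symm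
    intro x hx
    have h1 : ((P : Subgroup L).subgroupOf L₀) = (T : Subgroup ↥L₀) :=
      T.3 (P.2.comap_of_injective _ L₀.subtype_injective) fun y hy =>
        hP (Subgroup.mem_map_of_mem _ hy)
    exact ⟨⟨x, hNT hx.2⟩, h1.le hx.1, rfl⟩
  have hNL : Subgroup.normalizer (L₀ : Set L) = L₀ := by
    rcases eq_or_lt_of_le (Subgroup.le_normalizer (H := L₀)) with h | h
    · exact h.symm
    · exact absurd (hnn L₀ (Subgroup.normalizer_eq_top_iff.mp (hL₀.2 _ h)) hYM) hL₀.1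
  have hgen : ∀ g : L, g ∉ L₀ → Y ⊔ Y.map (MulAut.conj g).toMonoidHom = ⊤ := by
    intro g hg
    by_contra hne
    have h1 : Y.map (MulAut.conj g).toMonoidHom ≤ L₀ := le_sup_right.trans (hle _ le_sup_left hne)
    have h2 : Y ≤ L₀.map (MulAut.conj g⁻¹).toMonoidHom := by
      have := Subgroup.map_mono (f := (MulAut.conj g⁻¹).toMonoidHom) h1
      rwa [CfsgLib.LocalEven.conj_conj, inv_mul_cancel, CfsgLib.LocalEven.conj_one] at this
    have h3 : IsCoatom (L₀.map (MulAut.conj g⁻¹).toMonoidHom) :=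
      ((MulAut.conj g⁻¹).mapSubgroup.isCoatom_iff L₀).mpr hL₀
    have h4 := huniq _ ⟨h3, h2⟩
    rw [← CfsgLib.LocalEven.mem_normalizer_conj_iff, hNL] at h4
    exact hg (inv_mem_iff.mp h4)
  refine ⟨hNT, (CfsgLib.Core.pCore_le_sylow P).trans (hPT.le.trans hT'L), ⟨P, hPT⟩, hNL, hgen,
    fun hab g hg => le_antisymm (le_inf inf_le_left ?_) (le_inf inf_le_left fun y hy => ?_)⟩
  · rw [← Subgroup.centralizer_univ, ← Subgroup.coe_top, Subgroup.le_centralizer_iff, ← hgen g hg]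
    haveI := hab
    refine sup_le (Subgroup.le_centralizer_iff.mp (inf_le_left.trans (Subgroup.le_centralizer Y))) ?_
    refine Subgroup.le_centralizer_iff.mp (inf_le_right.trans ?_)
    rintro _ ⟨y, hy, rfl⟩
    rw [Subgroup.mem_centralizer_iff]
    rintro _ ⟨z, hz, rfl⟩
    rw [← map_mul, ← map_mul, Subgroup.mem_centralizer_iff.mp (Subgroup.le_centralizer Y hy) z hz]
  · rw [CfsgLib.LocalEven.mem_conj,
      mul_assoc, ← Subgroup.mem_center_iff.mp hy.2 g, ← mul_assoc, inv_mul_cancel, one_mul]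
    exact hy.1

end Cfsg.Agent.S2835
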