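import Cfsg.Statements.S2836
import Cfsg.Agent.S2835
import Cfsg.Agent.Lib.LocalEven.PClosed
import Cfsg.Agent.Lib.LocalEven.Basic
import Cfsg.Agent.Lib.Core.Cores

set_option autoImplicit false
open Cfsg

namespace Cfsg.Agent.S2836

/-- Let L be a finite group, L₀ a maximal subgroup, T a Sylow p-subgroup of L₀, Y ≤ T, and suppose L is Y-minimal. Let D be the intersection of the conjugates of L₀ (the core of L₀). Then D contains O_p(L) and D/O_p(L) is the Frattini subgroup of L/O_p(L), so D is p-closed; and every normal subgroup N of L contained in L₀ is p-closed with N/O_p(N) a nilpotent group of order prime to p. -/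
theorem result {L : Type*} [Group L] [Finite L] {p : ℕ} [Fact p.Prime] (L₀ : Subgroup L) (hL₀ : IsCoatom L₀) (T : Sylow p ↥L₀) (Y : Subgroup L) (hYT : Y ≤ (T : Subgroup ↥L₀).map L₀.subtype) (hmin : Cfsg.IsMinimalOver Y) : (Cfsg.pCore p L ≤ L₀.normalCore ∧ (L₀.normalCore).map (QuotientGroup.mk' (Cfsg.pCore p L)) = frattini (L ⧸ Cfsg.pCore p L) ∧ Cfsg.IsPClosed p ↥(L₀.normalCore)) ∧ ∀ (N : Subgroup L) [N.Normal], N ≤ L₀ → Cfsg.IsPClosed p ↥N ∧ Group.IsNilpotent (↥N ⧸ Cfsg.pCore p ↥N) ∧ (Nat.card (↥N ⧸ Cfsg.pCore p ↥N)).Coprime p := by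
  obtain ⟨-, hOL₀, ⟨P, hP⟩, hNL₀, -, -⟩ := S2835.result L₀ hL₀ T Y hYT hmin
  obtain ⟨hncl, M₀, ⟨hM₀, hYM₀⟩, huniq⟩ := hmin
  have hTL₀ : (T : Subgroup ↥L₀).map L₀.subtype ≤ L₀ := Subgroup.map_subtype_le _
  have hYP : Y ≤ (P : Subgroup L) := hP ▸ hYT
  have hL₀M : L₀ = M₀ := huniq L₀ ⟨hL₀, hYT.trans hTL₀⟩
  have hclosed : ∀ N : Subgroup L, N.Normal → N ≤ L₀ → Cfsg.IsPClosed p ↥N := by
    intro N hN hNL
    haveI := hN
    obtain ⟨Q, hQ⟩ := CfsgLib.LocalEven.exists_sylow_inf P N
    have hfr := Sylow.normalizer_sup_eq_top Q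
    rw [hQ] at hfr
    set Nq := Subgroup.normalizer (((P : Subgroup L) ⊓ N : Subgroup L) : Set L)
    have hYN : Y ≤ Nq := hYP.trans ((le_inf Subgroup.le_normalizer
      (CfsgLib.Core.le_normalizer_of_normal _ N)).trans Subgroup.inf_normalizer_le_normalizer_inf)
    have hNq : Nq = ⊤ := by
      by_contra hne
      obtain ⟨X, hX, hle⟩ := (eq_top_or_exists_le_coatom Nq).resolve_left hne
      have hXL : X ≤ L₀ := (huniq X ⟨hX, hYN.trans hle⟩).le.trans hL₀M.ge
      exact hL₀.1 (top_le_iff.mp (hfr ▸ sup_le (hle.trans hXL) hNL))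
    refine CfsgLib.LocalEven.pClosed_of_normal_sylow (P := Q) ?_
    haveI : (((P : Subgroup L) ⊓ N : Subgroup L)).Normal := Subgroup.normalizer_eq_top_iff.mp hNq
    rw [show (Q : Subgroup N) = ((P : Subgroup L) ⊓ N).subgroupOf N from Subgroup.map_injective
      N.subtype_injective (hQ.trans (Subgroup.map_subgroupOf_eq_of_le inf_le_right).symm)]
    infer_instance
  set π := QuotientGroup.mk' (Cfsg.pCore p L)
  have hπ : Function.Surjective π := QuotientGroup.mk'_surjective _
  have hfrat : ∀ N : Subgroup L, N.Normal → N ≤ L₀ → N.map π ≤ frattini (L ⧸ Cfsg.pCore p L) := by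
    intro N hN hNL
    haveI := hN
    simp only [frattini, Order.radical, le_iInf_iff, Set.mem_ofPred_eq]
    intro Xb hXb
    rw [Subgroup.map_le_iff_le_comap]
    set X := Xb.comap π with hX
    have hXc : IsCoatom X := by
      refine ⟨fun e => hXb.1 ?_, fun J hJ => ?_⟩
      · rw [← Subgroup.map_comap_eq_self_of_surjective hπ Xb, ← hX, e,
          Subgroup.map_top_of_surjective _ hπ]
      · have hker : π.ker ≤ J :=
          ((MonoidHom.comap_bot _).symm.trans_le (Subgroup.comap_mono bot_le)).trans hJ.le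
        have h3 := hXb.2 (J.map π) ((Subgroup.comap_lt_comap_of_surjective hπ).mp (by
          rwa [Subgroup.comap_map_eq_self hker]))
        rw [← Subgroup.comap_map_eq_self hker, h3, Subgroup.comap_top]
    have hOX : Cfsg.pCore p L ≤ X := (QuotientGroup.ker_mk' _).symm.le.trans
      ((MonoidHom.comap_bot _).symm.trans_le (Subgroup.comap_mono bot_le))
    by_contra hne
    have hXN : X ⊔ N = ⊤ := hXc.2 _ (lt_of_le_of_ne le_sup_left fun e => hne (e ▸ le_sup_right))
    have hidx : ¬ p ∣ X.index := by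
      intro hd
      obtain ⟨Q, hQ⟩ := CfsgLib.LocalEven.exists_sylow_inf P N
      have hQX : (Q : Subgroup ↥N) ≤ X.subgroupOf N := fun q hq => Subgroup.mem_subgroupOf.mpr
        (hOX ((CfsgLib.LocalEven.pClosed_normal_iff N).mp (hclosed N hN hNL) P
          (hQ.le (Subgroup.mem_map_of_mem _ hq))))
      have e1 := CfsgLib.Core.card_sup_mul_card_inf X N (CfsgLib.Core.le_normalizer_of_normal _ _)
      rw [hXN, Subgroup.card_top, ← X.card_mul_index, mul_assoc] at e1
      have e2 := Nat.eq_of_mul_eq_mul_left Nat.card_pos e1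
      refine Q.not_dvd_index ((hd.trans (dvd_of_eq ?_)).trans (Subgroup.index_dvd_of_le hQX))
      have e3 : Nat.card ↥(X ⊓ N : Subgroup L) * (X.subgroupOf N).index = Nat.card ↥N := by
        rw [show (X.subgroupOf N).index = (X ⊓ N).relIndex N from (Subgroup.inf_relIndex_right X N).symm,
          ← Subgroup.relIndex_bot_left, ← Subgroup.relIndex_bot_left N]
        exact Subgroup.relIndex_mul_relIndex _ _ _ bot_le inf_le_right
      rw [← e3, mul_comm] at e2
      exact Nat.eq_of_mul_eq_mul_left Nat.card_pos e2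
    obtain ⟨R⟩ := (inferInstance : Nonempty (Sylow p ↥X))
    have h5 : ¬ p ∣ ((R : Subgroup ↥X).map X.subtype).index := by
      rw [Subgroup.index_map_subtype]
      exact (Fact.out : p.Prime).not_dvd_mul R.not_dvd_index hidx
    obtain ⟨g, hg⟩ := CfsgLib.LocalEven.sylow_conj ((R.2.map X.subtype).toSylow h5) P
    set X' := X.map (MulAut.conj g).toMonoidHom with hX'
    have hX'c : IsCoatom X' := ((MulAut.conj g).mapSubgroup.isCoatom_iff X).mpr hXc
    have hYX' : Y ≤ X' := hYP.trans (hg.ge.trans (Subgroup.map_mono (Subgroup.map_subtype_le _)))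
    have hXL : X' = L₀ := (huniq X' ⟨hX'c, hYX'⟩).trans hL₀M.symm
    apply hne
    intro x hx
    have h6 : g * x * g⁻¹ ∈ X' := hXL ▸ hNL (hN.conj_mem x hx g)
    rw [hX', CfsgLib.LocalEven.mem_conj] at h6
    simpa [mul_assoc] using h6
  have hcore : Cfsg.pCore p L ≤ L₀.normalCore := Subgroup.normal_le_normalCore.mpr hOL₀
  refine ⟨⟨hcore, le_antisymm (hfrat _ inferInstance (Subgroup.normalCore_le L₀)) ?_,
    hclosed _ inferInstance (Subgroup.normalCore_le L₀)⟩, fun N hN hNL => ?_⟩
  · have hΦ : (frattini (L ⧸ Cfsg.pCore p L)).comap π ≤ L₀ := by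
      have hLc : IsCoatom (L₀.map π) := by
        refine ⟨fun e => hL₀.1 ?_, fun J hJ => ?_⟩
        · rw [← Subgroup.comap_map_eq_self (f := π) (H := L₀) (by rw [QuotientGroup.ker_mk']; exact hOL₀), e,
            Subgroup.comap_top]
        · have h3 := hL₀.2 (J.comap π) (by
            rw [← Subgroup.comap_map_eq_self (f := π) (show π.ker ≤ L₀ by
              rw [QuotientGroup.ker_mk']; exact hOL₀)]
            exact (Subgroup.comap_lt_comap_of_surjective hπ).mpr hJ)
          rw [← Subgroup.map_comap_eq_self_of_surjective hπ J, h3, Subgroup.map_top_of_surjective _ hπ]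
      rw [← Subgroup.comap_map_eq_self (f := π) (show π.ker ≤ L₀ by
        rw [QuotientGroup.ker_mk']; exact hOL₀)]
      exact Subgroup.comap_mono (frattini_le_coatom hLc)
    haveI : ((frattini (L ⧸ Cfsg.pCore p L)).comap π).Normal := Subgroup.Normal.comap inferInstance π
    rw [← Subgroup.map_comap_eq_self_of_surjective hπ (frattini (L ⧸ Cfsg.pCore p L))]
    exact Subgroup.map_mono (Subgroup.normal_le_normalCore.mpr hΦ)
  · have hc := hclosed N hN hNL
    refine ⟨hc, ?_, ?_⟩
    · have hker : (π.comp N.subtype).ker = Cfsg.pCore p ↥N := by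
        refine le_antisymm ?_ fun x hx => ?_
        · rw [← MonoidHom.comap_ker, QuotientGroup.ker_mk']
          exact CfsgLib.Core.pCore_subgroupOf_le N
        · rw [MonoidHom.mem_ker]
          exact (QuotientGroup.eq_one_iff _).mpr
            (CfsgLib.Core.map_subtype_pCore_le N (Subgroup.mem_map_of_mem _ hx))
      have hrange : (π.comp N.subtype).range ≤ frattini (L ⧸ Cfsg.pCore p L) := by
        rw [MonoidHom.range_comp, Subgroup.range_subtype]
        exact hfrat N hN hNL
      haveI := frattini_nilpotent (G := L ⧸ Cfsg.pCore p L)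
      haveI := CfsgLib.Core.isNilpotent_of_le hrange
      exact Group.nilpotent_of_mulEquiv ((QuotientGroup.quotientMulEquivOfEq hker.symm).trans
        (QuotientGroup.quotientKerEquivRange (π.comp N.subtype))).symm
    · rw [← Subgroup.index_eq_card, Nat.coprime_comm, (Fact.out : p.Prime).coprime_iff_not_dvd]
      exact CfsgLib.LocalEven.pClosed_iff_not_dvd.mp hc

end Cfsg.Agent.S2836
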