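import Cfsg.Statements.S2837
import Cfsg.Agent.S2835
import Cfsg.Agent.Lib.LocalEven.WeaklyClosed
import Cfsg.Agent.Lib.PGroups.Basic
import Cfsg.Agent.Lib.Core.Cores

set_option autoImplicit false
open Cfsg
open scoped commutatorElement

namespace Cfsg.Agent.S2837

/-- Let L be a finite group of characteristic p, L₀ a maximal subgroup, Y an elementary abelian p-subgroup of L₀ with L Y-minimal and O_p(L) ≤ N_L(Y). Put A = the normal closure of O_p(L) ∩ Y in L. Then for every g ∈ L outside L₀: Φ(A) = A' = [A ∩ Y, A] = [A ∩ Y, A ∩ gYg⁻¹] ≤ C_Y(L), and Y ∩ gYg⁻¹ = (A ∩ Y) ∩ (A ∩ gYg⁻¹) = C_Y(L) = C_A(L). -/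
theorem result {L : Type*} [Group L] [Finite L] {p : ℕ} [Fact p.Prime] (hchar : Subgroup.centralizer (Cfsg.pCore p L : Set L) ≤ Cfsg.pCore p L) (L₀ : Subgroup L) (hL₀ : IsCoatom L₀) (Y : Subgroup L) (hYL₀ : Y ≤ L₀) (hYel : Cfsg.IsElementaryAbelian p Y) (hmin : Cfsg.IsMinimalOver Y) (hOY : Cfsg.pCore p L ≤ Subgroup.normalizer (Y : Set L)) (A : Subgroup L) (hA : A = Subgroup.normalClosure (((Cfsg.pCore p L ⊓ Y : Subgroup L)) : Set L)) (g : L) (hg : g ∉ L₀) : (frattini ↥A).map A.subtype = ⁅A, A⁆ ∧ ⁅A, A⁆ = ⁅A ⊓ Y, A⁆ ∧ ⁅A ⊓ Y, A⁆ = ⁅A ⊓ Y, A ⊓ Y.map (MulAut.conj g).toMonoidHom⁆ ∧ ⁅A ⊓ Y, A⁆ ≤ Y ⊓ Subgroup.center L ∧ Y ⊓ Y.map (MulAut.conj g).toMonoidHom = Y ⊓ Subgroup.center L ∧ (A ⊓ Y) ⊓ (A ⊓ Y.map (MulAut.conj g).toMonoidHom) = Y ⊓ Subgroup.center L ∧ A ⊓ Subgroup.center L = Y ⊓ Subgroup.center L := by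
  haveI := hYel.1
  have hYp : IsPGroup p ↥Y := fun a => ⟨1, Subtype.ext (by simpa using hYel.2 _ a.2)⟩
  obtain ⟨T, hT⟩ := (hYp.comap_of_injective L₀.subtype L₀.subtype_injective).exists_le_sylow
  have hYT : Y ≤ (T : Subgroup ↥L₀).map L₀.subtype := by
    rw [← Subgroup.map_subgroupOf_eq_of_le hYL₀]
    exact Subgroup.map_mono hT
  obtain ⟨-, -, -, -, hgen, hint⟩ := S2835.result L₀ hL₀ T Y hYT hmin
  have hI := hint hYel.1 g hg
  set Y' := Y.map (MulAut.conj g).toMonoidHom with hY'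
  set O := Cfsg.pCore p L with hO
  set B := O ⊓ Y with hB
  set B' := B.map (MulAut.conj g).toMonoidHom with hB'
  have hOg : O.map (MulAut.conj g).toMonoidHom = O := CfsgLib.LocalEven.mem_normalizer_conj_iff.mp
    ((Subgroup.normalizer_eq_top_iff.mpr (inferInstance : O.Normal)).ge (Subgroup.mem_top g))
  have hB'eq : B' = O ⊓ Y' := by
    rw [hB', hB, Subgroup.map_inf _ _ _ (MulAut.conj g).injective, hOg]
  have hOY' : O ≤ Subgroup.normalizer (Y' : Set L) :=
    CfsgLib.LocalEven.le_normalizer_conj (by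
      rw [CfsgLib.LocalEven.mem_normalizer_conj_iff.mp
        ((Subgroup.normalizer_eq_top_iff.mpr (inferInstance : O.Normal)).ge (Subgroup.mem_top g⁻¹))]
      exact hOY)
  have hOB : O ≤ Subgroup.normalizer (B : Set L) :=
    (le_inf Subgroup.le_normalizer hOY).trans Subgroup.inf_normalizer_le_normalizer_inf
  have hOB' : O ≤ Subgroup.normalizer (B' : Set L) := by
    rw [hB'eq]
    exact (le_inf Subgroup.le_normalizer hOY').trans Subgroup.inf_normalizer_le_normalizer_inf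
  set A₁ := B ⊔ B' with hA₁
  have hA₁O : A₁ ≤ O := sup_le inf_le_left (hB'eq ▸ inf_le_left)
  -- `Z` normalizes `B ⊔ B'` whenever `[O, Z] ≤` one of them
  have hside : ∀ Z : Subgroup L, O ≤ Subgroup.normalizer (Z : Set L) → O ⊓ Z ≤ A₁ →
      Z ≤ Subgroup.normalizer (A₁ : Set L) := by
    intro Z hZ hle
    rw [Subgroup.le_normalizer_iff_commutator_le_left]
    refine (Subgroup.commutator_mono hA₁O le_rfl).trans (le_trans (le_inf ?_ ?_) hle)
    · exact Subgroup.commutator_le_left O Z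
    · exact Subgroup.le_normalizer_iff_commutator_le_right.mp hZ
  haveI hA₁n : A₁.Normal := Subgroup.normalizer_eq_top_iff.mp (top_le_iff.mp ((hgen g hg).ge.trans
    (sup_le (hside Y hOY le_sup_left) (hside Y' hOY' (hB'eq ▸ le_sup_right)))))
  have hAA : A = A₁ := by
    rw [hA]
    refine le_antisymm (Subgroup.normalClosure_le_normal fun x hx => Subgroup.mem_sup_left (T := B') hx)
      (sup_le Subgroup.subset_normalClosure ?_)
    rintro _ ⟨b, hb, rfl⟩
    exact Subgroup.Normal.conj_mem inferInstance b (Subgroup.subset_normalClosure hb) g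
  subst hAA
  have hAY : A₁ ⊓ Y = B := le_antisymm (le_inf (inf_le_left.trans hA₁O) inf_le_right)
    (le_inf le_sup_left inf_le_right)
  have hAY' : A₁ ⊓ Y' = B' := by
    rw [hB'eq]
    exact le_antisymm (le_inf (inf_le_left.trans hA₁O) inf_le_right)
      (le_inf (hB'eq ▸ le_sup_right) inf_le_right)
  have hZO : Y ⊓ Subgroup.center L ≤ O := by
    haveI : (Y ⊓ Subgroup.center L).Normal := ⟨fun z hz l => by
      rwa [Subgroup.mem_center_iff.mp hz.2 l, mul_inv_cancel_right]⟩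
    exact CfsgLib.Core.le_pCore (hYp.to_le inf_le_left)
  have hBB' : B ⊓ B' = Y ⊓ Subgroup.center L := by
    rw [← hI, hB'eq, hB]
    exact le_antisymm (le_inf (inf_le_left.trans inf_le_right) (inf_le_right.trans inf_le_right))
      (le_inf (le_inf (hI.le.trans hZO) inf_le_left) (le_inf (hI.le.trans hZO) inf_le_right))
  have hcomm : ⁅B, B'⁆ ≤ Y ⊓ Subgroup.center L := hBB' ▸ le_inf
    (Subgroup.le_normalizer_iff_commutator_le_left.mp ((hB'eq ▸ inf_le_left : B' ≤ O).trans hOB))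
    (Subgroup.le_normalizer_iff_commutator_le_right.mp ((inf_le_left : B ≤ O).trans hOB'))
  haveI hDn : (⁅B, B'⁆ : Subgroup L).Normal := ⟨fun z hz l => by
    rwa [Subgroup.mem_center_iff.mp (hcomm hz).2 l, mul_inv_cancel_right]⟩
  have hBab : ∀ x ∈ B, ∀ y ∈ B, ⁅x, y⁆ ∈ ⁅B, B'⁆ := fun x hx y hy => by
    rw [commutatorElement_eq_one_iff_mul_comm.mpr (congrArg Subtype.val
      ((isMulCommutative_iff.mp hYel.1) ⟨x, hx.2⟩ ⟨y, hy.2⟩))]
    exact one_mem _
  have hB'ab : ∀ x ∈ B', ∀ y ∈ B', ⁅x, y⁆ ∈ ⁅B, B'⁆ := by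
    rintro _ ⟨x, hx, rfl⟩ _ ⟨y, hy, rfl⟩
    rw [← map_commutatorElement, commutatorElement_eq_one_iff_mul_comm.mpr (congrArg Subtype.val
      ((isMulCommutative_iff.mp hYel.1) ⟨x, hx.2⟩ ⟨y, hy.2⟩)), map_one]
    exact one_mem _
  -- products
  have hmem : ∀ a ∈ A₁, ∃ b ∈ B, ∃ c ∈ B', a = b * c := fun a ha => by
    rw [← SetLike.mem_coe, hA₁, Subgroup.coe_mul_of_left_le_normalizer_right B B'
      ((inf_le_left : B ≤ O).trans hOB')] at ha
    obtain ⟨b, hb, c, hc, e⟩ := ha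
    exact ⟨b, hb, c, hc, e.symm⟩
  set π := QuotientGroup.mk' (⁅B, B'⁆ : Subgroup L)
  have hπ : ∀ x y, ⁅x, y⁆ ∈ (⁅B, B'⁆ : Subgroup L) → Commute (π x) (π y) := fun x y h => by
    rw [← commutatorElement_eq_one_iff_commute, ← map_commutatorElement]
    exact (QuotientGroup.eq_one_iff _).mpr h
  have hcab : ∀ x ∈ A₁, ∀ y ∈ A₁, Commute (π x) (π y) := by
    intro x hx y hy
    obtain ⟨b, hb, c, hc, rfl⟩ := hmem x hx
    obtain ⟨b', hb', c', hc', rfl⟩ := hmem y hy
    simp only [map_mul]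
    exact ((hπ _ _ (hBab b hb b' hb')).mul_right (hπ _ _ (Subgroup.commutator_mem_commutator hb hc'))).mul_left
      ((hπ _ _ (Subgroup.commutator_mem_commutator hb' hc)).symm.mul_right (hπ _ _ (hB'ab c hc c' hc')))
  have hA' : ⁅A₁, A₁⁆ = ⁅B, B'⁆ := by
    refine le_antisymm ?_ (Subgroup.commutator_mono le_sup_left le_sup_right)
    rw [Subgroup.commutator_le]
    intro x hx y hy
    rw [← QuotientGroup.eq_one_iff (N := (⁅B, B'⁆ : Subgroup L))]
    show π ⁅x, y⁆ = 1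
    rw [map_commutatorElement, commutatorElement_eq_one_iff_commute]
    exact hcab x hx y hy
  have hBA : ⁅B, A₁⁆ = ⁅B, B'⁆ := le_antisymm
    ((Subgroup.commutator_mono le_sup_left le_rfl).trans hA'.le) (Subgroup.commutator_mono le_rfl le_sup_right)
  have hAp : IsPGroup p ↥A₁ := (CfsgLib.Core.isPGroup_pCore p L).to_le hA₁O
  refine ⟨le_antisymm ?_ ?_, ?_, ?_, ?_, hI, ?_, ?_⟩
  · have hN : frattini ↥A₁ ≤ (⁅A₁, A₁⁆).subgroupOf A₁ := by
      haveI : ((⁅A₁, A₁⁆ : Subgroup L).subgroupOf A₁).Normal := by rw [hA']; infer_instance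
      refine CfsgLib.PGroups.frattini_le_of_elementary (p := p) ?_ fun x => ?_
      · exact Subgroup.map_le_iff_le_comap.mp (Subgroup.map_subtype_commutator A₁).le
      · rw [Subgroup.mem_subgroupOf, hA', SubgroupClass.coe_pow, ← QuotientGroup.eq_one_iff]
        obtain ⟨b, hb, c, hc, e⟩ := hmem x x.2
        show π ((x : L) ^ p) = 1
        rw [map_pow, e, map_mul, (hπ _ _ (Subgroup.commutator_mem_commutator hb hc)).mul_pow,
          ← map_pow, ← map_pow, hYel.2 b hb.2, map_one, one_mul]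
        obtain ⟨c₀, hc₀, rfl⟩ := hc
        rw [← map_pow (MulAut.conj g).toMonoidHom, hYel.2 c₀ hc₀.2, map_one, map_one]
    exact (Subgroup.map_mono hN).trans ((Subgroup.subgroupOf_map_subtype _ _).le.trans inf_le_left)
  · rw [← Subgroup.map_subtype_commutator]
    exact Subgroup.map_mono (CfsgLib.PGroups.commutator_le_frattini' hAp)
  · rw [hA', hAY, hBA]
  · rw [hAY, hAY', hBA]
  · rw [hAY, hBA]; exact hcomm
  · rw [hAY, hAY', hBB']
  · refine le_antisymm (fun a ha => ?_) (le_inf (fun z hz => ?_) inf_le_right)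
    · obtain ⟨b, hb, c, hc, e⟩ := hmem a ha.1
      obtain ⟨c₀, hc₀, rfl⟩ := hc
      set c := (MulAut.conj g).toMonoidHom c₀
      have hac : c = b⁻¹ * a := by rw [e]; group
      have hcY : c ∈ Subgroup.centralizer (Y : Set L) := by
        rw [hac]
        exact mul_mem (inv_mem (Subgroup.le_centralizer Y hb.2)) (Subgroup.center_le_centralizer _ ha.2)
      have hcY' : c ∈ Subgroup.centralizer (Y' : Set L) := Subgroup.mem_centralizer_iff.mpr (by
        rintro _ ⟨y, hy, rfl⟩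
        rw [← map_mul, ← map_mul, Subgroup.mem_centralizer_iff.mp (Subgroup.le_centralizer Y hc₀.2) y hy])
      have hcc : c ∈ Subgroup.center L := by
        rw [← Subgroup.centralizer_univ, ← Subgroup.coe_top, ← hgen g hg]
        refine (Subgroup.le_centralizer_iff.mp (sup_le ?_ ?_)) (Subgroup.mem_zpowers c)
        · exact Subgroup.le_centralizer_iff.mp (Subgroup.zpowers_le.mpr hcY)
        · exact Subgroup.le_centralizer_iff.mp (Subgroup.zpowers_le.mpr hcY')
      have hcc' : c = c₀ := by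
        have h1 := Subgroup.mem_center_iff.mp hcc g
        have h2 : g * (g * c₀ * g⁻¹) = g * c₀ * g⁻¹ * g := h1
        rw [inv_mul_cancel_right] at h2
        exact mul_left_cancel h2
      refine Subgroup.mem_inf.mpr ⟨?_, ha.2⟩
      rw [e, hcc']
      exact mul_mem hb.2 hc₀.2
    · exact Subgroup.mem_sup_left (show z ∈ B from Subgroup.mem_inf.mpr ⟨hZO hz, hz.1⟩)

end Cfsg.Agent.S2837
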