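import Cfsg.Statements.S2838
import Cfsg.Agent.Lib.LocalEven.WeaklyClosed
import Cfsg.Agent.Lib.LocalEven.PClosed

set_option autoImplicit false
open Cfsg

namespace Cfsg.Agent.S2838

/-- For a nontrivial p-subgroup Q of a finite group H the following are equivalent: Q is a weakly closed subgroup (it is the only H-conjugate of itself inside some Sylow p-subgroup containing it); Q = P for every conjugate P of Q with [Q, P] ≤ Q ∩ P; Q is normal in N_H(R) for every p-subgroup R of H containing Q. -/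
theorem result {H : Type*} [Group H] [Finite H] {p : ℕ} [Fact p.Prime] (Q : Subgroup H) (hQp : IsPGroup p ↥Q) (hQ1 : Q ≠ ⊥) : (Cfsg.IsWeaklyClosedSubgroup p Q ↔ ∀ g : H, ⁅Q, ((Q : Subgroup H).map (MulAut.conj (g : H)).toMonoidHom)⁆ ≤ Q ⊓ ((Q : Subgroup H).map (MulAut.conj (g : H)).toMonoidHom) → ((Q : Subgroup H).map (MulAut.conj (g : H)).toMonoidHom) = Q) ∧ (Cfsg.IsWeaklyClosedSubgroup p Q ↔ ∀ R : Subgroup H, IsPGroup p ↥R → Q ≤ R → Subgroup.normalizer ((R : Subgroup H) : Set H) ≤ Subgroup.normalizer ((Q : Subgroup H) : Set H)) := by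
  have hiff := CfsgLib.LocalEven.isWeaklyClosedSubgroup_iff hQp
  refine ⟨⟨fun h g hg => ?_, fun h => CfsgLib.LocalEven.weaklyClosed_of_mutual hQp fun g h1 h2 => ?_⟩,
    fun h R hR hQR => CfsgLib.LocalEven.normalizer_le_of_weaklyClosed hQp h hR hQR,
    fun h => CfsgLib.LocalEven.weaklyClosed_of_normalizer_le hQp h⟩
  · have h2 := Subgroup.le_normalizer_iff_commutator_le_left.mpr (hg.trans inf_le_left)
    exact hiff.mp h _ ((hQp.map _).to_sup_of_normal_right' hQp h2) le_sup_right g le_sup_left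
  · exact h g (le_inf (Subgroup.le_normalizer_iff_commutator_le_left.mp h2)
      (Subgroup.le_normalizer_iff_commutator_le_right.mp h1))

end Cfsg.Agent.S2838
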