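import Cfsg.Statements.S2839
import Cfsg.Agent.Lib.LocalEven.WeaklyClosed
import Cfsg.Agent.Lib.LocalEven.PClosed

set_option autoImplicit false
open Cfsg

namespace Cfsg.Agent.S2839

/-- Let Q be a nontrivial p-subgroup of the finite group H that is a weakly closed subgroup, K a subgroup containing Q and N a normal subgroup of H. Then Q is a weakly closed subgroup of K; every H-conjugate of Q contained in K is a K-conjugate of Q; N_K(Q) contains a Sylow p-subgroup of K; N = N_N(Q)·O^p(N); and QN/N is a weakly closed subgroup of H/N. -/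
theorem result {H : Type*} [Group H] [Finite H] {p : ℕ} [Fact p.Prime] (Q : Subgroup H) (hQp : IsPGroup p ↥Q) (hQ1 : Q ≠ ⊥) (hwc : Cfsg.IsWeaklyClosedSubgroup p Q) (K : Subgroup H) (hQK : Q ≤ K) (N' : Subgroup H) [N'.Normal] : Cfsg.IsWeaklyClosedSubgroup p (Q.subgroupOf K) ∧ (∀ g : H, ((Q : Subgroup H).map (MulAut.conj (g : H)).toMonoidHom) ≤ K → ∃ k ∈ K, ((Q : Subgroup H).map (MulAut.conj (g : H)).toMonoidHom) = ((Q : Subgroup H).map (MulAut.conj (k : H)).toMonoidHom)) ∧ Cfsg.IsParabolic p ((Subgroup.normalizer ((Q : Subgroup H) : Set H)).subgroupOf K) ∧ (N' ⊓ Subgroup.normalizer ((Q : Subgroup H) : Set H)) ⊔ (Cfsg.pResidual p ↥N').map N'.subtype = N' ∧ Cfsg.IsWeaklyClosedSubgroup p (Q.map (QuotientGroup.mk' N')) := by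
  refine ⟨CfsgLib.LocalEven.isWeaklyClosedSubgroup_subgroupOf hQp hwc hQK,
    fun g hg => CfsgLib.LocalEven.exists_conj_mem_of_weaklyClosed hQp hwc hQK hg, ?_, ?_, ?_⟩
  · obtain ⟨P, hP⟩ := (hQp.of_equiv (Subgroup.subgroupOfEquivOfLe hQK).symm :
      IsPGroup p (Q.subgroupOf K)).exists_le_sylow
    refine ⟨P, fun x hx => ?_⟩
    rw [Subgroup.mem_subgroupOf]
    exact CfsgLib.LocalEven.le_normalizer_of_weaklyClosed hQp hwc (P.2.map K.subtype)
      (by rw [← Subgroup.map_subgroupOf_eq_of_le hQK]; exact Subgroup.map_mono hP)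
      (Subgroup.mem_map_of_mem K.subtype hx)
  · refine le_antisymm (sup_le inf_le_left (Subgroup.map_subtype_le _)) ?_
    obtain ⟨T, hT⟩ := hQp.exists_le_sylow
    obtain ⟨P, hP⟩ := CfsgLib.LocalEven.exists_sylow_inf T N'
    have h1 := congrArg (Subgroup.map N'.subtype) (CfsgLib.Transfer.pResidual_sup_sylow P)
    rw [Subgroup.map_sup, hP, ← MonoidHom.range_eq_map, Subgroup.range_subtype] at h1
    refine h1.ge.trans (sup_le le_sup_right ?_)
    exact (le_inf inf_le_right (inf_le_left.trans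
      (CfsgLib.LocalEven.le_normalizer_of_weaklyClosed hQp hwc T.2 hT))).trans le_sup_left
  · obtain ⟨T, hT⟩ := hQp.exists_le_sylow
    have hs := QuotientGroup.mk'_surjective N'
    refine ⟨T.mapSurjective hs, Subgroup.map_mono hT, fun g hg => ?_⟩
    obtain ⟨a, rfl⟩ := hs g
    have e : (Q.map (QuotientGroup.mk' N')).map (MulAut.conj (QuotientGroup.mk' N' a)).toMonoidHom =
        (Q.map (MulAut.conj a).toMonoidHom).map (QuotientGroup.mk' N') := by
      simp only [Subgroup.map_map]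
      congr 1
    rw [e] at hg ⊢
    have hle : Q.map (MulAut.conj a).toMonoidHom ≤ N' ⊔ (T : Subgroup H) := by
      have := (Subgroup.le_comap_map _ _).trans (Subgroup.comap_mono hg)
      rwa [Sylow.coe_mapSurjective, Subgroup.comap_map_eq, QuotientGroup.ker_mk', sup_comm] at this
    obtain ⟨k, hk, hk'⟩ := CfsgLib.LocalEven.exists_conj_mem_of_weaklyClosed hQp hwc
      (hT.trans le_sup_right) hle
    obtain ⟨n, hn, t, ht, rfl⟩ := Subgroup.mem_sup_of_normal_left.mp hk
    rw [hk', ← CfsgLib.LocalEven.conj_conj, CfsgLib.LocalEven.mem_normalizer_conj_iff.mp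
      (CfsgLib.LocalEven.le_normalizer_of_weaklyClosed hQp hwc T.2 hT ht), Subgroup.map_map]
    congr 1
    ext x
    simp [(QuotientGroup.eq_one_iff n).mpr hn]

end Cfsg.Agent.S2839
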