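import Cfsg.Statements.S2840
import Cfsg.Agent.Lib.LocalEven.WeaklyClosed
import Cfsg.Agent.Lib.LocalEven.PClosed

set_option autoImplicit false
open Cfsg

namespace Cfsg.Agent.S2840

/-- Let Q be a nontrivial p-subgroup of the finite group H that is a weakly closed subgroup and K a subgroup containing Q; let K° be the weak closure of Q in K (generated by the H-conjugates of Q inside K). Then K° is generated by the K-conjugates of Q, and K° is the subnormal closure of Q in K. -/
theorem result {H : Type*} [Group H] [Finite H] {p : ℕ} [Fact p.Prime] (Q : Subgroup H) (hQp : IsPGroup p ↥Q) (hQ1 : Q ≠ ⊥) (hwc : Cfsg.IsWeaklyClosedSubgroup p Q) (K : Subgroup H) (hQK : Q ≤ K) (Kc : Subgroup H) (hKc : Kc = Cfsg.weakClosure Q K) : Kc = ⨆ k : ↥K, ((Q : Subgroup H).map (MulAut.conj ((k : H) : H)).toMonoidHom) ∧ Kc = (Cfsg.subnormalClosure (Q.subgroupOf K)).map K.subtype := by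
  subst hKc
  have hsup : Cfsg.weakClosure Q K =
      ⨆ k : ↥K, ((Q : Subgroup H).map (MulAut.conj ((k : H) : H)).toMonoidHom) := by
    refine le_antisymm (iSup_le fun g => ?_) (iSup_le fun k => ?_)
    · obtain ⟨k, hk, e⟩ := CfsgLib.LocalEven.exists_conj_mem_of_weaklyClosed hQp hwc hQK g.2
      rw [e]
      exact le_iSup_of_le ⟨k, hk⟩ le_rfl
    · refine le_iSup_of_le (ι := {g : H // Q.map (MulAut.conj g).toMonoidHom ≤ K}) ⟨k, ?_⟩ le_rfl
      intro x hx
      obtain ⟨y, hy, rfl⟩ := hx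
      exact mul_mem (mul_mem k.2 (hQK hy)) (inv_mem k.2)
  refine ⟨hsup, ?_⟩
  have hle : Cfsg.weakClosure Q K ≤ K := iSup_le fun g => g.2
  apply le_antisymm
  · have hind : ∀ X : Subgroup ↥K, X.IsSubnormal → Q.subgroupOf K ≤ X →
        Cfsg.weakClosure Q K ≤ X.map K.subtype := by
      intro X hX hQX
      induction hX with
      | top =>
        rw [← MonoidHom.range_eq_map, Subgroup.range_subtype]
        exact hle
      | step A B hAB _ hn ih =>
        refine iSup_le fun g => ?_
        have h1 : Q.map (MulAut.conj (g : H)).toMonoidHom ≤ B.map K.subtype :=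
          (le_iSup (fun g : {g : H // Q.map (MulAut.conj g).toMonoidHom ≤ K} =>
            Q.map (MulAut.conj (g : H)).toMonoidHom) g).trans (ih (hQX.trans hAB))
        have hQA : Q ≤ A.map K.subtype := by
          rw [← Subgroup.map_subgroupOf_eq_of_le hQK]; exact Subgroup.map_mono hQX
        obtain ⟨k, hk, e⟩ := CfsgLib.LocalEven.exists_conj_mem_of_weaklyClosed hQp hwc
          (hQA.trans (Subgroup.map_mono hAB)) h1
        rw [e]
        obtain ⟨b, hb, rfl⟩ := hk
        intro x hx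
        obtain ⟨y, hy, rfl⟩ := hx
        obtain ⟨z, hz, rfl⟩ := hQA hy
        exact ⟨b * z * b⁻¹, Subgroup.mem_subgroupOf.mp
          (hn.conj_mem ⟨z, hAB hz⟩ (Subgroup.mem_subgroupOf.mpr hz) ⟨b, hb⟩), rfl⟩
    intro x hx
    refine ⟨⟨x, hle hx⟩, ?_, rfl⟩
    refine Subgroup.mem_sInf.mpr fun X hX => ?_
    obtain ⟨y, hy, e⟩ := hind X hX.2 hX.1 hx
    rwa [show (⟨x, hle hx⟩ : ↥K) = y from Subtype.ext e.symm]
  · haveI : ((Cfsg.weakClosure Q K).subgroupOf K).Normal := by
      rw [Subgroup.normal_subgroupOf_iff_le_normalizer hle, hsup]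
      intro k hk
      rw [CfsgLib.LocalEven.mem_normalizer_conj_iff, Subgroup.map_iSup]
      simp only [CfsgLib.LocalEven.conj_conj]
      exact Equiv.iSup_congr (Equiv.mulLeft (⟨k, hk⟩ : ↥K)) fun _ => rfl
    have hQW : Q ≤ Cfsg.weakClosure Q K := by
      rw [hsup]
      exact le_iSup_of_le (1 : ↥K) (by rw [Subgroup.coe_one, CfsgLib.LocalEven.conj_one])
    rw [← Subgroup.map_subgroupOf_eq_of_le hle]
    exact Subgroup.map_mono (sInf_le ⟨Subgroup.comap_mono hQW, Subgroup.Normal.isSubnormal inferInstance⟩)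

end Cfsg.Agent.S2840
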