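import Cfsg.Statements.S2841
import Cfsg.Agent.Lib.LocalEven.WeaklyClosed
import Cfsg.Agent.Lib.Core.Basic

set_option autoImplicit false
open Cfsg
open scoped commutatorElement

namespace Cfsg.Agent.S2841

/-- Let Q be a nontrivial p-subgroup of the finite group H that is a weakly closed subgroup and N a normal subgroup of H. Then N = N_N(Q)·[N, Q] and [N, Q] = (Q ∩ [N, Q])·[N, Q, Q]. -/
theorem result {H : Type*} [Group H] [Finite H] {p : ℕ} [Fact p.Prime] (Q : Subgroup H) (hQp : IsPGroup p ↥Q) (hQ1 : Q ≠ ⊥) (hwc : Cfsg.IsWeaklyClosedSubgroup p Q) (N' : Subgroup H) [N'.Normal] : (∀ n : H, n ∈ N' → ∃ a ∈ N' ⊓ Subgroup.normalizer ((Q : Subgroup H) : Set H), ∃ b ∈ ⁅N', Q⁆, n = a * b) ∧ (∀ c : H, c ∈ ⁅N', Q⁆ → ∃ a ∈ Q ⊓ ⁅N', Q⁆, ∃ b ∈ ⁅⁅N', Q⁆, Q⁆, c = a * b) := by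
  have first : ∀ M : Subgroup H, Q ≤ Subgroup.normalizer (M : Set H) → ∀ n ∈ M,
      ∃ a ∈ M ⊓ Subgroup.normalizer (Q : Set H), ∃ b ∈ ⁅M, Q⁆, n = a * b := by
    intro M hM n hn
    have hle : Q.map (MulAut.conj n).toMonoidHom ≤ ⁅M, Q⁆ ⊔ Q := by
      rintro _ ⟨q, hq, rfl⟩
      show n * q * n⁻¹ ∈ _
      rw [show n * q * n⁻¹ = ⁅n, q⁆ * q by rw [commutatorElement_def]; group]
      exact mul_mem (Subgroup.mem_sup_left (Subgroup.commutator_mem_commutator hn hq))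
        (Subgroup.mem_sup_right hq)
    obtain ⟨k, hk, e⟩ := CfsgLib.LocalEven.exists_conj_mem_of_weaklyClosed hQp hwc le_sup_right hle
    rw [← SetLike.mem_coe, Subgroup.coe_mul_of_right_le_normalizer_left _ _
      (Subgroup.normalizer_commutator_ge_right M Q)] at hk
    obtain ⟨c, hc, q, hq, rfl⟩ := hk
    rw [← CfsgLib.LocalEven.conj_conj c q, CfsgLib.LocalEven.mem_normalizer_conj_iff.mp
      (Subgroup.le_normalizer hq)] at e
    have hcM : c ∈ M := Subgroup.le_normalizer_iff_commutator_le_left.mp hM hc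
    have hN : c⁻¹ * n ∈ Subgroup.normalizer (Q : Set H) := by
      rw [CfsgLib.LocalEven.mem_normalizer_conj_iff, ← CfsgLib.LocalEven.conj_conj, e,
        CfsgLib.LocalEven.conj_conj, inv_mul_cancel, CfsgLib.LocalEven.conj_one]
    refine ⟨c⁻¹ * n, Subgroup.mem_inf.mpr ⟨mul_mem (inv_mem hcM) hn, hN⟩, (c⁻¹ * n)⁻¹ * c * (c⁻¹ * n),
      ?_, by group⟩
    exact (Subgroup.mem_normalizer_iff''.mp (Subgroup.normalizer_commutator_ge_left M Q
      (mul_mem (inv_mem hcM) hn)) c).mp hc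
  have hNQ : Q ≤ Subgroup.normalizer (N' : Set H) := CfsgLib.Core.le_normalizer_of_normal Q N'
  refine ⟨first N' hNQ, fun c hc => ?_⟩
  set D := ⁅N', Q⁆ with hD
  set E := ⁅D, Q⁆ with hE
  have hQD : Q ≤ Subgroup.normalizer (D : Set H) := Subgroup.normalizer_commutator_ge_right N' Q
  have hQE : Q ≤ Subgroup.normalizer (E : Set H) := Subgroup.normalizer_commutator_ge_right D Q
  have hle : D ≤ (Q ⊓ D) ⊔ E := by
    rw [hD, Subgroup.commutator_le]
    intro n hn q hq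
    obtain ⟨a, ha, b, hb, rfl⟩ := first N' hNQ n hn
    have haQ : (Subgroup.map (MulAut.conj a).toMonoidHom Q) = Q :=
      CfsgLib.LocalEven.mem_normalizer_conj_iff.mp ha.2
    have haD : (Subgroup.map (MulAut.conj a).toMonoidHom D) = D :=
      CfsgLib.LocalEven.mem_normalizer_conj_iff.mp (Subgroup.normalizer_commutator_ge_left N' Q ha.1)
    have h1 : a * ⁅b, q⁆ * a⁻¹ ∈ E := by
      have : a * ⁅b, q⁆ * a⁻¹ ∈ E.map (MulAut.conj a).toMonoidHom :=
        CfsgLib.LocalEven.conj_mem_conj (Subgroup.commutator_mem_commutator hb hq)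
      rwa [hE, Subgroup.map_commutator, haD, haQ] at this
    have h2 : ⁅a, q⁆ ∈ Q ⊓ D := by
      refine Subgroup.mem_inf.mpr ⟨?_, Subgroup.commutator_mem_commutator ha.1 hq⟩
      rw [commutatorElement_def]
      exact mul_mem ((Subgroup.mem_normalizer_iff.mp ha.2 q).mp hq) (inv_mem hq)
    rw [show ⁅a * b, q⁆ = a * ⁅b, q⁆ * a⁻¹ * ⁅a, q⁆ by simp only [commutatorElement_def]; group]
    exact mul_mem (Subgroup.mem_sup_right h1) (Subgroup.mem_sup_left h2)
  have := hle hc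
  rw [← SetLike.mem_coe, Subgroup.coe_mul_of_left_le_normalizer_right (Q ⊓ D) E
    (inf_le_left.trans hQE)] at this
  obtain ⟨a, ha, b, hb, e⟩ := this
  exact ⟨a, ha, b, hb, e.symm⟩

end Cfsg.Agent.S2841
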