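import Cfsg.Statements.S2843
import Cfsg.Agent.Lib.LocalEven.CharPWeak

set_option autoImplicit false
open Cfsg

namespace Cfsg.Agent.S2843

/-- Let Q be a nontrivial large p-subgroup of the finite group H, Q ≤ L ≤ H, and Y a nontrivial p-subgroup of H normalized by L. Let L° be the weak closure of Q in L (generated by the conjugates of Q inside L). Then L° equals the weak closure of Q in L·C_H(Y), and [L°, C_H(Y)] ≤ O_p(L°); in particular C_H(Y) normalizes L°. -/
theorem result {H : Type*} [Group H] [Finite H] {p : ℕ} [Fact p.Prime] (Q : Subgroup H) (hQp : IsPGroup p ↥Q) (hQ1 : Q ≠ ⊥) (hL : Cfsg.IsLarge Q) (L : Subgroup H) (hQL : Q ≤ L) (Y : Subgroup H) (hYp : IsPGroup p ↥Y) (hY1 : Y ≠ ⊥) (hLY : L ≤ Subgroup.normalizer ((Y : Subgroup H) : Set H)) : Cfsg.weakClosure Q L = Cfsg.weakClosure Q (L ⊔ Subgroup.centralizer ((Y : Subgroup H) : Set H)) ∧ ⁅Cfsg.weakClosure Q L, Subgroup.centralizer ((Y : Subgroup H) : Set H)⁆ ≤ (Cfsg.pCoreOf p (Cfsg.weakClosure Q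 L)) ∧ Subgroup.centralizer ((Y : Subgroup H) : Set H) ≤ Subgroup.normalizer (((Cfsg.weakClosure Q L) : Subgroup H) : Set H) := by
  have hwc := CfsgLib.LocalEven.weaklyClosed_of_large hQp hQ1 hL
  set C := Subgroup.centralizer (Y : Set H) with hC
  set W := Cfsg.weakClosure Q L with hW
  have hWL : W ≤ L := iSup_le fun g => g.2
  have hCQ : C ≤ Subgroup.normalizer (Q : Set H) := by
    obtain ⟨y, hy1, hy⟩ := CfsgLib.LocalEven.exists_ne_one_mem_centralizer hQp hYp hY1 (hQL.trans hLY)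
    refine le_trans ?_ (hL.2 (Subgroup.zpowers y) (Subgroup.zpowers_le.mpr hy.2)
      (fun e => hy1 (Subgroup.zpowers_eq_bot.mp e)))
    exact (Subgroup.centralizer_le (SetLike.coe_subset_coe.mpr (Subgroup.zpowers_le.mpr hy.1))).trans
      (Subgroup.centralizer_le_normalizer _)
  have hLC : L ≤ Subgroup.normalizer (C : Set H) :=
    hLY.trans CfsgLib.LocalEven.le_normalizer_centralizer
  have hkey : ∀ g : H, Q.map (MulAut.conj g).toMonoidHom ≤ L →
      C ≤ Subgroup.normalizer ((Q.map (MulAut.conj g).toMonoidHom : Subgroup H) : Set H) := by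
    intro g hg
    obtain ⟨l, hl, e⟩ := CfsgLib.LocalEven.exists_conj_mem_of_weaklyClosed hQp hwc hQL hg
    rw [e, CfsgLib.LocalEven.normalizer_conj,
      ← CfsgLib.LocalEven.mem_normalizer_conj_iff.mp (hLC hl)]
    exact Subgroup.map_mono hCQ
  have hCW : C ≤ Subgroup.normalizer (W : Set H) := by
    intro c hc
    rw [CfsgLib.LocalEven.mem_normalizer_conj_iff, hW]
    simp only [Cfsg.weakClosure, Subgroup.map_iSup]
    exact iSup_congr fun g => CfsgLib.LocalEven.mem_normalizer_conj_iff.mp (hkey g g.2 hc)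
  refine ⟨le_antisymm ?_ ?_, ?_, hCW⟩
  · exact iSup_le fun g => le_iSup_of_le ⟨g, g.2.trans le_sup_left⟩ le_rfl
  · refine iSup_le fun g => ?_
    obtain ⟨k, hk, e⟩ := CfsgLib.LocalEven.exists_conj_mem_of_weaklyClosed hQp hwc
      (hQL.trans le_sup_left) g.2
    rw [← SetLike.mem_coe, Subgroup.coe_mul_of_left_le_normalizer_right L C hLC] at hk
    obtain ⟨l, hl, c, hc, rfl⟩ := hk
    rw [← CfsgLib.LocalEven.conj_conj, CfsgLib.LocalEven.mem_normalizer_conj_iff.mp (hCQ hc)] at e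
    rw [e]
    refine le_iSup_of_le ⟨l, ?_⟩ le_rfl
    rintro _ ⟨q, hq, rfl⟩
    exact mul_mem (mul_mem hl (hQL hq)) (inv_mem hl)
  · set K := Cfsg.pCoreOf p W
    have hKW : K ≤ W := CfsgLib.LocalEvenB.pCoreOf_le W
    have hWK : W ≤ Subgroup.normalizer (K : Set H) := CfsgLib.LocalEvenB.le_normalizer_pCoreOf W
    have hWC : W ≤ Subgroup.normalizer (C : Set H) := hWL.trans hLC
    have hgen : ∀ g : H, Q.map (MulAut.conj g).toMonoidHom ≤ L →
        ⁅Q.map (MulAut.conj g).toMonoidHom, C⁆ ≤ K := by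
      intro g hg
      set P := Q.map (MulAut.conj g).toMonoidHom
      have hPW : P ≤ W := le_iSup (fun g : {g : H // Q.map (MulAut.conj g).toMonoidHom ≤ L} =>
        Q.map (MulAut.conj (g : H)).toMonoidHom) ⟨g, hg⟩
      refine (le_inf (Subgroup.le_normalizer_iff_commutator_le_left.mp (hkey g hg))
        (Subgroup.le_normalizer_iff_commutator_le_right.mp (hPW.trans hWC))).trans ?_
      exact CfsgLib.LocalEven.le_pCoreOf_of_le_normal (K := W ⊓ C) inf_le_left
        ((le_inf Subgroup.le_normalizer hWC).trans Subgroup.inf_normalizer_le_normalizer_inf)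
        (inf_le_inf_right C hPW) ((hQp.map _).to_le inf_le_left)
        ((inf_le_right.trans (le_inf (hkey g hg) Subgroup.le_normalizer)).trans
          Subgroup.inf_normalizer_le_normalizer_inf)
    let T : Subgroup H :=
      { carrier := {x | x ∈ W ∧ ∀ c ∈ C, x * c * x⁻¹ * c⁻¹ ∈ K}
        one_mem' := ⟨one_mem W, fun c _ => by simp⟩
        mul_mem' := by
          rintro s t ⟨hs, hs'⟩ ⟨ht, ht'⟩
          refine ⟨mul_mem hs ht, fun c hc => ?_⟩
          rw [show s * t * c * (s * t)⁻¹ * c⁻¹ =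
            (s * (t * c * t⁻¹ * c⁻¹) * s⁻¹) * (s * c * s⁻¹ * c⁻¹) by group]
          exact mul_mem ((Subgroup.mem_normalizer_iff.mp (hWK hs) _).mp (ht' c hc)) (hs' c hc)
        inv_mem' := by
          rintro s ⟨hs, hs'⟩
          refine ⟨inv_mem hs, fun c hc => ?_⟩
          rw [show s⁻¹ * c * s⁻¹⁻¹ * c⁻¹ = s⁻¹ * (s * c * s⁻¹ * c⁻¹)⁻¹ * s by group]
          exact (Subgroup.mem_normalizer_iff''.mp (hWK hs) _).mp (inv_mem (hs' c hc)) }
    have hT : W ≤ T := iSup_le fun g x hx =>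
      ⟨le_iSup (fun g : {g : H // Q.map (MulAut.conj g).toMonoidHom ≤ L} =>
        Q.map (MulAut.conj (g : H)).toMonoidHom) g hx,
        fun c hc => hgen g g.2 (Subgroup.commutator_mem_commutator hx hc)⟩
    exact Subgroup.commutator_le.mpr fun x hx c hc => (hT hx).2 c hc

end Cfsg.Agent.S2843
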