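import Cfsg.Statements.S2844
import Cfsg.Agent.Lib.LocalEven.LargestReduced
import Cfsg.Agent.Lib.LocalEven.WeaklyClosed

set_option autoImplicit false
open Cfsg

namespace Cfsg.Agent.S2844

/-- Let Q be a nontrivial large p-subgroup of the finite group H and Q• = O_p(N_H(Q)). Then for every g ∈ H outside N_H(Q): C_H(Q) ∩ C_H(gQg⁻¹) = 1, C_H(Q•) ∩ C_H(gQ•g⁻¹) = 1, Z(Q) ∩ Z(gQg⁻¹) = 1 and Z(Q•) ∩ Z(gQ•g⁻¹) = 1; moreover N_H(Q) = N_H(Q•) and Q• is large in H. -/
theorem result {H : Type*} [Group H] [Finite H] {p : ℕ} [Fact p.Prime] (Q : Subgroup H) (hQp : IsPGroup p ↥Q) (hQ1 : Q ≠ ⊥) (hL : Cfsg.IsLarge Q) (Qb : Subgroup H) (hQb : Qb = Cfsg.largeBullet p Q) : (∀ g : H, g ∉ Subgroup.normalizer ((Q : Subgroup H) : Set H) → Subgroup.centralizer ((Q : Subgroup H) : Set H) ⊓ Subgroup.centralizer ((((Q : Subgroup H).map (MulAut.conj (g : H)).toMonoidHom) : Subgroup H) : Set H) = ⊥ ∧ Subgroup.centralizer ((Qb : Subgroup H) : Set H) ⊓ Subgroup.centralizer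 ((((Qb : Subgroup H).map (MulAut.conj (g : H)).toMonoidHom) : Subgroup H) : Set H) = ⊥ ∧ (Q ⊓ Subgroup.centralizer ((Q : Subgroup H) : Set H)) ⊓ (((Q : Subgroup H).map (MulAut.conj (g : H)).toMonoidHom) ⊓ Subgroup.centralizer ((((Q : Subgroup H).map (MulAut.conj (g : H)).toMonoidHom) : Subgroup H) : Set H)) = ⊥ ∧ (Qb ⊓ Subgroup.centralizer ((Qb : Subgroup H) : Set H)) ⊓ (((Qb : Subgroup H).map (MulAut.conj (g : H)).toMonoidHom) ⊓ Subgroup.centralizer ((((Qb : Subgroup H).map (MulAut.conj (g : H)).toMonoidHom) : Subgroup H) : Set H)) = ⊥) ∧ Subgroup.normalizer ((Q : Subgroup H) : Set H) = Subgroup.normalizer ((Qb : Subgroup H) : Set H) ∧ Cfsg.IsLarge Qb := by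
  obtain ⟨hQc, hQU⟩ := hL
  have hZ : ∀ R : Subgroup H, IsPGroup p ↥R → Q ≤ R →
      Subgroup.normalizer (R : Set H) ≤ Subgroup.normalizer (Q : Set H) := by
    intro R hR hQR
    haveI : Nontrivial ↥R := (Subgroup.nontrivial_iff_ne_bot R).mpr fun h => hQ1 (le_bot_iff.mp (h ▸ hQR))
    haveI := hR.center_nontrivial
    have hne : (Subgroup.center ↥R).map R.subtype ≠ ⊥ := by
      rw [Ne, Subgroup.map_eq_bot_iff_of_injective _ R.subtype_injective]
      exact (Subgroup.nontrivial_iff_ne_bot _).mp inferInstance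
    refine le_trans ?_ (hQU _ ?_ hne)
    · intro n hn
      rw [Subgroup.mem_normalizer_iff]
      have key : ∀ n ∈ Subgroup.normalizer (R : Set H), ∀ x ∈ (Subgroup.center ↥R).map R.subtype,
          n * x * n⁻¹ ∈ (Subgroup.center ↥R).map R.subtype := by
        rintro n hn _ ⟨x, hx, rfl⟩
        refine ⟨⟨n * x * n⁻¹, (Subgroup.mem_normalizer_iff.mp hn _).mp x.2⟩, Subgroup.mem_center_iff.mpr
          fun y => Subtype.ext ?_, rfl⟩
        have h1 := congrArg (fun z : ↥R => n * (z : H) * n⁻¹) (Subgroup.mem_center_iff.mp hx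
          ⟨n⁻¹ * y * n, (Subgroup.mem_normalizer_iff''.mp hn _).mp y.2⟩)
        simpa [mul_assoc] using h1
      intro x
      refine ⟨key n hn x, fun h => ?_⟩
      simpa [mul_assoc] using key _ (inv_mem hn) _ h
    · rintro _ ⟨x, hx, rfl⟩
      exact Subgroup.mem_centralizer_iff.mpr fun q hq =>
        congrArg Subtype.val (Subgroup.mem_center_iff.mp hx ⟨q, hQR hq⟩)
  have hwc := CfsgLib.LocalEven.weaklyClosed_of_normalizer_le hQp hZ
  have hcc : ∀ g : H, g ∉ Subgroup.normalizer (Q : Set H) →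
      Subgroup.centralizer (Q : Set H) ⊓
        Subgroup.centralizer ((Q.map (MulAut.conj g).toMonoidHom : Subgroup H) : Set H) = ⊥ := by
    intro g hg
    by_contra hne
    have hP : Q.map (MulAut.conj g).toMonoidHom ≤ Subgroup.normalizer (Q : Set H) :=
      ((Subgroup.le_centralizer_iff.mp inf_le_right).trans (Subgroup.centralizer_le_normalizer _)).trans
        (hQU _ inf_le_left hne)
    exact hg (CfsgLib.LocalEven.mem_normalizer_conj_iff.mpr
      ((CfsgLib.LocalEven.isWeaklyClosedSubgroup_iff hQp).mp hwc _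
        ((hQp.map _).to_sup_of_normal_right' hQp hP) le_sup_right g le_sup_left))
  have hQQb : Q ≤ Qb := by
    subst hQb
    intro x hx
    refine ⟨⟨x, Subgroup.le_normalizer hx⟩, CfsgLib.Core.le_pCore
      (N := Q.subgroupOf (Subgroup.normalizer (Q : Set H)))
      (hQp.comap_of_injective _ (Subgroup.subtype_injective _)) hx, rfl⟩
  have hQbp : IsPGroup p ↥Qb := by
    subst hQb
    exact (CfsgLib.Core.isPGroup_pCore _ _).map _
  have hN : Subgroup.normalizer (Q : Set H) = Subgroup.normalizer (Qb : Set H) := by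
    refine le_antisymm ?_ (hZ Qb hQbp hQQb)
    subst hQb
    exact CfsgLib.LocalEven.le_normalizer_map_of_normal _ _
  have hCQb : Subgroup.centralizer (Qb : Set H) ≤ Subgroup.centralizer (Q : Set H) :=
    Subgroup.centralizer_le (SetLike.coe_subset_coe.mpr hQQb)
  refine ⟨fun g hg => ?_, hN, (hCQb.trans hQc).trans hQQb,
    fun U hU hU1 => hN ▸ hQU U (hU.trans hCQb) hU1⟩
  have h1 := hcc g hg
  have h2 : Subgroup.centralizer (Qb : Set H) ⊓
      Subgroup.centralizer ((Qb.map (MulAut.conj g).toMonoidHom : Subgroup H) : Set H) = ⊥ :=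
    le_bot_iff.mp (h1 ▸ inf_le_inf hCQb
      (Subgroup.centralizer_le (SetLike.coe_subset_coe.mpr (Subgroup.map_mono hQQb))))
  exact ⟨h1, h2, le_bot_iff.mp (h1 ▸ inf_le_inf inf_le_right inf_le_right),
    le_bot_iff.mp (h2 ▸ inf_le_inf inf_le_right inf_le_right)⟩

end Cfsg.Agent.S2844
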