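import Cfsg.Statements.S2846
import Cfsg.Agent.Lib.LocalEven.Standing
import Cfsg.Agent.S2843

set_option autoImplicit false
open Cfsg

namespace Cfsg.Agent.S2846

/-- Let Q be a nontrivial large p-subgroup of the finite group H, S a Sylow p-subgroup containing Q, and L a subgroup containing S with O_p(L) ≠ 1 and C_H(O_p(L)) ≤ O_p(L). Then there are a subgroup M containing S having the basic property (M ∈ 𝔐_H, writing Y_X for the largest p-reduced normal subgroup of X and 𝓛_H for the set of subgroups X with O_p(X) ≠ 1 and C_H(O_p(X)) ≤ O_p(X): M ∈ 𝓛_H, M·C_H(Y_M) is the only maximal member of 𝓛_H containing M and its largest p-reduced normal subgroup is again Y_M, C_M(Y_M) is p-closed, and the image of C_M(Y_M) in M/O_p(M) lies in the Frattini subgroup of M/O_p(M)) and a subgroup L* with S ≤ L* ≤ M, O_p(L*) ≠ 1, C_H(O_p(L*)) ≤ O_p(L*), such that L·C_H(Y_L) = L*·C_H(Y_L), the weak closures of Q in L and in L* agree and lie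 in that of M, and Y_L = Y_{L*} ≤ Y_M. If moreover Q is not normal in L, then Q is normal in neither L* nor M. -/
theorem result {H : Type*} [Group H] [Finite H] {p : ℕ} [Fact p.Prime] (Q : Subgroup H) (hQp : IsPGroup p ↥Q) (hQ1 : Q ≠ ⊥) (hLg : Cfsg.IsLarge Q) (S : Sylow p H) (hQS : Q ≤ (S : Subgroup H)) (L : Subgroup H) (hSL : (S : Subgroup H) ≤ L) (hL : L ∈ Cfsg.charPSubgroups p H) : ∃ M Ls : Subgroup H, (S : Subgroup H) ≤ M ∧ Cfsg.IsInFrakM p M ∧ (S : Subgroup H) ≤ Ls ∧ Ls ≤ M ∧ Ls ∈ Cfsg.charPSubgroups p H ∧ L ⊔ Subgroup.centralizer (((Cfsg.largestPReducedOf p L) : Subgroup H) : Set H) = Ls ⊔ Subgroup.centralizer (((Cfsg.largestPReducedOf p L) : Subgroup H) : Set H) ∧ Cfsg.weakClosure Q L = Cfsg.weakClosure Q Ls ∧ Cfsg.weakClosure Q Ls ≤ Cfsg.weakClosure Q M ∧ (Cfsg.largestPReducedOf p L) = (Cfsg.largestPReducedOf p Ls) ∧ (Cfsg.largestPReducedOf p Ls) ≤ (Cfsg.largestPReducedOf p M) ∧ (¬ L ≤ Subgroup.normalizer ((Q : Subgroup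 H) : Set H) → ¬ Ls ≤ Subgroup.normalizer ((Q : Subgroup H) : Set H) ∧ ¬ M ≤ Subgroup.normalizer ((Q : Subgroup H) : Set H)) := by
  have hpar := CfsgLib.LocalEven.parabolic_of_large hQp hQ1 hLg
  obtain ⟨M, Ls, hSM, hM, hSLs, hLsM, hLs, hY, hYM, hfac⟩ :=
    CfsgLib.LocalEven.exists_frakM hpar S L hSL hL
  have hY1 : Cfsg.largestPReducedOf p L ≠ ⊥ := CfsgLib.LocalEven.largestOf_ne_bot S
    (CfsgLib.LocalEven.sylow_ne_bot_of_mem S hSL hL) hSL (CfsgLib.LocalEven.hasCharP_of_mem hL)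
  have hYp : IsPGroup p ↥(Cfsg.largestPReducedOf p L) :=
    (CfsgLib.LocalEvenB.isPGroup_pCoreOf L).to_le (CfsgLib.LocalEven.largestOf_le_pCoreOf L)
  have hwc : Cfsg.weakClosure Q L = Cfsg.weakClosure Q Ls := by
    rw [(S2843.result Q hQp hQ1 hLg L (hQS.trans hSL) _ hYp hY1
        (CfsgLib.LocalEven.le_normalizer_largestOf L)).1, hfac]
    exact ((S2843.result Q hQp hQ1 hLg Ls (hQS.trans hSLs) _ hYp hY1
      (hY ▸ CfsgLib.LocalEven.le_normalizer_largestOf Ls)).1).symm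
  have hmono : Cfsg.weakClosure Q Ls ≤ Cfsg.weakClosure Q M :=
    iSup_le fun g => le_iSup_of_le (ι := {g : H // Q.map (MulAut.conj g).toMonoidHom ≤ M})
      ⟨g, g.2.trans hLsM⟩ le_rfl
  have hQwc := CfsgLib.LocalEven.weaklyClosed_of_large hQp hQ1 hLg
  have key : ¬ L ≤ Subgroup.normalizer (Q : Set H) → ¬ Ls ≤ Subgroup.normalizer (Q : Set H) := by
    intro hne hn
    apply hne
    intro l hl
    have h1 : Q.map (MulAut.conj l).toMonoidHom ≤ Cfsg.weakClosure Q L := by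
      refine le_iSup_of_le (ι := {g : H // Q.map (MulAut.conj g).toMonoidHom ≤ L}) ⟨l, ?_⟩ le_rfl
      rintro _ ⟨q, hq, rfl⟩
      exact mul_mem (mul_mem hl (hSL (hQS hq))) (inv_mem hl)
    have h2 : Cfsg.weakClosure Q Ls ≤ Q := iSup_le fun g =>
      ((CfsgLib.LocalEven.isWeaklyClosedSubgroup_iff hQp).mp hQwc _
        ((hQp.map _).to_sup_of_normal_right' hQp (g.2.trans hn)) le_sup_right g le_sup_left).le
    exact CfsgLib.LocalEven.mem_normalizer_conj_iff.mpr (Subgroup.eq_of_le_of_card_ge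
      (h1.trans (hwc.le.trans h2)) (Subgroup.card_map_of_injective (MulAut.conj l).injective).ge)
  exact ⟨M, Ls, hSM, hM, hSLs, hLsM, hLs, hfac, hwc, hmono, hY, hY ▸ hYM,
    fun h => ⟨key h, fun hn => key h (hLsM.trans hn)⟩⟩

end Cfsg.Agent.S2846
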