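import Cfsg.Statements.S2848
import Cfsg.Agent.Lib.LocalEven.CharPWeak
import Cfsg.Agent.Lib.LocalEven.LargestReduced

set_option autoImplicit false
open Cfsg

namespace Cfsg.Agent.S2848

/-- Standing hypotheses: G a finite group, S a Sylow p-subgroup, Q a nontrivial large p-subgroup of G contained in S (C_G(Q) ≤ Q and N_G(U) ≤ N_G(Q) for all nontrivial U ≤ C_G(Q)), and M a subgroup containing S with the basic property (M ∈ 𝔐_G(S)); Y_M denotes the largest p-reduced normal subgroup of M and M† = M·C_G(Y_M). Then O_p(M) is a weakly closed subgroup of M† (for p): it is the only M†-conjugate of itself inside some Sylow p-subgroup of M† containing it. -/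
theorem result {G : Type*} [Group G] [Finite G] {p : ℕ} [Fact p.Prime] (S : Sylow p G) (Q : Subgroup G) (hQp : IsPGroup p ↥Q) (hQ1 : Q ≠ ⊥) (hQS : Q ≤ (S : Subgroup G)) (hQ : Cfsg.IsLarge Q) (M : Subgroup G) (hSM : (S : Subgroup G) ≤ M) (hM : Cfsg.IsInFrakM p M) : Cfsg.IsWeaklyClosedSubgroup p (((Cfsg.pCoreOf p M)).subgroupOf (M ⊔ Subgroup.centralizer (((Cfsg.largestPReducedOf p M) : Subgroup G) : Set G))) := by
  obtain ⟨hMc, -, -, -, hclosed, -⟩ := hM
  set Y := Cfsg.largestPReducedOf p M
  set C := Subgroup.centralizer (Y : Set G) with hC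
  set Md := M ⊔ C
  set O := Cfsg.pCoreOf p M
  have hred := CfsgLib.LocalEven.isPReducedNormal_largest (L := ↥M) (p := p)
  haveI := hred.1
  have hMN : M ≤ Subgroup.normalizer (C : Set G) :=
    (CfsgLib.LocalEven.le_normalizer_map_of_normal M _).trans CfsgLib.LocalEven.le_normalizer_centralizer
  have hOC : O ≤ C :=
    (Subgroup.map_mono (CfsgLib.LocalEven.pCore_le_centralizer hred)).trans
      ((CfsgLib.LocalEven.map_centralizer_eq M _).le.trans inf_le_right)
  have hOM : O ≤ M := Subgroup.map_subtype_le _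
  have hSC : (S : Subgroup G) ⊓ C ≤ O := by
    have hC' : ((M ⊓ C).subgroupOf M).Normal :=
      (Subgroup.normal_subgroupOf_iff_le_normalizer inf_le_left).mpr
        ((le_inf Subgroup.le_normalizer hMN).trans Subgroup.inf_normalizer_le_normalizer_inf)
    have hcl : Cfsg.IsPClosed p ↥((M ⊓ C).subgroupOf M) :=
      (CfsgLib.LocalEven.pClosed_iff_of_mulEquiv
        (Subgroup.subgroupOfEquivOfLe (inf_le_left : M ⊓ C ≤ M)).symm).mpr hclosed
    intro x hx
    exact ⟨⟨x, hSM hx.1⟩, (CfsgLib.LocalEven.pClosed_normal_iff _).mp hcl (S.subtype hSM)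
      ⟨Subgroup.mem_subgroupOf.mpr hx.1, Subgroup.mem_subgroupOf.mpr ⟨hSM hx.1, hx.2⟩⟩, rfl⟩
  have hOS : O ≤ (S : Subgroup G) := by
    refine (Subgroup.map_mono (CfsgLib.Core.pCore_le_sylow (S.subtype hSM))).trans ?_
    rw [Sylow.coe_subtype, Subgroup.subgroupOf_map_subtype]
    exact inf_le_left
  have hSd : (S : Subgroup G) ≤ Md := hSM.trans le_sup_left
  refine ⟨S.subtype hSd, Subgroup.comap_mono hOS, fun g hg => ?_⟩
  have e : ((O.subgroupOf Md).map (MulAut.conj g).toMonoidHom).map Md.subtype =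
      O.map (MulAut.conj (g : G)).toMonoidHom := by
    rw [Subgroup.map_map, show Md.subtype.comp (MulAut.conj g).toMonoidHom =
      (MulAut.conj (g : G)).toMonoidHom.comp Md.subtype from MonoidHom.ext fun _ => rfl,
      ← Subgroup.map_map, Subgroup.map_subgroupOf_eq_of_le (hOM.trans le_sup_left)]
  apply Subgroup.map_injective Md.subtype_injective
  rw [e, Subgroup.map_subgroupOf_eq_of_le (hOM.trans le_sup_left)]
  have h1 : O.map (MulAut.conj (g : G)).toMonoidHom ≤ (S : Subgroup G) := by
    rw [← e]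
    refine (Subgroup.map_mono hg).trans ?_
    rw [Sylow.coe_subtype, Subgroup.map_subgroupOf_eq_of_le hSd]
  have hgC : (g : G) ∈ Subgroup.normalizer (C : Set G) := sup_le hMN Subgroup.le_normalizer g.2
  exact Subgroup.eq_of_le_of_card_ge ((le_inf h1 ((Subgroup.map_mono hOC).trans
    (CfsgLib.LocalEven.mem_normalizer_conj_iff.mp hgC).le)).trans hSC)
    (Subgroup.card_map_of_injective (MulAut.conj (g : G)).injective).ge

end Cfsg.Agent.S2848
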