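import Cfsg.Statements.S2849
import Cfsg.Agent.Lib.LocalEven.CharPWeak
import Cfsg.Agent.Lib.LocalEven.LargestReduced

set_option autoImplicit false
open Cfsg

namespace Cfsg.Agent.S2849

/-- Standing hypotheses: G a finite group, S a Sylow p-subgroup, Q a nontrivial large p-subgroup of G contained in S (C_G(Q) ≤ Q and N_G(U) ≤ N_G(Q) for all nontrivial U ≤ C_G(Q)), and M a subgroup containing S with the basic property (M ∈ 𝔐_G(S)); Y_M denotes the largest p-reduced normal subgroup of M and M† = M·C_G(Y_M). Suppose Y_M is asymmetric in G. Then for every subgroup R with Y_M ≤ R ≤ M†, the normal closure of Y_M in N_G(R) is elementary abelian. -/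
theorem result {G : Type*} [Group G] [Finite G] {p : ℕ} [Fact p.Prime] (S : Sylow p G) (Q : Subgroup G) (hQp : IsPGroup p ↥Q) (hQ1 : Q ≠ ⊥) (hQS : Q ≤ (S : Subgroup G)) (hQ : Cfsg.IsLarge Q) (M : Subgroup G) (hSM : (S : Subgroup G) ≤ M) (hM : Cfsg.IsInFrakM p M) (hasym : ¬ Cfsg.IsSymmetricIn (Cfsg.largestPReducedOf p M)) (R : Subgroup G) (hYR : (Cfsg.largestPReducedOf p M) ≤ R) (hRM : R ≤ (M ⊔ Subgroup.centralizer (((Cfsg.largestPReducedOf p M) : Subgroup G) : Set G))) : Cfsg.IsElementaryAbelian p ((Subgroup.normalClosure ((((Cfsg.largestPReducedOf p M)).subgroupOf (Subgroup.normalizer ((R : Subgroup G) : Set G)) : Subgroup ↥(Subgroup.normalizer ((R : Subgroup G) : Set G))) : Set ↥(Subgroup.normalizer ((R : Subgroup G) : Set G)))).map (Subgroup.normalizer ((R : Subgroup G) : Set G)).subtype) := by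
  set Y := Cfsg.largestPReducedOf p M with hY
  set N := Subgroup.normalizer (R : Set G)
  have hred := CfsgLib.LocalEven.isPReducedNormal_largest (L := ↥M) (p := p)
  haveI := hred.1
  have hMY : M ⊔ Subgroup.centralizer (Y : Set G) ≤ Subgroup.normalizer (Y : Set G) :=
    sup_le (CfsgLib.LocalEven.le_normalizer_map_of_normal M _) (Subgroup.centralizer_le_normalizer _)
  have hYN : Y ≤ N := hYR.trans Subgroup.le_normalizer
  have hstep : ∀ g ∈ N, ⁅Y, Y.map (MulAut.conj g).toMonoidHom⁆ = ⊥ := by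
    intro g hg
    by_contra hne
    have hR : R.map (MulAut.conj g).toMonoidHom = R := CfsgLib.LocalEven.mem_normalizer_conj_iff.mp hg
    have hYgR : Y.map (MulAut.conj g).toMonoidHom ≤ R := (Subgroup.map_mono hYR).trans hR.le
    have hYgN : Y ≤ Subgroup.normalizer ((Y.map (MulAut.conj g).toMonoidHom : Subgroup G) : Set G) := by
      rw [CfsgLib.LocalEven.normalizer_conj]
      exact hYR.trans (hR.ge.trans (Subgroup.map_mono (hRM.trans hMY)))
    exact hasym ⟨g, hne, le_inf
      (Subgroup.le_normalizer_iff_commutator_le_left.mp ((hYgR.trans hRM).trans hMY))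
      (Subgroup.le_normalizer_iff_commutator_le_right.mp hYgN)⟩
  set S : Set ↥N := ((Y.subgroupOf N : Subgroup ↥N) : Set ↥N)
  have hmem : ∀ x ∈ Subgroup.normalClosure S, ∀ y ∈ Subgroup.normalClosure S, x * y = y * x := by
    have h1 : ∀ a ∈ Group.conjugatesOfSet S, ∀ b ∈ Group.conjugatesOfSet S, a * b = b * a := by
      intro a ha b hb
      obtain ⟨a₀, ha₀, hca⟩ := Group.mem_conjugatesOfSet_iff.mp ha
      obtain ⟨u, rfl⟩ := isConj_iff.mp hca
      obtain ⟨b₀, hb₀, hcb⟩ := Group.mem_conjugatesOfSet_iff.mp hb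
      obtain ⟨v, rfl⟩ := isConj_iff.mp hcb
      have h := Subgroup.mem_centralizer_iff.mp
        (Subgroup.commutator_eq_bot_iff_le_centralizer.mp (hstep ((u⁻¹ * v : ↥N) : G) (u⁻¹ * v).2)
          (Subgroup.mem_subgroupOf.mp ha₀)) _
        (CfsgLib.LocalEven.conj_mem_conj (Subgroup.mem_subgroupOf.mp hb₀))
      apply Subtype.ext
      have h2 := congrArg (fun z : G => (u : G) * z * (u : G)⁻¹) h
      simp only [Subgroup.coe_mul, Subgroup.coe_inv] at h2 ⊢
      simpa [mul_assoc] using h2.symm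
    intro x hx y hy
    have h2 : Subgroup.normalClosure S ≤ Subgroup.centralizer (Group.conjugatesOfSet S) :=
      (Subgroup.closure_le _).mpr fun a ha => Subgroup.mem_centralizer_iff.mpr fun b hb => h1 b hb a ha
    have h3 : Subgroup.normalClosure S ≤ Subgroup.centralizer (Subgroup.normalClosure S : Set ↥N) := by
      rw [Subgroup.le_centralizer_iff]
      refine (Subgroup.closure_le _).mpr fun a ha => Subgroup.mem_centralizer_iff.mpr fun b hb => ?_
      exact (Subgroup.mem_centralizer_iff.mp (h2 hb) a ha).symm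
    exact Subgroup.mem_centralizer_iff.mp (h3 hy) x hx
  refine ⟨isMulCommutative_iff.mpr ?_, ?_⟩
  · rintro ⟨_, a, ha, rfl⟩ ⟨_, b, hb, rfl⟩
    exact Subtype.ext (congrArg N.subtype (hmem a ha b hb))
  · rintro _ ⟨x, hx, rfl⟩
    rw [← map_pow]
    suffices x ^ p = 1 by rw [this, map_one]
    induction hx using Subgroup.closure_induction with
    | mem a ha =>
      obtain ⟨a₀, ha₀, hca⟩ := Group.mem_conjugatesOfSet_iff.mp ha
      obtain ⟨u, rfl⟩ := isConj_iff.mp hca
      obtain ⟨z, hz, ez⟩ := Subgroup.mem_subgroupOf.mp ha₀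
      rw [conj_pow, show a₀ ^ p = 1 from Subtype.ext (by
        rw [SubgroupClass.coe_pow, ← ez, ← map_pow, hred.2.1.2 z hz, map_one]; rfl)]
      simp
    | one => exact one_pow p
    | mul a b ha hb iha ihb => rw [Commute.mul_pow (hmem a ha b hb), iha, ihb, one_mul]
    | inv a _ iha => rw [inv_pow, iha, inv_one]

end Cfsg.Agent.S2849
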