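import Cfsg.Statements.S2850
import Cfsg.Agent.Lib.LocalEven.CharPWeak
import Cfsg.Agent.Lib.LocalEven.LargestReduced
import Cfsg.Agent.S2845
import Cfsg.Agent.S2848

set_option autoImplicit false
open Cfsg

namespace Cfsg.Agent.S2850

/-- Standing hypotheses: G a finite group, S a Sylow p-subgroup, Q a nontrivial large p-subgroup of G contained in S (C_G(Q) ≤ Q and N_G(U) ≤ N_G(Q) for all nontrivial U ≤ C_G(Q)), and M a subgroup containing S with the basic property (M ∈ 𝔐_G(S)); Y_M denotes the largest p-reduced normal subgroup of M and M† = M·C_G(Y_M). Suppose Y_M is asymmetric in G. Then N_G(L) ≤ N_G(O_p(M)) ≤ M† for every p-subgroup L containing O_p(M); O_p(M) is a weakly closed subgroup of G; for every subgroup L containing O_p(M), L ∩ M† contains a Sylow p-subgroup of L; and two elements of Y_M conjugate in G are conjugate in M. -/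
theorem result {G : Type*} [Group G] [Finite G] {p : ℕ} [Fact p.Prime] (S : Sylow p G) (Q : Subgroup G) (hQp : IsPGroup p ↥Q) (hQ1 : Q ≠ ⊥) (hQS : Q ≤ (S : Subgroup G)) (hQ : Cfsg.IsLarge Q) (M : Subgroup G) (hSM : (S : Subgroup G) ≤ M) (hM : Cfsg.IsInFrakM p M) (hasym : ¬ Cfsg.IsSymmetricIn (Cfsg.largestPReducedOf p M)) : (∀ L : Subgroup G, IsPGroup p ↥L → (Cfsg.pCoreOf p M) ≤ L → Subgroup.normalizer ((L : Subgroup G) : Set G) ≤ Subgroup.normalizer (((Cfsg.pCoreOf p M) : Subgroup G) : Set G) ∧ Subgroup.normalizer (((Cfsg.pCoreOf p M) : Subgroup G) : Set G) ≤ (M ⊔ Subgroup.centralizer (((Cfsg.largestPReducedOf p M) : Subgroup G) : Set G))) ∧ Cfsg.IsWeaklyClosedSubgroup p (Cfsg.pCoreOf p M) ∧ (∀ L : Subgroup G, (Cfsg.pCoreOf p M) ≤ L → Cfsg.IsParabolic p ((L ⊓ (M ⊔ Subgroup.centralizer (((Cfsg.largestPReducedOf p M) : Subgroup G) : Set G))).subgroupOf L)) ∧ (∀ x ∈ (Cfsg.largestPReducedOf p M), ∀ g : G, g * x * g⁻¹ ∈ (Cfsg.largestPReducedOf p M) → ∃ m ∈ M, m * x * m⁻¹ = g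 * x * g⁻¹) := by
  obtain ⟨hMcp, -, huniq, -, hclosed, -⟩ := id hM
  set Y := Cfsg.largestPReducedOf p M with hYdef
  set C := Subgroup.centralizer (Y : Set G) with hC
  set Md := M ⊔ C with hMd
  set O := Cfsg.pCoreOf p M with hOdef
  have hred := CfsgLib.LocalEven.isPReducedNormal_largest (L := ↥M) (p := p)
  haveI := hred.1
  have hMY : M ≤ Subgroup.normalizer (Y : Set G) := CfsgLib.LocalEven.le_normalizer_map_of_normal M _
  have hMC : M ≤ Subgroup.normalizer (C : Set G) :=
    hMY.trans CfsgLib.LocalEven.le_normalizer_centralizer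
  have hMdY : Md ≤ Subgroup.normalizer (Y : Set G) :=
    sup_le hMY (Subgroup.centralizer_le_normalizer _)
  have hOC : O ≤ C :=
    (Subgroup.map_mono (CfsgLib.LocalEven.pCore_le_centralizer hred)).trans
      ((CfsgLib.LocalEven.map_centralizer_eq M _).le.trans inf_le_right)
  have hYO : Y ≤ O := Subgroup.map_mono CfsgLib.LocalEven.largest_le_pCore
  have hOp : IsPGroup p ↥O := CfsgLib.LocalEvenB.isPGroup_pCoreOf M
  have hOMd : O ≤ Md := (CfsgLib.LocalEvenB.pCoreOf_le M).trans le_sup_left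
  have hY1 : Y ≠ ⊥ := by
    haveI : Nontrivial ↥(S : Subgroup G) := (Subgroup.nontrivial_iff_ne_bot _).mpr
      fun h => hQ1 (le_bot_iff.mp (h ▸ hQS))
    have hne : (Subgroup.center ↥(S : Subgroup G)) ≠ ⊥ :=
      haveI := S.2.center_nontrivial
      (Subgroup.nontrivial_iff_ne_bot _).mp inferInstance
    obtain ⟨x, hx, hxp⟩ := CfsgLib.LocalEven.exists_order_p (S.2.to_subgroup _) hne
    intro hY
    have hmem : (x : G) ∈ Cfsg.sylowCenterClosure p M := by
      refine Subgroup.mem_iSup_of_mem (S.subtype hSM) (Subgroup.subset_closure ?_)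
      rw [Sylow.coe_subtype, Subgroup.map_subgroupOf_eq_of_le hSM]
      refine ⟨⟨x.2, Subgroup.mem_centralizer_iff.mpr fun s hs =>
        congrArg Subtype.val (Subgroup.mem_center_iff.mp hx ⟨s, hs⟩)⟩, ?_⟩
      exact congrArg Subtype.val (orderOf_dvd_iff_pow_eq_one.mp hxp.dvd)
    rw [CfsgLib.LocalEven.sylowCenterClosure_eq] at hmem
    have : (x : G) ∈ Y := (Subgroup.map_mono (CfsgLib.LocalEven.centerClosure_le_largest
      ((CfsgLib.LocalEvenB.hasCharP_iff M).mp (inf_le_right.trans hMcp.2))) hmem)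
    rw [hY, Subgroup.mem_bot] at this
    have h1 : x = 1 := Subtype.ext this
    rw [h1, orderOf_one] at hxp
    exact (Fact.out : p.Prime).ne_one hxp.symm
  have hloc : ∀ X : Subgroup G, M ≤ X → Cfsg.pCore p ↥X ≠ ⊥ → X ≤ Md := by
    intro X hMX hO1
    have hX : X ∈ Cfsg.charPSubgroups p G :=
      ⟨hO1, (S2845.result Q hQp hQ1 hQ).2.1 X ⟨S, hSM.trans hMX⟩ hO1⟩
    obtain ⟨Z, ⟨hXZ, hZ⟩, hmax⟩ : ∃ Z, (X ≤ Z ∧ Z ∈ Cfsg.charPSubgroups p G) ∧
        ∀ Z', Z' ∈ Cfsg.charPSubgroups p G → Z ≤ Z' → Z' = Z := by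
      obtain ⟨Z, hle, hZ⟩ := Finite.exists_le_maximal
        (p := fun Z : Subgroup G => Z ∈ Cfsg.charPSubgroups p G) hX
      exact ⟨Z, ⟨hle, hZ.prop⟩, fun Z' h h' => le_antisymm (hZ.le_of_ge h h') h'⟩
    exact (huniq Z ⟨hZ, hmax⟩ (hMX.trans hXZ)) ▸ hXZ
  have hO1 : O ≠ ⊥ := fun e => hMcp.1 ((Subgroup.map_eq_bot_iff_of_injective _ M.subtype_injective).mp e)
  have hNO : Subgroup.normalizer (O : Set G) ≤ Md := by
    refine hloc _ (CfsgLib.LocalEvenB.le_normalizer_pCoreOf M) fun e => hO1 (le_bot_iff.mp ?_)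
    have := CfsgLib.LocalEvenB.le_pCoreOf (Subgroup.le_normalizer (H := O)) hOp le_rfl
    rwa [Cfsg.pCoreOf, e, Subgroup.map_bot] at this
  have hwcd := S2848.result S Q hQp hQ1 hQS hQ M hSM hM
  -- the key step
  have key : ∀ L : Subgroup G, IsPGroup p ↥L → O ≤ L → L ≤ Md →
      Subgroup.normalizer (L : Set G) ≤ Subgroup.normalizer (O : Set G) := by
    intro L hLp hOL hLd n hn
    have hOp' : IsPGroup p ↥(O.subgroupOf Md) := hOp.of_equiv (Subgroup.subgroupOfEquivOfLe hOMd).symm
    have hLp' : IsPGroup p ↥(L.subgroupOf Md) := hLp.of_equiv (Subgroup.subgroupOfEquivOfLe hLd).symm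
    -- `O = C_L(Y)`
    have hCL : L ⊓ C ≤ O := by
      obtain ⟨P, hP⟩ := hLp'.exists_le_sylow
      have hSd : (S : Subgroup G) ≤ Md := hSM.trans le_sup_left
      obtain ⟨a, ha⟩ := CfsgLib.LocalEven.sylow_conj (S.subtype hSd) P
      have hPa : L ≤ ((S : Subgroup G)).map (MulAut.conj (a : G)).toMonoidHom := by
        intro x hx
        have hx' : (⟨x, hLd hx⟩ : ↥Md) ∈ (S.subtype hSd : Subgroup ↥Md).map (MulAut.conj a).toMonoidHom :=
          ha.ge (hP hx)
        rw [CfsgLib.LocalEven.mem_conj] at hx' ⊢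
        exact hx'
      have haC : (a : G) ∈ Subgroup.normalizer (C : Set G) := sup_le hMC Subgroup.le_normalizer a.2
      have hSC : (S : Subgroup G) ⊓ C ≤ O := by
        haveI : ((M ⊓ C).subgroupOf M).Normal :=
          (Subgroup.normal_subgroupOf_iff_le_normalizer inf_le_left).mpr
            ((le_inf Subgroup.le_normalizer hMC).trans Subgroup.inf_normalizer_le_normalizer_inf)
        have hcl : Cfsg.IsPClosed p ↥((M ⊓ C).subgroupOf M) :=
          (CfsgLib.LocalEven.pClosed_iff_of_mulEquiv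
            (Subgroup.subgroupOfEquivOfLe (inf_le_left : M ⊓ C ≤ M)).symm).mpr hclosed
        intro x hx
        exact ⟨⟨x, hSM hx.1⟩, (CfsgLib.LocalEven.pClosed_normal_iff _).mp hcl (S.subtype hSM)
          ⟨Subgroup.mem_subgroupOf.mpr hx.1, Subgroup.mem_subgroupOf.mpr ⟨hSM hx.1, hx.2⟩⟩, rfl⟩
      have h1 : L ⊓ C ≤ O.map (MulAut.conj (a : G)).toMonoidHom := by
        refine le_trans ?_ (Subgroup.map_mono hSC)
        rw [Subgroup.map_inf _ _ _ (MulAut.conj (a : G)).injective,
          CfsgLib.LocalEven.mem_normalizer_conj_iff.mp haC]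
        exact inf_le_inf_right C hPa
      exact (Subgroup.eq_of_le_of_card_ge ((le_inf hOL hOC).trans h1)
        (Subgroup.card_map_of_injective (MulAut.conj (a : G)).injective).le) ▸ h1
    set K := Subgroup.closure ((M : Set G) ∪ {n}) with hK
    have hword : ∀ k : ℕ, ∀ l : List G, l.length ≤ k →
        (∀ g ∈ l, g ∈ M ∨ g ∈ Subgroup.normalizer (L : Set G)) →
        Y.map (MulAut.conj l.prod).toMonoidHom ≤ O := by
      intro k
      induction k with
      | zero =>
        intro l hl _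
        rw [List.eq_nil_of_length_eq_zero (Nat.le_zero.mp hl), List.prod_nil, CfsgLib.LocalEven.conj_one]
        exact hYO
      | succ k ih =>
        have hone : ∀ l : List G, l.length ≤ k + 1 →
            (∀ g ∈ l, g ∈ M ∨ g ∈ Subgroup.normalizer (L : Set G)) →
            Y.map (MulAut.conj l.prod).toMonoidHom ≤ L ∧
              ((∃ g l', l = g :: l' ∧ g ∈ M) → Y.map (MulAut.conj l.prod).toMonoidHom ≤ O) := by
          intro l hl hg
          cases l with
          | nil =>
            rw [List.prod_nil, CfsgLib.LocalEven.conj_one]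
            exact ⟨hYO.trans hOL, fun ⟨g, l', h, _⟩ => by simp at h⟩
          | cons g l =>
            have h1 := ih l (by simpa using hl) fun x hx => hg x (List.mem_cons_of_mem g hx)
            rw [List.prod_cons, ← CfsgLib.LocalEven.conj_conj]
            have h2 := Subgroup.map_mono (f := (MulAut.conj g).toMonoidHom) h1
            refine ⟨?_, fun ⟨g', l', h, hg'⟩ => ?_⟩
            · rcases hg g List.mem_cons_self with hgM | hgL
              · rw [CfsgLib.LocalEven.mem_normalizer_conj_iff.mp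
                  (CfsgLib.LocalEvenB.le_normalizer_pCoreOf M hgM)] at h2
                exact h2.trans hOL
              · exact (Subgroup.map_mono (h1.trans hOL)).trans
                  (CfsgLib.LocalEven.mem_normalizer_conj_iff.mp hgL).le
            · obtain ⟨rfl, rfl⟩ := List.cons_eq_cons.mp h
              rwa [CfsgLib.LocalEven.mem_normalizer_conj_iff.mp
                (CfsgLib.LocalEvenB.le_normalizer_pCoreOf M hg')] at h2
        intro l hl hg
        set x := l.prod with hx
        have h1 := (hone l hl hg).1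
        have h2 := (hone (l.map Inv.inv).reverse (by simpa using hl) (fun g hg' => by
          obtain ⟨a, ha, rfl⟩ := List.mem_map.mp (List.mem_reverse.mp hg')
          exact (hg a ha).imp inv_mem inv_mem)).1
        rw [← List.prod_inv_reverse, ← hx] at h2
        have hcomm : ⁅Y, Y.map (MulAut.conj x).toMonoidHom⁆ = ⊥ := by
          by_contra hne
          refine hasym ⟨x, hne, le_inf
            (Subgroup.le_normalizer_iff_commutator_le_left.mp ((h1.trans hLd).trans hMdY))
            (Subgroup.le_normalizer_iff_commutator_le_right.mp ?_)⟩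
          exact CfsgLib.LocalEven.le_normalizer_conj ((h2.trans hLd).trans hMdY)
        exact (le_inf h1 (Subgroup.le_centralizer_iff.mp
          (Subgroup.commutator_eq_bot_iff_le_centralizer.mp hcomm))).trans hCL
    have hKO : ∀ x ∈ K, Y.map (MulAut.conj x).toMonoidHom ≤ O := by
      intro x hx
      rw [hK, ← Subgroup.mem_toSubmonoid, Subgroup.closure_toSubmonoid_of_finite] at hx
      obtain ⟨l, hl, rfl⟩ := Submonoid.exists_list_of_mem_closure hx
      exact hword l.length l le_rfl fun g hg => (hl g hg).imp id (fun h => by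
        rw [Set.mem_singleton_iff.mp h]; exact hn)
    set V := ⨆ k : ↥K, Y.map (MulAut.conj (k : G)).toMonoidHom with hV
    have hVO : V ≤ O := iSup_le fun k => hKO k k.2
    have hKV : K ≤ Subgroup.normalizer (V : Set G) := by
      intro k hk
      rw [CfsgLib.LocalEven.mem_normalizer_conj_iff, hV, Subgroup.map_iSup]
      simp only [CfsgLib.LocalEven.conj_conj]
      exact Equiv.iSup_congr (Equiv.mulLeft (⟨k, hk⟩ : ↥K)) fun _ => rfl
    have hV1 : V ≠ ⊥ := fun e => hY1 (le_bot_iff.mp (e ▸ le_iSup_of_le (1 : ↥K)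
      (by rw [Subgroup.coe_one, CfsgLib.LocalEven.conj_one])))
    have hNV := hloc (Subgroup.normalizer (V : Set G))
      (le_trans (fun m hm => Subgroup.subset_closure (Or.inl hm)) hKV) fun e => hV1 (le_bot_iff.mp (by
        have := CfsgLib.LocalEvenB.le_pCoreOf (Subgroup.le_normalizer (H := V)) (hOp.to_le hVO) le_rfl
        rwa [Cfsg.pCoreOf, e, Subgroup.map_bot] at this))
    have hnd : n ∈ Md := hNV (hKV (Subgroup.subset_closure (Or.inr rfl)))
    have h5 := CfsgLib.LocalEven.normalizer_le_of_weaklyClosed hOp' hwcd hLp'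
      (Subgroup.comap_mono hOL) (show (⟨n, hnd⟩ : ↥Md) ∈ _ from by
        rw [← Subgroup.subgroupOf_normalizer_eq hLd]; exact hn)
    rw [← Subgroup.subgroupOf_normalizer_eq hOMd] at h5
    exact h5
  have main : ∀ L : Subgroup G, IsPGroup p ↥L → O ≤ L →
      Subgroup.normalizer (L : Set G) ≤ Subgroup.normalizer (O : Set G) := by
    intro L hLp hOL
    suffices h : L ≤ Md from key L hLp hOL h
    have hL₁ := key (L ⊓ Subgroup.normalizer (O : Set G)) (hLp.to_le inf_le_left)
      (le_inf hOL Subgroup.le_normalizer) (inf_le_right.trans hNO)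
    rw [← CfsgLib.LocalEven.eq_of_normalizer_inf_le hLp
      (inf_le_left : L ⊓ Subgroup.normalizer (O : Set G) ≤ L)
      (le_inf inf_le_left (inf_le_right.trans hL₁))]
    exact inf_le_right.trans hNO
  have hwc := CfsgLib.LocalEven.weaklyClosed_of_normalizer_le hOp main
  refine ⟨fun L hL hOL => ⟨main L hL hOL, hNO⟩, hwc, fun L hOL => ?_, fun x hx g hgx => ?_⟩
  · obtain ⟨P, hP⟩ := (hOp.of_equiv (Subgroup.subgroupOfEquivOfLe hOL).symm :
      IsPGroup p (O.subgroupOf L)).exists_le_sylow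
    refine ⟨P, fun y hy => Subgroup.mem_subgroupOf.mpr ⟨y.2, hNO ?_⟩⟩
    exact CfsgLib.LocalEven.le_normalizer_of_weaklyClosed hOp hwc (P.2.map L.subtype)
      (by rw [← Subgroup.map_subgroupOf_eq_of_le hOL]; exact Subgroup.map_mono hP)
      (Subgroup.mem_map_of_mem L.subtype hy)
  · have hOx : ∀ y ∈ Y, O ≤ Subgroup.centralizer ({y} : Set G) := fun y hy o ho => by
      rw [Subgroup.mem_centralizer_iff]
      intro z hz
      rw [Set.mem_singleton_iff.mp hz]
      exact Subgroup.mem_centralizer_iff.mp (hOC ho) y hy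
    have hg' : O.map (MulAut.conj g).toMonoidHom ≤ Subgroup.centralizer ({g * x * g⁻¹} : Set G) := by
      rintro _ ⟨o, ho, rfl⟩
      rw [Subgroup.mem_centralizer_iff]
      intro z hz
      rw [Set.mem_singleton_iff.mp hz]
      show g * x * g⁻¹ * (g * o * g⁻¹) = g * o * g⁻¹ * (g * x * g⁻¹)
      have := Subgroup.mem_centralizer_iff.mp (hOx x hx ho) x rfl
      calc g * x * g⁻¹ * (g * o * g⁻¹) = g * (x * o) * g⁻¹ := by group
        _ = g * (o * x) * g⁻¹ := by rw [this]
        _ = _ := by group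
    obtain ⟨c, hc, e⟩ := CfsgLib.LocalEven.exists_conj_mem_of_weaklyClosed hOp hwc (hOx _ hgx) hg'
    have hN : c⁻¹ * g ∈ Md := by
      refine hNO ?_
      rw [CfsgLib.LocalEven.mem_normalizer_conj_iff, ← CfsgLib.LocalEven.conj_conj, e,
        CfsgLib.LocalEven.conj_conj, inv_mul_cancel, CfsgLib.LocalEven.conj_one]
    rw [← SetLike.mem_coe, hMd, Subgroup.coe_mul_of_left_le_normalizer_right M C hMC] at hN
    obtain ⟨m, hm, d, hd, e'⟩ := hN
    refine ⟨m, hm, ?_⟩
    have hdx : d * x * d⁻¹ = x := by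
      rw [← Subgroup.mem_centralizer_iff.mp hd x hx, mul_inv_cancel_right]
    have hcx : g * x * g⁻¹ = c⁻¹ * (g * x * g⁻¹) * c := by
      rw [mul_assoc c⁻¹, Subgroup.mem_centralizer_iff.mp hc _ rfl, ← mul_assoc, inv_mul_cancel,
        one_mul]
    calc m * x * m⁻¹ = m * (d * x * d⁻¹) * m⁻¹ := by rw [hdx]
      _ = (m * d) * x * (m * d)⁻¹ := by group
      _ = (c⁻¹ * g) * x * (c⁻¹ * g)⁻¹ := by rw [show m * d = c⁻¹ * g from e']
      _ = c⁻¹ * (g * x * g⁻¹) * c := by group
      _ = g * x * g⁻¹ := hcx.symm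

end Cfsg.Agent.S2850
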