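import Cfsg.Statements.S2851
import Cfsg.Agent.Lib.LocalEven.Standing
import Cfsg.Agent.Lib.Components.FStar
import Cfsg.Agent.S2850

set_option autoImplicit false
open Cfsg

namespace Cfsg.Agent.S2851

/-- Standing hypotheses: G a finite group, S a Sylow p-subgroup, Q a nontrivial large p-subgroup of G contained in S, M a subgroup containing S with the basic property (M ∈ 𝔐_G(S)); Y_M the largest p-reduced normal subgroup of M and M† = M·C_G(Y_M). Let F be the preimage in M† of the generalized Fitting subgroup of M†/C_{M†}(Y_M). If Y_M is asymmetric in G and H is a subgroup of characteristic p containing F, then Y_M ≤ Y_H. -/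
theorem result {G : Type*} [Group G] [Finite G] {p : ℕ} [Fact p.Prime] (S : Sylow p G) (Q : Subgroup G) (hQp : IsPGroup p ↥Q) (hQ1 : Q ≠ ⊥) (hQS : Q ≤ (S : Subgroup G)) (hQ : Cfsg.IsLarge Q) (M : Subgroup G) (hSM : (S : Subgroup G) ≤ M) (hM : Cfsg.IsInFrakM p M) (hasym : ¬ Cfsg.IsSymmetricIn (Cfsg.largestPReducedOf p M)) [hn : ((Subgroup.centralizer (((Cfsg.largestPReducedOf p M) : Subgroup G) : Set G)).subgroupOf (M ⊔ Subgroup.centralizer (((Cfsg.largestPReducedOf p M) : Subgroup G) : Set G))).Normal] (F : Subgroup G) (hF : F = ((Cfsg.generalizedFittingSubgroup (↥(M ⊔ Subgroup.centralizer (((Cfsg.largestPReducedOf p M) : Subgroup G) : Set G)) ⧸ (Subgroup.centralizer (((Cfsg.largestPReducedOf p M) : Subgroup G) : Set G)).subgroupOf (M ⊔ Subgroup.centralizer (((Cfsg.largestPReducedOf p M) : Subgroup G) : Set G)))).comap (QuotientGroup.mk' ((Subgroup.centralizer (((Cfsg.largestPReducedOf p M) : Subgroup G) : Set G)).subgroupOf (M ⊔ Subgroup.centralizer (((Cfsg.largestPReducedOf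 p M) : Subgroup G) : Set G))))).map ((M ⊔ Subgroup.centralizer (((Cfsg.largestPReducedOf p M) : Subgroup G) : Set G))).subtype) (H : Subgroup G) (hFH : F ≤ H) (hH : Subgroup.centralizer (Cfsg.pCore p ↥H : Set ↥H) ≤ Cfsg.pCore p ↥H) : (Cfsg.largestPReducedOf p M) ≤ Cfsg.largestPReducedOf p H := by
  obtain ⟨hwl, hwc, hsyl, -⟩ := S2850.result S Q hQp hQ1 hQS hQ M hSM hM hasym
  set Y := Cfsg.largestPReducedOf p M with hY
  set C := Subgroup.centralizer (Y : Set G) with hC
  set Md := M ⊔ C with hMd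
  set O := Cfsg.pCoreOf p M
  set C' := C.subgroupOf Md with hC'
  set π := QuotientGroup.mk' C' with hπdef
  have hπ : Function.Surjective π := QuotientGroup.mk'_surjective _
  set Fs := Cfsg.generalizedFittingSubgroup (↥Md ⧸ C')
  haveI := CfsgLib.Components.gFitting_normal (G := ↥Md ⧸ C')
  have hMdC : Md ≤ Subgroup.normalizer (C : Set G) :=
    (CfsgLib.LocalEven.dagger_le_normalizer M).trans CfsgLib.LocalEven.le_normalizer_centralizer
  have hO : Cfsg.pCore p (↥Md ⧸ C') = ⊥ := by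
    set N := (Cfsg.pCore p (↥Md ⧸ C')).comap π with hN
    haveI : N.Normal := Subgroup.Normal.comap inferInstance _
    have hpow : ∀ n ∈ N, ∃ k, (n : G) ^ p ^ k ∈ C := by
      intro n hn
      obtain ⟨k, hk⟩ := CfsgLib.Core.isPGroup_pCore p (↥Md ⧸ C') ⟨_, Subgroup.mem_comap.mp hn⟩
      refine ⟨k, ?_⟩
      have h1 := (QuotientGroup.eq_one_iff (N := C') (n ^ p ^ k)).mp
        (by simpa [hπdef] using congrArg Subtype.val hk)
      simpa [hC', Subgroup.mem_subgroupOf] using h1
    have hNM : N.map Md.subtype ⊓ M ≤ C := by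
      refine CfsgLib.LocalEven.le_centralizer_largest_of_pow inf_le_right ?_ ?_
      · exact (le_inf ((le_sup_left : M ≤ Md).trans (CfsgLib.LocalEven.le_normalizer_map_of_normal Md N))
          Subgroup.le_normalizer).trans Subgroup.inf_normalizer_le_normalizer_inf
      · rintro _ ⟨⟨n, hn, rfl⟩, -⟩
        exact hpow n hn
    have hNC : N ≤ C' := by
      intro n hn
      have h1 : (n : G) ∈ ((M ⊔ C : Subgroup G) : Set G) := n.2
      rw [Subgroup.coe_mul_of_left_le_normalizer_right M C ((le_sup_left : M ≤ Md).trans hMdC)] at h1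
      obtain ⟨m, hm, c, hc, e⟩ := h1
      have hcN : (⟨c, Subgroup.mem_sup_right hc⟩ : ↥Md) ∈ N := by
        rw [hN, Subgroup.mem_comap, hπdef, QuotientGroup.mk'_apply,
          (QuotientGroup.eq_one_iff (N := C') (⟨c, Subgroup.mem_sup_right hc⟩ : ↥Md)).mpr hc]
        exact one_mem _
      have hmN : m ∈ N.map Md.subtype := ⟨n * (⟨c, Subgroup.mem_sup_right hc⟩ : ↥Md)⁻¹,
        mul_mem hn (inv_mem hcN), by
          show (n : G) * c⁻¹ = m
          rw [← e]; exact mul_inv_cancel_right m c⟩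
      show (n : G) ∈ C
      rw [← e]
      exact mul_mem (hNM ⟨hmN, hm⟩) hc
    rw [eq_bot_iff, ← Subgroup.map_comap_eq_self_of_surjective hπ (Cfsg.pCore p (↥Md ⧸ C'))]
    exact (Subgroup.map_mono hNC).trans (by rw [hπdef, QuotientGroup.map_mk'_self])
  -- a subgroup of `Md` normalized by `F` with `p`-power image centralizes `Y`
  have key : ∀ A : Subgroup G, A ≤ Md → F ≤ Subgroup.normalizer (A : Set G) →
      (∀ a ∈ A, ∃ k, a ^ p ^ k ∈ C) → A ≤ C := by
    intro A hA hFA hpow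
    set Ab := (A.subgroupOf Md).map π with hAb
    have hAbp : IsPGroup p ↥Ab := by
      rintro ⟨_, a, ha, rfl⟩
      obtain ⟨k, hk⟩ := hpow a ha
      refine ⟨k, Subtype.ext ?_⟩
      simpa [hπdef] using (QuotientGroup.eq_one_iff (N := C') (a ^ p ^ k)).mpr
        (Subgroup.mem_subgroupOf.mpr (by simpa using hk))
    have hFsA : Fs ≤ Subgroup.normalizer (Ab : Set (↥Md ⧸ C')) := by
      rw [← Subgroup.map_comap_eq_self_of_surjective hπ Fs]
      refine le_trans (Subgroup.map_mono ?_) (Subgroup.le_normalizer_map π)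
      intro f hf
      rw [← Subgroup.subgroupOf_normalizer_eq hA]
      exact Subgroup.mem_subgroupOf.mpr (hFA (hF ▸ ⟨f, hf, rfl⟩))
    have h1 : Ab ⊓ Fs = ⊥ := by
      have h2 : (Ab ⊓ Fs).subgroupOf Fs ≤ Cfsg.pCore p ↥Fs :=
        haveI : ((Ab ⊓ Fs).subgroupOf Fs).Normal := Subgroup.normal_subgroupOf_of_le_normalizer
          ((le_inf hFsA Subgroup.le_normalizer).trans Subgroup.inf_normalizer_le_normalizer_inf)
        CfsgLib.Core.le_pCore ((hAbp.to_le inf_le_left).comap_of_injective _ Fs.subtype_injective)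
      have h3 := (Subgroup.map_mono (f := Fs.subtype) h2).trans (CfsgLib.Core.map_subtype_pCore_le Fs)
      rw [Subgroup.map_subgroupOf_eq_of_le inf_le_right, hO] at h3
      exact le_bot_iff.mp h3
    have h2 : Ab ≤ Subgroup.centralizer (Fs : Set (↥Md ⧸ C')) := by
      rw [← Subgroup.commutator_eq_bot_iff_le_centralizer, ← le_bot_iff, ← h1]
      exact le_inf (Subgroup.le_normalizer_iff_commutator_le_left.mp hFsA)
        (Subgroup.le_normalizer_iff_commutator_le_right.mp
          (CfsgLib.Core.le_normalizer_of_normal Ab Fs))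
    have h4 : Ab = ⊥ := le_bot_iff.mp (h1 ▸ le_inf le_rfl (h2.trans CfsgLib.Components.centralizer_gFitting_le))
    rw [hAb, Subgroup.map_eq_bot_iff, hπdef, QuotientGroup.ker_mk'] at h4
    intro a ha
    exact h4 (show (⟨a, hA ha⟩ : ↥Md) ∈ A.subgroupOf Md from ha)
  have hCF : C ≤ F := by
    intro c hc
    rw [hF]
    refine ⟨⟨c, Subgroup.mem_sup_right hc⟩, ?_, rfl⟩
    show (⟨c, Subgroup.mem_sup_right hc⟩ : ↥Md) ∈ Fs.comap π
    rw [Subgroup.mem_comap, hπdef, QuotientGroup.mk'_apply,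
      (QuotientGroup.eq_one_iff (N := C') (⟨c, Subgroup.mem_sup_right hc⟩ : ↥Md)).mpr hc]
    exact one_mem _
  have hFMd : F ≤ Md := hF ▸ Subgroup.map_subtype_le _
  have hOH : O ≤ H := (CfsgLib.LocalEven.pCoreOf_le_centralizer_largest M).trans (hCF.trans hFH)
  have hYH : Y ≤ H := (CfsgLib.LocalEven.largestOf_le_pCoreOf M).trans hOH
  set OH := Cfsg.pCoreOf p H
  have hHO : H ≤ Subgroup.normalizer (OH : Set G) := CfsgLib.LocalEvenB.le_normalizer_pCoreOf H
  have hOHMd : OH ≤ Md := by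
    have h1 := CfsgLib.LocalEven.le_normalizer_of_weaklyClosed' (CfsgLib.LocalEvenB.isPGroup_pCoreOf M)
      hwc (CfsgLib.LocalEvenB.isPGroup_pCoreOf H) (hOH.trans hHO)
    exact h1.trans (hwl O (CfsgLib.LocalEvenB.isPGroup_pCoreOf M) le_rfl).2
  have hOHC : OH ≤ C := key OH hOHMd (hFH.trans hHO) fun a ha => by
    obtain ⟨k, hk⟩ := CfsgLib.LocalEvenB.isPGroup_pCoreOf H ⟨a, ha⟩
    exact ⟨k, by rw [show a ^ p ^ k = 1 from congrArg Subtype.val hk]; exact one_mem _⟩
  refine CfsgLib.LocalEven.le_largestOf ((CfsgLib.LocalEvenB.hasCharP_iff H).mpr hH) hYH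
    (Subgroup.le_centralizer_iff.mp hOHC) (fun y hy => CfsgLib.LocalEven.pow_eq_one_of_mem_largest hy)
    fun N hN h => ?_
  haveI := hN
  obtain ⟨P, hP⟩ := hsyl H hOH
  refine ⟨P, fun x hx => ?_⟩
  have h5 : N.map H.subtype ⊓ Md ≤ C := key _ inf_le_right
    ((le_inf (hFH.trans (CfsgLib.LocalEven.le_normalizer_map_of_normal H N))
      (hFMd.trans Subgroup.le_normalizer)).trans Subgroup.inf_normalizer_le_normalizer_inf)
    (by rintro _ ⟨⟨n, hn, rfl⟩, -⟩; exact h n hn)
  exact h5 ⟨Subgroup.mem_map_of_mem _ hx.2, (Subgroup.mem_subgroupOf.mp (hP hx.1)).2⟩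

end Cfsg.Agent.S2851
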