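import Cfsg.Statements.S2852
import Cfsg.Agent.Lib.LocalEven.Standing
import Cfsg.Agent.S2850

set_option autoImplicit false
open Cfsg

namespace Cfsg.Agent.S2852

/-- Standing hypotheses: G a finite group, S a Sylow p-subgroup, Q a nontrivial large p-subgroup of G contained in S, M a subgroup containing S with the basic property (M ∈ 𝔐_G(S)); Y_M the largest p-reduced normal subgroup of M. If Y_M is char-p-tall and asymmetric in G, then some subgroup H of G lies in ℌ_G(O_p(M)): H has characteristic p, O_p(M) ≤ H, Y_M ≰ O_p(H), and Y_M ≤ O_p(P) for every proper subgroup P of H containing O_p(M). -/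
theorem result {G : Type*} [Group G] [Finite G] {p : ℕ} [Fact p.Prime] (S : Sylow p G) (Q : Subgroup G) (hQp : IsPGroup p ↥Q) (hQ1 : Q ≠ ⊥) (hQS : Q ≤ (S : Subgroup G)) (hQ : Cfsg.IsLarge Q) (M : Subgroup G) (hSM : (S : Subgroup G) ≤ M) (hM : Cfsg.IsInFrakM p M) (htall : Cfsg.IsCharPTall p (Cfsg.largestPReducedOf p M)) (hasym : ¬ Cfsg.IsSymmetricIn (Cfsg.largestPReducedOf p M)) : ∃ H : Subgroup G, Cfsg.IsInFrakH p M H := by
  set Y := Cfsg.largestPReducedOf p M
  set O := Cfsg.pCoreOf p M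
  set C := Subgroup.centralizer (Y : Set G) with hC
  have hwc := (S2850.result S Q hQp hQ1 hQS hQ M hSM hM hasym).2.1
  have hOp : IsPGroup p ↥O := CfsgLib.LocalEvenB.isPGroup_pCoreOf M
  have hOC : O ≤ C := CfsgLib.LocalEven.pCoreOf_le_centralizer_largest M
  obtain ⟨T, L, hTL, hL, hYL⟩ := htall
  obtain ⟨a, ha⟩ := CfsgLib.LocalEven.exists_sylow_conj_le T
    (hOp.of_equiv (Subgroup.subgroupOfEquivOfLe hOC).symm : IsPGroup p (O.subgroupOf C))
  have hacY : (a : G) ∈ Subgroup.normalizer (Y : Set G) := Subgroup.centralizer_le_normalizer _ a.2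
  set L₁ := L.map (MulAut.conj (a : G)⁻¹).toMonoidHom with hL₁
  have hOL₁ : O ≤ L₁ := by
    intro o ho
    rw [hL₁, CfsgLib.LocalEven.mem_conj, inv_inv]
    exact hTL (Subgroup.mem_map_of_mem _ (ha (CfsgLib.LocalEven.conj_mem_conj (g := a)
      (show (⟨o, hOC ho⟩ : ↥C) ∈ O.subgroupOf C from ho))))
  have hcore : Cfsg.pCoreOf p L₁ = (Cfsg.pCoreOf p L).map (MulAut.conj (a : G)⁻¹).toMonoidHom := by
    rw [Cfsg.pCoreOf, Cfsg.pCoreOf, ← CfsgLib.Core.map_equiv_pCore
      (p := p) (L.equivMapOfInjective (MulAut.conj (a : G)⁻¹).toMonoidHom (MulAut.conj (a : G)⁻¹).injective),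
      Subgroup.map_map, Subgroup.map_map]
    rfl
  have hgood₁ : CfsgLib.LocalEvenB.HasCharP p L₁ ∧ O ≤ L₁ ∧ ¬ Y ≤ Cfsg.pCoreOf p L₁ := by
    refine ⟨?_, hOL₁, fun h => hYL ?_⟩
    · intro x hx
      rw [hcore, CfsgLib.LocalEven.mem_conj, inv_inv]
      refine (CfsgLib.LocalEvenB.hasCharP_iff L).mpr hL ⟨?_, Subgroup.mem_centralizer_iff.mpr fun z hz => ?_⟩
      · have := CfsgLib.LocalEven.mem_conj.mp hx.1
        rwa [inv_inv] at this
      · have h2 := Subgroup.mem_centralizer_iff.mp hx.2 ((a : G)⁻¹ * z * a) (by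
          rw [SetLike.mem_coe, hcore, CfsgLib.LocalEven.mem_conj, inv_inv]
          simpa [mul_assoc] using hz)
        have h3 := congrArg (fun w => (a : G) * w * (a : G)⁻¹) h2
        simpa [mul_assoc] using h3
    · rw [hcore] at h
      intro y hy
      have h2 := CfsgLib.LocalEven.mem_conj.mp (h ((Subgroup.mem_normalizer_iff''.mp hacY y).mp hy))
      rw [inv_inv, show (a : G) * ((a : G)⁻¹ * y * a) * (a : G)⁻¹ = y by group] at h2
      exact h2
  obtain ⟨H, -, hH⟩ := Finite.exists_le_minimal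
    (p := fun H : Subgroup G => CfsgLib.LocalEvenB.HasCharP p H ∧ O ≤ H ∧ ¬ Y ≤ Cfsg.pCoreOf p H) hgood₁
  obtain ⟨hHc, hOH, hYH⟩ := hH.prop
  refine ⟨H, (CfsgLib.LocalEvenB.hasCharP_iff H).mp hHc, hOH, hYH, fun P hOP hPH => ?_⟩
  by_contra hne
  refine hPH.not_ge (hH.le_of_le ⟨?_, hOP, hne⟩ hPH.le)
  have h1 := CfsgLib.LocalEven.isPGroup_centralizer_of_le hOp hwc hM.1.2 hHc hOP hPH.le
  exact CfsgLib.LocalEvenB.le_pCoreOf inf_le_left (h1.to_le (inf_le_inf_right _ hPH.le))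
    ((le_inf Subgroup.le_normalizer ((CfsgLib.LocalEvenB.le_normalizer_pCoreOf P).trans
      CfsgLib.LocalEven.le_normalizer_centralizer)).trans Subgroup.inf_normalizer_le_normalizer_inf)

end Cfsg.Agent.S2852
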