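import Cfsg.Statements.S2853
import Cfsg.Agent.Lib.LocalEven.Standing
import Cfsg.Agent.Lib.LocalEven.FrakH
import Cfsg.Agent.S2850

set_option autoImplicit false
open Cfsg

namespace Cfsg.Agent.S2853

/-- Standing hypotheses: G a finite group, S a Sylow p-subgroup, Q a nontrivial large p-subgroup of G contained in S, M a subgroup containing S with the basic property (M ∈ 𝔐_G(S)); Y_M the largest p-reduced normal subgroup of M and M† = M·C_G(Y_M). Suppose Y_M is char-p-tall and asymmetric in G and H ∈ ℌ_G(O_p(M)). Then every Sylow p-subgroup of H ∩ M† is a Sylow p-subgroup of H; O_p(H) normalizes O_p(M) and Y_M; O^p(H) = [O^p(H), Y_M] and H = O^p(H)·O_p(M); O^p(H)·Y_M is the normal closure of Y_M in H; and H is the normal closure of O_p(M) in H. Here O^p(H) is the subgroup generated by the elements of H of order prime to p. -/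
theorem result {G : Type*} [Group G] [Finite G] {p : ℕ} [Fact p.Prime] (S : Sylow p G) (Q : Subgroup G) (hQp : IsPGroup p ↥Q) (hQ1 : Q ≠ ⊥) (hQS : Q ≤ (S : Subgroup G)) (hQ : Cfsg.IsLarge Q) (M : Subgroup G) (hSM : (S : Subgroup G) ≤ M) (hM : Cfsg.IsInFrakM p M) (htall : Cfsg.IsCharPTall p (Cfsg.largestPReducedOf p M)) (hasym : ¬ Cfsg.IsSymmetricIn (Cfsg.largestPReducedOf p M)) (H : Subgroup G) (hH : Cfsg.IsInFrakH p M H) (R : Subgroup G) (hR : R = (Cfsg.pResidual p ↥H).map H.subtype) : (∀ T : Sylow p ↥(H ⊓ (M ⊔ Subgroup.centralizer (((Cfsg.largestPReducedOf p M) : Subgroup G) : Set G))), ∃ P : Sylow p ↥H, ((P : Subgroup ↥H).map H.subtype) = (T : Subgroup ↥(H ⊓ (M ⊔ Subgroup.centralizer (((Cfsg.largestPReducedOf p M) : Subgroup G) : Set G)))).map (H ⊓ (M ⊔ Subgroup.centralizer (((Cfsg.largestPReducedOf p M) : Subgroup G) : Set G))).subtype) ∧ Cfsg.pCoreOf p H ≤ Subgroup.normalizer (((Cfsg.pCoreOf p M) : Subgroup G) : Set G) ⊓ Subgroup.normalizer (((Cfsg.largestPReducedOf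 p M) : Subgroup G) : Set G) ∧ ⁅R, (Cfsg.largestPReducedOf p M)⁆ = R ∧ R ⊔ (Cfsg.pCoreOf p M) = H ∧ R ⊔ (Cfsg.largestPReducedOf p M) = (Subgroup.normalClosure ((((Cfsg.largestPReducedOf p M)).subgroupOf H : Subgroup ↥H) : Set ↥H)).map H.subtype ∧ (Subgroup.normalClosure ((((Cfsg.pCoreOf p M)).subgroupOf H : Subgroup ↥H) : Set ↥H)).map H.subtype = H := by
  obtain ⟨hwl, hwc, hsyl, -⟩ := S2850.result S Q hQp hQ1 hQS hQ M hSM hM hasym
  obtain ⟨hHc, hOH, hYH, hmin⟩ := hH
  set Y := Cfsg.largestPReducedOf p M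
  set O := Cfsg.pCoreOf p M
  set Md := M ⊔ Subgroup.centralizer (Y : Set G)
  have hOp : IsPGroup p ↥O := CfsgLib.LocalEvenB.isPGroup_pCoreOf M
  have hYO : Y ≤ O := CfsgLib.LocalEven.largestOf_le_pCoreOf M
  have hYH' : Y ≤ H := hYO.trans hOH
  refine ⟨fun T => ?_, ?_, ?_⟩
  · obtain ⟨P, hP⟩ := hsyl H hOH
    have hP' : (P : Subgroup ↥H).map H.subtype ≤ H ⊓ Md := by
      refine (Subgroup.map_mono hP).trans ?_
      rw [Subgroup.subgroupOf_map_subtype]; exact inf_le_left
    obtain ⟨b, hb⟩ := CfsgLib.LocalEven.exists_sylow_conj_le T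
      (((P.2.map H.subtype).of_equiv (Subgroup.subgroupOfEquivOfLe hP').symm) :
        IsPGroup p (((P : Subgroup ↥H).map H.subtype).subgroupOf (H ⊓ Md)))
    have hTH : ((T : Subgroup ↥(H ⊓ Md)).map (H ⊓ Md).subtype) ≤ H :=
      (Subgroup.map_subtype_le _).trans inf_le_left
    obtain ⟨P', hP''⟩ := (((T.2.map (H ⊓ Md).subtype)).comap_of_injective H.subtype
      H.subtype_injective).exists_le_sylow
    refine ⟨P', le_antisymm ?_ ?_⟩
    · refine le_of_eq (Subgroup.eq_of_le_of_card_ge ?_ ?_).symm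
      · rw [← Subgroup.map_subgroupOf_eq_of_le hTH]
        exact Subgroup.map_mono hP''
      · rw [Subgroup.card_map_of_injective H.subtype_injective, Sylow.card_eq_multiplicity,
          ← P.card_eq_multiplicity, ← Subgroup.card_map_of_injective (K := (P : Subgroup ↥H)) H.subtype_injective,
          ← Nat.card_congr (Subgroup.subgroupOfEquivOfLe hP').toEquiv,
          ← Subgroup.card_map_of_injective (K := ((P : Subgroup ↥H).map H.subtype).subgroupOf (H ⊓ Md))
            (f := (MulAut.conj b).toMonoidHom) (MulAut.conj b).injective,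
          Subgroup.card_map_of_injective (H ⊓ Md).subtype_injective]
        exact Subgroup.card_le_of_le hb
    · rw [← Subgroup.map_subgroupOf_eq_of_le hTH]
      exact Subgroup.map_mono hP''
  · have h1 : Cfsg.pCoreOf p H ≤ Subgroup.normalizer (O : Set G) :=
      CfsgLib.LocalEven.le_normalizer_of_weaklyClosed' hOp hwc (CfsgLib.LocalEvenB.isPGroup_pCoreOf H)
        (hOH.trans (CfsgLib.LocalEvenB.le_normalizer_pCoreOf H))
    exact le_inf h1 (h1.trans ((hwl O hOp le_rfl).2.trans (CfsgLib.LocalEven.dagger_le_normalizer M)))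
  · subst hR
    exact CfsgLib.LocalEven.frakH_structure hYO (CfsgLib.LocalEven.pCoreOf_le_centralizer_largest M)
      hOp hOH hYH hmin

end Cfsg.Agent.S2853
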