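import Cfsg.Statements.S2854
import Cfsg.Agent.Lib.LocalEven.Standing
import Cfsg.Agent.Lib.LocalEven.FrakH
import Cfsg.Agent.Lib.LocalEven.Subnormal
import Cfsg.Agent.Lib.ClassSizes.Basic
import Cfsg.Agent.S2850

set_option autoImplicit false
open Cfsg
open scoped commutatorElement

namespace Cfsg.Agent.S2854

/-- Standing hypotheses: G a finite group, S a Sylow p-subgroup, Q a nontrivial large p-subgroup of G contained in S, M a subgroup containing S with the basic property (M ∈ 𝔐_G(S)); Y_M the largest p-reduced normal subgroup of M and M† = M·C_G(Y_M). Suppose Y_M is asymmetric in G, H ∈ ℌ_G(O_p(M)), and H ≤ N_G(gQg⁻¹) for some g ∈ G. Then gQg⁻¹ ≤ O_p(H·gQg⁻¹) ≤ N_G(O_p(M)) ≤ N_G(Y_M) = M†; H is normal in H·gQg⁻¹ with O^p(H) = O^p(H·gQg⁻¹); and H·gQg⁻¹ is p-irreducible. -/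
theorem result {G : Type*} [Group G] [Finite G] {p : ℕ} [Fact p.Prime] (S : Sylow p G) (Q : Subgroup G) (hQp : IsPGroup p ↥Q) (hQ1 : Q ≠ ⊥) (hQS : Q ≤ (S : Subgroup G)) (hQ : Cfsg.IsLarge Q) (M : Subgroup G) (hSM : (S : Subgroup G) ≤ M) (hM : Cfsg.IsInFrakM p M) (hasym : ¬ Cfsg.IsSymmetricIn (Cfsg.largestPReducedOf p M)) (H : Subgroup G) (hH : Cfsg.IsInFrakH p M H) (g : G) (hHQ : H ≤ Subgroup.normalizer ((((Q : Subgroup G).map (MulAut.conj (g : G)).toMonoidHom) : Subgroup G) : Set G)) : ((Q : Subgroup G).map (MulAut.conj (g : G)).toMonoidHom) ≤ Cfsg.pCoreOf p (H ⊔ ((Q : Subgroup G).map (MulAut.conj (g : G)).toMonoidHom)) ∧ Cfsg.pCoreOf p (H ⊔ ((Q : Subgroup G).map (MulAut.conj (g : G)).toMonoidHom)) ≤ Subgroup.normalizer (((Cfsg.pCoreOf p M) : Subgroup G) : Set G) ∧ Subgroup.normalizer (((Cfsg.pCoreOf p M) : Subgroup G) : Set G) ≤ Subgroup.normalizer (((Cfsg.largestPReducedOf p M) : Subgroup G) : Set G) ∧ Subgroup.normalizer (((Cfsg.largestPReducedOf p M) : Subgroup G)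 : Set G) = (M ⊔ Subgroup.centralizer (((Cfsg.largestPReducedOf p M) : Subgroup G) : Set G)) ∧ (H.subgroupOf (H ⊔ ((Q : Subgroup G).map (MulAut.conj (g : G)).toMonoidHom))).Normal ∧ (Cfsg.pResidual p ↥H).map H.subtype = (Cfsg.pResidual p ↥(H ⊔ ((Q : Subgroup G).map (MulAut.conj (g : G)).toMonoidHom))).map (H ⊔ ((Q : Subgroup G).map (MulAut.conj (g : G)).toMonoidHom)).subtype ∧ Cfsg.IsPIrreducible p ↥(H ⊔ ((Q : Subgroup G).map (MulAut.conj (g : G)).toMonoidHom)) := by
  have hpar := CfsgLib.LocalEven.parabolic_of_large hQp hQ1 hQ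
  obtain ⟨-, hwc, -, -⟩ := S2850.result S Q hQp hQ1 hQS hQ M hSM hM hasym
  obtain ⟨-, hOH, hYH, hmin⟩ := hH
  set Y := Cfsg.largestPReducedOf p M with hY
  set O := Cfsg.pCoreOf p M with hO
  set Q' := Q.map (MulAut.conj g).toMonoidHom with hQ'
  set K := H ⊔ Q' with hK
  have hQ'p : IsPGroup p ↥Q' := hQp.map _
  have hOp : IsPGroup p ↥O := CfsgLib.LocalEvenB.isPGroup_pCoreOf M
  have hYO : Y ≤ O := CfsgLib.LocalEven.largestOf_le_pCoreOf M
  have hKQ : K ≤ Subgroup.normalizer (Q' : Set G) := sup_le hHQ Subgroup.le_normalizer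
  have hQ'K : Q' ≤ K := le_sup_right
  have hHK : H ≤ K := le_sup_left
  have hQ'O : Q' ≤ Subgroup.normalizer (O : Set G) :=
    CfsgLib.LocalEven.le_normalizer_of_weaklyClosed' hOp hwc hQ'p (hOH.trans hHQ)
  obtain ⟨hRY, -, hncl, hnclO⟩ := CfsgLib.LocalEven.frakH_structure hYO
    (CfsgLib.LocalEven.pCoreOf_le_centralizer_largest M) hOp hOH hYH hmin
  have hQ'H : Q' ≤ Subgroup.normalizer (H : Set G) := by
    intro q hq
    set T : Subgroup ↥H := (H ⊓ H.map (MulAut.conj q⁻¹).toMonoidHom).subgroupOf H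
    have h1 : Subgroup.normalClosure ((O.subgroupOf H : Subgroup ↥H) : Set ↥H) ≤ T := by
      refine (Subgroup.closure_le _).mpr fun x hx => ?_
      obtain ⟨o, ho, hc⟩ := Group.mem_conjugatesOfSet_iff.mp hx
      obtain ⟨u, rfl⟩ := isConj_iff.mp hc
      have ho' : (o : G) ∈ O := ho
      refine Subgroup.mem_subgroupOf.mpr (Subgroup.mem_inf.mpr ⟨(u * o * u⁻¹).2, ?_⟩)
      rw [CfsgLib.LocalEven.mem_conj, inv_inv]
      have hq' : (u : G)⁻¹ * q * u ∈ Q' := (Subgroup.mem_normalizer_iff''.mp (hHQ u.2) q).mp hq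
      have h2 := hOH ((Subgroup.mem_normalizer_iff.mp (hQ'O hq') _).mp ho')
      have h3 := mul_mem (mul_mem u.2 h2) (inv_mem u.2)
      simpa [mul_assoc] using h3
    have h2 : H ≤ H.map (MulAut.conj q⁻¹).toMonoidHom := by
      calc H = _ := hnclO.symm
        _ ≤ T.map H.subtype := Subgroup.map_mono h1
        _ ≤ _ := by rw [Subgroup.subgroupOf_map_subtype]; exact inf_le_left.trans inf_le_right
    have h3 := Subgroup.eq_of_le_of_card_ge h2
      (Subgroup.card_map_of_injective (MulAut.conj q⁻¹).injective).le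
    have h4 := CfsgLib.LocalEven.mem_normalizer_conj_iff.mpr h3.symm
    exact inv_mem_iff.mp h4
  have hKH : K ≤ Subgroup.normalizer (H : Set G) := sup_le Subgroup.le_normalizer hQ'H
  have hOK : Cfsg.pCoreOf p K ≤ Subgroup.normalizer (O : Set G) :=
    CfsgLib.LocalEven.le_normalizer_of_weaklyClosed' hOp hwc (CfsgLib.LocalEvenB.isPGroup_pCoreOf K)
      ((hOH.trans hHK).trans (CfsgLib.LocalEvenB.le_normalizer_pCoreOf K))
  set R := (Cfsg.pResidual p ↥H).map H.subtype with hR
  set RK := (Cfsg.pResidual p ↥K).map K.subtype with hRK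
  have hRKH : RK ≤ H :=
    CfsgLib.LocalEven.pResidualOf_sup_sylow_eq hHK hKH hQ'p le_rfl hQ'K
  have hRR : R = RK := by
    refine le_antisymm (CfsgLib.Transfer.map_subtype_pResidual_mono hHK) ?_
    rw [hRK, Subgroup.map_le_iff_le_comap]
    refine CfsgLib.Transfer.pResidual_le_iff.mpr fun x hx => ?_
    have hxH : (x : G) ∈ H :=
      hRKH (Subgroup.mem_map_of_mem _ (CfsgLib.Transfer.mem_pResidual_of_coprime hx))
    refine ⟨⟨x, hxH⟩, CfsgLib.Transfer.mem_pResidual_of_coprime ?_, rfl⟩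
    rwa [Subgroup.orderOf_mk, Subgroup.orderOf_coe]
  refine ⟨CfsgLib.LocalEvenB.le_pCoreOf hQ'K hQ'p hKQ, hOK,
    (CfsgLib.LocalEven.normalizer_pCoreOf_le hpar S hSM hM).trans
      (CfsgLib.LocalEven.dagger_le_normalizer M),
    CfsgLib.LocalEven.normalizer_largest_frakM hpar S hSM hM,
    (Subgroup.normal_subgroupOf_iff_le_normalizer hHK).mpr hKH, hRR, ?_, ?_⟩
  · intro hc
    obtain ⟨P, hP⟩ := ((hOp.to_le hYO).comap_of_injective K.subtype K.subtype_injective).exists_le_sylow
    have hYK : Y ≤ Cfsg.pCoreOf p K ⊓ H := le_inf (fun y hy => ⟨⟨y, hHK (hOH (hYO hy))⟩,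
      (CfsgLib.LocalEven.pClosed_iff_le_pCore.mp hc P) (hP hy), rfl⟩) (hYO.trans hOH)
    refine hYH (hYK.trans (CfsgLib.LocalEvenB.le_pCoreOf inf_le_right
      ((CfsgLib.LocalEvenB.isPGroup_pCoreOf K).to_le inf_le_left) ?_))
    exact (le_inf (hHK.trans (CfsgLib.LocalEvenB.le_normalizer_pCoreOf K)) Subgroup.le_normalizer).trans
      Subgroup.inf_normalizer_le_normalizer_inf
  · intro N hN hNc
    haveI := hN
    set NG := N.map K.subtype with hNG
    have hNK : NG ≤ K := Subgroup.map_subtype_le _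
    have hKN : K ≤ Subgroup.normalizer (NG : Set G) := CfsgLib.LocalEven.le_normalizer_map_of_normal K N
    set NH := NG ⊓ H with hNH
    have hKNH : K ≤ Subgroup.normalizer (NH : Set G) :=
      (le_inf hKN hKH).trans Subgroup.inf_normalizer_le_normalizer_inf
    suffices hgoal : R ≤ NG by
      intro x hx
      obtain ⟨z, hz, ez⟩ := hgoal (hRR.ge (Subgroup.mem_map_of_mem K.subtype hx))
      rwa [← show z = x from Subtype.ext ez]
    by_cases htop : NH ⊔ O = H
    · exact (CfsgLib.LocalEven.pResidualOf_sup_sylow_eq inf_le_right (hHK.trans hKNH) hOp htop.ge hOH).trans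
        inf_le_left
    exfalso
    set E := Cfsg.pCoreOf p H with hE
    have hEH : E ≤ H := CfsgLib.LocalEvenB.pCoreOf_le H
    have hKE : K ≤ Subgroup.normalizer (E : Set G) :=
      hKH.trans (CfsgLib.LocalEven.normalizer_le_normalizer_pCoreOf H)
    have hNY : ⁅NH, Y⁆ ≤ E := by
      have h0 := hmin (NH ⊔ O) le_sup_right (lt_of_le_of_ne (sup_le inf_le_right hOH) htop)
      have h1 : ⁅NH, Y⁆ ≤ Cfsg.pCoreOf p (NH ⊔ O) ⊓ NH := le_inf
        ((Subgroup.commutator_mono le_rfl h0).trans (Subgroup.le_normalizer_iff_commutator_le_right.mp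
          (le_sup_left.trans (CfsgLib.LocalEvenB.le_normalizer_pCoreOf _))))
        (Subgroup.le_normalizer_iff_commutator_le_left.mp ((hYO.trans (hOH.trans hHK)).trans hKNH))
      refine h1.trans (CfsgLib.LocalEven.le_pCoreOf_of_le_normal (K := NH) inf_le_right (hHK.trans hKNH)
        inf_le_right ((CfsgLib.LocalEvenB.isPGroup_pCoreOf _).to_le inf_le_left) ?_)
      exact (le_inf (le_sup_left.trans (CfsgLib.LocalEvenB.le_normalizer_pCoreOf _)) Subgroup.le_normalizer).trans
        Subgroup.inf_normalizer_le_normalizer_inf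
    -- work in `K`
    set E' := E.subgroupOf K with hE'
    haveI : E'.Normal := Subgroup.normal_subgroupOf_of_le_normalizer hKE
    set Y' := Y.subgroupOf K
    set R' := Cfsg.pResidual p ↥K
    have hR'R : R'.map K.subtype = R := hRR.symm
    have hYK' : Y ≤ K := (hYO.trans hOH).trans hHK
    have hR'H : R' ≤ H.subgroupOf K := Subgroup.map_le_iff_le_comap.mp (hR'R.le.trans (Subgroup.map_subtype_le _))
    have hlift : ∀ A : Subgroup ↥K, A.map K.subtype ≤ E → A ≤ E' := fun A hA => Subgroup.map_le_iff_le_comap.mp hA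
    have hNH' : ∀ n : ↥K, n ∈ N → n ∈ H.subgroupOf K → (n : G) ∈ NH := fun n h1 h2 =>
      Subgroup.mem_inf.mpr ⟨Subgroup.mem_map_of_mem K.subtype h1, h2⟩
    haveI : (H.subgroupOf K).Normal := Subgroup.normal_subgroupOf_of_le_normalizer hKH
    have hNHsub : N ⊓ H.subgroupOf K ≤ NH.subgroupOf K := fun n hn => hNH' n hn.1 hn.2
    have hNY' : ⁅NH.subgroupOf K, Y'⁆ ≤ E' := hlift _ (by
      rw [Subgroup.map_commutator]
      exact (Subgroup.commutator_mono (Subgroup.map_subgroupOf_eq_of_le (inf_le_left.trans hNK)).le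
        (Subgroup.map_subgroupOf_eq_of_le hYK').le).trans hNY)
    -- `[N ∩ H, R] ≤ E`
    have hNR : ⁅NH.subgroupOf K, R'⁆ ≤ E' := by
      set π := QuotientGroup.mk' E'
      haveI : (NH.subgroupOf K).Normal := Subgroup.normal_subgroupOf_of_le_normalizer hKNH
      haveI : ((NH.subgroupOf K).map π).Normal :=
        Subgroup.Normal.map inferInstance π (QuotientGroup.mk'_surjective _)
      set T := (Subgroup.centralizer ((NH.subgroupOf K).map π : Set (↥K ⧸ E'))).comap π with hT
      have key : ∀ A : Subgroup ↥K, A ≤ T ↔ ⁅NH.subgroupOf K, A⁆ ≤ E' := fun A => by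
        rw [hT, ← Subgroup.map_le_iff_le_comap, Subgroup.le_centralizer_iff,
          ← Subgroup.commutator_eq_bot_iff_le_centralizer, ← Subgroup.map_commutator,
          Subgroup.map_eq_bot_iff, QuotientGroup.ker_mk']
      refine (key R').mp ?_
      have hYT : Y' ≤ T := (key Y').mpr hNY'
      have h2 : ⁅R', Y'⁆ ≤ T := by
        haveI : T.Normal := Subgroup.Normal.comap inferInstance π
        exact (Subgroup.commutator_mono le_rfl hYT).trans (Subgroup.commutator_le_right R' T)
      refine le_trans (le_of_eq ?_) h2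
      apply Subgroup.map_injective K.subtype_injective
      rw [Subgroup.map_commutator, hR'R, Subgroup.map_subgroupOf_eq_of_le hYK', hRY]
    have h3 : ⁅⁅Y', R'⁆, N⁆ ≤ E' := by
      refine CfsgLib.ClassSizes.three_subgroup_le E' ?_ ?_
      · refine (Subgroup.commutator_mono (le_inf ((Subgroup.commutator_le_right R' N))
          ((Subgroup.commutator_mono hR'H le_rfl).trans (Subgroup.commutator_le_left _ N))) le_rfl).trans
            ((Subgroup.commutator_mono hNHsub le_rfl).trans hNY')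
      · refine (Subgroup.commutator_mono (le_inf (Subgroup.commutator_le_left N Y')
          ((Subgroup.commutator_mono le_rfl (Subgroup.comap_mono (hYO.trans hOH) : Y' ≤ H.subgroupOf K)).trans
            (Subgroup.commutator_le_right N (H.subgroupOf K)))) le_rfl).trans
            ((Subgroup.commutator_mono hNHsub le_rfl).trans hNR)
    have hRN : ⁅R', N⁆ ≤ E' := by
      refine le_trans (le_of_eq ?_) h3
      congr 1
      apply Subgroup.map_injective K.subtype_injective
      rw [Subgroup.map_commutator, hR'R, Subgroup.map_subgroupOf_eq_of_le hYK', Subgroup.commutator_comm, hRY]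
    apply hNc
    rw [CfsgLib.LocalEven.pClosed_normal_iff]
    intro P
    obtain ⟨Pn, hPn⟩ := CfsgLib.LocalEven.exists_sylow_inf P N
    set A := ((P : Subgroup ↥K) ⊓ N) ⊔ E'
    have hE'p : IsPGroup p ↥E' :=
      (CfsgLib.LocalEvenB.isPGroup_pCoreOf H).comap_of_injective _ K.subtype_injective
    have hAp : IsPGroup p ↥A := (P.2.to_le inf_le_left).to_sup_of_normal_right hE'p
    have hres : (Cfsg.pResidual p ↥N).map N.subtype ≤ R' := CfsgLib.Transfer.map_subtype_pResidual_le N
    have hAn : N ≤ Subgroup.normalizer (A : Set ↥K) := by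
      have h1 := congrArg (Subgroup.map N.subtype) (CfsgLib.Transfer.pResidual_sup_sylow Pn)
      rw [Subgroup.map_sup, hPn, ← MonoidHom.range_eq_map, Subgroup.range_subtype] at h1
      refine h1.ge.trans (sup_le ?_ (le_sup_left.trans Subgroup.le_normalizer))
      rw [Subgroup.le_normalizer_iff_commutator_le_right, Subgroup.commutator_le]
      intro d hd a ha
      obtain ⟨x, hx, e, he, rfl⟩ := Subgroup.mem_sup_of_normal_right.mp ha
      rw [show ⁅d, x * e⁆ = ⁅d, x⁆ * (x * (d * e * d⁻¹) * e⁻¹ * x⁻¹) by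
        simp only [commutatorElement_def]; group]
      refine Subgroup.mem_sup_right (mul_mem (hRN (Subgroup.commutator_mem_commutator (hres hd) hx.2)) ?_)
      rw [mul_assoc x]
      exact Subgroup.Normal.conj_mem inferInstance _
        (mul_mem (Subgroup.Normal.conj_mem inferInstance _ he d) (inv_mem he)) x
    haveI : ((A ⊓ N).subgroupOf N).Normal := Subgroup.normal_subgroupOf_of_le_normalizer
      ((le_inf hAn Subgroup.le_normalizer).trans Subgroup.inf_normalizer_le_normalizer_inf)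
    have h4 := (Subgroup.map_mono (f := N.subtype) (CfsgLib.Core.le_pCore (N := (A ⊓ N).subgroupOf N)
      ((hAp.to_le inf_le_left).comap_of_injective _ N.subtype_injective))).trans
        (CfsgLib.Core.map_subtype_pCore_le N)
    rw [Subgroup.map_subgroupOf_eq_of_le inf_le_right] at h4
    exact (le_inf le_sup_left inf_le_right).trans h4

end Cfsg.Agent.S2854
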