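import Cfsg.Statements.S2855
import Cfsg.Agent.Lib.LocalEven.Transitive
import Cfsg.Agent.Lib.LocalEven.Overgroup

set_option autoImplicit false
open Cfsg

namespace Cfsg.Agent.S2855

/-- Let H be a finite group, p a prime, and 𝒦 a nonempty set of subgroups of H permuted transitively by conjugation, with R the subgroup generated by the members of 𝒦. Suppose O^p(H) ≤ R, each E ∈ 𝒦 has E·O_p(H) normal in R·O_p(H), and each E ∈ 𝒦 is p-minimal (generated by the conjugates of a Sylow p-subgroup T_E of E, with T_E in exactly one maximal subgroup of E). Then H is p-minimal in the same sense. If instead each E ∈ 𝒦 is strongly p-irreducible, then H is p-irreducible and, for E, K ∈ 𝒦, either O^p(E·O_p(H)) = O^p(K·O_p(H)) or [E, K] ≤ O_p(H). -/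
theorem result {H : Type*} [Group H] [Finite H] {p : ℕ} [Fact p.Prime] (𝒦 : Set (Subgroup H)) (hne : 𝒦.Nonempty) (hinv : ∀ h : H, ∀ E ∈ 𝒦, E.map (MulAut.conj h).toMonoidHom ∈ 𝒦) (htr : ∀ E ∈ 𝒦, ∀ K ∈ 𝒦, ∃ h : H, K = E.map (MulAut.conj h).toMonoidHom) (hres : Cfsg.pResidual p H ≤ sSup 𝒦) (hnorm : ∀ E ∈ 𝒦, sSup 𝒦 ⊔ Cfsg.pCore p H ≤ Subgroup.normalizer ((E ⊔ Cfsg.pCore p H : Subgroup H) : Set H)) : ((∀ E ∈ 𝒦, ∀ T : Sylow p ↥E, Cfsg.IsMinimalOver (T : Subgroup ↥E)) → ∀ T : Sylow p H, Cfsg.IsMinimalOver (T : Subgroup H)) ∧ ((∀ E ∈ 𝒦, Cfsg.IsStronglyPIrreducible p ↥E) → Cfsg.IsPIrreducible p H ∧ ∀ E ∈ 𝒦, ∀ K ∈ 𝒦, (Cfsg.pResidual p ↥(E ⊔ Cfsg.pCore p H)).map (E ⊔ Cfsg.pCore p H).subtype = (Cfsg.pResidual p ↥(K ⊔ Cfsg.pCore p H)).map (K ⊔ Cfsg.pCore p H).subtype ∨ ⁅E, K⁆ ≤ Cfsg.pCore p H) := by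
  refine ⟨fun hmin T => CfsgLib.LocalEven.minimalOver_of_transitive hne hinv htr hres hnorm hmin T, fun hirr => ?_⟩
  set O := Cfsg.pCore p H with hO
  set q := QuotientGroup.mk' O with hq
  have hqs : Function.Surjective q := QuotientGroup.mk'_surjective _
  have hker : q.ker = O := QuotientGroup.ker_mk' O
  have hmem : ∀ x : H, q x = 1 ↔ x ∈ O := fun x => QuotientGroup.eq_one_iff x
  have hcomap : ∀ X : Subgroup H, (X.map q).comap q = X ⊔ O := fun X => by rw [Subgroup.comap_map_eq, hker]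
  have hred : Cfsg.pCore p (H ⧸ O) = ⊥ := CfsgLib.Core.pCore_quotient_pCore p H
  have hsup : sSup ((fun E : Subgroup H => E.map q) '' 𝒦) = (sSup 𝒦).map q := by
    rw [(Subgroup.gc_map_comap q).l_sSup, sSup_image]
  have hconj : ∀ (h : H) (E : Subgroup H),
      (E.map q).map (MulAut.conj (q h)).toMonoidHom = (E.map (MulAut.conj h).toMonoidHom).map q := by
    intro h E
    rw [Subgroup.map_map, Subgroup.map_map]
    congr 1
  have hAq : ∀ E : Subgroup H, (E ⊔ O).map q = E.map q := fun E => by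
    rw [Subgroup.map_sup, hq, QuotientGroup.map_mk'_self, sup_bot_eq]
  have hirr' : ∀ E ∈ 𝒦, Cfsg.IsStronglyPIrreducible p ↥(E.map q) := by
    intro E hE
    set f := q.subgroupMap E with hf
    have hfs : Function.Surjective f := q.subgroupMap_surjective E
    have hfk : f.ker = O.subgroupOf E := by
      ext x
      rw [MonoidHom.mem_ker, Subgroup.mem_subgroupOf, ← hmem]
      exact ⟨fun e => congrArg Subtype.val e, fun e => Subtype.ext e⟩
    have hkp : IsPGroup p f.ker :=
      hfk ▸ (CfsgLib.Core.isPGroup_pCore p H).comap_of_injective E.subtype E.subtype_injective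
    refine ⟨fun hc => (hirr E hE).1 ((CfsgLib.LocalEven.pClosed_iff_of_surjective f hfs hkp).mp hc),
      fun N hN hne' => ?_⟩
    haveI : (N.comap f).Normal := hN.comap f
    have h1 : Cfsg.pResidual p ↥E ≤ N.comap f := by
      refine (hirr E hE).2 _ inferInstance fun hle => hne' ?_
      have hOE : Cfsg.pCore p ↥E ≤ f.ker := by
        rw [hfk]
        intro x hx
        have hB : sSup 𝒦 ⊔ O ≤ Subgroup.normalizer ((E ⊔ O : Subgroup H) : Set H) := hnorm E hE
        haveI : (sSup 𝒦 ⊔ O).Normal := by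
          haveI : (sSup 𝒦).Normal := ⟨fun n hn g => by
            have : (sSup 𝒦).map (MulAut.conj g).toMonoidHom ≤ sSup 𝒦 := by
              rw [(Subgroup.gc_map_comap _).l_sSup]
              exact iSup₂_le fun E hE => le_sSup (hinv g E hE)
            exact this ⟨n, hn, rfl⟩⟩
          infer_instance
        have hY : IsPGroup p ↥(Cfsg.pCoreOf p E ⊔ O) :=
          (CfsgLib.LocalEvenB.isPGroup_pCoreOf E).to_sup_of_normal_right (CfsgLib.Core.isPGroup_pCore p H)
        have hYn : E ⊔ O ≤ Subgroup.normalizer ((Cfsg.pCoreOf p E ⊔ O : Subgroup H) : Set H) := by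
          refine sup_le ?_ (le_sup_right.trans Subgroup.le_normalizer)
          exact (le_inf (CfsgLib.LocalEvenB.le_normalizer_pCoreOf E)
            (CfsgLib.Core.le_normalizer_of_normal E O)).trans (Subgroup.normalizer_inf_normalizer_le_normalizer_sup _ _)
        have hle' : Cfsg.pCoreOf p E ⊔ O ≤ E ⊔ O := sup_le_sup_right (CfsgLib.LocalEvenB.pCoreOf_le E) O
        exact CfsgLib.Components.subnormal_pGroup_le_pCore (p := p)
          (Subgroup.IsSubnormal.step _ (E ⊔ O) hle'
            (Subgroup.IsSubnormal.step (E ⊔ O) (sSup 𝒦 ⊔ O) (sup_le_sup_right (le_sSup hE) O)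
              (Subgroup.Normal.isSubnormal inferInstance)
              ((Subgroup.normal_subgroupOf_iff_le_normalizer (sup_le_sup_right (le_sSup hE) O)).mpr hB))
            ((Subgroup.normal_subgroupOf_iff_le_normalizer hle').mpr hYn))
          hY (Subgroup.mem_sup_left ⟨x, hx, rfl⟩)
      have h2 := Subgroup.map_mono (f := f) hle
      rw [Subgroup.map_commutator, Subgroup.map_comap_eq_self_of_surjective hfs,
        Subgroup.map_top_of_surjective f hfs] at h2
      exact h2.trans (((Subgroup.map_eq_bot_iff _).mpr hOE).le.trans bot_le)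
    rw [← CfsgLib.Transfer.map_pResidual_of_surjective f hfs]
    exact Subgroup.map_le_iff_le_comap.mpr h1
  obtain ⟨⟨hnc, hN⟩, hdis⟩ := CfsgLib.LocalEven.irreducible_of_transitive
    (𝒦 := (fun E : Subgroup H => E.map q) '' 𝒦) hred (hne.image _)
    (by
      rintro g _ ⟨E, hE, rfl⟩
      obtain ⟨h, rfl⟩ := hqs g
      exact ⟨_, hinv h E hE, (hconj h E).symm⟩)
    (by
      rintro _ ⟨E, hE, rfl⟩ _ ⟨K, hK, rfl⟩
      obtain ⟨h, rfl⟩ := htr E hE K hK
      exact ⟨q h, (hconj h E).symm⟩)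
    (by rw [hsup, ← CfsgLib.Transfer.map_pResidual_of_surjective q hqs]; exact Subgroup.map_mono hres)
    (by
      rintro _ ⟨E, hE, rfl⟩
      rw [hsup]
      refine ((Subgroup.map_mono (le_sup_left.trans (hnorm E hE))).trans (Subgroup.le_normalizer_map q)).trans_eq ?_
      rw [hAq])
    (by rintro _ ⟨E, hE, rfl⟩; exact hirr' E hE)
  have hkerp : IsPGroup p q.ker := hker.symm ▸ CfsgLib.Core.isPGroup_pCore p H
  refine ⟨⟨fun hc => hnc ((CfsgLib.LocalEven.pClosed_iff_of_surjective q hqs hkerp).mpr hc), fun N hNn hNc => ?_⟩, ?_⟩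
  · haveI := hNn
    have h1 : Cfsg.pResidual p (H ⧸ O) ≤ N.map q := hN _ (hNn.map q hqs) fun hc => hNc (by
      refine (CfsgLib.LocalEven.pClosed_iff_of_surjective (q.subgroupMap N) (q.subgroupMap_surjective N) ?_).mp hc
      have hk : (q.subgroupMap N).ker = O.subgroupOf N := by
        ext x
        rw [MonoidHom.mem_ker, Subgroup.mem_subgroupOf, ← hmem]
        exact ⟨fun e => congrArg Subtype.val e, fun e => Subtype.ext e⟩
      exact hk ▸ (CfsgLib.Core.isPGroup_pCore p H).comap_of_injective N.subtype N.subtype_injective)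
    refine CfsgLib.Transfer.pResidual_le_iff.mpr fun g hg => ?_
    refine CfsgLib.LocalEven.mem_of_coprime_of_mem_sup (D := O) (CfsgLib.Core.isPGroup_pCore p H) ?_ hg
    rw [← hcomap, Subgroup.mem_comap]
    exact h1 (CfsgLib.Transfer.map_pResidual_le q (Subgroup.mem_map_of_mem q (CfsgLib.Transfer.mem_pResidual_of_coprime hg)))
  · intro E hE K hK
    rcases hdis _ ⟨E, hE, rfl⟩ _ ⟨K, hK, rfl⟩ with h | h
    · left
      have key : ∀ A B : Subgroup H, (Cfsg.pResidual p ↥(A.map q)).map (A.map q).subtype ≤ B.map q →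
          (Cfsg.pResidual p ↥(A ⊔ O)).map (A ⊔ O).subtype ≤ (Cfsg.pResidual p ↥(B ⊔ O)).map (B ⊔ O).subtype := by
        intro A B hAB
        rw [Subgroup.map_le_iff_le_comap]
        refine CfsgLib.Transfer.pResidual_le_iff.mpr fun g hg => ?_
        have hgB : (g : H) ∈ B ⊔ O := by
          rw [← hcomap, Subgroup.mem_comap]
          have hgA : q (g : H) ∈ A.map q := hAq A ▸ Subgroup.mem_map_of_mem q g.2
          refine hAB ⟨⟨q (g : H), hgA⟩, CfsgLib.Transfer.mem_pResidual_of_coprime ?_, rfl⟩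
          rw [Subgroup.orderOf_mk]
          exact hg.coprime_dvd_left ((orderOf_map_dvd q _).trans (by rw [Subgroup.orderOf_coe]))
        exact ⟨⟨(g : H), hgB⟩, CfsgLib.Transfer.mem_pResidual_of_coprime
          (by rwa [Subgroup.orderOf_mk, Subgroup.orderOf_coe]), rfl⟩
      exact le_antisymm (key E K (h.le.trans (Subgroup.map_subtype_le _)))
        (key K E (h.ge.trans (Subgroup.map_subtype_le _)))
    · right
      rw [← Subgroup.map_commutator, Subgroup.map_eq_bot_iff, hker] at h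
      exact h

end Cfsg.Agent.S2855
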