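import Cfsg.Statements.S2860
import Cfsg.Agent.Lib.LocalEven.LargeQuasisimple
import Cfsg.Agent.Lib.LocalEven.Overgroup

set_option autoImplicit false
open Cfsg

namespace Cfsg.Agent.S2860

/-- Let Q be a nontrivial large p-subgroup of the finite group H, U a nontrivial elementary abelian p-subgroup of H, and Q ≤ E ≤ N_H(U) with Q not normal in E. Suppose O_p(E/C_E(U)) = 1 and O^p(E)·C_E(U)/C_E(U) is quasisimple. Let E° be the weak closure of Q in E (generated by the conjugates of Q inside E) and E_∘ = O^p(E°). Then O^p(E)·C_E(U) = E_∘·C_E(U); E_∘ is perfect and equals O^p(E_∘); E_∘/C_{E_∘}(U) and E_∘/O_p(E_∘) are quasisimple; and E_∘ = [E_∘, Y] for every p-subgroup Y of E not centralizing U. -/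
theorem result {G : Type*} [Group G] [Finite G] {p : ℕ} [Fact p.Prime] (Q : Subgroup G) (hQp : IsPGroup p ↥Q) (hQ1 : Q ≠ ⊥) (hQ : Cfsg.IsLarge Q) (U : Subgroup G) (hU : Cfsg.IsElementaryAbelian p U) (hU1 : U ≠ ⊥) (E : Subgroup G) (hQE : Q ≤ E) (hEU : E ≤ Subgroup.normalizer ((U : Subgroup G) : Set G)) (hQn : ¬ E ≤ Subgroup.normalizer ((Q : Subgroup G) : Set G)) [hn : ((Subgroup.centralizer ((U : Subgroup G) : Set G)).subgroupOf E).Normal] (hred : Cfsg.pCore p (↥E ⧸ (Subgroup.centralizer ((U : Subgroup G) : Set G)).subgroupOf E) = ⊥) (hqs : Cfsg.IsQuasisimple ↥(((Cfsg.pResidual p ↥E) ⊔ (Subgroup.centralizer ((U : Subgroup G) : Set G)).subgroupOf E).map (QuotientGroup.mk' ((Subgroup.centralizer ((U : Subgroup G) : Set G)).subgroupOf E)))) (Er : Subgroup G) (hEr : Er = ((Cfsg.pResidual p ↥(Cfsg.weakClosure Q E)).map ((Cfsg.weakClosure Q E)).subtype)) [hn2 : ((Subgroup.centralizer ((U : Subgroup G) : Set G)).subgroupOf Er).Normal] : ((Cfsg.pResidual p ↥E).map (E).subtype) ⊔ (E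 ⊓ Subgroup.centralizer ((U : Subgroup G) : Set G)) = Er ⊔ (E ⊓ Subgroup.centralizer ((U : Subgroup G) : Set G)) ∧ ⁅Er, Er⁆ = Er ∧ ((Cfsg.pResidual p ↥Er).map (Er).subtype) = Er ∧ Cfsg.IsQuasisimple (↥Er ⧸ (Subgroup.centralizer ((U : Subgroup G) : Set G)).subgroupOf Er) ∧ Cfsg.IsQuasisimple (↥Er ⧸ Cfsg.pCore p ↥Er) ∧ ∀ Y : Subgroup G, Y ≤ E → IsPGroup p ↥Y → ¬ Y ≤ Subgroup.centralizer ((U : Subgroup G) : Set G) → ⁅Er, Y⁆ = Er := by
  haveI := hU.1
  have hUp : IsPGroup p ↥U := fun a => ⟨1, Subtype.ext (by simpa using hU.2 _ a.2)⟩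
  have hwc := CfsgLib.LocalEven.weaklyClosed_of_large hQp hQ1 hQ
  set Z := Subgroup.centralizer (U : Set G) with hZ
  set C := E ⊓ Z with hC
  set C' := Z.subgroupOf E with hC'
  obtain ⟨u, hu1, hu⟩ := CfsgLib.LocalEven.exists_ne_one_mem_centralizer hQp hUp hU1 (hQE.trans hEU)
  have hzp : ∀ H : Subgroup G, H ≤ Subgroup.centralizer ({u} : Set G) →
      H ≤ Subgroup.normalizer (Q : Set G) := by
    intro H hH
    refine le_trans ?_ (hQ.2 (Subgroup.zpowers u) (by rw [Subgroup.zpowers_le]; exact hu.2)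
      (by simpa [Subgroup.zpowers_eq_bot] using hu1))
    refine hH.trans (le_trans ?_ (Subgroup.centralizer_le_normalizer _))
    rw [← Subgroup.centralizer_closure, ← Subgroup.zpowers_eq_closure]
  have hCQn : C ≤ Subgroup.normalizer (Q : Set G) :=
    hzp C (inf_le_right.trans (Subgroup.centralizer_le (Set.singleton_subset_iff.mpr hu.1)))
  have hQZ : ¬ Q ≤ Z := fun h => hQn (hEU.trans (hQ.2 U (Subgroup.le_centralizer_iff.mp h) hU1))
  have hEC : E ≤ Subgroup.normalizer (C : Set G) :=
    (le_inf Subgroup.le_normalizer (hEU.trans CfsgLib.LocalEven.le_normalizer_centralizer)).trans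
      Subgroup.inf_normalizer_le_normalizer_inf
  -- the quotient
  set π := QuotientGroup.mk' C' with hπ
  set R := Cfsg.pResidual p ↥E with hR
  have hRπ : (R ⊔ C').map π = Cfsg.pResidual p (↥E ⧸ C') := by
    rw [Subgroup.map_sup, QuotientGroup.map_mk'_self, sup_bot_eq,
      CfsgLib.Transfer.map_pResidual_of_surjective π (QuotientGroup.mk'_surjective _)]
  have hqs' : Cfsg.IsQuasisimple ↥(Cfsg.pResidual p (↥E ⧸ C')) := hRπ ▸ hqs
  set L := R.map E.subtype with hL
  have hC'map : C'.map E.subtype = C := by rw [Subgroup.subgroupOf_map_subtype, hC, inf_comm]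
  -- pull back an equality in the quotient
  have hback : ∀ X : Subgroup ↥E, Cfsg.pResidual p (↥E ⧸ C') ≤ X.map π →
      L ≤ X.map E.subtype ⊔ C := by
    intro X hX
    have : R ≤ X ⊔ C' := by
      have h := le_sup_left.trans (Subgroup.map_le_iff_le_comap.mp (hRπ.le.trans hX))
      rwa [Subgroup.comap_map_eq, QuotientGroup.ker_mk'] at h
    exact (Subgroup.map_mono this).trans (by rw [Subgroup.map_sup, hC'map])
  have hY : ∀ Y : Subgroup G, Y ≤ E → IsPGroup p ↥Y → ¬ Y ≤ Z → L ≤ ⁅L, Y⁆ ⊔ C := by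
    intro Y hYE hYp hYZ
    have h1 : (Y.subgroupOf E).map π ≠ ⊥ := fun h => hYZ fun y hy => by
      rw [Subgroup.map_eq_bot_iff, QuotientGroup.ker_mk'] at h
      exact Subgroup.mem_subgroupOf.mp (h (show (⟨y, hYE hy⟩ : ↥E) ∈ Y.subgroupOf E from hy))
    have h2 := CfsgLib.LocalEven.commutator_residual_eq hred hqs'
      ((hYp.comap_of_injective E.subtype E.subtype_injective).map π) h1
    have h3 := hback ⁅R, Y.subgroupOf E⁆ (h2.ge.trans (by
      rw [Subgroup.map_commutator,
        CfsgLib.Transfer.map_pResidual_of_surjective π (QuotientGroup.mk'_surjective _)]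
      exact le_rfl))
    rwa [Subgroup.map_commutator, Subgroup.map_subgroupOf_eq_of_le hYE] at h3
  set K := Cfsg.weakClosure Q E with hK
  have hKE : K ≤ E := CfsgLib.LocalEven.weakClosure_le E
  have hQK : Q ≤ K := CfsgLib.LocalEven.le_weakClosure hQE
  have hEK : E ≤ Subgroup.normalizer (K : Set G) :=
    Subgroup.le_normalizer.trans (CfsgLib.LocalEven.le_normalizer_weakClosure E)
  have hErK : Er ≤ K := hEr ▸ Subgroup.map_subtype_le _
  have hEEr : E ≤ Subgroup.normalizer (Er : Set G) :=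
    hEr ▸ hEK.trans (CfsgLib.LocalEven.normalizer_le_normalizer_characteristic K _)
  have hErE : Er ≤ E := hErK.trans hKE
  have hCE : C ≤ E := inf_le_left
  have hKEr : K ≤ Er ⊔ Q := hEr ▸ CfsgLib.LocalEven.weakClosure_eq_residual_sup hQp hwc hQE
  have hErL : Er ≤ L := hEr ▸ CfsgLib.Transfer.map_subtype_pResidual_mono hKE
  have hLE : L ≤ E := Subgroup.map_subtype_le _
  -- first claim
  have hLK : L ≤ K ⊔ C := (hY Q hQE hQp hQZ).trans (sup_le_sup_right
    ((Subgroup.commutator_mono hLE hQK).trans (Subgroup.le_normalizer_iff_commutator_le_right.mp hEK)) C)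
  have hLEr : L ≤ Er ⊔ C := by
    set J := K ⊔ C with hJ
    have hJE : J ≤ E := sup_le hKE hCE
    have h2 : (Cfsg.pResidual p ↥J).map J.subtype ≤ Er ⊔ C :=
      CfsgLib.LocalEven.pResidualOf_sup_sylow_eq (sup_le_sup_right hErK C)
        (hJE.trans ((le_inf hEEr hEC).trans (Subgroup.normalizer_inf_normalizer_le_normalizer_sup _ _)))
        hQp (sup_le (hKEr.trans (sup_le_sup_right le_sup_left Q)) (le_sup_right.trans le_sup_left))
        (hQK.trans le_sup_left)
    refine le_trans ?_ h2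
    rw [hL, Subgroup.map_le_iff_le_comap]
    exact CfsgLib.Transfer.pResidual_le_iff.mpr fun g hg =>
      ⟨⟨(g : G), hLK (Subgroup.mem_map_of_mem _ (CfsgLib.Transfer.mem_pResidual_of_coprime hg))⟩,
        CfsgLib.Transfer.mem_pResidual_of_coprime (by rwa [Subgroup.orderOf_mk, Subgroup.orderOf_coe]), rfl⟩
  have claim1 : L ⊔ C = Er ⊔ C := le_antisymm (sup_le hLEr le_sup_right) (sup_le_sup_right hErL C)
  have hcomL : ∀ X : Subgroup G, X ≤ E → ⁅X, L⁆ ≤ ⁅X, Er⁆ ⊔ C := by
    intro X hX
    refine (Subgroup.commutator_mono le_rfl hLEr).trans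
      (CfsgLib.LocalEven.commutator_sup_le_of_normalized le_sup_left
        ((Subgroup.commutator_mono hX le_rfl).trans
          ((Subgroup.le_normalizer_iff_commutator_le_right.mp hEC).trans le_sup_right))
        (sup_le ?_ (le_sup_right.trans Subgroup.le_normalizer)))
    exact (le_inf (Subgroup.normalizer_commutator_ge_right X Er) (hErE.trans hEC)).trans
      (Subgroup.normalizer_inf_normalizer_le_normalizer_sup _ _)
  -- `Er` centralizes `C` modulo `O_p(C)`
  set P := Cfsg.pCoreOf p C with hP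
  have hEP : E ≤ Subgroup.normalizer (P : Set G) :=
    hEC.trans (CfsgLib.LocalEven.normalizer_le_normalizer_pCoreOf C)
  have hCK : ⁅C, K⁆ ≤ P := CfsgLib.LocalEven.commutator_weakClosure_le hQp hwc hQE hEC hEP (by
    refine (le_inf (Subgroup.le_normalizer_iff_commutator_le_left.mp (hQE.trans hEC))
      (Subgroup.le_normalizer_iff_commutator_le_right.mp hCQn)).trans ?_
    exact CfsgLib.LocalEvenB.le_pCoreOf inf_le_left (hQp.to_le inf_le_right)
      ((le_inf Subgroup.le_normalizer hCQn).trans Subgroup.inf_normalizer_le_normalizer_inf))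
  have hCr : ⁅(Z.subgroupOf Er), (⊤ : Subgroup ↥Er)⁆ ≤ Cfsg.pCore p ↥Er := by
    rw [← Subgroup.map_le_map_iff_of_injective Er.subtype_injective, Subgroup.map_commutator,
      ← MonoidHom.range_eq_map, Subgroup.range_subtype, Subgroup.subgroupOf_map_subtype]
    refine le_trans (le_inf ((Subgroup.commutator_mono (le_inf (inf_le_right.trans hErE) inf_le_left)
      hErK).trans hCK) ((Subgroup.commutator_mono inf_le_right le_rfl).trans
        (Subgroup.le_normalizer_iff_commutator_le_left.mp Subgroup.le_normalizer))) ?_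
    exact CfsgLib.LocalEvenB.le_pCoreOf inf_le_right
      ((CfsgLib.LocalEvenB.isPGroup_pCoreOf C).to_le inf_le_left)
      ((le_inf (hErE.trans hEP) Subgroup.le_normalizer).trans Subgroup.inf_normalizer_le_normalizer_inf)
  -- `O_p(Er) ≤ C`
  have hOZ : Cfsg.pCoreOf p Er ≤ Z := by
    have hOE : E ≤ Subgroup.normalizer (Cfsg.pCoreOf p Er : Set G) :=
      hEEr.trans (CfsgLib.LocalEven.normalizer_le_normalizer_pCoreOf Er)
    have hOle : Cfsg.pCoreOf p Er ≤ E := (CfsgLib.LocalEvenB.pCoreOf_le Er).trans hErE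
    haveI : ((Cfsg.pCoreOf p Er).subgroupOf E).Normal :=
      (Subgroup.normal_subgroupOf_iff_le_normalizer hOle).mpr hOE
    have hmn : (((Cfsg.pCoreOf p Er).subgroupOf E).map π).Normal :=
      Subgroup.Normal.map inferInstance π (QuotientGroup.mk'_surjective _)
    have h := @CfsgLib.Core.le_pCore _ _ _ _ hmn (((CfsgLib.LocalEvenB.isPGroup_pCoreOf (p := p) Er).comap_of_injective
      E.subtype E.subtype_injective).map π)
    intro x hx
    have h' : π ⟨x, hOle hx⟩ = 1 := Subgroup.mem_bot.mp (hred ▸ h ⟨⟨x, hOle hx⟩, hx, rfl⟩)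
    exact (QuotientGroup.eq_one_iff (⟨x, hOle hx⟩ : ↥E)).mp h'
  -- `Er` is perfect
  set D := ⁅Er, Er⁆ with hD
  have hED : E ≤ Subgroup.normalizer (D : Set G) := CfsgLib.LocalEven.commutator_le_normalizer hEEr hEEr
  have hDC : Er ≤ D ⊔ C := by
    have h3 := hback ⁅R, R⁆ (by
      rw [Subgroup.map_commutator,
        CfsgLib.Transfer.map_pResidual_of_surjective π (QuotientGroup.mk'_surjective _),
        CfsgLib.Components.IsQuasisimple.commutator_eq_self hqs'])
    rw [Subgroup.map_commutator] at h3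
    refine hErL.trans (h3.trans (sup_le ((hcomL L hLE).trans (sup_le ?_ le_sup_right)) le_sup_right))
    rw [Subgroup.commutator_comm]
    exact hcomL Er hErE
  have hperf : D = Er := by
    refine le_antisymm (Subgroup.le_normalizer_iff_commutator_le_left.mp Subgroup.le_normalizer) ?_
    have hDK : D ≤ K := (Subgroup.le_normalizer_iff_commutator_le_left.mp Subgroup.le_normalizer).trans hErK
    have hn : K ≤ Subgroup.normalizer ((D ⊔ Q : Subgroup G) : Set G) := by
      refine hKEr.trans (sup_le (hDC.trans (sup_le (le_sup_left.trans Subgroup.le_normalizer) ?_))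
        (le_sup_right.trans Subgroup.le_normalizer))
      exact (le_inf (hCE.trans hED) hCQn).trans (Subgroup.normalizer_inf_normalizer_le_normalizer_sup _ _)
    rw [hEr]
    exact CfsgLib.LocalEven.pResidualOf_sup_sylow_eq hDK (hKE.trans hED) hQp
      (CfsgLib.LocalEven.weakClosure_idem hQp hwc hQE le_sup_right hn) hQK
  have hres : (Cfsg.pResidual p ↥Er).map Er.subtype = Er := by
    refine le_antisymm (Subgroup.map_subtype_le _) ?_
    conv_lhs => rw [hEr]
    rw [Subgroup.map_le_iff_le_comap]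
    refine CfsgLib.Transfer.pResidual_le_iff.mpr fun g hg => ?_
    exact ⟨⟨(g : G), hEr ▸ Subgroup.mem_map_of_mem _ (CfsgLib.Transfer.mem_pResidual_of_coprime hg)⟩,
      CfsgLib.Transfer.mem_pResidual_of_coprime (by rwa [Subgroup.orderOf_mk, Subgroup.orderOf_coe]), rfl⟩
  have hres' : Cfsg.pResidual p ↥Er = ⊤ := by
    apply Subgroup.map_injective Er.subtype_injective
    rw [hres, ← MonoidHom.range_eq_map, Subgroup.range_subtype]
  haveI hperf' : Group.IsPerfect ↥Er := Subgroup.isPerfect_iff.mpr hperf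
  haveI hZn : (Z.subgroupOf Er).Normal := hn2
  -- absorption
  have habs : ∀ N : Subgroup ↥Er, N.Normal → N ⊔ Z.subgroupOf Er = ⊤ → N = ⊤ := by
    intro N hN hsup
    haveI := hN
    have h1 : (⊤ : Subgroup ↥Er) ≤ N ⊔ Cfsg.pCore p ↥Er := by
      calc (⊤ : Subgroup ↥Er) = ⁅(⊤ : Subgroup ↥Er), N ⊔ Z.subgroupOf Er⁆ := by
            rw [hsup, ← commutator_def, Group.IsPerfect.commutator_eq_top]
        _ ≤ _ := CfsgLib.LocalEven.commutator_sup_le_of_normalized
            ((Subgroup.commutator_le_right _ N).trans le_sup_left)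
            (by rw [Subgroup.commutator_comm]; exact hCr.trans le_sup_right)
            Subgroup.le_normalizer_of_normal
    exact top_le_iff.mp (hres'.ge.trans (CfsgLib.LocalEven.pResidual_le_of_sup_eq_top
      (CfsgLib.Core.isPGroup_pCore p _) (top_le_iff.mp h1)))
  -- Dedekind
  have hded : ∀ N : Subgroup G, N ≤ Er → Er ≤ N ⊔ C → N.subgroupOf Er ⊔ Z.subgroupOf Er = ⊤ := by
    intro N hN hsup
    rw [eq_top_iff]
    rintro ⟨x, hx⟩ -
    have hx' : x ∈ ((N ⊔ C : Subgroup G) : Set G) := hsup hx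
    rw [Subgroup.coe_mul_of_left_le_normalizer_right N C ((hN.trans hErE).trans hEC)] at hx'
    obtain ⟨n, hn', c, hc, e⟩ := hx'
    have hc' : c ∈ Er := by
      rw [show c = n⁻¹ * x by rw [← e]; group]
      exact mul_mem (inv_mem (hN hn')) hx
    have : (⟨x, hx⟩ : ↥Er) = ⟨n, hN hn'⟩ * ⟨c, hc'⟩ := Subtype.ext e.symm
    rw [this]
    exact mul_mem (Subgroup.mem_sup_left hn') (Subgroup.mem_sup_right hc.2)
  -- the quotient by the centralizer
  have hqsC : Cfsg.IsQuasisimple (↥Er ⧸ Z.subgroupOf Er) := by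
    set f : ↥Er →* ↥E ⧸ C' := π.comp (Subgroup.inclusion hErE) with hf
    have hker : f.ker = Z.subgroupOf Er := by
      ext x
      rw [MonoidHom.mem_ker, hf, MonoidHom.comp_apply, hπ, QuotientGroup.mk'_apply, QuotientGroup.eq_one_iff]
      rfl
    have hrange : f.range = Cfsg.pResidual p (↥E ⧸ C') := by
      rw [hf, MonoidHom.range_comp, Subgroup.inclusion_range, ← hRπ]
      have : Er.subgroupOf E ⊔ C' = R ⊔ C' := by
        apply Subgroup.map_injective E.subtype_injective
        rw [Subgroup.map_sup, Subgroup.map_sup, hC'map, Subgroup.map_subgroupOf_eq_of_le hErE, ← claim1]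
      rw [← this, Subgroup.map_sup, QuotientGroup.map_mk'_self, sup_bot_eq]
    exact CfsgLib.Components.IsQuasisimple.congr (((QuotientGroup.quotientMulEquivOfEq hker.symm).trans
      ((QuotientGroup.quotientKerEquivRange f).trans (MulEquiv.subgroupCongr hrange))).symm) hqs'
  have hqsO : Cfsg.IsQuasisimple (↥Er ⧸ Cfsg.pCore p ↥Er) := by
    haveI : Nontrivial (↥Er ⧸ Cfsg.pCore p ↥Er) := QuotientGroup.nontrivial_iff.mpr fun h => by
      have hZtop : Z.subgroupOf Er = ⊤ := top_le_iff.mp fun x _ => by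
        exact hOZ ⟨x, h ▸ Subgroup.mem_top x, rfl⟩
      haveI := CfsgLib.Components.IsQuasisimple.nontrivial hqsC
      exact QuotientGroup.nontrivial_iff.mp this hZtop
    haveI : Group.IsPerfect (↥Er ⧸ Cfsg.pCore p ↥Er) :=
      Group.IsPerfect.ofSurjective (QuotientGroup.mk'_surjective (Cfsg.pCore p ↥Er))
    refine CfsgLib.Components.isQuasisimple_of_normal_le_center fun Nb hNb hne => ?_
    set μ := QuotientGroup.mk' (Cfsg.pCore p ↥Er) with hμ
    set N := Nb.comap μ with hN
    haveI hNn : N.Normal := hNb.comap μ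
    have hμs : Function.Surjective μ := QuotientGroup.mk'_surjective _
    have hNne : N ≠ ⊤ := fun h => hne (by
      rw [← Subgroup.map_comap_eq_self_of_surjective hμs Nb, ← hN, h,
        Subgroup.map_top_of_surjective μ hμs])
    set ν := QuotientGroup.mk' (Z.subgroupOf Er) with hν
    have hνs : Function.Surjective ν := QuotientGroup.mk'_surjective _
    have hne' : N.map ν ≠ ⊤ := fun h => hNne (habs N hNn (by
      have := congrArg (Subgroup.comap ν) h
      rwa [Subgroup.comap_map_eq, QuotientGroup.ker_mk', Subgroup.comap_top] at this))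
    have hc := CfsgLib.Components.IsQuasisimple.le_center_of_ne_top hqsC (hNn.map ν hνs) hne'
    have h1 : ⁅N, (⊤ : Subgroup ↥Er)⁆ ≤ Z.subgroupOf Er := by
      rw [Subgroup.commutator_le]
      intro a ha b _
      rw [← QuotientGroup.eq_one_iff, ← QuotientGroup.mk'_apply, map_commutatorElement,
        commutatorElement_eq_one_iff_mul_comm]
      exact (Subgroup.mem_center_iff.mp (hc (Subgroup.mem_map_of_mem ν ha)) _).symm
    have h2 : ⁅⁅N, (⊤ : Subgroup ↥Er)⁆, ⊤⁆ ≤ Cfsg.pCore p ↥Er :=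
      (Subgroup.commutator_mono h1 le_rfl).trans hCr
    have h3 := CfsgLib.ClassSizes.three_subgroup_le (Cfsg.pCore p ↥Er)
      (by rw [Subgroup.commutator_comm ⊤ N]; exact h2) h2
    rw [← commutator_def, Group.IsPerfect.commutator_eq_top] at h3
    intro x hx
    obtain ⟨a, rfl⟩ := hμs x
    refine Subgroup.mem_center_iff.mpr fun y => ?_
    obtain ⟨b, rfl⟩ := hμs y
    rw [← map_mul, ← map_mul, ← mul_inv_eq_one, ← map_inv, ← map_mul, QuotientGroup.mk'_apply,
      QuotientGroup.eq_one_iff]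
    simpa [commutatorElement_def, mul_assoc] using h3 (Subgroup.commutator_mem_commutator (Subgroup.mem_top b) hx)
  refine ⟨claim1, hperf, hres, hqsC, hqsO, fun Y hYE hYp hYZ => ?_⟩
  have hle : ⁅Er, Y⁆ ≤ Er := Subgroup.le_normalizer_iff_commutator_le_left.mp (hYE.trans hEEr)
  haveI : (⁅Er, Y⁆.subgroupOf Er).Normal :=
    (Subgroup.normal_subgroupOf_iff_le_normalizer hle).mpr (Subgroup.normalizer_commutator_ge_left Er Y)
  refine le_antisymm hle (Subgroup.subgroupOf_eq_top.mp (habs _ inferInstance (hded _ hle ?_)))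
  refine hErL.trans ((hY Y hYE hYp hYZ).trans (sup_le ?_ le_sup_right))
  rw [Subgroup.commutator_comm]
  refine (hcomL Y hYE).trans (sup_le ?_ le_sup_right)
  rw [Subgroup.commutator_comm]
  exact le_sup_left

end Cfsg.Agent.S2860
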