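import Cfsg.Statements.S2864
import Cfsg.Agent.Lib.LocalEven.Standing
import Cfsg.Agent.Lib.LocalEven.Subnormal
import Cfsg.Agent.Lib.Core.Coprime
import Cfsg.Agent.Lib.PGroups.Basic

set_option autoImplicit false
open Cfsg

namespace Cfsg.Agent.S2864

/-- Standing hypotheses: G a finite group, S a Sylow p-subgroup, Q a nontrivial large p-subgroup of G contained in S, M a subgroup containing S with the basic property (M ∈ 𝔐_G(S)); Y_M the largest p-reduced normal subgroup of M and M† = M·C_G(Y_M). Let I be a nontrivial normal p-subgroup of M and Y ≤ O_p(M†); let L be a subgroup of G containing Y and A a normal p-subgroup of L with I ≤ A ≤ M. If [Y, A] ≤ [I, A], then Y ≤ O_p(L). -/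
theorem result {G : Type*} [Group G] [Finite G] {p : ℕ} [Fact p.Prime] (S : Sylow p G) (Q : Subgroup G) (hQp : IsPGroup p ↥Q) (hQ1 : Q ≠ ⊥) (hQS : Q ≤ (S : Subgroup G)) (hQ : Cfsg.IsLarge Q) (M : Subgroup G) (hSM : (S : Subgroup G) ≤ M) (hM : Cfsg.IsInFrakM p M) (I : Subgroup G) (hI1 : I ≠ ⊥) (hIp : IsPGroup p ↥I) (hIM : I ≤ M ∧ M ≤ Subgroup.normalizer ((I : Subgroup G) : Set G)) (Y : Subgroup G) (hY : Y ≤ (Cfsg.pCoreOf p (M ⊔ Subgroup.centralizer (((Cfsg.largestPReducedOf p M) : Subgroup G) : Set G)))) (L : Subgroup G) (hYL : Y ≤ L) (A : Subgroup G) (hAp : IsPGroup p ↥A) (hAL : A ≤ L ∧ L ≤ Subgroup.normalizer ((A : Subgroup G) : Set G)) (hIA : I ≤ A) (hAM : A ≤ M) (hc : ⁅Y, A⁆ ≤ ⁅I, A⁆) : Y ≤ (Cfsg.pCoreOf p L) := by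
  obtain ⟨hAL', hLA⟩ := hAL
  have hpar := CfsgLib.LocalEven.parabolic_of_large hQp hQ1 hQ
  set Md := M ⊔ Subgroup.centralizer (Cfsg.largestPReducedOf p M : Set G) with hMd
  have hCA : Subgroup.centralizer (A : Set G) ≤ Md :=
    ((Subgroup.centralizer_le (SetLike.coe_subset_coe.mpr hIA)).trans (Subgroup.centralizer_le_normalizer _)).trans
      (CfsgLib.LocalEven.normalizer_le_dagger hpar S hSM hM hIp hI1 hIM.2)
  set Φ := (frattini ↥A).map A.subtype with hΦ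
  have hLΦ : L ≤ Subgroup.normalizer (Φ : Set G) :=
    hLA.trans (CfsgLib.LocalEven.normalizer_le_normalizer_characteristic A _)
  let B : Subgroup G :=
    { carrier := {l | l ∈ L ∧ ∀ a ∈ A, l * a * l⁻¹ * a⁻¹ ∈ Φ}
      one_mem' := ⟨one_mem L, fun a _ => by simp⟩
      mul_mem' := by
        rintro s t ⟨hs, hs'⟩ ⟨ht, ht'⟩
        refine ⟨mul_mem hs ht, fun a ha => ?_⟩
        rw [show s * t * a * (s * t)⁻¹ * a⁻¹ =
          (s * (t * a * t⁻¹ * a⁻¹) * s⁻¹) * (s * a * s⁻¹ * a⁻¹) by group]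
        exact mul_mem ((Subgroup.mem_normalizer_iff.mp (hLΦ hs) _).mp (ht' a ha)) (hs' a ha)
      inv_mem' := by
        rintro s ⟨hs, hs'⟩
        refine ⟨inv_mem hs, fun a ha => ?_⟩
        rw [show s⁻¹ * a * s⁻¹⁻¹ * a⁻¹ = s⁻¹ * (s * a * s⁻¹ * a⁻¹)⁻¹ * s by group]
        exact (Subgroup.mem_normalizer_iff''.mp (hLΦ hs) _).mp (inv_mem (hs' a ha)) }
  have hBL : B ≤ L := fun x hx => hx.1
  have hLB : L ≤ Subgroup.normalizer (B : Set G) := by
    intro g hg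
    rw [CfsgLib.LocalEven.mem_normalizer_conj_iff]
    refine Subgroup.eq_of_le_of_card_ge ?_ (Subgroup.card_map_of_injective (MulAut.conj g).injective).ge
    rintro _ ⟨b, ⟨hb, hb'⟩, rfl⟩
    refine ⟨mul_mem (mul_mem hg hb) (inv_mem hg), fun a ha => ?_⟩
    show g * b * g⁻¹ * a * (g * b * g⁻¹)⁻¹ * a⁻¹ ∈ Φ
    have h1 : g⁻¹ * a * g ∈ A := (Subgroup.mem_normalizer_iff''.mp (hLA hg) a).mp ha
    rw [show g * b * g⁻¹ * a * (g * b * g⁻¹)⁻¹ * a⁻¹ =
      g * (b * (g⁻¹ * a * g) * b⁻¹ * (g⁻¹ * a * g)⁻¹) * g⁻¹ by group]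
    exact (Subgroup.mem_normalizer_iff.mp (hLΦ hg) _).mp (hb' _ h1)
  have hYB : Y ≤ B := fun y hy => ⟨hYL hy, fun a ha => by
    have h1 : y * a * y⁻¹ * a⁻¹ ∈ ⁅A, A⁆ :=
      (hc.trans (Subgroup.commutator_mono hIA le_rfl)) (Subgroup.commutator_mem_commutator hy ha)
    rw [← Subgroup.map_subtype_commutator] at h1
    exact Subgroup.map_mono (CfsgLib.PGroups.commutator_le_frattini' hAp) h1⟩
  set C := B ⊓ Subgroup.centralizer (A : Set G) with hC
  have hres : Cfsg.pResidual p ↥B ≤ (C ⊔ Y).subgroupOf B := by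
    refine CfsgLib.Transfer.pResidual_le_iff.mpr fun g hg => Subgroup.mem_sup_left (T := Y) ⟨g.2, ?_⟩
    have hz : ∀ z ∈ Subgroup.zpowers (g : G), z ∈ B := Subgroup.zpowers_le.mpr g.2
    refine CfsgLib.Core.centralizes_of_centralizes_frattini_quotient
      ((Subgroup.zpowers_le.mpr g.2).trans (hBL.trans hLA)) ?_ (fun z hz' a ha => (hz z hz').2 a ha)
      (Subgroup.mem_zpowers _)
    obtain ⟨n, hn⟩ := IsPGroup.iff_card.mp (hAp.to_subgroup (frattini ↥A))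
    rw [Nat.card_zpowers, Subgroup.orderOf_coe, hn]
    exact Nat.Coprime.pow_right n hg
  have hKB : C ⊔ Y ≤ B := sup_le inf_le_left hYB
  have hKMd : C ⊔ Y ≤ Md := sup_le (inf_le_right.trans hCA)
    (hY.trans (CfsgLib.LocalEvenB.pCoreOf_le Md))
  have h1 : Y ≤ Cfsg.pCoreOf p (C ⊔ Y) := by
    refine (le_inf hY le_sup_right).trans (CfsgLib.LocalEvenB.le_pCoreOf inf_le_right
      ((CfsgLib.LocalEvenB.isPGroup_pCoreOf Md).to_le inf_le_left) ?_)
    exact (le_inf (hKMd.trans (CfsgLib.LocalEvenB.le_normalizer_pCoreOf Md)) Subgroup.le_normalizer).trans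
      Subgroup.inf_normalizer_le_normalizer_inf
  refine h1.trans ((CfsgLib.LocalEven.pCoreOf_le_of_subnormal hKB
    (CfsgLib.LocalEven.isSubnormal_of_pResidual_le hres)).trans
    (CfsgLib.LocalEven.pCoreOf_le_of_subnormal hBL ?_))
  exact ((Subgroup.normal_subgroupOf_iff_le_normalizer hBL).mpr hLB).isSubnormal

end Cfsg.Agent.S2864
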