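import Cfsg.Statements.S2872
import Cfsg.Agent.Lib.LocalEven.TransferTwo
import Cfsg.Agent.Lib.PGroups.Basic

set_option autoImplicit false
open Cfsg

namespace Cfsg.Agent.S2872

/-- Let S be a Sylow 2-subgroup of the finite group G. Then G has a proper normal subgroup of 2-power index (O²(G) ≠ G), or Ω₁(Z(S)) is contained in the Frattini subgroup of S, or N_G(S) acts nontrivially on Ω₁(Z(S)) by conjugation. -/
theorem result {G : Type*} [Group G] [Finite G] (S : Sylow 2 G) : Cfsg.pResidual 2 G ≠ ⊤ ∨ Cfsg.omegaOne 2 ((S : Subgroup G) ⊓ Subgroup.centralizer ((S : Subgroup G) : Set G)) ≤ (frattini ↥(S : Subgroup G)).map (S : Subgroup G).subtype ∨ ∃ g ∈ Subgroup.normalizer ((S : Subgroup G) : Set G), ∃ z ∈ Cfsg.omegaOne 2 ((S : Subgroup G) ⊓ Subgroup.centralizer ((S : Subgroup G) : Set G)), g * z * g⁻¹ ≠ z := by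
  classical
  haveI : Fact (Nat.Prime 2) := ⟨Nat.prime_two⟩
  by_cases hΦ : Cfsg.omegaOne 2 ((S : Subgroup G) ⊓ Subgroup.centralizer ((S : Subgroup G) : Set G)) ≤ (frattini ↥(S : Subgroup G)).map (S : Subgroup G).subtype
  · exact Or.inr (Or.inl hΦ)
  by_cases hfix : ∃ g ∈ Subgroup.normalizer ((S : Subgroup G) : Set G), ∃ z ∈ Cfsg.omegaOne 2 ((S : Subgroup G) ⊓ Subgroup.centralizer ((S : Subgroup G) : Set G)), g * z * g⁻¹ ≠ z
  · exact Or.inr (Or.inr hfix)
  left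
  push Not at hfix
  have hgen : ∃ z, (z ∈ (S : Subgroup G) ⊓ Subgroup.centralizer ((S : Subgroup G) : Set G) ∧ z ^ 2 = 1) ∧
      z ∉ (frattini ↥(S : Subgroup G)).map (S : Subgroup G).subtype := by
    by_contra h
    push Not at h
    exact hΦ ((Subgroup.closure_le _).mpr fun z hz => h z hz)
  obtain ⟨z, ⟨hzSC, hz2⟩, hzΦ⟩ := hgen
  obtain ⟨hzS, hzC⟩ := Subgroup.mem_inf.mp hzSC
  obtain ⟨M, hM, hzM⟩ : ∃ M : Subgroup ↥(S : Subgroup G), IsCoatom M ∧ (⟨z, hzS⟩ : ↥(S : Subgroup G)) ∉ M := by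
    by_contra h
    push Not at h
    apply hzΦ
    refine ⟨⟨z, hzS⟩, ?_, rfl⟩
    have : (⟨z, hzS⟩ : ↥(S : Subgroup G)) ∈ ⨅ M ∈ {M : Subgroup ↥(S : Subgroup G) | IsCoatom M}, M := by
      simp only [Subgroup.mem_iInf]; exact fun M hM => h M hM
    simpa [frattini, Order.radical] using this
  obtain ⟨H, hHn, hH2, hzH⟩ := CfsgLib.LocalEven.exists_index_two_of_central_involution S z hzS hz2
    (fun s hs => Subgroup.mem_centralizer_iff.mp hzC s hs) M
    (CfsgLib.PGroups.index_of_isCoatom S.2 hM) hzM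
    (fun n hn => hfix n hn z (Subgroup.subset_closure ⟨hzSC, hz2⟩))
  intro htop
  have hle : Cfsg.pResidual 2 G ≤ H := by
    refine (Subgroup.closure_le _).mpr fun g hg => ?_
    obtain ⟨k, hk⟩ : Odd (orderOf g) := Nat.Coprime.odd_of_right hg
    have h2 : g ^ 2 ∈ H := Subgroup.sq_mem_of_index_two hH2 g
    have : g = ((g ^ 2) ^ k)⁻¹ := by
      rw [eq_inv_iff_mul_eq_one, ← pow_mul, ← pow_succ', ← hk, pow_orderOf_eq_one]
    rw [SetLike.mem_coe, this]
    exact inv_mem (pow_mem h2 k)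
  exact hzH (hle (htop ▸ Subgroup.mem_top z))

end Cfsg.Agent.S2872
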