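import Cfsg.Statements.S2873
import Cfsg.Agent.Lib.Signalizer.Involutions
import Cfsg.Agent.Lib.LocalEven.PClosed
import Cfsg.Agent.Lib.LocalEven.Basic
import Cfsg.Agent.Lib.Core.Cores

set_option autoImplicit false
open Cfsg

namespace Cfsg.Agent.S2873

/-- Let G be a finite group and r an odd prime such that G ⧸ O₂(G) is dihedral of order 2r, and let R be a Sylow r-subgroup of G with C_{O₂(G)}(R) = 1. Then N_G(R) is dihedral of order 2r; for any involution a of N_G(R), every involution of G outside O₂(G) is conjugate to a; and |C_{O₂(G)}(a)|² = |O₂(G)|. -/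
theorem result {G : Type*} [Group G] [Finite G] {r : ℕ} [Fact r.Prime] (hr : r ≠ 2) [hN : (Cfsg.pCore 2 G).Normal] (hquot : Nonempty (G ⧸ Cfsg.pCore 2 G ≃* DihedralGroup r)) (R : Sylow r G) (hC : Cfsg.pCore 2 G ⊓ Subgroup.centralizer ((R : Subgroup G) : Set G) = ⊥) : Nonempty (↥(Subgroup.normalizer ((R : Subgroup G) : Set G)) ≃* DihedralGroup r) ∧ ∀ a : G, a ∈ Subgroup.normalizer ((R : Subgroup G) : Set G) → orderOf a = 2 → (∀ b : G, orderOf b = 2 → b ∉ Cfsg.pCore 2 G → ∃ g : G, g * a * g⁻¹ = b) ∧ Nat.card ↥(Cfsg.pCore 2 G ⊓ Subgroup.centralizer ({a} : Set G)) ^ 2 = Nat.card ↥(Cfsg.pCore 2 G) := by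
  have hQn := hN
  haveI : Fact (Nat.Prime 2) := ⟨Nat.prime_two⟩
  haveI : NeZero r := ⟨(Fact.out : r.Prime).ne_zero⟩
  have hr2 : (r : ℕ).Coprime 2 := (Nat.coprime_primes Fact.out Nat.prime_two).mpr hr
  set Q := Cfsg.pCore 2 G with hQ
  obtain ⟨e⟩ := hquot
  set f : G →* DihedralGroup r := e.toMonoidHom.comp (QuotientGroup.mk' Q) with hf
  have hfs : Function.Surjective f := e.surjective.comp (QuotientGroup.mk'_surjective Q)
  have hker : ∀ g, f g = 1 ↔ g ∈ Q := fun g => by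
    rw [hf, MonoidHom.comp_apply, MulEquiv.coe_toMonoidHom, map_eq_one_iff e e.injective, QuotientGroup.mk'_apply,
      QuotientGroup.eq_one_iff]
  have hQp : IsPGroup 2 Q := CfsgLib.Core.isPGroup_pCore 2 G
  have hQR : Q ⊓ (R : Subgroup G) = ⊥ := by
    obtain ⟨i, hi⟩ := hQp.exists_card_eq
    obtain ⟨j, hj⟩ := R.2.exists_card_eq
    refine Subgroup.inf_eq_bot_of_coprime ?_
    rw [hi, hj]; exact Nat.Coprime.pow _ _ hr2.symm
  have hkf : f.ker = Q := Subgroup.ext fun g => by rw [MonoidHom.mem_ker]; exact hker g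
  -- the image of `R`
  set Rot := Subgroup.zpowers (DihedralGroup.r (1 : ZMod r)) with hRot
  have hRotmem : ∀ i, DihedralGroup.r i ∈ Rot := fun i => ⟨(i.val : ℤ), by
    show DihedralGroup.r (1 : ZMod r) ^ (i.val : ℤ) = _
    rw [zpow_natCast, DihedralGroup.r_one_pow, ZMod.natCast_zmod_val]⟩
  have hcardR : Nat.card (R : Subgroup G) = r := by
    have hG : Nat.card G = Nat.card Q * (2 * r) := by
      rw [Subgroup.card_eq_card_quotient_mul_card_subgroup Q, Nat.card_congr e.toEquiv, DihedralGroup.nat_card, mul_comm]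
    obtain ⟨i, hi⟩ := hQp.exists_card_eq
    rw [R.card_eq_multiplicity, hG, hi]
    have h1 : (2 ^ i * (2 * r)).factorization r = 1 := by
      rw [← mul_assoc, ← pow_succ, Nat.factorization_mul (by positivity) (NeZero.ne r), Nat.factorization_pow]
      simp [Nat.prime_two.factorization, (Fact.out : r.Prime).factorization, Finsupp.single_apply, hr.symm]
    rw [h1, pow_one]
  have hfR : (R : Subgroup G).map f = Rot := by
    refine Subgroup.eq_of_le_of_card_ge ?_ ?_
    · rintro _ ⟨x, hx, rfl⟩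
      rcases hxd : f x with i | i
      · exact hRotmem i
      · exfalso
        have h1 : orderOf (f x) ∣ r := ((orderOf_map_dvd f x).trans (Subgroup.orderOf_dvd_natCard _ hx)).trans (dvd_of_eq hcardR)
        rw [hxd, DihedralGroup.orderOf_sr] at h1
        exact hr ((Nat.prime_dvd_prime_iff_eq Nat.prime_two Fact.out).mp h1).symm
    · rw [hRot, Nat.card_zpowers, DihedralGroup.orderOf_r_one]
      have hinj : Function.Injective ((f.comp (R : Subgroup G).subtype)) := by
        rw [← MonoidHom.ker_eq_bot_iff, eq_bot_iff]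
        intro x hx
        have : (x : G) ∈ Q ⊓ (R : Subgroup G) := ⟨(hker _).mp hx, x.2⟩
        rw [hQR, Subgroup.mem_bot] at this
        exact Subgroup.mem_bot.mpr (Subtype.ext this)
      have h := Nat.card_congr (MonoidHom.ofInjective hinj).toEquiv
      rw [MonoidHom.range_comp, Subgroup.range_subtype, hcardR] at h
      exact h.le
  have hRotn : Rot.Normal := by
    refine ⟨fun n hn g => ?_⟩
    obtain ⟨k, rfl⟩ := hn
    show g * DihedralGroup.r (1 : ZMod r) ^ k * g⁻¹ ∈ Rot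
    rw [← conj_zpow]
    refine zpow_mem ?_ k
    rcases g with i | i <;> simp <;> exact hRotmem _
  set K := Rot.comap f with hK
  haveI : K.Normal := hRotn.comap f
  have hRK : (R : Subgroup G) ≤ K := fun x hx => Subgroup.mem_comap.mpr (by rw [← hfR]; exact Subgroup.mem_map_of_mem f hx)
  have hKe : K = (R : Subgroup G) ⊔ Q := by rw [hK, ← hfR, Subgroup.comap_map_eq, hkf]
  set N := Subgroup.normalizer ((R : Subgroup G) : Set G) with hN
  have hNQ : N ⊔ Q = ⊤ := by
    obtain ⟨P, hP⟩ := CfsgLib.LocalEven.exists_sylow_inf R K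
    have h := Sylow.normalizer_sup_eq_top P
    rw [hP, inf_eq_left.mpr hRK, hKe, ← sup_assoc, sup_eq_left.mpr Subgroup.le_normalizer] at h
    exact h
  have hNQ1 : ∀ x ∈ N, x ∈ Q → x = 1 := by
    intro x hxN hxQ
    have : x ∈ Q ⊓ Subgroup.centralizer ((R : Subgroup G) : Set G) := by
      refine ⟨hxQ, Subgroup.mem_centralizer_iff.mpr fun y hy => ?_⟩
      have h1 : x * y * x⁻¹ * y⁻¹ ∈ Q ⊓ (R : Subgroup G) := by
        refine Subgroup.mem_inf.mpr ⟨?_, mul_mem ((Subgroup.mem_normalizer_iff.mp hxN y).mp hy) (inv_mem hy)⟩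
        rw [show x * y * x⁻¹ * y⁻¹ = x * (y * x⁻¹ * y⁻¹) by group]
        exact mul_mem hxQ (hQn.conj_mem _ (inv_mem hxQ) y)
      rw [hQR, Subgroup.mem_bot, mul_inv_eq_one, mul_inv_eq_iff_eq_mul] at h1
      exact h1.symm
    rw [hC] at this
    exact Subgroup.mem_bot.mp this
  have hdec : ∀ g : G, ∃ q ∈ Q, ∃ n ∈ N, g = q * n := by
    intro g
    have hg : g ∈ ((Q ⊔ N : Subgroup G) : Set G) := by rw [sup_comm, hNQ]; exact Subgroup.mem_top g
    rw [Subgroup.coe_mul_of_right_le_normalizer_left Q N (CfsgLib.Core.le_normalizer_of_normal N Q)] at hg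
    obtain ⟨q, hq, n, hn, e⟩ := hg
    exact ⟨q, hq, n, hn, e.symm⟩
  set fN : N →* DihedralGroup r := f.comp N.subtype with hfN
  have hfNb : Function.Bijective fN := by
    refine ⟨?_, fun d => ?_⟩
    · rw [← MonoidHom.ker_eq_bot_iff, eq_bot_iff]
      exact fun x hx => Subgroup.mem_bot.mpr (Subtype.ext (hNQ1 x x.2 ((hker _).mp hx)))
    · obtain ⟨g, rfl⟩ := hfs d
      obtain ⟨q, hq, n, hn, rfl⟩ := hdec g
      exact ⟨⟨n, hn⟩, by rw [map_mul, (hker q).mpr hq, one_mul]; rfl⟩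
  refine ⟨⟨MulEquiv.ofBijective fN hfNb⟩, fun a haN ha => ?_⟩
  -- involutions outside `Q`
  have hsr : ∀ b : G, orderOf b = 2 → b ∉ Q → ∃ i, f b = DihedralGroup.sr i := by
    intro b hb hbQ
    have h2 : orderOf (f b) ∣ 2 := hb ▸ orderOf_map_dvd f b
    rcases hfb : f b with i | i
    · exfalso
      apply hbQ
      rw [← hker, ← orderOf_eq_one_iff]
      refine Nat.eq_one_of_dvd_coprimes hr2 ?_ h2
      rw [hfb, DihedralGroup.orderOf_r]
      exact Nat.div_dvd_of_dvd (Nat.gcd_dvd_left _ _)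
    · exact ⟨i, rfl⟩
  have haQ : a ∉ Q := fun h => CfsgLib.Signalizer.involution_ne_one ha (hNQ1 a haN h)
  obtain ⟨i, hi⟩ := hsr a ha haQ
  -- distinct involution cosets give an element of order `r`
  have hord : ∀ x y : G, orderOf x = 2 → orderOf y = 2 → x ∉ Q → y ∉ Q → f x ≠ f y → orderOf (x * y) = r := by
    intro x y hx hy hxQ hyQ hne
    obtain ⟨u, hu⟩ := hsr x hx hxQ
    obtain ⟨v, hv⟩ := hsr y hy hyQ
    have hfz : f (x * y) ≠ 1 := by
      rw [map_mul, hu, hv]
      intro h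
      rw [DihedralGroup.sr_mul_sr, DihedralGroup.one_def, DihedralGroup.r.injEq, sub_eq_zero] at h
      exact hne (by rw [hu, hv, h])
    have hfr : f ((x * y) ^ r) = 1 := by
      rw [map_pow, map_mul, hu, hv, DihedralGroup.sr_mul_sr, DihedralGroup.r_pow, ZMod.natCast_self, mul_zero,
        DihedralGroup.r_zero]
    have hzQ : (x * y) ^ r ∈ Q := (hker _).mp hfr
    have hrd : r ∣ orderOf (x * y) := by
      have h1 : orderOf (f (x * y)) = r := orderOf_eq_prime (by rw [← map_pow]; exact hfr) hfz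
      exact h1 ▸ orderOf_map_dvd f (x * y)
    by_contra hne'
    obtain ⟨k, hk⟩ := IsPGroup.iff_orderOf.mp hQp ⟨_, hzQ⟩
    rw [Subgroup.orderOf_mk, orderOf_pow, Nat.gcd_eq_right hrd] at hk
    obtain ⟨m, hm⟩ := hrd
    rw [hm, Nat.mul_div_cancel_left _ (NeZero.pos r)] at hk
    subst hk
    rcases Nat.eq_zero_or_pos k with rfl | hk0
    · exact hne' (by rw [hm, pow_zero, mul_one])
    set z := (x * y) ^ (r * 2 ^ (k - 1)) with hz
    have hzQ' : z ∈ Q := by rw [hz, pow_mul]; exact pow_mem hzQ _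
    set w := (x * y) ^ (2 ^ k) with hw
    have hwo : orderOf w = r := by
      rw [hw, orderOf_pow, hm, Nat.gcd_eq_right (dvd_mul_left _ _), Nat.mul_div_cancel _ (by positivity)]
    obtain ⟨P, hP⟩ := (CfsgLib.LocalEven.isPGroup_zpowers hwo).exists_le_sylow
    have hPe : Subgroup.zpowers w = (P : Subgroup G) := Subgroup.eq_of_le_of_card_ge hP (by
      rw [Nat.card_zpowers, hwo]
      obtain ⟨g, hg⟩ := CfsgLib.LocalEven.sylow_conj R P
      rw [← hg, Subgroup.card_map_of_injective (MulAut.conj g).injective, hcardR])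
    obtain ⟨g, hg⟩ := CfsgLib.LocalEven.sylow_conj P R
    have hcomm : g * z * g⁻¹ ∈ Q ⊓ Subgroup.centralizer ((R : Subgroup G) : Set G) := by
      refine ⟨hQn.conj_mem z hzQ' g, Subgroup.mem_centralizer_iff.mpr fun t ht => ?_⟩
      rw [← hg, ← hPe] at ht
      obtain ⟨s, ⟨l, rfl⟩, rfl⟩ := ht
      show g * w ^ l * g⁻¹ * (g * z * g⁻¹) = g * z * g⁻¹ * (g * w ^ l * g⁻¹)
      have : w ^ l * z = z * w ^ l := by
        have hc : Commute w z := by rw [hw, hz]; exact (Commute.refl (x * y)).pow_pow _ _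
        exact hc.zpow_left l
      calc g * w ^ l * g⁻¹ * (g * z * g⁻¹) = g * (w ^ l * z) * g⁻¹ := by group
        _ = g * (z * w ^ l) * g⁻¹ := by rw [this]
        _ = _ := by group
    rw [hC, Subgroup.mem_bot, conj_eq_one_iff, hz, ← orderOf_dvd_iff_pow_eq_one, hm] at hcomm
    have h2 := Nat.le_of_dvd (Nat.pos_of_ne_zero (by positivity)) (Nat.dvd_of_mul_dvd_mul_left (NeZero.pos r) hcomm)
    have h3 : 2 ^ (k - 1) < 2 ^ k := Nat.pow_lt_pow_right (by norm_num) (by omega)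
    omega
  -- a second involution of `N`
  obtain ⟨⟨a', ha'N⟩, ha'f⟩ := hfNb.2 (DihedralGroup.sr (i + 1))
  change f a' = DihedralGroup.sr (i + 1) at ha'f
  have ha' : orderOf a' = 2 := by
    have := orderOf_injective fN hfNb.1 ⟨a', ha'N⟩
    rw [show fN ⟨a', ha'N⟩ = DihedralGroup.sr (i + 1) from ha'f, DihedralGroup.orderOf_sr, Subgroup.orderOf_mk] at this
    exact this.symm
  have ha'Q : a' ∉ Q := fun h => CfsgLib.Signalizer.involution_ne_one ha' (hNQ1 a' ha'N h)
  have haa : f a ≠ f a' := by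
    rw [hi, ha'f]
    intro h
    rw [DihedralGroup.sr.injEq] at h
    exact one_ne_zero (add_left_cancel (a := i) (b := 1) (c := 0) (by rw [add_zero]; exact h.symm))
  have hconj : ∀ x y : G, orderOf x = 2 → orderOf y = 2 → x ∉ Q → y ∉ Q → f x ≠ f y → ∃ g : G, g * x * g⁻¹ = y := by
    intro x y hx hy hxQ hyQ hne
    obtain ⟨d, -, hd⟩ := CfsgLib.Signalizer.exists_conj_of_odd hx hy (by
      rw [hord x y hx hy hxQ hyQ hne]; exact (Fact.out : r.Prime).odd_of_ne_two hr)
    exact ⟨d, hd⟩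
  refine ⟨fun b hb hbQ => ?_, ?_⟩
  · by_cases h : f a = f b
    · obtain ⟨g, hg⟩ := hconj a a' ha ha' haQ ha'Q haa
      obtain ⟨g', hg'⟩ := hconj a' b ha' hb ha'Q hbQ (fun e => haa (h.trans e.symm))
      exact ⟨g' * g, by rw [← hg', ← hg]; group⟩
    · exact hconj a b ha hb haQ hbQ h
  -- counting
  obtain ⟨g₀, hg₀⟩ := hconj a a' ha ha' haQ ha'Q haa
  obtain ⟨q₀, hq₀, n₀, hn₀, rfl⟩ := hdec g₀
  have hn₀a : n₀ * a * n₀⁻¹ = a' := by
    have h1 : f (n₀ * a * n₀⁻¹) = f a' := by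
      rw [← hg₀, map_mul f (q₀ * n₀ * a), map_mul f (q₀ * n₀), map_mul f q₀, (hker q₀).mpr hq₀, one_mul, map_inv,
        map_mul f q₀, (hker q₀).mpr hq₀, one_mul, ← map_inv, ← map_mul, ← map_mul]
    exact congrArg Subtype.val (hfNb.1 (a₁ := (⟨_, mul_mem (mul_mem hn₀ haN) (inv_mem hn₀)⟩ : N)) (a₂ := ⟨a', ha'N⟩) h1)
  set C := Q ⊓ Subgroup.centralizer ({a} : Set G) with hCa
  set C' := Q ⊓ Subgroup.centralizer ({a'} : Set G) with hCa'
  have hCC : Nat.card C' = Nat.card C := by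
    have : C' = C.map (MulAut.conj n₀).toMonoidHom := by
      ext x
      rw [CfsgLib.LocalEven.mem_conj, hCa, hCa', Subgroup.mem_inf, Subgroup.mem_inf,
        Subgroup.mem_centralizer_singleton_iff, Subgroup.mem_centralizer_singleton_iff, ← hn₀a]
      constructor
      · rintro ⟨h1, h2⟩
        refine ⟨by simpa using hQn.conj_mem x h1 n₀⁻¹, ?_⟩
        calc n₀⁻¹ * x * n₀ * a = n₀⁻¹ * (x * (n₀ * a * n₀⁻¹)) * n₀ := by group
          _ = n₀⁻¹ * ((n₀ * a * n₀⁻¹) * x) * n₀ := by rw [h2]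
          _ = a * (n₀⁻¹ * x * n₀) := by group
      · rintro ⟨h1, h2⟩
        refine ⟨by simpa [mul_assoc] using hQn.conj_mem _ h1 n₀, ?_⟩
        calc x * (n₀ * a * n₀⁻¹) = n₀ * (n₀⁻¹ * x * n₀ * a) * n₀⁻¹ := by group
          _ = n₀ * (a * (n₀⁻¹ * x * n₀)) * n₀⁻¹ := by rw [h2]
          _ = n₀ * a * n₀⁻¹ * x := by group
    rw [this, Subgroup.card_map_of_injective (MulAut.conj n₀).injective]
  let Φ : Q → (Q ⧸ C.subgroupOf Q) × (Q ⧸ C'.subgroupOf Q) := fun q => (QuotientGroup.mk q, QuotientGroup.mk q)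
  have hΦ : Function.Bijective Φ := by
    refine ⟨fun q q' h => ?_, ?_⟩
    · obtain ⟨h1, h2⟩ := Prod.mk.inj h
      have h1' := (Subgroup.mem_inf.mp (Subgroup.mem_subgroupOf.mp (QuotientGroup.eq.mp h1))).2
      have h2' := (Subgroup.mem_inf.mp (Subgroup.mem_subgroupOf.mp (QuotientGroup.eq.mp h2))).2
      rw [Subgroup.mem_centralizer_singleton_iff] at h1' h2'
      set d : Q := q⁻¹ * q'
      have hd : (d : G) ∈ Q ⊓ Subgroup.centralizer ((R : Subgroup G) : Set G) := by
        refine ⟨d.2, ?_⟩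
        have hle : (R : Subgroup G) ≤ Subgroup.zpowers (a * a') := by
          refine (Subgroup.eq_of_le_of_card_ge ?_ ?_).ge
          · intro t ht
            obtain ⟨l, rfl⟩ := ht
            refine zpow_mem ?_ l
            obtain ⟨s, hs, hs'⟩ : f (a * a') ∈ (R : Subgroup G).map f := by
              rw [hfR, map_mul, hi, ha'f, DihedralGroup.sr_mul_sr]; exact hRotmem _
            have : a * a' = s := congrArg Subtype.val (hfNb.1 (a₁ := (⟨_, mul_mem haN ha'N⟩ : N))
              (a₂ := ⟨s, Subgroup.le_normalizer hs⟩) hs'.symm)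
            rw [this]; exact hs
          · rw [Nat.card_zpowers, hcardR, hord a a' ha ha' haQ ha'Q haa]
        refine Subgroup.centralizer_le (SetLike.coe_subset_coe.mpr hle) ?_
        refine Subgroup.mem_centralizer_iff.mpr fun t ⟨l, hl⟩ => ?_
        subst hl
        exact ((show Commute (d : G) a from h1').mul_right h2').symm.zpow_left l
      rw [hC, Subgroup.mem_bot] at hd
      exact (inv_mul_eq_one.mp (Subtype.ext hd : d = 1))
    · rintro ⟨u, v⟩
      obtain ⟨q₁, rfl⟩ := QuotientGroup.mk_surjective u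
      obtain ⟨q₂, rfl⟩ := QuotientGroup.mk_surjective v
      set b := (q₁ : G) * a * (q₁ : G)⁻¹ with hb
      set b' := (q₂ : G) * a' * (q₂ : G)⁻¹ with hb'
      have hfb : f b = f a := by rw [hb, map_mul, map_mul, map_inv, (hker _).mpr q₁.2]; simp
      have hfb' : f b' = f a' := by rw [hb', map_mul, map_mul, map_inv, (hker _).mpr q₂.2]; simp
      have hbo : orderOf b = 2 := by rw [hb, CfsgLib.Signalizer.orderOf_conj, ha]
      have hbo' : orderOf b' = 2 := by rw [hb', CfsgLib.Signalizer.orderOf_conj, ha']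
      have hbQ : b ∉ Q := fun h => haQ ((hker a).mp (hfb ▸ (hker b).mpr h))
      have hbQ' : b' ∉ Q := fun h => ha'Q ((hker a').mp (hfb' ▸ (hker b').mpr h))
      have hx := hord b b' hbo hbo' hbQ hbQ' (by rw [hfb, hfb']; exact haa)
      obtain ⟨P, hP⟩ := (CfsgLib.LocalEven.isPGroup_zpowers hx).exists_le_sylow
      obtain ⟨g, hg⟩ := CfsgLib.LocalEven.sylow_conj R P
      obtain ⟨q, hq, n, hn, rfl⟩ := hdec g
      rw [← CfsgLib.LocalEven.conj_conj, CfsgLib.LocalEven.mem_normalizer_conj_iff.mp hn] at hg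
      have hPe : Subgroup.zpowers (b * b') = (P : Subgroup G) := Subgroup.eq_of_le_of_card_ge hP (by
        rw [Nat.card_zpowers, hx, ← hg, Subgroup.card_map_of_injective (MulAut.conj q).injective, hcardR])
      rw [← hPe] at hg
      have hmemN : ∀ c : G, orderOf c = 2 → c * (b * b') * c⁻¹ = (b * b')⁻¹ → q⁻¹ * c * q ∈ N := by
        intro c _ hc
        have h1 : c ∈ Subgroup.normalizer (Subgroup.zpowers (b * b') : Set G) := by
          rw [CfsgLib.LocalEven.mem_normalizer_conj_iff, MonoidHom.map_zpowers]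
          show Subgroup.zpowers (c * (b * b') * c⁻¹) = _
          rw [hc, Subgroup.zpowers_inv]
        rw [← hg, CfsgLib.LocalEven.normalizer_conj] at h1
        exact CfsgLib.LocalEven.mem_conj.mp h1
      have hbc : b * (b * b') * b⁻¹ = (b * b')⁻¹ := CfsgLib.Signalizer.conj_mul_eq_inv hbo hbo'
      have hbc' : b' * (b * b') * b'⁻¹ = (b * b')⁻¹ :=
        calc b' * (b * b') * b'⁻¹ = b' * b := by group
          _ = b'⁻¹ * b⁻¹ := by rw [CfsgLib.Signalizer.involution_inv hbo, CfsgLib.Signalizer.involution_inv hbo']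
          _ = (b * b')⁻¹ := (mul_inv_rev b b').symm
      have e1 : q⁻¹ * b * q = a := congrArg Subtype.val (hfNb.1 (a₁ := (⟨_, hmemN b hbo hbc⟩ : N)) (a₂ := ⟨a, haN⟩) (by
        show f (q⁻¹ * b * q) = f a
        rw [map_mul, map_mul, map_inv, (hker q).mpr hq, hfb]; simp))
      have e2 : q⁻¹ * b' * q = a' := congrArg Subtype.val (hfNb.1 (a₁ := (⟨_, hmemN b' hbo' hbc'⟩ : N)) (a₂ := ⟨a', ha'N⟩) (by
        show f (q⁻¹ * b' * q) = f a'
        rw [map_mul, map_mul, map_inv, (hker q).mpr hq, hfb']; simp))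
      refine ⟨⟨q, hq⟩, Prod.ext (QuotientGroup.eq.mpr ?_) (QuotientGroup.eq.mpr ?_)⟩
      · refine Subgroup.mem_subgroupOf.mpr (Subgroup.mem_inf.mpr ⟨mul_mem (inv_mem hq) q₁.2, Subgroup.mem_centralizer_singleton_iff.mpr ?_⟩)
        show q⁻¹ * (q₁ : G) * a = a * (q⁻¹ * (q₁ : G))
        calc q⁻¹ * (q₁ : G) * a = q⁻¹ * b * q * (q⁻¹ * q₁) := by rw [hb]; group
          _ = _ := by rw [e1]
      · refine Subgroup.mem_subgroupOf.mpr (Subgroup.mem_inf.mpr ⟨mul_mem (inv_mem hq) q₂.2, Subgroup.mem_centralizer_singleton_iff.mpr ?_⟩)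
        show q⁻¹ * (q₂ : G) * a' = a' * (q⁻¹ * (q₂ : G))
        calc q⁻¹ * (q₂ : G) * a' = q⁻¹ * b' * q * (q⁻¹ * q₂) := by rw [hb']; group
          _ = _ := by rw [e2]
  have hcount := Nat.card_congr (Equiv.ofBijective Φ hΦ)
  rw [Nat.card_prod] at hcount
  have h1 := Subgroup.card_eq_card_quotient_mul_card_subgroup (C.subgroupOf Q)
  have h2 := Subgroup.card_eq_card_quotient_mul_card_subgroup (C'.subgroupOf Q)
  rw [Nat.card_congr (Subgroup.subgroupOfEquivOfLe (inf_le_left : C ≤ Q)).toEquiv] at h1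
  rw [Nat.card_congr (Subgroup.subgroupOfEquivOfLe (inf_le_left : C' ≤ Q)).toEquiv, hCC] at h2
  have hpos : 0 < Nat.card Q := Nat.card_pos
  refine Nat.eq_of_mul_eq_mul_left hpos ?_
  calc Nat.card Q * Nat.card C ^ 2
      = (Nat.card (↥Q ⧸ C.subgroupOf Q) * Nat.card (↥Q ⧸ C'.subgroupOf Q)) * Nat.card C ^ 2 := by rw [← hcount]
    _ = (Nat.card (↥Q ⧸ C.subgroupOf Q) * Nat.card C) * (Nat.card (↥Q ⧸ C'.subgroupOf Q) * Nat.card C) := by ring
    _ = Nat.card Q * Nat.card Q := by rw [← h1, ← h2]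

end Cfsg.Agent.S2873
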