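import Cfsg.Statements.S2880
import Cfsg.Agent.Lib.PGroups.Extraspecial

set_option autoImplicit false
open Cfsg
open scoped commutatorElement

namespace Cfsg.Agent.S2880

/-- Let E be an extraspecial 2-group of order 2^(2m+1) of plus type, that is, containing an elementary abelian subgroup of order 2^(m+1) (equivalently, a central product of m dihedral groups of order 8). Then E has exactly 2^(2m) − 2^m elements of order 4. -/
theorem result {E : Type*} [Group E] [Finite E] (m : ℕ) (hm : 1 ≤ m) (hE : Cfsg.IsExtraspecial 2 E) (hcard : Nat.card E = 2 ^ (2 * m + 1)) (hplus : ∃ A : Subgroup E, Cfsg.IsElementaryAbelian 2 A ∧ Nat.card A = 2 ^ (m + 1)) : Nat.card {x : E // orderOf x = 4} = 2 ^ (2 * m) - 2 ^ m := by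
  classical
  haveI : Fact (Nat.Prime 2) := ⟨Nat.prime_two⟩
  haveI := Fintype.ofFinite E
  obtain ⟨A, ⟨hAc, hA2⟩, hAcard⟩ := hplus
  set Z := Subgroup.center E with hZ
  have hc : ∀ a b : E, ⁅a, b⁆ ∈ Z := CfsgLib.PGroups.IsExtraspecial.comm_mem hE
  have hZ2 : ∀ z ∈ Z, z ^ 2 = 1 := fun z hz => CfsgLib.PGroups.IsExtraspecial.center_pow hE hz
  have hZc : Nat.card Z = 2 := CfsgLib.PGroups.IsExtraspecial.card_center hE
  have hE2 : ∀ x : E, x ^ 2 ∈ Z := CfsgLib.PGroups.IsExtraspecial.pow_mem_center hE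
  have hinv : ∀ z ∈ Z, z⁻¹ = z := fun z hz =>
    inv_eq_of_mul_eq_one_right (by rw [← pow_two]; exact hZ2 z hz)
  -- A contains the centre and is self-centralizing
  have hpm : 2 ^ (m + 1) * 2 ^ (m + 1) = 2 * Nat.card E := by rw [hcard]; ring
  have hAA : A ⊔ Z ≤ Subgroup.centralizer ((A ⊔ Z : Subgroup E) : Set E) := by
    have hA : A ≤ Subgroup.centralizer (A : Set E) := Subgroup.le_centralizer A
    have h1 : A ⊔ Z ≤ Subgroup.centralizer (A : Set E) :=
      sup_le hA (Subgroup.center_le_centralizer _)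
    have h2 : A ≤ Subgroup.centralizer ((A ⊔ Z : Subgroup E) : Set E) := Subgroup.le_centralizer_iff.mp h1
    exact sup_le h2 (Subgroup.center_le_centralizer _)
  have hsup : A ⊔ Z = A := by
    refine (Subgroup.eq_of_le_of_card_ge le_sup_left ?_).symm
    have h1 := CfsgLib.PGroups.IsExtraspecial.card_centralizer_mul_card hE (A := A ⊔ Z) le_sup_right
    have h2 : Nat.card ↥(A ⊔ Z) * Nat.card ↥(A ⊔ Z) ≤ 2 * Nat.card E :=
      h1 ▸ Nat.mul_le_mul_right _ (Subgroup.card_le_of_le hAA)
    rw [← hpm] at h2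
    rw [hAcard]
    exact Nat.mul_self_le_mul_self_iff.mp h2
  have hZA : Z ≤ A := hsup ▸ le_sup_right
  have hCA : Subgroup.centralizer (A : Set E) = A := by
    refine (Subgroup.eq_of_le_of_card_ge (Subgroup.le_centralizer A) ?_).symm
    have h1 := CfsgLib.PGroups.IsExtraspecial.card_centralizer_mul_card hE hZA
    rw [← hpm, ← hAcard] at h1
    exact (Nat.eq_of_mul_eq_mul_right Nat.card_pos h1).le
  let N := {x : E // x ^ 2 = 1}
  -- the number of solutions in each coset
  let cnt : E → ℕ := fun b => Nat.card {a : A // (b * a) ^ 2 = 1}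
  have hin : ∀ b ∈ A, cnt b = Nat.card A := fun b hb =>
    Nat.card_congr (Equiv.subtypeUnivEquiv fun a => hA2 _ (mul_mem hb a.2))
  have hout : ∀ b : E, b ∉ A → 2 * cnt b = Nat.card A := by
    intro b hb
    let χ : A →* E := (CfsgLib.PGroups.commHom hc b).comp A.subtype
    have hr : χ.range = Z := by
      refine Subgroup.eq_of_le_of_card_ge ?_ ?_
      · rintro _ ⟨a, rfl⟩; exact hc _ _
      · rw [hZc]
        haveI : Nontrivial χ.range := by
          rw [Subgroup.nontrivial_iff_ne_bot]
          intro hbot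
          apply hb
          rw [← hCA, Subgroup.mem_centralizer_iff]
          intro a ha
          have : χ ⟨a, ha⟩ = 1 := Subgroup.mem_bot.mp (hbot ▸ ⟨_, rfl⟩)
          exact commutatorElement_eq_one_iff_mul_comm.mp this
        exact Finite.one_lt_card
    have hiff : ∀ a : A, (b * a) ^ 2 = 1 ↔ χ a = b ^ 2 := by
      intro a
      rw [CfsgLib.PGroups.sq_mul_of_central (hc _ _), show (a : E) ^ 2 = 1 from hA2 _ a.2, mul_one,
        mul_eq_one_iff_eq_inv, show χ a = ⁅(a : E), b⁆ from rfl]
      rw [hinv _ (hc _ _), eq_comm]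
    obtain ⟨a₀, ha₀⟩ : b ^ 2 ∈ χ.range := hr.symm ▸ hE2 b
    have h1 : cnt b = Nat.card χ.ker := by
      refine Nat.card_congr
        { toFun := fun a => ⟨a.1 * a₀⁻¹, ?_⟩
          invFun := fun k => ⟨k.1 * a₀, ?_⟩
          left_inv := fun a => Subtype.ext (by simp)
          right_inv := fun k => Subtype.ext (by simp) }
      · rw [MonoidHom.mem_ker, map_mul, map_inv, (hiff _).mp a.2, ha₀, mul_inv_cancel]
      · exact (hiff _).mpr (by rw [map_mul, MonoidHom.mem_ker.mp k.2, ha₀, one_mul])
    rw [h1, ← Subgroup.card_mul_index χ.ker, Subgroup.index_ker, hr, hZc, mul_comm]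
  -- double counting
  have htotal : ∑ b : E, cnt b = Nat.card A * Nat.card N := by
    have e : (Σ b : E, {a : A // (b * a) ^ 2 = 1}) ≃ A × N :=
      { toFun := fun s => (s.2.1, ⟨s.1 * s.2.1, s.2.2⟩)
        invFun := fun t => ⟨t.2.1 * (t.1 : E)⁻¹, t.1, by simpa using t.2.2⟩
        left_inv := fun ⟨b, a, h⟩ => by
          refine Sigma.subtype_ext (by simp) ?_
          rfl
        right_inv := fun ⟨a, x, h⟩ => by simp }
    rw [← Nat.card_prod, ← Nat.card_congr e, Nat.card_sigma]
  have hcount : Nat.card N = 2 ^ (2 * m) + 2 ^ m := by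
    have h2 : 2 * (Nat.card A * Nat.card N) = Nat.card A * (2 * Nat.card A + (Nat.card E - Nat.card A)) := by
      have hsplit : ∀ b : E, 2 * cnt b = Nat.card A + if b ∈ A then Nat.card A else 0 := by
        intro b
        by_cases hb : b ∈ A
        · rw [hin b hb, if_pos hb]; ring
        · rw [hout b hb, if_neg hb, add_zero]
      rw [← htotal, Finset.mul_sum, Finset.sum_congr rfl fun b _ => hsplit b, Finset.sum_add_distrib,
        Finset.sum_const, Finset.card_univ, ← Nat.card_eq_fintype_card,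
        ← Finset.sum_filter, Finset.sum_const, smul_eq_mul, smul_eq_mul]
      have hf : (Finset.univ.filter fun b : E => b ∈ A).card = Nat.card A := by
        rw [← Fintype.card_subtype, ← Nat.card_eq_fintype_card]
      rw [hf]
      have := Subgroup.card_le_card_group A
      obtain ⟨d, hd⟩ := Nat.exists_eq_add_of_le this
      rw [hd, Nat.add_sub_cancel_left]; ring
    rw [hAcard, hcard] at h2
    have hpos : (0:ℕ) < 2 ^ (m + 1) := by positivity
    have h3 : 2 * Nat.card N = 2 * 2 ^ (m + 1) + (2 ^ (2 * m + 1) - 2 ^ (m + 1)) :=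
      Nat.eq_of_mul_eq_mul_left hpos (by rw [← h2]; ring)
    have e1 : 2 ^ (2 * m + 1) = 2 * 2 ^ (2 * m) := by ring
    have e2 : 2 ^ (m + 1) = 2 * 2 ^ m := by ring
    have hle : 2 ^ m ≤ 2 ^ (2 * m) := Nat.pow_le_pow_right (by norm_num) (by omega)
    omega
  have hord : ∀ x : E, orderOf x = 4 ↔ ¬ x ^ 2 = 1 := by
    intro x
    constructor
    · intro h h2
      have h4 := orderOf_dvd_of_pow_eq_one h2
      rw [h] at h4
      norm_num at h4
    · intro h
      have h4 : x ^ (2 ^ (1 + 1)) = 1 := by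
        have := hZ2 _ (hE2 x); rw [← pow_mul] at this; simpa using this
      have := orderOf_eq_prime_pow (p := 2) (n := 1) (by simpa using h) h4
      simpa using this
  have hsum : Nat.card N + Nat.card {x : E // orderOf x = 4} = 2 ^ (2 * m + 1) := by
    rw [← hcard, Nat.card_congr (Equiv.subtypeEquivRight hord), ← Nat.card_sum]
    exact Nat.card_congr (Equiv.sumCompl _)
  have e1 : 2 ^ (2 * m + 1) = 2 * 2 ^ (2 * m) := by ring
  omega

end Cfsg.Agent.S2880
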