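import Cfsg.Statements.S2881
import Cfsg.Agent.Lib.LocalEven.PlusTypeFive

set_option autoImplicit false
open Cfsg

namespace Cfsg.Agent.S2881

/-- Let E be an extraspecial 2-group of order 2^(2m+1) of plus type (containing an elementary abelian subgroup of order 2^(m+1)), and let ω be an automorphism of E of order 5 whose fixed points are exactly the centre of E. Then m is divisible by 4. -/
theorem result {E : Type*} [Group E] [Finite E] (m : ℕ) (hm : 1 ≤ m) (hE : Cfsg.IsExtraspecial 2 E) (hcard : Nat.card E = 2 ^ (2 * m + 1)) (hplus : ∃ A : Subgroup E, Cfsg.IsElementaryAbelian 2 A ∧ Nat.card A = 2 ^ (m + 1)) (ω : E ≃* E) (hω : orderOf ω = 5) (hfix : ∀ x : E, ω x = x ↔ x ∈ Subgroup.center E) : 4 ∣ m := by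
  haveI := Fintype.ofFinite E
  obtain ⟨A, ⟨hA, hA2⟩, hAcard⟩ := hplus
  exact CfsgLib.LocalEven.PlusTypeFive.four_dvd_of_order_five m hE hcard A hA hA2 hAcard ω hω hfix

end Cfsg.Agent.S2881
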