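import Cfsg.Statements.S2897
import Cfsg.Agent.Lib.LocalEven.CharPLocal
import Cfsg.Agent.Lib.LocalEven.LargestReduced
import Cfsg.Agent.Lib.ZStar.Main

set_option autoImplicit false
open Cfsg

namespace Cfsg.Agent.S2897

/-- Let p be a prime dividing the order of the finite group G, suppose G has parabolic characteristic p, let S be a Sylow p-subgroup of G and G₁ a normal subgroup of G. If Ω₁(Z(S ∩ G₁)) is nontrivial and contained in Ω₁(Z(S)), then G₁ has parabolic characteristic p. -/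
theorem result {G : Type*} [Group G] [Finite G] {p : ℕ} [Fact p.Prime] (hdiv : p ∣ Nat.card G) (hG : Cfsg.IsOfParabolicCharacteristic p G) (S : Sylow p G) (G₁ : Subgroup G) [G₁.Normal] (hne : Cfsg.omegaOne p (((S : Subgroup G) ⊓ G₁) ⊓ Subgroup.centralizer (((S : Subgroup G) ⊓ G₁ : Subgroup G) : Set G)) ≠ ⊥) (hle : Cfsg.omegaOne p (((S : Subgroup G) ⊓ G₁) ⊓ Subgroup.centralizer (((S : Subgroup G) ⊓ G₁ : Subgroup G) : Set G)) ≤ Cfsg.omegaOne p ((S : Subgroup G) ⊓ Subgroup.centralizer ((S : Subgroup G) : Set G))) : Cfsg.IsOfParabolicCharacteristic p ↥G₁ := by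
  set T := (S : Subgroup G) ⊓ G₁ with hT
  have hTp : IsPGroup p ↥(T.subgroupOf G₁) := (S.2.to_le inf_le_left).comap_of_injective _ G₁.subtype_injective
  obtain ⟨T₁, hT₁⟩ := hTp.exists_le_sylow
  obtain ⟨S', hS'⟩ := (T₁.2.map G₁.subtype).exists_le_sylow
  obtain ⟨g, hg⟩ := MulAction.exists_smul_eq G S S'
  have hT₁e : (T₁ : Subgroup ↥G₁).map G₁.subtype = T := by
    refine (Subgroup.eq_of_le_of_card_ge ?_ ?_).symm
    · have hTle : T ≤ G₁ := inf_le_right
      rw [← Subgroup.map_subgroupOf_eq_of_le hTle]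
      exact Subgroup.map_mono hT₁
    · have h1 : (T₁ : Subgroup ↥G₁).map G₁.subtype ≤ T.map (MulAut.conj g).toMonoidHom := by
        rw [hT, Subgroup.map_inf _ _ _ (MulAut.conj g).injective]
        refine le_inf (hS'.trans (le_of_eq (by rw [← hg]; rfl))) ((Subgroup.map_subtype_le _).trans (le_of_eq ?_))
        exact (CfsgLib.LocalEven.mem_normalizer_conj_iff.mp (by rw [Subgroup.normalizer_eq_top]; exact Subgroup.mem_top g)).symm
      exact (Subgroup.card_le_of_le h1).trans (Subgroup.card_map_of_injective (MulAut.conj g).injective).le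
  have hmap : (Cfsg.omegaOne p ((T₁ : Subgroup ↥G₁) ⊓ Subgroup.centralizer ((T₁ : Subgroup ↥G₁) : Set ↥G₁))).map G₁.subtype =
      Cfsg.omegaOne p (T ⊓ Subgroup.centralizer (T : Set G)) := by
    rw [← hT₁e]
    exact CfsgLib.LocalEven.map_omegaCenter G₁.subtype G₁.subtype_injective (T₁ : Subgroup ↥G₁)
  rw [CfsgLib.LocalEven.parabolicChar_iff T₁]
  intro z hz1 hz
  have hzS := hle (hmap.le (Subgroup.mem_map_of_mem _ hz))
  have hC := (CfsgLib.LocalEven.parabolicChar_iff S).mp hG (z : G) (fun e => hz1 (Subtype.ext e)) hzS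
  have hN : CfsgLib.LocalEvenB.HasCharP p (Subgroup.centralizer ({(z : G)} : Set G) ⊓ G₁) := by
    refine hC.of_normalized inf_le_left ((CfsgLib.LocalEvenB.pCoreOf_le _).trans ?_)
    exact (le_inf Subgroup.le_normalizer (le_top.trans (Subgroup.normalizer_eq_top G₁).ge)).trans
      CfsgLib.Transfer.normalizer_le_normalizer_inf
  have e : (Subgroup.centralizer ({z} : Set ↥G₁)).map G₁.subtype = Subgroup.centralizer ({(z : G)} : Set G) ⊓ G₁ := by
    ext x
    constructor
    · rintro ⟨y, hy, rfl⟩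
      exact Subgroup.mem_inf.mpr ⟨Subgroup.mem_centralizer_singleton_iff.mpr
        (congrArg Subtype.val (Subgroup.mem_centralizer_singleton_iff.mp hy)), y.2⟩
    · intro hx
      obtain ⟨hxC, hx₁⟩ := Subgroup.mem_inf.mp hx
      exact ⟨⟨x, hx₁⟩, Subgroup.mem_centralizer_singleton_iff.mpr
        (Subtype.ext (Subgroup.mem_centralizer_singleton_iff.mp hxC)), rfl⟩
  rw [CfsgLib.LocalEven.hasCharP_iff_gFitting] at hN ⊢
  rw [← e] at hN
  set E := Subgroup.centralizer ({z} : Set ↥G₁) with hE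
  have ε := E.equivMapOfInjective G₁.subtype G₁.subtype_injective
  apply Subgroup.map_injective (f := ε.toMonoidHom) ε.injective
  rw [CfsgLib.Components.gFitting_map_equiv, CfsgLib.Core.map_equiv_pCore]
  exact hN

end Cfsg.Agent.S2897
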