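import Cfsg.Statements.S2898
import Cfsg.Agent.Lib.LocalEven.CharPLocal
import Cfsg.Agent.Lib.LocalEven.LargestReduced
import Cfsg.Agent.Lib.ZStar.Main

set_option autoImplicit false
open Cfsg
open scoped commutatorElement

namespace Cfsg.Agent.S2898

/-- Let G be a finite group of even order with parabolic characteristic 2. If the centre of G ⧸ O(G) is trivial, then O(G) = 1. -/
theorem result {G : Type*} [Group G] [Finite G] (h2 : 2 ∣ Nat.card G) (hG : Cfsg.IsOfParabolicCharacteristic 2 G) [hN : (Cfsg.oddCore G).Normal] (hZ : Subgroup.center (G ⧸ Cfsg.oddCore G) = ⊥) : Cfsg.oddCore G = ⊥ := by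
  obtain ⟨S⟩ := (inferInstance : Nonempty (Sylow 2 G))
  haveI : Fact (Nat.Prime 2) := ⟨Nat.prime_two⟩
  set O := Cfsg.oddCore G with hO
  have hOodd : (Nat.card O).Coprime 2 := CfsgLib.Core.coprime_card_pPrimeCore 2 G
  by_contra hne
  have hmem : ∀ z : G, z ≠ 1 → z ∈ Cfsg.omegaOne 2 ((S : Subgroup G) ⊓ Subgroup.centralizer ((S : Subgroup G) : Set G)) →
      ∀ o ∈ O, o * z = z * o → o = 1 := by
    intro z hz1 hz o ho hoz
    have hC := (CfsgLib.LocalEven.parabolicChar_iff S).mp hG z hz1 hz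
    set C := Subgroup.centralizer ({z} : Set G) with hCdef
    have hoC : o ∈ C := Subgroup.mem_centralizer_singleton_iff.mpr hoz
    refine hC.eq_one hoC (hOodd.coprime_dvd_left ?_) ?_
    · exact (Subgroup.orderOf_dvd_natCard O ho)
    · refine Subgroup.mem_centralizer_iff.mpr fun y hy => ?_
      have h1 : ⁅y, o⁆ ∈ Cfsg.pCoreOf 2 C := by
        have := (Subgroup.mem_normalizer_iff.mp (CfsgLib.LocalEvenB.le_normalizer_pCoreOf C hoC) _).mp
          (Subgroup.inv_mem _ hy)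
        rw [commutatorElement_def, show y * o * y⁻¹ * o⁻¹ = y * (o * y⁻¹ * o⁻¹) by group]
        exact mul_mem hy this
      have h2 : ⁅y, o⁆ ∈ O := by
        rw [commutatorElement_def]
        exact O.mul_mem (hN.conj_mem o ho y) (O.inv_mem ho)
      obtain ⟨k, hk⟩ := CfsgLib.LocalEvenB.isPGroup_pCoreOf (p := 2) C ⟨_, h1⟩
      refine commutatorElement_eq_one_iff_mul_comm.mp (orderOf_eq_one_iff.mp ?_)
      exact Nat.eq_one_of_dvd_coprimes (hOodd.pow_right k) (Subgroup.orderOf_dvd_natCard O h2)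
        (orderOf_dvd_of_pow_eq_one (congrArg Subtype.val hk))
  have hS1 : (S : Subgroup G) ≠ ⊥ := S.ne_bot_of_dvd_card h2
  obtain ⟨z, hzS, hz1, hz2, hzc⟩ := CfsgLib.LocalEven.exists_mem_center_order S.2 hS1
  have hzΩ : z ∈ Cfsg.omegaOne 2 ((S : Subgroup G) ⊓ Subgroup.centralizer ((S : Subgroup G) : Set G)) :=
    CfsgLib.PGroups.mem_omegaOne (Subgroup.mem_inf.mpr ⟨hzS, Subgroup.mem_centralizer_iff.mpr fun s hs =>
      Subgroup.mem_centralizer_singleton_iff.mp (hzc hs)⟩) hz2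
  have hinv : ∀ w : G, w ≠ 1 → w * w = 1 →
      w ∈ Cfsg.omegaOne 2 ((S : Subgroup G) ⊓ Subgroup.centralizer ((S : Subgroup G) : Set G)) →
      ∀ o ∈ O, w * o * w⁻¹ = o⁻¹ := by
    intro w hw1 hww hw o ho
    haveI : Finite ↥O := inferInstance
    let φ : ↥O →* ↥O :=
      { toFun := fun a => ⟨w * a * w⁻¹, hN.conj_mem a a.2 w⟩
        map_one' := Subtype.ext (by simp)
        map_mul' := fun a b => Subtype.ext (by simp [mul_assoc]) }
    have hfp : MonoidHom.FixedPointFree φ := fun a ha => Subtype.ext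
      (hmem w hw1 hw a a.2 (mul_inv_eq_iff_eq_mul.mp (congrArg Subtype.val ha)).symm)
    have hinvol : Function.Involutive φ := fun a => Subtype.ext (by
      show w * (w * (a : G) * w⁻¹) * w⁻¹ = (a : G)
      rw [show w * (w * (a : G) * w⁻¹) * w⁻¹ = (w * w) * a * (w * w)⁻¹ by group, hww]; group)
    exact congrArg Subtype.val (hfp.coe_eq_inv_of_involutive hinvol ▸ rfl : φ ⟨o, ho⟩ = (⟨o, ho⟩ : ↥O)⁻¹)
  have hz2' : z * z = 1 := by rw [← pow_two]; exact hz2
  set C := Subgroup.centralizer (O : Set G) with hC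
  haveI hCn : C.Normal := by
    rw [hC]; infer_instance
  have hCS : C ⊓ (S : Subgroup G) = ⊥ := by
    by_contra hne'
    haveI : ((C ⊓ (S : Subgroup G)).subgroupOf (S : Subgroup G)).Normal :=
      Subgroup.normal_subgroupOf_of_le_normalizer ((le_inf (le_top.trans (Subgroup.normalizer_eq_top C).ge)
        Subgroup.le_normalizer).trans CfsgLib.Transfer.normalizer_le_normalizer_inf)
    obtain ⟨⟨v, hv⟩, hv1⟩ := Subgroup.ne_bot_iff_exists_ne_one.mp (CfsgLib.PGroups.inf_center_ne_bot S.2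
      (N := (C ⊓ (S : Subgroup G)).subgroupOf (S : Subgroup G)) (fun e => hne' (by
        rw [Subgroup.subgroupOf_eq_bot, disjoint_iff, inf_eq_left.mpr inf_le_right] at e; exact e)))
    obtain ⟨hvC, hvZ⟩ := Subgroup.mem_inf.mp hv
    obtain ⟨w, hw, hw1, hw2, -⟩ := CfsgLib.LocalEven.exists_mem_center_order
      (S.2.to_le (inf_le_left.trans inf_le_right : (C ⊓ (S : Subgroup G)) ⊓ Subgroup.centralizer ((S : Subgroup G) : Set G) ≤ S))
      (Subgroup.ne_bot_iff_exists_ne_one.mpr ⟨⟨(v : G), Subgroup.mem_inf.mpr ⟨Subgroup.mem_subgroupOf.mp hvC,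
        Subgroup.mem_centralizer_iff.mpr fun s hs => congrArg Subtype.val (Subgroup.mem_center_iff.mp hvZ ⟨s, hs⟩)⟩⟩,
        fun e => hv1 (Subtype.ext (Subtype.ext (congrArg Subtype.val e :)))⟩)
    obtain ⟨⟨hwC, hwS⟩, hwc⟩ := Subgroup.mem_inf.mp hw
    have hwΩ := CfsgLib.PGroups.mem_omegaOne (Subgroup.mem_inf.mpr ⟨hwS, hwc⟩) hw2
    exact hne ((Subgroup.eq_bot_iff_forall _).mpr fun o ho =>
      hmem w hw1 hwΩ o ho (Subgroup.mem_centralizer_iff.mp hwC o ho))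
  have hCO : C ≤ O := by
    refine CfsgLib.Core.le_pPrimeCore (p := 2) ?_
    rw [Nat.coprime_comm, Nat.prime_two.coprime_iff_not_dvd]
    intro hd
    obtain ⟨c, hc⟩ := exists_prime_orderOf_dvd_card' 2 hd
    obtain ⟨S', hS'⟩ := (IsPGroup.of_card (n := 1) (by rw [Nat.card_zpowers, Subgroup.orderOf_coe, hc]; rfl) :
      IsPGroup 2 ↥(Subgroup.zpowers (c : G))).exists_le_sylow
    obtain ⟨g, hg⟩ := MulAction.exists_smul_eq G S' S
    have h1 : g * (c : G) * g⁻¹ ∈ C ⊓ (S : Subgroup G) := Subgroup.mem_inf.mpr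
      ⟨hCn.conj_mem _ c.2 g, by rw [← hg]; exact Subgroup.mem_map_of_mem (MulAut.conj g).toMonoidHom (hS' (Subgroup.mem_zpowers _))⟩
    rw [hCS, Subgroup.mem_bot, conj_eq_one_iff] at h1
    rw [← Subgroup.orderOf_coe, h1, orderOf_one] at hc
    omega
  have hzO : z ∉ O := fun hz => hz1 (hmem z hz1 hzΩ z hz rfl)
  refine hzO ((QuotientGroup.eq_one_iff z).mp (Subgroup.mem_bot.mp (hZ ▸ Subgroup.mem_center_iff.mpr ?_)))
  intro q
  obtain ⟨x, rfl⟩ := QuotientGroup.mk_surjective q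
  refine QuotientGroup.eq.mpr (hCO (Subgroup.mem_centralizer_iff.mpr fun o ho => ?_))
  have ho' : x * o * x⁻¹ ∈ O := hN.conj_mem o ho x
  have e1 : z * o * z⁻¹ = o⁻¹ := hinv z hz1 hz2' hzΩ o ho
  have e2 : z * (x * o * x⁻¹) * z⁻¹ = (x * o * x⁻¹)⁻¹ := hinv z hz1 hz2' hzΩ _ ho'
  have e3 : (x * z)⁻¹ * (z * x) * o * ((x * z)⁻¹ * (z * x))⁻¹ = o := by
    calc (x * z)⁻¹ * (z * x) * o * ((x * z)⁻¹ * (z * x))⁻¹
        = z⁻¹ * x⁻¹ * (z * (x * o * x⁻¹) * z⁻¹) * x * z := by group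
      _ = z⁻¹ * o⁻¹ * z := by rw [e2]; group
      _ = o := by rw [← e1]; group
  exact (mul_inv_eq_iff_eq_mul.mp e3).symm

end Cfsg.Agent.S2898
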