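import Cfsg.Statements.S2906
import Cfsg.Agent.Lib.Components.PLayer
import Cfsg.Agent.Lib.LocalEven.PClosed
import Cfsg.Agent.Lib.LocalEven.PMinimal
import Cfsg.Agent.Lib.Core.Coprime

set_option autoImplicit false
open Cfsg

namespace Cfsg.Agent.S2906

open CfsgLib.Components
open scoped Pointwise commutatorElement

variable {P : Type*} [Group P] [Finite P] {p : ℕ} [Fact p.Prime]

theorem relIndex_map_subtype {G : Type*} [Group G] (H : Subgroup G) (M : Subgroup H) :
    (M.map H.subtype).relIndex H = M.index := by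
  rw [Subgroup.relIndex, Subgroup.subgroupOf,
    Subgroup.comap_map_eq_self_of_injective H.subtype_injective]

theorem pClosed_normal_coprime (hOp : Cfsg.pCore p P = ⊥) {N : Subgroup P} [N.Normal]
    (h : Cfsg.IsPClosed p N) : (Nat.card N).Coprime p := by
  obtain ⟨Q⟩ := (inferInstance : Nonempty (Sylow p N))
  have h1 : (Q : Subgroup N) ≤ Cfsg.pCore p N := CfsgLib.LocalEven.pClosed_iff_le_pCore.mp h Q
  have h2 : Cfsg.pCore p N = ⊥ := by
    have := CfsgLib.Core.map_subtype_pCore_le (p := p) N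
    rwa [hOp, le_bot_iff, Subgroup.map_eq_bot_iff_of_injective _ N.subtype_injective] at this
  rw [Nat.coprime_comm, (Fact.out : p.Prime).coprime_iff_not_dvd]
  exact fun hd => Q.ne_bot_of_dvd_card hd (le_bot_iff.mp (h2 ▸ h1))

/-- A normal `p'`-subgroup is nilpotent. -/
theorem nilpotent_of_coprime (S : Sylow p P)
    (huniq : ∃! M : Subgroup P, IsCoatom M ∧ (S : Subgroup P) ≤ M) {N : Subgroup P} [N.Normal]
    (hN : (Nat.card N).Coprime p) : Group.IsNilpotent N := by
  obtain ⟨M, ⟨hM, -⟩, hun⟩ := huniq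
  obtain ⟨k, hk⟩ := S.2.exists_card_eq
  haveI : Group.IsNilpotent (S : Subgroup P) := S.2.isNilpotent
  have hinv : ∀ (q : ℕ) [Fact q.Prime], ∃ Q₀ : Sylow q N, (S : Subgroup P) ≤
      Subgroup.normalizer ((((Q₀ : Subgroup N).map N.subtype) : Subgroup P) : Set P) := fun q _ =>
    CfsgLib.Core.exists_invariant_sylow (A := (S : Subgroup P)) (K := N)
      Subgroup.le_normalizer_of_normal (by rw [hk]; exact hN.symm.pow_left k) (Or.inl inferInstance) q
  by_cases hsup : ∃ (q : ℕ) (_ : Fact q.Prime) (Q : Subgroup P), IsPGroup q Q ∧ Q.Normal ∧ Q ≤ N ∧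
      Q ⊔ (S : Subgroup P) = ⊤
  · obtain ⟨q, _, Q, hQ, hQn, hQN, htop⟩ := hsup
    haveI := hQn
    have hNQ : N ≤ Q := fun x hx => CfsgLib.LocalEven.mem_of_coprime_of_mem_sup S.2
      (htop.ge (Subgroup.mem_top x)) (hN.coprime_dvd_left (N.orderOf_dvd_natCard hx))
    exact (hQ.to_le hNQ).isNilpotent
  push Not at hsup
  have hQM : ∀ (q : ℕ) [Fact q.Prime], ∃ Q₀ : Sylow q N,
      (Q₀ : Subgroup N).map N.subtype ≤ M ∧ (S : Subgroup P) ≤
      Subgroup.normalizer ((((Q₀ : Subgroup N).map N.subtype) : Subgroup P) : Set P) := by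
    intro q _
    obtain ⟨Q₀, hQ₀⟩ := hinv q
    refine ⟨Q₀, ?_, hQ₀⟩
    set Q := (Q₀ : Subgroup N).map N.subtype with hQ
    obtain h | ⟨M', hM', hle⟩ := eq_top_or_exists_le_coatom (Subgroup.normalizer (Q : Set P))
    · have hne := hsup q ‹_› Q (Q₀.isPGroup'.map _) (Subgroup.normalizer_eq_top_iff.mp h)
        (Subgroup.map_subtype_le _)
      obtain h' | ⟨M', hM', hle⟩ := eq_top_or_exists_le_coatom (Q ⊔ (S : Subgroup P))
      · exact absurd h' hne
      · exact hun M' ⟨hM', le_sup_right.trans hle⟩ ▸ le_sup_left.trans hle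
    · exact hun M' ⟨hM', hQ₀.trans hle⟩ ▸ Subgroup.le_normalizer.trans hle
  have hNM : N ≤ M := by
    refine Subgroup.subgroupOf_eq_top.mp
      (CfsgLib.Core.eq_top_of_forall_exists_sylow_le (M.subgroupOf N) fun q hq _ => ?_)
    haveI : Fact q.Prime := ⟨hq⟩
    obtain ⟨Q₀, hle, -⟩ := hQM q
    exact ⟨Q₀, fun x hx => hle ⟨x, hx, rfl⟩⟩
  have h03 : Group.IsNilpotent N ↔
      ∀ (r : ℕ) (_ : Fact r.Prime) (R : Sylow r N), (R : Subgroup N).Normal :=
    (Group.isNilpotent_of_finite_tfae (G := N)).out 0 3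
  refine h03.mpr fun q hq Q => ?_
  haveI := hq
  obtain ⟨Q₀, hQ₀⟩ := hinv q
  have htop : Subgroup.normalizer (((Q₀ : Subgroup N).map N.subtype : Subgroup P) : Set P) = ⊤ := by
    obtain h | ⟨M', hM', hle⟩ := eq_top_or_exists_le_coatom
      (Subgroup.normalizer (((Q₀ : Subgroup N).map N.subtype : Subgroup P) : Set P))
    · exact h
    · exfalso
      have hM'M := hun M' ⟨hM', hQ₀.trans hle⟩
      have := Sylow.normalizer_sup_eq_top Q₀
      exact hM.1 (top_le_iff.mp (this ▸ sup_le (hM'M ▸ hle) hNM))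
  haveI hn : ((Q₀ : Subgroup N).map N.subtype).Normal := Subgroup.normalizer_eq_top_iff.mp htop
  haveI hQn : (Q₀ : Subgroup N).Normal := by
    rw [← Subgroup.comap_map_eq_self_of_injective N.subtype_injective (Q₀ : Subgroup N)]
    exact hn.comap _
  obtain ⟨g, hg⟩ := MulAction.exists_smul_eq N Q₀ Q
  rw [← hg, Sylow.smul_eq_of_normal]
  exact hQn

theorem key (hP : Cfsg.IsPMinimal p P) (hOp : Cfsg.pCore p P = ⊥) (S : Sylow p P) (K : Subgroup P)
    (hK : Cfsg.IsComponent K) :
    Cfsg.pResidual p P = Cfsg.generalizedFittingSubgroup P ∧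
      Cfsg.generalizedFittingSubgroup P = Cfsg.layer P ∧
      Cfsg.layer P = ⨆ s : ↥(S : Subgroup P), K.map (MulAut.conj (s : P)).toMonoidHom ∧
      Cfsg.IsPMinimal p ↥(K ⊔ ((S : Subgroup P) ⊓ Subgroup.normalizer (K : Set P))) := by
  obtain ⟨hSn, huniq⟩ := hP S
  obtain ⟨M, ⟨hM, hSM⟩, hun⟩ := id huniq
  haveI := layer_normal (G := P)
  set E := Cfsg.layer P with hE
  -- a normal nonnilpotent subgroup contains `O^p`
  have big : ∀ N : Subgroup P, N.Normal → ¬ Group.IsNilpotent N →
      Cfsg.pResidual p P ≤ N := by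
    intro N hN hnil
    haveI := hN
    by_cases htop : N ⊔ (S : Subgroup P) = ⊤
    · exact CfsgLib.LocalEven.pResidual_le_of_sup_eq_top S.2 htop
    have hirr : ¬ Cfsg.IsPClosed p N := fun hc =>
      hnil (nilpotent_of_coprime S huniq (pClosed_normal_coprime hOp hc))
    refine absurd ?_ htop
    -- `N` is not `p`-closed, so `N ∩ S` is not normal and Frattini applies
    obtain ⟨Q, hQ⟩ := CfsgLib.LocalEven.exists_sylow_inf S N
    set R := (S : Subgroup P) ⊓ N with hR
    have hfr := Sylow.normalizer_sup_eq_top Q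
    rw [hQ] at hfr
    have hSR : (S : Subgroup P) ≤ Subgroup.normalizer (R : Set P) :=
      (le_inf Subgroup.le_normalizer Subgroup.le_normalizer_of_normal).trans
        Subgroup.inf_normalizer_le_normalizer_inf
    obtain h | ⟨M', hM', hle⟩ := eq_top_or_exists_le_coatom (Subgroup.normalizer (R : Set P))
    · exfalso
      refine hirr (CfsgLib.LocalEven.pClosed_of_normal_sylow (P := Q) ?_)
      haveI : R.Normal := Subgroup.normalizer_eq_top_iff.mp h
      rw [← Subgroup.comap_map_eq_self_of_injective N.subtype_injective (Q : Subgroup N), hQ]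
      exact Subgroup.Normal.comap ‹R.Normal› _
    · obtain h' | ⟨M'', hM'', hle'⟩ := eq_top_or_exists_le_coatom (N ⊔ (S : Subgroup P))
      · exact h'
      · exfalso
        have e1 := hun M' ⟨hM', hSR.trans hle⟩
        have e2 := hun M'' ⟨hM'', le_sup_right.trans hle'⟩
        exact hM.1 (top_le_iff.mp (hfr ▸ sup_le (e1 ▸ hle) (e2 ▸ le_sup_left.trans hle')))
  -- perfect subgroups lie in `O^p`
  have hperf : ∀ L : Subgroup P, ⁅L, L⁆ = L → L ≤ Cfsg.pResidual p P := fun L hL =>
    perfect_le_of_coprime (p := p) hL fun x _ hx => CfsgLib.Transfer.mem_pResidual_of_coprime hx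
  have hnonnil : ∀ N : Subgroup P, K ≤ N → ¬ Group.IsNilpotent N := fun N hKN hn =>
    IsComponent.not_isSolvable hK (CfsgLib.Core.isSolvable_of_le (by haveI := hn; infer_instance) hKN)
  have hEeq : Cfsg.pResidual p P = E :=
    le_antisymm (big E inferInstance (hnonnil E (le_layer hK))) (hperf E layer_perfect)
  have hfit : Cfsg.fittingSubgroup P ≤ E := by
    rw [← hEeq]
    refine CfsgLib.Transfer.le_pResidual_of_coprime ?_
    haveI := fitting_normal (G := P)
    haveI := fitting_isNilpotent (G := P)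
    refine pClosed_normal_coprime hOp fun Q => ?_
    have h03 : Group.IsNilpotent (Cfsg.fittingSubgroup P) ↔
        ∀ (r : ℕ) (_ : Fact r.Prime) (R : Sylow r (Cfsg.fittingSubgroup P)),
          (R : Subgroup (Cfsg.fittingSubgroup P)).Normal :=
      (Group.isNilpotent_of_finite_tfae (G := Cfsg.fittingSubgroup P)).out 0 3
    exact h03.mp inferInstance p ⟨Fact.out⟩ Q
  have hgF : Cfsg.generalizedFittingSubgroup P = E := le_antisymm (sup_le le_rfl hfit) le_sup_left
  -- the orbit of `K`
  set B := ⨆ s : ↥(S : Subgroup P), K.map (MulAut.conj (s : P)).toMonoidHom with hB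
  have hcomp : ∀ g : P, Cfsg.IsComponent (K.map (MulAut.conj g).toMonoidHom) := fun g => by
    rw [← conj_smul_eq_map]; exact isComponent_conj hK g
  have hmemB : ∀ s ∈ (S : Subgroup P), K.map (MulAut.conj s).toMonoidHom ≤ B := fun s hs =>
    le_iSup (fun s : ↥(S : Subgroup P) => K.map (MulAut.conj (s : P)).toMonoidHom) ⟨s, hs⟩
  have hKB : K ≤ B := by
    refine le_trans (le_of_eq ?_) (hmemB 1 (one_mem _))
    rw [← conj_smul_eq_map, map_one, one_smul]
  have hBn : E ⊔ (S : Subgroup P) ≤ Subgroup.normalizer (B : Set P) := by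
    refine sup_le (fun c hc => ?_) fun c hc => ?_ <;>
      refine mem_normalizer_of_smul_eq_self (Subgroup.eq_of_le_of_card_ge ?_
        (Nat.card_congr (Subgroup.equivSMul (MulAut.conj c) B).toEquiv).le) <;>
      rw [Subgroup.pointwise_smul_subset_iff] <;>
      refine iSup_le fun s => ?_ <;>
      rw [← Subgroup.pointwise_smul_subset_iff]
    · rw [smul_eq_self_of_mem_normalizer (component_le_normalizer_layer_member (hcomp _) hc)]
      exact hmemB s s.2
    · rw [← conj_smul_eq_map, ← mul_smul, ← map_mul, conj_smul_eq_map]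
      exact hmemB _ (mul_mem hc s.2)
  have hES : E ⊔ (S : Subgroup P) = ⊤ := by
    rw [← hEeq]; exact CfsgLib.Transfer.pResidual_sup_sylow S
  haveI hBnorm : B.Normal := Subgroup.normalizer_eq_top_iff.mp (top_le_iff.mp (hES ▸ hBn))
  have hBeq : E = B := le_antisymm (hEeq ▸ big B inferInstance (hnonnil B hKB))
    (iSup_le fun s => le_layer (hcomp _))
  have hnorm : ∀ s : P, K.map (MulAut.conj s).toMonoidHom ≤ Subgroup.normalizer (K : Set P) :=
    fun s => component_le_normalizer_component (hcomp s) hK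
  -- `p` divides `|K|`
  have hKp : p ∣ Nat.card K := by
    by_contra hd
    refine hnonnil B hKB (nilpotent_of_coprime S huniq ?_)
    refine (pPrimeCore_coprime (G := P) p).coprime_dvd_left (Subgroup.card_dvd_of_le ?_)
    refine iSup_le fun s => subnormal_coprime_le_pPrimeCore (hcomp s).1 ?_
    rw [Subgroup.card_map_of_injective (MulAut.conj (s : P)).injective, Nat.coprime_comm]
    exact (Fact.out : p.Prime).coprime_iff_not_dvd.mpr hd
  refine ⟨hEeq.trans hgF.symm, hgF, hBeq, ?_⟩
  -- a Sylow subgroup of `K`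
  have hKn : (K.subgroupOf E).Normal := component_normal_in_layer hK
  obtain ⟨SE, hSE⟩ := CfsgLib.LocalEven.exists_sylow_inf S E
  haveI := hKn
  obtain ⟨SK', hSK'⟩ := CfsgLib.LocalEven.exists_sylow_inf SE (K.subgroupOf E)
  set N := (S : Subgroup P) ⊓ Subgroup.normalizer (K : Set P) with hN
  set KN := K ⊔ N with hKN
  have hKKN : K ≤ KN := le_sup_left
  have hNKN : N ≤ KN := le_sup_right
  have hKNn : KN ≤ Subgroup.normalizer (K : Set P) := sup_le Subgroup.le_normalizer inf_le_right
  have hSKN : (S : Subgroup P) ⊓ K ≤ N := inf_le_inf_left _ Subgroup.le_normalizer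
  have hidx : ¬ p ∣ ((S : Subgroup P) ⊓ K).relIndex K := by
    intro hd
    have h1 : ¬ p ∣ (SE.toSubgroup ⊓ K.subgroupOf E).relIndex (K.subgroupOf E) := by
      rw [← hSK', relIndex_map_subtype]
      exact SK'.not_dvd_index
    refine h1 ?_
    have hKE : K ≤ E := le_layer hK
    have e : SE.toSubgroup ⊓ K.subgroupOf E = ((S : Subgroup P) ⊓ K).subgroupOf E := by
      apply Subgroup.map_injective E.subtype_injective
      rw [Subgroup.map_inf _ _ _ E.subtype_injective, hSE, map_subtype_subgroupOf hKE,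
        map_subtype_subgroupOf (inf_le_right.trans hKE), inf_assoc, inf_eq_right.mpr hKE]
    rwa [e, Subgroup.relIndex_subgroupOf hKE]
  have hKN' : N ≤ Subgroup.normalizer (K : Set P) := inf_le_right
  have hNidx : ¬ p ∣ (N.subgroupOf KN).index := by
    intro hd
    have e1 := CfsgLib.Core.card_sup_mul_card_inf N K hKN'
    have e2 : Nat.card N * N.relIndex KN = Nat.card KN := by
      rw [← Subgroup.relIndex_bot_left N, Subgroup.relIndex_mul_relIndex _ _ _ bot_le hNKN,
        Subgroup.relIndex_bot_left]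
    have e3 : Nat.card ↥(N ⊓ K) * (N ⊓ K).relIndex K = Nat.card K := by
      rw [← Subgroup.relIndex_bot_left (N ⊓ K),
        Subgroup.relIndex_mul_relIndex _ _ _ bot_le inf_le_right, Subgroup.relIndex_bot_left]
    rw [sup_comm, ← hKN] at e1
    have e4 : N.relIndex KN = (N ⊓ K).relIndex K := by
      refine Nat.eq_of_mul_eq_mul_left
        (Nat.mul_pos (Nat.card_pos (α := N)) (Nat.card_pos (α := ↥(N ⊓ K)))) ?_
      calc _ = (Nat.card N * N.relIndex KN) * Nat.card ↥(N ⊓ K) := by ring
        _ = Nat.card N * Nat.card K := by rw [e2, e1]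
        _ = _ := by rw [← e3]; ring
    refine hidx ?_
    rw [show (S : Subgroup P) ⊓ K = N ⊓ K from le_antisymm (le_inf hSKN inf_le_right)
      (inf_le_inf_right _ inf_le_left), ← e4]
    exact hd
  set S' : Sylow p KN := (((S.2.to_le inf_le_left : IsPGroup p N)).comap_of_injective KN.subtype
    KN.subtype_injective).toSylow hNidx with hS'
  have hKM : ¬ K ≤ M := fun hle => by
    refine hM.1 (top_le_iff.mp (hES ▸ sup_le (hBeq.le.trans (iSup_le fun s => ?_)) hSM))
    rw [← conj_smul_eq_map, ← smul_eq_self_of_mem_normalizer (Subgroup.le_normalizer (hSM s.2) :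
      (s : P) ∈ Subgroup.normalizer (M : Set P))]
    exact Subgroup.pointwise_smul_le_pointwise_smul_iff.mpr hle
  -- proper subgroups of `K N` containing `N` lie in `M`
  have hX : ∀ X : Subgroup KN, N.subgroupOf KN ≤ X → X ≠ ⊤ → X ≤ M.subgroupOf KN := by
    intro X hNX hXne
    set X₁ := X.map KN.subtype with hX₁
    have hNX₁ : N ≤ X₁ := by
      rw [← map_subtype_subgroupOf hNKN]; exact Subgroup.map_mono hNX
    have hX₁le : X₁ ≤ KN := Subgroup.map_subtype_le _
    set X₀ := X₁ ⊓ K with hX₀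
    have hsplit : ∀ x ∈ X₁, ∃ k ∈ X₀, ∃ n ∈ N, k * n = x := by
      intro x hx
      have hx' : x ∈ ((K ⊔ N : Subgroup P) : Set P) := hX₁le hx
      rw [Subgroup.coe_mul_of_right_le_normalizer_left K N hKN'] at hx'
      obtain ⟨k, hk, n, hn, rfl⟩ := hx'
      exact ⟨k, ⟨by simpa using mul_mem hx (inv_mem (hNX₁ hn)), hk⟩, n, hn, rfl⟩
    have hKX₀ : ¬ K ≤ X₀ := fun hle => hXne (top_le_iff.mp fun x _ => by
      obtain ⟨y, hy, hyx⟩ := (sup_le (hle.trans inf_le_left) hNX₁ : KN ≤ X₁) x.2
      rwa [← Subtype.ext hyx])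
    set D := ⨆ s : ↥(S : Subgroup P), X₀.map (MulAut.conj (s : P)).toMonoidHom with hD
    have hmemD : ∀ s ∈ (S : Subgroup P), X₀.map (MulAut.conj s).toMonoidHom ≤ D := fun s hs =>
      le_iSup (fun s : ↥(S : Subgroup P) => X₀.map (MulAut.conj (s : P)).toMonoidHom) ⟨s, hs⟩
    have hX₀D : X₀ ≤ D := by
      refine le_trans (le_of_eq ?_) (hmemD 1 (one_mem _))
      rw [← conj_smul_eq_map, map_one, one_smul]
    have hDn : (S : Subgroup P) ≤ Subgroup.normalizer (D : Set P) := fun c hc => by
      refine mem_normalizer_of_smul_eq_self (Subgroup.eq_of_le_of_card_ge ?_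
        (Nat.card_congr (Subgroup.equivSMul (MulAut.conj c) D).toEquiv).le)
      rw [Subgroup.pointwise_smul_subset_iff]
      refine iSup_le fun s => ?_
      rw [← Subgroup.pointwise_smul_subset_iff, ← conj_smul_eq_map, ← mul_smul, ← map_mul,
        conj_smul_eq_map]
      exact hmemD _ (mul_mem hc s.2)
    have hKD : ¬ K ≤ D := by
      intro hle
      have hXc : X₀ ≤ Subgroup.normalizer (Subgroup.centralizer (K : Set P) : Set P) := by
        intro g hg
        rw [Subgroup.mem_normalizer_iff]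
        intro y
        rw [Subgroup.mem_centralizer_iff, Subgroup.mem_centralizer_iff]
        constructor
        · intro h z hz
          have hz' : g⁻¹ * z * g ∈ K := mul_mem (mul_mem (inv_mem hg.2) hz) hg.2
          calc z * (g * y * g⁻¹) = g * ((g⁻¹ * z * g) * y) * g⁻¹ := by group
            _ = g * (y * (g⁻¹ * z * g)) * g⁻¹ := by rw [h _ hz']
            _ = g * y * g⁻¹ * z := by group
        · intro h z hz
          have hz' : g * z * g⁻¹ ∈ K := mul_mem (mul_mem hg.2 hz) (inv_mem hg.2)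
          calc z * y = g⁻¹ * ((g * z * g⁻¹) * (g * y * g⁻¹)) * g := by group
            _ = g⁻¹ * ((g * y * g⁻¹) * (g * z * g⁻¹)) * g := by rw [h _ hz']
            _ = y * z := by group
      have hDle : D ≤ X₀ ⊔ Subgroup.centralizer (K : Set P) := by
        refine iSup_le fun s => ?_
        by_cases hs : (s : P) ∈ Subgroup.normalizer (K : Set P)
        · refine le_trans (le_of_eq ?_) le_sup_left
          refine Subgroup.mem_normalizer_iff_map_conj_eq.mp (Subgroup.inf_normalizer_le_normalizer_inf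
            ⟨Subgroup.le_normalizer (hNX₁ ⟨s.2, hs⟩), hs⟩)
        · refine le_trans (Subgroup.map_mono inf_le_right) (le_trans ?_ le_sup_right)
          rw [← Subgroup.commutator_eq_bot_iff_le_centralizer]
          exact components_commute (hcomp _) hK fun e => hs (Subgroup.mem_normalizer_iff_map_conj_eq.mpr e)
      refine hKX₀ ((IsComponent.commutator_eq_self hK).ge.trans ?_)
      rw [Subgroup.commutator_le]
      intro u hu v hv
      have hdec : ∀ w ∈ K, ∃ x ∈ X₀, ∀ y ∈ K, (x⁻¹ * w) * y = y * (x⁻¹ * w) := by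
        intro w hw
        have hw' : w ∈ ((X₀ ⊔ Subgroup.centralizer (K : Set P) : Subgroup P) : Set P) := hDle (hle hw)
        rw [Subgroup.coe_mul_of_left_le_normalizer_right X₀ _ hXc] at hw'
        obtain ⟨x, hx, c, hc, hxc⟩ := hw'
        refine ⟨x, hx, fun y hy => ?_⟩
        rw [← hxc, inv_mul_cancel_left]
        exact (Subgroup.mem_centralizer_iff.mp hc y hy).symm
      obtain ⟨a, ha, hau⟩ := hdec u hu
      obtain ⟨b, hb, hbv⟩ := hdec v hv
      set c := a⁻¹ * u with hc
      set d := b⁻¹ * v with hd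
      have e : ⁅u, v⁆ = ⁅a, b⁆ := by
        have hcd : c * d = d * c := hau d (mul_mem (inv_mem hb.2) hv)
        have e1 : ⁅c, b⁆ = 1 := commutatorElement_eq_one_iff_mul_comm.mpr (hau b hb.2)
        have e2 : ⁅c, d⁆ = 1 := commutatorElement_eq_one_iff_mul_comm.mpr hcd
        have e3 : ⁅a, d⁆ = 1 := commutatorElement_eq_one_iff_mul_comm.mpr (hbv a ha.2).symm
        rw [show u = a * c by rw [hc]; group, show v = b * d by rw [hd]; group]
        simp [commutatorElement_mul_left_eq_conj_mul, commutatorElement_mul_right_eq_mul_conj,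
          e1, e2, e3]
      rw [e, commutatorElement_def]
      exact mul_mem (mul_mem (mul_mem ha hb) (inv_mem ha)) (inv_mem hb)
    have hDM : D ≤ M := by
      obtain h | ⟨M', hM', hle⟩ := eq_top_or_exists_le_coatom (D ⊔ (S : Subgroup P))
      swap
      · exact hun M' ⟨hM', le_sup_right.trans hle⟩ ▸ le_sup_left.trans hle
      exfalso
      haveI : D.Normal := Subgroup.normalizer_eq_top_iff.mp
        (top_le_iff.mp (h ▸ sup_le Subgroup.le_normalizer hDn))
      refine hKD ((hperf K (IsComponent.commutator_eq_self hK)).trans (big D inferInstance ?_))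
      intro hnil
      have h03 : Group.IsNilpotent D ↔
          ∀ (r : ℕ) (_ : Fact r.Prime) (R : Sylow r D), (R : Subgroup D).Normal :=
        (Group.isNilpotent_of_finite_tfae (G := D)).out 0 3
      have hcop : (Nat.card D).Coprime p := pClosed_normal_coprime hOp fun Q =>
        h03.mp hnil p ⟨Fact.out⟩ Q
      have hSK1 : (S : Subgroup P) ⊓ K ≤ D :=
        le_trans (le_inf (hSKN.trans hNX₁) inf_le_right) hX₀D
      refine hidx ?_
      have e3 : Nat.card ↥((S : Subgroup P) ⊓ K) * ((S : Subgroup P) ⊓ K).relIndex K = Nat.card K := by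
        rw [← Subgroup.relIndex_bot_left ((S : Subgroup P) ⊓ K),
          Subgroup.relIndex_mul_relIndex _ _ _ bot_le inf_le_right, Subgroup.relIndex_bot_left]
      exact ((hcop.coprime_dvd_left (Subgroup.card_dvd_of_le hSK1)).symm).dvd_of_dvd_mul_left (e3 ▸ hKp)
    intro x hx
    obtain ⟨k, hk, n, hn, hkn⟩ := hsplit (x : P) (Subgroup.mem_map_of_mem KN.subtype hx)
    rw [Subgroup.mem_subgroupOf, ← hkn]
    exact mul_mem (hDM (hX₀D hk)) (hSM hn.1)
  have hMne : M.subgroupOf KN ≠ ⊤ := fun e => hKM (hKKN.trans (Subgroup.subgroupOf_eq_top.mp e))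
  have hNM : N.subgroupOf KN ≤ M.subgroupOf KN := fun x hx => hSM hx.1
  refine CfsgLib.LocalEven.isPMinimal_of_one S' ?_ ⟨M.subgroupOf KN, ⟨⟨hMne, fun X hlt => ?_⟩, hNM⟩, ?_⟩
  · intro hn
    have hn' : KN ≤ Subgroup.normalizer (N : Set P) :=
      (Subgroup.normal_subgroupOf_iff_le_normalizer hNKN).mp hn
    have hle : ⁅K, N⁆ ≤ N ⊓ K := le_inf
      (Subgroup.le_normalizer_iff_commutator_le_right.mp (hKKN.trans hn'))
      (Subgroup.le_normalizer_iff_commutator_le_left.mp hKN')
    haveI hnn : ((N ⊓ K).subgroupOf K).Normal := Subgroup.normal_subgroupOf_of_le_normalizer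
      ((le_inf (hKKN.trans hn') Subgroup.le_normalizer).trans Subgroup.inf_normalizer_le_normalizer_inf)
    have hne : (N ⊓ K).subgroupOf K ≠ ⊤ := fun e => by
      refine IsComponent.not_isSolvable hK ?_
      haveI : IsPGroup p K → Group.IsSolvable K := fun h => by
        haveI := h.isNilpotent; infer_instance
      exact this ((S.2.to_le inf_le_left : IsPGroup p N).to_le
        ((Subgroup.subgroupOf_eq_top.mp e).trans inf_le_left))
    have hcen := IsQuasisimple.le_center_of_ne_top hK.2 hnn hne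
    obtain ⟨SK⟩ := (inferInstance : Nonempty (Sylow p K))
    have hSKeq : ((S : Subgroup P) ⊓ K).subgroupOf K ≤ Subgroup.center K :=
      le_trans (fun x hx => show (x : P) ∈ N ⊓ K from ⟨hSKN hx, x.2⟩) hcen
    set T : Sylow p K := ((S.2.to_le inf_le_left : IsPGroup p ↥((S : Subgroup P) ⊓ K)).comap_of_injective
      K.subtype K.subtype_injective).toSylow hidx with hT
    exact CfsgLib.Signalizer.not_dvd_of_sylow_central hK.2.1 T hSKeq hKp
  · by_contra hXne
    exact (hlt.trans_le (hX X (hNM.trans hlt.le) hXne)).false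
  · rintro X ⟨hXc, hNX⟩
    exact (((hXc.le_iff).mp (hX X hNX hXc.1)).resolve_left hMne).symm

/-- Let P be a finite p-minimal group with O_p(P) = 1, S a Sylow p-subgroup of P and K a component of P. Then O^p(P) = F*(P) = E(P) is generated by the S-conjugates of K, and the subgroup K·N_S(K) is again p-minimal. -/
theorem result {P : Type*} [Group P] [Finite P] {p : ℕ} [Fact p.Prime] (hP : Cfsg.IsPMinimal p P) (hOp : Cfsg.pCore p P = ⊥) (S : Sylow p P) (K : Subgroup P) (hK : Cfsg.IsComponent K) : Cfsg.pResidual p P = Cfsg.generalizedFittingSubgroup P ∧ Cfsg.generalizedFittingSubgroup P = Cfsg.layer P ∧ Cfsg.layer P = ⨆ s : ↥(S : Subgroup P), K.map (MulAut.conj (s : P)).toMonoidHom ∧ Cfsg.IsPMinimal p ↥(K ⊔ ((S : Subgroup P) ⊓ Subgroup.normalizer (K : Set P))) := by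
  exact key hP hOp S K hK

end Cfsg.Agent.S2906
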