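import Cfsg.Statements.S2907
import Cfsg.Agent.Lib.PGroups.Extraspecial

set_option autoImplicit false
open Cfsg
open scoped commutatorElement

namespace Cfsg.Agent.S2907

/-- Let X be a finite semi-extraspecial p-group and x an element of X outside the centre. Then the index of C_X(x) in X equals the order of Z(X), and the commutators [x, y], y ∈ X, form exactly the centre Z(X). -/
theorem result {X : Type*} [Group X] [Finite X] {p : ℕ} [Fact p.Prime] (hX : Cfsg.IsSemiExtraspecial p X) (x : X) (hx : x ∉ Subgroup.center X) : (Subgroup.centralizer ({x} : Set X)).index = Nat.card ↥(Subgroup.center X) ∧ {z : X | ∃ y : X, z = x * y * x⁻¹ * y⁻¹} = (Subgroup.center X : Set X) := by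
  classical
  obtain ⟨hsp, hY⟩ := hX
  obtain ⟨hP, hΦ, hcomm⟩ := hsp
  have hc : ∀ a b : X, ⁅a, b⁆ ∈ Subgroup.center X := fun a b => by
    rw [← hcomm]; exact Subgroup.commutator_mem_commutator (Subgroup.mem_top a) (Subgroup.mem_top b)
  set φ := CfsgLib.PGroups.commHom hc x with hφ
  have hle : φ.range ≤ Subgroup.center X := hcomm ▸ CfsgLib.PGroups.commHom_range_le hc x
  have heq : φ.range = Subgroup.center X := by
    refine le_antisymm hle ?_
    by_contra hne
    have hne' : φ.range.subgroupOf (Subgroup.center X) ≠ ⊤ := by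
      rw [Ne, Subgroup.subgroupOf_eq_top]; exact hne
    obtain ⟨Y', hY', hRY⟩ := (eq_top_or_exists_le_coatom (φ.range.subgroupOf (Subgroup.center X))).resolve_left hne'
    set Y : Subgroup X := Y'.map (Subgroup.center X).subtype with hYdef
    have hYle : Y ≤ Subgroup.center X := Subgroup.map_subtype_le _
    have hYsub : Y.subgroupOf (Subgroup.center X) = Y' := Subgroup.comap_map_eq_self_of_injective
      (Subgroup.center X).subtype_injective _
    obtain ⟨hYn, hE⟩ := hY Y hYle (hYsub.symm ▸ hY')
    have hRY' : φ.range ≤ Y := fun r hr => ⟨⟨r, hle hr⟩, hRY hr, rfl⟩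
    let q := QuotientGroup.mk' Y
    -- the image of the centre is the whole centre of the quotient
    have hZmap : (Subgroup.center X).map q ≤ Subgroup.center (X ⧸ Y) := by
      rintro _ ⟨z, hz, rfl⟩
      rw [Subgroup.mem_center_iff]
      intro w
      obtain ⟨w, rfl⟩ := QuotientGroup.mk'_surjective Y w
      exact (map_mul q w z).symm.trans ((congrArg q (Subgroup.mem_center_iff.mp hz w)).trans (map_mul q z w))
    have hZne : (Subgroup.center X).map q ≠ ⊥ := by
      intro hb
      apply hY'.1
      rw [eq_top_iff]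
      rintro ⟨z, hz⟩ -
      have : q z = 1 := Subgroup.mem_bot.mp (hb ▸ Subgroup.mem_map_of_mem q hz)
      have hzY : z ∈ Y := (QuotientGroup.eq_one_iff z).mp this
      rw [← hYsub]; exact hzY
    have hZeq : (Subgroup.center X).map q = Subgroup.center (X ⧸ Y) :=
      CfsgLib.PGroups.IsExtraspecial.eq_center_of_le hE hZmap hZne
    have hxc : q x ∈ Subgroup.center (X ⧸ Y) := by
      rw [Subgroup.mem_center_iff]
      intro w
      obtain ⟨w, rfl⟩ := QuotientGroup.mk'_surjective Y w
      have h1 : q (⁅w, x⁆) = 1 := (QuotientGroup.eq_one_iff _).mpr (hRY' ⟨w, rfl⟩)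
      rw [map_commutatorElement, commutatorElement_eq_one_iff_mul_comm] at h1
      exact h1
    obtain ⟨z, hz, hzx⟩ := hZeq.symm ▸ hxc
    have : z⁻¹ * x ∈ Y := (QuotientGroup.eq).mp hzx
    exact hx (by simpa using mul_mem hz (hYle this))
  refine ⟨?_, ?_⟩
  · rw [← CfsgLib.PGroups.commHom_ker hc x, Subgroup.index_ker, ← hφ, heq]
  · ext z
    simp only [Set.mem_setOf_eq, SetLike.mem_coe]
    rw [← heq]
    constructor
    · rintro ⟨y, rfl⟩
      have : x * y * x⁻¹ * y⁻¹ = ⁅y, x⁆⁻¹ := by rw [commutatorElement_inv]; rfl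
      rw [this]
      exact inv_mem ⟨y, rfl⟩
    · intro hz
      obtain ⟨y, hy⟩ := inv_mem hz
      refine ⟨y, ?_⟩
      have h2 : ⁅y, x⁆ = z⁻¹ := hy
      rw [← inv_inv z, ← h2, commutatorElement_inv]
      rfl

end Cfsg.Agent.S2907
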