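import Cfsg.Statements.S2909
import Cfsg.Agent.Lib.LocalEven.CoprimeComm
import Cfsg.Agent.Lib.LocalEven.Generation

set_option autoImplicit false
open Cfsg
open scoped commutatorElement IsMulCommutative

namespace Cfsg.Agent.S2909

/-- Let p be a prime, E a normal p-subgroup of the finite group G, and U a non-cyclic elementary abelian p-subgroup of G such that either C_E(U) = C_E(u) for every nontrivial u ∈ U, or [E, U] = [E, ⟨u⟩] for every nontrivial u ∈ U. If R is a subgroup of order prime to p normalized by U, then [R, U] centralizes E. -/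
theorem result {G : Type*} [Group G] [Finite G] {p : ℕ} [Fact p.Prime] (E : Subgroup G) [E.Normal] (hE : IsPGroup p ↥E) (U : Subgroup G) (hU : Cfsg.IsElementaryAbelian p U) (hnc : ¬ IsCyclic ↥U) (hcond : (∀ u ∈ U, u ≠ 1 → E ⊓ Subgroup.centralizer (U : Set G) = E ⊓ Subgroup.centralizer ({u} : Set G)) ∨ (∀ u ∈ U, u ≠ 1 → ⁅E, U⁆ = ⁅E, Subgroup.zpowers u⁆)) (R : Subgroup G) (hR : ¬ p ∣ Nat.card ↥R) (hRU : U ≤ Subgroup.normalizer (R : Set G)) : ⁅R, U⁆ ≤ Subgroup.centralizer (E : Set G) := by
  classical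
  obtain ⟨hUc, hUe⟩ := hU
  haveI := hUc
  have hnc' : p ^ 2 ≤ Nat.card U := by
    by_contra hlt
    have hUp : IsPGroup p U := fun u => ⟨1, Subtype.ext (by simpa using hUe _ u.2)⟩
    obtain ⟨k, hk⟩ := hUp.exists_card_eq
    rw [hk, not_le, Nat.pow_lt_pow_iff_right (Fact.out : p.Prime).one_lt] at hlt
    rcases k with _ | k
    · haveI : Subsingleton U := (Nat.card_eq_one_iff_unique.mp (by simpa using hk)).1
      exact hnc inferInstance
    · obtain rfl : k = 0 := by omega
      exact hnc (isCyclic_of_prime_card (p := p) (by simpa using hk))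
  haveI : (Subgroup.centralizer (E : Set G)).Normal := inferInstance
  set C := Subgroup.centralizer (E : Set G) with hC
  let q := QuotientGroup.mk' C
  suffices h : R ≤ (Subgroup.centralizer ((U.map q : Subgroup (G ⧸ C)) : Set (G ⧸ C))).comap q by
    have h1 : (⁅R, U⁆).map q = ⊥ := by
      rw [Subgroup.map_commutator, Subgroup.commutator_eq_bot_iff_le_centralizer]
      exact Subgroup.map_le_iff_le_comap.mpr h
    rw [Subgroup.map_eq_bot_iff, QuotientGroup.ker_mk'] at h1
    exact h1
  refine CfsgLib.LocalEven.le_of_centralizers_le hUe hnc' hRU hR fun u hu hu1 => ?_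
  intro r hr
  obtain ⟨hrR, hru⟩ := Subgroup.mem_inf.mp hr
  rw [Subgroup.mem_comap, Subgroup.mem_centralizer_iff]
  rintro _ ⟨w, hw, rfl⟩
  rw [eq_comm, ← commutatorElement_eq_one_iff_mul_comm, ← map_commutatorElement]
  refine (QuotientGroup.eq_one_iff _).mpr ?_
  -- `c = [r, w]` commutes with `u`
  have hwu : w * u = u * w := congrArg Subtype.val (mul_comm (⟨w, hw⟩ : ↥U) ⟨u, hu⟩)
  have hru' : r * u = u * r := Subgroup.mem_centralizer_singleton_iff.mp hru
  have hcu : ⁅r, w⁆ * u = u * ⁅r, w⁆ :=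
    Subgroup.mem_centralizer_singleton_iff.mp
      (mul_mem (mul_mem (mul_mem hru (Subgroup.mem_centralizer_singleton_iff.mpr hwu))
        (inv_mem hru)) (inv_mem (Subgroup.mem_centralizer_singleton_iff.mpr hwu)))
  have hcR : ⁅r, w⁆ ∈ R :=
    (CfsgLib.Core.commutator_le_of_normalizes hRU) (Subgroup.commutator_mem_commutator hrR hw)
  have hQcard : ¬ p ∣ Nat.card (Subgroup.zpowers ⁅r, w⁆) := fun hd => hR (hd.trans
    (Subgroup.card_dvd_of_le (Subgroup.zpowers_le.mpr hcR)))
  have hQU : Subgroup.zpowers u ≤ Subgroup.centralizer (Subgroup.zpowers ⁅r, w⁆ : Set G) := by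
    rw [Subgroup.le_centralizer_iff, Subgroup.zpowers_le, Subgroup.zpowers_eq_closure,
      Subgroup.centralizer_closure]
    exact Subgroup.mem_centralizer_singleton_iff.mpr hcu
  have hup : IsPGroup p (Subgroup.zpowers u) := fun x => ⟨1, Subtype.ext (by
    simpa using hUe _ (Subgroup.zpowers_le.mpr hu x.2))⟩
  suffices Subgroup.zpowers ⁅r, w⁆ ≤ C from this (Subgroup.mem_zpowers _)
  rcases hcond with h | h
  · refine CfsgLib.Core.pq_lemma hup ((Fact.out : p.Prime).coprime_iff_not_dvd.mpr hQcard).symm hE hQU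
      (CfsgLib.Core.le_normalizer_of_normal _ E) (CfsgLib.Core.le_normalizer_of_normal _ E) ?_
    rw [Subgroup.zpowers_eq_closure u, Subgroup.centralizer_closure, ← h u hu hu1]
    intro e he
    obtain ⟨heE, heU⟩ := Subgroup.mem_inf.mp he
    rw [Subgroup.zpowers_eq_closure, Subgroup.centralizer_closure, Subgroup.mem_centralizer_singleton_iff]
    have hew : w * e = e * w := Subgroup.mem_centralizer_iff.mp heU w hw
    have he' : r⁻¹ * e * r ∈ E ⊓ Subgroup.centralizer ({u} : Set G) := by
      refine Subgroup.mem_inf.mpr ⟨by simpa using Subgroup.Normal.conj_mem inferInstance _ heE r⁻¹, ?_⟩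
      exact mul_mem (mul_mem (inv_mem hru) (Subgroup.mem_centralizer_singleton_iff.mpr
        ((Subgroup.mem_centralizer_iff.mp heU u hu).symm))) hru
    rw [← h u hu hu1] at he'
    have hew' : w * (r⁻¹ * e * r) = (r⁻¹ * e * r) * w :=
      Subgroup.mem_centralizer_iff.mp (Subgroup.mem_inf.mp he').2 w hw
    simp only [commutatorElement_def]
    have hwinv : w⁻¹ * e = e * w⁻¹ := by
      rw [eq_mul_inv_iff_mul_eq, mul_assoc, ← hew, ← mul_assoc, inv_mul_cancel, one_mul]
    calc e * (r * w * r⁻¹ * w⁻¹) = r * ((r⁻¹ * e * r) * w) * r⁻¹ * w⁻¹ := by group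
      _ = r * w * r⁻¹ * (e * w⁻¹) := by rw [← hew']; group
      _ = _ := by rw [← hwinv]; group
  · rw [Subgroup.le_centralizer_iff, ← Subgroup.commutator_eq_bot_iff_le_centralizer]
    refine CfsgLib.LocalEven.coprime_comm_eq_bot hE hup hQcard
      (CfsgLib.Core.le_normalizer_of_normal _ E) (CfsgLib.Core.le_normalizer_of_normal _ E) ?_ ?_
    · rw [Subgroup.commutator_eq_bot_iff_le_centralizer]; exact hQU
    · -- on `E / [E, U]` both `w` and `r * w * r⁻¹` act trivially
      rw [← h u hu hu1]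
      set M : Subgroup G := ⁅E, U⁆ with hM
      have hEM : E ≤ Subgroup.normalizer (M : Set G) := Subgroup.normalizer_commutator_ge_left E U
      have hME : M ≤ E := Subgroup.commutator_le_left E U
      have hrM : r ∈ Subgroup.normalizer (M : Set G) := by
        rw [CfsgLib.Core.mem_normalizer_iff_conj_smul_eq, CfsgLib.Core.conj_smul_eq_map, h u hu hu1,
          Subgroup.map_commutator, ← CfsgLib.Core.conj_smul_eq_map, ← CfsgLib.Core.conj_smul_eq_map,
          CfsgLib.Core.mem_normalizer_iff_conj_smul_eq.mp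
            (CfsgLib.Core.le_normalizer_of_normal ⊤ E (Subgroup.mem_top r))]
        congr 1
        rw [CfsgLib.Core.conj_smul_eq_map, MonoidHom.map_zpowers]
        congr 1
        show r * u * r⁻¹ = u
        rw [hru', mul_inv_cancel_right]
      let S : Subgroup G := {
        carrier := {g | g ∈ Subgroup.normalizer (M : Set G) ∧ ∀ e ∈ E, g * e * g⁻¹ * e⁻¹ ∈ M}
        one_mem' := ⟨one_mem _, fun e _ => by simp⟩
        mul_mem' := by
          rintro a b ⟨ha, ha'⟩ ⟨hb, hb'⟩
          refine ⟨mul_mem ha hb, fun e he => ?_⟩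
          have : a * b * e * (a * b)⁻¹ * e⁻¹ =
              a * (b * e * b⁻¹ * e⁻¹) * a⁻¹ * (a * e * a⁻¹ * e⁻¹) := by group
          rw [this]
          exact mul_mem ((Subgroup.mem_normalizer_iff.mp ha _).mp (hb' e he)) (ha' e he)
        inv_mem' := by
          rintro a ⟨ha, ha'⟩
          refine ⟨inv_mem ha, fun e he => ?_⟩
          have : a⁻¹ * e * a⁻¹⁻¹ * e⁻¹ = a⁻¹ * (a * e * a⁻¹ * e⁻¹)⁻¹ * a⁻¹⁻¹ := by group
          rw [this]
          exact (Subgroup.mem_normalizer_iff.mp (inv_mem ha) _).mp (inv_mem (ha' e he)) }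
      have hUS : ∀ x ∈ U, x ∈ S := fun x hx =>
        ⟨Subgroup.normalizer_commutator_ge_right E U hx, fun e he => by
          have := inv_mem (Subgroup.commutator_mem_commutator he hx)
          rwa [commutatorElement_inv, commutatorElement_def] at this⟩
      have hc : ⁅r, w⁆ ∈ S := by
        obtain ⟨hwM, hw'⟩ := hUS w hw
        refine S.mul_mem ⟨mul_mem (mul_mem hrM hwM) (inv_mem hrM), fun e he => ?_⟩ (inv_mem (hUS w hw))
        have : r * w * r⁻¹ * e * (r * w * r⁻¹)⁻¹ * e⁻¹ =
            r * (w * (r⁻¹ * e * r) * w⁻¹ * (r⁻¹ * e * r)⁻¹) * r⁻¹ := by group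
        rw [this]
        refine (Subgroup.mem_normalizer_iff.mp hrM _).mp (hw' _ ?_)
        simpa using Subgroup.Normal.conj_mem inferInstance _ he r⁻¹
      rw [Subgroup.commutator_le]
      intro e he c hc'
      obtain ⟨-, h2⟩ := (Subgroup.zpowers_le.mpr hc) hc'
      have := inv_mem (h2 e he)
      rw [← commutatorElement_def, commutatorElement_inv] at this
      exact this

end Cfsg.Agent.S2909
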