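import Cfsg.Statements.S2910
import Cfsg.Agent.Lib.Transfer.Fusion
import Cfsg.Agent.Lib.Transfer.PResidual
import Cfsg.Agent.Lib.OddLocal.Coprime

set_option autoImplicit false
open Cfsg

namespace Cfsg.Agent.S2910

/-- Let p be an odd prime dividing the order of the finite group G and P a Sylow p-subgroup of G. If Ω₁(P) (generated by the elements of order dividing p) is contained in the centre of G, then G has a normal p-complement. In particular, if G is quasisimple then Ω₁(P) is not central in G. -/
theorem result {G : Type*} [Group G] [Finite G] {p : ℕ} [Fact p.Prime] (hp : p ≠ 2) (hdiv : p ∣ Nat.card G) (P : Sylow p G) (hZ : Cfsg.omegaOne p (P : Subgroup G) ≤ Subgroup.center G) : Cfsg.HasNormalPComplement p G ∧ ¬ Cfsg.IsQuasisimple G := by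
  classical
  have hcc : Cfsg.HasNormalPComplement p G := by
    refine (CfsgLib.Transfer.hasNormalPComplement_iff_centralizes P).mpr fun Q hQ g hg hc => ?_
    refine CfsgLib.OddLocal.centralizes_of_fixes_order_p hp (n := orderOf g) (pow_orderOf_eq_one g) hc
      (P.2.to_le hQ) hg fun x hx hxp => ?_
    exact (Subgroup.mem_center_iff.mp (hZ (Subgroup.subset_closure
      ⟨hQ hx, hxp ▸ pow_orderOf_eq_one x⟩)) g)
  refine ⟨hcc, fun hq => ?_⟩
  haveI : Group.IsPerfect G := hq.1
  have hP := CfsgLib.Transfer.isPGroup_quotient_pResidual (p := p) (G := G)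
  have htop : Cfsg.pResidual p G = ⊤ := by
    by_contra hne
    haveI : Nontrivial (G ⧸ Cfsg.pResidual p G) := QuotientGroup.nontrivial_iff.mpr hne
    haveI : Group.IsNilpotent (G ⧸ Cfsg.pResidual p G) := hP.isNilpotent
    have h1 : commutator (G ⧸ Cfsg.pResidual p G) = ⊤ := by
      rw [eq_top_iff, ← Subgroup.map_top_of_surjective _ (QuotientGroup.mk'_surjective (Cfsg.pResidual p G))]
      conv_lhs => rw [← Group.IsPerfect.commutator_eq_top (G := G), commutator_def, Subgroup.map_commutator,
        Subgroup.map_top_of_surjective _ (QuotientGroup.mk'_surjective _), ← commutator_def]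
    exact (Group.IsSolvable.commutator_lt_top_of_nontrivial (G := G ⧸ Cfsg.pResidual p G)).ne h1
  have hcop := CfsgLib.Transfer.hasNormalPComplement_iff_coprime.mp hcc
  rw [htop, Subgroup.card_top] at hcop
  exact (Fact.out : p.Prime).coprime_iff_not_dvd.mp hcop.symm hdiv

end Cfsg.Agent.S2910
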