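import Cfsg.Statements.S2911
import Mathlib.Tactic
import Mathlib.GroupTheory.SpecificGroups.Dihedral
import Mathlib.Data.Fintype.Prod
import Cfsg.Agent.Lib.LocalEven.TransferTwo

set_option autoImplicit false
open Cfsg

namespace Cfsg.Agent.S2911

/-- A finite group whose Sylow 2-subgroups are isomorphic to the direct product of a group of order 2 and a dihedral group of order 8 has a subgroup of index two. -/
theorem result {G : Type*} [Group G] [Finite G] (S : Sylow 2 G) (hS : Nonempty (↥(S : Subgroup G) ≃* Multiplicative (ZMod 2) × DihedralGroup 4)) : ∃ H : Subgroup G, H.index = 2 := by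
  obtain ⟨e⟩ := hS
  let T : Type := Multiplicative (ZMod 2) × DihedralGroup 4
  let z' : T := (Multiplicative.ofAdd 1, 1)
  let c' : T := (1, DihedralGroup.r 2)
  have hcent : ∀ t : T, (∀ u : T, t * u = u * t) → t ^ 2 = 1 → t = 1 ∨ t = z' ∨ t = c' ∨ t = z' * c' := by
    set_option synthInstance.maxSize 4000 in
    set_option synthInstance.maxHeartbeats 4000000 in
    decide
  have hzc : ∀ t : T, z' * t = t * z' := by decide
  have hsq : ∀ t : T, t * t = 1 ∨ t * t = c' := by decide
  let M : Subgroup ↥(S : Subgroup G) :=
    ((MonoidHom.fst (Multiplicative (ZMod 2)) (DihedralGroup 4)).comp e.toMonoidHom).ker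
  have hM : M.index = 2 := by
    rw [Subgroup.index_ker, MonoidHom.range_eq_top.mpr, Subgroup.card_top]
    · simp [Nat.card_eq_fintype_card]
    · intro a
      exact ⟨e.symm (a, 1), by simp⟩
  let z : ↥(S : Subgroup G) := e.symm z'
  have hzM : z ∉ M := by
    simp only [M, MonoidHom.mem_ker, MonoidHom.comp_apply, MulEquiv.toMonoidHom_eq_coe,
      MonoidHom.coe_coe, z, MulEquiv.apply_symm_apply]
    decide
  have hz2 : z ^ 2 = 1 := by
    apply e.injective; simp only [map_pow, z, MulEquiv.apply_symm_apply, map_one]; decide
  have hzcomm : ∀ s : ↥(S : Subgroup G), s * z = z * s := fun s => by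
    apply e.injective; simp only [map_mul, z, MulEquiv.apply_symm_apply]; exact (hzc _).symm
  obtain ⟨H, -, hH, -⟩ := CfsgLib.LocalEven.exists_index_two_of_central_involution S (z : G) z.2
    (congrArg Subtype.val hz2) (fun s hs => congrArg Subtype.val (hzcomm ⟨s, hs⟩)) M hM hzM (by
    intro n hn
    have hnS : ∀ m ∈ Subgroup.normalizer ((S : Subgroup G) : Set G), ∀ s : ↥(S : Subgroup G),
        m * (s : G) * m⁻¹ ∈ (S : Subgroup G) :=
      fun m hm s => (Subgroup.mem_normalizer_iff.mp hm _).mp s.2
    let c : ↥(S : Subgroup G) := e.symm c'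
    -- an automorphism of `S` fixes `c`
    have hc : ∀ m ∈ Subgroup.normalizer ((S : Subgroup G) : Set G), m * (c : G) * m⁻¹ = c := by
      intro m hm
      let r : ↥(S : Subgroup G) := e.symm (1, DihedralGroup.r 1)
      have hr : c = r * r := by
        apply e.injective; simp only [map_mul, c, r, MulEquiv.apply_symm_apply]; decide
      let σr : ↥(S : Subgroup G) := ⟨_, hnS m hm r⟩
      have h1 : m * (c : G) * m⁻¹ = (σr : G) * (σr : G) := by
        rw [hr]; simp [σr, mul_assoc]
      rcases hsq (e σr) with h | h
      · exfalso
        rw [← map_mul, ← map_one e] at h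
        have h2 := congrArg Subtype.val (e.injective h)
        have h3 : (c : G) = 1 := by
          simp only [Subgroup.coe_mul, Subgroup.coe_one] at h2
          rw [← h1] at h2
          simpa using h2
        have h4 : e c = 1 := by rw [show c = 1 from Subtype.ext h3, map_one]
        simp only [c, MulEquiv.apply_symm_apply] at h4
        revert h4; decide
      · rw [h1]
        have : σr * σr = c := by
          apply e.injective; simp only [map_mul, h, c, MulEquiv.apply_symm_apply]
        simpa using congrArg Subtype.val this
    have hcases : ∀ m ∈ Subgroup.normalizer ((S : Subgroup G) : Set G),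
        m * (z : G) * m⁻¹ = z ∨ m * (z : G) * m⁻¹ = (z : G) * c := by
      intro m hm
      let σz : ↥(S : Subgroup G) := ⟨_, hnS m hm z⟩
      have hσc : ∀ s : ↥(S : Subgroup G), σz * s = s * σz := fun s => Subtype.ext (by
        have h := congrArg Subtype.val (hzcomm ⟨_, hnS m⁻¹ (inv_mem hm) s⟩)
        simp only [Subgroup.coe_mul, inv_inv] at h
        simp only [Subgroup.coe_mul, σz]
        calc m * (z : G) * m⁻¹ * s = m * ((z : G) * (m⁻¹ * s * m)) * m⁻¹ := by group
          _ = _ := by rw [← h]; group)
      have hσ2 : σz ^ 2 = 1 := Subtype.ext (by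
        simp only [Subgroup.coe_pow, σz, conj_pow, Subgroup.coe_one]
        rw [show (z : G) ^ 2 = 1 from congrArg Subtype.val hz2]; group)
      have h4 := hcent (e σz) (fun u => by
        have := congrArg e (hσc (e.symm u)); simpa using this)
        (by rw [← map_pow, hσ2, map_one])
      have tr : ∀ (t : T), e σz = t → m * (z : G) * m⁻¹ = ((e.symm t : ↥(S : Subgroup G)) : G) := by
        intro t ht; rw [← ht, e.symm_apply_apply]
      rcases h4 with h | h | h | h
      · exfalso
        have := tr _ h
        simp only [map_one, Subgroup.coe_one] at this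
        have hz1 : z = 1 := Subtype.ext (by simpa using this)
        exact hzM (hz1 ▸ one_mem M)
      · exact Or.inl (tr _ h)
      · exfalso
        have h5 := tr _ h
        rw [← hc m hm] at h5
        have : z = c := Subtype.ext (by simpa [c] using h5)
        have : z' = c' := e.symm.injective this
        revert this; decide
      · exact Or.inr ((tr _ h).trans (by simp [z, c]))
    -- conjugation permutes a two-element set, and `N(S) / S` has odd order
    rcases hcases n hn with h | h
    · exact h
    exfalso
    have hzn : ∀ k : ℕ, n ^ (2 * k) * (z : G) * (n ^ (2 * k))⁻¹ = z := by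
      intro k
      induction k with
      | zero => simp
      | succ k ih =>
        have hsq : n ^ 2 * (z : G) * (n ^ 2)⁻¹ = z := by
          calc n ^ 2 * (z : G) * (n ^ 2)⁻¹ = n * (n * (z : G) * n⁻¹) * n⁻¹ := by rw [pow_two]; group
            _ = (n * (z : G) * n⁻¹) * (n * (c : G) * n⁻¹) := by rw [conj_mul, ← h]
            _ = (z : G) * ((c : G) * c) := by rw [h, hc n hn, mul_assoc]
            _ = z := by
              have : c * c = 1 := by
                apply e.injective; simp only [map_mul, c, MulEquiv.apply_symm_apply, map_one]; decide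
              rw [show (c : G) * c = 1 from congrArg Subtype.val this, mul_one]
        calc n ^ (2 * (k + 1)) * (z : G) * (n ^ (2 * (k + 1)))⁻¹
            = n ^ (2 * k) * (n ^ 2 * (z : G) * (n ^ 2)⁻¹) * (n ^ (2 * k))⁻¹ := by
              rw [mul_add, mul_one, pow_add]; group
          _ = z := by rw [hsq, ih]
    -- an odd power of `n` lies in `S`
    let N := Subgroup.normalizer ((S : Subgroup G) : Set G)
    haveI : ((S : Subgroup G).subgroupOf N).Normal := Subgroup.normal_in_normalizer
    have hidx : Odd ((S : Subgroup G).subgroupOf N).index := by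
      rw [← Nat.not_even_iff_odd, even_iff_two_dvd]
      haveI : Fact (Nat.Prime 2) := ⟨Nat.prime_two⟩
      exact fun hd => S.not_dvd_index (hd.trans (Subgroup.relIndex_dvd_index_of_le Subgroup.le_normalizer))
    obtain ⟨k, hk⟩ := hidx
    have hpow := Subgroup.pow_index_mem ((S : Subgroup G).subgroupOf N) (⟨n, hn⟩ : ↥N)
    rw [hk, Subgroup.mem_subgroupOf] at hpow
    simp only [Subgroup.coe_pow] at hpow
    have h1 := congrArg Subtype.val (hzcomm ⟨_, hpow⟩)
    simp only [Subgroup.coe_mul] at h1
    have h2 : n * (z : G) * n⁻¹ = z := by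
      calc n * (z : G) * n⁻¹ = n * (n ^ (2 * k) * (z : G) * (n ^ (2 * k))⁻¹) * n⁻¹ := by rw [hzn k]
        _ = (n ^ (2 * k + 1) * (z : G)) * (n ^ (2 * k + 1))⁻¹ := by rw [pow_succ']; group
        _ = z := by rw [h1]; group
    rw [h] at h2
    have : c = 1 := Subtype.ext (by simpa using h2)
    have := congrArg e this
    simp only [c, MulEquiv.apply_symm_apply, map_one] at this
    revert this; decide)
  exact ⟨H, hH⟩

end Cfsg.Agent.S2911
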