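import Cfsg.Statements.S2917
import Cfsg.Agent.Lib.Recog.GTwoThree.Cases
import Cfsg.Agent.Lib.Recog.GTwoThree.Chev
import Cfsg.Agent.Lib.Recog.GTwoThree.Embedded

set_option autoImplicit false
open Cfsg

namespace Cfsg.Agent.S2917

/-- Let G be a finite group with subgroups H and M such that: H has normal subgroups H₁, H₂ both isomorphic to SL₂(3) with H₁ ∩ H₂ = Z(H₁) = Z(H₂), the product H₁H₂ has index 2 in H, and H = C_G(H₁ ∩ H₂); and M ⧸ O₂(M) ≅ SL₃(2) with O₂(M) elementary abelian of order 8 containing Z(H₁). Then G is isomorphic to the Chevalley group G₂(3). -/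
theorem result {G : Type*} [Group G] [Finite G] (H H₁ H₂ M : Subgroup G) (h1 : H₁ ≤ H) (h2 : H₂ ≤ H) (hn1 : (H₁.subgroupOf H).Normal) (hn2 : (H₂.subgroupOf H).Normal) (hiso1 : Nonempty (↥H₁ ≃* Matrix.SpecialLinearGroup (Fin 2) (ZMod 3))) (hiso2 : Nonempty (↥H₂ ≃* Matrix.SpecialLinearGroup (Fin 2) (ZMod 3))) (hidx : (H₁ ⊔ H₂).relIndex H = 2) (hint1 : H₁ ⊓ H₂ = H₁ ⊓ Subgroup.centralizer (H₁ : Set G)) (hint2 : H₁ ⊓ H₂ = H₂ ⊓ Subgroup.centralizer (H₂ : Set G)) (hHC : H = Subgroup.centralizer ((H₁ ⊓ H₂ : Subgroup G) : Set G)) [hOM : (Cfsg.pCore 2 ↥M).Normal] (hM : Nonempty ((↥M ⧸ Cfsg.pCore 2 ↥M) ≃* Matrix.SpecialLinearGroup (Fin 3) (ZMod 2))) (hOel : Cfsg.IsElementaryAbelian 2 (Cfsg.pCore 2 ↥M)) (hOcard : Nat.card ↥(Cfsg.pCore 2 ↥M) = 8) (hZin : H₁ ⊓ H₂ ≤ (Cfsg.pCore 2 ↥M).map M.subtype) : ∃ (F : Type) (_ : Field F) (_ : Fintype F), Fintype.card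 F = 3 ∧ Nonempty (G ≃* ↥(Cfsg.Lie.chevG2.group F)) := by
  obtain ⟨z, hz, ⟨F⟩⟩ := CfsgLib.Recog.GTwoThree.exists_frame H H₁ H₂ h1 h2 hn1 hn2 hiso1 hiso2
    hidx hint1 hint2 hHC
  obtain ⟨D, hDM⟩ := CfsgLib.Recog.GTwoThree.exists_localData F M hM hOel hOcard (hZin hz)
  obtain ⟨ε, hε, μ, L, hL⟩ := CfsgLib.Recog.GTwoThree.exists_setup F D
  obtain ⟨rfl, -⟩ := CfsgLib.Recog.GTwoThree.exists_candidate hε μ L
  obtain ⟨μ₁, L₁, hL₁, ⟨A⟩⟩ := CfsgLib.Recog.GTwoThree.exists_amal μ L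
  have hLM : L₁.M = M := hL₁.trans (hL.trans hDM)
  subst hLM
  have ht := CfsgLib.Recog.GTwoThree.amal_t A
  obtain ⟨b, b1, b3, binv, bc1, bc2, v, hv, bv⟩ :=
    CfsgLib.Recog.GTwoThree.exists_extra μ₁ L₁ hM
  obtain ⟨μ₂, G₀, hG₀, ⟨iso⟩⟩ : ∃ (μ₂ : CfsgLib.Recog.GTwoThree.Model z 0) (G₀ : Subgroup G),
      (∀ p < 576, μ₂.val p ∈ G₀) ∧ Nonempty (G₀ ≃* CfsgLib.Recog.GTwoThree.tableGroup) := by
    simp only [List.mem_cons, List.not_mem_nil, or_false] at hv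
    rcases hv with rfl | rfl
    · obtain ⟨G₀, h⟩ := CfsgLib.Recog.GTwoThree.of_extra A ht b1 b3 binv bc1 bc2 bv
      exact ⟨_, G₀, h⟩
    · obtain ⟨μ₂, L₂, A₂, -, ht₂, e151, e294, e156⟩ :=
        CfsgLib.Recog.GTwoThree.exists_swap μ₁ L₁ A ht
      obtain ⟨G₀, h⟩ := CfsgLib.Recog.GTwoThree.of_extra A₂ ht₂ b1 b3 binv (e294 ▸ bc2)
        (e156 ▸ bc1) (e151 ▸ bv)
      exact ⟨_, G₀, h⟩
  obtain ⟨e⟩ := CfsgLib.Recog.GTwoThree.chev_table_iso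
  have hz2 : orderOf z = 2 := orderOf_eq_prime (by rw [pow_two]; exact F.z_sq) F.z_ne
  have hC : Subgroup.centralizer ({z} : Set G) ≤ G₀ := fun g hg => by
    obtain ⟨p, hp, rfl⟩ := (μ₂.mem g).1 (Subgroup.mem_centralizer_singleton_iff.1 hg)
    exact hG₀ p hp
  have hzG : z ∈ G₀ := μ₂.val_z ▸ hG₀ 174 (by norm_num)
  have iso' := iso.trans e.symm
  have htop := CfsgLib.Recog.GTwoThree.eq_top_of_centralizer_le G₀ iso' z hzG hz2 hC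
  exact ⟨ZMod 3, inferInstance, inferInstance, ZMod.card 3,
    ⟨(Subgroup.topEquiv.symm.trans (MulEquiv.subgroupCongr htop.symm)).trans iso'⟩⟩

end Cfsg.Agent.S2917
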