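import Cfsg.Statements.S2922
import Cfsg.Agent.Lib.LocalEvenB.CharP

set_option autoImplicit false
open Cfsg

namespace Cfsg.Agent.S2922

/-- Let p be a prime, X a finite group, B a p-subgroup of X and C a normal subgroup of B. If N_X(C) has characteristic p (its generalized Fitting subgroup is O_p(N_X(C))), then N_X(B) and C_X(B) have characteristic p. -/
theorem result {X : Type*} [Group X] [Finite X] {p : ℕ} [Fact p.Prime] (B C : Subgroup X) (hB : IsPGroup p ↥B) (hCB : C ≤ B) (hCn : (C.subgroupOf B).Normal) (hC : Cfsg.generalizedFittingSubgroup ↥(Subgroup.normalizer (C : Set X)) = Cfsg.pCore p ↥(Subgroup.normalizer (C : Set X))) : Cfsg.generalizedFittingSubgroup ↥(Subgroup.normalizer (B : Set X)) = Cfsg.pCore p ↥(Subgroup.normalizer (B : Set X)) ∧ Cfsg.generalizedFittingSubgroup ↥(Subgroup.centralizer (B : Set X)) = Cfsg.pCore p ↥(Subgroup.centralizer (B : Set X)) := by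
  have hH : CfsgLib.LocalEvenB.HasCharP p (Subgroup.normalizer (C : Set X)) :=
    (CfsgLib.LocalEvenB.hasCharP_iff _).2 (CfsgLib.LocalEvenB.gFitting_eq_pCore_iff.1 hC)
  have hBH : B ≤ Subgroup.normalizer (C : Set X) := (Subgroup.normal_subgroupOf_iff_le_normalizer hCB).1 hCn
  have hCB' : Subgroup.centralizer (B : Set X) ≤ Subgroup.normalizer (C : Set X) :=
    (Subgroup.centralizer_le (SetLike.coe_subset_coe.2 hCB)).trans (Subgroup.centralizer_le_normalizer _)
  have hN : Subgroup.normalizer (B : Set X) ≤ Subgroup.normalizer (Subgroup.centralizer (B : Set X) : Set X) := by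
    intro t ht
    rw [← CfsgLib.LocalEvenB.map_conj_eq_self_iff_mem_normalizer, CfsgLib.LocalEvenB.map_centralizer_equiv,
      CfsgLib.LocalEvenB.map_conj_eq_self_iff_mem_normalizer.2 ht]
  have hL := hH.inf_normalizer hB hBH
  have hC1 : CfsgLib.LocalEvenB.HasCharP p (Subgroup.centralizer (B : Set X)) :=
    hL.of_normalized (le_inf hCB' (Subgroup.centralizer_le_normalizer _))
      ((CfsgLib.LocalEvenB.pCoreOf_le _).trans (inf_le_right.trans hN))
  refine ⟨CfsgLib.LocalEvenB.gFitting_eq_pCore_iff.2 ((CfsgLib.LocalEvenB.hasCharP_iff _).1 ?_),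
    CfsgLib.LocalEvenB.gFitting_eq_pCore_iff.2 ((CfsgLib.LocalEvenB.hasCharP_iff _).1 hC1)⟩
  refine CfsgLib.LocalEvenB.hasCharP_of_eq_one fun x hx hxC hxo => ?_
  have hxB : x ∈ Subgroup.centralizer (B : Set X) := Subgroup.centralizer_le (SetLike.coe_subset_coe.2
    (CfsgLib.LocalEvenB.le_pCoreOf Subgroup.le_normalizer hB le_rfl)) hxC
  refine hC1.eq_one hxB hxo (Subgroup.centralizer_le (SetLike.coe_subset_coe.2 ?_) hxC)
  refine CfsgLib.LocalEvenB.le_pCoreOf ((CfsgLib.LocalEvenB.pCoreOf_le _).trans (Subgroup.centralizer_le_normalizer _))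
    (CfsgLib.LocalEvenB.isPGroup_pCoreOf _) fun g hg => CfsgLib.LocalEvenB.mem_normalizer_of_forall ?_
  rintro _ ⟨y, hy, rfl⟩
  let e : ↥(Subgroup.centralizer (B : Set X)) ≃* ↥(Subgroup.centralizer (B : Set X)) :=
    { toFun := fun m => ⟨g * m * g⁻¹, (Subgroup.mem_normalizer_iff.1 (hN hg) m).1 m.2⟩
      invFun := fun m => ⟨g⁻¹ * m * g, by
        simpa using (Subgroup.mem_normalizer_iff.1 (Subgroup.inv_mem _ (hN hg)) m).1 m.2⟩
      left_inv := fun m => Subtype.ext (by simp [mul_assoc])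
      right_inv := fun m => Subtype.ext (by simp [mul_assoc])
      map_mul' := fun a b => Subtype.ext (by simp [mul_assoc]) }
  refine ⟨e y, ?_, rfl⟩
  rw [← CfsgLib.Core.map_equiv_pCore (p := p) e]
  exact ⟨y, hy, rfl⟩

end Cfsg.Agent.S2922
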