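import Cfsg.Statements.S2925
import Cfsg.Agent.Lib.LocalEvenB.SubnormalSylow
import Cfsg.Agent.Lib.Components.Component

set_option autoImplicit false
open Cfsg

namespace Cfsg.Agent.S2925

/-- Let K be a component of the finite group X and T a Sylow 2-subgroup of X. If some abelian normal subgroup Y of T does not normalize K, then K ⧸ Z(K) has abelian Sylow 2-subgroups. -/
theorem result {X : Type*} [Group X] [Finite X] (K : Subgroup X) (hK : Cfsg.IsComponent K) (T : Sylow 2 X) (Y : Subgroup X) (hYT : Y ≤ (T : Subgroup X)) (hYn : (Y.subgroupOf (T : Subgroup X)).Normal) (hYab : IsMulCommutative ↥Y) (hnot : ¬ Y ≤ Subgroup.normalizer (K : Set X)) (P : Sylow 2 (↥K ⧸ Subgroup.center ↥K)) : IsMulCommutative ↥(P : Subgroup (↥K ⧸ Subgroup.center ↥K)) := by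
  haveI : Fact (Nat.Prime 2) := ⟨Nat.prime_two⟩
  obtain ⟨y, hy, hyK⟩ := SetLike.not_le_iff_exists.1 hnot
  set L := K.map (MulAut.conj y).toMonoidHom with hL
  have hLc : Cfsg.IsComponent L := CfsgLib.Components.isComponent_map_equiv (MulAut.conj y) hK
  have hne : K ≠ L := by
    intro h
    apply hyK
    refine Subgroup.mem_normalizer_iff.2 fun k => ⟨fun hk => ?_, fun hk => ?_⟩
    · rw [h]; exact ⟨k, hk, rfl⟩
    · obtain ⟨k', hk', he⟩ : y * k * y⁻¹ ∈ L := h ▸ hk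
      have : k' = k := (MulAut.conj y).injective (by simpa using he)
      exact this ▸ hk'
  have hcomm : ∀ a ∈ K, ∀ b ∈ L, a * b = b * a := fun a ha b hb => by
    have h0 := CfsgLib.Components.components_commute hK hLc hne
    exact commutatorElement_eq_one_iff_mul_comm.1 (Subgroup.mem_bot.1 (h0 ▸ Subgroup.commutator_mem_commutator ha hb))
  have key : ∀ t ∈ (T : Subgroup X) ⊓ K, ∀ t' ∈ (T : Subgroup X) ⊓ K, ∀ k ∈ K,
      k * (t * t' * t⁻¹ * t'⁻¹) = (t * t' * t⁻¹ * t'⁻¹) * k := by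
    intro t ht t' ht' k hk
    have hY : ∀ u ∈ (T : Subgroup X) ⊓ K, y * u * y⁻¹ * u⁻¹ ∈ Y := by
      intro u hu
      have h1 := hYn.conj_mem ⟨y⁻¹, (T : Subgroup X).inv_mem (hYT hy)⟩ (Y.inv_mem hy) ⟨u, hu.1⟩
      rw [Subgroup.mem_subgroupOf] at h1
      have h2 : y * u * y⁻¹ * u⁻¹ = y * (u * y⁻¹ * u⁻¹) := by group
      rw [h2]; exact Y.mul_mem hy h1
    have hmem : ∀ u ∈ K, y * u * y⁻¹ ∈ L := fun u hu => ⟨u, hu, rfl⟩
    set a := y * t * y⁻¹ with ha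
    set a' := y * t' * y⁻¹ with ha'
    have hyy : (a * t⁻¹) * (a' * t'⁻¹) = (a' * t'⁻¹) * (a * t⁻¹) :=
      congrArg Subtype.val (hYab.is_comm.comm (⟨_, hY t ht⟩ : Y) ⟨_, hY t' ht'⟩)
    have c1 : t⁻¹ * a' = a' * t⁻¹ := hcomm _ (K.inv_mem ht.2) _ (hmem t' ht'.2)
    have c2 : t'⁻¹ * a = a * t'⁻¹ := hcomm _ (K.inv_mem ht'.2) _ (hmem t ht.2)
    have h3 : (a * a') * (t⁻¹ * t'⁻¹) = (a' * a) * (t'⁻¹ * t⁻¹) := by
      calc (a * a') * (t⁻¹ * t'⁻¹) = a * (a' * t⁻¹) * t'⁻¹ := by group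
        _ = (a * t⁻¹) * (a' * t'⁻¹) := by rw [← c1]; group
        _ = (a' * t'⁻¹) * (a * t⁻¹) := hyy
        _ = a' * (t'⁻¹ * a) * t⁻¹ := by group
        _ = (a' * a) * (t'⁻¹ * t⁻¹) := by rw [c2]; group
    -- the commutator of `t⁻¹, t'⁻¹` lies in `K ⊓ L`
    have h4 : (t'⁻¹ * t⁻¹) * (t⁻¹ * t'⁻¹)⁻¹ ∈ L := by
      have : (t'⁻¹ * t⁻¹) * (t⁻¹ * t'⁻¹)⁻¹ = (a' * a)⁻¹ * (a * a') := by
        rw [eq_inv_mul_iff_mul_eq, ← mul_assoc, ← h3]; group
      rw [this]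
      exact L.mul_mem (L.inv_mem (L.mul_mem (hmem _ ht'.2) (hmem _ ht.2))) (L.mul_mem (hmem _ ht.2) (hmem _ ht'.2))
    set u := t' * t with hu
    set d := (t'⁻¹ * t⁻¹) * (t⁻¹ * t'⁻¹)⁻¹ with hd
    have huK : u ∈ K := K.mul_mem ht'.2 ht.2
    have h5 : Commute (u⁻¹ * k * u) d := hcomm _ (K.mul_mem (K.mul_mem (K.inv_mem huK) hk) huK) _ h4
    have h6 : Commute k (u * d * u⁻¹) := by
      have e : k = u * (u⁻¹ * k * u) * u⁻¹ := by group
      rw [e]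
      exact (Commute.conj_iff u).mpr h5
    have h7 : (t * t' * t⁻¹ * t'⁻¹) = (u * d * u⁻¹)⁻¹ := by rw [hd, hu]; group
    rw [h7]
    exact h6.inv_right.eq
  set S := ((T : Subgroup X) ⊓ K).subgroupOf K with hS
  have hSyl : ¬ 2 ∣ S.index := CfsgLib.LocalEvenB.not_dvd_relIndex_inf_of_subnormal T hK.1
  let S' : Sylow 2 K := ((T.2.to_le inf_le_left).comap_subtype (K := K)).toSylow hSyl
  obtain ⟨g, hg⟩ := MulAction.exists_smul_eq (K ⧸ Subgroup.center K)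
    (S'.mapSurjective (QuotientGroup.mk'_surjective (Subgroup.center K))) P
  have hSab : ∀ u ∈ (S.map (QuotientGroup.mk' (Subgroup.center K))), ∀ v ∈ (S.map (QuotientGroup.mk' (Subgroup.center K))), u * v = v * u := by
    rintro _ ⟨⟨u, huK⟩, hu, rfl⟩ _ ⟨⟨v, hvK⟩, hv, rfl⟩
    rw [← map_mul, ← map_mul, ← mul_inv_eq_one, ← map_inv, ← map_mul, QuotientGroup.mk'_apply, QuotientGroup.eq_one_iff, Subgroup.mem_center_iff]
    rintro ⟨k, hk⟩
    apply Subtype.ext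
    have h := key u hu v hv k hk
    simpa [mul_assoc] using h
  refine ⟨⟨fun u v => ?_⟩⟩
  obtain ⟨u, hu⟩ := u
  obtain ⟨v, hv⟩ := v
  have hmem : ∀ w ∈ (P : Subgroup (K ⧸ Subgroup.center K)), g⁻¹ * w * g ∈ S.map (QuotientGroup.mk' (Subgroup.center K)) := by
    intro w hw
    rw [← hg, CfsgLib.Transfer.mem_sylow_smul] at hw
    exact hw
  have := hSab _ (hmem u hu) _ (hmem v hv)
  apply Subtype.ext
  show u * v = v * u
  calc u * v = g * ((g⁻¹ * u * g) * (g⁻¹ * v * g)) * g⁻¹ := by group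
    _ = g * ((g⁻¹ * v * g) * (g⁻¹ * u * g)) * g⁻¹ := by rw [this]
    _ = v * u := by group

end Cfsg.Agent.S2925
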