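import Cfsg.Statements.S2928
import Cfsg.Agent.Lib.LocalEvenB.SymOvergroupsTwo

set_option autoImplicit false
open Cfsg
set_option maxHeartbeats 1600000
set_option maxRecDepth 4000

namespace Cfsg.Agent.S2928

/-- Let n ≥ 8 and let H be a subgroup of the symmetric group of degree n whose generalized Fitting subgroup F*(H) is quasisimple. If H contains a Sylow 2-subgroup of the alternating group of degree n, then F*(H) is isomorphic to an alternating group of degree m for some m ∈ {n − 3, n − 2, n − 1, n}. -/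
theorem result (n : ℕ) (hn : 8 ≤ n) (H : Subgroup (Equiv.Perm (Fin n))) (hF : Cfsg.IsQuasisimple ↥(Cfsg.generalizedFittingSubgroup ↥H)) (hS : ∃ P : Sylow 2 ↥(alternatingGroup (Fin n)), ((P : Subgroup ↥(alternatingGroup (Fin n))).map (alternatingGroup (Fin n)).subtype) ≤ H) : ∃ m : ℕ, (m = n - 3 ∨ m = n - 2 ∨ m = n - 1 ∨ m = n) ∧ Nonempty (↥(Cfsg.generalizedFittingSubgroup ↥H) ≃* ↥(alternatingGroup (Fin m))) := by
  open CfsgLib.LocalEvenB.SymOver Equiv in
  obtain ⟨P, hP⟩ := hS
  haveI : Fact (Nat.Prime 2) := ⟨Nat.prime_two⟩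
  have hQ := qs_of_gFitting (H := H) hF
  let f : Fin 8 ↪ Fin n := Fin.castLEEmb hn
  let G0 : Set (Equiv.Perm (Fin 8)) := {σ | σ ∈ ([swap 0 1 * swap 2 3, swap 0 2 * swap 1 3, swap 4 5 * swap 6 7, swap 4 6 * swap 5 7] : List (Equiv.Perm (Fin 8)))}
  have hG0 : ∀ σ ∈ G0, ∀ τ ∈ G0, σ * σ = 1 ∧ σ * τ = τ * σ ∧ Equiv.Perm.sign σ = 1 := by
    intro σ hσ τ hτ
    simp only [G0, Set.mem_setOf_eq, List.mem_cons, List.not_mem_nil, or_false] at hσ hτ
    rcases hσ with rfl | rfl | rfl | rfl <;> rcases hτ with rfl | rfl | rfl | rfl <;> decide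
  let W : Subgroup (Equiv.Perm (Fin n)) := (Subgroup.closure G0).map (CfsgLib.LocalEvenB.SymOver.ext f)
  have hWA : W ≤ alternatingGroup (Fin n) := by
    rw [Subgroup.map_le_iff_le_comap, Subgroup.closure_le]
    exact fun σ hσ => ext_mem_alt f (hG0 σ hσ σ hσ).2.2
  have hsq : ∀ σ ∈ Subgroup.closure G0, σ * σ = 1 := by
    have hcm : ∀ σ ∈ Subgroup.closure G0, ∀ τ ∈ Subgroup.closure G0, σ * τ = τ * σ := by
      have h1 : Subgroup.closure G0 ≤ Subgroup.centralizer G0 :=
        (Subgroup.closure_le _).2 fun σ hσ τ hτ => (hG0 τ hτ σ hσ).2.1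
      have h2 : Subgroup.closure G0 ≤ Subgroup.centralizer (Subgroup.closure G0 : Set (Equiv.Perm (Fin 8))) :=
        (Subgroup.closure_le _).2 fun σ hσ τ hτ => (h1 hτ σ hσ).symm
      exact fun σ hσ τ hτ => (h2 hσ τ hτ).symm
    intro σ hσ
    induction hσ using Subgroup.closure_induction with
    | mem x hx => exact (hG0 x hx x hx).1
    | one => simp
    | mul x y hx hy ihx ihy =>
      calc x * y * (x * y) = x * (y * x) * y := by group
        _ = x * (x * y) * y := by rw [hcm y hy x hx]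
        _ = (x * x) * (y * y) := by group
        _ = 1 := by rw [ihx, ihy, one_mul]
    | inv x _ ih => rw [← mul_inv_rev, ih, inv_one]
  have hW : IsPGroup 2 ↥(W.subgroupOf (alternatingGroup (Fin n))) := fun x => ⟨1, by
    obtain ⟨σ, hσ, hx⟩ : ((x : ↥(alternatingGroup (Fin n))) : Equiv.Perm (Fin n)) ∈ W := x.2
    refine Subtype.ext (Subtype.ext ?_)
    simp only [pow_one, pow_two, Subgroup.coe_mul, Subgroup.coe_one]
    rw [← hx, ← map_mul, hsq σ hσ, map_one]⟩
  obtain ⟨g, hg⟩ := exists_conj_le (H := H.comap (alternatingGroup (Fin n)).subtype) P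
    (fun x hx => hP ⟨x, hx, rfl⟩) _ hW
  have hblk : ∀ S : Finset (Fin 8), S.card = 4 →
      (∀ σ : Equiv.Perm (Fin 8), Equiv.Perm.sign σ = 1 → σ * σ = 1 → σ.support ⊆ S → σ ∈ Subgroup.closure G0) →
      Blk H ((S.map f).image (g : Equiv.Perm (Fin n))) := by
    intro S hS hcl
    refine ⟨by rw [Finset.card_image_of_injective _ (Equiv.injective _), Finset.card_map, hS], fun h hh h2 hs => ?_⟩
    obtain ⟨k, hk⟩ : ∃ k : Equiv.Perm (Fin n), k = (g : Equiv.Perm (Fin n))⁻¹ * h * g := ⟨_, rfl⟩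
    have hks : k.support ⊆ S.map f := fun x hx => by
      have hx' : (g : Equiv.Perm (Fin n)) x ∈ h.support := by
        rw [Equiv.Perm.mem_support] at hx ⊢
        exact fun he => hx (by simp [hk, Equiv.Perm.mul_apply, he])
      obtain ⟨y, hy, hyx⟩ := Finset.mem_image.1 (hs hx')
      exact Equiv.injective _ hyx ▸ hy
    obtain ⟨σ, hσ⟩ := exists_ext f (hks.trans (Finset.map_subset_map.2 (Finset.subset_univ _)))
    have hsupp : σ.support ⊆ S := by
      rwa [← hσ, support_ext, Finset.map_subset_map] at hks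
    have hsign : Equiv.Perm.sign σ = 1 := by
      have h' := congrArg Equiv.Perm.sign hσ
      rw [sign_ext, hk, map_mul, map_mul, map_inv, Equiv.Perm.mem_alternatingGroup.1 hh, mul_one, inv_mul_cancel] at h'
      exact h'
    have hsq2 : σ * σ = 1 := by
      apply Equiv.Perm.viaEmbeddingHom_injective f
      show CfsgLib.LocalEvenB.SymOver.ext f (σ * σ) = CfsgLib.LocalEvenB.SymOver.ext f 1
      rw [map_mul, hσ, map_one, hk]
      calc _ = (g : Equiv.Perm (Fin n))⁻¹ * (h * h) * g := by group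
        _ = 1 := by rw [h2]; group
    have hin : k ∈ W := ⟨σ, hcl σ hsign hsq2 hsupp, hσ⟩
    have := hg ⟨k, hWA hin⟩ hin
    have e : h = (g : Equiv.Perm (Fin n)) * k * (g : Equiv.Perm (Fin n))⁻¹ := by rw [hk]; group
    rw [e]
    exact this
  have hfour : ∀ (e : Fin 4 ↪ Fin 8) (a b : Equiv.Perm (Fin 8)), a ∈ G0 → b ∈ G0 →
      a = CfsgLib.LocalEvenB.SymOver.ext e (swap 0 1 * swap 2 3) → b = CfsgLib.LocalEvenB.SymOver.ext e (swap 0 2 * swap 1 3) →
      ∀ σ : Equiv.Perm (Fin 8), Equiv.Perm.sign σ = 1 → σ * σ = 1 → σ.support ⊆ Finset.univ.map e → σ ∈ Subgroup.closure G0 := by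
    intro e a b ha hb ea eb σ h1 h2 h3
    obtain ⟨τ, rfl⟩ := exists_ext e h3
    rw [sign_ext] at h1
    have h2' : τ * τ = 1 := Equiv.Perm.viaEmbeddingHom_injective e (by
      show CfsgLib.LocalEvenB.SymOver.ext e (τ * τ) = CfsgLib.LocalEvenB.SymOver.ext e 1
      rw [map_mul, h2, map_one])
    have hcase := (by decide : ∀ τ : Equiv.Perm (Fin 4), Equiv.Perm.sign τ = 1 → τ * τ = 1 →
      τ = 1 ∨ τ = swap 0 1 * swap 2 3 ∨ τ = swap 0 2 * swap 1 3 ∨
      τ = (swap 0 1 * swap 2 3) * (swap 0 2 * swap 1 3)) τ h1 h2'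
    rcases hcase with rfl | rfl | rfl | rfl
    · rw [map_one]; exact one_mem _
    · exact ea ▸ Subgroup.subset_closure ha
    · exact eb ▸ Subgroup.subset_closure hb
    · rw [map_mul, ← ea, ← eb]; exact mul_mem (Subgroup.subset_closure ha) (Subgroup.subset_closure hb)
  let e₁ : Fin 4 ↪ Fin 8 := ⟨![0, 1, 2, 3], by decide⟩
  let e₂ : Fin 4 ↪ Fin 8 := ⟨![4, 5, 6, 7], by decide⟩
  have b1 := hblk ({0, 1, 2, 3} : Finset (Fin 8)) (by decide) (fun σ h1 h2 h3 => hfour e₁ (swap 0 1 * swap 2 3) (swap 0 2 * swap 1 3)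
    (by simp [G0]) (by simp [G0]) (by rw [map_mul, ext_swap, ext_swap]; rfl) (by rw [map_mul, ext_swap, ext_swap]; rfl) σ h1 h2
    (h3.trans (by decide)))
  have b2 := hblk ({4, 5, 6, 7} : Finset (Fin 8)) (by decide) (fun σ h1 h2 h3 => hfour e₂ (swap 4 5 * swap 6 7) (swap 4 6 * swap 5 7)
    (by simp [G0]) (by simp [G0]) (by rw [map_mul, ext_swap, ext_swap]; rfl) (by rw [map_mul, ext_swap, ext_swap]; rfl) σ h1 h2
    (h3.trans (by decide)))
  obtain ⟨c, hc, h3⟩ := exists_three_cycle hQ b1 b2 (by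
    rw [Finset.disjoint_image (Equiv.injective _), Finset.disjoint_map]
    decide)
  obtain ⟨D, h5, hiff, hD, hfaith⟩ := three_cycle_case hQ hc h3
  have hdvd := card_dvd_factorial (P := (P : Subgroup ↥(alternatingGroup (Fin n))).map (alternatingGroup (Fin n)).subtype)
    (fun h hh => hD h (hP hh)) (fun h hh => hfaith h (hP hh))
  rw [Subgroup.card_map_of_injective (alternatingGroup (Fin n)).subtype_injective, P.card_eq_multiplicity] at hdvd
  haveI : Nontrivial (Fin n) := Fin.nontrivial_iff_two_le.2 (by omega)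
  have hA := two_mul_nat_card_alternatingGroup (α := Fin n)
  rw [Nat.card_perm, Nat.card_fin] at hA
  have hle : D.card ≤ n := by simpa using Finset.card_le_univ D
  refine ⟨D.card, ?_, ?_⟩
  · by_contra hne
    have hm : D.card ≤ n - 4 := by omega
    obtain ⟨k, rfl⟩ : ∃ k, n = k + 4 := ⟨n - 4, by omega⟩
    have h1 : 2 ^ ((Nat.card ↥(alternatingGroup (Fin (k + 4)))).factorization 2) ∣ k.factorial :=
      hdvd.trans (Nat.factorial_dvd_factorial (by omega))
    rw [(Nat.prime_two).pow_dvd_iff_le_factorization (Nat.factorial_ne_zero k)] at h1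
    have h2 : 2 ^ 3 * k.factorial ∣ (k + 4).factorial := by
      refine Dvd.dvd.trans (Nat.mul_dvd_mul_right (by norm_num [Nat.factorial] : 2 ^ 3 ∣ Nat.factorial 4) _) ?_
      rw [mul_comm (Nat.factorial 4)]
      exact Nat.factorial_mul_factorial_dvd_factorial_add k 4
    have h3 := (Nat.factorization_le_iff_dvd (by positivity) (Nat.factorial_ne_zero _)).2 h2 2
    rw [Nat.factorization_mul (by norm_num) (Nat.factorial_ne_zero _), ← hA,
      Nat.factorization_mul (by norm_num) Nat.card_pos.ne', Nat.prime_two.factorization_pow, Nat.prime_two.factorization,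
      Finsupp.add_apply, Finsupp.add_apply, Finsupp.single_eq_same, Finsupp.single_eq_same] at h3
    omega
  · obtain ⟨e⟩ := nonempty_equiv_alt hiff
    exact ⟨(Subgroup.equivMapOfInjective _ H.subtype H.subtype_injective).trans e⟩

end Cfsg.Agent.S2928
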