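import Cfsg.Statements.S2929
import Cfsg.Agent.Lib.LocalEvenB.SymOvergroups

set_option autoImplicit false
open Cfsg

namespace Cfsg.Agent.S2929

/-- Let n ≥ 5 and let H be a subgroup of the symmetric group of degree n whose generalized Fitting subgroup F*(H) is quasisimple. If H contains a Sylow 3-subgroup of the symmetric group, then F*(H) is isomorphic to an alternating group of degree m for some m ∈ {n − 2, n − 1, n}. -/
theorem result (n : ℕ) (hn : 5 ≤ n) (H : Subgroup (Equiv.Perm (Fin n))) (hF : Cfsg.IsQuasisimple ↥(Cfsg.generalizedFittingSubgroup ↥H)) (hS : ∃ P : Sylow 3 (Equiv.Perm (Fin n)), (P : Subgroup (Equiv.Perm (Fin n))) ≤ H) : ∃ m : ℕ, (m = n - 2 ∨ m = n - 1 ∨ m = n) ∧ Nonempty (↥(Cfsg.generalizedFittingSubgroup ↥H) ≃* ↥(alternatingGroup (Fin m))) := by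
  open CfsgLib.LocalEvenB.SymOver Equiv in
  obtain ⟨P, hP⟩ := hS
  haveI : Fact (Nat.Prime 3) := ⟨Nat.prime_three⟩
  have hQ := qs_of_gFitting (H := H) hF
  let c₀ : Equiv.Perm (Fin n) := Equiv.swap ⟨0, by omega⟩ ⟨1, by omega⟩ * Equiv.swap ⟨1, by omega⟩ ⟨2, by omega⟩
  have hc₀ : c₀.IsThreeCycle := by
    show (Equiv.swap _ _ * Equiv.swap _ _).IsThreeCycle
    rw [Equiv.swap_comm (⟨0, _⟩ : Fin n)]
    exact Equiv.Perm.isThreeCycle_swap_mul_swap_same (by simp [Fin.ext_iff]) (by simp [Fin.ext_iff]) (by simp [Fin.ext_iff])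
  obtain ⟨g, hg⟩ := CfsgLib.LocalEvenB.SymOver.exists_conj_le P hP (Subgroup.zpowers c₀)
    (IsPGroup.of_card (n := 1) (by rw [Nat.card_zpowers, hc₀.orderOf, pow_one]))
  obtain ⟨D, h5, hiff, hD, hfaith⟩ := three_cycle_case hQ (hg c₀ (Subgroup.mem_zpowers _))
    (show (g * c₀ * g⁻¹).IsThreeCycle by rw [Equiv.Perm.IsThreeCycle, Equiv.Perm.cycleType_conj]; exact hc₀)
  have hdvd := card_dvd_factorial (P := (P : Subgroup (Equiv.Perm (Fin n)))) (fun h hh => hD h (hP hh)) (fun h hh => hfaith h (hP hh))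
  rw [P.card_eq_multiplicity, Nat.card_perm, Nat.card_fin] at hdvd
  have hle : D.card ≤ n := by simpa using Finset.card_le_univ D
  refine ⟨D.card, ?_, ?_⟩
  · by_contra hne
    have hm : D.card ≤ n - 3 := by omega
    obtain ⟨k, rfl⟩ : ∃ k, n = k + 3 := ⟨n - 3, by omega⟩
    have h1 : 3 ^ ((k + 3).factorial.factorization 3) ∣ k.factorial :=
      hdvd.trans (Nat.factorial_dvd_factorial (by omega))
    have h2 : 3 * k.factorial ∣ (k + 3).factorial := by
      rw [show (k + 3).factorial = ((k + 3) * (k + 2) * (k + 1)) * k.factorial by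
        simp [Nat.factorial]; ring]
      refine Nat.mul_dvd_mul_right ?_ _
      have : (k + 3) % 3 = 0 ∨ (k + 2) % 3 = 0 ∨ (k + 1) % 3 = 0 := by omega
      rcases this with h | h | h
      · exact ((Nat.dvd_of_mod_eq_zero h).mul_right _).mul_right _
      · exact ((Nat.dvd_of_mod_eq_zero h).mul_left _).mul_right _
      · exact (Nat.dvd_of_mod_eq_zero h).mul_left _
    rw [(Nat.prime_three).pow_dvd_iff_le_factorization (Nat.factorial_ne_zero k)] at h1
    have h3 := (Nat.factorization_le_iff_dvd (by positivity) (Nat.factorial_ne_zero _)).2 h2 3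
    rw [Nat.factorization_mul (by norm_num) (Nat.factorial_ne_zero _), Finsupp.add_apply, Nat.prime_three.factorization_self] at h3
    omega
  · obtain ⟨e⟩ := nonempty_equiv_alt hiff
    exact ⟨(Subgroup.equivMapOfInjective _ H.subtype H.subtype_injective).trans e⟩

end Cfsg.Agent.S2929
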