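import Cfsg.Statements.S2930
import Cfsg.Agent.Lib.LocalEvenB.AltThreeMinimal
import Cfsg.Agent.Lib.Components.FStar

set_option autoImplicit false
open Cfsg

namespace Cfsg.Agent.S2930

/-- Let X be a finite 3-minimal group (a Sylow 3-subgroup is not normal and lies in a unique maximal subgroup) whose generalized Fitting subgroup is isomorphic to an alternating group of degree n ≥ 5. Then X = F*(X), and n = 6, n = 9, or n = 3ᵃ + 1 for some a ≥ 2. -/
theorem result {X : Type*} [Group X] [Finite X] (hX : Cfsg.IsPMinimal 3 X) (n : ℕ) (hn : 5 ≤ n) (hF : Nonempty (↥(Cfsg.generalizedFittingSubgroup X) ≃* ↥(alternatingGroup (Fin n)))) : Cfsg.generalizedFittingSubgroup X = ⊤ ∧ (n = 6 ∨ n = 9 ∨ ∃ a : ℕ, 2 ≤ a ∧ n = 3 ^ a + 1) := by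
  haveI : Fact (Nat.Prime 3) := ⟨Nat.prime_three⟩
  obtain ⟨e⟩ := hF
  haveI hEn : (Cfsg.generalizedFittingSubgroup X).Normal := CfsgLib.Components.gFitting_normal
  set E := Cfsg.generalizedFittingSubgroup X with hE
  haveI : IsSimpleGroup (alternatingGroup (Fin n)) := alternatingGroup.isSimpleGroup (by rw [Nat.card_fin]; exact hn)
  haveI : Nontrivial (Fin n) := Fin.nontrivial_iff_two_le.2 (by omega)
  have hA := two_mul_nat_card_alternatingGroup (α := Fin n)
  rw [Nat.card_perm, Nat.card_fin, ← Nat.card_congr e.toEquiv] at hA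
  have hnc : ¬ IsMulCommutative ↥(alternatingGroup (Fin n)) := fun h => by
    have := alternatingGroup.isMulCommutative_iff_card_le_three.1 h
    rw [Nat.card_fin] at this
    omega
  have hinj : Function.Injective (MulAut.conjNormal : X →* MulAut ↥E) := by
    rw [injective_iff_map_eq_one]
    intro x hx
    have hc : ∀ y ∈ E, y * x = x * y := fun y hy => by
      have := congrArg Subtype.val (MulEquiv.congr_fun hx ⟨y, hy⟩)
      rw [MulAut.conjNormal_apply, MulAut.one_apply] at this
      exact (mul_inv_eq_iff_eq_mul.1 this).symm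
    have hxE : x ∈ E := CfsgLib.Components.centralizer_gFitting_le (Subgroup.mem_centralizer_iff.2 hc)
    have hcz : e ⟨x, hxE⟩ ∈ Subgroup.center ↥(alternatingGroup (Fin n)) := Subgroup.mem_center_iff.2 fun q => by
      obtain ⟨y, rfl⟩ := e.surjective q
      rw [← map_mul, ← map_mul]
      exact congrArg e (Subtype.ext (hc y y.2))
    have hbot : Subgroup.center ↥(alternatingGroup (Fin n)) = ⊥ :=
      ((Subgroup.instNormalCenter : (Subgroup.center ↥(alternatingGroup (Fin n))).Normal).eq_bot_or_eq_top).resolve_right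
        fun h => hnc ⟨⟨fun a b => (Subgroup.mem_center_iff.1 (h ▸ Subgroup.mem_top b) a)⟩⟩
    have h1 : (⟨x, hxE⟩ : ↥E) = 1 := e.injective (by rw [map_one]; exact Subgroup.mem_bot.1 (hbot ▸ hcz))
    exact congrArg Subtype.val h1
  have hAut : Nat.card (MulAut ↥(alternatingGroup (Fin n))) ∣ 2 * n.factorial := by
    by_cases h6 : n = 6
    · have := CfsgLib.ClassSizes.AlternatingAut.card_mulAut_six (α := Fin n) (by rw [Fintype.card_fin, h6])
      rw [h6] at this ⊢
      exact this
    · rw [← Nat.card_congr (Equiv.ofBijective _ (CfsgLib.ClassSizes.AlternatingAut.conjNormal_bijective (α := Fin n)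
        (by rw [Fintype.card_fin]; omega) (by rw [Fintype.card_fin]; exact h6))), Nat.card_perm, Nat.card_fin]
      exact Dvd.intro_left 2 rfl
  have hidx : E.index ∣ 4 := by
    have h1 := Subgroup.card_dvd_of_injective _ hinj
    rw [Nat.card_congr (MulAut.congr e).toEquiv] at h1
    have h2 := h1.trans hAut
    rw [← E.card_mul_index, ← hA, ← mul_assoc, mul_comm (2 * 2)] at h2
    exact Nat.dvd_of_mul_dvd_mul_left Nat.card_pos h2
  have htop : E = ⊤ := by
    by_contra hne
    obtain ⟨P⟩ : Nonempty (Sylow 3 X) := inferInstance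
    have hPE : (P : Subgroup X) ≤ E := fun x hx => by
      obtain ⟨k, hk⟩ := P.isPGroup' ⟨x, hx⟩
      have hk' : x ^ (3 ^ k) = 1 := congrArg Subtype.val hk
      have h1 : orderOf (QuotientGroup.mk' E x) ∣ 3 ^ k :=
        orderOf_dvd_of_pow_eq_one (by rw [← map_pow, hk', map_one])
      have h2 : orderOf (QuotientGroup.mk' E x) ∣ 4 := (orderOf_dvd_natCard (G := X ⧸ E) _).trans hidx
      have h3 := Nat.eq_one_of_dvd_coprimes ((by norm_num : Nat.Coprime 3 4).pow_left k) h1 h2
      exact (QuotientGroup.eq_one_iff x).1 (orderOf_eq_one_iff.1 h3)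
    obtain ⟨hPn, M, -, huniq⟩ := hX P
    obtain ⟨C1, hC1, h1⟩ := (eq_top_or_exists_le_coatom E).resolve_left hne
    have hN : Subgroup.normalizer ((P : Subgroup X) : Set X) ≠ ⊤ := fun h => hPn (Subgroup.normalizer_eq_top_iff.1 h)
    obtain ⟨C2, hC2, h2⟩ := (eq_top_or_exists_le_coatom _).resolve_left hN
    have e1 := huniq C1 ⟨hC1, hPE.trans h1⟩
    have e2 := huniq C2 ⟨hC2, Subgroup.le_normalizer.trans h2⟩
    refine hC1.1 (eq_top_iff.2 ?_)
    rw [← Sylow.normalizer_sup_eq_top' P hPE]
    exact sup_le (e1.symm ▸ e2 ▸ h2) h1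
  exact ⟨htop, CfsgLib.LocalEvenB.SymOver.three_minimal_alternating n hn hX
    (((MulEquiv.subgroupCongr htop).trans Subgroup.topEquiv).symm.trans e)⟩

end Cfsg.Agent.S2930
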