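import Cfsg.Statements.S2931
import Cfsg.Agent.Lib.LocalEvenB.SylowOrthSix
import Cfsg.Agent.Lib.LocalEvenB.SylowSympFour

set_option autoImplicit false
open Cfsg

namespace Cfsg.Agent.S2931

/-- The Sylow 2-subgroups of the alternating group of degree 8 and of PSp₄(3) are isomorphic, and so are the Sylow 2-subgroups of the symmetric group of degree 8 and of the full isometry group of a non-degenerate quadratic form of minus type in dimension 6 over the field with 2 elements. -/
theorem result (F : Type) [Field F] [Fintype F] (hF : Fintype.card F = 3) (K : Type) [Field K] [Fintype K] (hK : Fintype.card K = 2) (a b : K) (hab : ∀ z₁ z₂ : K, z₁ ^ 2 + a * z₁ * z₂ + b * z₂ ^ 2 = 0 → z₁ = 0 ∧ z₂ = 0) (P : Sylow 2 ↥(alternatingGroup (Fin 8))) (Q : Sylow 2 (Cfsg.PSp 2 F)) (P' : Sylow 2 (Equiv.Perm (Fin 8))) (Q' : Sylow 2 ↥(Cfsg.isometryGroup K (Cfsg.quadFormMinus 2 K a b))) : Nonempty (↥(P : Subgroup ↥(alternatingGroup (Fin 8))) ≃* ↥(Q : Subgroup (Cfsg.PSp 2 F)))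 ∧ Nonempty (↥(P' : Subgroup (Equiv.Perm (Fin 8))) ≃* ↥(Q' : Subgroup ↥(Cfsg.isometryGroup K (Cfsg.quadFormMinus 2 K a b)))) := by
  have hz : ∀ z : ZMod 2, z = 0 ∨ z = 1 := by decide
  haveI : Fact (Nat.Prime 2) := ⟨Nat.prime_two⟩
  haveI : Fact (Nat.Prime 3) := ⟨Nat.prime_three⟩
  obtain ⟨eF⟩ := CfsgLib.Classical.exists_zmod_equiv F (p := 3) hF
  obtain ⟨eK⟩ := CfsgLib.Classical.exists_zmod_equiv K (p := 2) hK
  have hb : b = 1 := by
    obtain ⟨z, rfl⟩ := eK.surjective b
    rcases hz z with rfl | rfl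
    · refine absurd (hab 0 1 ?_).2 one_ne_zero
      rw [map_zero]
      simp
    · exact map_one eK
  have ha : a = 1 := by
    obtain ⟨z, rfl⟩ := eK.surjective a
    rcases hz z with rfl | rfl
    · refine absurd (hab 1 1 ?_).1 one_ne_zero
      haveI : CharP K 2 := charP_of_injective_ringHom (f := eK.toRingHom) eK.injective 2
      simp only [one_pow, mul_one, hb]
      rw [map_zero, add_zero, CharTwo.add_self_eq_zero]
    · exact map_one eK
  subst ha hb
  refine ⟨?_, ?_⟩
  · let t := CfsgLib.Classical.symplecticMap eF (Fin 2)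
    have hc : (Subgroup.center ↥(Matrix.symplecticGroup (Fin 2) (ZMod 3))).map t.toMonoidHom =
        Subgroup.center ↥(Matrix.symplecticGroup (Fin 2) F) := by
      ext y
      simp only [Subgroup.mem_map, Subgroup.mem_center_iff]
      constructor
      · rintro ⟨x, hx, rfl⟩ g
        obtain ⟨g, rfl⟩ := t.surjective g
        exact (map_mul t g x).symm.trans ((congrArg t (hx g)).trans (map_mul t x g))
      · intro hy
        refine ⟨t.symm y, fun g => t.injective ?_, t.apply_symm_apply y⟩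
        rw [map_mul, map_mul, t.apply_symm_apply]
        exact hy (t g)
    let e : Cfsg.PSp 2 (ZMod 3) ≃* Cfsg.PSp 2 F := QuotientGroup.congr _ _ t hc
    let Q0 : Sylow 2 (Cfsg.PSp 2 (ZMod 3)) := Q.mapSurjective (f := e.symm.toMonoidHom) e.symm.surjective
    obtain ⟨i⟩ := CfsgLib.LocalEvenB.EightPoints.sylow_alt_eight P
    obtain ⟨j⟩ := CfsgLib.LocalEvenB.EightPoints.sylow_psp_four Q0
    exact ⟨i.symm.trans (j.trans ((e.symm.subgroupMap (Q : Subgroup (Cfsg.PSp 2 F))).symm))⟩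
  · let t := CfsgLib.Classical.isometryGroupMap eK (Q := CfsgLib.LocalEvenB.EightPoints.q6)
      (Q' := Cfsg.quadFormMinus 2 K 1 1) fun v => by
        have hsq : ∀ x : ZMod 2, eK x ^ 2 = eK x := fun x => by rw [← map_pow, ZMod.pow_card]
        simp [CfsgLib.LocalEvenB.EightPoints.q6, Cfsg.quadFormMinus, hsq]
    let Q0 : Sylow 2 ↥(Cfsg.isometryGroup (ZMod 2) CfsgLib.LocalEvenB.EightPoints.q6) :=
      Q'.mapSurjective (f := t.symm.toMonoidHom) t.symm.surjective
    obtain ⟨i⟩ := CfsgLib.LocalEvenB.EightPoints.sylow_symm_eight P'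
    obtain ⟨j⟩ := CfsgLib.LocalEvenB.EightPoints.sylow_minus_six Q0
    exact ⟨i.symm.trans (j.trans ((t.symm.subgroupMap (Q' : Subgroup ↥(Cfsg.isometryGroup K (Cfsg.quadFormMinus 2 K 1 1)))).symm))⟩

end Cfsg.Agent.S2931
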