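import Cfsg.Statements.S2933
import Mathlib
import Cfsg.Agent.Lib.PGroups.Suzuki.LinearThreeFour
import Cfsg.Agent.Lib.PGroups.Suzuki.Unitary

set_option autoImplicit false
open Cfsg

namespace Cfsg.Agent.S2933

open CfsgLib.Classical CfsgLib.Classical.Herm CfsgLib.PGroups.Suzuki
open scoped commutatorElement

/-- Let T be a 2-subgroup of a finite group G, V ≤ Z(T) a four-group, and t, ρ ∈ N_G(V) ∩ N_G(T) elements of order 2 and 3 with t commuting with ρ and with V. If [V, ρ] = V and C_T(t) = V, then T is elementary abelian of order 16, or homocyclic of rank 2 (ℤ/2ⁿ × ℤ/2ⁿ for some n ≥ 1), or isomorphic to a Sylow 2-subgroup of PSL₃(4) or of PSU₃(4). -/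
theorem result {G : Type*} [Group G] [Finite G] (T V : Subgroup G) (hT : IsPGroup 2 ↥T) (hVT : V ≤ T ⊓ Subgroup.centralizer (T : Set G)) (hV : Nat.card ↥V = 4 ∧ ∀ v ∈ V, v ^ 2 = 1) (t ρ : G) (ht : orderOf t = 2) (hρ : orderOf ρ = 3) (htn : t ∈ Subgroup.normalizer (V : Set G) ⊓ Subgroup.normalizer (T : Set G)) (hρn : ρ ∈ Subgroup.normalizer (V : Set G) ⊓ Subgroup.normalizer (T : Set G)) (htρ : t * ρ = ρ * t) (htV : t ∈ Subgroup.centralizer (V : Set G)) (hVρ : ⁅V, Subgroup.zpowers ρ⁆ = V) (hCt : T ⊓ Subgroup.centralizer ({t} : Set G) = V) : (Nat.card ↥T = 16 ∧ ∀ x ∈ T, x ^ 2 = 1) ∨ (∃ n : ℕ, 1 ≤ n ∧ Nonempty (↥T ≃* Multiplicative (ZMod (2 ^ n)) × Multiplicative (ZMod (2 ^ n)))) ∨ (∃ (F : Type) (_ : Field F) (_ : Fintype F), Fintype.card F = 4 ∧ ∀ P : Sylow 2 (Matrix.ProjectiveSpecialLinearGroup (Fin 3) F), Nonempty (↥T ≃* ↥(P : Subgroup (Matrix.ProjectiveSpecialLinearGroup (Fin 3) F)))) ∨ (∃ (F : Type) (_ : Field F) (_ : Fintype F), Fintype.card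 F = 16 ∧ ∀ P : Sylow 2 (Cfsg.PSU 3 F 4), Nonempty (↥T ≃* ↥(P : Subgroup (Cfsg.PSU 3 F 4)))) := by
  classical
  haveI := Fact.mk Nat.prime_two
  obtain ⟨hVT', hVc⟩ := le_inf_iff.mp hVT
  obtain ⟨htV', htT⟩ := Subgroup.mem_inf.mp htn
  obtain ⟨hρV', hρT⟩ := Subgroup.mem_inf.mp hρn
  have ht2 : t * t = 1 := by rw [← pow_two, ← ht, pow_orderOf_eq_one]
  have hρ3 : ρ * ρ * ρ = 1 := by
    have := pow_orderOf_eq_one ρ
    rw [hρ, pow_succ, pow_two] at this
    exact this
  let conjT : ∀ g : G, g ∈ Subgroup.normalizer (T : Set G) → MulAut T := fun g hg =>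
    { toFun := fun x => ⟨g * x * g⁻¹, (Subgroup.mem_normalizer_iff.mp hg x).mp x.2⟩
      invFun := fun x => ⟨g⁻¹ * x * g, by
        have h := (Subgroup.mem_normalizer_iff.mp (inv_mem hg) x).mp x.2
        rwa [inv_inv] at h⟩
      left_inv := fun x => Subtype.ext (by show g⁻¹ * (g * x * g⁻¹) * g = x; group)
      right_inv := fun x => Subtype.ext (by show g * (g⁻¹ * x * g) * g⁻¹ = x; group)
      map_mul' := fun x y => Subtype.ext (by show g * (x * y) * g⁻¹ = g * x * g⁻¹ * (g * y * g⁻¹); group) }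
  have htinv : t⁻¹ = t := inv_eq_of_mul_eq_one_right ht2
  have hmemV : ∀ x : T, (x : G) ∈ V ↔ x ∈ V.subgroupOf T := fun x => Iff.rfl
  have hmove : ∀ v ∈ V, ρ * v * ρ⁻¹ = v → v = 1 := by
    intro v hv hfix
    by_contra hv1
    have hall : ∀ x ∈ V, ρ * x * ρ⁻¹ = x := by
      intro x hx
      by_contra hne
      set f : G → G := fun g => ρ * g * ρ⁻¹ with hf
      have hfinj : Function.Injective f := fun a b h => by simpa [hf] using h
      have hf3 : f (f (f x)) = x := by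
        show ρ * (ρ * (ρ * x * ρ⁻¹) * ρ⁻¹) * ρ⁻¹ = x
        rw [show ρ * (ρ * (ρ * x * ρ⁻¹) * ρ⁻¹) * ρ⁻¹ = (ρ * ρ * ρ) * x * (ρ * ρ * ρ)⁻¹ by group, hρ3]
        group
      have hfV : ∀ g ∈ V, f g ∈ V := fun g hg => (Subgroup.mem_normalizer_iff.mp hρV' g).mp hg
      have hx1 : x ≠ 1 := fun h => hne (by rw [h]; group)
      have hxv : x ≠ v := fun h => hne (by rw [h]; exact hfix)
      have h1 : f x ≠ x := hne
      have h2 : f (f x) ≠ f x := fun h => h1 (hfinj h)
      have h3 : f (f x) ≠ x := fun h => h1 (by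
        have := congrArg f h
        rw [hf3] at this
        exact this.symm)
      have hf1 : ∀ g, g ≠ 1 → f g ≠ 1 := fun g hg h => hg (hfinj (h.trans (by simp [hf])))
      have hfv : ∀ g, g ≠ v → f g ≠ v := fun g hg h => hg (hfinj (h.trans hfix.symm))
      haveI : Fintype V := Fintype.ofFinite _
      have h5 := Finset.card_le_univ ({(⟨1, one_mem V⟩ : V), ⟨v, hv⟩, ⟨x, hx⟩, ⟨f x, hfV x hx⟩,
        ⟨f (f x), hfV _ (hfV x hx)⟩} : Finset V)
      rw [Finset.card_insert_of_notMem, Finset.card_insert_of_notMem, Finset.card_insert_of_notMem,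
        Finset.card_pair, ← Nat.card_eq_fintype_card, hV.1] at h5
      · omega
      · simp [Subtype.ext_iff, h2.symm]
      · simp [Subtype.ext_iff, h1.symm, h3.symm]
      · simp [Subtype.ext_iff, hxv.symm, (hfv x hxv).symm, (hfv _ (hfv x hxv)).symm]
      · simp [Subtype.ext_iff, Ne.symm hv1, hx1.symm, (hf1 x hx1).symm, (hf1 _ (hf1 x hx1)).symm]
    have hbot : ⁅V, Subgroup.zpowers ρ⁆ = ⊥ := by
      rw [Subgroup.commutator_eq_bot_iff_le_centralizer, Subgroup.le_centralizer_iff]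
      rw [Subgroup.zpowers_le, Subgroup.mem_centralizer_iff]
      intro x hx
      exact (mul_inv_eq_iff_eq_mul.mp (hall x hx)).symm
    rw [hVρ] at hbot
    rw [hbot] at hv
    exact hv1 (Subgroup.mem_bot.mp hv)
  let S : FourCentre.Setting T :=
    { V := V.subgroupOf T
      t := conjT t htT
      ρ := conjT ρ hρT
      isPGroup := hT
      card_V := by rw [Nat.card_congr (Subgroup.subgroupOfEquivOfLe hVT').toEquiv, hV.1]
      sq := fun v hv => Subtype.ext (by simpa using hV.2 v hv)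
      central := fun v hv => Subgroup.mem_center_iff.mpr fun x =>
        Subtype.ext (Subgroup.mem_centralizer_iff.mp (hVc hv) x x.2)
      tt := fun x => Subtype.ext (by
        show t * (t * x * t⁻¹) * t⁻¹ = x
        rw [show t * (t * (x : G) * t⁻¹) * t⁻¹ = (t * t) * x * (t * t)⁻¹ by group, ht2]
        group)
      rr := fun x => Subtype.ext (by
        show ρ * (ρ * (ρ * x * ρ⁻¹) * ρ⁻¹) * ρ⁻¹ = x
        rw [show ρ * (ρ * (ρ * (x : G) * ρ⁻¹) * ρ⁻¹) * ρ⁻¹ = (ρ * ρ * ρ) * x * (ρ * ρ * ρ)⁻¹ by group, hρ3]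
        group)
      comm := fun x => Subtype.ext (by
        show t * (ρ * x * ρ⁻¹) * t⁻¹ = ρ * (t * x * t⁻¹) * ρ⁻¹
        rw [show t * (ρ * (x : G) * ρ⁻¹) * t⁻¹ = (t * ρ) * x * (t * ρ)⁻¹ by group, htρ]
        group)
      fix_iff := fun x => by
        rw [Subtype.ext_iff]
        show t * (x : G) * t⁻¹ = x ↔ (x : G) ∈ V
        rw [mul_inv_eq_iff_eq_mul, ← hCt, Subgroup.mem_inf, Subgroup.mem_centralizer_singleton_iff]
        exact ⟨fun h => ⟨x.2, h.symm⟩, fun h => h.2.symm⟩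
      move := fun v hv h => Subtype.ext (hmove v hv (congrArg Subtype.val h)) }
  have hone : ∀ {x : T}, x ^ 2 = 1 → ∀ g ∈ T, g = (x : G) → g ^ 2 = 1 := fun {x} h g _ e => by
    rw [e]; exact_mod_cast congrArg Subtype.val h
  have hrankTwo : (∀ x : T, x ^ 2 = 1 → x ∈ S.V) → Nonempty (Data T 2) := by
    intro hinv
    refine RankTwo.exists_data hT ?_ ?_ S.ρ ?_
    · intro A _ hA
      refine le_trans (Subgroup.card_le_of_le fun a ha => hinv a (hA a ha)) S.card_V.le
    · intro h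
      have := h S.V ⟨⟨fun a b => Subtype.ext (Subgroup.mem_center_iff.mp (S.central b.2) a.1)⟩⟩ S.sq
      rw [S.card_V] at this
      norm_num at this
    · intro s u hs hu
      have hs2 : s ^ 2 = 1 := hs ▸ pow_orderOf_eq_one s
      have hu2 : u ^ 2 = 1 := hu ▸ pow_orderOf_eq_one u
      have hs1 : s ≠ 1 := fun h => by rw [h, orderOf_one] at hs; norm_num at hs
      rcases S.V_list (hinv s hs2) hs1 (hinv u hu2) with h | h | h | h
      · rw [h, orderOf_one] at hu; norm_num at hu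
      · exact ⟨0, by rw [pow_zero]; exact h.symm⟩
      · exact ⟨1, by rw [pow_one]; exact h.symm⟩
      · exact ⟨2, by rw [pow_two]; exact h.symm⟩
  rcases FourCentre.shape (Nat.card T) T S le_rfl with ⟨hab, hinv⟩ | ⟨h16, hexp⟩ | ⟨h64, hsq⟩
  · obtain ⟨D⟩ := hrankTwo hinv
    obtain ⟨n, hn, ⟨e⟩⟩ := RankTwo.homocyclic D hab
    exact Or.inr (Or.inl ⟨n, hn, ⟨e.trans (MulEquiv.prodMultiplicative _ _)⟩⟩)
  · exact Or.inl ⟨h16, fun x hx => hone (hexp ⟨x, hx⟩) x hx rfl⟩
  · by_cases hinv : ∀ x : T, x ^ 2 = 1 → x ∈ S.V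
    · obtain ⟨D⟩ := hrankTwo hinv
      by_cases hab : ∀ x y : T, x * y = y * x
      · obtain ⟨n, hn, ⟨e⟩⟩ := RankTwo.homocyclic D hab
        exact Or.inr (Or.inl ⟨n, hn, ⟨e.trans (MulEquiv.prodMultiplicative _ _)⟩⟩)
      refine Or.inr (Or.inr (Or.inr ?_))
      letI : Fintype (GaloisField 2 4) := Fintype.ofFinite _
      have hF : Fintype.card (GaloisField 2 4) = 16 := by
        rw [← Nat.card_eq_fintype_card, GaloisField.card 2 4 (by norm_num)]; norm_num
      refine ⟨GaloisField 2 4, inferInstance, inferInstance, hF, fun P => ?_⟩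
      have hna : ¬ IsMulCommutative T := fun h => hab fun x y => by haveI := h; exact mul_comm' x y
      have hF' : Fintype.card (GaloisField 2 4) = (2 ^ 2) ^ 2 := by rw [hF]; norm_num
      have hX : Nonempty (Unitary.Param (powHom hF') ↥(P : Subgroup (Cfsg.PSU 3 (GaloisField 2 4) 4))) :=
        Unitary.exists_param (n := 2) (by norm_num) hF' P
      obtain ⟨X⟩ := hX
      have hσ := powHom_isInvol hF'
      have hq := card_fixed_powHom hF'
      have hFc : Nat.card (GaloisField 2 4) = (2 ^ 2) ^ 2 := by rw [Nat.card_eq_fintype_card, hF']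
      have hU : Nat.card P = 64 := by
        rw [← Nat.card_congr X.el, Unitary.card_pts hσ hq hFc]
        norm_num
      obtain ⟨m, D', hna'⟩ := exists_data (X.isSuzukiTwoGroup hσ le_rfl hq hFc)
      have hm : m = 2 := by
        have hc := (congrArg (fun H : Subgroup _ => Nat.card H) (CfsgLib.PGroups.Suzuki.center_eq D' hna')).trans D'.card_ω
        rw [X.card_center hσ hq] at hc
        exact (Nat.pow_right_injective le_rfl hc).symm
      subst hm
      obtain ⟨_, _, _, _, _, _, G₁⟩ := RankTwo.exists_gens D hna h64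
      obtain ⟨_, _, _, _, _, _, G₂⟩ := RankTwo.exists_gens D' hna' hU
      exact RankTwo.nonempty_mulEquiv h64 hU G₁ G₂
    · push Not at hinv
      obtain ⟨a, ha2, haV⟩ := hinv
      refine Or.inr (Or.inr (Or.inl ?_))
      letI : Fintype (GaloisField 2 2) := Fintype.ofFinite _
      have hF : Fintype.card (GaloisField 2 2) = 4 := by
        rw [← Nat.card_eq_fintype_card, GaloisField.card 2 2 (by norm_num)]; norm_num
      refine ⟨GaloisField 2 2, inferInstance, inferInstance, hF, fun P => ?_⟩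
      obtain ⟨hP64, _, _, _, _, _, _, G₂⟩ := LinearThreeFour.exists_gensL hF P
      obtain ⟨_, _, _, _, _, _, G₁⟩ := FourCentre.exists_gensL S h64 hsq ha2 haV
      exact FourCentre.nonempty_mulEquiv h64 hP64 G₁ G₂

end Cfsg.Agent.S2933
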