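import Cfsg.Statements.S2937
import Cfsg.Agent.Lib.HallGen.PMinimal.Main
import Cfsg.Agent.Lib.HallGen.PMinimal.Exceptional
import Cfsg.Agent.Lib.HallGen.PMinimal.Twisted
import Cfsg.Agent.Lib.HallGen.PMinimal.Suzuki
import Cfsg.Agent.Lib.HallGen.PMinimal.Symp
import Cfsg.Agent.Lib.HallGen.PMinimal.Orthogonal
import Cfsg.Agent.Lib.HallGen.PMinimal.LinearSplit
import Cfsg.Agent.Lib.HallGen.PMinimal.Linear
import Cfsg.Agent.Lib.HallGen.PMinimal.Tits
import Cfsg.Agent.Lib.HallGen.PMinimal.SmallA6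
import Cfsg.Agent.Lib.HallGen.PMinimal.SmallLinear
import Cfsg.Agent.Lib.HallGen.PMinimal.SmallUnitary
import Cfsg.Agent.Lib.HallGen.PMinimal.SympTwo
import Cfsg.Agent.Lib.HallGen.SylowAut.Symp
import Cfsg.Agent.Lib.Classical.Quad.StandardForms
import Cfsg.Agent.Lib.Classical.SmallIso
import Cfsg.Agent.Lib.Components.FStar

set_option autoImplicit false
open Cfsg
open CfsgLib.HallGen.PMinimal

namespace Cfsg.Agent.S2937

universe u

/-- The conclusion for a normal subgroup. -/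
theorem key {X : Type u} [Group X] [Finite X] {p : ℕ} [Fact p.Prime] (hX : Cfsg.IsPMinimal p X)
    (K : Subgroup X) [K.Normal] (hK : Cfsg.IsChevSimple p ↥K) (U : Sylow p ↥K) :
    IsCoatom (Subgroup.normalizer (((U : Subgroup ↥K).map K.subtype : Subgroup X) : Set X)) ∧
      (Cfsg.IsLieRankOneChar p ↥K ∨ (p = 2 ∧ K ≠ ⊤ ∧
        ((∃ (F : Type) (_ : Field F) (_ : Fintype F) (_ : CharP F 2),
            Nonempty (↥K ≃* Matrix.ProjectiveSpecialLinearGroup (Fin 3) F)) ∨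
          (∃ (F : Type) (_ : Field F) (_ : Fintype F) (_ : CharP F 2), 4 ≤ Fintype.card F ∧
            Nonempty (↥K ≃* Cfsg.PSp 2 F)) ∨
          Nonempty (↥K ≃* ↥(alternatingGroup (Fin 6)))))) := by
  have h1 : ∀ h : RankOne p ↥K, Cfsg.IsLieRankOneChar p ↥K →
      IsCoatom (Subgroup.normalizer (((U : Subgroup ↥K).map K.subtype : Subgroup X) : Set X)) ∧
      Cfsg.IsLieRankOneChar p ↥K := fun h h' => ⟨RankOne.isCoatom K h hX U, h'⟩
  rcases hK with hG | ⟨rfl, ⟨e⟩ | ⟨F, _, _, hF, ⟨e⟩⟩ | ⟨⟨e⟩⟩⟩ | ⟨rfl, F, _, _, hF, ⟨e⟩⟩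
  · rcases hG with ⟨F, _, _, _, n, hn, h2, ⟨e⟩⟩ | ⟨F, _, _, _, m, hm, h2, ⟨e⟩⟩ |
        ⟨F, _, _, _, n, q, hq, hn, hex, ⟨e⟩⟩ | ⟨F, _, _, _, m, hm, hodd, ⟨e⟩⟩ | ⟨F, _, _, _, m, hm, ⟨e⟩⟩ |
        ⟨F, _, _, _, m, a, b, hm, hab, ⟨e⟩⟩ | ⟨F, _, _, _, h⟩ |
        ⟨L, _, _, _, q, hq, ⟨hL, ⟨e⟩⟩ | ⟨hL, ⟨e⟩⟩⟩ |
        ⟨rfl, F, _, _, m, hm, hF, ⟨e⟩⟩ | ⟨rfl, L, _, _, m, hm, hL, ⟨e⟩⟩ | ⟨rfl, L, _, _, m, hm, hL, ⟨e⟩⟩
    · haveI := Finite.of_equiv _ e.toEquiv
      rcases (show n = 2 ∨ n = 3 ∨ 4 ≤ n by omega) with rfl | rfl | h4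
      · exact (h1 ((Linear.rankOne_PSL_two (h2 rfl)).of_equiv e.symm)
          (Or.inl ⟨F, inferInstance, inferInstance, inferInstance, h2 rfl, ⟨e⟩⟩)).imp_right Or.inl
      · have hR : RankTwo p ↥K := Linear.rankTwo_PSL_three.of_equiv e.symm
        obtain ⟨hc, hne⟩ := RankTwo.isCoatom K hR hX U
        obtain rfl := RankTwo.two_eq K hR hX
        exact ⟨hc, Or.inr ⟨rfl, hne, Or.inl ⟨F, inferInstance, inferInstance, inferInstance, ⟨e⟩⟩⟩⟩
      · exact (Split.false K ((Linear.split_PSL h4).of_equiv e.symm) hX).elim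
    · haveI := Finite.of_equiv _ e.toEquiv
      by_cases hs : m = 2 → (2 : F) ≠ 0
      · exact (Split.false K ((split_PSp hm hs).of_equiv e.symm) hX).elim
      push Not at hs
      obtain ⟨rfl, h20⟩ := hs
      obtain rfl : p = 2 := (Nat.prime_dvd_prime_iff_eq Fact.out Nat.prime_two).1
        ((CharP.cast_eq_zero_iff F p 2).1 (by exact_mod_cast h20))
      have h4 : 4 ≤ Fintype.card F := by
        have h3 := h2 rfl
        obtain ⟨k, -, hk⟩ := FiniteField.card F 2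
        by_contra hlt
        have h3' : Fintype.card F = 3 := by omega
        have : 2 ∣ 3 := h3' ▸ hk ▸ dvd_pow_self 2 k.ne_zero
        omega
      obtain ⟨e'⟩ := CfsgLib.Known.ChevSymp.nonempty_equiv (F := F)
      have hq : Subgroup.center (Matrix.symplecticGroup (Fin 2) F) = ⊥ :=
        CfsgLib.HallGen.PMinimal.center_Sp_two
      have hR : RankTwo 2 ↥K := (rankTwo_B2 (F := F) 2).of_equiv ((e'.trans
        ((QuotientGroup.quotientBot (G := Matrix.symplecticGroup (Fin 2) F)).symm.trans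
          (QuotientGroup.quotientMulEquivOfEq hq.symm))).trans e.symm)
      obtain ⟨hc, hne⟩ := RankTwo.isCoatom K hR hX U
      exact ⟨hc, Or.inr ⟨rfl, hne, Or.inr (Or.inl ⟨F, inferInstance, inferInstance, inferInstance, h4, ⟨e⟩⟩)⟩⟩
    · haveI := Finite.of_equiv _ e.toEquiv
      rcases (show n = 3 ∨ 4 ≤ n by omega) with rfl | h4
      · have hq2 : q ≠ 2 := fun h => hex ⟨rfl, h⟩
        exact (h1 ((rankOne_PSU hq hq2).of_equiv e.symm)
          (Or.inr (Or.inl ⟨F, inferInstance, inferInstance, inferInstance, q, hq, hq2, ⟨e⟩⟩))).imp_right Or.inl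
      · exact (Split.false K ((split_PSU hq h4).of_equiv e.symm) hX).elim
    · haveI := Finite.of_equiv _ e.toEquiv
      exact (Split.false K ((split_POmega_odd hm
        (CfsgLib.Classical.Quad.two_ne_zero_of_odd (F := F) rfl hodd)).of_equiv e.symm) hX).elim
    · haveI := Finite.of_equiv _ e.toEquiv
      exact (Split.false K ((split_POmega_plus hm).of_equiv e.symm) hX).elim
    · haveI := Finite.of_equiv _ e.toEquiv
      exact (Split.false K ((split_POmega_minus hm hab).of_equiv e.symm) hX).elim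
    · exfalso
      rcases h with ⟨-, ⟨e⟩⟩ | ⟨⟨e⟩⟩ | ⟨⟨e⟩⟩ | ⟨⟨e⟩⟩ | ⟨⟨e⟩⟩
      all_goals haveI := Finite.of_equiv _ e.toEquiv
      · by_cases hp : p = 2
        · exact Split.false K ((split_G2 p hp).of_equiv e.symm) hX
        · exact hp (RankTwo.two_eq K ((rankTwo_G2 p).of_equiv e.symm) hX)
      · exact Split.false K ((split_F4 p).of_equiv e.symm) hX
      · exact Split.false K ((split_E6 p).of_equiv e.symm) hX
      · exact Split.false K ((split_E7 p).of_equiv e.symm) hX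
      · exact Split.false K ((split_E8 p).of_equiv e.symm) hX
    · haveI := Finite.of_equiv _ e.toEquiv
      exact (Split.false K ((split_twE6 hq hL).of_equiv e.symm) hX).elim
    · haveI := Finite.of_equiv _ e.toEquiv
      exact (Split.false K ((split_twD4 hq hL).of_equiv e.symm) hX).elim
    · haveI : CharP F 2 := CfsgLib.Lie.Suzuki.charTwo_of_card hF
      let e' := (CfsgLib.Lie.Suzuki.equivLie hm hF).trans e.symm
      haveI := Finite.of_equiv _ e'.symm.toEquiv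
      exact (h1 ((rankOne_Sz hm hF).of_equiv e')
        (Or.inr (Or.inr (Or.inl ⟨rfl, F, inferInstance, inferInstance, m, hm, hF, ⟨e⟩⟩)))).imp_right Or.inl
    · haveI := Finite.of_equiv _ e.toEquiv
      exact (Split.false K ((split_twF4 hL).of_equiv e.symm) hX).elim
    · haveI := Finite.of_equiv _ e.toEquiv
      exact (h1 ((rankOne_Ree hL).of_equiv e.symm)
        (Or.inr (Or.inr (Or.inr ⟨rfl, Or.inl ⟨L, inferInstance, inferInstance, m, hm, hL, ⟨e⟩⟩⟩)))).imp_right Or.inl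
  · have hR : RankTwo 2 ↥K := A6.rankTwo_A6.of_equiv e.some.symm
    obtain ⟨hc, hne⟩ := RankTwo.isCoatom K hR hX U
    exact ⟨hc, Or.inr ⟨rfl, hne, Or.inr (Or.inr e)⟩⟩
  · haveI := Finite.of_equiv _ e.toEquiv
    exact (Split.false K ((UThree.split_PSU_three_three hF).of_equiv e.symm) hX).elim
  · exact (Split.false K (split_tits e) hX).elim
  · haveI := Finite.of_equiv _ e.toEquiv
    haveI : IsSimpleGroup (Matrix.ProjectiveSpecialLinearGroup (Fin 2) F) :=
      CfsgLib.Classical.isSimpleGroup_PSL_two (by omega)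
    obtain ⟨x, h9, h3⟩ := exists_nine hF
    have hcard : Nat.card (Matrix.ProjectiveSpecialLinearGroup (Fin 2) F) = 504 := by
      have h := CfsgLib.Classical.Two.card_PSL_two (F := F)
      rw [hF] at h
      norm_num at h
      omega
    exact (h1 ((rankOne_card_504 hcard h9 h3).of_equiv e.symm)
      (Or.inr (Or.inr (Or.inr ⟨rfl, Or.inr ⟨F, inferInstance, inferInstance, hF, ⟨e⟩⟩⟩)))).imp_right Or.inl

/-- Let X be a finite p-minimal group whose generalized Fitting subgroup K = F*(X) is a simple group of Lie type in characteristic p, and let U be a Sylow p-subgroup of K. Then N_X(U) is a maximal subgroup of X, and either K has Lie rank one (K ≅ PSL₂(pᵉ), PSU₃(pᵉ), a Suzuki group for p = 2, or a Ree group or PSL₂(8) for p = 3), or p = 2, K ≠ X and K is isomorphic to PSL₃(2ᵉ) or to PSp₄(2ᵉ) (e ≥ 2) or to the alternating group of degree 6. -/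
theorem result {X : Type*} [Group X] [Finite X] {p : ℕ} [Fact p.Prime] (hX : Cfsg.IsPMinimal p X) (hK : Cfsg.IsChevSimple p ↥(Cfsg.generalizedFittingSubgroup X)) (U : Sylow p ↥(Cfsg.generalizedFittingSubgroup X)) : IsCoatom (Subgroup.normalizer (((U : Subgroup ↥(Cfsg.generalizedFittingSubgroup X)).map (Cfsg.generalizedFittingSubgroup X).subtype : Subgroup X) : Set X)) ∧ (Cfsg.IsLieRankOneChar p ↥(Cfsg.generalizedFittingSubgroup X) ∨ (p = 2 ∧ Cfsg.generalizedFittingSubgroup X ≠ ⊤ ∧ ((∃ (F : Type) (_ : Field F) (_ : Fintype F) (_ : CharP F 2), Nonempty (↥(Cfsg.generalizedFittingSubgroup X) ≃* Matrix.ProjectiveSpecialLinearGroup (Fin 3) F)) ∨ (∃ (F : Type) (_ : Field F) (_ : Fintype F) (_ : CharP F 2), 4 ≤ Fintype.card F ∧ Nonempty (↥(Cfsg.generalizedFittingSubgroup X) ≃* Cfsg.PSp 2 F)) ∨ Nonempty (↥(Cfsg.generalizedFittingSubgroup X) ≃* ↥(alternatingGroup (Fin 6)))))) := by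
  haveI := CfsgLib.Components.gFitting_normal (G := X)
  exact key hX _ hK U

end Cfsg.Agent.S2937
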