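import Cfsg.Statements.S2940
import Cfsg.Agent.Lib.LocalEvenB.SylowControl
open scoped Pointwise

set_option autoImplicit false
open Cfsg

namespace Cfsg.Agent.S2940

/-- Let S be a Sylow p-subgroup of the finite group G and G₁, G₂ subgroups containing S with G = G₁G₂. Then for every g ∈ G there is a Sylow p-subgroup U of G with S ∩ S^g ≤ U ≤ G₁ ∩ G₂^g (conjugates taken as X^g = g⁻¹Xg). -/
theorem result {G : Type*} [Group G] [Finite G] {p : ℕ} [Fact p.Prime] (S : Sylow p G) (G₁ G₂ : Subgroup G) (h1 : (S : Subgroup G) ≤ G₁) (h2 : (S : Subgroup G) ≤ G₂) (hfact : ∀ g : G, ∃ g₁ ∈ G₁, ∃ g₂ ∈ G₂, g = g₁ * g₂) (g : G) : ∃ U : Sylow p G, (S : Subgroup G) ⊓ Cfsg.subgroupConjRight g (S : Subgroup G) ≤ (U : Subgroup G) ∧ (U : Subgroup G) ≤ G₁ ⊓ Cfsg.subgroupConjRight g G₂ := by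
  obtain ⟨a, ha, b, hb, hab⟩ := hfact g⁻¹
  let I : Subgroup G := G₁ ⊓ Cfsg.subgroupConjRight g G₂
  have haI : ((a • S : Sylow p G) : Subgroup G) ≤ I := by
    intro x hx
    rw [CfsgLib.LocalEvenB.coe_smul_sylow, CfsgLib.LocalEvenB.mem_conjRight_subgroup, inv_inv] at hx
    refine Subgroup.mem_inf.2 ⟨?_, ?_⟩
    · have := G₁.mul_mem (G₁.mul_mem ha (h1 hx)) (G₁.inv_mem ha)
      simpa [mul_assoc] using this
    · rw [CfsgLib.LocalEvenB.mem_conjRight_subgroup]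
      have := G₂.mul_mem (G₂.mul_mem (G₂.inv_mem hb) (h2 hx)) hb
      rw [show g = b⁻¹ * a⁻¹ by rw [← inv_inv g, hab]; simp]
      simpa [mul_assoc] using this
  let D : Subgroup G := (S : Subgroup G) ⊓ Cfsg.subgroupConjRight g (S : Subgroup G)
  have hD : D ≤ I := inf_le_inf h1 (Subgroup.map_mono h2)
  obtain ⟨Q, hQ⟩ := IsPGroup.exists_le_sylow (G := I) (P := D.subgroupOf I)
    ((S.isPGroup'.to_le inf_le_left).comap_of_injective _ I.subtype_injective)
  obtain ⟨y, hy⟩ := MulAction.exists_smul_eq I ((a • S).subtype haI) Q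
  have key : ∀ x : I, x ∈ (Q : Subgroup I) ↔ (x : G) ∈ ((((y : G) * a) • S : Sylow p G) : Subgroup G) := by
    intro x
    rw [← hy, Sylow.coe_subgroup_smul, Subgroup.mem_pointwise_smul_iff_inv_smul_mem]
    simp [Sylow.coe_subtype, Subgroup.mem_subgroupOf, CfsgLib.LocalEvenB.coe_smul_sylow,
      CfsgLib.LocalEvenB.mem_conjRight_subgroup, MulAut.smul_def, MulAut.conj_symm_apply, mul_assoc]
  refine ⟨((y : G) * a) • S, fun x hx => (key ⟨x, hD hx⟩).1 (hQ hx), fun x hx => ?_⟩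
  rw [CfsgLib.LocalEvenB.coe_smul_sylow, CfsgLib.LocalEvenB.mem_conjRight_subgroup, inv_inv] at hx
  have h' : a * ((((y : G) * a))⁻¹ * x * ((y : G) * a)) * a⁻¹ ∈ I := by
    apply haI
    rw [CfsgLib.LocalEvenB.coe_smul_sylow, CfsgLib.LocalEvenB.mem_conjRight_subgroup, inv_inv]
    simpa [mul_assoc] using hx
  have := I.mul_mem (I.mul_mem y.2 h') (I.inv_mem y.2)
  change x ∈ I
  simpa [mul_assoc] using this

end Cfsg.Agent.S2940
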