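import Cfsg.Statements.S2941
import Cfsg.Agent.Lib.LocalEvenB.ThompsonOf
import Cfsg.Agent.Lib.LocalEvenB.CharP

set_option autoImplicit false
open Cfsg

namespace Cfsg.Agent.S2941

/-- Let G be a finite group of characteristic 2 type in which every 2-local subgroup is solvable and the centralizer of Ω₁(Z(S)) lies in N_G(S) for every Sylow 2-subgroup S, and let T be a nontrivial 2-subgroup and K a J(T)-component (J the Thompson subgroup generated by the elementary abelian 2-subgroups of largest order). If a subgroup Q is normalized by ⟨K, J(T)⟩ and normalizes J(T), then Q normalizes K. -/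
theorem result {G : Type*} [Group G] [Finite G] (hL : Cfsg.IsCharacteristicTwoType G) (hN : ∀ N : Subgroup G, Cfsg.IsTwoLocal N → Group.IsSolvable ↥N)
    (hZ : ∀ S : Sylow 2 G, Subgroup.centralizer (Cfsg.omegaCenterOf (S : Subgroup G) : Set G) ≤ Subgroup.normalizer ((S : Subgroup G) : Set G)) (T : Subgroup G) (hT : IsPGroup 2 ↥T) (hT1 : T ≠ ⊥) (K : Subgroup G) (hK : Cfsg.IsJComponent T K)
    (Q : Subgroup G) (hQ1 : K ⊔ Cfsg.thompsonSubgroupOf 2 T ≤ Subgroup.normalizer (Q : Set G)) (hQ2 : Q ≤ Subgroup.normalizer (Cfsg.thompsonSubgroupOf 2 T : Set G)) :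
    Q ≤ Subgroup.normalizer (K : Set G) := by
  obtain ⟨hK1, hK2, -⟩ := hK
  set J := thompsonSubgroupOf 2 T with hJ
  have hJ2 : IsPGroup 2 J := hT.to_le (CfsgLib.LocalEvenB.thompsonSubgroupOf_le T)
  have hJK : J ≤ Subgroup.normalizer (K : Set G) := by
    have := Subgroup.normalizer_commutator_ge_right K J
    rwa [hK2] at this
  set N := K ⊔ J with hN
  set X : Subgroup G := ⨆ k : K, J.map (MulAut.conj (k : G)).toMonoidHom with hX
  have hXN : X ≤ N := iSup_le fun k => by
    rintro _ ⟨j, hj, rfl⟩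
    exact N.mul_mem (N.mul_mem (Subgroup.mem_sup_left k.2) (Subgroup.mem_sup_right hj))
      (N.inv_mem (Subgroup.mem_sup_left k.2))
  have hJX : J ≤ X := fun j hj =>
    Subgroup.mem_iSup_of_mem (1 : K) (CfsgLib.LocalEvenB.mem_map_conj.2 (by simpa using hj))
  have hNX : N ≤ X := by
    refine sup_le ?_ hJX
    rw [← hK2, Subgroup.commutator_le]
    intro k hk j hj
    have h1 : k * j * k⁻¹ ∈ X := Subgroup.mem_iSup_of_mem (⟨k, hk⟩ : K) ⟨j, hj, rfl⟩
    have h2 := X.mul_mem h1 (X.inv_mem (hJX hj))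
    simpa [commutatorElement_def, mul_assoc] using h2
  have hQX : ∀ q ∈ Q, X.map (MulAut.conj q).toMonoidHom = X := by
    intro q hq
    rw [hX, Subgroup.map_iSup]
    refine iSup_congr fun k => ?_
    rw [CfsgLib.LocalEvenB.map_conj_map_conj, show q * (k : G) = (k : G) * ((k : G)⁻¹ * q * k) by group,
      ← CfsgLib.LocalEvenB.map_conj_map_conj]
    congr 1
    refine CfsgLib.LocalEvenB.map_conj_eq_self_iff_mem_normalizer.2 (hQ2 ?_)
    simpa using (Subgroup.mem_normalizer_iff.1 (hQ1 (Subgroup.mem_sup_left (K.inv_mem k.2))) q).1 hq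
  have hodd : ∀ g ∈ N, Odd (orderOf g) → g ∈ K := by
    intro g hg ho
    haveI : (K.subgroupOf N).Normal :=
      (Subgroup.normal_subgroupOf_iff_le_normalizer le_sup_left).2 (sup_le Subgroup.le_normalizer hJK)
    have hgen : (QuotientGroup.mk' (K.subgroupOf N)) ⟨g, hg⟩ ∈
        (J.subgroupOf N).map (QuotientGroup.mk' (K.subgroupOf N)) := by
      rw [hN, ← SetLike.mem_coe, Subgroup.coe_mul_of_right_le_normalizer_left K J hJK] at hg
      obtain ⟨a, ha, b, hb, hab⟩ := Set.mem_mul.1 hg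
      refine ⟨⟨b, Subgroup.mem_sup_right hb⟩, hb, ?_⟩
      rw [QuotientGroup.mk'_apply, QuotientGroup.mk'_apply, QuotientGroup.eq, Subgroup.mem_subgroupOf]
      simp only [Subgroup.coe_mul, Subgroup.coe_inv]
      have := (Subgroup.mem_normalizer_iff.1 (Subgroup.inv_mem _ (hJK hb)) a).1 ha
      simpa [← hab, mul_assoc] using this
    obtain ⟨m, hm⟩ := ((hJ2.comap_of_injective _ N.subtype_injective).map
      (QuotientGroup.mk' (K.subgroupOf N))) ⟨_, hgen⟩
    have hm' := congrArg Subtype.val hm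
    simp only [SubgroupClass.coe_pow, OneMemClass.coe_one, QuotientGroup.mk'_apply, ← QuotientGroup.mk_pow,
      QuotientGroup.eq_one_iff, Subgroup.mem_subgroupOf] at hm'
    obtain ⟨i, hi⟩ := exists_pow_eq_self_of_coprime (x := g) (n := 2 ^ m)
      ((Nat.coprime_two_left.2 ho).pow_left _)
    rw [← hi]
    exact K.pow_mem hm' i
  intro q hq
  refine CfsgLib.LocalEvenB.mem_normalizer_of_forall fun x hx => ?_
  have hle : Subgroup.closure {g : G | g ∈ K ∧ Odd (orderOf g)} ≤ K.comap (MulAut.conj q).toMonoidHom := by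
    refine (Subgroup.closure_le _).2 ?_
    rintro g ⟨hgK, hgo⟩
    refine hodd _ (hXN (hQX q hq ▸ ⟨g, hNX (Subgroup.mem_sup_left hgK), rfl⟩)) ?_
    rw [show ((MulAut.conj q).toMonoidHom g) = MulAut.conj q g from rfl, MulEquiv.orderOf_eq]
    exact hgo
  rw [hK1] at hle
  simpa using hle hx

end Cfsg.Agent.S2941
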