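import Cfsg.Statements.S2949
import Cfsg.Agent.Lib.LocalEvenB.JOver.Straddling
import Cfsg.Agent.Lib.LocalEvenB.CharP

set_option autoImplicit false
open Cfsg

namespace Cfsg.Agent.S2949

/-- Let G be a finite group of characteristic 2 type in which every 2-local subgroup is solvable and the centralizer of Ω₁(Z(S)) lies in N_G(S) for every Sylow 2-subgroup S; suppose O₂(G) = 1, fix a Sylow 2-subgroup S and a 2-local subgroup M containing N_G(J(S)) (J the Thompson subgroup generated by the elementary abelian 2-subgroups of largest order). For every T maximal (for the order of a largest elementary abelian subgroup, then the order of J(T), then the order of T) among the nontrivial 2-subgroups of M lying in a 2-local subgroup not inside M, there is a J(T)-component K not contained in M with J(T) the Thompson subgroup of every Sylow 2-subgroup of N_G(W_K) containing J(T), and O₂(⟨K, T⟩) ≠ 1. -/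
theorem result {G : Type*} [Group G] [Finite G] (hL : Cfsg.IsCharacteristicTwoType G) (hN : ∀ N : Subgroup G, Cfsg.IsTwoLocal N → Group.IsSolvable ↥N)
    (hZ : ∀ S : Sylow 2 G, Subgroup.centralizer (Cfsg.omegaCenterOf (S : Subgroup G) : Set G) ≤ Subgroup.normalizer ((S : Subgroup G) : Set G)) (hO : Cfsg.pCore 2 G = ⊥) (S : Sylow 2 G) (M : Subgroup G) (hM : Cfsg.IsTwoLocal M)
    (hMJ : Subgroup.normalizer (Cfsg.thompsonSubgroupOf 2 (S : Subgroup G) : Set G) ≤ M) (T : Subgroup G) (hT : T ∈ Cfsg.maxStraddlingTwoSubgroups M) :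
    (Cfsg.jComponentsOutside M T).Nonempty := by
  obtain ⟨-, hT1, hTM, L, hL2, hTL, hLM⟩ := hT.1
  have hT2 : IsPGroup 2 ↥T := hT.1.1
  have hsy := CfsgLib.LocalEvenB.JOver.sylow_of_le hT hTL fun T₁ h1 h2 =>
    (CfsgLib.LocalEvenB.JOver.max_straddling_overgroup hL hN hZ S hMJ hT hL2 hLM h1 h2).2.1
  obtain ⟨-, -, hset⟩ := CfsgLib.LocalEvenB.JOver.max_straddling_overgroup hL hN hZ S hMJ hT hL2 hLM hsy
    (CfsgLib.LocalEvenB.thompsonSubgroupOf_le T)
  obtain ⟨K, hK, hKL, hKM⟩ := CfsgLib.LocalEvenB.JOver.exists_component_outside hset hTM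
    (CfsgLib.LocalEvenB.JOver.normalizer_thompson_le S hMJ hT) hLM
  refine ⟨K, ⟨hK, fun T₀ hJ hT₀ => ?_⟩, hKM, ?_⟩
  · obtain ⟨S', hd⟩ := CfsgLib.LocalEvenB.exists_jData hT2 hK
    have hloc : Cfsg.IsTwoLocal (Subgroup.normalizer (Cfsg.wOf K : Set G)) :=
      ⟨_, IsPGroup.of_card (n := 2) (by rw [hd.wcard]; rfl), hd.W_ne_bot, rfl⟩
    exact (CfsgLib.LocalEvenB.JOver.max_straddling_overgroup hL hN hZ S hMJ hT hloc
      (fun h => hKM ((le_sup_left.trans hd.le_normalizer_W).trans h)) hT₀ hJ).1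
  · have hQT : Cfsg.pCoreOf 2 L ≤ T := by
      intro q hq
      obtain ⟨q', hq', rfl⟩ := hq
      exact CfsgLib.Core.pCore_le_sylow ((hsy.2.1.comap_subtype (K := L)).toSylow
        (fun hd => Nat.not_even_iff_odd.2 hsy.2.2 (even_iff_two_dvd.2 hd))) hq'
    have hle : K ⊔ T ≤ L := sup_le hKL hTL
    have hQ : Cfsg.pCoreOf 2 L ≤ Cfsg.pCoreOf 2 (K ⊔ T) :=
      CfsgLib.LocalEvenB.le_pCoreOf (hQT.trans le_sup_right) (CfsgLib.LocalEvenB.JOver.pCoreOf_two L)
        (hle.trans (CfsgLib.LocalEvenB.JOver.le_normalizer_pCoreOf_self L))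
    intro h0
    rw [h0, le_bot_iff] at hQ
    apply hT1
    rw [eq_bot_iff]
    intro t ht
    have h2 := hset.self (Subgroup.mem_centralizer_iff.2 fun x hx => by
      rw [hQ] at hx
      rw [Subgroup.mem_bot.1 hx, one_mul, mul_one] : t ∈ Subgroup.centralizer (Cfsg.pCoreOf 2 L : Set G))
    rwa [hQ] at h2

end Cfsg.Agent.S2949
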