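import Cfsg.Statements.S2955
import Cfsg.Agent.Lib.LocalEvenB.SylowControl
open scoped Pointwise

set_option autoImplicit false
open Cfsg

namespace Cfsg.Agent.S2955

/-- Let p be a prime dividing the order of the finite group G and 𝓕 a conjugation-closed family of subgroups that controls Sylow p-intersections in G. Suppose the Sylow p-subgroups of G are chain-connected: any two of them are joined by a chain of Sylow p-subgroups, consecutive ones distinct with nontrivial intersection, all containing the intersection of the two ends (equivalently, the graph on the Sylow p-subgroups whose edges are the distinct pairs meeting nontrivially is connected). Then for every Sylow p-subgroup S, G is generated by N_G(S) together with the members of 𝓕 that meet S in a Sylow p-subgroup of themselves. -/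
theorem result {G : Type*} [Group G] [Finite G] (p : ℕ) [Fact p.Prime] (hdiv : p ∣ Nat.card G)
    (𝓕 : Set (Subgroup G)) (h𝓕 : Cfsg.IsNormalSet 𝓕) (hc : Cfsg.ControlsSylowIntersections p 𝓕)
    (hconn : Cfsg.IsSylowChainConnected p G) (S : Sylow p G) :
    (⨆ X ∈ Cfsg.sylowMembers p 𝓕 (S : Subgroup G), X) ⊔ Subgroup.normalizer ((S : Subgroup G) : Set G) = ⊤ := by
  have hSne : (S : Subgroup G) ≠ ⊥ := S.ne_bot_of_dvd_card hdiv
  have hf := (CfsgLib.LocalEvenB.control_intersections_iff_strong_fusion 𝓕 h𝓕).1 hc
  have htop := ((CfsgLib.LocalEvenB.chainConnected_iff S).1 hconn).resolve_left hSne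
  refine eq_top_iff.2 (htop ▸ (Subgroup.closure_le _).2 ?_)
  intro g hg
  obtain ⟨a, ha, ha1⟩ := (Subgroup.bot_or_exists_ne_one _).resolve_left hg
  obtain ⟨n, Y, y, y₀, hy₀, hY, hprod, -⟩ :=
    hf S (((S : Subgroup G) ⊓ ((g • S : Sylow p G) : Subgroup G) : Subgroup G) : Set G) g
      (fun _ h => h.1) ⟨a, ha, ha1⟩ (CfsgLib.LocalEvenB.conjRight_subset_iff.2 (fun _ h => by
        have := h.2; rwa [CfsgLib.LocalEvenB.coe_smul_sylow] at this))
  rw [hprod]
  refine Subgroup.mul_mem _ (Subgroup.mem_sup_left (Subgroup.list_prod_mem _ ?_)) (Subgroup.mem_sup_right hy₀)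
  intro z hz
  obtain ⟨i, rfl⟩ := List.mem_ofFn.1 hz
  exact Subgroup.mem_iSup_of_mem (Y i) (Subgroup.mem_iSup_of_mem (hY i).1 (hY i).2)

end Cfsg.Agent.S2955
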