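import Cfsg.Statements.S2957
import Cfsg.Agent.Lib.LocalEvenB.SylowChainRel

set_option autoImplicit false
open Cfsg

namespace Cfsg.Agent.S2957

/-- Let p be a prime dividing the order of the finite group G, f an equivariant assignment of a set of subgroups f(P) of P to every p-subgroup P, each normalized by N_G(P), and S a Sylow p-subgroup. If G = G₁G₂ for subgroups G₁, G₂ both containing S and both regular for f (in each Gᵢ, the family of normalizers in Gᵢ of the members of f(P), P a Sylow p-subgroup of Gᵢ, controls Sylow p-intersections), then G itself is regular for f. -/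
theorem result {G : Type*} [Group G] [Finite G] (p : ℕ) [Fact p.Prime] (hdiv : p ∣ Nat.card G)
    (f : Subgroup G → Set (Subgroup G)) (hf : Cfsg.IsNormalizerFunctor p f) (S : Sylow p G)
    (G₁ G₂ : Subgroup G) (h₁ : (S : Subgroup G) ≤ G₁) (h₂ : (S : Subgroup G) ≤ G₂)
    (hprod : ∀ g : G, ∃ g₁ ∈ G₁, ∃ g₂ ∈ G₂, g = g₁ * g₂)
    (hr₁ : Cfsg.IsFunctorRegular p f G₁) (hr₂ : Cfsg.IsFunctorRegular p f G₂) :
    Cfsg.IsFunctorRegular p f ⊤ := by
  intro A B hAB hne
  let σ : Sylow p ↥(⊤ : Subgroup G) → Sylow p G := fun P => (P.2.map (⊤ : Subgroup G).subtype).toSylow (by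
    rw [Subgroup.index_map_subtype, Subgroup.index_top, mul_one]; exact P.not_dvd_index)
  have hσ : ∀ P, (σ P : Subgroup G) = (P : Subgroup ↥(⊤ : Subgroup G)).map (⊤ : Subgroup G).subtype := fun P => rfl
  have hinj := (⊤ : Subgroup G).subtype_injective
  have hσAB : σ A ≠ σ B := fun h => hAB (Sylow.ext (Subgroup.map_injective hinj (congrArg (fun P : Sylow p G => (P : Subgroup G)) h)))
  have hσne : (σ A : Subgroup G) ⊓ (σ B : Subgroup G) ≠ ⊥ := by
    rw [hσ, hσ, ← Subgroup.map_inf _ _ _ hinj]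
    exact fun h => hne ((Subgroup.map_eq_bot_iff_of_injective _ hinj).1 h)
  obtain ⟨n, c, X, x, h0, hn, hi⟩ :=
    CfsgLib.LocalEvenB.regular_of_factorization hf S h₁ h₂ hprod hr₁ hr₂ (σ A) (σ B) hσAB hσne
  have hback : ∀ P, (σ P).subtype (le_top : (σ P : Subgroup G) ≤ ⊤) = P := fun P =>
    Sylow.ext (Subgroup.comap_map_eq_self_of_injective hinj _)
  refine ⟨n, fun i => (c i).subtype le_top, fun i => (X i).subgroupOf ⊤, fun i => ⟨x i, trivial⟩, ?_, ?_, fun i => ?_⟩
  · simp only [h0, hback]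
  · simp only [hn, hback]
  obtain ⟨h1, h2, h3, h4, h5⟩ := hi i
  have hmem : ∀ j, X i ∈ Cfsg.sylowMembers p (Cfsg.functorFamily p f ⊤) (c j : Subgroup G) →
      (X i).subgroupOf ⊤ ∈ Cfsg.sylowMembers p ((fun Y : Subgroup G => Y.subgroupOf ⊤) '' Cfsg.functorFamily p f ⊤)
        (((c j).subtype (le_top : (c j : Subgroup G) ≤ ⊤) : Sylow p ↥(⊤ : Subgroup G)) : Subgroup ↥(⊤ : Subgroup G)) := by
    rintro j ⟨hX, Q, hQ⟩
    refine ⟨⟨_, hX, rfl⟩, ?_⟩
    obtain ⟨R, hR⟩ : ∃ R : Subgroup ↥((X i).subgroupOf ⊤),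
        R.map ((X i).subgroupOf ⊤).subtype = ((c j : Subgroup G) ⊓ X i).subgroupOf ⊤ :=
      ⟨_, (Subgroup.subgroupOf_map_subtype _ _).trans (inf_eq_left.2 fun y hy => hy.2)⟩
    have hRc : Nat.card R = Nat.card ↥(Q : Subgroup ↥(X i)) := by
      rw [← Subgroup.card_map_of_injective ((X i).subgroupOf ⊤).subtype_injective, hR,
        ← Subgroup.card_map_of_injective (K := (Q : Subgroup ↥(X i))) (X i).subtype_injective, hQ]
      exact Nat.card_congr (Subgroup.subgroupOfEquivOfLe le_top).toEquiv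
    refine ⟨Sylow.ofCard R ?_, ?_⟩
    · rw [hRc, Q.card_eq_multiplicity, Nat.card_congr (Subgroup.subgroupOfEquivOfLe (le_top : X i ≤ ⊤)).toEquiv]
    · rw [Sylow.coe_ofCard, hR]
      rfl
  refine ⟨hmem _ h1, hmem _ h2, h3, ?_, ?_⟩
  · refine Subgroup.map_injective hinj ?_
    rw [← CfsgLib.LocalEvenB.conjRight_map_subtype, Sylow.coe_subtype, Sylow.coe_subtype, Subgroup.subgroupOf_map_subtype,
      Subgroup.subgroupOf_map_subtype, inf_top_eq, inf_top_eq]
    exact h4
  · intro y hy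
    exact h5 ⟨⟨y, hy.1, rfl⟩, ⟨y, hy.2, rfl⟩⟩

end Cfsg.Agent.S2957
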