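import Cfsg.Statements.S2958
-- import your own Cfsg.Agent.* helpers here

set_option autoImplicit false
open Cfsg

namespace Cfsg.Agent.S2958

/-- Let X, A, B be subgroups of a group G such that G is generated by the conjugates of X and every conjugate of X is contained in A or in B. Then A = G or B = G. -/
theorem result {G : Type*} [Group G] (X A B : Subgroup G) (hgen : (⨆ g : G, X.map (MulAut.conj g).toMonoidHom) = ⊤) (hcover : ∀ g : G, X.map (MulAut.conj g).toMonoidHom ≤ A ∨ X.map (MulAut.conj g).toMonoidHom ≤ B) : A = ⊤ ∨ B = ⊤ := by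
  by_contra hne
  rw [not_or] at hne
  obtain ⟨hA, hB⟩ := hne
  let c : G → Subgroup G := fun g => X.map (MulAut.conj g).toMonoidHom
  let S : Set G := {x | ∃ g, c g ≤ A ∧ ¬ c g ≤ B ∧ x ∈ c g}
  let N : Subgroup G := Subgroup.closure S
  have hNA : N ≤ A := (Subgroup.closure_le _).2 fun x ⟨g, h1, _, h3⟩ => h1 h3
  have hc : ∀ h g : G, c (h * g) = (c g).map (MulAut.conj h).toMonoidHom := by
    intro h g
    simp only [c, Subgroup.map_map]
    congr 1
    ext x
    simp [mul_assoc]
  have hkey : ∀ g, c g ≤ Subgroup.normalizer (N : Set G) := by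
    intro g
    by_cases hg : c g ≤ B
    · intro b hb
      have step : ∀ b ∈ c g, ∀ x ∈ N, b * x * b⁻¹ ∈ N := by
        intro b hb x hx
        have : N ≤ N.comap (MulAut.conj b).toMonoidHom := by
          refine (Subgroup.closure_le _).2 ?_
          rintro y ⟨k, h1, h2, h3⟩
          have hy : b * y * b⁻¹ ∈ c (b * k) := by
            rw [hc]; exact ⟨y, h3, by simp⟩
          have hnB : ¬ c (b * k) ≤ B := by
            intro hh
            apply h2
            intro z hz
            have : b * z * b⁻¹ ∈ B := hh (by rw [hc]; exact ⟨z, hz, by simp⟩)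
            have hbB := hg hb
            have := B.mul_mem (B.mul_mem (B.inv_mem hbB) this) hbB
            simpa [mul_assoc] using this
          exact Subgroup.subset_closure ⟨b * k, (hcover _).resolve_right hnB, hnB, hy⟩
        simpa using this hx
      rw [Subgroup.mem_normalizer_iff]
      intro x
      refine ⟨fun hx => step b hb x hx, fun hx => ?_⟩
      have := step b⁻¹ ((c g).inv_mem hb) _ hx
      simpa [mul_assoc] using this
    · exact le_trans (show c g ≤ N from fun x hx => Subgroup.subset_closure ⟨g, (hcover g).resolve_right hg, hg, hx⟩)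
        Subgroup.le_normalizer
  have hNn : N.Normal := by
    rw [← Subgroup.normalizer_eq_top_iff, eq_top_iff, ← hgen]
    exact iSup_le hkey
  obtain ⟨g₀, hg₀⟩ : ∃ g, ¬ c g ≤ B := by
    by_contra h
    push_neg at h
    exact hB (eq_top_iff.2 (hgen ▸ iSup_le h))
  have hg₀N : c g₀ ≤ N := fun x hx => Subgroup.subset_closure ⟨g₀, (hcover g₀).resolve_right hg₀, hg₀, hx⟩
  refine hA (eq_top_iff.2 (le_trans ?_ hNA))
  rw [← hgen]
  refine iSup_le fun g => ?_
  rintro x hx
  have : c g = (c g₀).map (MulAut.conj (g * g₀⁻¹)).toMonoidHom := by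
    rw [← hc]; simp
  have hx' : x ∈ c g := hx
  rw [this] at hx'
  obtain ⟨y, hy, rfl⟩ := hx'
  simpa [mul_assoc] using hNn.conj_mem y (hg₀N hy) (g * g₀⁻¹)

end Cfsg.Agent.S2958
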