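import Cfsg.Statements.S2963
import Mathlib.GroupTheory.PGroup
import Mathlib.GroupTheory.Perm.Basic

set_option autoImplicit false
open Cfsg

namespace Cfsg.Agent.S2963

/-- Let n be odd. If the symmetric group of degree n is a minimal parabolic group for the prime 2, that is, a Sylow 2-subgroup is not normal and lies in exactly one maximal subgroup, then n = 2^m + 1 for some natural number m. -/
theorem result (n : ℕ) (hn : Odd n) (h : Cfsg.IsPMinimal 2 (Equiv.Perm (Fin n))) : ∃ m : ℕ, n = 2 ^ m + 1 := by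
  classical
  by_contra hcon
  push Not at hcon
  haveI : Fact (Nat.Prime 2) := ⟨Nat.prime_two⟩
  obtain ⟨S⟩ := (inferInstance : Nonempty (Sylow 2 (Equiv.Perm (Fin n))))
  obtain ⟨hnn, M, ⟨hM, hSM⟩, huniq⟩ := h S
  have hn1 : n ≠ 1 := by
    rintro rfl
    apply hnn
    have hb : (S : Subgroup (Equiv.Perm (Fin 1))) = ⊥ := (Subgroup.eq_bot_iff_forall _).2 fun g _ => Subsingleton.elim _ _
    rw [hb]; infer_instance
  have hnd : ¬ 2 ∣ Nat.card (Fin n) := by
    rw [Nat.card_eq_fintype_card, Fintype.card_fin]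
    exact fun hd => (Nat.not_even_iff_odd.2 hn) ((even_iff_two_dvd).2 hd)
  obtain ⟨x, hx⟩ := S.2.nonempty_fixed_point_of_prime_not_dvd_card (Fin n) hnd
  have hx' : ∀ s : Equiv.Perm (Fin n), s ∈ (S : Subgroup (Equiv.Perm (Fin n))) → s x = x := fun s hs => hx ⟨s, hs⟩
  have hle : ∀ H : Subgroup (Equiv.Perm (Fin n)), H ≠ ⊤ → (S : Subgroup (Equiv.Perm (Fin n))) ≤ H → H ≤ M := by
    intro H hH hSH
    obtain ⟨M', hM', hHM'⟩ := (eq_top_or_exists_le_coatom H).resolve_left hH
    exact (huniq M' ⟨hM', hSH.trans hHM'⟩) ▸ hHM'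
  obtain ⟨y, hy⟩ : ∃ y : Fin n, y ≠ x := by
    by_contra hc
    push Not at hc
    apply hn1
    have : Fintype.card (Fin n) = 1 := Fintype.card_eq_one_iff.2 ⟨x, hc⟩
    simpa using this
  have hstab : MulAction.stabilizer (Equiv.Perm (Fin n)) x ≤ M := by
    refine hle _ (fun ht => hy ?_) fun s hs => hx' s hs
    have h1 : Equiv.swap x y ∈ MulAction.stabilizer (Equiv.Perm (Fin n)) x := ht ▸ Subgroup.mem_top _
    simpa using h1
  set O := MulAction.orbit (S : Subgroup (Equiv.Perm (Fin n))) y with hO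
  have hxO : x ∉ O := by
    rintro ⟨⟨s, hs⟩, hsy⟩
    apply hy
    apply s.injective
    rw [hx' s hs]
    exact hsy
  obtain ⟨b, hb⟩ := S.2.card_orbit y
  obtain ⟨z, hz⟩ : ∃ z : Fin n, z ∉ O ∧ z ≠ x := by
    by_contra hc
    push Not at hc
    refine hcon b ?_
    have hu : (Set.univ : Set (Fin n)) = insert x O := by
      refine Set.ext fun i => ⟨fun _ => ?_, fun _ => trivial⟩
      by_cases hi : i ∈ O
      · exact Or.inr hi
      · exact Or.inl (hc i hi)
    have h1 : (Set.univ : Set (Fin n)).ncard = O.ncard + 1 := by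
      rw [hu, Set.ncard_insert_of_notMem hxO]
    rw [Set.ncard_univ, Nat.card_eq_fintype_card, Fintype.card_fin, ← Nat.card_coe_set_eq, hb] at h1
    exact h1
  let A : Subgroup (Equiv.Perm (Fin n)) :=
    { carrier := {g | ∀ i, i ∈ O ↔ g i ∈ O}
      mul_mem' := fun {g g'} hg hg' i => (hg' i).trans (hg (g' i))
      one_mem' := fun i => Iff.rfl
      inv_mem' := fun {g} hg i => by simpa using (hg (g⁻¹ i)).symm }
  have hSA : (S : Subgroup (Equiv.Perm (Fin n))) ≤ A := by
    intro s hs i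
    constructor
    · intro hi
      exact MulAction.mem_orbit_of_mem_orbit (⟨s, hs⟩ : (S : Subgroup (Equiv.Perm (Fin n)))) hi
    · intro hi
      have := MulAction.mem_orbit_of_mem_orbit (⟨s, hs⟩ : (S : Subgroup (Equiv.Perm (Fin n))))⁻¹ hi
      have e : ((⟨s, hs⟩ : (S : Subgroup (Equiv.Perm (Fin n))))⁻¹) • (s i) = i := by
        show s⁻¹ (s i) = i
        simp
      rwa [e] at this
  have hAtop : A ≠ ⊤ := by
    intro ht
    have h1 : ∀ i, i ∈ O ↔ Equiv.swap y z i ∈ O := (ht ▸ Subgroup.mem_top _ : Equiv.swap y z ∈ A)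
    have := (h1 y).1 (MulAction.mem_orbit_self y)
    rw [Equiv.swap_apply_left] at this
    exact hz.1 this
  have hxz : Equiv.swap x z ∈ A := by
    intro i
    rcases eq_or_ne i x with rfl | hix
    · rw [Equiv.swap_apply_left]; exact iff_of_false hxO hz.1
    · rcases eq_or_ne i z with rfl | hiz
      · rw [Equiv.swap_apply_right]; exact iff_of_false hz.1 hxO
      · rw [Equiv.swap_apply_of_ne_of_ne hix hiz]
  have hxzM := hle A hAtop hSA hxz
  apply hM.1
  rw [eq_top_iff]
  intro g _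
  rcases eq_or_ne (g x) x with hg | hg
  · exact hstab hg
  · have hsw : Equiv.swap x (g x) ∈ M := by
      rcases eq_or_ne (g x) z with hgz | hgz
      · rw [hgz]; exact hxzM
      · have hfix : Equiv.swap z (g x) ∈ M :=
          hstab (Equiv.swap_apply_of_ne_of_ne (Ne.symm hz.2) (Ne.symm hg))
        have := M.mul_mem (M.mul_mem hfix hxzM) (M.inv_mem hfix)
        rwa [← Equiv.swap_apply_apply, Equiv.swap_apply_of_ne_of_ne (Ne.symm hz.2) (Ne.symm hg), Equiv.swap_apply_left] at this
    have h2 : Equiv.swap x (g x) * g ∈ M := hstab (show Equiv.swap x (g x) (g x) = x by simp)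
    have := M.mul_mem (M.inv_mem hsw) h2
    rwa [inv_mul_cancel_left] at this

end Cfsg.Agent.S2963
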