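import Cfsg.Statements.S2968
import Cfsg.Agent.Lib.LocalEvenB.Isolated

set_option autoImplicit false
open Cfsg

namespace Cfsg.Agent.S2968

/-- Let G be a finite group, p a prime, P a Sylow p-subgroup of G and x ∈ P an element of p-power order which is isolated in G (the only conjugate of x commuting with x is x itself). Then x lies in the centre of P, and the subgroup generated by x is both strongly closed and weakly closed in P with respect to G. -/
theorem result {G : Type*} [Group G] [Finite G] {p : ℕ} [Fact p.Prime] (P : Sylow p G) (x : G) (hxP : x ∈ (P : Subgroup G)) (hx : ∃ k : ℕ, orderOf x = p ^ k) (hiso : Cfsg.IsIsolated x) : x ∈ (P : Subgroup G) ⊓ Subgroup.centralizer ((P : Subgroup G) : Set G) ∧ Cfsg.IsStronglyClosed (Subgroup.zpowers x) (P : Subgroup G) ∧ Cfsg.IsWeaklyClosed (Subgroup.zpowers x) (P : Subgroup G) := by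
  refine ⟨Subgroup.mem_inf.2 ⟨hxP, Subgroup.mem_centralizer_iff.2 fun y hy =>
      ((CfsgLib.LocalEvenB.isolated_commute_sylow hiso P hxP hy).eq).symm⟩,
    ⟨Subgroup.zpowers_le.2 hxP, fun y hy g hg => by
      rw [CfsgLib.LocalEvenB.isolated_pow_fixed hx hiso P hxP hy hg]; exact hy⟩,
    ⟨Subgroup.zpowers_le.2 hxP, fun g hg => ?_⟩⟩
  have key : ∀ y ∈ Subgroup.zpowers x, g * y * g⁻¹ = y := fun y hy =>
    CfsgLib.LocalEvenB.isolated_pow_fixed hx hiso P hxP hy (hg ⟨y, hy, rfl⟩)
  ext z
  constructor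
  · rintro ⟨y, hy, rfl⟩
    simpa [key y hy] using hy
  · exact fun hz => ⟨z, hz, by simpa using key z hz⟩

end Cfsg.Agent.S2968
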