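import Cfsg.Statements.S2970
import Cfsg.Agent.Lib.LocalEvenB.Isolated
import Cfsg.Agent.Lib.Transfer.PResidual
import Cfsg.Agent.Lib.Transfer.Fusion

set_option autoImplicit false
open Cfsg

namespace Cfsg.Agent.S2970

/-- Let G be a finite group, p a prime and x ∈ G an element of p-power order which is isolated in G. Then the image of x in any quotient G ⧸ N is isolated in G ⧸ N; and if x ≠ 1 and the Sylow p-subgroups of G are cyclic, then G has a normal p-complement. -/
theorem result {G : Type*} [Group G] [Finite G] {p : ℕ} [Fact p.Prime] (x : G) (hx : ∃ k : ℕ, orderOf x = p ^ k) (hiso : Cfsg.IsIsolated x) : (∀ (N : Subgroup G) [N.Normal], Cfsg.IsIsolated (QuotientGroup.mk x : G ⧸ N)) ∧ (x ≠ 1 → (∀ P : Sylow p G, IsCyclic ↥(P : Subgroup G)) → Cfsg.HasNormalPComplement p G) := by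
  refine ⟨fun N hN => ?_, fun hx1 hcyc => ?_⟩
  · intro gb
    obtain ⟨g, rfl⟩ := QuotientGroup.mk_surjective gb
    intro hcom
    let q := QuotientGroup.mk' N
    let K : Subgroup G := (Subgroup.centralizer ({q (g * x * g⁻¹)} : Set (G ⧸ N))).comap q
    obtain ⟨k, hk, hkg⟩ := CfsgLib.LocalEvenB.isolated_fuse hx hiso K
      (Subgroup.mem_centralizer_singleton_iff.2 (by simpa [q, Commute, SemiconjBy] using hcom.eq))
      (g := g) (Subgroup.mem_centralizer_singleton_iff.2 rfl)
    have h1 : q k * q (g * x * g⁻¹) = q (g * x * g⁻¹) * q k := Subgroup.mem_centralizer_singleton_iff.1 hk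
    have h2 : k * (g * x * g⁻¹) * k⁻¹ = x := by
      calc k * (g * x * g⁻¹) * k⁻¹ = (k * g) * x * (k * g)⁻¹ := by group
        _ = x := mul_inv_eq_iff_eq_mul.2 hkg.eq
    calc (QuotientGroup.mk g : G ⧸ N) * QuotientGroup.mk x * (QuotientGroup.mk g)⁻¹
        = q (g * x * g⁻¹) := by simp [q]
      _ = q k * q (g * x * g⁻¹) * (q k)⁻¹ := by rw [h1, mul_inv_cancel_right]
      _ = q (k * (g * x * g⁻¹) * k⁻¹) := by simp
      _ = QuotientGroup.mk x := by rw [h2]; rfl
  · obtain ⟨P, hP⟩ := (CfsgLib.LocalEvenB.mem_zpowers_pGroup hx).exists_le_sylow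
    have hxP : x ∈ (P : Subgroup G) := hP (Subgroup.mem_zpowers x)
    refine CfsgLib.Transfer.hasNormalPComplement_of_centralizes P fun Q hQP n hn hno => ?_
    rcases Subgroup.bot_or_exists_ne_one Q with rfl | ⟨z, hz, hz1⟩
    · exact Subgroup.mem_centralizer_iff.2 fun q hq => by rw [Subgroup.mem_bot.1 hq, one_mul, mul_one]
    · haveI : IsCyclic ↥(P : Subgroup G) := hcyc P
      have hQc : IsCyclic Q := isCyclic_of_injective (Subgroup.inclusion hQP) (Subgroup.inclusion_injective hQP)
      have hQp := P.isPGroup'.to_le hQP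
      obtain ⟨⟨w, hw⟩, hwo⟩ := exists_prime_orderOf_dvd_card' p
        ((IsPGroup.card_eq_or_dvd hQp).resolve_left fun h => hz1 (by
          rw [Subgroup.card_eq_one] at h
          exact Subgroup.mem_bot.1 (h ▸ hz)))
      rw [Subgroup.orderOf_mk] at hwo
      have hwx : w ∈ Subgroup.zpowers x := by
        obtain ⟨k, hk⟩ := hx
        have hk0 : k ≠ 0 := fun h => hx1 (by rwa [h, pow_zero, orderOf_eq_one_iff] at hk)
        obtain ⟨⟨u, hu⟩, huo⟩ := exists_prime_orderOf_dvd_card' p
          (show p ∣ Nat.card (Subgroup.zpowers x) by rw [Nat.card_zpowers, hk]; exact dvd_pow_self p hk0)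
        rw [Subgroup.orderOf_mk] at huo
        have hle : Subgroup.zpowers x ≤ (P : Subgroup G) := hP
        haveI := hcyc P
        have h1 : Subgroup.zpowers (⟨u, hle hu⟩ : (P : Subgroup G)) = Subgroup.zpowers (⟨w, hQP hw⟩ : (P : Subgroup G)) := by
          classical
          haveI := Fintype.ofFinite ↥(P : Subgroup G)
          have hu1 : orderOf (⟨u, hle hu⟩ : (P : Subgroup G)) = p := by rw [Subgroup.orderOf_mk]; exact huo
          have hw1 : orderOf (⟨w, hQP hw⟩ : (P : Subgroup G)) = p := by rw [Subgroup.orderOf_mk]; exact hwo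
          have hsub : ∀ a : (P : Subgroup G), orderOf a = p →
              (Subgroup.zpowers a : Set (P : Subgroup G)).toFinset =
                Finset.univ.filter (fun b : (P : Subgroup G) => b ^ p = 1) := by
            intro a ha
            refine Finset.eq_of_subset_of_card_le (fun b hb => ?_) ?_
            · obtain ⟨i, rfl⟩ := Subgroup.mem_zpowers_iff.1 (Set.mem_toFinset.1 hb)
              rw [Finset.mem_filter]
              refine ⟨Finset.mem_univ _, ?_⟩
              have h0 := pow_orderOf_eq_one a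
              rw [ha] at h0
              rw [← zpow_natCast, ← zpow_mul, mul_comm, zpow_mul, zpow_natCast, h0, one_zpow]
            · refine (IsCyclic.card_pow_eq_one_le (Fact.out : p.Prime).pos).trans ?_
              have h0 := Nat.card_zpowers a
              rw [ha] at h0
              rw [Set.toFinset_card, ← Nat.card_eq_fintype_card]
              exact h0.ge
          exact SetLike.coe_injective (Set.toFinset_inj.1 ((hsub _ hu1).trans (hsub _ hw1).symm))
        have h2 : (⟨w, hQP hw⟩ : (P : Subgroup G)) ∈ Subgroup.zpowers (⟨u, hle hu⟩ : (P : Subgroup G)) :=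
          h1 ▸ Subgroup.mem_zpowers _
        obtain ⟨i, hi⟩ := Subgroup.mem_zpowers_iff.1 h2
        have : u ^ i = w := by simpa using congrArg Subtype.val hi
        exact this ▸ Subgroup.zpow_mem _ hu i
      refine CfsgLib.LocalEvenB.mem_centralizer_of_cyclic_fixed hQp hQc hn hno hw ?_
        (CfsgLib.LocalEvenB.isolated_pow_fixed hx hiso P hxP hwx (hQP ((Subgroup.mem_normalizer_iff.1 hn w).1 hw)))
      intro h
      rw [h, orderOf_one] at hwo
      exact (Fact.out : p.Prime).ne_one hwo.symm

end Cfsg.Agent.S2970
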