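import Cfsg.Statements.S2971
import Cfsg.Agent.S2970
import Cfsg.Agent.Lib.Core.Cores
import Cfsg.Agent.Lib.LocalEvenB.RankOne

set_option autoImplicit false
open Cfsg

namespace Cfsg.Agent.S2971

/-- Let G be a finite group and p an odd prime such that G has p-rank at most 1 (no elementary abelian subgroup of order p²). If x ∈ G is an isolated element of order p, then x is central modulo the largest normal subgroup of G of order prime to p. -/
theorem result {G : Type*} [Group G] [Finite G] {p : ℕ} [Fact p.Prime] (hp : p ≠ 2) (hrk : Cfsg.PRankLE p 1 G) (x : G) (hx : orderOf x = p) (hiso : Cfsg.IsIsolated x) : Cfsg.InZStar p x := by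
  intro g
  have hpr : p.Prime := Fact.out
  have hx1 : x ≠ 1 := fun h => by
    rw [h, orderOf_one] at hx; exact hpr.one_lt.ne hx
  have hcyc : ∀ P : Sylow p G, IsCyclic ↥(P : Subgroup G) := fun P =>
    CfsgLib.LocalEvenB.isCyclic_of_prankLE_one hp _ le_rfl P.2
      (CfsgLib.PGroups.prankLE_of_injective hrk (P : Subgroup G).subtype_injective)
  obtain ⟨P, N, hN, hc⟩ := (Cfsg.Agent.S2970.result x ⟨1, by rw [pow_one, hx]⟩ hiso).2 hx1 hcyc
  have hNle : N ≤ Cfsg.pPrimeCore p G := by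
    refine CfsgLib.Core.le_pPrimeCore ?_
    rw [← hc.index_eq_card]
    exact (hpr.coprime_iff_not_dvd.2 P.not_dvd_index).symm
  refine hNle ?_
  haveI := hcyc P
  have e : ∀ a : G, ∃ n ∈ N, ∃ q ∈ (P : Subgroup G), a = n * q := fun a => by
    obtain ⟨⟨⟨n, hn⟩, ⟨q, hq⟩⟩, h⟩ := (hc.existsUnique a).exists
    exact ⟨n, hn, q, hq, h.symm⟩
  obtain ⟨n, hn, q, hq, rfl⟩ := e g
  obtain ⟨m, hm, r, hr, rfl⟩ := e x
  have hqr : q * r = r * q := congrArg Subtype.val (IsCyclic.commGroup.mul_comm (⟨q, hq⟩ : (P : Subgroup G)) ⟨r, hr⟩)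
  rw [← QuotientGroup.eq_one_iff]
  have h1 : ((n : G) : G ⧸ N) = 1 := (QuotientGroup.eq_one_iff _).2 hn
  have h2 : ((m : G) : G ⧸ N) = 1 := (QuotientGroup.eq_one_iff _).2 hm
  simp only [QuotientGroup.mk_mul, QuotientGroup.mk_inv, h1, h2, one_mul]
  rw [← QuotientGroup.mk_mul, hqr, QuotientGroup.mk_mul]
  group

end Cfsg.Agent.S2971
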