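import Cfsg.Statements.S2981
import Cfsg.Agent.Lib.LocalEven.PMinFF.Ambient
import Cfsg.Agent.Lib.LocalEven.PMinFF.OneOrder
import Cfsg.Agent.Lib.LocalEven.PMinimalCore
import Cfsg.Agent.Lib.LocalEvenB.BaumannBlock
import Cfsg.Agent.Lib.LocalEvenB.PushingUpCL.Swap
import Cfsg.Agent.Lib.PLocal.Offender

set_option autoImplicit false
open Cfsg CfsgLib.LocalEven

namespace Cfsg.Agent.S2981


section
variable {G : Type*} [Group G] [Finite G] {p : ℕ} [Fact p.Prime] (T : Sylow p G)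

/-- Some largest elementary abelian subgroup lies outside a normal subgroup `C` with `T ∩ C` not carrying `J(T)`. -/
theorem exists_not_le {C : Subgroup G} [C.Normal]
    (hne : Subgroup.normalizer (thompsonSubgroupOf p (T : Subgroup G) : Set G) ⊔ C ≠ ⊤) :
    ∃ A ∈ maxElementaryAbelianSubgroups p G, ¬ A ≤ C := by
  by_contra hall
  push Not at hall
  have hJC : thompsonSubgroupOf p (T : Subgroup G) ≤ (T : Subgroup G) ⊓ C := by
    refine le_inf (Subgroup.map_subtype_le _) ?_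
    rw [CfsgLib.Transfer.thompsonOf_eq_sSup]
    refine sSup_le fun A hA => hall A ⟨hA.2.1, fun B hB => ?_⟩
    obtain ⟨k, -, hk⟩ := (PMinFF.MaxP.of_sylow T (le_top : _ ≤ (⊤ : Subgroup G))).exists_conj
      (CfsgLib.PLocal.isPGroup_of_elementary hB) le_top
    haveI := hB.1
    rw [← PMinFF.card_cj k B]
    exact hA.2.2 _ hk ⟨Subgroup.map_isMulCommutative _ _, by rintro _ ⟨b, hb, rfl⟩; rw [← map_pow, hB.2 b hb, map_one]⟩
  have hmax : PMinFF.MaxP p ((T : Subgroup G) ⊓ C) C := by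
    refine ⟨inf_le_right, T.2.to_le inf_le_left, fun S h1 h2 h3 => ?_⟩
    obtain ⟨k, -, hk⟩ := (PMinFF.MaxP.of_sylow T (le_top : _ ≤ (⊤ : Subgroup G))).exists_conj h3 le_top
    refine (Subgroup.eq_of_le_of_card_ge h1 ((PMinFF.card_cj k S).ge.trans (Subgroup.card_le_of_le ?_))).symm
    exact le_inf hk (PMinFF.cj_le.2 fun a ha => Subgroup.Normal.conj_mem inferInstance a (h2 ha) k)
  refine hne (eq_top_iff.2 fun g _ => ?_)
  obtain ⟨n, hn, hle⟩ := hmax.exists_conj (PMinFF.isPGroup_cj (x := g) hmax.pgr)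
    (PMinFF.cj_le.2 fun a ha => Subgroup.Normal.conj_mem inferInstance a ha.2 g)
  rw [PMinFF.cj_cj] at hle
  have h0 : PMinFF.cj (n * g) ((T : Subgroup G) ⊓ C) = (T : Subgroup G) ⊓ C :=
    Subgroup.eq_of_le_of_card_ge hle (PMinFF.card_cj _ _).ge
  have h1 : thompsonSubgroupOf p (T : Subgroup G) ≤ (((n * g) • T : Sylow p G) : Subgroup G) :=
    hJC.trans (h0.ge.trans (PMinFF.cj_mono inf_le_left))
  have h2 := CfsgLib.LocalEvenB.thompson_eq_of_le h1
  have h3 : (thompsonSubgroupOf p (T : Subgroup G)).map (MulAut.conj (n * g)).toMonoidHom =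
      thompsonSubgroupOf p (T : Subgroup G) := by
    rw [CfsgLib.PLocal.thompsonOf_conj]; exact h2
  have h4 : n * g ∈ Subgroup.normalizer (thompsonSubgroupOf p (T : Subgroup G) : Set G) :=
    PMinFF.mem_normalizer_of_conj (PMinFF.cj_le.1 h3.le)
  rw [show g = n⁻¹ * (n * g) by group]
  exact mul_mem (Subgroup.mem_sup_right (inv_mem hn)) (Subgroup.mem_sup_left h4)

end

/-- The local C**(G,T)-Theorem for minimal parabolic groups. Let G be a finite p-minimal group (a Sylow p-subgroup T is not normal and lies in exactly one maximal subgroup) of characteristic p (C_G(O_p(G)) ≤ O_p(G)), and suppose G ≠ C**(G,T), the subgroup generated by C_G(Ω₁(Z(T))) and N_G(J(T)) (J(T) generated by the elementary abelian p-subgroups of T of largest order). Put V = Ω₁(Z(O_p(G))) and C = C_G(V). Then there are subgroups E₁, …, E_r of G containing C such that: J(G)TC = G and the E_i C/C form an internal direct product equal to J(G)C/C; any two of the E_i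 are conjugate by an element of T; V = C_V(⟨E_i⟩)·∏[V, E_i] with [V, E_i, E_j] = 1 for i ≠ j; for some n ≥ 1, each E_i/C is isomorphic to SL₂(pⁿ), or p = 2 and to the symmetric group of degree 2ⁿ + 1; and E_i acts on [V, E_i]/C_{[V,E_i]}(E_i) as the natural two-dimensional SL₂(pⁿ)-module, respectively as the symmetric group of degree 2ⁿ+1 on its even-weight permutation module. -/
theorem result {G : Type*} [Group G] [Finite G] {p : ℕ} [Fact p.Prime] (hmin : Cfsg.IsPMinimal p G) (hG : Subgroup.centralizer (Cfsg.pCore p G : Set G) ≤ Cfsg.pCore p G) (T : Sylow p G) (hne : Cfsg.cStarStarOf p (T : Subgroup G) ≠ ⊤) : ∃ (r : ℕ) (E : Fin r → Subgroup G), (∀ i, Subgroup.centralizer (Cfsg.omegaOneCenter p (Cfsg.pCore p G) : Set G) ≤ E i) ∧ Cfsg.thompsonSubgroup p G ⊔ (T : Subgroup G) ⊔ Subgroup.centralizer (Cfsg.omegaOneCenter p (Cfsg.pCore p G) : Set G) = ⊤ ∧ (⨆ i, E i) = Cfsg.thompsonSubgroup p G ⊔ Subgroup.centralizer (Cfsg.omegaOneCenter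 p (Cfsg.pCore p G) : Set G) ∧ (∀ i j, i ≠ j → ⁅E i, E j⁆ ≤ Subgroup.centralizer (Cfsg.omegaOneCenter p (Cfsg.pCore p G) : Set G)) ∧ (∀ i, E i ⊓ (⨆ j ∈ {j | j ≠ i}, E j) ≤ Subgroup.centralizer (Cfsg.omegaOneCenter p (Cfsg.pCore p G) : Set G)) ∧ (∀ i j, ∃ t ∈ (T : Subgroup G), (E i).map (MulAut.conj t).toMonoidHom = E j) ∧ (Cfsg.omegaOneCenter p (Cfsg.pCore p G) ⊓ Subgroup.centralizer ((⨆ i, E i : Subgroup G) : Set G)) ⊔ (⨆ i, ⁅Cfsg.omegaOneCenter p (Cfsg.pCore p G), E i⁆) = Cfsg.omegaOneCenter p (Cfsg.pCore p G) ∧ (∀ i j, i ≠ j → ⁅⁅Cfsg.omegaOneCenter p (Cfsg.pCore p G), E i⁆, E j⁆ = ⊥) ∧ ∀ i, ∃ n : ℕ, 1 ≤ n ∧ ((∃ (F : Type) (_ : Field F) (_ : Fintype F), Fintype.card F = p ^ n ∧ (∃ _ : ((Subgroup.centralizer (Cfsg.omegaOneCenter p (Cfsg.pCore p G) : Set G)).subgroupOf (E i)).Normal, Nonempty (↥(E i) ⧸ (Subgroup.centralizer (Cfsg.omegaOneCenter p (Cfsg.pCore p G) : Set G)).subgroupOf (E i) ≃* Matrix.SpecialLinearGroup (Fin 2) F)) ∧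 Cfsg.ActsAsSL2OnSection F ⊤ (E i) ⁅Cfsg.omegaOneCenter p (Cfsg.pCore p G), E i⁆ (⁅Cfsg.omegaOneCenter p (Cfsg.pCore p G), E i⁆ ⊓ Subgroup.centralizer ((E i : Subgroup G) : Set G))) ∨ (p = 2 ∧ (∃ _ : ((Subgroup.centralizer (Cfsg.omegaOneCenter p (Cfsg.pCore p G) : Set G)).subgroupOf (E i)).Normal, Nonempty (↥(E i) ⧸ (Subgroup.centralizer (Cfsg.omegaOneCenter p (Cfsg.pCore p G) : Set G)).subgroupOf (E i) ≃* Equiv.Perm (Fin (2 ^ n + 1)))) ∧ Cfsg.ActsAsOddPermModuleOnSection (2 ^ n + 1) ⊤ (E i) ⁅Cfsg.omegaOneCenter p (Cfsg.pCore p G), E i⁆ (⁅Cfsg.omegaOneCenter p (Cfsg.pCore p G), E i⁆ ⊓ Subgroup.centralizer ((E i : Subgroup G) : Set G)))) := by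
  classical
  obtain ⟨V, hV⟩ : ∃ V, V = omegaOneCenter p (pCore p G) := ⟨_, rfl⟩
  rw [← hV]
  obtain ⟨C, hC⟩ : ∃ C, C = Subgroup.centralizer (V : Set G) := ⟨_, rfl⟩
  rw [← hC]
  have hmemV : ∀ {x : G}, x ∈ V ↔ x ∈ pCore p G ⊓ Subgroup.centralizer (pCore p G : Set G) ∧ x ^ p = 1 :=
    fun {x} => by rw [hV]; exact CfsgLib.LocalEvenB.PushCL.mem_omegaOneCenter
  haveI hQn : (pCore p G).Normal := CfsgLib.Core.normal_pCore p G
  haveI hVn : V.Normal := ⟨fun v hv g => by
    obtain ⟨⟨h1, h2⟩, h3⟩ := hmemV.1 hv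
    refine hmemV.2 ⟨⟨hQn.conj_mem v h1 g, Subgroup.mem_centralizer_iff.2 fun q hq => ?_⟩, by rw [conj_pow, h3, mul_one, mul_inv_cancel]⟩
    have h4 := Subgroup.mem_centralizer_iff.1 h2 _ (hQn.conj_mem q hq g⁻¹)
    simpa [mul_assoc] using congrArg (fun z => g * z * g⁻¹) h4⟩
  have hVel : Cfsg.IsElementaryAbelian p V :=
    ⟨⟨⟨fun a b => Subtype.ext ((Subgroup.mem_centralizer_iff.1 (hmemV.1 b.2).1.2 a (hmemV.1 a.2).1.1))⟩⟩,
      fun v hv => (hmemV.1 hv).2⟩
  haveI hCn : C.Normal := ⟨fun c hc g => by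
    rw [hC, Subgroup.mem_centralizer_iff] at hc ⊢
    intro v hv
    have h4 := hc _ (hVn.conj_mem v hv g⁻¹)
    simpa [mul_assoc] using congrArg (fun z => g * z * g⁻¹) h4⟩
  haveI := hVel.1
  letI : CommGroup ↥V := { (inferInstance : Group ↥V) with mul_comm := fun a b => mul_comm' a b }
  obtain ⟨actG, hactG⟩ : ∃ act : G →* AddMonoid.End (Additive ↥V), ∀ (g : G) (v : Additive ↥V),
      ((Additive.toMul (act g v) : ↥V) : G) = g * (Additive.toMul v : ↥V) * g⁻¹ :=
    ⟨{ toFun := fun g => MonoidHom.toAdditive (MulAut.conjNormal (H := V) g).toMonoidHom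
       map_one' := AddMonoidHom.ext fun v => Subtype.ext (show (1 : G) * ((Additive.toMul v : ↥V) : G) * (1 : G)⁻¹ = ((Additive.toMul v : ↥V) : G) by simp)
       map_mul' := fun g k => AddMonoidHom.ext fun v => Subtype.ext (by
         show ((g : G) * k) * _ * ((g : G) * k)⁻¹ = (g : G) * ((k : G) * _ * (k : G)⁻¹) * (g : G)⁻¹
         group) }, fun g v => rfl⟩
  have hker : ∀ g, g ∈ C ↔ actG g = 1 := fun g => by
    rw [hC, Subgroup.mem_centralizer_iff]
    constructor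
    · intro h
      refine AddMonoidHom.ext fun v => Additive.toMul.injective (Subtype.ext ((hactG g v).trans ?_))
      rw [← h _ (Additive.toMul v).2, mul_inv_cancel_right]
      rfl
    · intro h v hv
      have h2 := hactG g (Additive.ofMul ⟨v, hv⟩)
      rw [h] at h2
      exact eq_mul_inv_iff_mul_eq.1 h2
  obtain ⟨mk, hmk, hmks, hmkC⟩ : ∃ mk : G →* G ⧸ C, (mk = QuotientGroup.mk' C) ∧ Function.Surjective mk ∧ mk.ker = C :=
    ⟨_, rfl, QuotientGroup.mk'_surjective C, QuotientGroup.ker_mk' C⟩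
  obtain ⟨act, hact⟩ : ∃ act : G ⧸ C →* AddMonoid.End (Additive ↥V), ∀ g, act (mk g) = actG g :=
    ⟨QuotientGroup.lift C actG fun g hg => (hker g).1 hg, fun g => by rw [hmk]; rfl⟩
  have hconj : ∀ (g : G) (v : Additive ↥V),
      ((Additive.toMul (act (mk g) v) : ↥V) : G) = g * (Additive.toMul v : ↥V) * g⁻¹ := fun g v => by
    rw [hact, hactG]
  -- `Ω₁Z(T) ≤ V` and `CT ≤ C**`
  have hQT : pCore p G ≤ (T : Subgroup G) := CfsgLib.Core.pCore_le_sylow T
  have hZV : omegaOneCenter p (T : Subgroup G) ≤ V := fun x hx => by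
    obtain ⟨⟨h1, h2⟩, h3⟩ := CfsgLib.LocalEvenB.PushCL.mem_omegaOneCenter.1 hx
    have h4 : x ∈ Subgroup.centralizer (pCore p G : Set G) := Subgroup.centralizer_le hQT h2
    exact hmemV.2 ⟨⟨hG h4, h4⟩, h3⟩
  have hTZ : (T : Subgroup G) ≤ Subgroup.centralizer (omegaOneCenter p (T : Subgroup G) : Set G) := fun t ht =>
    Subgroup.mem_centralizer_iff.2 fun x hx =>
      (Subgroup.mem_centralizer_iff.1 (CfsgLib.LocalEvenB.PushCL.mem_omegaOneCenter.1 hx).1.2 t ht).symm
  have hCZ : C ≤ Subgroup.centralizer (omegaOneCenter p (T : Subgroup G) : Set G) := hC ▸ Subgroup.centralizer_le hZV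
  have hCT : (T : Subgroup G) ⊔ C ≠ ⊤ := fun e => hne (top_le_iff.1 (e ▸ (sup_le hTZ hCZ).trans le_sup_left))
  obtain ⟨-, M, ⟨hM, hTM⟩, -⟩ := hmin T
  have hCM : C ≤ M := le_sup_right.trans (PMinimalCore.le_of_sylow_le hmin T hM hTM le_sup_left hCT)
  obtain ⟨Tb, hTb⟩ : ∃ Tb, Tb = (T : Subgroup G).map mk := ⟨_, rfl⟩
  obtain ⟨Mb, hMb⟩ : ∃ Mb, Mb = M.map mk := ⟨_, rfl⟩
  have hMc : Mb.comap mk = M := by rw [hMb, Subgroup.comap_map_eq, hmkC, sup_eq_left.2 hCM]
  have hsyl : PMinFF.MaxP p Tb ⊤ := by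
    have h := PMinFF.MaxP.of_sylow (T.mapSurjective hmks) (le_top : _ ≤ (⊤ : Subgroup (G ⧸ C)))
    rwa [Sylow.coe_mapSurjective, ← hTb] at h
  have hpmin : ∀ X : Subgroup (G ⧸ C), Tb ≤ X → X ≠ ⊤ → X ≤ Mb := fun X hX hXne => by
    have h1 := PMinimalCore.le_of_sylow_le hmin T hM hTM (X := X.comap mk) (Subgroup.map_le_iff_le_comap.1 (hTb ▸ hX))
      fun e => hXne (by rw [← Subgroup.map_comap_eq_self_of_surjective hmks X, e, Subgroup.map_top_of_surjective _ hmks])
    rw [← Subgroup.map_comap_eq_self_of_surjective hmks X, hMb]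
    exact Subgroup.map_mono h1
  obtain ⟨z, hz, hzg⟩ : ∃ z ∈ omegaOneCenter p (T : Subgroup G), ∃ g : G, g * z ≠ z * g := by
    by_contra hall
    push Not at hall
    refine hne (top_le_iff.1 (le_sup_of_le_left fun g _ => ?_))
    exact Subgroup.mem_centralizer_iff.2 fun z hz => (hall z hz g).symm
  obtain ⟨y, hy⟩ : ∃ y : Additive ↥V, y = Additive.ofMul ⟨z, hZV hz⟩ := ⟨_, rfl⟩
  have hyT : y ∈ OffSL2.fix act Tb := by
    rw [hTb]
    rintro _ ⟨t, ht, rfl⟩
    refine Additive.toMul.injective (Subtype.ext ?_)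
    rw [hconj, hy, toMul_ofMul, ← Subgroup.mem_centralizer_iff.1 (hTZ ht) z hz, mul_inv_cancel_right]
  have hP : PMinFF.PMod p act Tb Mb y :=
    { inj := by
        rw [injective_iff_map_eq_one]
        intro x hx
        obtain ⟨g, rfl⟩ := hmks x
        rw [hact, ← hker g] at hx
        exact MonoidHom.mem_ker.1 (hmkC.ge hx)
      hpU := fun v => by
        refine Additive.toMul.injective (Subtype.ext ?_)
        rw [toMul_nsmul, SubmonoidClass.coe_pow, hVel.2 _ (Additive.toMul v).2]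
        rfl
      syl := hsyl
      pmin := hpmin
      TM := by rw [hTb, hMb]; exact Subgroup.map_mono hTM
      Mne := fun e => hM.1 (by rw [← hMc, e, Subgroup.comap_top])
      nop := fun N hN hn => by
        obtain ⟨N', hN'⟩ : ∃ N', N' = N.comap mk := ⟨_, rfl⟩
        haveI hN'n : N'.Normal := ⟨fun n hn' g => by
          rw [hN', Subgroup.mem_comap] at hn' ⊢
          rw [map_mul, map_mul, map_inv]; exact hn _ _ hn'⟩
        have hNT : N ≤ Tb := by
          obtain ⟨k, -, hk⟩ := hsyl.exists_conj hN le_top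
          intro x hx
          have h1 := hk (PMinFF.conj_mem_cj (x := k) (hn k⁻¹ x hx))
          simpa [mul_assoc] using h1
        obtain ⟨T0, hT0⟩ : ∃ T0, T0 = (T : Subgroup G) ⊓ N' := ⟨_, rfl⟩
        have hT0C : T0 ≤ C := by
          have hn0 : (T : Subgroup G) ≤ Subgroup.normalizer (T0 : Set G) := fun t ht =>
            PMinFF.mem_normalizer_of_conj fun a ha => by
              rw [hT0] at ha ⊢
              exact ⟨(T : Subgroup G).mul_mem ((T : Subgroup G).mul_mem ht ha.1) ((T : Subgroup G).inv_mem ht), hN'n.conj_mem a ha.2 t⟩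
          have hp0 : IsPGroup p T0 := T.2.to_le (hT0 ▸ inf_le_left)
          by_cases hnorm : Subgroup.normalizer (T0 : Set G) = ⊤
          · haveI : T0.Normal := ⟨fun n hn' g => (Subgroup.mem_normalizer_iff.1 (hnorm.ge (Subgroup.mem_top g)) n).1 hn'⟩
            have hQC : pCore p G ≤ C := by
              rw [hC, Subgroup.le_centralizer_iff]
              exact fun v hv => (hmemV.1 hv).1.2
            exact (CfsgLib.Core.le_pCore hp0).trans hQC
          exfalso
          have hnM := PMinimalCore.le_of_sylow_le hmin T hM hTM hn0 hnorm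
          have hmax : PMinFF.MaxP p T0 N' := by
            refine ⟨hT0 ▸ inf_le_right, hp0, fun S h1 h2 h3 => ?_⟩
            obtain ⟨k, -, hk⟩ := (PMinFF.MaxP.of_sylow T (le_top : _ ≤ (⊤ : Subgroup G))).exists_conj h3 le_top
            refine (Subgroup.eq_of_le_of_card_ge h1 ((PMinFF.card_cj k S).ge.trans (Subgroup.card_le_of_le ?_))).symm
            rw [hT0]
            exact le_inf hk (PMinFF.cj_le.2 fun a ha => hN'n.conj_mem a (h2 ha) k)
          have hN'M : N' ≤ M := by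
            rw [← hMc, hN', hMb]
            exact Subgroup.comap_mono (hNT.trans (hTb ▸ Subgroup.map_mono hTM))
          refine hM.1 (eq_top_iff.2 fun g _ => ?_)
          obtain ⟨n, hn', hle⟩ := hmax.exists_conj (PMinFF.isPGroup_cj (x := g) hp0)
            (PMinFF.cj_le.2 fun a ha => hN'n.conj_mem a (hmax.le ha) g)
          rw [PMinFF.cj_cj] at hle
          have := mul_mem (inv_mem (hN'M hn')) (hnM (PMinFF.mem_normalizer_of_conj (PMinFF.cj_le.1 hle) : n * g ∈ _))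
          simpa [← mul_assoc] using this
        rw [eq_bot_iff]
        intro x hx
        obtain ⟨t, ht, rfl⟩ := (hTb ▸ hNT hx : x ∈ (T : Subgroup G).map mk)
        exact Subgroup.mem_bot.2 (MonoidHom.mem_ker.1 (hmkC.ge (hT0C (hT0 ▸ ⟨ht, by rw [hN']; exact hx⟩))))
      hy := hyT
      stab := hpmin _ (fun t ht => hyT t ht) fun e => by
        obtain ⟨g, hg⟩ := hzg
        have h1 : act (mk g) y = y := e.ge (Subgroup.mem_top (mk g))
        have h2 := hconj g y
        rw [h1, hy] at h2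
        exact hg (eq_mul_inv_iff_mul_eq.1 h2).symm }
  -- images of largest elementary abelian subgroups are exact
  have hcomp : ∀ S : Subgroup (G ⧸ C), ∃ τ : S.comap mk →* S, PMinFF.Compat act S (S.comap mk) τ ∧
      ∀ x, ((τ x : S) : G ⧸ C) = mk (x : G) := fun S => by
    refine ⟨(mk.comp (S.comap mk).subtype).codRestrict S fun x => x.2, ⟨fun x => ?_, fun x v => hconj _ v⟩, fun x => rfl⟩
    obtain ⟨g, hg⟩ := hmks x
    exact ⟨⟨g, show mk g ∈ S from hg.symm ▸ x.2⟩, Subtype.ext hg⟩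
  have hexact : ∀ A ∈ maxElementaryAbelianSubgroups p G, PMinFF.Exact p act (A.map mk) := by
    intro A hA
    have hel : PMinFF.El p (A.map mk) := by
      constructor
      · rintro _ ⟨a, ha, rfl⟩ _ ⟨b, hb, rfl⟩
        haveI := hA.1.1
        rw [← map_mul, ← map_mul, show a * b = b * a from congrArg Subtype.val (mul_comm' (⟨a, ha⟩ : A) ⟨b, hb⟩)]
      · rintro _ ⟨a, ha, rfl⟩
        rw [← map_pow, hA.1.2 a ha, map_one]
    refine ⟨hel, le_antisymm (PMinFF.meas_le_card hP hel) ?_⟩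
    have hb := (CfsgLib.PLocal.bestOffender_of_maxElementary hVel hA).1 (A ⊓ C) inf_le_left
    rw [inf_eq_left.2 (Subgroup.le_centralizer_iff.1 (hC ▸ inf_le_right : A ⊓ C ≤ Subgroup.centralizer (V : Set G)))] at hb
    have hcard : Nat.card A = Nat.card (A.map mk) * Nat.card ↥(A ⊓ C) := by
      rw [Subgroup.card_eq_card_quotient_mul_card_subgroup (mk.comp A.subtype).ker,
        Nat.card_congr (QuotientGroup.quotientKerEquivRange _).toEquiv, MonoidHom.range_comp, Subgroup.range_subtype]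
      congr 1
      refine Nat.card_congr
        { toFun := fun a => ⟨((a : A) : G), (a : A).2, hmkC.le a.2⟩
          invFun := fun a => ⟨⟨(a : G), a.2.1⟩, hmkC.ge a.2.2⟩
          left_inv := fun a => rfl
          right_inv := fun a => rfl }
    have hfix : Nat.card (OffSL2.fix act (A.map mk)) = Nat.card ↥(V ⊓ Subgroup.centralizer (A : Set G)) := by
      have hiff : ∀ v : Additive ↥V, v ∈ OffSL2.fix act (A.map mk) ↔
          ((Additive.toMul v : ↥V) : G) ∈ Subgroup.centralizer (A : Set G) := by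
        intro v
        rw [Subgroup.mem_centralizer_iff]
        constructor
        · intro h a ha
          have h2 := hconj a v
          rw [h _ ⟨a, ha, rfl⟩] at h2
          exact (eq_mul_inv_iff_mul_eq.1 h2).symm
        · rintro h _ ⟨a, ha, rfl⟩
          refine Additive.toMul.injective (Subtype.ext ((hconj a v).trans ?_))
          rw [mul_inv_eq_iff_eq_mul]
          exact h a ha
      exact Nat.card_congr
        { toFun := fun v => ⟨((Additive.toMul (v : Additive ↥V) : ↥V) : G), (Additive.toMul (v : Additive ↥V)).2, (hiff v).1 v.2⟩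
          invFun := fun v => ⟨Additive.ofMul ⟨(v : G), v.2.1⟩, (hiff _).2 v.2.2⟩
          left_inv := fun v => rfl
          right_inv := fun v => rfl }
    rw [PMinFF.meas, hfix]
    refine (Nat.card_congr Additive.toMul).le.trans (Nat.le_of_mul_le_mul_left ?_ (Nat.card_pos : 0 < Nat.card ↥(A ⊓ C)))
    rw [hcard, mul_comm (Nat.card (A.map mk)), mul_assoc] at hb
    exact hb
  obtain ⟨A, hA, hAC⟩ := exists_not_le T (C := C) fun e => hne (top_le_iff.1 (e ▸ sup_le le_sup_right (hCZ.trans le_sup_left)))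
  have hAne : A.map mk ≠ ⊥ := fun e => hAC ((Subgroup.map_eq_bot_iff A).1 e |>.trans hmkC.le)
  obtain ⟨r, E, hr, hcomm, hinf, hsup, hconjE, hdec, himg, hcov, hnat, q, ⟨Z0, hZ0⟩, hq1, hq2⟩ :=
    PMinFF.structure_theorem' hP (hexact A hA) hAne
  have hJn : ∀ g : G ⧸ C, ∀ n ∈ (thompsonSubgroup p G).map mk, g * n * g⁻¹ ∈ (thompsonSubgroup p G).map mk := by
    rintro g _ ⟨n, hn, rfl⟩
    obtain ⟨k, rfl⟩ := hmks g
    refine ⟨k * n * k⁻¹, ?_, by rw [map_mul, map_mul, map_inv]⟩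
    rw [← CfsgLib.PLocal.map_equiv_thompson (p := p) (MulAut.conj k)]
    exact ⟨n, hn, rfl⟩
  have hJE : (thompsonSubgroup p G).map mk = ⨆ i, E i := by
    refine le_antisymm ?_ (hq2.trans (sSup_le fun Z hZ => ?_))
    · rw [Subgroup.map_le_iff_le_comap]
      refine sSup_le fun B hB => ?_
      rw [← Subgroup.map_le_iff_le_comap]
      exact ((hexact B hB).le_atoms hP).trans (sSup_le fun Z hZ =>
        hq1 Z ⟨hZ.1, (PMinFF.atom_card_eq hP hZ.1 hZ0.1).trans hZ0.2⟩)
    · exact PMinFF.atom_le_normal hP hJn (hexact A hA) hAne (Subgroup.map_mono (le_sSup hA)) hZ.1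
  have hCle : ∀ i, C ≤ (E i).comap mk := fun i c hc =>
    show mk c ∈ E i by rw [MonoidHom.mem_ker.1 (hmkC.ge hc)]; exact one_mem _
  have hmapE : ∀ i, ((E i).comap mk).map mk = E i := fun i => Subgroup.map_comap_eq_self_of_surjective hmks _
  refine ⟨r, fun i => (E i).comap mk, hCle, ?_, ?_, fun i j hij => ?_, fun i => ?_, fun i j => ?_, ?_,
    fun i j hij => ?_, fun i => ?_⟩
  · have h1 := congrArg (Subgroup.comap mk) hsup
    rw [← hJE, hTb, ← Subgroup.map_sup, Subgroup.comap_map_eq, hmkC, Subgroup.comap_top] at h1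
    exact h1
  · have h1 : (⨆ i, (E i).comap mk).map mk = (thompsonSubgroup p G).map mk := by
      rw [Subgroup.map_iSup, hJE]; simp only [hmapE]
    have h2 := congrArg (Subgroup.comap mk) h1
    rw [Subgroup.comap_map_eq, Subgroup.comap_map_eq, hmkC, sup_eq_left.2 ((hCle ⟨0, hr⟩).trans (le_iSup (fun i => (E i).comap mk) _))] at h2
    exact h2
  · rw [Subgroup.commutator_le]
    intro a ha b hb
    refine hmkC.le (MonoidHom.mem_ker.2 ?_)
    rw [map_commutatorElement, commutatorElement_eq_one_iff_mul_comm]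
    exact hcomm i j hij _ ha _ hb
  · intro x hx
    refine hmkC.le (MonoidHom.mem_ker.2 (Subgroup.mem_bot.1 (hinf i ▸ ?_)))
    refine ⟨hx.1, ?_⟩
    exact (iSup₂_le fun j hj => Subgroup.comap_mono (le_iSup₂_of_le j hj le_rfl) :
      (⨆ j ∈ {j | j ≠ i}, (E j).comap mk) ≤ Subgroup.comap mk (⨆ j ∈ {j | j ≠ i}, E j)) hx.2
  · obtain ⟨tb, htb, he⟩ := hconjE i j
    obtain ⟨t, ht, rfl⟩ := (hTb ▸ htb : tb ∈ (T : Subgroup G).map mk)
    refine ⟨t, ht, Subgroup.ext fun x => ?_⟩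
    change x ∈ PMinFF.cj t ((E i).comap mk) ↔ _
    rw [Subgroup.mem_comap, ← he, PMinFF.mem_cj, PMinFF.mem_cj, Subgroup.mem_comap, map_mul, map_mul, map_inv]
  · refine le_antisymm (sup_le inf_le_left (iSup_le fun i => ?_)) fun v hv => ?_
    · obtain ⟨τ, hτ, -⟩ := hcomp (E i)
      exact hτ.commutator_le
    obtain ⟨w, hw, hvw⟩ := hdec (Additive.ofMul ⟨v, hv⟩)
    rw [show v = ((Additive.toMul (Additive.ofMul (⟨v, hv⟩ : ↥V) - w) : ↥V) : G) * ((Additive.toMul w : ↥V) : G) by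
      rw [← Subgroup.coe_mul, ← toMul_add, sub_add_cancel]; rfl]
    refine Subgroup.mul_mem_sup ⟨SetLike.coe_mem _, ?_⟩ ?_
    · show _ ∈ Subgroup.centralizer _
      refine Subgroup.le_centralizer_iff.1 (iSup_le fun i => ?_) (Subgroup.mem_zpowers _)
      obtain ⟨τ, hτ, -⟩ := hcomp (E i)
      rw [Subgroup.le_centralizer_iff, Subgroup.zpowers_le]
      exact (hτ.mem_fix _).1 (hvw i)
    · refine (iSup_le fun i a ha => ?_ :
        (⨆ i, PMinFF.img act (E i)) ≤ (Subgroup.comap V.subtype (⨆ i, ⁅V, (E i).comap mk⁆)).toAddSubgroup) hw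
      obtain ⟨τ, hτ, -⟩ := hcomp (E i)
      exact Subgroup.mem_iSup_of_mem i (hτ.mem_commutator.2 ⟨a, ha, rfl⟩)
  · rw [Subgroup.commutator_eq_bot_iff_le_centralizer]
    intro u hu
    obtain ⟨τ, hτ, -⟩ := hcomp (E i)
    obtain ⟨τ', hτ', -⟩ := hcomp (E j)
    obtain ⟨a, ha, rfl⟩ := hτ.mem_commutator.1 hu
    exact (hτ'.mem_fix a).1 (himg i j hij ha)
  · obtain ⟨τ, hτ, hτv⟩ := hcomp (E i)
    have hkerτ : ∀ {H : Type} [Group H] (ρ : E i →* H), Function.Injective ρ →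
        C.subgroupOf ((E i).comap mk) = (ρ.comp τ).ker := by
      intro H _ ρ hρ
      ext x
      rw [Subgroup.mem_subgroupOf, MonoidHom.mem_ker, MonoidHom.comp_apply, map_eq_one_iff ρ hρ]
      exact (SetLike.ext_iff.1 hmkC (x : G)).symm.trans (by rw [MonoidHom.mem_ker, ← hτv, OneMemClass.coe_eq_one])
    haveI hCin : (C.subgroupOf ((E i).comap mk)).Normal := inferInstance
    obtain ⟨n, hn, h⟩ := hnat i
    refine ⟨n, hn, ?_⟩
    rcases h with ⟨F, iF, iFF, ψ, ρ, hc, hρ, hψ, hkerψ, heq⟩ | ⟨hp2, ρ, ψ, hρ, hsum, hsurj, hkerψ, heq⟩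
    · exact Or.inl ⟨F, iF, iFF, hc, ⟨hCin, ⟨(QuotientGroup.quotientMulEquivOfEq (hkerτ ρ hρ.1)).trans
        (QuotientGroup.quotientKerEquivOfSurjective _ (hρ.2.comp hτ.surj))⟩⟩,
        hτ.actsSL2 ψ ρ hρ.2 hψ hkerψ heq (hcov i)⟩
    · exact Or.inr ⟨hp2, ⟨hCin, ⟨(QuotientGroup.quotientMulEquivOfEq (hkerτ ρ hρ.1)).trans
        (QuotientGroup.quotientKerEquivOfSurjective _ (hρ.2.comp hτ.surj))⟩⟩,
        hτ.actsPerm ψ ρ hρ.2 hsum hsurj hkerψ heq (hcov i)⟩

end Cfsg.Agent.S2981
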