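import Cfsg.Statements.S2989
import Cfsg.Agent.Lib.LocalEvenB.PushingUpCL.Main

set_option autoImplicit false
open Cfsg

namespace Cfsg.Agent.S2989

/-- Let G be a finite group and S a Sylow p-subgroup of G in the basic pushing-up situation (G ≠ 1, C_G(O_p(G)) ≤ O_p(G), S lies in a unique maximal subgroup of G, and some quotient of G is isomorphic to PSL₂ over a field of order a power of p), and suppose that S centralizes Z(J(S)), where J(S) is generated by the abelian subgroups of S of largest order (that is, J̃(S) = C_S(Z(J(S))) = S). Call a subgroup R of S centrally large if |R|·|Z(R)| is as large as possible among subgroups of S, and let S_Φ be the subgroup generated by the Frattini subgroups Φ(Q) of those minimal centrally large subgroups Q of S whose Ω₁(Z(Q)) has the largest order among minimal centrally large subgroups. Then Z(S) or S_Φ is normal in G; and if S_Φ = 1, the minimal centrally large subgroups of S are exactly the abelian subgroups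 of S of largest order, and at least one of them is elementary abelian. -/
theorem result {G : Type*} [Group G] [Finite G] {p : ℕ} [Fact p.Prime] (S : Subgroup G) (hE : Cfsg.IsPushingUpSituation p S) (hJ : S ≤ Subgroup.centralizer (Cfsg.centerThompsonAOf S : Set G)) : ((S ⊓ Subgroup.centralizer (S : Set G)).Normal ∨ ((Cfsg.frattiniOfMinimalCLJoin p ↥S).map S.subtype).Normal) ∧ (Cfsg.frattiniOfMinimalCLJoin p ↥S = ⊥ → (∀ Q : Subgroup ↥S, Cfsg.IsMinimalCentrallyLarge Q ↔ Q ∈ Cfsg.maxAbelianSubgroups ↥S) ∧ ∃ A ∈ Cfsg.maxAbelianSubgroups ↥S, Cfsg.IsElementaryAbelian p A) := by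
  refine ⟨CfsgLib.LocalEvenB.PushCL.center_or_phiJoin_normal hE, fun hbot => ?_⟩
  obtain ⟨P, hPS⟩ := hE.2.1
  have hS : IsPGroup p S := hPS ▸ P.isPGroup'
  obtain ⟨Q, hQ, hQm⟩ : ∃ Q : Subgroup ↥S, Cfsg.IsMinimalCentrallyLarge Q ∧
      Nat.card (Cfsg.omegaOneCenter p Q) = Cfsg.maxOmegaCenterOfMinimalCL p ↥S := by
    obtain ⟨X, hX⟩ := CfsgLib.LocalEvenB.exists_isCentrallyLarge (G := ↥S)
    obtain ⟨Y, -, hY⟩ := CfsgLib.LocalEvenB.exists_isMinimalCentrallyLarge_le hX
    exact Nat.sSup_mem (s := {k : ℕ | ∃ Q : Subgroup ↥S, Cfsg.IsMinimalCentrallyLarge Q ∧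
        Nat.card ↥(Cfsg.omegaOneCenter p Q) = k}) ⟨_, Y, hY, rfl⟩
      ((Set.finite_range fun R : Subgroup ↥S => Nat.card (Cfsg.omegaOneCenter p R)).bddAbove.mono
        (by rintro k ⟨R, -, rfl⟩; exact ⟨R, rfl⟩))
  have hphi : CfsgLib.LocalEvenB.PushCL.phi p Q = ⊥ := by
    rw [← CfsgLib.LocalEvenB.PushCL.map_frattini_eq_phi (hS.to_subgroup Q)]
    exact eq_bot_iff.2 ((le_iSup_of_le ⟨Q, hQ, hQm⟩ le_rfl).trans hbot.le)
  obtain ⟨hcomm, hpow⟩ : ⁅Q, Q⁆ = ⊥ ∧ Subgroup.closure ((fun x => x ^ p) '' (Q : Set ↥S)) = ⊥ := by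
    rwa [CfsgLib.LocalEvenB.PushCL.phi, sup_eq_bot_iff] at hphi
  have hQab : IsMulCommutative Q := CfsgLib.LocalEvenB.le_centralizer_iff_isMulCommutative.2
    (Subgroup.commutator_eq_bot_iff_le_centralizer.1 hcomm)
  refine ⟨CfsgLib.LocalEvenB.mcl_iff_maxAbelian hQab hQ,
    Q, (CfsgLib.LocalEvenB.mcl_iff_maxAbelian hQab hQ Q).1 hQ, hQab, fun a ha => ?_⟩
  have h : a ^ p ∈ Subgroup.closure ((fun x => x ^ p) '' (Q : Set ↥S)) :=
    Subgroup.subset_closure ⟨a, ha, rfl⟩
  rwa [hpow, Subgroup.mem_bot] at h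

end Cfsg.Agent.S2989
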