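import Cfsg.Statements.S2998
import Cfsg.Agent.Lib.LocalEvenB.Isolated

set_option autoImplicit false
open Cfsg

namespace Cfsg.Agent.S2998

/-- Let G be a finite group, p a prime, P a Sylow p-subgroup of G and x ∈ P an element such that N_G(R) ≤ C_G(x) for every nontrivial subgroup R of P. Then P ≤ C_G(x); every G-conjugate of x lying in P equals x (so g ∈ C_G(x) whenever g x g⁻¹ ∈ P); and for every normal subgroup N of G, the image of x in G ⧸ N has the same property with respect to the image of P: the normalizer of every nontrivial subgroup of the image of P centralizes the image of x. -/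
theorem result {G : Type*} [Group G] [Finite G] {p : ℕ} [Fact p.Prime] (P : Sylow p G) (x : G) (hxP : x ∈ (P : Subgroup G)) (hlc : ∀ R : Subgroup G, R ≤ (P : Subgroup G) → R ≠ ⊥ → Subgroup.normalizer (R : Set G) ≤ Subgroup.centralizer ({x} : Set G)) : (P : Subgroup G) ≤ Subgroup.centralizer ({x} : Set G) ∧ (∀ g : G, g * x * g⁻¹ ∈ (P : Subgroup G) → g * x * g⁻¹ = x) ∧ ∀ (N : Subgroup G) [N.Normal], ∀ R : Subgroup (G ⧸ N), R ≤ (P : Subgroup G).map (QuotientGroup.mk' N) → R ≠ ⊥ → Subgroup.normalizer (R : Set (G ⧸ N)) ≤ Subgroup.centralizer ({(QuotientGroup.mk x : G ⧸ N)} : Set (G ⧸ N)) := by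
  by_cases hPbot : (P : Subgroup G) = ⊥
  · have hx1 : x = 1 := Subgroup.mem_bot.1 (hPbot ▸ hxP)
    subst hx1
    refine ⟨fun y _ => Subgroup.mem_centralizer_singleton_iff.2 (by simp), fun g _ => by simp, fun N _ R _ _ => ?_⟩
    exact fun y _ => Subgroup.mem_centralizer_singleton_iff.2 (by simp)
  have hPC : (P : Subgroup G) ≤ Subgroup.centralizer ({x} : Set G) :=
    le_trans Subgroup.le_normalizer (hlc _ le_rfl hPbot)
  refine ⟨hPC, fun g hg => ?_, fun N _ R hR hR1 => ?_⟩
  · by_cases hx1 : x = 1
    · subst hx1; simp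
    have hy1 : Subgroup.zpowers (g * x * g⁻¹) ≠ ⊥ := by
      simpa [Subgroup.zpowers_eq_bot, conj_eq_one_iff] using hx1
    have hC : (Subgroup.centralizer ({x} : Set G)).map (MulAut.conj g).toMonoidHom = Subgroup.centralizer ({x} : Set G) := by
      refine Subgroup.eq_of_le_of_card_ge ?_ (Nat.card_congr ((Subgroup.centralizer ({x} : Set G)).equivMapOfInjective _ (MulAut.conj g).injective).toEquiv).le
      intro c hc
      refine hlc _ (Subgroup.zpowers_le.2 hg) hy1 (Subgroup.centralizer_le_normalizer _ ?_)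
      obtain ⟨d, hd, rfl⟩ := hc
      refine Subgroup.mem_centralizer_iff.2 fun z hz => ?_
      obtain ⟨i, rfl⟩ := Subgroup.mem_zpowers_iff.1 hz
      have hd' : Commute x d := (Subgroup.mem_centralizer_singleton_iff.1 hd).symm
      exact ((hd'.map (MulAut.conj g).toMonoidHom).zpow_left i).eq
    obtain ⟨c, hc, hcg⟩ : ∃ c ∈ Subgroup.centralizer ({x} : Set G),
        c * g ∈ Subgroup.normalizer ((P : Subgroup G) : Set G) := by
      have hle : (P : Subgroup G).map (MulAut.conj g).toMonoidHom ≤ Subgroup.centralizer ({x} : Set G) :=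
        hC ▸ Subgroup.map_mono hPC
      obtain ⟨n, hn, hnT⟩ := CfsgLib.Transfer.exists_conj_le (N := Subgroup.centralizer ({x} : Set G))
        P.isPGroup' (fun h => P.not_dvd_index (h.trans (Subgroup.relIndex_dvd_index_of_le hPC))) hle (P.isPGroup'.map _)
      refine ⟨n⁻¹, Subgroup.inv_mem _ hn, CfsgLib.LocalEvenB.mem_normalizer_of_forall fun t ht => ?_⟩
      have := hnT _ ⟨t, ht, rfl⟩
      simpa [mul_assoc] using this
    have h1 := hlc _ le_rfl hPbot hcg
    have h2 : g ∈ Subgroup.centralizer ({x} : Set G) := by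
      simpa using Subgroup.mul_mem _ (Subgroup.inv_mem _ hc) h1
    exact mul_inv_eq_iff_eq_mul.2 (Subgroup.mem_centralizer_singleton_iff.1 h2)
  · intro nb hnb
    obtain ⟨n, rfl⟩ := QuotientGroup.mk'_surjective N nb
    let q := QuotientGroup.mk' N
    let K : Subgroup G := R.comap q
    let T : Subgroup G := (P : Subgroup G) ⊓ K
    have hNK : N ≤ K := fun z hz => by
      have : q z = 1 := (QuotientGroup.eq_one_iff z).2 hz
      simp [K, this]
    have hKdec : ∀ z ∈ K, ∃ t ∈ T, ∃ m ∈ N, z = t * m := by
      intro z hz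
      obtain ⟨t, ht, htz⟩ := hR hz
      refine ⟨t, ⟨ht, show q t ∈ R by rw [show q t = q z from htz]; exact hz⟩, t⁻¹ * z, ?_, by group⟩
      rw [← QuotientGroup.eq]
      exact htz
    have hTne : T ≠ ⊥ := by
      intro hT
      refine hR1 ((Subgroup.eq_bot_iff_forall _).2 fun r hr => ?_)
      obtain ⟨t, ht, htr⟩ := hR hr
      have : t ∈ T := ⟨ht, show q t ∈ R from htr ▸ hr⟩
      rw [hT, Subgroup.mem_bot] at this
      rw [← htr, this, map_one]
    have hsup : T ⊔ N = K := le_antisymm (sup_le inf_le_right hNK) fun z hz => by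
      obtain ⟨t, ht, m, hm, rfl⟩ := hKdec z hz
      exact Subgroup.mul_mem_sup ht hm
    have hidx : ¬ p ∣ T.relIndex K := by
      have h1 : (P : Subgroup G).relIndex ((P : Subgroup G) ⊔ N) = T.relIndex K ∨ T.relIndex K ∣ (P : Subgroup G).relIndex ((P : Subgroup G) ⊔ N) := by
        right
        have key : ∀ A : Subgroup G, Nat.card A * A.relIndex (A ⊔ N) * Nat.card ↥(A ⊓ N) = Nat.card A * Nat.card N := by
          intro A
          have e1 : Nat.card A * A.relIndex (A ⊔ N) = Nat.card N * N.relIndex A := by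
            rw [← Subgroup.relIndex_bot_left A, ← Subgroup.relIndex_bot_left N, ← Subgroup.relIndex_sup_right A N,
              Subgroup.relIndex_mul_relIndex _ _ _ bot_le le_sup_left,
              Subgroup.relIndex_mul_relIndex _ _ _ bot_le le_sup_right]
          have e2 : Nat.card ↥(A ⊓ N) * N.relIndex A = Nat.card A := by
            rw [← Subgroup.inf_relIndex_left A N, ← Subgroup.relIndex_bot_left (A ⊓ N),
              Subgroup.relIndex_mul_relIndex _ _ _ bot_le inf_le_left, Subgroup.relIndex_bot_left]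
          rw [e1]
          calc Nat.card N * N.relIndex A * Nat.card ↥(A ⊓ N) = Nat.card N * (Nat.card ↥(A ⊓ N) * N.relIndex A) := by ring
            _ = Nat.card A * Nat.card N := by rw [e2, mul_comm]
        have hT' : T ⊓ N = (P : Subgroup G) ⊓ N := by
          simp only [T, inf_assoc, inf_eq_right.2 hNK]
        have k1 := key T
        have k2 := key (P : Subgroup G)
        rw [mul_assoc] at k1 k2
        have k1' := Nat.eq_of_mul_eq_mul_left Nat.card_pos k1
        have k2' := Nat.eq_of_mul_eq_mul_left Nat.card_pos k2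
        rw [hT', hsup] at k1'
        exact dvd_of_eq (Nat.eq_of_mul_eq_mul_right Nat.card_pos (k1'.trans k2'.symm))
      intro hd
      refine P.not_dvd_index (?_ : p ∣ (P : Subgroup G).index)
      rcases h1 with h | h
      · exact (h ▸ hd).trans (Subgroup.relIndex_dvd_index_of_le le_sup_left)
      · exact (hd.trans h).trans (Subgroup.relIndex_dvd_index_of_le le_sup_left)
    have hTp : IsPGroup p T := P.isPGroup'.to_le inf_le_left
    have hle : T.map (MulAut.conj n).toMonoidHom ≤ K := by
      rintro _ ⟨t, ht, rfl⟩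
      simpa [K, q] using (Subgroup.mem_normalizer_iff.1 hnb (q t)).1 ht.2
    obtain ⟨k, hk, hkT⟩ := CfsgLib.Transfer.exists_conj_le hTp hidx hle (hTp.map _)
    have hkn : k⁻¹ * n ∈ Subgroup.normalizer (T : Set G) :=
      CfsgLib.LocalEvenB.mem_normalizer_of_forall fun t ht => by
        simpa [mul_assoc] using hkT _ ⟨t, ht, rfl⟩
    have h1 := Subgroup.mem_centralizer_singleton_iff.1 (hlc T inf_le_left hTne hkn)
    obtain ⟨t, ht, m, hm, rfl⟩ := hKdec k hk
    have h2 := Subgroup.mem_centralizer_singleton_iff.1 (hPC ht.1)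
    rw [Subgroup.mem_centralizer_singleton_iff]
    have hm1 : q m = 1 := (QuotientGroup.eq_one_iff m).2 hm
    have e : q n = q t * q ((t * m)⁻¹ * n) := by simp [hm1]
    have h1' : Commute (q ((t * m)⁻¹ * n)) (q x) := by
      simpa [Commute, SemiconjBy, map_mul] using congrArg q h1
    have h2' : Commute (q t) (q x) := by simpa [Commute, SemiconjBy, map_mul] using congrArg q h2
    change q n * q x = q x * q n
    rw [e]
    exact (h2'.mul_left h1').eq

end Cfsg.Agent.S2998
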