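import Cfsg.Statements.S2999
import Cfsg.Agent.Lib.LocalEven.OffenderSL2Main
import Cfsg.Agent.Lib.PLocal.Offender

set_option autoImplicit false
open Cfsg

namespace Cfsg.Agent.S2999

/-- Let p be a prime and let P and V be subgroups of a finite group with V elementary abelian, P normalizing V and acting faithfully on it (P ∩ C(V) = 1). Suppose P is p-minimal (a Sylow p-subgroup T of P is not normal and lies in a unique maximal subgroup M of P) and A ≤ T is an elementary abelian subgroup such that: |V/C_V(A)| ≤ |A| while |A₀|·|C_V(A₀)| < |A|·|C_V(A)| for every nontrivial proper subgroup A₀ of A; [C_V(T), P] ≠ 1; and P = ⟨A, xAx⁻¹⟩ for every x ∈ P outside M. Then, with q = |A|, there is a field F with q elements such that P ≅ SL₂(F), C_V(A) = [V, A]·C_V(P), and P acts on V/C_V(P) as SL₂(F) on its natural two-dimensional module. -/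
theorem result {G : Type*} [Group G] [Finite G] {p : ℕ} [Fact p.Prime] (V P : Subgroup G) (hV : Cfsg.IsElementaryAbelian p V) (hPV : P ≤ Subgroup.normalizer (V : Set G)) (hfaith : P ⊓ Subgroup.centralizer (V : Set G) = ⊥) (hmin : Cfsg.IsPMinimal p ↥P) (T : Sylow p ↥P) (M : Subgroup ↥P) (hM : IsCoatom M) (hTM : (T : Subgroup ↥P) ≤ M) (A : Subgroup G) (hAT : A ≤ ((T : Subgroup ↥P).map P.subtype)) (hAel : Cfsg.IsElementaryAbelian p A) (hi : Nat.card ↥V ≤ Nat.card ↥A * Nat.card ↥(V ⊓ Subgroup.centralizer ((A : Subgroup G) : Set G)) ∧ ∀ A₀ : Subgroup G, A₀ ≤ A → A₀ ≠ ⊥ → A₀ ≠ A → Nat.card ↥A₀ * Nat.card ↥(V ⊓ Subgroup.centralizer ((A₀ : Subgroup G) : Set G)) < Nat.card ↥A * Nat.card ↥(V ⊓ Subgroup.centralizer ((A : Subgroup G) : Set G))) (hii : ⁅(V ⊓ Subgroup.centralizer ((((T : Subgroup ↥P).map P.subtype) : Subgroup G) : Set G)), P⁆ ≠ ⊥) (hiii : ∀ x : ↥P, x ∉ M → A ⊔ A.map (MulAut.conj (x : G)).toMonoidHom = P) : ∃ (F : Type) (_ : Field F) (_ : Fintype F), Fintype.card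 F = Nat.card ↥A ∧ Nonempty (↥P ≃* Matrix.SpecialLinearGroup (Fin 2) F) ∧ (V ⊓ Subgroup.centralizer ((A : Subgroup G) : Set G)) = ⁅V, A⁆ ⊔ (V ⊓ Subgroup.centralizer ((P : Subgroup G) : Set G)) ∧ Cfsg.ActsAsSL2OnSection F ⊤ P V (V ⊓ Subgroup.centralizer ((P : Subgroup G) : Set G)) := by
  open scoped commutatorElement in
  classical
  haveI hVcomm := hV.1
  letI : CommGroup ↥V := { (inferInstance : Group ↥V) with mul_comm := fun a b => mul_comm' a b }
  obtain ⟨act, hact⟩ : ∃ act : ↥P →* AddMonoid.End (Additive ↥V), ∀ (g : ↥P) (v : Additive ↥V),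
      ((Additive.toMul (act g v) : ↥V) : G) = (g : G) * (Additive.toMul v : ↥V) * (g : G)⁻¹ :=
    ⟨{ toFun := fun g => MonoidHom.toAdditive (V.normalizerMonoidHom ⟨g, hPV g.2⟩).toMonoidHom
       map_one' := AddMonoidHom.ext fun v => Subtype.ext (show (1 : G) * ((Additive.toMul v : ↥V) : G) * (1 : G)⁻¹ = ((Additive.toMul v : ↥V) : G) by simp)
       map_mul' := fun g k => AddMonoidHom.ext fun v => Subtype.ext (by
         show ((g : G) * k) * _ * ((g : G) * k)⁻¹ = (g : G) * ((k : G) * _ * (k : G)⁻¹) * (g : G)⁻¹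
         group) }, fun g v => rfl⟩
  have hfix : ∀ (S : Subgroup ↥P) (v : Additive ↥V), v ∈ CfsgLib.LocalEven.OffSL2.fix act S ↔
      ((Additive.toMul v : ↥V) : G) ∈ Subgroup.centralizer ((S.map P.subtype : Subgroup G) : Set G) := by
    intro S v
    rw [Subgroup.mem_centralizer_iff]
    constructor
    · rintro h _ ⟨a, ha, rfl⟩
      have h2 := hact a v
      rw [h a ha] at h2
      exact (eq_mul_inv_iff_mul_eq.1 h2).symm
    · intro h a ha
      refine Additive.toMul.injective (Subtype.ext ((hact a v).trans ?_))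
      rw [mul_inv_eq_iff_eq_mul]
      exact h _ ⟨a, ha, rfl⟩
  have hcardfix : ∀ S : Subgroup ↥P, Nat.card (CfsgLib.LocalEven.OffSL2.fix act S) =
      Nat.card ↥(V ⊓ Subgroup.centralizer ((S.map P.subtype : Subgroup G) : Set G)) := fun S => Nat.card_congr
    { toFun := fun v => ⟨((Additive.toMul (v : Additive ↥V) : ↥V) : G), (Additive.toMul (v : Additive ↥V)).2,
        (hfix S v).1 v.2⟩
      invFun := fun v => ⟨Additive.ofMul ⟨(v : G), v.2.1⟩, (hfix S _).2 v.2.2⟩
      left_inv := fun v => rfl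
      right_inv := fun v => rfl }
  have hAP : A ≤ P := hAT.trans (Subgroup.map_subtype_le _)
  have hmapA : (A.subgroupOf P).map P.subtype = A := Subgroup.map_subgroupOf_eq_of_le hAP
  have hcardA : Nat.card ↥(A.subgroupOf P) = Nat.card ↥A := Nat.card_congr (Subgroup.subgroupOfEquivOfLe hAP).toEquiv
  -- best offender and quadratic action
  have hcardbot : Nat.card ↥(V ⊓ Subgroup.centralizer ((⊥ : Subgroup G) : Set G)) = Nat.card ↥V := by
    rw [inf_eq_left.2 fun v _ => Subgroup.mem_centralizer_iff.2 fun b hb => by simp [Subgroup.mem_bot.1 hb]]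
  have hbest : Cfsg.IsBestOffenderOn p V A := by
    refine ⟨fun B hB => ?_, ?_, fun a ha => by rw [hAel.2 a ha]; exact one_mem _⟩
    · by_cases h0 : B = ⊥
      · subst h0; rw [Subgroup.card_bot, one_mul, hcardbot]; exact hi.1
      by_cases h1 : B = A
      · subst h1; exact le_rfl
      exact (hi.2 B hB h0 h1).le
    · rw [Subgroup.commutator_le]
      intro a ha b hb
      haveI := hAel.1
      rw [commutatorElement_eq_one_iff_mul_comm.2 (congrArg Subtype.val (mul_comm' (⟨a, ha⟩ : A) ⟨b, hb⟩) :)]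
      exact one_mem _
  obtain ⟨y0, hy0, g0, hg0, hne0⟩ : ∃ y ∈ V ⊓ Subgroup.centralizer ((((T : Subgroup ↥P).map P.subtype) : Subgroup G) : Set G),
      ∃ g ∈ P, y * g ≠ g * y := by
    by_contra hcon
    push Not at hcon
    refine hii (Subgroup.commutator_eq_bot_iff_le_centralizer.2 fun y hy => Subgroup.mem_centralizer_iff.2 fun g hg => ?_)
    exact (hcon y hy g hg).symm
  have hVA : ⁅V, A⁆ ≠ ⊥ := by
    intro hbot
    have hAc : A ≤ Subgroup.centralizer (V : Set G) := by
      rw [← Subgroup.commutator_eq_bot_iff_le_centralizer, Subgroup.commutator_comm]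
      exact hbot
    have hA1 : A = ⊥ := le_bot_iff.1 (hfaith ▸ le_inf hAP hAc)
    have hMne : ∃ x : ↥P, x ∉ M := by
      by_contra hc; push Not at hc; exact hM.1 (eq_top_iff.2 fun g _ => hc g)
    obtain ⟨x, hx⟩ := hMne
    have hP := hiii x hx
    rw [hA1, Subgroup.map_bot, bot_sup_eq] at hP
    rw [← hP, Subgroup.mem_bot] at hg0
    exact hne0 (by rw [hg0, mul_one, one_mul])
  have hquadG : A ≤ Subgroup.centralizer ((⁅V, A⁆ : Subgroup G) : Set G) := by
    obtain ⟨h1, h2, h3⟩ := CfsgLib.PLocal.timmesfeld hV (hAP.trans hPV) hbest (le_refl V)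
    obtain ⟨A1, hA1⟩ : ∃ A1, A1 = A ⊓ Subgroup.centralizer ((⁅V, A⁆ : Subgroup G) : Set G) := ⟨_, rfl⟩
    rw [← hA1] at h1 h2 h3
    by_cases h0 : A1 = ⊥
    · exact absurd (by rw [h0, Subgroup.commutator_bot_right]) (h3 hVA)
    by_contra hcon
    have hne : A1 ≠ A := fun e => hcon (by rw [hA1] at e; exact inf_eq_left.1 e)
    have hlt := hi.2 A1 (hA1 ▸ inf_le_left) h0 hne
    have hge : Nat.card ↥A * Nat.card ↥(V ⊓ Subgroup.centralizer ((A : Subgroup G) : Set G)) ≤
        Nat.card ↥A1 * Nat.card ↥(V ⊓ Subgroup.centralizer ((A1 : Subgroup G) : Set G)) := by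
      obtain ⟨k1, -⟩ := CfsgLib.PLocal.thompson_replacement hV.1 (hAP.trans hPV) hbest.2.1 hbest.1 V le_rfl
      rw [← hA1] at k1
      exact k1.ge
    exact absurd hlt (not_lt.2 hge)
  have hquad : ∀ a ∈ A.subgroupOf P, ∀ v, act a v - v ∈ CfsgLib.LocalEven.OffSL2.fix act (A.subgroupOf P) := by
    intro a ha v
    rw [hfix, hmapA, Subgroup.mem_centralizer_iff]
    intro b hb
    have h := Subgroup.mem_centralizer_iff.1 (hquadG hb) ⁅((Additive.toMul v : ↥V) : G)⁻¹, (a : G)⁆
      (Subgroup.commutator_mem_commutator (inv_mem (Additive.toMul v).2) ha)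
    have e : ((Additive.toMul (act a v - v) : ↥V) : G) = ⁅((Additive.toMul v : ↥V) : G)⁻¹, (a : G)⁆ := by
      rw [show Additive.toMul (act a v - v) = (Additive.toMul v)⁻¹ * Additive.toMul (act a v) by
        rw [toMul_sub, div_eq_mul_inv, mul_comm'], Subgroup.coe_mul, hact, commutatorElement_def, InvMemClass.coe_inv, inv_inv]
      group
    rw [e]
    exact h.symm
  have hinj : Function.Injective act := by
    intro g k hgk
    have h1 : (k⁻¹ * g : ↥P).1 ∈ P ⊓ Subgroup.centralizer (V : Set G) := by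
      refine ⟨(k⁻¹ * g : ↥P).2, Subgroup.mem_centralizer_iff.2 fun v hv => ?_⟩
      have h2 := hact (k⁻¹ * g) (Additive.ofMul ⟨v, hv⟩)
      rw [map_mul, hgk, ← map_mul, inv_mul_cancel, map_one] at h2
      exact eq_mul_inv_iff_mul_eq.1 h2
    rw [hfaith, Subgroup.mem_bot] at h1
    exact (inv_mul_eq_one.1 (Subtype.ext h1 : k⁻¹ * g = 1)).symm
  have hyp : CfsgLib.LocalEven.OffSL2.Hyp act T M (A.subgroupOf P) (Additive.ofMul ⟨y0, hy0.1⟩) := by
    refine ⟨hinj, ?_, hTM, hM.1, hquad, ?_, ?_, (hfix _ _).2 hy0.2, ?_, ?_,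
      CfsgLib.LocalEven.OffSL2.core_cond T M hM hTM hmin⟩
    · intro a ha
      obtain ⟨t, ht, hta⟩ := hAT ha
      rwa [← Subtype.ext hta]
    · rw [hcardA, hcardfix, hmapA]
      exact hi.1
    · intro A₀ hA₀ h0 h1
      have h2 := hi.2 (A₀.map P.subtype) ((Subgroup.map_mono hA₀).trans hmapA.le)
        (fun e => h0 ((Subgroup.map_eq_bot_iff_of_injective A₀ P.subtype_injective).1 e))
        (fun e => h1 (Subgroup.map_injective P.subtype_injective (e.trans hmapA.symm)))
      rw [Subgroup.card_map_of_injective P.subtype_injective] at h2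
      rwa [hcardA, hcardfix, hcardfix, hmapA]
    · intro hc
      rw [hfix, ← MonoidHom.range_eq_map, Subgroup.range_subtype] at hc
      exact hne0 (Subgroup.mem_centralizer_iff.1 hc g0 hg0).symm
    · intro x hx
      refine Subgroup.map_injective P.subtype_injective ?_
      rw [Subgroup.map_sup, hmapA, ← MonoidHom.range_eq_map, Subgroup.range_subtype, Subgroup.map_map,
        show P.subtype.comp (MulAut.conj x).toMonoidHom = (MulAut.conj (x : G)).toMonoidHom.comp P.subtype from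
          MonoidHom.ext fun u => rfl, ← Subgroup.map_map, hmapA, hiii x hx]
  obtain ⟨hW, F, i1, i2, ψ, ρ, hcF, hρ, hψ, hψk, hψa⟩ := hyp.natural (fun v => by
    refine Additive.toMul.injective (Subtype.ext ?_)
    rw [toMul_nsmul, SubmonoidClass.coe_pow, hV.2 _ (Additive.toMul v).2]
    rfl)
  refine ⟨F, i1, i2, hcF.trans hcardA, ⟨MulEquiv.ofBijective ρ hρ⟩, ?_, hPV, inf_le_left,
    ρ, ψ.toMultiplicativeRight, ?_, ?_, ?_, ?_⟩
  · refine le_antisymm (fun w hw => ?_) (sup_le (le_inf ?_ ?_) (inf_le_inf_left V (Subgroup.centralizer_le hAP)))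
    · obtain ⟨a, ha, x, hz⟩ := hW (Additive.ofMul ⟨w, hw.1⟩) ((hfix _ _).2 (by rw [hmapA]; exact hw.2))
      rw [hfix, ← MonoidHom.range_eq_map, Subgroup.range_subtype] at hz
      have e : w = ((Additive.toMul (act a x - x) : ↥V) : G) *
          ((Additive.toMul (Additive.ofMul (⟨w, hw.1⟩ : ↥V) - (act a x - x)) : ↥V) : G) := by
        rw [← Subgroup.coe_mul, ← toMul_add, add_sub_cancel, toMul_ofMul]
      rw [e]
      refine Subgroup.mul_mem_sup ?_ ⟨SetLike.coe_mem _, hz⟩
      rw [show Additive.toMul (act a x - x) = (Additive.toMul x)⁻¹ * Additive.toMul (act a x) by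
        rw [toMul_sub, div_eq_mul_inv, mul_comm'], Subgroup.coe_mul, hact, InvMemClass.coe_inv]
      rw [show ((Additive.toMul x : ↥V) : G)⁻¹ * ((a : G) * (Additive.toMul x : ↥V) * (a : G)⁻¹) =
        ⁅((Additive.toMul x : ↥V) : G)⁻¹, (a : G)⁆ by rw [commutatorElement_def, inv_inv]; group]
      exact Subgroup.commutator_mem_commutator (inv_mem (Additive.toMul x).2) ha
    · exact CfsgLib.PLocal.commutator_le_of_le_normalizer (hAP.trans hPV) le_rfl
    · exact Subgroup.le_centralizer_iff.1 hquadG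
  · exact MonoidHom.range_eq_top.2 hρ.2
  · intro v
    obtain ⟨u, hu⟩ := hψ (Multiplicative.toAdd v)
    exact ⟨Additive.toMul u, congrArg Multiplicative.ofAdd hu⟩
  · intro u
    refine (hψk (Additive.ofMul u)).trans ((hfix _ _).trans ?_)
    rw [← MonoidHom.range_eq_map, Subgroup.range_subtype]
    exact ⟨fun h => ⟨u.2, h⟩, fun h => h.2⟩
  · intro e u
    exact ⟨Additive.toMul (act e (Additive.ofMul u)), hact e _, hψa e _⟩

end Cfsg.Agent.S2999
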