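import Cfsg.Statements.S3000
import Cfsg.Agent.Lib.LocalEven.PMinFF.Ambient
import Cfsg.Agent.Lib.LocalEven.PMinimalCore

set_option autoImplicit false
open Cfsg CfsgLib.LocalEven

namespace Cfsg.Agent.S3000

/-- Let p be a prime and let P and V be subgroups of a finite group with V elementary abelian, P normalizing V and acting faithfully on it (P ∩ C(V) = 1). Suppose P is p-minimal (a Sylow p-subgroup T of P is not normal and lies in a unique maximal subgroup M of P), O_p(P) = 1, C_P(C_V(T)) ≤ M, and P has a best offender on V: a subgroup A not centralizing V, with A/C_A(V) elementary abelian, such that |B|·|C_V(B)| ≤ |A|·|C_V(A)| for every subgroup B of A. Then there are subgroups E₁, …, E_r of P (r ≥ 1), pairwise commuting and forming with T a product P = (E₁ × ⋯ × E_r)T (internal direct product of the E_i), any two of which are conjugate by an element of T, such that V = C_V(E₁⋯E_r)·∏[V, E_i] with [V, E_i, E_j] = 1 for i ≠ j, and for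 each i there is n ≥ 1 with either E_i ≅ SL₂(pⁿ) acting on [V, E_i]/C_{[V,E_i]}(E_i) as on its natural two-dimensional module, or p = 2 and E_i isomorphic to the symmetric group of degree 2ⁿ + 1 acting on [V, E_i]/C_{[V,E_i]}(E_i) as on its even-weight permutation module. -/
theorem result {G : Type*} [Group G] [Finite G] {p : ℕ} [Fact p.Prime] (V P : Subgroup G) (hV : Cfsg.IsElementaryAbelian p V) (hPV : P ≤ Subgroup.normalizer (V : Set G)) (hfaith : P ⊓ Subgroup.centralizer (V : Set G) = ⊥) (hmin : Cfsg.IsPMinimal p ↥P) (T : Sylow p ↥P) (M : Subgroup ↥P) (hM : IsCoatom M) (hTM : (T : Subgroup ↥P) ≤ M) (hOp : Cfsg.pCore p ↥P = ⊥) (hoff : ∃ A : Subgroup G, A ≤ P ∧ ¬ A ≤ Subgroup.centralizer (V : Set G) ∧ Cfsg.IsBestOffenderOn p V A) (hCT : P ⊓ Subgroup.centralizer ((V ⊓ Subgroup.centralizer ((((T : Subgroup ↥P).map P.subtype) : Subgroup G) : Set G)) : Set G) ≤ M.map P.subtype) : ∃ (r : ℕ) (E : Fin r → Subgroup G), 1 ≤ r ∧ (∀ i, E i ≤ P)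 ∧ (∀ i j, i ≠ j → ⁅E i, E j⁆ = ⊥) ∧ (∀ i, E i ⊓ (⨆ j ∈ {j | j ≠ i}, E j) = ⊥) ∧ (⨆ i, E i) ⊔ ((T : Subgroup ↥P).map P.subtype) = P ∧ (∀ i j, ∃ t ∈ ((T : Subgroup ↥P).map P.subtype), (E i).map (MulAut.conj t).toMonoidHom = E j) ∧ (V ⊓ Subgroup.centralizer (((⨆ i, E i) : Subgroup G) : Set G)) ⊔ (⨆ i, ⁅V, E i⁆) = V ∧ (∀ i j, i ≠ j → ⁅⁅V, E i⁆, E j⁆ = ⊥) ∧ ∀ i, ∃ n : ℕ, 1 ≤ n ∧ ((∃ (F : Type) (_ : Field F) (_ : Fintype F), Fintype.card F = p ^ n ∧ Nonempty (↥(E i) ≃* Matrix.SpecialLinearGroup (Fin 2) F) ∧ Cfsg.ActsAsSL2OnSection F ⊤ (E i) ⁅V, E i⁆ (⁅V, E i⁆ ⊓ Subgroup.centralizer ((E i : Subgroup G) : Set G))) ∨ (p = 2 ∧ Nonempty (↥(E i) ≃* Equiv.Perm (Fin (2 ^ n + 1))) ∧ Cfsg.ActsAsOddPermModuleOnSection (2 ^ n + 1) ⊤ (E i) ⁅V, E i⁆ (⁅V, E i⁆ ⊓ Subgroup.centralizer ((E i : Subgroup G) : Set G)))) := by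
  classical
  haveI := hV.1
  letI : CommGroup ↥V := { (inferInstance : Group ↥V) with mul_comm := fun a b => mul_comm' a b }
  obtain ⟨act, hact⟩ : ∃ act : ↥P →* AddMonoid.End (Additive ↥V), ∀ (g : ↥P) (v : Additive ↥V),
      ((Additive.toMul (act g v) : ↥V) : G) = (g : G) * (Additive.toMul v : ↥V) * (g : G)⁻¹ :=
    ⟨{ toFun := fun g => MonoidHom.toAdditive (V.normalizerMonoidHom ⟨g, hPV g.2⟩).toMonoidHom
       map_one' := AddMonoidHom.ext fun v => Subtype.ext (show (1 : G) * ((Additive.toMul v : ↥V) : G) * (1 : G)⁻¹ = ((Additive.toMul v : ↥V) : G) by simp)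
       map_mul' := fun g k => AddMonoidHom.ext fun v => Subtype.ext (by
         show ((g : G) * k) * _ * ((g : G) * k)⁻¹ = (g : G) * ((k : G) * _ * (k : G)⁻¹) * (g : G)⁻¹
         group) }, fun g v => rfl⟩
  have hcomp : ∀ S : Subgroup ↥P, PMinFF.Compat act S (S.map P.subtype)
      (S.equivMapOfInjective P.subtype P.subtype_injective).symm.toMonoidHom := by
    intro S
    refine ⟨(S.equivMapOfInjective P.subtype P.subtype_injective).symm.surjective, fun x v => ?_⟩
    rw [hact]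
    have hx : (((S.equivMapOfInjective P.subtype P.subtype_injective).symm x : ↥P) : G) = (x : G) := by
      conv_rhs => rw [← (S.equivMapOfInjective P.subtype P.subtype_injective).apply_symm_apply x]
      rfl
    rw [← hx]
    rfl
  have hinj : Function.Injective act := by
    intro g k hgk
    have h1 : (k⁻¹ * g : ↥P).1 ∈ P ⊓ Subgroup.centralizer (V : Set G) := by
      refine ⟨(k⁻¹ * g : ↥P).2, Subgroup.mem_centralizer_iff.2 fun v hv => ?_⟩
      have h2 := hact (k⁻¹ * g) (Additive.ofMul ⟨v, hv⟩)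
      rw [map_mul, hgk, ← map_mul, inv_mul_cancel, map_one] at h2
      exact eq_mul_inv_iff_mul_eq.1 h2
    rw [hfaith, Subgroup.mem_bot] at h1
    exact (inv_mul_eq_one.1 (Subtype.ext h1)).symm
  have hpU : ∀ v : Additive ↥V, p • v = 0 := fun v => by
    refine Additive.toMul.injective (Subtype.ext ?_)
    rw [toMul_nsmul, SubmonoidClass.coe_pow, hV.2 _ (Additive.toMul v).2]
    rfl
  obtain ⟨y, hy, hy1⟩ : ∃ y ∈ OffSL2.fix act (T : Subgroup ↥P), ∃ g : ↥P, act g y ≠ y := by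
    by_contra hall
    push Not at hall
    refine hM.1 (top_le_iff.1 fun g _ => ?_)
    have hg : (g : G) ∈ P ⊓ Subgroup.centralizer ((V ⊓ Subgroup.centralizer ((((T : Subgroup ↥P).map P.subtype) : Subgroup G) : Set G)) : Set G) := by
      refine ⟨g.2, Subgroup.mem_centralizer_iff.2 fun v hv => ?_⟩
      have h := hall (Additive.ofMul ⟨v, hv.1⟩) (((hcomp (T : Subgroup ↥P)).mem_fix _).2 hv.2) g
      have h2 := hact g (Additive.ofMul ⟨v, hv.1⟩)
      rw [h] at h2
      exact eq_mul_inv_iff_mul_eq.1 h2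
    obtain ⟨m, hm, hmg⟩ := hCT hg
    exact (Subtype.ext hmg : m = g) ▸ hm
  have hP : PMinFF.PMod p act (T : Subgroup ↥P) M y :=
    { inj := hinj
      hpU := hpU
      syl := PMinFF.MaxP.of_sylow T le_top
      pmin := fun X hX hne => PMinimalCore.le_of_sylow_le hmin T hM hTM hX hne
      TM := hTM
      Mne := hM.1
      nop := fun N hN hn => le_bot_iff.1 (by
        haveI : N.Normal := ⟨fun n hn' g => hn g n hn'⟩
        rw [← hOp]; exact CfsgLib.Core.le_pCore hN)
      hy := hy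
      stab := PMinimalCore.le_of_sylow_le hmin T hM hTM (fun t ht => hy t ht) (fun e => by
        obtain ⟨g, hg⟩ := hy1
        exact hg (e.ge (Subgroup.mem_top g))) }
  obtain ⟨A, hAP, hAV, hbest, hAA, hAp⟩ := hoff
  obtain ⟨A', hA'⟩ : ∃ A', A' = A.subgroupOf P := ⟨_, rfl⟩
  have htriv : ∀ g : ↥P, (g : G) ∈ Subgroup.centralizer (V : Set G) → g = 1 := fun g hg =>
    Subtype.ext ((Subgroup.mem_bot).1 (hfaith ▸ ⟨g.2, hg⟩))
  have hA'el : PMinFF.El p A' := by
    rw [hA']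
    constructor
    · intro a ha b hb
      rw [← commutatorElement_eq_one_iff_mul_comm]
      exact htriv _ (hAA (Subgroup.commutator_mem_commutator (Subgroup.mem_subgroupOf.1 ha) (Subgroup.mem_subgroupOf.1 hb)))
    · intro a ha
      exact htriv _ (hAp _ (Subgroup.mem_subgroupOf.1 ha))
  have hmapA : A'.map P.subtype = A := hA' ▸ Subgroup.map_subgroupOf_eq_of_le hAP
  have hA'ne : A' ≠ ⊥ := fun e => hAV (by rw [← hmapA, e, Subgroup.map_bot]; exact bot_le)
  have hmeas : Nat.card (Additive ↥V) ≤ PMinFF.meas act A' := by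
    have h := hbest ⊥ bot_le
    rw [Subgroup.card_bot, one_mul, inf_eq_left.2 fun v _ => Subgroup.mem_centralizer_iff.2 fun b hb => by
      simp [Subgroup.mem_bot.1 hb]] at h
    have hcard : Nat.card (OffSL2.fix act A') = Nat.card ↥(V ⊓ Subgroup.centralizer (A : Set G)) := by
      rw [← hmapA]
      exact Nat.card_congr
        { toFun := fun v => ⟨((Additive.toMul (v : Additive ↥V) : ↥V) : G), (Additive.toMul (v : Additive ↥V)).2,
            ((hcomp A').mem_fix v).1 v.2⟩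
          invFun := fun v => ⟨Additive.ofMul ⟨(v : G), v.2.1⟩, ((hcomp A').mem_fix _).2 v.2.2⟩
          left_inv := fun v => rfl
          right_inv := fun v => rfl }
    rw [PMinFF.meas, hcard, hA', Nat.card_congr (Subgroup.subgroupOfEquivOfLe hAP).toEquiv]
    exact (Nat.card_congr Additive.toMul).le.trans h
  obtain ⟨r, E, hr, hcomm, hinf, hsup, hconj, hdec, himg, hcov, hnat⟩ :=
    PMinFF.structure_theorem hP ⟨hA'el, le_antisymm (PMinFF.meas_le_card hP hA'el) hmeas⟩ hA'ne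
  refine ⟨r, fun i => (E i).map P.subtype, hr, fun i => Subgroup.map_subtype_le _, fun i j hij => ?_, fun i => ?_,
    ?_, fun i j => ?_, ?_, fun i j hij => ?_, fun i => ?_⟩
  · rw [Subgroup.commutator_eq_bot_iff_le_centralizer]
    rintro _ ⟨a, ha, rfl⟩
    rw [Subgroup.mem_centralizer_iff]
    rintro _ ⟨b, hb, rfl⟩
    exact congrArg P.subtype (hcomm j i (Ne.symm hij) b hb a ha)
  · simp only [← Subgroup.map_iSup]
    rw [← Subgroup.map_inf _ _ _ P.subtype_injective, hinf, Subgroup.map_bot]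
  · rw [← Subgroup.map_iSup, ← Subgroup.map_sup, hsup, ← MonoidHom.range_eq_map, Subgroup.range_subtype]
  · obtain ⟨t, ht, he⟩ := hconj i j
    refine ⟨(t : G), ⟨t, ht, rfl⟩, ?_⟩
    simp only [← he, PMinFF.cj, Subgroup.map_map]
    rfl
  · refine le_antisymm (sup_le inf_le_left (iSup_le fun i => (hcomp (E i)).commutator_le)) fun v hv => ?_
    obtain ⟨w, hw, hvw⟩ := hdec (Additive.ofMul ⟨v, hv⟩)
    rw [show v = ((Additive.toMul (Additive.ofMul (⟨v, hv⟩ : ↥V) - w) : ↥V) : G) * ((Additive.toMul w : ↥V) : G) by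
      rw [← Subgroup.coe_mul, ← toMul_add, sub_add_cancel]; rfl]
    refine Subgroup.mul_mem_sup ⟨SetLike.coe_mem _, ?_⟩ ?_
    · show _ ∈ Subgroup.centralizer _
      rw [← Subgroup.map_iSup]
      refine ((hcomp (⨆ i, E i)).mem_fix _).1 ?_
      exact fun e he => (iSup_le fun i x hx => hvw i x hx : (⨆ i, E i) ≤ OffSL2.stabV act _) he
    · exact (iSup_le fun i a ha => Subgroup.mem_iSup_of_mem i ((hcomp (E i)).mem_commutator.2 ⟨a, ha, rfl⟩) :
        (⨆ i, PMinFF.img act (E i)) ≤ (Subgroup.comap V.subtype (⨆ i, ⁅V, (E i).map P.subtype⁆)).toAddSubgroup) hw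
  · rw [Subgroup.commutator_eq_bot_iff_le_centralizer]
    intro u hu
    obtain ⟨a, ha, rfl⟩ := (hcomp (E i)).mem_commutator.1 hu
    exact ((hcomp (E j)).mem_fix a).1 (himg i j hij ha)
  · obtain ⟨n, hn, h⟩ := hnat i
    refine ⟨n, hn, ?_⟩
    rcases h with ⟨F, iF, iFF, ψ, ρ, hc, hρ, hψ, hker, heq⟩ | ⟨hp2, ρ, ψ, hρ, hsum, hsurj, hker, heq⟩
    · exact Or.inl ⟨F, iF, iFF, hc, ⟨((E i).equivMapOfInjective P.subtype P.subtype_injective).symm.trans
        (MulEquiv.ofBijective ρ hρ)⟩, (hcomp (E i)).actsSL2 ψ ρ hρ.2 hψ hker heq (hcov i)⟩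
    · exact Or.inr ⟨hp2, ⟨((E i).equivMapOfInjective P.subtype P.subtype_injective).symm.trans
        (MulEquiv.ofBijective ρ hρ)⟩, (hcomp (E i)).actsPerm ψ ρ hρ.2 hsum hsurj hker heq (hcov i)⟩

end Cfsg.Agent.S3000
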