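import Cfsg.Statements.S3001
import Cfsg.Agent.Lib.LocalEven.PMinFF.Lift
import Cfsg.Agent.Lib.LocalEven.PMinimalCore
-- import your own Cfsg.Agent.* helpers here

set_option autoImplicit false
open Cfsg CfsgLib.LocalEven

namespace Cfsg.Agent.S3001

/-- Let p be a prime and let P and V be subgroups of a finite group with V elementary abelian, P normalizing V and acting faithfully on it (P ∩ C(V) = 1). Suppose P is p-minimal (a Sylow p-subgroup is not normal and lies in a unique maximal subgroup), O_p(P) = 1, and P has a best offender on V (a subgroup A not centralizing V, with A/C_A(V) elementary abelian and |B|·|C_V(B)| ≤ |A|·|C_V(A)| for every B ≤ A). Then [C_V(T), P] ≠ 1 for every Sylow p-subgroup T of P. -/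
theorem result {G : Type*} [Group G] [Finite G] {p : ℕ} [Fact p.Prime] (V P : Subgroup G) (hV : Cfsg.IsElementaryAbelian p V) (hPV : P ≤ Subgroup.normalizer (V : Set G)) (hfaith : P ⊓ Subgroup.centralizer (V : Set G) = ⊥) (hmin : Cfsg.IsPMinimal p ↥P) (hOp : Cfsg.pCore p ↥P = ⊥) (hoff : ∃ A : Subgroup G, A ≤ P ∧ ¬ A ≤ Subgroup.centralizer (V : Set G) ∧ Cfsg.IsBestOffenderOn p V A) (T : Sylow p ↥P) : ⁅(V ⊓ Subgroup.centralizer ((((T : Subgroup ↥P).map P.subtype) : Subgroup G) : Set G)), P⁆ ≠ ⊥ := by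
  open scoped commutatorElement in
  classical
  haveI := hV.1
  letI : CommGroup ↥V := { (inferInstance : Group ↥V) with mul_comm := fun a b => mul_comm' a b }
  obtain ⟨actV, hact⟩ : ∃ act : ↥P →* AddMonoid.End (Additive ↥V), ∀ (g : ↥P) (v : Additive ↥V),
      ((Additive.toMul (act g v) : ↥V) : G) = (g : G) * (Additive.toMul v : ↥V) * (g : G)⁻¹ :=
    ⟨{ toFun := fun g => MonoidHom.toAdditive (V.normalizerMonoidHom ⟨g, hPV g.2⟩).toMonoidHom
       map_one' := AddMonoidHom.ext fun v => Subtype.ext (show (1 : G) * ((Additive.toMul v : ↥V) : G) * (1 : G)⁻¹ = ((Additive.toMul v : ↥V) : G) by simp)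
       map_mul' := fun g k => AddMonoidHom.ext fun v => Subtype.ext (by
         show ((g : G) * k) * _ * ((g : G) * k)⁻¹ = (g : G) * ((k : G) * _ * (k : G)⁻¹) * (g : G)⁻¹
         group) }, fun g v => rfl⟩
  have hfix : ∀ (S : Subgroup ↥P) (v : Additive ↥V), v ∈ OffSL2.fix actV S ↔
      ((Additive.toMul v : ↥V) : G) ∈ Subgroup.centralizer ((S.map P.subtype : Subgroup G) : Set G) := by
    intro S v
    rw [Subgroup.mem_centralizer_iff]
    constructor
    · rintro h _ ⟨a, ha, rfl⟩
      have h2 := hact a v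
      rw [h a ha] at h2
      exact (eq_mul_inv_iff_mul_eq.1 h2).symm
    · intro h a ha
      refine Additive.toMul.injective (Subtype.ext ((hact a v).trans ?_))
      rw [mul_inv_eq_iff_eq_mul]
      exact h _ ⟨a, ha, rfl⟩
  have hinjV : Function.Injective actV := by
    intro g k hgk
    have h1 : (k⁻¹ * g : ↥P).1 ∈ P ⊓ Subgroup.centralizer (V : Set G) := by
      refine ⟨(k⁻¹ * g : ↥P).2, Subgroup.mem_centralizer_iff.2 fun v hv => ?_⟩
      have h2 := hact (k⁻¹ * g) (Additive.ofMul ⟨v, hv⟩)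
      rw [map_mul, hgk, ← map_mul, inv_mul_cancel, map_one] at h2
      exact eq_mul_inv_iff_mul_eq.1 h2
    rw [hfaith, Subgroup.mem_bot] at h1
    exact (inv_mul_eq_one.1 (Subtype.ext h1)).symm
  have hpV : ∀ v : Additive ↥V, p • v = 0 := fun v => by
    refine Additive.toMul.injective (Subtype.ext ?_)
    rw [toMul_nsmul, SubmonoidClass.coe_pow, hV.2 _ (Additive.toMul v).2]
    rfl
  obtain ⟨-, M, ⟨hM, hTM⟩, -⟩ := hmin T
  -- the subgroup generated by the elements of order prime to `p`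
  obtain ⟨R, hR⟩ : ∃ R : Subgroup ↥P, R = Subgroup.closure {g : ↥P | (orderOf g).Coprime p} := ⟨_, rfl⟩
  obtain ⟨F, hF⟩ : ∃ F, F = OffSL2.fix actV R := ⟨_, rfl⟩
  have hFinv : ∀ g : ↥P, ∀ f ∈ F, actV g f ∈ F := by
    intro g f hf
    rw [hF] at hf ⊢
    intro r hr
    refine (?_ : R ≤ OffSL2.stabV actV (actV g f)) hr
    rw [hR, Subgroup.closure_le]
    intro s hs
    show actV s (actV g f) = actV g f
    have hmem : g⁻¹ * s * g ∈ R := by
      rw [hR]
      refine Subgroup.subset_closure ?_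
      show (orderOf (g⁻¹ * s * g)).Coprime p
      rwa [show g⁻¹ * s * g = MulAut.conj g⁻¹ s by simp, MulEquiv.orderOf_eq]
    rw [← OffSL2.act_mul, show s * g = g * (g⁻¹ * s * g) by group, OffSL2.act_mul, hf _ hmem]
  have hrfix : ∀ r : ↥P, (orderOf r).Coprime p → ∀ v : Additive ↥V, actV r v - v ∈ F → actV r v = v := by
    intro r hr v hv
    have hrR : r ∈ R := hR ▸ Subgroup.subset_closure hr
    obtain ⟨d, hd⟩ : ∃ d, d = actV r v - v := ⟨_, rfl⟩
    rw [← hd, hF] at hv
    have hstep : ∀ i : ℕ, actV (r ^ i) v = v + i • d := by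
      intro i
      induction i with
      | zero => rw [pow_zero, OffSL2.act_one, zero_smul, add_zero]
      | succ i ih =>
        rw [pow_succ', OffSL2.act_mul, ih, map_add, map_nsmul, hv r hrR, succ_nsmul, eq_add_of_sub_eq hd.symm]
        abel
    have h1 := hstep (orderOf r)
    rw [pow_orderOf_eq_one, OffSL2.act_one, left_eq_add] at h1
    have h2 : addOrderOf d ∣ Nat.gcd (orderOf r) p :=
      Nat.dvd_gcd (addOrderOf_dvd_of_nsmul_eq_zero h1) (addOrderOf_dvd_of_nsmul_eq_zero (hpV d))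
    rw [Nat.Coprime.gcd_eq_one hr, Nat.dvd_one, AddMonoid.addOrderOf_eq_one_iff] at h2
    exact sub_eq_zero.1 (hd.symm.trans h2)
  obtain ⟨π, hπ⟩ : ∃ π : Additive ↥V →+ (Additive ↥V ⧸ F), π = QuotientAddGroup.mk' F := ⟨_, rfl⟩
  have hπ0 : ∀ v, π v = 0 ↔ v ∈ F := fun v => by rw [hπ]; exact QuotientAddGroup.eq_zero_iff v
  have hπs : Function.Surjective π := hπ ▸ QuotientAddGroup.mk'_surjective F
  obtain ⟨act, hequiv⟩ : ∃ act : ↥P →* AddMonoid.End (Additive ↥V ⧸ F), ∀ g v, π (actV g v) = act g (π v) := by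
    subst hπ
    refine ⟨{ toFun := fun g => QuotientAddGroup.map F F (actV g) fun f hf => hFinv g f hf
              map_one' := AddMonoidHom.ext fun q => ?_
              map_mul' := fun g k => AddMonoidHom.ext fun q => ?_ }, fun g v => rfl⟩
    · induction q using QuotientAddGroup.induction_on with
      | _ v => exact congrArg (QuotientAddGroup.mk' F) (OffSL2.act_one actV v)
    · induction q using QuotientAddGroup.induction_on with
      | _ v => exact congrArg (QuotientAddGroup.mk' F) (OffSL2.act_mul actV g k v)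
  have hlift : PMinFF.Lift p actV act π := ⟨hπs, hequiv, hpV, hinjV⟩
  have hpU : ∀ u, p • u = (0 : Additive ↥V ⧸ F) := fun u => by
    obtain ⟨v, rfl⟩ := hπs u
    rw [← map_nsmul, hpV, map_zero]
  -- the kernel of the action on the quotient is a `p`-group
  have hinj : Function.Injective act := by
    obtain ⟨K, hK⟩ : ∃ K, K = act.ker := ⟨_, rfl⟩
    haveI : K.Normal := hK ▸ inferInstance
    have hKp : IsPGroup p K := by
      rintro ⟨g, hg⟩
      obtain ⟨k, m, hm, hn⟩ := Nat.exists_eq_pow_mul_and_not_dvd (orderOf_pos g).ne' p (Fact.out : p.Prime).ne_one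
      refine ⟨k, Subtype.ext ?_⟩
      show g ^ p ^ k = 1
      have hr : (orderOf (g ^ p ^ k)).Coprime p := by
        rw [orderOf_pow' g (pow_ne_zero _ (Fact.out : p.Prime).ne_zero), hn, Nat.gcd_eq_right (dvd_mul_right _ _),
          Nat.mul_div_cancel_left _ (pow_pos (Fact.out : p.Prime).pos _)]
        exact ((Nat.Prime.coprime_iff_not_dvd Fact.out).2 hm).symm
      refine hinjV ((AddMonoidHom.ext fun v => hrfix _ hr v ?_).trans (map_one actV).symm)
      rw [← hπ0, map_sub, hequiv, sub_eq_zero]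
      have h1 : act (g ^ p ^ k) = 1 := by
        rw [map_pow, MonoidHom.mem_ker.1 (hK ▸ hg : g ∈ act.ker), one_pow]
      rw [h1]; rfl
    rw [← MonoidHom.ker_eq_bot_iff, ← hK, ← le_bot_iff, ← hOp]
    exact CfsgLib.Core.le_pCore hKp
  have hne : Nontrivial (Additive ↥V ⧸ F) := by
    by_contra hc
    rw [not_nontrivial_iff_subsingleton] at hc
    have hRbot : ∀ r : ↥P, (orderOf r).Coprime p → r = 1 := fun r hr => by
      refine hinjV ((AddMonoidHom.ext fun v => hrfix r hr v ?_).trans (map_one actV).symm)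
      rw [← hπ0]; exact Subsingleton.elim _ _
    have hPp : IsPGroup p ↥P := fun g => by
      obtain ⟨k, m, hm, hn⟩ := Nat.exists_eq_pow_mul_and_not_dvd (orderOf_pos g).ne' p (Fact.out : p.Prime).ne_one
      refine ⟨k, hRbot _ ?_⟩
      rw [orderOf_pow' g (pow_ne_zero _ (Fact.out : p.Prime).ne_zero), hn, Nat.gcd_eq_right (dvd_mul_right _ _),
        Nat.mul_div_cancel_left _ (pow_pos (Fact.out : p.Prime).pos _)]
      exact ((Nat.Prime.coprime_iff_not_dvd Fact.out).2 hm).symm
    exact hM.1 (top_le_iff.1 ((T.3 (hPp.to_subgroup ⊤) le_top).le.trans hTM))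
  -- the fixed vector
  obtain ⟨y, hy, hy0⟩ : ∃ y, (∀ t ∈ (T : Subgroup ↥P), act t y = y) ∧ y ≠ 0 := by
    letI : MulAction (T : Subgroup ↥P) (Additive ↥V ⧸ F) :=
      { smul := fun t v => act (t : ↥P) v
        one_smul := fun v => OffSL2.act_one act v
        mul_smul := fun t s v => OffSL2.act_mul act (t : ↥P) s v }
    have h1 : (0 : Additive ↥V ⧸ F) ∈ MulAction.fixedPoints (T : Subgroup ↥P) (Additive ↥V ⧸ F) := fun t => map_zero (act (t : ↥P))
    obtain ⟨x, hx⟩ := exists_ne (0 : Additive ↥V ⧸ F)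
    have hdvd : p ∣ Nat.card (Additive ↥V ⧸ F) := (addOrderOf_eq_prime (hpU x) hx) ▸ addOrderOf_dvd_natCard x
    obtain ⟨f, hf, hf1⟩ := T.2.exists_fixed_point_of_prime_dvd_card_of_fixed_point (Additive ↥V ⧸ F) hdvd h1
    exact ⟨f, fun t ht => hf ⟨t, ht⟩, hf1.symm⟩
  have hyR : ∃ r : ↥P, act r y ≠ y := by
    by_contra hall
    push Not at hall
    obtain ⟨v, rfl⟩ := hπs y
    refine hy0 ((hπ0 v).2 (hF ▸ fun r hr => (?_ : R ≤ OffSL2.stabV actV v) hr))
    rw [hR, Subgroup.closure_le]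
    intro s hs
    exact hrfix s hs v (by rw [← hπ0, map_sub, hequiv, hall, sub_self])
  have hP : PMinFF.PMod p act (T : Subgroup ↥P) M y :=
    { inj := hinj
      hpU := hpU
      syl := PMinFF.MaxP.of_sylow T le_top
      pmin := fun X hX hne => PMinimalCore.le_of_sylow_le hmin T hM hTM hX hne
      TM := hTM
      Mne := hM.1
      nop := fun N hN hn => le_bot_iff.1 (by
        haveI : N.Normal := ⟨fun n hn' g => hn g n hn'⟩
        rw [← hOp]; exact CfsgLib.Core.le_pCore hN)
      hy := hy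
      stab := PMinimalCore.le_of_sylow_le hmin T hM hTM (fun t ht => hy t ht) (fun e => by
        obtain ⟨r, hr⟩ := hyR
        exact hr (e.ge (Subgroup.mem_top r))) }
  -- the offender
  obtain ⟨A, hAP, hAV, hbest, hAA, hAp⟩ := hoff
  obtain ⟨A', hA'⟩ : ∃ A', A' = A.subgroupOf P := ⟨_, rfl⟩
  have htriv : ∀ g : ↥P, (g : G) ∈ Subgroup.centralizer (V : Set G) → g = 1 := fun g hg =>
    Subtype.ext ((Subgroup.mem_bot).1 (hfaith ▸ ⟨g.2, hg⟩))
  have hA'el : PMinFF.El p A' := by
    rw [hA']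
    constructor
    · intro a ha b hb
      rw [← commutatorElement_eq_one_iff_mul_comm]
      exact htriv _ (hAA (Subgroup.commutator_mem_commutator (Subgroup.mem_subgroupOf.1 ha) (Subgroup.mem_subgroupOf.1 hb)))
    · intro a ha
      exact htriv _ (hAp _ (Subgroup.mem_subgroupOf.1 ha))
  have hmapA : A'.map P.subtype = A := hA' ▸ Subgroup.map_subgroupOf_eq_of_le hAP
  have hcardfix : ∀ S : Subgroup ↥P, Nat.card (OffSL2.fix actV S) =
      Nat.card ↥(V ⊓ Subgroup.centralizer ((S.map P.subtype : Subgroup G) : Set G)) := fun S => Nat.card_congr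
    { toFun := fun v => ⟨((Additive.toMul (v : Additive ↥V) : ↥V) : G), (Additive.toMul (v : Additive ↥V)).2,
        (hfix S v).1 v.2⟩
      invFun := fun v => ⟨Additive.ofMul ⟨(v : G), v.2.1⟩, (hfix S _).2 v.2.2⟩
      left_inv := fun v => rfl
      right_inv := fun v => rfl }
  have hmeas : Nat.card (Additive ↥V) ≤ PMinFF.meas actV A' := by
    have h := hbest ⊥ bot_le
    rw [Subgroup.card_bot, one_mul, inf_eq_left.2 fun v _ => Subgroup.mem_centralizer_iff.2 fun b hb => by
      simp [Subgroup.mem_bot.1 hb]] at h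
    rw [PMinFF.meas, hcardfix, hmapA, hA', Nat.card_congr (Subgroup.subgroupOfEquivOfLe hAP).toEquiv]
    exact (Nat.card_congr Additive.toMul).le.trans h
  have hA'ne : A' ≠ ⊥ := fun e => hAV (by rw [← hmapA, e, Subgroup.map_bot]; exact bot_le)
  obtain ⟨k, -, hk⟩ := hP.syl.exists_conj hA'el.isPGroup le_top
  obtain ⟨v, hv, hv0⟩ := hlift.exists_fixed hP ⟨PMinFF.cj k A', hA'el.cj k,
    fun e => hA'ne ((Subgroup.map_eq_bot_iff_of_injective _ (MulAut.conj k).injective).1 e), hk,
    by rw [PMinFF.meas_cj]; exact hmeas⟩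
  intro hbot
  refine hv0 ((hπ0 v).2 (hF ▸ ?_))
  rw [Subgroup.commutator_eq_bot_iff_le_centralizer] at hbot
  intro r _
  refine Additive.toMul.injective (Subtype.ext ((hact r v).trans ?_))
  rw [mul_inv_eq_iff_eq_mul]
  exact Subgroup.mem_centralizer_iff.1 (hbot ⟨(Additive.toMul v).2, (hfix _ v).1 hv⟩) r r.2

end Cfsg.Agent.S3001
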