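import Cfsg.Statements.S3003
import Cfsg.Agent.Lib.LocalEven.Generation
import Cfsg.Agent.Lib.Transfer.Conj

set_option autoImplicit false
open Cfsg

namespace Cfsg.Agent.S3003

/-- Let G be a finite group, p a prime and Q a large p-subgroup of G: C_G(Q) ≤ Q and N_G(U) ≤ N_G(Q) for every nontrivial subgroup U of C_G(Q). Let Q ≤ G₁ ≤ G, let R be a subgroup of order prime to p normalized by G₁, and let U ≤ G₁ be a p-subgroup. If U contains a nontrivial element which is G₁-conjugate to an element of Z(Q), then C_R(U) = 1. In particular, if U is elementary abelian of order at least p² and every maximal subgroup of U contains a nontrivial element G₁-conjugate into Z(Q), then R = 1. -/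
theorem result {G : Type*} [Group G] [Finite G] {p : ℕ} [Fact p.Prime] (Q : Subgroup G) (hQp : IsPGroup p ↥Q) (hlarge : Cfsg.IsLarge Q) (G₁ : Subgroup G) (hQG : Q ≤ G₁) (R : Subgroup G) (hR : (Nat.card ↥R).Coprime p) (hGR : G₁ ≤ Subgroup.normalizer (R : Set G)) (U : Subgroup G) (hUG : U ≤ G₁) (hUp : IsPGroup p ↥U) : ((∃ x ∈ U, x ≠ 1 ∧ ∃ g ∈ G₁, g * x * g⁻¹ ∈ Q ⊓ Subgroup.centralizer (Q : Set G)) → R ⊓ Subgroup.centralizer (U : Set G) = ⊥) ∧ (Cfsg.IsElementaryAbelian p U → p ^ 2 ≤ Nat.card ↥U → (∀ U₀ : Subgroup G, U₀ ≤ U → IsCoatom (U₀.subgroupOf U) → ∃ x ∈ U₀, x ≠ 1 ∧ ∃ g ∈ G₁, g * x * g⁻¹ ∈ Q ⊓ Subgroup.centralizer (Q : Set G)) → R = ⊥) := by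
  classical
  have hpr : p.Prime := Fact.out
  have hRp : ¬ p ∣ Nat.card R := fun hd => hpr.one_lt.ne' (Nat.eq_one_of_dvd_coprimes hR hd dvd_rfl)
  have main : ∀ V : Subgroup G, (∃ x ∈ V, x ≠ 1 ∧ ∃ g ∈ G₁, g * x * g⁻¹ ∈ Q ⊓ Subgroup.centralizer (Q : Set G)) →
      R ⊓ Subgroup.centralizer (V : Set G) = ⊥ := by
    rintro V ⟨x, hxV, hx1, g, hg, hgx⟩
    rw [Subgroup.eq_bot_iff_forall]
    rintro r ⟨hrR, hrV⟩
    set z := g * x * g⁻¹ with hz
    set r' := g * r * g⁻¹ with hr'
    have hr'R : r' ∈ R := (Subgroup.mem_normalizer_iff.1 (hGR hg) r).1 hrR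
    have hcomm : r' * z = z * r' := by
      calc r' * z = g * (r * x) * g⁻¹ := by rw [hr', hz]; group
        _ = g * (x * r) * g⁻¹ := by rw [Subgroup.mem_centralizer_iff.1 hrV x hxV]
        _ = z * r' := by rw [hr', hz]; group
    have hN : r' ∈ Subgroup.normalizer (Q : Set G) := by
      refine hlarge.2 (Subgroup.zpowers z) (Subgroup.zpowers_le.2 hgx.2) ?_ ?_
      · rw [Ne, Subgroup.zpowers_eq_bot]
        intro h; exact hx1 (conj_eq_one_iff.1 h)
      · refine Subgroup.centralizer_le_normalizer _ (Subgroup.mem_centralizer_iff.2 fun y hy => ?_)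
        obtain ⟨j, rfl⟩ := Subgroup.mem_zpowers_iff.1 hy
        exact ((show Commute r' z from hcomm).zpow_right j).eq.symm
    have hdis : Q ⊓ R = ⊥ := by
      obtain ⟨i, hi⟩ := IsPGroup.iff_card.mp hQp
      exact Subgroup.inf_eq_bot_of_coprime (by rw [hi]; exact hR.symm.pow_left i)
    have hC : r' ∈ Subgroup.centralizer (Q : Set G) := by
      refine Subgroup.mem_centralizer_iff.2 fun q hq => ?_
      have h1 : q * r' * q⁻¹ * r'⁻¹ ∈ Q ⊓ R := by
        refine Subgroup.mem_inf.2 ⟨?_, R.mul_mem ((Subgroup.mem_normalizer_iff.1 (hGR (hQG hq)) r').1 hr'R) (R.inv_mem hr'R)⟩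
        have := Q.mul_mem hq ((Subgroup.mem_normalizer_iff.1 hN q⁻¹).1 (Q.inv_mem hq))
        simpa [mul_assoc] using this
      rw [hdis, Subgroup.mem_bot] at h1
      exact mul_inv_eq_iff_eq_mul.1 (mul_inv_eq_one.1 h1)
    have : r' ∈ Q ⊓ R := Subgroup.mem_inf.2 ⟨hlarge.1 hC, hr'R⟩
    rw [hdis, Subgroup.mem_bot] at this
    exact conj_eq_one_iff.1 this
  refine ⟨main U, fun hUel hU2 hmax => ?_⟩
  have hUc : ∀ a ∈ U, ∀ b ∈ U, a * b = b * a := fun a ha b hb =>
    congrArg Subtype.val (hUel.1.is_comm.comm (⟨a, ha⟩ : U) ⟨b, hb⟩)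
  have key : ∀ (n : ℕ) (V : Subgroup G), V < U → Nat.card U - Nat.card V ≤ n →
      R ⊓ Subgroup.centralizer (V : Set G) = ⊥ := by
    intro n
    induction n with
    | zero =>
      intro V hV hn
      have := CfsgLib.Transfer.card_lt_of_lt hV
      omega
    | succ n ih =>
      intro V hV hn
      by_cases hco : ∃ a ∈ U, a ∉ V ∧ V ⊔ Subgroup.zpowers a < U
      · obtain ⟨a, haU, haV, hlt⟩ := hco
        obtain ⟨b, hbU, hb⟩ := SetLike.exists_of_lt hlt
        set W := Subgroup.closure ({a, b} : Set G) with hW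
        have hWU : W ≤ U := (Subgroup.closure_le _).2 (by rintro y (rfl | rfl) <;> assumption)
        have hab : a * b = b * a := hUc a haU b hbU
        have hWmem : ∀ y ∈ W, ∃ i j : ℤ, y = a ^ i * b ^ j := by
          intro y hy
          have hn' : Subgroup.zpowers b ≤ Subgroup.normalizer ((Subgroup.zpowers a : Subgroup G) : Set G) := by
            refine Subgroup.zpowers_le.2 (Subgroup.centralizer_le_normalizer _ (Subgroup.mem_centralizer_iff.2 fun z hz => ?_))
            obtain ⟨i, rfl⟩ := Subgroup.mem_zpowers_iff.1 hz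
            exact ((show Commute a b from hab).zpow_left i).eq
          have hy' : y ∈ ((Subgroup.zpowers a ⊔ Subgroup.zpowers b : Subgroup G) : Set G) := by
            have hle : W ≤ Subgroup.zpowers a ⊔ Subgroup.zpowers b := (Subgroup.closure_le _).2 (by
              rintro z (rfl | rfl)
              · exact Subgroup.mem_sup_left (Subgroup.mem_zpowers _)
              · exact Subgroup.mem_sup_right (Subgroup.mem_zpowers _))
            exact hle hy
          rw [Subgroup.coe_mul_of_right_le_normalizer_left _ _ hn'] at hy'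
          obtain ⟨u, hu, v, hv, rfl⟩ := Set.mem_mul.1 hy'
          obtain ⟨i, rfl⟩ := Subgroup.mem_zpowers_iff.1 hu
          obtain ⟨j, rfl⟩ := Subgroup.mem_zpowers_iff.1 hv
          exact ⟨i, j, rfl⟩
        have hWV : ∀ y ∈ W, y ∈ V → y = 1 := by
          intro y hy hyV
          obtain ⟨i, j, rfl⟩ := hWmem y hy
          have hbj : b ^ j ∈ V ⊔ Subgroup.zpowers a := by
            have := Subgroup.mul_mem _ (Subgroup.inv_mem _ (Subgroup.mem_sup_right (S := V) (Subgroup.mem_zpowers_iff.2 ⟨i, rfl⟩ : a ^ i ∈ Subgroup.zpowers a))) (Subgroup.mem_sup_left hyV)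
            rwa [inv_mul_cancel_left] at this
          have hz : ∀ (c : G) (X : Subgroup G), c ∈ U → c ∉ X → ∀ m : ℤ, c ^ m ∈ X → c ^ m = 1 := by
            intro c X hc hcX m hm
            have hcp : c ^ p = 1 := hUel.2 c hc
            by_cases hd : (p : ℤ) ∣ m
            · obtain ⟨q, rfl⟩ := hd
              rw [zpow_mul, zpow_natCast, hcp, one_zpow]
            · exfalso
              apply hcX
              obtain ⟨u, v, huv⟩ : IsCoprime (p : ℤ) m := (Nat.prime_iff_prime_int.1 hpr).coprime_iff_not_dvd.2 hd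
              have : c = (c ^ m) ^ v := by
                calc c = c ^ (1 : ℤ) := (zpow_one c).symm
                  _ = (c ^ (p : ℤ)) ^ u * (c ^ m) ^ v := by
                    rw [← huv, zpow_add, ← zpow_mul, ← zpow_mul, mul_comm u, mul_comm v]
                  _ = (c ^ m) ^ v := by rw [zpow_natCast, hcp, one_zpow, one_mul]
              rw [this]
              exact X.zpow_mem hm v
          have hb1 : b ^ j = 1 := hz b _ hbU hb j hbj
          rw [hb1, mul_one] at hyV ⊢
          exact hz a V haU haV i hyV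
        have hb1 : b ≠ 1 := fun h => hb (h ▸ one_mem _)
        have hcard : p ^ 2 ≤ Nat.card W := by
          have hWp : IsPGroup p W := hUp.to_le hWU
          obtain ⟨k, hk⟩ := IsPGroup.iff_card.mp hWp
          rw [hk]
          refine Nat.pow_le_pow_right hpr.pos ?_
          by_contra hk2
          have haW : a ∈ W := Subgroup.subset_closure (Set.mem_insert _ _)
          have hbW : b ∈ W := Subgroup.subset_closure (Set.mem_insert_of_mem _ rfl)
          have ha1 : a ≠ 1 := fun h => haV (h ▸ one_mem _)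
          have hao : Nat.card (Subgroup.zpowers a) = p := by
            rw [Nat.card_zpowers]; exact orderOf_eq_prime (hUel.2 a haU) ha1
          have hle : Nat.card W ≤ Nat.card (Subgroup.zpowers a) := by
            rw [hao, hk]
            calc p ^ k ≤ p ^ 1 := Nat.pow_le_pow_right hpr.pos (by omega)
              _ = p := pow_one p
          have := Subgroup.eq_of_le_of_card_ge (Subgroup.zpowers_le.2 haW) hle
          exact hb (Subgroup.mem_sup_right (this.symm ▸ hbW))
        haveI : IsMulCommutative W := ⟨⟨fun y z => Subtype.ext (hUc _ (hWU y.2) _ (hWU z.2))⟩⟩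
        refine le_bot_iff.1 (CfsgLib.LocalEven.le_of_centralizers_le (p := p) (fun y hy => hUel.2 y (hWU hy)) hcard ?_
          (fun hd => hRp (hd.trans (Subgroup.card_dvd_of_le inf_le_left))) fun y hy hy1 => ?_)
        · refine le_trans (le_inf ((hWU.trans hUG).trans hGR) ?_) Subgroup.inf_normalizer_le_normalizer_inf
          refine le_trans ?_ Subgroup.le_normalizer
          intro w hw
          exact Subgroup.mem_centralizer_iff.2 fun v hv => hUc v (hV.le hv) w (hWU hw)
        · rintro r ⟨⟨hrR, hrV⟩, hry⟩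
          have hyU := hWU hy
          have hlt' : V < V ⊔ Subgroup.zpowers y := lt_of_le_of_ne le_sup_left fun h => hy1 (hWV y hy (h.symm ▸ Subgroup.mem_sup_right (Subgroup.mem_zpowers y)))
          have hle : V ⊔ Subgroup.zpowers y ≤ U := sup_le hV.le (Subgroup.zpowers_le.2 hyU)
          have hC : r ∈ Subgroup.centralizer ((V ⊔ Subgroup.zpowers y : Subgroup G) : Set G) := by
            refine Subgroup.mem_centralizer_iff.2 fun z hz => ?_
            have hle' : V ⊔ Subgroup.zpowers y ≤ Subgroup.centralizer ({r} : Set G) := by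
              refine sup_le (fun v hv => Subgroup.mem_centralizer_singleton_iff.2 (Subgroup.mem_centralizer_iff.1 hrV v hv))
                (Subgroup.zpowers_le.2 (Subgroup.mem_centralizer_singleton_iff.2 ?_))
              exact (Subgroup.mem_centralizer_singleton_iff.1 hry).symm
            exact Subgroup.mem_centralizer_singleton_iff.1 (hle' hz)
          rcases eq_or_lt_of_le hle with h | h
          · rw [h] at hC
            have hbot : R ⊓ Subgroup.centralizer (U : Set G) = ⊥ := by
              obtain ⟨U₀, hU₀, hVU₀⟩ : ∃ U₀ : Subgroup U, IsCoatom U₀ ∧ V.subgroupOf U ≤ U₀ :=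
                (eq_top_or_exists_le_coatom _).resolve_left fun h0 => hV.not_ge (Subgroup.subgroupOf_eq_top.1 h0)
              obtain ⟨x, hx, hx'⟩ := hmax (U₀.map U.subtype) (Subgroup.map_subtype_le _) (by
                rwa [Subgroup.subgroupOf, Subgroup.comap_map_eq_self_of_injective U.subtype_injective])
              exact main U ⟨x, Subgroup.map_subtype_le _ hx, hx'⟩
            exact hbot ▸ Subgroup.mem_inf.2 ⟨hrR, hC⟩
          · have := CfsgLib.Transfer.card_lt_of_lt hlt'
            have := CfsgLib.Transfer.card_lt_of_lt h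
            have hbot := ih _ h (by omega)
            exact hbot ▸ Subgroup.mem_inf.2 ⟨hrR, hC⟩
      · push Not at hco
        refine main V ?_
        refine hmax V hV.le ⟨fun h => hV.not_ge (Subgroup.subgroupOf_eq_top.1 h), fun Y hY => ?_⟩
        obtain ⟨⟨a, haU⟩, haY, haV⟩ := SetLike.exists_of_lt hY
        have h1 : V ⊔ Subgroup.zpowers a = U := by
          by_contra h
          exact hco a haU haV (lt_of_le_of_ne (sup_le hV.le (Subgroup.zpowers_le.2 haU)) h)
        rw [eq_top_iff]
        have h2 : U ≤ Y.map U.subtype := h1.ge.trans (sup_le (fun v hv => ⟨⟨v, hV.le hv⟩, hY.le hv, rfl⟩) (Subgroup.zpowers_le.2 ⟨_, haY, rfl⟩))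
        intro z _
        obtain ⟨w, hw, hwz⟩ := h2 z.2
        exact (Subtype.ext hwz : w = z) ▸ hw
  have hUne : (⊥ : Subgroup G) < U := by
    refine bot_lt_iff_ne_bot.2 fun h => ?_
    rw [h, Subgroup.card_bot] at hU2
    nlinarith [hpr.two_le]
  have h := key (Nat.card U) ⊥ hUne (Nat.sub_le _ _)
  have htop : Subgroup.centralizer ((⊥ : Subgroup G) : Set G) = ⊤ := by
    refine eq_top_iff.2 fun g _ => Subgroup.mem_centralizer_iff.2 fun y hy => ?_
    rw [Subgroup.mem_bot.1 hy, one_mul, mul_one]
  rwa [htop, inf_top_eq] at h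

end Cfsg.Agent.S3003
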