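import Cfsg.Statements.S3009
import Cfsg.Agent.Lib.LocalEvenB.QuadraticSL2
import Cfsg.Agent.Lib.LocalEven.NaturalModule

set_option autoImplicit false
open Cfsg
open scoped commutatorElement

namespace Cfsg.Agent.S3009

/-- Let p be a prime and let G and V be subgroups of a finite group with V elementary abelian and normalized by G, and G isomorphic to SL₂(F) for a finite field F with pⁿ elements. Suppose G acts irreducibly and nontrivially on V by conjugation (no G-invariant subgroups of V other than 1 and V, and [V, G] ≠ 1), and let S be a Sylow p-subgroup of G and V₀ = C_V(S). If [V, S, S] = 1 or |V| ≤ |V₀|², then G acts on V as SL₂(F) on its natural two-dimensional module; in particular |V| = |F|². -/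
theorem result {X : Type*} [Group X] [Finite X] {p : ℕ} [Fact p.Prime] (G V : Subgroup X) (hV : Cfsg.IsElementaryAbelian p V) (hGV : G ≤ Subgroup.normalizer (V : Set X)) (F : Type) [Field F] [Fintype F] (n : ℕ) (hF : Fintype.card F = p ^ n) (hG : Nonempty (↥G ≃* Matrix.SpecialLinearGroup (Fin 2) F)) (hirr : ∀ U : Subgroup X, U ≤ V → G ≤ Subgroup.normalizer (U : Set X) → U = ⊥ ∨ U = V) (hnt : ⁅V, G⁆ ≠ ⊥) (S : Sylow p ↥G) (hyp : ⁅⁅V, (S : Subgroup ↥G).map G.subtype⁆, (S : Subgroup ↥G).map G.subtype⁆ = ⊥ ∨ Nat.card ↥V ≤ Nat.card ↥(V ⊓ Subgroup.centralizer (((S : Subgroup ↥G).map G.subtype : Subgroup X) : Set X)) ^ 2) : Cfsg.ActsAsSL2OnSection F ⊤ G V ⊥ := by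
  classical
  obtain ⟨e0⟩ := hG
  haveI := CfsgLib.LocalEven.charP_of_card_eq F hF
  obtain ⟨x, hx⟩ := CfsgLib.Classical.Two.exists_point_sylow_SL p (S.mapSurjective (f := e0.toMonoidHom) e0.surjective)
  obtain ⟨g, hg⟩ := MulAction.exists_smul_eq (Matrix.SpecialLinearGroup (Fin 2) F) (CfsgLib.Classical.Two.basePoint F 0) x
  obtain ⟨e, he⟩ : ∃ e : ↥G ≃* Matrix.SpecialLinearGroup (Fin 2) F, ∀ l, e l = g⁻¹ * e0 l * g :=
    ⟨e0.trans (MulAut.conj g⁻¹), fun l => by rw [MulEquiv.trans_apply, MulAut.conj_apply, inv_inv]⟩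
  have hS : ∀ l : ↥G, l ∈ (S : Subgroup ↥G) ↔ ∃ t : F, CfsgLib.LocalEvenB.upU t = e l := by
    intro l
    have h2 : l ∈ (S : Subgroup ↥G) ↔ e0 l ∈ CfsgLib.Classical.Two.rootGroup x := by
      rw [← hx]
      exact ⟨fun h => ⟨l, h, rfl⟩, fun ⟨s, hs, e'⟩ => e0.injective e' ▸ hs⟩
    have h3 : e0 l ∈ CfsgLib.Classical.Two.rootGroup x ↔ e l ∈ CfsgLib.Classical.Two.rootGroup (CfsgLib.Classical.Two.basePoint F 0) := by
      rw [← hg, CfsgLib.Classical.Two.rootGroup_smul]
      constructor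
      · rintro ⟨y, hy, hy2⟩
        have : y = e l := by rw [he, ← hy2]; simp [MulAut.conj_apply, mul_assoc]
        exact this ▸ hy
      · intro h
        exact ⟨e l, h, by rw [he]; simp [MulAut.conj_apply, mul_assoc]⟩
    rw [h2, h3, ← SetLike.mem_coe, CfsgLib.Classical.Two.rootGroup_basePoint]
    exact ⟨fun ⟨t, ht⟩ => ⟨t, (CfsgLib.LocalEvenB.upU_eq_transvection t).trans ht⟩,
      fun ⟨t, ht⟩ => ⟨t, (CfsgLib.LocalEvenB.upU_eq_transvection t).symm.trans ht⟩⟩
  haveI := hV.1
  letI : CommGroup ↥V := { (inferInstance : Group ↥V) with mul_comm := fun a b => hV.1.1.comm a b }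
  have hmem : ∀ (l : ↥G) (v : ↥V), (l : X) * v * (l : X)⁻¹ ∈ V := fun l v => (Subgroup.mem_normalizer_iff.1 (hGV l.2) _).1 v.2
  let c : ↥G → AddMonoid.End (Additive ↥V) := fun l =>
    MonoidHom.toAdditive (MonoidHom.mk' (fun v : ↥V => (⟨(l : X) * v * (l : X)⁻¹, hmem l v⟩ : ↥V))
      (fun v w => Subtype.ext (by simp only [Subgroup.coe_mul]; group)))
  have hc : ∀ l (v : Additive ↥V), ((Additive.toMul (c l v) : ↥V) : X) = (l : X) * (Additive.toMul v : ↥V) * (l : X)⁻¹ :=
    fun _ _ => rfl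
  let act : Matrix.SpecialLinearGroup (Fin 2) F →* AddMonoid.End (Additive ↥V) :=
    { toFun := fun m => c (e.symm m)
      map_one' := DFunLike.ext _ _ fun v => Additive.toMul.injective (Subtype.ext (by rw [hc, map_one]; simp))
      map_mul' := fun a b => DFunLike.ext _ _ fun v => Additive.toMul.injective (Subtype.ext (by
        show _ = ((Additive.toMul (c _ (c _ v)) : ↥V) : X)
        rw [hc, hc, hc, map_mul, Subgroup.coe_mul, mul_inv_rev]
        simp only [mul_assoc])) }
  have hact : ∀ l (v : Additive ↥V), ((Additive.toMul (act (e l) v) : ↥V) : X) = (l : X) * (Additive.toMul v : ↥V) * (l : X)⁻¹ := fun l v => by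
    show ((Additive.toMul (c (e.symm (e l)) v) : ↥V) : X) = _
    rw [hc, e.symm_apply_apply]
  have hpv : ∀ v : Additive ↥V, p • v = 0 := fun v => Additive.toMul.injective (Subtype.ext (by
    rw [toMul_nsmul, SubmonoidClass.coe_pow, toMul_zero, Subgroup.coe_one]
    exact hV.2 _ (Additive.toMul v).2))
  have hirr' : ∀ U : AddSubgroup (Additive ↥V), (∀ m, ∀ v ∈ U, act m v ∈ U) → U = ⊥ ∨ U = ⊤ := by
    intro U hU
    let U' : Subgroup X := (AddSubgroup.toSubgroup' U).map V.subtype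
    rcases hirr U' (Subgroup.map_subtype_le _) (Subgroup.le_normalizer_iff.2 fun l hl u hu => by
      obtain ⟨v, hv, rfl⟩ := hu
      refine ⟨Additive.toMul (act (e ⟨l, hl⟩) (Additive.ofMul v)), hU _ _ hv, ?_⟩
      exact hact ⟨l, hl⟩ _) with h | h
    · left
      rw [eq_bot_iff]
      intro v hv
      have h1 : ((Additive.toMul v : ↥V) : X) ∈ U' := ⟨_, hv, rfl⟩
      rw [h, Subgroup.mem_bot] at h1
      rw [AddSubgroup.mem_bot]
      exact Additive.toMul.injective (Subtype.ext h1)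
    · right
      rw [eq_top_iff]
      intro v _
      obtain ⟨w, hw, hwv⟩ := h.ge (Additive.toMul v).2
      have e2 : w = Additive.toMul v := Subtype.ext hwv
      subst e2
      exact hw
  have hnt' : ∃ m v, act m v ≠ v := by
    by_contra hall
    push Not at hall
    apply hnt
    rw [eq_bot_iff, Subgroup.commutator_le]
    intro v hv l hl
    rw [Subgroup.mem_bot, commutatorElement_eq_one_iff_mul_comm]
    have := congrArg (fun w : Additive ↥V => ((Additive.toMul w : ↥V) : X)) (hall (e ⟨l, hl⟩) (Additive.ofMul ⟨v, hv⟩))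
    simp only [hact] at this
    exact (mul_inv_eq_iff_eq_mul.1 this).symm
  obtain ⟨T, hT⟩ : ∃ T, T = (S : Subgroup ↥G).map G.subtype := ⟨_, rfl⟩
  rw [← hT] at hyp
  have hup : ∀ t, ∃ l : ↥G, l ∈ (S : Subgroup ↥G) ∧ e l = CfsgLib.LocalEvenB.upU t := fun t =>
    ⟨e.symm (CfsgLib.LocalEvenB.upU t), (hS _).2 ⟨t, (e.apply_symm_apply _).symm⟩, e.apply_symm_apply _⟩
  obtain ⟨θ, hθ⟩ := CfsgLib.LocalEvenB.natural_of_quadratic_or_small (p := p) act hpv hirr' hnt' (by
    rcases hyp with hq | hs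
    · left
      intro s t v
      obtain ⟨a, ha, hea⟩ := hup s
      obtain ⟨b, hb, heb⟩ := hup t
      obtain ⟨y, hy⟩ : ∃ y, y = act (CfsgLib.LocalEvenB.upU s) v - v := ⟨_, rfl⟩
      rw [← hy]
      refine Additive.toMul.injective (Subtype.ext ?_)
      rw [← heb, hact]
      have hym : ((Additive.toMul y : ↥V) : X) ∈ ⁅V, T⁆ := by
        rw [hy, toMul_sub, Subgroup.coe_div, ← hea, hact, div_eq_mul_inv, ← commutatorElement_def, Subgroup.commutator_comm]
        exact Subgroup.commutator_mem_commutator (hT ▸ ⟨a, ha, rfl⟩) (Additive.toMul v).2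
      rw [Subgroup.commutator_eq_bot_iff_le_centralizer] at hq
      rw [Subgroup.mem_centralizer_iff.1 (hq hym) b (hT ▸ ⟨b, hb, rfl⟩), mul_inv_cancel_right]
    · right
      refine hs.trans (Nat.pow_le_pow_left (Nat.card_le_card_of_injective
        (fun w : ↥(V ⊓ Subgroup.centralizer (T : Set X)) => (⟨Additive.ofMul ⟨(w : X), w.2.1⟩, fun t => ?_⟩ :
          {v : Additive ↥V // ∀ t : F, act (CfsgLib.LocalEvenB.upU t) v = v})) fun a b h => ?_) _)
      · obtain ⟨a, ha, hea⟩ := hup t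
        refine Additive.toMul.injective (Subtype.ext ?_)
        rw [← hea, hact]
        show (a : X) * w * (a : X)⁻¹ = w
        rw [Subgroup.mem_centralizer_iff.1 w.2.2 a (hT ▸ ⟨a, ha, rfl⟩), mul_inv_cancel_right]
      · exact Subtype.ext (congrArg (fun v : Additive ↥V => ((Additive.toMul v : ↥V) : X)) (congrArg Subtype.val h)))
  have hρ : e.toMonoidHom.range = ⊤ := MonoidHom.range_eq_top.2 e.surjective
  let ψ : ↥V →* Multiplicative (Fin 2 → F) :=
    MonoidHom.mk' (fun v => Multiplicative.ofAdd (θ.symm (Additive.ofMul v))) fun a b => by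
      rw [ofMul_mul, map_add, ofAdd_add]
  refine ⟨hGV, bot_le, e.toMonoidHom, ψ, hρ, fun w => ?_, fun v => ?_, fun l v => ?_⟩
  · exact ⟨Additive.toMul (θ (Multiplicative.toAdd w)), by
      show Multiplicative.ofAdd (θ.symm (Additive.ofMul (Additive.toMul _))) = w
      rw [ofMul_toMul, AddEquiv.symm_apply_apply, ofAdd_toAdd]⟩
  · show Multiplicative.ofAdd (θ.symm (Additive.ofMul v)) = 1 ↔ _
    rw [Subgroup.mem_bot, ofAdd_eq_one, AddEquiv.map_eq_zero_iff, ofMul_eq_zero, Subtype.ext_iff, Subgroup.coe_one]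
  · refine ⟨Additive.toMul (act (e l) (Additive.ofMul v)), hact l _, ?_⟩
    show Multiplicative.toAdd (Multiplicative.ofAdd (θ.symm (Additive.ofMul (Additive.toMul _)))) = _
    rw [toAdd_ofAdd, ofMul_toMul, AddEquiv.symm_apply_eq]
    show _ = θ (Matrix.mulVec _ (θ.symm (Additive.ofMul v)))
    rw [← hθ, AddEquiv.apply_symm_apply]
    rfl

end Cfsg.Agent.S3009
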