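import Cfsg.Statements.S3011
import Cfsg.Agent.Lib.LocalEvenB.BaerSuzuki

set_option autoImplicit false
open Cfsg

namespace Cfsg.Agent.S3011

/-- Let G be a finite group and V a nontrivial elementary abelian 2-subgroup of G of order at most 4 such that, whenever an element of V inverts an element h of G of odd order, some nontrivial element of V commutes with h. Then V meets O₂(G) nontrivially. (The case of order at most 4 has a short argument from the Baer–Suzuki theorem.) -/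
theorem result {G : Type*} [Group G] [Finite G] (V : Subgroup G) (hV : Cfsg.IsElementaryAbelian 2 V) (hV1 : V ≠ ⊥) (hS : Cfsg.IsSidkiPair V) (h4 : Nat.card V ≤ 4) : V ⊓ Cfsg.pCore 2 G ≠ ⊥ := by
  classical
  intro hVO
  have hsq : ∀ v ∈ V, v * v = 1 := fun v hv => by
    have := hV.2 v hv; rwa [pow_two] at this
  have hcomm : ∀ v ∈ V, ∀ w ∈ V, v * w = w * v := fun v hv w hw =>
    congrArg Subtype.val (hV.1.is_comm.comm (⟨v, hv⟩ : V) ⟨w, hw⟩)
  have hinvv : ∀ v ∈ V, v⁻¹ = v := fun v hv => inv_eq_of_mul_eq_one_right (hsq v hv)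
  have hex : ∀ v ∈ V, v ≠ 1 → ∃ h : G, h ≠ 1 ∧ Odd (orderOf h) ∧ v * h * v⁻¹ = h⁻¹ := fun v hv hv1 =>
    CfsgLib.LocalEvenB.exists_odd_inverted (hsq v hv) fun hO => hv1 (by
      have : v ∈ V ⊓ Cfsg.pCore 2 G := ⟨hv, hO⟩
      rwa [hVO, Subgroup.mem_bot] at this)
  have hodd : ∀ h : G, Odd (orderOf h) → h * h = 1 → h = 1 := fun h ho h2 => by
    rw [← pow_two] at h2
    have := Nat.dvd_gcd (orderOf_dvd_of_pow_eq_one h2) (dvd_refl (orderOf h))
    rw [Nat.Coprime.gcd_eq_one ho.coprime_two_left] at this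
    exact orderOf_eq_one_iff.1 (Nat.dvd_one.1 this)
  -- an element inverted and centralized by `v` is trivial
  have hfix : ∀ h v : G, Odd (orderOf h) → v * h * v⁻¹ = h⁻¹ → v * h = h * v → h = 1 := fun h v ho hi hc => by
    refine hodd h ho ?_
    rw [hc, mul_inv_cancel_right] at hi
    nth_rw 2 [hi]
    exact mul_inv_cancel h
  have hcases : ∀ u ∈ V, u ≠ 1 → ∀ h : G, h ≠ 1 → Odd (orderOf h) → u * h * u⁻¹ = h⁻¹ →
      ∃ w ∈ V, w ≠ 1 ∧ w ≠ u ∧ w * h = h * w ∧ (u * w) * h * (u * w)⁻¹ = h⁻¹ ∧ u * w ∈ V ∧ u * w ≠ 1 := by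
    intro u hu hu1 h hh1 hho hhi
    obtain ⟨w, hw, hw1, hwc⟩ := hS h u hu hho hhi
    refine ⟨w, hw, hw1, fun e => hh1 (hfix h u hho hhi (e ▸ hwc)), hwc, ?_, V.mul_mem hu hw, fun e => ?_⟩
    · calc u * w * h * (u * w)⁻¹ = u * (w * h * w⁻¹) * u⁻¹ := by group
        _ = h⁻¹ := by rw [hwc, mul_inv_cancel_right, hhi]
    · refine hh1 (hfix h u hho hhi ?_)
      have hwu : w = u := by
        rw [← hinvv u hu]
        exact eq_inv_of_mul_eq_one_right e
      exact hwu ▸ hwc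
  -- the elements of `V`
  have hV4 : ∀ u ∈ V, ∀ w ∈ V, u ≠ 1 → w ≠ 1 → w ≠ u → ∀ z ∈ V, z = 1 ∨ z = u ∨ z = w ∨ z = u * w := by
    intro u hu w hw hu1 hw1 hwu z hz
    by_contra hc
    push Not at hc
    have huw1 : u * w ≠ 1 := fun e => hwu (by rw [← hinvv u hu]; exact eq_inv_of_mul_eq_one_right e)
    have hsub : (({1, u, w, u * w, z} : Finset G) : Set G) ⊆ (V : Set G) := by
      intro x hx
      simp only [Finset.coe_insert, Finset.coe_singleton, Set.mem_insert_iff, Set.mem_singleton_iff] at hx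
      rcases hx with rfl | rfl | rfl | rfl | rfl
      exacts [V.one_mem, hu, hw, V.mul_mem hu hw, hz]
    have hcard : ({1, u, w, u * w, z} : Finset G).card = 5 := by
      simp [Ne.symm hu1, Ne.symm hw1, Ne.symm hwu, Ne.symm huw1, Ne.symm hc.1, Ne.symm hc.2.1, Ne.symm hc.2.2.1, Ne.symm hc.2.2.2, hw1, hu1]
    have := Set.ncard_le_ncard hsub (Set.toFinite _)
    rw [Set.ncard_coe_finset, hcard, ← Nat.card_coe_set_eq] at this
    exact absurd (le_trans this h4) (by norm_num)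
  obtain ⟨v₀, hv₀, hv₀1⟩ := (Subgroup.bot_or_exists_ne_one V).resolve_left hV1
  obtain ⟨h₀, hh₀, hh₀o, hh₀i⟩ := hex v₀ hv₀ hv₀1
  obtain ⟨b, hb, hb1, -, hbh₀, hcinv, -, -⟩ := hcases v₀ hv₀ hv₀1 h₀ hh₀ hh₀o hh₀i
  obtain ⟨k, hk, hko, hki⟩ := hex b hb hb1
  obtain ⟨a, ha, ha1, hab, hak, hcink, -, habne⟩ := hcases b hb hb1 k hk hko hki
  -- `a` inverts `h₀`
  have hah : a * h₀ * a⁻¹ = h₀⁻¹ := by
    have hv₀b : v₀ ≠ b := fun e => hh₀ (hfix h₀ v₀ hh₀o hh₀i (e ▸ hbh₀))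
    rcases hV4 v₀ hv₀ b hb hv₀1 hb1 hv₀b.symm a ha with e | e | e | e
    · exact absurd e ha1
    · rw [e]; exact hh₀i
    · exact absurd e hab
    · rw [e]; exact hcinv
  set h := h₀
  set c := b * a with hc
  have hch : c * h * c⁻¹ = h⁻¹ := by
    calc c * h * c⁻¹ = b * (a * h * a⁻¹) * b⁻¹ := by rw [hc]; group
      _ = b * h⁻¹ * b⁻¹ := by rw [hah]
      _ = h⁻¹ := by rw [← conj_inv, hbh₀, mul_inv_cancel_right]
  have hck : c * k * c⁻¹ = k⁻¹ := hcink
  have hak' : a * k * a⁻¹ = k := by rw [hak, mul_inv_cancel_right]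
  have hbh' : b * h * b⁻¹ = h := by rw [hbh₀, mul_inv_cancel_right]
  have hpow2 : ∀ {y z : G}, Odd (orderOf y) → Commute (y * y) z → Commute y z := by
    intro y z hy hyz
    obtain ⟨m, hm⟩ := hy
    have e : y = (y * y) ^ (m + 1) := by
      rw [← pow_two, ← pow_mul, show 2 * (m + 1) = orderOf y + 1 by omega, pow_succ, pow_orderOf_eq_one, one_mul]
    rw [e]; exact hyz.pow_left _
  have hhk : Commute k h := by
    set h' := k⁻¹ * h * k with hh'
    have hao : Odd (orderOf h') := by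
      rwa [hh', show k⁻¹ * h * k = MulAut.conj k⁻¹ h by simp, MulEquiv.orderOf_eq]
    have hai : a * h' * a⁻¹ = h'⁻¹ := by
      calc a * h' * a⁻¹ = (a * k * a⁻¹)⁻¹ * (a * h * a⁻¹) * (a * k * a⁻¹) := by rw [hh']; group
        _ = h'⁻¹ := by rw [hak', hah, hh']; group
    obtain ⟨w, hw, hw1, hwc⟩ := hS h' a ha hao hai
    have hwc' : w * h' * w⁻¹ = h' := by rw [hwc, mul_inv_cancel_right]
    rcases hV4 b hb a ha hb1 ha1 hab w hw with e | e | e | e
    · exact absurd e hw1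
    · rw [e] at hwc'
      have h1 : k * h * k⁻¹ = k⁻¹ * h * k := by
        calc k * h * k⁻¹ = (b * k * b⁻¹)⁻¹ * (b * h * b⁻¹) * (b * k * b⁻¹) := by rw [hki, hbh']; group
          _ = b * h' * b⁻¹ := by rw [hh']; group
          _ = k⁻¹ * h * k := hwc'
      refine hpow2 hko ?_
      calc k * k * h = k * (k * h * k⁻¹) * k := by group
        _ = k * (k⁻¹ * h * k) * k := by rw [h1]
        _ = h * (k * k) := by group
    · rw [e] at hwc
      have h2 : h' = 1 := hfix h' a hao hai hwc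
      refine absurd ?_ hh₀
      calc h = k * h' * k⁻¹ := by rw [hh']; group
        _ = 1 := by rw [h2]; group
    · rw [e] at hwc'
      have h1 : k * h⁻¹ * k⁻¹ = k⁻¹ * h * k := by
        calc k * h⁻¹ * k⁻¹ = (c * k * c⁻¹)⁻¹ * (c * h * c⁻¹) * (c * k * c⁻¹) := by rw [hck, hch]; group
          _ = c * h' * c⁻¹ := by rw [hh']; group
          _ = k⁻¹ * h * k := hwc'
      have h2 : (k * k) * h⁻¹ * (k * k)⁻¹ = h := by
        calc (k * k) * h⁻¹ * (k * k)⁻¹ = k * (k * h⁻¹ * k⁻¹) * k⁻¹ := by group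
          _ = h := by rw [h1]; group
      have h3 : Commute ((k * k) * (k * k)) h := by
        have h2' : (k * k) * h * (k * k)⁻¹ = h⁻¹ := by
          calc (k * k) * h * (k * k)⁻¹ = ((k * k) * h⁻¹ * (k * k)⁻¹)⁻¹ := by simp [mul_assoc]
            _ = h⁻¹ := by rw [h2]
        refine mul_inv_eq_iff_eq_mul.1 ?_
        calc k * k * (k * k) * h * (k * k * (k * k))⁻¹ = (k * k) * ((k * k) * h * (k * k)⁻¹) * (k * k)⁻¹ := by group
          _ = h := by rw [h2', h2]
      have hkko : Odd (orderOf (k * k)) := hko.of_dvd_nat (by rw [← pow_two]; exact orderOf_pow_dvd 2)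
      have h4 : Commute (k * k) h := hpow2 hkko h3
      exfalso
      refine hh₀ (hodd h hh₀o ?_)
      have h5 : h⁻¹ = h := by
        rw [(Commute.inv_right h4).eq, mul_inv_cancel_right] at h2
        exact h2
      nth_rw 2 [← h5]
      exact mul_inv_cancel h
  -- `h * k` is inverted by `c`
  have hci : c * (h * k) * c⁻¹ = (h * k)⁻¹ := by
    calc c * (h * k) * c⁻¹ = (c * h * c⁻¹) * (c * k * c⁻¹) := by group
      _ = (h * k)⁻¹ := by rw [hch, hck, mul_inv_rev, (hhk.inv_inv).eq]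
  have hoh : Odd (orderOf (h * k)) := (hh₀o.mul hko).of_dvd_nat
    ((hhk.symm.orderOf_mul_dvd_lcm).trans (Nat.lcm_dvd_mul _ _))
  have hcV : c ∈ V := V.mul_mem hb ha
  obtain ⟨w, hw, hw1, hwc⟩ := hS (h * k) c hcV hoh hci
  have hwc' : w * (h * k) * w⁻¹ = h * k := by rw [hwc, mul_inv_cancel_right]
  rcases hV4 b hb a ha hb1 ha1 hab w hw with e | e | e | e
  · exact hw1 e
  · rw [e, show b * (h * k) * b⁻¹ = (b * h * b⁻¹) * (b * k * b⁻¹) by group, hbh', hki, mul_right_inj] at hwc'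
    refine hk (hodd k hko ?_)
    nth_rw 1 [← hwc']
    exact inv_mul_cancel k
  · rw [e, show a * (h * k) * a⁻¹ = (a * h * a⁻¹) * (a * k * a⁻¹) by group, hah, hak', mul_left_inj] at hwc'
    refine hh₀ (hodd h hh₀o ?_)
    nth_rw 1 [← hwc']
    exact inv_mul_cancel h
  · rw [e] at hwc
    have hhk1 : h * k = 1 := hfix (h * k) c hoh hci hwc
    have hkh : k = h⁻¹ := eq_inv_of_mul_eq_one_right hhk1
    rw [hkh] at hak'
    refine hh₀ (hodd h hh₀o ?_)
    have h6 : a * h * a⁻¹ = h := by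
      have := congrArg (fun z => z⁻¹) hak'
      simpa [mul_assoc] using this
    rw [hah] at h6
    nth_rw 1 [← h6]
    exact inv_mul_cancel h

end Cfsg.Agent.S3011
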