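import Cfsg.Statements.S3012
import Cfsg.Agent.Lib.LocalEvenB.Isolated

set_option autoImplicit false
open Cfsg

namespace Cfsg.Agent.S3012

/-- Let G be a finite group, V a nontrivial elementary abelian 2-subgroup of G satisfying the Sidki pair condition (every odd-order element inverted by an element of V commutes with a nontrivial element of V), and K a normal subgroup of G with V ∩ K = 1. Then the image of V in G/K satisfies the Sidki pair condition in G/K. -/
theorem result {G : Type*} [Group G] [Finite G] (V K : Subgroup G) [K.Normal] (hV : Cfsg.IsElementaryAbelian 2 V) (hV1 : V ≠ ⊥) (hS : Cfsg.IsSidkiPair V) (hVK : V ⊓ K = ⊥) : Cfsg.IsSidkiPair (V.map (QuotientGroup.mk' K)) := by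
  intro hb vb hvb hodd hinv
  obtain ⟨v, hv, rfl⟩ := hvb
  obtain ⟨s, rfl⟩ := QuotientGroup.mk'_surjective K hb
  have hv2 : v * v = 1 := by simpa [pow_two] using hV.2 v hv
  have hvinv : v⁻¹ = v := inv_eq_of_mul_eq_one_left hv2
  set c := v * s * v⁻¹ * s⁻¹ with hc
  have hcv : v * c * v⁻¹ = c⁻¹ := by
    have e : c⁻¹ = s * v * s⁻¹ * v⁻¹ := by rw [hc]; group
    rw [e, hc, hvinv]
    calc v * (v * s * v * s⁻¹) * v = (v * v) * s * v * s⁻¹ * v := by group
      _ = s * v * s⁻¹ * v := by rw [hv2, one_mul]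
  set q := QuotientGroup.mk' K with hq
  have hqc : q c = (q s)⁻¹ * (q s)⁻¹ := by
    rw [hc, map_mul, map_mul, map_mul, map_inv, map_inv, hinv]
  obtain ⟨k, m, hm, hkm⟩ := Nat.exists_eq_two_pow_mul_odd (orderOf_pos c).ne'
  have hord : Odd (orderOf (c ^ 2 ^ k)) := by
    rw [orderOf_pow' c (by positivity), hkm, Nat.gcd_mul_right_left, Nat.mul_div_cancel_left _ (by positivity)]
    exact hm
  have hinv' : v * (c ^ 2 ^ k) * v⁻¹ = (c ^ 2 ^ k)⁻¹ := by rw [← conj_pow, hcv, inv_pow]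
  obtain ⟨w, hw, hw1, hwc⟩ := hS (c ^ 2 ^ k) v hv hord hinv'
  refine ⟨q w, ⟨w, hw, rfl⟩, ?_, ?_⟩
  · intro h
    exact hw1 ((Subgroup.eq_bot_iff_forall _).1 hVK w ⟨hw, (QuotientGroup.eq_one_iff w).1 h⟩)
  · have h1 : Commute (q w) (q (c ^ 2 ^ k)) := by
      simpa [Commute, SemiconjBy, map_mul] using congrArg q hwc
    have h2 : q (c ^ 2 ^ k) = ((q s) ^ (2 ^ (k + 1)))⁻¹ := by
      rw [map_pow, hqc, ← mul_inv_rev, inv_pow, ← pow_two, ← pow_mul, pow_succ']
    rw [h2] at h1
    have h3 : Commute (q w) ((q s) ^ (2 ^ (k + 1))) := by simpa using h1.inv_right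
    obtain ⟨m', hm'⟩ := exists_pow_eq_self_of_coprime (x := q s) (n := 2 ^ (k + 1))
      ((Nat.coprime_two_left.2 hodd).pow_left _)
    rw [← hm']
    exact (h3.pow_right m').eq

end Cfsg.Agent.S3012
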