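import Cfsg.Statements.S3013
import Cfsg.Agent.Lib.LocalEvenB.Isolated

set_option autoImplicit false
open Cfsg

namespace Cfsg.Agent.S3013

/-- Let G be a finite group and V a nontrivial elementary abelian 2-subgroup of G satisfying the Sidki pair condition. Let v ∈ V and let x be an element of odd order inverted by v, and put C = C_G(v) ∩ C_G(x), the centralizer of the dihedral subgroup generated by v and x. Then C ∩ V is nontrivial and satisfies the Sidki pair condition inside C: every odd-order element of C inverted by an element of C ∩ V commutes with a nontrivial element of C ∩ V. -/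
theorem result {G : Type*} [Group G] [Finite G] (V : Subgroup G) (hV : Cfsg.IsElementaryAbelian 2 V) (hV1 : V ≠ ⊥) (hS : Cfsg.IsSidkiPair V) (v x : G) (hv : v ∈ V) (hx : Odd (orderOf x)) (hinv : v * x * v⁻¹ = x⁻¹) (C : Subgroup G) (hC : C = Subgroup.centralizer ({v} : Set G) ⊓ Subgroup.centralizer ({x} : Set G)) : C ⊓ V ≠ ⊥ ∧ Cfsg.IsSidkiPair ((C ⊓ V).subgroupOf C) := by
  subst hC
  have hab : ∀ a ∈ V, ∀ b ∈ V, a * b = b * a := fun a ha b hb => by
    haveI := hV.1
    exact congrArg Subtype.val (mul_comm' (⟨a, ha⟩ : V) ⟨b, hb⟩)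
  have hsq : ∀ y : G, Odd (orderOf y) → ∀ w : G, Commute w (y * y) → Commute w y := by
    intro y hy w hw
    obtain ⟨m, hm⟩ := exists_pow_eq_self_of_coprime (x := y) (n := 2) (Nat.coprime_two_left.2 hy)
    rw [pow_two] at hm
    rw [← hm]
    exact hw.pow_right m
  constructor
  · obtain ⟨w, hw, hw1, hwx⟩ := hS x v hv hx hinv
    intro h
    exact hw1 ((Subgroup.eq_bot_iff_forall _).1 h w ⟨⟨Subgroup.mem_centralizer_singleton_iff.2 (hab w hw v hv),
      Subgroup.mem_centralizer_singleton_iff.2 hwx⟩, hw⟩)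
  · rintro ⟨h, hhC⟩ ⟨u, huC⟩ hu hodd hinv'
    obtain ⟨hhv, hhx⟩ := Subgroup.mem_inf.1 hhC
    obtain ⟨huv, hux⟩ := Subgroup.mem_inf.1 huC
    simp only [Subgroup.mem_subgroupOf] at hu
    have hh1 : Commute h v := Subgroup.mem_centralizer_singleton_iff.1 hhv
    have hh2 : Commute h x := Subgroup.mem_centralizer_singleton_iff.1 hhx
    have hu1 : Commute u v := Subgroup.mem_centralizer_singleton_iff.1 huv
    have hu2 : Commute u x := Subgroup.mem_centralizer_singleton_iff.1 hux
    have hhu : u * h * u⁻¹ = h⁻¹ := by simpa using congrArg Subtype.val hinv'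
    rw [Subgroup.orderOf_mk] at hodd
    have hux' : u * x * u⁻¹ = x := mul_inv_eq_iff_eq_mul.2 hu2.eq
    have hvh : v * h * v⁻¹ = h := mul_inv_eq_iff_eq_mul.2 hh1.symm.eq
    have hy : Odd (orderOf (x * h)) :=
      (hx.mul hodd).of_dvd_nat (hh2.symm.orderOf_mul_dvd_mul_orderOf)
    have hyinv : (u * v) * (x * h) * (u * v)⁻¹ = (x * h)⁻¹ := by
      calc (u * v) * (x * h) * (u * v)⁻¹ = u * ((v * x * v⁻¹) * (v * h * v⁻¹)) * u⁻¹ := by group
        _ = (u * x * u⁻¹)⁻¹ * (u * h * u⁻¹) := by rw [hinv, hvh]; group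
        _ = x⁻¹ * h⁻¹ := by rw [hux', hhu]
        _ = (x * h)⁻¹ := by rw [mul_inv_rev, (hh2.inv_inv).eq]
    obtain ⟨w, hw, hw1, hwy⟩ := hS (x * h) (u * v) (V.mul_mem hu.2 hv) hy hyinv
    have hwv : Commute w v := hab w hw v hv
    have hwy' : Commute w (x⁻¹ * h) := by
      have : Commute (v * w * v⁻¹) (v * (x * h) * v⁻¹) :=
        (show Commute w (x * h) from hwy).map (MulAut.conj v).toMonoidHom
      rwa [mul_inv_eq_iff_eq_mul.2 hwv.symm.eq,
        show v * (x * h) * v⁻¹ = (v * x * v⁻¹) * (v * h * v⁻¹) by group, hinv, hvh] at this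
    have hwx : Commute w x := by
      refine hsq x hx w ?_
      have := (show Commute w (x * h) from hwy).mul_right hwy'.inv_right
      rwa [show x * h * (x⁻¹ * h)⁻¹ = x * x by group] at this
    have hwh : Commute w h := by
      have := hwx.inv_right.mul_right (show Commute w (x * h) from hwy)
      rwa [inv_mul_cancel_left] at this
    refine ⟨⟨w, Subgroup.mem_centralizer_singleton_iff.2 hwv.eq, Subgroup.mem_centralizer_singleton_iff.2 hwx.eq⟩,
      ⟨⟨Subgroup.mem_centralizer_singleton_iff.2 hwv.eq, Subgroup.mem_centralizer_singleton_iff.2 hwx.eq⟩, hw⟩,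
      fun hh => hw1 (congrArg Subtype.val hh), Subtype.ext hwh.eq⟩

end Cfsg.Agent.S3013
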