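import Cfsg.Statements.S3014
import Cfsg.Agent.Lib.LocalEvenB.CloseNormal

set_option autoImplicit false
open Cfsg

namespace Cfsg.Agent.S3014

/-- Let G be a finite group and H ≤ M ≤ G subgroups such that for every g ∈ G the subgroup generated by H and g H g⁻¹ meets M exactly in H. If H is a maximal subgroup of M and M is a maximal subgroup of G, then the normal closure of H in G meets M exactly in H. -/
theorem result {G : Type*} [Group G] [Finite G] (H M : Subgroup G) (hHM : H ≤ M) (hcl : ∀ g : G, (H ⊔ H.map (MulAut.conj g).toMonoidHom) ⊓ M = H) (hmaxH : IsCoatom (H.subgroupOf M)) (hmaxM : IsCoatom M) : Subgroup.normalClosure (H : Set G) ⊓ M = H := by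
  set N := Subgroup.normalClosure (H : Set G) with hN
  have hHN : H ≤ N := Subgroup.le_normalClosure
  refine le_antisymm ?_ (le_inf hHN hHM)
  by_cases hn : H.Normal
  · haveI := hn
    rw [hN, Subgroup.normalClosure_eq_self]
    exact inf_le_left
  -- `M` normalizes `H`
  have hMN : M ≤ Subgroup.normalizer (H : Set G) := by
    intro m hm
    refine CfsgLib.LocalEvenB.mem_normalizer_of_forall fun x hx => ?_
    have h1 : m * x * m⁻¹ ∈ (H ⊔ H.map (MulAut.conj m).toMonoidHom) ⊓ M :=
      ⟨Subgroup.mem_sup_right ⟨x, hx, rfl⟩, M.mul_mem (M.mul_mem hm (hHM hx)) (M.inv_mem hm)⟩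
    rwa [hcl m] at h1
  have hNM : Subgroup.normalizer (H : Set G) = M := by
    rcases hmaxM.le_iff.1 hMN with h | h
    · exact absurd (Subgroup.normalizer_eq_top_iff.1 h) hn
    · exact h
  haveI : (H.subgroupOf M).Normal := (Subgroup.normal_subgroupOf_iff_le_normalizer hHM).2 hMN
  by_cases hint : ∀ g : G, g ∉ M → ∀ x ∈ M, g⁻¹ * x * g ∈ M → x ∈ H
  · obtain ⟨K, hK, hKM⟩ := CfsgLib.LocalEvenB.exists_normal_inf_eq hHM
      (CfsgLib.LocalEvenB.commutator_mem_of_isCoatom_normal hmaxH) hint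
    haveI := hK
    calc N ⊓ M ≤ K ⊓ M := inf_le_inf_right _ (Subgroup.normalClosure_le_normal (hKM.ge.trans inf_le_left))
      _ = H := hKM
  push Not at hint
  obtain ⟨g, hg, x, hxM, hgx, hxH⟩ := hint
  set H' := H.map (MulAut.conj g).toMonoidHom with hH'
  set T := H ⊔ H' with hT
  have hTM : T ⊓ M = H := hcl g
  have hH'M : ¬ H' ≤ M := by
    intro hle
    apply hg
    rw [← hNM]
    refine CfsgLib.LocalEvenB.map_conj_eq_self_iff_mem_normalizer.1 (Subgroup.eq_of_le_of_card_ge ?_ ?_)
    · exact fun y hy => hTM ▸ (⟨Subgroup.mem_sup_right hy, hle hy⟩ : y ∈ T ⊓ M)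
    · exact (Nat.card_congr (H.equivMapOfInjective _ (MulAut.conj g).injective).toEquiv).le
  have hxT : x ∈ Subgroup.normalizer (T : Set G) := by
    refine CfsgLib.LocalEvenB.map_conj_eq_self_iff_mem_normalizer.1 ?_
    rw [hT, Subgroup.map_sup, CfsgLib.LocalEvenB.map_conj_eq_self_iff_mem_normalizer.2 (hMN hxM)]
    congr 1
    rw [hH', CfsgLib.LocalEvenB.map_conj_map_conj, show x * g = g * (g⁻¹ * x * g) by group,
      ← CfsgLib.LocalEvenB.map_conj_map_conj, CfsgLib.LocalEvenB.map_conj_eq_self_iff_mem_normalizer.2 (hMN hgx)]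
  have hMT : M ≤ Subgroup.normalizer (T : Set G) := by
    have h1 : H ⊔ Subgroup.zpowers x = M := by
      have h2 := hmaxH.2 ((H ⊔ Subgroup.zpowers x).subgroupOf M) (lt_of_le_of_ne
        (fun y hy => (show (y : G) ∈ H ⊔ Subgroup.zpowers x from Subgroup.mem_sup_left hy)) fun he => hxH (by
        have : (⟨x, hxM⟩ : M) ∈ H.subgroupOf M := he ▸ (show x ∈ H ⊔ Subgroup.zpowers x from Subgroup.mem_sup_right (Subgroup.mem_zpowers x))
        exact this))
      exact le_antisymm (sup_le hHM (Subgroup.zpowers_le.2 hxM)) (Subgroup.subgroupOf_eq_top.1 h2)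
    rw [← h1]
    exact sup_le ((le_sup_left : H ≤ T).trans Subgroup.le_normalizer) (Subgroup.zpowers_le.2 hxT)
  haveI : T.Normal := by
    refine Subgroup.normalizer_eq_top_iff.1 ((hmaxM.le_iff.1 hMT).resolve_right fun h => hH'M ?_)
    exact (le_sup_right.trans Subgroup.le_normalizer).trans h.le
  calc N ⊓ M ≤ T ⊓ M := inf_le_inf_right _ (Subgroup.normalClosure_le_normal (SetLike.coe_subset_coe.2 le_sup_left))
    _ = H := hTM

end Cfsg.Agent.S3014
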