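import Cfsg.Statements.S3015
import Cfsg.Agent.Lib.LocalEvenB.CloseNormal
import Cfsg.Agent.Lib.Transfer.Fusion

set_option autoImplicit false
open Cfsg

namespace Cfsg.Agent.S3015

/-- Let G be a finite non-abelian simple group, M a maximal subgroup of G and H a normal subgroup of M of prime index in M. Then G is generated by H together with one of its conjugates. -/
theorem result {G : Type*} [Group G] [Finite G] [IsSimpleGroup G] (hG : ¬ IsMulCommutative G) (M H : Subgroup G) (hmaxM : IsCoatom M) (hHM : H ≤ M) (hHn : (H.subgroupOf M).Normal) (hidx : (H.relIndex M).Prime) : ∃ g : G, H ⊔ H.map (MulAut.conj g).toMonoidHom = ⊤ := by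
  classical
  by_contra hcon
  push Not at hcon
  set r := H.relIndex M with hr
  have hrp : r.Prime := hidx
  haveI : Fact r.Prime := ⟨hrp⟩
  have hMN : M ≤ Subgroup.normalizer (H : Set G) := (Subgroup.normal_subgroupOf_iff_le_normalizer hHM).1 hHn
  have hM1 : M ≠ ⊥ := fun h => hrp.ne_one (by rw [hr, h, Subgroup.relIndex_bot_right])
  have hNM : Subgroup.normalizer (M : Set G) = M := by
    rcases hmaxM.le_iff.1 (Subgroup.le_normalizer (H := M)) with h | h
    · exfalso
      rcases (Subgroup.normalizer_eq_top_iff.1 h).eq_bot_or_eq_top with h' | h'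
      · exact hM1 h'
      · exact hmaxM.1 h'
    · exact h
  -- intermediate subgroups
  have hmid : ∀ X : Subgroup G, H ≤ X → X ≤ M → X = H ∨ X = M := by
    intro X h1 h2
    have hd : H.relIndex X * X.relIndex M = r := Subgroup.relIndex_mul_relIndex H X M h1 h2
    rcases (Nat.dvd_prime hrp).1 (Dvd.intro _ hd) with h | h
    · exact Or.inl (le_antisymm (Subgroup.relIndex_eq_one.1 h) h1)
    · refine Or.inr (le_antisymm h2 (Subgroup.relIndex_eq_one.1 ?_))
      rw [h] at hd
      exact mul_eq_left₀ hrp.ne_zero |>.1 hd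
  haveI : (H.subgroupOf M).Normal := hHn
  have hmax : IsCoatom (H.subgroupOf M) := by
    refine ⟨fun h => hrp.ne_one (by rw [hr, Subgroup.relIndex, h, Subgroup.index_top]), fun Y hY => ?_⟩
    have h1 : H ≤ Y.map M.subtype := by
      intro y hy
      exact ⟨⟨y, hHM hy⟩, hY.le hy, rfl⟩
    rcases hmid _ h1 (Subgroup.map_subtype_le Y) with h | h
    · exact absurd (by
        intro y hy
        have : (y : G) ∈ Y.map M.subtype := ⟨y, hy, rfl⟩
        rw [h] at this
        exact this : Y ≤ H.subgroupOf M) (not_le_of_gt hY)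
    · refine eq_top_iff.2 fun y _ => ?_
      have hyM : (y : G) ∈ Y.map M.subtype := h.symm ▸ y.2
      obtain ⟨z, hz, hzy⟩ := hyM
      exact (Subtype.ext hzy : z = y) ▸ hz
  have hab := CfsgLib.LocalEvenB.commutator_mem_of_isCoatom_normal (M := M) (H := H) hmax
  -- the dichotomy
  have key : ∀ n : G, n ∉ M → ∀ x ∈ M, n⁻¹ * x * n ∈ M → x ∉ H → n⁻¹ * x * n ∈ H := by
    intro n hn x hxM hnx hxH
    set H' := H.map (MulAut.conj n).toMonoidHom with hH'
    by_cases hle : H' ≤ M
    · set M' := M.map (MulAut.conj n).toMonoidHom with hM'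
      have hcard : Nat.card M' = Nat.card M := CfsgLib.Transfer.card_map_conj _ _
      have hne : ¬ M' ≤ M := fun h => hn (by
        rw [← hNM]
        exact CfsgLib.LocalEvenB.map_conj_eq_self_iff_mem_normalizer.1 (Subgroup.eq_of_le_of_card_ge h hcard.ge))
      set X := (M ⊓ M').map (MulAut.conj n⁻¹).toMonoidHom with hX
      have h1 : H ≤ X := by
        intro y hy
        refine CfsgLib.LocalEvenB.mem_map_conj.2 ?_
        refine ⟨hle ⟨y, hy, by simp⟩, y, hHM hy, by simp⟩
      have h2 : X ≤ M := by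
        rintro _ ⟨y, hy, rfl⟩
        obtain ⟨z, hz, rfl⟩ := hy.2
        simpa [mul_assoc] using hz
      have h3 : n⁻¹ * x * n ∈ X := ⟨x, ⟨hxM, n⁻¹ * x * n, hnx, by simp [mul_assoc]⟩, by simp⟩
      rcases hmid X h1 h2 with h | h
      · exact h ▸ h3
      · exfalso
        apply hne
        rintro _ ⟨z, hz, rfl⟩
        have hzX : z ∈ X := h.symm ▸ hz
        rw [hX, CfsgLib.LocalEvenB.mem_map_conj] at hzX
        have := hzX.1
        simpa using this
    · exfalso
      set T := H ⊔ H' with hT
      have hTM : T ⊓ M = H := by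
        rcases hmid (T ⊓ M) (le_inf le_sup_left hHM) inf_le_right with h | h
        · exact h
        · exfalso
          rcases hmaxM.le_iff.1 (inf_eq_right.1 h) with h' | h'
          · exact hcon n h'
          · exact hle (le_sup_right.trans h'.le)
      have hxT : x ∈ Subgroup.normalizer (T : Set G) := by
        refine CfsgLib.LocalEvenB.map_conj_eq_self_iff_mem_normalizer.1 ?_
        rw [hT, Subgroup.map_sup, CfsgLib.LocalEvenB.map_conj_eq_self_iff_mem_normalizer.2 (hMN hxM)]
        congr 1
        rw [hH', CfsgLib.LocalEvenB.map_conj_map_conj, show x * n = n * (n⁻¹ * x * n) by group,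
          ← CfsgLib.LocalEvenB.map_conj_map_conj, CfsgLib.LocalEvenB.map_conj_eq_self_iff_mem_normalizer.2 (hMN hnx)]
      have hMT : M ≤ Subgroup.normalizer (T : Set G) := by
        rcases hmid (H ⊔ Subgroup.zpowers x) le_sup_left (sup_le hHM (Subgroup.zpowers_le.2 hxM)) with h | h
        · exact absurd (h ▸ Subgroup.mem_sup_right (Subgroup.mem_zpowers x)) hxH
        · exact h.ge.trans (sup_le ((le_sup_left : H ≤ T).trans Subgroup.le_normalizer) (Subgroup.zpowers_le.2 hxT))
      have hTn : T.Normal := Subgroup.normalizer_eq_top_iff.1 ((hmaxM.le_iff.1 hMT).resolve_right fun h =>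
        hle ((le_sup_right.trans Subgroup.le_normalizer).trans h.le))
      rcases hTn.eq_bot_or_eq_top with h | h
      · exact hle ((le_sup_right.trans h.le).trans bot_le)
      · exact hcon n h
  -- `r`-subgroups of `M` normalized from outside lie in `H`
  have hQ : ∀ Q : Subgroup G, Q ≤ M → ∀ n ∈ Subgroup.normalizer (Q : Set G), n ∉ M → Q ≤ H := by
    intro Q hQM n hnN hn
    by_contra hQH
    obtain ⟨x, hxQ, hxH⟩ := SetLike.not_le_iff_exists.1 hQH
    have hconj : ∀ y ∈ Q, n⁻¹ * y * n ∈ Q := fun y hy => by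
      simpa using (Subgroup.mem_normalizer_iff.1 (Subgroup.inv_mem _ hnN) y).1 hy
    have hall : ∀ y ∈ Q, n⁻¹ * y * n ∈ H := by
      intro y hy
      by_cases hyH : y ∈ H
      · have hyx : y * x ∉ H := fun h => hxH (by
          have := H.mul_mem (H.inv_mem hyH) h
          rwa [inv_mul_cancel_left] at this)
        have h1 := key n hn _ (hQM (Q.mul_mem hy hxQ)) (hQM (hconj _ (Q.mul_mem hy hxQ))) hyx
        have h2 := key n hn x (hQM hxQ) (hQM (hconj _ hxQ)) hxH
        have h3 := H.mul_mem h1 (H.inv_mem h2)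
        simpa [mul_assoc] using h3
      · exact key n hn y (hQM hy) (hQM (hconj y hy)) hyH
    have h := hall _ ((Subgroup.mem_normalizer_iff.1 hnN x).1 hxQ)
    exact hxH (by simpa [mul_assoc] using h)
  -- a Sylow subgroup inside `M`
  obtain ⟨R, -, hRM, hRp, hRi⟩ := CfsgLib.Transfer.exists_sylow_of_le (p := r) (N := M) bot_le IsPGroup.of_bot
  obtain ⟨P, hRP⟩ := hRp.exists_le_sylow
  have hRH : ¬ R ≤ H := fun h => hRi ⟨R.relIndex H, by
    rw [← Subgroup.relIndex_mul_relIndex R H M h hHM, ← hr, mul_comm]⟩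
  have hPR : R = (P : Subgroup G) := by
    by_contra hne
    have h1 := CfsgLib.Transfer.lt_inf_normalizer P.2 (lt_of_le_of_ne hRP hne)
    obtain ⟨n, hn, hnR⟩ := SetLike.exists_of_lt h1
    by_cases hnM : n ∈ M
    · apply hnR
      set R' := (P : Subgroup G) ⊓ M with hR'
      have hR'p : IsPGroup r R' := P.2.to_le inf_le_left
      have hle : R ≤ R' := le_inf hRP hRM
      obtain ⟨k, hk⟩ := IsPGroup.iff_card.mp hR'p
      have d1 : R.relIndex R' ∣ r ^ k := hk ▸ Subgroup.index_dvd_card (R.subgroupOf R')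
      have d2 : R.relIndex R' ∣ R.relIndex M := Dvd.intro _ (Subgroup.relIndex_mul_relIndex R R' M hle inf_le_right)
      obtain ⟨i, -, hi⟩ := (Nat.dvd_prime_pow hrp).1 d1
      rcases Nat.eq_zero_or_pos i with hi0 | hi0
      · exact Subgroup.relIndex_eq_one.1 (by rw [hi, hi0, pow_zero]) (show n ∈ R' from Subgroup.mem_inf.2 ⟨hn.1, hnM⟩)
      · exact absurd ((dvd_pow_self r hi0.ne').trans (hi ▸ d2)) hRi
    · exact hRH (hQ R hRM n hn.2 hnM)
  have hPM : (P : Subgroup G) ≤ M := hPR ▸ hRM
  -- the focal subgroup lies in `H`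
  have hfocal := CfsgLib.Transfer.commutator_inf_le_of_fusion P H (by
    intro x hx g hgx
    have hpath := CfsgLib.Transfer.exists_fusionPath P (A := {x}) (g := g)
      (Set.singleton_subset_iff.2 hx) (by rw [Set.image_singleton]; exact Set.singleton_subset_iff.2 hgx)
    have main : ∀ {A : Set G} {g : G}, CfsgLib.Transfer.FusionPath P A g → ∀ a ∈ A, a ∈ (P : Subgroup G) →
        a⁻¹ * (g⁻¹ * a * g) ∈ H := by
      intro A g h
      induction h with
      | one A => intro a _ _; simp
      | step A Q y g _ hy hA _ ih =>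
        intro a ha haP
        set b := y⁻¹ * a * y with hb
        have hbI : b ∈ (P : Subgroup G) ⊓ (Q : Subgroup G) := by
          simpa using (Subgroup.mem_normalizer_iff.1 (Subgroup.inv_mem _ hy) a).1 (hA ha)
        have h2 := ih b ⟨a, ha, rfl⟩ hbI.1
        have h1 : a⁻¹ * b ∈ H := by
          by_cases hyM : y ∈ M
          · have := hab ⟨a⁻¹, M.inv_mem (hPM haP)⟩ ⟨y⁻¹, M.inv_mem hyM⟩
            simpa [commutatorElement_def, hb, mul_assoc] using this
          · have hle := hQ _ (inf_le_left.trans hPM) y hy hyM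
            exact H.mul_mem (H.inv_mem (hle (hA ha))) (hle hbI)
        have h3 := H.mul_mem h1 h2
        simpa [hb, mul_assoc] using h3
    exact main hpath x rfl hx)
  have htop : commutator G = ⊤ := by
    rcases (inferInstance : (commutator G).Normal).eq_bot_or_eq_top with h | h
    · exact absurd ((commutator_eq_bot_iff G).1 h) hG
    · exact h
  rw [htop, top_inf_eq, ← hPR] at hfocal
  exact hRH hfocal

end Cfsg.Agent.S3015
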