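import Cfsg.Statements.S3020
import Cfsg.Agent.Lib.Core.Cores
import Cfsg.Agent.Lib.Transfer.Conj
import Mathlib.GroupTheory.Transfer

set_option autoImplicit false
open Cfsg

namespace Cfsg.Agent.S3020

/-- Let G be a finite group, p a prime and H an abelian p-subgroup of G that is extremely closed (for every g, the subgroup generated by H and g H g⁻¹ meets N_G(H) exactly in H). Then for every g ∈ G, the subgroup T generated by H and g H g⁻¹ is the product of H with O_{p'}(T), and H meets O_{p'}(T) trivially; that is, O_{p'}(T) is a normal p-complement of H in T. -/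
theorem result {G : Type*} [Group G] [Finite G] {p : ℕ} [Fact p.Prime] (H : Subgroup G) (hHp : IsPGroup p H) (hHab : IsMulCommutative H) (hcl : Cfsg.IsExtremelyClosed H) (g : G) (T : Subgroup G) (hT : T = H ⊔ H.map (MulAut.conj g).toMonoidHom) : H ⊔ (Cfsg.pPrimeCore p ↥T).map T.subtype = T ∧ H ⊓ (Cfsg.pPrimeCore p ↥T).map T.subtype = ⊥ := by
  subst hT
  set T := H ⊔ H.map (MulAut.conj g).toMonoidHom with hT
  have hHT : H ≤ T := le_sup_left
  set H' := H.subgroupOf T with hH'
  have hmap : H'.map T.subtype = H := by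
    rw [hH', Subgroup.subgroupOf_map_subtype, inf_eq_left.2 hHT]
  have hN : Subgroup.normalizer (H' : Set T) = H' := by
    rw [hH', ← Subgroup.subgroupOf_normalizer_eq hHT]
    ext x
    simp only [Subgroup.mem_subgroupOf]
    constructor
    · intro hx
      have : (x : G) ∈ T ⊓ Subgroup.normalizer (H : Set G) := ⟨x.2, hx⟩
      rwa [hcl g] at this
    · exact fun hx => Subgroup.le_normalizer hx
  have hH'p : IsPGroup p H' := hHp.comap_subtype
  obtain ⟨P, hP⟩ := hH'p.exists_le_sylow
  have hPeq : (P : Subgroup T) = H' := by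
    by_contra hne
    have h1 := CfsgLib.Transfer.lt_inf_normalizer P.2 (lt_of_le_of_ne hP (Ne.symm hne))
    rw [hN, inf_eq_right.2 hP] at h1
    exact lt_irrefl _ h1
  have hPab : Subgroup.normalizer ((P : Subgroup T) : Set T) ≤ Subgroup.centralizer ((P : Subgroup T) : Set T) := by
    rw [hPeq, hN]
    intro x hx
    rw [Subgroup.mem_centralizer_iff]
    intro y hy
    have := hHab.is_comm.comm ⟨(y : G), hy⟩ ⟨(x : G), hx⟩
    exact Subtype.ext (show ((y * x : T) : G) = _ by simpa using congrArg Subtype.val this)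
  have hc := MonoidHom.ker_transferSylow_isComplement' P hPab
  set K := (MonoidHom.transferSylow P hPab).ker
  have hK : K ≤ Cfsg.pPrimeCore p ↥T := by
    refine CfsgLib.Core.le_pPrimeCore ?_
    rw [← hc.index_eq_card]
    exact ((Fact.out : p.Prime).coprime_iff_not_dvd.2 P.not_dvd_index).symm
  have hdis : (P : Subgroup T) ⊓ Cfsg.pPrimeCore p ↥T = ⊥ := by
    obtain ⟨n, hn⟩ := IsPGroup.iff_card.mp P.2
    refine Subgroup.inf_eq_bot_of_coprime ?_
    rw [hn]
    exact (CfsgLib.Core.coprime_card_pPrimeCore p T).symm.pow_left n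
  have htop : (P : Subgroup T) ⊔ Cfsg.pPrimeCore p ↥T = ⊤ :=
    eq_top_iff.2 (hc.symm.sup_eq_top.ge.trans (sup_le_sup le_rfl hK))
  rw [hPeq] at hdis htop
  constructor
  · have h2 := congrArg (Subgroup.map T.subtype) htop
    rwa [Subgroup.map_sup, hmap, ← MonoidHom.range_eq_map, Subgroup.range_subtype] at h2
  · have h2 := congrArg (Subgroup.map T.subtype) hdis
    rwa [Subgroup.map_inf _ _ _ T.subtype_injective, hmap, Subgroup.map_bot] at h2

end Cfsg.Agent.S3020
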