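import Cfsg.Statements.S3023
import Cfsg.Agent.Lib.LocalEvenB.CharP
import Cfsg.Agent.Lib.LocalEvenB.SubnormalSylow
import Cfsg.Agent.Lib.PGroups.MaxAbelian
import Cfsg.Agent.Lib.Transfer.Tate

set_option autoImplicit false
open Cfsg

namespace Cfsg.Agent.S3023

/-- Let p be a prime, G a finite group of parabolic characteristic p (every p-local subgroup containing a Sylow p-subgroup of G has characteristic p), S a Sylow p-subgroup of G and G₁ a subnormal subgroup of G. If the centre of S ∩ G₁ is nontrivial and contained in the centre of S, then G₁ has parabolic characteristic p. -/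
theorem result {G : Type*} [Group G] [Finite G] {p : ℕ} [Fact p.Prime] (hG : Cfsg.IsOfParabolicCharacteristic p G) (S : Sylow p G) (G₁ : Subgroup G) (hsn : G₁.IsSubnormal) (hne : ((S : Subgroup G) ⊓ G₁) ⊓ Subgroup.centralizer (((S : Subgroup G) ⊓ G₁ : Subgroup G) : Set G) ≠ ⊥) (hle : ((S : Subgroup G) ⊓ G₁) ⊓ Subgroup.centralizer (((S : Subgroup G) ⊓ G₁ : Subgroup G) : Set G) ≤ (S : Subgroup G) ⊓ Subgroup.centralizer ((S : Subgroup G) : Set G)) : Cfsg.IsOfParabolicCharacteristic p ↥G₁ := by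
  have hpr : p.Prime := Fact.out
  intro R hR hR1 hpar
  rw [← CfsgLib.LocalEvenB.hasCharP_iff]
  obtain ⟨Q, hQ⟩ := hpar
  -- move to `G`
  set U := R.map G₁.subtype with hU
  have hUG : U ≤ G₁ := Subgroup.map_subtype_le R
  have hUp : IsPGroup p U := hR.map _
  have hU1 : U ≠ ⊥ := by
    intro h
    exact hR1 ((Subgroup.map_eq_bot_iff_of_injective _ G₁.subtype_injective).1 h)
  -- the Sylow subgroup of `G₁` cut out by `S`
  have hSyl := CfsgLib.LocalEvenB.not_dvd_relIndex_inf_of_subnormal S hsn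
  obtain ⟨n, hn, hconj⟩ := CfsgLib.Transfer.exists_conj_le (S.2.to_le inf_le_left) hSyl
    (Subgroup.map_subtype_le (Q : Subgroup G₁)) (Q.2.map G₁.subtype)
  set V := U.map (MulAut.conj n⁻¹).toMonoidHom with hV
  set T := (S : Subgroup G) ⊓ G₁ with hT
  have hVG : V ≤ G₁ := by
    rintro _ ⟨u, hu, rfl⟩
    exact G₁.mul_mem (G₁.mul_mem (G₁.inv_mem hn) (hUG hu)) (G₁.inv_mem (G₁.inv_mem hn))
  have hVp : IsPGroup p V := hUp.map _
  have hV1 : V ≠ ⊥ := fun h => hU1 ((Subgroup.map_eq_bot_iff_of_injective _ (MulAut.conj n⁻¹).injective).1 h)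
  -- `T` normalizes `V`
  have hTQ : T ≤ ((Q : Subgroup G₁).map G₁.subtype).map (MulAut.conj n⁻¹).toMonoidHom := by
    refine (Subgroup.eq_of_le_of_card_ge (H := ((Q : Subgroup G₁).map G₁.subtype).map (MulAut.conj n⁻¹).toMonoidHom) ?_ ?_).ge
    · rintro _ ⟨q, hq, rfl⟩
      simpa using hconj q hq
    · rw [CfsgLib.Transfer.card_map_conj, ← Nat.card_congr ((Q : Subgroup G₁).equivMapOfInjective _ G₁.subtype_injective).toEquiv]
      obtain ⟨i, hi⟩ := IsPGroup.iff_card.mp ((S.2.to_le (inf_le_left : T ≤ S)).comap_subtype (K := G₁))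
      have h1 : Nat.card (T.subgroupOf G₁) = Nat.card T := Nat.card_congr (Subgroup.subgroupOfEquivOfLe inf_le_right).toEquiv
      obtain ⟨Q', hQ'⟩ := (IsPGroup.of_card hi).exists_le_sylow
      rw [← h1, Q.card_eq_multiplicity, ← Q'.card_eq_multiplicity]
      exact Subgroup.card_le_of_le hQ'
  have hTV : T ≤ Subgroup.normalizer (V : Set G) := by
    refine hTQ.trans ?_
    rintro _ ⟨_, ⟨q, hq, rfl⟩, rfl⟩
    refine CfsgLib.LocalEvenB.mem_normalizer_of_forall fun v hv => ?_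
    obtain ⟨_, ⟨u, hu, rfl⟩, rfl⟩ := hv
    exact ⟨((q * u * q⁻¹ : G₁) : G), ⟨q * u * q⁻¹, (Subgroup.mem_normalizer_iff.1 (hQ hq) u).1 hu, rfl⟩,
      by simp; group⟩
  -- `V ≤ T`
  have hTp : IsPGroup p T := S.2.to_le inf_le_left
  have hVT : V ≤ T := by
    have hP : IsPGroup p ↥(V ⊔ T) := IsPGroup.to_sup_of_normal_left' hVp hTp hTV
    have hle : V ⊔ T ≤ G₁ := sup_le hVG inf_le_right
    obtain ⟨k, hk⟩ := IsPGroup.iff_card.mp hP
    have h1 : T.relIndex (V ⊔ T) ∣ p ^ k := hk ▸ Subgroup.index_dvd_card (T.subgroupOf (V ⊔ T))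
    have h2 : T.relIndex (V ⊔ T) ∣ T.relIndex G₁ := Dvd.intro _ (Subgroup.relIndex_mul_relIndex T _ G₁ le_sup_right hle)
    obtain ⟨i, -, hi⟩ := (Nat.dvd_prime_pow hpr).1 h1
    rcases Nat.eq_zero_or_pos i with hi0 | hi0
    · exact le_sup_left.trans (Subgroup.relIndex_eq_one.1 (by rw [hi, hi0, pow_zero]))
    · exact absurd ((dvd_pow_self p hi0.ne').trans (hi ▸ h2)) hSyl
  -- `U₀ = V ⊓ Z(T)`
  set U₀ := V ⊓ Subgroup.centralizer (T : Set G) with hU₀
  have hU₀1 : U₀ ≠ ⊥ := by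
    intro h
    haveI : (V.subgroupOf T).Normal := (Subgroup.normal_subgroupOf_iff_le_normalizer hVT).2 hTV
    have hne' : V.subgroupOf T ≠ ⊥ := by
      rw [Ne, Subgroup.subgroupOf_eq_bot, disjoint_iff, inf_eq_left.2 hVT]
      exact hV1
    have hdvd : p ∣ Nat.card (V.subgroupOf T) := by
      rcases (hVp.comap_subtype (K := T)).card_eq_or_dvd with h' | h'
      · exact absurd (Subgroup.card_eq_one.1 h') hne'
      · exact h'
    obtain ⟨z, hzV, hzZ, hzo⟩ := CfsgLib.Transfer.exists_mem_center_orderOf_eq hTp hne'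
    have hz : (z : G) ∈ U₀ := ⟨hzV, Subgroup.mem_centralizer_iff.2 fun t ht =>
      congrArg Subtype.val (Subgroup.mem_center_iff.1 hzZ ⟨t, ht⟩)⟩
    rw [h, Subgroup.mem_bot] at hz
    rw [show z = 1 from Subtype.ext hz, orderOf_one] at hzo
    exact hpr.one_lt.ne hzo
  have hU₀S : U₀ ≤ Subgroup.centralizer ((S : Subgroup G) : Set G) :=
    (show U₀ ≤ (S : Subgroup G) ⊓ Subgroup.centralizer ((S : Subgroup G) : Set G) from
      le_trans (le_inf (inf_le_left.trans hVT) inf_le_right) hle).trans inf_le_right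
  have hU₀p : IsPGroup p U₀ := hVp.to_le inf_le_left
  have hSN : (S : Subgroup G) ≤ Subgroup.normalizer (U₀ : Set G) :=
    (Subgroup.le_centralizer_iff.1 hU₀S).trans (Subgroup.centralizer_le_normalizer _)
  have hN : CfsgLib.LocalEvenB.HasCharP p (Subgroup.normalizer (U₀ : Set G)) :=
    (CfsgLib.LocalEvenB.hasCharP_iff _).2 (hG U₀ hU₀p hU₀1 ⟨S, hSN⟩)
  set N₀ := Subgroup.normalizer (U₀ : Set G) with hN₀
  have hL1 : CfsgLib.LocalEvenB.HasCharP p (G₁ ⊓ N₀) := by
    clear_value N₀ T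
    have : ∀ H : Subgroup G, H.IsSubnormal → CfsgLib.LocalEvenB.HasCharP p (H ⊓ N₀) := by
      intro H hH
      induction hH with
      | top => rwa [top_inf_eq]
      | step H K hle _ hn ih =>
        refine ih.of_normalized (inf_le_inf_right _ hle) ((CfsgLib.LocalEvenB.pCoreOf_le _).trans ?_)
        exact le_trans (inf_le_inf ((Subgroup.normal_subgroupOf_iff_le_normalizer hle).1 hn) Subgroup.le_normalizer)
          Subgroup.inf_normalizer_le_normalizer_inf
    exact this G₁ hsn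
  have hVN₀ : V ≤ G₁ ⊓ N₀ := le_inf hVG ((hVT.trans inf_le_left).trans hSN)
  have hL2 := hL1.inf_normalizer hVp hVN₀
  set L := G₁ ⊓ Subgroup.normalizer (V : Set G) with hL
  have hVL : V ≤ Cfsg.pCoreOf p L :=
    CfsgLib.LocalEvenB.le_pCoreOf (le_inf hVG Subgroup.le_normalizer) hVp inf_le_right
  set X := L ⊓ Subgroup.centralizer (Cfsg.pCoreOf p L : Set G) with hX
  have hXn : L ≤ Subgroup.normalizer (X : Set G) := by
    intro l hl
    refine CfsgLib.LocalEvenB.mem_normalizer_of_forall fun x hx => ⟨L.mul_mem (L.mul_mem hl hx.1) (L.inv_mem hl), ?_⟩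
    refine Subgroup.mem_centralizer_iff.2 fun y hy => ?_
    have h1 : l⁻¹ * y * l ∈ Cfsg.pCoreOf p L := by
      simpa using (Subgroup.mem_normalizer_iff.1 (CfsgLib.LocalEvenB.le_normalizer_pCoreOf L (L.inv_mem hl)) y).1 hy
    have h2 := Subgroup.mem_centralizer_iff.1 hx.2 _ h1
    calc y * (l * x * l⁻¹) = l * ((l⁻¹ * y * l) * x) * l⁻¹ := by group
      _ = l * (x * (l⁻¹ * y * l)) * l⁻¹ := by rw [h2]
      _ = l * x * l⁻¹ * y := by group
  have hXL2 : X ≤ G₁ ⊓ N₀ ⊓ Subgroup.normalizer (V : Set G) :=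
    le_inf (le_inf (inf_le_left.trans inf_le_left) (inf_le_right.trans ((Subgroup.centralizer_le
      (SetLike.coe_subset_coe.2 ((inf_le_left : U₀ ≤ V).trans hVL))).trans (Subgroup.centralizer_le_normalizer _))))
      (inf_le_left.trans inf_le_right)
  have hXc : CfsgLib.LocalEvenB.HasCharP p X := hL2.of_normalized hXL2
    ((CfsgLib.LocalEvenB.pCoreOf_le _).trans ((inf_le_inf_right _ inf_le_left).trans hXn))
  have hXO : Cfsg.pCoreOf p X ≤ Cfsg.pCoreOf p L := by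
    refine CfsgLib.LocalEvenB.le_pCoreOf ((CfsgLib.LocalEvenB.pCoreOf_le X).trans inf_le_left)
      (CfsgLib.LocalEvenB.isPGroup_pCoreOf X) fun l hl => CfsgLib.LocalEvenB.mem_normalizer_of_forall fun y hy => ?_
    have hl' := hXn hl
    have hle' : (Cfsg.pCoreOf p X).map (MulAut.conj l).toMonoidHom ≤ Cfsg.pCoreOf p X := by
      refine CfsgLib.LocalEvenB.le_pCoreOf ?_ ((CfsgLib.LocalEvenB.isPGroup_pCoreOf X).map _) ?_
      · rintro _ ⟨z, hz, rfl⟩
        exact (Subgroup.mem_normalizer_iff.1 hl' z).1 (CfsgLib.LocalEvenB.pCoreOf_le X hz)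
      · intro x hx
        refine CfsgLib.LocalEvenB.mem_normalizer_of_forall ?_
        rintro _ ⟨z, hz, rfl⟩
        have hx' : l⁻¹ * x * l ∈ X := by simpa using (Subgroup.mem_normalizer_iff.1 (Subgroup.inv_mem _ hl') x).1 hx
        exact ⟨(l⁻¹ * x * l) * z * (l⁻¹ * x * l)⁻¹,
          (Subgroup.mem_normalizer_iff.1 (CfsgLib.LocalEvenB.le_normalizer_pCoreOf X hx') z).1 hz, by simp; group⟩
    exact hle' ⟨y, hy, rfl⟩
  have hLc : CfsgLib.LocalEvenB.HasCharP p L :=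
    CfsgLib.LocalEvenB.hasCharP_of_eq_one fun x hxL hxC hxo =>
      hXc.eq_one (Subgroup.mem_inf.2 ⟨hxL, hxC⟩) hxo (Subgroup.centralizer_le (SetLike.coe_subset_coe.2 hXO) hxC)
  -- back to `R`
  rw [CfsgLib.LocalEvenB.hasCharP_iff] at hLc ⊢
  let c : (Subgroup.normalizer (R : Set G₁)) ≃* L :=
    { toFun := fun r => ⟨n⁻¹ * ((r : G₁) : G) * n, ⟨G₁.mul_mem (G₁.mul_mem (G₁.inv_mem hn) (r : G₁).2) hn, by
        refine CfsgLib.LocalEvenB.mem_normalizer_of_forall ?_
        rintro _ ⟨_, ⟨u, hu, rfl⟩, rfl⟩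
        exact ⟨(((r : G₁) * u * (r : G₁)⁻¹ : G₁) : G), ⟨_, (Subgroup.mem_normalizer_iff.1 r.2 u).1 hu, rfl⟩,
          by simp; group⟩⟩⟩
      invFun := fun l => ⟨⟨n * (l : G) * n⁻¹, G₁.mul_mem (G₁.mul_mem hn l.2.1) (G₁.inv_mem hn)⟩, by
        refine CfsgLib.LocalEvenB.mem_normalizer_of_forall fun u hu => ?_
        obtain ⟨_, ⟨w, hw, rfl⟩, hwe⟩ := (Subgroup.mem_normalizer_iff.1 l.2.2 _).1
          (⟨_, ⟨u, hu, rfl⟩, rfl⟩ : (MulAut.conj n⁻¹).toMonoidHom (u : G) ∈ V)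
        have he : (w : G) = n * (l : G) * n⁻¹ * (u : G) * (n * (l : G) * n⁻¹)⁻¹ := by
          have hwe' : n⁻¹ * (w : G) * n = (l : G) * (n⁻¹ * (u : G) * n) * (l : G)⁻¹ := by simpa using hwe
          calc (w : G) = n * (n⁻¹ * (w : G) * n) * n⁻¹ := by group
            _ = _ := by rw [hwe']; group
        set nl : G₁ := ⟨n * (l : G) * n⁻¹, G₁.mul_mem (G₁.mul_mem hn l.2.1) (G₁.inv_mem hn)⟩ with hnl
        have he' : nl * u * nl⁻¹ = w := Subtype.ext (show n * (l : G) * n⁻¹ * (u : G) * (n * (l : G) * n⁻¹)⁻¹ = (w : G) from he.symm)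
        rw [he']
        exact hw⟩
      left_inv := fun r => by apply Subtype.ext; apply Subtype.ext; simp [mul_assoc]
      right_inv := fun l => by apply Subtype.ext; simp [mul_assoc]
      map_mul' := fun r s => by apply Subtype.ext; simp [mul_assoc] }
  intro x hx
  have h1 : c x ∈ Cfsg.pCore p L := by
    refine hLc (Subgroup.mem_centralizer_iff.2 fun y hy => ?_)
    rw [SetLike.mem_coe, ← CfsgLib.Core.map_equiv_pCore c] at hy
    obtain ⟨y', hy', rfl⟩ := hy
    show c y' * c x = c x * c y'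
    rw [← map_mul, ← map_mul, Subgroup.mem_centralizer_iff.1 hx y' hy']
  rw [← CfsgLib.Core.map_equiv_pCore c] at h1
  obtain ⟨x', hx', hxx⟩ := h1
  exact c.injective hxx ▸ hx'

end Cfsg.Agent.S3023
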