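import Cfsg.Statements.S3025
import Cfsg.Agent.Lib.Core.UniqueOrderP
import Mathlib.RingTheory.IntegralDomain

set_option autoImplicit false
open Cfsg

namespace Cfsg.Agent.S3025

/-- Let F be a finite group and H a nontrivial subgroup of F that is contained in every nontrivial subgroup of F which H normalizes. Then F has a nontrivial normal subgroup N contained in every nontrivial normal subgroup of F (a unique minimal normal subgroup), N is simple, and one of the following holds: C_F(N) = 1; or H = N has prime order p, C_F(N) is cyclic of order a power of p, and F/C_F(N) is cyclic of order dividing p − 1; or H = N has order 2, N is central in F, and F is a generalized quaternion group. -/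
theorem result {F : Type*} [Group F] [Finite F] (H : Subgroup F) (hH : H ≠ ⊥)
    (hmin : ∀ R : Subgroup F, R ≠ ⊥ → H ≤ Subgroup.normalizer (R : Set F) → H ≤ R) :
    ∃ N : Subgroup F, N.Normal ∧ N ≠ ⊥ ∧ (∀ M : Subgroup F, M.Normal → M ≠ ⊥ → N ≤ M) ∧ IsSimpleGroup ↥N ∧
      (Subgroup.centralizer (N : Set F) = ⊥ ∨
       (H = N ∧ (Nat.card N).Prime ∧ IsCyclic ↥(Subgroup.centralizer (N : Set F)) ∧
          (∃ k : ℕ, 1 ≤ k ∧ Nat.card ↥(Subgroup.centralizer (N : Set F)) = Nat.card N ^ k) ∧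
          (∃ g : F, Subgroup.centralizer (N : Set F) ⊔ Subgroup.zpowers g = ⊤) ∧
          (Subgroup.centralizer (N : Set F)).index ∣ Nat.card N - 1) ∨
       (H = N ∧ Nat.card N = 2 ∧ Subgroup.centralizer (N : Set F) = ⊤ ∧
          ∃ k : ℕ, 1 ≤ k ∧ Nonempty (F ≃* QuaternionGroup (2 ^ k)))) := by
  have hHN : ∀ M : Subgroup F, M.Normal → M ≠ ⊥ → H ≤ M := fun M hM hM1 =>
    hmin M hM1 (by rw [Subgroup.normalizer_eq_top_iff.2 hM]; exact le_top)
  obtain ⟨N, hNdef⟩ : ∃ N, N = Subgroup.normalClosure (H : Set F) := ⟨_, rfl⟩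
  haveI hNn : N.Normal := hNdef ▸ Subgroup.normalClosure_normal
  have hHleN : H ≤ N := hNdef ▸ fun x hx => Subgroup.subset_normalClosure hx
  have hN1 : N ≠ ⊥ := fun h => hH (le_bot_iff.1 (h ▸ hHleN))
  have huniq : ∀ M : Subgroup F, M.Normal → M ≠ ⊥ → N ≤ M := fun M hM hM1 => by
    haveI := hM
    rw [hNdef]; exact Subgroup.normalClosure_le_normal (hHN M hM hM1)
  haveI : Nontrivial N := (Subgroup.nontrivial_iff_ne_bot _).2 hN1
  have hsimple : IsSimpleGroup ↥N := by
    refine ⟨fun T hT => or_iff_not_imp_left.2 fun hT1 => ?_⟩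
    have hT' : T.map N.subtype ≠ ⊥ := fun h =>
      hT1 ((Subgroup.map_eq_bot_iff_of_injective _ N.subtype_injective).1 h)
    have hNT : ∀ x ∈ N, ∀ t ∈ T.map N.subtype, x * t * x⁻¹ ∈ T.map N.subtype := by
      rintro x hx _ ⟨t, ht, rfl⟩
      exact ⟨⟨x, hx⟩ * t * ⟨x, hx⟩⁻¹, hT.conj_mem t ht _, rfl⟩
    have hconj : ∀ g : F, ∀ h ∈ H, g * h * g⁻¹ ∈ T.map N.subtype := by
      intro g
      have hle : H ≤ (T.map N.subtype).map (MulAut.conj g⁻¹).toMonoidHom := by
        refine hmin _ (fun h => hT' ((Subgroup.map_eq_bot_iff_of_injective _ (MulAut.conj g⁻¹).injective).1 h)) ?_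
        refine hHleN.trans (Subgroup.le_normalizer_iff.2 ?_)
        rintro x hx _ ⟨t, ht, rfl⟩
        refine ⟨(g * x * g⁻¹) * t * (g * x * g⁻¹)⁻¹, hNT _ (hNn.conj_mem x hx g) t ht, ?_⟩
        simp [mul_assoc]
      intro h hh
      obtain ⟨t, ht, hte⟩ := hle hh
      have : g * h * g⁻¹ = t := by rw [← hte]; simp [mul_assoc]
      rw [this]; exact ht
    have hle : N ≤ T.map N.subtype := by
      refine hNdef.le.trans ?_
      rw [Subgroup.normalClosure, Subgroup.closure_le]
      intro y hy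
      obtain ⟨h, hh, hy⟩ := Group.mem_conjugatesOfSet_iff.1 hy
      obtain ⟨g, rfl⟩ := isConj_iff.1 hy
      exact hconj g h hh
    rw [eq_top_iff]
    rintro ⟨x, hx⟩ -
    obtain ⟨t, ht, hte⟩ := hle hx
    rwa [show (⟨x, hx⟩ : N) = t from Subtype.ext hte.symm]
  refine ⟨N, hNn, hN1, huniq, hsimple, ?_⟩
  obtain ⟨C, hC⟩ : ∃ C, C = Subgroup.centralizer (N : Set F) := ⟨_, rfl⟩
  rw [← hC]
  by_cases hC1 : C = ⊥
  · exact Or.inl hC1
  right
  haveI hCn : C.Normal := hC ▸ inferInstance
  have hNC : N ≤ C := huniq C hCn hC1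
  have hNab : IsMulCommutative N := Subgroup.le_centralizer_iff_isMulCommutative.1 (hC ▸ hNC)
  letI : CommGroup N := { (inferInstance : Group N) with mul_comm := hNab.is_comm.comm }
  haveI := hsimple
  obtain ⟨q, hqdef⟩ : ∃ q, q = Nat.card N := ⟨_, rfl⟩
  have hqp : q.Prime := hqdef ▸ IsSimpleGroup.prime_card
  haveI : Fact q.Prime := ⟨hqp⟩
  have hHeq : H = N := by
    refine Subgroup.eq_of_le_of_card_ge hHleN ?_
    rcases (Nat.dvd_prime hqp).1 (hqdef ▸ Subgroup.card_dvd_of_le hHleN) with h | h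
    · exact absurd (Subgroup.card_eq_one.1 h) hH
    · rw [h, hqdef]
  have hRC : ∀ R : Subgroup F, R ≤ C → R ≠ ⊥ → N ≤ R := by
    intro R hR hR1
    rw [← hHeq]
    refine hmin R hR1 (le_trans ?_ (Subgroup.centralizer_le_normalizer _))
    rw [Subgroup.le_centralizer_iff]
    refine hR.trans ?_
    rw [hC, hHeq]
  have hordC : ∀ r : ℕ, r.Prime → r ∣ Nat.card C → r = q := by
    intro r hr hrC
    haveI := Fact.mk hr
    obtain ⟨⟨x, hx⟩, hxo⟩ := exists_prime_orderOf_dvd_card' (G := C) r hrC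
    rw [Subgroup.orderOf_mk] at hxo
    have hle := hRC (Subgroup.zpowers x) (Subgroup.zpowers_le.2 hx)
      (by rw [Ne, Subgroup.zpowers_eq_bot]; intro h; rw [h, orderOf_one] at hxo; exact hr.one_lt.ne hxo)
    have h2 := Subgroup.card_dvd_of_le hle
    rw [← hqdef, Nat.card_zpowers, hxo] at h2
    rcases (Nat.dvd_prime hr).1 h2 with h | h
    · exact absurd h hqp.one_lt.ne'
    · exact h.symm
  have hpow : Nat.card C = q ^ (Nat.card C).factorization q := by
    have h := Nat.eq_prime_pow_of_unique_prime_dvd (n := Nat.card C) (p := q) Nat.card_pos.ne'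
      (fun {d} hd hdd => hordC d hd hdd)
    rw [h, hqp.factorization_pow, Finsupp.single_eq_same]
  have hCp : IsPGroup q C := IsPGroup.of_card hpow
  have hk1 : 1 ≤ (Nat.card C).factorization q := by
    by_contra h
    push Not at h
    rw [Nat.lt_one_iff.1 h, pow_zero, Subgroup.card_eq_one] at hpow
    exact hC1 hpow
  have hunique : ∀ A B : Subgroup C, Nat.card A = q → Nat.card B = q → A = B := by
    have key : ∀ A : Subgroup C, Nat.card A = q → A.map C.subtype = N := by
      intro A hA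
      refine (Subgroup.eq_of_le_of_card_ge (hRC _ (Subgroup.map_subtype_le _) ?_) ?_).symm
      · rw [Ne, Subgroup.map_eq_bot_iff_of_injective _ C.subtype_injective, ← Subgroup.card_eq_one, hA]
        exact hqp.one_lt.ne'
      · rw [Subgroup.card_map_of_injective C.subtype_injective, hA, hqdef]
    intro A B hA hB
    exact Subgroup.map_injective C.subtype_injective ((key A hA).trans (key B hB).symm)
  -- the automorphisms induced on `N`
  let φ : F →* MulAut N :=
    { toFun := fun g => MulAut.conjNormal g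
      map_one' := map_one _
      map_mul' := map_mul _ }
  have hker : φ.ker = C := by
    ext g
    rw [MonoidHom.mem_ker, hC, Subgroup.mem_centralizer_iff]
    constructor
    · intro h n hn
      have := congrArg (fun e : MulAut N => ((e ⟨n, hn⟩ : N) : F)) h
      simp only [φ, MonoidHom.coe_mk, OneHom.coe_mk, MulAut.conjNormal_apply, MulAut.one_apply] at this
      exact (mul_inv_eq_iff_eq_mul.1 this).symm
    · intro h
      refine MulEquiv.ext fun n => Subtype.ext ?_
      show ((MulAut.conjNormal g n : N) : F) = n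
      rw [MulAut.conjNormal_apply, ← h n n.2, mul_inv_cancel_right]
  haveI : IsCyclic N := isCyclic_of_prime_card hqdef.symm
  let e := IsCyclic.mulAutMulEquiv (G := N)
  haveI : NeZero (Nat.card N) := ⟨Nat.card_pos.ne'⟩
  haveI : Fact (Nat.card N).Prime := ⟨hqdef ▸ hqp⟩
  haveI : IsCyclic (MulAut N) := e.isCyclic.2 inferInstance
  have hindex : C.index ∣ q - 1 := by
    rw [← hker, Subgroup.index_ker]
    refine (Subgroup.card_subgroup_dvd_card φ.range).trans ?_
    rw [Nat.card_congr e.toEquiv, Nat.card_eq_fintype_card, ZMod.card_units_eq_totient, ← hqdef, Nat.totient_prime hqp]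
  have hgen : ∃ g : F, C ⊔ Subgroup.zpowers g = ⊤ := by
    obtain ⟨⟨a, ha⟩, hgena⟩ := IsCyclic.exists_generator (α := φ.range)
    obtain ⟨g, rfl⟩ := ha
    refine ⟨g, eq_top_iff.2 fun x _ => ?_⟩
    obtain ⟨k, hk⟩ := Subgroup.mem_zpowers_iff.1 (hgena ⟨φ x, x, rfl⟩)
    have hk' : φ (g ^ k) = φ x := by
      rw [map_zpow]
      simpa using congrArg Subtype.val hk
    have hm : x * (g ^ k)⁻¹ ∈ C := by
      rw [← hker, MonoidHom.mem_ker, map_mul, map_inv, hk', mul_inv_cancel]
    have := Subgroup.mul_mem_sup hm (Subgroup.zpow_mem_zpowers g k)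
    simpa using this
  rcases CfsgLib.Core.UniqueOrderP.isCyclic_or_quaternion_of_unique hCp hunique with hcyc | ⟨hq2, n, ⟨en⟩⟩
  · exact Or.inl ⟨hHeq, hqdef ▸ hqp, hcyc, ⟨_, hk1, hqdef ▸ hpow⟩, hgen, hqdef ▸ hindex⟩
  · rcases Nat.eq_zero_or_pos n with rfl | hn
    · haveI : IsCyclic (QuaternionGroup (2 ^ 0)) := by rw [pow_zero]; exact QuaternionGroup.quaternionGroup_one_isCyclic
      exact Or.inl ⟨hHeq, hqdef ▸ hqp, en.isCyclic.2 inferInstance, ⟨_, hk1, hqdef ▸ hpow⟩, hgen, hqdef ▸ hindex⟩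
    have hCtop : C = ⊤ := by
      rw [← Subgroup.index_eq_one]
      have : q - 1 = 1 := by omega
      exact Nat.dvd_one.1 (this ▸ hindex)
    refine Or.inr ⟨hHeq, hqdef ▸ hq2, hCtop, n, hn, ?_⟩
    exact ⟨(Subgroup.topEquiv.symm.trans (MulEquiv.subgroupCongr hCtop.symm)).trans en⟩

end Cfsg.Agent.S3025
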