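import Cfsg.Statements.S3027
import Cfsg.Agent.Lib.LocalEvenB.Basic

set_option autoImplicit false
open Cfsg

namespace Cfsg.Agent.S3027

/-- Let G be a finite group and D a normal subgroup of G such that G/D is perfect (that is, G = G′D). Then among the subnormal subgroups B of G with BD = G there is a least one, and it is normal in G. -/
theorem result {G : Type*} [Group G] [Finite G] (D : Subgroup G) [D.Normal] (hperf : ⁅(⊤ : Subgroup G), (⊤ : Subgroup G)⁆ ⊔ D = ⊤) :
    ∃ B : Subgroup G, B.Normal ∧ B ⊔ D = ⊤ ∧ ∀ B' : Subgroup G, B'.IsSubnormal → B' ⊔ D = ⊤ → B ≤ B' := by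
  classical
  have key : ∀ A B : Subgroup G, A ⊔ D = ⊤ → B ⊔ D = ⊤ → ⁅A, B⁆ ⊔ D = ⊤ := by
    intro A B hA hB
    have hm : ∀ X : Subgroup G, X ⊔ D = ⊤ ↔ X.map (QuotientGroup.mk' D) = ⊤ := fun X => by
      constructor
      · intro h
        have h2 := congrArg (Subgroup.map (QuotientGroup.mk' D)) h
        rwa [Subgroup.map_sup, QuotientGroup.map_mk'_self, sup_bot_eq,
          Subgroup.map_top_of_surjective _ (QuotientGroup.mk'_surjective D)] at h2
      · intro h
        have h2 := congrArg (Subgroup.comap (QuotientGroup.mk' D)) h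
        rwa [Subgroup.comap_map_eq, QuotientGroup.ker_mk', Subgroup.comap_top] at h2
    have h3 := (hm _).1 hperf
    rw [Subgroup.map_commutator, Subgroup.map_top_of_surjective _ (QuotientGroup.mk'_surjective D)] at h3
    rw [hm, Subgroup.map_commutator, (hm A).1 hA, (hm B).1 hB]
    exact h3
  have hinf : ∀ N L₁ L₂ : Subgroup G, L₁ ≤ N → N ≤ Subgroup.normalizer (L₁ : Set G) →
      N ≤ Subgroup.normalizer (L₂ : Set G) → L₁ ⊔ D = ⊤ → L₂ ⊔ D = ⊤ → L₂ ≤ N → (L₁ ⊓ L₂) ⊔ D = ⊤ := by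
    intro N L₁ L₂ h1 hn1 hn2 hs1 hs2 h2
    refine eq_top_iff.2 ((key L₁ L₂ hs1 hs2).ge.trans (sup_le_sup ?_ le_rfl))
    refine Subgroup.commutator_le.2 fun a ha b hb => Subgroup.mem_inf.2 ⟨?_, ?_⟩
    · rw [commutatorElement_def, mul_assoc, mul_assoc, ← mul_assoc b]
      exact L₁.mul_mem ha ((Subgroup.mem_normalizer_iff.1 (hn1 (h2 hb)) _).1 (L₁.inv_mem ha))
    · rw [commutatorElement_def]
      exact L₂.mul_mem ((Subgroup.mem_normalizer_iff.1 (hn2 (h1 ha)) _).1 hb) (L₂.inv_mem hb)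
  have main : ∀ H : Subgroup G, H.IsSubnormal → H ⊔ D = ⊤ →
      ∃ N : Subgroup G, N.Normal ∧ N ⊔ D = ⊤ ∧ N ≤ H := by
    intro H hH
    induction hH with
    | top => exact fun h => ⟨⊤, inferInstance, h, le_rfl⟩
    | step H K h_le hSubn hN ih =>
      intro hHD
      obtain ⟨N, hNn, hND, hNK⟩ := ih (eq_top_iff.2 (hHD.ge.trans (sup_le_sup h_le le_rfl)))
      haveI := hNn
      have hKH : K ≤ Subgroup.normalizer (H : Set G) := (Subgroup.normal_subgroupOf_iff_le_normalizer h_le).1 hN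
      set L := H ⊓ N with hL
      have hLn : ∀ g ∈ N, ∀ x ∈ L, g * x * g⁻¹ ∈ L := fun g hg x hx =>
        Subgroup.mem_inf.2 ⟨(Subgroup.mem_normalizer_iff.1 (hKH (hNK hg)) x).1 hx.1, hNn.conj_mem x hx.2 g⟩
      have hLD : L ⊔ D = ⊤ := by
        refine eq_top_iff.2 ((key H N hHD hND).ge.trans (sup_le_sup ?_ le_rfl))
        refine le_inf ?_ (Subgroup.commutator_le_right H N)
        refine Subgroup.commutator_le.2 fun a ha b hb => ?_
        rw [commutatorElement_def, mul_assoc, mul_assoc, ← mul_assoc b]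
        exact H.mul_mem ha ((Subgroup.mem_normalizer_iff.1 (hKH (hNK hb)) _).1 (H.inv_mem ha))
      let c : G → Subgroup G := fun g => L.map (MulAut.conj g).toMonoidHom
      have hcN : ∀ g, c g ≤ N := by
        rintro g _ ⟨x, hx, rfl⟩; exact hNn.conj_mem x hx.2 g
      have hcn : ∀ g, N ≤ Subgroup.normalizer (c g : Set G) := by
        intro g n hn
        have hstep : ∀ m ∈ N, ∀ y ∈ c g, m * y * m⁻¹ ∈ c g := by
          rintro m hm _ ⟨x, hx, rfl⟩
          exact ⟨(g⁻¹ * m * g) * x * (g⁻¹ * m * g)⁻¹, hLn _ (by simpa using hNn.conj_mem m hm g⁻¹) x hx,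
            by simp; group⟩
        refine Subgroup.mem_normalizer_iff.2 fun y => ⟨hstep n hn y, fun h => ?_⟩
        have h2 := hstep n⁻¹ (N.inv_mem hn) _ h
        simpa [mul_assoc] using h2
      have hcD : ∀ g, c g ⊔ D = ⊤ := by
        intro g
        have h := congrArg (Subgroup.map (MulAut.conj g).toMonoidHom) hLD
        have hD' : D.map (MulAut.conj g).toMonoidHom = D :=
          CfsgLib.LocalEvenB.map_conj_eq_self_iff_mem_normalizer.2 (by rw [Subgroup.normalizer_eq_top_iff.2 inferInstance]; trivial)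
        rwa [Subgroup.map_sup, hD', Subgroup.map_top_of_surjective _ (MulAut.conj g).surjective] at h
      haveI := Fintype.ofFinite G
      have hs : ∀ s : Finset G, (N ⊓ s.inf c) ⊔ D = ⊤ ∧ N ≤ Subgroup.normalizer ((N ⊓ s.inf c : Subgroup G) : Set G) := by
        intro s
        induction s using Finset.induction with
        | empty =>
          rw [Finset.inf_empty, inf_top_eq]
          exact ⟨hND, Subgroup.le_normalizer⟩
        | @insert a s _ ih =>
          rw [Finset.inf_insert, inf_left_comm]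
          refine ⟨hinf N _ _ (hcN a) (hcn a) ih.2 (hcD a) ih.1 inf_le_left, ?_⟩
          exact (le_inf (hcn a) ih.2).trans Subgroup.inf_normalizer_le_normalizer_inf
      refine ⟨N ⊓ Finset.univ.inf c, ⟨fun x hx g => Subgroup.mem_inf.2 ⟨hNn.conj_mem x hx.1 g, ?_⟩⟩, (hs _).1, ?_⟩
      · have hx' : ∀ a, x ∈ c a := fun a => (Finset.inf_le (Finset.mem_univ a) : Finset.univ.inf c ≤ c a) hx.2
        have : ∀ a, g * x * g⁻¹ ∈ c a := fun a => by
          obtain ⟨y, hy, hyx⟩ := hx' (g⁻¹ * a)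
          refine ⟨y, hy, ?_⟩
          rw [← hyx]
          simp; group
        have hle : Subgroup.zpowers (g * x * g⁻¹) ≤ Finset.univ.inf c :=
          Finset.le_inf fun a _ => Subgroup.zpowers_le.2 (this a)
        exact hle (Subgroup.mem_zpowers _)
      · intro x hx
        have h1 : x ∈ c 1 := (Finset.inf_le (Finset.mem_univ 1) : Finset.univ.inf c ≤ c 1) hx.2
        obtain ⟨y, hy, rfl⟩ := h1
        simpa using hy.1
  obtain ⟨B, hB⟩ := (Set.toFinite {N : Subgroup G | N.Normal ∧ N ⊔ D = ⊤}).exists_minimal ⟨⊤, inferInstance, top_sup_eq D⟩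
  refine ⟨B, hB.1.1, hB.1.2, fun B' hB' hB'D => ?_⟩
  obtain ⟨N, hNn, hND, hNB⟩ := main B' hB' hB'D
  haveI := hB.1.1
  have h1 : (B ⊓ N) ⊔ D = ⊤ := hinf ⊤ B N le_top (fun g _ => by rw [Subgroup.normalizer_eq_top_iff.2 hB.1.1]; trivial)
    (fun g _ => by rw [Subgroup.normalizer_eq_top_iff.2 hNn]; trivial) hB.1.2 hND le_top
  exact ((hB.2 ⟨inferInstance, h1⟩ inf_le_left).trans inf_le_right).trans hNB

end Cfsg.Agent.S3027
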