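import Cfsg.Statements.S3037
import Cfsg.Agent.Lib.LocalEvenB.Basic

set_option autoImplicit false
open Cfsg

namespace Cfsg.Agent.S3037

/-- Let V and G be subgroups of a finite group with V an elementary abelian p-group (p prime) on which G acts faithfully and irreducibly by conjugation: G normalizes V, G ∩ C(V) = 1, and the only subgroups of V normalized by G are 1 and V. If for some nontrivial subgroup A of G and some real α > 0 one has |V| ≤ |A|^α · |C_V(A)|, then |V| ≤ |G|^α. -/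
theorem result {X : Type*} [Group X] [Finite X] {p : ℕ} [Fact p.Prime] (V G : Subgroup X) (hV : Cfsg.IsElementaryAbelian p V)
    (hGV : G ≤ Subgroup.normalizer (V : Set X)) (hfaith : G ⊓ Subgroup.centralizer (V : Set X) = ⊥)
    (hirr : ∀ W : Subgroup X, W ≤ V → G ≤ Subgroup.normalizer (W : Set X) → W = ⊥ ∨ W = V)
    (A : Subgroup X) (hA : A ≤ G) (hA1 : A ≠ ⊥) (α : ℝ) (hα : 0 < α)
    (hbig : (Nat.card V : ℝ) ≤ (Nat.card A : ℝ) ^ α * (Nat.card ↥(V ⊓ Subgroup.centralizer (A : Set X)) : ℝ)) :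
    (Nat.card V : ℝ) ≤ (Nat.card G : ℝ) ^ α := by
  classical
  let CV : Subgroup X → Subgroup X := fun B => V ⊓ Subgroup.centralizer (B : Set X)
  let f : Subgroup X → ℝ := fun B => (Nat.card B : ℝ) ^ α * (Nat.card (CV B) : ℝ)
  have hfpos : ∀ B, 0 < f B := fun B =>
    mul_pos (Real.rpow_pos_of_pos (Nat.cast_pos.2 Nat.card_pos) α) (Nat.cast_pos.2 Nat.card_pos)
  have hsuper : ∀ B C : Subgroup X, f B * f C ≤ f (B ⊔ C) * f (B ⊓ C) := by
    intro B C
    have h1 := CfsgLib.LocalEvenB.card_mul_card_le_sup_inf B C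
    have h2 : Nat.card (CV B) * Nat.card (CV C) ≤ Nat.card (CV (B ⊔ C)) * Nat.card (CV (B ⊓ C)) := by
      refine (CfsgLib.LocalEvenB.card_mul_card_le_sup_inf (CV B) (CV C)).trans ?_
      rw [mul_comm]
      have e1 : CV B ⊓ CV C = CV (B ⊔ C) := by
        simp only [CV, CfsgLib.LocalEvenB.centralizer_sup]
        rw [← inf_inf_distrib_left]
      have e2 : CV B ⊔ CV C ≤ CV (B ⊓ C) :=
        sup_le (inf_le_inf le_rfl (Subgroup.centralizer_le (SetLike.coe_subset_coe.2 inf_le_left)))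
          (inf_le_inf le_rfl (Subgroup.centralizer_le (SetLike.coe_subset_coe.2 inf_le_right)))
      exact Nat.mul_le_mul (by rw [e1]) (Nat.le_of_dvd Nat.card_pos (Subgroup.card_dvd_of_le e2))
    have h1' : (Nat.card B : ℝ) ^ α * (Nat.card C : ℝ) ^ α ≤
        (Nat.card ↥(B ⊔ C) : ℝ) ^ α * (Nat.card ↥(B ⊓ C) : ℝ) ^ α := by
      rw [← Real.mul_rpow (by positivity) (by positivity), ← Real.mul_rpow (by positivity) (by positivity)]
      exact Real.rpow_le_rpow (by positivity) (by exact_mod_cast h1) hα.le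
    have h2' : (Nat.card (CV B) : ℝ) * (Nat.card (CV C) : ℝ) ≤
        (Nat.card (CV (B ⊔ C)) : ℝ) * (Nat.card (CV (B ⊓ C)) : ℝ) := by exact_mod_cast h2
    calc f B * f C = ((Nat.card B : ℝ) ^ α * (Nat.card C : ℝ) ^ α) *
          ((Nat.card (CV B) : ℝ) * (Nat.card (CV C) : ℝ)) := by simp only [f]; ring
      _ ≤ ((Nat.card ↥(B ⊔ C) : ℝ) ^ α * (Nat.card ↥(B ⊓ C) : ℝ) ^ α) *
          ((Nat.card (CV (B ⊔ C)) : ℝ) * (Nat.card (CV (B ⊓ C)) : ℝ)) :=
          mul_le_mul h1' h2' (by positivity) (by positivity)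
      _ = f (B ⊔ C) * f (B ⊓ C) := by simp only [f]; ring
  have hfin : {B : Subgroup X | B ≤ G}.Finite := Set.toFinite _
  obtain ⟨B₀, hB₀, hmax⟩ := Set.exists_max_image {B : Subgroup X | B ≤ G} f hfin ⟨⊥, (bot_le : ⊥ ≤ G)⟩
  let S : Set (Subgroup X) := {B | B ≤ G ∧ f B = f B₀}
  obtain ⟨M, hMS⟩ := Set.Finite.exists_maximal (Set.toFinite S) ⟨B₀, hB₀, rfl⟩
  have hclosed : ∀ B C, B ∈ S → C ∈ S → B ⊔ C ∈ S := by
    rintro B C ⟨hB, eB⟩ ⟨hC, eC⟩
    refine ⟨sup_le hB hC, le_antisymm (hmax _ (sup_le hB hC)) ?_⟩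
    have := hsuper B C
    rw [eB, eC] at this
    have h' := mul_le_mul_of_nonneg_left (hmax (B ⊓ C) (inf_le_left.trans hB)) (hfpos (B ⊔ C)).le
    exact le_of_mul_le_mul_right (this.trans h') (hfpos B₀)
  have htop : ∀ B ∈ S, B ≤ M := fun B hB => by
    have := hMS.2 (hclosed M B hMS.1 hB) le_sup_left
    exact le_sup_right.trans this
  have hV1 : (Nat.card V : ℝ) = f ⊥ := by
    have hc : CV ⊥ = V := inf_eq_left.2 fun v _ => Subgroup.mem_centralizer_iff.2 fun h hh => by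
      rw [Subgroup.mem_bot.1 hh, one_mul, mul_one]
    simp [f, hc]
  have hMne : M ≠ ⊥ := by
    intro hM
    have h1 : f ⊥ ≤ f A := hV1 ▸ hbig
    have h2 : f B₀ = f ⊥ := by rw [← hMS.1.2, hM]
    exact hA1 (le_bot_iff.1 (hM ▸ htop A ⟨hA, le_antisymm (hmax A hA) (h2 ▸ h1)⟩))
  have hnorm : ∀ g ∈ G, M.map (MulAut.conj g).toMonoidHom = M := by
    intro g hg
    let e : X ≃* X := MulAut.conj g
    have hVg : V.map e.toMonoidHom = V :=
      CfsgLib.LocalEvenB.map_conj_eq_self_iff_mem_normalizer.2 (hGV hg)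
    have hMG : M.map e.toMonoidHom ≤ G := by
      rintro _ ⟨m, hm, rfl⟩
      exact G.mul_mem (G.mul_mem hg (hMS.1.1 hm)) (G.inv_mem hg)
    have hcard : ∀ B : Subgroup X, Nat.card ↥(B.map e.toMonoidHom) = Nat.card B := fun B =>
      (Nat.card_congr (B.equivMapOfInjective _ e.injective).toEquiv).symm
    have hf : f (M.map e.toMonoidHom) = f M := by
      have : CV (M.map e.toMonoidHom) = (CV M).map e.toMonoidHom := by
        simp only [CV]
        rw [Subgroup.map_inf _ _ _ e.injective, hVg, CfsgLib.LocalEvenB.map_centralizer_equiv]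
      simp only [f, this, hcard]
    exact Subgroup.eq_of_le_of_card_ge (htop _ ⟨hMG, hf.trans hMS.1.2⟩) (hcard M).ge
  have hGC : G ≤ Subgroup.normalizer ((CV M : Subgroup X) : Set X) := by
    intro g hg
    rw [← CfsgLib.LocalEvenB.map_conj_eq_self_iff_mem_normalizer]
    simp only [CV]
    rw [Subgroup.map_inf _ _ _ (MulAut.conj g).injective, CfsgLib.LocalEvenB.map_centralizer_equiv,
      hnorm g hg, CfsgLib.LocalEvenB.map_conj_eq_self_iff_mem_normalizer.2 (hGV hg)]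
  have hbot : CV M = ⊥ := by
    rcases hirr (CV M) inf_le_left hGC with h | h
    · exact h
    · refine absurd (le_bot_iff.1 ?_) hMne
      rw [← hfaith]
      refine le_inf hMS.1.1 fun m hm => Subgroup.mem_centralizer_iff.2 fun v hv => ?_
      have hv' : v ∈ CV M := h.symm ▸ hv
      exact (Subgroup.mem_centralizer_iff.1 hv'.2 m hm).symm
  calc (Nat.card V : ℝ) = f ⊥ := hV1
    _ ≤ f B₀ := hmax ⊥ (bot_le : ⊥ ≤ G)
    _ = f M := hMS.1.2.symm
    _ = (Nat.card M : ℝ) ^ α := by simp [f, hbot]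
    _ ≤ (Nat.card G : ℝ) ^ α := by
        refine Real.rpow_le_rpow (by positivity) ?_ hα.le
        exact_mod_cast Nat.le_of_dvd Nat.card_pos (Subgroup.card_dvd_of_le hMS.1.1)

end Cfsg.Agent.S3037
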