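import Cfsg.Statements.S3047
import Cfsg.Agent.Lib.LocalEvenB.RankOne.SL2
import Cfsg.Agent.Lib.LocalEvenB.RankOne.SU3
import Cfsg.Agent.Lib.Core.Cores
import Cfsg.Agent.Lib.Transfer.PResidual

set_option autoImplicit false
open Cfsg

namespace Cfsg.Agent.S3047

/-- Let p ≥ 5 be a prime, G a finite group all of whose composition factors are known simple groups, S a Sylow p-subgroup and P a p-minimal subgroup of G containing S such that O^p(P/O_p(P)) is isomorphic to SL₂(pᵃ), PSL₂(pᵃ), SU₃(pᵃ) or PSU₃(pᵃ) for some a ≥ 1. Let L be the subgroup generated by N_G(S) and the p-minimal subgroups of G containing S other than P. Then either O^p(P) is normal in G, or every p-element of the centre of L lies in O_p(P). -/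
theorem result {G : Type*} [Group G] [Finite G] {p : ℕ} [Fact p.Prime] (hp : 5 ≤ p) (hK : Cfsg.IsCompositionKGroup G)
    (S : Sylow p G) (P : Subgroup G) (hSP : (S : Subgroup G) ≤ P) (hPmin : Cfsg.IsPMinimal p ↥P) [hn : (Cfsg.pCore p ↥P).Normal]
    (hrk1 : ∃ (F : Type) (_ : Field F) (_ : Fintype F) (a : ℕ), 1 ≤ a ∧
      ((Fintype.card F = p ^ a ∧ (Nonempty (↥(Cfsg.pResidual p (↥P ⧸ Cfsg.pCore p ↥P)) ≃* Matrix.SpecialLinearGroup (Fin 2) F) ∨
                                  Nonempty (↥(Cfsg.pResidual p (↥P ⧸ Cfsg.pCore p ↥P)) ≃* Matrix.ProjectiveSpecialLinearGroup (Fin 2) F))) ∨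
       (Fintype.card F = p ^ (2 * a) ∧ (Nonempty (↥(Cfsg.pResidual p (↥P ⧸ Cfsg.pCore p ↥P)) ≃* ↥(Cfsg.SU 3 F (p ^ a))) ∨
                                        Nonempty (↥(Cfsg.pResidual p (↥P ⧸ Cfsg.pCore p ↥P)) ≃* Cfsg.PSU 3 F (p ^ a))))))
    (L : Subgroup G)
    (hL : L = Subgroup.normalizer ((S : Subgroup G) : Set G) ⊔ ⨆ P' : {P' : Subgroup G // (S : Subgroup G) ≤ P' ∧ Cfsg.IsPMinimal p ↥P' ∧ P' ≠ P}, (P' : Subgroup G)) :
    ((Cfsg.pResidual p ↥P).map P.subtype).Normal ∨
    ∀ z ∈ L ⊓ Subgroup.centralizer (L : Set G), (∃ k : ℕ, orderOf z = p ^ k) → z ∈ (Cfsg.pCore p ↥P).map P.subtype := by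
  refine Or.inr fun z hz ⟨k, hk⟩ => ?_
  set X := ↥P ⧸ Cfsg.pCore p ↥P
  set R := Cfsg.pResidual p X with hR
  have hcp : ∀ (K : Type) [Field K] [Fintype K] (b : ℕ), 1 ≤ b → Fintype.card K = p ^ b →
      CharP K p := fun K _ _ b _ hK => charP_of_card_eq_prime_pow hK
  -- the residual has a rank one datum
  obtain ⟨hperf, hD⟩ : commutator ↥R = ⊤ ∧
      ∃ U : Sylow p ↥R, CfsgLib.LocalEvenB.RankOne.Datum p ↥R U := by
    open CfsgLib.LocalEvenB.RankOne CfsgLib.Classical.Herm in
    obtain ⟨F, _, _, a, ha, hcases⟩ := hrk1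
    rcases hcases with ⟨hF, hiso⟩ | ⟨hF, hiso⟩
    · haveI := hcp F a ha hF
      obtain ⟨U, hU⟩ := datum_SL2 (F := F) (p := p) hp
      have hperfS := commutator_SL2_top (F := F) (p := p) hp
      rcases hiso with he | he <;> obtain ⟨e⟩ := he
      · exact ⟨perfect_map e.symm.toMonoidHom e.symm.surjective hperfS, _,
          hU.map e.symm.toMonoidHom e.symm.surjective
            (by rw [(MonoidHom.ker_eq_bot_iff _).2 e.symm.injective]; exact bot_le)
            (fun x hx _ _ => by
              rw [(MonoidHom.ker_eq_bot_iff _).2 e.symm.injective] at hx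
              exact Subgroup.mem_bot.1 hx)⟩
      · let φ : Matrix.SpecialLinearGroup (Fin 2) F →* ↥R :=
          e.symm.toMonoidHom.comp (QuotientGroup.mk' (Subgroup.center _))
        have hφ : Function.Surjective φ :=
          e.symm.surjective.comp (QuotientGroup.mk'_surjective _)
        have hker : φ.ker = Subgroup.center _ := by
          ext x; simp [φ, MonoidHom.mem_ker, QuotientGroup.eq_one_iff]
        exact ⟨perfect_map φ hφ hperfS, _, hU.map φ hφ hker.le
          (fun x hx j hj => center_pow_SL2 (p := p) (by omega) (hker ▸ hx) hj)⟩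
    · haveI := hcp F (2 * a) (by omega) hF
      have hF2 : Fintype.card F = (p ^ a) ^ 2 := by rw [hF, ← pow_mul, mul_comm]
      have hq : 5 ≤ p ^ a := hp.trans (Nat.le_self_pow (by omega) p)
      haveI : Finite ((Fin 3 → F) ≃ₗ[F] (Fin 3 → F)) :=
        Finite.of_injective _ DFunLike.coe_injective
      have hh := hermStd_isHerm (n := 3) hF2
      obtain ⟨U, hU⟩ := Unitary.datum_HSU (p := p) hh finrank_std hp
      have hperfH : commutator (HSU (hermStd 3 hF2)) = ⊤ :=
        hh.HSU_le_commutator (by rw [finrank_std]) (fun _ => by rw [card_fixed_powHom hF2]; omega)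
      let e' := (suEquiv 3 hF2).symm
      have hperfS : commutator ↥(Cfsg.SU 3 F (p ^ a)) = ⊤ :=
        perfect_map e'.toMonoidHom e'.surjective hperfH
      have hU' := hU.map e'.toMonoidHom e'.surjective
        (by rw [(MonoidHom.ker_eq_bot_iff _).2 e'.injective]; exact bot_le)
        (fun x hx _ _ => by
          rw [(MonoidHom.ker_eq_bot_iff _).2 e'.injective] at hx
          exact Subgroup.mem_bot.1 hx)
      rcases hiso with he | he <;> obtain ⟨e⟩ := he
      · exact ⟨perfect_map e.symm.toMonoidHom e.symm.surjective hperfS, _,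
          hU'.map e.symm.toMonoidHom e.symm.surjective
            (by rw [(MonoidHom.ker_eq_bot_iff _).2 e.symm.injective]; exact bot_le)
            (fun x hx _ _ => by
              rw [(MonoidHom.ker_eq_bot_iff _).2 e.symm.injective] at hx
              exact Subgroup.mem_bot.1 hx)⟩
      · let φ : ↥(Cfsg.SU 3 F (p ^ a)) →* ↥R :=
          e.symm.toMonoidHom.comp (QuotientGroup.mk' (Subgroup.center _))
        have hφ : Function.Surjective φ :=
          e.symm.surjective.comp (QuotientGroup.mk'_surjective _)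
        have hker : φ.ker = Subgroup.center _ := by
          ext x; simp [φ, MonoidHom.mem_ker, QuotientGroup.eq_one_iff]
        refine ⟨perfect_map φ hφ hperfS, _, hU'.map φ hφ hker.le (fun x hx j hj => ?_)⟩
        rw [hker] at hx
        have h3 : orderOf x ∣ 3 := by
          have hdvd : Nat.card (Subgroup.center ↥(Cfsg.SU 3 F (p ^ a))) ∣ 3 := by
            rw [card_center_SU hF2 3 le_rfl]; exact Nat.gcd_dvd_left 3 _
          exact (Subgroup.orderOf_dvd_natCard _ hx).trans hdvd
        exact orderOf_eq_one_iff.1 (Nat.eq_one_of_dvd_coprimes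
          (((Nat.coprime_primes Nat.prime_three (Fact.out : p.Prime)).2 (by omega)).pow_right j)
          h3 (orderOf_dvd_of_pow_eq_one hj))
  -- the element lies in the Sylow subgroup and commutes with its normaliser
  obtain ⟨hzL, hzC⟩ := Subgroup.mem_inf.1 hz
  have hNL : ∀ n ∈ Subgroup.normalizer ((S : Subgroup G) : Set G), z * n = n * z := fun n hn =>
    (Subgroup.mem_centralizer_iff.1 hzC n (hL ▸ Subgroup.mem_sup_left hn)).symm
  have hzk : z ^ p ^ k = 1 := by rw [← hk]; exact pow_orderOf_eq_one z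
  have hzS : z ∈ (S : Subgroup G) := CfsgLib.LocalEvenB.RankOne.mem_of_normalizes ⟨k, hzk⟩ (by
    rw [Sylow.smul_eq_iff_mem_normalizer]
    exact Subgroup.centralizer_le_normalizer _ (Subgroup.mem_centralizer_iff.2 fun s hs =>
      (hNL s (Subgroup.le_normalizer hs)).symm))
  let S' : Sylow p ↥P := S.subtype hSP
  let π := QuotientGroup.mk' (Cfsg.pCore p ↥P)
  have hπ : Function.Surjective π := QuotientGroup.mk'_surjective _
  let zb : X := π ⟨z, hSP hzS⟩
  have h1 : zb = 1 := by
    refine CfsgLib.LocalEvenB.RankOne.eq_one_of_central_fixed (p := p) (by omega)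
      (CfsgLib.Core.pCore_quotient_pCore p ↥P) R
      (CfsgLib.Transfer.isPGroup_quotient_pResidual (G := X)) hperf hD
      (S'.mapSurjective hπ) ⟨⟨z, hSP hzS⟩, (hzS : z ∈ (S : Subgroup G)), rfl⟩ ?_
    intro n hn
    obtain ⟨m, rfl⟩ := hπ n
    have hm : (m : G) ∈ Subgroup.normalizer ((S : Subgroup G) : Set G) := by
      refine Subgroup.mem_normalizer_fintype ?_
      intro s hs
      have hsS' : (⟨s, hSP hs⟩ : ↥P) ∈ S' := hs
      have h := (Subgroup.mem_normalizer_iff.1 hn (π ⟨s, hSP hs⟩)).1 ⟨_, hsS', rfl⟩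
      obtain ⟨s', hs', he⟩ := h
      rw [← map_inv, ← map_mul, ← map_mul] at he
      have hmem : s'⁻¹ * (m * ⟨s, hSP hs⟩ * m⁻¹) ∈ (S' : Subgroup ↥P) :=
        CfsgLib.Core.pCore_le_sylow S' (QuotientGroup.eq.1 he)
      have := mul_mem hs' hmem
      rw [mul_inv_cancel_left] at this
      exact this
    show π _ * π m = π m * π _
    rw [← map_mul, ← map_mul]
    exact congrArg π (Subtype.ext (hNL _ hm))
  exact ⟨⟨z, hSP hzS⟩, (QuotientGroup.eq_one_iff _).1 h1, rfl⟩

end Cfsg.Agent.S3047
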