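import Cfsg.Statements.S3050
import Cfsg.Agent.Lib.LocalEvenB.FpfExtension
import Cfsg.Agent.Lib.LocalEven.NaturalModule

set_option autoImplicit false
open Cfsg

namespace Cfsg.Agent.S3050

/-- Let G be a finite group with a normal 2-subgroup Q such that G/Q is isomorphic to SL(2, 2ⁿ) with n ≥ 2, and suppose some element of G of order 3 fixes no nonidentity element of Q under conjugation. Then Q is elementary abelian and is the direct product of normal subgroups of G on each of which G acts as SL(2, 2ⁿ) acts on its natural two-dimensional module (a Galois twist of the natural action allowed). -/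
theorem result {G : Type*} [Group G] [Finite G]
    (Q : Subgroup G) [Q.Normal] (hQ : IsPGroup 2 ↥Q) (n : ℕ) (hn : 2 ≤ n)
    (K : Type*) [Field K] [Fintype K] (hK : Fintype.card K = 2 ^ n)
    (e : G ⧸ Q ≃* Matrix.SpecialLinearGroup (Fin 2) K)
    (x : G) (hx : orderOf x = 3) (hfpf : ∀ q ∈ Q, x * q * x⁻¹ = q → q = 1) :
    Cfsg.IsElementaryAbelian 2 Q ∧
      ∃ (k : ℕ) (V : Fin k → Subgroup G), (∀ i, V i ≤ Q ∧ (V i).Normal ∧
        Cfsg.ActsAsSL2OnSection K ⊤ ⊤ (V i) ⊥) ∧ iSupIndep V ∧ ⨆ i, V i = Q := by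
  classical
  haveI : Fact (Nat.Prime 2) := ⟨Nat.prime_two⟩
  haveI := CfsgLib.LocalEven.charP_of_card_eq K hK
  have hF : ∃ t : K, t ≠ 0 ∧ t ≠ 1 := by
    by_contra hall
    push Not at hall
    have hle : (Finset.univ : Finset K) ⊆ {0, 1} := fun t _ => by
      rcases eq_or_ne t 0 with h | h
      · simp [h]
      · simp [hall t h]
    have h4 : 4 ≤ Fintype.card K := hK ▸ (by calc 4 = 2 ^ 2 := by norm_num
                                                _ ≤ 2 ^ n := Nat.pow_le_pow_right (by norm_num) hn)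
    have := Finset.card_le_card hle
    rw [Finset.card_univ, Finset.card_pair zero_ne_one] at this
    omega
  have helem := CfsgLib.LocalEvenB.fpf_extension_elementary hF _ Q le_rfl hQ e x hx hfpf
  have hQc : ∀ a ∈ Q, ∀ b ∈ Q, a * b = b * a := fun a ha b hb => by
    have hinv : ∀ c ∈ Q, c⁻¹ = c := fun c hc => inv_eq_of_mul_eq_one_right (helem c hc)
    rw [← hinv _ (mul_mem ha hb), _root_.mul_inv_rev, hinv a ha, hinv b hb]
  have hel : Cfsg.IsElementaryAbelian 2 Q :=
    ⟨⟨⟨fun a b => Subtype.ext (hQc _ a.2 _ b.2)⟩⟩, fun q hq => by rw [pow_two]; exact helem q hq⟩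
  refine ⟨hel, ?_⟩
  letI : CommGroup ↥Q := { (inferInstance : Group ↥Q) with mul_comm := fun a b => Subtype.ext (hQc _ a.2 _ b.2) }
  let τ : G →* AddMonoid.End (Additive ↥Q) :=
    { toFun := fun g => MonoidHom.toAdditive (MulAut.conjNormal (H := Q) g).toMonoidHom
      map_one' := DFunLike.ext _ _ fun a => by
        show Additive.ofMul (MulAut.conjNormal (H := Q) 1 (Additive.toMul a)) = a
        rw [map_one]; rfl
      map_mul' := fun g h => DFunLike.ext _ _ fun a => by
        show Additive.ofMul (MulAut.conjNormal (H := Q) (g * h) (Additive.toMul a)) = Additive.ofMul (MulAut.conjNormal (H := Q) g (MulAut.conjNormal (H := Q) h (Additive.toMul a)))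
        rw [map_mul]; rfl }
  have hτ : ∀ g a, ((Additive.toMul (τ g a) : ↥Q) : G) = g * (Additive.toMul a : ↥Q) * g⁻¹ := fun g a =>
    MulAut.conjNormal_apply g (Additive.toMul a)
  obtain ⟨act, hact, hrel⟩ := CfsgLib.LocalEvenB.exists_act Q hQ e τ (fun q hq => DFunLike.ext _ _ fun a =>
    Additive.toMul.injective (Subtype.ext (by
      rw [hτ, hQc q hq _ (Additive.toMul a).2, mul_inv_cancel_right]; rfl))) hx (fun a ha => by
      refine Additive.toMul.injective (Subtype.ext (hfpf _ (Additive.toMul a).2 ?_))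
      rw [← hτ, ha])
  obtain ⟨k, θ, hθ⟩ := CfsgLib.LocalEvenB.fpf_decompose hrel
    (fun a => Additive.toMul.injective (Subtype.ext (helem _ (Additive.toMul a).2)))
  obtain ⟨emb, hemb⟩ : ∃ emb : Multiplicative (Fin k → Fin 2 → K) →* G,
      ∀ v, emb (Multiplicative.ofAdd v) = ((Additive.toMul (θ v) : ↥Q) : G) :=
    ⟨MonoidHom.mk' (fun v => ((Additive.toMul (θ (Multiplicative.toAdd v)) : ↥Q) : G))
      (fun a b => by rw [toAdd_mul, map_add, toMul_add, Subgroup.coe_mul]), fun v => rfl⟩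
  have hembinj : Function.Injective emb := fun a b h => by
    rw [← ofAdd_toAdd a, ← ofAdd_toAdd b, hemb, hemb] at h
    exact Multiplicative.toAdd.injective (θ.injective (Additive.toMul.injective (Subtype.ext h)))
  have hconj : ∀ (g : G) (v : Fin k → Fin 2 → K), g * emb (Multiplicative.ofAdd v) * g⁻¹ =
      emb (Multiplicative.ofAdd fun i => Matrix.mulVec ((e (g : G ⧸ Q) : Matrix.SpecialLinearGroup (Fin 2) K) : Matrix (Fin 2) (Fin 2) K) (v i)) := by
    intro g v
    rw [hemb, hemb, ← hθ, hact, hτ]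
  let V : Fin k → Subgroup G := fun i =>
    ((AddMonoidHom.single (fun _ : Fin k => Fin 2 → K) i).toMultiplicative.range).map emb
  have hV : ∀ i g, g ∈ V i ↔ ∃ w, emb (Multiplicative.ofAdd (Pi.single i w)) = g := fun i g =>
    ⟨fun ⟨_, ⟨w, rfl⟩, h⟩ => ⟨Multiplicative.toAdd w, h⟩, fun ⟨w, h⟩ => ⟨_, ⟨Multiplicative.ofAdd w, rfl⟩, h⟩⟩
  have hmul : ∀ i (g : G) w, g * emb (Multiplicative.ofAdd (Pi.single i w)) * g⁻¹ =
      emb (Multiplicative.ofAdd (Pi.single i (Matrix.mulVec ((e (g : G ⧸ Q) : Matrix.SpecialLinearGroup (Fin 2) K) : Matrix (Fin 2) (Fin 2) K) w))) := by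
    intro i g w
    rw [hconj]
    congr 2
    funext j
    rcases eq_or_ne j i with rfl | h
    · rw [Pi.single_eq_same, Pi.single_eq_same]
    · rw [Pi.single_eq_of_ne h, Pi.single_eq_of_ne h, Matrix.mulVec_zero]
  have hVn : ∀ i, (V i).Normal := fun i => ⟨fun v hv g => by
    obtain ⟨w, rfl⟩ := (hV i v).1 hv
    exact (hV i _).2 ⟨_, (hmul i g w).symm⟩⟩
  have hVQ : ∀ i, V i ≤ Q := fun i v hv => by
    obtain ⟨w, rfl⟩ := (hV i v).1 hv
    rw [hemb]; exact SetLike.coe_mem _
  refine ⟨k, V, fun i => ⟨hVQ i, hVn i, ?_⟩, fun i => ?_, le_antisymm (iSup_le hVQ) fun q hq => ?_⟩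
  · haveI := hVn i
    obtain ⟨j, hj⟩ : ∃ j : (Fin 2 → K) → ↥(V i), ∀ w, ((j w : ↥(V i)) : G) = emb (Multiplicative.ofAdd (Pi.single i w)) :=
      ⟨fun w => ⟨_, (hV i _).2 ⟨w, rfl⟩⟩, fun _ => rfl⟩
    have hjb : Function.Bijective j := ⟨fun a b h => Pi.single_injective i (Multiplicative.ofAdd.injective (hembinj (by
        rw [← hj, ← hj, h]))), fun v => by
      obtain ⟨w, hw⟩ := (hV i _).1 v.2
      exact ⟨w, Subtype.ext ((hj w).trans hw)⟩⟩
    let J := Equiv.ofBijective j hjb
    have hJ : ∀ a b, J (a + b) = J a * J b := fun a b => Subtype.ext (by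
      show ((j (a + b) : ↥(V i)) : G) = (j a : G) * (j b : G)
      rw [hj, hj, hj, Pi.single_add, ofAdd_add, map_mul])
    let ψ : ↥(V i) →* Multiplicative (Fin 2 → K) := MonoidHom.mk' (fun v => Multiplicative.ofAdd (J.symm v)) fun a b => by
      rw [← ofAdd_add]; congr 1
      rw [J.symm_apply_eq, hJ, J.apply_symm_apply, J.apply_symm_apply]
    refine ⟨(Subgroup.normalizer_eq_top_iff.2 (hVn i)).ge, bot_le, (e.toMonoidHom.comp (QuotientGroup.mk' Q)).comp (⊤ : Subgroup G).subtype, ψ,
      MonoidHom.range_eq_top.2 fun m => ?_, fun w => ⟨J (Multiplicative.toAdd w), ?_⟩, fun v => ?_, fun g v => ?_⟩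
    · obtain ⟨g, hg⟩ := QuotientGroup.mk_surjective (e.symm m)
      exact ⟨⟨g, Subgroup.mem_top g⟩, by show e (g : G ⧸ Q) = m; rw [hg, e.apply_symm_apply]⟩
    · show Multiplicative.ofAdd (J.symm (J _)) = w
      rw [J.symm_apply_apply, ofAdd_toAdd]
    · show Multiplicative.ofAdd (J.symm v) = 1 ↔ _
      rw [ofAdd_eq_one, J.symm_apply_eq, Subgroup.mem_bot, Subtype.ext_iff]
      show (v : G) = (j 0 : G) ↔ _
      rw [hj, Pi.single_zero, ofAdd_zero, map_one]
    · obtain ⟨w, rfl⟩ := J.surjective v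
      refine ⟨J (Matrix.mulVec ((e ((g : G) : G ⧸ Q) : Matrix.SpecialLinearGroup (Fin 2) K) : Matrix (Fin 2) (Fin 2) K) w), ?_, ?_⟩
      · show (j _ : G) = (g : G) * (j w : G) * (g : G)⁻¹
        rw [hj, hj, hmul]
      · show J.symm (J _) = Matrix.mulVec _ (J.symm (J w))
        rw [J.symm_apply_apply, J.symm_apply_apply]
        rfl
  · rw [disjoint_iff_inf_le]
    intro g hg
    rw [Subgroup.mem_inf] at hg
    obtain ⟨w, rfl⟩ := (hV i _).1 hg.1
    let Z : Subgroup (Multiplicative (Fin k → Fin 2 → K)) :=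
      { carrier := {v | Multiplicative.toAdd v i = 0}
        one_mem' := rfl
        mul_mem' := fun {a b} ha hb => by
          show Multiplicative.toAdd a i + Multiplicative.toAdd b i = 0
          rw [show Multiplicative.toAdd a i = 0 from ha, show Multiplicative.toAdd b i = 0 from hb, add_zero]
        inv_mem' := fun {a} ha => by
          show -(Multiplicative.toAdd a i) = 0
          rw [show Multiplicative.toAdd a i = 0 from ha, neg_zero] }
    have hle : (⨆ (j : Fin k) (_ : j ≠ i), V j) ≤ Z.map emb := iSup₂_le fun j hj g hg => by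
      obtain ⟨u, rfl⟩ := (hV j g).1 hg
      exact Subgroup.mem_map_of_mem _ (show Pi.single (M := fun _ : Fin k => Fin 2 → K) j u i = 0 from Pi.single_eq_of_ne hj.symm _)
    obtain ⟨v, hv, hve⟩ := hle hg.2
    rw [hembinj hve] at hv
    have hw : w = 0 := by
      have : Pi.single (M := fun _ : Fin k => Fin 2 → K) i w i = 0 := hv
      rwa [Pi.single_eq_same] at this
    rw [Subgroup.mem_bot, hw, Pi.single_zero, ofAdd_zero, map_one]
  · obtain ⟨v, hv⟩ := θ.surjective (Additive.ofMul ⟨q, hq⟩)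
    have hqv : emb (Multiplicative.ofAdd v) = q := by rw [hemb, hv]; rfl
    have hsum : ∀ s : Finset (Fin k), emb (Multiplicative.ofAdd (∑ j ∈ s, Pi.single j (v j))) ∈ ⨆ j, V j := by
      intro s
      induction s using Finset.induction_on with
      | empty => rw [Finset.sum_empty, ofAdd_zero, map_one]; exact one_mem _
      | insert j s hj ih =>
        rw [Finset.sum_insert hj, ofAdd_add, map_mul]
        exact mul_mem (Subgroup.mem_iSup_of_mem j ((hV j _).2 ⟨v j, rfl⟩)) ih
    rw [← hqv, ← Finset.univ_sum_single v]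
    exact hsum _

end Cfsg.Agent.S3050
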