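import Cfsg.Statements.S3054
import Cfsg.Agent.Lib.LocalEvenB.CubePair
import Cfsg.Agent.Lib.PGroups.ExtraspecialIndexP

set_option autoImplicit false
open Cfsg

namespace Cfsg.Agent.S3054

/-- Let p be an odd prime and G a finite group with a Sylow p-subgroup P that is extraspecial of order p³ and exponent p. Suppose P contains three distinct subgroups A of order p² (each is elementary abelian of rank 2) such that every automorphism of A of order p is induced by conjugation by an element of G; equivalently the automorphism group induced on A by its normalizer contains the special linear group of A. Then p ≤ 13. -/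
theorem result {G : Type*} [Group G] [Finite G]
    {p : ℕ} [Fact p.Prime] (hp : p ≠ 2) (P : Sylow p G) (hE : Cfsg.IsExtraspecial p ↥P)
    (hcard : Nat.card P = p ^ 3) (hexp : Monoid.exponent ↥P = p)
    (A : Fin 3 → Subgroup G) (hA : Function.Injective A) (hAP : ∀ i, A i ≤ (P : Subgroup G))
    (hAcard : ∀ i, Nat.card ↥(A i) = p ^ 2)
    (hSL : ∀ i, ∀ φ : MulAut ↥(A i), orderOf φ = p → ∃ g : G, ∀ a : ↥(A i), (φ a : G) = g * (a : G) * g⁻¹) :
    p ≤ 13 := by
  classical
  have hcardP : Nat.card ↥P = p ^ 3 := hcard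
  by_contra h13
  push Not at h13
  obtain ⟨z, hz, hz1⟩ := CfsgLib.LocalEvenB.exists_central_generator hE
  have hpP : ∀ x : ↥P, x ^ p = 1 := fun x => by have := Monoid.pow_exponent_eq_one x; rwa [hexp] at this
  obtain ⟨B, hB⟩ : ∃ B : Fin 3 → Subgroup ↥P, ∀ i, B i = (A i).subgroupOf (P : Subgroup G) := ⟨_, fun _ => rfl⟩
  have hBcard : ∀ i, Nat.card ↥(B i) = p ^ 2 := fun i => by
    rw [hB]; exact (Nat.card_congr (Subgroup.subgroupOfEquivOfLe (hAP i)).toEquiv).trans (hAcard i)
  have hBn : ∀ i, (B i).Normal := fun i => CfsgLib.PGroups.normal_of_index_prime (p := p) (CfsgLib.PGroups.IsExtraspecial.isPGroup hE) (Q := B i) (by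
    have h1 := (B i).card_mul_index
    rw [hBcard, hcardP] at h1
    exact Nat.eq_of_mul_eq_mul_left (pow_pos (Fact.out : p.Prime).pos 2) (by rw [h1]; ring))
  have hzB : ∀ i, z ∈ B i := fun i => by
    haveI := hBn i
    refine CfsgLib.PGroups.IsExtraspecial.center_le_of_normal hE (fun h => ?_) hz
    have := hBcard i
    rw [h, Subgroup.card_bot] at this
    nlinarith [(Fact.out : p.Prime).two_le]
  have hex : ∀ i, ∃ a ∈ B i, a ∉ Subgroup.center ↥P := fun i => by
    refine Set.not_subset.1 fun h => ?_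
    have := Subgroup.card_le_of_le (show B i ≤ Subgroup.center ↥P from h)
    rw [hBcard, CfsgLib.PGroups.IsExtraspecial.card_center hE] at this
    nlinarith [(Fact.out : p.Prime).two_le]
  choose f hfB hfc using hex
  have hBC : ∀ i, ∀ x ∈ B i, x ∉ Subgroup.center ↥P → Subgroup.centralizer ({x} : Set ↥P) = B i := by
    intro i x hx hxc
    haveI := IsPGroup.isMulCommutative_of_card_eq_prime_sq (hBcard i)
    refine (Subgroup.eq_of_le_of_card_ge ?_ ?_).symm
    · exact fun y hy => Subgroup.mem_centralizer_singleton_iff.2 (setLike_mul_comm hy hx)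
    · have h1 := (Subgroup.centralizer ({x} : Set ↥P)).card_mul_index
      rw [CfsgLib.PGroups.IsExtraspecial.index_centralizer_singleton hE hxc, hcardP] at h1
      rw [hBcard]
      exact (Nat.eq_of_mul_eq_mul_right (Fact.out : p.Prime).pos (by rw [h1]; ring)).le
  have hdist : ∀ i j, i ≠ j → f i * f j ≠ f j * f i := by
    intro i j hij h
    have h1 : f j ∈ B i := hBC i _ (hfB i) (hfc i) ▸ Subgroup.mem_centralizer_singleton_iff.2 h.symm
    have h2 : B i = B j := (hBC i _ h1 (hfc j)).symm.trans (hBC j _ (hfB j) (hfc j))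
    rw [hB, hB] at h2
    refine hij (hA ?_)
    rw [← Subgroup.map_subgroupOf_eq_of_le (hAP i), ← Subgroup.map_subgroupOf_eq_of_le (hAP j), h2]
  have hrad : ∀ i, ∃ z ∈ Subgroup.center ↥P, z ≠ 1 ∧ ∃ v : G, v * z * v⁻¹ = z * f i ∧ v * f i * v⁻¹ = (f i : G) := by
    intro i
    refine ⟨z, hz, hz1, ?_⟩
    obtain ⟨e, he⟩ : ∃ e : ↥(B i) ≃* ↥(A i), ∀ x, ((e x : ↥(A i)) : G) = ((x : ↥P) : G) :=
      ⟨(MulEquiv.subgroupCongr (hB i)).trans (Subgroup.subgroupOfEquivOfLe (hAP i)), fun x => rfl⟩
    let ψ := CfsgLib.LocalEvenB.pairHom (p := p) (hpP z) (hpP (f i)) (Subgroup.mem_center_iff.1 hz (f i)).symm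
    have hψmem : ∀ w, ψ w ∈ B i := fun w => mul_mem (pow_mem (hzB i) _) (pow_mem (hfB i) _)
    have hψbij : Function.Bijective (ψ.codRestrict (B i) hψmem) := by
      refine (Nat.bijective_iff_injective_and_card _).2 ⟨fun x y h =>
        CfsgLib.LocalEvenB.pairHom_injective (hpP z) (hpP (f i)) hz hz1 (hfc i) (congrArg Subtype.val h), ?_⟩
      rw [hBcard, Nat.card_congr Multiplicative.toAdd, Nat.card_prod, Nat.card_zmod, sq]
    let E : Multiplicative (ZMod p × ZMod p) ≃* ↥(A i) := (MulEquiv.ofBijective _ hψbij).trans e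
    have hE' : ∀ w : ZMod p × ZMod p, ((E (Multiplicative.ofAdd w) : ↥(A i)) : G) = (z : G) ^ w.1.val * (f i : G) ^ w.2.val := fun w => by
      show ((e _ : ↥(A i)) : G) = _
      rw [he]
      show (((z : ↥P) ^ w.1.val * f i ^ w.2.val : ↥P) : G) = _
      rw [Subgroup.coe_mul, SubmonoidClass.coe_pow, SubmonoidClass.coe_pow]
    let S : ZMod p → (ZMod p × ZMod p) → ZMod p × ZMod p := fun s w => (w.1, s * w.1 + w.2)
    let sh : Multiplicative (ZMod p × ZMod p) ≃* Multiplicative (ZMod p × ZMod p) :=
      AddEquiv.toMultiplicative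
        { toFun := S 1
          invFun := S (-1)
          left_inv := fun w => Prod.ext rfl (by simp [S])
          right_inv := fun w => Prod.ext rfl (by simp [S])
          map_add' := fun v w => Prod.ext rfl (by simp [S]; ring) }
    let φ : MulAut ↥(A i) := (E.symm.trans sh).trans E
    have hφ : ∀ w, φ (E (Multiplicative.ofAdd w)) = E (Multiplicative.ofAdd (S 1 w)) := fun w => by
      show E (sh (E.symm (E _))) = _
      rw [MulEquiv.symm_apply_apply]
      rfl
    have hφn : ∀ (n : ℕ) w, (φ ^ n) (E (Multiplicative.ofAdd w)) = E (Multiplicative.ofAdd (S n w)) := by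
      intro n
      induction n with
      | zero => intro w; simp [S]
      | succ n ih =>
        intro w
        rw [pow_succ', MulAut.mul_apply, ih, hφ]
        congr 2
        simp [S]; ring
    have hord : orderOf φ = p := by
      refine orderOf_eq_prime (MulEquiv.ext fun x => ?_) fun h => ?_
      · obtain ⟨w, rfl⟩ := E.surjective x
        rw [← ofAdd_toAdd w, hφn, MulAut.one_apply]
        congr 2
        simp [S]
      · have h1 := hφ (1, 0)
        rw [h, MulAut.one_apply] at h1
        have := congrArg Prod.snd (Multiplicative.ofAdd.injective (E.injective h1))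
        simp [S] at this
    obtain ⟨g, hg⟩ := hSL i φ hord
    refine ⟨g, ?_, ?_⟩
    · have h1 := hg (E (Multiplicative.ofAdd (1, 0)))
      rw [hφ, hE', hE'] at h1
      simpa [S, ZMod.val_one] using h1.symm
    · have h1 := hg (E (Multiplicative.ofAdd (0, 1)))
      rw [hφ, hE', hE'] at h1
      simpa [S, ZMod.val_one] using h1.symm
  obtain ⟨h2, -⟩ := CfsgLib.LocalEvenB.cube_lines_bound P hE hcard f hfc hdist hrad
  have hpp := (Fact.out : p.Prime)
  rcases Nat.lt_or_ge p 17 with hlt | hge
  · interval_cases p <;> norm_num at hpp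
  · have := h2 (Or.inl hge); omega

end Cfsg.Agent.S3054
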