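import Cfsg.Statements.S3055
import Cfsg.Agent.Lib.LocalEvenB.CubePair

set_option autoImplicit false
open Cfsg
open scoped commutatorElement

namespace Cfsg.Agent.S3055

/-- Let p be an odd prime and G a finite group with a Sylow p-subgroup P that is extraspecial of order p³ and exponent p. If all nonidentity elements of P are conjugate in G, then p ≤ 7. -/
theorem result {G : Type*} [Group G] [Finite G]
    {p : ℕ} [Fact p.Prime] (hp : p ≠ 2) (P : Sylow p G) (hE : Cfsg.IsExtraspecial p ↥P)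
    (hcard : Nat.card P = p ^ 3) (hexp : Monoid.exponent ↥P = p)
    (hconj : ∀ x y : ↥P, x ≠ 1 → y ≠ 1 → ∃ g : G, g * (x : G) * g⁻¹ = (y : G)) :
    p ≤ 7 := by
  classical
  have hcardP : Nat.card ↥P = p ^ 3 := hcard
  by_contra h7
  push Not at h7
  obtain ⟨z, hz, hz1⟩ := CfsgLib.LocalEvenB.exists_central_generator hE
  obtain ⟨a0, b0, hab⟩ := CfsgLib.LocalEvenB.exists_noncommuting hE
  have hzcomm : ∀ x : ↥P, z * x = x * z := fun x => (Subgroup.mem_center_iff.1 hz x).symm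
  have hpP : ∀ x : ↥P, x ^ p = 1 := fun x => by have := Monoid.pow_exponent_eq_one x; rwa [hexp] at this
  have hC1 : ⁅a0, b0⁆ ≠ 1 := fun h => hab (commutatorElement_eq_one_iff_mul_comm.1 h)
  have hcm := CfsgLib.PGroups.IsExtraspecial.comm_mem hE
  have hexpand : ∀ i j : ℕ, ⁅a0 * b0 ^ i, a0 * b0 ^ j⁆ = ⁅a0, b0⁆ ^ j * (⁅a0, b0⁆ ^ i)⁻¹ := by
    intro i j
    have e : ∀ x : ↥P, ⁅a0 * b0 ^ i, x⁆ = ⁅a0, x⁆ * ⁅b0, x⁆ ^ i := fun x => by
      have := map_mul (CfsgLib.PGroups.commHom hcm x) a0 (b0 ^ i)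
      rw [map_pow] at this
      exact this
    have e2 : ∀ x : ↥P, ⁅a0 * b0 ^ j, x⁆ = ⁅a0, x⁆ * ⁅b0, x⁆ ^ j := fun x => by
      have := map_mul (CfsgLib.PGroups.commHom hcm x) a0 (b0 ^ j)
      rw [map_pow] at this
      exact this
    rw [e, ← commutatorElement_inv (a0 * b0 ^ j) a0, e2, commutatorElement_self, one_mul,
      ← commutatorElement_inv (a0 * b0 ^ j) b0, e2, commutatorElement_self, one_pow, mul_one,
      ← commutatorElement_inv a0 b0, inv_pow, inv_pow, inv_inv]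
  obtain ⟨f, hf⟩ : ∃ f : Fin 7 → ↥P, ∀ i, f i = a0 * b0 ^ (i : ℕ) := ⟨_, fun _ => rfl⟩
  have hdist : ∀ i j, i ≠ j → f i * f j ≠ f j * f i := by
    intro i j hij h
    have h1 : ⁅f i, f j⁆ = 1 := commutatorElement_eq_one_iff_mul_comm.2 h
    rw [hf, hf, hexpand, mul_inv_eq_one, pow_eq_pow_iff_modEq,
      orderOf_eq_prime (CfsgLib.PGroups.IsExtraspecial.comm_pow hE _ _) hC1] at h1
    refine hij (Fin.ext ?_)
    have := i.isLt
    have := j.isLt
    rw [Nat.ModEq, Nat.mod_eq_of_lt (by omega), Nat.mod_eq_of_lt (by omega)] at h1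
    omega
  have hfc : ∀ i, f i ∉ Subgroup.center ↥P := fun i hi => by
    obtain ⟨j, hj⟩ : ∃ j : Fin 7, i ≠ j := by
      rcases eq_or_ne i 0 with rfl | h
      · exact ⟨1, by decide⟩
      · exact ⟨0, h⟩
    exact hdist i j hj (Subgroup.mem_center_iff.1 hi (f j)).symm
  have hrad : ∀ i, ∃ z ∈ Subgroup.center ↥P, z ≠ 1 ∧ ∃ v : G, v * z * v⁻¹ = z * f i ∧ v * f i * v⁻¹ = (f i : G) := by
    intro i
    refine ⟨z, hz, hz1, ?_⟩
    obtain ⟨a, ha⟩ : ∃ a, a = f i := ⟨_, rfl⟩
    rw [← ha]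
    have hac : a ∉ Subgroup.center ↥P := ha ▸ hfc i
    obtain ⟨g, hg⟩ := hconj a z (fun h => hac (h ▸ one_mem _)) hz1
    obtain ⟨C, hC⟩ : ∃ C, C = Subgroup.centralizer ({(a : G)} : Set G) := ⟨_, rfl⟩
    have hR : ((g⁻¹ • P : Sylow p G) : Subgroup G) ≤ C := by
      rintro _ ⟨x, hx, rfl⟩
      rw [hC]
      refine Subgroup.mem_centralizer_singleton_iff.2 ?_
      have h1 : (z : G) * x = x * z := congrArg Subtype.val (hzcomm ⟨x, hx⟩)
      rw [← hg] at h1
      show g⁻¹ * x * g⁻¹⁻¹ * (a : G) = (a : G) * (g⁻¹ * x * g⁻¹⁻¹)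
      calc g⁻¹ * x * g⁻¹⁻¹ * (a : G) = g⁻¹ * (x * (g * a * g⁻¹)) * g := by group
        _ = (a : G) * (g⁻¹ * x * g⁻¹⁻¹) := by rw [← h1]; group
    obtain ⟨A, hA⟩ : ∃ A : Subgroup G, A = Subgroup.closure {(z : G), (a : G)} := ⟨_, rfl⟩
    have hAP : A ≤ (P : Subgroup G) := by
      rw [hA, Subgroup.closure_le]
      rintro x (rfl | rfl)
      · exact z.2
      · exact a.2
    have hAC : A ≤ C := by
      rw [hA, hC, Subgroup.closure_le]
      rintro x (rfl | rfl)
      · exact Subgroup.mem_centralizer_singleton_iff.2 (congrArg Subtype.val (hzcomm a))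
      · exact Subgroup.mem_centralizer_singleton_iff.2 rfl
    obtain ⟨Q, hQ⟩ := (((P.2.to_le hAP).comap_subtype : IsPGroup p ↥(A.subgroupOf C))).exists_le_sylow
    have hQcard : Nat.card ↥((Q : Subgroup ↥C).map C.subtype) = p ^ 3 := by
      rw [Subgroup.card_map_of_injective C.subtype_injective]
      obtain ⟨Q2, hQ2⟩ := ((g⁻¹ • P : Sylow p G).2.comap_subtype : IsPGroup p ↥(((g⁻¹ • P : Sylow p G) : Subgroup G).subgroupOf C)).exists_le_sylow
      have h1 := (Nat.card_congr (Subgroup.subgroupOfEquivOfLe hR).toEquiv).symm.trans_le (Subgroup.card_le_of_le hQ2)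
      rw [Sylow.card_eq_multiplicity, ← P.card_eq_multiplicity, hcard,
        Sylow.card_eq_multiplicity, ← Q.card_eq_multiplicity] at h1
      refine le_antisymm ?_ h1
      obtain ⟨P2, hP2⟩ := (Q.2.map C.subtype).exists_le_sylow
      have := Subgroup.card_le_of_le hP2
      rwa [Sylow.card_eq_multiplicity, ← P.card_eq_multiplicity, hcard, Subgroup.card_map_of_injective C.subtype_injective] at this
    obtain ⟨P2, hP2⟩ := (Q.2.map C.subtype).exists_le_sylow
    have hP2card : Nat.card P2 = p ^ 3 := by rw [P2.card_eq_multiplicity, ← P.card_eq_multiplicity, hcard]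
    have hP2eq : (P2 : Subgroup G) = (Q : Subgroup ↥C).map C.subtype :=
      (Subgroup.eq_of_le_of_card_ge hP2 (hQcard.trans hP2card.symm).ge).symm
    have hna : ¬ IsMulCommutative ↥(P2 : Subgroup G) := fun h => CfsgLib.PGroups.IsExtraspecial.not_comm hE
      ⟨⟨fun x y => (P.equiv P2).injective (by rw [map_mul, map_mul]; exact h.1.comm _ _)⟩⟩
    have hE2 : Cfsg.IsExtraspecial p ↥(P2 : Subgroup G) := CfsgLib.PGroups.isExtraspecial_of_card_cube hna hP2card
    have hAQ : A ≤ (P2 : Subgroup G) := hP2eq ▸ fun x hx => ⟨⟨x, hAC hx⟩, hQ hx, rfl⟩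
    obtain ⟨zq, hzq⟩ : ∃ q : ↥(P2 : Subgroup G), (q : G) = z :=
      ⟨⟨_, hAQ (hA ▸ Subgroup.subset_closure (Or.inl rfl))⟩, rfl⟩
    obtain ⟨aq, haq⟩ : ∃ q : ↥(P2 : Subgroup G), (q : G) = a :=
      ⟨⟨_, hAQ (hA ▸ Subgroup.subset_closure (Or.inr rfl))⟩, rfl⟩
    have hacen : aq ∈ Subgroup.center ↥(P2 : Subgroup G) := Subgroup.mem_center_iff.2 fun x => Subtype.ext (by
      have hx : (x : G) ∈ C := Subgroup.map_subtype_le _ (hP2eq.le x.2)
      rw [hC] at hx
      rw [Subgroup.coe_mul, Subgroup.coe_mul, haq]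
      exact Subgroup.mem_centralizer_singleton_iff.1 hx)
    have ha1 : aq ≠ 1 := fun h => hac (by
      have : a = 1 := Subtype.ext (by rw [← haq, h]; rfl)
      exact this ▸ one_mem _)
    have hgen : Subgroup.zpowers aq = Subgroup.center ↥(P2 : Subgroup G) :=
      CfsgLib.PGroups.IsExtraspecial.eq_center_of_le hE2 (Subgroup.zpowers_le.2 hacen) (by rwa [ne_eq, Subgroup.zpowers_eq_bot])
    obtain ⟨v, hv⟩ : ∃ v : ↥(P2 : Subgroup G), v * zq ≠ zq * v := by
      by_contra hall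
      push Not at hall
      obtain ⟨j, hj⟩ := mem_powers_iff_mem_zpowers.2 (hgen.ge (Subgroup.mem_center_iff.2 hall))
      apply hac
      have hzj : a ^ j = z := Subtype.ext (by rw [SubmonoidClass.coe_pow, ← haq, ← hzq, ← SubmonoidClass.coe_pow]; exact congrArg _ hj)
      have hap : orderOf a = p := orderOf_eq_prime (hpP a) (fun h => hac (h ▸ one_mem _))
      have hcop : Nat.Coprime j (orderOf a) := by
        rw [hap]
        refine ((Fact.out : p.Prime).coprime_iff_not_dvd.2 fun hd => hz1 ?_).symm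
        rw [← hzj, ← orderOf_dvd_iff_pow_eq_one, hap]
        exact hd
      obtain ⟨m, hm⟩ := exists_pow_eq_self_of_coprime hcop
      rw [← hm, hzj]
      exact pow_mem hz m
    obtain ⟨j, hj⟩ := mem_powers_iff_mem_zpowers.2 (hgen.ge (CfsgLib.PGroups.IsExtraspecial.comm_mem hE2 v zq))
    have hj0 : (j : ZMod p) ≠ 0 := by
      rw [Ne, ZMod.natCast_eq_zero_iff]
      intro hd
      refine hv (commutatorElement_eq_one_iff_mul_comm.1 ?_)
      rw [← hj]
      refine orderOf_dvd_iff_pow_eq_one.1 ?_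
      rwa [orderOf_eq_prime (CfsgLib.PGroups.IsExtraspecial.center_pow hE2 hacen) ha1]
    have hvz : (v : G) * z * (v : G)⁻¹ = z * (a : G) ^ j := by
      have h1 : v * zq * v⁻¹ = zq * aq ^ j := by
        rw [← Subgroup.mem_center_iff.1 (pow_mem hacen j) zq |>.symm]
        show v * zq * v⁻¹ = aq ^ j * zq
        rw [show aq ^ j = ⁅v, zq⁆ from hj, commutatorElement_def, inv_mul_cancel_right]
      have := congrArg Subtype.val h1
      rwa [Subgroup.coe_mul, Subgroup.coe_mul, Subgroup.coe_mul, InvMemClass.coe_inv, SubmonoidClass.coe_pow, hzq, haq] at this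
    have hva : (v : G) * a * (v : G)⁻¹ = a := by
      rw [← haq, mul_inv_eq_iff_eq_mul]
      exact congrArg Subtype.val (Subgroup.mem_center_iff.1 hacen v)
    have hcz : Commute (z : G) (a : G) := congrArg Subtype.val (hzcomm a)
    have hzp : (z : G) ^ p = 1 := by rw [← SubmonoidClass.coe_pow, hpP]; rfl
    have hap : (a : G) ^ p = 1 := by rw [← SubmonoidClass.coe_pow, hpP]; rfl
    have hact := CfsgLib.LocalEvenB.actsPair_of_gens (p := p) hzp hap hcz (g := (v : G)) 1 j 0 1 (by rwa [pow_one]) (by rwa [pow_zero, one_mul, pow_one])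
    have hpow := CfsgLib.LocalEvenB.ActsPair.pow (z := (z : G)) (a := (a : G)) (g := (v : G))
      (F := fun (s : ZMod p) (w : ZMod p × ZMod p) => (w.1, s * (j : ZMod p) * w.1 + w.2))
      (funext fun w => by simp) (fun s t => funext fun w => Prod.ext rfl (by simp; ring))
      (fun w => by rw [hact w]; congr 1; simp) (j : ZMod p)⁻¹
    refine ⟨(v : G) ^ ((j : ZMod p)⁻¹).val, ?_, ?_⟩
    · have := hpow (1, 0)
      simpa [CfsgLib.LocalEvenB.pairPow, hj0, ZMod.val_one] using this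
    · have := hpow (0, 1)
      simpa [CfsgLib.LocalEvenB.pairPow, ZMod.val_one] using this
  obtain ⟨h2, h6⟩ := CfsgLib.LocalEvenB.cube_lines_bound P hE hcard f hfc hdist hrad
  have hpp := (Fact.out : p.Prime)
  rcases Nat.lt_or_ge p 17 with hlt | hge
  · interval_cases p <;> first | omega | (revert hpp; decide) | norm_num at hpp
  · have := h2 (Or.inl hge); omega

end Cfsg.Agent.S3055
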