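import Cfsg.Statements.S3056
import Cfsg.Agent.Lib.LocalEvenB.SylowControl
open scoped Pointwise

set_option autoImplicit false
open Cfsg

namespace Cfsg.Agent.S3056

/-- Let G be a finite group and p a prime. Join two Sylow p-subgroups when they are distinct and meet nontrivially. This graph on the Sylow p-subgroups is disconnected (the Sylow p-subgroups are not chain-connected through nontrivial intersections) if and only if G has a strongly p-embedded subgroup in the classical sense: a proper subgroup H of order divisible by p such that H ∩ gHg⁻¹ has order prime to p for every g outside H. -/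
theorem result {G : Type*} [Group G] [Finite G]
    (p : ℕ) [Fact p.Prime] :
    ¬ Cfsg.IsSylowChainConnected p G ↔
      ∃ H : Subgroup G, H ≠ ⊤ ∧ p ∣ Nat.card H ∧
        ∀ g : G, g ∉ H → ¬ p ∣ Nat.card ↥(H ⊓ H.map (MulAut.conj g).toMonoidHom) := by
  obtain ⟨S⟩ := (inferInstance : Nonempty (Sylow p G))
  rw [CfsgLib.LocalEvenB.chainConnected_iff S, not_or]
  have hp : p.Prime := Fact.out
  constructor
  · rintro ⟨hS, hK⟩
    set K := CfsgLib.LocalEvenB.intersectionGroup S with hKdef
    have hSK : (S : Subgroup G) ≤ K :=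
      le_trans Subgroup.le_normalizer (CfsgLib.LocalEvenB.normalizer_le_intersectionGroup S hS)
    have hpS : p ∣ Nat.card (S : Subgroup G) :=
      (IsPGroup.card_eq_or_dvd S.isPGroup').resolve_left (by rwa [Subgroup.card_eq_one])
    refine ⟨K, hK, hpS.trans (Subgroup.card_dvd_of_le hSK), ?_⟩
    intro g hg hdvd
    apply hg
    obtain ⟨⟨x, hx⟩, hxo⟩ := exists_prime_orderOf_dvd_card' p hdvd
    rw [Subgroup.orderOf_mk] at hxo
    have hxp : IsPGroup p (Subgroup.zpowers x) :=
      IsPGroup.of_card (n := 1) (by rw [Nat.card_zpowers, hxo, pow_one])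
    have key : ∀ y : G, y ∈ K → IsPGroup p (Subgroup.zpowers y) →
        ∃ k ∈ K, y ∈ ((k • S : Sylow p G) : Subgroup G) := by
      intro y hy hyp
      obtain ⟨P, hP⟩ := IsPGroup.exists_le_sylow (G := K)
        (P := (Subgroup.zpowers y).subgroupOf K) (hyp.comap_of_injective _ K.subtype_injective)
      obtain ⟨k, hk⟩ := MulAction.exists_smul_eq K (S.subtype hSK) P
      refine ⟨k, k.2, ?_⟩
      have hyP : (⟨y, hy⟩ : K) ∈ (P : Subgroup K) := hP (by simp [Subgroup.mem_subgroupOf])
      rw [← hk, Sylow.coe_subgroup_smul] at hyP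
      rw [CfsgLib.LocalEvenB.coe_smul_sylow, CfsgLib.LocalEvenB.mem_conjRight_subgroup, inv_inv]
      have := Subgroup.mem_pointwise_smul_iff_inv_smul_mem.1 hyP
      simpa [Sylow.coe_subtype, Subgroup.mem_subgroupOf, MulAut.smul_def, MulAut.conj_symm_apply, mul_assoc] using this
    obtain ⟨k, hk, hxk⟩ := key x hx.1 hxp
    have hx2 : g⁻¹ * x * g ∈ K := CfsgLib.LocalEvenB.mem_map_conj.1 hx.2
    have hxp2 : IsPGroup p (Subgroup.zpowers (g⁻¹ * x * g)) := by
      refine IsPGroup.of_card (n := 1) ?_
      rw [Nat.card_zpowers, pow_one,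
        show g⁻¹ * x * g = MulAut.conj g⁻¹ x by simp]
      rw [MulEquiv.orderOf_eq, hxo]
    obtain ⟨l, hl, hxl⟩ := key _ hx2 hxp2
    have hne : ((k • S : Sylow p G) : Subgroup G) ⊓ (((g * l) • S : Sylow p G) : Subgroup G) ≠ ⊥ := by
      intro hbot
      have hx' : x ∈ (((g * l) • S : Sylow p G) : Subgroup G) := by
        rw [CfsgLib.LocalEvenB.coe_smul_sylow, CfsgLib.LocalEvenB.mem_conjRight_subgroup] at hxl ⊢
        simpa [mul_assoc] using hxl
      have hx1 : x = 1 := (Subgroup.eq_bot_iff_forall _).1 hbot x ⟨hxk, hx'⟩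
      rw [hx1, orderOf_one] at hxo
      exact hp.ne_one hxo.symm
    have := CfsgLib.LocalEvenB.mem_intersectionGroup_of_meet S hS hk hne
    simpa using K.mul_mem this (K.inv_mem hl)
  · rintro ⟨H, hH, hpH, hse⟩
    obtain ⟨T, hTH⟩ := CfsgLib.LocalEvenB.exists_sylow_le_of_disjoint H hpH hse
    obtain ⟨c, hc⟩ := MulAction.exists_smul_eq G T S
    obtain ⟨w, hw, hw1⟩ := (Subgroup.bot_or_exists_ne_one _).resolve_left (T.ne_bot_of_dvd_card
      (hpH.trans (Subgroup.card_subgroup_dvd_card H)))
    refine ⟨?_, fun htop => hH (eq_top_iff.2 ?_)⟩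
    · intro hbot
      rw [← hc, CfsgLib.LocalEvenB.coe_smul_sylow] at hbot
      refine T.ne_bot_of_dvd_card (hpH.trans (Subgroup.card_subgroup_dvd_card H)) ?_
      have := congrArg (subgroupConjRight c) hbot
      rw [CfsgLib.LocalEvenB.conjRight_subgroup_mul, inv_mul_cancel, CfsgLib.LocalEvenB.conjRight_subgroup_one] at this
      rw [this]
      exact Subgroup.map_bot _
    · suffices h : CfsgLib.LocalEvenB.intersectionGroup S ≤ H.map (MulAut.conj c).toMonoidHom by
        rw [htop] at h
        intro x _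
        have := h (Subgroup.mem_top (c * x * c⁻¹))
        rw [CfsgLib.LocalEvenB.mem_map_conj] at this
        simpa [mul_assoc] using this
      refine (Subgroup.closure_le _).2 fun g hg => ?_
      rw [SetLike.mem_coe, CfsgLib.LocalEvenB.mem_map_conj]
      by_contra hnot
      obtain ⟨u, hu, hu1⟩ := (Subgroup.bot_or_exists_ne_one _).resolve_left hg
      obtain ⟨huS, hug⟩ := Subgroup.mem_inf.1 hu
      rw [← hc, smul_smul, CfsgLib.LocalEvenB.coe_smul_sylow, CfsgLib.LocalEvenB.mem_conjRight_subgroup] at hug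
      rw [← hc, CfsgLib.LocalEvenB.coe_smul_sylow, CfsgLib.LocalEvenB.mem_conjRight_subgroup] at huS
      have h3 : c⁻¹ * u * c ∈ (T : Subgroup G) := by simpa [mul_assoc] using huS
      refine hse _ hnot (CfsgLib.LocalEvenB.prime_dvd_card_of_mem T.isPGroup' h3 ?_ ?_)
      · refine Subgroup.mem_inf.2 ⟨hTH h3, CfsgLib.LocalEvenB.mem_map_conj.2 (hTH ?_)⟩
        simpa [mul_assoc] using hug
      · intro h
        have := congrArg (fun z => c * z * c⁻¹) h
        exact hu1 (by simpa [mul_assoc] using this)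

end Cfsg.Agent.S3056
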