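import Cfsg.Statements.S3057
import Cfsg.Agent.Lib.LocalEvenB.IntersectionGroup
import Cfsg.Agent.Lib.Core.UniqueOrderP
import Cfsg.Agent.Lib.PLocal.PConstrained

set_option autoImplicit false
open Cfsg

namespace Cfsg.Agent.S3057

/-- Let p be a prime and G a finite p-solvable group of order divisible by p, with Sylow p-subgroup P. Then the Sylow p-subgroups of G fail to be chain-connected through nontrivial intersections (equivalently, G has a strongly p-embedded subgroup) if and only if O_p(G) = 1 and P is cyclic or, for p = 2, generalized quaternion. -/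
theorem result {G : Type*} [Group G] [Finite G]
    (p : ℕ) [Fact p.Prime] (hdiv : p ∣ Nat.card G) (hsol : Cfsg.IsPSolvable p G) (P : Sylow p G) :
    ¬ Cfsg.IsSylowChainConnected p G ↔
      Cfsg.pCore p G = ⊥ ∧ (IsCyclic ↥P ∨ (p = 2 ∧ ∃ n : ℕ, Nonempty (↥P ≃* QuaternionGroup (2 ^ n)))) := by
  haveI hpp : Fact p.Prime := inferInstance
  constructor
  · intro hG
    obtain ⟨hH, hP⟩ := CfsgLib.LocalEvenB.intersectionGroup_ne_top P hG
    have hPH := CfsgLib.LocalEvenB.le_intersectionGroup P
    have hcore : Cfsg.pCore p G = ⊥ := by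
      by_contra h
      refine hH (eq_top_iff.2 (le_trans ?_ (CfsgLib.LocalEvenB.normalizer_le_intersectionGroup_of_pGroup P
        ((CfsgLib.Core.pCore_le_sylow P).trans hPH) (CfsgLib.Core.isPGroup_pCore p G) h)))
      haveI := CfsgLib.Core.normal_pCore p G
      exact le_of_eq (Subgroup.normalizer_eq_top_iff.2 inferInstance).symm
    refine ⟨hcore, CfsgLib.Core.UniqueOrderP.isCyclic_or_quaternion_of_unique P.2 fun H₁ K₁ h1 h2 => ?_⟩
    by_contra hne
    -- an elementary abelian subgroup of order `p ^ 2` in `P`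
    obtain ⟨A, hA, hexp, hcard⟩ : ∃ A : Subgroup G, IsMulCommutative A ∧ (∀ a ∈ A, a ^ p = 1) ∧
        A ≤ (P : Subgroup G) ∧ p ^ 2 ≤ Nat.card A := by
      have key : ∀ Z : Subgroup ↥(P : Subgroup G), Nat.card Z = p → ∀ L : Subgroup ↥(P : Subgroup G), Nat.card L = p → Z ≠ L →
          Z ≤ Subgroup.center ↥(P : Subgroup G) → ∃ A : Subgroup G, IsMulCommutative A ∧ (∀ a ∈ A, a ^ p = 1) ∧
        A ≤ (P : Subgroup G) ∧ p ^ 2 ≤ Nat.card A := by
        intro Z hZ L hL hZL hZc
        haveI : IsCyclic Z := isCyclic_of_prime_card hZ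
        haveI : IsCyclic L := isCyclic_of_prime_card hL
        letI : CommGroup Z := IsCyclic.commGroup
        letI : CommGroup L := IsCyclic.commGroup
        have hcomm : IsMulCommutative ↥(Z ⊔ L) := by
          refine Subgroup.le_centralizer_iff_isMulCommutative.1 ?_
          rw [CfsgLib.LocalEvenB.centralizer_sup]
          refine le_inf (sup_le ?_ ?_) (sup_le ?_ ?_)
          · exact Subgroup.le_centralizer_iff_isMulCommutative.2 ⟨⟨fun a b => mul_comm a b⟩⟩
          · exact le_trans (by rw [Subgroup.centralizer_eq_top_iff_subset.2 hZc]; exact le_top) le_rfl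
          · exact hZc.trans (Subgroup.center_le_centralizer _)
          · exact Subgroup.le_centralizer_iff_isMulCommutative.2 ⟨⟨fun a b => mul_comm a b⟩⟩
        have hex : ∀ a ∈ Z ⊔ L, a ^ p = 1 := by
          intro a ha
          rw [← SetLike.mem_coe, Subgroup.coe_mul_of_left_le_normalizer_right] at ha
          · obtain ⟨z, hz, l, hl, rfl⟩ := ha
            have hc : Commute z l := (Subgroup.mem_center_iff.1 (hZc hz) l).symm
            show (z * l) ^ p = 1
            rw [hc.mul_pow]
            have e1 : (⟨z, hz⟩ : Z) ^ p = 1 := by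
              have h3 := pow_card_eq_one' (x := (⟨z, hz⟩ : Z))
              rwa [hZ] at h3
            have e2 : (⟨l, hl⟩ : L) ^ p = 1 := by
              have h3 := pow_card_eq_one' (x := (⟨l, hl⟩ : L))
              rwa [hL] at h3
            rw [show z ^ p = 1 from congrArg Subtype.val e1, show l ^ p = 1 from congrArg Subtype.val e2, one_mul]
          · intro z hz
            rw [Subgroup.mem_normalizer_iff]
            intro x
            rw [← Subgroup.mem_center_iff.1 (hZc hz) x, mul_inv_cancel_right]
        refine ⟨(Z ⊔ L).map (P : Subgroup G).subtype, ?_, ?_, Subgroup.map_subtype_le _, ?_⟩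
        · haveI := hcomm
          infer_instance
        · rintro _ ⟨a, ha, rfl⟩
          rw [← map_pow, hex a ha, map_one]
        · rw [Subgroup.card_map_of_injective (P : Subgroup G).subtype_injective]
          obtain ⟨k, hk⟩ := IsPGroup.iff_card.1 (P.2.to_subgroup (Z ⊔ L))
          have hlt : Z < Z ⊔ L := by
            refine lt_of_le_of_ne le_sup_left fun h => ?_
            have hle : L ≤ Z := h ▸ le_sup_right
            exact hZL (Subgroup.eq_of_le_of_card_ge hle (by rw [hZ, hL])).symm
          have h1 : p < Nat.card ↥(Z ⊔ L) := lt_of_eq_of_lt hZ.symm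
            (Set.Finite.card_lt_card (Set.toFinite _) (SetLike.coe_ssubset_coe.2 hlt))
          rw [hk] at h1 ⊢
          refine Nat.pow_le_pow_right hpp.out.pos ?_
          by_contra hk2
          have : p ^ k ≤ p ^ 1 := Nat.pow_le_pow_right hpp.out.pos (by omega)
          rw [pow_one] at this
          omega
      haveI : Nontrivial ↥(P : Subgroup G) := (Subgroup.nontrivial_iff_ne_bot _).2 hP
      haveI := P.2.center_nontrivial
      obtain ⟨k, hk⟩ := IsPGroup.iff_card.1 (P.2.to_subgroup (Subgroup.center ↥(P : Subgroup G)))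
      have hdvd : p ∣ Nat.card (Subgroup.center ↥(P : Subgroup G)) := by
        rw [hk]
        refine dvd_pow_self p fun h0 => ?_
        rw [h0, pow_zero] at hk
        exact absurd hk (Finite.one_lt_card (α := Subgroup.center ↥(P : Subgroup G))).ne'
      obtain ⟨⟨z, hz⟩, hzo⟩ := exists_prime_orderOf_dvd_card' p hdvd
      rw [Subgroup.orderOf_mk] at hzo
      have hZ : Nat.card (Subgroup.zpowers z) = p := by rw [Nat.card_zpowers, hzo]
      by_cases h : Subgroup.zpowers z = H₁
      · exact key _ hZ K₁ h2 (fun e => hne (h.symm.trans e)) (Subgroup.zpowers_le.2 hz)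
      · exact key _ hZ H₁ h1 h (Subgroup.zpowers_le.2 hz)
    set K := Cfsg.pPrimeCore p G with hK
    set H := CfsgLib.LocalEvenB.intersectionGroup P with hHdef
    haveI := hA
    have hKH : K ≤ H := CfsgLib.LocalEvenB.le_intersectionGroup_of_rank_two P hexp hcard.2
      (hcard.1.trans hPH) Subgroup.le_normalizer_of_normal
      (fun hd => hpp.out.ne_one (Nat.eq_one_of_dvd_coprimes (CfsgLib.Core.coprime_card_pPrimeCore p G) hd dvd_rfl))
    set U := Cfsg.pPrimePCore p G with hU
    have hnd : ¬ p ∣ (P : Subgroup G).relIndex U := fun hd =>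
      P.not_dvd_index (hd.trans (CfsgLib.HallGen.relIndex_dvd_index_right _ _))
    set R := (P : Subgroup G) ⊓ U with hR
    have hRU : R ⊔ K = U := CfsgLib.PLocal.sup_eq_of_coprime_relIndex inf_le_right
      CfsgLib.PLocal.pPrimeCore_le_pPrimePCore (by rw [hR, Subgroup.inf_relIndex_right]; exact hnd)
      CfsgLib.PLocal.relIndex_pPrimeCore_pPrimePCore
    have hR1 : R ≠ ⊥ := by
      intro h
      rw [h, bot_sup_eq] at hRU
      have hm : Cfsg.pCore p (G ⧸ K) = ⊥ := by
        show Cfsg.pCore p (G ⧸ Cfsg.pPrimeCore p G) = ⊥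
        rw [← CfsgLib.PLocal.map_pPrimePCore, ← hU, ← hRU]
        exact QuotientGroup.map_mk'_self _
      have hc := CfsgLib.PLocal.centralizer_pCore_le (CfsgLib.PLocal.isPSolvable_quotient hsol K)
        (CfsgLib.Core.pPrimeCore_quotient_pPrimeCore p G)
      rw [hm, le_bot_iff] at hc
      have htop : Subgroup.centralizer ((⊥ : Subgroup (G ⧸ K)) : Set (G ⧸ K)) = ⊤ := by
        rw [Subgroup.centralizer_eq_top_iff_subset]
        intro x hx
        rw [Subgroup.mem_bot.1 hx]
        exact Subgroup.one_mem _
      rw [htop] at hc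
      haveI : Subsingleton (G ⧸ K) := ⟨fun a b => by
        have ha : a ∈ (⊤ : Subgroup (G ⧸ K)) := trivial
        have hb : b ∈ (⊤ : Subgroup (G ⧸ K)) := trivial
        rw [hc, Subgroup.mem_bot] at ha hb
        rw [ha, hb]⟩
      have hKtop : K = ⊤ := by
        rw [eq_top_iff]
        intro g _
        exact (QuotientGroup.eq_one_iff g).1 (Subsingleton.elim _ _)
      refine hpp.out.ne_one (Nat.eq_one_of_dvd_coprimes (CfsgLib.Core.coprime_card_pPrimeCore p G) ?_ dvd_rfl)
      rw [← hK, hKtop, Subgroup.card_top]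
      exact hdiv
    let T : Sylow p U := (P.2.comap_subtype).toSylow hnd
    have hT : (T : Subgroup U).map U.subtype = R := Subgroup.subgroupOf_map_subtype _ _
    have hfr : Subgroup.normalizer (R : Set G) ⊔ U = ⊤ := hT ▸ Sylow.normalizer_sup_eq_top T
    refine hH (eq_top_iff.2 (hfr ▸ sup_le ?_ ?_))
    · exact CfsgLib.LocalEvenB.normalizer_le_intersectionGroup_of_pGroup P
        (inf_le_left.trans hPH) (P.2.to_le inf_le_left) hR1
    · rw [← hRU]
      exact sup_le (inf_le_left.trans hPH) hKH
  · rintro ⟨hcore, hcyc⟩ hconn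
    rcases (CfsgLib.LocalEvenB.chainConnected_iff P).1 hconn with hP | htop
    · exact P.ne_bot_of_dvd_card hdiv hP
    have huniq : ∀ x y : ↥(P : Subgroup G), orderOf x = p → orderOf y = p → y ∈ Subgroup.zpowers x := by
      intro x y hx hy
      rcases hcyc with hc | ⟨hp2, n, ⟨e⟩⟩
      · haveI := hc
        letI : CommGroup ↥(P : Subgroup G) := IsCyclic.commGroup
        have hxk : Subgroup.zpowers x ≤ (powMonoidHom p : ↥(P : Subgroup G) →* ↥(P : Subgroup G)).ker := by
          rw [Subgroup.zpowers_le, MonoidHom.mem_ker, powMonoidHom_apply]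
          exact orderOf_dvd_iff_pow_eq_one.1 hx.dvd
        rw [Subgroup.eq_of_le_of_card_ge hxk ?_, MonoidHom.mem_ker, powMonoidHom_apply]
        · exact orderOf_dvd_iff_pow_eq_one.1 hy.dvd
        · rw [IsCyclic.card_powMonoidHom_ker, Nat.card_zpowers, hx]
          exact Nat.gcd_le_right _ hpp.out.pos
      · have key : ∀ q : QuaternionGroup (2 ^ n), orderOf q = 2 → q = QuaternionGroup.a (2 ^ n : ℕ) := by
          intro q hq
          haveI : NeZero (2 ^ n) := ⟨(Nat.two_pow_pos n).ne'⟩
          cases q with
          | a i =>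
            rw [QuaternionGroup.orderOf_a] at hq
            have hlt : i.val < 2 * 2 ^ n := ZMod.val_lt i
            have hg : Nat.gcd (2 * 2 ^ n) i.val ∣ i.val := Nat.gcd_dvd_right _ _
            have hg2 : Nat.gcd (2 * 2 ^ n) i.val = 2 ^ n := by
              have h1 : Nat.gcd (2 * 2 ^ n) i.val ∣ 2 * 2 ^ n := Nat.gcd_dvd_left _ _
              have h2 := Nat.div_mul_cancel h1
              rw [hq] at h2
              omega
            rw [hg2] at hg
            obtain ⟨c, hc⟩ := hg
            have hc0 : c ≠ 0 := by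
              rintro rfl
              rw [mul_zero] at hc
              rw [hc, Nat.gcd_zero_right] at hg2
              have := Nat.two_pow_pos n
              omega
            have hc1 : c = 1 := by
              have h3 : 2 ^ n * c < 2 ^ n * 2 := by omega
              have := Nat.lt_of_mul_lt_mul_left h3
              omega
            congr 1
            rw [← ZMod.natCast_zmod_val i, hc, hc1, mul_one]
          | xa i =>
            rw [QuaternionGroup.orderOf_xa] at hq
            omega
        have h1 : e x = e y := (key _ (by rw [MulEquiv.orderOf_eq, hx, hp2])).trans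
          (key _ (by rw [MulEquiv.orderOf_eq, hy, hp2])).symm
        rw [e.injective h1]
        exact Subgroup.mem_zpowers y
    obtain ⟨⟨z, hz⟩, hzo⟩ := exists_prime_orderOf_dvd_card' (G := ↥(P : Subgroup G)) p (P.dvd_card_of_dvd_card hdiv)
    set Z := Subgroup.zpowers z with hZdef
    have hz1 : z ≠ 1 := by
      intro h
      subst h
      rw [Subgroup.orderOf_mk, orderOf_one] at hzo
      exact hpp.out.one_lt.ne hzo
    have hle : CfsgLib.LocalEvenB.intersectionGroup P ≤ Subgroup.normalizer (Z : Set G) := by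
      refine (Subgroup.closure_le _).2 fun g hg => ?_
      obtain ⟨w, hw, hw1⟩ := (Subgroup.bot_or_exists_ne_one _).resolve_left hg
      obtain ⟨⟨v, hv⟩, hvo⟩ := exists_prime_orderOf_dvd_card' (G := Subgroup.zpowers w) p (by
        rw [Nat.card_zpowers]
        have := CfsgLib.LocalEvenB.prime_dvd_card_of_mem (P.2) (z := w) (D := Subgroup.zpowers w) hw.1
          (Subgroup.mem_zpowers w) hw1
        rwa [Nat.card_zpowers] at this)
      rw [Subgroup.orderOf_mk] at hvo
      have hvP : v ∈ (P : Subgroup G) := Subgroup.zpowers_le.2 hw.1 hv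
      have hvg : g⁻¹ * v * g ∈ (P : Subgroup G) :=
        (CfsgLib.Transfer.mem_sylow_smul (P := P)).1 (Subgroup.zpowers_le.2 hw.2 hv)
      have hmem : ∀ y : G, y ∈ (P : Subgroup G) → orderOf y = p → Subgroup.zpowers y = Z := by
        intro y hy hyo
        have h1 := huniq ⟨z, hz⟩ ⟨y, hy⟩ hzo (by rw [Subgroup.orderOf_mk]; exact hyo)
        obtain ⟨k, hk⟩ := Subgroup.mem_zpowers_iff.1 h1
        refine Subgroup.eq_of_le_of_card_ge (Subgroup.zpowers_le.2 ?_) ?_
        · exact Subgroup.mem_zpowers_iff.2 ⟨k, by simpa using congrArg Subtype.val hk⟩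
        · rw [Subgroup.orderOf_mk] at hzo
          rw [hZdef, Nat.card_zpowers, Nat.card_zpowers, hyo, hzo]
      have hu : orderOf (g⁻¹ * v * g) = p := by
        rw [← hvo]
        have := orderOf_injective (MulAut.conj g⁻¹).toMonoidHom (MulAut.conj g⁻¹).injective v
        simpa using this
      rw [SetLike.mem_coe, Subgroup.mem_normalizer_iff_map_conj_eq]
      rw [← hmem _ hvg hu, MonoidHom.map_zpowers, hmem _ hvg hu, ← hmem _ hvP hvo]
      congr 1
      show g * (g⁻¹ * v * g) * g⁻¹ = v
      group
    rw [htop, top_le_iff, Subgroup.normalizer_eq_top_iff] at hle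
    haveI := hle
    have hZp : IsPGroup p Z := P.2.to_le (Subgroup.zpowers_le.2 hz)
    have := CfsgLib.Core.le_pCore hZp
    rw [hcore, le_bot_iff, hZdef, Subgroup.zpowers_eq_bot] at this
    exact hz1 this

end Cfsg.Agent.S3057
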