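import Cfsg.Statements.S3059
import Cfsg.Agent.Lib.LocalEvenB.SylowControl
open scoped Pointwise

set_option autoImplicit false
open Cfsg

namespace Cfsg.Agent.S3059

/-- Let p be a prime and H a strongly p-embedded subgroup of the finite group G in the classical sense: H is proper, p divides the order of H, and H ∩ gHg⁻¹ has order prime to p for every g outside H. Then for every normal subgroup N of G of order divisible by p, G = H · O^p(N), where O^p(N) is the subgroup generated by the elements of N of order prime to p. -/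
theorem result {G : Type*} [Group G] [Finite G]
    (p : ℕ) [Fact p.Prime] (H : Subgroup G) (hH : H ≠ ⊤) (hpH : p ∣ Nat.card H)
    (hse : ∀ g : G, g ∉ H → ¬ p ∣ Nat.card ↥(H ⊓ H.map (MulAut.conj g).toMonoidHom))
    (N : Subgroup G) [N.Normal] (hN : p ∣ Nat.card N) :
    H ⊔ Subgroup.closure {g : G | g ∈ N ∧ (orderOf g).Coprime p} = ⊤ := by
  have hp : p.Prime := Fact.out
  set M := Subgroup.closure {g : G | g ∈ N ∧ (orderOf g).Coprime p} with hM
  obtain ⟨T, hTH⟩ := CfsgLib.LocalEvenB.exists_sylow_le_of_disjoint H hpH hse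
  have hmeet : ∀ (t : G), t ∉ H → ∀ z : G, z ∈ H → t⁻¹ * z * t ∈ H → z ∈ (T : Subgroup G) → z = 1 := by
    intro t ht z hz hz' hzT
    by_contra hz1
    exact hse t ht (CfsgLib.LocalEvenB.prime_dvd_card_of_mem T.isPGroup' hzT
      (Subgroup.mem_inf.2 ⟨hz, CfsgLib.LocalEvenB.mem_map_conj.2 hz'⟩) hz1)
  obtain ⟨R⟩ := (inferInstance : Nonempty (Sylow p ↥N))
  obtain ⟨T', hT'⟩ := R.exists_comap_subtype_eq
  obtain ⟨c, hc⟩ := MulAction.exists_smul_eq G T' T
  have hcard : (N : Subgroup G).subtype.range = N := N.range_subtype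
  let R₁ : Subgroup G := (R : Subgroup ↥N).map N.subtype
  let R₂ : Subgroup G := R₁.map (MulAut.conj c).toMonoidHom
  have hR₂ : R₂ ≤ (T : Subgroup G) := by
    rintro x ⟨y, ⟨r, hr, rfl⟩, rfl⟩
    rw [← hT'] at hr
    replace hr : (r : G) ∈ (T' : Subgroup G) := hr
    rw [← hc, CfsgLib.LocalEvenB.coe_smul_sylow, CfsgLib.LocalEvenB.mem_conjRight_subgroup]
    simpa [mul_assoc] using hr
  have hR₂N : R₂ ≤ N := by
    rintro x ⟨y, ⟨r, hr, rfl⟩, rfl⟩
    simpa using (inferInstance : N.Normal).conj_mem _ r.2 c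
  have hR₂card : Nat.card R₂ = Nat.card R := by
    rw [← Nat.card_congr (R₁.equivMapOfInjective _ (MulAut.conj c).injective).toEquiv,
      ← Nat.card_congr ((R : Subgroup ↥N).equivMapOfInjective _ N.subtype_injective).toEquiv]
  let R₃ : Sylow p ↥N := Sylow.ofCard (R₂.subgroupOf N)
    (by rw [Nat.card_congr (Subgroup.subgroupOfEquivOfLe hR₂N).toEquiv, hR₂card, R.card_eq_multiplicity])
  have hR₃ : (R₃ : Subgroup ↥N).map N.subtype = R₂ := Subgroup.map_subgroupOf_eq_of_le hR₂N
  have hRne : R₂ ≠ ⊥ := by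
    intro h
    have := congrArg (fun K : Subgroup G => Nat.card K) h
    simp only [hR₂card, Subgroup.card_bot] at this
    exact R.ne_bot_of_dvd_card hN (Subgroup.card_eq_one.1 this)
  have hnorm : Subgroup.normalizer (R₂ : Set G) ≤ H := by
    intro t ht
    by_contra htH
    obtain ⟨z, hz, hz1⟩ := (Subgroup.bot_or_exists_ne_one _).resolve_left hRne
    refine hz1 (hmeet t htH z (hTH (hR₂ hz)) (hTH (hR₂ ?_)) (hR₂ hz))
    simpa using (Subgroup.mem_normalizer_iff.1 (Subgroup.inv_mem _ ht) z).1 hz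
  have hfr := Sylow.normalizer_sup_eq_top (N := N) R₃
  rw [hR₃] at hfr
  rw [eq_top_iff, ← hfr]
  refine sup_le (hnorm.trans le_sup_left) ?_
  let L : Subgroup ↥N := (H ⊔ M).subgroupOf N
  suffices hL : L = ⊤ from Subgroup.subgroupOf_eq_top.1 hL
  rw [← Subgroup.index_eq_one]
  refine Nat.eq_one_iff_not_exists_prime_dvd.2 fun q hq hdvd => ?_
  haveI := Fact.mk hq
  obtain ⟨W⟩ := (inferInstance : Nonempty (Sylow q ↥N))
  by_cases hqp : q = p
  · subst hqp
    refine R₃.not_dvd_index (hdvd.trans (Subgroup.index_dvd_of_le ?_))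
    intro x hx
    exact Subgroup.mem_sup_left (hTH (hR₂ hx))
  · refine W.not_dvd_index (hdvd.trans (Subgroup.index_dvd_of_le ?_))
    intro x hx
    refine Subgroup.mem_sup_right (Subgroup.subset_closure ⟨x.2, ?_⟩)
    obtain ⟨k, hk⟩ := W.isPGroup' ⟨x, hx⟩
    refine Nat.Coprime.coprime_dvd_left (orderOf_dvd_of_pow_eq_one ?_)
      (Nat.Coprime.pow_left k ((Nat.coprime_primes hq hp).2 hqp))
    simpa [Subtype.ext_iff] using hk

end Cfsg.Agent.S3059
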