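import Cfsg.Statements.S3064
import Cfsg.Agent.Lib.LocalEvenB.WeaklyClosedElement

set_option autoImplicit false
open Cfsg

namespace Cfsg.Agent.S3064

/-- Let S be a Sylow p-subgroup of the finite group G and x an element of S such that (i) x is the only G-conjugate of x lying in S, and (ii) x centralizes every subgroup of order prime to p that it normalizes. Then x lies in the centre of G. -/
theorem result {G : Type*} [Group G] [Finite G] {p : ℕ} [Fact p.Prime]
    (S : Sylow p G) (x : G) (hx : x ∈ S)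
    (hU : ∀ g : G, g⁻¹ * x * g ∈ S → g⁻¹ * x * g = x)
    (hb : ∀ H : Subgroup G, (Nat.card H).Coprime p → (∀ h ∈ H, x * h * x⁻¹ ∈ H) → ∀ h ∈ H, x * h = h * x) :
    x ∈ Subgroup.center G := by
  refine CfsgLib.LocalEvenB.central_of_isolated_signalizer (Nat.card G) le_rfl x ?_ ?_ hb
  · obtain ⟨k, hk⟩ := S.2 ⟨x, hx⟩
    obtain ⟨i, -, hi⟩ := (Nat.dvd_prime_pow Fact.out).1 (orderOf_dvd_of_pow_eq_one (congrArg Subtype.val hk))
    exact ⟨i, hi⟩
  · intro R hR hxR g hg
    obtain ⟨u, -, hu⟩ := CfsgLib.Transfer.exists_conj_le (N := (⊤ : Subgroup G)) S.2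
      (by rw [Subgroup.relIndex_top_right]; exact S.not_dvd_index) le_top hR
    have h1 : u⁻¹ * x * u = x := hU u (hu x hxR)
    have h2 : (g⁻¹ * u)⁻¹ * x * (g⁻¹ * u) = x := by
      refine hU (g⁻¹ * u) ?_
      have := hu _ hg
      have e : (g⁻¹ * u)⁻¹ * x * (g⁻¹ * u) = u⁻¹ * (g * x * g⁻¹) * u := by group
      rw [e]
      exact this
    calc g * x * g⁻¹ = g * ((g⁻¹ * u) * ((g⁻¹ * u)⁻¹ * x * (g⁻¹ * u)) * (g⁻¹ * u)⁻¹) * g⁻¹ := by group
      _ = u * x * u⁻¹ := by rw [h2]; group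
      _ = u * (u⁻¹ * x * u) * u⁻¹ := by rw [h1]
      _ = x := by group

end Cfsg.Agent.S3064
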