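import Cfsg.Statements.S3071
import Cfsg.Agent.Lib.LocalEvenB.ZJLocalFree

set_option autoImplicit false
open Cfsg

namespace Cfsg.Agent.S3071

/-- Let p be an odd prime and S a Sylow p-subgroup of the finite group G such that, for every subgroup P with Z(S) ≤ P ≤ S, the normalizer N_G(P) has no section isomorphic to SL₂(p). Let J(S) be the subgroup generated by the abelian subgroups of S of largest order. Then two elements of S are conjugate in G if and only if they are conjugate in N_G(Z(J(S))). -/
theorem result {G : Type*} [Group G] [Finite G] {p : ℕ} [Fact p.Prime]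
    (hp : p ≠ 2) (S : Sylow p G)
    (hfree : ∀ P : Subgroup G, (S : Subgroup G) ⊓ Subgroup.centralizer ((S : Subgroup G) : Set G) ≤ P → P ≤ S →
      ¬ ∃ (H K : Subgroup G) (hK : (K.subgroupOf H).Normal), H ≤ Subgroup.normalizer (P : Set G) ∧
        Nonempty ((H ⧸ K.subgroupOf H) ≃* Matrix.SpecialLinearGroup (Fin 2) (ZMod p))) :
    ∀ x ∈ S, ∀ y ∈ S, (∃ g : G, g * x * g⁻¹ = y) ↔
      ∃ n ∈ Subgroup.normalizer (Cfsg.centerThompsonAOf (S : Subgroup G) : Set G), n * x * n⁻¹ = y := by
  have hlf : CfsgLib.LocalEvenB.LocallySLFree p (S : Subgroup G) := by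
    rintro P h1 h2 ⟨K, R, hn, ⟨e⟩⟩
    apply hfree P h1 h2
    let j : ↥K →* G := (Subgroup.normalizer (P : Set G)).subtype.comp K.subtype
    have hj : Function.Injective j := (Subgroup.normalizer (P : Set G)).subtype_injective.comp K.subtype_injective
    let e₁ : ↥K ≃* ↥(j.range) := MonoidHom.ofInjective hj
    let g : ↥(j.range) →* Matrix.SpecialLinearGroup (Fin 2) (ZMod p) :=
      (e.toMonoidHom.comp (QuotientGroup.mk' (R.subgroupOf K))).comp e₁.symm.toMonoidHom
    have hg : Function.Surjective g :=
      (e.surjective.comp (QuotientGroup.mk'_surjective _)).comp e₁.symm.surjective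
    have h : ((g.ker).map j.range.subtype).subgroupOf j.range = g.ker :=
      Subgroup.comap_map_eq_self_of_injective j.range.subtype_injective _
    have hn' : (((g.ker).map j.range.subtype).subgroupOf j.range).Normal := by
      rw [h]; infer_instance
    refine ⟨j.range, (g.ker).map j.range.subtype, hn', ?_, ?_⟩
    · rintro _ ⟨k, rfl⟩
      exact (K.subtype k).2
    · exact ⟨(QuotientGroup.quotientMulEquivOfEq h).trans (QuotientGroup.quotientKerEquivOfSurjective g hg)⟩
  intro x hx y hy
  constructor
  · rintro ⟨g, hg⟩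
    obtain ⟨r, hr, hr'⟩ := CfsgLib.LocalEvenB.zj_controls_of_locallySLFree hp S hlf (Subgroup.zpowers x)
      (Subgroup.zpowers_le.2 hx) g (fun u hu => by
        obtain ⟨k, rfl⟩ := Subgroup.mem_zpowers_iff.1 hu
        rw [← conj_zpow, hg]
        exact zpow_mem hy k)
    exact ⟨r, hr, (hr' x (Subgroup.mem_zpowers x)).trans hg⟩
  · rintro ⟨r, -, hr⟩
    exact ⟨r, hr⟩

end Cfsg.Agent.S3071
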