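import Cfsg.Statements.S3075
import Mathlib.LinearAlgebra.Matrix.SpecialLinearGroup
import Mathlib.GroupTheory.SpecificGroups.Cyclic
import Mathlib.Tactic.LinearCombination
import Mathlib.Tactic.IntervalCases

set_option autoImplicit false
open Cfsg

namespace Cfsg.Agent.S3075

/-- Let p be an odd prime and N a finite group with a normal elementary abelian subgroup A of order p² that is its own centralizer in N, such that N/A is isomorphic to SL₂(p) (over any field F with p elements). Then N splits over A: some subgroup U of N satisfies A ∩ U = 1 and AU = N. -/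
theorem result {N : Type*} [Group N] [Finite N] {p : ℕ} [Fact p.Prime] (hp : p ≠ 2)
    (A : Subgroup N) [A.Normal] (hAcomm : IsMulCommutative A) (hAcard : Nat.card A = p ^ 2) (hAexp : Monoid.exponent ↥A = p)
    (hAself : Subgroup.centralizer (A : Set N) = A)
    {F : Type*} [Field F] [Fintype F] (hF : Fintype.card F = p) (e : N ⧸ A ≃* Matrix.SpecialLinearGroup (Fin 2) F) :
    ∃ U : Subgroup N, A ⊓ U = ⊥ ∧ A ⊔ U = ⊤ := by
  classical
  have hpr : p.Prime := Fact.out
  have hodd : Odd p := hpr.odd_of_ne_two hp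
  obtain ⟨k, hk⟩ : ∃ k, 2 * k = p + 1 := ⟨(p + 1) / 2, by obtain ⟨j, hj⟩ := hodd; omega⟩
  have h2 : (2 : F) ≠ 0 := by
    intro h
    have h' : ((p : ℕ) : F) = 0 := by rw [← hF]; exact Nat.cast_card_eq_zero F
    obtain ⟨j, hj⟩ := hodd
    rw [hj, Nat.cast_add, Nat.cast_mul, Nat.cast_ofNat, h, zero_mul, zero_add, Nat.cast_one] at h'
    exact one_ne_zero h'
  have hAp : ∀ a ∈ A, a ^ p = 1 := by
    intro a ha
    have := Monoid.pow_exponent_eq_one (⟨a, ha⟩ : A)
    rw [hAexp] at this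
    exact congrArg Subtype.val this
  have hAc : ∀ a ∈ A, ∀ b ∈ A, a * b = b * a := fun a ha b hb =>
    congrArg Subtype.val (hAcomm.is_comm.comm (⟨a, ha⟩ : A) ⟨b, hb⟩)
  have hsq : ∀ a ∈ A, (a ^ k) ^ 2 = a := fun a ha => by
    rw [← pow_mul, mul_comm, hk, pow_succ, hAp a ha, one_mul]
  have hinv2 : ∀ a ∈ A, a * a = 1 → a = 1 := fun a ha h => by
    have := hsq a ha
    rw [← pow_mul, mul_comm, pow_mul, pow_two, h, one_pow] at this
    exact this.symm
  -- the element `-1`
  let mz : Matrix.SpecialLinearGroup (Fin 2) F := ⟨-1, by simp [Matrix.det_fin_two]⟩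
  have hmz_ne : mz ≠ 1 := fun h => by
    have h' := congrArg (fun M : Matrix.SpecialLinearGroup (Fin 2) F => (M : Matrix (Fin 2) (Fin 2) F) 0 0) h
    simp [mz] at h'
    exact h2 (by linear_combination -h')
  have hmz2 : mz * mz = 1 := by
    apply Subtype.ext
    show (-1 : Matrix (Fin 2) (Fin 2) F) * (-1) = 1
    simp
  have hmzc : ∀ M : Matrix.SpecialLinearGroup (Fin 2) F, M * mz = mz * M := fun M => by
    apply Subtype.ext
    show (M : Matrix (Fin 2) (Fin 2) F) * (-1) = (-1) * (M : Matrix (Fin 2) (Fin 2) F)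
    simp
  obtain ⟨t0, ht0⟩ := QuotientGroup.mk'_surjective A (e.symm mz)
  set t := t0 ^ p with htdef
  have ht0z : (QuotientGroup.mk' A) t0 * (QuotientGroup.mk' A) t0 = 1 := by
    rw [ht0, ← map_mul, hmz2, map_one]
  have htz : QuotientGroup.mk' A t = e.symm mz := by
    obtain ⟨j, hj⟩ := hodd
    rw [htdef, hj, map_pow, pow_succ, pow_mul, pow_two, ht0z, one_pow, one_mul, ht0]
  have ht2 : t * t = 1 := by
    have h1 : t0 * t0 ∈ A := (QuotientGroup.eq_one_iff _).1 (by simpa using ht0z)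
    rw [htdef, ← pow_two, ← pow_mul, mul_comm, pow_mul, pow_two, hAp _ h1]
  have htA : t ∉ A := fun h => hmz_ne (by
    have h1 : QuotientGroup.mk' A t = 1 := (QuotientGroup.eq_one_iff _).2 h
    rw [htz] at h1
    simpa using congrArg e h1)
  have hti : t⁻¹ = t := inv_eq_of_mul_eq_one_right ht2
  have hconjA : ∀ n : N, ∀ a ∈ A, n * a * n⁻¹ ∈ A := fun n a ha => (inferInstance : A.Normal).conj_mem a ha n
  have hcomm : ∀ n : N, n * t * n⁻¹ * t⁻¹ ∈ A := fun n => by
    rw [← QuotientGroup.eq_one_iff]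
    change QuotientGroup.mk' A (n * t * n⁻¹ * t⁻¹) = 1
    simp only [map_mul, map_inv, htz]
    have h1 : QuotientGroup.mk' A n * e.symm mz = e.symm mz * QuotientGroup.mk' A n := by
      apply e.injective
      simp only [map_mul, MulEquiv.apply_symm_apply]
      exact hmzc _
    rw [h1]; group
  -- conjugation by `t` commutes with conjugation by every element, on `A`
  have hnat : ∀ n : N, ∀ a ∈ A, t * (n * a * n⁻¹) * t⁻¹ = n * (t * a * t⁻¹) * n⁻¹ := by
    intro n a ha
    set c := n * t * n⁻¹ * t⁻¹ with hc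
    have hx : t * (n * a * n⁻¹) * t⁻¹ ∈ A := hconjA t _ (hconjA n a ha)
    calc t * (n * a * n⁻¹) * t⁻¹ = c * (t * (n * a * n⁻¹) * t⁻¹) * c⁻¹ := by
          rw [hAc c (hcomm n) _ hx, mul_inv_cancel_right]
      _ = n * (t * a * t⁻¹) * n⁻¹ := by rw [hc]; group
  have hmulconj : ∀ a b : N, t * (a * b) * t⁻¹ = (t * a * t⁻¹) * (t * b * t⁻¹) := fun a b => by group
  have hinvconj : ∀ a : N, t * a⁻¹ * t⁻¹ = (t * a * t⁻¹)⁻¹ := fun a => by group
  have hinv : ∀ a ∈ A, t * a * t⁻¹ = a⁻¹ := by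
    let C : Subgroup N :=
      { carrier := {a | a ∈ A ∧ t * a * t⁻¹ = a}
        mul_mem' := fun {a b} ha hb => ⟨A.mul_mem ha.1 hb.1, by rw [hmulconj, ha.2, hb.2]⟩
        one_mem' := ⟨A.one_mem, by group⟩
        inv_mem' := fun {a} ha => ⟨A.inv_mem ha.1, by rw [hinvconj, ha.2]⟩ }
    let I : Subgroup N :=
      { carrier := {a | a ∈ A ∧ t * a * t⁻¹ = a⁻¹}
        mul_mem' := fun {a b} ha hb => ⟨A.mul_mem ha.1 hb.1, by
          rw [hmulconj, ha.2, hb.2, mul_inv_rev, hAc _ (A.inv_mem ha.1) _ (A.inv_mem hb.1)]⟩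
        one_mem' := ⟨A.one_mem, by group⟩
        inv_mem' := fun {a} ha => ⟨A.inv_mem ha.1, by rw [hinvconj, ha.2]⟩ }
    have hCA : C ≤ A := fun a ha => ha.1
    have hIA : I ≤ A := fun a ha => ha.1
    have hdec : ∀ a ∈ A, a ∈ C ⊔ I := by
      intro a ha
      have hta := hconjA t a ha
      have htt : t * (t * a * t⁻¹) * t⁻¹ = a := by
        calc t * (t * a * t⁻¹) * t⁻¹ = (t * t) * a * (t * t)⁻¹ := by group
          _ = a := by rw [ht2, one_mul, inv_one, mul_one]
      have hc : a * (t * a * t⁻¹) ∈ C := ⟨A.mul_mem ha hta, by rw [hmulconj, htt, hAc _ hta _ ha]⟩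
      have hi : a * (t * a * t⁻¹)⁻¹ ∈ I := ⟨A.mul_mem ha (A.inv_mem hta), by
        rw [hmulconj, hinvconj, htt, mul_inv_rev, inv_inv]⟩
      have hprod : (a * (t * a * t⁻¹)) * (a * (t * a * t⁻¹)⁻¹) = a ^ 2 := by
        rw [hAc a ha _ (A.inv_mem hta), pow_two]; group
      have ha2 : a ^ 2 ∈ C ⊔ I := hprod ▸ Subgroup.mul_mem_sup hc hi
      have := Subgroup.pow_mem _ ha2 k
      rwa [← pow_mul, mul_comm, pow_mul, hsq a ha] at this
    have hdis : ∀ a ∈ C, a ∈ I → a = 1 := fun a hc hi => by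
      refine hinv2 a hc.1 ?_
      rw [eq_inv_iff_mul_eq_one.1 (hc.2.symm.trans hi.2)]
    by_contra hcon
    push Not at hcon
    obtain ⟨a, ha, hane⟩ := hcon
    have hI1 : I ≠ ⊥ := by
      intro h
      apply htA
      rw [← hAself]
      refine Subgroup.mem_centralizer_iff.2 fun b hb => ?_
      have hbC : b ∈ C := by simpa [h] using hdec b hb
      exact (mul_inv_eq_iff_eq_mul.1 hbC.2).symm
    have hC1 : C ≠ ⊥ := by
      intro h
      apply hane
      have haI : a ∈ I := by simpa [h] using hdec a ha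
      exact haI.2
    have hprime : ∀ X : Subgroup N, X ≤ A → X ≠ ⊥ → (∃ Y : Subgroup N, Y ≤ A ∧ Y ≠ ⊥ ∧ ∀ y ∈ X, y ∈ Y → y = 1) →
        IsCyclic X := by
      intro X hX hX1 hY
      obtain ⟨Y, hY, hY1, hXY⟩ := hY
      refine isCyclic_of_prime_card (p := p) ?_
      obtain ⟨i, hi, hi'⟩ := (Nat.dvd_prime_pow hpr).1 (hAcard ▸ Subgroup.card_dvd_of_le hX)
      interval_cases i
      · exact absurd (Subgroup.card_eq_one.1 (by simpa using hi')) hX1
      · simpa using hi'
      · exfalso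
        have : X = A := Subgroup.eq_of_le_of_card_ge hX (by rw [hAcard, hi'])
        exact hY1 ((Subgroup.eq_bot_iff_forall _).2 fun y hy => hXY y (this ▸ hY hy) hy)
    have hCc : IsCyclic C := hprime C hCA hC1 ⟨I, hIA, hI1, hdis⟩
    have hIc : IsCyclic I := hprime I hIA hI1 ⟨C, hCA, hC1, fun y hy hy' => hdis y hy' hy⟩
    have hCn : ∀ n : N, ∀ x ∈ C, n * x * n⁻¹ ∈ C := fun n x hx =>
      ⟨hconjA n x hx.1, by rw [hnat n x hx.1, hx.2]⟩
    have hIn : ∀ n : N, ∀ x ∈ I, n * x * n⁻¹ ∈ I := fun n x hx =>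
      ⟨hconjA n x hx.1, by rw [hnat n x hx.1, hx.2]; group⟩
    have habel : ∀ (X : Subgroup N), IsCyclic X → (∀ n : N, ∀ x ∈ X, n * x * n⁻¹ ∈ X) →
        ∀ n m : N, X ≤ Subgroup.centralizer ({n * m * n⁻¹ * m⁻¹} : Set N) := by
      intro X hX hXn n m x hx
      obtain ⟨⟨g, hg⟩, hgen⟩ := hX.exists_generator
      have hmul : ∀ n : N, ∃ j : ℤ, n * g * n⁻¹ = g ^ j := fun n => by
        obtain ⟨j, hj⟩ := Subgroup.mem_zpowers_iff.1 (hgen ⟨_, hXn n g hg⟩)
        exact ⟨j, by simpa using (congrArg Subtype.val hj).symm⟩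
      obtain ⟨i, hi⟩ := hmul n
      obtain ⟨j, hj⟩ := hmul m
      have hnm : (n * m) * g * (n * m)⁻¹ = g ^ (i * j) := by
        calc (n * m) * g * (n * m)⁻¹ = n * (m * g * m⁻¹) * n⁻¹ := by group
          _ = (n * g * n⁻¹) ^ j := by rw [hj, conj_zpow]
          _ = g ^ (i * j) := by rw [hi, zpow_mul]
      have hmn : (m * n) * g * (m * n)⁻¹ = g ^ (i * j) := by
        calc (m * n) * g * (m * n)⁻¹ = m * (n * g * n⁻¹) * m⁻¹ := by group
          _ = (m * g * m⁻¹) ^ i := by rw [hi, conj_zpow]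
          _ = g ^ (i * j) := by rw [hj, ← zpow_mul, mul_comm]
      have hfix : (n * m * n⁻¹ * m⁻¹) * g * (n * m * n⁻¹ * m⁻¹)⁻¹ = g := by
        calc (n * m * n⁻¹ * m⁻¹) * g * (n * m * n⁻¹ * m⁻¹)⁻¹
            = (n * m) * ((m * n)⁻¹ * g * (m * n)) * (n * m)⁻¹ := by group
          _ = g := by
            have h3 : (m * n)⁻¹ * g ^ (i * j) * (m * n) = g := by rw [← hmn]; group
            have h4 : g = (n * m)⁻¹ * g ^ (i * j) * (n * m) := by rw [← hnm]; group
            have h5 : (m * n)⁻¹ * g * (m * n) = (n * m)⁻¹ * g * (n * m) := by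
              have hz : ∀ u : N, u * g * u⁻¹ = g ^ (i * j) → ∀ z : ℤ, u⁻¹ * g ^ (z * (i * j)) * u = g ^ z := by
                intro u hu z
                rw [mul_comm z, zpow_mul, ← hu, conj_zpow]; group
              obtain ⟨z, hz1⟩ := hmul ((m * n)⁻¹)
              rw [inv_inv] at hz1
              have h6 : g ^ (z * (i * j)) = g := by
                rw [mul_comm, zpow_mul, ← hmn, conj_zpow, ← hz1]; group
              have h7 := hz (n * m) hnm z
              rw [h6] at h7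
              rw [hz1, h7]
            rw [h5]; group
      rw [Subgroup.mem_centralizer_singleton_iff]
      have hxg : x ∈ Subgroup.zpowers g := by
        obtain ⟨j, hj⟩ := Subgroup.mem_zpowers_iff.1 (hgen ⟨x, hx⟩)
        exact Subgroup.mem_zpowers_iff.2 ⟨j, by simpa using congrArg Subtype.val hj⟩
      obtain ⟨j, rfl⟩ := Subgroup.mem_zpowers_iff.1 hxg
      exact ((show Commute (n * m * n⁻¹ * m⁻¹) g from mul_inv_eq_iff_eq_mul.1 hfix).zpow_right j).eq.symm
    have hQab : ∀ X Y : Matrix.SpecialLinearGroup (Fin 2) F, X * Y = Y * X := by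
      intro X Y
      obtain ⟨n, hn⟩ := QuotientGroup.mk'_surjective A (e.symm X)
      obtain ⟨m, hm⟩ := QuotientGroup.mk'_surjective A (e.symm Y)
      have hd : n * m * n⁻¹ * m⁻¹ ∈ A := by
        rw [← hAself]
        refine Subgroup.mem_centralizer_iff.2 fun b hb => ?_
        have h1 : C ⊔ I ≤ Subgroup.centralizer ({n * m * n⁻¹ * m⁻¹} : Set N) :=
          sup_le (habel C hCc hCn n m) (habel I hIc hIn n m)
        exact Subgroup.mem_centralizer_singleton_iff.1 (h1 (hdec b hb))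
      have h1 : QuotientGroup.mk' A (n * m * n⁻¹ * m⁻¹) = 1 := (QuotientGroup.eq_one_iff _).2 hd
      simp only [map_mul, map_inv, hn, hm] at h1
      have h2 := congrArg e h1
      simp only [map_mul, map_inv, map_one, MulEquiv.apply_symm_apply] at h2
      exact mul_inv_eq_iff_eq_mul.1 (mul_inv_eq_one.1 h2)
    let U : Matrix (Fin 2) (Fin 2) F := !![1, 1; 0, 1]
    let L : Matrix (Fin 2) (Fin 2) F := !![1, 0; 1, 1]
    have hbad : (U * L) 0 0 = (L * U) 0 0 :=
      congrArg (fun M : Matrix.SpecialLinearGroup (Fin 2) F => (M : Matrix (Fin 2) (Fin 2) F) 0 0)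
      (hQab ⟨!![1, 1; 0, 1], by simp [Matrix.det_fin_two]⟩ ⟨!![1, 0; 1, 1], by simp [Matrix.det_fin_two]⟩)
    simp [U, L, Matrix.mul_apply, Fin.sum_univ_two] at hbad
  refine ⟨Subgroup.centralizer ({t} : Set N), ?_, ?_⟩
  · rw [Subgroup.eq_bot_iff_forall]
    rintro a ⟨ha, hat⟩
    refine hinv2 a ha ?_
    have h1 : a * t = t * a := Subgroup.mem_centralizer_singleton_iff.1 hat
    have h3 := hinv a ha
    rw [← h1, mul_inv_cancel_right] at h3
    exact eq_inv_iff_mul_eq_one.1 h3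
  · rw [eq_top_iff]
    intro n _
    set c := n * t * n⁻¹ * t⁻¹ with hc
    set b := c ^ k with hb
    have hbA : b ∈ A := A.pow_mem (hcomm n) k
    have hbt : b * t * b⁻¹ = c * t := by
      have h1 : t * b⁻¹ * t⁻¹ = b := by rw [hinv _ (A.inv_mem hbA), inv_inv]
      calc b * t * b⁻¹ = b * (t * b⁻¹ * t⁻¹) * t := by group
        _ = c * t := by rw [h1, ← pow_two, hb, hsq c (hcomm n)]
    have hmem : b⁻¹ * n ∈ Subgroup.centralizer ({t} : Set N) := by
      rw [Subgroup.mem_centralizer_singleton_iff]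
      calc b⁻¹ * n * t = b⁻¹ * (c * t) * n := by rw [hc]; group
        _ = t * (b⁻¹ * n) := by rw [← hbt]; group
    have := Subgroup.mul_mem_sup hbA hmem
    rwa [mul_inv_cancel_left] at this

end Cfsg.Agent.S3075
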