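import Cfsg.Statements.S3076
import Cfsg.Agent.Lib.LocalEvenB.CentricRadical
import Cfsg.Agent.Lib.Transfer.Conj

set_option autoImplicit false
open Cfsg

namespace Cfsg.Agent.S3076

/-- Let P be a Sylow p-subgroup of the finite group G and H ≤ P a subgroup with N_P(H) a Sylow p-subgroup of N_G(H). Let N be the preimage in N_G(H) of O_p(N_G(H)/C_G(H)). Then H is a Sylow p-subgroup of N if and only if C_P(H) ≤ H and O_{p',p}(N_G(H)) = H·C_G(H). -/
theorem result {G : Type*} [Group G] [Finite G] {p : ℕ} [Fact p.Prime]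
    (P : Sylow p G) (H : Subgroup G) (hHP : H ≤ (P : Subgroup G))
    (hSyl : ¬ p ∣ ((P : Subgroup G) ⊓ Subgroup.normalizer (H : Set G)).relIndex (Subgroup.normalizer (H : Set G)))
    [hC : ((Subgroup.centralizer (H : Set G)).subgroupOf (Subgroup.normalizer (H : Set G))).Normal] :
    (H ≤ ((Cfsg.pCore p (↥(Subgroup.normalizer (H : Set G)) ⧸
              (Subgroup.centralizer (H : Set G)).subgroupOf (Subgroup.normalizer (H : Set G)))).comap
            (QuotientGroup.mk' _)).map (Subgroup.normalizer (H : Set G)).subtype ∧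
      ¬ p ∣ H.relIndex (((Cfsg.pCore p (↥(Subgroup.normalizer (H : Set G)) ⧸
              (Subgroup.centralizer (H : Set G)).subgroupOf (Subgroup.normalizer (H : Set G)))).comap
            (QuotientGroup.mk' _)).map (Subgroup.normalizer (H : Set G)).subtype)) ↔
    ((P : Subgroup G) ⊓ Subgroup.centralizer (H : Set G) ≤ H ∧
      (Cfsg.pPrimePCore p ↥(Subgroup.normalizer (H : Set G))).map (Subgroup.normalizer (H : Set G)).subtype =
        H ⊔ Subgroup.centralizer (H : Set G)) := by
  have hpr : p.Prime := Fact.out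
  set X := Subgroup.normalizer (H : Set G) with hX
  have hHX : H ≤ X := Subgroup.le_normalizer
  have hCX : Subgroup.centralizer (H : Set G) ≤ X := Subgroup.centralizer_le_normalizer _
  set H' := H.subgroupOf X with hH'
  set C' := (Subgroup.centralizer (H : Set G)).subgroupOf X with hC'
  haveI : H'.Normal := Subgroup.normal_in_normalizer
  have hH'p : IsPGroup p H' := (P.2.to_le hHP).comap_subtype
  have hC'' : C' = Subgroup.centralizer (H' : Set X) := by
    ext x
    simp only [hC', hH', Subgroup.mem_subgroupOf, Subgroup.mem_centralizer_iff, SetLike.mem_coe]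
    constructor
    · exact fun h y hy => Subtype.ext (h y hy)
    · exact fun h y hy => congrArg Subtype.val (h ⟨y, hHX hy⟩ hy)
  have hQp : IsPGroup p (((P : Subgroup G) ⊓ X).subgroupOf X) := (P.2.to_le inf_le_left).comap_subtype
  let Q : Sylow p X := hQp.toSylow hSyl
  have hQ : (Q : Subgroup X) = ((P : Subgroup G) ⊓ X).subgroupOf X := rfl
  have key := CfsgLib.LocalEvenB.centric_radical_iff H' C' hC'' Q hH'p
  set N' := (Cfsg.pCore p (X ⧸ C')).comap (QuotientGroup.mk' C')
  have hHm : H'.map X.subtype = H := by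
    rw [hH', Subgroup.subgroupOf_map_subtype, inf_eq_left.2 hHX]
  have hCm : C'.map X.subtype = Subgroup.centralizer (H : Set G) := by
    rw [hC', Subgroup.subgroupOf_map_subtype, inf_eq_left.2 hCX]
  have e1 : H ≤ N'.map X.subtype ↔ H' ≤ N' := by
    conv_lhs => rw [← hHm]
    exact Subgroup.map_le_map_iff_of_injective X.subtype_injective
  have e2 : H.relIndex (N'.map X.subtype) = H'.relIndex N' := by
    conv_lhs => rw [← hHm]
    exact Subgroup.relIndex_map_map_of_injective _ _ X.subtype_injective
  have e3 : ((P : Subgroup G) ⊓ Subgroup.centralizer (H : Set G) ≤ H) ↔ (Q : Subgroup X) ⊓ C' ≤ H' := by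
    rw [hQ]
    constructor
    · intro h x hx
      exact h ⟨hx.1.1, hx.2⟩
    · intro h x hx
      exact h (x := ⟨x, hCX hx.2⟩) ⟨⟨hx.1, hCX hx.2⟩, hx.2⟩
  have e4 : (Cfsg.pPrimePCore p X).map X.subtype = H ⊔ Subgroup.centralizer (H : Set G) ↔
      Cfsg.pPrimePCore p X = H' ⊔ C' := by
    rw [show H ⊔ Subgroup.centralizer (H : Set G) = (H' ⊔ C').map X.subtype by rw [Subgroup.map_sup, hHm, hCm]]
    exact (Subgroup.map_injective X.subtype_injective).eq_iff
  rw [e1, e2, e3, e4]
  exact key

end Cfsg.Agent.S3076
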