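import Cfsg.Statements.S3078
import Cfsg.Agent.Lib.LocalEvenB.ReplacementOmega

set_option autoImplicit false
open Cfsg

namespace Cfsg.Agent.S3078

/-- A replacement Theorem for abelian subgroups of p-groups, p odd. Let G be a finite p-group with p odd, A an abelian subgroup of G, and B a subgroup of nilpotency class at most 2 with [B, B] ≤ A, such that A normalizes B but B does not normalize A. Then there is an abelian subgroup A* of G of the same order as A with A ∩ B strictly contained in A* ∩ B, A* contained in N_G(A) and in the normal closure of A, the exponent of A* dividing the exponent of A, and with the subgroup generated by the elements of order dividing p in A of order at most that of the corresponding subgroup of A* (the rank of A is at most the rank of A*). -/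
theorem result {G : Type*} [Group G] [Finite G] {p : ℕ} [Fact p.Prime] (hp : p ≠ 2) (hG : IsPGroup p G) (A B : Subgroup G) (hA : IsMulCommutative A) (hB2 : ⁅⁅B, B⁆, B⁆ = ⊥) (hBA : ⁅B, B⁆ ≤ A) (hAB : A ≤ Subgroup.normalizer (B : Set G)) (hBnA : ¬ B ≤ Subgroup.normalizer (A : Set G)) : ∃ Astar : Subgroup G, IsMulCommutative Astar ∧ Nat.card Astar = Nat.card A ∧ A ⊓ B < Astar ⊓ B ∧ Astar ≤ Subgroup.normalizer (A : Set G) ∧ Astar ≤ Subgroup.normalClosure (A : Set G) ∧ Monoid.exponent Astar ∣ Monoid.exponent A ∧ Nat.card (Cfsg.omegaOne p A) ≤ Nat.card (Cfsg.omegaOne p Astar) := by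
  set M : Subgroup G := A ⊔ B with hM
  set A₀ := A.subgroupOf M with hA₀
  set B₀ := B.subgroupOf M with hB₀
  have hAM : A ≤ M := le_sup_left
  have hBM : B ≤ M := le_sup_right
  haveI hB₀n : B₀.Normal := (Subgroup.normal_subgroupOf_iff_le_normalizer hBM).2 (sup_le hAB Subgroup.le_normalizer)
  have hA₀m : A₀.map M.subtype = A := by rw [hA₀, Subgroup.subgroupOf_map_subtype, inf_of_le_left hAM]
  have hB₀m : B₀.map M.subtype = B := by rw [hB₀, Subgroup.subgroupOf_map_subtype, inf_of_le_left hBM]
  have hA₀c : IsMulCommutative A₀ := ⟨⟨fun x y => Subtype.ext (Subtype.ext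
    (congrArg (fun z : A => (z : G)) (hA.is_comm.comm ⟨((x : M) : G), x.2⟩ ⟨((y : M) : G), y.2⟩)))⟩⟩
  have hBA₀ : ⁅B₀, B₀⁆ ≤ A₀ := by
    rw [hA₀, Subgroup.subgroupOf, ← Subgroup.map_le_iff_le_comap, Subgroup.map_commutator, hB₀m]
    exact hBA
  have hnot : ¬ B₀ ≤ Subgroup.normalizer (A₀ : Set M) := by
    rw [hA₀, ← Subgroup.subgroupOf_normalizer_eq hAM]
    exact fun h => hBnA fun x hx => h (show (⟨x, hBM hx⟩ : M) ∈ B₀ from hx)
  obtain ⟨b, hb, hbN, hbA⟩ := CfsgLib.PLocal.exists_normalizing_element (hG.to_subgroup M) B₀ A₀ hnot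
  have hspec := CfsgLib.PLocal.replacement (hG.to_subgroup M) B₀ (fun h => absurd h hp) A₀ hA₀c hBA₀ b hb hbN hbA
  have hinf : ∀ X : Subgroup M, (X ⊓ B₀).map M.subtype = X.map M.subtype ⊓ B := fun X => by
    rw [Subgroup.map_inf _ _ _ M.subtype_injective, hB₀m]
  haveI hXc := hspec.comm
  have e := Subgroup.equivMapOfInjective (CfsgLib.PLocal.replace A₀ b) M.subtype M.subtype_injective
  have eA : A₀ ≃* A := Subgroup.subgroupOfEquivOfLe hAM
  refine ⟨(CfsgLib.PLocal.replace A₀ b).map M.subtype, inferInstance, ?_, ?_, ?_, ?_, ?_, ?_⟩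
  · rw [← Nat.card_congr e.toEquiv, hspec.card_eq, Nat.card_congr eA.toEquiv]
  · rw [← hA₀m, ← hinf, ← hinf]
    exact (Subgroup.map_lt_map_iff_of_injective M.subtype_injective).2 hspec.lt_inf
  · have h := (Subgroup.map_mono (f := M.subtype) hspec.le_norm).trans (Subgroup.le_normalizer_map M.subtype)
    rwa [hA₀m] at h
  · rw [Subgroup.map_le_iff_le_comap]
    exact hspec.le_of_normal _ ((Subgroup.normalClosure_normal (s := (A : Set G))).comap M.subtype)
      (fun x hx => Subgroup.subset_normalClosure hx)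
  · rw [← Monoid.exponent_eq_of_mulEquiv e, ← Monoid.exponent_eq_of_mulEquiv eA]
    exact hspec.expo hp
  · rw [← CfsgLib.LocalEvenB.map_omegaOne M.subtype M.subtype_injective,
      Subgroup.card_map_of_injective (f := M.subtype) M.subtype_injective]
    refine le_trans ?_ (CfsgLib.LocalEvenB.omega_card_le_replace hp hA₀c rfl hspec.comm hbN)
    rw [← Subgroup.card_map_of_injective (f := M.subtype) (K := Cfsg.omegaOne p A₀) M.subtype_injective,
      CfsgLib.LocalEvenB.map_omegaOne M.subtype M.subtype_injective, hA₀m]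

end Cfsg.Agent.S3078
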