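import Cfsg.Statements.S3084
import Cfsg.Agent.Lib.LocalEvenB.MonomialExtraspecial

open CfsgLib.LocalEvenB.Monomial in
theorem CfsgLib.LocalEvenB.exists_hyperbolic_coords {U : Type*} [AddCommGroup U] [Module (ZMod 2) U] [Module.Finite (ZMod 2) U]
    (n : ℕ) (hn : Module.finrank (ZMod 2) U = 2 * n) (q : QuadraticForm (ZMod 2) U)
    (hnd : (QuadraticMap.polarBilin q).Nondegenerate) (W : Submodule (ZMod 2) U)
    (hW : Module.finrank (ZMod 2) ↥W = n) (hW0 : ∀ w ∈ W, q w = 0) :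
    ∃ L : U ≃ₗ[ZMod 2] U2 n, ∀ u, q u = beta (L u) (L u) := by
  classical
  have hadd : ∀ x y, q (x + y) = q x + q y + QuadraticMap.polarBilin q x y := fun x y => by
    rw [QuadraticMap.polarBilin_apply_apply, QuadraticMap.polar]; abel
  let b := Module.finBasisOfFinrankEq (ZMod 2) W hW
  let e : Fin n → U := fun i => (b i : U)
  let E : W2 n →ₗ[ZMod 2] U := W.subtype ∘ₗ b.equivFun.symm.toLinearMap
  have hE : ∀ c, E c = ∑ i, c i • e i := fun c => by
    simp [E, e, Module.Basis.equivFun_symm_apply]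
  have hEinj : Function.Injective E := W.injective_subtype.comp b.equivFun.symm.injective
  have hEW : ∀ c, E c ∈ W := fun c => (b.equivFun.symm c).2
  let ψ : U →ₗ[ZMod 2] W2 n := LinearMap.pi fun i => QuadraticMap.polarBilin q (e i)
  have hψapp : ∀ c u, QuadraticMap.polarBilin q (E c) u = c ⬝ᵥ ψ u := fun c u => by
    simp [hE, ψ, map_sum, dotProduct]
  have hψ : Function.Surjective ψ := by
    rw [← LinearMap.range_eq_top]
    by_contra hne
    obtain ⟨φ, hφ0, hφ⟩ := Submodule.exists_dual_map_eq_bot_of_lt_top (lt_of_le_of_ne le_top hne) inferInstance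
    obtain ⟨c, hc⟩ : ∃ c : W2 n, ∀ y, φ y = c ⬝ᵥ y := ⟨fun i => φ (Pi.single i 1), fun y => by
      conv_lhs => rw [pi_eq_sum_univ' y]
      simp [map_sum, dotProduct, mul_comm]⟩
    refine hφ0 (LinearMap.ext fun y => ?_)
    have hc0 : c = 0 := hEinj (by
      rw [map_zero]
      refine hnd.1 _ fun u => ?_
      rw [hψapp, ← hc]
      have : φ (ψ u) ∈ Submodule.map φ (LinearMap.range ψ) := ⟨ψ u, ⟨u, rfl⟩, rfl⟩
      rwa [hφ, Submodule.mem_bot] at this)
    rw [hc, hc0, zero_dotProduct, LinearMap.zero_apply]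
  have hψW : ∀ w ∈ W, ψ w = 0 := fun w hw => funext fun i => by
    have h1 := hadd (e i) w
    rw [hW0 _ (W.add_mem (b i).2 hw), hW0 _ (b i).2, hW0 w hw, zero_add, zero_add] at h1
    simpa [ψ] using h1.symm
  obtain ⟨s, hs⟩ := ψ.exists_rightInverse_of_surjective (LinearMap.range_eq_top.2 hψ)
  have hs' : ∀ y, ψ (s y) = y := fun y => LinearMap.congr_fun hs y
  obtain ⟨C, hC⟩ := exists_polarized (fun y y' : W2 n => QuadraticMap.polarBilin q (s y) (s y'))
    (fun u u' v => by simp) (fun u v v' => by simp) (fun u => by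
      have h1 := hadd (s u) (s u)
      have h2 : s u + s u = 0 := by rw [← two_smul (ZMod 2), show (2 : ZMod 2) = 0 from rfl, zero_smul]
      rw [h2, QuadraticMap.map_zero] at h1
      simpa [CharTwo.add_self_eq_zero] using h1.symm)
  let h : W2 n →+ ZMod 2 := AddMonoidHom.mk' (fun y => q (s y) + ∑ i, ∑ j, C i j * y i * y j) fun y y' => by
    rw [map_add, hadd, hC]
    linear_combination CharTwo.add_self_eq_zero (QuadraticMap.polarBilin q (s y) (s y'))
  let hl := h.toZModLinearMap 2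
  let c : W2 n →ₗ[ZMod 2] W2 n := LinearMap.pi fun i =>
    (∑ j, C i j • LinearMap.proj j) + hl (Pi.single i 1) • LinearMap.proj i
  have hcg : ∀ y, q (s y) = c y ⬝ᵥ y := fun y => by
    have h1 : hl y = ∑ i, y i * hl (Pi.single i 1) := by
      conv_lhs => rw [pi_eq_sum_univ' y]
      simp [map_sum]
    have h2 : hl y = q (s y) + ∑ i, ∑ j, C i j * y i * y j := rfl
    have h3 : ∀ a : ZMod 2, a * a = a := by decide
    have h4 : c y ⬝ᵥ y = ∑ i, ∑ j, C i j * y i * y j + hl y := by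
      rw [h1, ← Finset.sum_add_distrib]
      refine Finset.sum_congr rfl fun i _ => ?_
      simp only [c, LinearMap.pi_apply, LinearMap.add_apply, LinearMap.coe_sum, Finset.sum_apply, LinearMap.smul_apply,
        LinearMap.proj_apply, smul_eq_mul, add_mul, Finset.sum_mul]
      refine congrArg₂ (· + ·) (Finset.sum_congr rfl fun j _ => by ring) ?_
      rw [mul_assoc, h3, mul_comm]
    rw [h4, h2]
    linear_combination -CharTwo.add_self_eq_zero (∑ i, ∑ j, C i j * y i * y j)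
  let M : U2 n →ₗ[ZMod 2] U := E.coprod (s + E ∘ₗ c)
  have hM : ∀ p : U2 n, M p = E (p.1 + c p.2) + s p.2 := fun p => by
    simp [M, map_add]; abel
  have hMinj : Function.Injective M := (injective_iff_map_eq_zero M).2 fun p hp => by
    rw [hM] at hp
    have h1 : p.2 = 0 := by
      have := congrArg ψ hp
      rwa [map_add, hψW _ (hEW _), zero_add, hs', map_zero] at this
    rw [h1, map_zero, map_zero, add_zero, add_zero] at hp
    exact Prod.ext (hEinj (hp.trans (map_zero E).symm)) h1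
  have hfr : Module.finrank (ZMod 2) (U2 n) = Module.finrank (ZMod 2) U := by
    rw [hn, Module.finrank_prod, Module.finrank_fin_fun, two_mul]
  let Me := LinearMap.linearEquivOfInjective M hMinj hfr
  refine ⟨Me.symm, fun u => ?_⟩
  have hu : M (Me.symm u) = u := Me.apply_symm_apply u
  generalize Me.symm u = p at hu
  rw [← hu, hM, hadd, hW0 _ (hEW _), hψapp, hs', hcg, add_dotProduct, beta]
  linear_combination CharTwo.add_self_eq_zero (c p.2 ⬝ᵥ p.2)

set_option autoImplicit false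
open Cfsg CfsgLib.LocalEvenB.Monomial

namespace Cfsg.Agent.S3084

/-- Let K be a group acting faithfully and linearly on a finite-dimensional vector space U of dimension 2n ≥ 2 over the field with two elements, preserving a quadratic form q whose polar bilinear form is non-degenerate and which vanishes on some n-dimensional subspace (a non-singular form of plus type). Then there is a finite group R with a normal extraspecial 2-subgroup Q of order 2^(2n+1), an isomorphism of R/Q with K, and a surjective homomorphism χ from Q onto (the additive group of) U with kernel the centre of Q, such that χ carries conjugation by any r in R to the action of the image of r in K, and an element a of Q squares to the identity exactly when q vanishes at χ(a). -/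
theorem result {K : Type*} [Group K] {U : Type*} [AddCommGroup U] [Module (ZMod 2) U] [Module.Finite (ZMod 2) U] (n : ℕ) (hn1 : 1 ≤ n) (hn : Module.finrank (ZMod 2) U = 2 * n) (ρ : Representation (ZMod 2) K U) (hρ : Function.Injective ρ) (q : QuadraticForm (ZMod 2) U) (hq : ∀ (k : K) (u : U), q (ρ k u) = q u) (hnd : (QuadraticMap.polarBilin q).Nondegenerate) (hplus : ∃ W : Submodule (ZMod 2) U, Module.finrank (ZMod 2) ↥W = n ∧ ∀ w ∈ W, q w = 0) : ∃ (R : Type) (_ : Group R) (_ : Finite R) (Q : Subgroup R) (hN : Q.Normal) (e : R ⧸ Q ≃* K) (χ : ↥Q →* Multiplicative U), Cfsg.IsExtraspecial 2 ↥Q ∧ Nat.card ↥Q = 2 ^ (2 * n + 1) ∧ Function.Surjective χ ∧ χ.ker = Subgroup.center ↥Q ∧ (∀ (r : R) (a : ↥Q), χ ⟨r * a * r⁻¹, hN.conj_mem (a : R) a.2 r⟩ = Multiplicative.ofAdd (ρ (e (r : R ⧸ Q)) (Multiplicative.toAdd (χ a)))) ∧ ∀ a : ↥Q, a * a = 1 ↔ q (Multiplicative.toAdd (χ a)) = 0 := by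
  classical

  obtain ⟨W, hW, hW0⟩ := hplus
  obtain ⟨L, hL⟩ := CfsgLib.LocalEvenB.exists_hyperbolic_coords n hn q hnd W hW hW0
  obtain ⟨κ, hκ⟩ : ∃ κ : K → U2 n → U2 n, ∀ k u, κ k u = L (ρ k (L.symm u)) := ⟨_, fun _ _ => rfl⟩
  have hκm : ∀ k k' u, κ (k * k') u = κ k (κ k' u) := fun k k' u => by
    simp [hκ, map_mul]
  have hκ1 : ∀ u, κ 1 u = u := fun u => by simp [hκ]
  have hκinj : ∀ k k', (∀ u, κ k u = κ k' u) → k = k' := fun k k' h => hρ (LinearMap.ext fun x => by
    have := h (L x)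
    simpa [hκ] using this)
  have h01 : ∀ (u : U2 n) a, gen u a = gen u 0 * gen 0 a := fun u a => by
    rw [gen_mul, add_zero, zero_add, beta]; simp
  have hcen : ∀ (T : (Matrix (W2 n) (W2 n) (ZMod 3))ˣ) a, T * gen (0 : U2 n) a = gen 0 a * T := fun T a => Units.ext (by
    simp [val_gen, mon_zero])
  have hconj : ∀ (T : (Matrix (W2 n) (W2 n) (ZMod 3))ˣ) u v a a', T * gen u 0 * T⁻¹ = gen v a' →
      T * gen u a * T⁻¹ = gen v (a' + a) := fun T u v a a' h => by
    rw [h01 u a, ← mul_assoc, mul_assoc _ (gen 0 a), ← hcen, ← mul_assoc, h, gen_mul]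
    simp [beta]
  let R : Subgroup (Matrix (W2 n) (W2 n) (ZMod 3))ˣ :=
    { carrier := {T | ∃ k, ∀ u, ∃ a, T * gen u 0 * T⁻¹ = gen (κ k u) a}
      one_mem' := ⟨1, fun u => ⟨0, by simp [hκ1]⟩⟩
      mul_mem' := by
        rintro T T' ⟨k, hk⟩ ⟨k', hk'⟩
        refine ⟨k * k', fun u => ?_⟩
        obtain ⟨a', ha'⟩ := hk' u
        obtain ⟨a, ha⟩ := hk (κ k' u)
        refine ⟨a + a', ?_⟩
        rw [hκm, ← hconj T _ _ a' a ha, ← ha']
        group
      inv_mem' := by
        rintro T ⟨k, hk⟩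
        refine ⟨k⁻¹, fun u => ?_⟩
        obtain ⟨a, ha⟩ := hk (κ k⁻¹ u)
        rw [← hκm, mul_inv_cancel, hκ1] at ha
        refine ⟨a, ?_⟩
        have := hconj T _ _ a a (by rw [ha] : T * gen (κ k⁻¹ u) 0 * T⁻¹ = gen u a)
        rw [CharTwo.add_self_eq_zero] at this
        rw [← this]
        group }
  have huniq : ∀ (T : (Matrix (W2 n) (W2 n) (ZMod 3))ˣ) k k', (∀ u, ∃ a, T * gen u 0 * T⁻¹ = gen (κ k u) a) →
      (∀ u, ∃ a, T * gen u 0 * T⁻¹ = gen (κ k' u) a) → k = k' := fun T k k' h h' => hκinj k k' fun u => by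
    obtain ⟨a, ha⟩ := h u
    obtain ⟨a', ha'⟩ := h' u
    exact (gen_inj (ha.symm.trans ha')).1
  let f : R → K := fun r => r.2.choose
  have hf : ∀ r : R, ∀ u, ∃ a, (r : (Matrix (W2 n) (W2 n) (ZMod 3))ˣ) * gen u 0 * (r : (Matrix (W2 n) (W2 n) (ZMod 3))ˣ)⁻¹ = gen (κ (f r) u) a := fun r => r.2.choose_spec
  let π : R →* K := MonoidHom.mk' f fun r r' => huniq ((r * r' : R) : _) _ _ (hf _) fun u => by
    obtain ⟨a', ha'⟩ := hf r' u
    obtain ⟨a, ha⟩ := hf r (κ (f r') u)
    refine ⟨a + a', ?_⟩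
    rw [hκm, ← hconj _ _ _ a' a ha, ← ha', Subgroup.coe_mul]
    group
  have hπ : Function.Surjective π := fun k => by
    obtain ⟨T, hT⟩ := exists_intertwiner (κ k) (fun u v => by simp [hκ])
      (fun u v h => by
        simp only [hκ] at h
        exact L.symm.injective (((Function.LeftInverse.injective (g := ρ k⁻¹) fun x => by
          rw [← Module.End.mul_apply, ← map_mul, inv_mul_cancel, map_one, Module.End.one_apply]) : Function.Injective (ρ k)) (L.injective h)))
      (fun u => by rw [hκ, ← hL, hq, hL, L.apply_symm_apply])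
    exact ⟨⟨T, k, hT⟩, huniq T _ _ (hf ⟨T, k, hT⟩) hT⟩
  have hgenR : ∀ w a u, gen w a * gen u 0 * (gen w a)⁻¹ = gen (κ 1 u) (beta w u + beta u w) := fun w a u => by
    rw [mul_inv_eq_iff_eq_mul, gen_mul, gen_mul, hκ1, add_comm u w]
    congr 1
    linear_combination -CharTwo.add_self_eq_zero (beta u w)
  have hgenker : ∀ w a, (⟨gen w a, 1, fun u => ⟨_, hgenR w a u⟩⟩ : R) ∈ π.ker := fun w a =>
    huniq _ _ _ (hf _) (fun u => ⟨_, hgenR w a u⟩)
  have hker : ∀ r : R, r ∈ π.ker → ∃ w a, (r : (Matrix (W2 n) (W2 n) (ZMod 3))ˣ) = gen w a := by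
    intro r hr
    have hr' : ∀ u, ∃ a, (r : (Matrix (W2 n) (W2 n) (ZMod 3))ˣ) * gen u 0 * (r : (Matrix (W2 n) (W2 n) (ZMod 3))ˣ)⁻¹ = gen u a := fun u => by
      have := hf r u
      rwa [show f r = 1 from hr, hκ1] at this
    choose ε hε using hr'
    have hεadd : ∀ u v, ε (u + v) = ε u + ε v := fun u v => by
      have h1 : (r : (Matrix (W2 n) (W2 n) (ZMod 3))ˣ) * (gen u 0 * gen v 0) * (r : (Matrix (W2 n) (W2 n) (ZMod 3))ˣ)⁻¹ = gen u (ε u) * gen v (ε v) := by
        rw [← hε, ← hε]; group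
      rw [gen_mul, gen_mul, zero_add, zero_add, hconj _ _ _ _ _ (hε (u + v))] at h1
      exact add_right_cancel (gen_inj h1).2
    let εh : U2 n →+ ZMod 2 := AddMonoidHom.mk' ε hεadd
    let εl := εh.toZModLinearMap 2
    obtain ⟨w, hw⟩ : ∃ w : U2 n, w = ((fun i => εl (0, Pi.single i 1)), (fun i => εl (Pi.single i 1, 0))) := ⟨_, rfl⟩
    have hwε : ∀ u, beta w u + beta u w = ε u := fun u => by
      show _ = εl u
      have : u = (u.1, 0) + (0, u.2) := by simp
      conv_rhs => rw [this, map_add]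
      have e1 : εl (u.1, 0) = u.1 ⬝ᵥ fun i => εl (Pi.single i 1, 0) := by
        show (εl ∘ₗ LinearMap.inl (ZMod 2) (W2 n) (W2 n)) u.1 = _
        conv_lhs => rw [pi_eq_sum_univ' u.1]
        simp [map_sum, dotProduct]
      have e2 : εl (0, u.2) = u.2 ⬝ᵥ fun i => εl (0, Pi.single i 1) := by
        show (εl ∘ₗ LinearMap.inr (ZMod 2) (W2 n) (W2 n)) u.2 = _
        conv_lhs => rw [pi_eq_sum_univ' u.2]
        simp [map_sum, dotProduct]
      rw [e1, e2, hw, beta, beta, dotProduct_comm u.2]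
    obtain ⟨a, ha⟩ := centralizer_gen ((gen w 0)⁻¹ * (r : (Matrix (W2 n) (W2 n) (ZMod 3))ˣ)) fun u => by
      have h2 := hgenR w 0 u
      rw [hκ1, hwε, ← hε u] at h2
      calc (gen w 0)⁻¹ * (r : (Matrix (W2 n) (W2 n) (ZMod 3))ˣ) * gen u 0
          = (gen w 0)⁻¹ * ((r : (Matrix (W2 n) (W2 n) (ZMod 3))ˣ) * gen u 0 * (r : (Matrix (W2 n) (W2 n) (ZMod 3))ˣ)⁻¹) * (r : (Matrix (W2 n) (W2 n) (ZMod 3))ˣ) := by group
        _ = (gen w 0)⁻¹ * (gen w 0 * gen u 0 * (gen w 0)⁻¹) * (r : (Matrix (W2 n) (W2 n) (ZMod 3))ˣ) := by rw [h2]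
        _ = gen u 0 * ((gen w 0)⁻¹ * (r : (Matrix (W2 n) (W2 n) (ZMod 3))ˣ)) := by group
    exact ⟨w, a, by rw [eq_comm, h01, ← ha, ← mul_assoc, mul_inv_cancel, one_mul]⟩
  let φ : U2 n × ZMod 2 → ↥π.ker := fun p => ⟨⟨gen p.1 p.2, 1, fun u => ⟨_, hgenR p.1 p.2 u⟩⟩, hgenker p.1 p.2⟩
  have hφ : Function.Bijective φ := by
    refine ⟨fun p p' h => ?_, fun r => ?_⟩
    · obtain ⟨h1, h2⟩ := gen_inj (congrArg (fun x : ↥π.ker => ((x : R) : (Matrix (W2 n) (W2 n) (ZMod 3))ˣ)) h)
      exact Prod.ext h1 h2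
    · obtain ⟨w, a, h⟩ := hker r r.2
      exact ⟨(w, a), Subtype.ext (Subtype.ext h.symm)⟩
  let Φ := Equiv.ofBijective φ hφ
  have hφmul : ∀ p p', φ p * φ p' = φ (p.1 + p'.1, p.2 + p'.2 + beta p.1 p'.1) := fun p p' =>
    Subtype.ext (Subtype.ext (gen_mul _ _ _ _))
  have hsymm : ∀ x y, (Φ.symm (x * y)).1 = (Φ.symm x).1 + (Φ.symm y).1 := fun x y => by
    obtain ⟨p, rfl⟩ := Φ.surjective x
    obtain ⟨p', rfl⟩ := Φ.surjective y
    rw [show Φ p * Φ p' = Φ (p.1 + p'.1, p.2 + p'.2 + beta p.1 p'.1) from hφmul p p', Φ.symm_apply_apply,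
      Φ.symm_apply_apply, Φ.symm_apply_apply]
  let χ : ↥π.ker →* Multiplicative U := MonoidHom.mk' (fun x => Multiplicative.ofAdd (L.symm (Φ.symm x).1))
    fun x y => by rw [hsymm, map_add, ofAdd_add]
  have hχ : ∀ p, χ (φ p) = Multiplicative.ofAdd (L.symm p.1) := fun p => by
    show Multiplicative.ofAdd (L.symm (Φ.symm (Φ p)).1) = _
    rw [Φ.symm_apply_apply]
  have hφ1 : φ 0 = 1 := Subtype.ext (Subtype.ext gen_zero)
  have hχsurj : Function.Surjective χ := fun u => ⟨φ (L (Multiplicative.toAdd u), 0), by rw [hχ, L.symm_apply_apply]; rfl⟩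
  have hkerχ : χ.ker = Subgroup.center ↥π.ker := by
    ext x
    obtain ⟨⟨w, a⟩, rfl⟩ := Φ.surjective x
    show χ (φ (w, a)) = 1 ↔ φ (w, a) ∈ _
    rw [hχ, Subgroup.mem_center_iff, ofAdd_eq_one, LinearEquiv.map_eq_zero_iff]
    constructor
    · intro h0 y
      obtain ⟨p, rfl⟩ := Φ.surjective y
      show φ p * φ (w, a) = φ (w, a) * φ p
      rw [hφmul, hφmul]
      subst h0
      simp [beta, add_comm]
    · intro h
      have hb : ∀ u, beta w u + beta u w = 0 := fun u => by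
        have h1 := h (φ (u, 0))
        rw [hφmul, hφmul] at h1
        have h2 := congrArg Prod.snd (hφ.1 h1)
        simp only [add_zero, zero_add] at h2
        linear_combination h2 + CharTwo.add_self_eq_zero (beta u w) - CharTwo.add_self_eq_zero (beta u w) + CharTwo.add_self_eq_zero (beta w u)
      refine Prod.ext (funext fun i => ?_) (funext fun i => ?_)
      · have := hb (0, Pi.single i 1)
        simpa [beta] using this
      · have := hb (Pi.single i 1, 0)
        simpa [beta] using this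
  have hcard : Nat.card ↥π.ker = 2 ^ (2 * n + 1) := by
    rw [← Nat.card_congr Φ, Nat.card_prod, Nat.card_prod, Nat.card_fun, Nat.card_zmod, Nat.card_fin, pow_succ, two_mul, pow_add]
  refine ⟨↥R, inferInstance, inferInstance, π.ker, inferInstance, QuotientGroup.quotientKerEquivOfSurjective π hπ, χ, ?_, hcard, hχsurj, hkerχ, ?_, ?_⟩
  · haveI : Fact (Nat.Prime 2) := ⟨Nat.prime_two⟩
    refine CfsgLib.PGroups.isExtraspecial_of (IsPGroup.of_card hcard) ?_ ?_ ?_ ?_
    · intro hcm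
      have h0 : (L.symm ((Pi.single ⟨0, hn1⟩ 1 : W2 n), (0 : W2 n))) = 0 := by
        have h1 : φ ((Pi.single ⟨0, hn1⟩ 1, 0), 0) ∈ χ.ker := by
          rw [hkerχ, Subgroup.mem_center_iff]
          exact fun y => hcm.is_comm.comm _ _
        rwa [MonoidHom.mem_ker, hχ, ofAdd_eq_one] at h1
      rw [LinearEquiv.map_eq_zero_iff] at h0
      have := congrFun (congrArg Prod.fst h0) ⟨0, hn1⟩
      simp at this
    · have h1 := Subgroup.card_mul_index χ.ker
      rw [Subgroup.index_ker, MonoidHom.range_eq_top.2 hχsurj, Subgroup.card_top, hcard,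
        Nat.card_congr (Multiplicative.toAdd.trans L.toEquiv), Nat.card_prod, Nat.card_fun, Nat.card_zmod, Nat.card_fin, hkerχ,
        pow_succ', ← pow_add, ← two_mul] at h1
      exact Nat.eq_of_mul_eq_mul_right (by positivity) h1
    · rw [← hkerχ]
      exact Abelianization.commutator_subset_ker χ
    · intro x
      rw [← hkerχ, MonoidHom.mem_ker, map_pow, sq]
      show Multiplicative.ofAdd (L.symm (Φ.symm x).1) * Multiplicative.ofAdd (L.symm (Φ.symm x).1) = 1
      rw [← ofAdd_add, ofAdd_eq_one, ← map_add, two_self, map_zero]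
  · intro r a
    obtain ⟨⟨w, b⟩, rfl⟩ := Φ.surjective a
    obtain ⟨c, hc⟩ := hf r w
    have : (⟨r * (φ (w, b) : R) * r⁻¹, (MonoidHom.normal_ker π).conj_mem _ (φ (w, b)).2 r⟩ : ↥π.ker) = φ (κ (f r) w, c + b) :=
      Subtype.ext (Subtype.ext (hconj _ _ _ b c hc))
    show χ ⟨r * (φ (w, b) : R) * r⁻¹, _⟩ = Multiplicative.ofAdd (ρ (f r) (Multiplicative.toAdd (χ (φ (w, b)))))
    rw [this, hχ, hχ, hκ, L.symm_apply_apply]
    rfl
  · intro a
    obtain ⟨⟨w, b⟩, rfl⟩ := Φ.surjective a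
    show φ (w, b) * φ (w, b) = 1 ↔ q (Multiplicative.toAdd (χ (φ (w, b))))  = 0
    rw [hχ, toAdd_ofAdd, hL, L.apply_symm_apply, ← hφ1, hφmul, hφ.1.eq_iff, Prod.ext_iff]
    simp [two_self, CharTwo.add_self_eq_zero]

end Cfsg.Agent.S3084
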