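import Cfsg.Statements.S3085
import Cfsg.Agent.S3763
import Cfsg.Agent.Lib.LocalEvenB.ExtraspecialNonsplit

set_option autoImplicit false
open Cfsg

namespace Cfsg.Agent.S3085

/-- Let Q be an extraspecial 2-group of order 2^(2n+1) with n ≥ 3 that is of plus type (it contains an elementary abelian subgroup of order 2^(n+1)). Then the group of inner automorphisms of Q has no complement in the full automorphism group of Q: the extension of the inner automorphism group (elementary abelian of order 2^(2n)) by the outer automorphism group (the orthogonal group of plus type) does not split. -/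
theorem result {Q : Type*} [Group Q] [Finite Q] (n : ℕ) (hn : 3 ≤ n) (hQ : Cfsg.IsExtraspecial 2 Q) (hcard : Nat.card Q = 2 ^ (2 * n + 1)) (hplus : ∃ E : Subgroup Q, Cfsg.IsElementaryAbelian 2 E ∧ Nat.card ↥E = 2 ^ (n + 1)) (L : Subgroup (MulAut Q)) : ¬ (Cfsg.Inn Q).IsComplement' L := by
  intro hL
  have prk : ∀ (R : Type _) [Group R] [Finite R], Cfsg.IsExtraspecial 2 R → Nat.card R = 2 ^ (2 * n + 1) →
      (∃ A : Subgroup R, IsMulCommutative A ∧ (∀ a ∈ A, a ^ 2 = 1) ∧ Nat.card A = 2 ^ (n + 1)) →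
      ∀ k, Cfsg.PRankLE 2 k R ↔ n + 1 ≤ k := by
    intro R _ _ hR hc ⟨A, hA1, hA2, hA3⟩ k
    constructor
    · intro h
      exact (Nat.pow_le_pow_iff_right (by norm_num : 1 < 2)).1 (hA3 ▸ h A hA1 hA2)
    · intro hk B hB1 hB2
      have hb : Cfsg.PRankLE 2 (n + 1) R := by
        rcases (Cfsg.Agent.S3763.result.{_, 0} (E := R) hR n hc).1 with h | h
        · exact fun B' hB1' hB2' => (h.1 B' hB1' hB2').trans (Nat.pow_le_pow_right (by norm_num) (Nat.le_succ n))
        · exact h.1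
      exact (hb B hB1 hB2).trans (Nat.pow_le_pow_right (by norm_num) hk)
  obtain ⟨E, ⟨hE1, hE2⟩, hE3⟩ := hplus
  obtain ⟨hM1, hM2, hM3⟩ := CfsgLib.LocalEvenB.Monomial.Heis.maxElem_props (n := n)
  have hH := CfsgLib.LocalEvenB.Monomial.Heis.isExtraspecial (show 1 ≤ n by omega)
  have hHc := CfsgLib.LocalEvenB.Monomial.Heis.card_heis (n := n)
  obtain ⟨φ⟩ := (Cfsg.Agent.S3763.result hQ n hcard).2 (CfsgLib.LocalEvenB.Monomial.Heis n) hH (hHc.trans hcard.symm)
    fun k => ((prk Q hQ hcard ⟨E, hE1, hE2, hE3⟩ k)).trans (by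
      rcases (Cfsg.Agent.S3763.result.{0, 0} hH n hHc).1 with h | h
      · exact absurd (h.1 _ hM1 hM2) (by rw [hM3]; exact not_le.2 (Nat.pow_lt_pow_right (by norm_num) (Nat.lt_succ_self n)))
      · exact ⟨fun hk B hB1 hB2 => (h.1 B hB1 hB2).trans (Nat.pow_le_pow_right (by norm_num) hk),
          fun hk => (Nat.pow_le_pow_iff_right (by norm_num : 1 < 2)).1 (hM3 ▸ hk _ hM1 hM2)⟩)
  let e := MulAut.congr φ
  refine CfsgLib.LocalEvenB.Monomial.Heis.no_complement hn (L.map e.toMonoidHom) (fun α => ?_) (fun g hg => ?_)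
  · obtain ⟨⟨⟨i, hi⟩, l⟩, hil⟩ := hL.surjective (e.symm α)
    obtain ⟨g, rfl⟩ := hi
    refine ⟨φ g, e l, ⟨l, l.2, rfl⟩, ?_⟩
    have he : e (MulAut.conj g) = MulAut.conj (φ g) := by
      ext1 x
      simp [e, MulAut.congr, MulAut.conj_apply]
    rw [← he, ← map_mul]
    exact (congrArg e hil).trans (e.apply_symm_apply α)
  · obtain ⟨l, hl, hle⟩ := hg
    have he : e (MulAut.conj (φ.symm g)) = MulAut.conj g := by
      ext1 x
      simp [e, MulAut.congr, MulAut.conj_apply]
    have hl' : l = MulAut.conj (φ.symm g) := e.injective (hle.trans he.symm)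
    have : MulAut.conj (φ.symm g) = 1 := (Subgroup.mem_bot.1 (hL.disjoint.le_bot ⟨⟨φ.symm g, rfl⟩, hl' ▸ hl⟩))
    rw [← he, this, map_one]

end Cfsg.Agent.S3085
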