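import Cfsg.Statements.S3087
-- import your own Cfsg.Agent.* helpers here

set_option autoImplicit false
open Cfsg

namespace Cfsg.Agent.S3087

/-- Let p be a prime, G a finite group acting linearly on a finite vector space V over the field with p elements, W a G-invariant subspace, and A a subgroup of G with |A|·|C_V(A)| ≥ |B|·|C_V(B)| for every subgroup B of A. Then |A|·|C_W(A)| ≥ |B|·|C_W(B)| for every subgroup B of A that contains C_A(W); that is, the image of A in the group induced on W satisfies the same maximality condition. -/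
theorem result {G V : Type*} [Group G] [Finite G] [AddCommGroup V] [Finite V] (p : ℕ) [Fact p.Prime] [Module (ZMod p) V]
    (ρ : Representation (ZMod p) G V) (W : Submodule (ZMod p) V) (hW : ∀ g : G, ∀ w ∈ W, ρ g w ∈ W)
    (A : Subgroup G)
    (hP : ∀ B : Subgroup G, B ≤ A →
      Nat.card ↥B * Nat.card {v : V // ∀ b ∈ B, ρ b v = v} ≤ Nat.card ↥A * Nat.card {v : V // ∀ a ∈ A, ρ a v = v})
    (B : Subgroup G) (hBA : B ≤ A) (hCB : ∀ a ∈ A, (∀ w ∈ W, ρ a w = w) → a ∈ B) :
    Nat.card ↥B * Nat.card {w : W // ∀ b ∈ B, ρ b w = w} ≤ Nat.card ↥A * Nat.card {w : W // ∀ a ∈ A, ρ a w = w} := by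
  let fW : Subgroup G → AddSubgroup V := fun H =>
    { carrier := {v | v ∈ W ∧ ∀ b ∈ H, ρ b v = v}
      zero_mem' := ⟨W.zero_mem, fun b _ => map_zero _⟩
      add_mem' := fun hx hy => ⟨W.add_mem hx.1 hy.1, fun b hb => by rw [map_add, hx.2 b hb, hy.2 b hb]⟩
      neg_mem' := fun hx => ⟨W.neg_mem hx.1, fun b hb => by rw [map_neg, hx.2 b hb]⟩ }
  let fV : Subgroup G → AddSubgroup V := fun H =>
    { carrier := {v | ∀ b ∈ H, ρ b v = v}
      zero_mem' := fun b _ => map_zero _
      add_mem' := fun hx hy b hb => by rw [map_add, hx b hb, hy b hb]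
      neg_mem' := fun hx b hb => by rw [map_neg, hx b hb] }
  have eW : ∀ H : Subgroup G, Nat.card {w : W // ∀ b ∈ H, ρ b w = w} = Nat.card (fW H) :=
    fun H => Nat.card_congr
      { toFun := fun w => ⟨w.1.1, w.1.2, w.2⟩
        invFun := fun w => ⟨⟨w.1, w.2.1⟩, w.2.2⟩ }
  have eV : ∀ H : Subgroup G, Nat.card {v : V // ∀ b ∈ H, ρ b v = v} = Nat.card (fV H) :=
    fun H => rfl
  let f : (fW B) × (fV A) →+ V := (fW B).subtype.coprod (fV A).subtype
  have hr : f.range ≤ fV B := by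
    rintro _ ⟨⟨x, y⟩, rfl⟩ b hb
    change ρ b ((x : V) + (y : V)) = (x : V) + (y : V)
    rw [map_add, x.2.2 b hb, y.2 b (hBA hb)]
  have hk : Nat.card f.ker ≤ Nat.card (fW A) := by
    refine Nat.card_le_card_of_injective
      (fun z => ⟨(z.1.1 : V), ?_⟩) ?_
    · have hz : (z.1.1 : V) + (z.1.2 : V) = 0 := z.2
      refine ⟨z.1.1.2.1, fun a ha => ?_⟩
      rw [eq_neg_of_add_eq_zero_left hz, map_neg, z.1.2.2 a ha]
    · rintro ⟨⟨x, y⟩, hz⟩ ⟨⟨x', y'⟩, hz'⟩ h
      have h' : (x : V) = (x' : V) := congrArg (fun t : fW A => (t : V)) h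
      have e1 : (x : V) + (y : V) = 0 := hz
      have e2 : (x' : V) + (y' : V) = 0 := hz'
      have h'' : (y : V) = (y' : V) := by
        rw [eq_neg_of_add_eq_zero_right e1, eq_neg_of_add_eq_zero_right e2, h']
      simp only [Subtype.mk.injEq, Prod.mk.injEq]
      exact ⟨Subtype.ext h', Subtype.ext h''⟩
  have h1 : Nat.card (fW B) * Nat.card (fV A) ≤ Nat.card (fW A) * Nat.card (fV B) := by
    rw [← Nat.card_prod, ← f.ker.card_mul_index, AddSubgroup.index_ker]
    exact Nat.mul_le_mul hk (Nat.card_le_card_of_injective (AddSubgroup.inclusion hr) (AddSubgroup.inclusion_injective hr))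
  have h2 := hP B hBA
  rw [eV, eV] at h2
  rw [eW, eW]
  refine Nat.le_of_mul_le_mul_right ?_ (Nat.card_pos (α := fV A))
  calc Nat.card ↥B * Nat.card (fW B) * Nat.card (fV A)
      = Nat.card ↥B * (Nat.card (fW B) * Nat.card (fV A)) := by ring
    _ ≤ Nat.card ↥B * (Nat.card (fW A) * Nat.card (fV B)) := Nat.mul_le_mul_left _ h1
    _ = Nat.card (fW A) * (Nat.card ↥B * Nat.card (fV B)) := by ring
    _ ≤ Nat.card (fW A) * (Nat.card ↥A * Nat.card (fV A)) := Nat.mul_le_mul_left _ h2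
    _ = Nat.card ↥A * Nat.card (fW A) * Nat.card (fV A) := by ring

end Cfsg.Agent.S3087
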