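import Cfsg.Statements.S3103
import Cfsg.Agent.Lib.PGroups.FrattiniFaithful
import Cfsg.Agent.Lib.PLocal.PConstrained
import Cfsg.Agent.Lib.Classical.AutRankFour

set_option autoImplicit false
open Cfsg

namespace Cfsg.Agent.S3103

/-- Let X be a finite 2-constrained group with no nontrivial normal subgroup of odd order such that O₂(X) has sectional 2-rank at most 4. Then X/O₂(X) is isomorphic to a subgroup of the alternating group of degree 8. -/
theorem result {X : Type*} [Group X] [Finite X] (hc : Cfsg.IsPConstrained 2 X) (hO : Cfsg.oddCore X = ⊥)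
    (h4 : Cfsg.SectionalPRankLE 2 4 ↥(Cfsg.pCore 2 X)) :
    ∃ f : X ⧸ Cfsg.pCore 2 X →* ↥(alternatingGroup (Fin 8)), Function.Injective f := by
  classical
  haveI := Fact.mk Nat.prime_two
  have hC : Subgroup.centralizer (Cfsg.pCore 2 X : Set X) ≤ Cfsg.pCore 2 X :=
    (CfsgLib.PLocal.isPConstrained_iff_of_core_bot hO).1 hc
  set P := Cfsg.pCore 2 X
  haveI hPn : P.Normal := CfsgLib.Core.normal_pCore 2 X
  have hP : IsPGroup 2 P := CfsgLib.Core.isPGroup_pCore 2 X
  set Φ := frattini P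
  obtain ⟨hab, hexp⟩ := CfsgLib.PGroups.frattini_quotient hP
  have hV16 : Nat.card (P ⧸ Φ) ≤ 16 := by
    have h := h4 ⊤ (Φ.subgroupOf ⊤)
    haveI := hab
    have hcomm : ∀ x y : (⊤ : Subgroup P) ⧸ Φ.subgroupOf ⊤, x * y = y * x := by
      intro x y
      obtain ⟨a, rfl⟩ := QuotientGroup.mk'_surjective (Φ.subgroupOf ⊤) x
      obtain ⟨b, rfl⟩ := QuotientGroup.mk'_surjective (Φ.subgroupOf ⊤) y
      rw [← map_mul, ← map_mul]
      refine QuotientGroup.eq.2 ?_
      rw [Subgroup.mem_subgroupOf]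
      have h1 : ((((a : P) * b : P)) : P ⧸ Φ) = (((b : P) * a : P) : P ⧸ Φ) := by
        rw [QuotientGroup.mk_mul, QuotientGroup.mk_mul]; exact hab.is_comm.comm _ _
      exact QuotientGroup.eq.1 h1
    have h2 := h ⊤ ⟨⟨fun x y => Subtype.ext (hcomm _ _)⟩⟩ (fun x _ => by
      obtain ⟨a, rfl⟩ := QuotientGroup.mk'_surjective (Φ.subgroupOf ⊤) x
      rw [← map_pow]
      exact (QuotientGroup.eq_one_iff _).2 (CfsgLib.PGroups.pow_mem_frattini hP (a : P)))
    rw [Subgroup.card_top] at h2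
    calc Nat.card (P ⧸ Φ) = Φ.index := rfl
      _ = (Φ.subgroupOf ⊤).index := by
          rw [← Subgroup.relIndex, Subgroup.relIndex_top_right]
      _ ≤ 2 ^ 4 := h2
      _ = 16 := rfl
  -- the action on the Frattini quotient
  have hΦa : ∀ (a : MulAut P) (x : P), x ∈ Φ → a x ∈ Φ := fun a x hx =>
    Subgroup.characteristic_iff_le_comap.1 (inferInstance : (frattini P).Characteristic) a hx
  let act : MulAut P →* MulAut (P ⧸ Φ) :=
    { toFun := fun a => QuotientGroup.congr Φ Φ a (le_antisymm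
        (fun y ⟨x, hx, hxy⟩ => hxy ▸ hΦa a x hx)
        (fun y hy => ⟨a.symm y, hΦa a.symm y hy, a.apply_symm_apply y⟩))
      map_one' := MulEquiv.ext fun v => by
        obtain ⟨x, rfl⟩ := QuotientGroup.mk'_surjective Φ v
        rfl
      map_mul' := fun a b => MulEquiv.ext fun v => by
        obtain ⟨x, rfl⟩ := QuotientGroup.mk'_surjective Φ v
        rfl }
  let θ : X →* MulAut (P ⧸ Φ) := act.comp MulAut.conjNormal
  have hker : θ.ker = P := by
    have hmem : ∀ g : X, g ∈ θ.ker ↔ ∀ x : P, x⁻¹ * MulAut.conjNormal g x ∈ Φ := by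
      intro g
      rw [MonoidHom.mem_ker]
      constructor
      · intro h x
        exact QuotientGroup.eq.1 (DFunLike.congr_fun h (QuotientGroup.mk' Φ x)).symm
      · intro h
        refine MulEquiv.ext fun v => ?_
        obtain ⟨x, rfl⟩ := QuotientGroup.mk'_surjective Φ v
        exact (QuotientGroup.eq.2 (h x)).symm
    refine le_antisymm ?_ fun g hg => (hmem g).2 fun x => ?_
    · refine CfsgLib.Core.le_pCore (IsPGroup.of_card (n := (Nat.card θ.ker).primeFactorsList.length)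
        (Nat.eq_prime_pow_of_unique_prime_dvd Nat.card_pos.ne' fun {d} hd hdvd => ?_))
      by_contra hd2
      haveI := Fact.mk hd
      obtain ⟨⟨g, hg⟩, hgo⟩ := exists_prime_orderOf_dvd_card' d hdvd
      rw [Subgroup.orderOf_mk] at hgo
      have h1 : (MulAut.conjNormal g : MulAut P) = 1 :=
        CfsgLib.PGroups.eq_one_of_trivial_mod_frattini (q := d) hP hd2 _
          (by rw [← map_pow, ← hgo, pow_orderOf_eq_one, map_one]) ((hmem g).1 hg)
      have hgP : g ∈ P := hC (Subgroup.mem_centralizer_iff.2 fun x hx => by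
        have h2 := congrArg Subtype.val (DFunLike.congr_fun h1 (⟨x, hx⟩ : P))
        rw [MulAut.conjNormal_apply, MulAut.one_apply] at h2
        exact (mul_inv_eq_iff_eq_mul.1 h2).symm)
      obtain ⟨k, hk⟩ := hP ⟨g, hgP⟩
      have hdk : d ∣ 2 ^ k := hgo ▸ orderOf_dvd_of_pow_eq_one (congrArg Subtype.val hk)
      exact hd2 ((Nat.prime_dvd_prime_iff_eq hd Nat.prime_two).1 (hd.dvd_of_dvd_pow hdk))
    · have hx : (MulAut.conjNormal g : MulAut P) x = ⟨g, hg⟩ * x * ⟨g, hg⟩⁻¹ :=
        Subtype.ext (MulAut.conjNormal_apply g x)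
      rw [hx, ← QuotientGroup.eq_one_iff]
      rw [QuotientGroup.mk_mul, QuotientGroup.mk_mul, QuotientGroup.mk_mul, QuotientGroup.mk_inv,
        QuotientGroup.mk_inv]
      rw [hab.is_comm.comm ((⟨g, hg⟩ : P) : P ⧸ Φ) (x : P ⧸ Φ)]
      group
  let f₁ : X ⧸ P →* MulAut (P ⧸ Φ) := (QuotientGroup.kerLift θ).comp
    (QuotientGroup.quotientMulEquivOfEq hker.symm).toMonoidHom
  have hf₁ : Function.Injective f₁ :=
    (QuotientGroup.kerLift_injective θ).comp (MulEquiv.injective _)
  obtain ⟨f, hf⟩ := CfsgLib.Classical.AutRankFour.exists_hom_alt_eight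
    (E := P ⧸ Φ) hab.is_comm.comm hexp hV16
  exact ⟨f.comp f₁, hf.comp hf₁⟩

end Cfsg.Agent.S3103
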