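import Cfsg.Statements.S3113
import Cfsg.Agent.Lib.TwoFusion.DihedralProduct.Fusion.Main

set_option autoImplicit false
open Cfsg

namespace Cfsg.Agent.S3113

/-- Let G be a finite group with no nontrivial normal subgroup of odd order, no proper normal subgroup of odd index and no normal subgroup of index 2, whose Sylow 2-subgroup S is non-abelian and is the internal direct product of two dihedral subgroups (each of order at least 4). Then G is the internal direct product of two normal subgroups G₁ and G₂, and for a suitable such factorization of S into dihedral subgroups S₁ × S₂ the factor Sᵢ is a Sylow 2-subgroup of Gᵢ for i = 1, 2. -/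
theorem result {G : Type*} [Group G] [Finite G] (hO : Cfsg.oddCore G = ⊥) (hidx : ∀ N : Subgroup G, N.Normal → Odd N.index → N = ⊤)
    (h2 : ∀ N : Subgroup G, N.Normal → N.index ≠ 2)
    (S : Sylow 2 G) (hS : ¬ IsMulCommutative ↥(S : Subgroup G))
    (D₁ D₂ : Subgroup G) (hD : Cfsg.IsInternalDirectProduct D₁ D₂ (S : Subgroup G))
    (hD₁ : ∃ m : ℕ, 2 ≤ m ∧ Nonempty (↥D₁ ≃* DihedralGroup m)) (hD₂ : ∃ m : ℕ, 2 ≤ m ∧ Nonempty (↥D₂ ≃* DihedralGroup m)) :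
    ∃ G₁ G₂ : Subgroup G, G₁.Normal ∧ G₂.Normal ∧ Cfsg.IsInternalDirectProduct G₁ G₂ ⊤ ∧
      ∃ S₁ S₂ : Subgroup G, Cfsg.IsInternalDirectProduct S₁ S₂ (S : Subgroup G) ∧
        (∃ m : ℕ, 2 ≤ m ∧ Nonempty (↥S₁ ≃* DihedralGroup m)) ∧ (∃ m : ℕ, 2 ≤ m ∧ Nonempty (↥S₂ ≃* DihedralGroup m)) ∧
        S₁ ≤ G₁ ∧ S₂ ≤ G₂ ∧ ¬ (2 ∣ (S₁.subgroupOf G₁).index) ∧ ¬ (2 ∣ (S₂.subgroupOf G₂).index) := by
  obtain ⟨m₁, hm₁, ⟨e₁⟩⟩ := hD₁
  obtain ⟨m₂, hm₂, ⟨e₂⟩⟩ := hD₂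
  obtain ⟨G₁, G₂, S₁, S₂, k₁, k₂, hG₁, hG₂, hdp, hprod, hk₁, hk₂, f₁, f₂, hle₁, hle₂, ho₁, ho₂⟩ :=
    CfsgLib.TwoFusion.DihedralProduct.Fusion.product hO hidx h2 S hS hD hm₁ hm₂ e₁ e₂
  exact ⟨G₁, G₂, hG₁, hG₂, hdp, S₁, S₂, hprod, ⟨k₁, hk₁, f₁⟩, ⟨k₂, hk₂, f₂⟩, hle₁, hle₂,
    ho₁.not_two_dvd_nat, ho₂.not_two_dvd_nat⟩

end Cfsg.Agent.S3113
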