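import Cfsg.Statements.S3116
import Mathlib

set_option autoImplicit false
open Cfsg

namespace Cfsg.Agent.S3116

/-- The automorphism group of a dihedral 2-group of order at least 8, or of a quasi-dihedral (semidihedral) 2-group of order at least 16, is a 2-group. -/
theorem result {X : Type*} [Group X] [Finite X] (h2 : IsPGroup 2 X)
    (h : (∃ n : ℕ, 4 ≤ n ∧ Nonempty (X ≃* DihedralGroup n)) ∨ Cfsg.IsQuasiDihedral X) : IsPGroup 2 (MulAut X) := by
  classical
  haveI := Fact.mk Nat.prime_two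
  -- main step
  have main : ∀ (n : ℕ) (x y : X), 1 ≤ n → orderOf x = 2 ^ n → (Subgroup.zpowers x).index = 2 →
      y ∉ Subgroup.zpowers x → (∀ z, z ∉ Subgroup.zpowers x → orderOf z ≠ 2 ^ n) → IsPGroup 2 (MulAut X) := by
    intro n x y hn hx hidx hy hout φ
    refine ⟨n + n, ?_⟩
    have hmem : ∀ ψ : MulAut X, ψ x ∈ Subgroup.zpowers x := fun ψ => by
      by_contra h
      exact hout _ h (by rw [MulEquiv.orderOf_eq, hx])
    obtain ⟨k, hk0⟩ := Subgroup.mem_zpowers_iff.mp (hmem φ)
    obtain ⟨k, hk⟩ : ∃ k : ℕ, φ x = x ^ k := by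
      obtain ⟨k, hk⟩ := mem_powers_iff_mem_zpowers.mpr (hmem φ)
      exact ⟨k, hk.symm⟩
    have hcop : (2 ^ n).Coprime k := by
      have h := MulEquiv.orderOf_eq φ x
      rw [hk, orderOf_pow, hx] at h
      have hg := Nat.gcd_dvd_left (2 ^ n) k
      have := Nat.div_eq_self.mp h
      rcases this with h' | h'
      · exact absurd h' (by positivity)
      · exact h'
    have hpowx : ∀ j : ℕ, (φ ^ j) x = x ^ (k ^ j) := by
      intro j
      induction j with
      | zero => simp
      | succ j ih => rw [pow_succ', MulAut.mul_apply, ih, map_pow, hk, ← pow_mul, pow_succ']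
    set ψ := φ ^ (2 ^ n) with hψ
    have hψx : ψ x = x := by
      rw [hψ, hpowx]
      conv_rhs => rw [← pow_one x]
      rw [pow_eq_pow_iff_modEq, hx]
      have ht := Nat.ModEq.pow_totient (Nat.Coprime.symm hcop)
      rw [Nat.totient_prime_pow Nat.prime_two (by omega)] at ht
      have : k ^ (2 ^ n) = (k ^ (2 ^ (n - 1) * (2 - 1))) ^ 2 := by
        rw [← pow_mul]
        congr 1
        rw [show 2 - 1 = 1 from rfl, mul_one, ← pow_succ, Nat.sub_add_cancel hn]
      rw [this]
      simpa using ht.pow 2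
    have hψy : ψ y ∉ Subgroup.zpowers x := by
      intro h
      obtain ⟨i, hi⟩ := Subgroup.mem_zpowers_iff.mp h
      apply hy
      have : ψ (x ^ i) = ψ y := by rw [map_zpow, hψx, hi]
      rw [← ψ.injective this]
      exact zpow_mem (Subgroup.mem_zpowers x) i
    set c := ψ y * y⁻¹ with hc
    have hcC : c ∈ Subgroup.zpowers x := by
      rw [hc, Subgroup.mul_mem_iff_of_index_two hidx, inv_mem_iff]
      exact iff_of_false hψy hy
    have hψc : ψ c = c := by
      obtain ⟨i, hi⟩ := Subgroup.mem_zpowers_iff.mp hcC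
      rw [← hi, map_zpow, hψx]
    have hpowy : ∀ j : ℕ, (ψ ^ j) y = c ^ j * y := by
      intro j
      induction j with
      | zero => simp
      | succ j ih => rw [pow_succ', MulAut.mul_apply, ih, map_mul, map_pow, hψc, show ψ y = c * y by simp [hc], ← mul_assoc, ← pow_succ]
    have hc1 : c ^ (2 ^ n) = 1 := by
      obtain ⟨i, hi⟩ := Subgroup.mem_zpowers_iff.mp hcC
      rw [← hi, ← zpow_natCast, zpow_comm, zpow_natCast, ← hx, pow_orderOf_eq_one, one_zpow]
    have hone : (ψ ^ (2 ^ n)) x = x := by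
      generalize 2 ^ n = j
      induction j with
      | zero => simp
      | succ j ih => rw [pow_succ', MulAut.mul_apply, ih, hψx]
    rw [pow_add, pow_mul, ← hψ]
    refine MulEquiv.ext fun z => ?_
    show (ψ ^ (2 ^ n)) z = z
    have hy1 : (ψ ^ (2 ^ n)) y = y := by rw [hpowy, hc1, one_mul]
    have hz1 : ∀ u ∈ Subgroup.zpowers x, (ψ ^ (2 ^ n)) u = u := fun u hu => by
      obtain ⟨i, rfl⟩ := Subgroup.mem_zpowers_iff.mp hu
      rw [map_zpow, hone]
    by_cases hz : z ∈ Subgroup.zpowers x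
    · exact hz1 z hz
    · have : z * y⁻¹ ∈ Subgroup.zpowers x := by
        rw [Subgroup.mul_mem_iff_of_index_two hidx, inv_mem_iff]; exact iff_of_false hz hy
      have h1 := hz1 _ this
      rw [map_mul, map_inv, hy1] at h1
      exact mul_right_cancel h1
  have index_two : ∀ (n : ℕ) (x : X), orderOf x = 2 ^ n → Nat.card X = 2 ^ (n + 1) →
      (Subgroup.zpowers x).index = 2 := fun n x hx hcard => by
    have h1 := (Subgroup.zpowers x).card_mul_index
    rw [Nat.card_zpowers, hx, hcard, pow_succ] at h1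
    exact Nat.eq_of_mul_eq_mul_left (by positivity) h1
  rcases h with ⟨N, hN, ⟨e⟩⟩ | ⟨n, hn, hcard, x, y, hx, hy, hrel⟩
  · obtain ⟨k, hk⟩ := h2.exists_card_eq
    rw [Nat.card_congr e.toEquiv, DihedralGroup.nat_card] at hk
    obtain ⟨n, rfl⟩ : ∃ n, N = 2 ^ n := by
      obtain ⟨n, -, hn'⟩ := (Nat.dvd_prime_pow Nat.prime_two).mp (⟨2, by rw [← hk, mul_comm]⟩ : N ∣ 2 ^ k)
      exact ⟨n, hn'⟩
    haveI : NeZero (2 ^ n) := ⟨by positivity⟩
    have hn : 1 ≤ n := by
      by_contra h0
      have : n = 0 := by omega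
      subst this; norm_num at hN
    have hmem : ∀ z : X, z ∈ Subgroup.zpowers (e.symm (DihedralGroup.r 1)) ↔ ∃ i, e z = DihedralGroup.r i := by
      intro z
      rw [Subgroup.mem_zpowers_iff]
      constructor
      · rintro ⟨i, rfl⟩
        exact ⟨i, by rw [map_zpow, e.apply_symm_apply, DihedralGroup.r_one_zpow]⟩
      · rintro ⟨i, hi⟩
        exact ⟨(i.cast : ℤ), e.injective (by rw [map_zpow, e.apply_symm_apply, DihedralGroup.r_one_zpow, hi, ZMod.intCast_zmod_cast])⟩
    refine main n (e.symm (DihedralGroup.r 1)) (e.symm (DihedralGroup.sr 0)) hn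
      (by rw [MulEquiv.orderOf_eq, DihedralGroup.orderOf_r_one]) ?_ ?_ ?_
    · apply index_two n _ (by rw [MulEquiv.orderOf_eq, DihedralGroup.orderOf_r_one])
      rw [Nat.card_congr e.toEquiv, DihedralGroup.nat_card, pow_succ']
    · rw [hmem]; simp
    · intro z hz hzo
      rw [hmem] at hz
      rcases hdz : e z with i | i
      · exact hz ⟨i, hdz⟩
      · have : orderOf z = 2 := by rw [← e.orderOf_eq, hdz, DihedralGroup.orderOf_sr]
        omega
  · have hidx := index_two n x hx hcard
    have hN : 4 < 2 ^ n := lt_of_lt_of_le (by norm_num) (Nat.pow_le_pow_right (by norm_num) hn)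
    set r := 2 ^ (n - 1) - 1 with hr
    have hy' : y ∉ Subgroup.zpowers x := by
      intro h
      obtain ⟨i, hi⟩ := Subgroup.mem_zpowers_iff.mp h
      have h1 : y * x * y⁻¹ = x := by
        rw [← hi, ← (Commute.zpow_right (Commute.refl x) i).eq, mul_inv_cancel_right]
      rw [h1] at hrel
      conv_lhs at hrel => rw [← pow_one x]
      rw [pow_eq_pow_iff_modEq, hx, Nat.ModEq] at hrel
      have h2 : 2 ^ n = 2 * 2 ^ (n - 1) := by rw [← pow_succ', Nat.sub_add_cancel (by omega)]
      rw [Nat.mod_eq_of_lt (by omega), Nat.mod_eq_of_lt (by omega)] at hrel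
      omega
    refine main n x y (by omega) hx hidx hy' fun z hz hzo => ?_
    have hzy : z * y⁻¹ ∈ Subgroup.zpowers x := by
      rw [Subgroup.mul_mem_iff_of_index_two hidx, inv_mem_iff]; exact iff_of_false hz hy'
    obtain ⟨i, hi⟩ := mem_powers_iff_mem_zpowers.mpr hzy
    simp only at hi
    have hzeq : z = x ^ i * y := by rw [hi, inv_mul_cancel_right]
    have hy2 : y * y = 1 := by rw [← pow_two, ← hy, pow_orderOf_eq_one]
    have hyx : ∀ j : ℕ, y * x ^ j = x ^ (r * j) * y := by
      intro j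
      rw [← mul_inv_eq_iff_eq_mul, ← conj_pow, hrel, ← pow_mul]
    have hz2 : z ^ 2 = x ^ (i * 2 ^ (n - 1)) := by
      rw [pow_two, hzeq, mul_assoc, ← mul_assoc y, hyx, mul_assoc, hy2, mul_one, ← pow_add]
      congr 1
      rw [hr, Nat.sub_mul, one_mul, mul_comm i]
      have : i ≤ 2 ^ (n - 1) * i := Nat.le_mul_of_pos_left i (by positivity)
      omega
    have hz4 : z ^ 4 = 1 := by
      rw [show 4 = 2 * 2 from rfl, pow_mul, hz2, ← pow_mul, mul_assoc, ← pow_succ, Nat.sub_add_cancel (by omega),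
        mul_comm, pow_mul, ← hx, pow_orderOf_eq_one, one_pow]
    have := Nat.le_of_dvd (by norm_num) (orderOf_dvd_of_pow_eq_one hz4)
    omega

end Cfsg.Agent.S3116
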