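import Cfsg.Statements.S3117
import Cfsg.Agent.Lib.TwoGroups.ThreeInvolutions

set_option autoImplicit false
open Cfsg

namespace Cfsg.Agent.S3117

/-- If X is a finite 2-group containing exactly three involutions, then the automorphism group of X is solvable. -/
theorem result {X : Type*} [Group X] [Finite X] (h2 : IsPGroup 2 X) (h3 : Nat.card {x : X // orderOf x = 2} = 3) : Group.IsSolvable (MulAut X) := by
  classical
  haveI := Fact.mk Nat.prime_two
  have h4 : Nat.card {x : X // x ^ 2 = 1} = 4 := by
    have e : {x : X // x ^ 2 = 1} ≃ Option {x : X // orderOf x = 2} :=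
      { toFun := fun x => if h : (x : X) = 1 then none else some ⟨x, orderOf_eq_prime x.2 h⟩
        invFun := fun o => o.elim ⟨1, one_pow 2⟩ fun x => ⟨x, by
          have h := pow_orderOf_eq_one (x : X); rwa [x.2] at h⟩
        left_inv := fun x => by
          by_cases h : (x : X) = 1
          · simp [h, Subtype.ext_iff]
          · simp [h]
        right_inv := by
          rintro (_ | ⟨x, hx⟩)
          · simp
          · have h : x ≠ 1 := fun h => by rw [h, orderOf_one] at hx; exact absurd hx (by decide)
            simp [h] }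
    rw [Nat.card_congr e, Finite.card_option, h3]
  obtain ⟨H, hHc, hΦ, -, hCH⟩ := CfsgLib.Transfer.exists_critical (p := 2) h2
  haveI := hHc
  have hH : IsPGroup 2 H := h2.to_subgroup H
  have hsq : ∀ x : H, x ^ 2 ∈ Subgroup.center H := fun x => by
    refine Subgroup.mem_center_iff.2 fun y => Subtype.ext ?_
    exact Subgroup.mem_centralizer_iff.1
      (hΦ ⟨_, CfsgLib.PGroups.pow_mem_frattini hH x, rfl⟩) (y : X) y.2
  let ι : {x : H // x ^ 2 = 1} → {x : X // x ^ 2 = 1} := fun x =>
    ⟨((x : H) : X), congrArg Subtype.val x.2⟩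
  have hι : Function.Injective ι := fun a b h =>
    Subtype.ext (Subtype.ext (congrArg (fun v : {x : X // x ^ 2 = 1} => (v : X)) h))
  have hH4 : Nat.card {x : H // x ^ 2 = 1} ≤ 4 := h4 ▸ Nat.card_le_card_of_injective ι hι
  haveI : Group.IsSolvable (MulAut H) := by
    by_cases hcen : ∀ x : H, x ^ 2 = 1 → x ∈ Subgroup.center H
    · exact CfsgLib.ThreeInvolutions.isSolvable_mulAut hH hsq hcen hH4
    push Not at hcen
    obtain ⟨t, ht2, htc⟩ := hcen
    haveI : Nontrivial H := ⟨⟨t, 1, fun h => htc (h ▸ one_mem _)⟩⟩
    haveI := hH.center_nontrivial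
    have hd : 2 ∣ Nat.card (Subgroup.center H) :=
      (hH.to_subgroup _).card_eq_or_dvd.resolve_left fun h => by
        have := Finite.one_lt_card (α := Subgroup.center H); omega
    obtain ⟨z, hz⟩ := exists_prime_orderOf_dvd_card' 2 hd
    have hz1 : (z : H) ≠ 1 := fun h => by
      have h' : z = 1 := Subtype.ext h
      rw [h', orderOf_one] at hz; exact absurd hz (by decide)
    have hz2 : (z : H) ^ 2 = 1 := by
      have h := congrArg Subtype.val (pow_orderOf_eq_one z); rwa [hz] at h
    have hzt : Commute (z : H) t := (Subgroup.mem_center_iff.1 z.2 t).symm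
    let S : Fin 4 → {x : H // x ^ 2 = 1} := ![⟨1, one_pow 2⟩, ⟨z, hz2⟩, ⟨t, ht2⟩,
      ⟨z * t, by rw [hzt.mul_pow, hz2, ht2, mul_one]⟩]
    have hS : Function.Injective S := by
      have e1 : t ≠ 1 := fun h => htc (h ▸ one_mem _)
      have e2 : (z : H) ≠ t := fun h => htc (h ▸ z.2)
      have e3 : (z : H) * t ≠ 1 := fun h => htc (by
        rw [show t = (z : H)⁻¹ from eq_inv_of_mul_eq_one_right h]
        exact inv_mem z.2)
      intro i j h
      fin_cases i <;> fin_cases j <;> simp [S, e1, e2, e3, hz1, Subtype.ext_iff, Ne.symm e1,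
        Ne.symm e2, Ne.symm e3, Ne.symm hz1] at h ⊢
    have hsurj : Function.Surjective S := ((Nat.bijective_iff_injective_and_card S).2 ⟨hS, by
      refine le_antisymm ?_ ?_
      · exact Nat.card_le_card_of_injective S hS
      · rw [Nat.card_fin]; exact hH4⟩).2
    have hcommS : ∀ a b : H, a ^ 2 = 1 → b ^ 2 = 1 → a * b = b * a := by
      intro a b ha hb
      obtain ⟨i, hi⟩ := hsurj ⟨a, ha⟩
      obtain ⟨j, hj⟩ := hsurj ⟨b, hb⟩
      rw [show a = (S i : H) from (congrArg Subtype.val hi).symm,
        show b = (S j : H) from (congrArg Subtype.val hj).symm]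
      show Commute (S i : H) (S j : H)
      have h1 := hzt
      have h2 := hzt.symm
      fin_cases i <;> fin_cases j <;>
        first
          | exact Commute.one_left _
          | exact Commute.one_right _
          | exact Commute.refl _
          | exact h1
          | exact h2
          | exact (Commute.refl (z : H)).mul_right h1
          | exact ((Commute.refl (z : H)).mul_right h1).symm
          | exact h2.mul_right (Commute.refl t)
          | exact (h2.mul_right (Commute.refl t)).symm
    let T : Set H := {x | x ^ 2 = 1}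
    let H₀ : Subgroup H := Subgroup.centralizer T
    have hTH : T ⊆ H₀ := fun a ha => Subgroup.mem_centralizer_iff.2 fun b hb => hcommS b a hb ha
    haveI : H₀.Characteristic := Subgroup.characteristic_iff_le_comap.2 fun φ x hx => by
      refine Subgroup.mem_centralizer_iff.2 fun b hb => ?_
      have hb' : φ.symm b ∈ T := by
        show (φ.symm b) ^ 2 = 1
        rw [← map_pow, show b ^ 2 = 1 from hb, map_one]
      simpa using congrArg φ (Subgroup.mem_centralizer_iff.1 hx _ hb')
    have hcH₀ : Subgroup.centralizer (H₀ : Set H) ≤ H₀ := Subgroup.centralizer_le hTH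
    let κ : {x : H₀ // x ^ 2 = 1} → {x : H // x ^ 2 = 1} := fun x =>
      ⟨((x : H₀) : H), congrArg Subtype.val x.2⟩
    have hκ : Function.Injective κ := fun a b h =>
      Subtype.ext (Subtype.ext (congrArg (fun v : {x : H // x ^ 2 = 1} => (v : H)) h))
    haveI : Group.IsSolvable (MulAut H₀) := by
      refine CfsgLib.ThreeInvolutions.isSolvable_mulAut (hH.to_subgroup H₀) (fun x => ?_) (fun x hx => ?_)
        ((Nat.card_le_card_of_injective κ hκ).trans hH4)
      · exact Subgroup.mem_center_iff.2 fun y =>
          Subtype.ext (Subgroup.mem_center_iff.1 (hsq (x : H)) y)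
      · refine Subgroup.mem_center_iff.2 fun y => Subtype.ext ?_
        exact (Subgroup.mem_centralizer_iff.1 y.2 (x : H) (congrArg Subtype.val hx)).symm
    exact CfsgLib.ThreeInvolutions.isSolvable_of_char hH H₀ hcH₀
  exact CfsgLib.ThreeInvolutions.isSolvable_of_char h2 H hCH

end Cfsg.Agent.S3117
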