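import Cfsg.Prelude.Def_CaseTheorems
import Cfsg.Agent.Lib.TwoGroups.PSLThreeFourRadicals
import Cfsg.Agent.Lib.Transfer.Abelian
-- import your own Cfsg.Agent.* helpers here

set_option autoImplicit false
open Cfsg

namespace Cfsg.Agent.S3154

open CfsgLib.TwoGroups.PSLThreeFourRadicals
open scoped MatrixGroups

theorem cover_facts {X L : Type*} [Group X] [Group L] [Finite X] {F : Type*} [Field F] [Fintype F]
    (hF : Fintype.card F = 4) (π : X →* L) (hπ : Function.Surjective π) (hker : π.ker = Subgroup.center X)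
    (hconj : ∀ {x y : L}, orderOf x = 2 → orderOf y = 2 → IsConj x y)
    (hZ : Cfsg.IsElementaryAbelian 2 (Subgroup.center X)) (H : Subgroup X)
    (hZH : Subgroup.center X ≤ H) (hH : Cfsg.IsElementaryAbelian 2 (H.map π))
    (hH16 : Nat.card (H.map π) = 16) (hgood : Good F (H.map π)) :
    Cfsg.IsElementaryAbelian 2 H ∧
      ∃ C : Subgroup X, C ≤ Subgroup.normalizer (H : Set X) ∧ C ⊓ H = ⊥ ∧
        H ⊔ C = Subgroup.normalizer (H : Set X) ∧
        Nonempty (↥C ≃* Matrix.ProjectiveSpecialLinearGroup (Fin 2) F) := by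
  classical
  haveI : Fact (Nat.Prime 2) := ⟨Nat.prime_two⟩
  set Z := Subgroup.center X
  have hπZ : ∀ x, π x = 1 ↔ x ∈ Z := fun x => by rw [← hker, MonoidHom.mem_ker]
  have hcz : ∀ z ∈ Z, ∀ x, Commute z x := fun z hz x => (Subgroup.mem_center_iff.1 hz x).symm
  have hcomapH : (H.map π).comap π = H := Subgroup.comap_map_eq_self (hker ▸ hZH)
  have hN : Subgroup.normalizer (H : Set X) =
      (Subgroup.normalizer ((H.map π : Subgroup L) : Set L)).comap π := by
    rw [Subgroup.comap_normalizer_eq_of_surjective (H.map π) hπ, hcomapH]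
  have hel : ∀ x ∈ H, π x * π x = 1 := fun x hx => by
    rw [← pow_two]; exact hH.2 _ ⟨x, hx, rfl⟩
  -- the squares outside the centre agree
  have hcoset : ∀ x ∈ H, x ∉ Z → ∀ y ∈ H, y ∉ Z → x ^ 2 = y ^ 2 := by
    intro x hx hxZ y hy hyZ
    obtain ⟨g, -, e⟩ := hgood.trans (π x) ⟨x, hx, rfl⟩ (π y) ⟨y, hy, rfl⟩
      (fun h => hxZ ((hπZ x).1 h)) (fun h => hyZ ((hπZ y).1 h))
    obtain ⟨g, rfl⟩ := hπ g
    have hz : (g * x * g⁻¹)⁻¹ * y ∈ Z := by
      rw [← hπZ]; simp only [map_mul, map_inv, e, inv_mul_cancel]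
    have hx2 : x ^ 2 ∈ Z := by rw [← hπZ, map_pow, pow_two]; exact hel x hx
    have hc' : Commute (g * x * g⁻¹) ((g * x * g⁻¹)⁻¹ * y) := (hcz _ hz _).symm
    have e' := hc'.mul_pow 2
    rw [mul_inv_cancel_left, hZ.2 _ hz, mul_one, conj_pow] at e'
    rw [e', ← (hcz _ hx2 g).eq, mul_inv_cancel_right]
  have hpick : ∀ s : List L, s.length < 16 → ∃ x ∈ H, π x ∉ s := by
    intro s hs
    by_contra h
    push Not at h
    have hle : Nat.card (H.map π) ≤ Nat.card {y // y ∈ s.toFinset} :=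
      Nat.card_le_card_of_injective
        (fun y : H.map π => (⟨(y : L), by
          obtain ⟨x, hx, e⟩ := y.2
          rw [← e]; exact List.mem_toFinset.2 (h x hx)⟩ : {y // y ∈ s.toFinset}))
        fun a b e => Subtype.ext (congrArg (fun q : {y // y ∈ s.toFinset} => (q : L)) e)
    rw [Nat.card_eq_fintype_card (α := {y // y ∈ s.toFinset}), Fintype.card_coe, hH16] at hle
    have := List.toFinset_card_le s
    omega
  obtain ⟨u, hu, hu'⟩ := hpick [1] (by simp)
  obtain ⟨v, hv, hv'⟩ := hpick [1, π u] (by simp)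
  obtain ⟨w, hw, hw'⟩ := hpick [1, π u, π v, π v * π u] (by simp)
  simp only [List.mem_cons, List.not_mem_nil, or_false, not_or] at hu' hv' hw'
  have hout : ∀ x ∈ H, ∀ y ∈ H, π y ≠ π x → x * y ∉ Z := fun x hx y _ hne h => hne <| by
    rw [← hπZ, map_mul, ← hel x hx] at h
    exact mul_left_cancel h
  have hK : ∀ x ∈ H, ∀ y ∈ H, x⁻¹ * y * x * y⁻¹ ∈ Z := fun x hx y hy => by
    rw [← hπZ]
    have hc : π y * π x = π x * π y :=
      congrArg Subtype.val (hH.1.is_comm.comm ⟨π y, y, hy, rfl⟩ ⟨π x, x, hx, rfl⟩)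
    simp only [map_mul, map_inv, mul_assoc (π x)⁻¹, hc, inv_mul_cancel_left, mul_inv_cancel]
  set s := u ^ 2 with hs
  have hc : ∀ x ∈ H, ∀ y ∈ H, x ∉ Z → y ∉ Z → x * y ∉ Z → x⁻¹ * y * x * y⁻¹ = s⁻¹ := by
    intro x hx y hy hxZ hyZ hxyZ
    have huZ : u ∉ Z := fun h => hu' ((hπZ u).2 h)
    have h : (x * y) ^ 2 = x ^ 2 * ((x⁻¹ * y * x * y⁻¹) * y ^ 2) := by simp only [pow_two]; group
    rw [← hcoset u hu huZ x hx hxZ, ← hcoset u hu huZ y hy hyZ,
      ← hcoset u hu huZ _ (H.mul_mem hx hy) hxyZ] at h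
    exact eq_inv_of_mul_eq_one_left (mul_eq_left.1 h.symm)
  have hs1 : s = 1 := by
    have huZ : u ∉ Z := fun h => hu' ((hπZ u).2 h)
    have hvZ : v ∉ Z := fun h => hv'.1 ((hπZ v).2 h)
    have hwZ : w ∉ Z := fun h => hw'.1 ((hπZ w).2 h)
    have h1 := hc u hu v hv huZ hvZ (hout u hu v hv hv'.2)
    have h2 := hc u hu w hw huZ hwZ (hout u hu w hw hw'.2.1)
    have h3 := hc u hu (v * w) (H.mul_mem hv hw) huZ (hout v hv w hw hw'.2.2.1)
      (hout u hu (v * w) (H.mul_mem hv hw) fun h => hw'.2.2.2 (by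
        rw [map_mul] at h
        calc π w = π v * (π v * π w) := by rw [← mul_assoc, hel v hv, one_mul]
          _ = _ := by rw [h]))
    have e : u⁻¹ * (v * w) * u * (v * w)⁻¹ =
        (u⁻¹ * v * u * v⁻¹) * (u⁻¹ * w * u * w⁻¹) := by
      calc u⁻¹ * (v * w) * u * (v * w)⁻¹ = (u⁻¹ * v * u) * (u⁻¹ * w * u * w⁻¹) * v⁻¹ := by group
        _ = _ := by rw [mul_assoc, (hcz _ (hK u hu w hw) v⁻¹).eq, ← mul_assoc]
    rw [h1, h2, h3] at e
    exact inv_eq_one.1 (mul_eq_left.1 e.symm)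
  have helem : ∀ x ∈ H, x ^ 2 = 1 := fun x hx => by
    by_cases hxZ : x ∈ Z
    · exact hZ.2 x hxZ
    · rw [← hcoset u hu (fun h => hu' ((hπZ u).2 h)) x hx hxZ]; exact hs1
  have hHel : Cfsg.IsElementaryAbelian 2 H :=
    ⟨⟨⟨fun a b => Subtype.ext (Commute.eq (by
      have hinv : ∀ g ∈ H, g⁻¹ = g := fun g hg =>
        inv_eq_of_mul_eq_one_right (by rw [← pow_two]; exact helem g hg)
      show (a : X) * b = b * a
      calc (a : X) * b = ((a : X) * b)⁻¹ := (hinv _ (H.mul_mem a.2 b.2)).symm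
        _ = (b : X) * a := by rw [mul_inv_rev, hinv _ a.2, hinv _ b.2]))⟩⟩, helem⟩
  refine ⟨hHel, ?_⟩
  -- involutions lift to involutions
  have hlift : ∀ x : X, π x * π x = 1 → x ^ 2 = 1 := by
    intro x hx
    by_cases hxZ : x ∈ Z
    · exact hZ.2 x hxZ
    have hox : orderOf (π x) = 2 :=
      orderOf_eq_prime (by rw [pow_two]; exact hx) fun h => hxZ ((hπZ x).1 h)
    have hou : orderOf (π u) = 2 := orderOf_eq_prime (by rw [pow_two]; exact hel u hu) hu'
    obtain ⟨c, hcx⟩ := isConj_iff.1 (hconj hou hox)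
    obtain ⟨c, rfl⟩ := hπ c
    have hz : (c * u * c⁻¹)⁻¹ * x ∈ Z := by
      rw [← hπZ]; simp only [map_mul, map_inv, hcx, inv_mul_cancel]
    have e' := (hcz _ hz (c * u * c⁻¹)).symm.mul_pow 2
    rw [mul_inv_cancel_left, hZ.2 _ hz, mul_one, conj_pow, helem u hu, mul_one, mul_inv_cancel] at e'
    exact e'
  obtain ⟨Cb, hCN, hCH, hCsup, ⟨ι⟩⟩ := hgood.compl
  let ι2 : Cb ≃* SL(2, F) := ι.trans ((QuotientGroup.quotientMulEquivOfEq (sl2_center hF)).trans
    QuotientGroup.quotientBot)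
  set D := Cb.comap π with hD
  have hZD : Z ≤ D := fun z hz => by
    show π z ∈ Cb
    rw [(hπZ z).2 hz]; exact Cb.one_mem
  obtain ⟨P⟩ : Nonempty (Sylow 2 D) := inferInstance
  have hPsq : ∀ p ∈ (P : Subgroup D), p ^ 2 = 1 := by
    intro p hp
    obtain ⟨k, hk⟩ := P.isPGroup' ⟨p, hp⟩
    have hk' : (p : X) ^ 2 ^ k = 1 := congrArg (fun q : (P : Subgroup D) => ((q : D) : X)) hk
    have h := sl2_sq hF (k := k) (A := ι2 ⟨π p, p.2⟩) (by
      rw [← map_pow, ← map_one ι2]; congr 1; apply Subtype.ext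
      show π p ^ 2 ^ k = 1
      rw [← map_pow, hk', map_one])
    rw [← map_pow, ← map_one ι2] at h
    have h' : π p ^ 2 = 1 := congrArg Subtype.val (ι2.injective h)
    exact Subtype.ext (hlift p (by rw [← pow_two]; exact h'))
  haveI hPc : IsMulCommutative (P : Subgroup D) := by
    refine ⟨⟨fun a b => Subtype.ext ?_⟩⟩
    have hinv : ∀ g ∈ (P : Subgroup D), g⁻¹ = g := fun g hg =>
      inv_eq_of_mul_eq_one_right (by rw [← pow_two]; exact hPsq g hg)
    show (a : D) * b = b * a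
    calc (a : D) * b = ((a : D) * b)⁻¹ := (hinv _ ((P : Subgroup D).mul_mem a.2 b.2)).symm
      _ = (b : D) * a := by rw [mul_inv_rev, hinv _ a.2, hinv _ b.2]
  have hbot := CfsgLib.Transfer.inf_commutator_inf_center_eq_bot (P : Subgroup D) P.card_coprime_index
  set C := (commutator D).map D.subtype with hC
  have hCZ : C ⊓ Z = ⊥ := by
    refine eq_bot_iff.2 ?_
    rintro _ ⟨⟨d, hd, rfl⟩, hdZ⟩
    have hdc : d ∈ Subgroup.center D := Subgroup.mem_center_iff.2 fun g =>
      Subtype.ext (Subgroup.mem_center_iff.1 hdZ g)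
    have hp : IsPGroup 2 (Z.subgroupOf D) := fun z => ⟨1, by
      apply Subtype.ext; apply Subtype.ext
      simpa using hZ.2 ((z : D) : X) z.2⟩
    haveI : (Z.subgroupOf D).Normal := ⟨fun z hz g => by
      have hz' : ((z : D) : X) ∈ Z := hz
      show (g : X) * (z : X) * (g : X)⁻¹ ∈ Z
      rwa [← (hcz ((z : D) : X) hz' (g : X)).eq, mul_inv_cancel_right]⟩
    have hdP : d ∈ (P : Subgroup D) := by
      obtain ⟨Q, hQ⟩ := hp.exists_le_sylow
      obtain ⟨g, rfl⟩ := MulAction.exists_smul_eq D Q P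
      exact Subgroup.mem_pointwise_smul_iff_inv_smul_mem.2 (hQ (by
        show (MulAut.conj g)⁻¹ d ∈ Z.subgroupOf D
        have e : (MulAut.conj g)⁻¹ d = d := by simp [Subgroup.mem_center_iff.1 hdc, mul_assoc]
        rw [e]
        exact hdZ))
    have := hbot.le ⟨⟨hdP, hd⟩, hdc⟩
    rw [Subgroup.mem_bot] at this
    simp [this]
  have hperf : commutator Cb = ⊤ := by
    refine Subgroup.map_injective (f := ι2.toMonoidHom) ι2.injective ?_
    rw [commutator_def, Subgroup.map_commutator, Subgroup.map_top_of_surjective _ ι2.surjective,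
      ← commutator_def, CfsgLib.Classical.commutator_SL_two_eq_top (le_of_eq hF.symm)]
  let πD : D →* Cb := (π.comp D.subtype).codRestrict Cb fun d => d.2
  have hπD : Function.Surjective πD := fun c => by
    obtain ⟨x, hx⟩ := hπ c
    exact ⟨⟨x, by show π x ∈ Cb; rw [hx]; exact c.2⟩, Subtype.ext hx⟩
  have hCmap : C.map π = Cb := by
    refine le_antisymm ?_ fun c hc => ?_
    · rintro _ ⟨_, ⟨d, -, rfl⟩, rfl⟩; exact d.2
    · have h : (⟨c, hc⟩ : Cb) ∈ (commutator D).map πD := by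
        rw [commutator_def, Subgroup.map_commutator, Subgroup.map_top_of_surjective _ hπD, ← commutator_def, hperf]
        exact Subgroup.mem_top _
      obtain ⟨d, hd, e⟩ := h
      exact ⟨d, ⟨d, hd, rfl⟩, congrArg Subtype.val e⟩
  refine ⟨C, ?_, ?_, ?_, ⟨?_⟩⟩
  · intro x hx
    rw [hN]
    exact hCN (hCmap.le ⟨x, hx, rfl⟩)
  · refine eq_bot_iff.2 fun x hx => hCZ.le ⟨hx.1, (hπZ x).1 ?_⟩
    exact Subgroup.mem_bot.1 (hCH.le ⟨hCmap.le ⟨x, hx.1, rfl⟩, x, hx.2, rfl⟩)
  · refine le_antisymm (sup_le Subgroup.le_normalizer ?_) fun x hx => ?_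
    · intro y hy
      rw [hN]
      exact hCN (hCmap.le ⟨y, hy, rfl⟩)
    · rw [hN, Subgroup.mem_comap, ← hCsup, ← hCmap, ← Subgroup.map_sup] at hx
      obtain ⟨y, hy, e⟩ := hx
      have hz : y⁻¹ * x ∈ Z := by rw [← hπZ, map_mul, map_inv, e, inv_mul_cancel]
      have := (H ⊔ C).mul_mem hy (Subgroup.mem_sup_left (T := C) (hZH hz))
      rwa [mul_inv_cancel_left] at this
  · have hinj : Function.Injective (π.comp C.subtype) := by
      rw [injective_iff_map_eq_one]
      exact fun c hc => Subtype.ext (Subgroup.mem_bot.1 (hCZ.le ⟨c.2, (hπZ c).1 hc⟩))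
    exact ((MonoidHom.ofInjective hinj).trans (MulEquiv.subgroupCongr (by
      rw [MonoidHom.range_comp, Subgroup.range_subtype, hCmap]))).trans ι

/-- Let X be a finite quasisimple group whose centre is an elementary abelian 2-group and whose central quotient is isomorphic to the projective special linear group of dimension 3 over the field with 4 elements. Let T be a Sylow 2-subgroup of X and H ≠ K subgroups of T containing the centre Z(X) whose images in X/Z(X) are elementary abelian of order 16 (the two such subgroups of a Sylow 2-subgroup of the quotient). Then H and K are elementary abelian, H ∩ K is the centre of the subgroup they generate, and each of N_X(H), N_X(K) is a split extension of H, respectively K, by the projective special linear group of dimension 2 over the field with 4 elements (there is a complement isomorphic to that group). -/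
theorem result {X : Type*} [Group X] [Finite X] (hq : Cfsg.IsQuasisimple X) (hZ : Cfsg.IsElementaryAbelian 2 (Subgroup.center X))
    {F : Type*} [Field F] [Fintype F] (hF : Fintype.card F = 4) (hXL : Nonempty ((X ⧸ Subgroup.center X) ≃* Matrix.ProjectiveSpecialLinearGroup (Fin 3) F))
    (T : Sylow 2 X) (H K : Subgroup X) (hHK : H ≠ K) (hHT : H ≤ T) (hKT : K ≤ T) (hZH : Subgroup.center X ≤ H) (hZK : Subgroup.center X ≤ K)
    (hH : Cfsg.IsElementaryAbelian 2 (H.map (QuotientGroup.mk' (Subgroup.center X))) ∧ Nat.card ↥(H.map (QuotientGroup.mk' (Subgroup.center X))) = 16)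
    (hK : Cfsg.IsElementaryAbelian 2 (K.map (QuotientGroup.mk' (Subgroup.center X))) ∧ Nat.card ↥(K.map (QuotientGroup.mk' (Subgroup.center X))) = 16) :
    Cfsg.IsElementaryAbelian 2 H ∧ Cfsg.IsElementaryAbelian 2 K ∧
      H ⊓ K = (Subgroup.center ↥(H ⊔ K)).map (H ⊔ K).subtype ∧
      (∃ C : Subgroup X, C ≤ Subgroup.normalizer (H : Set X) ∧ C ⊓ H = ⊥ ∧ H ⊔ C = Subgroup.normalizer (H : Set X) ∧
        Nonempty (↥C ≃* Matrix.ProjectiveSpecialLinearGroup (Fin 2) F)) ∧
      (∃ C : Subgroup X, C ≤ Subgroup.normalizer (K : Set X) ∧ C ⊓ K = ⊥ ∧ K ⊔ C = Subgroup.normalizer (K : Set X) ∧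
        Nonempty (↥C ≃* Matrix.ProjectiveSpecialLinearGroup (Fin 2) F)) := by
  classical
  haveI : Fact (Nat.Prime 2) := ⟨Nat.prime_two⟩
  obtain ⟨φ⟩ := hXL
  let π : X →* Matrix.ProjectiveSpecialLinearGroup (Fin 3) F :=
    φ.toMonoidHom.comp (QuotientGroup.mk' (Subgroup.center X))
  have hπ : Function.Surjective π := φ.surjective.comp (QuotientGroup.mk'_surjective _)
  have hker : π.ker = Subgroup.center X := by
    ext x
    rw [MonoidHom.mem_ker]
    show φ (QuotientGroup.mk' _ x) = 1 ↔ _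
    rw [MulEquiv.map_eq_one_iff, QuotientGroup.mk'_apply, QuotientGroup.eq_one_iff]
  have hmap : ∀ A : Subgroup X, Cfsg.IsElementaryAbelian 2 (A.map (QuotientGroup.mk' (Subgroup.center X))) →
      Nat.card ↥(A.map (QuotientGroup.mk' (Subgroup.center X))) = 16 →
      Cfsg.IsElementaryAbelian 2 (A.map π) ∧ Nat.card (A.map π) = 16 := by
    intro A hA hA16
    have e : A.map π = (A.map (QuotientGroup.mk' (Subgroup.center X))).map φ.toMonoidHom :=
      (Subgroup.map_map _ _ _).symm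
    rw [e]
    refine ⟨⟨⟨⟨?_⟩⟩, ?_⟩, ?_⟩
    · rintro ⟨_, a, ha, rfl⟩ ⟨_, b, hb, rfl⟩
      apply Subtype.ext
      show φ a * φ b = φ b * φ a
      rw [← map_mul, ← map_mul]
      exact congrArg φ (congrArg Subtype.val (hA.1.is_comm.comm ⟨a, ha⟩ ⟨b, hb⟩))
    · rintro _ ⟨a, ha, rfl⟩
      show φ a ^ 2 = 1
      rw [← map_pow, hA.2 a ha, map_one]
    · rw [← hA16]
      exact (Nat.card_congr ((A.map (QuotientGroup.mk' (Subgroup.center X))).equivMapOfInjective _ φ.injective).toEquiv).symm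
  obtain ⟨hH', hH16⟩ := hmap H hH.1 hH.2
  obtain ⟨hK', hK16⟩ := hmap K hK.1 hK.2
  have gH := good_of_elementary hF _ hH' hH16
  have gK := good_of_elementary hF _ hK' hK16
  have hconj : ∀ {x y : Matrix.ProjectiveSpecialLinearGroup (Fin 3) F}, orderOf x = 2 → orderOf y = 2 →
      IsConj x y := fun hx hy => CfsgLib.Classical.PSLThreeFour.involutions_conj hF hx hy
  obtain ⟨eH, cH⟩ := cover_facts hF π hπ hker hconj hZ H hZH hH' hH16 gH
  obtain ⟨eK, cK⟩ := cover_facts hF π hπ hker hconj hZ K hZK hK' hK16 gK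
  refine ⟨eH, eK, le_antisymm ?_ ?_, cH, cK⟩
  · intro x hx
    refine ⟨⟨x, Subgroup.mem_sup_left hx.1⟩, Subgroup.mem_center_iff.2 fun y => Subtype.ext ?_, rfl⟩
    show (y : X) * x = x * y
    refine Subgroup.mem_centralizer_singleton_iff.1
      ((show H ⊔ K ≤ Subgroup.centralizer {x} from sup_le ?_ ?_) y.2)
    · exact fun a ha => Subgroup.mem_centralizer_singleton_iff.2
        (congrArg Subtype.val (eH.1.is_comm.comm ⟨a, ha⟩ ⟨x, hx.1⟩))
    · exact fun a ha => Subgroup.mem_centralizer_singleton_iff.2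
        (congrArg Subtype.val (eK.1.is_comm.comm ⟨a, ha⟩ ⟨x, hx.2⟩))
  · rintro _ ⟨x, hx, rfl⟩
    have key : ∀ A : Subgroup X, Subgroup.center X ≤ A → A ≤ H ⊔ K → Good F (A.map π) → (x : X) ∈ A := by
      intro A hZA hA gA
      have h : π x ∈ A.map π := gA.cent (Subgroup.mem_centralizer_iff.2 fun q hq => by
        obtain ⟨a, ha, rfl⟩ := hq
        rw [← map_mul, ← map_mul]
        exact congrArg π (congrArg Subtype.val (Subgroup.mem_center_iff.1 hx ⟨a, hA ha⟩)))
      have h' : (x : X) ∈ (A.map π).comap π := h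
      rwa [Subgroup.comap_map_eq_self (hker ▸ hZA)] at h'
    exact ⟨key H hZH le_sup_left gH, key K hZK le_sup_right gK⟩

end Cfsg.Agent.S3154
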