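import Mathlib
import Cfsg.Statements.S3155

set_option autoImplicit false
open Cfsg

namespace Cfsg.Agent.S3155

/-- Let B be the direct product of three cyclic groups of order 4. Then the automorphism of B inverting every element is not the square of any automorphism of B. -/
theorem result {B : Type*} [CommGroup B] [Finite B] (hB : Nonempty (B ≃* Multiplicative (ZMod 4 × ZMod 4 × ZMod 4)))
    (τ : B ≃* B) : τ.trans τ ≠ MulEquiv.inv B := by
  intro h
  haveI : Fact (1 < 4) := ⟨by norm_num⟩
  obtain ⟨e⟩ := hB
  let σ : Multiplicative (ZMod 4 × ZMod 4 × ZMod 4) →* Multiplicative (ZMod 4 × ZMod 4 × ZMod 4) :=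
    e.toMonoidHom.comp (τ.toMonoidHom.comp e.symm.toMonoidHom)
  let a : (ZMod 4 × ZMod 4 × ZMod 4) →+ (ZMod 4 × ZMod 4 × ZMod 4) := MonoidHom.toAdditive σ
  let f := a.toZModLinearMap 4
  have hf : f.comp f = (-1 : ZMod 4) • LinearMap.id := by
    refine LinearMap.ext fun v => ?_
    have hτ : ∀ b : B, τ (τ b) = b⁻¹ := fun b => by
      have := congrArg (fun g : B ≃* B => g b) h
      simpa using this
    have : a (a v) = -v := by
      show Multiplicative.toAdd (e (τ (e.symm (e (τ (e.symm (Multiplicative.ofAdd v))))))) = -v
      rw [e.symm_apply_apply, hτ, map_inv, e.apply_symm_apply]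
      rfl
    simpa [f] using this
  have hd := congrArg LinearMap.det hf
  rw [LinearMap.det_comp, LinearMap.det_smul, LinearMap.det_id, mul_one,
    Module.finrank_prod, Module.finrank_prod, Module.finrank_self] at hd
  revert hd
  generalize LinearMap.det f = d
  revert d
  decide

end Cfsg.Agent.S3155
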