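import Cfsg.Statements.S3156
import Mathlib
import Cfsg.Agent.Lib.PGroups.Suzuki.SThreeAction
import Cfsg.Agent.Lib.PGroups.Suzuki.Unitary

set_option autoImplicit false
open Cfsg

namespace Cfsg.Agent.S3156

open CfsgLib.Classical CfsgLib.Classical.Herm CfsgLib.PGroups.Suzuki
open scoped commutatorElement

theorem perm_three_facts :
    (finRotate 3 : Equiv.Perm (Fin 3)) ^ 3 = 1 ∧ (finRotate 3 : Equiv.Perm (Fin 3)) ≠ 1 ∧
    (Equiv.swap (0 : Fin 3) 1) * Equiv.swap 0 1 = 1 ∧
    Equiv.swap (0 : Fin 3) 1 * finRotate 3 = finRotate 3 * finRotate 3 * Equiv.swap 0 1 := by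
  decide

/-- If a finite group T is isomorphic to a Sylow 2-subgroup of the projective special unitary group of dimension 3 with parameter 4 (realised over the field with 16 elements), then no subgroup of the automorphism group of T is isomorphic to the symmetric group of degree 3. -/
theorem result {T : Type*} [Group T] [Finite T] (hT : (∃ (F : Type) (_ : Field F) (_ : Fintype F), Fintype.card F = 16 ∧ ∃ S : Sylow 2 (Cfsg.PSU 3 F 4), Nonempty (T ≃* ↥(S : Subgroup (Cfsg.PSU 3 F 4))))) (H : Subgroup (MulAut T)) : ¬ Nonempty (↥H ≃* Equiv.Perm (Fin 3)) := by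
  classical
  rintro ⟨E⟩
  obtain ⟨F, _, _, hF, P, ⟨e⟩⟩ := hT
  have hF' : Fintype.card F = (2 ^ 2) ^ 2 := by rw [hF]; norm_num
  haveI := Unitary.charP_two (by norm_num : 1 ≤ 2) hF'
  have hX : Nonempty (Unitary.Param (powHom hF') ↥(P : Subgroup (Cfsg.PSU 3 F 4))) :=
    Unitary.exists_param (n := 2) (by norm_num) hF' P
  obtain ⟨X₀⟩ := hX
  have hσ := powHom_isInvol hF'
  let X : Unitary.Param (powHom hF') T := ⟨X₀.el.trans e.symm.toEquiv, fun a b c h => by
    show e.symm (X₀.el a) * e.symm (X₀.el b) = e.symm (X₀.el c)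
    rw [← map_mul, X₀.mul a b c h]⟩
  have hq := card_fixed_powHom hF'
  have hFc : Nat.card F = (2 ^ 2) ^ 2 := by rw [Nat.card_eq_fintype_card, hF']
  have h64 : Nat.card T = 64 := by
    rw [← Nat.card_congr X.el, Unitary.card_pts hσ hq hFc]
    norm_num
  have hV4 : Nat.card (Subgroup.center T) = 4 := by rw [X.card_center hσ hq]; norm_num
  have hVsq : ∀ v ∈ Subgroup.center T, v ^ 2 = 1 := fun v hv => by
    rw [pow_two]; exact (X.mem_center_iff_sq hσ v).mp hv
  have hinv : ∀ v : T, v ^ 2 = 1 → v ∈ Subgroup.center T := fun v hv =>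
    (X.mem_center_iff_sq hσ v).mpr (by rw [← pow_two, hv])
  have hsq : ∀ g : T, g ^ 2 ∈ Subgroup.center T := fun g => by rw [pow_two]; exact X.sq_mem_center hσ g
  have hsurj : ∀ g : T, g ∉ Subgroup.center T → ∀ v ∈ Subgroup.center T, ∃ h : T, ⁅g, h⁆ = v := by
    intro g hg v hv
    obtain ⟨p, rfl⟩ := X.el.surjective g
    obtain ⟨u, rfl⟩ := X.el.surjective v
    rw [X.mem_center_iff hσ] at hg hv
    have hu : powHom hF' u.1.2 = u.1.2 := by
      have h1 := u.2
      rw [hv, mul_zero] at h1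
      linear_combination h1 - CharTwo.add_self_eq_zero u.1.2
    obtain ⟨r, hr⟩ := hσ.exists_trace_eq hu
    obtain ⟨y, hy⟩ := Unitary.exists_pt hσ (r / powHom hF' p.1.1)
    refine ⟨X.el y, ?_⟩
    rw [commutatorElement_def, mul_inv_eq_iff_eq_mul, mul_inv_eq_iff_eq_mul, X.mul' hσ, X.mul' hσ, X.mul' hσ,
      X.el.apply_eq_iff_eq]
    refine Subtype.ext (Prod.ext ?_ ?_)
    · simp only [Unitary.Param.prod, hv, hy]; ring
    · have hp0 : powHom hF' p.1.1 ≠ 0 := fun h => hg (IsInvol.apply_eq_zero_iff.1 h)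
      simp only [Unitary.Param.prod, hv, hy, map_zero, zero_mul, add_zero, zero_add, map_div₀, hσ.invol]
      rw [mul_div_cancel₀ _ hp0, div_mul_cancel₀ _ hg]
      linear_combination hr - CharTwo.add_self_eq_zero (powHom hF' r)
  obtain ⟨h3, hne, hss, hsr⟩ := perm_three_facts
  set ρ : MulAut T := ((E.symm (finRotate 3)) : MulAut T) with hρdef
  set x : MulAut T := ((E.symm (Equiv.swap 0 1)) : MulAut T) with hxdef
  have hρ3 : ρ ^ 3 = 1 := by rw [hρdef, ← Subgroup.coe_pow, ← map_pow, h3, map_one]; rfl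
  have hρ1 : ρ ≠ 1 := fun h => hne (by
    have h' : E.symm (finRotate 3) = 1 := Subtype.ext h
    exact E.symm.injective (h'.trans (map_one E.symm).symm))
  have hxx : x * x = 1 := by rw [hxdef, ← Subgroup.coe_mul, ← map_mul, hss, map_one]; rfl
  have hxρ : x * ρ = ρ * ρ * x := by
    rw [hxdef, hρdef, ← Subgroup.coe_mul, ← Subgroup.coe_mul, ← Subgroup.coe_mul, ← map_mul, hsr, map_mul, map_mul]
  have hrr : ∀ y, ρ (ρ (ρ y)) = y := fun y => congrArg (fun f : MulAut T => f y) hρ3
  have hρV : ∀ v ∈ Subgroup.center T, ρ v ∈ Subgroup.center T := fun v hv =>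
    SThreeAction.map_center_mem ρ hv
  by_cases hfix : ∀ v ∈ Subgroup.center T, ρ v = v
  · exact hρ1 (SThreeAction.eq_one_of_fix_center h64 (Subgroup.center T) hV4 le_rfl hVsq hsq hinv hsurj ρ hrr hfix)
  push Not at hfix
  obtain ⟨u, hu, hmove⟩ := hfix
  have hfpV : ∀ v ∈ Subgroup.center T, ρ v = v → v = 1 := by
    intro v hv hvfix
    by_contra hv1
    haveI : Fintype (Subgroup.center T) := Fintype.ofFinite _
    have hu1 : u ≠ 1 := fun h => hmove (by rw [h, map_one])
    have huv : u ≠ v := fun h => hmove (by rw [h, hvfix])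
    have h2 : ρ (ρ u) ≠ ρ u := fun h => hmove (ρ.injective h)
    have h3 : ρ (ρ u) ≠ u := fun h => hmove (by
      have := congrArg ρ h
      rw [hrr] at this
      exact this.symm)
    have hf1 : ∀ g, g ≠ 1 → ρ g ≠ 1 := fun g hg h => hg ((MulEquiv.map_eq_one_iff _).mp h)
    have hfv : ∀ g, g ≠ v → ρ g ≠ v := fun g hg h => hg (ρ.injective (h.trans hvfix.symm))
    have h5 := Finset.card_le_univ ({(1 : Subgroup.center T), ⟨v, hv⟩, ⟨u, hu⟩, ⟨ρ u, hρV u hu⟩,
      ⟨ρ (ρ u), hρV _ (hρV u hu)⟩} : Finset (Subgroup.center T))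
    rw [Finset.card_insert_of_notMem, Finset.card_insert_of_notMem, Finset.card_insert_of_notMem,
      Finset.card_pair, ← Nat.card_eq_fintype_card, hV4] at h5
    · omega
    · simp [Subtype.ext_iff, h2.symm]
    · simp [Subtype.ext_iff, Ne.symm hmove, h3.symm]
    · simp [Subtype.ext_iff, huv.symm, (hfv u huv).symm, (hfv _ (hfv u huv)).symm]
    · simp [Subtype.ext_iff, Ne.symm hv1, hu1.symm, (hf1 u hu1).symm, (hf1 _ (hf1 u hu1)).symm]
  have hfp : ∀ y, ρ y = y → y = 1 := by
    intro y hy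
    have h2 : ρ (y ^ 2) = y ^ 2 := by rw [map_pow, hy]
    exact hfpV y (hinv y (hfpV _ (hsq y) h2)) hy
  let S : SThreeAction.Fpf T :=
    { V := Subgroup.center T, ρ := ρ, card_V := hV4, sq := hVsq, central := le_rfl, center_le := le_rfl
      rr := hrr, fpf := hfp, rho_mem := hρV, card_eq := h64, sq_mem := hsq }
  obtain ⟨⟨a, b, ha, hb, hab⟩, -⟩ := SThreeAction.inverting S x
    (fun y => congrArg (fun f : MulAut T => f y) hxx) (fun y => congrArg (fun f : MulAut T => f y) hxρ)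
  exact hab (commutatorElement_eq_one_iff_commute.mpr (Subgroup.mem_center_iff.mp (hinv a ha) b))

end Cfsg.Agent.S3156
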