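import Cfsg.Statements.S3157
import Mathlib
import Cfsg.Agent.Lib.PGroups.Suzuki.SThreeAction
import Cfsg.Agent.Lib.PGroups.Suzuki.LinearThreeFour

set_option autoImplicit false
open Cfsg

namespace Cfsg.Agent.S3157

open CfsgLib.PGroups.Suzuki
open scoped commutatorElement

theorem dihedral_four_gen : (∀ x : DihedralGroup 4, ∃ i j k : Fin 2,
    x = DihedralGroup.sr 1 ^ (i : ℕ) * DihedralGroup.sr 0 ^ (j : ℕ) * DihedralGroup.r 2 ^ (k : ℕ)) ∧
    (∀ x : DihedralGroup 4, x * DihedralGroup.r 2 = DihedralGroup.r 2 * x) ∧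
    DihedralGroup.sr (1 : ZMod 4) * DihedralGroup.sr 0 * (DihedralGroup.sr 1)⁻¹ * (DihedralGroup.sr 0)⁻¹ =
      DihedralGroup.r 2 := by
  decide

theorem quaternion_gen : (∀ x : QuaternionGroup 2, ∃ i j k : Fin 2,
    x = QuaternionGroup.xa 0 ^ (i : ℕ) * QuaternionGroup.a 1 ^ (j : ℕ) * QuaternionGroup.a 2 ^ (k : ℕ)) ∧
    (∀ x : QuaternionGroup 2, x * QuaternionGroup.a 2 = QuaternionGroup.a 2 * x) ∧
    QuaternionGroup.xa (0 : ZMod (2 * 2)) * QuaternionGroup.a 1 * (QuaternionGroup.xa 0)⁻¹ * (QuaternionGroup.a 1)⁻¹ =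
      QuaternionGroup.a 2 ∧
    (QuaternionGroup.a (1 : ZMod (2 * 2))) ^ 2 = QuaternionGroup.a 2 ∧
    (QuaternionGroup.xa (0 : ZMod (2 * 2))) ^ 2 = QuaternionGroup.a 2 ∧
    (QuaternionGroup.a (2 : ZMod (2 * 2))) ^ 2 = 1 := by
  decide

theorem closure_three_eq_top {G : Type*} [Group G] {z f g : G}
    (h : ∀ x : G, ∃ i j k : Fin 2, x = g ^ (i : ℕ) * f ^ (j : ℕ) * z ^ (k : ℕ)) :
    Subgroup.closure ({g, f, z} : Set G) = ⊤ := by
  rw [eq_top_iff]
  intro x _
  obtain ⟨i, j, k, rfl⟩ := h x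
  exact mul_mem (mul_mem (pow_mem (Subgroup.subset_closure (by simp)) _)
    (pow_mem (Subgroup.subset_closure (by simp)) _)) (pow_mem (Subgroup.subset_closure (by simp)) _)

/-- Let T be a non-abelian group of order 64 admitting automorphisms ρ of order 3 and x of order 2 with x ρ x⁻¹ = ρ⁻¹ (so they generate a symmetric group of degree 3), where ρ fixes only the identity. Then T is isomorphic to a Sylow 2-subgroup of the projective special linear group of dimension 3 over the field with 4 elements, and the subgroup of fixed points of x is dihedral of order 8 or quaternion of order 8. -/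
theorem result {T : Type*} [Group T] [Finite T] (hT : Nat.card T = 64) (hna : ¬ IsMulCommutative T) (ρ x : MulAut T) (hρ : orderOf ρ = 3) (hx : orderOf x = 2)
    (hxr : x * ρ * x⁻¹ = ρ⁻¹) (hfp : ∀ y : T, ρ y = y → y = 1) (C : Subgroup T) (hC : ∀ y : T, y ∈ C ↔ x y = y) :
    (∃ (F : Type) (_ : Field F) (_ : Fintype F), Fintype.card F = 4 ∧
        ∃ S : Sylow 2 (Matrix.ProjectiveSpecialLinearGroup (Fin 3) F), Nonempty (T ≃* ↥(S : Subgroup (Matrix.ProjectiveSpecialLinearGroup (Fin 3) F)))) ∧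
      (Nonempty (↥C ≃* DihedralGroup 4) ∨ Nonempty (↥C ≃* QuaternionGroup 2)) := by
  classical
  have hρ3 : ρ ^ 3 = 1 := by rw [← hρ, pow_orderOf_eq_one]
  have hrr : ∀ y, ρ (ρ (ρ y)) = y := fun y => by
    have := congrArg (fun f : MulAut T => f y) hρ3
    exact this
  obtain ⟨S, hS⟩ := SThreeAction.exists_fpf hT hna ρ hrr hfp
  have hx2 : ∀ y, x (x y) = y := fun y => by
    have h2 : x ^ 2 = 1 := by rw [← hx, pow_orderOf_eq_one]
    have := congrArg (fun f : MulAut T => f y) h2
    exact this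
  have hxρ : ∀ y, x (S.ρ y) = S.ρ (S.ρ (x y)) := fun y => by
    rw [hS]
    have h1 : x * ρ = ρ * ρ * x := by
      have hinv : ρ⁻¹ = ρ * ρ := inv_eq_of_mul_eq_one_right (by rw [← hρ3, pow_succ', pow_two])
      rw [← hinv, ← hxr, inv_mul_cancel_right]
    exact congrArg (fun f : MulAut T => f y) h1
  obtain ⟨⟨a, b, ha, hb, hab⟩, z, f, g, hfix, hcard, hzc, hz2, hgf, hsq⟩ := SThreeAction.inverting S x hx2 hxρ
  refine ⟨?_, ?_⟩
  · letI : Fintype (GaloisField 2 2) := Fintype.ofFinite _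
    have hF : Fintype.card (GaloisField 2 2) = 4 := by
      rw [← Nat.card_eq_fintype_card, GaloisField.card 2 2 (by norm_num)]; norm_num
    refine ⟨GaloisField 2 2, inferInstance, inferInstance, hF, default, ?_⟩
    obtain ⟨hP64, _, _, _, _, _, _, G₂⟩ := LinearThreeFour.exists_gensL hF default
    obtain ⟨_, _, _, _, G₁⟩ := S.exists_gensL ha hb hab
    exact FourCentre.nonempty_mulEquiv hT hP64 G₁ G₂
  · have hCeq : C = Subgroup.closure ({g, f, z} : Set T) := SetLike.ext fun y => (hC y).trans (hfix y)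
    subst hCeq
    set H := Subgroup.closure ({g, f, z} : Set T) with hH
    let g₁ : H := ⟨g, Subgroup.subset_closure (by simp)⟩
    let f₁ : H := ⟨f, Subgroup.subset_closure (by simp)⟩
    let z₁ : H := ⟨z, Subgroup.subset_closure (by simp)⟩
    have htop : Subgroup.closure ({g₁, f₁, z₁} : Set H) = ⊤ := by
      refine Subgroup.map_injective H.subtype_injective ?_
      rw [MonoidHom.map_closure, ← MonoidHom.range_eq_map, Subgroup.range_subtype]
      simp only [Set.image_insert_eq, Set.image_singleton]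
      rfl
    have hzc₁ : z₁ ∈ Subgroup.center H :=
      Subgroup.mem_center_iff.mpr fun y => Subtype.ext (Subgroup.mem_center_iff.mp hzc y)
    have hgf₁ : ⁅g₁, f₁⁆ = z₁ := Subtype.ext hgf
    have hz₁ : z₁ ^ 2 = 1 := Subtype.ext hz2
    rcases hsq with ⟨hf, hg⟩ | ⟨hf, hg⟩
    · left
      obtain ⟨hgen, hcen, hc⟩ := dihedral_four_gen
      exact SThreeAction.nonempty_equiv_eight hcard DihedralGroup.nat_card htop (closure_three_eq_top hgen)
        hz₁ (by decide) hzc₁ (Subgroup.mem_center_iff.mpr hcen) hgf₁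
        (by rw [commutatorElement_def]; exact hc)
        (Or.inl ⟨Subtype.ext hf, Subtype.ext hg, by decide, by decide⟩)
    · right
      obtain ⟨hgen, hcen, hc, hf', hg', hz'⟩ := quaternion_gen
      exact SThreeAction.nonempty_equiv_eight hcard (by rw [Nat.card_eq_fintype_card, QuaternionGroup.card]) htop
        (closure_three_eq_top hgen) hz₁ hz' hzc₁ (Subgroup.mem_center_iff.mpr hcen) hgf₁
        (by rw [commutatorElement_def]; exact hc)
        (Or.inr ⟨Subtype.ext hf, Subtype.ext hg, hf', hg'⟩)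

end Cfsg.Agent.S3157
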