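import Cfsg.Statements.S3158
import Mathlib
import Cfsg.Agent.Lib.Core.Nilpotent

set_option autoImplicit false
open Cfsg

namespace Cfsg.Agent.S3158

/-- Let U be a group of order q² with q = 2^n ≥ 2, and y an automorphism of U of order q − 1 all of whose nontrivial powers fix only the identity. Let V be a proper normal y-invariant subgroup of U such that V and U/V are elementary abelian 2-groups and there is an isomorphism from V to U/V commuting with the actions of y. Then U is abelian. -/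
theorem result {U : Type*} [Group U] [Finite U] (n : ℕ) (hn : 1 ≤ n) (hU : Nat.card U = (2 ^ n) ^ 2)
    (y : MulAut U) (hy : orderOf y = 2 ^ n - 1) (hfp : ∀ k : ℕ, y ^ k ≠ 1 → ∀ u : U, (y ^ k) u = u → u = 1)
    (V : Subgroup U) [V.Normal] (hV : V ≠ ⊤) (hyV : ∀ v ∈ V, y v ∈ V)
    (hVe : ∀ v ∈ V, v ^ 2 = 1) (hQe : ∀ u : U, u ^ 2 ∈ V) (hQc : ∀ u w : U, u * w * u⁻¹ * w⁻¹ ∈ V)
    (φ : ↥V ≃* U ⧸ V) (hφ : ∀ (v : ↥V) (u : U), (QuotientGroup.mk u : U ⧸ V) = φ v → φ ⟨y v, hyV v v.2⟩ = QuotientGroup.mk (y u)) :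
    IsMulCommutative U := by
  classical
  haveI : Fintype U := Fintype.ofFinite U
  haveI hUp : IsPGroup 2 U := IsPGroup.of_card (n := n * 2) (by rw [hU, ← pow_mul])
  have hVcard : Nat.card V = 2 ^ n := by
    have h := Subgroup.card_eq_card_quotient_mul_card_subgroup V
    rw [← Nat.card_congr φ.toEquiv, hU, ← pow_two] at h
    exact (Nat.pow_left_injective two_ne_zero h).symm
  have hq : 2 ≤ 2 ^ n := by calc 2 = 2 ^ 1 := rfl
                             _ ≤ 2 ^ n := Nat.pow_le_pow_right two_pos hn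
  have hyk : ∀ k : ℕ, ∀ v ∈ V, (y ^ k) v ∈ V := by
    intro k
    induction k with
    | zero => intro v hv; simpa using hv
    | succ k ih => intro v hv; rw [pow_succ', MulAut.mul_apply]; exact hyV _ (ih v hv)
  -- the powers of `y` are transitive on `V ∖ 1`
  have hVtrans : ∀ v ∈ V, v ≠ 1 → ∀ w ∈ V, w ≠ 1 → ∃ k : ℕ, (y ^ k) v = w := by
    intro v hv hv1 w hw hw1
    let g : Fin (2 ^ n - 1) → {x : V // x ≠ 1} := fun k =>
      ⟨⟨(y ^ (k : ℕ)) v, hyk _ v hv⟩, fun h => hv1 ((y ^ (k : ℕ)).injective (by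
        rw [map_one]; exact congrArg Subtype.val h))⟩
    have hg : Function.Injective g := by
      intro a b hab
      have h : (y ^ (a : ℕ)) v = (y ^ (b : ℕ)) v := congrArg (fun x : {x : V // x ≠ 1} => ((x : V) : U)) hab
      by_contra hne
      wlog hlt : (a : ℕ) < b generalizing a b
      · exact this hab.symm h.symm (Ne.symm hne) (by
          have : (a : ℕ) ≠ b := fun hh => hne (Fin.ext hh)
          omega)
      have he : y ^ ((b : ℕ) - a) ≠ 1 := pow_ne_one_of_lt_orderOf (by omega) (by rw [hy]; omega)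
      refine hv1 (hfp _ he v ((y ^ (a : ℕ)).injective ?_))
      rw [← MulAut.mul_apply, ← pow_add, show (a : ℕ) + (b - a) = b by omega, h]
    haveI : Fintype V := Fintype.ofFinite V
    have hbij : Function.Bijective g := by
      rw [Fintype.bijective_iff_injective_and_card]
      refine ⟨hg, ?_⟩
      rw [Fintype.card_fin, Fintype.card_subtype_compl, Fintype.card_subtype_eq,
        ← Nat.card_eq_fintype_card, hVcard]
    obtain ⟨k, hk⟩ := hbij.2 ⟨⟨w, hw⟩, fun h => hw1 (congrArg Subtype.val h)⟩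
    exact ⟨k, congrArg (fun x : {x : V // x ≠ 1} => ((x : V) : U)) hk⟩
  -- `V` is central
  have hVZ : ∀ v ∈ V, ∀ u : U, u * v = v * u := by
    obtain ⟨z, hzV, hzZ, hz1⟩ : ∃ z ∈ V, z ∈ Subgroup.center U ∧ z ≠ 1 := by
      haveI := Fact.mk Nat.prime_two
      haveI := hUp.isNilpotent
      by_contra hc
      push Not at hc
      have hVbot : V = ⊥ := by
        by_contra hne
        exact CfsgLib.Core.inf_center_ne_bot_of_isNilpotent V hne ((Subgroup.eq_bot_iff_forall _).2
          fun x hx => hc x hx.1 hx.2)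
      rw [hVbot, Subgroup.card_bot] at hVcard
      omega
    intro v hv u
    by_cases hv1 : v = 1
    · simp [hv1]
    obtain ⟨k, hk⟩ := hVtrans z hzV hz1 v hv hv1
    have : v ∈ Subgroup.center U := by
      rw [← hk]
      rw [Subgroup.mem_center_iff]
      intro g
      obtain ⟨g', rfl⟩ := (y ^ k).surjective g
      rw [← map_mul, ← map_mul, Subgroup.mem_center_iff.1 hzZ g']
    exact Subgroup.mem_center_iff.1 this u
  let c : U → U → U := fun u w => u * w * u⁻¹ * w⁻¹
  have hcV : ∀ u w, c u w ∈ V := hQc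
  have hcl : ∀ u u' w, c (u * u') w = c u w * c u' w := by
    intro u u' w
    calc c (u * u') w = u * c u' w * u⁻¹ * c u w := by simp only [c]; group
      _ = c u' w * c u w := by rw [hVZ _ (hcV u' w) u, mul_inv_cancel_right]
      _ = _ := hVZ _ (hcV u w) _
  have hcr : ∀ u w w', c u (w * w') = c u w * c u w' := by
    intro u w w'
    calc c u (w * w') = c u w * (w * c u w' * w⁻¹) := by simp only [c]; group
      _ = _ := by rw [hVZ _ (hcV u w') w, mul_inv_cancel_right]
  have hc_anti : ∀ u w, c u w = c w u := by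
    intro u w
    have h := hVe _ (hcV u w)
    rw [pow_two] at h
    rw [← inv_eq_of_mul_eq_one_right h]
    simp only [c]; group
  have hc_map : ∀ (k : ℕ) u w, (y ^ k) (c u w) = c ((y ^ k) u) ((y ^ k) w) := by
    intro k u w; simp only [c, map_mul, map_inv]
  have hcVl : ∀ v ∈ V, ∀ w, c v w = 1 := by
    intro v hv w
    simp only [c]
    rw [← hVZ v hv w, mul_inv_cancel_right, mul_inv_cancel]
  -- class of `u` in terms of `V`
  have hφk : ∀ (k : ℕ) (v : V) (u : U), (QuotientGroup.mk u : U ⧸ V) = φ v →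
      (QuotientGroup.mk ((y ^ k) u) : U ⧸ V) = φ ⟨(y ^ k) v, hyk k v v.2⟩ := by
    intro k
    induction k with
    | zero => intro v u h; simpa using h
    | succ k ih =>
      intro v u h
      have := hφ ⟨(y ^ k) v, hyk k v v.2⟩ ((y ^ k) u) (ih v u h)
      simp only [pow_succ', MulAut.mul_apply]
      exact this.symm
  -- transitivity on the quotient
  obtain ⟨e, he⟩ : ∃ e, e ∉ V := by
    by_contra h
    push Not at h
    exact hV (eq_top_iff.2 fun u _ => h u)
  obtain ⟨ve, hve⟩ := φ.surjective (QuotientGroup.mk e)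
  have hve1 : (ve : U) ≠ 1 := fun h => he (by
    rw [← QuotientGroup.eq_one_iff, ← hve, show ve = 1 from Subtype.ext h, map_one])
  have hQtrans : ∀ u, u ∉ V → ∃ (i : ℕ) (v : U), v ∈ V ∧ u = (y ^ i) e * v := by
    intro u hu
    obtain ⟨vu, hvu⟩ := φ.surjective (QuotientGroup.mk u)
    have hvu1 : (vu : U) ≠ 1 := fun h => hu (by
      rw [← QuotientGroup.eq_one_iff, ← hvu, show vu = 1 from Subtype.ext h, map_one])
    obtain ⟨i, hi⟩ := hVtrans ve ve.2 hve1 vu vu.2 hvu1
    have h : (QuotientGroup.mk ((y ^ i) e) : U ⧸ V) = QuotientGroup.mk u := by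
      rw [hφk i ve e hve.symm, ← hvu]
      exact congrArg φ (Subtype.ext hi)
    exact ⟨i, ((y ^ i) e)⁻¹ * u, QuotientGroup.eq.1 h, (mul_inv_cancel_left _ _).symm⟩
  -- the diagonal maps are homomorphisms
  have key : ∀ (k : ℕ) u w, c u ((y ^ k) w) = c w ((y ^ k) u) := by
    intro k
    let F : U → U := fun u => c u ((y ^ k) u)
    have hFV : ∀ u, F u ∈ V := fun u => hcV _ _
    have hFmod : ∀ u v, v ∈ V → F (u * v) = F u := by
      intro u v hv
      simp only [F, map_mul]
      rw [hcl, hcVl v hv, mul_one, hcr, hc_anti u ((y ^ k) v), hcVl _ (hyk k v hv), mul_one]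
    have hFy : ∀ i u, F ((y ^ i) u) = (y ^ i) (F u) := by
      intro i u
      simp only [F]
      rw [hc_map, show (y ^ k) ((y ^ i) u) = (y ^ (i + k)) u by rw [add_comm, pow_add]; rfl, pow_add, MulAut.mul_apply]
    have hF1 : ∀ v ∈ V, F v = 1 := fun v hv => hcVl v hv _
    have hadd : ∀ u w, F (u * w) = F u * F w := by
      by_cases h0 : F e = 1
      · have hz : ∀ u, F u = 1 := by
          intro u
          by_cases hu : u ∈ V
          · exact hF1 u hu
          obtain ⟨i, v, hv, rfl⟩ := hQtrans u hu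
          rw [hFmod _ _ hv, hFy, h0, map_one]
        intro u w; simp [hz]
      · obtain ⟨m, hm⟩ := hVtrans ve ve.2 hve1 (F e) (hFV e) h0
        have hrep : ∀ u, φ ⟨F u, hFV u⟩ = QuotientGroup.mk ((y ^ m) u) := by
          intro u
          by_cases hu : u ∈ V
          · rw [show (⟨F u, hFV u⟩ : V) = 1 from Subtype.ext (hF1 u hu), map_one]
            exact ((QuotientGroup.eq_one_iff _).2 (hyk m u hu)).symm
          obtain ⟨i, v, hv, rfl⟩ := hQtrans u hu
          have hval : F ((y ^ i) e * v) = (y ^ (m + i)) ve := by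
            rw [hFmod _ _ hv, hFy, ← hm, ← MulAut.mul_apply, ← pow_add, add_comm i m]
          have hR : (QuotientGroup.mk ((y ^ m) ((y ^ i) e * v)) : U ⧸ V) = QuotientGroup.mk ((y ^ (m + i)) e) := by
            rw [map_mul, QuotientGroup.mk_mul, (QuotientGroup.eq_one_iff _).2 (hyk m v hv), mul_one, pow_add,
              MulAut.mul_apply]
          rw [hR, hφk (m + i) ve e hve.symm]
          exact congrArg φ (Subtype.ext hval)
        intro u w
        have h : (⟨F (u * w), hFV _⟩ : V) = ⟨F u, hFV u⟩ * ⟨F w, hFV w⟩ := by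
          apply φ.injective
          rw [map_mul φ, hrep, hrep, hrep, map_mul, QuotientGroup.mk_mul]
        exact congrArg Subtype.val h
    intro u w
    have h := hadd u w
    simp only [F, map_mul] at h
    rw [hcl, hcr, hcr] at h
    have h' : c u ((y ^ k) w) * c w ((y ^ k) u) = 1 := by
      have e1 : c u ((y ^ k) u) * (c u ((y ^ k) w) * c w ((y ^ k) u)) * c w ((y ^ k) w) =
          c u ((y ^ k) u) * 1 * c w ((y ^ k) w) := by
        rw [mul_one]
        calc _ = c u ((y ^ k) u) * c u ((y ^ k) w) * (c w ((y ^ k) u) * c w ((y ^ k) w)) := by group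
          _ = _ := h
      exact mul_left_cancel (mul_right_cancel e1)
    have h2 := hVe _ (hcV w ((y ^ k) u))
    rw [pow_two] at h2
    exact mul_right_cancel (h'.trans h2.symm)
  refine ⟨⟨fun u w => ?_⟩⟩
  suffices c u w = 1 by
    simp only [c, mul_inv_eq_one, mul_inv_eq_iff_eq_mul, one_mul] at this
    exact this
  by_cases hu : u ∈ V
  · exact hcVl u hu w
  by_cases hw : w ∈ V
  · rw [hc_anti]; exact hcVl w hw u
  obtain ⟨a, va, hva, rfl⟩ := hQtrans u hu
  obtain ⟨b, vb, hvb, rfl⟩ := hQtrans w hw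
  rw [hcl, hcVl va hva, mul_one, hcr, hc_anti ((y ^ a) e) vb, hcVl vb hvb, mul_one]
  rw [hc_anti, key a ((y ^ b) e) e, show (y ^ a) ((y ^ b) e) = (y ^ (a + b)) e by rw [pow_add]; rfl]
  -- halve the exponent
  obtain ⟨d, hd⟩ : ∃ d, y ^ (a + b) = y ^ (2 * d) := by
    have hodd : Odd (2 ^ n - 1) := Nat.Even.sub_odd (by omega) (even_two.pow_of_ne_zero (by omega)) odd_one
    obtain ⟨i, hi⟩ := hodd
    refine ⟨(a + b) * (i + 1), ?_⟩
    rw [show 2 * ((a + b) * (i + 1)) = (a + b) + (2 * i + 1) * (a + b) by ring, ← hi, pow_add y (a + b),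
      pow_mul, ← hy, pow_orderOf_eq_one, one_pow, mul_one]
  rw [hd, two_mul, pow_add, MulAut.mul_apply, ← key d ((y ^ d) e) e]
  simp [c]

end Cfsg.Agent.S3158
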