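import Cfsg.Statements.S3161
import Cfsg.Agent.Lib.PGroups.Suzuki.SingerSetup
-- import your own Cfsg.Agent.* helpers here

set_option autoImplicit false
open Cfsg

namespace Cfsg.Agent.S3161

/-- Let Q be a non-abelian finite 2-group admitting commuting automorphisms α of order 2 and ρ of order 2^n − 1, where n ≥ 2, such that the fixed points of α form an elementary abelian subgroup of order 2^n on whose nonidentity elements the group generated by ρ acts transitively. Then Q is isomorphic to a Sylow 2-subgroup of the projective special unitary group of dimension 3 with parameter 2^n (realised over the field with 4^n elements) or of the projective special linear group of dimension 3 over the field with 2^n elements. -/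
theorem result {Q : Type*} [Group Q] [Finite Q] (hQ : IsPGroup 2 Q) (hna : ¬ IsMulCommutative Q) (n : ℕ) (hn : 2 ≤ n)
    (α ρ : MulAut Q) (hα : orderOf α = 2) (hρ : orderOf ρ = 2 ^ n - 1) (hc : Commute α ρ)
    (C : Subgroup Q) (hC : ∀ x : Q, x ∈ C ↔ α x = x) (hCE : Cfsg.IsElementaryAbelian 2 C ∧ Nat.card ↥C = 2 ^ n)
    (htr : ∀ x y : Q, x ∈ C → y ∈ C → x ≠ 1 → y ≠ 1 → ∃ k : ℕ, (ρ ^ k) x = y) :
    (∃ (F : Type) (_ : Field F) (_ : Fintype F), Fintype.card F = 4 ^ n ∧
        ∃ S : Sylow 2 (Cfsg.PSU 3 F (2 ^ n)), Nonempty (Q ≃* ↥(S : Subgroup (Cfsg.PSU 3 F (2 ^ n))))) ∨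
      (∃ (F : Type) (_ : Field F) (_ : Fintype F), Fintype.card F = 2 ^ n ∧
        ∃ S : Sylow 2 (Matrix.ProjectiveSpecialLinearGroup (Fin 3) F), Nonempty (Q ≃* ↥(S : Subgroup (Matrix.ProjectiveSpecialLinearGroup (Fin 3) F)))) := by
  classical
  haveI : Fact (Nat.Prime 2) := ⟨Nat.prime_two⟩
  haveI : Fintype (GaloisField 2 n) := Fintype.ofFinite _
  let F := GaloisField 2 n
  have hn0 : n ≠ 0 := by omega
  have hF : Fintype.card F = 2 ^ n := by rw [← Nat.card_eq_fintype_card]; exact GaloisField.card 2 n hn0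
  obtain ⟨ec, μ, hS⟩ := CfsgLib.PGroups.Suzuki.InvolutorySinger.exists_singer hQ hn α ρ hα hρ hc C hC
    hCE.1 hCE.2 htr (F := F) hF
  obtain ⟨k, ⟨D⟩⟩ := CfsgLib.PGroups.Suzuki.InvolutorySinger.exists_sqData hS hna
  by_cases hk : k ∈ (CfsgLib.PGroups.Suzuki.SquareModels.artin F).range
  · obtain ⟨r, rfl⟩ := hk
    right
    let S : Sylow 2 (Matrix.ProjectiveSpecialLinearGroup (Fin 3) F) := default
    obtain ⟨D'⟩ := CfsgLib.PGroups.Suzuki.SquareModels.exists_data_linear (by omega) hF r S
    exact ⟨F, inferInstance, inferInstance, hF, S,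
      CfsgLib.PGroups.Suzuki.SquareIso.nonempty_mulEquiv D D'⟩
  · left
    haveI : Fintype (GaloisField 2 (2 * n)) := Fintype.ofFinite _
    let K := GaloisField 2 (2 * n)
    have hK : Fintype.card K = (2 ^ n) ^ 2 := by
      rw [← Nat.card_eq_fintype_card, GaloisField.card 2 (2 * n) (by omega), ← pow_mul, mul_comm]
    let S : Sylow 2 (Cfsg.PSU 3 K (2 ^ n)) := default
    obtain ⟨D'⟩ := CfsgLib.PGroups.Suzuki.SquareModels.exists_data_unitary (F := F) (by omega)
      (by rw [Nat.card_eq_fintype_card, hF]) hK hk S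
    refine ⟨K, inferInstance, inferInstance, ?_, S, CfsgLib.PGroups.Suzuki.SquareIso.nonempty_mulEquiv D D'⟩
    rw [hK, ← pow_mul, mul_comm, pow_mul]
    norm_num

end Cfsg.Agent.S3161
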