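import Cfsg.Statements.S3162
import Mathlib
import Cfsg.Agent.Lib.PGroups.Suzuki.UnitaryAut

set_option autoImplicit false
open Cfsg

namespace Cfsg.Agent.S3162

open CfsgLib.Classical CfsgLib.Classical.Herm CfsgLib.PGroups.Suzuki

/-- Let S be a Sylow 2-subgroup of the special unitary group of dimension 3 with parameter q = 2^n (n ≥ 2; realised over the field with q² elements). Then the largest normal 2-subgroup of the automorphism group of S is elementary abelian of order 2^(2n²), and the automorphism group has order 2^(2n²) · 2n(q² − 1). -/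
theorem result {S : Type*} [Group S] [Finite S] (n : ℕ) (hn : 2 ≤ n) {F : Type*} [Field F] [Fintype F] (hF : Fintype.card F = 4 ^ n)
    (P : Sylow 2 ↥(Cfsg.SU 3 F (2 ^ n))) (hS : Nonempty (S ≃* ↥(P : Subgroup ↥(Cfsg.SU 3 F (2 ^ n))))) :
    Cfsg.IsElementaryAbelian 2 (Cfsg.pCore 2 (MulAut S)) ∧ Nat.card ↥(Cfsg.pCore 2 (MulAut S)) = 2 ^ (2 * n ^ 2) ∧
      Nat.card (MulAut S) = 2 ^ (2 * n ^ 2) * (2 * n * ((2 ^ n) ^ 2 - 1)) := by
  classical
  have hF' : Fintype.card F = (2 ^ n) ^ 2 := by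
    rw [hF, ← pow_mul, mul_comm, pow_mul]
    norm_num
  haveI := Unitary.charP_two (by omega : 1 ≤ n) hF'
  haveI := Fact.mk Nat.prime_two
  obtain ⟨e⟩ := hS
  let π := QuotientGroup.mk' (Subgroup.center (Cfsg.SU 3 F (2 ^ n)))
  have hodd : Odd (Nat.card (Subgroup.center (Cfsg.SU 3 F (2 ^ n)))) := by
    rw [card_center_SU hF' 3 le_rfl]
    exact Odd.of_dvd_nat ⟨2 ^ (n - 1), by
      rw [← pow_succ', show n - 1 + 1 = n by omega]⟩ (Nat.gcd_dvd_right _ _)
  let f : ↥(P : Subgroup (Cfsg.SU 3 F (2 ^ n))) →* Cfsg.PSU 3 F (2 ^ n) := π.comp (P : Subgroup (Cfsg.SU 3 F (2 ^ n))).subtype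
  have hf : Function.Injective f := by
    rw [← MonoidHom.ker_eq_bot_iff, eq_bot_iff]
    intro g hg
    have h1 : (g : Cfsg.SU 3 F (2 ^ n)) ∈ Subgroup.center (Cfsg.SU 3 F (2 ^ n)) :=
      (QuotientGroup.eq_one_iff _).mp hg
    obtain ⟨k, hk⟩ := P.2.exists_orderOf_eq_pow g
    have h2 : orderOf (g : Cfsg.SU 3 F (2 ^ n)) ∣ Nat.card (Subgroup.center (Cfsg.SU 3 F (2 ^ n))) :=
      Subgroup.orderOf_dvd_natCard _ h1
    rw [Subgroup.orderOf_coe, hk] at h2
    have h3 := Nat.eq_one_of_dvd_coprimes ((Nat.coprime_two_left.mpr hodd).pow_left k) dvd_rfl h2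
    rw [Subgroup.mem_bot]
    exact orderOf_eq_one_iff.mp (hk.trans h3)
  let Q : Sylow 2 (Cfsg.PSU 3 F (2 ^ n)) :=
    Sylow.mapSurjective (QuotientGroup.mk'_surjective (Subgroup.center (Cfsg.SU 3 F (2 ^ n)))) P
  have hR : f.range = (Q : Subgroup (Cfsg.PSU 3 F (2 ^ n))) := by
    rw [MonoidHom.range_comp, Subgroup.range_subtype]
    rfl
  obtain ⟨X₀⟩ := Unitary.exists_param (by omega : 1 ≤ n) hF' Q
  let E : ↥(Q : Subgroup (Cfsg.PSU 3 F (2 ^ n))) ≃* S :=
    ((MulEquiv.subgroupCongr hR).symm.trans (MonoidHom.ofInjective hf).symm).trans e.symm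
  let X : Unitary.Param (powHom hF') S := ⟨X₀.el.trans E.toEquiv, fun a b c h => by
    show E (X₀.el a) * E (X₀.el b) = E (X₀.el c)
    rw [← map_mul, X₀.mul a b c h]⟩
  refine Unitary.aut_structure X (powHom_isInvol hF') (by omega) ?_ (card_fixed_powHom hF') ?_
  · rw [hF', ← pow_mul, mul_comm]
  · intro φ x
    rw [powHom_apply, powHom_apply, map_pow]

end Cfsg.Agent.S3162
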