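import Cfsg.Statements.S3163
import Mathlib

set_option autoImplicit false
open Cfsg

namespace Cfsg.Agent.S3163

/-- Let S be a non-abelian finite 2-group which is the product S = AB of two elementary abelian subgroups A and B, and suppose that the centralizer in S of every element of A outside B is exactly A. Then the centralizer of every element of B outside A is exactly B; A and B are maximal elementary abelian subgroups of S and the only ones; the centre of S is A ∩ B; and every element of S outside A ∪ B has centralizer of order at most min(|A|, |B|). -/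
theorem result {S : Type*} [Group S] [Finite S] (hS : IsPGroup 2 S) (hna : ¬ IsMulCommutative S) (A B : Subgroup S)
    (hA : Cfsg.IsElementaryAbelian 2 A) (hB : Cfsg.IsElementaryAbelian 2 B) (hAB : ∀ s : S, ∃ a ∈ A, ∃ b ∈ B, s = a * b)
    (hC : ∀ a ∈ A, a ∉ B → Subgroup.centralizer ({a} : Set S) = A) :
    (∀ b ∈ B, b ∉ A → Subgroup.centralizer ({b} : Set S) = B) ∧
      (∀ E : Subgroup S, Cfsg.IsElementaryAbelian 2 E → (∀ E' : Subgroup S, Cfsg.IsElementaryAbelian 2 E' → E ≤ E' → E' = E) → E = A ∨ E = B) ∧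
      (∀ E' : Subgroup S, Cfsg.IsElementaryAbelian 2 E' → A ≤ E' → E' = A) ∧ (∀ E' : Subgroup S, Cfsg.IsElementaryAbelian 2 E' → B ≤ E' → E' = B) ∧
      Subgroup.center S = A ⊓ B ∧
      (∀ x : S, x ∉ A → x ∉ B → Nat.card ↥(Subgroup.centralizer ({x} : Set S)) ≤ min (Nat.card ↥A) (Nat.card ↥B)) := by
  classical
  haveI : Fact (Nat.Prime 2) := ⟨Nat.prime_two⟩
  have cA : ∀ a ∈ A, ∀ a' ∈ A, a * a' = a' * a := fun a ha a' ha' => by
    have := hA.1.is_comm.comm (⟨a, ha⟩ : A) ⟨a', ha'⟩
    exact congrArg Subtype.val this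
  have cB : ∀ a ∈ B, ∀ a' ∈ B, a * a' = a' * a := fun a ha a' ha' => by
    have := hB.1.is_comm.comm (⟨a, ha⟩ : B) ⟨a', ha'⟩
    exact congrArg Subtype.val this
  -- an element of `B` commuting with `a ∈ A` lies in `A` or `a ∈ B`
  have key : ∀ a ∈ A, ∀ b ∈ B, b * a = a * b → a ∈ B ∨ b ∈ A := by
    intro a ha b hb hab
    by_cases haB : a ∈ B
    · exact Or.inl haB
    · right
      rw [← hC a ha haB]
      exact Subgroup.mem_centralizer_singleton_iff.mpr hab
  have hCB : ∀ b ∈ B, b ∉ A → Subgroup.centralizer ({b} : Set S) = B := by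
    intro b hb hbA
    ext s
    rw [Subgroup.mem_centralizer_singleton_iff]
    refine ⟨fun hs => ?_, fun hs => cB s hs b hb⟩
    obtain ⟨a, ha, b', hb', rfl⟩ := hAB s
    have : a * b = b * a := by
      apply mul_right_cancel (b := b')
      calc a * b * b' = a * (b' * b) := by rw [mul_assoc, cB b hb b' hb']
        _ = a * b' * b := (mul_assoc _ _ _).symm
        _ = b * (a * b') := hs
        _ = b * a * b' := (mul_assoc _ _ _).symm
    rcases key a ha b hb this.symm with h | h
    · exact B.mul_mem h hb'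
    · exact absurd h hbA
  obtain ⟨a₀, ha₀, ha₀B⟩ : ∃ a ∈ A, a ∉ B := by
    by_contra hne
    push Not at hne
    apply hna
    have hall : ∀ s : S, s ∈ B := fun s => by
      obtain ⟨a, ha, b, hb, rfl⟩ := hAB s
      exact B.mul_mem (hne a ha) hb
    exact ⟨⟨fun x y => cB x (hall x) y (hall y)⟩⟩
  obtain ⟨b₀, hb₀, hb₀A⟩ : ∃ b ∈ B, b ∉ A := by
    by_contra hne
    push Not at hne
    apply hna
    have hall : ∀ s : S, s ∈ A := fun s => by
      obtain ⟨a, ha, b, hb, rfl⟩ := hAB s
      exact A.mul_mem ha (hne b hb)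
    exact ⟨⟨fun x y => cA x (hall x) y (hall y)⟩⟩
  have hmaxA : ∀ E' : Subgroup S, Cfsg.IsElementaryAbelian 2 E' → A ≤ E' → E' = A := by
    intro E' hE hle
    refine le_antisymm ?_ hle
    intro e he
    rw [← hC a₀ ha₀ ha₀B, Subgroup.mem_centralizer_singleton_iff]
    exact congrArg Subtype.val (hE.1.is_comm.comm (⟨e, he⟩ : E') ⟨a₀, hle ha₀⟩)
  have hmaxB : ∀ E' : Subgroup S, Cfsg.IsElementaryAbelian 2 E' → B ≤ E' → E' = B := by
    intro E' hE hle
    refine le_antisymm ?_ hle
    intro e he
    rw [← hCB b₀ hb₀ hb₀A, Subgroup.mem_centralizer_singleton_iff]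
    exact congrArg Subtype.val (hE.1.is_comm.comm (⟨e, he⟩ : E') ⟨b₀, hle hb₀⟩)
  have hZ : Subgroup.center S = A ⊓ B := by
    ext z
    rw [Subgroup.mem_center_iff]
    constructor
    · intro hz
      refine ⟨?_, ?_⟩
      · show z ∈ A
        rw [← hC a₀ ha₀ ha₀B, Subgroup.mem_centralizer_singleton_iff]
        exact (hz a₀).symm
      · show z ∈ B
        rw [← hCB b₀ hb₀ hb₀A, Subgroup.mem_centralizer_singleton_iff]
        exact (hz b₀).symm
    · intro hz g
      obtain ⟨a, ha, b, hb, rfl⟩ := hAB g
      rw [mul_assoc, cB b hb z hz.2, ← mul_assoc, cA a ha z hz.1, mul_assoc]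
  refine ⟨hCB, ?_, hmaxA, hmaxB, hZ, ?_⟩
  · intro E hE hEmax
    have hsub : ∀ x ∈ E, x ∈ A ∨ x ∈ B := by
      intro x hx
      obtain ⟨a, ha, b, hb, rfl⟩ := hAB x
      have h1 := hE.2 _ hx
      have h2 := hA.2 _ ha
      have h3 := hB.2 _ hb
      rw [pow_two] at h1 h2 h3
      have : b * a = a * b := by
        calc b * a = (a * a) * (b * a) * (b * b) := by rw [h2, h3, one_mul, mul_one]
          _ = a * ((a * b) * (a * b)) * b := by simp [mul_assoc]
          _ = a * b := by rw [h1, mul_one]
      rcases key a ha b hb this with h | h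
      · exact Or.inr (B.mul_mem h hb)
      · exact Or.inl (A.mul_mem ha h)
    have : E ≤ A ∨ E ≤ B := by
      by_contra hne
      rw [not_or, SetLike.not_le_iff_exists, SetLike.not_le_iff_exists] at hne
      obtain ⟨⟨x, hx, hxA⟩, ⟨y, hy, hyB⟩⟩ := hne
      have hxB := (hsub x hx).resolve_left hxA
      have hyA := (hsub y hy).resolve_right hyB
      rcases hsub _ (E.mul_mem hx hy) with h | h
      · exact hxA ((A.mul_mem_cancel_right hyA).mp h)
      · exact hyB ((B.mul_mem_cancel_left hxB).mp h)
    rcases this with h | h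
    · exact Or.inl (hEmax A hA h).symm
    · exact Or.inr (hEmax B hB h).symm
  · intro x hxA hxB
    obtain ⟨a, ha, b, hb, rfl⟩ := hAB x
    have haB : a ∉ B := fun h => hxB (B.mul_mem h hb)
    have hbA : b ∉ A := fun h => hxA (A.mul_mem ha h)
    set C := Subgroup.centralizer ({a * b} : Set S) with hCdef
    have hCA : C ⊓ A ≤ A ⊓ B := by
      rintro c ⟨hc, hcA⟩
      refine ⟨hcA, ?_⟩
      have hc' := Subgroup.mem_centralizer_singleton_iff.mp hc
      have : b * c = c * b := by
        apply mul_left_cancel (a := a)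
        calc a * (b * c) = a * b * c := (mul_assoc _ _ _).symm
          _ = c * (a * b) := hc'.symm
          _ = c * a * b := (mul_assoc _ _ _).symm
          _ = a * (c * b) := by rw [cA c hcA a ha, mul_assoc]
      exact (key c hcA b hb this).resolve_right hbA
    have hCB' : C ⊓ B ≤ A ⊓ B := by
      rintro c ⟨hc, hcB⟩
      refine ⟨?_, hcB⟩
      have hc' := Subgroup.mem_centralizer_singleton_iff.mp hc
      have : c * a = a * c := by
        apply mul_right_cancel (b := b)
        calc c * a * b = c * (a * b) := mul_assoc _ _ _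
          _ = a * b * c := hc'
          _ = a * c * b := by rw [mul_assoc, cB b hb c hcB, ← mul_assoc]
      exact (key a ha c hcB this).resolve_left haB
    have bound : ∀ A B : Subgroup S, (∀ s : S, ∃ a ∈ A, ∃ b ∈ B, s = a * b) → C ⊓ A ≤ A ⊓ B →
        Nat.card C ≤ Nat.card B := by
      intro A B hprod hle
      have h1 : A.index ≤ A.relIndex B := by
        apply Nat.card_le_card_of_surjective
          (Quotient.map' (fun b : B => (b : S)) (fun x y hxy => by
            rw [QuotientGroup.leftRel_apply] at hxy ⊢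
            exact hxy))
        intro q
        induction q using Quotient.inductionOn' with
        | h s =>
          obtain ⟨a, ha, b, hb, hs⟩ := hprod s⁻¹
          refine ⟨Quotient.mk'' ⟨b⁻¹, B.inv_mem hb⟩, ?_⟩
          apply Quotient.sound'
          rw [QuotientGroup.leftRel_apply, inv_inv]
          have : s = b⁻¹ * a⁻¹ := by rw [← mul_inv_rev, ← hs, inv_inv]
          rw [this, ← mul_assoc, mul_inv_cancel, one_mul]
          exact A.inv_mem ha
      have h2 : A.relIndex C ≤ A.index := Subgroup.relIndex_top_right A ▸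
        Subgroup.relIndex_le_of_le_right le_top (by simp [Subgroup.index_ne_zero_of_finite])
      have hmul : ∀ H K : Subgroup S, H ≤ K → Nat.card H * H.relIndex K = Nat.card K := fun H K h => by
        simpa [Subgroup.relIndex_bot_left] using Subgroup.relIndex_mul_relIndex ⊥ H K bot_le h
      calc Nat.card C = Nat.card (C ⊓ A : Subgroup S) * A.relIndex C := by
            rw [← Subgroup.inf_relIndex_right, inf_comm A C, hmul _ _ inf_le_left]
        _ ≤ Nat.card (A ⊓ B : Subgroup S) * A.relIndex B :=
            Nat.mul_le_mul (Nat.card_le_card_of_injective _ (Subgroup.inclusion_injective hle)) (h2.trans h1)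
        _ = Nat.card B := by
            rw [← Subgroup.inf_relIndex_right A B, hmul _ _ inf_le_right]
    apply le_min
    · apply bound B A (fun s => ?_) (by rw [inf_comm B A]; exact hCB')
      obtain ⟨a, ha, b, hb, hs⟩ := hAB s⁻¹
      exact ⟨b⁻¹, B.inv_mem hb, a⁻¹, A.inv_mem ha, by rw [← mul_inv_rev, ← hs, inv_inv]⟩
    · exact bound A B hAB hCA

end Cfsg.Agent.S3163
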