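import Cfsg.Statements.S3165

set_option autoImplicit false
open Cfsg

namespace Cfsg.Agent.S3165

/-- Let a group X act on a group Y by automorphisms and let z be an element of Y all of whose Y-conjugates are fixed by X. Then every element of the form (x·y)y⁻¹, x ∈ X, y ∈ Y (these generate the commutator [X, Y]) commutes with z. -/
theorem result {X Y : Type*} [Group X] [Group Y] [MulDistribMulAction X Y] (z : Y)
    (hz : ∀ y : Y, ∀ x : X, x • (y * z * y⁻¹) = y * z * y⁻¹) :
    ∀ x : X, ∀ y : Y, Commute ((x • y) * y⁻¹) z := by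
  intro x y
  have h1 := hz y⁻¹ x
  have h0 : x • z = z := by simpa using hz 1 x
  simp only [smul_mul', smul_inv', h0, inv_inv] at h1
  show (x • y) * y⁻¹ * z = z * ((x • y) * y⁻¹)
  generalize x • y = u at h1 ⊢
  -- h1 : u⁻¹ * z * u = y⁻¹ * z * y
  calc u * y⁻¹ * z = u * (y⁻¹ * z * y) * y⁻¹ := by simp [mul_assoc]
    _ = u * (u⁻¹ * z * u) * y⁻¹ := by rw [h1]
    _ = z * (u * y⁻¹) := by simp [mul_assoc]

end Cfsg.Agent.S3165
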