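import Mathlib
import Cfsg.Statements.S3166

set_option autoImplicit false
open Cfsg

namespace Cfsg.Agent.S3166

/-- Let q = 2^n with n ≥ 1. If q⁴ − q³ + q² − q + 1 is a power p^m of a prime p, then m = 1: the value is never a prime power with exponent greater than 1. -/
theorem result (n p m : ℕ) (hn : 1 ≤ n) (hp : p.Prime) (h : (2 ^ n) ^ 4 - (2 ^ n) ^ 3 + (2 ^ n) ^ 2 - 2 ^ n + 1 = p ^ m) : m = 1 := by
  have hq : (2:ℕ) ≤ 2 ^ n := by
    calc (2:ℕ) = 2 ^ 1 := rfl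
      _ ≤ 2 ^ n := Nat.pow_le_pow_right (by norm_num) hn
  have hqe : 2 ∣ 2 ^ n := dvd_pow_self 2 (by omega)
  obtain ⟨q, hqdef⟩ : ∃ q, q = 2 ^ n := ⟨_, rfl⟩
  rw [← hqdef] at h hq hqe
  have hZ : (q:ℤ) ^ 4 - q ^ 3 + q ^ 2 - q + 1 = (p:ℤ) ^ m := by
    have h43 : q ^ 3 ≤ q ^ 4 := Nat.pow_le_pow_right (by omega) (by norm_num)
    have h21 : q ≤ q ^ 4 - q ^ 3 + q ^ 2 := le_trans (by nlinarith) (Nat.le_add_left _ _)
    have := congrArg (fun x : ℕ => (x:ℤ)) h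
    push_cast [Nat.cast_sub h21, Nat.cast_sub h43] at this
    linarith
  have hqz : (2:ℤ) ≤ q := by exact_mod_cast hq
  rcases Nat.even_or_odd m with ⟨r, hr⟩ | hodd
  · exfalso
    subst hr
    rw [pow_add] at hZ
    generalize (p:ℤ) ^ r = w at hZ
    have h4 : (2*w)^2 = (2*(q:ℤ)^2 - q)^2 + 3*(q:ℤ)^2 - 4*q + 4 := by linear_combination (-4:ℤ) * hZ
    have hpos : 0 ≤ 2*(q:ℤ)^2 - q := by nlinarith
    have hlo : (2*(q:ℤ)^2 - q)^2 < (2*w)^2 := by nlinarith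
    have hhi : (2*w)^2 < (2*(q:ℤ)^2 - q + 1)^2 := by nlinarith
    rw [← sq_abs (2*w)] at hlo hhi
    have h1 := (pow_lt_pow_iff_left₀ hpos (abs_nonneg _) two_ne_zero).mp hlo
    have h2 := (pow_lt_pow_iff_left₀ (abs_nonneg _) (by linarith) two_ne_zero).mp hhi
    omega
  · by_contra hm1
    have hm : 3 ≤ m := by obtain ⟨r, hr⟩ := hodd; omega
    have hpodd : p % 2 = 1 := by
      by_contra hp2
      have h2 : p = 2 := hp.eq_two_or_odd.resolve_right hp2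
      subst h2
      obtain ⟨c, hc⟩ := hqe
      have hd : (2:ℤ) ∣ (2:ℤ) ^ m := dvd_pow_self 2 (by omega)
      obtain ⟨d, hd⟩ := hd
      push_cast at hZ
      rw [hd, hc] at hZ
      push_cast at hZ
      have key : (1:ℤ) = 2 * (d - 8*(c:ℤ)^4 + 4*c^3 - 2*c^2 + c) := by linear_combination hZ
      omega
    have hS : Odd (∑ i ∈ Finset.range m, p ^ i) := by
      rw [Nat.odd_iff, Finset.sum_nat_mod, Finset.sum_congr rfl (fun i _ => by rw [Nat.pow_mod, hpodd, one_pow, Nat.one_mod])]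
      simp [Nat.odd_iff.mp hodd]
    have hgeo : ((∑ i ∈ Finset.range m, p ^ i : ℕ) : ℤ) * ((p:ℤ) - 1) = (p:ℤ) ^ m - 1 := by
      push_cast; exact geom_sum_mul (p:ℤ) m
    have hdvd : (q:ℤ) ∣ (p:ℤ) - 1 := by
      have h1 : (q:ℤ) ∣ ((∑ i ∈ Finset.range m, p ^ i : ℕ) : ℤ) * ((p:ℤ) - 1) :=
        ⟨(q:ℤ)^3 - q^2 + q - 1, by rw [hgeo, ← hZ]; ring⟩
      refine (Int.isCoprime_iff_nat_coprime.mpr ?_).dvd_of_dvd_mul_left h1
      simp only [Int.natAbs_natCast, hqdef]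
      exact Nat.Coprime.pow_left _ (Nat.coprime_two_left.mpr hS)
    obtain ⟨k, hk⟩ := hdvd
    have hp2 : (2:ℤ) ≤ p := by exact_mod_cast hp.two_le
    have hk1 : 1 ≤ k := by nlinarith
    have hpm : (p:ℤ) ^ m < (q:ℤ) ^ 4 := by rw [← hZ]; nlinarith
    have hm3 : m = 3 := by
      by_contra hne
      have h4 : (p:ℤ)^4 ≤ (p:ℤ)^m := pow_le_pow_right₀ (by linarith) (by omega)
      have h5 : (q:ℤ)^4 ≤ (p:ℤ)^4 := pow_le_pow_left₀ (by linarith) (by nlinarith) 4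
      linarith
    subst hm3
    have hp' : (p:ℤ) = 1 + q * k := by linarith
    rw [hp'] at hZ
    have heq : 3*k + 3*k^2*q + k^3*q^2 = (q:ℤ)^3 - q^2 + q - 1 := by
      have hq0 : (q:ℤ) ≠ 0 := by linarith
      apply mul_left_cancel₀ hq0
      linear_combination (-1:ℤ) * hZ
    have hkq : k^3 < q := by
      by_contra hge
      push_neg at hge
      have : (q:ℤ) * q^2 ≤ k^3 * q^2 := by nlinarith
      nlinarith
    have hqd : (q:ℤ) ∣ 3*k + 1 := ⟨q^2 - q + 1 - 3*k^2 - k^3*q, by linear_combination heq⟩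
    have hle := Int.le_of_dvd (by linarith) hqd
    have hk2 : k = 1 := by
      by_contra hne
      have : 2 ≤ k := by omega
      nlinarith [sq_nonneg (k - 2)]
    subst hk2
    have hq4 : q ≤ 4 := by omega
    interval_cases q <;> norm_num at heq

end Cfsg.Agent.S3166
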