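import Cfsg.Agent.Lib.TwoGroups.M24SylowQuotient
import Cfsg.Agent.Lib.PGroups.Basic
-- import your own Cfsg.Agent.* helpers here

set_option autoImplicit false
open Cfsg

namespace Cfsg.Agent.S3171

/-- Let P be a Sylow 2-subgroup of the Mathieu group of degree 24 and S the quotient of P by its centre. Then the centre of every maximal subgroup of S has order at most 8; S has an elementary abelian subgroup of order 64; and S has only one abelian subgroup of order 64. -/
theorem result (P : Sylow 2 ↥Cfsg.M24) :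
    (∀ M : Subgroup (↥(P : Subgroup ↥Cfsg.M24) ⧸ Subgroup.center ↥(P : Subgroup ↥Cfsg.M24)), IsCoatom M →
        Nat.card ↥(Subgroup.center ↥M) ≤ 8) ∧
      (∃ A : Subgroup (↥(P : Subgroup ↥Cfsg.M24) ⧸ Subgroup.center ↥(P : Subgroup ↥Cfsg.M24)),
        Cfsg.IsElementaryAbelian 2 A ∧ Nat.card ↥A = 64) ∧
      ∀ A B : Subgroup (↥(P : Subgroup ↥Cfsg.M24) ⧸ Subgroup.center ↥(P : Subgroup ↥Cfsg.M24)),
        IsMulCommutative ↥A → Nat.card ↥A = 64 → IsMulCommutative ↥B → Nat.card ↥B = 64 → A = B := by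
  classical
  haveI : Fact (Nat.Prime 2) := ⟨Nat.prime_two⟩
  have hidx : ¬ 2 ∣ CfsgLib.LocalEven.M24Sylow.syl.index := by
    have h := Subgroup.card_mul_index CfsgLib.LocalEven.M24Sylow.syl
    rw [CfsgLib.LocalEven.M24Sylow.card_syl, CfsgLib.Sporadic.M24_card] at h
    omega
  obtain ⟨hmax, E, hEel, hE, huniq⟩ := CfsgLib.TwoGroups.M24Quotient.main
    (((CfsgLib.LocalEven.M24Sylow.isPGroup_syl.toSylow hidx).equiv P))
  have hP2 : IsPGroup 2 (↥(P : Subgroup ↥Cfsg.M24) ⧸ Subgroup.center ↥(P : Subgroup ↥Cfsg.M24)) :=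
    P.isPGroup'.to_quotient _
  refine ⟨fun M hM => hmax M (CfsgLib.PGroups.index_of_isCoatom hP2 hM), ⟨E, hEel, hE⟩,
    fun A B hA hA' hB hB' => ?_⟩
  rw [huniq A hA hA', huniq B hB hB']

end Cfsg.Agent.S3171
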