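import Cfsg.Agent.Lib.TwoGroups.CentralSeriesSixteenCenter
-- import your own Cfsg.Agent.* helpers here

set_option autoImplicit false
open Cfsg

namespace Cfsg.Agent.S3174

/-- Let T be a finite 2-group of order at least 2^14 in which the fourth term of the upper central series has order 16. Let W be the centralizer in T of the third term Z₃(T), and suppose the Frattini subgroup of W has order at most 8 and lies in every subgroup of W of index at most 16. Then T has order exactly 2^14; the derived subgroup of W and the Frattini subgroup of W both equal Z₃(T), which is elementary abelian of order 8; the centre of W has order 8; W is normal in T with quotient dihedral of order 8; and W modulo its derived subgroup is elementary abelian of order 2^8. -/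
theorem result {T : Type*} [Group T] [Finite T]
    (hT : IsPGroup 2 T) (ha : 2 ^ 14 ≤ Nat.card T) (hb : Nat.card ↥(Subgroup.upperCentralSeries T 4) = 16)
    (W : Subgroup T) (hW : W = Subgroup.centralizer ((Subgroup.upperCentralSeries T 3 : Subgroup T) : Set T))
    (hc : Nat.card ↥(frattini ↥W) ≤ 8) (hd : ∀ U : Subgroup ↥W, U.index ≤ 16 → frattini ↥W ≤ U) :
    Nat.card T = 2 ^ 14 ∧
      (commutator ↥W).map W.subtype = Subgroup.upperCentralSeries T 3 ∧
      (frattini ↥W).map W.subtype = Subgroup.upperCentralSeries T 3 ∧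
      Nat.card ↥(Subgroup.center ↥W) = 8 ∧
      Nat.card ↥(Subgroup.upperCentralSeries T 3) = 8 ∧ (∀ z ∈ Subgroup.upperCentralSeries T 3, z ^ 2 = 1) ∧
      (∃ (_ : W.Normal), Nonempty (T ⧸ W ≃* DihedralGroup 4)) ∧
      Nat.card (↥W ⧸ commutator ↥W) = 2 ^ 8 ∧ (∀ x : ↥W ⧸ commutator ↥W, x ^ 2 = 1) := by
  classical
  have S : CfsgLib.TwoGroups.CentralSixteen.Setting T W := ⟨hT, ha, hb, hW, hc, hd⟩
  obtain ⟨hPhi, hidx, hcT, hcW⟩ := S.Phi_eq
  obtain ⟨hder, hsq⟩ := S.derived
  have hZ3 : Nat.card (Subgroup.upperCentralSeries T 3) = 8 := by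
    rw [S.card_Z 3 (by norm_num)]; norm_num
  haveI hn := S.W_normal
  have hcen : (Subgroup.center W).map W.subtype = Subgroup.upperCentralSeries T 3 :=
    le_antisymm S.center_le fun z hz => ⟨⟨z, S.Z3_le hz⟩,
      Subgroup.mem_center_iff.2 fun w => Subtype.ext (S.Z3_central hz w.2).eq.symm, rfl⟩
  have hcard : ∀ U : Subgroup W, Nat.card U = Nat.card (U.map W.subtype) := fun U =>
    Nat.card_congr (U.equivMapOfInjective _ W.subtype_injective).toEquiv
  refine ⟨hcT, hder, hPhi, by rw [hcard, hcen, hZ3], hZ3, hsq, ⟨hn, ?_⟩, ?_, ?_⟩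
  · obtain ⟨f, hf, hker, -⟩ := S.exists_hom
    exact ⟨(QuotientGroup.quotientMulEquivOfEq hker.symm).trans
      (QuotientGroup.quotientKerEquivOfSurjective f hf)⟩
  · have h := Subgroup.card_eq_card_quotient_mul_card_subgroup (commutator W)
    rw [hcW, hcard (commutator W), hder, hZ3] at h
    omega
  · intro x
    obtain ⟨w, rfl⟩ := QuotientGroup.mk'_surjective (commutator W) x
    rw [← map_pow, QuotientGroup.mk'_apply, QuotientGroup.eq_one_iff,
      Subgroup.map_injective W.subtype_injective (hder.trans hPhi.symm)]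
    obtain ⟨y, hy, he⟩ := S.sq_mem_Phi w.2
    have hyw : y = w ^ 2 := Subtype.ext he
    exact hyw ▸ hy

end Cfsg.Agent.S3174
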