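import Cfsg.Prelude.Def_Transfer
import Cfsg.Agent.Lib.TwoGroups.CentralSeriesSixteen
import Cfsg.Agent.Lib.Transfer.Fusion
-- import your own Cfsg.Agent.* helpers here

set_option autoImplicit false
open Cfsg

namespace Cfsg.Agent.S3175

/-- Let G be a finite group whose Sylow 2-subgroup T has order at least 2^14 and whose upper central series has fourth term of order 16; let W be the centralizer in T of the third term, and suppose the Frattini subgroup of W has order at most 8 and lies in every subgroup of W of index at most 16. Then the normalizer of T in G has a normal 2-complement, and W is weakly closed in T with respect to G. -/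
theorem result {G : Type*} [Group G] [Finite G]
    (T : Sylow 2 G) (ha : 2 ^ 14 ≤ Nat.card ↥(T : Subgroup G))
    (hb : Nat.card ↥(Subgroup.upperCentralSeries ↥(T : Subgroup G) 4) = 16)
    (W : Subgroup ↥(T : Subgroup G))
    (hW : W = Subgroup.centralizer ((Subgroup.upperCentralSeries ↥(T : Subgroup G) 3 : Subgroup ↥(T : Subgroup G)) : Set ↥(T : Subgroup G)))
    (hc : Nat.card ↥(frattini ↥W) ≤ 8)
    (hd : ∀ U : Subgroup ↥W, U.index ≤ 16 → frattini ↥W ≤ U) :
    Cfsg.HasNormalPComplement 2 ↥(Subgroup.normalizer ((T : Subgroup G) : Set G)) ∧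
      Cfsg.IsWeaklyClosed (W.map (T : Subgroup G).subtype) (T : Subgroup G) := by
  classical
  haveI : Fact (Nat.Prime 2) := ⟨Nat.prime_two⟩
  have S : CfsgLib.TwoGroups.CentralSixteen.Setting ↥(T : Subgroup G) W :=
    ⟨T.isPGroup', ha, hb, hW, hc, hd⟩
  refine ⟨?_, Subgroup.map_subtype_le _, fun g hg => ?_⟩
  · set N := Subgroup.normalizer ((T : Subgroup G) : Set G)
    have hTN : (T : Subgroup G) ≤ N := Subgroup.le_normalizer
    refine CfsgLib.Transfer.hasNormalPComplement_of_centralizes (T.subtype hTN) fun Q hQ a _ hcop => ?_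
    refine Subgroup.mem_centralizer_iff.2 fun q hq => ?_
    have hqT : (q : G) ∈ (T : Subgroup G) := hQ hq
    let ρ : N →* MulAut (T : Subgroup G) := Subgroup.normalizerMonoidHom (T : Subgroup G)
    have hα : (ρ a) ^ orderOf a = 1 := by rw [← map_pow, pow_orderOf_eq_one, map_one]
    have hfix := S.aut_trivial (ρ a) (Nat.coprime_two_right.1 hcop) hα ⟨q, hqT⟩
    have h' : (a : G) * q * (a : G)⁻¹ = q := congrArg Subtype.val hfix
    rw [mul_inv_eq_iff_eq_mul] at h'
    exact Subtype.ext h'.symm
  · obtain ⟨hPhi, -, -, -⟩ := S.Phi_eq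
    haveI := S.W_normal
    set Z3 := Subgroup.upperCentralSeries ↥(T : Subgroup G) 3
    have hmem : ∀ w : W, g * ((w : (T : Subgroup G)) : G) * g⁻¹ ∈ (T : Subgroup G) := fun w =>
      hg ⟨((w : (T : Subgroup G)) : G), ⟨(w : (T : Subgroup G)), w.2, rfl⟩, rfl⟩
    let ψ : W →* (T : Subgroup G) :=
      ((MulAut.conj g).toMonoidHom.comp ((T : Subgroup G).subtype.comp W.subtype)).codRestrict
        (T : Subgroup G) hmem
    have hψ : Function.Injective ψ := fun a b h =>
      Subtype.ext (Subtype.ext ((MulAut.conj g).injective (congrArg Subtype.val h)))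
    have heq : ψ.range = W := by
      refine S.eq_of_similar (P' := (Z3.subgroupOf W).map ψ) ?_ ?_ ?_ ?_ ?_ ?_
      · exact (Nat.card_congr (MonoidHom.ofInjective hψ).toEquiv).symm
      · rw [← Nat.card_congr ((Z3.subgroupOf W).equivMapOfInjective ψ hψ).toEquiv,
          Nat.card_congr (Subgroup.subgroupOfEquivOfLe S.Z3_le).toEquiv, S.card_Z 3 (by norm_num)]
        norm_num
      · rintro _ ⟨w, rfl⟩
        refine Subgroup.mem_centralizer_iff.2 ?_
        rintro _ ⟨z, hz, rfl⟩
        rw [← map_mul, ← map_mul]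
        exact congrArg ψ (Subtype.ext (S.Z3_central hz w.2).eq)
      · rintro _ ⟨w, rfl⟩
        exact ⟨w ^ 2, hPhi ▸ S.sq_mem_Phi w.2, map_pow ψ w 2⟩
      · rintro _ ⟨v, rfl⟩ _ ⟨w, rfl⟩
        exact ⟨v * w * v⁻¹ * w⁻¹, hPhi ▸ S.comm_mem_Phi v.2 w.2, by simp⟩
      · intro U hU hidx
        rw [Subgroup.map_le_iff_le_comap]
        have hle : Z3 ≤ (U.comap ψ).map W.subtype := by
          refine S.not_small (Subgroup.map_subtype_le _) ?_
          rw [Subgroup.relIndex, Subgroup.subgroupOf,
            Subgroup.comap_map_eq_self_of_injective W.subtype_injective, Subgroup.index_comap]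
          exact hidx
        intro z hz
        obtain ⟨u, hu, he⟩ := hle hz
        rw [show z = u from Subtype.ext he.symm]
        exact hu
    refine Subgroup.eq_of_le_of_card_ge ?_ ?_
    · rintro _ ⟨_, ⟨w, hw, rfl⟩, rfl⟩
      exact ⟨ψ ⟨w, hw⟩, heq.le ⟨⟨w, hw⟩, rfl⟩, rfl⟩
    · exact le_of_eq (Nat.card_congr
        ((W.map (T : Subgroup G).subtype).equivMapOfInjective _ (MulAut.conj g).injective).toEquiv)

end Cfsg.Agent.S3175
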