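import Cfsg.Statements.S3178
import Mathlib
import Cfsg.Agent.Lib.Transfer.Fusion

set_option autoImplicit false
open Cfsg

namespace Cfsg.Agent.S3178

--- PRE
open scoped Pointwise

set_option maxHeartbeats 800000

variable {G : Type*} [Group G]

theorem pow_conj_fix {g x m : G} (hgx : g * x * g⁻¹ = x * m) (hgm : g * m * g⁻¹ = m) (t : ℕ) :
    g ^ t * x * (g ^ t)⁻¹ = x * m ^ t := by
  induction t with
  | zero => simp
  | succ t ih =>
    calc g ^ (t + 1) * x * (g ^ (t + 1))⁻¹ = g * (g ^ t * x * (g ^ t)⁻¹) * g⁻¹ := by rw [pow_succ']; group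
      _ = (g * x * g⁻¹) * (g * m ^ t * g⁻¹) := by rw [ih]; group
      _ = x * m ^ (t + 1) := by rw [← conj_pow, hgm, hgx, pow_succ']; group

theorem eq_of_two_part {g x m : G} (hgx : g * x * g⁻¹ = x * m) (hgm : g * m * g⁻¹ = m)
    (hg : Nat.Coprime (orderOf g) 2) {k : ℕ} (hm : m ^ 2 ^ k = 1) : m = 1 := by
  have h := pow_conj_fix hgx hgm (orderOf g)
  rw [pow_orderOf_eq_one, one_mul, inv_one, mul_one] at h
  have h1 : m ^ orderOf g = 1 := mul_eq_left.1 h.symm
  exact orderOf_eq_one_iff.1 (Nat.eq_one_of_dvd_coprimes (hg.pow_right k)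
    (orderOf_dvd_of_pow_eq_one h1) (orderOf_dvd_of_pow_eq_one hm))

/-- arithmetic of the modular group -/
structure Modular (G : Type*) [Group G] where
  n : ℕ
  hn : 3 ≤ n
  a : G
  b : G
  hao : orderOf a = 2 ^ n
  hb2 : b * b = 1
  hrel : b * a * b⁻¹ = a ^ (2 ^ (n - 1) + 1)

namespace Modular

variable (M : Modular G)

abbrev r : ℕ := 2 ^ (M.n - 1) + 1

theorem binv : M.b⁻¹ = M.b := inv_eq_of_mul_eq_one_right M.hb2

theorem b_mul (j : ℕ) : M.b * M.a ^ j = M.a ^ (j * M.r) * M.b := by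
  have h : M.b * M.a ^ j * M.b⁻¹ = M.a ^ (j * M.r) := by
    rw [← conj_pow, M.hrel, ← pow_mul, mul_comm j]
  rw [← h]; group

theorem a_sq (i : ℕ) : (M.a ^ i * M.b) * (M.a ^ i * M.b) = M.a ^ (i + i * M.r) := by
  calc (M.a ^ i * M.b) * (M.a ^ i * M.b) = M.a ^ i * (M.b * M.a ^ i) * M.b := by group
    _ = M.a ^ i * M.a ^ (i * M.r) * (M.b * M.b) := by rw [M.b_mul]; group
    _ = _ := by rw [M.hb2, mul_one, ← pow_add]

theorem a_two_n : M.a ^ 2 ^ M.n = 1 := by rw [← M.hao, pow_orderOf_eq_one]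

theorem odd_iff (j c : ℕ) : M.a ^ (j * (2 * c + 1)) = 1 ↔ M.a ^ j = 1 := by
  simp only [← orderOf_dvd_iff_pow_eq_one, M.hao]
  exact ⟨fun h => ((Nat.prime_two.coprime_iff_not_dvd).2 (by omega)).pow_left M.n |>.dvd_of_dvd_mul_right h,
    fun h => Dvd.dvd.mul_right h _⟩

/-- `P k x`: `x` is `a^i` or `a^i b` with `a^(i 2^k) = 1`. -/
def P (k : ℕ) (x : G) : Prop := ∃ i : ℕ, M.a ^ (i * 2 ^ k) = 1 ∧ (x = M.a ^ i ∨ x = M.a ^ i * M.b)

theorem r_pow (i k : ℕ) (hk : 1 ≤ k) : M.a ^ (i * M.r * 2 ^ k) = M.a ^ (i * 2 ^ k) := by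
  obtain ⟨k, rfl⟩ := Nat.exists_eq_add_of_le' hk
  have hn := M.hn
  obtain ⟨m, hm⟩ : ∃ m, M.n = m + 1 := ⟨M.n - 1, by omega⟩
  have h := M.a_two_n
  rw [hm] at h
  rw [r, hm, show m + 1 - 1 = m by omega,
    show i * (2 ^ m + 1) * 2 ^ (k + 1) = 2 ^ (m + 1) * (i * 2 ^ k) + i * 2 ^ (k + 1) by ring,
    pow_add, pow_mul, h, one_pow, one_mul]

theorem mul_mem {k : ℕ} (hk : 1 ≤ k) {x y : G} (hx : M.P k x) (hy : M.P k y) : M.P k (x * y) := by
  obtain ⟨i, hi, hx⟩ := hx
  obtain ⟨j, hj, hy⟩ := hy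
  rcases hx with rfl | rfl <;> rcases hy with rfl | rfl
  · exact ⟨i + j, by rw [add_mul, pow_add, hi, hj, one_mul], Or.inl (pow_add _ _ _).symm⟩
  · exact ⟨i + j, by rw [add_mul, pow_add, hi, hj, one_mul], Or.inr (by rw [pow_add, mul_assoc])⟩
  · exact ⟨i + j * M.r, by rw [add_mul, pow_add, hi, M.r_pow _ _ hk, hj, one_mul],
      Or.inr (by rw [mul_assoc, M.b_mul, ← mul_assoc, ← pow_add])⟩
  · exact ⟨i + j * M.r, by rw [add_mul, pow_add, hi, M.r_pow _ _ hk, hj, one_mul],
      Or.inl (by rw [mul_assoc, ← mul_assoc M.b, M.b_mul, mul_assoc, M.hb2, mul_one, ← pow_add])⟩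

theorem pow_iff {k : ℕ} (hk : 1 ≤ k) (i : ℕ) :
    (M.a ^ i * M.b) ^ 2 ^ k = 1 ↔ M.a ^ (i * 2 ^ k) = 1 := by
  obtain ⟨k, rfl⟩ := Nat.exists_eq_add_of_le' hk
  have hn := M.hn
  obtain ⟨m, hm⟩ : ∃ m, M.n = m + 2 := ⟨M.n - 2, by omega⟩
  obtain ⟨c, hc⟩ : ∃ c, 2 ^ m = 2 * c := by
    obtain ⟨l, hl⟩ : ∃ l, m = l + 1 := ⟨m - 1, by omega⟩
    exact ⟨2 ^ l, by rw [hl, pow_succ']⟩
  rw [pow_succ' 2 k, pow_mul, pow_two, M.a_sq, ← pow_mul]
  have : (i + i * M.r) * 2 ^ k = (i * (2 * 2 ^ k)) * (2 * c + 1) := by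
    rw [r, hm, show m + 2 - 1 = m + 1 by omega, pow_succ, hc]; ring
  rw [this, M.odd_iff]

variable {S : Subgroup G} (hform : ∀ x ∈ S, ∃ i : ℕ, x = M.a ^ i ∨ x = M.a ^ i * M.b)

theorem P_iff (hform : ∀ x ∈ S, ∃ i : ℕ, x = M.a ^ i ∨ x = M.a ^ i * M.b) {k : ℕ} (hk : 1 ≤ k)
    {x : G} (hx : x ∈ S) : M.P k x ↔ x ^ 2 ^ k = 1 := by
  constructor
  · rintro ⟨i, hi, rfl | rfl⟩
    · rw [← pow_mul, hi]
    · exact (M.pow_iff hk i).2 hi
  · intro h
    obtain ⟨i, rfl | rfl⟩ := hform x hx
    · exact ⟨i, by rw [pow_mul]; exact h, Or.inl rfl⟩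
    · exact ⟨i, (M.pow_iff hk i).1 h, Or.inr rfl⟩

theorem step (hform : ∀ x ∈ S, ∃ i : ℕ, x = M.a ^ i ∨ x = M.a ^ i * M.b) {k : ℕ} (hk : 1 ≤ k) {x y : G}
    (hx : x ∈ S) (hy : y ∈ S) (hx1 : x ^ 2 ^ (k + 1) = 1) (hy1 : y ^ 2 ^ (k + 1) = 1)
    (hx0 : x ^ 2 ^ k ≠ 1) (hy0 : y ^ 2 ^ k ≠ 1) : (x * y) ^ 2 ^ k = 1 := by
  obtain ⟨i, hi, hxi⟩ := (M.P_iff hform (Nat.le_succ_of_le hk) hx).2 hx1
  obtain ⟨j, hj, hyj⟩ := (M.P_iff hform (Nat.le_succ_of_le hk) hy).2 hy1
  have hi0 : M.a ^ (i * 2 ^ k) ≠ 1 := fun h => hx0 ((M.P_iff hform hk hx).1 ⟨i, h, hxi⟩)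
  have hj0 : M.a ^ (j * 2 ^ k) ≠ 1 := fun h => hy0 ((M.P_iff hform hk hy).1 ⟨j, h, hyj⟩)
  have hodd : ∀ i : ℕ, M.a ^ (i * 2 ^ (k + 1)) = 1 → M.a ^ (i * 2 ^ k) ≠ 1 →
      M.a ^ (i * 2 ^ k) = M.a ^ (2 ^ (M.n - 1)) := by
    intro i h1 h0
    rw [← orderOf_dvd_iff_pow_eq_one, M.hao] at h1
    rw [Ne, ← orderOf_dvd_iff_pow_eq_one, M.hao] at h0
    have hn := M.hn
    have e : 2 ^ M.n = 2 ^ (M.n - 1) * 2 := by rw [← pow_succ]; congr 1; omega
    rw [pow_succ, ← mul_assoc, e] at h1
    obtain ⟨c, hc⟩ := Nat.dvd_of_mul_dvd_mul_right (by norm_num) h1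
    have hcodd : c % 2 = 1 := by
      by_contra h
      exact h0 (by rw [e, hc]; exact mul_dvd_mul_left _ (by omega))
    obtain ⟨d, rfl⟩ : ∃ d, c = 2 * d + 1 := ⟨c / 2, by omega⟩
    rw [hc, show 2 ^ (M.n - 1) * (2 * d + 1) = 2 ^ (M.n - 1) * 2 * d + 2 ^ (M.n - 1) by ring, ← e,
      pow_add, pow_mul, M.a_two_n, one_pow, one_mul]
  have hzz : M.a ^ (i * 2 ^ k) * M.a ^ (j * 2 ^ k) = 1 := by
    rw [hodd i hi hi0, hodd j hj hj0, ← pow_add, ← two_mul, ← pow_succ']
    rw [show M.n - 1 + 1 = M.n by have := M.hn; omega, M.a_two_n]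
  refine (M.P_iff hform hk (S.mul_mem hx hy)).1 ?_
  rcases hxi with rfl | rfl <;> rcases hyj with rfl | rfl
  · exact ⟨i + j, by rw [add_mul, pow_add, hzz], Or.inl (pow_add _ _ _).symm⟩
  · exact ⟨i + j, by rw [add_mul, pow_add, hzz], Or.inr (by rw [pow_add, mul_assoc])⟩
  · exact ⟨i + j * M.r, by rw [add_mul, pow_add, M.r_pow _ _ hk, hzz],
      Or.inr (by rw [mul_assoc, M.b_mul, ← mul_assoc, ← pow_add])⟩
  · exact ⟨i + j * M.r, by rw [add_mul, pow_add, M.r_pow _ _ hk, hzz],
      Or.inl (by rw [mul_assoc, ← mul_assoc M.b, M.b_mul, mul_assoc, M.hb2, mul_one, ← pow_add])⟩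

end Modular

/-- Groups with a modular Sylow 2-subgroup have a normal 2-complement. Let S, of order 2^(n+1) with n ≥ 3, be a Sylow 2-subgroup of a finite group G, and suppose S contains an element a of order 2^n and an involution b with b a b⁻¹ = a^(2^(n-1) + 1); so S is the non-abelian 2-group with a cyclic subgroup of index 2 that is neither dihedral, semidihedral nor generalized quaternion. Then G has a normal 2-complement. -/
theorem result {G : Type*} [Group G] [Finite G]
    (S : Sylow 2 G) (n : ℕ) (hn : 3 ≤ n) (hS : Nat.card ↥(S : Subgroup G) = 2 ^ (n + 1))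
    (a b : G) (ha : a ∈ (S : Subgroup G)) (hb : b ∈ (S : Subgroup G))
    (hao : orderOf a = 2 ^ n) (hbo : orderOf b = 2) (hrel : b * a * b⁻¹ = a ^ (2 ^ (n - 1) + 1)) :
    Cfsg.HasNormalPComplement 2 G := by
  classical
  haveI : Fact (Nat.Prime 2) := ⟨Nat.prime_two⟩
  have hb2 : b * b = 1 := by rw [← pow_two, ← hbo, pow_orderOf_eq_one]
  let M : Modular G := ⟨n, hn, a, b, hao, hb2, hrel⟩
  have ha2 : ∀ j, a ^ (2 ^ n * j) = 1 := fun j => by rw [pow_mul, ← hao, pow_orderOf_eq_one, one_pow]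
  set z : G := a ^ 2 ^ (n - 1) with hz
  have hzo : orderOf z = 2 := by
    rw [hz, orderOf_pow' _ (by positivity), hao, Nat.gcd_eq_right (Nat.pow_dvd_pow 2 (by omega)),
      Nat.pow_div (by omega) two_pos, show n - (n - 1) = 1 by omega, pow_one]
  have hrodd : ∀ i : ℕ, a ^ (i * (2 ^ (n - 1) + 1)) = z ^ i * a ^ i := fun i => by
    rw [mul_add, mul_one, pow_add, hz, ← pow_mul, mul_comm i]
  -- normal form
  have hbna : b ∉ Subgroup.zpowers a := by
    intro h
    obtain ⟨i, hi⟩ := Subgroup.mem_zpowers_iff.1 h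
    have hc : Commute b a := by rw [← hi]; exact (Commute.refl a).zpow_left i
    rw [hc.eq, mul_inv_cancel_right, pow_add, pow_one, eq_comm, mul_eq_right] at hrel
    rw [hz, hrel, orderOf_one] at hzo
    omega
  have hform : ∀ x ∈ (S : Subgroup G), ∃ i : ℕ, x = a ^ i ∨ x = a ^ i * b := by
    have hle : Subgroup.zpowers a ≤ (S : Subgroup G) := Subgroup.zpowers_le.2 ha
    have hidx : ((Subgroup.zpowers a).subgroupOf (S : Subgroup G)).index = 2 := by
      have h := ((Subgroup.zpowers a).subgroupOf (S : Subgroup G)).card_mul_index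
      rw [Nat.card_congr (Subgroup.subgroupOfEquivOfLe hle).toEquiv, Nat.card_zpowers, hao, hS, pow_succ] at h
      exact Nat.eq_of_mul_eq_mul_left (by positivity) h
    intro x hx
    have hfo : IsOfFinOrder a := isOfFinOrder_of_finite a
    by_cases hxa : x ∈ Subgroup.zpowers a
    · obtain ⟨i, hi⟩ := (Submonoid.mem_powers_iff _ _).1 (hfo.mem_powers_iff_mem_zpowers.2 hxa)
      exact ⟨i, Or.inl hi.symm⟩
    · have h2 := (Subgroup.mul_mem_iff_of_index_two hidx (a := ⟨x, hx⟩) (b := ⟨b, hb⟩)).2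
        (by simp only [Subgroup.mem_subgroupOf]; exact iff_of_false hxa hbna)
      rw [Subgroup.mem_subgroupOf] at h2
      obtain ⟨i, hi⟩ := (Submonoid.mem_powers_iff _ _).1 (hfo.mem_powers_iff_mem_zpowers.2 h2)
      refine ⟨i, Or.inr ?_⟩
      rw [hi]
      show x = x * b * b
      rw [mul_assoc, hb2, mul_one]
  have hformM : ∀ x ∈ (S : Subgroup G), ∃ i : ℕ, x = M.a ^ i ∨ x = M.a ^ i * M.b := hform
  have hzS : z ∈ (S : Subgroup G) := pow_mem ha _
  have hz2 : z * z = 1 := by rw [← pow_two, ← hzo, pow_orderOf_eq_one]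
  -- the involutions
  have hinv : ∀ x ∈ (S : Subgroup G), x ^ 2 = 1 → x = 1 ∨ x = z ∨ x = b ∨ x = z * b := by
    intro x hx h2
    obtain ⟨i, hi, hxi⟩ := (M.P_iff hformM le_rfl hx).2 (by simpa using h2)
    change a ^ (i * 2 ^ 1) = 1 at hi
    rw [pow_one, ← orderOf_dvd_iff_pow_eq_one, hao, show 2 ^ n = 2 ^ (n - 1) * 2 by
      rw [← pow_succ]; congr 1; omega] at hi
    obtain ⟨c, rfl⟩ := Nat.dvd_of_mul_dvd_mul_right two_pos hi
    change x = a ^ _ ∨ x = a ^ _ * b at hxi
    rw [pow_mul, ← hz] at hxi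
    rcases Nat.even_or_odd c with ⟨d, rfl⟩ | ⟨d, rfl⟩
    · rw [← two_mul, pow_mul, pow_two, hz2, one_pow, one_mul] at hxi
      tauto
    · rw [pow_succ, pow_mul, pow_two, hz2, one_pow, one_mul] at hxi
      tauto
  have hzb : Commute z b := by
    have h := M.b_mul (2 ^ (n - 1))
    change b * a ^ _ = a ^ _ * b at h
    rw [hrodd, ← hz] at h
    have : z ^ 2 ^ (n - 1) = 1 := orderOf_dvd_iff_pow_eq_one.1 (by rw [hzo]; exact dvd_pow_self 2 (by omega))
    rw [this, one_mul] at h
    exact h.symm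
  -- squares in the centraliser of `b` and `z` in `S`
  have hcent : ∀ x ∈ (S : Subgroup G), Commute x b → x ^ 2 ^ (n - 1) = 1 := by
    intro x hx hxb
    obtain ⟨i, hi⟩ := hform x hx
    have hai : Commute (a ^ i) b := by
      rcases hi with rfl | rfl
      · exact hxb
      · exact mul_right_cancel (b := b) (show a ^ i * b * b = b * a ^ i * b by rw [hxb.eq]; group)
    have h := M.b_mul i
    change b * a ^ i = a ^ _ * b at h
    rw [← hai.eq, hrodd] at h
    have h1 : z ^ i = 1 := mul_eq_right.1 (mul_right_cancel h).symm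
    rw [← orderOf_dvd_iff_pow_eq_one, hzo] at h1
    refine (M.P_iff hformM (by omega) hx).1 ⟨i, ?_, hi⟩
    obtain ⟨c, rfl⟩ := h1
    show a ^ (2 * c * 2 ^ (n - 1)) = 1
    rw [show 2 * c * 2 ^ (n - 1) = 2 ^ (n - 1 + 1) * c by rw [pow_succ]; ring,
      show n - 1 + 1 = n by omega, ha2]
  have hsq : ∀ w ∈ (S : Subgroup G), Commute w b → (w * w) ^ 2 = 1 → w * w = 1 ∨ w * w = z := by
    intro w hw hwb h
    obtain ⟨i, hi⟩ := hform w hw
    have h2 : w * w = a ^ (2 * i) := by
      rcases hi with rfl | rfl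
      · rw [← pow_add, two_mul]
      · have hai : Commute (a ^ i) b := mul_right_cancel (b := b) (show a ^ i * b * b = b * a ^ i * b by rw [hwb.eq]; group)
        calc a ^ i * b * (a ^ i * b) = a ^ i * (b * a ^ i) * b := by group
          _ = a ^ i * a ^ i * (b * b) := by rw [← hai.eq]; group
          _ = a ^ (2 * i) := by rw [hb2, mul_one, ← pow_add, two_mul]
    rw [h2] at h ⊢
    rw [← pow_mul, ← orderOf_dvd_iff_pow_eq_one, hao, show 2 ^ n = 2 ^ (n - 1) * 2 by
      rw [← pow_succ]; congr 1; omega] at h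
    obtain ⟨c, hc⟩ := Nat.dvd_of_mul_dvd_mul_right two_pos h
    rw [hc, pow_mul, ← hz]
    rcases Nat.even_or_odd c with ⟨d, rfl⟩ | ⟨d, rfl⟩
    · left; rw [← two_mul, pow_mul, pow_two, hz2, one_pow]
    · right; rw [pow_succ, pow_mul, pow_two, hz2, one_pow, one_mul]
  refine CfsgLib.Transfer.hasNormalPComplement_of_centralizes S fun Q hQS g hgN hgc => ?_
  have hgQ : ∀ x, x ∈ Q → g * x * g⁻¹ ∈ Q := fun x hx => (Subgroup.mem_normalizer_iff.1 hgN x).1 hx
  have hmul : ∀ x y : G, g * (x * y) * g⁻¹ = (g * x * g⁻¹) * (g * y * g⁻¹) := fun x y => by group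
  -- the Klein subgroup
  have hbase : ∀ x ∈ Q, x ^ 2 = 1 → g * x * g⁻¹ = x := by
    by_cases hV : z ∈ Q ∧ b ∈ Q
    · obtain ⟨hzQ, hbQ⟩ := hV
      have hgV : ∀ v ∈ ({z, b} : Set G), g * v * g⁻¹ ∈ (S : Subgroup G) ∧ (g * v * g⁻¹) ^ 2 = 1 := by
        rintro v (rfl | rfl)
        · exact ⟨hQS (hgQ _ hzQ), by rw [conj_pow, pow_two, hz2, mul_one, mul_inv_cancel]⟩
        · exact ⟨hQS (hgQ _ hbQ), by rw [conj_pow, pow_two, hb2, mul_one, mul_inv_cancel]⟩
      set C : Subgroup G := Subgroup.centralizer {z, b} with hC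
      have hCmem : ∀ c, c ∈ C ↔ z * c = c * z ∧ b * c = c * b := fun c => by
        simp [hC, Subgroup.mem_centralizer_iff]
      have hCv : ∀ c ∈ C, ∀ v ∈ (S : Subgroup G), v ^ 2 = 1 → Commute c v := by
        intro c hc v hv hv2
        obtain ⟨h1, h2⟩ := (hCmem c).1 hc
        rcases hinv v hv hv2 with rfl | rfl | rfl | rfl
        · exact Commute.one_right c
        · exact h1.symm
        · exact h2.symm
        · exact Commute.mul_right (show Commute c z from h1.symm) (show Commute c b from h2.symm)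
      have hgC : ∀ c ∈ C, g * c * g⁻¹ ∈ C := by
        intro c hc
        have key : ∀ v ∈ (S : Subgroup G), v ^ 2 = 1 → v ∈ Q → Commute (g * c * g⁻¹) (g * v * g⁻¹) :=
          fun v hv hv2 _ => by
            have := hCv c hc v hv hv2
            show g * c * g⁻¹ * (g * v * g⁻¹) = g * v * g⁻¹ * (g * c * g⁻¹)
            rw [← hmul, ← hmul, this.eq]
        -- conjugation by `g` permutes the involutions of `Q`
        have surj : ∀ w, w ∈ Q → w ^ 2 = 1 → ∃ v ∈ Q, v ^ 2 = 1 ∧ g * v * g⁻¹ = w := by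
          intro w hw hw2
          refine ⟨g⁻¹ * w * g, ?_, ?_, by group⟩
          · exact (Subgroup.mem_normalizer_iff.1 hgN _).2 (by rw [show g * (g⁻¹ * w * g) * g⁻¹ = w by group]; exact hw)
          · have := conj_pow (a := g⁻¹) (b := w) (i := 2)
            rw [inv_inv, hw2] at this
            rw [this]; group
        rw [hCmem]
        constructor
        · obtain ⟨v, hv, hv2, hvw⟩ := surj z hzQ (by rw [pow_two, hz2])
          rw [← hvw]; exact (key v (hQS hv) hv2 hv).eq.symm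
        · obtain ⟨v, hv, hv2, hvw⟩ := surj b hbQ (by rw [pow_two, hb2])
          rw [← hvw]; exact (key v (hQS hv) hv2 hv).eq.symm
      obtain ⟨T⟩ := (inferInstance : Nonempty (Sylow 2 C))
      obtain ⟨S', hS'⟩ := IsPGroup.exists_le_sylow ((T.isPGroup').map C.subtype)
      obtain ⟨h, hh⟩ := MulAction.exists_smul_eq G S S'
      have hmemS' : ∀ x, x ∈ (S' : Subgroup G) ↔ h⁻¹ * x * h ∈ (S : Subgroup G) := by
        intro x
        rw [← hh, Sylow.coe_subgroup_smul, Subgroup.mem_pointwise_smul_iff_inv_smul_mem, MulAut.smul_def,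
          ← map_inv, MulAut.conj_apply, inv_inv]
      -- central involutions lie in `T`
      have hzbC : z ∈ C ∧ b ∈ C := by
        rw [hCmem, hCmem]
        exact ⟨⟨rfl, hzb.symm.eq⟩, hzb.eq, rfl⟩
      have hTmem : ∀ v : C, v.1 = z ∨ v.1 = b → v ∈ (T : Subgroup C) := by
        intro v hv
        have hvc : v ∈ Subgroup.center C := Subgroup.mem_center_iff.2 fun c => Subtype.ext (by
          rcases hv with e | e
          · show c.1 * v.1 = v.1 * c.1; rw [e]; exact ((hCmem c).1 c.2).1.symm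
          · show c.1 * v.1 = v.1 * c.1; rw [e]; exact ((hCmem c).1 c.2).2.symm)
        haveI : (Subgroup.zpowers v).Normal := ⟨fun x hx c => by
          have : x ∈ Subgroup.center C := Subgroup.zpowers_le.2 hvc hx
          rw [Subgroup.mem_center_iff.1 this c, mul_inv_cancel_right]; exact hx⟩
        have hp : IsPGroup 2 (Subgroup.zpowers v) := by
          have h2 : v ^ 2 = 1 := Subtype.ext (by
            rcases hv with e | e
            · show v.1 ^ 2 = 1; rw [e, pow_two, hz2]
            · show v.1 ^ 2 = 1; rw [e, pow_two, hb2])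
          obtain ⟨k, -, hk⟩ := (Nat.dvd_prime_pow Nat.prime_two).1
            (show orderOf v ∣ 2 ^ 1 by rw [pow_one]; exact orderOf_dvd_of_pow_eq_one h2)
          exact IsPGroup.of_card (n := k) (by rw [Nat.card_zpowers, hk])
        have hsup : IsPGroup 2 ((T : Subgroup C) ⊔ Subgroup.zpowers v : Subgroup C) :=
          T.isPGroup'.to_sup_of_normal_right hp
        exact le_of_le_of_eq le_sup_right (T.is_maximal' hsup le_sup_left) (Subgroup.mem_zpowers v)
      have hzS' : h⁻¹ * z * h ∈ (S : Subgroup G) ∧ h⁻¹ * b * h ∈ (S : Subgroup G) :=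
        ⟨(hmemS' z).1 (hS' ⟨⟨z, hzbC.1⟩, hTmem _ (Or.inl rfl), rfl⟩),
          (hmemS' b).1 (hS' ⟨⟨b, hzbC.2⟩, hTmem _ (Or.inr rfl), rfl⟩)⟩
      have hconj2 : ∀ v : G, v * v = 1 → (h⁻¹ * v * h) ^ 2 = 1 := fun v hv => by
        rw [pow_two, show h⁻¹ * v * h * (h⁻¹ * v * h) = h⁻¹ * (v * v) * h by group, hv]; group
      -- `z' = h z h⁻¹` is one of the three involutions of `V`
      have hb1 : b ≠ 1 := fun e => hbna (e ▸ Subgroup.one_mem _)
      have hz1 : z ≠ 1 := fun e => by rw [e, orderOf_one] at hzo; omega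
      have hzb1 : z * b ≠ 1 := fun e => hbna (by
        rw [eq_inv_of_mul_eq_one_right e]; exact Subgroup.inv_mem _ (pow_mem (Subgroup.mem_zpowers a) _))
      set z' : G := h * z * h⁻¹ with hz'
      set V : Subgroup G := Subgroup.closure {z, b} with hV
      have hVle : V ≤ C := (Subgroup.closure_le _).2 (by rintro v (rfl | rfl); exacts [hzbC.1, hzbC.2])
      have hVsub : ∀ v ∈ V, v = 1 ∨ v = z ∨ v = b ∨ v = z * b := by
        intro v hv
        have : v ∈ (S : Subgroup G) ∧ v ^ 2 = 1 := by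
          induction hv using Subgroup.closure_induction with
          | mem x hx => rcases hx with rfl | rfl <;> [exact ⟨hzS, by rw [pow_two, hz2]⟩; exact ⟨hb, by rw [pow_two, hb2]⟩]
          | one => exact ⟨Subgroup.one_mem _, one_pow 2⟩
          | mul x y hxV hyV hx hy =>
            refine ⟨Subgroup.mul_mem _ hx.1 hy.1, ?_⟩
            have := (M.P_iff hformM le_rfl (Subgroup.mul_mem _ hx.1 hy.1)).1
              (M.mul_mem le_rfl ((M.P_iff hformM le_rfl hx.1).2 (by simpa using hx.2))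
                ((M.P_iff hformM le_rfl hy.1).2 (by simpa using hy.2)))
            simpa using this
          | inv x hxV hx => exact ⟨Subgroup.inv_mem _ hx.1, by rw [inv_pow, hx.2, inv_one]⟩
        exact hinv v this.1 this.2
      -- preimage of `V` under conjugation is again the set of involutions of `S`
      have hVS : ∀ v ∈ V, h⁻¹ * v * h ∈ V := by
        intro v hv
        induction hv using Subgroup.closure_induction with
        | mem x hx =>
          have : h⁻¹ * x * h ∈ (S : Subgroup G) ∧ (h⁻¹ * x * h) ^ 2 = 1 := by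
            rcases hx with rfl | rfl
            · exact ⟨hzS'.1, hconj2 _ hz2⟩
            · exact ⟨hzS'.2, hconj2 _ hb2⟩
          rcases hinv _ this.1 this.2 with e | e | e | e <;> rw [e]
          · exact Subgroup.one_mem _
          · exact Subgroup.subset_closure (Or.inl rfl)
          · exact Subgroup.subset_closure (Or.inr rfl)
          · exact Subgroup.mul_mem _ (Subgroup.subset_closure (Or.inl rfl)) (Subgroup.subset_closure (Or.inr rfl))
        | one => simp
        | mul x y _ _ hx hy =>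
          rw [show h⁻¹ * (x * y) * h = (h⁻¹ * x * h) * (h⁻¹ * y * h) by group]; exact Subgroup.mul_mem _ hx hy
        | inv x _ hx =>
          rw [show h⁻¹ * x⁻¹ * h = (h⁻¹ * x * h)⁻¹ by group]; exact Subgroup.inv_mem _ hx
      have hbij : ∀ w ∈ V, ∃ v ∈ V, h⁻¹ * v * h = w := by
        intro w hw
        haveI := Fintype.ofFinite V
        have hf : Function.Injective (fun v : V => (⟨h⁻¹ * v.1 * h, hVS _ v.2⟩ : V)) := by
          intro u v huv
          have := congrArg Subtype.val huv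
          simp only at this
          exact Subtype.ext (mul_left_cancel (mul_right_cancel this))
        obtain ⟨v, hv⟩ := (hf.bijective_of_finite).2 ⟨w, hw⟩
        exact ⟨v, v.2, congrArg Subtype.val hv⟩
      have hz'V : z' ∈ V := by
        obtain ⟨v, hv, hvw⟩ := hbij z (Subgroup.subset_closure (Or.inl rfl))
        rw [hz', ← hvw]; convert hv using 1; group
      have hz'1 : z' ≠ 1 := fun e => hz1 (conj_eq_one_iff.1 e)
      -- conjugated group `h C_S(V) h⁻¹` is inside `C`
      have hAC : ∀ w ∈ (S : Subgroup G), Commute w b → h * w * h⁻¹ ∈ C := by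
        intro w hw hwb
        have hwz : Commute w z := by
          obtain ⟨i, hi⟩ := hform w hw
          rcases hi with rfl | rfl
          · exact ((Commute.refl a).pow_pow i _)
          · exact ((Commute.refl a).pow_pow i _).mul_left hzb.symm
        have hwV : ∀ v ∈ V, Commute w v := fun v hv => by
          rcases hVsub v hv with rfl | rfl | rfl | rfl
          exacts [Commute.one_right w, hwz, hwb, hwz.mul_right hwb]
        rw [hCmem]
        constructor
        · have := (hwV _ (hVS z (Subgroup.subset_closure (Or.inl rfl)))).eq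
          calc z * (h * w * h⁻¹) = h * (h⁻¹ * z * h * w) * h⁻¹ := by group
            _ = h * (w * (h⁻¹ * z * h)) * h⁻¹ := by rw [this]
            _ = _ := by group
        · have := (hwV _ (hVS b (Subgroup.subset_closure (Or.inr rfl)))).eq
          calc b * (h * w * h⁻¹) = h * (h⁻¹ * b * h * w) * h⁻¹ := by group
            _ = h * (w * (h⁻¹ * b * h)) * h⁻¹ := by rw [this]
            _ = _ := by group
      -- every element of `T` comes from `C_S(b)`
      have hTS : ∀ t : C, t ∈ (T : Subgroup C) → h⁻¹ * t.1 * h ∈ (S : Subgroup G) ∧ Commute (h⁻¹ * t.1 * h) b := by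
        intro t ht
        refine ⟨(hmemS' _).1 (hS' ⟨t, ht, rfl⟩), ?_⟩
        obtain ⟨v, hv, hvb⟩ := hbij b (Subgroup.subset_closure (Or.inr rfl))
        have hc : t.1 * v = v * t.1 := by
          rcases hVsub v hv with rfl | rfl | rfl | rfl
          · simp
          · exact ((hCmem _).1 t.2).1.symm
          · exact ((hCmem _).1 t.2).2.symm
          · exact (Commute.mul_right (show Commute t.1 z from ((hCmem _).1 t.2).1.symm) ((hCmem _).1 t.2).2.symm).eq
        rw [← hvb]
        calc h⁻¹ * t.1 * h * (h⁻¹ * v * h) = h⁻¹ * (t.1 * v) * h := by group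
          _ = h⁻¹ * (v * t.1) * h := by rw [hc]
          _ = _ := by group
      have hTfull : ∀ w ∈ (S : Subgroup G), Commute w b → ∃ t : C, t ∈ (T : Subgroup C) ∧ t.1 = h * w * h⁻¹ := by
        intro w hw hwb
        set U : Subgroup C := ((S : Subgroup G).map (MulAut.conj h).toMonoidHom).subgroupOf C with hU
        have hUp : IsPGroup 2 U := (S.isPGroup'.map _).comap_of_injective C.subtype C.subtype_injective
        have hTU : (T : Subgroup C) ≤ U := fun t ht =>
          ⟨_, (hTS t ht).1, by simp [MulAut.conj_apply, mul_assoc]⟩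
        have hUT : U = (T : Subgroup C) := T.is_maximal' hUp hTU
        exact ⟨⟨_, hAC w hw hwb⟩, hUT ▸ ⟨w, hw, rfl⟩, rfl⟩
      -- the unique nontrivial element of `V` which is a square in `T`
      have hsquare : ∀ t : C, t ∈ (T : Subgroup C) → t.1 * t.1 ∈ V → t.1 * t.1 ≠ 1 → t.1 * t.1 = z' := by
        intro t ht hv hne
        obtain ⟨h1, h2⟩ := hTS t ht
        have e : (h⁻¹ * t.1 * h) * (h⁻¹ * t.1 * h) = h⁻¹ * (t.1 * t.1) * h := by group
        have h4 : ((h⁻¹ * t.1 * h) * (h⁻¹ * t.1 * h)) ^ 2 = 1 := by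
          rw [e]
          rcases hVsub _ (hVS _ hv) with e | e | e | e <;> rw [e]
          · exact one_pow 2
          · rw [pow_two, hz2]
          · rw [pow_two, hb2]
          · rw [pow_two, show z * b * (z * b) = z * (b * z) * b by group, ← hzb.eq,
              show z * (z * b) * b = (z * z) * (b * b) by group, hz2, hb2, one_mul]
        rcases hsq _ h1 h2 h4 with e' | e' <;> rw [e] at e'
        · refine absurd ?_ hne
          calc t.1 * t.1 = h * (h⁻¹ * (t.1 * t.1) * h) * h⁻¹ := by group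
            _ = 1 := by rw [e']; group
        · rw [hz', ← e']; group
      obtain ⟨t₀, ht₀, ht₀'⟩ : ∃ t : C, t ∈ (T : Subgroup C) ∧ t.1 * t.1 = z' := by
        have hc : Commute (a ^ 2 ^ (n - 2)) b := by
          have h1 := M.b_mul (2 ^ (n - 2))
          change b * a ^ _ = a ^ _ * b at h1
          rw [hrodd] at h1
          have : z ^ 2 ^ (n - 2) = 1 := orderOf_dvd_iff_pow_eq_one.1 (by rw [hzo]; exact dvd_pow_self 2 (by omega))
          rw [this, one_mul] at h1
          exact h1.symm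
        obtain ⟨t, ht, ht'⟩ := hTfull _ (pow_mem ha _) hc
        refine ⟨t, ht, ?_⟩
        rw [ht', hz', hz, show 2 ^ (n - 1) = 2 ^ (n - 2) + 2 ^ (n - 2) by
          rw [show n - 1 = n - 2 + 1 by omega, pow_succ]; ring, pow_add]
        group
      -- Frattini
      let φ : C →* C :=
        { toFun := fun c => ⟨g * c.1 * g⁻¹, hgC c c.2⟩
          map_one' := by ext; simp
          map_mul' := fun c d => Subtype.ext (hmul c.1 d.1) }
      have hφ : Function.Injective φ := fun c d hcd => by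
        have := congrArg Subtype.val hcd
        exact Subtype.ext (mul_left_cancel (mul_right_cancel this))
      have hcardT : Nat.card ((T : Subgroup C).map φ) = Nat.card (T : Subgroup C) :=
        Nat.card_congr ((T : Subgroup C).equivMapOfInjective φ hφ).toEquiv.symm
      let T' : Sylow 2 C := Sylow.ofCard ((T : Subgroup C).map φ) (hcardT.trans T.card_eq_multiplicity)
      obtain ⟨c, hc⟩ := MulAction.exists_smul_eq C T' T
      have hgz' : g * z' * g⁻¹ = z' := by
        have hmem : φ t₀ ∈ (T' : Subgroup C) := ⟨t₀, ht₀, rfl⟩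
        have hmem2 : c * φ t₀ * c⁻¹ ∈ (T : Subgroup C) := by
          rw [← hc, Sylow.coe_subgroup_smul, Subgroup.mem_pointwise_smul_iff_inv_smul_mem, MulAut.smul_def,
            ← map_inv, MulAut.conj_apply, inv_inv, show c⁻¹ * (c * φ t₀ * c⁻¹) * c = φ t₀ by group]
          exact hmem
        have hgzV : g * z' * g⁻¹ ∈ V := by
          have hQv : ∀ v ∈ V, v ∈ Q ∧ v ∈ (S : Subgroup G) ∧ v ^ 2 = 1 := fun v hv => by
            rcases hVsub v hv with rfl | rfl | rfl | rfl
            · exact ⟨Q.one_mem, Subgroup.one_mem _, one_pow 2⟩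
            · exact ⟨hzQ, hzS, by rw [pow_two, hz2]⟩
            · exact ⟨hbQ, hb, by rw [pow_two, hb2]⟩
            · exact ⟨Q.mul_mem hzQ hbQ, Subgroup.mul_mem _ hzS hb, by
                rw [pow_two, show z * b * (z * b) = z * (b * z) * b by group, ← hzb.eq,
                  show z * (z * b) * b = (z * z) * (b * b) by group, hz2, hb2, one_mul]⟩
          obtain ⟨h1, h2, h3⟩ := hQv z' hz'V
          have h4 : (g * z' * g⁻¹) ^ 2 = 1 := by rw [conj_pow, h3, mul_one, mul_inv_cancel]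
          rcases hinv _ (hQS (hgQ _ h1)) h4 with e | e | e | e <;> rw [e]
          · exact Subgroup.one_mem _
          · exact Subgroup.subset_closure (Or.inl rfl)
          · exact Subgroup.subset_closure (Or.inr rfl)
          · exact Subgroup.mul_mem _ (Subgroup.subset_closure (Or.inl rfl)) (Subgroup.subset_closure (Or.inr rfl))
        have hcfix : c.1 * (g * z' * g⁻¹) * c.1⁻¹ = g * z' * g⁻¹ := by
          have : Commute c.1 (g * z' * g⁻¹) := by
            rcases hVsub _ hgzV with e | e | e | e <;> rw [e]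
            · exact Commute.one_right _
            · exact ((hCmem _).1 c.2).1.symm
            · exact ((hCmem _).1 c.2).2.symm
            · exact Commute.mul_right (show Commute c.1 z from ((hCmem _).1 c.2).1.symm) ((hCmem _).1 c.2).2.symm
          rw [this.eq, mul_inv_cancel_right]
        have hsqeq : (c * φ t₀ * c⁻¹).1 * (c * φ t₀ * c⁻¹).1 = g * z' * g⁻¹ := by
          show c.1 * (g * t₀.1 * g⁻¹) * c.1⁻¹ * (c.1 * (g * t₀.1 * g⁻¹) * c.1⁻¹) = _
          calc _ = c.1 * (g * (t₀.1 * t₀.1) * g⁻¹) * c.1⁻¹ := by group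
            _ = _ := by rw [ht₀', hcfix]
        have := hsquare _ hmem2 (hsqeq ▸ hgzV) (fun e => hz'1 (conj_eq_one_iff.1 (hsqeq.symm.trans e)))
        rwa [hsqeq] at this
      -- conclusion on the four group
      have hz'2 : z' * z' = 1 := by
        rw [hz', show h * z * h⁻¹ * (h * z * h⁻¹) = h * (z * z) * h⁻¹ by group, hz2]; group
      intro x hxQ hx2
      have hxS := hQS hxQ
      have hyS := hQS (hgQ x hxQ)
      have hy2 : (g * x * g⁻¹) ^ 2 = 1 := by rw [conj_pow, hx2, mul_one, mul_inv_cancel]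
      by_cases hxt : x = 1 ∨ x = z'
      · rcases hxt with rfl | rfl
        · group
        · exact hgz'
      push Not at hxt
      have hyne : g * x * g⁻¹ ≠ 1 ∧ g * x * g⁻¹ ≠ z' := by
        refine ⟨fun e => hxt.1 (conj_eq_one_iff.1 e), fun e => hxt.2 ?_⟩
        rw [← hgz'] at e
        exact mul_left_cancel (mul_right_cancel e)
      have hcases : x⁻¹ * (g * x * g⁻¹) = 1 ∨ x⁻¹ * (g * x * g⁻¹) = z' := by
        have h1 := hinv x hxS hx2
        have h2 := hinv _ hyS hy2
        have h3 := hVsub z' hz'V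
        have hxi : x⁻¹ = x := inv_eq_of_mul_eq_one_right (by rw [← pow_two, hx2])
        rw [hxi]
        generalize g * x * g⁻¹ = y at h2 hyne ⊢
        have hbz : b * z = z * b := hzb.symm.eq
        have q1 : z * (z * b) = b := by rw [← mul_assoc, hz2, one_mul]
        have q2 : b * (z * b) = z := by rw [← mul_assoc, hbz, mul_assoc, hb2, mul_one]
        have q3 : z * b * z = b := by rw [mul_assoc, hbz, q1]
        have q4 : z * b * b = z := by rw [mul_assoc, hb2, mul_one]
        have q5 : z * b * (z * b) = 1 := by rw [← mul_assoc, q3, hb2]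
        rcases h3 with e | e | e | e
        · exact absurd e hz'1
        all_goals rw [e] at hxt hyne ⊢
        all_goals
          rcases h1 with rfl | rfl | rfl | rfl <;> rcases h2 with rfl | rfl | rfl | rfl <;>
            first
            | exact absurd rfl hxt.1
            | exact absurd rfl hxt.2
            | exact absurd rfl hyne.1
            | exact absurd rfl hyne.2
            | exact Or.inl (by first | exact hz2 | exact hb2 | exact q5)
            | exact Or.inr (by first | exact q1 | exact q2 | exact q3 | exact q4 | rfl | exact hbz)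
      rcases hcases with e | e
      · exact (inv_mul_eq_one.1 e).symm
      · exfalso
        refine hz'1 (eq_of_two_part (g := g) (x := x) (k := 1) ?_ hgz' hgc (by rw [pow_one, pow_two, hz'2]))
        rw [← e]; group
    · -- at most one involution
      intro x hxQ hx2
      have hy2 : (g * x * g⁻¹) ^ 2 = 1 := by rw [conj_pow, hx2, mul_one, mul_inv_cancel]
      by_cases hx1 : x = 1
      · subst hx1; group
      have hy1 : g * x * g⁻¹ ≠ 1 := fun e => hx1 (conj_eq_one_iff.1 e)
      have hbz : b * z = z * b := hzb.symm.eq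
      have hyQ := hgQ x hxQ
      by_contra hne
      apply hV
      rcases hinv x (hQS hxQ) hx2 with rfl | rfl | rfl | rfl <;>
        rcases hinv _ (hQS hyQ) hy2 with e | e | e | e <;> rw [e] at hyQ hne hy1 <;>
        first
        | exact absurd rfl hx1
        | exact absurd rfl hy1
        | exact absurd rfl hne
        | exact ⟨hxQ, hyQ⟩
        | exact ⟨hyQ, hxQ⟩
        | exact ⟨hxQ, by simpa [← mul_assoc, hz2] using Q.mul_mem hxQ hyQ⟩
        | exact ⟨hyQ, by simpa [← mul_assoc, hz2] using Q.mul_mem hyQ hxQ⟩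
        | exact ⟨by simpa [mul_assoc, hb2] using Q.mul_mem hxQ hyQ, hyQ⟩
        | exact ⟨by simpa [mul_assoc, hb2] using Q.mul_mem hyQ hxQ, hxQ⟩
  -- climb the chain
  have hclimb : ∀ k : ℕ, ∀ x ∈ Q, x ^ 2 ^ (k + 1) = 1 → g * x * g⁻¹ = x := by
    intro k
    induction k with
    | zero => intro x hx h; exact hbase x hx (by simpa using h)
    | succ k ih =>
      intro x hx h
      by_cases hx0 : x ^ 2 ^ (k + 1) = 1
      · exact ih x hx hx0
      set y := g * x * g⁻¹ with hy
      have hy1 : y ^ 2 ^ (k + 1 + 1) = 1 := by rw [hy, conj_pow, h, mul_one, mul_inv_cancel]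
      have hy0 : y ^ 2 ^ (k + 1) ≠ 1 := fun e => hx0 (by rw [hy, conj_pow, conj_eq_one_iff] at e; exact e)
      have hm : (x⁻¹ * y) ^ 2 ^ (k + 1) = 1 :=
        M.step hformM (Nat.le_add_left 1 k) (Subgroup.inv_mem _ (hQS hx)) (hQS (hgQ x hx))
          (by rw [inv_pow, h, inv_one]) hy1 (by rw [inv_pow, Ne, inv_eq_one]; exact hx0) hy0
      have hgm := ih _ (Q.mul_mem (Q.inv_mem hx) (hgQ x hx)) hm
      have := eq_of_two_part (g := g) (x := x) (m := x⁻¹ * y) (by rw [hy]; group) hgm hgc hm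
      exact (inv_mul_eq_one.1 this).symm
  rw [Subgroup.mem_centralizer_iff]
  intro x hx
  have hx2 : x ^ 2 ^ (n + 1) = 1 := by
    have h1 : (⟨x, hQS hx⟩ : (S : Subgroup G)) ^ Nat.card (S : Subgroup G) = 1 := pow_card_eq_one'
    rw [hS] at h1
    simpa using congrArg Subtype.val h1
  have := hclimb n x hx hx2
  exact (mul_inv_eq_iff_eq_mul.1 this).symm

end Cfsg.Agent.S3178
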