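import Cfsg.Prelude.Def_Classical
import Cfsg.Prelude.Def_Sz
import Cfsg.Agent.Lib.Classical.SmallIso
import Cfsg.Agent.Lib.Lie.Suzuki.Group
import Cfsg.Agent.S0280
import Mathlib
-- import your own Cfsg.Agent.* helpers here

set_option autoImplicit false
open Cfsg

namespace Cfsg.Agent.S3179

/-- `GL(5, 2)` has no element of order 9. -/
theorem pow_three_eq_one (g : GL (Fin 5) (ZMod 2)) (hg : g ^ 9 = 1) : g ^ 3 = 1 := by
  classical
  by_contra h3
  let V := Fin 5 → ZMod 2
  let f : GL (Fin 5) (ZMod 2) → V → V := fun h v => (h : Matrix (Fin 5) (Fin 5) (ZMod 2)).mulVec v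
  have fmul : ∀ a b v, f (a * b) v = f a (f b v) := fun a b v => by simp [f, Matrix.mulVec_mulVec]
  have fone : ∀ v, f 1 v = v := fun v => by simp [f]
  let U : AddSubgroup V :=
    { carrier := {v | f (g ^ 3) v = v}
      add_mem' := fun {a b} ha hb => by
        show f (g ^ 3) (a + b) = a + b
        simp only [Set.mem_setOf_eq] at ha hb
        simp only [f] at ha hb ⊢
        rw [Matrix.mulVec_add, ha, hb]
      zero_mem' := by show f (g ^ 3) 0 = 0; simp [f]
      neg_mem' := fun {a} ha => by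
        show f (g ^ 3) (-a) = -a
        simp only [Set.mem_setOf_eq] at ha
        simp only [f] at ha ⊢
        rw [Matrix.mulVec_neg, ha] }
  have hVcard : Nat.card V = 32 := by simp [V, Nat.card_eq_fintype_card]
  have hUne : U ≠ ⊤ := by
    intro htop
    refine h3 (Units.ext (Matrix.ext_of_mulVec_single fun j => ?_))
    have : Pi.single j 1 ∈ U := htop ▸ AddSubgroup.mem_top _
    rw [Units.val_one, Matrix.one_mulVec]
    exact this
  -- the nine powers act semiregularly outside `U`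
  let X := {v : V // v ∉ U}
  have hpow : ∀ k v, f (g ^ k) v ∈ U → v ∈ U := by
    intro k v hv
    have hv' : f (g ^ 3) (f (g ^ k) v) = f (g ^ k) v := hv
    rw [← fmul, ← pow_add, add_comm, pow_add, fmul] at hv'
    have := congrArg (f ((g ^ k)⁻¹)) hv'
    simp only [← fmul, ← mul_assoc, inv_mul_cancel, one_mul, fone] at this
    exact this
  let σ : Equiv.Perm X :=
    { toFun := fun v => ⟨f g v, fun h => v.2 (hpow 1 v (by rwa [pow_one]))⟩
      invFun := fun v => ⟨f g⁻¹ v, fun h => v.2 (by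
        refine hpow 8 v ?_
        have e : g⁻¹ = g ^ 8 := inv_eq_of_mul_eq_one_right (by rw [← pow_succ', hg])
        rwa [← e])⟩
      left_inv := fun v => Subtype.ext (show f g⁻¹ (f g v) = v by rw [← fmul, inv_mul_cancel, fone])
      right_inv := fun v => Subtype.ext (show f g (f g⁻¹ v) = v by rw [← fmul, mul_inv_cancel, fone]) }
  have hσpow : ∀ k (v : X), ((σ ^ k) v : V) = f (g ^ k) v := by
    intro k v
    induction k with
    | zero => simp [fone]
    | succ k ih => rw [pow_succ', Equiv.Perm.mul_apply, pow_succ', fmul, ← ih]; rfl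
  let P := Subgroup.zpowers σ
  have hcardP : ∀ v : X, MulAction.stabilizer P v = ⊥ := by
    intro v
    rw [Subgroup.eq_bot_iff_forall]
    rintro ⟨a, ha⟩ hfix
    obtain ⟨k, rfl⟩ := mem_powers_iff_mem_zpowers.2 ha
    have hk : f (g ^ k) v = v := by
      rw [← hσpow]
      exact congrArg Subtype.val (show (σ ^ k) v = v from hfix)
    refine Subtype.ext (Equiv.Perm.ext fun w => Subtype.ext ?_)
    show ((σ ^ k) w : V) = w
    have h9 : k % 9 = 0 := by
      by_contra hne
      have hmul : ∀ l : ℕ, f (g ^ (k * l)) v = v := by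
        intro l
        induction l with
        | zero => simp [fone]
        | succ l ih => rw [Nat.mul_succ, pow_add, fmul, hk, ih]
      have hmod : ∀ e, g ^ e = g ^ (e % 9) := fun e => pow_eq_pow_mod e hg
      refine v.2 (show f (g ^ 3) v = v from ?_)
      obtain ⟨l, hl⟩ : ∃ l, k * l % 9 = 3 := by
        rw [show (∃ l, k * l % 9 = 3) ↔ (∃ l, (k % 9) * l % 9 = 3) by simp [Nat.mul_mod, Nat.mod_mod]]
        have : k % 9 < 9 := Nat.mod_lt _ (by norm_num)
        interval_cases h : k % 9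
        exacts [absurd rfl hne, ⟨3, rfl⟩, ⟨6, rfl⟩, ⟨1, rfl⟩, ⟨3, rfl⟩, ⟨6, rfl⟩, ⟨2, rfl⟩, ⟨3, rfl⟩, ⟨6, rfl⟩]
      have := hmul l
      rwa [hmod, hl] at this
    rw [hσpow, pow_eq_pow_mod k hg, h9, pow_zero, fone]
  have hcard9 : Nat.card P = 9 := by
    rw [Nat.card_zpowers]
    refine orderOf_eq_prime_pow (p := 3) (n := 1) ?_ (Equiv.Perm.ext fun w => Subtype.ext ?_)
    · intro h
      obtain ⟨v, hv⟩ : ∃ v, v ∉ U := by
        by_contra hcon
        push Not at hcon
        exact hUne (eq_top_iff.2 fun v _ => hcon v)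
      refine hv (show f (g ^ 3) v = v from ?_)
      rw [← hσpow 3 ⟨v, hv⟩, show σ ^ 3 = σ ^ 3 ^ 1 by norm_num, h]
      rfl
    · show ((σ ^ 3 ^ (1 + 1)) w : V) = w
      rw [hσpow, show 3 ^ (1 + 1) = 9 by norm_num, hg, fone]
  haveI : Fintype (Quotient (MulAction.orbitRel P X)) := Fintype.ofFinite _
  have hdvd : 9 ∣ Nat.card X := by
    rw [Nat.card_congr (MulAction.selfEquivSigmaOrbitsQuotientStabilizer P X), Nat.card_sigma]
    refine Finset.dvd_sum fun o _ => ?_
    rw [hcardP, ← Subgroup.index, Subgroup.index_bot, hcard9]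
  have hX : Nat.card X + Nat.card U = 32 := by
    rw [← hVcard, add_comm, ← Nat.card_sum]
    exact Nat.card_congr (Equiv.sumCompl (fun v : V => v ∈ U))
  have hUdvd : Nat.card U ∣ 32 := hVcard ▸ U.card_addSubgroup_dvd_card
  have hU32 : Nat.card U ≠ 32 := fun h => hUne (AddSubgroup.eq_top_of_card_eq _ (by rw [h, hVcard]))
  have : Nat.card U ≤ 32 := Nat.le_of_dvd (by norm_num) hUdvd
  interval_cases h : Nat.card U <;> omega

/-- `PSL(2, 8)` has an element of order 9. -/
theorem exists_order_nine {F : Type} [Field F] [Fintype F] (hF : Fintype.card F = 8) :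
    ∃ x : Matrix.ProjectiveSpecialLinearGroup (Fin 2) F, x ^ 9 = 1 ∧ x ^ 3 ≠ 1 := by
  classical
  haveI : CharP F 2 := by
    obtain ⟨p, hp⟩ := CharP.exists F
    obtain ⟨n, hpp, hc⟩ := FiniteField.card F p
    have h := (Nat.prime_dvd_prime_iff_eq hpp Nat.prime_two).1
      (hpp.dvd_of_dvd_pow (show p ∣ 2 ^ 3 by
        rw [show 2 ^ 3 = Fintype.card F by rw [hF]; norm_num, hc]; exact dvd_pow_self p n.ne_zero))
    exact h ▸ hp
  have h2 : (2 : F) = 0 := CharP.cast_eq_zero F 2
  obtain ⟨a, ha⟩ : ∃ a : F, a ^ 3 + a + 1 = 0 := by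
    obtain ⟨b, hb⟩ : ∃ b : F, b ∉ ({0, 1} : Finset F) := by
      by_contra hcon
      push Not at hcon
      have := (Finset.card_le_card (fun b _ => hcon b : (Finset.univ : Finset F) ⊆ {0, 1})).trans
        Finset.card_le_two
      rw [Finset.card_univ, hF] at this
      omega
    simp only [Finset.mem_insert, Finset.mem_singleton, not_or] at hb
    have h7 : b ^ 7 = 1 := by
      have := FiniteField.pow_card_sub_one_eq_one b hb.1
      rwa [hF] at this
    have hprod : (b - 1) * ((b ^ 3 + b + 1) * (b ^ 3 + b ^ 2 + 1)) = 0 := by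
      linear_combination h7 + (b ^ 4 - b ^ 3) * h2
    rcases mul_eq_zero.1 ((mul_eq_zero.1 hprod).resolve_left (sub_ne_zero.2 hb.2)) with h | h
    · exact ⟨b, h⟩
    · refine ⟨b⁻¹, ?_⟩
      have hb3 : b ^ 3 ≠ 0 := pow_ne_zero _ hb.1
      have e : b ^ 3 * (b⁻¹ ^ 3 + b⁻¹ + 1) = b ^ 3 + b ^ 2 + 1 := by field_simp [hb.1]; ring
      exact (mul_eq_zero.1 (e.trans h)).resolve_left hb3
  let M : Matrix.SpecialLinearGroup (Fin 2) F := ⟨!![a, 1; 1, 0], by
    rw [Matrix.det_fin_two_of]; linear_combination -h2⟩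
  have hM3 : ((M ^ 3 : Matrix.SpecialLinearGroup (Fin 2) F) : Matrix (Fin 2) (Fin 2) F) =
      !![a ^ 3 + 2 * a, a ^ 2 + 1; a ^ 2 + 1, a] := by
    rw [pow_succ, pow_two, Matrix.SpecialLinearGroup.coe_mul, Matrix.SpecialLinearGroup.coe_mul]
    simp only [M, Matrix.mul_fin_two]
    ext i j; fin_cases i <;> fin_cases j <;> simp <;> ring
  refine ⟨QuotientGroup.mk M, ?_, ?_⟩
  · rw [← QuotientGroup.mk_pow, show M ^ 9 = 1 from ?_, QuotientGroup.mk_one]
    rw [show 9 = 3 * 3 from rfl, pow_mul]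
    apply Subtype.ext
    rw [pow_succ, pow_two, Matrix.SpecialLinearGroup.coe_mul, Matrix.SpecialLinearGroup.coe_mul, hM3,
      Matrix.SpecialLinearGroup.coe_one, Matrix.mul_fin_two, Matrix.mul_fin_two]
    ext i j
    fin_cases i <;> fin_cases j <;> simp <;> grind
  · intro h
    rw [← QuotientGroup.mk_pow] at h
    have hc := (QuotientGroup.eq_one_iff _).1 h
    rw [Matrix.SpecialLinearGroup.mem_center_iff] at hc
    obtain ⟨r, -, hr⟩ := hc
    have h10 := congrFun (congrFun hr 1) 0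
    rw [hM3] at h10
    simp at h10
    have ha1 : a = 1 := by grind
    rw [ha1] at ha
    have : (1 : F) = 0 := by linear_combination ha - h2
    exact one_ne_zero this


/-- Let X be a section of the general linear group GL(5, 2), that is, a quotient of a subgroup of it. If X is isomorphic to PSL(2, 2^n) for some n ≥ 2, to a Suzuki group over the field with 2^(2m+1) elements for some m ≥ 1, or to PSU(3, 2^n) for some n ≥ 2, then X is isomorphic to PSL(2, 4). -/
theorem result {H : Subgroup (GL (Fin 5) (ZMod 2))}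
    {K : Subgroup ↥H} [K.Normal]
    (hX : (∃ (n : ℕ) (F : Type) (_ : Field F) (_ : Fintype F), 2 ≤ n ∧ Fintype.card F = 2 ^ n ∧
        Nonempty (↥H ⧸ K ≃* Matrix.ProjectiveSpecialLinearGroup (Fin 2) F)) ∨
      (∃ (m : ℕ) (F : Type) (_ : Field F) (_ : Fintype F), 1 ≤ m ∧ Fintype.card F = 2 ^ (2 * m + 1) ∧
        Nonempty (↥H ⧸ K ≃* ↥(Cfsg.Lie.Sz F (2 ^ (m + 1))))) ∨
      (∃ (n : ℕ) (F : Type) (_ : Field F) (_ : Fintype F), 2 ≤ n ∧ Fintype.card F = 4 ^ n ∧
        Nonempty (↥H ⧸ K ≃* Cfsg.PSU 3 F (2 ^ n)))) :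
    ∃ (F : Type) (_ : Field F) (_ : Fintype F), Fintype.card F = 4 ∧
      Nonempty (↥H ⧸ K ≃* Matrix.ProjectiveSpecialLinearGroup (Fin 2) F) := by
  classical
  have hdvd : Nat.card (↥H ⧸ K) ∣ 9999360 := by
    have h : Nat.card (GL (Fin 5) (ZMod 2)) = 9999360 := by
      rw [Matrix.card_GL_field, ZMod.card]; simp [Fin.prod_univ_succ]
    exact h ▸ (Subgroup.card_quotient_dvd_card K).trans (Subgroup.card_subgroup_dvd_card H)
  rcases hX with ⟨n, F, _, _, hn, hF, ⟨e⟩⟩ | ⟨m, F, _, _, hm, hF, ⟨e⟩⟩ | ⟨n, F, _, _, hn, hF, ⟨e⟩⟩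
  · have hc := CfsgLib.Classical.Two.card_PSL_two (F := F)
    have hgcd : Nat.gcd 2 (Fintype.card F - 1) = 1 := by
      rw [hF]
      refine (Nat.prime_two.coprime_iff_not_dvd).2 fun h => ?_
      have h2 : 2 ∣ 2 ^ n := dvd_pow_self 2 (by omega)
      have := Nat.one_le_two_pow (n := n)
      omega
    rw [hgcd, one_mul, ← Nat.card_congr e.toEquiv, hF] at hc
    rw [hc] at hdvd
    have hle : n ≤ 23 := by
      by_contra hn'
      have h1 := Nat.le_of_dvd (by norm_num) ((Nat.dvd_mul_right _ _).trans hdvd)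
      have h2 := Nat.pow_le_pow_right two_pos (show 24 ≤ n by omega)
      omega
    by_cases hn3 : n = 2
    · subst hn3
      exact ⟨F, inferInstance, inferInstance, hF, ⟨e⟩⟩
    exfalso
    by_cases h3 : n = 3
    · subst h3
      obtain ⟨x, hx9, hx3⟩ := exists_order_nine hF
      obtain ⟨y, hy⟩ := QuotientGroup.mk_surjective (e.symm x)
      obtain ⟨q, hq⟩ : ∃ q, orderOf y = 9 * q := by
        have h9 : orderOf x = 9 :=
          orderOf_eq_prime_pow (p := 3) (n := 1) (by simpa using hx3) (by simpa using hx9)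
        have h := orderOf_map_dvd (QuotientGroup.mk' K) y
        rw [show (QuotientGroup.mk' K) y = e.symm x from hy, MulEquiv.orderOf_eq, h9] at h
        exact h
      have hy9 : ((y : GL (Fin 5) (ZMod 2)) ^ q) ^ 9 = 1 := by
        rw [← pow_mul, mul_comm, ← hq, ← Subgroup.coe_pow, pow_orderOf_eq_one, Subgroup.coe_one]
      have hy3 := pow_three_eq_one _ hy9
      rw [← pow_mul, ← Subgroup.coe_pow] at hy3
      have hd := orderOf_dvd_of_pow_eq_one (x := y) (n := q * 3) (Subtype.ext hy3)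
      have hpos := orderOf_pos y
      rw [hq] at hd hpos
      have := Nat.le_of_dvd (by omega) hd
      omega
    interval_cases n <;> first | omega | norm_num at hdvd
  · exfalso
    haveI := CfsgLib.Lie.Suzuki.charTwo_of_card hF
    rw [Nat.card_congr e.toEquiv, ← Nat.card_congr (CfsgLib.Lie.Suzuki.equivLie hm hF).toEquiv,
      CfsgLib.Lie.Suzuki.nat_card hF hm, hF] at hdvd
    have hle : 2 * m + 1 ≤ 23 := by
      by_contra hn'
      have h1 := Nat.le_of_dvd (by norm_num) (((dvd_pow_self _ two_ne_zero).mul_right _).mul_right _ |>.trans hdvd)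
      have h2 := Nat.pow_le_pow_right two_pos (show 24 ≤ 2 * m + 1 by omega)
      omega
    have hm11 : m ≤ 11 := by omega
    interval_cases m <;> norm_num at hdvd
  · exfalso
    have hq : Fintype.card F = (2 ^ n) ^ 2 := by rw [hF, ← pow_mul, mul_comm, pow_mul]; norm_num
    have hc := Cfsg.Agent.S0280.result hq 3 (by norm_num)
    rw [← Nat.card_congr e.toEquiv] at hc
    have h1 : (2 ^ n) ^ 3 ∣ Nat.gcd 3 (2 ^ n + 1) * ((2 ^ n + 1) * Nat.card (↥H ⧸ K)) := by
      rw [hc]; exact dvd_mul_of_dvd_left (pow_dvd_pow _ (by norm_num)) _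
    have hcop : Nat.Coprime ((2 ^ n) ^ 3) (Nat.gcd 3 (2 ^ n + 1) * (2 ^ n + 1)) := by
      refine Nat.Coprime.pow_left _ (Nat.Coprime.mul_right ?_ ?_)
      · exact (Nat.Coprime.coprime_dvd_right (Nat.gcd_dvd_left _ _)
          ((by norm_num : Nat.Coprime 2 3).pow_left n))
      · simp
    rw [← mul_assoc] at h1
    have h2 := (hcop.dvd_of_dvd_mul_left h1).trans hdvd
    have hle : n ≤ 3 := by
      by_contra hn'
      have hh : (2 ^ 4) ^ 3 ∣ 9999360 :=
        (pow_dvd_pow_of_dvd (pow_dvd_pow 2 (show 4 ≤ n by omega)) 3).trans h2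
      norm_num at hh
    generalize hN : Nat.card (↥H ⧸ K) = N at hc hdvd
    interval_cases n
    · rw [Finset.prod_range_succ, Finset.prod_range_succ, Finset.prod_range_succ, Finset.prod_range_zero] at hc
      norm_num [Nat.even_iff] at hc
      rw [show N = 62400 by omega] at hdvd
      norm_num at hdvd
    · rw [Finset.prod_range_succ, Finset.prod_range_succ, Finset.prod_range_succ, Finset.prod_range_zero] at hc
      norm_num [Nat.even_iff] at hc
      rw [show N = 5515776 by omega] at hdvd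
      norm_num at hdvd

end Cfsg.Agent.S3179
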