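import Cfsg.Statements.S3180
import Mathlib

set_option autoImplicit false
open Cfsg

namespace Cfsg.Agent.S3180

/-- Let P be a Sylow p-subgroup of a finite group J and P₁ a subgroup of P that is weakly closed in P with respect to J. If J acts on a set and two points, each fixed by every element of P₁, lie in one J-orbit, then they lie in one orbit of the normalizer of P₁ in J. -/
theorem result {J : Type*} [Group J] [Finite J]
    {p : ℕ} [Fact p.Prime] (P : Sylow p J) (P₁ : Subgroup J) (hW : Cfsg.IsWeaklyClosed P₁ (P : Subgroup J))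
    {Ω : Type*} [MulAction J Ω] (x y : Ω) (hx : ∀ g ∈ P₁, g • x = x) (hy : ∀ g ∈ P₁, g • y = y)
    (hc : ∃ g : J, g • x = y) :
    ∃ g ∈ Subgroup.normalizer (P₁ : Set J), g • x = y := by
  obtain ⟨g, hg⟩ := hc
  let H : Subgroup J := MulAction.stabilizer J y
  have hP₁ : IsPGroup p P₁ := P.2.to_le hW.1
  have hle : P₁ ≤ H := fun a ha => hy a ha
  have hle' : P₁.map (MulAut.conj g).toMonoidHom ≤ H := by
    rintro _ ⟨a, ha, rfl⟩
    show (g * a * g⁻¹) • y = y
    rw [mul_smul, mul_smul, show g⁻¹ • y = x by rw [← hg, inv_smul_smul], hx a ha, hg]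
  obtain ⟨Q, hQ⟩ := (hP₁.comap_subtype (K := H)).exists_le_sylow
  obtain ⟨Q', hQ'⟩ := ((hP₁.map (MulAut.conj g).toMonoidHom).comap_subtype (K := H)).exists_le_sylow
  obtain ⟨h, hh⟩ := MulAction.exists_smul_eq H Q' Q
  obtain ⟨R, hR⟩ := ((Q.2).map H.subtype).exists_le_sylow
  obtain ⟨k, hk⟩ := MulAction.exists_smul_eq J R P
  have hRP : ∀ a ∈ (R : Subgroup J), k * a * k⁻¹ ∈ (P : Subgroup J) := by
    intro a ha
    rw [← hk]
    exact ⟨a, ha, rfl⟩
  have h1 : P₁.map (MulAut.conj k).toMonoidHom = P₁ := by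
    apply hW.2
    rintro _ ⟨a, ha, rfl⟩
    exact hRP a (hR ⟨⟨a, hle ha⟩, hQ ha, rfl⟩)
  have h2 : P₁.map (MulAut.conj (k * (h * g))).toMonoidHom = P₁ := by
    apply hW.2
    rintro _ ⟨a, ha, rfl⟩
    have hm : g * a * g⁻¹ ∈ P₁.map (MulAut.conj g).toMonoidHom := ⟨a, ha, rfl⟩
    have h3 : h * ⟨g * a * g⁻¹, hle' hm⟩ * h⁻¹ ∈ (Q : Subgroup H) := by
      rw [← hh]
      exact ⟨⟨g * a * g⁻¹, hle' hm⟩, hQ' hm, rfl⟩
    have h4 := hRP _ (hR ⟨_, h3, rfl⟩)
    simpa [mul_assoc] using h4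
  have hn : ∀ u : J, P₁.map (MulAut.conj u).toMonoidHom = P₁ → u ∈ Subgroup.normalizer (P₁ : Set J) := by
    intro u hu
    refine Subgroup.mem_normalizer_iff.mpr fun a => ⟨fun ha => ?_, fun ha => ?_⟩
    · rw [← hu]; exact ⟨a, ha, rfl⟩
    · rw [← hu] at ha
      obtain ⟨b, hb, hb'⟩ := ha
      simp only [MulEquiv.coe_toMonoidHom, MulAut.conj_apply, mul_left_inj, mul_right_inj] at hb'
      rwa [← hb']
  refine ⟨h * g, ?_, ?_⟩
  · have := Subgroup.mul_mem _ (Subgroup.inv_mem _ (hn k h1)) (hn _ h2)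
    simpa using this
  · rw [mul_smul, hg]; exact h.2

end Cfsg.Agent.S3180
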