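import Cfsg.Statements.S3183
import Mathlib

set_option autoImplicit false
open Cfsg

namespace Cfsg.Agent.S3183

/-- Let G be a finite group in which the intersection of any two distinct Sylow 2-subgroups is contained in the centre of some Sylow 2-subgroup, and let S be a Sylow 2-subgroup. Then for every x in S the centralizer of x in S is a Sylow 2-subgroup of the centralizer of x in G (no 2-subgroup centralizing x is larger), and for every other Sylow 2-subgroup T the intersection S ∩ T lies in both the centre of S and the centre of T. -/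
theorem result {G : Type*} [Group G] [Finite G]
    (hCI : ∀ S T : Sylow 2 G, S ≠ T → ∃ U : Sylow 2 G,
      (S : Subgroup G) ⊓ (T : Subgroup G) ≤ (Subgroup.center ↥(U : Subgroup G)).map (U : Subgroup G).subtype)
    (S : Sylow 2 G) :
    (∀ x ∈ (S : Subgroup G), ∀ P : Subgroup G, IsPGroup 2 ↥P → P ≤ Subgroup.centralizer ({x} : Set G) →
        Nat.card ↥P ≤ Nat.card ↥((S : Subgroup G) ⊓ Subgroup.centralizer ({x} : Set G))) ∧
    (∀ T : Sylow 2 G, T ≠ S →
        (S : Subgroup G) ⊓ (T : Subgroup G) ≤
          (Subgroup.center ↥(S : Subgroup G)).map (S : Subgroup G).subtype ⊓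
            (Subgroup.center ↥(T : Subgroup G)).map (T : Subgroup G).subtype) := by
  classical
  haveI : Fact (Nat.Prime 2) := ⟨Nat.prime_two⟩
  have hmain : ∀ k : ℕ, ∀ S T : Sylow 2 G, T ≠ S →
      Nat.card ↥(S : Subgroup G) ≤ Nat.card ↥((S : Subgroup G) ⊓ (T : Subgroup G)) + k →
      ∀ d, d ∈ (S : Subgroup G) ⊓ (T : Subgroup G) → ∀ s ∈ (S : Subgroup G), s * d = d * s := by
    intro k
    induction k using Nat.strong_induction_on with
    | _ k ih =>
      intro S T hne hk d hd s hs
      obtain ⟨U, hU⟩ := hCI S T (Ne.symm hne)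
      have hcU : ∀ a ∈ (S : Subgroup G) ⊓ (T : Subgroup G), a ∈ (U : Subgroup G) ∧
          ∀ u ∈ (U : Subgroup G), u * a = a * u := by
        intro a ha
        obtain ⟨c, hc, rfl⟩ := hU ha
        exact ⟨c.2, fun u hu => congrArg Subtype.val (Subgroup.mem_center_iff.mp hc ⟨u, hu⟩)⟩
      set D : Subgroup G := (S : Subgroup G) ⊓ (T : Subgroup G) with hD
      set N : Subgroup G := Subgroup.normalizer (D : Set G) with hN
      have hUN : (U : Subgroup G) ≤ N := by
        refine le_trans ?_ (Subgroup.centralizer_le_normalizer _)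
        intro u hu
        exact Subgroup.mem_centralizer_iff.mpr fun a ha => ((hcU a ha).2 u hu).symm
      have hlt : D < (S : Subgroup G) := by
        refine lt_of_le_of_ne inf_le_left fun h => hne ?_
        have : (S : Subgroup G) ≤ (T : Subgroup G) := h ▸ inf_le_right
        exact Sylow.ext (S.3 T.2 this)
      have hlt' : D.subgroupOf (S : Subgroup G) < ⊤ := by
        refine lt_top_iff_ne_top.mpr fun h => ?_
        exact (not_le_of_gt hlt) (Subgroup.subgroupOf_eq_top.mp h)
      haveI : Group.IsNilpotent ↥(S : Subgroup G) := S.2.isNilpotent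
      have hnorm := Group.normalizerCondition_of_isNilpotent _ hlt'
      obtain ⟨y, hy, hyD⟩ := SetLike.exists_of_lt hnorm
      have hyN : (y : G) ∈ N := by
        refine Subgroup.mem_normalizer_iff.mpr fun a => ?_
        constructor
        · intro ha
          exact (Subgroup.mem_normalizer_iff.mp hy ⟨a, (hlt.le ha)⟩).mp ha
        · intro ha
          have := (Subgroup.mem_normalizer_iff.mp (Subgroup.inv_mem _ hy) ⟨_, hlt.le ha⟩).mp ha
          simpa [Subgroup.mem_subgroupOf, mul_assoc] using this
      -- a Sylow subgroup `V` centralizing `D` that contains `N_S(D)`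
      obtain ⟨Q, hQ⟩ := ((S.2.to_le (inf_le_left : (S : Subgroup G) ⊓ N ≤ _)).comap_subtype (K := N)).exists_le_sylow
      obtain ⟨g, hg⟩ := MulAction.exists_smul_eq N (U.subtype hUN) Q
      let V : Sylow 2 G := (g : G) • U
      have hV1 : ∀ a ∈ D, a ∈ (V : Subgroup G) ∧ ∀ v ∈ (V : Subgroup G), v * a = a * v := by
        intro a ha
        have ha' : (g : G)⁻¹ * a * g ∈ D := by
          have := (Subgroup.mem_normalizer_iff.mp (N.inv_mem g.2) a).mp ha
          simpa using this
        obtain ⟨h1, h2⟩ := hcU _ ha'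
        refine ⟨⟨_, h1, by simp [mul_assoc]⟩, ?_⟩
        rintro _ ⟨u, hu, rfl⟩
        have h3 := h2 u hu
        have h4 : (g : G) * (u * ((g : G)⁻¹ * a * g)) * (g : G)⁻¹ = (g : G) * (((g : G)⁻¹ * a * g) * u) * (g : G)⁻¹ := by rw [h3]
        simpa [mul_assoc] using h4
      have hV2 : ∀ a ∈ (S : Subgroup G) ⊓ N, a ∈ (V : Subgroup G) := by
        intro a ha
        have : (⟨a, ha.2⟩ : N) ∈ (Q : Subgroup N) := hQ ha
        rw [← hg] at this
        obtain ⟨u, hu, hu'⟩ := this
        refine ⟨(u : G), hu, ?_⟩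
        exact congrArg Subtype.val hu'
      by_cases hVS : V = S
      · exact (hV1 d hd).2 s (hVS.symm ▸ hs)
      · have hlt2 : D < (S : Subgroup G) ⊓ (V : Subgroup G) := by
          refine lt_of_le_of_ne (fun a ha => ⟨hlt.le ha, (hV1 a ha).1⟩) fun h => hyD ?_
          show (y : G) ∈ D
          rw [h]
          exact ⟨y.2, hV2 _ ⟨y.2, hyN⟩⟩
        have hc2 : Nat.card D < Nat.card ↥((S : Subgroup G) ⊓ (V : Subgroup G)) :=
          Set.ncard_lt_ncard hlt2 |>.trans_eq' rfl
        have hc3 : Nat.card ↥((S : Subgroup G) ⊓ (V : Subgroup G)) ≤ Nat.card ↥(S : Subgroup G) :=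
          Nat.card_le_card_of_injective _ (Subgroup.inclusion_injective inf_le_left)
        exact ih (Nat.card ↥(S : Subgroup G) - Nat.card ↥((S : Subgroup G) ⊓ (V : Subgroup G))) (by omega) S V hVS
          (by omega) d (hlt2.le hd) s hs
  have hZ : ∀ S T : Sylow 2 G, T ≠ S → (S : Subgroup G) ⊓ (T : Subgroup G) ≤
      (Subgroup.center ↥(S : Subgroup G)).map (S : Subgroup G).subtype := by
    intro S T hne d hd
    exact ⟨⟨d, hd.1⟩, Subgroup.mem_center_iff.mpr fun s =>
      Subtype.ext (hmain (Nat.card ↥(S : Subgroup G)) S T hne (Nat.le_add_left _ _) d hd s s.2), rfl⟩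
  refine ⟨?_, fun T hT => le_inf (hZ S T hT) (by rw [inf_comm]; exact hZ T S (Ne.symm hT))⟩
  intro x hx P hP hPx
  by_cases hxz : ∀ s ∈ (S : Subgroup G), s * x = x * s
  · have hSC : (S : Subgroup G) ⊓ Subgroup.centralizer ({x} : Set G) = (S : Subgroup G) :=
      inf_of_le_left fun s hs => Subgroup.mem_centralizer_singleton_iff.mpr (hxz s hs)
    rw [hSC]
    obtain ⟨R, hR⟩ := hP.exists_le_sylow
    calc Nat.card ↥P ≤ Nat.card ↥(R : Subgroup G) := Nat.card_le_card_of_injective _ (Subgroup.inclusion_injective hR)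
      _ = _ := Nat.card_congr (R.equiv S).toEquiv
  · have hZx : IsPGroup 2 (Subgroup.zpowers x) := S.2.to_le (Subgroup.zpowers_le.mpr hx)
    have hn : P ≤ Subgroup.normalizer ((Subgroup.zpowers x : Subgroup G) : Set G) := by
      refine le_trans hPx ?_
      rw [← Subgroup.centralizer_closure, ← Subgroup.zpowers_eq_closure]
      exact Subgroup.centralizer_le_normalizer _
    obtain ⟨T, hT⟩ := (hP.to_sup_of_normal_right' hZx hn).exists_le_sylow
    have hTS : T = S := by
      by_contra hne
      apply hxz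
      intro s hs
      exact hmain _ S T hne (Nat.le_add_left _ _) x ⟨hx, (le_sup_right.trans hT) (Subgroup.mem_zpowers x)⟩ s hs
    subst hTS
    exact Nat.card_le_card_of_injective _ (Subgroup.inclusion_injective (le_inf (le_sup_left.trans hT) hPx))

end Cfsg.Agent.S3183
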