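import Cfsg.Statements.S3184
import Cfsg.Agent.Lib.ZStar.Main

set_option autoImplicit false
open Cfsg

namespace Cfsg.Agent.S3184

/-- Let G be a finite group in which the intersection of any two distinct Sylow 2-subgroups is contained in the centre of some Sylow 2-subgroup, and let S be a Sylow 2-subgroup. If C is a nontrivial cyclic characteristic subgroup of S, then the involution of C is central modulo the largest normal subgroup of odd order of G: each of its conjugates has the same image in G/O(G). -/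
theorem result {G : Type*} [Group G] [Finite G]
    (hCI : ∀ S T : Sylow 2 G, S ≠ T → ∃ U : Sylow 2 G,
      (S : Subgroup G) ⊓ (T : Subgroup G) ≤ (Subgroup.center ↥(U : Subgroup G)).map (U : Subgroup G).subtype)
    (S : Sylow 2 G) (C : Subgroup ↥(S : Subgroup G)) (hC : C ≠ ⊥) (hCc : IsCyclic ↥C) (hCh : C.Characteristic)
    (c : ↥(S : Subgroup G)) (hc : c ∈ C) (hc2 : orderOf c = 2) :
    ∀ g : G, (QuotientGroup.mk (s := Cfsg.oddCore G) (g * (c : G) * g⁻¹)) =
      QuotientGroup.mk (s := Cfsg.oddCore G) (c : G) := by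
  have : Fact (Nat.Prime 2) := ⟨Nat.prime_two⟩
  set z : G := (c : G) with hzdef
  have hz : orderOf z = 2 := by rw [hzdef, Subgroup.orderOf_coe, hc2]
  -- the normaliser of `S` fixes `z`
  have hN : ∀ n : G, n • S = S → n * z * n⁻¹ = z := by
    intro n hn
    let φ : ↥(S : Subgroup G) ≃* ↥(S : Subgroup G) :=
      ((MulAut.conj n).subgroupMap (S : Subgroup G)).trans
        (MulEquiv.subgroupCongr (congrArg (fun P : Sylow 2 G => (P : Subgroup G)) hn))
    have hmem : φ c ∈ C := by
      have h := Subgroup.characteristic_iff_map_le.1 hCh φ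
      exact h ⟨c, hc, rfl⟩
    have h3 : φ c = c := by
      classical
      have := Fintype.ofFinite C
      have hcard := IsCyclic.card_orderOf_eq_totient (α := C) (d := 2) (by
        have h := orderOf_dvd_natCard (⟨c, hc⟩ : C)
        rwa [Subgroup.orderOf_mk, hc2, Nat.card_eq_fintype_card] at h)
      rw [Nat.totient_two] at hcard
      have h1 : (⟨φ c, hmem⟩ : C) ∈ ({a | orderOf a = 2} : Finset C) := by
        simp [hc2]
      have h2 : (⟨c, hc⟩ : C) ∈ ({a | orderOf a = 2} : Finset C) := by simp [hc2]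
      exact congrArg Subtype.val (Finset.card_le_one.1 hcard.le _ h1 _ h2)
    exact congrArg Subtype.val h3
  have hzS : ∀ s ∈ (S : Subgroup G), s * z = z * s := fun s hs =>
    mul_inv_eq_iff_eq_mul.1 (hN s (Sylow.smul_eq_iff_mem_normalizer.2
      (Subgroup.le_normalizer hs)))
  -- conjugacy of Sylow subgroups inside a centraliser
  have hconj : ∀ (d : G) (P Q : Sylow 2 G), (∀ x ∈ P, x * d = d * x) → (∀ x ∈ Q, x * d = d * x) →
      ∃ h : G, h * d = d * h ∧ h • P = Q := by
    intro d P Q hP hQ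
    have hPc : (P : Subgroup G) ≤ Subgroup.centralizer {d} := fun x hx =>
      Subgroup.mem_centralizer_singleton_iff.2 (hP x hx)
    have hQc : (Q : Subgroup G) ≤ Subgroup.centralizer {d} := fun x hx =>
      Subgroup.mem_centralizer_singleton_iff.2 (hQ x hx)
    obtain ⟨h, hh⟩ := MulAction.exists_smul_eq (Subgroup.centralizer ({d} : Set G))
      (P.subtype hPc) (Q.subtype hQc)
    rw [Sylow.smul_subtype hPc h] at hh
    exact ⟨(h : G), Subgroup.mem_centralizer_singleton_iff.1 h.2, Sylow.subtype_injective hh⟩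
  have hsmul : ∀ (a : G) (P : Sylow 2 G) (x : G), x ∈ P → a * x * a⁻¹ ∈ (a • P : Sylow 2 G) := by
    intro a P x hx
    show _ ∈ ((a • P : Sylow 2 G) : Subgroup G)
    rw [Sylow.coe_subgroup_smul]
    exact ⟨x, hx, rfl⟩
  have hcentT : ∀ (a : G), ∀ x ∈ (a • S : Sylow 2 G), x * (a * z * a⁻¹) = a * z * a⁻¹ * x := by
    intro a x hx
    have hx' : a⁻¹ * x * a ∈ (S : Subgroup G) := by
      have := hsmul a⁻¹ _ x hx
      rwa [inv_inv, inv_smul_smul] at this
    calc x * (a * z * a⁻¹) = a * ((a⁻¹ * x * a) * z) * a⁻¹ := by group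
      _ = a * (z * (a⁻¹ * x * a)) * a⁻¹ := by rw [hzS _ hx']
      _ = a * z * a⁻¹ * x := by group
  have key : ∀ g : G, g * z * g⁻¹ ∈ S → g * z * g⁻¹ = z := by
    intro g hg
    set d := g * z * g⁻¹ with hd
    set T := g • S with hT
    -- move `z` into a conjugate of `S` whose distinguished involution is `d`
    obtain ⟨g, hgd, hzT⟩ : ∃ g₁ : G, g₁ * z * g₁⁻¹ = d ∧ z ∈ (g₁ • S : Sylow 2 G) := by
      set D := Subgroup.centralizer ({d} : Set G)
      have hzD : z ∈ D := Subgroup.mem_centralizer_singleton_iff.2 (hzS d hg).symm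
      have hTD : (T : Subgroup G) ≤ D := fun x hx =>
        Subgroup.mem_centralizer_singleton_iff.2 (hcentT g x hx)
      obtain ⟨R, hR⟩ := (IsPGroup.of_card (n := 1)
        (show Nat.card (Subgroup.zpowers (⟨z, hzD⟩ : D)) = 2 ^ 1 by
          rw [Nat.card_zpowers, Subgroup.orderOf_mk, hz, pow_one])).exists_le_sylow
      obtain ⟨h, hh⟩ := MulAction.exists_smul_eq D R (T.subtype hTD)
      have hm : h * ⟨z, hzD⟩ * h⁻¹ ∈ (T.subtype hTD : Sylow 2 D) := by
        rw [← hh]
        show _ ∈ ((h • R : Sylow 2 D) : Subgroup D)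
        rw [Sylow.coe_subgroup_smul]
        exact ⟨⟨z, hzD⟩, hR (Subgroup.mem_zpowers _), rfl⟩
      have hhd : (h : G) * d = d * h := Subgroup.mem_centralizer_singleton_iff.1 h.2
      refine ⟨(h : G)⁻¹ * g, ?_, ?_⟩
      · calc ((h : G)⁻¹ * g) * z * ((h : G)⁻¹ * g)⁻¹ = (h : G)⁻¹ * (g * z * g⁻¹) * h := by group
          _ = (h : G)⁻¹ * (d * h) := by rw [← hd, mul_assoc]
          _ = d := by rw [← hhd, inv_mul_cancel_left]
      · rw [mul_smul, ← hT]
        have := hsmul (h : G)⁻¹ T ((h : G) * z * (h : G)⁻¹) hm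
        rwa [show (h : G)⁻¹ * ((h : G) * z * (h : G)⁻¹) * (h : G)⁻¹⁻¹ = z by group] at this
    by_cases hTS : g • S = S
    · rw [← hgd]; exact hN g hTS
    obtain ⟨U, hU⟩ := hCI S (g • S) (Ne.symm hTS)
    have hdT : d ∈ (g • S : Sylow 2 G) := hgd ▸ hsmul g S z (Subtype.coe_prop c)
    have hUc : ∀ y ∈ (S : Subgroup G) ⊓ (g • S : Sylow 2 G), ∀ x ∈ U, x * y = y * x := by
      intro y hy x hx
      obtain ⟨y', hy', rfl⟩ := hU hy
      exact congrArg Subtype.val (Subgroup.mem_center_iff.1 hy' ⟨x, hx⟩)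
    obtain ⟨k, hk, hkU⟩ := hconj z S U hzS (hUc z ⟨Subtype.coe_prop c, hzT⟩)
    obtain ⟨k', hk', hkU'⟩ := hconj d (g • S) U (by rw [← hgd]; exact hcentT g)
      (hUc d ⟨hg, hdT⟩)
    have hn : (k⁻¹ * (k' * g)) • S = S := by
      rw [mul_smul, mul_smul, hkU', ← hkU, inv_smul_smul]
    have h1 := hN _ hn
    calc d = k' * d * k'⁻¹ := by rw [hk', mul_inv_cancel_right]
      _ = k * ((k⁻¹ * (k' * g)) * z * (k⁻¹ * (k' * g))⁻¹) * k⁻¹ := by rw [← hgd]; group
      _ = z := by rw [h1, hk, mul_inv_cancel_right]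
  intro g
  have h := CfsgLib.ZStar.mem_oddCore_of_sylow S hz (Subtype.coe_prop c) key g
  rw [← QuotientGroup.eq_one_iff] at h
  simp only [QuotientGroup.mk_mul, QuotientGroup.mk_inv] at h ⊢
  rw [mul_inv_eq_one, mul_inv_eq_iff_eq_mul] at h
  rw [← h, mul_inv_cancel_right]

end Cfsg.Agent.S3184
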