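import Cfsg.Statements.S3190
import Mathlib
import Cfsg.Agent.Lib.PGroups.Basic

set_option autoImplicit false
open Cfsg

namespace Cfsg.Agent.S3190

/-- Let p be an odd prime and, inside a finite group, let P be a p-subgroup normalized by a Klein four-group T. Let R be a subgroup of P, normal in P and normalized by T, such that P is the product of R with the centralizer of T in P. If T centralizes the centre of P, then T centralizes the centre of R. -/
theorem result {X : Type*} [Group X] [Finite X]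
    {p : ℕ} (hp : p.Prime) (hodd : Odd p) (P T R : Subgroup X) (hP : IsPGroup p ↥P) (hT : IsKleinFour ↥T)
    (hTP : T ≤ Subgroup.normalizer (P : Set X)) (hRP : R ≤ P) (hRn : (R.subgroupOf P).Normal)
    (hTR : T ≤ Subgroup.normalizer (R : Set X)) (hfac : R ⊔ (P ⊓ Subgroup.centralizer (T : Set X)) = P)
    (hZ : T ≤ Subgroup.centralizer (((Subgroup.center ↥P).map P.subtype : Subgroup X) : Set X)) :
    T ≤ Subgroup.centralizer (((Subgroup.center ↥R).map R.subtype : Subgroup X) : Set X) := by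
  classical
  haveI : Fact p.Prime := ⟨hp⟩
  intro t ht
  rw [Subgroup.mem_centralizer_iff]
  rintro _ ⟨z, hz, rfl⟩
  by_contra hne
  have ht2 : t * t = 1 := by
    have h := Monoid.pow_exponent_eq_one (⟨t, ht⟩ : T)
    rw [hT.exponent_two, pow_two] at h
    exact congrArg Subtype.val h
  have htinv : t⁻¹ = t := inv_eq_of_mul_eq_one_right ht2
  -- `Z(R)` as a set in `X`
  set C : Subgroup X := (Subgroup.center ↥R).map R.subtype with hC
  have hCR : C ≤ R := Subgroup.map_subtype_le _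
  have hCc : ∀ a ∈ C, ∀ r ∈ R, r * a = a * r := by
    rintro _ ⟨a, ha, rfl⟩ r hr
    exact congrArg Subtype.val (Subgroup.mem_center_iff.mp ha ⟨r, hr⟩)
  have hCmem : ∀ a ∈ R, (∀ r ∈ R, r * a = a * r) → a ∈ C := fun a ha h =>
    ⟨⟨a, ha⟩, Subgroup.mem_center_iff.mpr fun r => Subtype.ext (h r r.2), rfl⟩
  have hnormC : ∀ u : X, (∀ r ∈ R, u * r * u⁻¹ ∈ R) → (∀ r ∈ R, u⁻¹ * r * u ∈ R) →
      ∀ a ∈ C, u * a * u⁻¹ ∈ C := by
    intro u h1 h2 a ha
    refine hCmem _ (h1 a (hCR ha)) fun r hr => ?_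
    have h3 := hCc a ha _ (h2 r hr)
    have h4 : u * (u⁻¹ * r * u * a) * u⁻¹ = u * (a * (u⁻¹ * r * u)) * u⁻¹ := by rw [h3]
    simpa [mul_assoc] using h4
  let I : Subgroup X :=
    { carrier := {a | a ∈ C ∧ t * a * t = a⁻¹}
      one_mem' := ⟨C.one_mem, by simp [ht2]⟩
      mul_mem' := fun {a b} ha hb => ⟨C.mul_mem ha.1 hb.1, by
        have e : t * (a * b) * t = (t * a * t) * (t * b * t) := by
          calc t * (a * b) * t = t * a * (t * t) * b * t := by rw [ht2]; simp [mul_assoc]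
            _ = (t * a * t) * (t * b * t) := by simp [mul_assoc]
        rw [e, ha.2, hb.2, mul_inv_rev]
        exact (Commute.inv_inv (show Commute a b from hCc b hb.1 a (hCR ha.1))).eq⟩
      inv_mem' := fun {a} ha => ⟨C.inv_mem ha.1, by
        conv_rhs => rw [← ha.2]
        simp [mul_assoc, htinv]⟩ }
  -- a nontrivial inverted element
  have hzC : (z : X) ∈ C := ⟨z, hz, rfl⟩
  have hRt : ∀ r ∈ R, t * r * t⁻¹ ∈ R := fun r hr => (Subgroup.mem_normalizer_iff.mp (hTR ht) r).mp hr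
  have hRt' : ∀ r ∈ R, t⁻¹ * r * t ∈ R := by
    intro r hr
    rw [htinv]; have := hRt r hr; rwa [htinv] at this
  have htz : t * (z : X) * t ∈ C := by
    have := hnormC t hRt hRt' _ hzC
    rwa [htinv] at this
  set w := (z : X)⁻¹ * (t * (z : X) * t) with hw
  have hwI : w ∈ I := by
    refine ⟨C.mul_mem (C.inv_mem hzC) htz, ?_⟩
    have e : t * w * t = (t * (z : X) * t)⁻¹ * (z : X) := by
      rw [mul_inv_rev, mul_inv_rev, htinv, hw]
      calc t * ((z : X)⁻¹ * (t * (z : X) * t)) * t = t * (z : X)⁻¹ * t * (z : X) * (t * t) := by simp [mul_assoc]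
        _ = t * ((z : X)⁻¹ * t) * (z : X) := by rw [ht2]; simp [mul_assoc]
    rw [e, hw, mul_inv_rev (z : X)⁻¹ (t * (z : X) * t), inv_inv]
  have hw1 : w ≠ 1 := by
    intro h1
    rw [hw, inv_mul_eq_one] at h1
    apply hne
    calc (z : X) * t = t * (z : X) * t * t := by rw [← h1]
      _ = t * (z : X) := by rw [mul_assoc _ t t, ht2, mul_one]
  -- `P` normalizes `I`
  have hIP : I ≤ P := fun a ha => hRP (hCR ha.1)
  have hPI : P ≤ Subgroup.normalizer (I : Set X) := by
    rw [← hfac]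
    refine sup_le ?_ ?_
    · intro r hr
      refine Subgroup.mem_normalizer_iff.mpr fun a => ?_
      constructor
      · intro ha
        rwa [hCc a ha.1 r hr, mul_inv_cancel_right]
      · intro ha
        have h := hCc _ ha.1 r hr
        rw [inv_mul_cancel_right] at h
        have h' : r * a * r⁻¹ = a := by
          apply mul_left_cancel (a := r)
          exact h
        rwa [h'] at ha
    · rintro u ⟨huP, huT⟩
      have hut : t * u = u * t := Subgroup.mem_centralizer_iff.mp huT t ht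
      have key : ∀ v : X, v ∈ P → t * v = v * t → ∀ a ∈ I, v * a * v⁻¹ ∈ I := by
        intro v hv hvt a ha
        have hR1 : ∀ r ∈ R, v * r * v⁻¹ ∈ R := fun r hr =>
          hRn.conj_mem ⟨r, hRP hr⟩ hr ⟨v, hv⟩
        have hR2 : ∀ r ∈ R, v⁻¹ * r * v ∈ R := fun r hr => by
          have := hRn.conj_mem ⟨r, hRP hr⟩ hr ⟨v, hv⟩⁻¹
          simpa [Subgroup.mem_subgroupOf] using this
        refine ⟨hnormC v hR1 hR2 a ha.1, ?_⟩
        have hvt' : v⁻¹ * t = t * v⁻¹ := by rw [inv_mul_eq_iff_eq_mul, ← mul_assoc, ← hvt, mul_inv_cancel_right]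
        calc t * (v * a * v⁻¹) * t = t * v * a * (v⁻¹ * t) := by simp [mul_assoc]
          _ = v * t * a * (t * v⁻¹) := by rw [hvt, hvt']
          _ = v * (t * a * t) * v⁻¹ := by simp [mul_assoc]
          _ = (v * a * v⁻¹)⁻¹ := by rw [ha.2]; simp [mul_assoc]
      refine Subgroup.mem_normalizer_iff.mpr fun a => ⟨key u huP hut a, fun ha => ?_⟩
      have hut' : t * u⁻¹ = u⁻¹ * t := by
        rw [eq_inv_mul_iff_mul_eq, ← mul_assoc, ← hut, mul_inv_cancel_right]
      have := key u⁻¹ (P.inv_mem huP) hut' _ ha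
      simpa [mul_assoc] using this
  haveI : (I.subgroupOf P).Normal := (Subgroup.normal_subgroupOf_iff_le_normalizer hIP).mpr hPI
  haveI : Nontrivial (I.subgroupOf P) := by
    rw [Subgroup.nontrivial_iff_ne_bot]
    intro hbot
    have : (⟨w, hIP hwI⟩ : P) ∈ I.subgroupOf P := hwI
    rw [hbot, Subgroup.mem_bot] at this
    exact hw1 (congrArg Subtype.val this)
  haveI : Nontrivial ↥P := ⟨⟨⟨w, hIP hwI⟩, 1, fun h => hw1 (congrArg Subtype.val h)⟩⟩
  obtain ⟨⟨c, hcI, hc⟩, hc1'⟩ := (Subgroup.ne_bot_iff_exists_ne_one).mp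
    (CfsgLib.PGroups.inf_center_ne_bot hP ((Subgroup.nontrivial_iff_ne_bot (I.subgroupOf P)).mp inferInstance))
  have hc1 : c ≠ 1 := fun h => hc1' (Subtype.ext h)
  have hcI' : (c : X) ∈ I := hcI
  have hct : (c : X) * t = t * c := Subgroup.mem_centralizer_iff.mp (hZ ht) _ ⟨c, hc, rfl⟩
  have hsq : (c : X) = (c : X)⁻¹ := by
    rw [← hcI'.2, mul_assoc, hct, ← mul_assoc, ht2, one_mul]
  have : (c : X) ^ 2 = 1 := by rw [pow_two, ← inv_eq_iff_mul_eq_one, ← hsq]
  have h2 := orderOf_dvd_of_pow_eq_one this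
  obtain ⟨k, hk⟩ := IsPGroup.iff_orderOf.mp hP c
  rw [← Subgroup.orderOf_coe] at hk
  rw [hk] at h2
  rcases Nat.eq_zero_or_pos k with h | h
  · subst h; rw [pow_zero, orderOf_eq_one_iff] at hk; exact hc1 (Subtype.ext hk)
  · have : p ∣ 2 := (dvd_pow_self p h.ne').trans h2
    have := (Nat.prime_dvd_prime_iff_eq hp Nat.prime_two).mp this
    subst this; exact absurd hodd (by decide)

end Cfsg.Agent.S3190
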