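import Cfsg.Statements.S3192
import Cfsg.Agent.Lib.Recog.RankThree.Main

set_option autoImplicit false
open Cfsg

namespace Cfsg.Agent.S3192

/-- Simple groups of conjugate type rank three. For a finite group G consider the set of indices of the centralizers of the non-central elements of G. Then G is a non-abelian simple group for which this set has exactly three members if and only if G is isomorphic to PSL(2, 2^m) for some m ≥ 2. -/
theorem result (G : Type*) [Group G] [Finite G] :
    (IsSimpleGroup G ∧ ¬ IsMulCommutative G ∧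
        Set.ncard {m : ℕ | ∃ x : G, x ∉ Subgroup.center G ∧ m = (Subgroup.centralizer ({x} : Set G)).index} = 3) ↔
      ∃ (m : ℕ) (F : Type) (_ : Field F) (_ : Fintype F), 2 ≤ m ∧ Fintype.card F = 2 ^ m ∧
        Nonempty (G ≃* Matrix.ProjectiveSpecialLinearGroup (Fin 2) F) := by
  constructor
  · rintro ⟨hs, hna, h3⟩
    haveI := hs
    rw [CfsgLib.Recog.RankThree.set_eq (CfsgLib.Recog.RankThree.center_bot hna), Set.ncard_eq_three] at h3
    obtain ⟨a, b, c, hab, hac, hbc, he⟩ := h3
    have hmem : ∀ n, n ∈ ({a, b, c} : Set ℕ) →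
        ∃ x : G, x ≠ 1 ∧ CfsgLib.Recog.ClassSizesPSL.cI x = n := fun n hn => he.symm.subset hn
    refine CfsgLib.Recog.RankThree.psl_of_three hna hab hac hbc (fun x hx => ?_)
      (hmem a (Or.inl rfl)) (hmem b (Or.inr (Or.inl rfl))) (hmem c (Or.inr (Or.inr rfl)))
    simpa using he.subset ⟨x, hx, rfl⟩
  · rintro ⟨m, F, _, _, hm, hF, ⟨e⟩⟩
    have h4 : 4 ≤ Fintype.card F := hF.symm ▸ (Nat.pow_le_pow_right two_pos hm : 2 ^ 2 ≤ 2 ^ m)
    haveI := CfsgLib.Classical.isSimpleGroup_PSL_two (F := F) h4
    haveI hs : IsSimpleGroup G := e.isSimpleGroup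
    have hr := Cfsg.Agent.S2507.result (hF.symm ▸ dvd_pow_self 2 (by omega : m ≠ 0)) h4
    set q := Fintype.card F with hq
    have hna : ¬ IsMulCommutative G := by
      intro hc
      have hall : ∀ g : Matrix.ProjectiveSpecialLinearGroup (Fin 2) F,
          (Subgroup.centralizer ({g} : Set _)).index = 1 := fun g => by
        rw [Subgroup.index_eq_one, Subgroup.centralizer_eq_top_iff_subset]
        rintro y rfl
        refine Subgroup.mem_center_iff.2 fun z => e.symm.injective ?_
        rw [map_mul, map_mul]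
        exact hc.is_comm.comm _ _
      obtain ⟨g, hg⟩ : q ^ 2 - 1 ∈ Set.range (fun g : Matrix.ProjectiveSpecialLinearGroup (Fin 2) F =>
          (Subgroup.centralizer ({g} : Set _)).index) := by rw [hr]; simp
      simp only [hall] at hg
      have := Nat.mul_le_mul h4 h4
      rw [pow_two] at hg
      omega
    refine ⟨hs, hna, ?_⟩
    rw [CfsgLib.Recog.RankThree.set_eq (CfsgLib.Recog.RankThree.center_bot hna)]
    have hq2 : q ^ 2 = q * q := sq q
    have h5 : 4 * q ≤ q * q := Nat.mul_le_mul_right q h4
    have e1 : q * (q + 1) = q * q + q := by ring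
    have e2 : q * (q - 1) = q * q - q := by rw [Nat.mul_sub, mul_one]
    have hset : {n | ∃ x : G, x ≠ 1 ∧ CfsgLib.Recog.ClassSizesPSL.cI x = n} =
        ({q * (q - 1), q ^ 2 - 1, q * (q + 1)} : Set ℕ) := by
      ext n
      have hE : ∀ x : G, CfsgLib.Recog.ClassSizesPSL.cI x =
          (Subgroup.centralizer ({e x} : Set _)).index := fun x =>
        (CfsgLib.Known.SL2ClassSizes.cs_equiv e x).symm
      refine ⟨fun ⟨x, hx, hxn⟩ => ?_, fun hn => ?_⟩
      · have h := hr.subset ⟨e x, rfl⟩
        simp only at h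
        rw [← hE x, hxn] at h
        rcases h with h | h
        · exact absurd (hxn.trans h) (CfsgLib.Recog.RankThree.cI_ne_one hna hx)
        · exact h
      · obtain ⟨g, hg⟩ := hr.symm.subset (Or.inr hn : n ∈ ({1, q * (q - 1), q ^ 2 - 1, q * (q + 1)} : Set ℕ))
        simp only at hg
        refine ⟨e.symm g, fun h => ?_, by rw [hE, e.apply_symm_apply, hg]⟩
        have h1 : n = 1 := by
          rw [← hg, ← e.apply_symm_apply g, ← hE, h]
          exact CfsgLib.Recog.ClassSizesPSL.cI_eq_one_iff.2 (one_mem _)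
        simp only [Set.mem_insert_iff, Set.mem_singleton_iff] at hn
        omega
    rw [hset]
    exact Set.ncard_eq_three.2 ⟨_, _, _, by omega, by omega, by omega, rfl⟩

end Cfsg.Agent.S3192
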