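import Cfsg.Statements.S3193
import Cfsg.Agent.Lib.Recog.RankFour.Main

set_option autoImplicit false
open Cfsg

namespace Cfsg.Agent.S3193

/-- Simple groups of conjugate type rank four. For a finite group G consider the set of indices of the centralizers of the non-central elements of G. Then G is a non-abelian simple group for which this set has exactly four members if and only if G is isomorphic to PSL(2, q) for some odd prime power q ≥ 7. -/
theorem result (G : Type*) [Group G] [Finite G] :
    (IsSimpleGroup G ∧ ¬ IsMulCommutative G ∧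
        Set.ncard {m : ℕ | ∃ x : G, x ∉ Subgroup.center G ∧ m = (Subgroup.centralizer ({x} : Set G)).index} = 4) ↔
      ∃ (F : Type) (_ : Field F) (_ : Fintype F), Odd (Fintype.card F) ∧ 7 ≤ Fintype.card F ∧
        Nonempty (G ≃* Matrix.ProjectiveSpecialLinearGroup (Fin 2) F) := by
  constructor
  · rintro ⟨hs, hna, h4⟩
    haveI := hs
    rw [CfsgLib.Recog.RankThree.set_eq (CfsgLib.Recog.RankThree.center_bot hna)] at h4
    exact CfsgLib.Recog.RankFour.psl_of_four ⟨hna, h4⟩
  · rintro ⟨K, _, _, hodd, h7, ⟨e⟩⟩
    obtain ⟨hs, hF⟩ := CfsgLib.Recog.RankFour.four_of_psl hodd h7 e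
    haveI := hs
    refine ⟨hs, hF.na, ?_⟩
    rw [CfsgLib.Recog.RankThree.set_eq (CfsgLib.Recog.RankThree.center_bot hF.na)]
    exact hF.card

end Cfsg.Agent.S3193
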