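import Cfsg.Statements.S3195
import Mathlib
import Cfsg.Agent.Lib.Core.Zipper
import Cfsg.Agent.Lib.HallGen.Basic

set_option autoImplicit false
set_option maxHeartbeats 1600000
open Cfsg Pointwise

namespace Cfsg.Agent.S3195

--- PRE
theorem odd_pow_two_pow {G : Type*} [Group G] {z : G} (hz : Odd (orderOf z)) {k : ℕ}
    (h : z ^ (2 ^ k) = 1) : z = 1 := by
  apply orderOf_eq_one_iff.1
  exact Nat.Coprime.eq_one_of_dvd ((Nat.coprime_two_right.2 hz).pow_right k) (orderOf_dvd_of_pow_eq_one h)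

theorem commute_of_sq {G : Type*} [Group G] {z w : G} (hz : Odd (orderOf z))
    (h : Commute (z ^ 2) w) : Commute z w := by
  obtain ⟨m, hm⟩ := hz
  have : z = (z ^ 2) ^ (m + 1) := by
    rw [← pow_mul, show 2 * (m + 1) = (2 * m + 1) + 1 by ring, pow_succ, ← hm, pow_orderOf_eq_one, one_mul]
  rw [this]
  exact h.pow_left _

/-- two odd elements of different types are incompatible -/
theorem incompatible {G : Type*} [Group G] (A : Subgroup G) (c d : G)
    (hsq : ∀ a ∈ A, a * a = 1) (hA4 : ∀ a ∈ A, a ≠ 1 → a = c ∨ a = d ∨ a = c * d)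
    (hc : c ∈ A) (hd : d ∈ A)
    (hconj : ∀ g : G, ∀ a ∈ A, a ≠ 1 → ∃ e ∈ A, e ≠ 1 ∧ Commute e (g * a * g⁻¹))
    (x y : G) (hx : Odd (orderOf x)) (hy : Odd (orderOf y)) (hx1 : x ≠ 1) (hy1 : y ≠ 1)
    (hcx : c * x = x * c) (hdx : d * x = x⁻¹ * d) (hdy : d * y = y * d) (hcy : c * y = y⁻¹ * c) :
    False := by
  have hcd : c * d = d * c := by
    have h1 := hsq _ (A.mul_mem hc hd)
    calc c * d = (d * d) * (c * d) * (c * c) := by rw [hsq d hd, hsq c hc, one_mul, mul_one]
      _ = d * ((d * c) * (d * c)) * c := by group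
      _ = d * c := by rw [hsq _ (A.mul_mem hd hc), mul_one]
  have hd1 : d ≠ 1 := fun h => by
    rw [h, one_mul, mul_one] at hdx
    exact hx1 (odd_pow_two_pow hx (k := 1) (by rw [pow_one, pow_two]; nth_rewrite 1 [hdx]; exact inv_mul_cancel x))
  have hcd1 : c * d ≠ 1 := fun h => by
    have hce : c = d⁻¹ := eq_inv_of_mul_eq_one_left h
    have hdd : d⁻¹ = d := inv_eq_of_mul_eq_one_right (hsq d hd)
    rw [hce, hdd, hdx] at hcx
    have : x⁻¹ = x := mul_right_cancel (hcx.trans (show x * d = x * d from rfl))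
    exact hx1 (odd_pow_two_pow hx (k := 1) (by rw [pow_one, pow_two]; nth_rewrite 1 [← this]; exact inv_mul_cancel x))
  -- commutation rules
  have sx : SemiconjBy d x x⁻¹ := hdx
  have sy : SemiconjBy c y y⁻¹ := hcy
  have hcx2 : Commute c (x ^ 2) := Commute.pow_right (show Commute c x from hcx) 2
  have hdy2 : Commute d (y ^ 2)⁻¹ := ((show Commute d y from hdy).pow_right 2).inv_right
  have hdx2 : SemiconjBy d (x ^ 2) (x⁻¹ ^ 2) := sx.pow_right 2
  have hcy2 : SemiconjBy c (y ^ 2) (y⁻¹ ^ 2) := sy.pow_right 2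
  have hxd : x * d * x⁻¹ = x ^ 2 * d := by
    rw [mul_assoc, sx.inv_right.eq, inv_inv, ← mul_assoc, pow_two]
  obtain ⟨e, heA, he1, hec⟩ := hconj (y * x) d hd hd1
  have hec' : Commute (y⁻¹ * e * y) (x ^ 2 * d) := by
    have h2 : Commute e (y * (x ^ 2 * d) * y⁻¹) := by
      convert hec using 1
      rw [← hxd]; group
    show (y⁻¹ * e * y) * (x ^ 2 * d) = (x ^ 2 * d) * (y⁻¹ * e * y)
    calc (y⁻¹ * e * y) * (x ^ 2 * d) = y⁻¹ * (e * (y * (x ^ 2 * d) * y⁻¹)) * y := by group
      _ = y⁻¹ * ((y * (x ^ 2 * d) * y⁻¹) * e) * y := by rw [h2.eq]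
      _ = _ := by group
  have hyc : y⁻¹ * c * y = (y ^ 2)⁻¹ * c := by
    rw [mul_assoc, sy.eq, ← mul_assoc, pow_two, mul_inv_rev]
  have hxy : Commute x y := by
    rcases hA4 e heA he1 with h | h | h <;> rw [h] at hec'
    · rw [hyc] at hec'
      have h3 : (y ^ 2)⁻¹ * x ^ 2 * (c * d) = x ^ 2 * (y ^ 2)⁻¹ * (c * d) := by
        calc (y ^ 2)⁻¹ * x ^ 2 * (c * d) = (y ^ 2)⁻¹ * (x ^ 2 * c) * d := by group
          _ = (y ^ 2)⁻¹ * (c * x ^ 2) * d := by rw [hcx2.eq]
          _ = ((y ^ 2)⁻¹ * c) * (x ^ 2 * d) := by group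
          _ = (x ^ 2 * d) * ((y ^ 2)⁻¹ * c) := hec'.eq
          _ = x ^ 2 * (d * (y ^ 2)⁻¹) * c := by group
          _ = x ^ 2 * ((y ^ 2)⁻¹ * d) * c := by rw [hdy2.eq]
          _ = x ^ 2 * (y ^ 2)⁻¹ * (d * c) := by group
          _ = _ := by rw [hcd]
      have h4 : Commute ((y ^ 2)⁻¹) (x ^ 2) := mul_right_cancel h3
      exact commute_of_sq hx (commute_of_sq hy (Commute.inv_left_iff.1 h4)).symm
    · exfalso
      rw [show y⁻¹ * d * y = d by rw [mul_assoc, hdy, inv_mul_cancel_left]] at hec'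
      have h3 : x⁻¹ ^ 2 * (d * d) = x ^ 2 * (d * d) := by
        calc x⁻¹ ^ 2 * (d * d) = (x⁻¹ ^ 2 * d) * d := by group
          _ = d * (x ^ 2 * d) := by rw [← hdx2.eq, mul_assoc]
          _ = (x ^ 2 * d) * d := hec'.eq
          _ = _ := by group
      have h4 : x⁻¹ ^ 2 = x ^ 2 := mul_right_cancel h3
      refine hx1 (odd_pow_two_pow hx (k := 2) ?_)
      rw [show (2 ^ 2 : ℕ) = 2 + 2 from rfl, pow_add]
      nth_rewrite 1 [← h4]
      rw [inv_pow, inv_mul_cancel]
    · exfalso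
      rw [show y⁻¹ * (c * d) * y = (y ^ 2)⁻¹ * (c * d) by
        calc y⁻¹ * (c * d) * y = y⁻¹ * c * (d * y) := by group
          _ = y⁻¹ * c * y * d := by rw [hdy, ← mul_assoc]
          _ = _ := by rw [hyc, mul_assoc]] at hec'
      have h3 : (y ^ 2)⁻¹ * x⁻¹ ^ 2 * (c * (d * d)) = x ^ 2 * (y ^ 2)⁻¹ * (c * (d * d)) := by
        have hcx2' : Commute c (x⁻¹ ^ 2) := (show Commute c x from hcx).inv_right.pow_right 2
        calc (y ^ 2)⁻¹ * x⁻¹ ^ 2 * (c * (d * d))
            = (y ^ 2)⁻¹ * (x⁻¹ ^ 2 * c) * (d * d) := by group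
          _ = (y ^ 2)⁻¹ * (c * x⁻¹ ^ 2) * (d * d) := by rw [hcx2'.eq]
          _ = (y ^ 2)⁻¹ * c * (x⁻¹ ^ 2 * d) * d := by group
          _ = ((y ^ 2)⁻¹ * (c * d)) * (x ^ 2 * d) := by rw [← hdx2.eq]; group
          _ = (x ^ 2 * d) * ((y ^ 2)⁻¹ * (c * d)) := hec'.eq
          _ = x ^ 2 * (d * (y ^ 2)⁻¹) * (c * d) := by group
          _ = x ^ 2 * ((y ^ 2)⁻¹ * d) * (c * d) := by rw [hdy2.eq]
          _ = x ^ 2 * (y ^ 2)⁻¹ * ((d * c) * d) := by group
          _ = _ := by rw [← hcd, mul_assoc c d d]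
      have h4 : SemiconjBy ((y ^ 2)⁻¹) (x⁻¹ ^ 2) (x ^ 2) := mul_right_cancel h3
      have h4' : SemiconjBy ((y ^ 2)⁻¹) (x ^ 2) (x⁻¹ ^ 2) := by
        have := h4.inv_right
        simpa [inv_pow] using this
      have h5 : SemiconjBy ((y ^ 2)⁻¹ * (y ^ 2)⁻¹) (x ^ 2) (x ^ 2) := h4.mul_left h4'
      rw [← mul_inv_rev, ← pow_two, ← pow_mul] at h5
      have h6 : Commute (y ^ 2) (x ^ 2) := by
        have h7 : Commute ((y ^ 2) ^ 2) (x ^ 2) := by
          rw [← pow_mul]; exact Commute.inv_left_iff.1 h5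
        have hy2 : Odd (orderOf (y ^ 2)) := by
          rw [Nat.Coprime.orderOf_pow (Nat.coprime_two_right.2 hy)]; exact hy
        exact commute_of_sq hy2 h7
      have h8 : x⁻¹ ^ 2 = x ^ 2 := by
        have := h6.inv_left.eq.symm.trans h4'.eq
        exact (mul_right_cancel this).symm
      refine hx1 (odd_pow_two_pow hx (k := 2) ?_)
      rw [show (2 ^ 2 : ℕ) = 2 + 2 from rfl, pow_add]
      nth_rewrite 1 [← h8]
      rw [inv_pow, inv_mul_cancel]
  -- now `v = x y` is inverted by `c d`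
  have hv : Odd (orderOf (x * y)) := Odd.of_dvd_nat (hx.mul hy)
    (hxy.orderOf_mul_dvd_lcm.trans (Nat.lcm_dvd_mul _ _))
  have hsu : SemiconjBy (c * d) (x * y) (x * y)⁻¹ := by
    have h1 : SemiconjBy (c * d) x x⁻¹ := SemiconjBy.mul_left (show SemiconjBy c x⁻¹ x⁻¹ from (show Commute c x from hcx).inv_right) sx
    have h2 : SemiconjBy (c * d) y y⁻¹ := SemiconjBy.mul_left sy (show SemiconjBy d y y from hdy)
    rw [mul_inv_rev, (hxy.inv_inv.symm).eq]
    exact h1.mul_right h2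
  obtain ⟨f, hfA, hf1, hfc⟩ := hconj (x * y) (c * d) (A.mul_mem hc hd) hcd1
  rw [mul_assoc (x * y), hsu.inv_right.eq, inv_inv, ← mul_assoc, ← pow_two] at hfc
  have hfu : Commute f (c * d) := by
    rcases hA4 f hfA hf1 with h | h | h <;> rw [h]
    · exact (Commute.refl c).mul_right hcd
    · exact (show Commute d c from hcd.symm).mul_right (Commute.refl d)
  have hfv : Commute f ((x * y) ^ 2) := by
    have := hfc.mul_right hfu.inv_right
    rwa [mul_inv_cancel_right] at this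
  have hfv' : Commute f (x * y) := (commute_of_sq hv hfv.symm).symm
  rcases hA4 f hfA hf1 with h | h | h <;> rw [h] at hfv'
  · have h1 : Commute c y := by
      have := (show Commute c x⁻¹ from (show Commute c x from hcx).inv_right).mul_right hfv'
      rwa [inv_mul_cancel_left] at this
    have : y⁻¹ = y := mul_right_cancel (hcy.symm.trans h1.eq)
    exact hy1 (odd_pow_two_pow hy (k := 1) (by rw [pow_one, pow_two]; nth_rewrite 1 [← this]; exact inv_mul_cancel y))
  · have h1 : Commute d x := by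
      have := hfv'.mul_right ((show Commute d y from hdy).inv_right)
      rwa [mul_inv_cancel_right] at this
    have : x⁻¹ = x := mul_right_cancel (hdx.symm.trans h1.eq)
    exact hx1 (odd_pow_two_pow hx (k := 1) (by rw [pow_one, pow_two]; nth_rewrite 1 [← this]; exact inv_mul_cancel x))
  · have : (x * y)⁻¹ = x * y := mul_right_cancel (hsu.eq.symm.trans hfv'.eq)
    have hv1 : x * y = 1 := odd_pow_two_pow hv (k := 1) (by rw [pow_one, pow_two]; nth_rewrite 1 [← this]; exact inv_mul_cancel _)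
    have hy' : y = x⁻¹ := eq_inv_of_mul_eq_one_right hv1
    have h1 : Commute c y := hy' ▸ (show Commute c x from hcx).inv_right
    have : y⁻¹ = y := mul_right_cancel (hcy.symm.trans h1.eq)
    exact hy1 (odd_pow_two_pow hy (k := 1) (by rw [pow_one, pow_two]; nth_rewrite 1 [← this]; exact inv_mul_cancel y))

/-- Let A be a Klein four-subgroup of a finite group G. If every G-conjugate of every involution of A commutes with some involution of A (its centralizer meets A nontrivially), then A meets the largest normal 2-subgroup O₂(G) nontrivially. -/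
theorem result {G : Type*} [Group G] [Finite G]
    (A : Subgroup G) (hA : IsKleinFour ↥A)
    (h : ∀ a ∈ A, a ≠ 1 → ∀ g : G, A ⊓ Subgroup.centralizer ({g * a * g⁻¹} : Set G) ≠ ⊥) :
    A ⊓ Cfsg.pCore 2 G ≠ ⊥ := by
  classical
  intro hbot
  haveI := hA
  haveI : Fact (Nat.Prime 2) := ⟨Nat.prime_two⟩
  have hsq : ∀ a ∈ A, a * a = 1 := fun a ha => congrArg Subtype.val (IsKleinFour.mul_self (⟨a, ha⟩ : A))
  have hinv : ∀ a ∈ A, a⁻¹ = a := fun a ha => inv_eq_of_mul_eq_one_right (hsq a ha)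
  have hconj : ∀ g : G, ∀ a ∈ A, a ≠ 1 → ∃ e ∈ A, e ≠ 1 ∧ Commute e (g * a * g⁻¹) := by
    intro g a ha ha1
    have hne := h a ha ha1 g
    rw [Subgroup.ne_bot_iff_exists_ne_one] at hne
    obtain ⟨⟨e, heA, heC⟩, he1⟩ := hne
    refine ⟨e, heA, fun hh => he1 (Subtype.ext hh), ?_⟩
    exact (Subgroup.mem_centralizer_singleton_iff.1 heC)
  have hcomm : ∀ a ∈ A, ∀ b ∈ A, a * b = b * a := fun a ha b hb =>
    congrArg Subtype.val ((IsKleinFour.isMulCommutative (G := A)).is_comm.comm ⟨a, ha⟩ ⟨b, hb⟩)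
  have hA4 : ∀ c ∈ A, c ≠ 1 → ∀ d ∈ A, d ≠ 1 → c ≠ d →
      ∀ a ∈ A, a ≠ 1 → a = c ∨ a = d ∨ a = c * d := by
    intro c hc hc1 d hd hd1 hcd a ha ha1
    by_contra hne
    push Not at hne
    haveI : Fintype A := Fintype.ofFinite _
    have hcard : Fintype.card A = 4 := by rw [← Nat.card_eq_fintype_card]; exact IsKleinFour.card_four
    have h5 := Finset.card_le_univ ({1, ⟨c, hc⟩, ⟨d, hd⟩, ⟨c * d, A.mul_mem hc hd⟩, ⟨a, ha⟩} : Finset A)
    have e1 : c * d ≠ 1 := fun hh => hcd ((eq_inv_of_mul_eq_one_left hh).trans (hinv d hd))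
    have e2 : c * d ≠ c := fun hh => hd1 (mul_eq_left.1 hh)
    have e3 : c * d ≠ d := fun hh => hc1 (mul_eq_right.1 hh)
    rw [Finset.card_insert_of_notMem (by simp [Subtype.ext_iff, Ne.symm hc1, Ne.symm hd1, Ne.symm e1, Ne.symm ha1]),
      Finset.card_insert_of_notMem (by simp [Subtype.ext_iff, hcd, Ne.symm e2, Ne.symm hne.1]),
      Finset.card_insert_of_notMem (by simp [Subtype.ext_iff, Ne.symm e3, Ne.symm hne.2.1]),
      Finset.card_insert_of_notMem (by simp [Subtype.ext_iff, Ne.symm hne.2.2]),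
      Finset.card_singleton] at h5
    omega
  -- every involution of `A` inverts an odd element centralised by another one
  have key : ∀ a ∈ A, a ≠ 1 → ∃ x c, c ∈ A ∧ c ≠ 1 ∧ c ≠ a ∧ Odd (orderOf x) ∧ x ≠ 1 ∧
      a * x = x⁻¹ * a ∧ c * x = x * c := by
    intro a ha ha1
    obtain ⟨g, hg⟩ : ∃ g : G, ¬ ∃ k, orderOf (a * (g * a * g⁻¹)) = 2 ^ k := by
      by_contra hall
      push Not at hall
      have hpa : IsPGroup 2 (Subgroup.zpowers a) :=
        CfsgLib.HallGen.isPGroup_zpowers (k := 1) (by rw [pow_one, orderOf_eq_prime (by rw [pow_two, hsq a ha]) ha1])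
      have hnil : ∀ g : G, Group.IsNilpotent (Subgroup.zpowers a ⊔ MulAut.conj g • Subgroup.zpowers a : Subgroup G) := by
        intro g
        obtain ⟨k, hk⟩ := hall g
        set b := g * a * g⁻¹ with hb
        have hp : IsPGroup 2 (Subgroup.zpowers a ⊔ Subgroup.zpowers (a * b) : Subgroup G) := by
          refine hpa.to_sup_of_normal_right' (CfsgLib.HallGen.isPGroup_zpowers hk) ?_
          rw [Subgroup.zpowers_le]
          have hbb : b * b = 1 := by
            rw [hb]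
            calc g * a * g⁻¹ * (g * a * g⁻¹) = g * (a * a) * g⁻¹ := by group
              _ = 1 := by rw [hsq a ha]; group
          have hba : a * (a * b) * a⁻¹ = (a * b)⁻¹ := by
            rw [mul_inv_rev, hinv a ha, ← mul_assoc, hsq a ha, one_mul,
              inv_eq_of_mul_eq_one_right hbb]
          rw [Subgroup.mem_normalizer_iff]
          intro w
          constructor
          · rintro ⟨i, rfl⟩
            refine ⟨-i, ?_⟩
            show (a * b) ^ (-i) = a * (a * b) ^ i * a⁻¹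
            rw [← conj_zpow, hba, inv_zpow, zpow_neg]
          · rintro ⟨i, hi⟩
            refine ⟨-i, ?_⟩
            have hi' : (a * b) ^ i = a * w * a⁻¹ := hi
            show (a * b) ^ (-i) = w
            calc (a * b) ^ (-i) = ((a * b)⁻¹) ^ i := by rw [inv_zpow, zpow_neg]
              _ = a * (a * b) ^ i * a⁻¹ := by rw [← conj_zpow, hba]
              _ = (a * a) * w * (a⁻¹ * a⁻¹) := by rw [hi']; group
              _ = w := by rw [hinv a ha, hsq a ha, one_mul, mul_one]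
        have hle : (Subgroup.zpowers a ⊔ MulAut.conj g • Subgroup.zpowers a : Subgroup G) ≤
            Subgroup.zpowers a ⊔ Subgroup.zpowers (a * b) := by
          refine sup_le le_sup_left ?_
          rw [show MulAut.conj g • Subgroup.zpowers a = Subgroup.zpowers b from MonoidHom.map_zpowers _ a,
            Subgroup.zpowers_le]
          have := Subgroup.mul_mem _ (Subgroup.mem_sup_left (Subgroup.mem_zpowers a))
            (Subgroup.mem_sup_right (S := Subgroup.zpowers a) (Subgroup.mem_zpowers (a * b)))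
          rwa [show a * (a * b) = b by rw [← mul_assoc a a b, hsq a ha, one_mul]] at this
        exact (hp.to_le hle).isNilpotent
      have hfit := (CfsgLib.Core.isSubnormal_of_nilpotent_join hnil).2 (Subgroup.mem_zpowers a)
      have hmem := CfsgLib.HallGen.mem_pCore_of_mem_nilpotent_normal (p := 2) (k := 1)
        (CfsgLib.HallGen.fittingSubgroup_normal') CfsgLib.HallGen.isNilpotent_fittingSubgroup hfit
        (by rw [pow_one, orderOf_eq_prime (by rw [pow_two, hsq a ha]) ha1])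
      have : a ∈ A ⊓ Cfsg.pCore 2 G := ⟨ha, hmem⟩
      rw [hbot, Subgroup.mem_bot] at this
      exact ha1 this
    set b := g * a * g⁻¹ with hb
    obtain ⟨e, m, he, hoe⟩ := Nat.exists_eq_two_pow_mul_odd (orderOf_pos (a * b)).ne'
    have hm1 : m ≠ 1 := fun hm => hg ⟨e, by rw [hoe, hm, mul_one]⟩
    set x := (a * b) ^ (2 ^ e) with hx
    have hxo : orderOf x = m := by
      rw [hx, orderOf_pow_of_dvd (by positivity) ⟨m, hoe⟩, hoe, Nat.mul_div_cancel_left _ (by positivity)]
    have hx1 : x ≠ 1 := fun hh => hm1 (by rw [← hxo, hh, orderOf_one])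
    have hxodd : Odd (orderOf x) := hxo ▸ he
    have hbb : b * b = 1 := by
      rw [hb]
      calc g * a * g⁻¹ * (g * a * g⁻¹) = g * (a * a) * g⁻¹ := by group
        _ = 1 := by rw [hsq a ha]; group
    have hsab : SemiconjBy a (a * b) (a * b)⁻¹ := by
      show a * (a * b) = (a * b)⁻¹ * a
      rw [mul_inv_rev, hinv a ha, inv_eq_of_mul_eq_one_right hbb, ← mul_assoc, hsq a ha, one_mul, mul_assoc, hsq a ha, mul_one]
    have hax : SemiconjBy a x x⁻¹ := by
      rw [hx, ← inv_pow]; exact hsab.pow_right _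
    obtain ⟨j, hj⟩ : ∃ j : ℕ, (x ^ j) ^ 2 = x := by
      obtain ⟨i, hi⟩ := hxodd
      exact ⟨i + 1, by rw [← pow_mul, show (i + 1) * 2 = (2 * i + 1) + 1 by ring, pow_succ, ← hi, pow_orderOf_eq_one, one_mul]⟩
    obtain ⟨c, hcA, hc1, hcc⟩ := hconj (x ^ j) a ha ha1
    have hconjx : x ^ j * a * (x ^ j)⁻¹ = x * a := by
      rw [mul_assoc, (hax.pow_right j).inv_right.eq, inv_pow, inv_inv, ← mul_assoc, ← pow_two, hj]
    rw [hconjx] at hcc
    have hca : Commute c x := by
      have := hcc.mul_right (show Commute c a from hcomm c hcA a ha).inv_right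
      rwa [mul_inv_cancel_right] at this
    have hne : c ≠ a := fun hh => by
      rw [hh] at hca
      have : x⁻¹ = x := mul_right_cancel (hax.eq.symm.trans hca.eq)
      exact hx1 (odd_pow_two_pow hxodd (k := 1) (by rw [pow_one, pow_two]; nth_rewrite 1 [← this]; exact inv_mul_cancel x))
    exact ⟨x, c, hcA, hc1, hne, hxodd, hx1, hax.eq, hca.eq⟩
  obtain ⟨a, ha1⟩ : ∃ a : A, a ≠ 1 := by
    haveI : Nontrivial A := Finite.one_lt_card_iff_nontrivial.1 (by rw [IsKleinFour.card_four]; norm_num)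
    exact exists_ne 1
  obtain ⟨x, c, hc, hc1, hca, hx, hx1, hax, hcx⟩ := key a a.2 (fun hh => ha1 (Subtype.ext hh))
  obtain ⟨y, d, hd, hd1, hdc, hy, hy1, hcy, hdy⟩ := key c hc hc1
  have hdx : d * x = x⁻¹ * d := by
    rcases hA4 a a.2 (fun hh => ha1 (Subtype.ext hh)) c hc hc1 (Ne.symm hca) d hd hd1 with hh | hh | hh
    · rw [hh]; exact hax
    · exact absurd hh hdc
    · rw [hh, mul_assoc, hcx, ← mul_assoc, hax, mul_assoc]
  exact incompatible A c d hsq (hA4 c hc hc1 d hd hd1 (Ne.symm hdc)) hc hd hconj x y hx hy hx1 hy1 hcx hdx hdy hcy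

end Cfsg.Agent.S3195
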