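import Cfsg.Statements.S3196
import Mathlib

set_option autoImplicit false
open Cfsg

namespace Cfsg.Agent.S3196

--- PRE
variable {G : Type*} [Group G]

/-- elementwise commuting subgroups -/
def Comm (X Y : Subgroup G) : Prop := ∀ x ∈ X, ∀ y ∈ Y, x * y = y * x

theorem Comm.symm {X Y : Subgroup G} (h : Comm X Y) : Comm Y X :=
  fun y hy x hx => (h x hx y hy).symm

theorem Comm.sup {X Y Z W : Subgroup G} (h1 : Comm X W) (h2 : Comm Y W) (hZ : Z ≤ X ⊔ Y) :
    Comm Z W := by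
  intro z hz w hw
  have : X ⊔ Y ≤ Subgroup.centralizer (W : Set G) :=
    sup_le (fun x hx => Subgroup.mem_centralizer_iff.2 fun v hv => (h1 x hx v hv).symm)
      (fun x hx => Subgroup.mem_centralizer_iff.2 fun v hv => (h2 x hx v hv).symm)
  exact ((Subgroup.mem_centralizer_iff.1 (this (hZ hz))) w hw).symm

theorem mem_sup_comm {X Y : Subgroup G} (h : Comm X Y) {u : G} (hu : u ∈ X ⊔ Y) :
    ∃ x ∈ X, ∃ y ∈ Y, u = x * y := by
  have hle : X ≤ Subgroup.normalizer (Y : Set G) := by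
    intro x hx
    rw [Subgroup.mem_normalizer_iff]
    intro y
    constructor
    · intro hy
      rwa [h x hx y hy, mul_inv_cancel_right]
    · intro hy
      have := h x⁻¹ (X.inv_mem hx) _ hy
      have h2 : x⁻¹ * (x * y * x⁻¹) * x = y := by group
      rw [this, mul_assoc, inv_mul_cancel, mul_one] at h2
      rwa [← h2]
  rw [← SetLike.mem_coe, Subgroup.coe_mul_of_left_le_normalizer_right X Y hle] at hu
  obtain ⟨x, hx, y, hy, rfl⟩ := Set.mem_mul.1 hu
  exact ⟨x, hx, y, hy, rfl⟩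

theorem eq_of_mem_prime {p : ℕ} (hp : p.Prime) {X : Subgroup G} (hX : Nat.card X = p) {x : G}
    (hx : x ∈ X) (hx1 : x ≠ 1) : X = Subgroup.zpowers x := by
  haveI : Finite X := Nat.finite_of_card_ne_zero (hX ▸ hp.ne_zero)
  refine (Subgroup.eq_of_le_of_card_ge (Subgroup.zpowers_le.2 hx) ?_).symm
  rw [hX, Nat.card_zpowers]
  rcases (Nat.dvd_prime hp).1 (hX ▸ Subgroup.orderOf_dvd_natCard X hx) with h | h
  · exact absurd (orderOf_eq_one_iff.1 h) hx1
  · exact h.ge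

theorem le_sup_of_le_sup {p : ℕ} (hp : p.Prime) {X Y U : Subgroup G} (hY : Nat.card Y = p)
    (hX : Nat.card X = p) (hU : Nat.card U = p) (h : Comm X Y) (hle : U ≤ X ⊔ Y) (hne : U ≠ X) :
    Y ≤ X ⊔ U := by
  obtain ⟨u, hu, hu1⟩ : ∃ u ∈ U, u ≠ (1 : G) := by
    by_contra hc
    push Not at hc
    have : U = ⊥ := (Subgroup.eq_bot_iff_forall U).2 hc
    rw [this, Subgroup.card_bot] at hU
    exact hp.one_lt.ne hU
  obtain ⟨x, hx, y, hy, rfl⟩ := mem_sup_comm h (hle hu)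
  have hy1 : y ≠ 1 := fun hc => hne (by
    subst hc
    rw [mul_one] at hu hu1
    rw [eq_of_mem_prime hp hU hu hu1, eq_of_mem_prime hp hX hx hu1])
  rw [eq_of_mem_prime hp hY hy hy1, Subgroup.zpowers_le]
  have := Subgroup.mul_mem (X ⊔ U) (Subgroup.mem_sup_left (X.inv_mem hx)) (Subgroup.mem_sup_right hu)
  rwa [inv_mul_cancel_left] at this

/-- Let p be a prime and K a set of subgroups of order p of a finite group G, closed under conjugation, such that at least two distinct members of K commute elementwise, and whenever two distinct members X, Y of K commute: every subgroup of order p of the group XY they generate belongs to K, and every member W of K has centralizer meeting XY nontrivially. Then some member V of K commutes elementwise with every member of K and lies in O_p(G); in particular G is not simple. -/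
theorem result {G : Type*} [Group G] [Finite G]
    {p : ℕ} (hp : p.Prime) (K : Set (Subgroup G)) (hK : ∀ X ∈ K, Nat.card ↥X = p)
    (hKc : ∀ X ∈ K, ∀ g : G, X.map (MulAut.conj g).toMonoidHom ∈ K)
    (hex : ∃ X ∈ K, ∃ Y ∈ K, X ≠ Y ∧ ∀ x ∈ X, ∀ y ∈ Y, x * y = y * x)
    (ha : ∀ X ∈ K, ∀ Y ∈ K, X ≠ Y → (∀ x ∈ X, ∀ y ∈ Y, x * y = y * x) →
      ∀ Z : Subgroup G, Z ≤ X ⊔ Y → Nat.card ↥Z = p → Z ∈ K)
    (hb : ∀ X ∈ K, ∀ Y ∈ K, X ≠ Y → (∀ x ∈ X, ∀ y ∈ Y, x * y = y * x) →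
      ∀ W ∈ K, (X ⊔ Y) ⊓ Subgroup.centralizer (W : Set G) ≠ ⊥) :
    (∃ V ∈ K, (∀ W ∈ K, ∀ v ∈ V, ∀ w ∈ W, v * w = w * v) ∧ V ≤ Cfsg.pCore p G) ∧ ¬ IsSimpleGroup G := by
  classical
  haveI := Fact.mk hp
  have hgen : ∀ X ∈ K, ∃ x ∈ X, x ≠ (1 : G) ∧ X = Subgroup.zpowers x := by
    intro X hX
    obtain ⟨⟨x, hx⟩, hx1⟩ : ∃ x : X, x ≠ 1 := by
      haveI : Nontrivial X := Finite.one_lt_card_iff_nontrivial.1 (by rw [hK X hX]; exact hp.one_lt)
      exact exists_ne 1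
    have hx1' : x ≠ 1 := fun h => hx1 (Subtype.ext h)
    exact ⟨x, hx, hx1', eq_of_mem_prime hp (hK X hX) hx hx1'⟩
  have hself : ∀ X ∈ K, Comm X X := by
    intro X hX
    obtain ⟨x, -, -, rfl⟩ := hgen X hX
    rintro _ ⟨i, rfl⟩ _ ⟨j, rfl⟩
    exact ((Commute.refl x).zpow_zpow i j).eq
  have hpow : ∀ X ∈ K, ∀ x ∈ X, x ^ p = 1 := fun X hX x hx =>
    orderOf_dvd_iff_pow_eq_one.1 (hK X hX ▸ Subgroup.orderOf_dvd_natCard X hx)
  have hpt : ∀ X ∈ K, ∀ Y ∈ K, X ≠ Y → Comm X Y → ∀ W ∈ K, ∃ Z ∈ K, Z ≤ X ⊔ Y ∧ Comm Z W := by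
    intro X hX Y hY hne hcm W hW
    obtain ⟨⟨e, he1, he2⟩, he⟩ := Subgroup.ne_bot_iff_exists_ne_one.1 (hb X hX Y hY hne hcm W hW)
    have he' : e ≠ 1 := fun h => he (Subtype.ext h)
    obtain ⟨x, hx, y, hy, hxy⟩ := mem_sup_comm hcm he1
    have hep : e ^ p = 1 := by
      rw [hxy, (show Commute x y from hcm x hx y hy).mul_pow, hpow X hX x hx, hpow Y hY y hy, one_mul]
    have hle : Subgroup.zpowers e ≤ X ⊔ Y := Subgroup.zpowers_le.2 he1
    refine ⟨_, ha X hX Y hY hne hcm _ hle (by rw [Nat.card_zpowers, orderOf_eq_prime hep he']), hle, ?_⟩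
    rintro _ ⟨i, rfl⟩ w hw
    exact ((show Commute e w from ((Subgroup.mem_centralizer_iff.1 he2) w hw).symm).zpow_left i).eq
  obtain ⟨V, hV, hVall⟩ : ∃ V ∈ K, ∀ W ∈ K, Comm V W := by
    by_contra hno
    push Not at hno
    let perp : Subgroup G → ℕ := fun X => {W | W ∈ K ∧ Comm X W}.ncard
    have hfin : K.Finite := Set.toFinite K
    obtain ⟨X0, hX0, Y0, hY0, hne0, hc0⟩ := hex
    obtain ⟨X, hX, hXmax⟩ := Set.exists_max_image K perp hfin ⟨X0, hX0⟩
    obtain ⟨Q, ⟨hQ, hQX⟩, hQmax⟩ := Set.exists_max_image {Q | Q ∈ K ∧ ¬ Comm X Q} perp (Set.toFinite _)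
      (let ⟨W, hW, hW'⟩ := hno X hX; ⟨W, hW, hW'⟩)
    obtain ⟨x0, hx0, hx01, hXgen⟩ := hgen X hX
    let Q' := Q.map (MulAut.conj x0).toMonoidHom
    have hQ' : Q' ∈ K := hKc Q hQ x0
    have hQQ' : Q' ≠ Q := by
      intro h
      apply hQX
      -- an element of order p normalising a group of order p centralises it
      obtain ⟨q, hq, hq1, hQgen⟩ := hgen Q hQ
      have hmem : x0 * q * x0⁻¹ ∈ Q := h ▸ ⟨q, hq, rfl⟩
      obtain ⟨k, hk⟩ := hQgen ▸ hmem
      have hk' : q ^ k = x0 * q * x0⁻¹ := hk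
      have hiter : ∀ j : ℕ, x0 ^ j * q * (x0 ^ j)⁻¹ = q ^ (k ^ j) := by
        intro j
        induction j with
        | zero => simp
        | succ j ih =>
          calc x0 ^ (j + 1) * q * (x0 ^ (j + 1))⁻¹ = x0 * (x0 ^ j * q * (x0 ^ j)⁻¹) * x0⁻¹ := by
                rw [pow_succ']; group
            _ = x0 * q ^ (k ^ j) * x0⁻¹ := by rw [ih]
            _ = (x0 * q * x0⁻¹) ^ (k ^ j) := conj_zpow.symm
            _ = q ^ (k ^ (j + 1)) := by rw [← hk', ← _root_.zpow_mul, pow_succ']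
      have hp' := hiter p
      rw [hpow X hX x0 hx0, one_mul, inv_one, mul_one] at hp'
      have hqo : orderOf q = p := by rw [← Nat.card_zpowers, ← hQgen, hK Q hQ]
      have hkk : (k : ZMod p) = 1 := by
        have h1 : q ^ (1 : ℤ) = q ^ (k ^ p) := by rw [zpow_one]; exact hp'
        rw [zpow_eq_zpow_iff_modEq, hqo, ← ZMod.intCast_eq_intCast_iff] at h1
        rw [Int.cast_pow, ZMod.pow_card, Int.cast_one] at h1
        exact h1.symm
      have hcx : Commute x0 q := by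
        have : q ^ k = q ^ (1 : ℤ) := by
          rw [zpow_eq_zpow_iff_modEq, hqo, ← ZMod.intCast_eq_intCast_iff, Int.cast_one, hkk]
        rw [hk', zpow_one] at this
        exact mul_inv_eq_iff_eq_mul.1 this
      rw [hXgen, hQgen]
      rintro _ ⟨i, rfl⟩ _ ⟨j, rfl⟩
      exact (hcx.zpow_zpow i j).eq
    -- whatever commutes with `Q` commutes with `Q'`
    have hstep : ∀ T ∈ K, T ≠ Q → Comm Q T → Comm Q' T := by
      intro T hT hTQ hQT
      by_cases hTX : Comm X T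
      · rintro _ ⟨q, hq, rfl⟩ t ht
        show x0 * q * x0⁻¹ * t = t * (x0 * q * x0⁻¹)
        have h1 : Commute x0 t := hTX x0 hx0 t ht
        exact ((h1.mul_left (hQT q hq t ht)).mul_left h1.inv_left).eq
      obtain ⟨S, hS, hSle, hSX⟩ := hpt Q hQ T hT (Ne.symm hTQ) hQT X hX
      obtain ⟨Z, hZ, hZX, hZT, hZQ⟩ : ∃ Z ∈ K, Comm X Z ∧ Comm Z T ∧ ¬ Comm Z Q := by
        by_contra hc
        push Not at hc
        -- then `S` would commute with more than `X`
        have hsub : ∀ Y ∈ K, Comm X Y → Comm S Y := by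
          intro Y hY hXY
          by_cases hXY' : X = Y
          · exact hXY' ▸ hSX
          obtain ⟨U, hU, hUle, hUT⟩ := hpt X hX Y hY hXY' hXY T hT
          have hUX : U ≠ X := fun h => hTX (h ▸ hUT)
          have hXU : Comm X U := (Comm.sup (hself X hX) hXY.symm hUle).symm
          have hUQ : Comm U Q := hc U hU hXU hUT
          have hUS : Comm U S := (Comm.sup hUQ.symm hUT.symm hSle).symm
          exact (Comm.sup hSX.symm hUS (le_sup_of_le_sup hp (hK Y hY) (hK X hX) (hK U hU) hXY hUle hUX)).symm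
        have : perp X < perp S := by
          refine Set.ncard_lt_ncard ⟨fun W hW => ⟨hW.1, hsub W hW.1 hW.2⟩, fun h => hQX ?_⟩ (Set.toFinite _)
          exact (h ⟨hQ, Comm.sup (hself Q hQ) hQT.symm hSle⟩).2
        exact absurd (hXmax S hS) (by omega)
      obtain ⟨R, hR, hRle, hRQ⟩ := hpt X hX Z hZ (fun h => hTX (h ▸ hZT)) hZX Q hQ
      obtain ⟨r, hr, hr1, hRgen⟩ := hgen R hR
      obtain ⟨x, hx, z, hz, hxz⟩ := mem_sup_comm hZX (hRle hr)
      have hx1 : x ≠ 1 := fun h => hZQ (by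
        subst h
        rw [one_mul] at hxz
        rw [eq_of_mem_prime hp (hK Z hZ) hz (hxz ▸ hr1), ← hxz, ← hRgen]
        exact hRQ)
      obtain ⟨i, hi⟩ : x0 ∈ Subgroup.zpowers x := eq_of_mem_prime hp (hK X hX) hx hx1 ▸ hx0
      rintro _ ⟨q, hq, rfl⟩ t ht
      show x0 * q * x0⁻¹ * t = t * (x0 * q * x0⁻¹)
      have h1 : r ^ i = x0 * z ^ i := by
        rw [hxz, (show Commute x z from hZX x hx z hz).mul_zpow]
        exact congrArg (· * z ^ i) hi
      have h2 : Commute (r ^ i) q := (show Commute r q from hRQ r hr q hq).zpow_left i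
      have h3 : x0 * q * x0⁻¹ = z ^ (-i) * q * z ^ i := by
        have hzx : Commute x0 (z ^ i) := (show Commute x0 z from hZX x0 hx0 z hz).zpow_right i
        have hx0' : x0 = r ^ i * z ^ (-i) := by rw [h1, mul_assoc, ← zpow_add, add_neg_cancel, zpow_zero, mul_one]
        have hz2 : r ^ i * z ^ (-i) = z ^ (-i) * r ^ i := by
          rw [h1, zpow_neg, mul_inv_cancel_right, hzx.eq, inv_mul_cancel_left]
        calc x0 * q * x0⁻¹ = (z ^ (-i) * r ^ i) * q * (z ^ (-i) * r ^ i)⁻¹ := by rw [← hz2, ← hx0']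
          _ = z ^ (-i) * (r ^ i * q * (r ^ i)⁻¹) * (z ^ (-i))⁻¹ := by group
          _ = _ := by rw [h2.eq, mul_inv_cancel_right, zpow_neg, inv_inv]
      rw [h3]
      have hzt : Commute z t := hZT z hz t ht
      exact (((hzt.zpow_left (-i)).mul_left (hQT q hq t ht)).mul_left (hzt.zpow_left i)).eq
    -- `Q` has a neighbour
    obtain ⟨T, hT, hTQ, hQT⟩ : ∃ T ∈ K, T ≠ Q ∧ Comm Q T := by
      obtain ⟨Z, hZ, hZle, hZQ⟩ := hpt X0 hX0 Y0 hY0 hne0 hc0 Q hQ
      by_cases hZne : Z = Q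
      · subst hZne
        rcases eq_or_ne X0 Z with h | h
        · subst h
          exact ⟨Y0, hY0, Ne.symm hne0, hc0⟩
        · exact ⟨X0, hX0, h, Comm.sup (hself X0 hX0) (Comm.symm hc0) hZle⟩
      · exact ⟨Z, hZ, hZne, hZQ.symm⟩
    have hQ'Q : Comm Q' Q := by
      obtain ⟨q, hq, hq1, hQg⟩ := hgen Q hQ
      obtain ⟨t, ht, ht1, hTg⟩ := hgen T hT
      have hqt : Commute q t := hQT q hq t ht
      have hne1 : q * t ≠ 1 := fun h => hTQ (by
        rw [hTg, hQg, eq_inv_of_mul_eq_one_right h, Subgroup.zpowers_inv])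
      have hle : Subgroup.zpowers (q * t) ≤ Q ⊔ T :=
        Subgroup.zpowers_le.2 (Subgroup.mul_mem _ (Subgroup.mem_sup_left hq) (Subgroup.mem_sup_right ht))
      have hU := ha Q hQ T hT (Ne.symm hTQ) hQT (Subgroup.zpowers (q * t)) hle
        (by rw [Nat.card_zpowers, orderOf_eq_prime (by rw [hqt.mul_pow, hpow Q hQ q hq, hpow T hT t ht, one_mul]) hne1])
      have hUQ : Subgroup.zpowers (q * t) ≠ Q := fun h => by
        have hmem : q * t ∈ Q := h ▸ Subgroup.mem_zpowers _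
        have : t ∈ Q := by simpa using Q.mul_mem (Q.inv_mem hq) hmem
        exact hTQ (by rw [hTg, eq_of_mem_prime hp (hK Q hQ) this ht1])
      intro q' hq' v hv
      rw [hQg] at hv
      obtain ⟨j, rfl⟩ := hv
      have h1 : Commute q' (q * t) := (hstep _ hU hUQ (Comm.sup (hself Q hQ) hQT.symm hle).symm) q' hq' _ (Subgroup.mem_zpowers _)
      have h2 : Commute q' t := hstep T hT hTQ hQT q' hq' t ht
      have h3 : Commute q' q := by
        have := h1.mul_right h2.inv_right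
        rwa [mul_inv_cancel_right] at this
      exact (h3.zpow_right j).eq
    have hall : ∀ W ∈ K, Comm Q W → Comm Q' W := fun W hW h => by
      by_cases hWQ : W = Q
      · exact hWQ ▸ hQ'Q
      · exact hstep W hW hWQ h
    obtain ⟨R, hR, hRle, hRX⟩ := hpt Q hQ Q' hQ' (Ne.symm hQQ') hQ'Q.symm X hX
    obtain ⟨U, hU, hRU⟩ := hno R hR
    have hRsub : ∀ W ∈ K, Comm Q W → Comm R W := fun W hW h => Comm.sup h (hall W hW h) hRle
    obtain ⟨Q1, hQ1, hQ1le, hQ1U⟩ := hpt Q hQ R hR (fun h => hQX (h ▸ hRX.symm)) (hRsub Q hQ (hself Q hQ)).symm U hU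
    have hQ1R : Q1 ≠ R := fun h => hRU (h ▸ hQ1U)
    have hQ1X : ¬ Comm X Q1 := fun h => hQX (by
      have hQle : Q ≤ R ⊔ Q1 := le_sup_of_le_sup hp (hK Q hQ) (hK R hR) (hK Q1 hQ1)
        (hRsub Q hQ (hself Q hQ)) (by rwa [sup_comm]) hQ1R
      exact (Comm.sup hRX h.symm hQle).symm)
    have : perp Q < perp Q1 := by
      refine Set.ncard_lt_ncard ⟨fun W hW => ⟨hW.1, Comm.sup hW.2 (hRsub W hW.1 hW.2) hQ1le⟩, fun h => hRU ?_⟩ (Set.toFinite _)
      exact hRsub U hU (h ⟨hU, hQ1U⟩).2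
    exact absurd (hQmax Q1 ⟨hQ1, hQ1X⟩) (by omega)
  let N := Subgroup.normalClosure (V : Set G)
  have hNcomm : IsMulCommutative N := by
    have hc : ∀ u ∈ Group.conjugatesOfSet (V : Set G), ∀ w ∈ Group.conjugatesOfSet (V : Set G), u * w = w * u := by
      intro u hu w hw
      obtain ⟨u', hu', hcu⟩ := Group.mem_conjugatesOfSet_iff.1 hu
      obtain ⟨w', hw', hcw⟩ := Group.mem_conjugatesOfSet_iff.1 hw
      obtain ⟨g, rfl⟩ := isConj_iff.1 hcu
      obtain ⟨k, rfl⟩ := isConj_iff.1 hcw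
      have h := hVall (V.map (MulAut.conj (g⁻¹ * k)).toMonoidHom) (hKc V hV _) u' hu' _ ⟨w', hw', rfl⟩
      have h' : u' * (g⁻¹ * k * w' * (g⁻¹ * k)⁻¹) = g⁻¹ * k * w' * (g⁻¹ * k)⁻¹ * u' := h
      calc g * u' * g⁻¹ * (k * w' * k⁻¹) = g * (u' * (g⁻¹ * k * w' * (g⁻¹ * k)⁻¹)) * g⁻¹ := by group
        _ = g * (g⁻¹ * k * w' * (g⁻¹ * k)⁻¹ * u') * g⁻¹ := by rw [h']
        _ = _ := by group
    exact Subgroup.isMulCommutative_closure hc
  have hexp : ∀ u ∈ N, u ^ p = 1 := by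
    intro u hu
    induction hu using Subgroup.closure_induction with
    | mem y hy =>
      obtain ⟨y', hy', hcy⟩ := Group.mem_conjugatesOfSet_iff.1 hy
      obtain ⟨g, rfl⟩ := isConj_iff.1 hcy
      rw [conj_pow, hpow V hV y' hy', mul_one, mul_inv_cancel]
    | one => exact one_pow p
    | mul a b ha' hb' iha ihb =>
      have hab : Commute a b := congrArg Subtype.val (hNcomm.is_comm.comm ⟨a, ha'⟩ ⟨b, hb'⟩)
      rw [hab.mul_pow, iha, ihb, one_mul]
    | inv a _ iha => rw [inv_pow, iha, inv_one]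
  have hNp : IsPGroup p N := fun u => ⟨1, by rw [pow_one]; exact Subtype.ext (hexp u u.2)⟩
  have hVN : V ≤ N := Subgroup.le_normalClosure
  refine ⟨⟨V, hV, hVall, hVN.trans (le_sSup ⟨inferInstance, hNp⟩)⟩, fun hsimp => ?_⟩
  obtain ⟨v, hv, hv1, hVgen⟩ := hgen V hV
  rcases hsimp.eq_bot_or_eq_top_of_normal N inferInstance with h | h
  · exact hv1 ((Subgroup.eq_bot_iff_forall N).1 h v (hVN hv))
  have hGc : ∀ a b : G, a * b = b * a := fun a b => congrArg Subtype.val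
    (hNcomm.is_comm.comm ⟨a, h ▸ Subgroup.mem_top a⟩ ⟨b, h ▸ Subgroup.mem_top b⟩)
  obtain ⟨X, hX, Y, hY, hne, -⟩ := hex
  have htop : ∀ W ∈ K, W = ⊤ := by
    intro W hW
    obtain ⟨w, hw, hw1, -⟩ := hgen W hW
    have hn : W.Normal := ⟨fun a ha' g => by rwa [hGc g a, mul_inv_cancel_right]⟩
    rcases hsimp.eq_bot_or_eq_top_of_normal W hn with h' | h'
    · exact absurd ((Subgroup.eq_bot_iff_forall W).1 h' w hw) hw1
    · exact h'
  exact hne ((htop X hX).trans (htop Y hY).symm)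

end Cfsg.Agent.S3196
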