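import Cfsg.Statements.S3200
import Mathlib
import Cfsg.Agent.Lib.SolvStruct.NilProduct
import Cfsg.Agent.Lib.Core.Hall

set_option autoImplicit false
open Cfsg

namespace Cfsg.Agent.S3200

--- PRE
open scoped Pointwise

theorem isComplement'_of_mul_coprime {G : Type*} [Group G] [Finite G] {A B : Subgroup G}
    (hcop : (Nat.card A).Coprime (Nat.card B)) (h : ∀ g : G, ∃ a ∈ A, ∃ b ∈ B, g = a * b) :
    Subgroup.IsComplement' A B := by
  refine Subgroup.isComplement'_of_disjoint_and_mul_eq_univ (disjoint_iff.2 ?_) ?_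
  · exact Subgroup.inf_eq_bot_of_coprime hcop
  · ext g
    simp only [Set.mem_univ, iff_true]
    obtain ⟨a, ha, b, hb, rfl⟩ := h g
    exact Set.mul_mem_mul ha hb

/-- Let H be a finite group in which a Sylow 2-subgroup has an abelian complement (an abelian subgroup meeting it trivially whose product with it is all of H). Then H is solvable, and every subgroup and every quotient group of H again has a Sylow 2-subgroup with an abelian complement. -/
theorem result {H : Type*} [Group H] [Finite H]
    (S : Sylow 2 H) (C : Subgroup H) (hC : IsMulCommutative ↥C) (hSC : Subgroup.IsComplement' (S : Subgroup H) C) :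
    Group.IsSolvable H ∧
    (∀ L : Subgroup H, ∃ (P : Sylow 2 ↥L) (D : Subgroup ↥L), IsMulCommutative ↥D ∧ Subgroup.IsComplement' (P : Subgroup ↥L) D) ∧
    (∀ (N : Subgroup H) [N.Normal], ∃ (P : Sylow 2 (H ⧸ N)) (D : Subgroup (H ⧸ N)),
      IsMulCommutative ↥D ∧ Subgroup.IsComplement' (P : Subgroup (H ⧸ N)) D) := by
  have hidx : (C : Subgroup H).index = Nat.card (S : Subgroup H) := hSC.index_eq_card
  have hcard : Nat.card (S : Subgroup H) * Nat.card C = Nat.card H := hSC.card_mul
  have hcop : (Nat.card (S : Subgroup H)).Coprime (Nat.card C) := by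
    rw [← hSC.symm.index_eq_card]
    exact S.card_coprime_index
  have hSC' : ∀ g : H, ∃ a ∈ (S : Subgroup H), ∃ b ∈ C, g = a * b := by
    intro g
    obtain ⟨⟨a, b⟩, hab⟩ := (Subgroup.isComplement'_def.1 hSC).2 g
    exact ⟨a, a.2, b, b.2, hab.symm⟩
  haveI hsol : Group.IsSolvable H := by
    refine CfsgLib.SolvStruct.isSolvable_of_coprime_nilpotent_factor (S : Subgroup H) C ?_ ?_ hcop hSC'
    · exact S.isPGroup'.isNilpotent
    · letI : CommGroup C := { mul_comm := hC.is_comm.comm }
      exact CommGroup.isNilpotent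
  have hodd : ¬ 2 ∣ Nat.card C := by
    rw [← hSC.symm.index_eq_card]
    exact S.not_dvd_index
  refine ⟨hsol, ?_, ?_⟩
  · intro L
    haveI : Group.IsSolvable L := inferInstance
    obtain ⟨P⟩ := (inferInstance : Nonempty (Sylow 2 L))
    obtain ⟨D, hD⟩ := CfsgLib.Core.exists_subgroup_card_eq (G := L)
      (show Nat.card L = (P : Subgroup L).index * Nat.card (P : Subgroup L) by
        rw [mul_comm, Subgroup.card_mul_index])
      (P.card_coprime_index.symm)
    refine ⟨P, D, ?_, Subgroup.isComplement'_of_coprime (by rw [hD, Subgroup.card_mul_index])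
      (by rw [hD]; exact P.card_coprime_index)⟩
    have hmap : Nat.card (D.map L.subtype) = Nat.card D :=
      Nat.card_congr (D.equivMapOfInjective _ L.subtype_injective).toEquiv.symm
    obtain ⟨g, hg⟩ := CfsgLib.Core.exists_conj_le_of_coprime (G := H) (H := C) (K := D.map L.subtype)
      (C.card_mul_index).symm (by rw [hidx]; exact hcop.symm) rfl (by
        rw [hmap, hD, hidx]
        obtain ⟨k, hk⟩ := IsPGroup.iff_card.1 S.isPGroup'
        rw [hk]
        exact ((Nat.prime_two.coprime_iff_not_dvd).2 P.not_dvd_index).symm.pow_right k)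
    constructor
    constructor
    intro x y
    have hx : g * (L.subtype x) * g⁻¹ ∈ C := hg ⟨_, ⟨x, x.2, rfl⟩, rfl⟩
    have hy : g * (L.subtype y) * g⁻¹ ∈ C := hg ⟨_, ⟨y, y.2, rfl⟩, rfl⟩
    have h1 := congrArg Subtype.val (hC.is_comm.comm (⟨_, hx⟩ : C) ⟨_, hy⟩)
    apply Subtype.ext
    apply L.subtype_injective
    simp only [Subgroup.coe_mul, map_mul]
    simp only [Subgroup.coe_mul] at h1
    simp [mul_assoc] at h1
    rw [← mul_assoc, ← mul_assoc] at h1
    exact mul_right_cancel h1
  · intro N _
    have hπ : Function.Surjective (QuotientGroup.mk' N) := QuotientGroup.mk'_surjective N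
    refine ⟨S.mapSurjective hπ, C.map (QuotientGroup.mk' N), ?_, ?_⟩
    · constructor
      constructor
      rintro ⟨_, x, hx, rfl⟩ ⟨_, y, hy, rfl⟩
      apply Subtype.ext
      show QuotientGroup.mk' N x * QuotientGroup.mk' N y = _ * _
      rw [← map_mul, ← map_mul]
      exact congrArg _ (congrArg Subtype.val (hC.is_comm.comm (⟨x, hx⟩ : C) ⟨y, hy⟩))
    · apply isComplement'_of_mul_coprime
      · rw [Sylow.coe_mapSurjective]
        exact (hcop.coprime_dvd_left (Subgroup.card_map_dvd _ _)).coprime_dvd_right (Subgroup.card_map_dvd _ _)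
      · intro g
        obtain ⟨h, rfl⟩ := hπ g
        obtain ⟨a, ha, b, hb, rfl⟩ := hSC' h
        exact ⟨_, by rw [Sylow.coe_mapSurjective]; exact ⟨a, ha, rfl⟩, _, ⟨b, hb, rfl⟩, map_mul _ _ _⟩

end Cfsg.Agent.S3200
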