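import Cfsg.Statements.S3201
import Cfsg.Agent.Lib.Core.UniqueOrderP

set_option autoImplicit false
open Cfsg

namespace Cfsg.Agent.S3201

open Subgroup

private theorem not_mem_mul_mem {S : Type*} [Group S] [Finite S] (hS : IsPGroup 2 S)
    {C : Subgroup ↥(center S)} (hC : IsCoatom C) (x : ↥(center S)) :
    x ^ 2 ∈ C ∧ ∀ y : ↥(center S), x ∉ C → y ∉ C → x * y ∈ C := by
  have hcomm : ∀ u v : ↥(center S), u * v = v * u := fun u v =>
    Subtype.ext (mem_center_iff.mp v.2 u.1)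
  haveI : C.Normal := ⟨fun n hn g => by rw [hcomm g n, mul_assoc, mul_inv_cancel, mul_one]; exact hn⟩
  have key : ∀ u v : ↥(center S), u ∉ C → ∃ k : ℤ, v * (u ^ k)⁻¹ ∈ C := by
    intro u v hu
    have h : C ⊔ zpowers u = ⊤ := hC.2 _ (lt_of_le_of_ne le_sup_left
      (fun h => hu (h ▸ mem_sup_right (mem_zpowers u))))
    obtain ⟨c, hc, w, hw, hv⟩ := (mem_sup_of_normal_left (s := C) (t := zpowers u)).mp
      (h ▸ mem_top v)
    obtain ⟨k, rfl⟩ := mem_zpowers_iff.mp hw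
    exact ⟨k, by rw [← hv, mul_inv_cancel_right]; exact hc⟩
  have hsq : ∀ u : ↥(center S), u ^ 2 ∈ C := by
    intro u
    by_contra hu
    obtain ⟨k, hk⟩ := key (u ^ 2) u hu
    have h1 : u ^ (1 - 2 * k) ∈ C := by
      convert hk using 1
      rw [zpow_sub, zpow_one, zpow_mul]; norm_cast
    obtain ⟨t, ht⟩ := IsPGroup.iff_orderOf.mp (hS.to_subgroup (center S)) u
    have hco : Int.gcd (1 - 2 * k) ((2 : ℕ) ^ t : ℕ) = 1 := by
      rw [← Int.isCoprime_iff_gcd_eq_one, Nat.cast_pow]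
      refine IsCoprime.pow_right ⟨1, k, ?_⟩
      push_cast; ring
    have hb := Int.gcd_eq_gcd_ab (1 - 2 * k) ((2 : ℕ) ^ t : ℕ)
    rw [hco] at hb
    have hu1 : u ^ (((2 : ℕ) ^ t : ℕ) : ℤ) = 1 := by rw [zpow_natCast, ← ht, pow_orderOf_eq_one]
    have : u ^ (1 : ℤ) ∈ C := by
      rw [show (1 : ℤ) = ((1 : ℕ) : ℤ) from rfl, hb, zpow_add, zpow_mul, zpow_mul, hu1, one_zpow,
        mul_one]
      exact zpow_mem h1 _
    rw [zpow_one] at this
    exact hu (pow_mem this 2)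
  refine ⟨hsq x, fun y hx hy => ?_⟩
  obtain ⟨k, hk⟩ := key x y hx
  rcases Int.even_or_odd' k with ⟨j, rfl | rfl⟩
  · exfalso; apply hy
    have h2 : x ^ (2 * j) ∈ C := by
      rw [zpow_mul]; exact zpow_mem (by rw [zpow_two, ← pow_two]; exact hsq x) _
    simpa using mul_mem hk h2
  · have h2 : x ^ (2 * (j + 1)) ∈ C := by
      rw [zpow_mul]; exact zpow_mem (by rw [zpow_two, ← pow_two]; exact hsq x) _
    have := mul_mem hk h2
    rw [mul_assoc, ← zpow_neg, ← zpow_add, show -(2 * j + 1) + 2 * (j + 1) = (1 : ℤ) from by ring,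
      zpow_one] at this
    rw [hcomm x y]; exact this


/-- Let S be a finite 2-group whose centre Z(S) has n ≥ 2 distinct maximal subgroups C₁, …, Cₙ with trivial intersection such that each quotient S/Cᵢ is a non-abelian group with exactly one involution (a generalized quaternion group). Then S is the internal direct product of an elementary abelian subgroup and a non-abelian subgroup with exactly one involution. -/
theorem result {S : Type*} [Group S] [Finite S]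
    (hS : IsPGroup 2 S) (n : ℕ) (hn : 2 ≤ n) (C : Fin n → Subgroup ↥(Subgroup.center S))
    (hCmax : ∀ i, IsCoatom (C i)) (hCinj : Function.Injective C) (hCint : ⨅ i, C i = ⊥)
    (hCq : ∀ i, ∃ (_ : ((C i).map (Subgroup.center S).subtype).Normal),
      ¬ IsMulCommutative (S ⧸ (C i).map (Subgroup.center S).subtype) ∧
      ∃! x : S ⧸ (C i).map (Subgroup.center S).subtype, orderOf x = 2) :
    ∃ E Q : Subgroup S, Cfsg.IsInternalDirectProduct E Q ⊤ ∧ Cfsg.IsElementaryAbelian 2 E ∧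
      ¬ IsMulCommutative ↥Q ∧ ∃! x : ↥Q, orderOf x = 2 := by
  classical
  haveI : Fact (Nat.Prime 2) := ⟨Nat.prime_two⟩
  let c : Fin n → Subgroup S := fun i => (C i).map (center S).subtype
  have hcZ : ∀ i, c i ≤ center S := fun i => map_subtype_le _
  have hcn : ∀ i, (c i).Normal := fun i => ⟨fun x hx g => by
    rw [mem_center_iff.mp (hcZ i hx) g, mul_assoc, mul_inv_cancel, mul_one]; exact hx⟩
  have hcm : ∀ i (w : ↥(center S)), (w : S) ∈ c i ↔ w ∈ C i := fun i w => by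
    simp [c]
  have hint : ∀ x : S, (∀ i, x ∈ c i) → x = 1 := by
    intro x hx
    have hxZ := hcZ ⟨0, by omega⟩ (hx _)
    have h : (⟨x, hxZ⟩ : ↥(center S)) ∈ ⨅ i, C i :=
      mem_iInf.mpr fun i => (hcm i ⟨x, hxZ⟩).mp (hx i)
    rw [hCint, mem_bot] at h
    exact congrArg Subtype.val h
  have hex : ∀ i, ∃ w : S, w ∈ center S ∧ w ∉ c i := by
    intro i
    by_contra h
    push Not at h
    exact (hCmax i).1 (eq_top_iff.mpr fun w _ => (hcm i w).mp (h w w.2))
  have hsqZ : ∀ w : S, w ∈ center S → ∀ i, w ^ 2 ∈ c i := fun w hw i => by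
    have := (hcm i (⟨w, hw⟩ ^ 2)).mpr (not_mem_mul_mem hS (hCmax i) ⟨w, hw⟩).1
    simpa using this
  have hF2 : ∀ x : S, x ∉ center S → ∀ i, x ^ 2 ∉ c i := by
    intro x hx i hx2
    obtain ⟨_, -, u, -, hu⟩ := hCq i
    haveI := hcn i
    obtain ⟨w, hw, hwc⟩ := hex i
    have o2 : ∀ y : S, y ^ 2 ∈ c i → y ∉ c i → orderOf (y : S ⧸ c i) = 2 := by
      intro y h2 h1
      refine orderOf_eq_prime ?_ (fun h => h1 ((QuotientGroup.eq_one_iff y).mp h))
      rw [← QuotientGroup.mk_pow]; exact (QuotientGroup.eq_one_iff _).mpr h2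
    have e : (x : S ⧸ c i) = (w : S ⧸ c i) :=
      (hu _ (o2 x hx2 fun h => hx (hcZ i h))).trans (hu _ (o2 w (hsqZ w hw i) hwc)).symm
    apply hx
    have h2 := mul_mem hw (inv_mem (hcZ i (QuotientGroup.eq.mp e)))
    rwa [mul_inv_rev, inv_inv, mul_inv_cancel_left] at h2
  have huniq : ∀ w w' : S, w ∈ center S → w' ∈ center S → (∀ i, w ∉ c i) → (∀ i, w' ∉ c i) →
      w = w' := by
    intro w w' hw hw' h h'
    have hw2 : w ^ 2 = 1 := hint _ (hsqZ w hw)
    have hp : w * w' = 1 := hint _ fun i => by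
      have := (hcm i (⟨w, hw⟩ * ⟨w', hw'⟩)).mpr
        ((not_mem_mul_mem hS (hCmax i) ⟨w, hw⟩).2 ⟨w', hw'⟩ (fun hh => h i ((hcm i _).mpr hh))
          (fun hh => h' i ((hcm i _).mpr hh)))
      simpa using this
    rw [pow_two] at hw2
    exact mul_left_cancel (hw2.trans hp.symm)
  have hsame : ∀ x y : S, x ∉ center S → y ∉ center S → x ^ 2 ∈ center S → y ^ 2 ∈ center S →
      x ^ 2 = y ^ 2 := fun x y hx hy hx2 hy2 => huniq _ _ hx2 hy2 (hF2 x hx) (hF2 y hy)
  -- the quaternion quotient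
  let i0 : Fin n := ⟨0, by omega⟩
  obtain ⟨_, hnc, u, hu2, hu⟩ := hCq i0
  haveI := hcn i0
  have hquni : ∀ H K : Subgroup (S ⧸ c i0), Nat.card H = 2 → Nat.card K = 2 → H = K := by
    have key : ∀ H : Subgroup (S ⧸ c i0), Nat.card H = 2 → H = zpowers u := by
      intro H hH
      obtain ⟨⟨v, hv⟩, hvo⟩ := exists_prime_orderOf_dvd_card' (G := H) 2 (by rw [hH])
      rw [Subgroup.orderOf_mk] at hvo
      refine (Subgroup.eq_of_le_of_card_ge ?_ ?_).symm
      · rw [zpowers_le, ← hu v hvo]; exact hv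
      · rw [Nat.card_zpowers, hu2, hH]
    exact fun H K hH hK => (key H hH).trans (key K hK).symm
  rcases CfsgLib.Core.UniqueOrderP.isCyclic_or_quaternion_of_unique
      (hS.to_quotient (c i0)) hquni with hcy | ⟨-, l, ⟨e⟩⟩
  · exact absurd ⟨⟨fun a b => hcy.commGroup.mul_comm a b⟩⟩ hnc
  obtain _ | l := l
  · refine absurd ?_ hnc
    rw [pow_zero] at e
    have hcy : IsCyclic (S ⧸ c i0) := e.isCyclic.mpr (QuaternionGroup.quaternionGroup_one_isCyclic)
    exact ⟨⟨fun a b => hcy.commGroup.mul_comm a b⟩⟩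
  obtain ⟨m, hm, hm0⟩ : ∃ m : ℕ, 2 ^ (l + 1) = 2 * m ∧ 0 < m :=
    ⟨2 ^ l, by ring, by positivity⟩
  rw [hm] at e
  haveI : NeZero m := ⟨by omega⟩
  let φ : S →* QuaternionGroup (2 * m) := e.toMonoidHom.comp (QuotientGroup.mk' (c i0))
  have hφ1 : ∀ x, φ x = 1 ↔ x ∈ c i0 := fun x => by simp [φ]
  have hφs : Function.Surjective φ := e.surjective.comp (QuotientGroup.mk'_surjective _)
  have hφZ : ∀ x ∈ center S, φ x ∈ center (QuaternionGroup (2 * m)) := fun x hx =>
    mem_center_iff.mpr fun q => by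
      obtain ⟨y, rfl⟩ := hφs q
      rw [← map_mul, ← map_mul, mem_center_iff.mp hx y]
  have hφsq : ∀ x ∈ center S, φ x ^ 2 = 1 := fun x hx => by
    rw [← map_pow]; exact (hφ1 _).mpr (hsqZ x hx i0)
  have hφu : ∀ x ∈ center S, ∀ q, q ≠ 1 → q ^ 2 = 1 → φ x ≠ 1 → φ x = q := by
    intro x hx q hq1 hq2 h1
    have o := fun (r : QuaternionGroup (2 * m)) (h1 : r ≠ 1) (h2 : r ^ 2 = 1) =>
      hu (e.symm r) ((MulEquiv.orderOf_eq _ _).trans (orderOf_eq_prime h2 h1))
    exact e.symm.injective ((o _ h1 (hφsq x hx)).trans (o q hq1 hq2).symm)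
  obtain ⟨a, ha⟩ := hφs (QuaternionGroup.a 1)
  obtain ⟨b, hb⟩ := hφs (QuaternionGroup.xa 0)
  have hne2 : ((2 * m : ℕ) : ZMod (2 * (2 * m))) ≠ 0 := by
    rw [Ne, ZMod.natCast_eq_zero_iff]
    intro h; have := Nat.le_of_dvd (by omega) h; omega
  have hnc' : ∀ q, q ≠ 1 → q ^ 2 = QuaternionGroup.a ((2 * m : ℕ) : ZMod _) → ∀ x, φ x = q →
      x ∉ center S := by
    intro q hq1 hq2 x hx hxZ
    have := hφsq x hxZ
    rw [hx, hq2, QuaternionGroup.one_def] at this
    exact hne2 (QuaternionGroup.a.inj this)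
  have hcentre : ∀ x : S, φ x = QuaternionGroup.a ((2 * m : ℕ) : ZMod _) → x ∈ center S := by
    intro x hx
    obtain ⟨w, hw, hwc⟩ := hex i0
    have hwx : φ w = φ x := hφu w hw _ (fun h => by
        rw [hx, QuaternionGroup.one_def] at h; exact hne2 (QuaternionGroup.a.inj h))
      (by rw [hx, pow_two, QuaternionGroup.a_mul_a, ← Nat.cast_add, QuaternionGroup.one_def,
        show 2 * m + 2 * m = 2 * (2 * m) by ring, ZMod.natCast_self])
      (fun h => hwc ((hφ1 w).mp h))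
    have h1 : w⁻¹ * x ∈ c i0 := (hφ1 _).mp (by rw [map_mul, map_inv, hwx, inv_mul_cancel])
    have h2 := mul_mem hw (hcZ i0 h1)
    rwa [mul_inv_cancel_left] at h2
  have hxa : ∀ j, (QuaternionGroup.xa j : QuaternionGroup (2 * m)) ≠ 1 := fun j h => by
    rw [QuaternionGroup.one_def] at h; cases h
  have hbZ : b ∉ center S := hnc' _ (hxa 0) (QuaternionGroup.xa_sq 0) b hb
  have hb2 : b ^ 2 ∈ center S := hcentre _ (by rw [map_pow, hb, QuaternionGroup.xa_sq])
  have habφ : φ (a * b) = QuaternionGroup.xa (0 - 1) := by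
    rw [map_mul, ha, hb, QuaternionGroup.a_mul_xa]
  have habZ : a * b ∉ center S := hnc' _ (hxa _) (QuaternionGroup.xa_sq _) _ habφ
  have hab2 : (a * b) ^ 2 ∈ center S :=
    hcentre _ (by rw [map_pow, habφ, QuaternionGroup.xa_sq])
  have hamφ : φ (a ^ m) = QuaternionGroup.a (m : ZMod _) := by
    rw [map_pow, ha, QuaternionGroup.a_one_pow]
  have ham2 : φ (a ^ m) ^ 2 = QuaternionGroup.a ((2 * m : ℕ) : ZMod _) := by
    rw [hamφ, pow_two, QuaternionGroup.a_mul_a, ← Nat.cast_add, two_mul]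
  have hamZ : a ^ m ∉ center S := hnc' _ (fun h => by
      rw [h, one_pow, QuaternionGroup.one_def] at ham2
      exact hne2 (QuaternionGroup.a.inj ham2).symm) ham2 _ rfl
  have ha2 : a ^ (2 * m) = b ^ 2 := by
    rw [mul_comm 2 m, pow_mul]
    exact hsame _ _ hamZ hbZ (hcentre _ (by rw [map_pow]; exact ham2)) hb2
  have haba : a * b * a = b := by
    have h := hsame _ _ habZ hbZ hab2 hb2
    rw [pow_two, pow_two, ← mul_assoc] at h
    exact mul_right_cancel h
  have ha4 : a ^ (2 * (2 * m)) = 1 := by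
    rw [mul_comm 2 (2 * m), pow_mul, ha2]; exact hint _ (hsqZ _ hb2)
  have hconj : ∀ j : ℤ, b * a ^ j = a ^ (-j) * b := by
    intro j
    have h1 : b * a * b⁻¹ = a⁻¹ := by
      rw [mul_inv_eq_iff_eq_mul, eq_inv_mul_iff_mul_eq, ← mul_assoc, haba]
    have h2 : b * a ^ j * b⁻¹ = a ^ (-j) := by rw [← conj_zpow, h1, inv_zpow, zpow_neg]
    rw [← h2, inv_mul_cancel_right]
  let Q : Subgroup S :=
    { carrier := {x | ∃ j : ℤ, x = a ^ j ∨ x = a ^ j * b}
      one_mem' := ⟨0, Or.inl (zpow_zero a).symm⟩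
      mul_mem' := by
        rintro x y ⟨j, rfl | rfl⟩ ⟨k, rfl | rfl⟩
        · exact ⟨j + k, Or.inl (zpow_add a j k).symm⟩
        · exact ⟨j + k, Or.inr (by rw [zpow_add, mul_assoc])⟩
        · exact ⟨j + -k, Or.inr (by rw [mul_assoc, hconj, ← mul_assoc, zpow_add])⟩
        · refine ⟨j + -k + (2 * m : ℕ), Or.inl ?_⟩
          rw [show a ^ j * b * (a ^ k * b) = a ^ j * (b * a ^ k) * b from by group, hconj,
            zpow_add, zpow_add, zpow_natCast, ha2, pow_two]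
          group
      inv_mem' := by
        rintro x ⟨j, rfl | rfl⟩
        · exact ⟨-j, Or.inl (zpow_neg a j).symm⟩
        · refine ⟨j + (2 * m : ℕ), Or.inr ?_⟩
          refine inv_eq_of_mul_eq_one_left ?_
          rw [show a ^ (j + (2 * m : ℕ)) * b * (a ^ j * b) = a ^ (j + (2 * m : ℕ)) * (b * a ^ j) * b
              from by group, hconj, ← mul_assoc, ← zpow_add,
            show j + ((2 * m : ℕ) : ℤ) + -j = ((2 * m : ℕ) : ℤ) from by ring, zpow_natCast,
            mul_assoc, ← pow_two, ← ha2, ← pow_add, ← two_mul, ha4] }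
  have hQa : ∀ j : ℤ, a ^ j ∈ Q := fun j => ⟨j, Or.inl rfl⟩
  have hQb : ∀ j : ℤ, a ^ j * b ∈ Q := fun j => ⟨j, Or.inr rfl⟩
  have hφz : ∀ j : ℤ, φ (a ^ j) = QuaternionGroup.a (j : ZMod (2 * (2 * m))) := by
    intro j
    rcases Int.eq_nat_or_neg j with ⟨k, rfl | rfl⟩
    · rw [zpow_natCast, map_pow, ha, QuaternionGroup.a_one_pow, Int.cast_natCast]
    · rw [zpow_neg, zpow_natCast, map_inv, map_pow, ha, QuaternionGroup.a_one_pow]
      refine inv_eq_of_mul_eq_one_left ?_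
      rw [QuaternionGroup.a_mul_a, Int.cast_neg, Int.cast_natCast, neg_add_cancel,
        QuaternionGroup.a_zero]
  have hψinj : Function.Injective (φ.comp Q.subtype) := by
    rw [injective_iff_map_eq_one]
    rintro ⟨x, j, rfl | rfl⟩ h
    · apply Subtype.ext
      change φ (a ^ j) = 1 at h
      rw [hφz, QuaternionGroup.one_def] at h
      have h' := (ZMod.intCast_zmod_eq_zero_iff_dvd j _).mp (QuaternionGroup.a.inj h)
      obtain ⟨t, rfl⟩ := h'
      change a ^ _ = (1 : S)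
      rw [zpow_mul, zpow_natCast, ha4, one_zpow]
    · change φ (a ^ j * b) = 1 at h
      rw [map_mul, hφz, hb, QuaternionGroup.a_mul_xa] at h
      exact absurd h (hxa _)
  have hψsurj : Function.Surjective (φ.comp Q.subtype) := by
    rintro (k | k)
    · exact ⟨⟨_, hQa k.val⟩, by
        change φ (a ^ (k.val : ℤ)) = _
        rw [hφz, Int.cast_natCast, ZMod.natCast_zmod_val]⟩
    · exact ⟨⟨_, hQb (-(k.val : ℤ))⟩, by
        change φ (a ^ (-(k.val : ℤ)) * b) = _
        rw [map_mul, hφz, hb, QuaternionGroup.a_mul_xa, Int.cast_neg, Int.cast_natCast,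
          ZMod.natCast_zmod_val, zero_sub, neg_neg]⟩
  let ψ : ↥Q ≃* S ⧸ c i0 := (MulEquiv.ofBijective _ ⟨hψinj, hψsurj⟩).trans e.symm
  refine ⟨c i0, Q, ⟨le_top, le_top, fun x hx y _ => (mem_center_iff.mp (hcZ i0 hx) y).symm, ?_, ?_⟩,
    ⟨⟨⟨fun x y => Subtype.ext (mem_center_iff.mp (hcZ i0 y.2) x.1)⟩⟩, ?_⟩, ?_, ?_⟩
  · rw [eq_bot_iff]
    intro x hx
    exact mem_bot.mpr (congrArg Subtype.val
      (hψinj (((hφ1 x).mpr hx.1).trans (map_one (φ.comp Q.subtype)).symm) : (⟨x, hx.2⟩ : ↥Q) = 1))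
  · rw [eq_top_iff]
    intro x _
    obtain ⟨⟨y, hy⟩, hyx⟩ := hψsurj (φ x)
    change φ y = φ x at hyx
    rw [← inv_mul_cancel_right x y]
    exact mul_mem (mem_sup_left ((hφ1 _).mp (by rw [map_mul, map_inv, hyx, mul_inv_cancel])))
      (mem_sup_right hy)
  · intro x hx
    exact hint _ (hsqZ x (hcZ i0 hx))
  · exact fun h => hnc ⟨⟨fun p q => ψ.symm.injective (by
      rw [map_mul, map_mul]; exact h.is_comm.comm _ _)⟩⟩
  · refine ⟨ψ.symm u, (MulEquiv.orderOf_eq _ _).trans hu2, fun y hy => ?_⟩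
    rw [← hu (ψ y) ((MulEquiv.orderOf_eq _ _).trans hy), MulEquiv.symm_apply_apply]

end Cfsg.Agent.S3201
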