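import Cfsg.Statements.S3202
import Cfsg.Agent.Lib.Core.UniqueOrderP

set_option autoImplicit false
open Cfsg
open scoped commutatorElement

namespace Cfsg.Agent.S3202

/-- Let S be a finite 2-group of 2-rank exactly 2 and D a maximal subgroup of the centre of S such that S/D is a non-abelian group with exactly one involution (a generalized quaternion group). Then S has a nontrivial cyclic characteristic subgroup. -/
theorem result {S : Type*} [Group S]
    [Finite S] (hS : IsPGroup 2 S) (hr2 : Cfsg.PRankLE 2 2 S) (hr1 : ¬ Cfsg.PRankLE 2 1 S)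
    (D : Subgroup ↥(Subgroup.center S)) (hD : IsCoatom D)
    (hq : ∃ (_ : (D.map (Subgroup.center S).subtype).Normal),
      ¬ IsMulCommutative (S ⧸ D.map (Subgroup.center S).subtype) ∧
      ∃! x : S ⧸ D.map (Subgroup.center S).subtype, orderOf x = 2) :
    ∃ C : Subgroup S, C ≠ ⊥ ∧ IsCyclic ↥C ∧ C.Characteristic := by
  haveI := Fact.mk Nat.prime_two
  obtain ⟨hN, hnab, hu⟩ := hq
  set N := D.map (Subgroup.center S).subtype with hNdef
  have hNZ : N ≤ Subgroup.center S := Subgroup.map_subtype_le D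
  have huniq : ∀ H K : Subgroup (S ⧸ N), Nat.card H = 2 → Nat.card K = 2 → H = K := by
    have gen : ∀ H : Subgroup (S ⧸ N), Nat.card H = 2 → ∃ x, orderOf x = 2 ∧ H = Subgroup.zpowers x := by
      intro H hH
      obtain ⟨x, hx⟩ := exists_prime_orderOf_dvd_card' (G := H) 2 (by rw [hH])
      refine ⟨(x : S ⧸ N), by rw [Subgroup.orderOf_coe, hx], ?_⟩
      exact (Subgroup.eq_of_le_of_card_ge (Subgroup.zpowers_le.2 x.2)
        (by rw [hH, Nat.card_zpowers, Subgroup.orderOf_coe, hx])).symm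
    intro H K hH hK
    obtain ⟨x, hx, rfl⟩ := gen H hH
    obtain ⟨y, hy, rfl⟩ := gen K hK
    rw [hu.unique hx hy]
  rcases CfsgLib.Core.UniqueOrderP.isCyclic_or_quaternion_of_unique (hS.to_quotient N) huniq with
    hc | ⟨-, n, ⟨e⟩⟩
  · exfalso
    haveI := hc
    exact hnab inferInstance
  set π := QuotientGroup.mk' N
  obtain ⟨a, ha⟩ := QuotientGroup.mk'_surjective N (e.symm (QuaternionGroup.a 1))
  obtain ⟨b, hb⟩ := QuotientGroup.mk'_surjective N (e.symm (QuaternionGroup.xa 0))
  have hea : e (π a) = QuaternionGroup.a 1 := by rw [ha, e.apply_symm_apply]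
  have heb : e (π b) = QuaternionGroup.xa 0 := by rw [hb, e.apply_symm_apply]
  have hd : b * a * b⁻¹ * a ∈ Subgroup.center S := by
    refine hNZ ((QuotientGroup.eq_one_iff _).1 ?_)
    show π (b * a * b⁻¹ * a) = 1
    apply e.injective
    simp only [map_mul, map_inv, map_one, hea, heb]
    have h : (QuaternionGroup.xa 0 * QuaternionGroup.a 1 : QuaternionGroup (2 ^ n)) =
        (QuaternionGroup.a 1)⁻¹ * QuaternionGroup.xa 0 := by
      show QuaternionGroup.xa (0 + 1) = QuaternionGroup.xa (0 - -1)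
      simp
    rw [h]
    group
  have hgen : ∀ s : S, ∃ i : ℕ, ∃ z ∈ Subgroup.center S, s = a ^ i * z ∨ s = b * a ^ i * z := by
    intro s
    rcases hs : e (π s) with i | i
    · refine ⟨i.val, (a ^ i.val)⁻¹ * s, hNZ ((QuotientGroup.eq_one_iff _).1 ?_),
        Or.inl (by rw [mul_inv_cancel_left])⟩
      show π ((a ^ i.val)⁻¹ * s) = 1
      apply e.injective
      simp only [map_mul, map_inv, map_pow, map_one, hea, hs]
      rw [QuaternionGroup.a_one_pow, ZMod.natCast_zmod_val, inv_mul_cancel]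
    · refine ⟨i.val, (b * a ^ i.val)⁻¹ * s, hNZ ((QuotientGroup.eq_one_iff _).1 ?_),
        Or.inr (by rw [mul_inv_cancel_left])⟩
      show π ((b * a ^ i.val)⁻¹ * s) = 1
      apply e.injective
      simp only [map_mul, map_inv, map_pow, map_one, hea, heb, hs]
      rw [QuaternionGroup.a_one_pow, ZMod.natCast_zmod_val, QuaternionGroup.xa_mul_a, zero_add,
        inv_mul_cancel]
  set d := b * a * b⁻¹ * a
  set c := a * b * a⁻¹ * b⁻¹ with hc
  have hdc : ∀ x : S, Commute d x := fun x => (Subgroup.mem_center_iff.1 hd x).symm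
  have hc2 : c = a * a * d⁻¹ := by rw [hc]; simp only [d]; group
  have hca : Commute a c := by
    rw [hc2]
    exact ((Commute.refl a).mul_right (Commute.refl a)).mul_right (hdc a).symm.inv_right
  have hcb : b * c * b⁻¹ = c⁻¹ := by
    have h1 : b * a * b⁻¹ = d * a⁻¹ := by simp only [d]; group
    have h2 : b * d⁻¹ * b⁻¹ = d⁻¹ := by rw [← (hdc b).inv_left.eq, mul_inv_cancel_right]
    calc b * c * b⁻¹ = (b * a * b⁻¹) * (b * a * b⁻¹) * (b * d⁻¹ * b⁻¹) := by rw [hc2]; group
      _ = d * a⁻¹ * (d * a⁻¹) * d⁻¹ := by rw [h1, h2]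
      _ = d * a⁻¹ * (a⁻¹ * d) * d⁻¹ := by rw [(hdc a⁻¹).eq]
      _ = d * (a⁻¹ * a⁻¹) := by group
      _ = c⁻¹ := by rw [hc2]; group
  set C := Subgroup.zpowers c
  haveI hCn : C.Normal := by
    refine ⟨fun x hx s => ?_⟩
    obtain ⟨k, rfl⟩ := Subgroup.mem_zpowers_iff.1 hx
    rw [← conj_zpow]
    refine zpow_mem ?_ k
    obtain ⟨i, z, hz, rfl | rfl⟩ := hgen s
    · have : Commute (a ^ i * z) c :=
        (hca.pow_left i).mul_left (Subgroup.mem_center_iff.1 hz c).symm
      rw [this.eq, mul_inv_cancel_right]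
      exact Subgroup.mem_zpowers c
    · have : Commute (a ^ i * z) c :=
        (hca.pow_left i).mul_left (Subgroup.mem_center_iff.1 hz c).symm
      rw [show b * a ^ i * z * c * (b * a ^ i * z)⁻¹ =
        b * ((a ^ i * z) * c * (a ^ i * z)⁻¹) * b⁻¹ by group, this.eq, mul_inv_cancel_right, hcb]
      exact inv_mem (Subgroup.mem_zpowers c)
  let ρ := QuotientGroup.mk' C
  have hab : Commute (ρ a) (ρ b) := by
    show ρ a * ρ b = ρ b * ρ a
    rw [← map_mul, ← map_mul]
    refine (QuotientGroup.eq).2 ?_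
    have : (a * b)⁻¹ * (b * a) = (b⁻¹ * a⁻¹) * (c⁻¹ * (a * b)) := by rw [hc]; group
    rw [this, show b⁻¹ * a⁻¹ * (c⁻¹ * (a * b)) = (a * b)⁻¹ * c⁻¹ * (a * b) by group]
    simpa using hCn.conj_mem c⁻¹ (inv_mem (Subgroup.mem_zpowers c)) (a * b)⁻¹
  have hcomm : ∀ x y : S, Commute (ρ x) (ρ y) := by
    have key : ∀ w : S ⧸ C, Commute w (ρ a) → Commute w (ρ b) → ∀ y : S, Commute w (ρ y) := by
      intro w h1 h2 y
      have hz' : ∀ z ∈ Subgroup.center S, Commute w (ρ z) := fun z hz => by
        obtain ⟨u, rfl⟩ := QuotientGroup.mk'_surjective C w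
        exact Commute.map (Subgroup.mem_center_iff.1 hz u) ρ
      obtain ⟨i, z, hz, rfl | rfl⟩ := hgen y
      · rw [map_mul, map_pow]; exact (h1.pow_right i).mul_right (hz' z hz)
      · rw [map_mul, map_mul, map_pow]; exact (h2.mul_right (h1.pow_right i)).mul_right (hz' z hz)
    intro x y
    exact key _ (key _ (Commute.refl _) hab x).symm (key _ hab.symm (Commute.refl _) x).symm y
  have hle : commutator S ≤ C := by
    rw [commutator_def, Subgroup.commutator_le]
    intro x _ y _
    rw [← QuotientGroup.eq_one_iff]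
    show ρ ⁅x, y⁆ = 1
    rw [map_commutatorElement, commutatorElement_eq_one_iff_mul_comm]
    exact (hcomm x y).eq
  refine ⟨commutator S, fun h0 => hnab ?_, ?_, inferInstance⟩
  · refine ⟨⟨fun u v => ?_⟩⟩
    obtain ⟨x, rfl⟩ := QuotientGroup.mk'_surjective N u
    obtain ⟨y, rfl⟩ := QuotientGroup.mk'_surjective N v
    have : ⁅x, y⁆ ∈ commutator S := Subgroup.commutator_mem_commutator (Subgroup.mem_top x) (Subgroup.mem_top y)
    rw [h0, Subgroup.mem_bot, commutatorElement_eq_one_iff_mul_comm] at this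
    rw [← map_mul, ← map_mul, this]
  · exact isCyclic_of_injective (Subgroup.inclusion hle) (Subgroup.inclusion_injective hle)

end Cfsg.Agent.S3202
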