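import Cfsg.Statements.S3203
import Mathlib

set_option autoImplicit false
open Cfsg

namespace Cfsg.Agent.S3203

/-- Let S be a Sylow 2-subgroup of a finite group G having exactly two subgroups A ≠ B that are maximal among its elementary abelian subgroups, with S = AB. Then A and B are each weakly closed in S with respect to G, and the normalizer of S normalizes both A and B. -/
theorem result {G : Type*} [Group G] [Finite G] (S : Sylow 2 G)
    (A B : Subgroup ↥(S : Subgroup G)) (hAB : A ≠ B)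
    (hA : Cfsg.IsElementaryAbelian 2 A ∧ ∀ C : Subgroup ↥(S : Subgroup G), Cfsg.IsElementaryAbelian 2 C → A ≤ C → C = A)
    (hB : Cfsg.IsElementaryAbelian 2 B ∧ ∀ C : Subgroup ↥(S : Subgroup G), Cfsg.IsElementaryAbelian 2 C → B ≤ C → C = B)
    (honly : ∀ C : Subgroup ↥(S : Subgroup G), Cfsg.IsElementaryAbelian 2 C →
      (∀ D : Subgroup ↥(S : Subgroup G), Cfsg.IsElementaryAbelian 2 D → C ≤ D → D = C) → C = A ∨ C = B)
    (hprod : ∀ s : ↥(S : Subgroup G), ∃ a ∈ A, ∃ b ∈ B, a * b = s)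
    (A' B' : Subgroup G) (hA' : A' = A.map (S : Subgroup G).subtype) (hB' : B' = B.map (S : Subgroup G).subtype) :
    Cfsg.IsWeaklyClosed A' (S : Subgroup G) ∧ Cfsg.IsWeaklyClosed B' (S : Subgroup G) ∧
      Subgroup.normalizer ((S : Subgroup G) : Set G) ≤ Subgroup.normalizer (A' : Set G) ⊓ Subgroup.normalizer (B' : Set G) := by
  classical
  haveI : Fact (Nat.Prime 2) := ⟨Nat.prime_two⟩
  let c : G → Subgroup G → Subgroup G := fun g H => H.map (MulAut.conj g).toMonoidHom
  have hcc : ∀ g h H, c g (c h H) = c (g * h) H := fun g h H => by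
    simp only [c, Subgroup.map_map]; congr 1; ext x; simp [mul_assoc]
  have hc1 : ∀ H, c 1 H = H := fun H => by
    ext x; simp [c, Subgroup.mem_map]
  have hmem : ∀ g H x, x ∈ H → g * x * g⁻¹ ∈ c g H := fun g H x hx => ⟨x, hx, rfl⟩
  have hmem' : ∀ g H x, x ∈ c g H → g⁻¹ * x * g ∈ H := by
    rintro g H _ ⟨x, hx, rfl⟩; simpa [mul_assoc] using hx
  have hnorm : ∀ g (H : Subgroup G), g ∈ Subgroup.normalizer (H : Set G) → c g H = H := by
    intro g H hg
    ext x
    refine ⟨fun hx => ?_, fun hx => ?_⟩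
    · have := (Subgroup.mem_normalizer_iff.mp hg _).mp (hmem' g H x hx)
      simpa [mul_assoc] using this
    · have := hmem g H _ ((Subgroup.mem_normalizer_iff.mp (Subgroup.inv_mem _ hg) x).mp hx)
      simpa [mul_assoc] using this
  have hnorm' : ∀ g (H : Subgroup G), c g H = H → g ∈ Subgroup.normalizer (H : Set G) := by
    intro g H hg
    refine Subgroup.mem_normalizer_iff.mpr fun x => ⟨fun hx => ?_, fun hx => ?_⟩
    · rw [← hg]; exact hmem g H x hx
    · rw [← hg] at hx
      simpa [mul_assoc] using hmem' g H _ hx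
  -- elementary abelian subgroups of `G` inside `S`
  have elS : ∀ E : Subgroup G, Cfsg.IsElementaryAbelian 2 E →
      Cfsg.IsElementaryAbelian 2 (E.subgroupOf (S : Subgroup G)) := by
    intro E hE
    refine ⟨⟨⟨fun x y => Subtype.ext (Subtype.ext ?_)⟩⟩, fun x hx => Subtype.ext ?_⟩
    · have h := congrArg Subtype.val (hE.1.is_comm.comm (⟨_, x.2⟩ : E) ⟨_, y.2⟩)
      exact h
    · exact hE.2 _ hx
  have elmap : ∀ C : Subgroup ↥(S : Subgroup G), Cfsg.IsElementaryAbelian 2 C →
      ∀ f : ↥(S : Subgroup G) →* G, Cfsg.IsElementaryAbelian 2 (C.map f) := by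
    intro C hC f
    refine ⟨⟨⟨?_⟩⟩, ?_⟩
    · rintro ⟨_, x, hx, rfl⟩ ⟨_, y, hy, rfl⟩
      refine Subtype.ext ?_
      show f x * f y = f y * f x
      rw [← map_mul, ← map_mul]
      exact congrArg f (congrArg Subtype.val (hC.1.is_comm.comm (⟨x, hx⟩ : C) ⟨y, hy⟩))
    · rintro _ ⟨x, hx, rfl⟩
      rw [← map_pow, hC.2 x hx, map_one]
  have elc : ∀ g (E : Subgroup G), Cfsg.IsElementaryAbelian 2 E → Cfsg.IsElementaryAbelian 2 (c g E) := by
    intro g E hE
    refine ⟨⟨⟨?_⟩⟩, ?_⟩
    · rintro ⟨_, x, hx, rfl⟩ ⟨_, y, hy, rfl⟩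
      refine Subtype.ext ?_
      show MulAut.conj g x * MulAut.conj g y = MulAut.conj g y * MulAut.conj g x
      rw [← map_mul, ← map_mul]
      exact congrArg (MulAut.conj g) (congrArg Subtype.val (hE.1.is_comm.comm (⟨x, hx⟩ : E) ⟨y, hy⟩))
    · rintro _ ⟨x, hx, rfl⟩
      rw [← map_pow, hE.2 x hx, map_one]
  -- an elementary abelian subgroup of `S` lies in `A` or in `B`
  have hinto : ∀ E : Subgroup G, Cfsg.IsElementaryAbelian 2 E → E ≤ (S : Subgroup G) →
      E ≤ A' ∨ E ≤ B' := by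
    intro E hE hES
    haveI : Finite (Subgroup ↥(S : Subgroup G)) :=
      Finite.of_injective (fun K => (K : Set ↥(S : Subgroup G))) SetLike.coe_injective
    obtain ⟨C, hle, hC⟩ := Finite.exists_le_maximal
      (p := fun C : Subgroup ↥(S : Subgroup G) => Cfsg.IsElementaryAbelian 2 C) (elS E hE)
    have hmap : E ≤ C.map (S : Subgroup G).subtype := fun x hx => ⟨⟨x, hES hx⟩, hle hx, rfl⟩
    rcases honly C hC.1 (fun D hD h => le_antisymm (hC.2 hD h) h) with h | h <;> subst h
    · exact Or.inl (hA' ▸ hmap)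
    · exact Or.inr (hB' ▸ hmap)
  -- maximality in `G`
  have hmax : ∀ (C : Subgroup ↥(S : Subgroup G)),
      (∀ D : Subgroup ↥(S : Subgroup G), Cfsg.IsElementaryAbelian 2 D → C ≤ D → D = C) →
      ∀ E : Subgroup G, Cfsg.IsElementaryAbelian 2 E → E ≤ (S : Subgroup G) →
      C.map (S : Subgroup G).subtype ≤ E → E = C.map (S : Subgroup G).subtype := by
    intro C hC E hE hES hle
    have : E.subgroupOf (S : Subgroup G) = C := hC _ (elS E hE) (fun x hx => hle ⟨x, hx, rfl⟩)
    rw [← this, Subgroup.subgroupOf_map_subtype, inf_of_le_left hES]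
  have hAS : A' ≤ (S : Subgroup G) := hA' ▸ Subgroup.map_subtype_le A
  have hBS : B' ≤ (S : Subgroup G) := hB' ▸ Subgroup.map_subtype_le B
  have hAel : Cfsg.IsElementaryAbelian 2 A' := hA' ▸ elmap A hA.1 _
  have hBel : Cfsg.IsElementaryAbelian 2 B' := hB' ▸ elmap B hB.1 _
  have hne : A' ≠ B' := fun h => hAB (Subgroup.map_injective (S : Subgroup G).subtype_injective (hA'.symm.trans (h.trans hB')))
  have maxA : ∀ E : Subgroup G, Cfsg.IsElementaryAbelian 2 E → E ≤ (S : Subgroup G) → A' ≤ E → E = A' :=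
    fun E h1 h2 h3 => hA' ▸ hmax A hA.2 E h1 h2 (hA' ▸ h3)
  have maxB : ∀ E : Subgroup G, Cfsg.IsElementaryAbelian 2 E → E ≤ (S : Subgroup G) → B' ≤ E → E = B' :=
    fun E h1 h2 h3 => hB' ▸ hmax B hB.2 E h1 h2 (hB' ▸ h3)
  have inj : ∀ g H K, c g H = c g K → H = K := fun g H K h => by
    have := congrArg (c g⁻¹) h; rwa [hcc, hcc, inv_mul_cancel, hc1, hc1] at this
  -- an element normalizing `S` permutes `A'` and `B'`
  have hperm : ∀ g ∈ Subgroup.normalizer ((S : Subgroup G) : Set G), ∀ E : Subgroup G,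
      (E = A' ∨ E = B') → c g E = A' ∨ c g E = B' := by
    intro g hg E hE
    have hES : E ≤ (S : Subgroup G) := by rcases hE with h | h <;> subst h <;> assumption
    have hEel : Cfsg.IsElementaryAbelian 2 E := by rcases hE with h | h <;> subst h <;> assumption
    have hcS : ∀ u ∈ Subgroup.normalizer ((S : Subgroup G) : Set G), ∀ K : Subgroup G,
        K ≤ (S : Subgroup G) → c u K ≤ (S : Subgroup G) := fun u hu K hK =>
      (Subgroup.map_mono hK).trans (hnorm u _ hu).le
    have hback : ∀ C : Subgroup G, Cfsg.IsElementaryAbelian 2 C → C ≤ (S : Subgroup G) →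
        c g E ≤ C → E = c g⁻¹ C := by
      intro C hC hCS hle
      have hle' : E ≤ c g⁻¹ C := by
        intro x hx
        have := hmem g⁻¹ C _ (hle (hmem g E x hx))
        simpa [mul_assoc] using this
      rcases hE with rfl | rfl
      · exact (maxA _ (elc _ _ hC) (hcS _ (Subgroup.inv_mem _ hg) _ hCS) hle').symm
      · exact (maxB _ (elc _ _ hC) (hcS _ (Subgroup.inv_mem _ hg) _ hCS) hle').symm
    rcases hinto _ (elc g E hEel) (hcS g hg E hES) with h | h
    · left; rw [hback A' hAel hAS h, hcc, mul_inv_cancel, hc1]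
    · right; rw [hback B' hBel hBS h, hcc, mul_inv_cancel, hc1]
  have hselfA : ∀ a ∈ A', c a A' = A' := fun a ha => hnorm a _ (Subgroup.le_normalizer ha)
  have hselfB : ∀ b ∈ B', c b B' = B' := fun b hb => hnorm b _ (Subgroup.le_normalizer hb)
  have hnA : ∀ s ∈ (S : Subgroup G), c s A' = A' ∧ c s B' = B' := by
    intro s hs
    obtain ⟨a, ha, b, hb, hab⟩ := hprod ⟨s, hs⟩
    have hab' : s = (a : G) * (b : G) := (congrArg Subtype.val hab).symm
    have ha' : (a : G) ∈ A' := hA' ▸ ⟨a, ha, rfl⟩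
    have hb' : (b : G) ∈ B' := hB' ▸ ⟨b, hb, rfl⟩
    have h1 : c (b : G) A' = A' := (hperm _ (Subgroup.le_normalizer b.2) A' (Or.inl rfl)).resolve_right
      fun h => hne (inj _ _ _ (h.trans (hselfB _ hb').symm))
    have h2 : c (a : G) B' = B' := (hperm _ (Subgroup.le_normalizer a.2) B' (Or.inr rfl)).resolve_left
      fun h => hne (inj _ _ _ ((hselfA _ ha').trans h.symm))
    subst hab'
    exact ⟨by rw [← hcc, h1, hselfA _ ha'], by rw [← hcc, hselfB _ hb', h2]⟩
  have hfix : ∀ n ∈ Subgroup.normalizer ((S : Subgroup G) : Set G), c n A' = A' ∧ c n B' = B' := by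
    intro n hn
    have hno : c n A' = A' := by
      refine (hperm n hn A' (Or.inl rfl)).resolve_right fun hsw => hne ?_
      have hsw' : c n B' = A' := (hperm n hn B' (Or.inr rfl)).resolve_right
        fun h => hne (inj _ _ _ (hsw.trans h.symm))
      obtain ⟨a, m, hm, hord⟩ := Nat.exists_eq_two_pow_mul_odd (orderOf_pos n).ne'
      have hodd : ∀ j, c (n ^ (2 * j + 1)) A' = B' := by
        intro j
        induction j with
        | zero => simpa using hsw
        | succ j ih => rw [show 2 * (j + 1) + 1 = 2 + (2 * j + 1) by ring, pow_add, ← hcc, ih, pow_two, ← hcc, hsw', hsw]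
      obtain ⟨j, hj⟩ := hm
      have hS : n ^ m ∈ (S : Subgroup G) := by
        have hp : IsPGroup 2 (Subgroup.zpowers (n ^ m)) := by
          intro x
          obtain ⟨i, hi⟩ := Subgroup.mem_zpowers_iff.mp x.2
          refine ⟨a, Subtype.ext ?_⟩
          show (x : G) ^ 2 ^ a = 1
          rw [← hi, ← zpow_natCast, zpow_comm, zpow_natCast, ← pow_mul, mul_comm m, ← hord, pow_orderOf_eq_one, one_zpow]
        have hle : Subgroup.zpowers (n ^ m) ≤ Subgroup.normalizer ((S : Subgroup G) : Set G) :=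
          Subgroup.zpowers_le.mpr (Subgroup.pow_mem _ hn m)
        have := S.3 (hp.to_sup_of_normal_right' S.2 hle) le_sup_right
        exact this ▸ (le_sup_left (b := (S : Subgroup G))) (Subgroup.mem_zpowers _)
      rw [hj] at hS
      exact (hnA _ hS).1.symm.trans (hodd j)
    exact ⟨hno, (hperm n hn B' (Or.inr rfl)).resolve_left fun h => hne (inj _ _ _ (hno.trans h.symm))⟩
  have hSN : ∀ E : Subgroup G, (∀ s ∈ (S : Subgroup G), c s E = E) →
      (S : Subgroup G) ≤ Subgroup.normalizer (E : Set G) := fun E h s hs => hnorm' s E (h s hs)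
  have weak : ∀ X Y : Subgroup G, (∀ s ∈ (S : Subgroup G), c s X = X) → (∀ s ∈ (S : Subgroup G), c s Y = Y) →
      X ≤ (S : Subgroup G) → Cfsg.IsElementaryAbelian 2 X → Cfsg.IsElementaryAbelian 2 Y →
      (∀ E : Subgroup G, Cfsg.IsElementaryAbelian 2 E → E ≤ (S : Subgroup G) → X ≤ E → E = X) →
      ∀ g : G, c g X ≤ Y →
      ∃ n ∈ Subgroup.normalizer ((S : Subgroup G) : Set G), c n X = Y := by
    intro X Y hX hY hXS hXel hYel hXmax g hle
    have hle' : X ≤ c g⁻¹ Y := fun x hx => by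
      have := hmem g⁻¹ Y _ (hle (hmem g X x hx))
      simpa [mul_assoc] using this
    -- `c g X = Y`
    have hXY : c g X = Y := by
      have hel := elc g⁻¹ Y hYel
      have hN : c g⁻¹ Y ≤ Subgroup.normalizer (X : Set G) := by
        refine le_trans ?_ (Subgroup.centralizer_le_normalizer _)
        intro y hy
        exact Subgroup.mem_centralizer_iff.mpr fun x hx =>
          congrArg Subtype.val (hel.1.is_comm.comm (⟨x, hle' hx⟩ : c g⁻¹ Y) ⟨y, hy⟩)
      have hp : IsPGroup 2 ↥(c g⁻¹ Y) := fun y => ⟨1, Subtype.ext (by simpa using hel.2 _ y.2)⟩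
      obtain ⟨Q, hQ⟩ := (hp.comap_subtype (K := Subgroup.normalizer (X : Set G))).exists_le_sylow
      obtain ⟨h, hh⟩ := MulAction.exists_smul_eq (Subgroup.normalizer (X : Set G)) Q (S.subtype (hSN X hX))
      have h1 : c (h : G) (c g⁻¹ Y) ≤ (S : Subgroup G) := by
        rintro _ ⟨y, hy, rfl⟩
        have : h * ⟨y, hN hy⟩ * h⁻¹ ∈ ((S.subtype (hSN X hX)) : Subgroup _) := by
          rw [← hh]; exact ⟨⟨y, hN hy⟩, hQ hy, rfl⟩
        exact this
      have h2 : X ≤ c (h : G) (c g⁻¹ Y) := by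
        exact (hnorm (h : G) X h.2).symm.le.trans (Subgroup.map_mono hle')
      have h3 := hXmax _ (elc _ _ hel) h1 h2
      have h4 : c g⁻¹ Y = X := inj (h : G) _ _ (h3.trans (hnorm (h : G) X h.2).symm)
      rw [← h4, hcc, mul_inv_cancel, hc1]
    -- Burnside
    have hgS : ((g • S : Sylow 2 G) : Subgroup G) ≤ Subgroup.normalizer (Y : Set G) := by
      rintro _ ⟨s, hs, rfl⟩
      refine hnorm' _ _ ?_
      show c (g * s * g⁻¹) Y = Y
      rw [← hXY, hcc, show g * s * g⁻¹ * g = g * s by simp [mul_assoc], ← hcc, hX s hs]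
    obtain ⟨h, hh⟩ := MulAction.exists_smul_eq (Subgroup.normalizer (Y : Set G))
      ((g • S).subtype hgS) (S.subtype (hSN Y hY))
    refine ⟨h * g, ?_, by rw [← hcc, hXY, hnorm _ _ h.2]⟩
    refine Subgroup.mem_normalizer_fintype fun s hs => ?_
    have hm : (⟨g * s * g⁻¹, hgS ⟨s, hs, rfl⟩⟩ : Subgroup.normalizer (Y : Set G)) ∈ (((g • S).subtype hgS) : Subgroup _) := ⟨s, hs, rfl⟩
    have : h * ⟨g * s * g⁻¹, hgS ⟨s, hs, rfl⟩⟩ * h⁻¹ ∈ ((S.subtype (hSN Y hY)) : Subgroup _) := by
      rw [← hh]; exact ⟨_, hm, rfl⟩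
    have h5 : (h : G) * (g * s * g⁻¹) * (h : G)⁻¹ ∈ (S : Subgroup G) := this
    show (h : G) * g * s * ((h : G) * g)⁻¹ ∈ (S : Subgroup G)
    simpa [mul_assoc] using h5
  refine ⟨⟨hAS, fun g hg => ?_⟩, ⟨hBS, fun g hg => ?_⟩, fun n hn => ⟨hnorm' n _ (hfix n hn).1, hnorm' n _ (hfix n hn).2⟩⟩
  · rcases hinto _ (elc g A' hAel) hg with h | h
    · exact le_antisymm h (le_of_eq (Subgroup.eq_of_le_of_card_ge h (by
        rw [Subgroup.card_map_of_injective (MulAut.conj g).injective])).symm)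
    · obtain ⟨n, hn, hnX⟩ := weak A' B' (fun s hs => (hnA s hs).1) (fun s hs => (hnA s hs).2) hAS hAel hBel maxA g h
      exact absurd ((hfix n hn).1.symm.trans hnX) hne
  · rcases hinto _ (elc g B' hBel) hg with h | h
    · obtain ⟨n, hn, hnX⟩ := weak B' A' (fun s hs => (hnA s hs).2) (fun s hs => (hnA s hs).1) hBS hBel hAel maxB g h
      exact absurd ((hfix n hn).2.symm.trans hnX) (Ne.symm hne)
    · exact Subgroup.eq_of_le_of_card_ge h (by
        rw [Subgroup.card_map_of_injective (MulAut.conj g).injective])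

end Cfsg.Agent.S3203
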