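import Cfsg.Statements.S3206
import Cfsg.Agent.Lib.Classical.AbelianSylowTwo
import Cfsg.Agent.Lib.Classical.PSLAbelianSylow
import Cfsg.Agent.Lib.Classical.SL2Structure
import Cfsg.Agent.Lib.Classical.PSLTwoSimple
import Cfsg.Agent.Lib.ClassSizes.Basic

set_option autoImplicit false
open Cfsg

namespace Cfsg.Agent.S3206

/-- Let G be a non-abelian finite simple group with abelian Sylow 2-subgroups, and let t be an involution of G whose centralizer is a maximal subgroup of G and is the direct product of the subgroup generated by t with a subgroup E having a normal subgroup isomorphic to PSL(2, q), q odd and greater than 3, with trivial centralizer in E. Then every finite perfect group having a central 2-subgroup with quotient isomorphic to G has that central subgroup trivial (G has no nontrivial perfect central extension by a 2-group), and every automorphism of G of 2-power order that fixes every element of some Sylow 2-subgroup of G is inner. -/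
theorem result {G : Type*} [Group G] [Finite G] [IsSimpleGroup G]
    (hG : ¬ IsMulCommutative G) (hab : ∀ S : Sylow 2 G, IsMulCommutative ↥(S : Subgroup G))
    (t : G) (ht : orderOf t = 2) (hmax : IsCoatom (Subgroup.centralizer ({t} : Set G)))
    (E : Subgroup G) (hE : Cfsg.IsInternalDirectProduct (Subgroup.zpowers t) E (Subgroup.centralizer ({t} : Set G)))
    {F : Type*} [Field F] [Fintype F] (hFo : Odd (Fintype.card F)) (hF3 : 3 < Fintype.card F)
    (N : Subgroup ↥E) [N.Normal] (hN : Nonempty (↥N ≃* Matrix.ProjectiveSpecialLinearGroup (Fin 2) F))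
    (hNc : Subgroup.centralizer (N : Set ↥E) = ⊥) :
    (∀ (L : Type) (_ : Group L) (_ : Finite L) (Z : Subgroup L) (_ : Z.Normal), commutator L = ⊤ → Z ≤ Subgroup.center L →
        IsPGroup 2 ↥Z → Nonempty (L ⧸ Z ≃* G) → Z = ⊥) ∧
    (∀ (φ : G ≃* G) (k : ℕ), φ ^ (2 ^ k) = 1 → (∃ S : Sylow 2 G, ∀ s ∈ (S : Subgroup G), φ s = s) →
        ∃ g : G, ∀ x : G, φ x = g * x * g⁻¹) := by
  classical
  have hZ := CfsgLib.Classical.AbSylow.center_eq_bot_simple hG
  have hO := CfsgLib.Classical.AbSylow.oddCore_eq_bot_simple (G := G) ht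
  refine ⟨?_, fun φ k hφ ⟨S, hS⟩ =>
    CfsgLib.Classical.AbSylow.inner_of_fixed hO hZ S (hab S) φ hφ hS⟩
  intro L _ _ Z _ hL hZc hZ2 ⟨e⟩
  obtain ⟨hTC, hEC, hcomm, hinf, hsup⟩ := hE
  -- the Sylow subgroup
  have hT2 : IsPGroup 2 (Subgroup.zpowers t) :=
    IsPGroup.of_card (n := 1) (by rw [Nat.card_zpowers, ht, pow_one])
  obtain ⟨S, hS⟩ := hT2.exists_le_sylow
  have hSab := hab S
  have htS : t ∈ (S : Subgroup G) := hS (Subgroup.mem_zpowers t)
  have hSC : (S : Subgroup G) ≤ Subgroup.centralizer ({t} : Set G) := fun x hx =>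
    Subgroup.mem_centralizer_singleton_iff.2
      (congrArg Subtype.val (hSab.is_comm.comm (⟨x, hx⟩ : (S : Subgroup G)) ⟨t, htS⟩))
  have hdec : ∀ x ∈ (S : Subgroup G), ∃ a ∈ Subgroup.zpowers t, ∃ b ∈ E, x = a * b ∧
      b ∈ (S : Subgroup G) := by
    intro x hx
    have hx' : x ∈ Subgroup.zpowers t ⊔ E := hsup.symm ▸ hSC hx
    have hn : Subgroup.zpowers t ≤ Subgroup.normalizer (E : Set G) := fun a ha =>
      Subgroup.mem_normalizer_iff.2 fun y => by
        constructor
        · intro hy
          rw [hcomm a ha y hy, mul_inv_cancel_right]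
          exact hy
        · intro hy
          have h1 := hcomm a⁻¹ (inv_mem ha) _ hy
          have e1 : y = a⁻¹ * (a * y * a⁻¹) * a := by group
          rw [e1, h1, inv_mul_cancel_right]
          exact hy
    rw [← SetLike.mem_coe, Subgroup.coe_mul_of_left_le_normalizer_right _ _ hn] at hx'
    obtain ⟨a, ha, b, hb, rfl⟩ := hx'
    exact ⟨a, ha, b, hb, rfl, (Subgroup.mul_mem_cancel_left _ (hS ha)).1 hx⟩
  let SE : Subgroup E := (S : Subgroup G).subgroupOf E
  have hSEp : IsPGroup 2 SE := S.isPGroup'.comap_of_injective _ E.subtype_injective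
  obtain ⟨QE, hQE⟩ := hSEp.exists_le_sylow
  have hSEeq : SE = (QE : Subgroup E) := by
    refine le_antisymm hQE fun q hq => ?_
    have hn : (QE : Subgroup E).map E.subtype ≤ Subgroup.normalizer (Subgroup.zpowers t : Set G) := by
      rintro _ ⟨y, -, rfl⟩
      refine Subgroup.mem_normalizer_iff.2 fun a => ?_
      show a ∈ Subgroup.zpowers t ↔ (y : G) * a * (y : G)⁻¹ ∈ Subgroup.zpowers t
      refine ⟨fun ha => ?_, fun ha => ?_⟩
      · rw [← hcomm a ha _ y.2]
        simpa using ha
      · have h1 := hcomm _ ha _ y.2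
        have h2 : a = (y : G)⁻¹ * ((y : G) * a * (y : G)⁻¹ * (y : G)) := by group
        rw [h1, inv_mul_cancel_left] at h2
        exact h2 ▸ ha
    have hp := IsPGroup.to_sup_of_normal_right' (QE.isPGroup'.map E.subtype) hT2 hn
    have hle : (S : Subgroup G) ≤ (QE : Subgroup E).map E.subtype ⊔ Subgroup.zpowers t := by
      intro x hx
      obtain ⟨a, ha, b, hb, rfl, hbS⟩ := hdec x hx
      exact mul_mem (Subgroup.mem_sup_right ha)
        (Subgroup.mem_sup_left ⟨⟨b, hb⟩, hQE (show b ∈ (S : Subgroup G) from hbS), rfl⟩)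
    have hq' : (q : G) ∈ (S : Subgroup G) := S.is_maximal' hp hle ▸
      Subgroup.mem_sup_left ⟨q, hq, rfl⟩
    exact hq'
  let SN : Subgroup N := SE.subgroupOf N
  have hSNidx : ¬ 2 ∣ SN.index := fun h => by
    have h1 : SE.relIndex N ∣ SE.index := CfsgLib.ClassSizes.relIndex_dvd_index_of_normal_right N SE
    exact QE.not_dvd_index (hSEeq ▸ h.trans h1)
  let V : Sylow 2 N := (hSEp.comap_of_injective N.subtype N.subtype_injective).toSylow hSNidx
  obtain ⟨ψ⟩ := hN
  have hVab : IsMulCommutative (V : Subgroup N) := ⟨⟨fun a b => Subtype.ext (Subtype.ext (Subtype.ext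
    (congrArg Subtype.val (hSab.is_comm.comm
      (⟨((a : N) : E), a.2⟩ : (S : Subgroup G)) ⟨((b : N) : E), b.2⟩) :)))⟩⟩
  let P' : Sylow 2 (Matrix.ProjectiveSpecialLinearGroup (Fin 2) F) :=
    V.mapSurjective (f := ψ.toMonoidHom) ψ.surjective
  let eV := ψ.subgroupMap (V : Subgroup N)
  have hP'ab : IsMulCommutative (P' : Subgroup (Matrix.ProjectiveSpecialLinearGroup (Fin 2) F)) :=
    ⟨⟨fun a b => eV.symm.injective ((map_mul eV.symm a b).trans
      ((hVab.is_comm.comm _ _).trans (map_mul eV.symm b a).symm))⟩⟩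
  have hK := CfsgLib.Classical.Two.isKleinFour_sylow_PSL rfl
    (CfsgLib.Classical.AbSylow.mod_eight_of_abelian_sylow_PSL hFo P' hP'ab) P'
  have hV4 : Nat.card (V : Subgroup N) = 4 := (Nat.card_congr eV.toEquiv).trans hK.card_four
  have hV2 : ∀ v : N, v ∈ (V : Subgroup N) → v * v = 1 := fun v hv => by
    have h0 : ∀ z : (P' : Subgroup (Matrix.ProjectiveSpecialLinearGroup (Fin 2) F)), z * z = 1 := by
      intro z
      have := Monoid.pow_exponent_eq_one z
      rwa [hK.exponent_two, pow_two] at this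
    have h1 : eV ⟨v, hv⟩ * eV ⟨v, hv⟩ = 1 := h0 _
    rw [← map_mul, MulEquiv.map_eq_one_iff] at h1
    exact congrArg Subtype.val h1
  have : IsSimpleGroup (Matrix.ProjectiveSpecialLinearGroup (Fin 2) F) :=
    CfsgLib.Classical.isSimpleGroup_PSL_two (by omega)
  have : IsSimpleGroup N := ψ.isSimpleGroup
  have hNna : ¬ IsMulCommutative N := by
    intro hc
    have h1 := @IsSimpleGroup.prime_card N
      { (inferInstance : Group N) with mul_comm := hc.is_comm.comm } _
    have h2 : Nat.card (V : Subgroup N) ∣ Nat.card N := Subgroup.card_subgroup_dvd_card _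
    rw [hV4] at h2
    rcases (Nat.dvd_prime h1).1 h2 with h | h
    · norm_num at h
    · rw [← h] at h1; norm_num at h1
  have hVne : ∃ v : N, orderOf v = 2 := by
    obtain ⟨v, hv⟩ := exists_prime_orderOf_dvd_card' (G := N) 2
      ((show 2 ∣ Nat.card (V : Subgroup N) by rw [hV4]; norm_num).trans
        (Subgroup.card_subgroup_dvd_card _))
    exact ⟨v, hv⟩
  obtain ⟨v₀, hv₀⟩ := hVne
  have hONb := CfsgLib.Classical.AbSylow.oddCore_eq_bot_simple (G := N) hv₀
  have hCNb := CfsgLib.Classical.AbSylow.center_eq_bot_simple hNna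
  have hSEN : ∀ s : E, s ∈ SE → s ∈ N := by
    intro s hs
    obtain ⟨k, hk⟩ := IsPGroup.iff_orderOf.1 hSEp ⟨s, hs⟩
    have hsk : s ^ 2 ^ k = 1 := by
      rw [← Subgroup.orderOf_coe] at hk
      simp only at hk
      rw [← hk, pow_orderOf_eq_one]
    obtain ⟨g, hg⟩ := CfsgLib.Classical.AbSylow.inner_of_fixed hONb hCNb V hVab
      (MulAut.conjNormal s : MulAut N) (k := k) (by rw [← map_pow, hsk, map_one]) (fun v hv => by
        apply Subtype.ext
        rw [MulAut.conjNormal_apply]
        apply Subtype.ext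
        show (s : G) * ((v : E) : G) * (s : G)⁻¹ = _
        rw [show (s : G) * ((v : E) : G) = ((v : E) : G) * (s : G) from
          congrArg Subtype.val (hSab.is_comm.comm (⟨(s : G), hs⟩ : (S : Subgroup G))
            ⟨((v : E) : G), hv⟩), mul_inv_cancel_right])
    have hc : (g : E)⁻¹ * s ∈ Subgroup.centralizer (N : Set E) :=
      Subgroup.mem_centralizer_iff.2 fun y hy => by
        have h := congrArg Subtype.val (hg ⟨y, hy⟩)
        rw [MulAut.conjNormal_apply] at h
        simp only [Subgroup.coe_mul, Subgroup.coe_inv] at h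
        calc y * ((g : E)⁻¹ * s) = (g : E)⁻¹ * ((g : E) * y * (g : E)⁻¹) * s := by group
          _ = (g : E)⁻¹ * (s * y * s⁻¹) * s := by rw [h]
          _ = (g : E)⁻¹ * s * y := by group
    rw [hNc, Subgroup.mem_bot, inv_mul_eq_one] at hc
    exact hc ▸ g.2
  have hmul : ∀ x ∈ (S : Subgroup G), x * x = 1 := by
    intro x hx
    obtain ⟨a, ha, b, hb, rfl, hbS⟩ := hdec x hx
    have h1 : b * b = 1 := congrArg (fun z : N => ((z : E) : G))
      (hV2 ⟨⟨b, hb⟩, hSEN _ hbS⟩ hbS)
    have h2 : a * a = 1 := by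
      rw [← pow_two]
      have hd : orderOf a ∣ 2 :=
        ((Subgroup.orderOf_dvd_natCard _ ha).trans (dvd_of_eq (Nat.card_zpowers t))).trans
          (dvd_of_eq ht)
      exact orderOf_dvd_iff_pow_eq_one.1 hd
    rw [show a * b * (a * b) = a * (b * a) * b by group, ← hcomm a ha b hb,
      show a * (a * b) * b = (a * a) * (b * b) by group, h1, h2, one_mul]
  have h8 : Nat.card (S : Subgroup G) = 8 := by
    let f : Subgroup.zpowers t × (V : Subgroup N) → (S : Subgroup G) := fun p =>
      ⟨(p.1 : G) * (((p.2 : N) : E) : G), mul_mem (hS p.1.2) p.2.2⟩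
    have hf : Function.Bijective f := by
      constructor
      · rintro ⟨a, v⟩ ⟨a', v'⟩ h
        have h' : (a : G) * (((v : N) : E) : G) = (a' : G) * (((v' : N) : E) : G) :=
          congrArg Subtype.val h
        have h0 : (a' : G)⁻¹ * (a : G) = (((v' : N) : E) : G) * (((v : N) : E) : G)⁻¹ := by
          calc (a' : G)⁻¹ * (a : G)
              = (a' : G)⁻¹ * ((a : G) * (((v : N) : E) : G)) * (((v : N) : E) : G)⁻¹ := by group
            _ = _ := by rw [h']; group
        have hm : (a' : G)⁻¹ * (a : G) ∈ Subgroup.zpowers t ⊓ E :=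
          Subgroup.mem_inf.2 ⟨(Subgroup.zpowers t).mul_mem (Subgroup.inv_mem _ a'.2) a.2,
            h0 ▸ E.mul_mem (v' : N).1.2 (E.inv_mem (v : N).1.2)⟩
        rw [hinf, Subgroup.mem_bot] at hm
        have ha : (a' : G) = (a : G) := inv_mul_eq_one.1 hm
        rw [ha] at h'
        exact Prod.ext (Subtype.ext ha.symm)
          (Subtype.ext (Subtype.ext (Subtype.ext (mul_left_cancel h'))))
      · rintro ⟨x, hx⟩
        obtain ⟨a, ha, b, hb, rfl, hbS⟩ := hdec x hx
        exact ⟨(⟨a, ha⟩, ⟨⟨⟨b, hb⟩, hSEN _ hbS⟩, hbS⟩), rfl⟩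
    rw [← Nat.card_congr (Equiv.ofBijective f hf), Nat.card_prod, Nat.card_zpowers, ht, hV4]
  let f : L →* G := e.toMonoidHom.comp (QuotientGroup.mk' Z)
  have hker : f.ker = Z := by
    ext z
    simp [f, MonoidHom.mem_ker]
  rw [← hker] at hZc hZ2 ⊢
  exact CfsgLib.Classical.AbSylow.center_eq_bot_cover hG S hSab h8 hmul f
    (e.surjective.comp (QuotientGroup.mk'_surjective Z)) hZc hZ2 hL

end Cfsg.Agent.S3206
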