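import Cfsg.Statements.S3208
import Mathlib

set_option autoImplicit false
open Cfsg

namespace Cfsg.Agent.S3208

/-- Let j be an involution of a finite group G, H a subgroup of G, and T a Sylow 2-subgroup of H ∩ C_G(j) containing j such that ⟨j⟩ is a characteristic subgroup of T. Then T is a Sylow 2-subgroup of H. -/
theorem result {G : Type*} [Group G] [Finite G]
    (j : G) (hj : orderOf j = 2) (H T : Subgroup G) (hT : T ≤ H ⊓ Subgroup.centralizer ({j} : Set G)) (h2 : IsPGroup 2 ↥T)
    (hSyl : ¬ 2 ∣ T.relIndex (H ⊓ Subgroup.centralizer ({j} : Set G))) (hjT : j ∈ T)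
    (hchar : ((Subgroup.zpowers j).subgroupOf T).Characteristic) :
    ¬ 2 ∣ T.relIndex H := by
  haveI : Fact (Nat.Prime 2) := ⟨Nat.prime_two⟩
  intro hdvd
  obtain ⟨n, hn⟩ := (h2.comap_subtype (K := H)).exists_card_eq
  have hTH : T ≤ H := hT.trans inf_le_left
  have hmod := Sylow.card_quotient_normalizer_modEq_card_quotient (p := 2) (H := T.subgroupOf H) hn
  have hN2 : 2 ∣ (T.subgroupOf H).relIndex (Subgroup.normalizer ((T.subgroupOf H : Subgroup H) : Set H)) := by
    have : 2 ∣ (T.subgroupOf H).index := hdvd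
    exact (Nat.ModEq.dvd_iff hmod dvd_rfl).mpr this
  rw [← Subgroup.relIndex_map_map_of_injective _ _ H.subtype_injective, Subgroup.subgroupOf_map_subtype,
    inf_of_le_left hTH] at hN2
  set N := (Subgroup.normalizer ((T.subgroupOf H : Subgroup H) : Set H)).map H.subtype with hN
  have hNle : N ≤ H ⊓ Subgroup.centralizer ({j} : Set G) := by
    rintro _ ⟨u, hu, rfl⟩
    refine ⟨u.2, Subgroup.mem_centralizer_singleton_iff.mpr ?_⟩
    have hu' : ∀ t : G, t ∈ T → (u : G) * t * (u : G)⁻¹ ∈ T := fun t ht =>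
      ((Subgroup.mem_normalizer_iff.mp hu) ⟨t, hTH ht⟩).mp ht
    have hu'' : ∀ t : G, t ∈ T → (u : G)⁻¹ * t * (u : G) ∈ T := fun t ht => by
      have := ((Subgroup.mem_normalizer_iff.mp (Subgroup.inv_mem _ hu)) ⟨t, hTH ht⟩).mp ht
      simpa [Subgroup.mem_subgroupOf] using this
    let σ : T ≃* T :=
      { toFun := fun t => ⟨u * t * (u : G)⁻¹, hu' t t.2⟩
        invFun := fun t => ⟨(u : G)⁻¹ * t * u, hu'' t t.2⟩
        left_inv := fun t => by ext; simp [mul_assoc]
        right_inv := fun t => by ext; simp [mul_assoc]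
        map_mul' := fun s t => by ext; simp [mul_assoc] }
    have hj' : σ ⟨j, hjT⟩ ∈ (Subgroup.zpowers j).subgroupOf T := by
      have := hchar.fixed σ
      have h' : (⟨j, hjT⟩ : T) ∈ ((Subgroup.zpowers j).subgroupOf T).comap σ.toMonoidHom := by
        rw [this]; exact Subgroup.mem_zpowers j
      exact h'
    have hj1 : (u : G) * j * (u : G)⁻¹ ∈ Subgroup.zpowers j := hj'
    obtain ⟨i, hi⟩ := hj1
    have hne : (u : G) * j * (u : G)⁻¹ ≠ 1 := by
      intro h; simp at h; rw [h] at hj; simp at hj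
    have hij : (u : G) * j * (u : G)⁻¹ = j := by
      rw [← hi] at hne ⊢
      rcases Int.even_or_odd i with ⟨c, rfl⟩ | ⟨c, rfl⟩
      · exfalso; apply hne
        show j ^ (c + c) = 1
        rw [← two_mul, zpow_mul]
        have : j ^ (2:ℤ) = 1 := by rw [zpow_two, ← pow_two, ← hj, pow_orderOf_eq_one]
        rw [this, one_zpow]
      · show j ^ (2 * c + 1) = j
        have : j ^ (2:ℤ) = 1 := by rw [zpow_two, ← pow_two, ← hj, pow_orderOf_eq_one]
        rw [zpow_add, zpow_mul, this, one_zpow, one_mul, zpow_one]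
    have := mul_inv_eq_iff_eq_mul.mp hij
    exact this
  apply hSyl
  have hTN : T ≤ N := by
    intro t ht
    exact ⟨⟨t, hTH ht⟩, Subgroup.le_normalizer ht, rfl⟩
  exact hN2.trans ⟨_, (Subgroup.relIndex_mul_relIndex T N _ hTN hNle).symm⟩

end Cfsg.Agent.S3208
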