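import Cfsg.Statements.S3209
import Mathlib
import Cfsg.Agent.Lib.Classical.SL2Structure

set_option autoImplicit false
open Cfsg

namespace Cfsg.Agent.S3209

--- PRE
section
open Matrix
open scoped MatrixGroups

variable {F : Type*} [Field F] [Fintype F]

/-- the standard element of order four -/
def std (F : Type*) [Field F] : SL(2, F) := ⟨!![0, -1; 1, 0], by rw [det_fin_two_of]; ring⟩

theorem std_sq : (std F) * (std F) = -1 := by
  apply Subtype.ext
  refine (Matrix.SpecialLinearGroup.coe_mul _ _).trans ?_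
  ext i j
  fin_cases i <;> fin_cases j <;> simp [std]

theorem exists_conj_std (h2 : (2 : F) ≠ 0) (M : SL(2, F)) (hM : M * M = -1) :
    ∃ P : SL(2, F), M = P * std F * P⁻¹ := by
  classical
  have hm : (M : Matrix (Fin 2) (Fin 2) F) * (M : Matrix (Fin 2) (Fin 2) F) = -1 := by
    have := congrArg (fun g : SL(2, F) => (g : Matrix (Fin 2) (Fin 2) F)) hM
    simpa using this
  have hdet := M.det_coe
  rw [det_fin_two] at hdet
  set a := (M : Matrix (Fin 2) (Fin 2) F) 0 0 with ha
  set b := (M : Matrix (Fin 2) (Fin 2) F) 0 1 with hb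
  set c := (M : Matrix (Fin 2) (Fin 2) F) 1 0 with hc
  set d := (M : Matrix (Fin 2) (Fin 2) F) 1 1 with hd
  have e00 : a * a + b * c = -1 := by
    have := congrFun (congrFun hm 0) 0
    simpa [mul_apply, Fin.sum_univ_two] using this
  have e11 : c * b + d * d = -1 := by
    have := congrFun (congrFun hm 1) 1
    simpa [mul_apply, Fin.sum_univ_two] using this
  have e01 : a * b + b * d = 0 := by
    have := congrFun (congrFun hm 0) 1
    simpa [mul_apply, Fin.sum_univ_two] using this
  have e10 : c * a + d * c = 0 := by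
    have := congrFun (congrFun hm 1) 0
    simpa [mul_apply, Fin.sum_univ_two] using this
  have hd' : d = -a := by
    have h1 : a * (a + d) = 0 := by linear_combination e00 + hdet
    have h2' : d * (a + d) = 0 := by linear_combination e11 + hdet
    have : (a + d) * (a + d) = 0 := by linear_combination h1 + h2'
    linear_combination mul_self_eq_zero.1 this
  obtain ⟨x, y, hxy⟩ : ∃ x y : F, c * x ^ 2 - 2 * a * x * y - b * y ^ 2 = 1 := by
    by_cases hc0 : c = 0
    · have ha0 : a ≠ 0 := fun h => by rw [h, hc0] at e00; simp at e00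
      refine ⟨(-1 - b) / (2 * a), 1, ?_⟩
      rw [hc0]
      field_simp
      ring
    · obtain ⟨u, y, huy⟩ : ∃ u y : F, u ^ 2 + y ^ 2 = c := by
        have hodd : Fintype.card F % 2 = 1 := by
          rcases Nat.mod_two_eq_zero_or_one (Fintype.card F) with h' | h'
          swap
          · exact h'
          exfalso
          have h : ringChar F = 2 := FiniteField.even_card_iff_char_two.2 h'
          exact h2 (by
            have := CharP.cast_eq_zero F (ringChar F)
            rw [h] at this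
            simpa using this)
        obtain ⟨u, y, h⟩ := FiniteField.exists_root_sum_quadratic (R := F)
          (f := Polynomial.X ^ 2) (g := Polynomial.X ^ 2 - Polynomial.C c)
          (Polynomial.degree_X_pow 2)
          (by rw [Polynomial.degree_X_pow_sub_C two_pos]; rfl) hodd
        refine ⟨u, y, ?_⟩
        simp at h
        linear_combination h
      refine ⟨(u + a * y) / c, y, ?_⟩
      field_simp
      linear_combination huy - y ^ 2 * e00
  let P : SL(2, F) := ⟨!![x, a * x + b * y; y, c * x + d * y], by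
    rw [det_fin_two_of, hd']; linear_combination hxy⟩
  refine ⟨P, eq_mul_inv_iff_mul_eq.2 (Subtype.ext ?_)⟩
  refine ((Matrix.SpecialLinearGroup.coe_mul _ _).trans ?_).trans (Matrix.SpecialLinearGroup.coe_mul _ _).symm
  ext i k
  fin_cases i <;> fin_cases k <;> simp [P, std, mul_apply, Fin.sum_univ_two, ← ha, ← hb, ← hc, ← hd] <;>
    first
    | linear_combination x * e00 + y * e01
    | linear_combination x * e10 + y * e11
    | ring

end

/-- Let L₁ ≅ SL₂(q₁) and L₂ ≅ SL₂(q₂), q₁ and q₂ odd, be elementwise-commuting subgroups of a finite group meeting in ⟨j⟩ for an involution j. Then L₁L₂ has exactly two conjugacy classes of involutions: the central involution j, and one further class (there is an involution x ≠ j in L₁L₂, and every involution of L₁L₂ other than j is conjugate to x by an element of L₁L₂). -/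
theorem result {G : Type*} [Group G] [Finite G]
    {F₁ : Type*} [Field F₁] [Fintype F₁] {F₂ : Type*} [Field F₂] [Fintype F₂]
    (hF₁ : Odd (Fintype.card F₁)) (hF₂ : Odd (Fintype.card F₂)) (L₁ L₂ : Subgroup G)
    (e₁ : ↥L₁ ≃* Matrix.SpecialLinearGroup (Fin 2) F₁) (e₂ : ↥L₂ ≃* Matrix.SpecialLinearGroup (Fin 2) F₂)
    (hc : ∀ x ∈ L₁, ∀ y ∈ L₂, x * y = y * x) (j : G) (hj : orderOf j = 2) (hm : L₁ ⊓ L₂ = Subgroup.zpowers j) :
    ∃ x ∈ L₁ ⊔ L₂, orderOf x = 2 ∧ x ≠ j ∧
      ∀ y ∈ L₁ ⊔ L₂, orderOf y = 2 → y = j ∨ ∃ g ∈ L₁ ⊔ L₂, g * x * g⁻¹ = y := by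
  classical
  have h21 : (2 : F₁) ≠ 0 := fun h => by
    have h1 : ringChar F₁ = 2 := (CharP.ringChar_of_prime_eq_zero Nat.prime_two (by simpa using h))
    have h3 := FiniteField.even_card_iff_char_two.1 h1
    rw [Nat.odd_iff] at hF₁
    omega
  have h22 : (2 : F₂) ≠ 0 := fun h => by
    have h1 : ringChar F₂ = 2 := (CharP.ringChar_of_prime_eq_zero Nat.prime_two (by simpa using h))
    have h3 := FiniteField.even_card_iff_char_two.1 h1
    rw [Nat.odd_iff] at hF₂
    omega
  have hjm : j ∈ L₁ ⊓ L₂ := hm ▸ Subgroup.mem_zpowers j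
  have hj2 : j * j = 1 := by rw [← pow_two, ← hj]; exact pow_orderOf_eq_one j
  have hj1 : j ≠ 1 := fun h => by simp [h] at hj
  have hinter : ∀ z, z ∈ L₁ → z ∈ L₂ → z = 1 ∨ z = j := by
    intro z hz hz'
    have hz'' : z ∈ Subgroup.zpowers j := hm ▸ ⟨hz, hz'⟩
    obtain ⟨i, rfl⟩ := hz''
    rcases Int.even_or_odd i with ⟨l, rfl⟩ | ⟨l, rfl⟩
    · left; show j ^ (l + l) = 1
      rw [← two_mul, _root_.zpow_mul, zpow_two, hj2, _root_.one_zpow]
    · right; show j ^ (2 * l + 1) = j
      rw [zpow_add_one, _root_.zpow_mul, zpow_two, hj2, _root_.one_zpow, one_mul]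
  have hneg1 : e₁ ⟨j, hjm.1⟩ = -1 := CfsgLib.Classical.Two.eq_neg_one_of_orderOf_two h21 (by
    rw [MulEquiv.orderOf_eq, Subgroup.orderOf_mk, hj])
  have hneg2 : e₂ ⟨j, hjm.2⟩ = -1 := CfsgLib.Classical.Two.eq_neg_one_of_orderOf_two h22 (by
    rw [MulEquiv.orderOf_eq, Subgroup.orderOf_mk, hj])
  -- square roots of `j` are conjugate to the standard one
  have root1 : ∀ x : L₁, (x : G) * x = j → ∃ p : L₁, (x : G) = p * (e₁.symm (std F₁) : G) * (p : G)⁻¹ := by
    intro x hx
    obtain ⟨P, hP⟩ := exists_conj_std h21 (e₁ x) (by rw [← map_mul, ← hneg1]; exact congrArg e₁ (Subtype.ext hx))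
    refine ⟨e₁.symm P, ?_⟩
    conv_lhs => rw [← e₁.symm_apply_apply x, hP, map_mul, map_mul, map_inv]
    rfl
  have root2 : ∀ x : L₂, (x : G) * x = j → ∃ p : L₂, (x : G) = p * (e₂.symm (std F₂) : G) * (p : G)⁻¹ := by
    intro x hx
    obtain ⟨P, hP⟩ := exists_conj_std h22 (e₂ x) (by rw [← map_mul, ← hneg2]; exact congrArg e₂ (Subtype.ext hx))
    refine ⟨e₂.symm P, ?_⟩
    conv_lhs => rw [← e₂.symm_apply_apply x, hP, map_mul, map_mul, map_inv]
    rfl
  set u : G := (e₁.symm (std F₁) : G) with hu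
  set v : G := (e₂.symm (std F₂) : G) with hv
  have huu : u * u = j := by
    have h : e₁.symm (std F₁) * e₁.symm (std F₁) = ⟨j, hjm.1⟩ := by
      rw [← map_mul, std_sq, ← hneg1, e₁.symm_apply_apply]
    exact congrArg Subtype.val h
  have hvv : v * v = j := by
    have h : e₂.symm (std F₂) * e₂.symm (std F₂) = ⟨j, hjm.2⟩ := by
      rw [← map_mul, std_sq, ← hneg2, e₂.symm_apply_apply]
    exact congrArg Subtype.val h
  have huL : u ∈ L₁ := (e₁.symm (std F₁)).2
  have hvL : v ∈ L₂ := (e₂.symm (std F₂)).2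
  have huv : Commute u v := hc u huL v hvL
  have hne : u * v ≠ 1 ∧ u * v ≠ j := by
    constructor
    · intro h
      have hmem : u ∈ L₂ := by rw [eq_inv_of_mul_eq_one_left h]; exact L₂.inv_mem hvL
      rcases hinter u huL hmem with h' | h'
      · rw [h', one_mul] at huu; exact hj1 huu.symm
      · rw [h', hj2] at huu; exact hj1 huu.symm
    · intro h
      have hmem : u ∈ L₂ := by rw [eq_mul_inv_of_mul_eq h]; exact L₂.mul_mem hjm.2 (L₂.inv_mem hvL)
      rcases hinter u huL hmem with h' | h'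
      · rw [h', one_mul] at huu; exact hj1 huu.symm
      · rw [h', hj2] at huu; exact hj1 huu.symm
  refine ⟨u * v, Subgroup.mul_mem _ (Subgroup.mem_sup_left huL) (Subgroup.mem_sup_right hvL),
    orderOf_eq_prime (by rw [pow_two, huv.symm.mul_mul_mul_comm, huu, hvv, hj2]) hne.1, hne.2, ?_⟩
  intro y hy hyo
  have hnorm : L₁ ≤ Subgroup.normalizer (L₂ : Set G) := by
    intro x hx
    rw [Subgroup.mem_normalizer_iff]
    intro w
    constructor
    · intro hw; rwa [hc x hx w hw, mul_inv_cancel_right]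
    · intro hw
      have := hc x⁻¹ (L₁.inv_mem hx) _ hw
      have h2 : x⁻¹ * (x * w * x⁻¹) * x = w := by group
      rw [this, mul_assoc, inv_mul_cancel, mul_one] at h2
      rwa [← h2]
  rw [← SetLike.mem_coe, Subgroup.coe_mul_of_left_le_normalizer_right L₁ L₂ hnorm] at hy
  obtain ⟨a, ha, b, hb, rfl⟩ := Set.mem_mul.1 hy
  have hab : Commute a b := hc a ha b hb
  have hsq : a * a * (b * b) = 1 := by
    rw [hab.mul_mul_mul_comm, ← pow_two, ← hyo]; exact pow_orderOf_eq_one _
  have haj : a * a = 1 ∨ a * a = j := hinter _ (L₁.mul_mem ha ha) (by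
    rw [eq_inv_of_mul_eq_one_left hsq]; exact L₂.inv_mem (L₂.mul_mem hb hb))
  rcases haj with haj | haj
  · rw [haj, one_mul] at hsq
    left
    have key1 : a = 1 ∨ a = j := by
      by_contra hcon
      push Not at hcon
      have h := CfsgLib.Classical.Two.eq_neg_one_of_orderOf_two h21 (g := e₁ ⟨a, ha⟩)
        (by rw [MulEquiv.orderOf_eq, Subgroup.orderOf_mk, orderOf_eq_prime (by rw [pow_two, haj]) hcon.1])
      exact hcon.2 (congrArg Subtype.val (e₁.injective (h.trans hneg1.symm)))
    have key2 : b = 1 ∨ b = j := by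
      by_contra hcon
      push Not at hcon
      have h := CfsgLib.Classical.Two.eq_neg_one_of_orderOf_two h22 (g := e₂ ⟨b, hb⟩)
        (by rw [MulEquiv.orderOf_eq, Subgroup.orderOf_mk, orderOf_eq_prime (by rw [pow_two, hsq]) hcon.1])
      exact hcon.2 (congrArg Subtype.val (e₂.injective (h.trans hneg2.symm)))
    rcases key1 with rfl | rfl <;> rcases key2 with rfl | rfl
    · simp at hyo
    · rw [one_mul]
    · rw [mul_one]
    · rw [hj2] at hyo; simp at hyo
  · right
    rw [haj] at hsq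
    have hbj : b * b = j := by
      rw [← inv_eq_of_mul_eq_one_right hsq]
      exact inv_eq_of_mul_eq_one_right hj2
    obtain ⟨p, hp⟩ := root1 ⟨a, ha⟩ haj
    obtain ⟨r, hr⟩ := root2 ⟨b, hb⟩ hbj
    refine ⟨(p : G) * r, Subgroup.mul_mem _ (Subgroup.mem_sup_left p.2) (Subgroup.mem_sup_right r.2), ?_⟩
    have hp' : a = (p : G) * u * (p : G)⁻¹ := hp
    have hr' : b = (r : G) * v * (r : G)⁻¹ := hr
    have c1 : Commute (r : G) u := (hc u huL r r.2).symm
    have c3 : Commute (p : G) ((r : G) * v * (r : G)⁻¹) := hc p p.2 _ (L₂.mul_mem (L₂.mul_mem r.2 hvL) (L₂.inv_mem r.2))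
    rw [hp', hr']
    calc (p : G) * r * (u * v) * ((p : G) * r)⁻¹
        = p * (r * u) * v * (r : G)⁻¹ * (p : G)⁻¹ := by group
      _ = p * (u * r) * v * (r : G)⁻¹ * (p : G)⁻¹ := by rw [c1.eq]
      _ = p * u * ((r * v * (r : G)⁻¹) * (p : G)⁻¹) := by group
      _ = p * u * ((p : G)⁻¹ * (r * v * (r : G)⁻¹)) := by rw [c3.inv_left.eq]
      _ = _ := by group

end Cfsg.Agent.S3209
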