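import Cfsg.Statements.S3210
import Cfsg.Agent.Lib.Classical.SL2Pair

set_option autoImplicit false
open Cfsg

namespace Cfsg.Agent.S3210

/-- Let G be a finite group with subgroups L₁ ≅ SL₂(q₁) and L₂ ≅ SL₂(q₂), q₁ and q₂ odd prime powers, which commute elementwise and meet in ⟨j⟩ for an involution j, and suppose L₁L₂ has index 2 in C_G(j). Then every element n of C_G(j) outside L₁L₂ either normalizes both L₁ and L₂, or conjugates L₁ onto L₂; in the second case q₁ = q₂ and there is an element n′ of C_G(j) outside L₁L₂ conjugating L₁ onto L₂ with n′² ∈ ⟨j⟩. -/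
theorem result {G : Type*} [Group G] [Finite G]
    {F₁ : Type*} [Field F₁] [Fintype F₁] {F₂ : Type*} [Field F₂] [Fintype F₂]
    (hF₁ : Odd (Fintype.card F₁)) (hF₂ : Odd (Fintype.card F₂)) (L₁ L₂ : Subgroup G)
    (e₁ : ↥L₁ ≃* Matrix.SpecialLinearGroup (Fin 2) F₁) (e₂ : ↥L₂ ≃* Matrix.SpecialLinearGroup (Fin 2) F₂)
    (hc : ∀ x ∈ L₁, ∀ y ∈ L₂, x * y = y * x) (j : G) (hj : orderOf j = 2) (hm : L₁ ⊓ L₂ = Subgroup.zpowers j)
    (hle : L₁ ⊔ L₂ ≤ Subgroup.centralizer ({j} : Set G)) (hi : (L₁ ⊔ L₂).relIndex (Subgroup.centralizer ({j} : Set G)) = 2) (n : G) (hn : n ∈ Subgroup.centralizer ({j} : Set G)) (hn' : n ∉ L₁ ⊔ L₂) :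
    (L₁.map (MulAut.conj n).toMonoidHom = L₁ ∧ L₂.map (MulAut.conj n).toMonoidHom = L₂) ∨
      (L₁.map (MulAut.conj n).toMonoidHom = L₂ ∧ Fintype.card F₁ = Fintype.card F₂ ∧
        ∃ n' ∈ Subgroup.centralizer ({j} : Set G), n' ∉ L₁ ⊔ L₂ ∧ L₁.map (MulAut.conj n').toMonoidHom = L₂ ∧ n' ^ 2 ∈ Subgroup.zpowers j) := by
  classical
  open CfsgLib.Classical.SL2Pair in
  set C := Subgroup.centralizer ({j} : Set G) with hC
  set Y := L₁ ⊔ L₂ with hY
  have hjm : j ∈ L₁ ⊓ L₂ := hm ▸ Subgroup.mem_zpowers j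
  have hidx : (Y.subgroupOf C).index = 2 := hi
  have hYn : ∀ g ∈ C, ∀ y ∈ Y, g * y * g⁻¹ ∈ Y := fun g hg y hy => by
    have h := (Subgroup.normal_of_index_eq_two hidx).conj_mem ⟨y, hle hy⟩ (Subgroup.mem_subgroupOf.2 hy) ⟨g, hg⟩
    exact Subgroup.mem_subgroupOf.1 h
  have hnj : n * j * n⁻¹ = j := mul_inv_eq_iff_eq_mul.2 (Subgroup.mem_centralizer_singleton_iff.1 hn)
  have himg : ∀ (L : Subgroup G), L ≤ Y → j ∈ L →
      (∀ y ∈ Y, ∀ l ∈ L, y * l * y⁻¹ ∈ L) →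
      L.map (MulAut.conj n).toMonoidHom ≤ Y ∧ j ∈ L.map (MulAut.conj n).toMonoidHom ∧
      (∀ y ∈ Y, ∀ m ∈ L.map (MulAut.conj n).toMonoidHom, y * m * y⁻¹ ∈ L.map (MulAut.conj n).toMonoidHom) ∧
      Nat.card (L.map (MulAut.conj n).toMonoidHom) = Nat.card L := by
    intro L hL hjL hLn
    refine ⟨?_, ⟨j, hjL, hnj⟩, ?_, Subgroup.card_map_of_injective (MulAut.conj n).injective⟩
    · rintro _ ⟨l, hl, rfl⟩
      exact hYn n hn l (hL hl)
    · rintro y hy _ ⟨l, hl, rfl⟩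
      refine ⟨n⁻¹ * y * n * l * (n⁻¹ * y * n)⁻¹, hLn _ ?_ l hl, ?_⟩
      · have := hYn n⁻¹ (inv_mem hn) y hy
        rwa [inv_inv] at this
      · show n * (n⁻¹ * y * n * l * (n⁻¹ * y * n)⁻¹) * n⁻¹ = y * (n * l * n⁻¹) * y⁻¹
        group
  have hn1 : ∀ y ∈ Y, ∀ l ∈ L₁, y * l * y⁻¹ ∈ L₁ := fun y hy l hl =>
    CfsgLib.Classical.SL2Pair.left_normal hc hy hl
  have hn2 : ∀ y ∈ Y, ∀ l ∈ L₂, y * l * y⁻¹ ∈ L₂ := fun y hy l hl =>
    CfsgLib.Classical.SL2Pair.left_normal (fun x hx y hy => (hc y hy x hx).symm)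
      (sup_comm L₁ L₂ ▸ hy : y ∈ L₂ ⊔ L₁) hl
  obtain ⟨a1, a2, a3, a4⟩ := himg L₁ le_sup_left hjm.1 hn1
  obtain ⟨b1, b2, b3, b4⟩ := himg L₂ le_sup_right hjm.2 hn2
  set M₁ := L₁.map (MulAut.conj n).toMonoidHom with hM₁
  set M₂ := L₂.map (MulAut.conj n).toMonoidHom with hM₂
  have r1 := CfsgLib.Classical.SL2Pair.eq_or_le hF₁ hF₂ e₁ e₂ hc hj hm a1 a2 a3 a4
  have r2 := CfsgLib.Classical.SL2Pair.eq_or_le hF₂ hF₁ e₂ e₁ (fun x hx y hy => (hc y hy x hx).symm) hj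
    (inf_comm L₁ L₂ ▸ hm) (sup_comm L₁ L₂ ▸ b1) b2 (sup_comm L₁ L₂ ▸ b3) b4
  have hnot1 : ¬ L₁ ≤ L₂ := fun h => by
    have h1 : L₁ ≤ Subgroup.zpowers j := hm ▸ le_inf le_rfl h
    have h2 := Subgroup.card_le_of_le h1
    rw [Nat.card_zpowers, hj, Nat.card_congr e₁.toEquiv, CfsgLib.Classical.SL2Pair.card_SL_two] at h2
    have h3 : 3 ≤ Fintype.card F₁ := by
      have := Fintype.one_lt_card (α := F₁)
      obtain ⟨k, hk⟩ := hF₁
      omega
    have h4 : 1 ≤ Fintype.card F₁ ^ 2 - 1 := by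
      have : 9 ≤ Fintype.card F₁ ^ 2 := by nlinarith
      omega
    nlinarith
  have hnot2 : ¬ L₂ ≤ L₁ := fun h => by
    have h1 : L₂ ≤ Subgroup.zpowers j := hm ▸ le_inf h le_rfl
    have h2 := Subgroup.card_le_of_le h1
    rw [Nat.card_zpowers, hj, Nat.card_congr e₂.toEquiv, CfsgLib.Classical.SL2Pair.card_SL_two] at h2
    have h3 : 3 ≤ Fintype.card F₂ := by
      have := Fintype.one_lt_card (α := F₂)
      obtain ⟨k, hk⟩ := hF₂
      omega
    have h4 : 1 ≤ Fintype.card F₂ ^ 2 - 1 := by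
      have : 9 ≤ Fintype.card F₂ ^ 2 := by nlinarith
      omega
    nlinarith
  have hinj : Function.Injective (Subgroup.map (MulAut.conj n).toMonoidHom : Subgroup G → Subgroup G) :=
    Subgroup.map_injective (MulAut.conj n).injective
  rcases r1 with h1 | h1
  · rcases r2 with h2 | h2
    · exact Or.inl ⟨h1, h2⟩
    · refine absurd (fun l hl => ?_) hnot2
      have : n * l * n⁻¹ ∈ M₁ := by rw [h1]; exact h2 ⟨l, hl, rfl⟩
      obtain ⟨l', hl', he⟩ := this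
      rw [← (MulAut.conj n).injective (a₁ := l') (a₂ := l) he]
      exact hl'
  · rcases r2 with h2 | h2
    · refine absurd (fun l hl => ?_) hnot1
      have : n * l * n⁻¹ ∈ M₂ := by rw [h2]; exact h1 ⟨l, hl, rfl⟩
      obtain ⟨l', hl', he⟩ := this
      rw [← (MulAut.conj n).injective (a₁ := l') (a₂ := l) he]
      exact hl'
    · right
      have c1 := Subgroup.card_le_of_le h1
      have c2 := Subgroup.card_le_of_le h2
      rw [a4] at c1
      rw [b4] at c2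
      have e1 : M₁ = L₂ := Subgroup.eq_of_le_of_card_ge h1 (by rw [a4]; exact c2)
      have e2 : M₂ = L₁ := Subgroup.eq_of_le_of_card_ge h2 (by rw [b4]; exact c1)
      refine ⟨e1, ?_, ?_⟩
      · rw [Nat.card_congr e₁.toEquiv, Nat.card_congr e₂.toEquiv] at c1 c2
        rcases lt_trichotomy (Fintype.card F₁) (Fintype.card F₂) with h | h | h
        · exact absurd c2 (not_le.2 (CfsgLib.Classical.SL2Pair.card_lt_card h))
        · exact h
        · exact absurd c1 (not_le.2 (CfsgLib.Classical.SL2Pair.card_lt_card h))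
      have hsq : n * n ∈ Y := by
        have := Subgroup.mul_self_mem_of_index_two hidx ⟨n, hn⟩
        exact Subgroup.mem_subgroupOf.1 this
      obtain ⟨l₁, hl₁, l₂, hl₂, hll⟩ := CfsgLib.Classical.SL2Pair.mem_sup hc hsq
      refine ⟨n * l₁⁻¹, mul_mem hn (hle (Subgroup.mem_sup_left (inv_mem hl₁))), fun h => hn' ?_, ?_, ?_⟩
      · have := mul_mem h (Subgroup.mem_sup_left hl₁ : l₁ ∈ L₁ ⊔ L₂)
        rwa [inv_mul_cancel_right] at this
      · rw [← e1]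
        refine le_antisymm ?_ ?_
        · rintro _ ⟨l, hl, rfl⟩
          refine ⟨l₁⁻¹ * l * l₁, mul_mem (mul_mem (inv_mem hl₁) hl) hl₁, ?_⟩
          show n * (l₁⁻¹ * l * l₁) * n⁻¹ = n * l₁⁻¹ * l * (n * l₁⁻¹)⁻¹
          group
        · rintro _ ⟨l, hl, rfl⟩
          refine ⟨l₁ * l * l₁⁻¹, mul_mem (mul_mem hl₁ hl) (inv_mem hl₁), ?_⟩
          show n * l₁⁻¹ * (l₁ * l * l₁⁻¹) * (n * l₁⁻¹)⁻¹ = n * l * n⁻¹
          group
      · -- `a = n⁻¹ l₁ n ∈ L₂`, `b = n⁻¹ l₂ n ∈ L₁`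
        have ha : n⁻¹ * l₁ * n ∈ L₂ := by
          have h : l₁ ∈ M₂ := by rw [e2]; exact hl₁
          obtain ⟨y, hy, hy'⟩ := h
          rw [← hy']
          show n⁻¹ * (n * y * n⁻¹) * n ∈ L₂
          rwa [show n⁻¹ * (n * y * n⁻¹) * n = y by group]
        have hb : n⁻¹ * l₂ * n ∈ L₁ := by
          have h : l₂ ∈ M₁ := by rw [e1]; exact hl₂
          obtain ⟨y, hy, hy'⟩ := h
          rw [← hy']
          show n⁻¹ * (n * y * n⁻¹) * n ∈ L₁
          rwa [show n⁻¹ * (n * y * n⁻¹) * n = y by group]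
        set a := n⁻¹ * l₁ * n with hadef
        set b := n⁻¹ * l₂ * n with hbdef
        have hab : b * a = l₁ * l₂ := by
          rw [hc b hb a ha]
          calc a * b = n⁻¹ * (l₁ * l₂) * n := by rw [hadef, hbdef]; group
            _ = l₁ * l₂ := by rw [← hll]; group
        have hk : l₂ * a⁻¹ ∈ Subgroup.zpowers j := by
          rw [← hm]
          refine ⟨?_, L₂.mul_mem hl₂ (L₂.inv_mem ha)⟩
          have : l₂ * a⁻¹ = l₁⁻¹ * b := by
            calc l₂ * a⁻¹ = l₁⁻¹ * (l₁ * l₂) * a⁻¹ := by group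
              _ = _ := by rw [← hab]; group
          rw [this]
          exact L₁.mul_mem (L₁.inv_mem hl₁) hb
        have hkc : l₁ * (l₂ * a⁻¹) = (l₂ * a⁻¹) * l₁ := hc l₁ hl₁ _ (mul_mem hl₂ (inv_mem ha))
        have : (n * l₁⁻¹) ^ 2 = l₂ * a⁻¹ := by
          rw [pow_two]
          calc n * l₁⁻¹ * (n * l₁⁻¹) = n * n * a⁻¹ * l₁⁻¹ := by rw [hadef]; group
            _ = l₁ * (l₂ * a⁻¹) * l₁⁻¹ := by rw [hll]; group
            _ = _ := by rw [hkc]; group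
        rw [this]; exact hk

end Cfsg.Agent.S3210
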