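import Cfsg.Statements.S3211
import Cfsg.Agent.Lib.Classical.SwapPair

set_option autoImplicit false
open Cfsg

namespace Cfsg.Agent.S3211

/-- Let G be a finite group with subgroups L₁ ≅ SL₂(q₁) and L₂ ≅ SL₂(q₂), q₁ and q₂ odd prime powers, which commute elementwise and meet in ⟨j⟩ for an involution j, and suppose L₁L₂ has index 2 in C_G(j). If some n ∈ C_G(j) with n² = j interchanges L₁ and L₂ under conjugation (so that C_G(j) = L₁L₂⟨n⟩), then G = C_G(j)O(G). -/
theorem result {G : Type*} [Group G] [Finite G]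
    {F₁ : Type*} [Field F₁] [Fintype F₁] {F₂ : Type*} [Field F₂] [Fintype F₂]
    (hF₁ : Odd (Fintype.card F₁)) (hF₂ : Odd (Fintype.card F₂)) (L₁ L₂ : Subgroup G)
    (e₁ : ↥L₁ ≃* Matrix.SpecialLinearGroup (Fin 2) F₁) (e₂ : ↥L₂ ≃* Matrix.SpecialLinearGroup (Fin 2) F₂)
    (hc : ∀ x ∈ L₁, ∀ y ∈ L₂, x * y = y * x) (j : G) (hj : orderOf j = 2) (hm : L₁ ⊓ L₂ = Subgroup.zpowers j)
    (hle : L₁ ⊔ L₂ ≤ Subgroup.centralizer ({j} : Set G)) (hi : (L₁ ⊔ L₂).relIndex (Subgroup.centralizer ({j} : Set G)) = 2) (n : G) (hn : n ∈ Subgroup.centralizer ({j} : Set G))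
    (hn2 : n ^ 2 = j) (hswap : L₁.map (MulAut.conj n).toMonoidHom = L₂) :
    Subgroup.centralizer ({j} : Set G) ⊔ Cfsg.oddCore G = ⊤ := by
  classical
  have h21 : (2 : F₁) ≠ 0 := by
    intro h
    have hc : ringChar F₁ = 2 := CharP.ringChar_of_prime_eq_zero Nat.prime_two (by exact_mod_cast h)
    have := FiniteField.even_card_of_char_two hc
    have := Nat.odd_iff.1 hF₁
    omega
  have h22 : (2 : F₂) ≠ 0 := by
    intro h
    have hc : ringChar F₂ = 2 := CharP.ringChar_of_prime_eq_zero Nat.prime_two (by exact_mod_cast h)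
    have := FiniteField.even_card_of_char_two hc
    have := Nat.odd_iff.1 hF₂
    omega
  have hjm : j ∈ L₁ ⊓ L₂ := hm ▸ Subgroup.mem_zpowers j
  have f₁ := CfsgLib.Classical.SwapPair.factor_of_equiv h21 e₁ hj hjm.1
  have f₂ := CfsgLib.Classical.SwapPair.factor_of_equiv h22 e₂ hj hjm.2
  have hj1 : j ≠ 1 := fun h => by simp [h] at hj
  have hjj : j * j = 1 := by
    have := pow_orderOf_eq_one j
    rwa [hj, pow_two] at this
  have hinter : ∀ x ∈ L₁, x ∈ L₂ → x = 1 ∨ x = j := by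
    intro x h1 h2
    have hx : x ∈ Subgroup.zpowers j := hm ▸ ⟨h1, h2⟩
    obtain ⟨k, rfl⟩ := Subgroup.mem_zpowers_iff.1 hx
    rw [zpow_eq_zpow_emod' k (n := 2) (by rw [pow_two, hjj])]
    rcases Int.emod_two_eq k with h | h <;> simp [h]
  have hnn : n * n = j := by rw [← pow_two, hn2]
  have hs1 : ∀ a ∈ L₁, n * a * n⁻¹ ∈ L₂ := fun a ha => hswap ▸ ⟨a, ha, rfl⟩
  have hs2 : ∀ b ∈ L₂, n * b * n⁻¹ ∈ L₁ := by
    intro b hb
    obtain ⟨a, ha, rfl⟩ : b ∈ L₁.map (MulAut.conj n).toMonoidHom := hswap.symm ▸ hb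
    have e : n * (n * a * n⁻¹) * n⁻¹ = a := by
      rw [show n * (n * a * n⁻¹) * n⁻¹ = n * n * a * (n * n)⁻¹ by group, hnn,
        ← hc a ha j hjm.2, mul_inv_cancel_right]
    simpa using e.symm ▸ ha
  have hnot : ∀ a ∈ L₁, ∀ b ∈ L₂, n ≠ a * b := by
    rintro a ha b hb rfl
    have hsub : ∀ x ∈ L₁, x = 1 ∨ x = j := fun x hx => by
      have e : a * b * x * (a * b)⁻¹ = a * x * a⁻¹ := by
        rw [show a * b * x * (a * b)⁻¹ = a * (b * x) * b⁻¹ * a⁻¹ by group, ← hc x hx b hb]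
        group
      have h := hs1 x hx
      rw [e] at h
      rcases hinter _ (mul_mem (mul_mem ha hx) (inv_mem ha)) h with h | h
      · left
        simpa using h
      · right
        calc x = a⁻¹ * (a * x * a⁻¹) * a := by group
          _ = a⁻¹ * j * a := by rw [h]
          _ = j := by rw [mul_assoc, ← hc a ha j hjm.2, inv_mul_cancel_left]
    have hle2 : Nat.card L₁ ≤ 2 := by
      refine (Nat.card_le_card_of_injective (β := Fin 2) (fun x : L₁ => if (x : G) = 1 then (0 : Fin 2) else 1)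
        fun x y hxy => ?_).trans (Nat.card_fin 2).le
      simp only at hxy
      rcases hsub x x.2 with h | h <;> rcases hsub y y.2 with h' | h' <;>
        simp [h, h', hj1] at hxy <;> exact Subtype.ext (h.trans h'.symm)
    have hcard : 3 ≤ Nat.card F₁ := by
      rw [Nat.card_eq_fintype_card]
      have h1 := Fintype.one_lt_card (α := F₁)
      have := Nat.odd_iff.1 hF₁
      omega
    have : Nat.card F₁ ≤ Nat.card L₁ :=
      Nat.card_le_card_of_injective (fun t => e₁.symm (Matrix.SpecialLinearGroup.transvection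
        (zero_ne_one : (0 : Fin 2) ≠ 1) t)) fun t t' h => by
        have h' := congrArg (fun M : Matrix.SpecialLinearGroup (Fin 2) F₁ => M.1 0 1)
          (e₁.symm.injective h)
        simpa [Matrix.SpecialLinearGroup.transvection_coe] using h'
    omega
  have hLN : L₁ ≤ Subgroup.normalizer (L₂ : Set G) := by
    intro x hx
    rw [Subgroup.mem_normalizer_iff]
    intro y
    refine ⟨fun hy => ?_, fun hy => ?_⟩
    · rw [hc x hx y hy, mul_inv_cancel_right]
      exact hy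
    · have h1 := hc x⁻¹ (inv_mem hx) _ hy
      have e : y = x⁻¹ * (x * y * x⁻¹) * x := by group
      rw [e, h1, inv_mul_cancel_right]
      exact hy
  have hsplit : ∀ y ∈ L₁ ⊔ L₂, ∃ a ∈ L₁, ∃ b ∈ L₂, y = a * b := by
    intro y hy
    rw [← SetLike.mem_coe, Subgroup.coe_mul_of_left_le_normalizer_right L₁ L₂ hLN] at hy
    obtain ⟨a, ha, b, hb, e⟩ := hy
    exact ⟨a, ha, b, hb, e.symm⟩
  have hnY : n ∉ L₁ ⊔ L₂ := fun h => by
    obtain ⟨a, ha, b, hb, hab⟩ := hsplit n h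
    exact hnot a ha b hb hab
  refine CfsgLib.Classical.SwapPair.sup_oddCore_eq_top_of_isolated
    (CfsgLib.Classical.SwapPair.Setup.isolated (L₁ := L₁) (L₂ := L₂) (n := n)
      ⟨hj1, hjj, f₁, f₂, hc, hinter, hnn, hnot, hs1, hs2, fun x hx => ?_⟩)
  have hxC : x ∈ Subgroup.centralizer ({j} : Set G) := Subgroup.mem_centralizer_singleton_iff.2 hx
  by_cases hxY : x ∈ L₁ ⊔ L₂
  · obtain ⟨a, ha, b, hb, e⟩ := hsplit x hxY
    exact ⟨a, ha, b, hb, Or.inl e⟩
  · obtain ⟨a, ha, b, hb, e⟩ := hsplit (x * n⁻¹) (by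
      have := (Subgroup.mul_mem_iff_of_index_two hi (a := (⟨x, hxC⟩ : Subgroup.centralizer ({j} : Set G)))
        (b := (⟨n, hn⟩ : Subgroup.centralizer ({j} : Set G))⁻¹)).2
      simp only [Subgroup.mem_subgroupOf, Subgroup.coe_mul, Subgroup.coe_inv, inv_mem_iff] at this
      exact this (by simp [hxY, hnY]))
    exact ⟨a, ha, b, hb, Or.inr (by rw [← e, inv_mul_cancel_right])⟩

end Cfsg.Agent.S3211
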