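import Cfsg.Statements.S3219
import Cfsg.Agent.Lib.Perm.KimuraFour.EvenDegree
import Cfsg.Agent.Lib.Perm.KimuraFour.OddDegree

set_option autoImplicit false
open Cfsg

namespace Cfsg.Agent.S3219

/-- Let G be a finite doubly transitive permutation group on a set Ω in which the stabilizer of two points is isomorphic to the alternating group A₄. Then Ω has 6 points and G ≅ A₆, or Ω has 15 points and G ≅ A₇, or Ω has 16 points and G is isomorphic to the group of all affine transformations of the affine plane over the field with 4 elements, or G = C_G(J)O(G) for some involution J of G, where O(G) is the largest normal subgroup of G of odd order. -/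
theorem result {G : Type*} [Group G] [Finite G] {Ω : Type*} [Fintype Ω] [MulAction G Ω] [FaithfulSMul G Ω]
    (h2 : MulAction.IsMultiplyPretransitive G Ω 2) (a b : Ω) (hab : a ≠ b)
    (e : ↥(MulAction.stabilizer G a ⊓ MulAction.stabilizer G b) ≃* ↥(alternatingGroup (Fin 4))) :
    (Fintype.card Ω = 6 ∧ Nonempty (G ≃* ↥(alternatingGroup (Fin 6)))) ∨ (Fintype.card Ω = 15 ∧ Nonempty (G ≃* ↥(alternatingGroup (Fin 7)))) ∨
      (Fintype.card Ω = 16 ∧ ∃ (F : Type) (_ : Field F) (_ : Fintype F), Fintype.card F = 4 ∧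
        Nonempty (G ≃* ((Fin 2 → F) ≃ᵃ[F] (Fin 2 → F)))) ∨
      (∃ J : G, orderOf J = 2 ∧ Subgroup.centralizer ({J} : Set G) ⊔ Cfsg.oddCore G = ⊤) := by
  have S : CfsgLib.KimuraFour.Setting G Ω a b :=
    ⟨h2, inferInstance, hab, ⟨e⟩⟩
  obtain ⟨J, D⟩ := S.exists_invData
  rw [← Nat.card_eq_fintype_card]
  rcases Nat.even_or_odd (Nat.card Ω) with hev | hodd
  · rcases S.even_degree D hev with h | h
    · exact Or.inl h
    · exact Or.inr (Or.inr (Or.inl h))
  · rcases S.odd_degree D hodd with h | ⟨z, hz⟩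
    · exact Or.inr (Or.inl h)
    · exact Or.inr (Or.inr (Or.inr ⟨z, hz.1, CfsgLib.Classical.SwapPair.sup_oddCore_eq_top_of_isolated hz⟩))

end Cfsg.Agent.S3219
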