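import Cfsg.Statements.S3225
import Mathlib

set_option autoImplicit false
open Cfsg

namespace Cfsg.Agent.S3225

theorem two_cases : ∀ z w : Multiplicative (ZMod 2), w ≠ 1 → z = 1 ∨ z = w := by decide

theorem ofAdd_two : (1 : Multiplicative (ZMod 2)) = Multiplicative.ofAdd (1 + 1) := by decide

/-- Let G be a finite group of even order with no subgroup of index 2, S a Sylow 2-subgroup of G and M a subgroup of index 2 in S such that, for some n ≥ 1, every element of S outside M has order greater than 2^(n−1). Then every element of S of order 2ⁿ is conjugate in G to an element of M. -/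
theorem result {G : Type*} [Group G] [Finite G] (hev : Even (Nat.card G))
    (hG : ∀ H : Subgroup G, H.index ≠ 2) (S : Sylow 2 G) (M : Subgroup G) (hMS : M ≤ (S : Subgroup G)) (hM : M.relIndex (S : Subgroup G) = 2)
    (n : ℕ) (hn : 1 ≤ n) (hord : ∀ y ∈ (S : Subgroup G), y ∉ M → 2 ^ (n - 1) < orderOf y)
    (x : G) (hx : x ∈ (S : Subgroup G)) (hxn : orderOf x = 2 ^ n) :
    ∃ g : G, g * x * g⁻¹ ∈ M := by
  classical
  haveI : Fact (Nat.Prime 2) := ⟨Nat.prime_two⟩
  have _ := hev
  have _ := hn
  by_contra hno
  push Not at hno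
  haveI := Subgroup.normal_of_index_eq_two (show (M.subgroupOf (S : Subgroup G)).index = 2 from hM)
  let ϕ : (S : Subgroup G) →* Multiplicative (ZMod 2) :=
    MonoidHom.mk' (fun s => if (s : G) ∈ M then 1 else Multiplicative.ofAdd 1) fun a b => by
      have h := Subgroup.mul_mem_iff_of_index_two (show (M.subgroupOf (S : Subgroup G)).index = 2 from hM) (a := a) (b := b)
      simp only [Subgroup.mem_subgroupOf, Subgroup.coe_mul] at h
      by_cases ha : (a : G) ∈ M <;> by_cases hb : (b : G) ∈ M <;>
        simp [ha, hb, h, ← ofAdd_add] <;> exact ofAdd_two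
  let τ : G →* Multiplicative (ZMod 2) := MonoidHom.transfer ϕ
  have hτ : ∀ g, τ g = 1 := by
    intro g
    by_contra hg
    apply hG τ.ker
    have htop : τ.range = ⊤ := by
      rw [eq_top_iff]
      intro z _
      rcases two_cases z (τ g) hg with h | h
      · rw [h]; exact one_mem _
      · rw [h]; exact ⟨g, rfl⟩
    rw [Subgroup.index_ker, htop, Subgroup.card_top, Nat.card_congr Multiplicative.toAdd, Nat.card_zmod]
  set α := G ⧸ (S : Subgroup G)
  haveI := Fintype.ofFinite (Quotient (MulAction.orbitRel (Subgroup.zpowers x) α))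
  have hper : ∀ q : α, ∃ j ≤ n, Function.minimalPeriod (x • ·) q = 2 ^ j := by
    intro q
    have h : Function.minimalPeriod (x • ·) q ∣ 2 ^ n := by
      apply Function.IsPeriodicPt.minimalPeriod_dvd
      show (x • ·)^[2 ^ n] q = q
      rw [smul_iterate, ← hxn, pow_orderOf_eq_one]; exact one_smul _ q
    exact (Nat.dvd_prime_pow Nat.prime_two).mp h
  have hsum : ∑ q : Quotient (MulAction.orbitRel (Subgroup.zpowers x) α),
      Function.minimalPeriod (x • ·) q.out = (S : Subgroup G).index := by
    have e := (MulAction.selfEquivSigmaOrbits (Subgroup.zpowers x) α).trans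
      (Equiv.sigmaCongrRight fun q => MulAction.orbitZPowersEquiv x q.out)
    rw [Subgroup.index_eq_card, Nat.card_congr e, Nat.card_sigma]
    exact Finset.sum_congr rfl fun q _ => (Nat.card_zmod _).symm
  have hval : τ x = Multiplicative.ofAdd (((S : Subgroup G).index : ℕ) : ZMod 2) := by
    rw [← hsum, Nat.cast_sum, ofAdd_sum]
    show MonoidHom.transfer ϕ x = _
    rw [MonoidHom.transfer_eq_prod_quotient_orbitRel_zpowers_quot]
    refine Finset.prod_congr rfl fun q _ => ?_
    obtain ⟨j, hjn, hj⟩ := hper q.out
    show (if q.out.out⁻¹ * x ^ Function.minimalPeriod (x • ·) q.out * q.out.out ∈ M then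
      (1 : Multiplicative (ZMod 2)) else Multiplicative.ofAdd 1) = _
    have hmem := QuotientGroup.out_conj_pow_minimalPeriod_mem (S : Subgroup G) x q.out
    rcases Nat.eq_zero_or_pos j with h0 | hpos
    · subst h0
      rw [hj, pow_zero, pow_one, if_neg]
      · simp
      · have := hno q.out.out⁻¹
        simpa using this
    · rw [if_pos]
      · rw [hj]
        have : (2 : ZMod 2) = 0 := rfl
        simp [this, hpos.ne']
      · by_contra hc
        have h1 := hord _ hmem hc
        have h2 : orderOf (q.out.out⁻¹ * x ^ Function.minimalPeriod (x • ·) q.out * q.out.out) = 2 ^ (n - j) := by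
          rw [show q.out.out⁻¹ * x ^ Function.minimalPeriod (x • ·) q.out * q.out.out =
            MulAut.conj q.out.out⁻¹ (x ^ Function.minimalPeriod (x • ·) q.out) by simp,
            MulEquiv.orderOf_eq, hj, orderOf_pow, hxn,
            Nat.gcd_eq_right (pow_dvd_pow 2 hjn), Nat.pow_div hjn (by norm_num)]
        rw [h2] at h1
        have := (Nat.pow_lt_pow_iff_right (by norm_num : 1 < 2)).mp h1
        omega
  rw [hτ] at hval
  have h := congrArg Multiplicative.toAdd hval
  rw [toAdd_ofAdd, toAdd_one, eq_comm, ZMod.natCast_eq_zero_iff] at h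
  exact S.not_dvd_index h

end Cfsg.Agent.S3225
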