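import Cfsg.Statements.S3244
import Cfsg.Agent.Lib.Classical.NoncyclicCenter

set_option autoImplicit false
open Cfsg

namespace Cfsg.Agent.S3244

/-- Say that a finite group G is of characteristic 2 type in the early sense when a Sylow 2-subgroup S of G has a self-centralizing normal subgroup of rank at least 3, S normalizes no nontrivial subgroup of odd order, and every 2-local subgroup of G is 2-constrained. If G is a non-abelian simple group of characteristic 2 type in this sense, then for some maximal 2-local subgroup M of G the centre of O₂(M) is not cyclic. -/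
theorem result {G : Type*} [Group G] [Finite G] [IsSimpleGroup G]
    (hG : ¬ IsMulCommutative G) (S : Sylow 2 G) (A : Subgroup G) (hA : Cfsg.IsSCN (S : Subgroup G) A) (hA3 : ¬ Cfsg.PRankLE 2 2 ↥A)
    (hinv : ∀ X : Subgroup G, Odd (Nat.card ↥X) → (S : Subgroup G) ≤ Subgroup.normalizer (X : Set G) → X = ⊥)
    (hcon : ∀ T : Subgroup G, IsPGroup 2 ↥T → T ≠ ⊥ → Cfsg.IsPConstrained 2 ↥(Subgroup.normalizer (T : Set G))) :
    ∃ M : Subgroup G, Cfsg.IsMaximalTwoLocal M ∧ ¬ IsCyclic ↥(Subgroup.center ↥(Cfsg.pCore 2 ↥M)) := by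
  classical
  have : Fact (Nat.Prime 2) := ⟨Nat.prime_two⟩
  obtain ⟨hAS, hSA, hCA⟩ := hA
  have hAcomm : ∀ a ∈ A, ∀ b ∈ A, a * b = b * a := fun a ha b hb =>
    (Subgroup.mem_centralizer_iff.1 ((hCA.symm.le hb).2) a ha)
  have hAab : IsMulCommutative A := ⟨⟨fun a b => Subtype.ext (hAcomm a a.2 b b.2)⟩⟩
  let E : Subgroup G :=
    { carrier := {a | a ∈ A ∧ a ^ 2 = 1}
      one_mem' := ⟨A.one_mem, one_pow 2⟩
      mul_mem' := fun {a b} ha hb => ⟨A.mul_mem ha.1 hb.1, by
        rw [(show Commute a b from hAcomm a ha.1 b hb.1).mul_pow, ha.2, hb.2, one_mul]⟩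
      inv_mem' := fun {a} ha => ⟨A.inv_mem ha.1, by rw [inv_pow, ha.2, inv_one]⟩ }
  have hEab : Cfsg.IsElementaryAbelian 2 E :=
    ⟨⟨⟨fun a b => Subtype.ext (hAcomm a a.2.1 b b.2.1)⟩⟩, fun a ha => ha.2⟩
  have h8 : 8 ≤ Nat.card E := by
    simp only [Cfsg.PRankLE, not_forall, not_le] at hA3
    obtain ⟨B, -, hB2, hBcard⟩ := hA3
    have hBp : IsPGroup 2 B := fun x => ⟨1, Subtype.ext (by simpa using hB2 x x.2)⟩
    obtain ⟨k, hk⟩ := hBp.exists_card_eq
    have hk3 : 3 ≤ k := by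
      by_contra hlt
      have := Nat.pow_le_pow_right (show 0 < 2 by norm_num) (show k ≤ 2 by omega)
      omega
    have h1 : 2 ^ 3 ≤ Nat.card B := hk ▸ Nat.pow_le_pow_right (by norm_num) hk3
    have h2 : B.map A.subtype ≤ E := by
      rintro _ ⟨b, hb, rfl⟩
      exact ⟨b.2, congrArg Subtype.val (hB2 b hb)⟩
    have h3 := Subgroup.card_le_of_le h2
    rw [Subgroup.card_map_of_injective A.subtype_injective] at h3
    omega
  refine CfsgLib.Classical.TwoType.exists_noncyclic_center (S := S) (E := E)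
    ⟨hEab, h8, fun a ha => hAS ha.1, ?_, hinv, fun b hb => ?_⟩ hG
  · intro s hs
    rw [Subgroup.mem_normalizer_iff]
    intro a
    show (a ∈ A ∧ a ^ 2 = 1) ↔ (s * a * s⁻¹ ∈ A ∧ (s * a * s⁻¹) ^ 2 = 1)
    rw [← Subgroup.mem_normalizer_iff.1 (hSA hs) a, conj_pow, mul_inv_eq_one, mul_eq_left]
  · rw [← CfsgLib.Classical.TwoType.normalizer_zpowers hb]
    exact hcon _ (IsPGroup.of_card (n := 1) (by rw [Nat.card_zpowers, hb, pow_one]))
      (by rw [Ne, Subgroup.zpowers_eq_bot]; intro e; simp [e] at hb)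

end Cfsg.Agent.S3244
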