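import Cfsg.Statements.S3246
import Cfsg.Agent.Lib.PLocal.PConstrained
import Cfsg.Agent.Lib.PGroups.Basic
import Cfsg.Agent.Lib.Transfer.CoprimeAut

set_option autoImplicit false
open Cfsg

namespace Cfsg.Agent.S3246

/-- Let G be a finite group whose Sylow 2-subgroup S has a self-centralizing normal subgroup of rank at least 3. Suppose that either every maximal 2-local subgroup of G is 2-constrained with no nontrivial normal subgroup of odd order, or the centralizer of every involution of G is 2-constrained with no nontrivial normal subgroup of odd order. Then S normalizes no nontrivial subgroup of G of odd order and every 2-local subgroup of G is 2-constrained. -/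
theorem result {G : Type*} [Group G] [Finite G]
    (S : Sylow 2 G) (A : Subgroup G) (hA : Cfsg.IsSCN (S : Subgroup G) A) (hA3 : ¬ Cfsg.PRankLE 2 2 ↥A)
    (h : (∀ M : Subgroup G, Cfsg.IsMaximalTwoLocal M → Cfsg.IsPConstrained 2 ↥M ∧ Cfsg.oddCore ↥M = ⊥) ∨
      (∀ t : G, orderOf t = 2 → Cfsg.IsPConstrained 2 ↥(Subgroup.centralizer ({t} : Set G)) ∧
        Cfsg.oddCore ↥(Subgroup.centralizer ({t} : Set G)) = ⊥)) :
    (∀ X : Subgroup G, Odd (Nat.card ↥X) → (S : Subgroup G) ≤ Subgroup.normalizer (X : Set G) → X = ⊥) ∧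
      (∀ T : Subgroup G, IsPGroup 2 ↥T → T ≠ ⊥ → Cfsg.IsPConstrained 2 ↥(Subgroup.normalizer (T : Set G))) := by
  classical
  haveI : Fact (Nat.Prime 2) := ⟨Nat.prime_two⟩
  -- every 2-local subgroup has characteristic two
  have hloc : ∀ T : Subgroup G, IsPGroup 2 T → T ≠ ⊥ →
      Subgroup.centralizer (Cfsg.pCore 2 ↥(Subgroup.normalizer (T : Set G)) : Set ↥(Subgroup.normalizer (T : Set G)))
        ≤ Cfsg.pCore 2 ↥(Subgroup.normalizer (T : Set G)) := by
    intro T hT hT0
    rcases h with hM | ht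
    · obtain ⟨M, ⟨hMl, hNM⟩, hMmax⟩ := Set.Finite.exists_maximal
        (Set.toFinite {M : Subgroup G | Cfsg.IsTwoLocal M ∧ Subgroup.normalizer (T : Set G) ≤ M})
        ⟨_, ⟨T, hT, hT0, rfl⟩, le_rfl⟩
      obtain ⟨hc, hO⟩ := hM M ⟨hMl, fun N hN hle =>
        le_antisymm (hMmax ⟨hN, hNM.trans hle⟩ hle) hle⟩
      have hcM := (CfsgLib.PLocal.isPConstrained_iff_of_core_bot hO).1 hc
      have hTM : T ≤ M := Subgroup.le_normalizer.trans hNM
      have h2 := (CfsgLib.PLocal.centralizer_pCore_le_local hcM (P := T.subgroupOf M)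
        (X := (Subgroup.normalizer (T : Set G)).subgroupOf M) (hT.comap_subtype)
        (fun x hx => Subgroup.mem_subgroupOf.2 (Subgroup.centralizer_le_normalizer _
          (Subgroup.mem_centralizer_iff.2 fun y hy => congrArg Subtype.val
            (Subgroup.mem_centralizer_iff.1 hx ⟨y, hTM hy⟩ hy))))
        (le_of_eq (Subgroup.subgroupOf_normalizer_eq hTM))
        (Or.inl (fun x hx => Subgroup.le_normalizer hx))).2
      exact CfsgLib.PLocal.centralizer_pCore_le_congr (Subgroup.subgroupOfEquivOfLe hNM) h2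
    · haveI : Nontrivial T := T.nontrivial_iff_ne_bot.2 hT0
      haveI := hT.center_nontrivial
      have hd : 2 ∣ Nat.card (Subgroup.center T) :=
        (hT.to_subgroup _).card_eq_or_dvd.resolve_left fun h1 => by
          have := Finite.one_lt_card (α := Subgroup.center T); omega
      obtain ⟨z, hz⟩ := exists_prime_orderOf_dvd_card' 2 hd
      set t : G := ((z : T) : G) with ht'
      have hto : orderOf t = 2 := by rw [ht', Subgroup.orderOf_coe, Subgroup.orderOf_coe, hz]
      obtain ⟨hc, hO⟩ := ht t hto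
      have hcC := (CfsgLib.PLocal.isPConstrained_iff_of_core_bot hO).1 hc
      set C := Subgroup.centralizer ({t} : Set G)
      have hTC : T ≤ C := fun x hx => Subgroup.mem_centralizer_singleton_iff.2
        (congrArg Subtype.val (Subgroup.mem_center_iff.1 z.2 ⟨x, hx⟩))
      set K := Subgroup.centralizer (T : Set G)
      have hKC : K ≤ C := fun x hx => Subgroup.mem_centralizer_singleton_iff.2
        (Subgroup.mem_centralizer_iff.1 hx t (z : T).2).symm
      have hK := (CfsgLib.PLocal.centralizer_pCore_le_local hcC (P := T.subgroupOf C)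
        (X := K.subgroupOf C) hT.comap_subtype
        (fun x hx => Subgroup.mem_subgroupOf.2 (Subgroup.mem_centralizer_iff.2 fun y hy => congrArg Subtype.val
            (Subgroup.mem_centralizer_iff.1 hx ⟨y, hTC hy⟩ hy)))
        (fun x hx => Subgroup.centralizer_le_normalizer _ (Subgroup.mem_centralizer_iff.2 fun y hy =>
          Subtype.ext (Subgroup.mem_centralizer_iff.1 hx (y : G) hy)))
        (Or.inr fun x hx => Subgroup.mem_centralizer_iff.2 fun y hy =>
          Subtype.ext (Subgroup.mem_centralizer_iff.1 hx (y : G) hy))).2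
      set N := Subgroup.normalizer (T : Set G)
      have hKN : K ≤ N := Subgroup.centralizer_le_normalizer _
      have hK' := CfsgLib.PLocal.centralizer_pCore_le_congr
        ((Subgroup.subgroupOfEquivOfLe hKC).trans (Subgroup.subgroupOfEquivOfLe hKN).symm) hK
      haveI hKn : (K.subgroupOf N).Normal := by
        refine ⟨fun k hk n => Subgroup.mem_subgroupOf.2 (Subgroup.mem_centralizer_iff.2 fun y hy => ?_)⟩
        have h1 := Subgroup.mem_centralizer_iff.1 hk _ ((Subgroup.mem_normalizer_iff''.1 n.2 y).1 hy)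
        show y * ((n : G) * k * (n : G)⁻¹) = (n : G) * k * (n : G)⁻¹ * y
        calc y * ((n : G) * k * (n : G)⁻¹) = (n : G) * (((n : G)⁻¹ * y * n) * k) * (n : G)⁻¹ := by group
          _ = (n : G) * ((k : G) * ((n : G)⁻¹ * y * n)) * (n : G)⁻¹ := by
              rw [show ((n : G)⁻¹ * y * n) * (k : G) = (k : G) * ((n : G)⁻¹ * y * n) from h1]
          _ = (n : G) * k * (n : G)⁻¹ * y := by group
      haveI : (Cfsg.pCore 2 ↥N).Normal := CfsgLib.Core.normal_pCore 2 _
      have hTcore : T.subgroupOf N ≤ Cfsg.pCore 2 ↥N := by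
        haveI : (T.subgroupOf N).Normal := Subgroup.normal_in_normalizer
        exact CfsgLib.Core.le_pCore hT.comap_subtype
      have hRcore : (Cfsg.pCore 2 ↥(K.subgroupOf N)).map (K.subgroupOf N).subtype ≤ Cfsg.pCore 2 ↥N := by
        haveI : (Cfsg.pCore 2 ↥(K.subgroupOf N)).Characteristic := CfsgLib.Core.characteristic_pCore 2 _
        exact CfsgLib.Core.le_pCore ((CfsgLib.Core.isPGroup_pCore 2 _).map _)
      intro x hx
      have hxK : x ∈ K.subgroupOf N := Subgroup.mem_subgroupOf.2 (Subgroup.mem_centralizer_iff.2 fun y hy =>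
        congrArg Subtype.val (Subgroup.mem_centralizer_iff.1 hx ⟨y, Subgroup.le_normalizer hy⟩ (hTcore hy)))
      exact hRcore ⟨⟨x, hxK⟩, hK' (Subgroup.mem_centralizer_iff.2 fun y hy => Subtype.ext
        (Subgroup.mem_centralizer_iff.1 hx _ (hRcore ⟨y, hy, rfl⟩))), rfl⟩
  refine ⟨?_, fun T hT hT0 => (CfsgLib.PLocal.isPConstrained_iff_of_core_bot
    (CfsgLib.PLocal.pPrimeCore_eq_bot_of_charP (hloc T hT hT0))).2 (hloc T hT hT0)⟩
  intro X hX hSX
  have hXodd : (Nat.card X).Coprime 2 := Nat.coprime_two_right.2 hX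
  -- an involution centralised by a subgroup of index at most two of `S` has no fixed points on `X`
  have key : ∀ t : G, orderOf t = 2 → ∀ T : Subgroup G, T ≤ S → Nat.card (S : Subgroup G) ≤ 2 * Nat.card T →
      T ≤ Subgroup.centralizer ({t} : Set G) → ∀ x ∈ X, Commute x t → x = 1 := by
    intro t hto T hTS hcard hTt x hxX hxt
    set H := Subgroup.centralizer ({t} : Set G)
    have hT2 : IsPGroup 2 (Subgroup.zpowers t) :=
      IsPGroup.of_card (n := 1) (by rw [Nat.card_zpowers, hto, pow_one])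
    have hne : Subgroup.zpowers t ≠ ⊥ := Subgroup.zpowers_ne_bot.2 fun h1 => by
      rw [h1, orderOf_one] at hto; omega
    have hN : Subgroup.normalizer (Subgroup.zpowers t : Set G) = H := by
      refine le_antisymm (fun g hg => ?_) ?_
      · obtain ⟨i, hi⟩ := (Subgroup.mem_normalizer_iff.1 hg t).1 (Subgroup.mem_zpowers t)
        have hi' : t ^ i = g * t * g⁻¹ := hi
        rw [← zpow_mod_orderOf, hto] at hi'
        rcases Int.emod_two_eq_zero_or_one i with h0 | h0
        · exfalso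
          rw [Nat.cast_ofNat, h0, zpow_zero, eq_comm, conj_eq_one_iff] at hi'
          rw [hi', orderOf_one] at hto
          omega
        · rw [Nat.cast_ofNat, h0, zpow_one] at hi'
          exact Subgroup.mem_centralizer_singleton_iff.2 (eq_mul_inv_iff_mul_eq.1 hi').symm
      · refine le_trans ?_ (Subgroup.centralizer_le_normalizer _)
        rw [Subgroup.zpowers_eq_closure, Subgroup.centralizer_closure]
    have hcH : Subgroup.centralizer (Cfsg.pCore 2 H : Set H) ≤ Cfsg.pCore 2 H :=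
      CfsgLib.PLocal.centralizer_pCore_le_congr (MulEquiv.subgroupCongr hN) (hloc _ hT2 hne)
    haveI : (Cfsg.pCore 2 H).Normal := CfsgLib.Core.normal_pCore 2 _
    set R := (Cfsg.pCore 2 H).map H.subtype with hR
    have hR2 : IsPGroup 2 R := (CfsgLib.Core.isPGroup_pCore 2 H).map _
    have hnormR : H ≤ Subgroup.normalizer (R : Set G) := by
      intro g hg
      rw [Subgroup.mem_normalizer_iff_map_conj_eq]
      refine Subgroup.eq_of_le_of_card_ge ?_ (le_of_eq (Nat.card_congr
        (Subgroup.equivMapOfInjective _ _ (MulAut.conj _).injective).toEquiv))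
      rintro _ ⟨_, ⟨r, hr, rfl⟩, rfl⟩
      exact ⟨_, (inferInstance : (Cfsg.pCore 2 H).Normal).conj_mem r hr ⟨g, hg⟩, rfl⟩
    have hTR : T ≤ Subgroup.normalizer (R : Set G) := hTt.trans hnormR
    have hT2' : IsPGroup 2 T := S.isPGroup'.to_le hTS
    obtain ⟨P, hP⟩ := (hT2'.to_sup_of_normal_right' hR2 hTR).exists_le_sylow
    have hsmall : Nat.card R ≤ 2 * Nat.card (T ⊓ R : Subgroup G) := by
      have h1 := CfsgLib.Core.card_sup_mul_card_inf T R hTR
      have h2 : Nat.card (T ⊔ R : Subgroup G) ≤ Nat.card (P : Subgroup G) := Subgroup.card_le_of_le hP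
      rw [Nat.card_congr (Sylow.equiv P S).toEquiv] at h2
      have h3 : 0 < Nat.card T := Nat.card_pos
      nlinarith
    have hxH : x ∈ H := Subgroup.mem_centralizer_singleton_iff.2 hxt.eq
    have hfix : ∀ r ∈ (T ⊓ R : Subgroup G), x * r * x⁻¹ = r := by
      rintro r ⟨hrT, hrR⟩
      have hd : Disjoint R X := by
        obtain ⟨k, hk⟩ := IsPGroup.iff_card.1 hR2
        exact Subgroup.disjoint_of_coprime_natCard (by rw [hk]; exact hXodd.symm.pow_left k)
      refine (mul_inv_eq_one.1 (Subgroup.disjoint_def.1 hd ?_ ?_))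
      · exact mul_mem ((Subgroup.mem_normalizer_iff.1 (hnormR hxH) r).1 hrR) (inv_mem hrR)
      · rw [show x * r * x⁻¹ * r⁻¹ = x * (r * x⁻¹ * r⁻¹) by group]
        exact mul_mem hxX ((Subgroup.mem_normalizer_iff.1 (hSX (hTS hrT)) x⁻¹).1 (inv_mem hxX))
    -- coprime action on `R`
    set α : MulAut (Cfsg.pCore 2 H) := MulAut.conjNormal (⟨x, hxH⟩ : H)
    have hα : ∀ r : Cfsg.pCore 2 H, ((α r : H) : G) = x * ((r : H) : G) * x⁻¹ := fun r => by
      rw [MulAut.conjNormal_apply]; rfl
    have hm : (orderOf x).Coprime 2 :=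
      hXodd.coprime_dvd_left (Subgroup.orderOf_dvd_natCard X hxX)
    have hαm : α ^ orderOf x = 1 := by
      rw [← map_pow, show (⟨x, hxH⟩ : H) ^ orderOf x = 1 from Subtype.ext (pow_orderOf_eq_one x), map_one]
    let R₀ : Subgroup (Cfsg.pCore 2 H) :=
      (T ⊓ R).comap (H.subtype.comp (Cfsg.pCore 2 H).subtype)
    have hfix' : ∀ r ∈ R₀, α r = r := fun r hr =>
      Subtype.ext (Subtype.ext ((hα r).trans (hfix _ hr)))
    have hR₀ : R₀.index ≤ 2 := by
      have hc1 : Nat.card R₀ = Nat.card (T ⊓ R : Subgroup G) := by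
        refine Nat.card_congr (Equiv.ofBijective
          (fun r : R₀ => (⟨(((r : Cfsg.pCore 2 H) : H) : G), r.2⟩ : (T ⊓ R : Subgroup G))) ⟨?_, ?_⟩)
        · intro a b hab
          exact Subtype.ext (Subtype.ext (Subtype.ext (congrArg (fun v : (T ⊓ R : Subgroup G) => (v : G)) hab)))
        · rintro ⟨g, hg⟩
          obtain ⟨r, hr, rfl⟩ := hg.2
          exact ⟨⟨⟨r, hr⟩, hg⟩, rfl⟩
      have hc2 : Nat.card R = Nat.card (Cfsg.pCore 2 H) :=
        Subgroup.card_map_of_injective H.subtype_injective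
      have h3 := R₀.card_mul_index
      have h4 : 0 < Nat.card R₀ := Nat.card_pos
      rw [hc2, ← hc1] at hsmall
      nlinarith
    have hall : ∀ r : Cfsg.pCore 2 H, α r = r := fun r => by
      refine CfsgLib.Transfer.eq_of_fixed_diff (CfsgLib.Core.isPGroup_pCore 2 H) α hm hαm (hfix' _ ?_)
      by_cases hr : r ∈ R₀
      · rw [hfix' r hr, inv_mul_cancel]; exact one_mem _
      · have hi : R₀.index = 2 := by
          have h0 : R₀.index ≠ 0 := Subgroup.index_ne_zero_of_finite
          have h1 : R₀.index ≠ 1 := fun h1 => hr (by rw [Subgroup.index_eq_one.1 h1]; trivial)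
          omega
        have hr' : α r ∉ R₀ := fun hmem => hr (by
          have := hfix' _ hmem
          rwa [α.injective this] at hmem)
        exact (Subgroup.mul_mem_iff_of_index_two hi).2 (by simp [hr, hr'])
    obtain ⟨k, hk⟩ := CfsgLib.Core.isPGroup_pCore 2 H ⟨⟨x, hxH⟩, hcH (Subgroup.mem_centralizer_iff.2 fun r hr => by
      have h1 := congrArg Subtype.val (hall ⟨r, hr⟩)
      rw [MulAut.conjNormal_apply] at h1
      exact (mul_inv_eq_iff_eq_mul.1 h1).symm)⟩
    have hk' : x ^ 2 ^ k = 1 := congrArg (fun v : Cfsg.pCore 2 H => ((v : H) : G)) hk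
    exact orderOf_eq_one_iff.1 (Nat.eq_one_of_dvd_coprimes (hm.pow_right k) dvd_rfl
      (orderOf_dvd_of_pow_eq_one hk'))
  -- a four-group normal in `S`
  obtain ⟨hAS, hSA, hCA⟩ := hA
  have hAcomm : ∀ a ∈ A, ∀ b ∈ A, a * b = b * a := fun a ha b hb =>
    Subgroup.mem_centralizer_iff.1 ((hCA.ge hb).2) a ha
  obtain ⟨E, hE⟩ : ∃ E : Subgroup G, ∀ a, a ∈ E ↔ a ∈ A ∧ a * a = 1 :=
    ⟨{ carrier := {a | a ∈ A ∧ a * a = 1}
       one_mem' := ⟨one_mem _, one_mul 1⟩
       mul_mem' := fun {a b} ha hb => ⟨mul_mem ha.1 hb.1, by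
         rw [← mul_assoc, mul_assoc a b a, hAcomm b hb.1 a ha.1, ← mul_assoc, ha.2, one_mul, hb.2]⟩
       inv_mem' := fun {a} ha => ⟨inv_mem ha.1, by
         rw [inv_eq_of_mul_eq_one_right ha.2, ha.2]⟩ }, fun a => Iff.rfl⟩
  have hEA : E ≤ A := fun a ha => ((hE a).1 ha).1
  have hE4 : 4 < Nat.card E := by
    obtain ⟨B, hB1, hB2, hB3⟩ : ∃ B : Subgroup A, IsMulCommutative B ∧ (∀ b ∈ B, b ^ 2 = 1) ∧
        2 ^ 2 < Nat.card B := by
      by_contra hno
      push Not at hno
      exact hA3 fun B h1 h2 => hno B h1 h2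
    refine lt_of_lt_of_le hB3 (Nat.card_le_card_of_injective
      (fun b : B => (⟨((b : A) : G), (hE _).2 ⟨(b : A).2, by
        rw [← pow_two]; exact congrArg Subtype.val (hB2 b b.2)⟩⟩ : E)) fun a b hab => ?_)
    exact Subtype.ext (Subtype.ext (congrArg (fun v : E => (v : G)) hab))
  have hS2 : IsPGroup 2 (S : Subgroup G) := S.isPGroup'
  haveI hEn : (E.subgroupOf (S : Subgroup G)).Normal := ⟨fun e he s => by
    obtain ⟨heA, he2⟩ := (hE _).1 (Subgroup.mem_subgroupOf.1 he)
    refine Subgroup.mem_subgroupOf.2 ((hE _).2 ⟨(Subgroup.mem_normalizer_iff.1 (hSA s.2) _).1 heA, ?_⟩)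
    show (s : G) * e * (s : G)⁻¹ * ((s : G) * e * (s : G)⁻¹) = 1
    rw [show (s : G) * e * (s : G)⁻¹ * ((s : G) * e * (s : G)⁻¹) = (s : G) * ((e : G) * e) * (s : G)⁻¹ by group,
      he2, mul_one, mul_inv_cancel]⟩
  have hE' : Nat.card (E.subgroupOf (S : Subgroup G)) = Nat.card E :=
    Nat.card_congr (Subgroup.subgroupOfEquivOfLe (hEA.trans hAS)).toEquiv
  obtain ⟨⟨z, hzm⟩, hz1'⟩ := Subgroup.ne_bot_iff_exists_ne_one.1 (CfsgLib.PGroups.inf_center_ne_bot hS2
    (N := E.subgroupOf (S : Subgroup G)) (fun h0 => by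
      rw [h0, Subgroup.card_bot] at hE'; omega))
  have hz1 : z ≠ 1 := fun h0 => hz1' (Subtype.ext h0)
  obtain ⟨hzE, hzZ⟩ := hzm
  have hz2 : z * z = 1 := Subtype.ext ((hE _).1 (Subgroup.mem_subgroupOf.1 hzE)).2
  set Z := Subgroup.zpowers z
  have hZ2 : ∀ w ∈ Z, w = 1 ∨ w = z := by
    intro w hw
    obtain ⟨i, rfl⟩ := Subgroup.mem_zpowers_iff.1 hw
    have ho : orderOf z = 2 := orderOf_eq_prime (by rw [pow_two, hz2]) hz1
    rw [← zpow_mod_orderOf, ho]
    rcases Int.emod_two_eq_zero_or_one i with h0 | h0 <;> simp [h0]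
  haveI : Z.Normal := ⟨fun w hw s => by
    rcases hZ2 w hw with rfl | rfl
    · simp
    · rw [Subgroup.mem_center_iff.1 hzZ s, mul_inv_cancel_right]; exact Subgroup.mem_zpowers _⟩
  set π := QuotientGroup.mk' Z
  haveI : ((E.subgroupOf (S : Subgroup G)).map π).Normal :=
    Subgroup.Normal.map hEn π (QuotientGroup.mk'_surjective Z)
  obtain ⟨⟨w, hw⟩, hw1'⟩ := Subgroup.ne_bot_iff_exists_ne_one.1 (CfsgLib.PGroups.inf_center_ne_bot
    (hS2.to_quotient Z) (N := (E.subgroupOf (S : Subgroup G)).map π) (fun h0 => by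
      rw [Subgroup.map_eq_bot_iff, QuotientGroup.ker_mk'] at h0
      have h1 := Subgroup.card_le_of_le h0
      rw [hE', Nat.card_zpowers, orderOf_eq_prime (by rw [pow_two, hz2]) hz1] at h1
      omega))
  have hw1 : w ≠ 1 := fun h0 => hw1' (Subtype.ext h0)
  obtain ⟨⟨u, huE, rfl⟩, huZ⟩ := hw
  have hu2 : u * u = 1 := Subtype.ext ((hE _).1 (Subgroup.mem_subgroupOf.1 huE)).2
  have hucomm : ∀ s : (S : Subgroup G), u⁻¹ * (s * u * s⁻¹) ∈ Z := fun s => by
    refine QuotientGroup.eq.1 ?_
    show π u = π (s * u * s⁻¹)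
    rw [map_mul, map_mul, map_inv, Subgroup.mem_center_iff.1 huZ (π s), mul_inv_cancel_right]
  set Tu := Subgroup.centralizer ({u} : Set (S : Subgroup G))
  have hTu : Tu.index ≤ 2 := by
    let g : (S : Subgroup G) ⧸ Tu → Z := fun q => ⟨u⁻¹ * (q.out * u * q.out⁻¹), hucomm _⟩
    have hg : Function.Injective g := by
      intro a b hab
      rw [← QuotientGroup.out_eq' a, ← QuotientGroup.out_eq' b]
      refine QuotientGroup.eq.2 (Subgroup.mem_centralizer_singleton_iff.2 ?_)
      have h1 : u⁻¹ * (a.out * u * a.out⁻¹) = u⁻¹ * (b.out * u * b.out⁻¹) := congrArg Subtype.val hab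
      have h2 := mul_left_cancel h1
      calc a.out⁻¹ * b.out * u = a.out⁻¹ * (b.out * u * b.out⁻¹) * b.out := by group
        _ = a.out⁻¹ * (a.out * u * a.out⁻¹) * b.out := by rw [h2]
        _ = u * (a.out⁻¹ * b.out) := by group
    rw [Subgroup.index]
    refine (Nat.card_le_card_of_injective g hg).trans ?_
    rw [Nat.card_zpowers, orderOf_eq_prime (by rw [pow_two, hz2]) hz1]
  have huz : Commute z u := (Subgroup.mem_center_iff.1 hzZ u).symm
  have hu1 : u ≠ 1 := fun h0 => hw1 (by rw [h0]; exact map_one π)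
  have hu1' : u ≠ z := fun h0 => hw1 ((QuotientGroup.eq_one_iff u).2 (by
    rw [h0]; exact Subgroup.mem_zpowers z))
  have hfp : ∀ v : (S : Subgroup G), v * v = 1 → v ≠ 1 → Tu ≤ Subgroup.centralizer ({v} : Set (S : Subgroup G)) →
      ∀ x ∈ X, Commute x (v : G) → x = 1 := by
    intro v hv2 hv1 hle
    refine key v (orderOf_eq_prime (by
        rw [pow_two, ← Subgroup.coe_mul, hv2, Subgroup.coe_one]) fun h0 => hv1 (Subtype.ext h0))
      (Tu.map (S : Subgroup G).subtype) (Subgroup.map_subtype_le _) ?_ ?_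
    · rw [Subgroup.card_map_of_injective (Subgroup.subtype_injective _), ← Tu.card_mul_index,
        mul_comm 2]
      exact Nat.mul_le_mul_left _ hTu
    · rintro _ ⟨s, hs, rfl⟩
      exact Subgroup.mem_centralizer_singleton_iff.2
        (congrArg Subtype.val (Subgroup.mem_centralizer_singleton_iff.1 (hle hs)))
  have hTz : Tu ≤ Subgroup.centralizer ({z} : Set (S : Subgroup G)) := fun s _ =>
    Subgroup.mem_centralizer_singleton_iff.2 (Subgroup.mem_center_iff.1 hzZ s)
  have hTuz : Tu ≤ Subgroup.centralizer ({z * u} : Set (S : Subgroup G)) := fun s hs =>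
    Subgroup.mem_centralizer_singleton_iff.2
      ((Commute.mul_right (Subgroup.mem_centralizer_singleton_iff.1 (hTz hs))
        (Subgroup.mem_centralizer_singleton_iff.1 hs)).eq)
  -- two fixed-point-free involutions whose product is fixed-point-free
  let ν : (S : Subgroup G) →* MulAut X :=
    X.normalizerMonoidHom.comp (Subgroup.inclusion hSX)
  have hν : ∀ v x, ((ν v x : X) : G) = (v : G) * (x : G) * (v : G)⁻¹ := fun v x => rfl
  have hinv : ∀ v : (S : Subgroup G), v * v = 1 → v ≠ 1 →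
      Tu ≤ Subgroup.centralizer ({v} : Set (S : Subgroup G)) → ∀ x : X, ν v x = x⁻¹ := by
    intro v hv2 hv1 hle x
    have hf : MonoidHom.FixedPointFree (ν v).toMonoidHom := fun y hy => by
      refine Subtype.ext (hfp v hv2 hv1 hle y y.2 ?_)
      have h1 := congrArg (fun w : X => (w : G)) hy
      simp only [MulEquiv.coe_toMonoidHom, hν] at h1
      exact (mul_inv_eq_iff_eq_mul.1 h1).symm
    refine congrFun (hf.coe_eq_inv_of_sq_eq_one ?_) x
    funext y
    show ν v (ν v y) = y
    rw [← MulAut.mul_apply, ← map_mul, hv2, map_one, MulAut.one_apply]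
  have hzu1 : z * u ≠ 1 := fun h0 => hu1' (by rw [eq_inv_of_mul_eq_one_right h0, inv_eq_of_mul_eq_one_right hz2])
  have hzu2 : (z * u) * (z * u) = 1 := by
    rw [show z * u * (z * u) = z * (u * z) * u by simp [mul_assoc], ← huz.eq, ← mul_assoc, hz2, one_mul, hu2]
  refine (Subgroup.eq_bot_iff_forall X).2 fun x hx => hfp (z * u) hzu2 hzu1 hTuz x hx ?_
  have h1 : ν (z * u) ⟨x, hx⟩ = ⟨x, hx⟩ := by
    rw [map_mul, MulAut.mul_apply, hinv u hu2 hu1 le_rfl, hinv z hz2 hz1 hTz, inv_inv]
  have h2 := congrArg (fun w : X => (w : G)) h1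
  simp only [hν] at h2
  exact (mul_inv_eq_iff_eq_mul.1 h2).symm

end Cfsg.Agent.S3246
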