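import Cfsg.Statements.S3247
import Mathlib
import Cfsg.Agent.Lib.PLocal.PConstrained
import Cfsg.Agent.Lib.Components.Char

set_option autoImplicit false
open Cfsg

namespace Cfsg.Agent.S3247

--- PRE
open Subgroup CfsgLib.Core CfsgLib.PLocal

theorem constrained_equiv {H K : Type*} [Group H] [Group K] [Finite H] [Finite K] {p : ℕ} [Fact p.Prime]
    (e : H ≃* K) (h : Cfsg.IsPConstrained p H) : Cfsg.IsPConstrained p K := by
  rw [isPConstrained_iff] at h ⊢
  exact centralizer_pCore_le_congr
    (QuotientGroup.congr (Cfsg.pPrimeCore p H) (Cfsg.pPrimeCore p K) e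
      (CfsgLib.Components.pPrimeCore_map_equiv p e)) h

/-- centraliser constrained implies normaliser constrained -/
theorem of_normal_centralizer {N : Type*} [Group N] [Finite N] {p : ℕ} [Fact p.Prime]
    (T : Subgroup N) [T.Normal] (hT : IsPGroup p T)
    (hY : Cfsg.IsPConstrained p ↥(centralizer (T : Set N))) : Cfsg.IsPConstrained p N := by
  set O := Cfsg.pPrimeCore p N with hO
  set π := QuotientGroup.mk' O with hπ
  have hcop := coprime_card_pPrimeCore p N
  set Y := centralizer (T : Set N) with hYdef
  haveI : Y.Normal := inferInstance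
  set Yb := Y.map π with hYb
  haveI : Yb.Normal := Normal.map inferInstance π (QuotientGroup.mk'_surjective O)
  haveI : (T.map π).Normal := Normal.map inferInstance π (QuotientGroup.mk'_surjective O)
  have hcore : Cfsg.pPrimeCore p Yb = ⊥ := by
    have h1 := map_subtype_pPrimeCore_le (p := p) Yb
    rw [pPrimeCore_quotient_pPrimeCore, le_bot_iff] at h1
    exact (map_eq_bot_iff_of_injective _ Yb.subtype_injective).1 h1
  have hker : (π.subgroupMap Y).ker = Cfsg.pPrimeCore p Y := by
    have h1 := pPrimeCore_map_of_le hcop Y hcore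
    ext y
    rw [MonoidHom.mem_ker, ← mem_map_iff_mem Y.subtype_injective (K := Cfsg.pPrimeCore p Y), h1]
    simp [Subtype.ext_iff, π, hO, QuotientGroup.eq_one_iff]
  have hYbc : centralizer (Cfsg.pCore p Yb : Set Yb) ≤ Cfsg.pCore p Yb :=
    centralizer_pCore_le_congr ((QuotientGroup.quotientMulEquivOfEq hker.symm).trans
      (QuotientGroup.quotientKerEquivOfSurjective _ (MonoidHom.subgroupMap_surjective π Y)))
      (isPConstrained_iff.1 hY)
  rw [isPConstrained_iff]
  intro q hq
  have hTR : T.map π ≤ Cfsg.pCore p (N ⧸ O) := le_pCore (hT.map π)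
  have hqY : q ∈ Yb := by
    rw [hYb, map_centralizer_eq O hcop hT]
    exact centralizer_le hTR hq
  have h1 : (⟨q, hqY⟩ : Yb) ∈ centralizer (Cfsg.pCore p Yb : Set Yb) := by
    rw [mem_centralizer_iff]
    intro y hy
    exact Subtype.ext (mem_centralizer_iff.1 hq y.1 (map_subtype_pCore_le Yb ⟨y, hy, rfl⟩))
  exact map_subtype_pCore_le Yb ⟨_, hYbc h1, rfl⟩

theorem local_constrained {G : Type*} [Group G] [Finite G] {p : ℕ} [Fact p.Prime] (M T : Subgroup G)
    (hTM : T ≤ M) (hT : IsPGroup p T) (hM : Cfsg.IsPConstrained p M) :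
    (normalizer (T : Set G) ≤ M → Cfsg.IsPConstrained p ↥(normalizer (T : Set G))) ∧
    (centralizer (T : Set G) ≤ M → Cfsg.IsPConstrained p ↥(centralizer (T : Set G))) := by
  obtain ⟨-, h1, h2⟩ := local_of_pConstrained (isPConstrained_iff.1 hM)
    (P := T.subgroupOf M) (hT.comap_of_injective M.subtype M.subtype_injective)
  constructor
  · intro hle
    have e : normalizer ((T.subgroupOf M : Subgroup M) : Set M) = (normalizer (T : Set G)).subgroupOf M := by
      ext x
      simp only [mem_subgroupOf, mem_normalizer_iff]
      constructor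
      · intro h n
        constructor
        · intro hn
          exact (h ⟨n, hTM hn⟩).1 hn
        · intro hn
          have hnM : n ∈ M := by
            have h3 : (x : G) * n * (x : G)⁻¹ ∈ M := hTM hn
            have h4 := M.mul_mem (M.mul_mem (M.inv_mem x.2) h3) x.2
            have e : (x : G)⁻¹ * ((x : G) * n * (x : G)⁻¹) * x = n := by group
            rwa [e] at h4
          exact (h ⟨n, hnM⟩).2 hn
      · intro h n; exact h n
    exact constrained_equiv ((MulEquiv.subgroupCongr e).trans (subgroupOfEquivOfLe hle)) h1
  · intro hle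
    have e : centralizer ((T.subgroupOf M : Subgroup M) : Set M) = (centralizer (T : Set G)).subgroupOf M := by
      ext x
      simp only [mem_subgroupOf, mem_centralizer_iff, SetLike.mem_coe]
      constructor
      · intro h n hn
        exact congrArg Subtype.val (h ⟨n, hTM hn⟩ hn)
      · intro h n hn
        exact Subtype.ext (h n hn)
    exact constrained_equiv ((MulEquiv.subgroupCongr e).trans (subgroupOfEquivOfLe hle)) h2

/-- Let G be a finite group and p a prime; here a p-local subgroup means the normalizer of a nontrivial p-subgroup, other than G itself. If every p-local subgroup of G that is maximal among p-local subgroups is p-constrained, or if the centralizer of every element of order p of G is p-constrained, then every p-local subgroup of G is p-constrained. -/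
theorem result {G : Type*} [Group G] [Finite G] (p : ℕ) [hp : Fact p.Prime]
    (h : (∀ M : Subgroup G, (∃ T : Subgroup G, IsPGroup p ↥T ∧ T ≠ ⊥ ∧ M = Subgroup.normalizer (T : Set G)) → M ≠ ⊤ →
        (∀ M' : Subgroup G, (∃ T' : Subgroup G, IsPGroup p ↥T' ∧ T' ≠ ⊥ ∧ M' = Subgroup.normalizer (T' : Set G)) → M' ≠ ⊤ → M ≤ M' → M = M') →
        Cfsg.IsPConstrained p ↥M) ∨
      (∀ x : G, orderOf x = p → Cfsg.IsPConstrained p ↥(Subgroup.centralizer ({x} : Set G))))
    (T : Subgroup G) (hT : IsPGroup p ↥T) (hT1 : T ≠ ⊥) (hTG : Subgroup.normalizer (T : Set G) ≠ ⊤) :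
    Cfsg.IsPConstrained p ↥(Subgroup.normalizer (T : Set G)) := by
  classical
  rcases h with h | h
  · -- a maximal proper `p`-local above `N(T)`
    haveI : Finite (Subgroup G) := Finite.of_injective (fun K => (K : Set G)) SetLike.coe_injective
    obtain ⟨M, hle, hM⟩ := Finite.exists_le_maximal
      (p := fun M : Subgroup G => (∃ T : Subgroup G, IsPGroup p ↥T ∧ T ≠ ⊥ ∧ M = normalizer (T : Set G)) ∧ M ≠ ⊤)
      (a := normalizer (T : Set G)) ⟨⟨T, hT, hT1, rfl⟩, hTG⟩
    have hMc : Cfsg.IsPConstrained p ↥M := h M hM.prop.1 hM.prop.2 fun M' h1 h2 h3 =>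
      le_antisymm h3 (hM.le_of_ge ⟨h1, h2⟩ h3)
    exact (local_constrained M T (le_normalizer.trans hle) hT hMc).1 hle
  · haveI : Nontrivial T := (nontrivial_iff_ne_bot T).2 hT1
    haveI := hT.center_nontrivial
    obtain ⟨w, hw⟩ : ∃ w : center T, orderOf w = p := by
      refine exists_prime_orderOf_dvd_card' p ?_
      rcases (hT.to_subgroup (center T)).card_eq_or_dvd with hh | hh
      · exact absurd hh (Finite.one_lt_card (α := center T)).ne'
      · exact hh
    set x : G := ((w : T) : G) with hx
    have hxo : orderOf x = p := by rw [hx, Subgroup.orderOf_coe, Subgroup.orderOf_coe, hw]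
    have hTx : T ≤ centralizer ({x} : Set G) := fun t ht => by
      rw [mem_centralizer_singleton_iff]
      exact congrArg Subtype.val (mem_center_iff.1 w.2 ⟨t, ht⟩)
    have hCle : centralizer (T : Set G) ≤ centralizer ({x} : Set G) :=
      centralizer_le (Set.singleton_subset_iff.2 (w : T).2)
    have hC := (local_constrained _ T hTx hT (h x hxo)).2 hCle
    set N := normalizer (T : Set G) with hN
    have e : centralizer ((T.subgroupOf N : Subgroup N) : Set N) = (centralizer (T : Set G)).subgroupOf N := by
      ext y
      simp only [mem_subgroupOf, mem_centralizer_iff, SetLike.mem_coe]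
      constructor
      · intro h n hn
        exact congrArg Subtype.val (h ⟨n, le_normalizer hn⟩ hn)
      · intro h n hn
        exact Subtype.ext (h n hn)
    haveI : (T.subgroupOf N).Normal := normal_in_normalizer
    refine of_normal_centralizer (T.subgroupOf N) (hT.comap_of_injective N.subtype N.subtype_injective) ?_
    exact constrained_equiv ((MulEquiv.subgroupCongr e).trans
      (subgroupOfEquivOfLe (centralizer_le_normalizer _))).symm hC

end Cfsg.Agent.S3247
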