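import Cfsg.Statements.S3265
import Cfsg.Agent.Lib.Perm.OddSurgery
import Cfsg.Agent.Lib.Perm.OddProductDiam

set_option autoImplicit false
open Cfsg

namespace Cfsg.Agent.S3265

open Equiv

private theorem sq_one {α : Type*} {t x : Perm α} (ht : orderOf t = 2) (h : IsConj t x) :
    x * x = 1 := by
  obtain ⟨g, rfl⟩ := isConj_iff.1 h
  have h2 : t * t = 1 := by rw [← sq, ← ht, pow_orderOf_eq_one]
  calc g * t * g⁻¹ * (g * t * g⁻¹) = g * (t * t) * g⁻¹ := by group
    _ = 1 := by rw [h2]; group

private theorem fix_card {α : Type*} [Fintype α] [DecidableEq α] {x y : Perm α} (h : IsConj x y) :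
    (Finset.univ.filter fun w => x w = w).card = (Finset.univ.filter fun w => y w = w).card := by
  obtain ⟨g, rfl⟩ := isConj_iff.1 h
  refine Finset.card_bij (fun w _ => g w) (fun a ha => ?_) (fun a _ b _ e => g.injective e)
    fun w hw => ?_
  · simp only [Finset.mem_filter, Finset.mem_univ, true_and] at ha ⊢
    simp [Perm.mul_apply, ha]
  · replace hw := (Finset.mem_filter.1 hw).2
    refine ⟨g⁻¹ w, ?_, by simp⟩
    simp only [Finset.mem_filter, Finset.mem_univ, true_and]
    apply g.injective
    simpa using hw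

private theorem order_comm {G : Type*} [Group G] (a b : G) : orderOf (a * b) = orderOf (b * a) := by
  rw [← orderOf_injective (MulAut.conj b).toMonoidHom (MulAut.conj b).injective (a * b)]
  simp [MulAut.conj_apply, mul_assoc]

private theorem order_two {α : Type*} [Fintype α] [DecidableEq α] {t u : Perm α} (ht : t * t = 1)
    (hu : u * u = 1) (hne : t ≠ u) (hc : Commute t u) : orderOf (t * u) = 2 := by
  refine orderOf_eq_prime (p := 2) ?_ ?_
  · rw [sq, hc.symm.mul_mul_mul_comm, ht, hu, one_mul]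
  · intro e
    exact hne (by rw [← mul_left_cancel (a := t) (e.trans ht.symm)])

private theorem far_conj {α : Type*} [Fintype α] [DecidableEq α] (hn : 5 ≤ Fintype.card α)
    {t : Perm α} (ht : orderOf t = 2) :
    ∃ u, IsConj t u ∧ t ≠ u ∧ orderOf (t * u) = 2 := by
  have h2 : t * t = 1 := by rw [← sq, ← ht, pow_orderOf_eq_one]
  have hinv : ∀ w, t (t w) = w := fun w => by rw [← Perm.mul_apply, h2, Perm.one_apply]
  have ht1 : t ≠ 1 := fun e => by rw [e, orderOf_one] at ht; omega
  obtain ⟨a, ha⟩ : ∃ a, t a ≠ a := by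
    by_contra! h
    exact ht1 (Perm.ext h)
  by_cases hex : ∃ c, c ≠ a ∧ c ≠ t a ∧ t c ≠ c
  · obtain ⟨c, hca, hcb, hc⟩ := hex
    have hdb : t c ≠ t a := t.injective.ne hca
    have hda : t c ≠ a := fun e => hcb (by rw [← e, hinv])
    obtain ⟨u, hu⟩ : ∃ u, u = swap (t a) c * t * swap (t a) c := ⟨_, rfl⟩
    have hconj : IsConj t u := isConj_iff.2 ⟨swap (t a) c, by rw [hu, swap_inv]⟩
    have ua : u a = c := by
      rw [hu, Perm.mul_apply, Perm.mul_apply, swap_apply_of_ne_of_ne ha.symm hca.symm,
        swap_apply_left]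
    have ub : u (t a) = t c := by
      rw [hu, Perm.mul_apply, Perm.mul_apply, swap_apply_left,
        swap_apply_of_ne_of_ne hdb hc]
    have uc : u c = a := by
      rw [hu, Perm.mul_apply, Perm.mul_apply, swap_apply_right, hinv,
        swap_apply_of_ne_of_ne ha.symm hca.symm]
    have ud : u (t c) = t a := by
      rw [hu, Perm.mul_apply, Perm.mul_apply, swap_apply_of_ne_of_ne hdb hc, hinv,
        swap_apply_right]
    have uw : ∀ w, w ≠ a → w ≠ t a → w ≠ c → w ≠ t c → u w = t w := by
      intro w h1 h3 h4 h5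
      rw [hu, Perm.mul_apply, Perm.mul_apply, swap_apply_of_ne_of_ne h3 h4,
        swap_apply_of_ne_of_ne (fun e => h1 (t.injective e)) fun e => h5 (by rw [← e, hinv])]
    have hne : t ≠ u := fun e => hcb (by rw [← ua, ← e])
    refine ⟨u, hconj, hne, order_two h2 (sq_one ht hconj) hne (Perm.ext fun w => ?_)⟩
    rw [Perm.mul_apply, Perm.mul_apply]
    rcases eq_or_ne w a with rfl | h1
    · rw [ua, ub]
    rcases eq_or_ne w (t a) with rfl | h3
    · rw [ub, hinv, hinv, ua]
    rcases eq_or_ne w c with rfl | h4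
    · rw [uc, ud]
    rcases eq_or_ne w (t c) with rfl | h5
    · rw [ud, hinv, hinv, uc]
    rw [uw w h1 h3 h4 h5, uw (t w) (fun e => h3 (by rw [← e, hinv]))
      (fun e => h1 (t.injective e)) (fun e => h5 (by rw [← e, hinv]))
      (fun e => h4 (t.injective e))]
  · push Not at hex
    have e : t = swap a (t a) := Perm.ext fun w => by
      rcases eq_or_ne w a with rfl | h1
      · rw [swap_apply_left]
      rcases eq_or_ne w (t a) with rfl | h3
      · rw [swap_apply_right, hinv]
      rw [swap_apply_of_ne_of_ne h1 h3, hex w h1 h3]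
    have hcard : 1 < ({a, t a}ᶜ : Finset α).card := by
      rw [Finset.card_compl, Finset.card_pair ha.symm]; omega
    obtain ⟨c, hc, d, hd, hcd⟩ := Finset.one_lt_card.1 hcard
    simp only [Finset.mem_compl, Finset.mem_insert, Finset.mem_singleton, not_or] at hc hd
    have hne : t ≠ swap c d := fun h => hcd (by
      have := hex c hc.1 hc.2
      rw [h, swap_apply_left] at this
      exact this.symm)
    refine ⟨swap c d, ?_, hne, order_two h2 (swap_mul_self c d) hne ?_⟩
    · rw [e]; exact Perm.isConj_swap ha.symm hcd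
    · refine Perm.Disjoint.commute fun w => ?_
      rcases eq_or_ne w c with rfl | h1
      · exact Or.inl (hex _ hc.1 hc.2)
      rcases eq_or_ne w d with rfl | h3
      · exact Or.inl (hex _ hd.1 hd.2)
      exact Or.inr (swap_apply_of_ne_of_ne h1 h3)


/-- Let n ≥ 5 and let X be a conjugacy class of involutions of the symmetric group of degree n. The graph on X joining two distinct involutions whose product has odd order is connected and has diameter exactly 2. -/
theorem result (n : ℕ) (hn : 5 ≤ n) (t : Equiv.Perm (Fin n)) (ht : orderOf t = 2) :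
    (SimpleGraph.fromRel fun x y : {x : Equiv.Perm (Fin n) // IsConj t x} =>
        Odd (orderOf (x.1 * y.1))).Connected ∧
      (SimpleGraph.fromRel fun x y : {x : Equiv.Perm (Fin n) // IsConj t x} =>
        Odd (orderOf (x.1 * y.1))).diam = 2 := by
  obtain ⟨u, hconj, hne, hord⟩ := far_conj (by simpa using hn) ht
  let X := {x : Equiv.Perm (Fin n) // IsConj t x}
  refine CfsgLib.Perm.OddProductDiam.connected_diam_two
    (fun x y : {x : Equiv.Perm (Fin n) // IsConj t x} => Odd (orderOf (x.1 * y.1)))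
    ⟨t, IsConj.refl t⟩ ⟨u, hconj⟩ (fun e => hne (congrArg Subtype.val e)) ?_ ?_ ?_
  · show ¬ Odd (orderOf (t * u))
    rw [hord]; decide
  · show ¬ Odd (orderOf (u * t))
    rw [order_comm, hord]; decide
  intro x y hxy hr
  have hx := sq_one ht x.2
  have hy := sq_one ht y.2
  obtain ⟨σ, h1, h3, hodd⟩ := CfsgLib.Perm.OddSurgery.exists_odd_surgery x.1 y.1 hx hy
    (by simpa using hn) (fix_card (x.2.symm.trans y.2))
  have hσodd : Odd (orderOf σ) :=
    (show Odd 3 by decide).of_dvd_nat (orderOf_dvd_of_pow_eq_one h3)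
  have hxinv : x.1⁻¹ = x.1 := inv_eq_of_mul_eq_one_right hx
  have hyinv : y.1⁻¹ = y.1 := inv_eq_of_mul_eq_one_right hy
  have hz : σ * x.1 * σ⁻¹ = x.1 * σ := by
    have e : σ * x.1 = x.1 * σ⁻¹ := by rw [← h1, ← mul_assoc, ← mul_assoc, hx, one_mul]
    rw [e, mul_assoc]
    congr 1
    rw [← mul_inv_rev, inv_eq_iff_mul_eq_one]
    calc σ * σ * σ = σ ^ 3 := by rw [pow_succ, pow_two]
      _ = 1 := h3
  let z : {x : Equiv.Perm (Fin n) // IsConj t x} :=
    ⟨x.1 * σ, x.2.trans (isConj_iff.2 ⟨σ, hz⟩)⟩
  have hxz : x.1 * z.1 = σ := by show x.1 * (x.1 * σ) = σ; rw [← mul_assoc, hx, one_mul]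
  refine ⟨z, ?_, ?_, ?_, ?_⟩
  · show Odd (orderOf (x.1 * z.1))
    rw [hxz]; exact hσodd
  · show Odd (orderOf (z.1 * y.1))
    rw [order_comm, show y.1 * z.1 = y.1 * x.1 * σ from (mul_assoc _ _ _).symm]
    exact hodd
  · intro e
    apply hr
    have hs : σ = 1 := by rw [← hxz, e, hx]
    rw [hs, mul_one, order_comm] at hodd
    exact hodd
  · intro e
    apply hr
    rw [← e, hxz]
    exact hσodd

end Cfsg.Agent.S3265
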