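import Cfsg.Statements.S3266
import Cfsg.Agent.Lib.Classical.OddProductPSL
import Cfsg.Agent.Lib.Perm.OddProductDiam

set_option autoImplicit false
open Cfsg

namespace Cfsg.Agent.S3266

/-- Let F be a finite field with at least 4 elements and let X be a conjugacy class of involutions of PSL(2, F). The graph on X joining two distinct involutions whose product has odd order is connected and has diameter exactly 2. -/
theorem result {F : Type*} [Field F] [Fintype F] (hF : 4 ≤ Fintype.card F)
    (t : Matrix.ProjectiveSpecialLinearGroup (Fin 2) F) (ht : orderOf t = 2) :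
    (SimpleGraph.fromRel fun x y : {x : Matrix.ProjectiveSpecialLinearGroup (Fin 2) F // IsConj t x} =>
        Odd (orderOf (x.1 * y.1))).Connected ∧
      (SimpleGraph.fromRel fun x y : {x : Matrix.ProjectiveSpecialLinearGroup (Fin 2) F // IsConj t x} =>
        Odd (orderOf (x.1 * y.1))).diam = 2 := by
  classical
  obtain ⟨T, rfl⟩ := QuotientGroup.mk_surjective t
  obtain ⟨hT0, hTs⟩ := CfsgLib.Classical.OddProductPSL.involution_iff.1 ht
  have hN : CfsgLib.Classical.Trace.NormSurj (0 : F) := by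
    by_cases h2 : (2 : F) = 0
    · haveI : CharP F 2 := CharTwo.of_one_ne_zero_of_two_eq_zero one_ne_zero h2
      exact CfsgLib.Classical.Trace.normSurj_of_two 0
    · exact CfsgLib.Classical.Dickson.normSurj_zero h2
  have hmem : ∀ w : Matrix.SpecialLinearGroup (Fin 2) F, CfsgLib.Classical.Trace.trc w = 0 →
      ¬ CfsgLib.Classical.Trace.IsScalar w →
      IsConj (QuotientGroup.mk T : Matrix.ProjectiveSpecialLinearGroup (Fin 2) F) (QuotientGroup.mk w) := by
    intro w hw hws
    obtain ⟨g, hg⟩ := CfsgLib.Classical.Trace.exists_conj hTs hws (hw.trans hT0.symm) (hT0.symm ▸ hN)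
    refine isConj_iff.2 ⟨QuotientGroup.mk g, ?_⟩
    rw [← hg]
    rfl
  have hinv : ∀ x : {x : Matrix.ProjectiveSpecialLinearGroup (Fin 2) F // IsConj (QuotientGroup.mk T) x},
      orderOf x.1 = 2 := by
    intro x
    obtain ⟨g, hg⟩ := isConj_iff.1 x.2
    rw [← hg]
    exact (MulEquiv.orderOf_eq (MulAut.conj g) _).trans ht
  have hsq : ∀ x : {x : Matrix.ProjectiveSpecialLinearGroup (Fin 2) F // IsConj (QuotientGroup.mk T) x},
      x.1 * x.1 = 1 := fun x => by
    have h := pow_orderOf_eq_one x.1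
    rwa [hinv x, pow_two] at h
  obtain ⟨u, v, hu, hus, hv, hvs, huv, huvs, hvu, hvus⟩ :=
    CfsgLib.Classical.OddProductPSL.exists_commuting_pair hF
  have ho : ∀ w : Matrix.SpecialLinearGroup (Fin 2) F, CfsgLib.Classical.Trace.trc w = 0 →
      ¬ CfsgLib.Classical.Trace.IsScalar w →
      ¬ Odd (orderOf (QuotientGroup.mk w : Matrix.ProjectiveSpecialLinearGroup (Fin 2) F)) := by
    intro w hw hws
    rw [CfsgLib.Classical.OddProductPSL.involution_iff.2 ⟨hw, hws⟩]
    decide
  refine CfsgLib.Perm.OddProductDiam.connected_diam_two _ ⟨_, hmem u hu hus⟩ ⟨_, hmem v hv hvs⟩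
    ?_ (ho _ huv huvs) (ho _ hvu hvus) ?_
  · intro h
    refine ho _ huv huvs ?_
    have h1 : (QuotientGroup.mk u : Matrix.ProjectiveSpecialLinearGroup (Fin 2) F) = QuotientGroup.mk v :=
      congrArg Subtype.val h
    rw [QuotientGroup.mk_mul, ← h1, hsq ⟨_, hmem u hu hus⟩, orderOf_one]
    exact odd_one
  · intro x y hxy hr
    obtain ⟨X, hX⟩ := QuotientGroup.mk_surjective x.1
    obtain ⟨Y, hY⟩ := QuotientGroup.mk_surjective y.1
    obtain ⟨hX0, hXs⟩ := CfsgLib.Classical.OddProductPSL.involution_iff.1 (hX.symm ▸ hinv x)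
    obtain ⟨hY0, hYs⟩ := CfsgLib.Classical.OddProductPSL.involution_iff.1 (hY.symm ▸ hinv y)
    obtain ⟨Z, hZ, hZs, h1, h2⟩ := CfsgLib.Classical.OddProductPSL.exists_common hF X Y hX0 hY0 hXs hYs
      (by rw [QuotientGroup.mk_mul, hX, hY]; exact hr)
    rw [QuotientGroup.mk_mul, hX] at h1
    rw [QuotientGroup.mk_mul, hY] at h2
    refine ⟨⟨_, hmem Z hZ hZs⟩, h1, h2, fun h => hr ?_, fun h => hr ?_⟩
    · have h3 : (QuotientGroup.mk Z : Matrix.ProjectiveSpecialLinearGroup (Fin 2) F) = x.1 :=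
        congrArg Subtype.val h
      rwa [h3] at h2
    · have h3 : (QuotientGroup.mk Z : Matrix.ProjectiveSpecialLinearGroup (Fin 2) F) = y.1 :=
        congrArg Subtype.val h
      rwa [h3] at h1

end Cfsg.Agent.S3266
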