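import Cfsg.Statements.S3276
import Mathlib
import Cfsg.Agent.Lib.Signalizer.Involutions

set_option autoImplicit false
open Cfsg

namespace Cfsg.Agent.S3276

/-- Let x and y be commuting, non-conjugate involutions of a finite group G, and suppose that for every involution u commuting with x, each conjugate of y that commutes with u also commutes with y. Then the normal closure of y is a proper, normal, elementary abelian 2-subgroup of G; and if y is the only involution of that normal closure commuting with x, it has order at most 4. -/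
theorem result {G : Type*} [Group G] [Finite G] (x y : G) (hx : orderOf x = 2) (hy : orderOf y = 2)
    (hxy : Commute x y) (hnc : ¬ IsConj x y)
    (hstar : ∀ u : G, orderOf u = 2 → Commute u x → ∀ g : G, Commute (g * y * g⁻¹) u → Commute (g * y * g⁻¹) y) :
    Subgroup.normalClosure ({y} : Set G) ≠ ⊤ ∧ Cfsg.IsElementaryAbelian 2 (Subgroup.normalClosure ({y} : Set G)) ∧
      ((∀ u ∈ Subgroup.normalClosure ({y} : Set G), orderOf u = 2 → Commute u x → u = y) →
        Nat.card ↥(Subgroup.normalClosure ({y} : Set G)) ≤ 4) := by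
  classical
  have hoy : ∀ g : G, orderOf (g * y * g⁻¹) = 2 := fun g => by rw [CfsgLib.Signalizer.orderOf_conj, hy]
  have hy' : ∀ g : G, Commute (g * y * g⁻¹) y := fun g => by
    have hnc' : ¬ IsConj x (g * y * g⁻¹) := fun h => hnc (h.trans (isConj_iff.mpr ⟨g, rfl⟩).symm)
    obtain ⟨u, hu, hux, huy⟩ := CfsgLib.Signalizer.exists_central_involution_of_not_conj hx (hoy g) hnc'
    exact hstar u hu hux g huy.symm
  have hall : ∀ g h : G, Commute (g * y * g⁻¹) (h * y * h⁻¹) := fun g h => by
    have := (hy' (h⁻¹ * g)).map (MulAut.conj h).toMonoidHom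
    simpa [mul_assoc] using this
  set N := Subgroup.normalClosure ({y} : Set G) with hN
  have hset : ∀ a ∈ Group.conjugatesOfSet ({y} : Set G), ∃ g : G, a = g * y * g⁻¹ := fun a ha => by
    obtain ⟨b, hb, hab⟩ := Group.mem_conjugatesOfSet_iff.mp ha
    rw [Set.mem_singleton_iff] at hb
    subst hb
    obtain ⟨g, hg⟩ := isConj_iff.mp hab
    exact ⟨g, hg.symm⟩
  haveI hab : IsMulCommutative N := by
    rw [hN, Subgroup.normalClosure]
    refine Subgroup.isMulCommutative_closure fun a ha b hb => ?_
    obtain ⟨g, rfl⟩ := hset a ha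
    obtain ⟨h, rfl⟩ := hset b hb
    exact (hall g h).eq
  have hc : ∀ a ∈ N, ∀ b ∈ N, a * b = b * a := fun a ha b hb =>
    congrArg Subtype.val (hab.is_comm.comm (⟨a, ha⟩ : N) ⟨b, hb⟩)
  have hexp : ∀ a ∈ N, a ^ 2 = 1 := by
    intro a ha
    refine Subgroup.closure_induction (p := fun a _ => a ^ 2 = 1) ?_ ?_ ?_ ?_ ha
    · intro a ha
      obtain ⟨g, rfl⟩ := hset a ha
      rw [← orderOf_dvd_iff_pow_eq_one, hoy]
    · exact one_pow 2
    · intro a b ha hb iha ihb
      rw [Commute.mul_pow (hc a ha b hb), iha, ihb, one_mul]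
    · intro a ha iha
      rw [inv_pow, iha, inv_one]
  have hyN : y ∈ N := Subgroup.subset_normalClosure rfl
  refine ⟨fun htop => hnc ?_, ⟨hab, hexp⟩, fun h => ?_⟩
  · have hcomm : ∀ a b : G, a * b = b * a := fun a b =>
      hc a (by rw [htop]; trivial) b (by rw [htop]; trivial)
    have hz : N ≤ Subgroup.zpowers y := by
      rw [hN, Subgroup.normalClosure, Subgroup.closure_le]
      intro a ha
      obtain ⟨g, rfl⟩ := hset a ha
      rw [hcomm g y, mul_inv_cancel_right]
      exact Subgroup.mem_zpowers y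
    have hxm : x ∈ Subgroup.zpowers y := hz (by rw [htop]; trivial)
    obtain ⟨i, hi⟩ := Subgroup.mem_zpowers_iff.mp hxm
    have hy2 : y ^ (2 : ℤ) = 1 := by rw [zpow_two]; exact CfsgLib.Signalizer.involution_sq hy
    rcases Int.even_or_odd i with ⟨c, rfl⟩ | ⟨c, rfl⟩
    · rw [← two_mul, zpow_mul, hy2, one_zpow] at hi
      exact absurd hi.symm (CfsgLib.Signalizer.involution_ne_one hx)
    · rw [zpow_add, zpow_mul, hy2, one_zpow, one_mul, zpow_one] at hi
      rw [hi]
  · let f : N →* G := MonoidHom.mk' (fun n => (n : G) * (x * n * x⁻¹)) fun a b => by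
      have h1 : x * (a : G) * x⁻¹ * b = b * (x * a * x⁻¹) :=
        hc _ (Subgroup.normalClosure_normal.conj_mem _ a.2 x) _ b.2
      calc ((a * b : N) : G) * (x * (a * b : N) * x⁻¹) = a * (b * (x * a * x⁻¹)) * (x * b * x⁻¹) := by
            simp [mul_assoc]
        _ = a * (x * a * x⁻¹ * b) * (x * b * x⁻¹) := by rw [h1]
        _ = _ := by simp [mul_assoc]
    have hx2 := CfsgLib.Signalizer.involution_sq hx
    have hC : ∀ u ∈ N, u * x = x * u → u ∈ Subgroup.zpowers y := fun u hu hux => by
      by_cases hu1 : u = 1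
      · rw [hu1]; exact one_mem _
      · have hu2 : orderOf u = 2 := orderOf_eq_prime (hexp u hu) hu1
        rw [h u hu hu2 hux]
        exact Subgroup.mem_zpowers y
    have hker : f.ker.map N.subtype ≤ Subgroup.zpowers y := by
      rintro _ ⟨u, hu, rfl⟩
      refine hC _ u.2 ?_
      have h1 : (u : G) * (x * u * x⁻¹) = 1 := hu
      have h2 : (u : G)⁻¹ = u := inv_eq_of_mul_eq_one_right (by rw [← pow_two]; exact hexp _ u.2)
      rw [mul_eq_one_iff_inv_eq, h2, eq_mul_inv_iff_mul_eq] at h1
      exact h1
    have hrange : f.range ≤ Subgroup.zpowers y := by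
      rintro _ ⟨u, rfl⟩
      have hm : x * (u : G) * x⁻¹ ∈ N := Subgroup.normalClosure_normal.conj_mem _ u.2 x
      refine hC _ (N.mul_mem u.2 hm) ?_
      have hxi := CfsgLib.Signalizer.involution_inv hx
      show (u : G) * (x * u * x⁻¹) * x = x * ((u : G) * (x * u * x⁻¹))
      rw [mul_assoc (u : G) _ x, inv_mul_cancel_right, hxi]
      calc (u : G) * (x * u) = u * (x * u * x⁻¹) * x := by simp [mul_assoc]
        _ = (x * u * x⁻¹) * u * x := by rw [hc _ hm _ u.2]
        _ = x * (u * (x * u * x)) := by simp [hxi, mul_assoc]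
        _ = _ := rfl
    have hz2 : Nat.card (Subgroup.zpowers y) = 2 := by rw [Nat.card_zpowers, hy]
    have h1 : Nat.card f.ker ≤ 2 := by
      rw [← hz2, ← Subgroup.card_map_of_injective (K := f.ker) N.subtype_injective]
      exact Nat.card_le_card_of_injective _ (Subgroup.inclusion_injective hker)
    have h2 : Nat.card f.range ≤ 2 := by
      rw [← hz2]
      exact Nat.card_le_card_of_injective _ (Subgroup.inclusion_injective hrange)
    have h3 := f.ker.card_mul_index
    rw [Subgroup.index_ker] at h3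
    rw [← h3]
    exact le_trans (Nat.mul_le_mul h1 h2) le_rfl

end Cfsg.Agent.S3276
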