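import Cfsg.Statements.S3280
import Cfsg.Agent.Lib.Recog.SmallCentralizer.Main
import Cfsg.Agent.S0494
import Cfsg.Agent.S0495
import Cfsg.Agent.S0497
import Cfsg.Agent.S0984

set_option autoImplicit false
open Cfsg

namespace Cfsg.Agent.S3280

/-- A non-cyclic finite simple group containing an element whose centralizer has order at most 4 is isomorphic to the alternating group of degree 5, 6 or 7, or to PSL(2, 7). -/
theorem result {G : Type*} [Group G] [Finite G] [IsSimpleGroup G] (hG : ¬ IsCyclic G)
    (w : G) (hw : Nat.card ↥(Subgroup.centralizer ({w} : Set G)) ≤ 4) :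
    Nonempty (G ≃* ↥(alternatingGroup (Fin 5))) ∨ Nonempty (G ≃* ↥(alternatingGroup (Fin 6))) ∨
      Nonempty (G ≃* ↥(alternatingGroup (Fin 7))) ∨
      (∃ (F : Type) (_ : Field F) (_ : Fintype F), Fintype.card F = 7 ∧ Nonempty (G ≃* Matrix.ProjectiveSpecialLinearGroup (Fin 2) F)) := by
  classical
  haveI : Fact (Nat.Prime 7) := ⟨by norm_num⟩
  haveI : Fact (Nat.Prime 3) := ⟨Nat.prime_three⟩
  have hna : ¬ IsMulCommutative G := fun h => hG (by
    letI : CommGroup G := { ‹Group G› with mul_comm := h.is_comm.comm }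
    infer_instance)
  have hpos : 0 < Nat.card (Subgroup.centralizer ({w} : Set G)) := Nat.card_pos
  have hwC : w ∈ Subgroup.centralizer ({w} : Set G) := Subgroup.mem_centralizer_singleton_iff.2 rfl
  have hcases : Nat.card (Subgroup.centralizer ({w} : Set G)) = 1 ∨
      Nat.card (Subgroup.centralizer ({w} : Set G)) = 2 ∨
      Nat.card (Subgroup.centralizer ({w} : Set G)) = 3 ∨
      Nat.card (Subgroup.centralizer ({w} : Set G)) = 4 := by omega
  rcases hcases with h | h | h | h
  · exfalso
    have hb := Subgroup.card_eq_one.1 h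
    rw [hb, Subgroup.mem_bot] at hwC
    subst hwC
    have htop : Subgroup.centralizer ({1} : Set G) = ⊤ :=
      eq_top_iff.2 fun x _ => Subgroup.mem_centralizer_singleton_iff.2 (by simp)
    rw [htop] at hb
    exact top_ne_bot hb
  · exact (CfsgLib.Recog.SmallCentralizer.not_order_two hna h).elim
  · have hwo : orderOf w = 3 := by
      have h1 : orderOf w ∣ 3 := h ▸ Subgroup.orderOf_dvd_natCard _ hwC
      refine ((Nat.dvd_prime Nat.prime_three).1 h1).resolve_left fun e => ?_
      rw [orderOf_eq_one_iff] at e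
      subst e
      have htop : Subgroup.centralizer ({1} : Set G) = ⊤ :=
        eq_top_iff.2 fun x _ => Subgroup.mem_centralizer_singleton_iff.2 (by simp)
      rw [htop, Subgroup.card_top] at h
      exact hG (isCyclic_of_prime_card h)
    have heq : Subgroup.zpowers w = Subgroup.centralizer ({w} : Set G) :=
      Subgroup.eq_of_le_of_card_ge (Subgroup.zpowers_le.2 hwC) (by rw [h, Nat.card_zpowers, hwo])
    have hs : CfsgLib.Recog.SelfCentThree.Setup w :=
      ⟨hwo, fun g hg => heq ▸ Subgroup.mem_centralizer_singleton_iff.2 hg⟩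
    rcases CfsgLib.Recog.SelfCentThree.outcome (Nat.card G) hs le_rfl with
      ⟨N, hN, -, -, hq⟩ | ⟨N, hN, -, -, ⟨e⟩⟩ | ⟨⟨e⟩⟩
    · exfalso
      haveI := hN
      have hc : Nat.card (G ⧸ N) = 3 ∨ Nat.card (G ⧸ N) = 6 := by
        rcases hq with h3 | ⟨⟨e⟩⟩
        · exact Or.inl h3
        · refine Or.inr ?_
          rw [Nat.card_congr e.toEquiv, Nat.card_perm, Nat.card_fin]
          rfl
      rcases hN.eq_bot_or_eq_top with rfl | rfl
      · rw [← Nat.card_congr QuotientGroup.quotientBot.symm.toEquiv] at hc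
        rcases hc with h3 | h6
        · exact hG (isCyclic_of_prime_card h3)
        · exact CfsgLib.TwoGroups.SmallOrders.false_of_two_mod_four hna (by omega)
      · rw [← Subgroup.index_eq_card, Subgroup.index_top] at hc
        omega
    · haveI := hN
      rcases hN.eq_bot_or_eq_top with rfl | rfl
      · exact Or.inl ⟨QuotientGroup.quotientBot.symm.trans e⟩
      · exfalso
        have h1 := Nat.card_congr e.toEquiv
        rw [← Subgroup.index_eq_card, Subgroup.index_top] at h1
        have h2 : 2 * Nat.card (alternatingGroup (Fin 5)) = 120 := by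
          rw [two_mul_nat_card_alternatingGroup, Nat.card_perm, Nat.card_fin]; rfl
        omega
    · exact Or.inr (Or.inr (Or.inr ⟨ZMod 7, inferInstance, inferInstance, ZMod.card 7, ⟨e⟩⟩))
  · rcases CfsgLib.Recog.SmallCentralizer.order_of_four hna h with h' | h' | h' | h'
    · exact Or.inl (Cfsg.Agent.S0494.result h')
    · exact Or.inr (Or.inr (Or.inr ⟨ZMod 7, inferInstance, inferInstance, ZMod.card 7,
        Cfsg.Agent.S0495.result h' (ZMod.card 7)⟩))
    · exact Or.inr (Or.inl (Cfsg.Agent.S0497.result h'))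
    · exact Or.inr (Or.inr (Or.inl (Cfsg.Agent.S0984.result h')))

end Cfsg.Agent.S3280
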