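import Cfsg.Statements.S3283
import Cfsg.Agent.Lib.Invol.S3A6.Main

set_option autoImplicit false
open Cfsg

namespace Cfsg.Agent.S3283

/-- Let G be a finite group with an involution z whose centralizer M has Q = O₂(M) extraspecial of order 2⁹ with C_M(Q) ≤ Q, and M/Q isomorphic to S₃ × A₆ or to S₃ × S₆. Then G is not simple. -/
theorem result {G : Type*} [Group G] [Finite G] (z : G) (hz : orderOf z = 2)
    (hQ : Cfsg.IsExtraspecial 2 ↥(Cfsg.pCore 2 ↥(Subgroup.centralizer ({z} : Set G)))) (hQ9 : Nat.card ↥(Cfsg.pCore 2 ↥(Subgroup.centralizer ({z} : Set G))) = 2 ^ 9)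
    (hCQ : Subgroup.centralizer ((Cfsg.pCore 2 ↥(Subgroup.centralizer ({z} : Set G))) : Set ↥(Subgroup.centralizer ({z} : Set G))) ≤ Cfsg.pCore 2 ↥(Subgroup.centralizer ({z} : Set G)))
    (hMQ : Nonempty (↥(Subgroup.centralizer ({z} : Set G)) ⧸ Cfsg.pCore 2 ↥(Subgroup.centralizer ({z} : Set G)) ≃* (Equiv.Perm (Fin 3) × ↥(alternatingGroup (Fin 6)))) ∨
      Nonempty (↥(Subgroup.centralizer ({z} : Set G)) ⧸ Cfsg.pCore 2 ↥(Subgroup.centralizer ({z} : Set G)) ≃* (Equiv.Perm (Fin 3) × Equiv.Perm (Fin 6)))) :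
    ¬ IsSimpleGroup G := by
  intro hS
  set C := Subgroup.centralizer ({z} : Set G) with hC
  set P := Cfsg.pCore 2 ↥C with hP
  set Q := P.map C.subtype with hQdef
  have hext : Cfsg.IsExtraspecial 2 ↥Q := by
    haveI : Fact (Nat.Prime 2) := ⟨Nat.prime_two⟩
    exact CfsgLib.ThreeTrans.isExtraspecial_congr hQ (Subgroup.equivMapOfInjective P C.subtype C.subtype_injective)
  have hmem : ∀ c : ↥C, (c : G) ∈ Q ↔ c ∈ P := fun c =>
    ⟨fun ⟨w, hw, e⟩ => (Subtype.ext e : w = c) ▸ hw, fun hc => ⟨c, hc, rfl⟩⟩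
  have hzC : z ∈ C := Subgroup.mem_centralizer_singleton_iff.2 rfl
  have hzQ : z ∈ Q := by
    refine (hmem ⟨z, hzC⟩).2 (hCQ ?_)
    rw [Subgroup.mem_centralizer_iff]
    exact fun q _ => Subtype.ext ((Subgroup.mem_centralizer_singleton_iff.1 q.2))
  have hcent : Subgroup.centralizer (Q : Set G) ≤ Q := by
    intro x hx
    rw [Subgroup.mem_centralizer_iff] at hx
    have hxC : x ∈ C := Subgroup.mem_centralizer_singleton_iff.2 (hx z hzQ).symm
    refine (hmem ⟨x, hxC⟩).2 (hCQ ?_)
    rw [Subgroup.mem_centralizer_iff]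
    exact fun q hq => Subtype.ext (hx q ((hmem q).2 hq))
  have h := CfsgLib.Transfer.LargeExtra.largeData_of hz hQdef hext hcent
  have hcard : Nat.card Q = 2 ^ 9 := by
    rw [hQdef, Subgroup.card_map_of_injective C.subtype_injective, hQ9]
  haveI : P.Normal := CfsgLib.Core.normal_pCore 2 _
  rcases hMQ with ⟨⟨e⟩⟩ | ⟨⟨e⟩⟩
  · let φ : ↥C →* CfsgLib.S3A6.P36 :=
      ((MonoidHom.id (Equiv.Perm (Fin 3))).prodMap (alternatingGroup (Fin 6)).subtype).comp
        (e.toMonoidHom.comp (QuotientGroup.mk' P))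
    have hinj : Function.Injective
        ((MonoidHom.id (Equiv.Perm (Fin 3))).prodMap (alternatingGroup (Fin 6)).subtype) := fun a b hab => by
      have h1 := congrArg Prod.fst hab
      have h2 := congrArg Prod.snd hab
      exact Prod.ext h1 (Subtype.ext h2)
    obtain ⟨S⟩ := CfsgLib.S3A6.exists_setting h hcard φ
      (fun c => by
        show ((MonoidHom.id (Equiv.Perm (Fin 3))).prodMap (alternatingGroup (Fin 6)).subtype)
          (e (QuotientGroup.mk' P c)) = 1 ↔ _
        rw [map_eq_one_iff _ hinj, map_eq_one_iff _ e.injective, hmem]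
        exact QuotientGroup.eq_one_iff c)
      (fun a b _ hb => by
        obtain ⟨c, hc⟩ := QuotientGroup.mk'_surjective P
          (e.symm (a, ⟨b, Equiv.Perm.mem_alternatingGroup.2 hb⟩))
        refine ⟨c, ?_⟩
        show ((MonoidHom.id (Equiv.Perm (Fin 3))).prodMap (alternatingGroup (Fin 6)).subtype)
          (e (QuotientGroup.mk' P c)) = _
        rw [hc, e.apply_symm_apply]
        rfl)
      (by
        obtain ⟨c, hc⟩ := QuotientGroup.mk'_surjective P (e.symm (Equiv.swap 0 1, 1))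
        refine ⟨c, ?_⟩
        show Equiv.Perm.sign (((MonoidHom.id (Equiv.Perm (Fin 3))).prodMap (alternatingGroup (Fin 6)).subtype)
          (e (QuotientGroup.mk' P c))).1 ≠ 1
        rw [hc, e.apply_symm_apply]
        show Equiv.Perm.sign (Equiv.swap (0 : Fin 3) 1) ≠ 1
        rw [Equiv.Perm.sign_swap (by decide)]
        decide)
    exact S.false_of_simple
  · let φ : ↥C →* CfsgLib.S3A6.P36 := e.toMonoidHom.comp (QuotientGroup.mk' P)
    obtain ⟨S⟩ := CfsgLib.S3A6.exists_setting h hcard φ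
      (fun c => by
        show e (QuotientGroup.mk' P c) = 1 ↔ _
        rw [map_eq_one_iff _ e.injective, hmem]
        exact QuotientGroup.eq_one_iff c)
      (fun a b _ _ => by
        obtain ⟨c, hc⟩ := QuotientGroup.mk'_surjective P (e.symm (a, b))
        refine ⟨c, ?_⟩
        show e (QuotientGroup.mk' P c) = _
        rw [hc, e.apply_symm_apply])
      (by
        obtain ⟨c, hc⟩ := QuotientGroup.mk'_surjective P (e.symm (Equiv.swap 0 1, 1))
        refine ⟨c, ?_⟩
        show Equiv.Perm.sign (e (QuotientGroup.mk' P c)).1 ≠ 1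
        rw [hc, e.apply_symm_apply]
        show Equiv.Perm.sign (Equiv.swap (0 : Fin 3) 1) ≠ 1
        rw [Equiv.Perm.sign_swap (by decide)]
        decide)
    exact S.false_of_simple

end Cfsg.Agent.S3283
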