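import Cfsg.Statements.S3284
import Cfsg.Agent.Lib.Invol.S3A6.Main

set_option autoImplicit false
open Cfsg

namespace Cfsg.Agent.S3284

/-- There is no non-abelian finite simple group with an involution z whose centralizer M has generalized Fitting subgroup Q = F*(M) extraspecial of order 2⁹ and M/Q isomorphic to the subgroup of S₃ × S₆ consisting of the pairs of permutations with equal sign (a group (3 × A₆)·2 in which an involution outside 3 × A₆ induces S₃ on the first factor and S₆ on the second). -/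
theorem result {G : Type*} [Group G] [Finite G] [IsSimpleGroup G] (hG : ¬ IsMulCommutative G) (z : G) (hz : orderOf z = 2)
    [hn : (Cfsg.generalizedFittingSubgroup ↥(Subgroup.centralizer ({z} : Set G))).Normal]
    (hQ : Cfsg.IsExtraspecial 2 ↥(Cfsg.generalizedFittingSubgroup ↥(Subgroup.centralizer ({z} : Set G)))) (hQ9 : Nat.card ↥(Cfsg.generalizedFittingSubgroup ↥(Subgroup.centralizer ({z} : Set G))) = 2 ^ 9)
    (e : (↥(Subgroup.centralizer ({z} : Set G)) ⧸ Cfsg.generalizedFittingSubgroup ↥(Subgroup.centralizer ({z} : Set G))) ≃*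
      ↥(MonoidHom.ker (Equiv.Perm.sign.comp (MonoidHom.fst (Equiv.Perm (Fin 3)) (Equiv.Perm (Fin 6))) *
          Equiv.Perm.sign.comp (MonoidHom.snd (Equiv.Perm (Fin 3)) (Equiv.Perm (Fin 6)))))) :
    False := by
  set C := Subgroup.centralizer ({z} : Set G) with hC
  set P := Cfsg.generalizedFittingSubgroup ↥C with hP
  set Q := P.map C.subtype with hQdef
  have hext : Cfsg.IsExtraspecial 2 ↥Q := by
    haveI : Fact (Nat.Prime 2) := ⟨Nat.prime_two⟩
    exact CfsgLib.ThreeTrans.isExtraspecial_congr hQ (Subgroup.equivMapOfInjective P C.subtype C.subtype_injective)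
  have hmem : ∀ c : ↥C, (c : G) ∈ Q ↔ c ∈ P := fun c =>
    ⟨fun ⟨w, hw, e'⟩ => (Subtype.ext e' : w = c) ▸ hw, fun hc => ⟨c, hc, rfl⟩⟩
  have h := CfsgLib.ThreeTrans.LargeGeneration.largeData_of_gFitting hz (hQdef ▸ Subgroup.map_subtype_le P) hQdef.symm hext
  have hcard : Nat.card Q = 2 ^ 9 := by
    rw [hQdef, Subgroup.card_map_of_injective C.subtype_injective, hQ9]
  let K := MonoidHom.ker (Equiv.Perm.sign.comp (MonoidHom.fst (Equiv.Perm (Fin 3)) (Equiv.Perm (Fin 6))) *
    Equiv.Perm.sign.comp (MonoidHom.snd (Equiv.Perm (Fin 3)) (Equiv.Perm (Fin 6))))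
  let φ : ↥C →* CfsgLib.S3A6.P36 := K.subtype.comp (e.toMonoidHom.comp (QuotientGroup.mk' P))
  have hφ : ∀ x : ↥K, ∃ c, φ c = (x : CfsgLib.S3A6.P36) := fun x => by
    obtain ⟨c, hc⟩ := QuotientGroup.mk'_surjective P (e.symm x)
    refine ⟨c, ?_⟩
    show ((e (QuotientGroup.mk' P c) : ↥K) : CfsgLib.S3A6.P36) = _
    rw [hc, e.apply_symm_apply]
  obtain ⟨S⟩ := CfsgLib.S3A6.exists_setting h hcard φ
    (fun c => by
      show K.subtype (e (QuotientGroup.mk' P c)) = 1 ↔ _
      rw [map_eq_one_iff _ K.subtype_injective, map_eq_one_iff _ e.injective, hmem]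
      exact QuotientGroup.eq_one_iff c)
    (fun a b ha hb => hφ ⟨(a, b), by
      show Equiv.Perm.sign a * Equiv.Perm.sign b = 1
      rw [ha, hb, one_mul]⟩)
    (by
      obtain ⟨c, hc⟩ := hφ ⟨(Equiv.swap 0 1, Equiv.swap 0 1), by
        show Equiv.Perm.sign (Equiv.swap (0 : Fin 3) 1) * Equiv.Perm.sign (Equiv.swap (0 : Fin 6) 1) = 1
        rw [Equiv.Perm.sign_swap (by decide), Equiv.Perm.sign_swap (by decide)]
        decide⟩
      refine ⟨c, ?_⟩
      rw [hc]
      show Equiv.Perm.sign (Equiv.swap (0 : Fin 3) 1) ≠ 1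
      rw [Equiv.Perm.sign_swap (by decide)]
      decide)
  exact S.false_of_simple

end Cfsg.Agent.S3284
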