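import Cfsg.Statements.S3294
import Cfsg.Agent.Lib.ZStar.QuatSylow
import Cfsg.Agent.Lib.Transfer.PResidual

set_option autoImplicit false
open Cfsg

namespace Cfsg.Agent.S3294

/-- A finite solvable group whose Sylow 2-subgroups are generalized quaternion of order at least 32 has a normal 2-complement. -/
theorem result {G : Type*} [Group G] [Finite G] (hsol : Group.IsSolvable G) (T : Sylow 2 G) (n : ℕ) (hn : 3 ≤ n) (hT : Nonempty ((T : Subgroup G) ≃* QuaternionGroup (2 ^ n))) : Cfsg.HasNormalPComplement 2 G := by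
  have : Fact (Nat.Prime 2) := ⟨Nat.prime_two⟩
  obtain ⟨e⟩ := hT
  set O := pPrimeCore 2 G with hO
  have hodd : Odd (Nat.card O) := CfsgLib.ZStar.odd_card_oddCore G
  refine CfsgLib.ZStar.complement_lift T O hodd ?_
  have hf : Function.Injective ((QuotientGroup.mk' O).comp (T : Subgroup G).subtype) := by
    refine (injective_iff_map_eq_one _).2 fun t ht => ?_
    have htO : (t : G) ∈ O := (QuotientGroup.eq_one_iff _).1 ht
    obtain ⟨j, hj⟩ := IsPGroup.iff_orderOf.1 T.2 t
    rw [← orderOf_eq_one_iff, ← Nat.dvd_one]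
    have h := Nat.dvd_gcd (Subgroup.orderOf_dvd_natCard _ htO)
      (dvd_of_eq ((Subgroup.orderOf_coe t).trans hj))
    rw [Subgroup.orderOf_coe, ((Nat.coprime_two_right.2 hodd).pow_right j).gcd_eq_one] at h
    exact h
  set T' := T.mapSurjective (QuotientGroup.mk'_surjective O)
  have e' : (T' : Subgroup (G ⧸ O)) ≃* QuaternionGroup (2 ^ n) :=
    ((MulEquiv.subgroupCongr (by
      rw [Sylow.coe_mapSurjective, MonoidHom.range_comp, Subgroup.range_subtype])).trans
        (MonoidHom.ofInjective hf).symm).trans e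
  have hp := CfsgLib.ZStar.isPGroup_of_solvable T' hn e'
    (CfsgLib.Core.pPrimeCore_quotient_pPrimeCore 2 G)
  exact CfsgLib.Transfer.hasNormalPComplement_of_isPGroup hp

end Cfsg.Agent.S3294
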