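import Cfsg.Statements.S3299
import Cfsg.Agent.Lib.Transfer.LargeExtra

set_option autoImplicit false
open Cfsg

namespace Cfsg.Agent.S3299

open CfsgLib.Transfer.Coset CfsgLib.Transfer.LargeExtra

/-- Let G be a finite group with no nontrivial 2-group quotient (O^2(G) = G), z an involution of G with H = C_G(z), and suppose E = O_2(H) is extraspecial with C_G(E) ≤ E and of order 2^(2n+1) with n ≥ 2. Then E is contained in every normal subgroup of H of index 2. -/
theorem result {G : Type*} [Group G] [Finite G] (hres : Cfsg.pResidual 2 G = ⊤) (z : G) (hz : orderOf z = 2)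
    (E : Subgroup G) (hE : E = (Cfsg.pCore 2 ↥(Subgroup.centralizer ({z} : Set G))).map (Subgroup.centralizer ({z} : Set G)).subtype)
    (hext : Cfsg.IsExtraspecial 2 ↥E) (hcent : Subgroup.centralizer (E : Set G) ≤ E) (n : ℕ) (hn : 2 ≤ n) (hcard : Nat.card ↥E = 2 ^ (2 * n + 1))
    (K : Subgroup G) (hKH : K ≤ Subgroup.centralizer ({z} : Set G))
    (hKn : ∀ h ∈ Subgroup.centralizer ({z} : Set G), K.map (MulAut.conj h).toMonoidHom = K)
    (hKi : K.relIndex (Subgroup.centralizer ({z} : Set G)) = 2) : E ≤ K := by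
  classical
  have h := largeData_of hz hE hext hcent
  have : Fintype (G ⧸ Subgroup.centralizer ({z} : Set G)) := Fintype.ofFinite _
  have hKc : 2 * Nat.card K = Nat.card (Subgroup.centralizer ({z} : Set G)) := by
    have := CfsgLib.PGroups.card_mul_relIndex hKH
    rw [hKi] at this
    omega
  let Ψ := parityOfIndexTwo hKH hKc
  have hΨ : ∀ x, x ∈ K → Ψ.toFun x = 0 := fun x hx => if_pos hx
  have hΨ' : ∀ x, x ∉ K → Ψ.toFun x = 1 := fun x hx => if_neg hx
  by_contra hEK
  obtain ⟨e0, he0, he0K⟩ := SetLike.not_le_iff_exists.1 hEK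
  have hNc := two_mul_card_inf h.le_centralizer hKH hKc he0 he0K
  have h32 : 32 ≤ Nat.card E := by
    rw [hcard]
    calc 32 = 2 ^ (2 * 2 + 1) := by norm_num
      _ ≤ _ := Nat.pow_le_pow_right (by norm_num) (by omega)
  have hΨz : Ψ.toFun z = 0 := by
    obtain ⟨a, ha, b, hb, hab⟩ := exists_commutator h le_rfl h.z_mem (by nlinarith)
    have hcm := Ψ.map_comm (h.le_centralizer ha) (h.le_centralizer hb)
    rwa [hab] at hcm
  have hzK : z ∈ K := by
    by_contra hzK
    rw [hΨ' z hzK] at hΨz
    exact one_ne_zero hΨz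
  -- an involution of `E` outside `K`
  obtain ⟨t, ht, htK, htt⟩ : ∃ t ∈ E, t ∉ K ∧ t * t = 1 := by
    by_contra hcon
    simp only [not_exists, not_and] at hcon
    have hsq : ∀ x ∈ E, x ∉ K → x * x = z := fun x hx hxK =>
      (h.eq_or (h.sq_mem hx)).resolve_left (hcon x hx hxK)
    have hinv : ∀ m ∈ E ⊓ K, e0⁻¹ * m * e0 = m⁻¹ := by
      intro m hm
      have h1 : e0 * m ∉ K := by
        rw [mul_mem_iff_of_two_mul_card hKH hKc (h.le_centralizer he0) (hKH hm.2)]
        simp [he0K, show m ∈ K from hm.2]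
      have h2 : e0 * m * (e0 * m) = e0 * e0 :=
        (hsq _ (E.mul_mem he0 hm.1) h1).trans (hsq _ he0 he0K).symm
      rw [mul_assoc e0 m, mul_right_inj] at h2
      calc e0⁻¹ * m * e0 = e0⁻¹ * (m * (e0 * m)) * m⁻¹ := by group
        _ = m⁻¹ := by rw [h2]; group
    obtain ⟨a, ha, b, hb, hab⟩ := exists_commutator h (inf_le_left : E ⊓ K ≤ E) ⟨h.z_mem, hzK⟩
      (by nlinarith)
    have h3 : (a * b)⁻¹ = a⁻¹ * b⁻¹ := by
      rw [← hinv _ ((E ⊓ K).mul_mem ha hb), ← hinv a ha, ← hinv b hb]
      group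
    apply h.z_ne_one
    rw [← hab, mul_assoc (a * b) a⁻¹ b⁻¹, ← h3, mul_inv_cancel]
  have htz : t ∉ Subgroup.zpowers z := fun hc => by
    rcases h.eq_or hc with rfl | rfl
    · exact htK K.one_mem
    · exact htK hzK
  -- the centralizer of `t` in `E`
  obtain ⟨q0, hq0, hq0t⟩ := h.exists_move ht htz
  have hPc : 2 * Nat.card ↥(E ⊓ Subgroup.centralizer ({t} : Set G)) = Nat.card E := by
    have hr : (E ⊓ Subgroup.centralizer ({t} : Set G)).relIndex E = 2 := by
      rw [Subgroup.relIndex_eq_two_iff_exists_notMem_and]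
      refine ⟨q0, hq0, fun hc => ?_, fun b hb => ?_⟩
      · have hc' : q0 * t = t * q0 := CfsgLib.ThreeTrans.mem_centralizer_singleton_iff'.1 hc.2
        rw [hc', mul_inv_cancel_right] at hq0t
        exact h.z_ne_one (mul_eq_right.1 hq0t.symm)
      · rcases h.conj_eq_or hb ht with e1 | e1
        · exact Or.inr ⟨hb, CfsgLib.ThreeTrans.mem_centralizer_singleton_iff'.2
            (mul_inv_eq_iff_eq_mul.1 e1)⟩
        · refine Or.inl ⟨E.mul_mem hb hq0, CfsgLib.ThreeTrans.mem_centralizer_singleton_iff'.2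
            (mul_inv_eq_iff_eq_mul.1 ?_)⟩
          calc b * q0 * t * (b * q0)⁻¹ = b * (q0 * t * q0⁻¹) * b⁻¹ := by group
            _ = (b * z * b⁻¹) * (b * t * b⁻¹) := by rw [hq0t]; group
            _ = t := by
              rw [e1, (h.commute_z hb).eq, mul_inv_cancel_right, ← mul_assoc, h.mul_self_z, one_mul]
    have := CfsgLib.PGroups.card_mul_relIndex (H := E ⊓ Subgroup.centralizer ({t} : Set G))
      (K := E) inf_le_left
    rw [hr] at this
    omega
  have htH : t ∈ Subgroup.centralizer ({z} : Set G) := h.le_centralizer ht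
  have hPt : ∀ s ∈ E ⊓ Subgroup.centralizer ({t} : Set G), Commute s t :=
    fun s hs => CfsgLib.ThreeTrans.mem_centralizer_singleton_iff'.1 hs.2
  have htP : t ∈ E ⊓ Subgroup.centralizer ({t} : Set G) :=
    ⟨ht, CfsgLib.ThreeTrans.mem_centralizer_singleton_iff'.2 rfl⟩
  have hzP : z ∈ E ⊓ Subgroup.centralizer ({t} : Set G) :=
    ⟨h.z_mem, CfsgLib.ThreeTrans.mem_centralizer_singleton_iff'.2 (h.commute_z ht).eq.symm⟩
  have hrest : ∀ p, p ≠ base z →
      Ψ.T (orb (E ⊓ Subgroup.centralizer ({t} : Set G)) p) t = 0 := by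
    intro p hp
    have hcomm : ∀ s ∈ E ⊓ Subgroup.centralizer ({t} : Set G), ∀ q : G ⧸ Subgroup.centralizer ({z} : Set G),
        t • s • q = s • t • q := fun s hs q => by
      rw [← mul_smul, ← mul_smul, (hPt s hs).eq]
    by_cases htp : t • p = p
    · have hfix : ∀ q ∈ orb (E ⊓ Subgroup.centralizer ({t} : Set G)) p, t • q = q := by
        intro q hq
        obtain ⟨s, hs, rfl⟩ := mem_orb.1 hq
        rw [hcomm s hs, htp]
      have hconst : ∀ q ∈ orb (E ⊓ Subgroup.centralizer ({t} : Set G)) p,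
          Ψ.val q t = Ψ.val p t := by
        intro q hq
        obtain ⟨s, hs, rfl⟩ := mem_orb.1 hq
        have hst : s⁻¹ * t * s = t := by rw [mul_assoc, ← (hPt s hs).eq, inv_mul_cancel_left]
        rw [Ψ.val_smul (by rw [hst]; exact htp), hst]
      rw [Ψ.T_fixed_const hfix hconst]
      by_cases hmove : ∃ s ∈ E ⊓ Subgroup.centralizer ({t} : Set G), s • p ≠ p
      · rw [even_card_orb ((CfsgLib.PGroups.IsExtraspecial.isPGroup h.hE).to_le inf_le_left) hmove,
          zero_mul]
      simp only [not_exists, not_and, not_not] at hmove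
      obtain ⟨hww, hwc, hw0⟩ := out_conj_props h (p := p)
      have hwz : Commute (p.out * z * p.out⁻¹) z := hwc z (hmove z hzP)
      have hwE := mem_of_centralizes h inf_le_left hPc hzP hwz hww fun m hm => hwc m (hmove m hm)
      have hwi := inv_eq_of_mul_eq_one_left hww
      suffices hval : Ψ.val p t = 0 by rw [hval, mul_zero]
      have hci : p.out⁻¹ * (p.out * z * p.out⁻¹) * p.out = z := by group
      rcases centralizer_hyperplane h inf_le_left hPc ht hwE (fun m hm => (hPt m hm).symm) htz
        (fun m hm => hwc m (hmove m hm)) with e1 | e1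
      · exact absurd (hw0 e1) hp
      rcases h.eq_or e1 with e2 | e2
      · have e3 : t = p.out * z * p.out⁻¹ := by
          rw [eq_inv_of_mul_eq_one_left e2, hwi]
        show Ψ.toFun (p.out⁻¹ * t * p.out) = 0
        rw [e3, hci]
        exact hΨz
      · have e3 : t = z * (p.out * z * p.out⁻¹) := by
          rw [← hwi, eq_mul_inv_iff_mul_eq]
          exact e2
        obtain ⟨a, ha, b, hb, hab⟩ := exists_commutator h inf_le_left hzP (by nlinarith)
        have hzfix := fix_mem (hmove z hzP)
        show Ψ.toFun (p.out⁻¹ * t * p.out) = 0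
        rw [e3, show p.out⁻¹ * (z * (p.out * z * p.out⁻¹)) * p.out = p.out⁻¹ * z * p.out * z by
            group,
          Ψ.map_mul _ hzfix _ (h.le_centralizer h.z_mem), hΨz, add_zero]
        have hcm := Ψ.map_comm (fix_mem (hmove a ha)) (fix_mem (hmove b hb))
        rwa [show p.out⁻¹ * a * p.out * (p.out⁻¹ * b * p.out) * (p.out⁻¹ * a * p.out)⁻¹ *
          (p.out⁻¹ * b * p.out)⁻¹ = p.out⁻¹ * (a * b * a⁻¹ * b⁻¹) * p.out by group, hab] at hcm
    · refine Ψ.T_eq_zero_of_orbits (Subgroup.zpowers t) _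
        (fun s hs q hq => smul_mem_orb (Subgroup.zpowers_le.2 htP hs) hq) fun q hq => ?_
      obtain ⟨s, hs, rfl⟩ := mem_orb.1 hq
      have hne : t • s • p ≠ s • p := by
        rw [hcomm s hs]
        exact fun hc => htp (MulAction.injective s hc)
      have htt' : t • t • s • p = s • p := by rw [← mul_smul, htt, one_smul]
      have horb : orb (Subgroup.zpowers t) (s • p) = {s • p} ∪ ({s • p} : Finset _).image (t • ·) := by
        ext r
        rw [mem_orb, Finset.image_singleton, Finset.mem_union, Finset.mem_singleton,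
          Finset.mem_singleton]
        constructor
        · rintro ⟨u, hu, rfl⟩
          obtain ⟨k, rfl⟩ := Subgroup.mem_zpowers_iff.1 hu
          rcases Int.even_or_odd k with ⟨j, rfl⟩ | ⟨j, rfl⟩
          · left
            rw [zpow_add, ← (Commute.refl t).mul_zpow, htt, one_zpow, one_smul]
          · right
            rw [two_mul, zpow_add_one, zpow_add, ← (Commute.refl t).mul_zpow, htt, one_zpow,
              one_mul]
        · rintro (rfl | rfl)
          · exact ⟨1, one_mem _, one_smul _ _⟩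
          · exact ⟨t, Subgroup.mem_zpowers t, rfl⟩
      rw [horb, Ψ.T_swap (by simpa using fun hc => hne hc.symm) (by simpa [mul_smul] using htt'),
        htt]
      exact Ψ.T_one _
  have h0 := Ψ.T_univ_eq_zero hres t
  rw [Ψ.T_sdiff (Finset.subset_univ {base z}), Ψ.T_base htH,
    Ψ.T_eq_zero_of_orbits (E ⊓ Subgroup.centralizer ({t} : Set G)) (Finset.univ \ {base z})
      (fun s hs q hq => ?_) (fun q hq => ?_), hΨ' t htK, add_zero] at h0
  · exact one_ne_zero h0
  · simp only [Finset.mem_sdiff, Finset.mem_univ, Finset.mem_singleton, true_and] at hq ⊢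
    exact smul_ne_base h (h.le_centralizer hs.1) hq
  · simp only [Finset.mem_sdiff, Finset.mem_univ, Finset.mem_singleton, true_and] at hq
    exact hrest q hq

end Cfsg.Agent.S3299
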