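import Cfsg.Statements.S3300
import Cfsg.Agent.Lib.Transfer.LargeExtra

set_option autoImplicit false
open Cfsg

namespace Cfsg.Agent.S3300

open CfsgLib.Transfer.Coset CfsgLib.Transfer.LargeExtra

/-- Let G be a finite group with no nontrivial 2-group quotient (O^2(G) = G), z an involution of G with H = C_G(z), and suppose E = O_2(H) is extraspecial with C_G(E) ≤ E and of order 2^(2n+1) with n ≥ 3. If H has a normal subgroup of index 2, then z is conjugate in G to an element of E other than z. -/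
theorem result {G : Type*} [Group G] [Finite G] (hres : Cfsg.pResidual 2 G = ⊤) (z : G) (hz : orderOf z = 2)
    (E : Subgroup G) (hE : E = (Cfsg.pCore 2 ↥(Subgroup.centralizer ({z} : Set G))).map (Subgroup.centralizer ({z} : Set G)).subtype)
    (hext : Cfsg.IsExtraspecial 2 ↥E) (hcent : Subgroup.centralizer (E : Set G) ≤ E) (n : ℕ) (hn : 3 ≤ n) (hcard : Nat.card ↥E = 2 ^ (2 * n + 1))
    (K : Subgroup G) (hKH : K ≤ Subgroup.centralizer ({z} : Set G))
    (hKn : ∀ h ∈ Subgroup.centralizer ({z} : Set G), K.map (MulAut.conj h).toMonoidHom = K)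
    (hKi : K.relIndex (Subgroup.centralizer ({z} : Set G)) = 2) :
    ∃ g : G, g * z * g⁻¹ ∈ E ∧ g * z * g⁻¹ ≠ z := by
  classical
  have h := largeData_of hz hE hext hcent
  have : Fintype (G ⧸ Subgroup.centralizer ({z} : Set G)) := Fintype.ofFinite _
  have hKc : 2 * Nat.card K = Nat.card (Subgroup.centralizer ({z} : Set G)) := by
    have := CfsgLib.PGroups.card_mul_relIndex hKH
    rw [hKi] at this
    omega
  by_contra hcon
  simp only [not_exists, not_and, not_not] at hcon
  let Ψ := parityOfIndexTwo hKH hKc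
  have h128 : 128 ≤ Nat.card E := by
    rw [hcard]
    calc 128 = 2 ^ (2 * 3 + 1) := by norm_num
      _ ≤ _ := Nat.pow_le_pow_right (by norm_num) (by omega)
  obtain ⟨x, hx, hxK⟩ := exists_notMem_of_two_mul_card hKc
  have h1 : Ψ.toFun x = 1 := if_neg hxK
  rw [parity_eq_zero h Ψ ?_ ?_ hres hx] at h1
  · exact zero_ne_one h1
  · intro p hp hzp hidx d _
    obtain ⟨hww, hwc, hw0⟩ := out_conj_props h (p := p)
    have hwE := mem_of_centralizes h inf_le_left hidx ⟨h.z_mem, hzp⟩ (hwc z hzp) hww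
      fun m hm => hwc m hm.2
    exact absurd (hw0 (by rw [hcon p.out hwE]; exact Subgroup.mem_zpowers z)) hp
  · intro p _ hzp hbig
    obtain ⟨a, ha, b, hb, hab⟩ :=
      exists_commutator h (inf_le_left : E ⊓ MulAction.stabilizer G p ≤ E) ⟨h.z_mem, hzp⟩
        (by nlinarith)
    show Ψ.toFun (p.out⁻¹ * z * p.out) = 0
    have hcm := Ψ.map_comm (fix_mem ha.2) (fix_mem hb.2)
    rwa [show p.out⁻¹ * a * p.out * (p.out⁻¹ * b * p.out) * (p.out⁻¹ * a * p.out)⁻¹ *
      (p.out⁻¹ * b * p.out)⁻¹ = p.out⁻¹ * (a * b * a⁻¹ * b⁻¹) * p.out by group, hab] at hcm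

end Cfsg.Agent.S3300
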