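import Cfsg.Statements.S3301
import Cfsg.Agent.Lib.Transfer.LargeExtra

set_option autoImplicit false
open Cfsg

namespace Cfsg.Agent.S3301

open CfsgLib.Transfer.Coset CfsgLib.Transfer.LargeExtra

/-- Let G be a finite group with no nontrivial 2-group quotient (O^2(G) = G), z an involution of G with H = C_G(z), and suppose E = O_2(H) is extraspecial with C_G(E) ≤ E. Then the Sylow 2-subgroups of H/[H, H] are elementary abelian: every element of 2-power order of the abelianization of H has order at most 2. -/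
theorem result {G : Type*} [Group G] [Finite G] (hres : Cfsg.pResidual 2 G = ⊤) (z : G) (hz : orderOf z = 2)
    (E : Subgroup G) (hE : E = (Cfsg.pCore 2 ↥(Subgroup.centralizer ({z} : Set G))).map (Subgroup.centralizer ({z} : Set G)).subtype)
    (hext : Cfsg.IsExtraspecial 2 ↥E) (hcent : Subgroup.centralizer (E : Set G) ≤ E) :
    ∀ q : Abelianization ↥(Subgroup.centralizer ({z} : Set G)), (∃ k : ℕ, orderOf q = 2 ^ k) → q ^ 2 = 1 := by
  classical
  have h := largeData_of hz hE hext hcent
  have : Fintype (G ⧸ Subgroup.centralizer ({z} : Set G)) := Fintype.ofFinite _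
  -- homomorphisms into `ℤ/4` take even values
  have key : ∀ f : ↥(Subgroup.centralizer ({z} : Set G)) →* Multiplicative (ZMod 4), ∀ x,
      2 * Multiplicative.toAdd (f x) = 0 := by
    intro f
    let φ : G → ZMod 4 := fun x =>
      if hx : x ∈ Subgroup.centralizer ({z} : Set G) then Multiplicative.toAdd (f ⟨x, hx⟩) else 0
    have hφ : ∀ a ∈ Subgroup.centralizer ({z} : Set G), ∀ b ∈ Subgroup.centralizer ({z} : Set G),
        φ (a * b) = φ a + φ b := by
      intro a ha b hb
      simp only [φ, dif_pos ha, dif_pos hb, dif_pos (mul_mem ha hb), ← toAdd_mul, ← map_mul]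
      rfl
    let c : ZMod 4 →+* ZMod 2 := ZMod.castHom (by norm_num) (ZMod 2)
    let Ψ : CfsgLib.Transfer.Coset.Parity (Subgroup.centralizer ({z} : Set G)) :=
      ⟨fun x => c (φ x), fun a ha b hb => by rw [hφ a ha b hb, map_add]⟩
    have hc : ∀ u : ZMod 4, c u = 0 ↔ 2 * u = 0 := by
      intro u
      show (ZMod.castHom _ (ZMod 2)) u = 0 ↔ _
      revert u
      decide
    have h1φ : φ 1 = 0 := by simpa using hφ 1 (one_mem _) 1 (one_mem _)
    have hinvol : ∀ v ∈ Subgroup.centralizer ({z} : Set G), v * v = 1 → Ψ.toFun v = 0 := by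
      intro v hv hvv
      refine (hc _).2 ?_
      rw [two_mul, ← hφ v hv v hv, hvv, h1φ]
    intro x
    have h0 := parity_eq_zero h Ψ ?_ ?_ hres x.2
    · have := (hc _).1 h0
      simpa only [φ, dif_pos x.2] using this
    · intro p hp hzp hidx d hd
      have hd' := fix_mem hd.2
      rcases h.eq_or (h.sq_mem hd.1) with hdd | hdd
      · refine hinvol _ hd' ?_
        rw [show p.out⁻¹ * d * p.out * (p.out⁻¹ * d * p.out) = p.out⁻¹ * (d * d) * p.out by group,
          hdd]
        group
      refine (hc _).2 ?_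
      rw [two_mul, ← hφ _ hd' _ hd',
        show p.out⁻¹ * d * p.out * (p.out⁻¹ * d * p.out) = p.out⁻¹ * (d * d) * p.out by group,
        hdd]
      by_cases habel : ∀ a ∈ E ⊓ MulAction.stabilizer G p, ∀ b ∈ E ⊓ MulAction.stabilizer G p,
          a * b = b * a
      · exfalso
        obtain ⟨hww, hwc, hw0⟩ := out_conj_props h (p := p)
        have hwE := mem_of_centralizes h inf_le_left hidx ⟨h.z_mem, hzp⟩ (hwc z hzp) hww
          fun m hm => hwc m hm.2
        have hwi := inv_eq_of_mul_eq_one_left hww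
        have hwd := hwc d hd.2
        rcases centralizer_hyperplane h inf_le_left hidx hwE hd.1 (fun m hm => hwc m hm.2)
          (fun hw => hp (hw0 hw)) (fun m hm => habel d hd m hm) with e1 | e1
        · rcases h.eq_or e1 with rfl | rfl
          · exact h.z_ne_one (by simpa using hdd.symm)
          · exact h.z_ne_one (h.mul_self_z ▸ hdd).symm
        · have e2 : p.out * z * p.out⁻¹ * d * (p.out * z * p.out⁻¹ * d) = 1 := by
            rcases h.eq_or e1 with e | e <;> rw [e]
            · exact one_mul 1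
            · exact h.mul_self_z
          rw [Commute.mul_mul_mul_comm hwd.symm, hww, one_mul, hdd] at e2
          exact h.z_ne_one e2
      · simp only [not_forall] at habel
        obtain ⟨a, ha, b, hb, hne⟩ := habel
        have hab : a * b * a⁻¹ * b⁻¹ = z := (h.eq_or (h.comm_mem ha.1 hb.1)).resolve_left
          fun e => hne (mul_inv_eq_iff_eq_mul.1 (mul_inv_eq_one.1 e))
        have hA := fix_mem ha.2
        have hB := fix_mem hb.2
        have hinv : ∀ v ∈ Subgroup.centralizer ({z} : Set G), φ v⁻¹ = -φ v := fun v hv => by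
          rw [eq_neg_iff_add_eq_zero, ← hφ _ (inv_mem hv) _ hv, inv_mul_cancel, h1φ]
        have hcm : φ (p.out⁻¹ * a * p.out * (p.out⁻¹ * b * p.out) * (p.out⁻¹ * a * p.out)⁻¹ *
            (p.out⁻¹ * b * p.out)⁻¹) = 0 := by
          rw [hφ _ (mul_mem (mul_mem hA hB) (inv_mem hA)) _ (inv_mem hB),
            hφ _ (mul_mem hA hB) _ (inv_mem hA), hφ _ hA _ hB, hinv _ hA, hinv _ hB]
          abel
        rwa [show p.out⁻¹ * a * p.out * (p.out⁻¹ * b * p.out) * (p.out⁻¹ * a * p.out)⁻¹ *
          (p.out⁻¹ * b * p.out)⁻¹ = p.out⁻¹ * (a * b * a⁻¹ * b⁻¹) * p.out by group, hab] at hcm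
    · intro p _ hzp _
      refine hinvol _ (fix_mem hzp) ?_
      rw [show p.out⁻¹ * z * p.out * (p.out⁻¹ * z * p.out) = p.out⁻¹ * (z * z) * p.out by group,
        h.mul_self_z]
      group
  -- the cyclic factors of the abelianization
  rintro q ⟨k, hk⟩
  obtain ⟨ι, _, m, _, ⟨e⟩⟩ := CommGroup.equiv_prod_multiplicative_zmod_of_finite
    (Abelianization ↥(Subgroup.centralizer ({z} : Set G)))
  apply e.injective
  rw [map_pow, map_one]
  funext i
  rw [Pi.pow_apply, Pi.one_apply]
  have h4 : ¬ 4 ∣ m i := by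
    intro hdvd
    let f : ↥(Subgroup.centralizer ({z} : Set G)) →* Multiplicative (ZMod 4) :=
      (AddMonoidHom.toMultiplicative (ZMod.castHom hdvd (ZMod 4)).toAddMonoidHom).comp
        ((Pi.evalMonoidHom (fun j => Multiplicative (ZMod (m j))) i).comp
          (e.toMonoidHom.comp Abelianization.of))
    obtain ⟨x, hx⟩ := QuotientGroup.mk_surjective (s := commutator ↥(Subgroup.centralizer ({z} : Set G)))
      (e.symm (Pi.mulSingle i (Multiplicative.ofAdd (1 : ZMod (m i)))))
    have h2 := key f x
    have hfx : Multiplicative.toAdd (f x) = 1 := by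
      have hx' : Abelianization.of x =
          e.symm (Pi.mulSingle i (Multiplicative.ofAdd (1 : ZMod (m i)))) := hx
      simp [f, hx', ZMod.cast_one hdvd]
    rw [hfx] at h2
    exact absurd h2 (by decide)
  set v := e q i
  have hv1 : orderOf v ∣ 2 ^ k := by
    rw [← hk, ← MulEquiv.orderOf_eq e q]
    exact orderOf_map_dvd (Pi.evalMonoidHom (fun j => Multiplicative (ZMod (m j))) i) (e q)
  have hv2 : orderOf v ∣ m i := by
    have := orderOf_dvd_natCard v
    rwa [Nat.card_congr Multiplicative.toAdd, Nat.card_zmod] at this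
  obtain ⟨j, hjk, hj⟩ := (Nat.dvd_prime_pow Nat.prime_two).1 hv1
  rw [← orderOf_dvd_iff_pow_eq_one, hj]
  rcases lt_or_ge j 2 with hlt | hge
  · interval_cases j <;> norm_num
  · exact absurd (((pow_dvd_pow 2 hge).trans (hj ▸ dvd_rfl)).trans hv2) h4

end Cfsg.Agent.S3301
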