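import Cfsg.Statements.S3303
import Mathlib
import Cfsg.Agent.Lib.Core.SolvableStruct
import Cfsg.Agent.Lib.Core.Cores

set_option autoImplicit false
open Cfsg

namespace Cfsg.Agent.S3303

--- PRE
open Subgroup

theorem core_bot_case {G : Type*} [Group G] [Finite G] [Group.IsSolvable G] (hO : Cfsg.pPrimeCore 2 G = ⊥)
    (hC : ∀ S T : Sylow 2 G, S ≠ T → IsCyclic ↥((S : Subgroup G) ⊓ (T : Subgroup G))) :
    Subsingleton (Sylow 2 G) := by
  classical
  haveI : Fact (Nat.Prime 2) := ⟨Nat.prime_two⟩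
  rw [← not_nontrivial_iff_subsingleton]
  intro hnt
  obtain ⟨S, T, hST⟩ := exists_pair_ne (Sylow 2 G)
  haveI := hC S T hST
  set F := Cfsg.pCore 2 G with hF
  haveI : F.Normal := CfsgLib.Core.normal_pCore 2 G
  have hle : F ≤ (S : Subgroup G) ⊓ T := le_inf (CfsgLib.Core.pCore_le_sylow S) (CfsgLib.Core.pCore_le_sylow T)
  haveI : IsCyclic F := isCyclic_of_injective (Subgroup.inclusion hle) (Subgroup.inclusion_injective hle)
  have hcF : centralizer (F : Set G) ≤ F := CfsgLib.Core.centralizer_pCore_le_of_pPrimeCore_eq_bot hO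
  obtain ⟨k, hk⟩ := IsPGroup.iff_card.1 (CfsgLib.Core.isPGroup_pCore 2 G : IsPGroup 2 F)
  set f : G →* MulAut F := MulAut.conjNormal
  have hker : f.ker ≤ F := by
    intro g hg
    refine hcF (mem_centralizer_iff.2 fun x hx => ?_)
    have h1 : f g ⟨x, hx⟩ = ⟨x, hx⟩ := by rw [MonoidHom.mem_ker.1 hg]; rfl
    have h2 := congrArg Subtype.val h1
    simp only [f, MulAut.conjNormal_apply] at h2
    exact (mul_inv_eq_iff_eq_mul.1 h2).symm
  have hrange : ∃ j, Nat.card f.range ∣ 2 ^ j := by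
    refine ⟨k - 1, (Subgroup.card_subgroup_dvd_card _).trans (dvd_of_eq ?_)⟩
    rw [Nat.card_congr (IsCyclic.mulAutMulEquiv F).toEquiv, hk, Nat.card_eq_fintype_card,
      ZMod.card_units_eq_totient]
    rcases k with _ | k
    · simp
    · rw [Nat.totient_prime_pow_succ Nat.prime_two]; simp
  obtain ⟨j, hj⟩ := hrange
  have hG : IsPGroup 2 G := by
    have h1 := f.ker.card_mul_index
    rw [Subgroup.index_ker] at h1
    have h2 : Nat.card G ∣ 2 ^ (k + j) := by
      rw [← h1, pow_add, ← hk]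
      exact Nat.mul_dvd_mul (Subgroup.card_dvd_of_le hker) hj
    obtain ⟨i, -, hi⟩ := (Nat.dvd_prime_pow Nat.prime_two).1 h2
    exact IsPGroup.of_card hi
  have htop : ∀ P : Sylow 2 G, (P : Subgroup G) = ⊤ := fun P =>
    (P.is_maximal' (hG.to_subgroup ⊤) le_top).symm
  exact hST (Sylow.ext ((htop S).trans (htop T).symm))

/-- Let G be a finite solvable group in which the intersection of any two distinct Sylow 2-subgroups is cyclic. Then G/O(G) has a normal Sylow 2-subgroup, where O(G) is the largest normal subgroup of odd order. -/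
theorem result {G : Type*} [Group G] [Finite G] (hs : Group.IsSolvable G)
    (hC : ∀ S T : Sylow 2 G, S ≠ T → IsCyclic ↥((S : Subgroup G) ⊓ (T : Subgroup G))) :
    ∃ P : Sylow 2 (G ⧸ Cfsg.oddCore G), (P : Subgroup (G ⧸ Cfsg.oddCore G)).Normal := by
  classical
  haveI : Fact (Nat.Prime 2) := ⟨Nat.prime_two⟩
  haveI := hs
  set O := Cfsg.oddCore G with hO
  haveI : O.Normal := CfsgLib.Core.normal_pPrimeCore 2 G
  set π := QuotientGroup.mk' O with hπ
  have hsurj : Function.Surjective π := QuotientGroup.mk'_surjective O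
  have hmain : ∀ P Q : Sylow 2 (G ⧸ O), P ≠ Q → IsCyclic ↥((P : Subgroup (G ⧸ O)) ⊓ Q) := by
    intro P Q hPQ
    set K := ((P : Subgroup (G ⧸ O)) ⊓ Q).comap π with hK
    obtain ⟨U⟩ := (inferInstance : Nonempty (Sylow 2 K))
    set U' : Subgroup G := (U : Subgroup K).map K.subtype with hU'
    have hUp : IsPGroup 2 U' := U.isPGroup'.map _
    have hlift : ∀ R : Sylow 2 (G ⧸ O), U'.map π ≤ (R : Subgroup (G ⧸ O)) →
        ∃ S : Sylow 2 G, U' ≤ S ∧ (S : Subgroup G).map π = R := by
      intro R hR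
      set M := (R : Subgroup (G ⧸ O)).comap π with hM
      have hUM : U' ≤ M := Subgroup.map_le_iff_le_comap.1 hR
      obtain ⟨S0, hS0⟩ := (hUp.comap_of_injective M.subtype M.subtype_injective).exists_le_sylow
      obtain ⟨S, hS⟩ := (S0.isPGroup'.map M.subtype).exists_le_sylow
      refine ⟨S, le_trans ?_ hS, ?_⟩
      · intro x hx
        exact ⟨⟨x, hUM hx⟩, hS0 hx, rfl⟩
      · have hM2 : M.map π = R := Subgroup.map_comap_eq_self_of_surjective hsurj _
        have hR' : (R : Subgroup (G ⧸ O)) ≤ (S : Subgroup G).map π := by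
          set g : M →* (R : Subgroup (G ⧸ O)) := (π.comp M.subtype).codRestrict _ fun x => x.2 with hg
          have hgs : Function.Surjective g := fun r => by
            obtain ⟨x, hx⟩ := hsurj r.1
            exact ⟨⟨x, show π x ∈ (R : Subgroup (G ⧸ O)) from hx.symm ▸ r.2⟩, Subtype.ext hx⟩
          have hT := (S0.mapSurjective hgs).is_maximal' (R.isPGroup'.to_subgroup ⊤) le_top
          intro r hr
          have : (⟨r, hr⟩ : (R : Subgroup (G ⧸ O))) ∈ ((S0.mapSurjective hgs) : Subgroup (R : Subgroup (G ⧸ O))) := by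
            rw [← hT]; exact Subgroup.mem_top _
          rw [Sylow.coe_mapSurjective] at this
          obtain ⟨x, hx, hxr⟩ := this
          exact ⟨x, hS ⟨x, hx, rfl⟩, congrArg Subtype.val hxr⟩
        exact R.is_maximal' (S.isPGroup'.map π) hR'
    have hle : U'.map π ≤ (P : Subgroup (G ⧸ O)) ⊓ Q := by
      rintro _ ⟨x, ⟨u, -, rfl⟩, rfl⟩
      exact u.2
    obtain ⟨S, hSU, hSP⟩ := hlift P (hle.trans inf_le_left)
    obtain ⟨T, hTU, hTQ⟩ := hlift Q (hle.trans inf_le_right)
    have hne : S ≠ T := fun e => hPQ (Sylow.ext (by rw [← hSP, e, hTQ]))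
    haveI := hC S T hne
    haveI : IsCyclic U' := isCyclic_of_injective (Subgroup.inclusion (le_inf hSU hTU)) (Subgroup.inclusion_injective _)
    -- `U` covers the intersection
    set X := (P : Subgroup (G ⧸ O)) ⊓ Q with hX
    set g : K →* X := (π.comp K.subtype).codRestrict _ fun x => x.2 with hg
    have hgs : Function.Surjective g := fun r => by
      obtain ⟨x, hx⟩ := hsurj r.1
      exact ⟨⟨x, show π x ∈ X from hx.symm ▸ r.2⟩, Subtype.ext hx⟩
    have hT := (U.mapSurjective hgs).is_maximal' ((P.isPGroup'.to_le inf_le_left).to_subgroup ⊤) le_top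
    refine isCyclic_of_surjective
      ((π.comp U'.subtype).codRestrict X fun u => hle ⟨u, u.2, rfl⟩) fun r => ?_
    have : r ∈ ((U.mapSurjective hgs) : Subgroup X) := by rw [← hT]; exact Subgroup.mem_top _
    rw [Sylow.coe_mapSurjective] at this
    obtain ⟨x, hx, hxr⟩ := this
    exact ⟨⟨x, ⟨x, hx, rfl⟩⟩, Subtype.ext (congrArg Subtype.val hxr)⟩
  haveI := core_bot_case (G := G ⧸ O) (CfsgLib.Core.pPrimeCore_quotient_pPrimeCore 2 G) hmain
  obtain ⟨P⟩ := (inferInstance : Nonempty (Sylow 2 (G ⧸ O)))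
  exact ⟨P, P.normal_of_subsingleton⟩

end Cfsg.Agent.S3303
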