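import Cfsg.Statements.S3306
import Cfsg.Agent.Lib.Invol.CyclicInter.Central
import Cfsg.Agent.Lib.OddLocal.Final.OddOrder
-- import your own Cfsg.Agent.* helpers here

set_option autoImplicit false
open Cfsg

namespace Cfsg.Agent.S3306

/-- Let G be a finite nonsolvable group in which any two distinct Sylow 2-subgroups intersect in a cyclic group, and let N be a solvable normal subgroup of G. Then the image of N in G/O(G) is a cyclic 2-group contained in the centre of G/O(G) (O(G) the largest normal subgroup of odd order). In other words the solvable radical of G is V·O(G) with V a cyclic 2-group central modulo O(G). -/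
theorem result {G : Type*} [Group G] [Finite G] (hns : ¬ Group.IsSolvable G)
    (hC : ∀ S T : Sylow 2 G, S ≠ T → IsCyclic ↥((S : Subgroup G) ⊓ (T : Subgroup G)))
    (N : Subgroup G) [N.Normal] (hN : Group.IsSolvable ↥N) :
    IsCyclic ↥(N.map (QuotientGroup.mk' (Cfsg.oddCore G))) ∧ IsPGroup 2 ↥(N.map (QuotientGroup.mk' (Cfsg.oddCore G))) ∧
      N.map (QuotientGroup.mk' (Cfsg.oddCore G)) ≤ Subgroup.center (G ⧸ Cfsg.oddCore G) := by
  haveI : Fact (Nat.Prime 2) := ⟨Nat.prime_two⟩
  set π := QuotientGroup.mk' (Cfsg.oddCore G) with hπ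
  have hsurj : Function.Surjective π := QuotientGroup.mk'_surjective _
  have hodd : Odd (Nat.card (Cfsg.oddCore G)) := CfsgLib.ZStar.odd_card_oddCore G
  haveI hOs := CfsgLib.OddLocal.FTFinal.odd_order_solvable hodd
  have hQns : ¬ Group.IsSolvable (G ⧸ Cfsg.oddCore G) := fun h => hns
    (Group.isSolvable_of_ker_le_range (Cfsg.oddCore G).subtype π (by simp [hπ]))
  have hinter : ∀ S T : Sylow 2 (G ⧸ Cfsg.oddCore G), S ≠ T →
      IsCyclic ↥((S : Subgroup (G ⧸ Cfsg.oddCore G)) ⊓ T) := by
    intro S' T' hne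
    obtain ⟨S, rfl⟩ := Sylow.mapSurjective_surjective hsurj 2 S'
    obtain ⟨T, rfl⟩ := Sylow.mapSurjective_surjective hsurj 2 T'
    -- lift the intersection into two Sylow subgroups
    set M : Subgroup G := ((T : Subgroup G).map π).comap π with hM
    set X : Subgroup G := (S : Subgroup G) ⊓ M with hX
    have hTM : (T : Subgroup G) ≤ M := Subgroup.le_comap_map _ _
    obtain ⟨U, hU⟩ := ((S.isPGroup'.to_le inf_le_left).comap_subtype (K := M) :
      IsPGroup 2 (X.subgroupOf M)).exists_le_sylow
    obtain ⟨V, hV⟩ := (U.isPGroup'.map M.subtype).exists_le_sylow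
    have hUeq : (U : Subgroup M).map M.subtype = V := by
      refine Subgroup.eq_of_le_of_card_ge hV ?_
      rw [Subgroup.card_map_of_injective M.subtype_injective, V.card_eq_multiplicity,
        ← T.card_eq_multiplicity, ← Nat.card_congr (Subgroup.subgroupOfEquivOfLe hTM).toEquiv]
      exact le_of_eq ((T.subtype hTM).card_eq_multiplicity.trans U.card_eq_multiplicity.symm)
    have hVM : (V : Subgroup G) ≤ M := hUeq ▸ Subgroup.map_subtype_le _
    have hSV : S ≠ V := fun e => hne (Sylow.ext (Subgroup.eq_of_le_of_card_ge (by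
      rw [Sylow.coe_mapSurjective, Sylow.coe_mapSurjective, e]
      exact Subgroup.map_le_iff_le_comap.mpr hVM)
      (by rw [(S.mapSurjective hsurj).card_eq_multiplicity, (T.mapSurjective hsurj).card_eq_multiplicity])))
    haveI := hC S V hSV
    have hXV : X ≤ V := by
      rw [← hUeq]
      intro x hx
      exact ⟨⟨x, hx.2⟩, hU hx, rfl⟩
    haveI : IsCyclic X := isCyclic_of_injective (Subgroup.inclusion (le_inf inf_le_left hXV))
      (Subgroup.inclusion_injective _)
    have heq : ((S.mapSurjective hsurj : Sylow 2 _) : Subgroup (G ⧸ Cfsg.oddCore G)) ⊓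
        (T.mapSurjective hsurj : Sylow 2 _) = X.map π := by
      rw [Sylow.coe_mapSurjective, Sylow.coe_mapSurjective]
      refine le_antisymm (fun y hy => ?_) (fun y hy => ?_)
      · obtain ⟨s, hs, rfl⟩ := hy.1
        exact ⟨s, ⟨hs, hy.2⟩, rfl⟩
      · obtain ⟨x, hx, rfl⟩ := hy
        exact ⟨⟨x, hx.1, rfl⟩, hx.2⟩
    rw [heq]
    exact isCyclic_of_surjective (π.subgroupMap X) (π.subgroupMap_surjective X)
  haveI : (N.map π).Normal := Subgroup.Normal.map inferInstance π hsurj
  exact CfsgLib.CyclicInter.radical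
    ⟨fun X _ _ h => CfsgLib.OddLocal.FTFinal.odd_order_solvable h, hQns,
      CfsgLib.Core.pPrimeCore_quotient_pPrimeCore 2 G, hinter⟩ (N.map π)
    (Group.isSolvable_of_surjective (π.subgroupMap_surjective N))

end Cfsg.Agent.S3306
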