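import Cfsg.Statements.S3315
import Cfsg.Agent.Lib.Classical.HeisenbergInvolution

set_option autoImplicit false
open Cfsg

namespace Cfsg.Agent.S3315

/-- Let S be a Sylow 2-subgroup of SU₃(2ⁿ), n ≥ 2 (realised over the field with 4ⁿ elements). If a finite 2-group R contains a subgroup S' of index 2 isomorphic to S, then the centre of S' is contained in the centre of R. -/
theorem result {R : Type*} [Group R] [Finite R]
    (hR : IsPGroup 2 R) (n : ℕ) (hn : 2 ≤ n) {F : Type*} [Field F] [Fintype F] (hF : Fintype.card F = 4 ^ n)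
    (P : Sylow 2 ↥(Cfsg.SU 3 F (2 ^ n))) (S' : Subgroup R) (hS : Nonempty (↥S' ≃* ↥(P : Subgroup ↥(Cfsg.SU 3 F (2 ^ n)))))
    (hidx : S'.index = 2) :
    (Subgroup.center ↥S').map S'.subtype ≤ Subgroup.center R := by
  have : Fact (Nat.Prime 2) := ⟨Nat.prime_two⟩
  have hF' : Fintype.card F = (2 ^ n) ^ 2 := by
    rw [hF, ← pow_mul, mul_comm, pow_mul]
    norm_num
  haveI : CharP F 2 := by
    obtain ⟨p, hp⟩ := CharP.exists F
    obtain ⟨m, hp', hm⟩ := FiniteField.card F p
    have h2 : p ∣ 2 ^ (2 * n) := by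
      rw [pow_mul, show (2 : ℕ) ^ 2 = 4 by norm_num, ← hF, hm]
      exact dvd_pow_self p m.pos.ne'
    exact (Nat.prime_dvd_prime_iff_eq hp' Nat.prime_two).1 (hp'.dvd_of_dvd_pow h2) ▸ hp
  set φ := CfsgLib.Classical.Herm.suEquiv 3 hF'
  let P' := P.mapSurjective (f := φ.toMonoidHom) φ.surjective
  obtain ⟨H⟩ := CfsgLib.Classical.HeisInv.exists_heis (CfsgLib.Classical.Herm.hermStd_isHerm hF')
    CfsgLib.Classical.Herm.finrank_std P'
  obtain ⟨e₀⟩ := hS
  let e : ↥S' ≃* ↥(P' : Subgroup ↥(CfsgLib.Classical.Herm.HSU (CfsgLib.Classical.Herm.hermStd 3 hF'))) :=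
    e₀.trans (φ.subgroupMap (P : Subgroup ↥(Cfsg.SU 3 F (2 ^ n))))
  haveI hSn : S'.Normal := Subgroup.normal_of_index_eq_two hidx
  rintro _ ⟨z, hz, rfl⟩
  refine Subgroup.mem_center_iff.2 fun x => ?_
  let α := (e.symm.trans (MulAut.conjNormal x : MulAut S')).trans e
  have hsq : x * x ∈ S' := Subgroup.mul_self_mem_of_index_two hidx x
  have key := H.fix_center (CfsgLib.Classical.Herm.powHom_isInvol hF') α (c := e ⟨x * x, hsq⟩)
    (fun y => by
      obtain ⟨y, rfl⟩ := e.surjective y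
      show e (MulAut.conjNormal x (e.symm (e (MulAut.conjNormal x (e.symm (e y)))))) = _
      rw [MulEquiv.symm_apply_apply, MulEquiv.symm_apply_apply]
      rw [← map_inv, ← map_mul, ← map_mul]
      congr 1
      refine Subtype.ext ?_
      simp only [MulAut.conjNormal_apply, Subgroup.coe_mul, Subgroup.coe_inv]
      group)
    (z := e z) (Subgroup.mem_center_iff.2 fun y => by
      obtain ⟨y, rfl⟩ := e.surjective y
      rw [← map_mul, ← map_mul, Subgroup.mem_center_iff.1 hz y])
  change e (MulAut.conjNormal x (e.symm (e z))) = e z at key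
  rw [MulEquiv.symm_apply_apply] at key
  have h1 := congrArg Subtype.val (e.injective key)
  rw [MulAut.conjNormal_apply] at h1
  exact mul_inv_eq_iff_eq_mul.1 h1

end Cfsg.Agent.S3315
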