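import Cfsg.Statements.S3349
import Mathlib
import Cfsg.Agent.Lib.PGroups.Extraspecial

set_option autoImplicit false
open Cfsg

namespace Cfsg.Agent.S3349

/-- Let Q be a finite extraspecial p-group and α an automorphism of Q fixing every element of some maximal abelian subgroup of Q. Then the order of α is a power of p. -/
theorem result {Q : Type*} [Group Q] [Finite Q]
    (p : ℕ) [Fact p.Prime] (hQ : Cfsg.IsExtraspecial p Q) (α : MulAut Q)
    (A : Subgroup Q) (hA : IsMulCommutative A) (hmax : ∀ B : Subgroup Q, A ≤ B → IsMulCommutative B → B = A)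
    (hfix : ∀ a ∈ A, α a = a) :
    ∃ k : ℕ, orderOf α = p ^ k := by
  classical
  haveI := hA
  have hab : ∀ a ∈ A, ∀ b ∈ A, a * b = b * a := fun a ha b hb =>
    congrArg Subtype.val (hA.is_comm.comm (⟨a, ha⟩ : A) ⟨b, hb⟩)
  have hC : ∀ c : Q, (∀ a ∈ A, a * c = c * a) → c ∈ A := by
    intro c hc
    have hB : IsMulCommutative ↥(A ⊔ Subgroup.zpowers c) := by
      rw [Subgroup.zpowers_eq_closure, ← Subgroup.closure_eq A, ← Subgroup.closure_union]
      refine Subgroup.isMulCommutative_closure ?_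
      rintro a (ha | ha) b (hb | hb)
      · exact hab a ha b hb
      · rw [Set.mem_singleton_iff] at hb; subst hb; exact hc a ha
      · rw [Set.mem_singleton_iff] at ha; subst ha; exact (hc b hb).symm
      · rw [Set.mem_singleton_iff] at ha hb; subst ha; subst hb; rfl
    have := hmax _ le_sup_left hB
    rw [← this]
    exact le_sup_right (b := Subgroup.zpowers c) (a := A) (Subgroup.mem_zpowers c)
  have hn : ∀ q : Q, ∀ a ∈ A, q * a * q⁻¹ ∈ A := by
    intro q a ha
    have hz : Subgroup.center Q ≤ A := fun c hc => hC c fun a _ => Subgroup.mem_center_iff.mp hc a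
    have := hz (CfsgLib.PGroups.IsExtraspecial.comm_mem hQ q a)
    have h2 := A.mul_mem this ha
    simpa [commutatorElement_def, mul_assoc] using h2
  have hmem : ∀ q : Q, q⁻¹ * α q ∈ A := by
    intro q
    refine hC _ fun a ha => ?_
    have h1 := hfix _ (hn q a ha)
    rw [map_mul, map_mul, map_inv, hfix a ha] at h1
    calc a * (q⁻¹ * α q) = q⁻¹ * (q * a * q⁻¹) * α q := by simp [mul_assoc]
      _ = q⁻¹ * (α q * a * (α q)⁻¹) * α q := by rw [h1]
      _ = q⁻¹ * α q * a := by simp [mul_assoc]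
  have hpow : ∀ (k : ℕ) (q : Q), (α ^ k) q = q * (q⁻¹ * α q) ^ k := by
    intro k q
    induction k with
    | zero => simp
    | succ k ih =>
      rw [pow_succ', MulAut.mul_apply, ih, map_mul, map_pow, hfix _ (hmem q), pow_succ', ← mul_assoc,
        mul_inv_cancel_left]
  obtain ⟨j, hj⟩ := (hQ.1.1.to_subgroup A).exists_card_eq
  have : α ^ (p ^ j) = 1 := by
    refine MulEquiv.ext fun q => ?_
    have h1 : (⟨_, hmem q⟩ : A) ^ Nat.card A = 1 := pow_card_eq_one'
    have h2 : (q⁻¹ * α q) ^ Nat.card A = 1 := congrArg Subtype.val h1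
    rw [hpow, ← hj, h2, mul_one]
    rfl
  obtain ⟨k, -, hk⟩ := (Nat.dvd_prime_pow Fact.out).mp (orderOf_dvd_of_pow_eq_one this)
  exact ⟨k, hk⟩

end Cfsg.Agent.S3349
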