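import Cfsg.Statements.S3356
import Mathlib

set_option autoImplicit false
set_option maxHeartbeats 1600000
open Cfsg

namespace Cfsg.Agent.S3356

/-- Let G be a finite 3/2-transitive permutation group: G acts faithfully and transitively on a finite set, the point stabilizers are non-trivial, and for each point a all orbits of G_a on the remaining points have the same size. Suppose G has a regular normal subgroup N and G is not a Frobenius group (some two-point stabilizer is non-trivial). Then N is an elementary abelian p-group for some prime p, and every non-trivial normal subgroup of G contains N (so N is the unique minimal normal subgroup). -/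
theorem result {G Ω : Type*} [Group G] [Finite G]
    [MulAction G Ω] [FaithfulSMul G Ω] [Finite Ω] (htrans : MulAction.IsPretransitive G Ω)
    (hne : ∀ a : Ω, MulAction.stabilizer G a ≠ ⊥)
    (hhalf : ∀ a b c : Ω, b ≠ a → c ≠ a →
      Nat.card (MulAction.orbit (MulAction.stabilizer G a) b) = Nat.card (MulAction.orbit (MulAction.stabilizer G a) c))
    (N : Subgroup G) [hN : N.Normal] (hNt : MulAction.IsPretransitive N Ω) (hNr : ∀ a : Ω, MulAction.stabilizer N a = ⊥)
    (hnotF : ∃ a b : Ω, a ≠ b ∧ MulAction.stabilizer G a ⊓ MulAction.stabilizer G b ≠ ⊥) :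
    (∃ p : ℕ, p.Prime ∧ IsMulCommutative N ∧ ∀ x ∈ N, x ^ p = 1) ∧
    (∀ M : Subgroup G, M.Normal → M ≠ ⊥ → N ≤ M) := by
  classical
  obtain ⟨a₀, b₀, hab₀, hne₀⟩ := hnotF
  let H := MulAction.stabilizer G a₀
  have hreg : ∀ n ∈ N, n • a₀ = a₀ → n = 1 := fun n hn h => by
    have : (⟨n, hn⟩ : N) ∈ MulAction.stabilizer N a₀ := h
    rw [hNr, Subgroup.mem_bot] at this
    exact congrArg Subtype.val this
  have hconjN : ∀ (g : G), ∀ n ∈ N, g * n * g⁻¹ ∈ N := fun g n hn => hN.conj_mem n hn g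
  -- conjugation action of subgroups of `H` on elements of `N`
  let C : G → Subgroup G := fun n => H ⊓ Subgroup.centralizer ({n} : Set G)
  have hC : ∀ n g, g ∈ C n ↔ g ∈ H ∧ g * n * g⁻¹ = n := fun n g => by
    simp only [C, Subgroup.mem_inf, Subgroup.mem_centralizer_singleton_iff, mul_inv_eq_iff_eq_mul]
  have hCstab : ∀ n ∈ N, C n = MulAction.stabilizer G a₀ ⊓ MulAction.stabilizer G (n • a₀) := by
    intro n hn
    ext g
    rw [hC, Subgroup.mem_inf]
    refine and_congr_right fun hg => ?_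
    have hga : g • a₀ = a₀ := hg
    have hginv : g⁻¹ • a₀ = a₀ := inv_smul_eq_iff.2 hga.symm
    have hkey : (g * n * g⁻¹) • a₀ = g • n • a₀ := by rw [mul_smul, mul_smul, hginv]
    constructor
    · intro h
      show g • n • a₀ = n • a₀
      rw [← hkey, h]
    · intro h
      have h' : g • n • a₀ = n • a₀ := h
      have := hreg (n⁻¹ * (g * n * g⁻¹)) (N.mul_mem (N.inv_mem hn) (hconjN g n hn))
        (by rw [mul_smul, hkey, h', inv_smul_smul])
      exact (inv_mul_eq_one.1 this).symm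
  obtain ⟨n₀, hn₀N, hn₀⟩ : ∃ n ∈ N, n • a₀ = b₀ := by
    obtain ⟨⟨n, hn⟩, h⟩ := hNt.exists_smul_eq a₀ b₀
    exact ⟨n, hn, h⟩
  have hn₀1 : n₀ ≠ 1 := fun h => hab₀ (by rw [← hn₀, h, one_smul])
  obtain ⟨s, hs⟩ : ∃ s, s = Nat.card (C n₀) := ⟨_, rfl⟩
  obtain ⟨k, hk⟩ : ∃ k, k = Nat.card (MulAction.orbit H b₀) := ⟨_, rfl⟩
  have hcard : ∀ n ∈ N, n ≠ 1 → Nat.card (C n) = s ∧ k * s = Nat.card H := by
    have e : ∀ n ∈ N, n ≠ 1 → k * Nat.card (C n) = Nat.card H := by
      intro n hn hn1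
      rw [hk, hhalf a₀ b₀ (n • a₀) (Ne.symm hab₀) (fun h => hn1 (hreg n hn h)), hCstab n hn,
        Nat.card_congr (MulAction.orbitEquivQuotientStabilizer H (n • a₀)),
        Subgroup.card_eq_card_quotient_mul_card_subgroup (MulAction.stabilizer H (n • a₀))]
      congr 1
      refine Nat.card_congr ⟨fun g => ⟨⟨g.1, g.2.1⟩, g.2.2⟩, fun g => ⟨g.1.1, g.1.2, g.2⟩, fun g => rfl, fun g => rfl⟩
    intro n hn hn1
    have h0 := e n₀ hn₀N hn₀1
    rw [← hs] at h0
    have h1 := e n hn hn1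
    refine ⟨?_, h0⟩
    have hkpos : 0 < k := Nat.pos_of_ne_zero fun hz => by
      rw [hz, zero_mul] at h0; exact Nat.card_pos.ne h0
    exact Nat.eq_of_mul_eq_mul_left hkpos (h1.trans h0.symm)
  have hs1 : 1 < s := by
    rw [hs, hCstab n₀ hn₀N, hn₀]
    exact Finite.one_lt_card_iff_nontrivial.2 ((Subgroup.nontrivial_iff_ne_bot _).2 hne₀)
  -- the basic counting lemma
  have count : ∀ Y : Set G, (∀ y ∈ Y, y ∈ N ∧ y ≠ 1) → Y.Nonempty →
      (∀ y ∈ Y, ∀ g ∈ C y, ∀ z ∈ Y, g * z * g⁻¹ ∈ Y) →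
      ∃ e, e ∣ k ∧ e ∣ Nat.card Y ∧ ((∀ g ∈ H, ∀ z ∈ Y, g * z * g⁻¹ ∈ Y) → e = k) ∧
        (e = 1 → ∀ y ∈ Y, ∀ z ∈ Y, C y = C z) := by
    intro Y hY hYne hst
    obtain ⟨y₀, hy₀⟩ := hYne
    let H0 : Subgroup G :=
      { carrier := {g | g ∈ H ∧ (fun y => g * y * g⁻¹) '' Y = Y}
        one_mem' := ⟨H.one_mem, by simp⟩
        mul_mem' := fun {a b} ha hb => ⟨H.mul_mem ha.1 hb.1, by
          conv_rhs => rw [← ha.2, ← hb.2, Set.image_image]
          exact Set.image_congr' fun y => by group⟩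
        inv_mem' := fun {a} ha => ⟨H.inv_mem ha.1, by
          conv_lhs => rw [← ha.2, Set.image_image]
          refine (Set.image_congr' fun y => ?_).trans (Set.image_id Y)
          show a⁻¹ * (a * y * a⁻¹) * a⁻¹⁻¹ = id y
          group; rfl⟩ }
    letI : MulAction H0 Y :=
      { smul := fun g y => ⟨(g : G) * y * (g : G)⁻¹, (g.2.2).le ⟨y, y.2, rfl⟩⟩
        one_smul := fun y => Subtype.ext (by show ((1 : H0) : G) * y * ((1 : H0) : G)⁻¹ = y; simp)
        mul_smul := fun g h y => Subtype.ext (by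
          show ((g * h : H0) : G) * y * ((g * h : H0) : G)⁻¹ = (g : G) * ((h : G) * y * (h : G)⁻¹) * (g : G)⁻¹
          rw [Subgroup.coe_mul]; group) }
    have hmemH0 : ∀ g ∈ H, (∀ z ∈ Y, g * z * g⁻¹ ∈ Y) → (∀ z ∈ Y, g⁻¹ * z * g⁻¹⁻¹ ∈ Y) → g ∈ H0 := by
      intro g hg h1 h2
      refine ⟨hg, Set.Subset.antisymm (by rintro _ ⟨y, hy, rfl⟩; exact h1 y hy) fun y hy => ?_⟩
      exact ⟨g⁻¹ * y * g⁻¹⁻¹, h2 y hy, by group⟩
    have hCH0 : ∀ y ∈ Y, C y ≤ H0 := fun y hy g hg =>
      hmemH0 g ((hC _ _).1 hg).1 (hst y hy g hg) (hst y hy g⁻¹ ((C y).inv_mem hg))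
    have hstab : ∀ y : Y, (MulAction.stabilizer H0 y).map H0.subtype = C y := by
      intro y
      ext g
      constructor
      · rintro ⟨g, hg, rfl⟩
        exact (hC _ _).2 ⟨g.2.1, congrArg Subtype.val (MulAction.mem_stabilizer_iff.1 hg)⟩
      · intro hg
        exact ⟨⟨g, hCH0 y y.2 hg⟩, Subtype.ext ((hC _ _).1 hg).2, rfl⟩
    have horb : ∀ y : Y, Nat.card (MulAction.orbit H0 y) * s = Nat.card H0 := by
      intro y
      rw [Nat.card_congr (MulAction.orbitEquivQuotientStabilizer H0 y),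
        Subgroup.card_eq_card_quotient_mul_card_subgroup (MulAction.stabilizer H0 y),
        ← Subgroup.card_map_of_injective H0.subtype_injective (K := MulAction.stabilizer H0 y), hstab y,
        (hcard y (hY _ y.2).1 (hY _ y.2).2).1]
    refine ⟨Nat.card (MulAction.orbit H0 (⟨y₀, hy₀⟩ : Y)), ?_, ?_, ?_, ?_⟩
    · have h := Subgroup.card_dvd_of_le (show H0 ≤ H from fun g hg => hg.1)
      rw [← horb ⟨y₀, hy₀⟩, ← (hcard y₀ (hY _ hy₀).1 (hY _ hy₀).2).2] at h
      exact Nat.dvd_of_mul_dvd_mul_right (by omega) h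
    · haveI : Fintype (MulAction.orbitRel.Quotient H0 Y) := Fintype.ofFinite _
      rw [Nat.card_congr (MulAction.selfEquivSigmaOrbits H0 Y), Nat.card_sigma]
      exact Finset.dvd_sum fun ω _ => (Nat.eq_of_mul_eq_mul_right (by omega) ((horb ⟨y₀, hy₀⟩).trans (horb _).symm)).dvd
    · intro hall
      have : H0 = H := le_antisymm (fun g hg => hg.1) fun g hg =>
        hmemH0 g hg (hall g hg) (hall g⁻¹ (H.inv_mem hg))
      have h := horb ⟨y₀, hy₀⟩
      rw [show Nat.card H0 = k * s by rw [this, (hcard y₀ (hY _ hy₀).1 (hY _ hy₀).2).2]] at h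
      exact Nat.eq_of_mul_eq_mul_right (by omega) h
    · intro he y hy z hz
      have heq : ∀ w (hw : w ∈ Y), C w = H0 := fun w hw =>
        Subgroup.eq_of_le_of_card_ge (hCH0 w hw) (by
          rw [← horb ⟨y₀, hy₀⟩, he, one_mul, (hcard w (hY _ hw).1 (hY _ hw).2).1])
      rw [heq y hy, heq z hz]
  obtain ⟨hkN⟩ : Nonempty (k ∣ Nat.card N - 1) := by
    obtain ⟨e, -, he2, he3, -⟩ := count ((N : Set G) \ {1}) (fun y hy => ⟨hy.1, hy.2⟩) ⟨n₀, hn₀N, hn₀1⟩
      (fun y _ g _ z hz => ⟨hconjN g z hz.1, fun h => hz.2 (conj_eq_one_iff.1 h)⟩)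
    rw [he3 fun g _ z hz => ⟨hconjN g z hz.1, fun h => hz.2 (conj_eq_one_iff.1 h)⟩] at he2
    rw [Nat.card_coe_set_eq, Set.ncard_sdiff_singleton_of_mem N.one_mem, ← Nat.card_coe_set_eq] at he2
    exact ⟨he2⟩
  have hcop : ∀ e, e ∣ k → e ∣ Nat.card N → e = 1 := fun e h1 h2 => by
    have := Nat.dvd_sub h2 (h1.trans hkN)
    rw [Nat.sub_sub_self Nat.card_pos] at this
    exact Nat.dvd_one.1 this
  -- no `C n` centralises all of `N`
  have hfinal : ∀ n ∈ N, n ≠ 1 → ¬ ∀ g ∈ C n, ∀ z ∈ N, g * z * g⁻¹ = z := by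
    intro n hn hn1 hall
    have hbot : C n = ⊥ := (Subgroup.eq_bot_iff_forall _).2 fun g hg => by
      refine eq_of_smul_eq_smul fun w : Ω => ?_
      obtain ⟨⟨z, hz⟩, rfl⟩ := hNt.exists_smul_eq a₀ w
      show g • z • a₀ = (1 : G) • z • a₀
      have hga : g • a₀ = a₀ := ((hC _ _).1 hg).1
      rw [one_smul, ← mul_smul, mul_inv_eq_iff_eq_mul.1 (hall g hg z hz), mul_smul, hga]
    have h := (hcard n hn hn1).1
    rw [hbot, Subgroup.card_bot] at h
    omega
  -- `C y` centralises the conjugates of `y` under `N`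
  have hclass : ∀ y ∈ N, y ≠ 1 → ∀ n ∈ N, C y = C (n * y * n⁻¹) := by
    intro y hy hy1 n hn
    let y' : N := ⟨y, hy⟩
    let Y : Set G := (fun z : N => (z : G)) '' MulAction.orbit (ConjAct N) y'
    have hYmem : ∀ z ∈ Y, ∃ m ∈ N, z = m * y * m⁻¹ := by
      rintro _ ⟨_, ⟨m, rfl⟩, rfl⟩
      exact ⟨((ConjAct.ofConjAct m : N) : G), (ConjAct.ofConjAct m).2, rfl⟩
    have hmemY : ∀ m ∈ N, m * y * m⁻¹ ∈ Y := fun m hm =>
      ⟨_, ⟨ConjAct.toConjAct (⟨m, hm⟩ : N), rfl⟩, rfl⟩
    obtain ⟨e, he1, he2, -, he4⟩ := count Y (fun z hz => by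
        obtain ⟨m, hm, rfl⟩ := hYmem z hz
        exact ⟨hconjN m y hy, fun h => hy1 (conj_eq_one_iff.1 h)⟩)
      ⟨_, hmemY 1 N.one_mem⟩ (fun z hz g hg w hw => by
        obtain ⟨m, hm, rfl⟩ := hYmem z hz
        obtain ⟨m', hm', rfl⟩ := hYmem w hw
        have h := ((hC _ _).1 hg).2
        have h2 : g * y * g⁻¹ = (g * m * g⁻¹)⁻¹ * m * y * m⁻¹ * (g * m * g⁻¹) := by
          calc g * y * g⁻¹ = (g * m * g⁻¹)⁻¹ * (g * (m * y * m⁻¹) * g⁻¹) * (g * m * g⁻¹) := by group
            _ = _ := by rw [h]; group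
        have h3 : g * (m' * y * m'⁻¹) * g⁻¹ =
            ((g * m' * g⁻¹) * (g * m * g⁻¹)⁻¹ * m) * y * ((g * m' * g⁻¹) * (g * m * g⁻¹)⁻¹ * m)⁻¹ := by
          calc g * (m' * y * m'⁻¹) * g⁻¹ = (g * m' * g⁻¹) * (g * y * g⁻¹) * (g * m' * g⁻¹)⁻¹ := by group
            _ = _ := by rw [h2]; group
        rw [h3]
        exact hmemY _ (N.mul_mem (N.mul_mem (hconjN g m' hm') (N.inv_mem (hconjN g m hm))) hm))
    have hdvd : Nat.card Y ∣ Nat.card N := by
      rw [Nat.card_image_of_injective Subtype.val_injective,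
        Nat.card_congr (MulAction.orbitEquivQuotientStabilizer (ConjAct N) y')]
      exact (Subgroup.card_quotient_dvd_card _).trans (by rw [show Nat.card (ConjAct N) = Nat.card N from rfl])
    have := he4 (hcop e he1 (he2.trans hdvd)) (1 * y * 1⁻¹) (hmemY 1 N.one_mem) _ (hmemY n hn)
    rwa [inv_one, mul_one, one_mul] at this
  -- the only invariant subgroups of `N` are trivial
  have hinv : ∀ M : Subgroup G, M ≤ N → (∀ g ∈ H, ∀ m ∈ M, g * m * g⁻¹ ∈ M) → M = ⊥ ∨ M = N := by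
    intro M hMN hM
    by_contra hcon
    push Not at hcon
    obtain ⟨x, hxM, hx1⟩ := (Subgroup.bot_or_exists_ne_one M).resolve_left hcon.1
    obtain ⟨y, hyN, hyM⟩ := SetLike.not_le_iff_exists.1 fun h => hcon.2 (le_antisymm hMN h)
    have key : ∀ y ∈ N, y ∉ M → ∀ m ∈ M, m ≠ 1 → C y = C m := by
      intro y hy hyM m hm hm1
      have hy1 : y ≠ 1 := fun h => hyM (h ▸ M.one_mem)
      let Y : Set G := (fun z : M => (z : G) * y) '' Set.univ
      obtain ⟨e, he1, he2, -, he4⟩ := count Y (by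
          rintro _ ⟨z, -, rfl⟩
          refine ⟨N.mul_mem (hMN z.2) hy, fun h => hyM ?_⟩
          rw [eq_inv_of_mul_eq_one_right (show (z : G) * y = 1 from h)]; exact M.inv_mem z.2)
        ⟨_, 1, trivial, rfl⟩ (by
          rintro _ ⟨z, -, rfl⟩ g hg _ ⟨w, -, rfl⟩
          obtain ⟨hgH, h⟩ := (hC _ _).1 hg
          refine ⟨⟨(g * w * g⁻¹) * (g * z * g⁻¹)⁻¹ * z, M.mul_mem (M.mul_mem (hM g hgH w w.2) (M.inv_mem (hM g hgH z z.2))) z.2⟩, trivial, ?_⟩
          show (g * w * g⁻¹) * (g * z * g⁻¹)⁻¹ * z * y = g * (w * y) * g⁻¹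
          calc (g * w * g⁻¹) * (g * z * g⁻¹)⁻¹ * z * y = (g * w * g⁻¹) * (g * z * g⁻¹)⁻¹ * (g * (z * y) * g⁻¹) := by
                rw [h]; group
            _ = _ := by group)
      have hdvd : Nat.card Y ∣ Nat.card N := by
        rw [Nat.card_image_of_injective (fun a b h => Subtype.ext (mul_right_cancel h)), Nat.card_coe_set_eq,
          Set.ncard_univ]
        exact Subgroup.card_dvd_of_le hMN
      have heq : C ((1 : G) * y) = C (m * y) := he4 (hcop e he1 (he2.trans hdvd)) _ ⟨1, trivial, rfl⟩ _ ⟨⟨m, hm⟩, trivial, rfl⟩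
      rw [one_mul] at heq
      refine Subgroup.eq_of_le_of_card_ge (fun g hg => ?_) (by
        rw [(hcard m (hMN hm) hm1).1, (hcard y hy hy1).1])
      have h1 := ((hC _ _).1 hg).2
      have h2 := ((hC _ _).1 (heq ▸ hg : g ∈ C (m * y))).2
      refine (hC _ _).2 ⟨((hC _ _).1 hg).1, ?_⟩
      calc g * m * g⁻¹ = (g * (m * y) * g⁻¹) * (g * y * g⁻¹)⁻¹ := by group
        _ = m := by rw [h1, h2, mul_inv_cancel_right]
    refine hfinal y hyN (fun h => hyM (h ▸ M.one_mem)) fun g hg z hz => ?_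
    by_cases hz1 : z = 1
    · rw [hz1, mul_one, mul_inv_cancel]
    have : C y = C z := by
      by_cases hzM : z ∈ M
      · exact key y hyN hyM z hzM hz1
      · exact (key y hyN hyM x hxM hx1).trans (key z hz hzM x hxM hx1).symm
    exact ((hC _ _).1 (this ▸ hg : g ∈ C z)).2
  have hN1 : N ≠ ⊥ := fun h => hn₀1 ((Subgroup.eq_bot_iff_forall N).1 h n₀ hn₀N)
  -- `N` is abelian
  have hNc : IsMulCommutative N := by
    by_contra hnc
    obtain ⟨T, ⟨hT1, hTN, hTn⟩, hTmin⟩ :=
      ({T : Subgroup G | T ≠ ⊥ ∧ T ≤ N ∧ ∀ n ∈ N, ∀ t ∈ T, n * t * n⁻¹ ∈ T}).toFinite.exists_minimal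
        ⟨N, hN1, le_rfl, fun n hn t ht => hconjN n t ht⟩
    have hTmin' : ∀ R : Subgroup G, R ≤ T → (∀ n ∈ N, ∀ t ∈ R, n * t * n⁻¹ ∈ R) → R = ⊥ ∨ R = T := by
      intro R hR hRn
      by_cases hRb : R = ⊥
      · exact Or.inl hRb
      · exact Or.inr (le_antisymm hR (hTmin ⟨hRb, hR.trans hTN, hRn⟩ hR))
    let cj : G → Subgroup G := fun g => T.map (MulAut.conj g).toMonoidHom
    have hcjN : ∀ g, cj g ≤ N := by
      rintro g _ ⟨t, ht, rfl⟩; exact hconjN g t (hTN ht)
    have hcjn : ∀ g, ∀ n ∈ N, ∀ t ∈ cj g, n * t * n⁻¹ ∈ cj g := by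
      rintro g n hn _ ⟨t, ht, rfl⟩
      refine ⟨(g⁻¹ * n * g) * t * (g⁻¹ * n * g)⁻¹, hTn _ ?_ t ht, ?_⟩
      · have := hconjN g⁻¹ n hn; rwa [inv_inv] at this
      · show g * ((g⁻¹ * n * g) * t * (g⁻¹ * n * g)⁻¹) * g⁻¹ = n * (g * t * g⁻¹) * n⁻¹
        group
    have hcommute : ∀ g, cj g ≠ T → ∀ t ∈ T, ∀ u ∈ cj g, t * u = u * t := by
      intro g hg t ht u hu
      have hbot : T ⊓ cj g = ⊥ := by
        rcases hTmin' (T ⊓ cj g) inf_le_left (fun n hn z hz => ⟨hTn n hn z hz.1, hcjn g n hn z hz.2⟩) with h | h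
        · exact h
        · exfalso
          apply hg
          refine (Subgroup.eq_of_le_of_card_ge (inf_eq_left.1 h) ?_).symm
          rw [Subgroup.card_map_of_injective (MulAut.conj g).injective]
      have hmem : t * u * t⁻¹ * u⁻¹ ∈ T ⊓ cj g :=
        ⟨by rw [show t * u * t⁻¹ * u⁻¹ = t * (u * t⁻¹ * u⁻¹) by group]
            exact T.mul_mem ht (hTn u (hcjN g hu) _ (T.inv_mem ht)),
         (cj g).mul_mem (hcjn g t (hTN ht) u hu) ((cj g).inv_mem hu)⟩
      rw [hbot, Subgroup.mem_bot] at hmem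
      exact mul_inv_eq_iff_eq_mul.1 (mul_inv_eq_one.1 hmem)
    -- the join of the conjugates under `H` is everything
    have hsup : ⨆ g : H, cj g = N := by
      rcases hinv (⨆ g : H, cj g) (iSup_le fun g => hcjN g) (by
        intro h hh m hm
        have hle : (⨆ g : H, cj g).map (MulAut.conj h).toMonoidHom ≤ ⨆ g : H, cj g := by
          rw [Subgroup.map_iSup]
          refine iSup_le fun g => le_trans (le_of_eq ?_) (le_iSup (fun g : H => cj g) (⟨h, hh⟩ * g))
          simp only [cj, Subgroup.map_map]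
          congr 1
          ext z
          show h * ((g : G) * z * (g : G)⁻¹) * h⁻¹ = (h * g) * z * (h * g)⁻¹
          group
        exact hle ⟨m, hm, rfl⟩) with h | h
      · exfalso
        apply hT1
        refine le_bot_iff.1 ((le_of_eq ?_).trans ((le_iSup (fun g : H => cj g) 1).trans h.le))
        simp only [cj, Subgroup.coe_one, map_one]
        exact (Subgroup.map_id T).symm
      · exact h
    -- all elements of `T` have one centraliser
    have hTC : ∀ x ∈ T, x ≠ 1 → ∀ z ∈ T, ∀ g ∈ C x, g * z * g⁻¹ = z := by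
      intro x hx hx1 z hz g hg
      let R : Subgroup G := Subgroup.closure {w | ∃ n ∈ N, w = n * x * n⁻¹}
      have hRT : R ≤ T := (Subgroup.closure_le T).2 (by rintro _ ⟨n, hn, rfl⟩; exact hTn n hn x hx)
      have hRn : ∀ n ∈ N, ∀ t ∈ R, n * t * n⁻¹ ∈ R := by
        intro n hn t ht
        induction ht using Subgroup.closure_induction with
        | mem w hw =>
          obtain ⟨m, hm, rfl⟩ := hw
          exact Subgroup.subset_closure ⟨n * m, N.mul_mem hn hm, by group⟩
        | one => rw [mul_one, mul_inv_cancel]; exact R.one_mem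
        | mul u v _ _ hu hv =>
          rw [show n * (u * v) * n⁻¹ = (n * u * n⁻¹) * (n * v * n⁻¹) by group]; exact R.mul_mem hu hv
        | inv u _ hu =>
          rw [show n * u⁻¹ * n⁻¹ = (n * u * n⁻¹)⁻¹ by group]; exact R.inv_mem hu
      have hRT' : R = T := (hTmin' R hRT hRn).resolve_left fun h =>
        hx1 ((Subgroup.eq_bot_iff_forall R).1 h x (Subgroup.subset_closure ⟨1, N.one_mem, by group⟩))
      have hzR : z ∈ R := hRT'.symm ▸ hz
      suffices z ∈ Subgroup.centralizer ({g} : Set G) by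
        exact mul_inv_eq_iff_eq_mul.2 (Subgroup.mem_centralizer_singleton_iff.1 this).symm
      refine (Subgroup.closure_le _).2 ?_ hzR
      rintro _ ⟨n, hn, rfl⟩
      rw [hclass x (hTN hx) hx1 n hn] at hg
      exact Subgroup.mem_centralizer_singleton_iff.2 (mul_inv_eq_iff_eq_mul.1 ((hC _ _).1 hg).2).symm
    by_cases hTc : ∀ t ∈ T, ∀ u ∈ T, t * u = u * t
    · -- then `N` would be abelian
      apply hnc
      have hpair : ∀ g h : H, ∀ u ∈ cj g, ∀ v ∈ cj h, u * v = v * u := by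
        rintro g h _ ⟨t, ht, rfl⟩ _ ⟨w, hw, rfl⟩
        have hmem : ((g : G)⁻¹ * h) * w * ((g : G)⁻¹ * h)⁻¹ ∈ cj ((g : G)⁻¹ * h) := ⟨w, hw, rfl⟩
        have key : t * (((g : G)⁻¹ * h) * w * ((g : G)⁻¹ * h)⁻¹) = (((g : G)⁻¹ * h) * w * ((g : G)⁻¹ * h)⁻¹) * t := by
          by_cases he : cj ((g : G)⁻¹ * h) = T
          · exact hTc t ht _ (he ▸ hmem)
          · exact hcommute _ he t ht _ hmem
        show (g : G) * t * (g : G)⁻¹ * ((h : G) * w * (h : G)⁻¹) = (h : G) * w * (h : G)⁻¹ * ((g : G) * t * (g : G)⁻¹)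
        calc (g : G) * t * (g : G)⁻¹ * ((h : G) * w * (h : G)⁻¹)
            = g * (t * (((g : G)⁻¹ * h) * w * ((g : G)⁻¹ * h)⁻¹)) * (g : G)⁻¹ := by group
          _ = g * ((((g : G)⁻¹ * h) * w * ((g : G)⁻¹ * h)⁻¹) * t) * (g : G)⁻¹ := by rw [key]
          _ = _ := by group
      have hle : ∀ g : H, cj g ≤ Subgroup.centralizer ((⨆ h : H, cj h : Subgroup G) : Set G) := by
        intro g
        rw [Subgroup.le_centralizer_iff]
        exact iSup_le fun h => fun v hv => Subgroup.mem_centralizer_iff.2 fun u hu => hpair g h u hu v hv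
      rw [← hsup, ← Subgroup.le_centralizer_iff_isMulCommutative]
      exact iSup_le hle
    -- two primes divide the order of `T`
    have hprimes : ∀ p : ℕ, ∃ t ∈ T, t ≠ 1 ∧ (orderOf t).Prime ∧ orderOf t ≠ p := by
      intro p
      by_contra hc
      push Not at hc
      apply hTc
      haveI hTnt : Nontrivial T := (Subgroup.nontrivial_iff_ne_bot T).2 hT1
      obtain ⟨r, hr, hrd⟩ := Nat.exists_prime_and_dvd (Finite.one_lt_card_iff_nontrivial.2 hTnt).ne'
      haveI := Fact.mk hr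
      have hTp : IsPGroup p T := by
        intro t
        refine ⟨Nat.card T, ?_⟩
        have hdiv : orderOf t ∣ p ^ Nat.card T := by
          have hpr : ∀ q : ℕ, q.Prime → q ∣ Nat.card T → q = p := by
            intro q hq hqd
            haveI := Fact.mk hq
            obtain ⟨u, hu⟩ := exists_prime_orderOf_dvd_card' q hqd
            rw [← Subgroup.orderOf_coe] at hu
            have := hc u u.2 (fun h => by rw [h, orderOf_one] at hu; exact hq.ne_one hu.symm) (hu ▸ hq)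
            rw [← this, hu]
          have heq : Nat.card T = p ^ (Nat.card T).primeFactorsList.length :=
            Nat.eq_prime_pow_of_unique_prime_dvd Nat.card_pos.ne' fun {q} hq hqd => hpr q hq hqd
          refine (orderOf_dvd_natCard t).trans ((heq ▸ dvd_refl _ : Nat.card T ∣ p ^ (Nat.card T).primeFactorsList.length).trans (pow_dvd_pow p ?_))
          calc (Nat.card T).primeFactorsList.length ≤ p ^ (Nat.card T).primeFactorsList.length := by
                have hpp : p.Prime := by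
                  obtain ⟨u, hu⟩ := exists_prime_orderOf_dvd_card' r hrd
                  rw [← Subgroup.orderOf_coe] at hu
                  have := hc u u.2 (fun h => by rw [h, orderOf_one] at hu; exact hr.ne_one hu.symm) (hu ▸ hr)
                  rw [← this, hu]; exact hr
                exact (Nat.lt_pow_self hpp.one_lt).le
            _ = Nat.card T := heq.symm
        exact orderOf_dvd_iff_pow_eq_one.1 hdiv
      haveI : Fact p.Prime := ⟨by
        obtain ⟨u, hu⟩ := exists_prime_orderOf_dvd_card' r hrd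
        rw [← Subgroup.orderOf_coe] at hu
        have := hc u u.2 (fun h => by rw [h, orderOf_one] at hu; exact hr.ne_one hu.symm) (hu ▸ hr)
        rw [← this, hu]; exact hr⟩
      haveI := hTp.center_nontrivial
      have hZ : (Subgroup.center T).map T.subtype = T := by
        refine (hTmin' _ (Subgroup.map_subtype_le _) ?_).resolve_left ?_
        · rintro n hn _ ⟨z, hz, rfl⟩
          refine ⟨⟨n * z * n⁻¹, hTn n hn z z.2⟩, ?_, rfl⟩
          rw [SetLike.mem_coe, Subgroup.mem_center_iff]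
          intro w
          apply Subtype.ext
          show (w : G) * (n * z * n⁻¹) = n * z * n⁻¹ * w
          have hw : n⁻¹ * (w : G) * n ∈ T := by
            have := hTn n⁻¹ (N.inv_mem hn) w w.2; rwa [inv_inv] at this
          have := congrArg Subtype.val (Subgroup.mem_center_iff.1 hz ⟨_, hw⟩)
          have hh : n⁻¹ * (w : G) * n * z = z * (n⁻¹ * (w : G) * n) := this
          calc (w : G) * (n * z * n⁻¹) = n * (n⁻¹ * w * n * z) * n⁻¹ := by group
            _ = n * (z * (n⁻¹ * w * n)) * n⁻¹ := by rw [hh]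
            _ = _ := by group
        · rw [Subgroup.map_eq_bot_iff_of_injective _ T.subtype_injective]
          exact (Subgroup.nontrivial_iff_ne_bot _).1 inferInstance
      intro t ht u hu
      rw [← hZ] at ht
      obtain ⟨z, hz, rfl⟩ := ht
      exact (congrArg Subtype.val (Subgroup.mem_center_iff.1 hz ⟨u, hu⟩)).symm
    obtain ⟨t, ht, ht1, htp, -⟩ := hprimes 1
    refine hfinal t (hTN ht) ht1 fun g hg z hz => ?_
    suffices z ∈ Subgroup.centralizer ({g} : Set G) by
      exact mul_inv_eq_iff_eq_mul.2 (Subgroup.mem_centralizer_singleton_iff.1 this).symm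
    refine (hsup.symm.trans_le ?_ : N ≤ Subgroup.centralizer ({g} : Set G)) hz
    refine iSup_le fun h => ?_
    by_cases he : cj h = T
    · rw [he]
      intro w hw
      exact Subgroup.mem_centralizer_singleton_iff.2 (mul_inv_eq_iff_eq_mul.1 (hTC t ht ht1 w hw g hg)).symm
    -- pick commuting elements of coprime order in `T` and in the conjugate
    obtain ⟨v, hv, hv1, hvp, hvne⟩ := hprimes (orderOf t)
    set u := (h : G) * v * (h : G)⁻¹ with hu_def
    have hu : u ∈ cj h := ⟨v, hv, rfl⟩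
    have huo : orderOf u = orderOf v := by
      rw [hu_def, ← MulAut.conj_apply, MulEquiv.orderOf_eq]
    have htu : Commute t u := hcommute h he t ht u hu
    have hcopr : (orderOf t).Coprime (orderOf u) := by
      rw [huo]; exact (Nat.coprime_primes htp hvp).2 (Ne.symm hvne)
    have hprod : t * u ≠ 1 := fun hh => by
      have := orderOf_eq_one_iff.2 hh
      rw [htu.orderOf_mul_eq_mul_orderOf_of_coprime hcopr] at this
      exact htp.ne_one (Nat.eq_one_of_mul_eq_one_right this)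
    have hcomm_t : C (t * u) ≤ C t ∧ C (t * u) ≤ C u := by
      have key : ∀ (c d : G), Commute c d → (orderOf c).Coprime (orderOf d) → C (c * d) ≤ C c := by
        intro c d hcd hco g hg
        obtain ⟨hgH, hge⟩ := (hC _ _).1 hg
        obtain ⟨i, hi⟩ := exists_pow_eq_self_of_coprime hco.symm
        refine (hC _ _).2 ⟨hgH, ?_⟩
        have hpow : c = ((c * d) ^ orderOf d) ^ i := by
          rw [hcd.mul_pow, pow_orderOf_eq_one, mul_one, hi]
        conv_lhs => rw [hpow, ← pow_mul, ← conj_pow, hge, pow_mul, ← hpow]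
      refine ⟨key t u htu hcopr, ?_⟩
      rw [htu.eq]; exact key u t htu.symm hcopr.symm
    have htuN : t * u ∈ N := N.mul_mem (hTN ht) (hcjN h hu)
    have heq : C t = C u := by
      have hu1 : u ≠ 1 := fun hh => hvp.ne_one (by rw [← huo, hh, orderOf_one])
      rw [← Subgroup.eq_of_le_of_card_ge hcomm_t.1 (by rw [(hcard t (hTN ht) ht1).1, (hcard _ htuN hprod).1]),
        Subgroup.eq_of_le_of_card_ge hcomm_t.2 (by rw [(hcard u (hcjN h hu) hu1).1, (hcard _ htuN hprod).1])]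
    rintro _ ⟨w, hw, rfl⟩
    -- transport the statement for `T` along `h`
    have hgu : g ∈ C u := heq ▸ hg
    obtain ⟨hgH, hge⟩ := (hC _ _).1 hgu
    have hg' : (h : G)⁻¹ * g * h ∈ C v := by
      refine (hC _ _).2 ⟨H.mul_mem (H.mul_mem (H.inv_mem h.2) hgH) h.2, ?_⟩
      calc (h : G)⁻¹ * g * h * v * ((h : G)⁻¹ * g * h)⁻¹ = (h : G)⁻¹ * (g * u * g⁻¹) * h := by rw [hu_def]; group
        _ = v := by rw [hge, hu_def]; group
    have := hTC v hv hv1 w hw _ hg'
    rw [Subgroup.mem_centralizer_singleton_iff]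
    show (h : G) * w * (h : G)⁻¹ * g = g * ((h : G) * w * (h : G)⁻¹)
    calc (h : G) * w * (h : G)⁻¹ * g = h * (((h : G)⁻¹ * g * h) * w * ((h : G)⁻¹ * g * h)⁻¹) * (h : G)⁻¹ * g := by rw [this]
      _ = _ := by group
  have hNcomm : ∀ u ∈ N, ∀ v ∈ N, u * v = v * u := fun u hu v hv =>
    congrArg Subtype.val (hNc.is_comm.comm ⟨u, hu⟩ ⟨v, hv⟩)
  refine ⟨?_, fun M hM hMb => ?_⟩
  · obtain ⟨p, hp, hpd⟩ := Nat.exists_prime_and_dvd (n := Nat.card N) fun h => hN1 (Subgroup.card_eq_one.1 h)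
    haveI := Fact.mk hp
    refine ⟨p, hp, hNc, ?_⟩
    let U : Subgroup G :=
      { carrier := {x | x ∈ N ∧ x ^ p = 1}
        one_mem' := ⟨N.one_mem, one_pow p⟩
        mul_mem' := fun {u v} hu hv => ⟨N.mul_mem hu.1 hv.1, by
          rw [(show Commute u v from hNcomm u hu.1 v hv.1).mul_pow, hu.2, hv.2, one_mul]⟩
        inv_mem' := fun {u} hu => ⟨N.inv_mem hu.1, by rw [inv_pow, hu.2, inv_one]⟩ }
    obtain ⟨z, hz⟩ := exists_prime_orderOf_dvd_card' p hpd
    rcases hinv U (fun x hx => hx.1) (fun g _ m hm => ⟨hconjN g m hm.1, by rw [conj_pow, hm.2, mul_one, mul_inv_cancel]⟩) with h | h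
    · exfalso
      have hzU : (z : G) ∈ U := ⟨z.2, by rw [← hz, ← Subgroup.orderOf_coe, pow_orderOf_eq_one]⟩
      rw [h, Subgroup.mem_bot] at hzU
      rw [show z = 1 from Subtype.ext hzU, orderOf_one] at hz
      exact hp.ne_one hz.symm
    · intro x hx
      exact ((h.symm ▸ hx : x ∈ U)).2
  · haveI := hM
    rcases hinv (M ⊓ N) inf_le_right (fun g _ m hm => ⟨hM.conj_mem m hm.1 g, hconjN g m hm.2⟩) with h | h
    · exfalso
      apply hMb
      rw [Subgroup.eq_bot_iff_forall]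
      intro g hg
      have hcomm : ∀ z ∈ N, g * z = z * g := fun z hz =>
        Subgroup.commute_of_normal_of_disjoint M N hM hN (disjoint_iff.2 h) g z hg hz
      obtain ⟨⟨w, hw⟩, hwg⟩ := hNt.exists_smul_eq a₀ (g • a₀)
      have hwg' : w • a₀ = g • a₀ := hwg
      have hgw : g = w := eq_of_smul_eq_smul fun ω : Ω => by
        obtain ⟨⟨z, hz⟩, rfl⟩ := hNt.exists_smul_eq a₀ ω
        show g • z • a₀ = w • z • a₀
        rw [← mul_smul, hcomm z hz, mul_smul, ← hwg', ← mul_smul, ← mul_smul, hNcomm w hw z hz]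
      have : g ∈ M ⊓ N := ⟨hg, hgw ▸ hw⟩
      rwa [h, Subgroup.mem_bot] at this
    · exact inf_eq_right.1 h

end Cfsg.Agent.S3356
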