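import Cfsg.Statements.S3357
import Mathlib
import Cfsg.Agent.Lib.Core.FrobeniusConj
import Cfsg.Agent.S0042

set_option autoImplicit false
open Cfsg

namespace Cfsg.Agent.S3357

--- PRE
open MonoidAlgebra

section
variable {H : Type*} [Group H] [Finite H]

theorem mapHom_single {R S : Type*} [Semiring R] [Semiring S] (f : R →+* S) (g : H) (a : R) :
    MonoidAlgebra.mapRingHom H f (single g a) = single g (f a) := by
  classical
  ext k
  simp [MonoidAlgebra.coeff_mapRingHom, MonoidAlgebra.coeff_single, Finsupp.single_apply, apply_ite f]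

/-- the sum of the powers of an element -/
noncomputable def pnorm (R : Type*) [CommRing R] (x : H) : MonoidAlgebra R H :=
  ∑ i ∈ Finset.range (orderOf x), single (x ^ i) 1

theorem pnorm_mul (R : Type*) [CommRing R] (x : H) :
    single x (1 : R) * pnorm R x = pnorm R x := by
  rw [pnorm, Finset.mul_sum]
  simp only [single_mul_single, mul_one, ← pow_succ']
  have h := Finset.sum_range_succ' (fun i => single (x ^ i) (1 : R)) (orderOf x)
  rw [Finset.sum_range_succ, pow_orderOf_eq_one, pow_zero] at h
  exact (add_right_cancel h).symm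

theorem pnorm_sq (R : Type*) [CommRing R] (x : H) :
    pnorm R x * pnorm R x = (orderOf x) • pnorm R x := by
  conv_lhs => arg 1; rw [pnorm]
  rw [Finset.sum_mul]
  have : ∀ i ∈ Finset.range (orderOf x), single (x ^ i) (1 : R) * pnorm R x = pnorm R x := by
    intro i hi
    clear hi
    induction i with
    | zero => rw [pow_zero]; exact one_mul _
    | succ i ih =>
      rw [pow_succ, show single (x ^ i * x) (1 : R) = single (x ^ i) 1 * single x 1 by
        rw [single_mul_single, mul_one], mul_assoc, pnorm_mul, ih]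
  rw [Finset.sum_congr rfl this, Finset.sum_const, Finset.card_range]

/-- the two-sided ideal generated by the norms of the non-trivial elements -/
noncomputable def normIdeal (H : Type*) [Group H] : AddSubgroup (MonoidAlgebra ℤ H) :=
  AddSubgroup.closure {z | ∃ (x : H) (a b : MonoidAlgebra ℤ H), x ≠ 1 ∧ z = a * pnorm ℤ x * b}

theorem normIdeal_mul_right {u : MonoidAlgebra ℤ H} (hu : u ∈ normIdeal H) (c : MonoidAlgebra ℤ H) :
    u * c ∈ normIdeal H := by
  induction hu using AddSubgroup.closure_induction with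
  | mem y hy =>
    obtain ⟨x, a, b, hx, rfl⟩ := hy
    exact AddSubgroup.subset_closure ⟨x, a, b * c, hx, by simp only [mul_assoc]⟩
  | zero => rw [zero_mul]; exact zero_mem _
  | add u v _ _ hu hv => rw [add_mul]; exact add_mem hu hv
  | neg u _ hu => rw [neg_mul]; exact neg_mem hu

/-- a fixed-point-free action on a `p`-torsion module, `p` prime to the group order, keeps the
norm ideal away from the non-zero integers -/
theorem not_mem_normIdeal {p : ℕ} [hp : Fact p.Prime] (hpH : ¬ p ∣ Nat.card H) {W : Type*} [AddCommGroup W]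
    [Nontrivial W] (hW : ∀ w : W, p • w = 0) (ψ : H →* AddMonoid.End W)
    (hψ : ∀ x : H, x ≠ 1 → ∀ w, ψ x w = w → w = 0) (m : ℕ) (hm : 0 < m) :
    (m : MonoidAlgebra ℤ H) ∉ normIdeal H := by
  classical
  intro hmem
  haveI : Fintype H := Fintype.ofFinite H
  haveI : NeZero (Nat.card H : ZMod p) := ⟨by
    rw [Ne, ZMod.natCast_eq_zero_iff]; exact hpH⟩
  let Φ : MonoidAlgebra ℤ H →ₐ[ℤ] AddMonoid.End W := MonoidAlgebra.lift ℤ (AddMonoid.End W) H ψ
  have hΦs : ∀ h, Φ (single h 1) = ψ h := fun h => by
    rw [show Φ (single h 1) = (1 : ℤ) • ψ h from MonoidAlgebra.lift_single _ _ _, one_smul]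
  have hΦN : ∀ x : H, x ≠ 1 → Φ (pnorm ℤ x) = 0 := by
    intro x hx
    ext w
    apply hψ x hx
    have := congrArg (fun z => Φ z w) (pnorm_mul ℤ x)
    simp only [map_mul, hΦs] at this
    exact this
  have hΦM : ∀ u ∈ normIdeal H, Φ u = 0 := by
    intro u hu
    induction hu using AddSubgroup.closure_induction with
    | mem y hy =>
      obtain ⟨x, a, b, hx, rfl⟩ := hy
      rw [map_mul, map_mul, hΦN x hx, mul_zero, zero_mul]
    | zero => exact map_zero _
    | add u v _ _ hu hv => rw [map_add, hu, hv, add_zero]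
    | neg u _ hu => rw [map_neg, hu, neg_zero]
  let B := MonoidAlgebra (ZMod p) H
  let r : MonoidAlgebra ℤ H →+* B := MonoidAlgebra.mapRingHom H (Int.castRingHom (ZMod p))
  have hr : Function.Surjective r := by
    intro y
    induction y using MonoidAlgebra.induction_on with
    | of g => rw [MonoidAlgebra.of_apply];  exact ⟨single g 1, (mapHom_single _ g 1).trans (by rw [map_one])⟩
    | add u v hu hv =>
      obtain ⟨u', rfl⟩ := hu; obtain ⟨v', rfl⟩ := hv
      exact ⟨u' + v', map_add _ _ _⟩
    | smul c u hu =>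
      obtain ⟨u', rfl⟩ := hu
      refine ⟨(c.val : ℤ) • u', ?_⟩
      rw [map_zsmul]
      rw [natCast_zsmul, ← Nat.cast_smul_eq_nsmul (ZMod p), ZMod.natCast_zmod_val]
  have hrker : ∀ z, r z = 0 → ∃ z', z = (p : ℤ) • z' := by
    intro z hz
    have hd : ∀ g, (p : ℤ) ∣ z.coeff g := by
      intro g
      have := congrArg (fun y : B => y.coeff g) hz
      change (MonoidAlgebra.mapRingHom H (Int.castRingHom (ZMod p)) z).coeff g = (0 : B).coeff g at this
      rw [MonoidAlgebra.coeff_mapRingHom] at this
      exact (ZMod.intCast_zmod_eq_zero_iff_dvd _ _).1 (this.trans (by simp))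
    choose q hq using hd
    refine ⟨∑ g, single g (q g), ?_⟩
    ext g
    rw [MonoidAlgebra.coeff_smul, MonoidAlgebra.coeff_sum, Finsupp.smul_apply]
    simp [Finset.sum_apply', MonoidAlgebra.coeff_single, Finsupp.single_apply, hq g]
  -- the image of the kernel of `Φ` is a proper left ideal
  let I : Submodule B B :=
    { carrier := r '' {z | Φ z = 0}
      add_mem' := by
        rintro _ _ ⟨u, hu, rfl⟩ ⟨v, hv, rfl⟩
        exact ⟨u + v, by simp only [Set.mem_setOf_eq] at *; rw [map_add, hu, hv, add_zero], map_add _ _ _⟩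
      zero_mem' := ⟨0, map_zero _, map_zero _⟩
      smul_mem' := by
        rintro c _ ⟨u, hu, rfl⟩
        obtain ⟨c', rfl⟩ := hr c
        exact ⟨c' * u, by simp only [Set.mem_setOf_eq] at *; rw [map_mul, hu, mul_zero], map_mul _ _ _⟩ }
  have h1I : (1 : B) ∉ I := by
    rintro ⟨z, hz, hz1⟩
    obtain ⟨z', hz'⟩ := hrker (z - 1) (by rw [map_sub, hz1, map_one, sub_self])
    obtain ⟨w, hw⟩ := exists_ne (0 : W)
    apply hw
    have hz0 : Φ z = 0 := hz
    have := congrArg (fun y => Φ y w) hz'
    simp only [map_sub, hz0, map_one, zero_sub, map_zsmul] at this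
    have h0 : ((p : ℤ) • Φ z') w = 0 := by
      show (p : ℤ) • (Φ z' w) = 0
      rw [natCast_zsmul]; exact hW _
    rw [h0] at this
    exact neg_eq_zero.1 this
  obtain ⟨K, hK⟩ := exists_isCompl I
  obtain ⟨j, hj, k, hk, hjk⟩ := Submodule.mem_sup.1 (show (1 : B) ∈ I ⊔ K by rw [hK.sup_eq_top]; trivial)
  have hright : ∀ x ∈ I, x * (1 - j) = 0 := by
    intro x hx
    have h1 : x * k ∈ I := by
      have hkeq : x * k = x - x * j := by
        rw [eq_sub_iff_add_eq, ← mul_add, add_comm k j, hjk, mul_one]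
      rw [hkeq]
      exact I.sub_mem hx (I.smul_mem x hj)
    have h2 : x * k = 0 := (Submodule.disjoint_def.1 hK.disjoint) _ h1 (K.smul_mem x hk)
    rwa [show 1 - j = k from sub_eq_iff_eq_add'.2 hjk.symm]
  obtain ⟨f, hf⟩ := hr (1 - j)
  have hMf : ∀ u ∈ normIdeal H, ∃ z, u * f = (p : ℤ) • z := fun u hu =>
    hrker _ (by rw [map_mul, hf]; exact hright _ ⟨u, hΦM u hu, rfl⟩)
  have hidem : ∀ i : ℕ, r f ^ (i + 1) = 1 - j := by
    intro i
    induction i with
    | zero => rw [pow_one, hf]
    | succ i ih =>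
      rw [pow_succ, ih, hf, sub_mul, one_mul, hright j hj, sub_zero]
  -- the key divisibility
  have key : ∀ i : ℕ, ∀ u ∈ normIdeal H, ∃ z, ((Nat.card H) ^ i) • (u * f ^ (i + 1)) = ((p : ℤ) ^ (i + 1)) • z := by
    intro i
    induction i with
    | zero =>
      intro u hu
      obtain ⟨z, hz⟩ := hMf u hu
      exact ⟨z, by simp [hz]⟩
    | succ i ih =>
      intro u hu
      induction hu using AddSubgroup.closure_induction with
      | mem y hy =>
        obtain ⟨x, a, b, hx, rfl⟩ := hy
        obtain ⟨c, hc⟩ := orderOf_dvd_natCard x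
        obtain ⟨y, hy⟩ := hMf (pnorm ℤ x * b) (AddSubgroup.subset_closure ⟨x, 1, b, hx, by rw [one_mul]⟩)
        have hax : a * pnorm ℤ x ∈ normIdeal H :=
          AddSubgroup.subset_closure ⟨x, a, 1, hx, by rw [mul_one]⟩
        obtain ⟨z, hz⟩ := ih ((c • (a * pnorm ℤ x)) * y) (normIdeal_mul_right (nsmul_mem hax c) y)
        refine ⟨z, ?_⟩
        have e : (Nat.card H) • (a * pnorm ℤ x * b * f) = (c • (a * pnorm ℤ x)) * ((pnorm ℤ x * b) * f) := by
          rw [hc, mul_comm, mul_nsmul', smul_mul_assoc]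
          congr 1
          simp only [← mul_assoc]
          rw [mul_assoc a (pnorm ℤ x) (pnorm ℤ x), pnorm_sq, mul_smul_comm, smul_mul_assoc, smul_mul_assoc]
        calc Nat.card H ^ (i + 1) • (a * pnorm ℤ x * b * f ^ (i + 1 + 1))
            = Nat.card H ^ i • ((Nat.card H • (a * pnorm ℤ x * b * f)) * f ^ (i + 1)) := by
              rw [pow_succ' f (i + 1), pow_succ (Nat.card H) i, smul_mul_assoc, ← mul_nsmul']
              simp only [mul_assoc]
          _ = (p : ℤ) • (Nat.card H ^ i • ((c • (a * pnorm ℤ x)) * y * f ^ (i + 1))) := by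
              rw [e, hy, mul_smul_comm, smul_mul_assoc, smul_comm]
          _ = _ := by rw [hz, smul_smul, ← pow_succ']
      | zero => exact ⟨0, by simp⟩
      | add u v _ _ hu hv =>
        obtain ⟨z, hz⟩ := hu; obtain ⟨z', hz'⟩ := hv
        exact ⟨z + z', by rw [add_mul, smul_add, hz, hz', smul_add]⟩
      | neg u _ hu =>
        obtain ⟨z, hz⟩ := hu
        exact ⟨-z, by rw [neg_mul, smul_neg, hz, smul_neg]⟩
  obtain ⟨c, m', hm', rfl⟩ := Nat.exists_eq_pow_mul_and_not_dvd hm.ne' p hp.out.ne_one
  obtain ⟨z, hz⟩ := key c _ hmem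
  have hz' : (p ^ c : ℕ) • ((Nat.card H ^ c * m' : ℕ) • f ^ (c + 1) - (p : ℤ) • z) = 0 := by
    rw [smul_sub, sub_eq_zero, ← natCast_zsmul ((p : ℤ) • z) (p ^ c), Nat.cast_pow, smul_smul ((p : ℤ) ^ c),
      ← pow_succ, ← hz, ← nsmul_eq_mul, ← mul_nsmul', ← mul_nsmul']
    congr 1
    ring
  have hz'' : (Nat.card H ^ c * m' : ℕ) • f ^ (c + 1) = (p : ℤ) • z := by
    rw [← sub_eq_zero]
    ext g
    have := congrArg (fun y : MonoidAlgebra ℤ H => y.coeff g) hz'
    simp only [MonoidAlgebra.coeff_smul, Finsupp.smul_apply, MonoidAlgebra.coeff_zero, Finsupp.coe_zero, Pi.zero_apply] at this ⊢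
    exact (smul_eq_zero.1 this).resolve_left (pow_ne_zero _ hp.out.ne_zero)
  have h0 := congrArg r hz''
  rw [map_nsmul, map_pow, hidem, map_zsmul, natCast_zsmul, ← Nat.cast_smul_eq_nsmul (ZMod p) p,
    CharP.cast_eq_zero, zero_smul, ← Nat.cast_smul_eq_nsmul (ZMod p)] at h0
  refine h1I ?_
  rcases smul_eq_zero.1 h0 with h | h
  · rw [ZMod.natCast_eq_zero_iff, hp.out.dvd_mul] at h
    exact absurd h (not_or.2 ⟨fun h => hpH (hp.out.dvd_of_dvd_pow h), hm'⟩)
  · rwa [sub_eq_zero.1 h]

/-- no integer in the norm ideal gives a fixed-point-free irreducible representation -/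
theorem exists_rep (h : ∀ m : ℕ, 0 < m → (m : MonoidAlgebra ℤ H) ∉ normIdeal H) :
    ∃ (n : ℕ) (ρ : H →* GL (Fin n) (AlgebraicClosure ℚ)), 0 < n ∧
      (∀ W : Submodule (AlgebraicClosure ℚ) (Fin n → AlgebraicClosure ℚ),
        (∀ g : H, ∀ w ∈ W, ((ρ g : GL (Fin n) (AlgebraicClosure ℚ)) : Matrix (Fin n) (Fin n) (AlgebraicClosure ℚ)).mulVec w ∈ W) → W = ⊥ ∨ W = ⊤) ∧
      ∀ g : H, g ≠ 1 → ∀ v : Fin n → AlgebraicClosure ℚ,
        ((ρ g : GL (Fin n) (AlgebraicClosure ℚ)) : Matrix (Fin n) (Fin n) (AlgebraicClosure ℚ)).mulVec v = v → v = 0 := by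
  classical
  haveI : Fintype H := Fintype.ofFinite H
  let K := AlgebraicClosure ℚ
  let A := MonoidAlgebra K H
  let rQ : MonoidAlgebra ℤ H →+* MonoidAlgebra ℚ H := MonoidAlgebra.mapRingHom H (Int.castRingHom ℚ)
  let rK : MonoidAlgebra ℤ H →+* A := MonoidAlgebra.mapRingHom H (Int.castRingHom K)
  let U : Submodule ℚ (MonoidAlgebra ℚ H) := Submodule.span ℚ (rQ '' (normIdeal H : Set (MonoidAlgebra ℤ H)))
  have h1U : (1 : MonoidAlgebra ℚ H) ∉ U := by
    intro h1
    have : ∀ u ∈ U, ∃ d : ℕ, 0 < d ∧ ∃ z ∈ normIdeal H, (d : ℚ) • u = rQ z := by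
      intro u hu
      induction hu using Submodule.span_induction with
      | mem y hy => obtain ⟨z, hz, rfl⟩ := hy; exact ⟨1, one_pos, z, hz, by simp⟩
      | zero => exact ⟨1, one_pos, 0, zero_mem _, by simp⟩
      | add u v _ _ hu hv =>
        obtain ⟨d, hd, z, hz, hz'⟩ := hu
        obtain ⟨e, he, w, hw, hw'⟩ := hv
        refine ⟨d * e, Nat.mul_pos hd he, e • z + d • w, add_mem (nsmul_mem hz _) (nsmul_mem hw _), ?_⟩
        rw [map_add, map_nsmul, map_nsmul, ← hz', ← hw', smul_add, ← Nat.cast_smul_eq_nsmul ℚ,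
          ← Nat.cast_smul_eq_nsmul ℚ, smul_smul, smul_smul, Nat.cast_mul, mul_comm (e : ℚ)]
      | smul c u _ hu =>
        obtain ⟨d, hd, z, hz, hz'⟩ := hu
        refine ⟨c.den * d, Nat.mul_pos c.den_pos hd, c.num • z, zsmul_mem hz _, ?_⟩
        rw [map_zsmul, ← hz', ← Int.cast_smul_eq_zsmul ℚ, smul_smul, smul_smul, Nat.cast_mul]
        congr 1
        rw [mul_comm ((c.den : ℚ)) (d : ℚ), mul_assoc, mul_comm ((c.den : ℚ)) c, Rat.mul_den_eq_num, mul_comm]
    obtain ⟨d, hd, z, hz, hz'⟩ := this 1 h1
    apply h d hd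
    have hinj : Function.Injective rQ := by
      intro a b hab
      ext g
      have := congrArg (fun y : MonoidAlgebra ℚ H => y.coeff g) hab
      simpa [rQ] using this
    have hdz : (d : MonoidAlgebra ℤ H) = z := hinj (by
      rw [map_natCast, ← hz', Nat.cast_smul_eq_nsmul, nsmul_one])
    rwa [hdz]
  obtain ⟨lam, hlam1, hlam⟩ := Submodule.exists_dual_map_eq_bot_of_notMem h1U inferInstance
  have hlam0 : ∀ z ∈ normIdeal H, lam (rQ z) = 0 := fun z hz => by
    have : lam (rQ z) ∈ U.map lam := ⟨_, Submodule.subset_span ⟨z, hz, rfl⟩, rfl⟩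
    rwa [hlam, Submodule.mem_bot] at this
  let Lam : A →ₗ[K] K := (Finsupp.linearCombination K fun g : H => algebraMap ℚ K (lam (single g 1))).comp
    (MonoidAlgebra.coeffLinearEquiv K).toLinearMap
  have hLams : ∀ (g : H) (a : K), Lam (single g a) = a * algebraMap ℚ K (lam (single g 1)) := fun g a => by
    show Finsupp.linearCombination K _ (single g a : A).coeff = _
    rw [MonoidAlgebra.coeff_single, Finsupp.linearCombination_single, smul_eq_mul]
  have hLam : ∀ z : MonoidAlgebra ℤ H, Lam (rK z) = algebraMap ℚ K (lam (rQ z)) := by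
    intro z
    induction z using MonoidAlgebra.induction_on with
    | of g =>
      rw [MonoidAlgebra.of_apply]
      simp only [rK, rQ]
      rw [mapHom_single, mapHom_single, map_one, map_one, hLams, one_mul]
    | add u v hu hv => simp only [map_add, hu, hv]
    | smul c u hu => simp only [map_zsmul, hu]
  let J : Submodule K A := Submodule.span K (rK '' (normIdeal H : Set (MonoidAlgebra ℤ H)))
  have hJl : ∀ a : A, ∀ y ∈ J, a * y ∈ J := by
    intro a y hy
    induction hy using Submodule.span_induction with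
    | mem y hy =>
      obtain ⟨z, hz, rfl⟩ := hy
      induction a using MonoidAlgebra.induction_on with
      | of g =>
        rw [MonoidAlgebra.of_apply]
        refine Submodule.subset_span ⟨single g 1 * z, ?_, by rw [map_mul]; simp only [rK]; rw [mapHom_single, map_one]⟩
        change z ∈ AddSubgroup.closure _ at hz
        induction hz using AddSubgroup.closure_induction with
        | mem w hw =>
          obtain ⟨x, a, b, hx, rfl⟩ := hw
          exact AddSubgroup.subset_closure ⟨x, single g 1 * a, b, hx, by simp only [mul_assoc]⟩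
        | zero => rw [mul_zero]; exact zero_mem _
        | add u v _ _ hu hv => rw [mul_add]; exact add_mem hu hv
        | neg u _ hu => rw [mul_neg]; exact neg_mem hu
      | add u v hu hv => rw [add_mul]; exact J.add_mem hu hv
      | smul c u hu => rw [smul_mul_assoc]; exact J.smul_mem c hu
    | zero => rw [mul_zero]; exact J.zero_mem
    | add u v _ _ hu hv => rw [mul_add]; exact J.add_mem hu hv
    | smul c u _ hu => rw [mul_smul_comm]; exact J.smul_mem c hu
  let I : Ideal A :=
    { carrier := J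
      add_mem' := J.add_mem
      zero_mem' := J.zero_mem
      smul_mem' := fun c y hy => hJl c y hy }
  have hI : I ≠ ⊤ := by
    intro hT
    have h1 : (1 : A) ∈ J := (Ideal.eq_top_iff_one I).1 hT
    have hz : ∀ y ∈ J, Lam y = 0 := by
      intro y hy
      induction hy using Submodule.span_induction with
      | mem y hy => obtain ⟨z, hz, rfl⟩ := hy; rw [hLam, hlam0 z hz, map_zero]
      | zero => exact map_zero _
      | add u v _ _ hu hv => rw [map_add, hu, hv, add_zero]
      | smul c u _ hu => rw [map_smul, hu, smul_zero]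
    have h2 := hz 1 h1
    rw [← map_one rK, hLam, map_one] at h2
    exact hlam1 ((algebraMap ℚ K).injective (h2.trans (map_zero _).symm))
  obtain ⟨L, hLmax, hIL⟩ := Ideal.exists_le_maximal I hI
  let W := A ⧸ L
  haveI : IsSimpleModule A W := isSimpleModule_iff_isCoatom.2 hLmax.out
  haveI : Module.Finite K A := Module.Finite.of_basis (MonoidAlgebra.basis H K)
  haveI : Module.Finite K W := Module.Finite.of_surjective
    ((L.mkQ).restrictScalars K) (Submodule.mkQ_surjective L)
  haveI : Nontrivial W := IsSimpleModule.nontrivial A W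
  have hfix : ∀ x : H, x ≠ 1 → ∀ w : W, (single x (1 : K) : A) • w = w → w = 0 := by
    intro x hx w hw
    obtain ⟨b, rfl⟩ := Submodule.Quotient.mk_surjective L w
    have hN : (pnorm K x : A) * b ∈ J := by
      clear hw
      induction b using MonoidAlgebra.induction_on with
      | of g =>
        rw [MonoidAlgebra.of_apply]
        refine Submodule.subset_span ⟨1 * pnorm ℤ x * single g 1,
          AddSubgroup.subset_closure ⟨x, 1, single g 1, hx, rfl⟩, ?_⟩
        rw [one_mul, map_mul, pnorm, map_sum]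
        simp only [rK]
        rw [mapHom_single, map_one, pnorm]
        congr 1
        exact Finset.sum_congr rfl fun i _ => (mapHom_single _ _ 1).trans (by rw [map_one])
      | add u v hu hv => rw [mul_add]; exact J.add_mem hu hv
      | smul c u hu => rw [mul_smul_comm]; exact J.smul_mem c hu
    have hzero : (pnorm K x : A) • (Submodule.Quotient.mk b : W) = 0 := by
      rw [← Submodule.Quotient.mk_smul, Submodule.Quotient.mk_eq_zero]
      exact hIL hN
    have hpw : ∀ i : ℕ, (single (x ^ i) (1 : K) : A) • (Submodule.Quotient.mk b : W) = Submodule.Quotient.mk b := by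
      intro i
      induction i with
      | zero => rw [pow_zero]; exact one_smul A _
      | succ i ih =>
        rw [pow_succ, show (single (x ^ i * x) (1 : K) : A) = single (x ^ i) 1 * single x 1 by
          rw [single_mul_single, mul_one], mul_smul, hw, ih]
    rw [pnorm, Finset.sum_smul, Finset.sum_congr rfl (fun i _ => hpw i), Finset.sum_const,
      Finset.card_range, ← Nat.cast_smul_eq_nsmul K, smul_eq_zero] at hzero
    exact hzero.resolve_left (Nat.cast_ne_zero.2 (orderOf_pos x).ne')
  let e := Module.finBasis K W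
  let τ : H →* Module.End K W :=
    (Algebra.lsmul K K W).toMonoidHom.comp (MonoidAlgebra.of K H)
  have hτ : ∀ g w, τ g w = (single g (1 : K) : A) • w := fun g w => rfl
  let μ : H →* Matrix (Fin (Module.finrank K W)) (Fin (Module.finrank K W)) K :=
    ((LinearMap.toMatrixAlgEquiv e).toAlgHom : Module.End K W →ₐ[K] _).toMonoidHom.comp τ
  refine ⟨Module.finrank K W, μ.toHomUnits, Module.finrank_pos, ?_, ?_⟩
  all_goals
    have hμ : ∀ g v, (μ g).mulVec v = e.equivFun (τ g (e.equivFun.symm v)) := by
      intro g v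
      show (LinearMap.toMatrix e e (τ g)).mulVec v = _
      conv_lhs => rw [show v = e.repr (e.equivFun.symm v) from (e.equivFun.apply_symm_apply v).symm]
      rw [LinearMap.toMatrix_mulVec_repr]
      rfl
  · intro S hS
    let S' : Submodule K W := S.comap e.equivFun.toLinearMap
    have hstab : ∀ (a : A) w, w ∈ S' → a • w ∈ S' := by
      intro a w hw
      induction a using MonoidAlgebra.induction_on with
      | of g =>
        rw [MonoidAlgebra.of_apply]
        have hw' : e.equivFun w ∈ S := hw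
        have := hS g _ hw'
        rw [MonoidHom.coe_toHomUnits, hμ, LinearEquiv.symm_apply_apply] at this
        exact this
      | add u v hu hv => rw [add_smul]; exact S'.add_mem hu hv
      | smul c u hu => rw [smul_assoc]; exact S'.smul_mem c hu
    let SA : Submodule A W := { S'.toAddSubmonoid with smul_mem' := fun a w hw => hstab a w hw }
    rcases eq_bot_or_eq_top SA with h1 | h1
    · left
      rw [Submodule.eq_bot_iff]
      intro v hv
      have : e.equivFun.symm v ∈ SA := by show e.equivFun (e.equivFun.symm v) ∈ S; rwa [LinearEquiv.apply_symm_apply]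
      rw [h1, Submodule.mem_bot] at this
      exact e.equivFun.symm.map_eq_zero_iff.1 this
    · right
      rw [Submodule.eq_top_iff']
      intro v
      have : e.equivFun.symm v ∈ SA := by rw [h1]; trivial
      have h2 : e.equivFun (e.equivFun.symm v) ∈ S := this
      rwa [LinearEquiv.apply_symm_apply] at h2
  · intro g hg v hv
    rw [MonoidHom.coe_toHomUnits, hμ] at hv
    have : τ g (e.equivFun.symm v) = e.equivFun.symm v := by
      apply e.equivFun.injective
      rw [hv, LinearEquiv.apply_symm_apply]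
    have := hfix g hg _ this
    exact e.equivFun.symm.map_eq_zero_iff.1 this

end

/-- Let G be a finite group that occurs as a Frobenius complement. Then G has a faithful irreducible representation over an algebraic closure of the rationals in which no non-identity element of G has 1 as an eigenvalue: there are n ≥ 1 and an injective homomorphism ρ from G to GL(n) over that field, with no invariant subspace other than 0 and the whole space, such that for g ≠ 1 the only vector fixed by ρ(g) is 0. -/
theorem result {G : Type*} [Group G] [Finite G]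
    (hFC : ∃ (L : Type) (_ : Group L) (_ : Finite L) (H : Subgroup L), Cfsg.IsFrobeniusComplement H ∧ Nonempty (G ≃* H)) :
    ∃ (n : ℕ) (ρ : G →* GL (Fin n) (AlgebraicClosure ℚ)), 0 < n ∧ Function.Injective ρ ∧
      (∀ W : Submodule (AlgebraicClosure ℚ) (Fin n → AlgebraicClosure ℚ),
        (∀ g : G, ∀ w ∈ W, ((ρ g : GL (Fin n) (AlgebraicClosure ℚ)) : Matrix (Fin n) (Fin n) (AlgebraicClosure ℚ)).mulVec w ∈ W) → W = ⊥ ∨ W = ⊤) ∧
      ∀ g : G, g ≠ 1 → ∀ v : Fin n → AlgebraicClosure ℚ,
        ((ρ g : GL (Fin n) (AlgebraicClosure ℚ)) : Matrix (Fin n) (Fin n) (AlgebraicClosure ℚ)).mulVec v = v → v = 0 := by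
  classical
  obtain ⟨L, iG, iF, H, hH, ⟨e⟩⟩ := hFC
  obtain ⟨N, hN, hNn, hc, hNb, hfpf⟩ := CfsgLib.Core.FrobeniusConj.exists_kernel hH
  haveI := hNn
  haveI hnil : Group.IsNilpotent N := by
    obtain ⟨K, hK, -, hKn⟩ := Cfsg.Agent.S0042.result H hH
    rwa [SetLike.coe_injective (hN.trans hK.symm)]
  -- an abelian `p`-subgroup on which the complement acts without fixed points
  obtain ⟨p, hp, hpd⟩ := Nat.exists_prime_and_dvd (n := Nat.card N) fun h => hNb (Subgroup.card_eq_one.mp h)
  haveI := Fact.mk hp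
  let P : Sylow p N := default
  haveI : (P : Subgroup N).Characteristic := Sylow.characteristic_of_normal P inferInstance
  haveI : Nontrivial (P : Subgroup N) := (Subgroup.nontrivial_iff_ne_bot _).2 (P.ne_bot_of_dvd_card hpd)
  haveI : Nontrivial (Subgroup.center (P : Subgroup N)) := P.isPGroup'.center_nontrivial
  let V : Subgroup L := (((Subgroup.center (P : Subgroup N)).map (P : Subgroup N).subtype).map N.subtype)
  haveI hPn : ((P : Subgroup N).map N.subtype).Normal := inferInstance
  haveI : ((Subgroup.center (P : Subgroup N)).map (P : Subgroup N).subtype).Characteristic :=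
    Subgroup.characteristic_iff_map_eq.2 fun φ => by
      have hP : (P : Subgroup N).map φ.toMonoidHom = (P : Subgroup N) :=
        Subgroup.characteristic_iff_map_eq.1 inferInstance φ
      ext y
      constructor
      · rintro ⟨_, ⟨z, hz, rfl⟩, rfl⟩
        refine ⟨⟨φ z, hP.le ⟨z, z.2, rfl⟩⟩, ?_, rfl⟩
        rw [SetLike.mem_coe, Subgroup.mem_center_iff]
        rintro ⟨w, hw⟩
        obtain ⟨w', hw', rfl⟩ := (hP.ge hw : w ∈ (P : Subgroup N).map φ.toMonoidHom)
        refine Subtype.ext ?_
        show φ w' * φ z = φ z * φ w'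
        rw [← map_mul, ← map_mul]
        exact congrArg φ (congrArg Subtype.val (Subgroup.mem_center_iff.1 hz ⟨w', hw'⟩))
      · rintro ⟨z, hz, rfl⟩
        obtain ⟨z', hz', hzz⟩ := (hP.ge z.2 : (z : N) ∈ (P : Subgroup N).map φ.toMonoidHom)
        refine ⟨z', ⟨⟨z', hz'⟩, ?_, rfl⟩, hzz⟩
        rw [SetLike.mem_coe, Subgroup.mem_center_iff]
        rintro ⟨w, hw⟩
        refine Subtype.ext (φ.injective ?_)
        show φ (w * z') = φ (z' * w)
        have h1 : φ w ∈ (P : Subgroup N) := hP.le ⟨w, hw, rfl⟩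
        have h2 := congrArg Subtype.val (Subgroup.mem_center_iff.1 hz ⟨φ w, h1⟩)
        rw [map_mul, map_mul, show φ z' = (z : N) from hzz]
        exact h2
  haveI hVn : V.Normal := inferInstance
  have hVc : ∀ a ∈ V, ∀ b ∈ V, a * b = b * a := by
    rintro _ ⟨_, ⟨a, ha, rfl⟩, rfl⟩ _ ⟨_, ⟨b, -, rfl⟩, rfl⟩
    exact congrArg (fun z : (P : Subgroup N) => ((z : N) : L)) (Subgroup.mem_center_iff.1 ha b).symm
  haveI : IsMulCommutative V := ⟨⟨fun a b => Subtype.ext (hVc _ a.2 _ b.2)⟩⟩
  let U : Subgroup L :=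
    { carrier := {v | v ∈ V ∧ v ^ p = 1}
      one_mem' := ⟨V.one_mem, one_pow p⟩
      mul_mem' := fun {a b} ha hb => ⟨V.mul_mem ha.1 hb.1, by
        rw [(show Commute a b from hVc a ha.1 b hb.1).mul_pow, ha.2, hb.2, one_mul]⟩
      inv_mem' := fun {a} ha => ⟨V.inv_mem ha.1, by rw [inv_pow, ha.2, inv_one]⟩ }
  have hUn : ∀ u ∈ U, ∀ g : L, g * u * g⁻¹ ∈ U := fun u hu g =>
    ⟨hVn.conj_mem u hu.1 g, by rw [conj_pow, hu.2, mul_one, mul_inv_cancel]⟩
  haveI : U.Normal := ⟨hUn⟩
  haveI : IsMulCommutative U := ⟨⟨fun a b => Subtype.ext (hVc _ a.2.1 _ b.2.1)⟩⟩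
  haveI hUnt : Nontrivial U := by
    have hd : p ∣ Nat.card (Subgroup.center (P : Subgroup N)) := by
      rcases (P.isPGroup'.to_subgroup (Subgroup.center (P : Subgroup N))).card_eq_or_dvd with h | h
      · exact absurd h (Finite.one_lt_card_iff_nontrivial.2 inferInstance).ne'
      · exact h
    obtain ⟨z, hz⟩ := exists_prime_orderOf_dvd_card' p hd
    have hzp := pow_orderOf_eq_one z
    rw [hz] at hzp
    refine (Subgroup.nontrivial_iff_ne_bot U).2 fun hb => ?_
    have hmem : (((z : (P : Subgroup N)) : N) : L) ∈ U :=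
      ⟨⟨_, ⟨z, z.2, rfl⟩, rfl⟩, congrArg (fun w : Subgroup.center (P : Subgroup N) => (((w : (P : Subgroup N)) : N) : L)) hzp⟩
    rw [hb, Subgroup.mem_bot] at hmem
    have : z = 1 := Subtype.ext (Subtype.ext (Subtype.ext hmem))
    rw [this, orderOf_one] at hz
    exact hp.ne_one hz.symm
  letI : CommGroup U := { (inferInstance : Group U) with
    mul_comm := fun a b => Subtype.ext (hVc _ a.2.1 _ b.2.1) }
  let ψ : G →* AddMonoid.End (Additive U) :=
    { toFun := fun g =>
        ({ toFun := fun u => Additive.ofMul ((MulAut.conjNormal ((e g : H) : L) : MulAut U) (Additive.toMul u))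
           map_zero' := by rw [toMul_zero, map_one, ofMul_one]
           map_add' := fun u v => by rw [toMul_add, map_mul, ofMul_mul] } : Additive U →+ Additive U)
      map_one' := DFunLike.ext _ _ fun u => by
        show Additive.ofMul ((MulAut.conjNormal ((e 1 : H) : L) : MulAut U) (Additive.toMul u)) = u
        rw [map_one, Subgroup.coe_one, map_one]
        rfl
      map_mul' := fun a b => DFunLike.ext _ _ fun u => by
        show Additive.ofMul ((MulAut.conjNormal ((e (a * b) : H) : L) : MulAut U) (Additive.toMul u)) = _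
        rw [map_mul, Subgroup.coe_mul, map_mul]
        rfl }
  have hUN : ∀ u ∈ U, u ∈ N := by
    rintro _ ⟨⟨n, -, rfl⟩, -⟩
    exact n.2
  have hψ : ∀ g : G, g ≠ 1 → ∀ u, ψ g u = u → u = 0 := by
    intro g hg u hu
    have h1 : ((e g : H) : L) * ((Additive.toMul u : U) : L) * ((e g : H) : L)⁻¹ = ((Additive.toMul u : U) : L) :=
      congrArg (fun w : Additive U => ((Additive.toMul w : U) : L)) hu
    have hne : ((e g : H) : L) ≠ 1 := fun h => hg (e.injective (Subtype.ext (by rw [h, map_one]; rfl)))
    have h2 : ((Additive.toMul u : U) : L) ∈ N ⊓ Subgroup.centralizer {((e g : H) : L)} :=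
      ⟨hUN _ (Additive.toMul u).2, Subgroup.mem_centralizer_singleton_iff.2 (mul_inv_eq_iff_eq_mul.1 h1).symm⟩
    rw [hfpf _ (e g).2 hne, Subgroup.mem_bot] at h2
    exact Additive.toMul.injective (Subtype.ext h2)
  have hpG : ¬ p ∣ Nat.card G := by
    rw [Nat.card_congr e.toEquiv]
    intro hd
    exact hp.ne_one (Nat.eq_one_of_dvd_coprimes
      (CfsgLib.Core.FPF.coprime_card (A := H) (K := N) Subgroup.le_normalizer_of_normal hfpf) hd hpd)
  obtain ⟨n, ρ, hn, hirr, hff⟩ := exists_rep (H := G) (fun m hm =>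
    not_mem_normIdeal hpG (W := Additive U) (fun w => by
      apply Additive.toMul.injective
      exact Subtype.ext (Additive.toMul w).2.2) ψ hψ m hm)
  refine ⟨n, ρ, hn, ?_, hirr, hff⟩
  rw [injective_iff_map_eq_one]
  intro g hg
  by_contra hne
  have := hff g hne (Pi.single ⟨0, hn⟩ 1) (by rw [hg, Units.val_one, Matrix.one_mulVec])
  simpa using congrFun this ⟨0, hn⟩

end Cfsg.Agent.S3357
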