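import Cfsg.Statements.S3361
import Cfsg.Agent.S0688
import Cfsg.Agent.Lib.Recog.Zassenhaus.Main
import Cfsg.Agent.Lib.Recog.Zassenhaus.Semilinear
import Cfsg.Agent.Lib.Recog.Zassenhaus.SolvableRegular
-- import your own Cfsg.Agent.* helpers here

set_option autoImplicit false
open Cfsg
open CfsgLib.Recog.Zassenhaus

namespace Cfsg.Agent.S3361

/-- Let q be a prime and V a non-trivial finite vector space over the field with q elements, and let G be a finite solvable group acting faithfully and linearly on V and regularly on the non-zero vectors (transitively, with only the identity fixing a non-zero vector). Then either V can be identified with the additive group of a finite field F so that every element of G acts as x ↦ a·σ(x) (a ∈ F, σ a field automorphism), or V has 5^2, 7^2, 11^2 or 23^2 elements. Moreover, if q ≠ 2 then G has a normal subgroup of index 2, except that when V has 25 elements G may be isomorphic to SL(2,3) and when V has 121 elements G may be isomorphic to SL(2,3)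 × C₅. -/
theorem result
    (q : ℕ) [Fact q.Prime] {V : Type*} [AddCommGroup V] [Module (ZMod q) V] [Finite V] [Nontrivial V]
    {G : Type*} [Group G] [Finite G] (hsol : Group.IsSolvable G)
    (ρ : G →* (V ≃ₗ[ZMod q] V)) (hρ : Function.Injective ρ)
    (htrans : ∀ v w : V, v ≠ 0 → w ≠ 0 → ∃ g : G, ρ g v = w)
    (hreg : ∀ v : V, v ≠ 0 → ∀ g : G, ρ g v = v → g = 1) :
    ((∃ (F : Type) (_ : Field F) (_ : Fintype F) (e : V ≃+ F),
        ∀ g : G, ∃ (a : F) (σ : F ≃+* F), ∀ v : V, e (ρ g v) = a * σ (e v)) ∨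
      Nat.card V ∈ ({25, 49, 121, 529} : Set ℕ)) ∧
    (q ≠ 2 → (∃ N : Subgroup G, N.Normal ∧ N.index = 2) ∨
      (Nat.card V = 25 ∧ Nonempty (G ≃* Matrix.SpecialLinearGroup (Fin 2) (ZMod 3))) ∨
      (Nat.card V = 121 ∧ Nonempty (G ≃* Matrix.SpecialLinearGroup (Fin 2) (ZMod 3) × Multiplicative (ZMod 5)))) := by
  classical
  let H : Subgroup (V ≃ₗ[ZMod q] V) := ρ.range
  let ε : G ≃* H := MonoidHom.ofInjective hρ
  have hregH : ∀ v w : V, v ≠ 0 → w ≠ 0 → ∃! h : H, (h : V ≃ₗ[ZMod q] V) v = w := by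
    intro v w hv hw
    obtain ⟨g, hg⟩ := htrans v w hv hw
    refine ⟨ε g, hg, fun h hh => ?_⟩
    obtain ⟨g', rfl⟩ := ε.surjective h
    have h1 : ρ (g⁻¹ * g') v = v := by
      rw [map_mul, map_inv]
      show (ρ g).symm (ρ g' v) = v
      rw [show ρ g' v = w from hh, ← hg, LinearEquiv.symm_apply_apply]
    rw [inv_mul_eq_one.1 (hreg v hv _ h1)]
  haveI : Finite H := Finite.of_injective ε.symm ε.symm.injective
  have hGV : Nat.card G = Nat.card V - 1 :=
    (Nat.card_congr ε.toEquiv).trans (CfsgLib.Perm.RegularLinear.card_eq hregH)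
  have h2G : q ≠ 2 → 2 ∣ Nat.card G := by
    intro hq
    obtain ⟨b⟩ : Nonempty (Module.Basis (Fin (Module.finrank (ZMod q) V)) (ZMod q) V) := ⟨Module.finBasis _ _⟩
    have hV : Nat.card V = q ^ Module.finrank (ZMod q) V := by
      rw [Module.natCard_eq_pow_finrank (K := ZMod q), Nat.card_zmod]
    have hodd : Odd (q ^ Module.finrank (ZMod q) V) := ((Fact.out : q.Prime).odd_of_ne_two hq).pow
    obtain ⟨k, hk⟩ := hodd
    exact ⟨k, by rw [hGV, hV, hk]; omega⟩
  have hnormal : ∀ {N : Subgroup G}, N.index = 2 → ∃ N : Subgroup G, N.Normal ∧ N.index = 2 :=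
    fun {N} hN => ⟨N, Subgroup.normal_of_index_eq_two hN, hN⟩
  by_cases hI : ∀ A : Subgroup H, A.Normal → IsCyclic A → ∃ W : Submodule (ZMod q) V, W ≠ ⊥ ∧ W ≠ ⊤ ∧
      ∀ a ∈ A, ∀ v ∈ W, ((a : H) : V ≃ₗ[ZMod q] V) v ∈ W
  · haveI : Group.IsSolvable H := Group.isSolvable_of_surjective (f := ε.toMonoidHom) ε.surjective
    have hV := Cfsg.Agent.S0688.result H hregH hI inferInstance
    refine ⟨Or.inr (by simpa using hV), fun hq => ?_⟩
    by_cases hno : ∀ N : Subgroup G, N.index ≠ 2
    · let ρE : G →* Module.End (ZMod q) V :=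
        { toFun := fun g => ((ρ g : V ≃ₗ[ZMod q] V) : V →ₗ[ZMod q] V)
          map_one' := by rw [map_one]; rfl
          map_mul' := fun a b => by rw [map_mul]; rfl }
      obtain ⟨n, hn, ⟨P⟩⟩ := exists_rep_of_module ρE fun g hg v hv => by
        by_contra hv0
        exact hg (hreg v hv0 g hv)
      haveI := hn
      rcases P.solvable_exceptional hno (by rcases hV with h | h | h | h <;> rw [h] at hGV <;> omega) with ⟨hc, e⟩ | ⟨hc, e⟩
      · exact Or.inr (Or.inl ⟨by rcases hV with h | h | h | h <;> rw [h] at hGV ⊢ <;> omega, e⟩)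
      · exact Or.inr (Or.inr ⟨by rcases hV with h | h | h | h <;> rw [h] at hGV ⊢ <;> omega, e⟩)
    · push Not at hno
      obtain ⟨N, hN⟩ := hno
      exact Or.inl (hnormal hN)
  · push Not at hI
    obtain ⟨A, hA, hAc, hirr⟩ := hI
    obtain ⟨⟨F, iF, iFF, e, he⟩, C, hC, hCc, hQc⟩ := exists_semilinear H hregH A hA hAc fun W hW => by
      by_contra hh
      simp only [not_or] at hh
      obtain ⟨a, ha, v, hv, hav⟩ := hirr W hh.1 hh.2
      exact hav (hW a ha v hv)
    refine ⟨Or.inl ⟨F, iF, iFF, e, fun g => he (ε g)⟩, fun hq => Or.inl ?_⟩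
    haveI := hC
    obtain ⟨N, hN⟩ := exists_index_two_of_metacyclic C hCc hQc (Nat.card_congr ε.toEquiv ▸ h2G hq)
    exact hnormal (N := N.comap ε.toMonoidHom) ((Subgroup.index_comap_of_surjective N (f := ε.toMonoidHom) ε.surjective).trans hN)

end Cfsg.Agent.S3361
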