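import Cfsg.Statements.S3362
import Mathlib

set_option autoImplicit false
open Cfsg

namespace Cfsg.Agent.S3362

--- PRE
open MulAction

set_option maxRecDepth 100000
set_option maxHeartbeats 1600000

abbrev P12 := Equiv.Perm (Fin 12)

def ps : P12 := Equiv.swap (3 : Fin 12) 5 * Equiv.swap (3 : Fin 12) 4 * Equiv.swap (6 : Fin 12) 8 * Equiv.swap (6 : Fin 12) 7 * Equiv.swap (9 : Fin 12) 11 * Equiv.swap (9 : Fin 12) 10
def pt : P12 := Equiv.swap (3 : Fin 12) 9 * Equiv.swap (3 : Fin 12) 6 * Equiv.swap (4 : Fin 12) 10 * Equiv.swap (4 : Fin 12) 7 * Equiv.swap (5 : Fin 12) 11 * Equiv.swap (5 : Fin 12) 8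
def pu : P12 := Equiv.swap (4 : Fin 12) 9 * Equiv.swap (4 : Fin 12) 5 * Equiv.swap (4 : Fin 12) 6 * Equiv.swap (7 : Fin 12) 10 * Equiv.swap (7 : Fin 12) 11 * Equiv.swap (7 : Fin 12) 8
def pv : P12 := Equiv.swap (4 : Fin 12) 11 * Equiv.swap (4 : Fin 12) 5 * Equiv.swap (4 : Fin 12) 7 * Equiv.swap (6 : Fin 12) 8 * Equiv.swap (6 : Fin 12) 9 * Equiv.swap (6 : Fin 12) 10
def pw : P12 := Equiv.swap (4 : Fin 12) 8 * Equiv.swap (4 : Fin 12) 5 * Equiv.swap (4 : Fin 12) 10 * Equiv.swap (6 : Fin 12) 7 * Equiv.swap (6 : Fin 12) 9 * Equiv.swap (6 : Fin 12) 11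
def p1 : P12 := Equiv.swap (0 : Fin 12) 3 * Equiv.swap (6 : Fin 12) 7 * Equiv.swap (8 : Fin 12) 10 * Equiv.swap (9 : Fin 12) 11
def p2 : P12 := Equiv.swap (0 : Fin 12) 1 * Equiv.swap (6 : Fin 12) 9 * Equiv.swap (7 : Fin 12) 10 * Equiv.swap (8 : Fin 12) 11
def p3 : P12 := Equiv.swap (1 : Fin 12) 2 * Equiv.swap (6 : Fin 12) 11 * Equiv.swap (7 : Fin 12) 9 * Equiv.swap (8 : Fin 12) 10

def gen (i : ℕ) : P12 := [ps, pt, pu, pv, pw, p1, p2, p3].getD i 1

def ev : List ℕ → P12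
  | [] => 1
  | i :: l => gen i * ev l

def masks : List ℕ := [63, 219, 237, 246, 350, 363, 373, 413, 430, 435, 455, 504, 591, 627, 636, 670, 679, 697, 725, 746, 791, 813, 826, 857, 870, 907, 948, 972, 978, 993, 1117, 1127, 1146, 1175, 1195, 1212, 1230, 1265, 1295, 1334, 1337, 1363, 1388, 1434, 1445, 1481, 1492, 1506, 1563, 1582, 1589, 1622, 1641, 1677, 1714, 1731, 1752, 1764, 1820, 1827, 1861, 1866, 1904, 1926, 1937, 1960, 2135, 2158, 2169, 2191, 2229, 2234, 2268, 2275, 2331, 2343, 2364, 2381, 2418, 2454, 2473, 2506, 2513, 2532, 2589, 2603, 2614, 2650, 2661, 2707, 2732, 2758, 2761, 2800, 2830, 2865, 2883, 2900, 2920, 2949, 2968, 2978, 3102, 3117, 3123, 3147, 3188, 3225, 3238, 3269, 3282, 3304, 3349, 3370, 3398, 3416, 3425, 3459, 3468, 3504, 3591, 3640, 3660, 3665, 3682, 3722, 3732, 3745, 3849, 3858, 3876, 4032]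

def Pres (σ : P12) : Prop := ∀ m ∈ masks, ∃ m' ∈ masks, ∀ i : Fin 12, m'.testBit (σ i : ℕ) = m.testBit (i : ℕ)

def img (t : List ℕ) (m : ℕ) : ℕ :=
  (List.range 12).foldl (fun a i => if m.testBit i then a + 2 ^ (t.getD i 0) else a) 0

def chk (t : List ℕ) : Bool :=
  masks.all fun m => masks.elem (img t m) && (List.range 12).all fun i => (img t m).testBit (t.getD i 0) == m.testBit i

def tabs : List (List ℕ) := [[0, 1, 2, 4, 5, 3, 7, 8, 6, 10, 11, 9], [0, 1, 2, 6, 7, 8, 9, 10, 11, 3, 4, 5], [0, 1, 2, 3, 6, 9, 5, 8, 11, 4, 7, 10], [0, 1, 2, 3, 7, 11, 10, 5, 6, 8, 9, 4], [0, 1, 2, 3, 10, 8, 11, 6, 4, 7, 5, 9], [3, 1, 2, 0, 4, 5, 7, 6, 10, 11, 8, 9], [1, 0, 2, 3, 4, 5, 9, 10, 11, 6, 7, 8], [0, 2, 1, 3, 4, 5, 11, 9, 10, 7, 8, 6]]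

theorem chk_tabs : tabs.all chk = true := by decide +kernel

theorem gens_tabs : ∀ k : Fin 8, ∀ i : Fin 12, (gen k i : ℕ) = (tabs.getD k []).getD i 0 := by decide +kernel

theorem pres_gens : ∀ σ ∈ [ps, pt, pu, pv, pw, p1, p2, p3], Pres σ := by
  intro σ hσ
  obtain ⟨k, rfl⟩ : ∃ k : Fin 8, gen k = σ := by
    simp only [List.mem_cons, List.not_mem_nil, or_false] at hσ
    rcases hσ with rfl | rfl | rfl | rfl | rfl | rfl | rfl | rfl
    exacts [⟨0, rfl⟩, ⟨1, rfl⟩, ⟨2, rfl⟩, ⟨3, rfl⟩, ⟨4, rfl⟩, ⟨5, rfl⟩, ⟨6, rfl⟩, ⟨7, rfl⟩]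
  intro m hm
  have hk : tabs.getD k [] ∈ tabs := by
    rw [List.getD_eq_getElem _ _ (by exact k.isLt)]
    exact List.getElem_mem _
  have h := (List.all_eq_true.1 ((List.all_eq_true.1 chk_tabs) _ hk)) m hm
  simp only [Bool.and_eq_true, List.elem_eq_mem, decide_eq_true_eq, List.all_eq_true, List.mem_range, beq_iff_eq] at h
  exact ⟨_, h.1, fun i => by rw [gens_tabs]; exact h.2 i i.isLt⟩

theorem pres_mul {σ τ : P12} (h : Pres σ) (h' : Pres τ) : Pres (σ * τ) := by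
  intro m hm
  obtain ⟨m', hm', e'⟩ := h' m hm
  obtain ⟨m'', hm'', e''⟩ := h m' hm'
  exact ⟨m'', hm'', fun i => by rw [Equiv.Perm.mul_apply, e'', e']⟩

theorem pres_one : Pres 1 := fun m hm => ⟨m, hm, fun _ => rfl⟩

def six : List (Fin 12) := [2, 1, 0, 3, 4, 5]

def rest : List (Fin 12) := [6, 7, 8, 9, 10, 11]

theorem six_or_rest : ∀ i : Fin 12, i ∈ six ∨ i ∈ rest := by decide +kernel

theorem rest_not_six : ∀ i ∈ rest, i ∉ six := by decide +kernel

theorem sixth : ∀ m ∈ masks, (∀ i ∈ [(2 : Fin 12), (1 : Fin 12), (0 : Fin 12), (3 : Fin 12), (4 : Fin 12)], m.testBit (i : ℕ) = true) →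
    ∀ i : Fin 12, m.testBit (i : ℕ) = true → i ∈ six := by decide +kernel

theorem sixth_ex : ∃ m ∈ masks, ∀ i ∈ six, m.testBit ((i : Fin 12) : ℕ) = true := by decide +kernel

def quads : List (List (Fin 12)) := [[2, 1, 0, 3], [2, 1, 0, 4], [2, 1, 0, 5], [2, 1, 3, 4], [2, 1, 3, 5], [2, 1, 4, 5], [2, 0, 3, 4], [2, 0, 3, 5], [2, 0, 4, 5], [2, 3, 4, 5], [1, 0, 3, 4], [1, 0, 3, 5], [1, 0, 4, 5], [1, 3, 4, 5], [0, 3, 4, 5]]

def pairing : List (List (Fin 12)) := [[0, 1, 2, 3, 4, 5, 9, 11, 10, 6, 8, 7], [0, 1, 2, 3, 4, 5, 11, 10, 9, 8, 7, 6], [0, 1, 2, 3, 4, 5, 10, 9, 11, 7, 6, 8], [0, 1, 2, 3, 4, 5, 8, 9, 6, 7, 11, 10], [0, 1, 2, 3, 4, 5, 11, 8, 7, 10, 9, 6], [0, 1, 2, 3, 4, 5, 7, 6, 10, 11, 8, 9], [0, 1, 2, 3, 4, 5, 10, 8, 7, 11, 6, 9], [0, 1, 2, 3, 4, 5, 7, 6, 9, 8, 11, 10], [0, 1, 2, 3, 4, 5, 8, 11, 6, 10, 9, 7], [0, 1, 2, 3, 4, 5, 9, 10, 11, 6, 7, 8], [0, 1, 2, 3, 4, 5, 7, 6, 11, 10, 9, 8], [0, 1, 2, 3, 4, 5,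 8, 10, 6, 11, 7, 9], [0, 1, 2, 3, 4, 5, 9, 8, 7, 6, 11, 10], [0, 1, 2, 3, 4, 5, 10, 11, 9, 8, 6, 7], [0, 1, 2, 3, 4, 5, 11, 9, 10, 7, 8, 6]]

def pi (k : Fin 15) (x : Fin 12) : Fin 12 := (pairing.getD k []).getD x 0

def piChk (k : Fin 15) (x : Fin 12) : Bool :=
  rest.elem (pi k x) && !(pi k x == x) &&
  (masks.any fun m => ((quads.getD k []).all fun i => m.testBit (i : ℕ)) && m.testBit (x : ℕ) && m.testBit (pi k x : ℕ)) &&
  (masks.all fun m => !(((quads.getD k []).all fun i => m.testBit (i : ℕ)) && m.testBit (x : ℕ)) ||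
    (List.finRange 12).all fun i => !m.testBit (i : ℕ) || (quads.getD k []).elem i || i == x || i == pi k x)

theorem piChk_all : ((List.finRange 15).all fun k => rest.all fun x => piChk k x) = true := by decide +kernel

theorem pi_spec (k : Fin 15) (x : Fin 12) (hx : x ∈ rest) : pi k x ∈ rest ∧ pi k x ≠ x ∧
    (∃ m ∈ masks, (∀ i ∈ quads.getD k [], m.testBit ((i : Fin 12) : ℕ) = true) ∧ m.testBit (x : ℕ) = true ∧ m.testBit (pi k x : ℕ) = true) ∧
    ∀ m ∈ masks, (∀ i ∈ quads.getD k [], m.testBit ((i : Fin 12) : ℕ) = true) → m.testBit (x : ℕ) = true →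
      ∀ i : Fin 12, m.testBit (i : ℕ) = true → i ∈ quads.getD k [] ∨ i = x ∨ i = pi k x := by
  have h := List.all_eq_true.1 (List.all_eq_true.1 piChk_all k (List.mem_finRange k)) x hx
  simp only [piChk, Bool.and_eq_true] at h
  obtain ⟨⟨⟨h1, h2⟩, h3⟩, h4⟩ := h
  refine ⟨by simpa using h1, by simpa using h2, ?_, ?_⟩
  · obtain ⟨m, hm, h5⟩ := List.any_eq_true.1 h3
    simp only [Bool.and_eq_true, List.all_eq_true] at h5
    exact ⟨m, hm, h5.1.1, h5.1.2, h5.2⟩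
  · intro m hm hq hxm i him
    have h6 := List.all_eq_true.1 h4 m hm
    have hq' : ((quads.getD k []).all fun i => m.testBit (i : ℕ)) = true := List.all_eq_true.2 hq
    rw [hq', hxm] at h6
    simp only [Bool.and_self, Bool.not_true, Bool.false_or, List.all_eq_true] at h6
    have h7 := h6 i (List.mem_finRange i)
    rw [him] at h7
    simpa [or_assoc] using h7

theorem quads_six : ∀ k : Fin 15, ∀ i ∈ quads.getD k [], i ∈ six := by decide +kernel

def evPi : List (Fin 15) → Fin 12 → Fin 12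
  | [], x => x
  | k :: l, x => pi k (evPi l x)

theorem evPi_found : ∀ x ∈ rest, evPi [7, 4, 1, 0] x = x → x = 6 := by decide +kernel

theorem evPi_found' : evPi [7, 4, 1, 0] 6 = 6 := by decide +kernel

theorem evPi_tree : ∀ x ∈ rest, ∃ w ∈ [([] : List (Fin 15)), ([0] : List (Fin 15)), ([1] : List (Fin 15)), ([2] : List (Fin 15)), ([3] : List (Fin 15)), ([5] : List (Fin 15))], evPi w 6 = x := by decide +kernel

theorem base_six : ∀ j ∈ [(2 : Fin 12), (1 : Fin 12), (0 : Fin 12), (3 : Fin 12), (4 : Fin 12)], j ∈ six := by decide +kernel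

theorem six_cases : ∀ i ∈ six, i ∈ [(2 : Fin 12), (1 : Fin 12), (0 : Fin 12), (3 : Fin 12), (4 : Fin 12)] ∨ i = 5 := by decide +kernel

/-- an automorphism of the hexads fixing five points is trivial -/
theorem eq_one_of_fix {σ : P12} (hσ : Pres σ) (h : ∀ i ∈ [(2 : Fin 12), (1 : Fin 12), (0 : Fin 12), (3 : Fin 12), (4 : Fin 12)], σ i = i) : σ = 1 := by
  have hsix : ∀ i ∈ six, σ i = i := by
    intro i hi
    obtain ⟨m, hm, hm6⟩ := sixth_ex
    obtain ⟨m', hm', e⟩ := hσ m hm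
    have hb : ∀ j ∈ [(2 : Fin 12), (1 : Fin 12), (0 : Fin 12), (3 : Fin 12), (4 : Fin 12)], m'.testBit (j : ℕ) = true := fun j hj => by
      have := e j
      rw [h j hj] at this
      rw [this]; exact hm6 j (base_six j hj)
    have h6 : σ i ∈ six := sixth m' hm' hb _ (by rw [e i]; exact hm6 i hi)
    by_cases hi5 : i ∈ [(2 : Fin 12), (1 : Fin 12), (0 : Fin 12), (3 : Fin 12), (4 : Fin 12)]
    · exact h i hi5
    · have hif : i = 5 := (six_cases i hi).resolve_left hi5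
      subst hif
      by_contra hne
      have hcase : σ 5 ∈ [(2 : Fin 12), (1 : Fin 12), (0 : Fin 12), (3 : Fin 12), (4 : Fin 12)] := by
        revert h6 hne; generalize σ (5 : Fin 12) = j; revert j; decide
      exact hne (σ.injective (h _ hcase))
  have hrest : ∀ x ∈ rest, σ x ∈ rest := fun x hx => (six_or_rest (σ x)).resolve_left fun h6 =>
    rest_not_six x hx (by
      have := σ.injective (hsix _ h6)
      rw [← this]; exact h6)
  have hpi : ∀ k : Fin 15, ∀ x ∈ rest, σ (pi k x) = pi k (σ x) := by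
    intro k x hx
    obtain ⟨hr, hne, ⟨m, hm, hq, hxm, hym⟩, -⟩ := pi_spec k x hx
    obtain ⟨m', hm', e⟩ := hσ m hm
    obtain ⟨-, -, -, huniq⟩ := pi_spec k (σ x) (hrest x hx)
    have hq' : ∀ i ∈ quads.getD k [], m'.testBit ((i : Fin 12) : ℕ) = true := fun i hi => by
      have := e i
      rw [hsix i (quads_six k i hi)] at this
      rw [this]; exact hq i hi
    rcases huniq m' hm' hq' (by rw [e x]; exact hxm) _ (by rw [e (pi k x)]; exact hym) with h1 | h1 | h1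
    · exact absurd (quads_six k _ h1) (rest_not_six _ (hrest _ hr))
    · exact absurd (σ.injective h1) hne
    · exact h1
  have hev : ∀ (w : List (Fin 15)), ∀ x ∈ rest, evPi w x ∈ rest ∧ σ (evPi w x) = evPi w (σ x) := by
    intro w
    induction w with
    | nil => exact fun x hx => ⟨hx, rfl⟩
    | cons k l ih => exact fun x hx => ⟨(pi_spec k _ (ih x hx).1).1, by
        show σ (pi k (evPi l x)) = pi k (evPi l (σ x))
        rw [hpi k _ (ih x hx).1, (ih x hx).2]⟩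
  have h0r : (6 : Fin 12) ∈ rest := by decide
  have h0 : σ 6 = 6 := by
    refine evPi_found _ (hrest _ h0r) ?_
    rw [← (hev _ _ h0r).2, evPi_found']
  refine Equiv.ext fun x => ?_
  show σ x = x
  rcases six_or_rest x with hx | hx
  · exact hsix x hx
  · obtain ⟨w, -, rfl⟩ := evPi_tree x hx
    rw [(hev w _ h0r).2, h0]

def base : Fin 5 → Fin 12 := ![2, 1, 0, 3, 4]

def words : List (List (Fin 12 × List ℕ)) := [[(0, [6, 7]), (1, [7]), (2, []), (3, [5, 6, 7]), (4, [0, 5, 6, 7]), (5, [0, 0, 5, 6, 7]), (6, [1, 5, 6, 7]), (7, [1, 0, 5, 6, 7]), (8, [1, 0, 0, 5, 6, 7]), (9, [1, 1, 5, 6, 7]), (10, [4, 0, 5, 6, 7]), (11, [4, 1, 5, 6, 7])],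
  [(0, [6]), (1, []), (3, [5, 6]), (4, [0, 5, 6]), (5, [0, 0, 5, 6]), (6, [1, 5, 6]), (7, [1, 0, 5, 6]), (8, [1, 0, 0, 5, 6]), (9, [1, 1, 5, 6]), (10, [4, 0, 5, 6]), (11, [4, 1, 5, 6])],
  [(0, []), (3, [5]), (4, [0, 5]), (5, [0, 0, 5]), (6, [1, 5]), (7, [1, 0, 5]), (8, [1, 0, 0, 5]), (9, [1, 1, 5]), (10, [4, 0, 5]), (11, [4, 1, 5])],
  [(3, []), (4, [0]), (5, [0, 0]), (6, [1]), (7, [1, 0]), (8, [1, 0, 0]), (9, [1, 1]), (10, [4, 0]), (11, [4, 1])],
  [(4, []), (5, [2, 2]), (6, [2]), (7, [3]), (8, [2, 3]), (9, [3, 4]), (10, [4]), (11, [4, 2])]]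

def allowed (k : Fin 5) : List ℕ := ([[0, 1, 2, 3, 4, 5, 6, 7], [0, 1, 2, 3, 4, 5, 6], [0, 1, 2, 3, 4, 5], [0, 1, 2, 3, 4], [2, 3, 4]] : List (List ℕ)).getD k []

theorem chain : ∀ k : Fin 5, ∀ x : Fin 12, (∀ j : Fin 5, j < k → x ≠ base j) →
    ∃ e ∈ words.getD k [], e.1 = x ∧ ev e.2 (base k) = x ∧ (∀ i ∈ e.2, i ∈ allowed k) ∧ ∀ j : Fin 5, j < k → ev e.2 (base j) = base j := by
  decide +kernel

theorem exists_map (H : Subgroup P12) (k0 : ℕ) (hgen : ∀ k : Fin 5, k0 ≤ (k : ℕ) → ∀ i ∈ allowed k, gen i ∈ H)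
    (y : Fin 5 → Fin 12) (hy : Function.Injective y) (hy0 : ∀ j : Fin 5, (j : ℕ) < k0 → y j = base j) :
    ∀ n : ℕ, n ≤ 5 → ∃ g ∈ H, ∀ j : Fin 5, (j : ℕ) < n → g (base j) = y j := by
  intro n
  induction n with
  | zero => exact fun _ => ⟨1, H.one_mem, fun j hj => absurd hj (Nat.not_lt_zero _)⟩
  | succ n ih =>
    intro hn
    rcases Nat.lt_or_ge n k0 with hk | hk
    · exact ⟨1, H.one_mem, fun j hj => (hy0 j (by omega)).symm⟩
    obtain ⟨g, hg, hgy⟩ := ih (by omega)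
    obtain ⟨e, -, -, he, hei, hej⟩ := chain ⟨n, by omega⟩ (g.symm (y ⟨n, by omega⟩)) (by
      intro j hj h
      rw [Equiv.symm_apply_eq, hgy j hj] at h
      exact absurd (congrArg Fin.val (hy h)) (by have : (j : ℕ) < n := hj; simp; omega))
    have hmem : ∀ l : List ℕ, (∀ i ∈ l, i ∈ allowed ⟨n, by omega⟩) → ev l ∈ H := by
      intro l
      induction l with
      | nil => exact fun _ => H.one_mem
      | cons i l ihl => exact fun h => H.mul_mem (hgen ⟨n, by omega⟩ hk i (h i List.mem_cons_self)) (ihl fun j hj => h j (List.mem_cons_of_mem _ hj))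
    refine ⟨g * ev e.2, H.mul_mem hg (hmem _ hei), fun j hj => ?_⟩
    rw [Equiv.Perm.mul_apply]
    rcases Nat.lt_or_ge (j : ℕ) n with h | h
    · rw [hej j h, hgy j h]
    · have hjn : j = ⟨n, Nat.lt_of_succ_le hn⟩ := Fin.ext (by simp; omega)
      rw [hjn, he, Equiv.apply_symm_apply]

/-- An explicit construction of the Mathieu groups of degrees 11 and 12. On the points 0, …, 11 let s = (3 4 5)(6 7 8)(9 10 11), t = (3 6 9)(4 7 10)(5 8 11), u = (4 6 5 9)(7 8 11 10), v = (4 7 5 11)(6 10 9 8), w = (4 10 5 8)(6 11 9 7), x₁ = (0 3)(6 7)(8 10)(9 11), x₂ = (0 1)(6 9)(7 10)(8 11), x₃ = (1 2)(6 11)(7 9)(8 10) (each written as a product of transpositions). Then the group M₁₂ generated by all eight permutations is sharply 5-transitive on the 12 points and has order 95040, and the group M₁₁ generated by the first seven has order 7920 and is the stabilizer of the point 2 in M₁₂. -/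
theorem result
    (s t u v w x₁ x₂ x₃ : Equiv.Perm (Fin 12))
    (hs : s = Equiv.swap (3 : Fin 12) 5 * Equiv.swap (3 : Fin 12) 4 * Equiv.swap (6 : Fin 12) 8 * Equiv.swap (6 : Fin 12) 7 * Equiv.swap (9 : Fin 12) 11 * Equiv.swap (9 : Fin 12) 10) (ht : t = Equiv.swap (3 : Fin 12) 9 * Equiv.swap (3 : Fin 12) 6 * Equiv.swap (4 : Fin 12) 10 * Equiv.swap (4 : Fin 12) 7 * Equiv.swap (5 : Fin 12) 11 * Equiv.swap (5 : Fin 12) 8)
    (hu : u = Equiv.swap (4 : Fin 12) 9 * Equiv.swap (4 : Fin 12) 5 * Equiv.swap (4 : Fin 12) 6 * Equiv.swap (7 : Fin 12) 10 * Equiv.swap (7 : Fin 12) 11 * Equiv.swap (7 : Fin 12) 8) (hv : v = Equiv.swap (4 : Fin 12) 11 * Equiv.swap (4 : Fin 12) 5 * Equiv.swap (4 : Fin 12) 7 * Equiv.swap (6 : Fin 12) 8 * Equiv.swap (6 : Fin 12) 9 * Equiv.swap (6 : Fin 12) 10) (hw : w = Equiv.swap (4 : Fin 12) 8 * Equiv.swap (4 : Fin 12) 5 * Equiv.swap (4 : Fin 12) 10 * Equiv.swap (6 : Fin 12) 7 * Equiv.swap (6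 : Fin 12) 9 * Equiv.swap (6 : Fin 12) 11)
    (hx₁ : x₁ = Equiv.swap (0 : Fin 12) 3 * Equiv.swap (6 : Fin 12) 7 * Equiv.swap (8 : Fin 12) 10 * Equiv.swap (9 : Fin 12) 11) (hx₂ : x₂ = Equiv.swap (0 : Fin 12) 1 * Equiv.swap (6 : Fin 12) 9 * Equiv.swap (7 : Fin 12) 10 * Equiv.swap (8 : Fin 12) 11)
    (hx₃ : x₃ = Equiv.swap (1 : Fin 12) 2 * Equiv.swap (6 : Fin 12) 11 * Equiv.swap (7 : Fin 12) 9 * Equiv.swap (8 : Fin 12) 10)
    (M₁₂ M₁₁ : Subgroup (Equiv.Perm (Fin 12))) (hM₁₂ : M₁₂ = Subgroup.closure {s, t, u, v, w, x₁, x₂, x₃})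
    (hM₁₁ : M₁₁ = Subgroup.closure {s, t, u, v, w, x₁, x₂}) :
    MulAction.IsMultiplyPretransitive M₁₂ (Fin 12) 5 ∧ (∀ y : Fin 5 ↪ Fin 12, MulAction.stabilizer M₁₂ y = ⊥) ∧
    Nat.card M₁₂ = 95040 ∧ Nat.card M₁₁ = 7920 ∧
    M₁₁ = M₁₂ ⊓ MulAction.stabilizer (Equiv.Perm (Fin 12)) (2 : Fin 12) := by
  subst hM₁₂
  subst hM₁₁
  obtain rfl : s = ps := hs
  obtain rfl : t = pt := ht
  obtain rfl : u = pu := hu
  obtain rfl : v = pv := hv
  obtain rfl : w = pw := hw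
  obtain rfl : x₁ = p1 := hx₁
  obtain rfl : x₂ = p2 := hx₂
  obtain rfl : x₃ = p3 := hx₃
  set M := Subgroup.closure ({ps, pt, pu, pv, pw, p1, p2, p3} : Set P12) with hM
  set L := Subgroup.closure ({ps, pt, pu, pv, pw, p1, p2} : Set P12) with hL
  have hgen : ∀ i, gen i ∈ M := by
    intro i
    rcases Nat.lt_or_ge i 8 with h | h
    · interval_cases i <;> exact Subgroup.subset_closure (by simp [gen])
    · have : gen i = 1 := List.getD_eq_default _ _ (by simpa using h)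
      rw [this]; exact M.one_mem
  have hgenL : ∀ k : Fin 5, 1 ≤ (k : ℕ) → ∀ i ∈ allowed k, gen i ∈ L := by
    intro k hk i hi
    have h7 : i < 7 := by revert hi; revert hk; fin_cases k <;> simp [allowed] <;> omega
    interval_cases i <;> exact Subgroup.subset_closure (by simp [gen])
  have hpres : ∀ g ∈ M, Pres g := by
    intro g hg
    have hgen' : g ∈ Submonoid.closure ({ps, pt, pu, pv, pw, p1, p2, p3} : Set P12) := by
      rw [← Subgroup.closure_toSubmonoid_of_finite]; exact hg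
    induction hgen' using Submonoid.closure_induction with
    | mem x hx => exact pres_gens x (by simpa using hx)
    | one => exact pres_one
    | mul x y hx hy ihx ihy =>
      have hx' : x ∈ M := by
        have : x ∈ M.toSubmonoid := by rw [hM, Subgroup.closure_toSubmonoid_of_finite]; exact hx
        exact this
      have hy' : y ∈ M := by
        have : y ∈ M.toSubmonoid := by rw [hM, Subgroup.closure_toSubmonoid_of_finite]; exact hy
        exact this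
      exact pres_mul (ihx hx') (ihy hy')
  have htrans : ∀ y : Fin 5 ↪ Fin 12, ∃ g ∈ M, ∀ j : Fin 5, g (base j) = y j := fun y => by
    obtain ⟨g, hg, h⟩ := exists_map M 0 (fun _ _ i _ => hgen i) y y.injective (fun j hj => absurd hj (Nat.not_lt_zero _)) 5 le_rfl
    exact ⟨g, hg, fun j => h j j.isLt⟩
  let b : Fin 5 ↪ Fin 12 := ⟨base, by decide⟩
  have htr : MulAction.IsPretransitive M (Fin 5 ↪ Fin 12) := by
    refine ⟨fun y z => ?_⟩
    obtain ⟨g, hg, hgy⟩ := htrans y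
    obtain ⟨h, hh, hhz⟩ := htrans z
    refine ⟨⟨h, hh⟩ * ⟨g, hg⟩⁻¹, Function.Embedding.ext fun j => ?_⟩
    show h (g⁻¹ (y j)) = z j
    rw [← hgy j, Equiv.Perm.inv_def, Equiv.symm_apply_apply, hhz]
  have hmp : MulAction.IsMultiplyPretransitive M (Fin 12) 5 := htr
  haveI := htr
  have hfree : ∀ y : Fin 5 ↪ Fin 12, MulAction.stabilizer M y = ⊥ := by
    intro y
    rw [eq_bot_iff]
    intro k hk
    obtain ⟨g, hg, hgy⟩ := htrans y
    have hfix : ∀ j, k.1 (y j) = y j := fun j => congrArg (fun e : Fin 5 ↪ Fin 12 => e j) hk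
    have h1 : g⁻¹ * k.1 * g = 1 := by
      refine eq_one_of_fix (hpres _ (M.mul_mem (M.mul_mem (M.inv_mem hg) k.2) hg)) fun i hi => ?_
      obtain ⟨j, rfl⟩ : ∃ j, base j = i := by revert hi; revert i; decide
      show g⁻¹ (k.1 (g (base j))) = base j
      rw [hgy j, hfix j, ← hgy j, Equiv.Perm.inv_def, Equiv.symm_apply_apply]
    rw [Subgroup.mem_bot]
    apply Subtype.ext
    calc k.1 = g * (g⁻¹ * k.1 * g) * g⁻¹ := by group
      _ = 1 := by rw [h1]; group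
  have hcard : Nat.card M = 95040 := by
    have h := @MulAction.index_stabilizer_of_transitive M (Fin 5 ↪ Fin 12) _ _ b htr
    rw [hfree b, Subgroup.index_bot, Nat.card_eq_fintype_card (α := Fin 5 ↪ Fin 12), Fintype.card_embedding_eq] at h
    rw [h]
    decide
  have hLM : L ≤ M := Subgroup.closure_mono (by
    intro x hx
    simp only [Set.mem_insert_iff, Set.mem_singleton_iff] at hx ⊢
    tauto)
  have hL2 : L ≤ MulAction.stabilizer P12 (2 : Fin 12) := by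
    rw [hL, Subgroup.closure_le]
    rintro x (rfl | rfl | rfl | rfl | rfl | rfl | rfl) <;>
      (show _ = (2 : Fin 12); decide +kernel)
  have hdec : M ⊓ MulAction.stabilizer P12 (2 : Fin 12) ≤ L := by
    rintro g ⟨hg, hg2⟩
    have hy0 : ∀ j : Fin 5, (j : ℕ) < 1 → g (base j) = base j := fun j hj => by
      obtain rfl : j = 0 := Fin.ext (by simp; omega)
      exact hg2
    obtain ⟨h, hh, hhy⟩ := exists_map L 1 hgenL (fun j => g (base j)) (g.injective.comp b.injective) hy0 5 le_rfl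
    have : h⁻¹ * g = 1 := by
      refine eq_one_of_fix (hpres _ (M.mul_mem (M.inv_mem (hLM hh)) hg)) fun i hi => ?_
      obtain ⟨j, rfl⟩ : ∃ j, base j = i := by revert hi; revert i; decide
      show h⁻¹ (g (base j)) = base j
      rw [← hhy j j.isLt, Equiv.Perm.inv_def, Equiv.symm_apply_apply]
    rw [inv_mul_eq_one] at this
    exact this ▸ hh
  have heq : L = M ⊓ MulAction.stabilizer P12 (2 : Fin 12) := le_antisymm (le_inf hLM hL2) hdec
  refine ⟨hmp, hfree, hcard, ?_, heq⟩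
  haveI : MulAction.IsPretransitive M (Fin 12) := by
    haveI := hmp
    exact MulAction.isPretransitive_of_is_two_pretransitive (h2 := MulAction.isMultiplyPretransitive_of_le (n := 5) (by norm_num) (by simp))
  have hidx := MulAction.index_stabilizer_of_transitive M (2 : Fin 12)
  have hmul := (MulAction.stabilizer M (2 : Fin 12)).card_mul_index
  rw [hidx, hcard, Nat.card_eq_fintype_card (α := Fin 12), Fintype.card_fin] at hmul
  have hmap : (MulAction.stabilizer M (2 : Fin 12)).map M.subtype = L := by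
    rw [heq]
    ext x
    constructor
    · rintro ⟨y, hy, rfl⟩; exact ⟨y.2, hy⟩
    · rintro ⟨hx, hx2⟩; exact ⟨⟨x, hx⟩, hx2, rfl⟩
  rw [← hmap, ← Nat.card_congr ((MulAction.stabilizer M (2 : Fin 12)).equivMapOfInjective _ M.subtype_injective).toEquiv]
  omega

end Cfsg.Agent.S3362
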