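import Cfsg.Statements.S3365
import Cfsg.Agent.Lib.Fixity.Two
import Cfsg.Agent.Lib.Fixity.Three

set_option autoImplicit false
open Cfsg
open scoped commutatorElement

namespace Cfsg.Agent.S3365

/-- Finite simple groups acting with fixity 4. Let G be a finite non-abelian simple group acting faithfully and transitively on a finite set so that every non-identity element fixes at most 4 points and some non-identity element fixes exactly 4 (fixity 4). Let P be a Sylow 3-subgroup, S a Sylow 2-subgroup, f the largest number of fixed points of an involution of G, and a a point. Then one of the following holds: (1) f ≥ 1 and G has a strongly embedded subgroup; (2) 1 ≤ f ≤ 3 and S is dihedral or semidihedral; (3) f = 4 and G has sectional 2-rank at most 4; (4) the point stabilizer G_a has odd order divisible by 3 and either G has a strongly 3-embedded subgroup (a proper subgroup H of order divisible by 3 such that H ∩ gHg⁻¹ has order prime to 3 for every element g outside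 H), or |P| = 3 and a Sylow 2-subgroup of N_G(P) has order at most 4, or P is elementary abelian of order 9, or P is extraspecial of order 27 and exponent 3, or P is isomorphic to a Sylow 3-subgroup of Sym(9) (the wreath product C₃ ≀ C₃); (5) G_a has order prime to 6. -/
theorem result {G Ω : Type*} [Group G] [Finite G] [IsSimpleGroup G] (hna : ¬ IsMulCommutative G)
    [MulAction G Ω] [FaithfulSMul G Ω] [Finite Ω] (htrans : MulAction.IsPretransitive G Ω)
    (hfix : ∀ g : G, g ≠ 1 → Nat.card (MulAction.fixedBy Ω g) ≤ 4)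
    (hfix4 : ∃ g : G, g ≠ 1 ∧ Nat.card (MulAction.fixedBy Ω g) = 4)
    (P : Sylow 3 G) (S : Sylow 2 G) (f : ℕ)
    (hf : ∀ g : G, orderOf g = 2 → Nat.card (MulAction.fixedBy Ω g) ≤ f)
    (hf' : ∃ g : G, orderOf g = 2 ∧ Nat.card (MulAction.fixedBy Ω g) = f) (a : Ω) :
    (1 ≤ f ∧ ∃ H : Subgroup G, Cfsg.IsStronglyEmbedded H) ∨
    (1 ≤ f ∧ f ≤ 3 ∧ ((∃ n : ℕ, Nonempty ((S : Subgroup G) ≃* DihedralGroup n)) ∨ Cfsg.IsQuasiDihedral (S : Subgroup G))) ∨
    (f = 4 ∧ Cfsg.SectionalPRankLE 2 4 G) ∨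
    (Odd (Nat.card (MulAction.stabilizer G a)) ∧ 3 ∣ Nat.card (MulAction.stabilizer G a) ∧
      ((∃ H : Subgroup G, H ≠ ⊤ ∧ 3 ∣ Nat.card H ∧ ∀ g : G, g ∉ H → ¬ 3 ∣ Nat.card ↥(H ⊓ H.map (MulAut.conj g).toMonoidHom)) ∨
       (Nat.card P = 3 ∧ ∀ T : Sylow 2 (Subgroup.normalizer ((P : Subgroup G) : Set G)), Nat.card T ≤ 4) ∨
       (Nat.card P = 9 ∧ ∀ x ∈ (P : Subgroup G), x ^ 3 = 1) ∨
       (Nat.card P = 27 ∧ Cfsg.IsExtraspecial 3 (P : Subgroup G) ∧ ∀ x ∈ (P : Subgroup G), x ^ 3 = 1) ∨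
       (∃ T : Sylow 3 (Equiv.Perm (Fin 9)), Nonempty ((P : Subgroup G) ≃* (T : Subgroup (Equiv.Perm (Fin 9))))))) ∨
    (Nat.card (MulAction.stabilizer G a)).Coprime 6 := by
  classical
  haveI : Fact (Nat.Prime 2) := ⟨Nat.prime_two⟩
  have hs : CfsgLib.Fixity.Small G Ω := fun g hg => by rw [← Nat.card_coe_set_eq]; exact hfix g hg
  have hperf : commutator G = ⊤ := by
    refine ((inferInstance : (commutator G).Normal).eq_bot_or_eq_top).resolve_left fun h => hna ⟨⟨fun x y => ?_⟩⟩
    have hc : ⁅x, y⁆ ∈ commutator G :=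
      Subgroup.commutator_mem_commutator (Subgroup.mem_top x) (Subgroup.mem_top y)
    rw [h, Subgroup.mem_bot, commutatorElement_eq_one_iff_mul_comm] at hc
    exact hc
  by_cases hex : ∃ (g : G) (c : Ω), orderOf g = 2 ∧ g • c = c
  · have hf1 : 1 ≤ f := by
      obtain ⟨g, c, hg, hgc⟩ := hex
      refine le_trans ?_ (hf g hg)
      haveI : Nonempty (MulAction.fixedBy Ω g) := ⟨⟨c, hgc⟩⟩
      exact Nat.card_pos
    rcases CfsgLib.Fixity.two hna hperf hs S (f := f)
      (fun g hg => by rw [← Nat.card_coe_set_eq]; exact hf g hg)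
      (by obtain ⟨g, hg, h⟩ := hf'; exact ⟨g, hg, by rw [← Nat.card_coe_set_eq]; exact h⟩)
      hex with h | ⟨h3, h⟩ | ⟨h4, h⟩
    · exact Or.inl ⟨hf1, h⟩
    · exact Or.inr (Or.inl ⟨hf1, h3, h⟩)
    · exact Or.inr (Or.inr (Or.inl ⟨h4, CfsgLib.Fixity.sectional_of_sylow S h⟩))
  have hodd : ∀ c : Ω, Odd (Nat.card (MulAction.stabilizer G c)) := fun c => by
    rw [← Nat.not_even_iff_odd]
    intro heven
    obtain ⟨g, hg⟩ := exists_prime_orderOf_dvd_card' (G := MulAction.stabilizer G c) 2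
      (even_iff_two_dvd.1 heven)
    exact hex ⟨g, c, by rw [Subgroup.orderOf_coe, hg], g.2⟩
  by_cases h3 : 3 ∣ Nat.card (MulAction.stabilizer G a)
  · refine Or.inr (Or.inr (Or.inr (Or.inl ⟨hodd a, h3, ?_⟩)))
    rcases CfsgLib.Fixity.three hperf hs hodd P h3 with h | h | h | h
    · exact Or.inl h
    · exact Or.inr (Or.inr (Or.inl h))
    · exact Or.inr (Or.inr (Or.inr (Or.inl h)))
    · exact Or.inr (Or.inr (Or.inr (Or.inr h)))
  · refine Or.inr (Or.inr (Or.inr (Or.inr ?_)))
    rw [show (6 : ℕ) = 2 * 3 from rfl, Nat.coprime_mul_iff_right]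
    exact ⟨Nat.coprime_two_right.2 (hodd a),
      Nat.coprime_comm.1 ((Nat.Prime.coprime_iff_not_dvd Nat.prime_three).2 h3)⟩

end Cfsg.Agent.S3365
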