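import Cfsg.Statements.S3366
import Cfsg.Agent.Lib.Recog.HeisSL.Centralizer
import Cfsg.Agent.Lib.Recog.HeisSL.Complement

set_option autoImplicit false
set_option linter.all false
open Cfsg
open scoped commutatorElement

namespace Cfsg.Agent.S3366

/-- Let X be a finite group with O₃(X) extraspecial of order 27 and exponent 3, X/O₃(X) isomorphic to SL(2,3), O₂(X) = 1, and a Sylow 3-subgroup of X containing an elementary abelian subgroup of order 27. Then X is isomorphic to the centralizer in PSp(4,3) of a 3-central element of order 3 (an element of order 3 in the centre of a Sylow 3-subgroup). -/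
theorem result {X : Type*} [Group X] [Finite X]
    (hR : Cfsg.IsExtraspecial 3 (Cfsg.pCore 3 X)) (hRcard : Nat.card (Cfsg.pCore 3 X) = 27)
    (hRexp : ∀ r ∈ Cfsg.pCore 3 X, r ^ 3 = 1)
    (e : X ⧸ Cfsg.pCore 3 X ≃* Matrix.SpecialLinearGroup (Fin 2) (ZMod 3))
    (hO2 : Cfsg.pCore 2 X = ⊥)
    (hE : ∃ E : Subgroup X, IsMulCommutative E ∧ (∀ a ∈ E, a ^ 3 = 1) ∧ Nat.card E = 27)
    (F : Type*) [Field F] [Fintype F] (hF : Fintype.card F = 3) :
    ∃ (c : Cfsg.PSp 2 F) (S : Sylow 3 (Cfsg.PSp 2 F)), orderOf c = 3 ∧ c ∈ (S : Subgroup (Cfsg.PSp 2 F)) ∧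
      c ∈ Subgroup.centralizer ((S : Subgroup (Cfsg.PSp 2 F)) : Set (Cfsg.PSp 2 F)) ∧
      Nonempty (X ≃* Subgroup.centralizer ({c} : Set (Cfsg.PSp 2 F))) := by
  set R := Cfsg.pCore 3 X with hRdef
  let h : CfsgLib.Recog.HeisSL.Hyp X :=
    { R := R
      π := e.toMonoidHom.comp (QuotientGroup.mk' R)
      surj := e.surjective.comp (QuotientGroup.mk'_surjective R)
      ker := by
        ext x
        simp
      cardR := hRcard
      expR := hRexp
      Z := (Subgroup.center R).map R.subtype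
      normalZ := by
        refine ⟨fun z hz g => ?_⟩
        obtain ⟨z, hz, rfl⟩ := hz
        have hn : R.Normal := inferInstance
        refine ⟨⟨g * (z : X) * g⁻¹, hn.conj_mem _ z.2 g⟩, ?_, rfl⟩
        refine Subgroup.mem_center_iff.2 fun r => Subtype.ext ?_
        have hr := Subgroup.mem_center_iff.1 hz ⟨g⁻¹ * (r : X) * g, by
          simpa using hn.conj_mem _ r.2 g⁻¹⟩
        have hr' : (g⁻¹ * (r : X) * g) * z = z * (g⁻¹ * (r : X) * g) := congrArg Subtype.val hr
        show (r : X) * (g * z * g⁻¹) = g * z * g⁻¹ * r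
        calc (r : X) * (g * z * g⁻¹) = g * ((g⁻¹ * r * g) * z) * g⁻¹ := by group
          _ = g * (z * (g⁻¹ * r * g)) * g⁻¹ := by rw [hr']
          _ = _ := by group
      cardZ := by
        rw [Subgroup.card_map_of_injective R.subtype_injective]
        exact hR.2
      ZR := Subgroup.map_subtype_le _
      centre := fun c hc hall =>
        ⟨⟨c, hc⟩, Subgroup.mem_center_iff.2 fun r => Subtype.ext (hall r r.2), rfl⟩
      Zcomm := by
        rintro _ ⟨c, hc, rfl⟩ r hr
        exact congrArg Subtype.val (Subgroup.mem_center_iff.1 hc ⟨r, hr⟩)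
      comm := fun r hr s hs =>
        ⟨⁅(⟨r, hr⟩ : R), (⟨s, hs⟩ : R)⁆,
          hR.1.2.2.le (Subgroup.commutator_mem_commutator (Subgroup.mem_top _) (Subgroup.mem_top _)),
          by simp [commutatorElement_def]⟩
      noTwo := fun N hN hp => le_bot_iff.1 (hO2 ▸ le_sSup ⟨hN, hp⟩)
      elem := hE }
  obtain ⟨i⟩ := h.model_equiv
  obtain ⟨c, S, ho, hcS, hcc, ⟨j⟩⟩ := CfsgLib.Recog.HeisSL.exists_model' F hF
  exact ⟨c, S, ho, hcS, hcc, ⟨i.trans j⟩⟩

end Cfsg.Agent.S3366
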