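import Cfsg.Statements.S3374
import Mathlib
import Cfsg.Agent.Lib.Recog.BinaryIcosahedral

set_option autoImplicit false
open Cfsg

namespace Cfsg.Agent.S3374

open scoped Pointwise
open CfsgLib.Recog.Icosahedral

abbrev SL5 := Matrix.SpecialLinearGroup (Fin 2) (ZMod 5)

def ent (x : SL5) : Q5 :=
  ((x : Matrix (Fin 2) (Fin 2) (ZMod 5)) 0 0, (x : Matrix (Fin 2) (Fin 2) (ZMod 5)) 0 1,
    (x : Matrix (Fin 2) (Fin 2) (ZMod 5)) 1 0, (x : Matrix (Fin 2) (Fin 2) (ZMod 5)) 1 1)

theorem ent_mul (x y : SL5) : ent (x * y) = mul4 (ent x) (ent y) := by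
  simp [ent, mul4, Matrix.SpecialLinearGroup.coe_mul, Matrix.mul_apply, Fin.sum_univ_two]

theorem ent_det (x : SL5) : det4 (ent x) = 1 := by
  have h := x.det_coe
  rw [Matrix.det_fin_two] at h
  exact h

theorem ent_injective {x y : SL5} (h : ent x = ent y) : x = y := by
  simp only [ent, Prod.mk.injEq] at h
  obtain ⟨h1, h2, h3, h4⟩ := h
  apply Subtype.ext
  ext i j
  fin_cases i <;> fin_cases j <;> assumption

theorem check' (x : SL5) : img (mul4 (ent x) gS) = mul4 (img (ent x)) (img gS) ∧
    img (mul4 (ent x) gT) = mul4 (img (ent x)) (img gT) ∧ det4 (img (ent x)) = 1 ∧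
    (img (ent x) = (1, 0, 0, 1) → ent x = (1, 0, 0, 1)) ∧ word (ent x) = ent x :=
  check _ _ _ _ (ent_det x)

theorem mul4_assoc {R : Type*} [CommRing R] (A B C : R × R × R × R) :
    mul4 (mul4 A B) C = mul4 A (mul4 B C) := by
  simp only [mul4, Prod.mk.injEq]
  refine ⟨?_, ?_, ?_, ?_⟩ <;> ring

theorem img_mul (x y : SL5) : img (ent (x * y)) = mul4 (img (ent x)) (img (ent y)) := by
  let s : SL5 := ⟨!![0, -1; 1, 0], by rw [Matrix.det_fin_two_of]; ring⟩
  let t : SL5 := ⟨!![1, 1; 0, 1], by rw [Matrix.det_fin_two_of]; ring⟩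
  have hes : ent s = gS := rfl
  have het : ent t = gT := rfl
  have hset : ∀ g : SL5, (∀ z, img (ent (z * g)) = mul4 (img (ent z)) (img (ent g))) →
      ∀ g' : SL5, (∀ z, img (ent (z * g')) = mul4 (img (ent z)) (img (ent g'))) →
      ∀ z, img (ent (z * (g * g'))) = mul4 (img (ent z)) (img (ent (g * g'))) := by
    intro g hg g' hg' z
    rw [← mul_assoc, hg', hg, hg' g, mul4_assoc]
  have hs : ∀ z, img (ent (z * s)) = mul4 (img (ent z)) (img (ent s)) := fun z => by
    rw [ent_mul, hes]; exact (check' z).1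
  have ht : ∀ z, img (ent (z * t)) = mul4 (img (ent z)) (img (ent t)) := fun z => by
    rw [ent_mul, het]; exact (check' z).2.1
  have h1 : ∀ z, img (ent (z * 1)) = mul4 (img (ent z)) (img (ent (1 : SL5))) := fun z => by
    have he : ent (1 : SL5) = (1, 0, 0, 1) := rfl
    rw [mul_one, he, img_one]; simp [mul4]
  have hp : ∀ i : ℕ, ∀ z, img (ent (z * t ^ i)) = mul4 (img (ent z)) (img (ent (t ^ i))) := by
    intro i
    induction i with
    | zero => simpa using h1
    | succ i ih => rw [pow_succ]; exact hset _ ih _ ht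
  have he : ∀ i : ℕ, ent (t ^ i) = tPow i := by
    intro i
    induction i with
    | zero => simp [ent, tPow]
    | succ i ih => rw [pow_succ, ent_mul, ih, het]; simp [mul4, tPow, gT, add_comm]
  obtain ⟨i, j, k, l, hy⟩ : ∃ i j k l : ℕ, y = t ^ i * s * t ^ j * s * t ^ k * s * t ^ l := by
    refine ⟨get wordNat (ent y) / 125, get wordNat (ent y) / 25 % 5, get wordNat (ent y) / 5 % 5,
      get wordNat (ent y) % 5, ent_injective ?_⟩
    rw [ent_mul, ent_mul, ent_mul, ent_mul, ent_mul, ent_mul, he, he, he, he, hes]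
    exact (check' y).2.2.2.2.symm
  subst hy
  exact hset _ (hset _ (hset _ (hset _ (hset _ (hset _ (hp i) _ hs) _ (hp j)) _ hs) _ (hp k)) _ hs) _ (hp l) x

def emb : SL5 →* Matrix.SpecialLinearGroup (Fin 2) (ZMod 11) :=
  MonoidHom.mk' (fun x => ⟨!![(img (ent x)).1, (img (ent x)).2.1; (img (ent x)).2.2.1, (img (ent x)).2.2.2],
      by rw [Matrix.det_fin_two_of]; exact (check' x).2.2.1⟩)
    (fun x y => by
      refine Subtype.ext (Eq.trans ?_ (Matrix.SpecialLinearGroup.coe_mul _ _).symm)
      show _ = !![(img (ent x)).1, (img (ent x)).2.1; (img (ent x)).2.2.1, (img (ent x)).2.2.2] *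
        !![(img (ent y)).1, (img (ent y)).2.1; (img (ent y)).2.2.1, (img (ent y)).2.2.2]
      show !![(img (ent (x * y))).1, (img (ent (x * y))).2.1; (img (ent (x * y))).2.2.1, (img (ent (x * y))).2.2.2] = _
      rw [Matrix.mul_fin_two, img_mul]
      rfl)

theorem emb_eq_one {x : SL5} (h : emb x = 1) : x = 1 := by
  apply ent_injective
  rw [show ent (1 : SL5) = (1, 0, 0, 1) from rfl]
  apply (check' x).2.2.2.1
  have e := fun i j => congrArg (fun M : Matrix.SpecialLinearGroup (Fin 2) (ZMod 11) => (M : Matrix (Fin 2) (Fin 2) (ZMod 11)) i j) h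
  have a := e 0 0; have b := e 0 1; have c := e 1 0; have d := e 1 1
  simp [emb] at a b c d
  exact Prod.ext a (Prod.ext b (Prod.ext c d))

instance factEleven : Fact (Nat.Prime 11) := ⟨by norm_num⟩

theorem card_SL5 : Nat.card SL5 = 120 := by
  rw [Nat.card_eq_fintype_card]; decide +kernel

/-- an element of `SL(2,5)` fixing a nonzero vector is trivial -/
theorem eq_one_of_fix {x : SL5} {v : Fin 2 → ZMod 11} (hv : v ≠ 0)
    (h : Matrix.SpecialLinearGroup.toLin' (emb x) v = v) : x = 1 := by
  apply emb_eq_one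
  set M := (emb x : Matrix (Fin 2) (Fin 2) (ZMod 11)) with hM
  have h' : M.mulVec v = v := by rw [Matrix.SpecialLinearGroup.toLin'_apply] at h; exact h
  have hd := (emb x).det_coe
  rw [← hM] at hd
  have hdet : (M - 1).det = 0 := by
    rw [← Matrix.exists_mulVec_eq_zero_iff]
    exact ⟨v, hv, by rw [Matrix.sub_mulVec, h', Matrix.one_mulVec, sub_self]⟩
  rw [Matrix.det_fin_two] at hd hdet
  simp at hdet
  have hsq : (M - 1) * (M - 1) = 0 := by
    ext i j
    fin_cases i <;> fin_cases j <;> simp [Matrix.mul_apply, Fin.sum_univ_two]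
    · linear_combination (M 0 0 - 1) * (hd - hdet) - hdet
    · linear_combination M 0 1 * (hd - hdet)
    · linear_combination M 1 0 * (hd - hdet)
    · linear_combination (M 1 1 - 1) * (hd - hdet) - hdet
  have h11 : emb x ^ 11 = 1 := by
    apply Subtype.ext
    rw [Matrix.SpecialLinearGroup.coe_pow, Matrix.SpecialLinearGroup.coe_one, ← hM]
    have := sub_pow_char_pow_of_commute (p := 11) (n := 1) (Commute.one_right M)
    rw [pow_one, one_pow] at this
    rw [← sub_eq_zero, ← this]
    exact pow_eq_zero_of_le (show 2 ≤ 11 by norm_num) (by rw [pow_two]; exact hsq)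
  have h120 : emb x ^ 120 = 1 := by
    rw [← map_pow, ← card_SL5, pow_card_eq_one', map_one]
  have := Nat.dvd_gcd (orderOf_dvd_of_pow_eq_one h11) (orderOf_dvd_of_pow_eq_one h120)
  norm_num at this
  exact this

/-- SL(2,5) occurs as a Frobenius complement: there is a finite group L with a subgroup H isomorphic to SL(2,5) which is a non-trivial proper subgroup meeting each conjugate gHg⁻¹ with g outside H trivially. -/
theorem result :
    ∃ (L : Type) (_ : Group L) (_ : Finite L) (H : Subgroup L),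
      Cfsg.IsFrobeniusComplement H ∧ Nonempty (H ≃* Matrix.SpecialLinearGroup (Fin 2) (ZMod 5)) := by
  classical
  let V := Fin 2 → ZMod 11
  let φ : SL5 →* MulAut (Multiplicative V) :=
    MonoidHom.mk' (fun x => AddEquiv.toMultiplicative ((Matrix.SpecialLinearGroup.toLin' (emb x)).toAddEquiv))
      (fun x y => by ext v; simp [map_mul])
  let L := Multiplicative V ⋊[φ] SL5
  haveI : Finite L := Finite.of_equiv _ SemidirectProduct.equivProd.symm
  refine ⟨L, inferInstance, inferInstance, SemidirectProduct.inr.range, ⟨?_, ?_, ?_⟩,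
    ⟨(MonoidHom.ofInjective SemidirectProduct.inr_injective).symm⟩⟩
  · intro h
    have hm : SemidirectProduct.inr (φ := φ) (⟨!![1, 1; 0, 1], by rw [Matrix.det_fin_two_of]; ring⟩ : SL5) ∈
        (SemidirectProduct.inr (φ := φ)).range := ⟨_, rfl⟩
    rw [h, Subgroup.mem_bot, ← map_one (SemidirectProduct.inr (φ := φ))] at hm
    have := congrArg (fun z : SL5 => (z : Matrix (Fin 2) (Fin 2) (ZMod 5)) 0 1) (SemidirectProduct.inr_injective hm)
    simp at this
    exact absurd this (by decide)
  · intro h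
    have hm : SemidirectProduct.inl (φ := φ) (Multiplicative.ofAdd (![1, 0] : V)) ∈ (SemidirectProduct.inr (φ := φ)).range :=
      h ▸ Subgroup.mem_top _
    obtain ⟨z, hz⟩ := hm
    have := congrArg SemidirectProduct.left hz
    simp at this
    have := congrArg (fun w : Multiplicative V => w.toAdd 0) this
    simp at this
    try exact absurd this (by decide)
  · intro g hg
    rw [eq_bot_iff]
    rintro _ ⟨⟨b, rfl⟩, ⟨_, ⟨a, rfl⟩, ha⟩⟩
    rw [Subgroup.mem_bot]
    have hg1 : g.left ≠ 1 := fun h1 => hg ⟨g.right, by ext1 <;> simp [h1]⟩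
    have ha' : g * SemidirectProduct.inr a * g⁻¹ = SemidirectProduct.inr b := ha
    have hl := congrArg SemidirectProduct.left (mul_inv_eq_iff_eq_mul.mp ha')
    simp [SemidirectProduct.mul_left] at hl
    have hfix : Matrix.SpecialLinearGroup.toLin' (emb b) g.left.toAdd = g.left.toAdd := by
      have := congrArg Multiplicative.toAdd hl
      have h2 : SemidirectProduct.left (g * SemidirectProduct.inr a : L) = g.left := by
        show g.left * φ g.right 1 = g.left
        rw [map_one, mul_one]
      rw [h2] at this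
      exact this.symm
    rw [eq_one_of_fix (fun h0 => hg1 h0) hfix, map_one]

end Cfsg.Agent.S3374
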