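import Cfsg.Statements.S3375
import Mathlib

set_option autoImplicit false
open Cfsg

namespace Cfsg.Agent.S3375

/-- Let γ be an automorphism of order 2 of a finite group H. (i) If γ fixes only the identity, then H is abelian and γ inverts every element. (ii) If γ has exactly two fixed points and H has a subgroup of index 2, then H has a γ-invariant abelian subgroup of index 2 on which γ acts by inversion. -/
theorem result {H : Type*} [Group H] [Finite H] (γ : MulAut H) (hγ : orderOf γ = 2) :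
    ((∀ h : H, γ h = h → h = 1) → (∀ a b : H, a * b = b * a) ∧ ∀ h : H, γ h = h⁻¹) ∧
    ((Nat.card {h : H // γ h = h} = 2 ∧ ∃ M : Subgroup H, M.index = 2) →
      ∃ A : Subgroup H, A.index = 2 ∧ IsMulCommutative A ∧ (∀ a ∈ A, γ a ∈ A) ∧ ∀ a ∈ A, γ a = a⁻¹) := by
  classical
  have hγ2 : ∀ h, γ (γ h) = h := fun h => by
    have : γ * γ = 1 := by rw [← pow_two, ← hγ, pow_orderOf_eq_one]
    exact congrArg (fun f : MulAut H => f h) this
  have hinv : ∀ h : H, γ (h⁻¹ * γ h) = (h⁻¹ * γ h)⁻¹ := fun h => by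
    rw [map_mul, map_inv, hγ2, mul_inv_rev, inv_inv]
  refine ⟨fun hfree => ?_, ?_⟩
  · have hinj : Function.Injective fun h : H => h⁻¹ * γ h := fun a b hab => by
      have : γ (b * a⁻¹) = b * a⁻¹ := by
        have hab' : γ a = a * (b⁻¹ * γ b) :=
          (mul_inv_cancel_left a (γ a)).symm.trans (congrArg (a * ·) hab)
        rw [map_mul, map_inv, hab']; simp [mul_assoc]
      exact (mul_inv_eq_one.mp (hfree _ this)).symm
    have hall : ∀ h : H, γ h = h⁻¹ := fun h => by
      obtain ⟨k, rfl⟩ := Finite.injective_iff_surjective.mp hinj h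
      exact hinv k
    refine ⟨fun a b => ?_, hall⟩
    have h := map_mul γ a⁻¹ b⁻¹
    rw [hall, hall, hall, inv_inv, inv_inv, mul_inv_rev, inv_inv, inv_inv] at h
    exact h.symm
  · rintro ⟨hC, M₀, hM₀⟩
    -- an invariant subgroup of index two
    obtain ⟨M, hM, hMγ⟩ : ∃ M : Subgroup H, M.index = 2 ∧ ∀ a, γ a ∈ M ↔ a ∈ M := by
      by_cases hinvM : ∀ a, γ a ∈ M₀ ↔ a ∈ M₀
      · exact ⟨M₀, hM₀, hinvM⟩
      have hmul : ∀ a b, γ (a * b) ∈ M₀ ↔ (γ a ∈ M₀ ↔ γ b ∈ M₀) := fun a b => by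
        rw [map_mul, Subgroup.mul_mem_iff_of_index_two hM₀]
      let K : Subgroup H :=
        { carrier := {a | γ a ∈ M₀ ↔ a ∈ M₀}
          one_mem' := by simp
          mul_mem' := fun {a b} ha hb => by
            show γ (a * b) ∈ M₀ ↔ a * b ∈ M₀
            rw [hmul, Subgroup.mul_mem_iff_of_index_two hM₀]
            exact iff_congr ha hb
          inv_mem' := fun {a} ha => by
            show γ a⁻¹ ∈ M₀ ↔ a⁻¹ ∈ M₀
            rw [map_inv, inv_mem_iff, inv_mem_iff]; exact ha }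
      push Not at hinvM
      obtain ⟨a, ha⟩ := hinvM
      refine ⟨K, Subgroup.index_eq_two_iff.mpr ⟨a, fun b => ?_⟩, fun x => ?_⟩
      · show Xor (γ (b * a) ∈ M₀ ↔ b * a ∈ M₀) (γ b ∈ M₀ ↔ b ∈ M₀)
        rw [hmul, Subgroup.mul_mem_iff_of_index_two hM₀]
        unfold Xor
        tauto
      · show (γ (γ x) ∈ M₀ ↔ γ x ∈ M₀) ↔ (γ x ∈ M₀ ↔ x ∈ M₀)
        rw [hγ2]; tauto
    haveI := Subgroup.normal_of_index_eq_two hM
    haveI := Fintype.ofFinite H
    have himg : ∀ h : H, h⁻¹ * γ h ∈ M := fun h => by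
      rw [Subgroup.mul_mem_iff_of_index_two hM, inv_mem_iff, hMγ]
    have hfib : ∀ y ∈ Finset.univ.image (fun h : H => h⁻¹ * γ h),
        (Finset.univ.filter fun h : H => h⁻¹ * γ h = y).card ≤ 2 := by
      intro y hy
      obtain ⟨h₀, -, rfl⟩ := Finset.mem_image.mp hy
      rw [← Fintype.card_subtype, ← Nat.card_eq_fintype_card, ← hC]
      refine Nat.card_le_card_of_injective (fun x => ⟨x.1 * h₀⁻¹, ?_⟩) fun a b hab => ?_
      · have hx : γ x.1 = x.1 * (h₀⁻¹ * γ h₀) :=
          (mul_inv_cancel_left x.1 (γ x.1)).symm.trans (congrArg (x.1 * ·) x.2)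
        rw [map_mul, map_inv, hx]; simp [mul_assoc]
      · exact Subtype.ext (mul_right_cancel (congrArg Subtype.val hab))
    have h1 := Finset.card_le_mul_card_image (Finset.univ : Finset H) 2 hfib
    have hsub : Finset.univ.image (fun h : H => h⁻¹ * γ h) ⊆ Finset.univ.filter (· ∈ M) := fun y hy => by
      obtain ⟨h₀, -, rfl⟩ := Finset.mem_image.mp hy
      simp [himg]
    have hMc : (Finset.univ.filter (· ∈ M)).card = Nat.card M := by
      rw [Nat.card_eq_fintype_card, Fintype.card_subtype]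
    have h2 := M.card_mul_index
    rw [hM] at h2
    rw [Finset.card_univ, ← Nat.card_eq_fintype_card, ← h2] at h1
    have heq := Finset.eq_of_subset_of_card_le hsub (by omega)
    have hall : ∀ a ∈ M, γ a = a⁻¹ := fun a ha => by
      have : a ∈ Finset.univ.image (fun h : H => h⁻¹ * γ h) := by rw [heq]; simp [ha]
      obtain ⟨h₀, -, rfl⟩ := Finset.mem_image.mp this
      exact hinv h₀
    refine ⟨M, hM, ⟨⟨fun a b => Subtype.ext ?_⟩⟩, fun a ha => (hMγ a).mpr ha, hall⟩
    have h := map_mul γ (a : H)⁻¹ (b : H)⁻¹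
    rw [hall _ (M.mul_mem (M.inv_mem a.2) (M.inv_mem b.2)), hall _ (M.inv_mem a.2), hall _ (M.inv_mem b.2),
      inv_inv, inv_inv, mul_inv_rev, inv_inv, inv_inv] at h
    exact h.symm

end Cfsg.Agent.S3375
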