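import Cfsg.Statements.S3376
import Cfsg.Agent.Lib.SmallGroups.Order162

set_option autoImplicit false
open Cfsg

namespace Cfsg.Agent.S3376

/-- Let G be a group of order 162 = 3⁴·2 with Sylow 3-subgroup S and Sylow 2-subgroup T, having an elementary abelian normal subgroup J of order 27, such that Z = Z(S) has order 3, Z centralizes T, and C_S(T) ≠ S. Then G is isomorphic to the centralizer in Sym(9) of a product of three disjoint 3-cycles. -/
theorem result {G : Type*} [Group G] [Finite G] (hG : Nat.card G = 162)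
    (S : Sylow 3 G) (T : Sylow 2 G) (J : Subgroup G) [hJn : J.Normal] (hJcomm : IsMulCommutative J)
    (hJexp : ∀ a ∈ J, a ^ 3 = 1) (hJcard : Nat.card J = 27)
    (Z : Subgroup G) (hZ : Z = (S : Subgroup G) ⊓ Subgroup.centralizer ((S : Subgroup G) : Set G)) (hZcard : Nat.card Z = 3)
    (hZT : Z ≤ Subgroup.centralizer ((T : Subgroup G) : Set G))
    (hST : (S : Subgroup G) ⊓ Subgroup.centralizer ((T : Subgroup G) : Set G) ≠ S) :
    Nonempty (G ≃* Subgroup.centralizer ({Equiv.swap (0 : Fin 9) 1 * Equiv.swap 1 2 * Equiv.swap 3 4 * Equiv.swap 4 5 * Equiv.swap 6 7 * Equiv.swap 7 8} : Set (Equiv.Perm (Fin 9)))) := by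
  obtain ⟨φ, z, hinj, hzc, hz3, hzfix⟩ := CfsgLib.SmallGroups.Order162.exists_action hG S T J
    hJcomm hJexp hJcard Z hZ hZcard hZT hST
  haveI : Fact (Nat.Prime 3) := ⟨Nat.prime_three⟩
  set c : Equiv.Perm (Fin 9) := Equiv.swap (0 : Fin 9) 1 * Equiv.swap 1 2 * Equiv.swap 3 4 *
    Equiv.swap 4 5 * Equiv.swap 6 7 * Equiv.swap 7 8 with hc
  have hc3 : c ^ 3 = 1 := by rw [hc]; decide +kernel
  have hcfix : ∀ i, c i ≠ i := by rw [hc]; decide +kernel
  have htype : ∀ σ : Equiv.Perm (Fin 9), σ ^ 3 = 1 → (∀ i, σ i ≠ i) →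
      σ.cycleType = Multiset.replicate 3 3 := by
    intro σ hσ hfix
    have h1 := Equiv.Perm.cycleType_of_pow_prime_eq_one hσ
    have h2 : σ.support.card = 9 := by
      rw [show σ.support = Finset.univ from Finset.eq_univ_iff_forall.2 fun i =>
        Equiv.Perm.mem_support.2 (hfix i), Finset.card_univ, Fintype.card_fin]
    rw [← Equiv.Perm.sum_cycleType, h1, Multiset.sum_replicate, smul_eq_mul] at h2
    rw [h1]
    congr 1
    omega
  obtain ⟨π, hπ⟩ := isConj_iff.1 (Equiv.Perm.isConj_iff_cycleType_eq.2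
    ((htype _ hz3 hzfix).trans (htype c hc3 hcfix).symm))
  let ψ : G →* Subgroup.centralizer ({c} : Set (Equiv.Perm (Fin 9))) :=
    ((MulAut.conj π).toMonoidHom.comp φ).codRestrict _ fun g => by
      rw [Subgroup.mem_centralizer_singleton_iff, ← hπ]
      show π * φ g * π⁻¹ * (π * φ z * π⁻¹) = π * φ z * π⁻¹ * (π * φ g * π⁻¹)
      rw [conj_mul, conj_mul, ← map_mul, ← map_mul, hzc]
  have hψ : Function.Injective ψ := fun a b e =>
    hinj ((MulAut.conj π).injective (congrArg Subtype.val e))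
  refine ⟨MulEquiv.ofBijective ψ (hψ.bijective_of_nat_card_le ?_)⟩
  rw [hG, Equiv.Perm.nat_card_centralizer, htype c hc3 hcfix]
  decide +kernel

end Cfsg.Agent.S3376
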