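import Cfsg.Statements.S3379
import Mathlib

set_option autoImplicit false
open Cfsg

namespace Cfsg.Agent.S3379

/-- Let G be a finite group all of whose Sylow subgroups are cyclic. Then G is generated by two elements x and y of coprime orders n and m with x⁻¹yx = y^r, where gcd(r − 1, m) = 1 and r^n ≡ 1 (mod m). -/
theorem result {G : Type*} [Group G] [Finite G]
    (hZ : ∀ (p : ℕ) [Fact p.Prime] (P : Sylow p G), IsCyclic (P : Subgroup G)) :
    ∃ (x y : G) (n m r : ℕ), Subgroup.closure {x, y} = ⊤ ∧ orderOf x = n ∧ orderOf y = m ∧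
      x⁻¹ * y * x = y ^ r ∧ Nat.Coprime (r - 1) m ∧ Nat.Coprime n m ∧ 1 ≤ r ∧ r ^ n % m = 1 % m := by
  classical
  haveI : IsZGroup G := ⟨fun p hp P => by haveI := Fact.mk hp; exact hZ p P⟩
  obtain ⟨H, hH⟩ := Subgroup.exists_right_complement'_of_coprime (IsZGroup.coprime_commutator_index G)
  have hHc : IsCyclic H :=
    let e : Abelianization G ≃* H := hH.symm.QuotientMulEquiv
    isCyclic_of_surjective _ e.surjective
  obtain ⟨⟨x, hxH⟩, hxgen⟩ := hHc.exists_generator
  haveI := IsZGroup.isCyclic_commutator G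
  obtain ⟨⟨y, hyC⟩, hygen⟩ := IsCyclic.exists_generator (α := commutator G)
  have hxo : orderOf x = Nat.card H := by
    rw [← orderOf_eq_card_of_forall_mem_zpowers hxgen, Subgroup.orderOf_mk]
  have hyo : orderOf y = Nat.card (commutator G) := by
    rw [← orderOf_eq_card_of_forall_mem_zpowers hygen, Subgroup.orderOf_mk]
  have hzy : Subgroup.zpowers y = commutator G :=
    Subgroup.eq_of_le_of_card_ge (Subgroup.zpowers_le.mpr hyC) (by rw [Nat.card_zpowers, hyo])
  have hzx : Subgroup.zpowers x = H :=
    Subgroup.eq_of_le_of_card_ge (Subgroup.zpowers_le.mpr hxH) (by rw [Nat.card_zpowers, hxo])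
  have hcl : Subgroup.closure {x, y} = ⊤ := by
    rw [Set.insert_eq, Subgroup.closure_union, ← Subgroup.zpowers_eq_closure, ← Subgroup.zpowers_eq_closure,
      hzx, hzy, sup_comm]
    exact hH.sup_eq_top
  have hm : x⁻¹ * y * x ∈ Subgroup.zpowers y := by
    rw [hzy]
    simpa using Subgroup.Normal.conj_mem (inferInstance : (commutator G).Normal) y hyC x⁻¹
  obtain ⟨r₀, hr₀⟩ := mem_powers_iff_mem_zpowers.mpr hm
  simp only at hr₀
  -- a positive exponent
  set r := r₀ + orderOf y with hr
  have hrel : x⁻¹ * y * x = y ^ r := by rw [hr, pow_add, pow_orderOf_eq_one, mul_one, hr₀]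
  have hr1 : 1 ≤ r := by have := orderOf_pos y; omega
  refine ⟨x, y, orderOf x, orderOf y, r, hcl, rfl, rfl, hrel, ?_, ?_, hr1, ?_⟩
  · have hn : x * y * x⁻¹ ∈ Subgroup.zpowers y := by
      rw [hzy]; exact Subgroup.Normal.conj_mem (inferInstance : (commutator G).Normal) y hyC x
    set K := Subgroup.zpowers (y ^ (r - 1)) with hK
    have hKy : K ≤ Subgroup.zpowers y := Subgroup.zpowers_le.mpr (pow_mem (Subgroup.mem_zpowers y) _)
    haveI hKn : K.Normal := by
      rw [← Subgroup.normalizer_eq_top_iff, eq_top_iff, ← hcl, Subgroup.closure_le]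
      have hconj : ∀ g, g * y * g⁻¹ ∈ Subgroup.zpowers y → g⁻¹ * y * g ∈ Subgroup.zpowers y →
          g ∈ Subgroup.normalizer (K : Set G) := by
        intro g h1 h2
        have key : ∀ u : G, u * y * u⁻¹ ∈ Subgroup.zpowers y → ∀ a ∈ K, u * a * u⁻¹ ∈ K := by
          intro u hu a ha
          obtain ⟨i, hi⟩ := Subgroup.mem_zpowers_iff.mp hu
          obtain ⟨j, hj⟩ := Subgroup.mem_zpowers_iff.mp ha
          rw [← hj, ← conj_zpow, ← conj_pow, ← hi, ← zpow_natCast (y ^ i), ← zpow_mul, ← zpow_mul,
            ← mul_assoc, mul_comm i, mul_assoc, zpow_mul, zpow_natCast]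
          exact zpow_mem (Subgroup.mem_zpowers _) _
        refine Subgroup.mem_normalizer_iff.mpr fun a => ⟨key g h1 a, fun ha => ?_⟩
        have := key g⁻¹ (by simpa using h2) _ ha
        simpa [mul_assoc] using this
      rintro g (rfl | rfl)
      · exact hconj _ hn hm
      · exact hconj _ (by simpa using Subgroup.mem_zpowers y) (by simpa using Subgroup.mem_zpowers y)
    have hle : commutator G ≤ K := by
      let q := QuotientGroup.mk' K
      have hcomm : q x * q y = q y * q x := by
        have h1 : q (y ^ r) = q y := by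
          rw [show r = (r - 1) + 1 by omega, pow_succ, map_mul]
          have : q (y ^ (r - 1)) = 1 := (QuotientGroup.eq_one_iff _).mpr (Subgroup.mem_zpowers _)
          rw [this, one_mul]
        rw [← hrel, map_mul, map_mul, map_inv, mul_assoc, inv_mul_eq_iff_eq_mul] at h1
        exact h1.symm
      have htop : Subgroup.closure ({q x, q y} : Set (G ⧸ K)) = ⊤ := by
        rw [show ({q x, q y} : Set (G ⧸ K)) = q '' {x, y} from (Set.image_pair _ _ _).symm,
          ← MonoidHom.map_closure, hcl, Subgroup.map_top_of_surjective q (QuotientGroup.mk'_surjective K)]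
      have hab : IsMulCommutative (Subgroup.closure ({q x, q y} : Set (G ⧸ K))) := by
        refine Subgroup.isMulCommutative_closure ?_
        rintro a (rfl | rfl) b (rfl | rfl)
        exacts [rfl, hcomm, hcomm.symm, rfl]
      have hc : ∀ a b : G ⧸ K, a * b = b * a := fun a b =>
        congrArg Subtype.val (hab.is_comm.comm (⟨a, htop ▸ Subgroup.mem_top a⟩ : Subgroup.closure ({q x, q y} : Set (G ⧸ K))) ⟨b, htop ▸ Subgroup.mem_top b⟩)
      rw [commutator_def, Subgroup.commutator_le]
      intro a _ b _
      rw [← QuotientGroup.eq_one_iff, ← QuotientGroup.mk'_apply, map_commutatorElement,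
        commutatorElement_eq_one_iff_mul_comm]
      exact hc _ _
    have heq : K = Subgroup.zpowers y := le_antisymm hKy (hzy ▸ hle)
    have hcard := congrArg (fun A : Subgroup G => Nat.card A) heq
    simp only [hK, Nat.card_zpowers] at hcard
    rw [orderOf_pow] at hcard
    rcases Nat.div_eq_self.mp hcard with h | h
    · exact absurd h (orderOf_pos y).ne'
    · exact (Nat.Coprime.symm h)
  · rw [hxo, hyo]
    have : Nat.card H = (commutator G).index := by
      rw [Subgroup.index_eq_card]; exact (Nat.card_congr (hH.symm.QuotientMulEquiv : Abelianization G ≃* H).toEquiv).symm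
    rw [this]
    exact (IsZGroup.coprime_commutator_index G).symm
  · have hpow : ∀ j : ℕ, (x ^ j)⁻¹ * y * x ^ j = y ^ r ^ j := by
      intro j
      induction j with
      | zero => simp
      | succ j ih =>
        calc (x ^ (j + 1))⁻¹ * y * x ^ (j + 1) = x⁻¹ * ((x ^ j)⁻¹ * y * x ^ j) * x := by
              rw [pow_succ]; simp [mul_assoc]
          _ = x⁻¹ * y ^ (r ^ j) * x := by rw [ih]
          _ = (x⁻¹ * y * x) ^ (r ^ j) := by
              rw [show x⁻¹ * y * x = x⁻¹ * y * x⁻¹⁻¹ by rw [inv_inv], conj_pow, inv_inv]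
          _ = y ^ r ^ (j + 1) := by rw [hrel, ← pow_mul, pow_succ']
    have h1 := hpow (orderOf x)
    rw [pow_orderOf_eq_one, inv_one, one_mul, mul_one] at h1
    exact (pow_eq_pow_iff_modEq.mp ((pow_one y).trans h1)).symm

end Cfsg.Agent.S3379
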