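import Cfsg.Statements.S3381
import Mathlib

set_option autoImplicit false
open Cfsg

namespace Cfsg.Agent.S3381

--- PRE
variable {q : ℕ} {V : Type*} [AddCommGroup V] [Module (ZMod q) V] {G : Type*} [Group G]

/-- fixed submodule -/
def fix (ρ : G →* (V ≃ₗ[ZMod q] V)) (t : G) : Submodule (ZMod q) V where
  carrier := {v | ρ t v = v}
  add_mem' := fun {a b} ha hb => by
    show ρ t (a + b) = a + b
    rw [map_add, ha, hb]
  zero_mem' := map_zero _
  smul_mem' := fun c {a} ha => by
    show ρ t (c • a) = c • a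
    rw [map_smul, ha]

theorem mem_fix {ρ : G →* (V ≃ₗ[ZMod q] V)} {t : G} {v : V} : v ∈ fix ρ t ↔ ρ t v = v := Iff.rfl

theorem rho_mul (ρ : G →* (V ≃ₗ[ZMod q] V)) (a b : G) (v : V) : ρ (a * b) v = ρ a (ρ b v) := by
  rw [map_mul]; rfl

theorem rho_one (ρ : G →* (V ≃ₗ[ZMod q] V)) (v : V) : ρ 1 v = v := by rw [map_one]; rfl

theorem invol_apply (ρ : G →* (V ≃ₗ[ZMod q] V)) {t : G} (ht : orderOf t = 2) (v : V) : ρ t (ρ t v) = v := by
  rw [← rho_mul, ← pow_two, ← ht, pow_orderOf_eq_one, rho_one]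

theorem card_mul_le [Finite V] {A B : Submodule (ZMod q) V} (h : A ⊓ B = ⊥) :
    Nat.card A * Nat.card B ≤ Nat.card V := by
  rw [← Nat.card_prod]
  refine Nat.card_le_card_of_injective (fun x : A × B => (x.1 : V) + x.2) ?_
  rintro ⟨a, b⟩ ⟨a', b'⟩ h'
  simp only at h'
  have h1 : (a : V) - a' = (b' : V) - b := by
    rw [sub_eq_sub_iff_add_eq_add]; rw [add_comm (b' : V)]; exact h'
  have h2 : (a : V) - a' ∈ A ⊓ B := ⟨A.sub_mem a.2 a'.2, h1 ▸ B.sub_mem b'.2 b.2⟩
  rw [h, Submodule.mem_bot] at h2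
  have e1 : a = a' := Subtype.ext (sub_eq_zero.1 h2)
  subst e1
  exact Prod.ext rfl (Subtype.ext (add_left_cancel h'))

/-- Let G be a finite group acting faithfully and linearly on a non-trivial finite vector space V over the field with q elements (q prime) so that every non-zero vector has a stabilizer of order 2, and suppose G has a central involution. Then V has q^(2r) elements for some r and G contains exactly q^r + 1 non-central involutions. -/
theorem result
    (q : ℕ) [Fact q.Prime] {V : Type*} [AddCommGroup V] [Module (ZMod q) V] [Finite V] [Nontrivial V]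
    {G : Type*} [Group G] [Finite G] (ρ : G →* (V ≃ₗ[ZMod q] V)) (hρ : Function.Injective ρ)
    (hstab : ∀ v : V, v ≠ 0 → Nat.card {g : G // ρ g v = v} = 2)
    (z : G) (hz : orderOf z = 2) (hzc : z ∈ Subgroup.center G) :
    ∃ r : ℕ, Nat.card V = q ^ (2 * r) ∧
      Nat.card {g : G // orderOf g = 2 ∧ g ∉ Subgroup.center G} = q ^ r + 1 := by
  classical
  have hq : q.Prime := Fact.out
  -- stabilisers
  have hst : ∀ v : V, v ≠ 0 → ∃ t : G, orderOf t = 2 ∧ ρ t v = v ∧ ∀ g : G, ρ g v = v → g = 1 ∨ g = t := by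
    intro v hv
    obtain ⟨⟨t, ht⟩, hne, huniq⟩ := (Nat.card_eq_two_iff' (⟨1, rho_one ρ v⟩ : {g : G // ρ g v = v})).1 (hstab v hv)
    have ht1 : t ≠ 1 := fun e => hne (Subtype.ext e)
    refine ⟨t, ?_, ht, fun g hg => or_iff_not_imp_left.2 fun h1 => ?_⟩
    · refine orderOf_eq_prime (p := 2) ?_ ht1
      by_contra h2
      have h2' : ρ (t ^ 2) v = v := by rw [pow_two, rho_mul, ht, ht]
      have := huniq ⟨t ^ 2, h2'⟩ (fun e => h2 (congrArg Subtype.val e))
      have h3 : t ^ 2 = t := congrArg Subtype.val this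
      exact ht1 (by rwa [pow_two, mul_eq_left] at h3)
    · exact congrArg Subtype.val (huniq ⟨g, hg⟩ fun e => h1 (congrArg Subtype.val e))
  -- twice
  have htwo : ∀ v : V, v + v = 0 → q ≠ 2 → v = 0 := by
    intro v hv hq2
    have h2 : ((2 : ℕ) : ZMod q) ≠ 0 := by
      rw [Ne, ZMod.natCast_eq_zero_iff]
      exact fun h => hq2 ((Nat.prime_dvd_prime_iff_eq hq Nat.prime_two).1 h)
    have h : ((2 : ℕ) : ZMod q) • v = 0 := by rw [Nat.cast_smul_eq_nsmul, two_nsmul, hv]
    exact (smul_eq_zero.1 h).resolve_left h2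
  -- central involutions fix nothing
  have hcf : ∀ c : G, orderOf c = 2 → c ∈ Subgroup.center G → ∀ v : V, ρ c v = v → v = 0 := by
    intro c hc hcc v0 hv0
    by_contra hne
    have hc1 : c ≠ 1 := fun e => by simp [e] at hc
    obtain ⟨w, hw⟩ : ∃ w, ρ c w ≠ w := by
      by_contra h
      push Not at h
      exact hc1 (hρ (by rw [map_one]; exact LinearEquiv.ext h))
    have hw0 : w ≠ 0 := fun e => hw (by rw [e, map_zero])
    obtain ⟨t, hto, htw, -⟩ := hst w hw0
    have hct : ∀ x, ρ c (ρ t x) = ρ t (ρ c x) := fun x => by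
      rw [← rho_mul, ← rho_mul, Subgroup.mem_center_iff.1 hcc t]
    have htc : t ≠ c := fun e => hw (e ▸ htw)
    have ht1 : t ≠ 1 := fun e => by simp [e] at hto
    -- a vector fixed by both is zero
    have hboth : ∀ x, ρ c x = x → ρ t x = x → x = 0 := by
      intro x hx1 hx2
      by_contra hx
      obtain ⟨s, -, -, hs⟩ := hst x hx
      rcases hs c hx1 with e | e
      · exact hc1 e
      · rcases hs t hx2 with e' | e'
        · exact ht1 e'
        · exact htc (e'.trans e.symm)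
    have hsum : v0 + ρ t v0 = 0 := hboth _ (by rw [map_add, hct, hv0]) (by rw [map_add, invol_apply ρ hto, add_comm])
    rcases eq_or_ne q 2 with hq2 | hq2
    · subst hq2
      have : ρ t v0 = v0 := by
        have h2 : v0 + v0 = 0 := by
          rw [← two_nsmul, ← Nat.cast_smul_eq_nsmul (ZMod 2), show ((2 : ℕ) : ZMod 2) = 0 from rfl, zero_smul]
        exact add_left_cancel (hsum.trans h2.symm)
      exact hne (hboth _ hv0 this)
    · set u := w - ρ c w with hu
      have hu0 : u ≠ 0 := sub_ne_zero.2 (Ne.symm hw)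
      have hcu : ρ c u = -u := by rw [hu, map_sub, invol_apply ρ hc, neg_sub]
      have htu : ρ t u = u := by rw [hu, map_sub, ← hct, htw]
      have hs : v0 + u ≠ 0 := by
        intro e
        have h : v0 = -u := eq_neg_of_add_eq_zero_left e
        rw [h, map_neg, hcu, neg_neg] at hv0
        exact hu0 (htwo u (by nth_rewrite 1 [hv0]; rw [neg_add_cancel]) hq2)
      obtain ⟨g, hgo, hg, -⟩ := hst _ hs
      have hg1 : g ≠ 1 := fun e => by simp [e] at hgo
      have h2 : ρ g (v0 - u) = v0 - u := by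
        have hcg : ρ c (ρ g (v0 + u)) = ρ g (ρ c (v0 + u)) := by
          rw [← rho_mul, ← rho_mul, Subgroup.mem_center_iff.1 hcc g]
        rw [hg, map_add, hv0, hcu, ← sub_eq_add_neg] at hcg
        exact hcg.symm
      rw [map_add] at hg
      rw [map_sub] at h2
      have hgv : ρ g v0 = v0 := by
        have : (ρ g v0 - v0) + (ρ g v0 - v0) = 0 := by
          have e := congrArg₂ (· + ·) hg h2
          calc (ρ g v0 - v0) + (ρ g v0 - v0) = (ρ g v0 + ρ g u + (ρ g v0 - ρ g u)) - (v0 + u + (v0 - u)) := by abel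
            _ = 0 := by rw [e, sub_self]
        exact sub_eq_zero.1 (htwo _ this hq2)
      have hgu : ρ g u = u := by rw [hgv] at hg; exact add_left_cancel hg
      obtain ⟨s, -, -, hs1⟩ := hst v0 hne
      obtain ⟨s', -, -, hs2⟩ := hst u hu0
      have e1 : g = c := ((hs1 g hgv).resolve_left hg1).trans ((hs1 c hv0).resolve_left hc1).symm
      have e2 : g = t := ((hs2 g hgu).resolve_left hg1).trans ((hs2 t htu).resolve_left ht1).symm
      exact htc (e2.symm.trans e1)
  have hz1 : z ≠ 1 := fun e => by simp [e] at hz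
  have hzz : z * z = 1 := by
    have := pow_orderOf_eq_one z
    rwa [hz, pow_two] at this
  have hneg : ∀ c : G, orderOf c = 2 → (∀ v, ρ c v = v → v = 0) → ∀ v, ρ c v = -v := fun c hc h v =>
    eq_neg_of_add_eq_zero_right (h _ (by rw [map_add, invol_apply ρ hc, add_comm]))
  have hzneg := hneg z hz (hcf z hz hzc)
  have hq2 : q ≠ 2 := by
    intro e
    subst e
    obtain ⟨v, hv⟩ := exists_ne (0 : V)
    refine hv (hcf z hz hzc v ?_)
    rw [hzneg, neg_eq_iff_add_eq_zero, ← two_nsmul, ← Nat.cast_smul_eq_nsmul (ZMod 2),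
      show ((2 : ℕ) : ZMod 2) = 0 from rfl, zero_smul]
  -- the noncentral involutions
  let T := {g : G // orderOf g = 2 ∧ g ∉ Subgroup.center G}
  haveI : Fintype T := Fintype.ofFinite _
  have hzt : ∀ t : T, orderOf (z * t.1) = 2 ∧ z * t.1 ∉ Subgroup.center G ∧ z * t.1 ≠ t.1 := by
    intro t
    refine ⟨?_, fun h => t.2.2 ((Subgroup.mul_mem_cancel_left _ hzc).1 h), fun h => hz1 (mul_eq_right.1 h)⟩
    refine orderOf_eq_prime ?_ (fun h => t.2.2 ?_)
    · have hc : Commute z t.1 := (Subgroup.mem_center_iff.1 hzc t.1).symm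
      have h1 := pow_orderOf_eq_one t.1
      rw [t.2.1] at h1
      rw [hc.mul_pow, h1, pow_two, hzz, one_mul]
    · rw [← inv_eq_of_mul_eq_one_right h]; exact Subgroup.inv_mem _ hzc
  let σ : T → T := fun t => ⟨z * t.1, (hzt t).1, (hzt t).2.1⟩
  let A : T → ℕ := fun t => Nat.card (fix ρ t.1)
  have hσfix : ∀ (t : T) (v : V), ρ (σ t).1 v = v ↔ ρ t.1 v = -v := fun t v => by
    show ρ (z * t.1) v = v ↔ _
    rw [rho_mul, hzneg, neg_eq_iff_eq_neg]
  have hA2 : ∀ t : T, 2 ≤ A t := by
    intro t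
    have : ∃ v, v ≠ 0 ∧ ρ t.1 v = v := by
      by_contra h
      push Not at h
      have h' := hneg t.1 t.2.1 fun v hv => by_contra fun hv0 => h v hv0 hv
      have : t.1 = z := hρ (LinearEquiv.ext fun v => by rw [h', hzneg])
      exact t.2.2 (this ▸ hzc)
    obtain ⟨v, hv, hv'⟩ := this
    haveI : Nontrivial (fix ρ t.1) := ⟨⟨⟨v, hv'⟩, 0, fun e => hv (congrArg Subtype.val e)⟩⟩
    exact Finite.one_lt_card
  have hdis : ∀ t u : T, t ≠ u → fix ρ t.1 ⊓ fix ρ u.1 = ⊥ := by
    intro t u htu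
    rw [eq_bot_iff]
    rintro v ⟨h1, h2⟩
    rw [Submodule.mem_bot]
    by_contra hv
    obtain ⟨s, -, -, hs⟩ := hst v hv
    have e1 : t.1 = s := (hs t.1 h1).resolve_left (fun e => by have := t.2.1; simp [e] at this)
    have e2 : u.1 = s := (hs u.1 h2).resolve_left (fun e => by have := u.2.1; simp [e] at this)
    exact htu (Subtype.ext (e1.trans e2.symm))
  have hle : ∀ t u : T, t ≠ u → A t * A u ≤ Nat.card V := fun t u h => card_mul_le (hdis t u h)
  have hprod : ∀ t : T, A t * A (σ t) = Nat.card V := by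
    intro t
    have hne : t ≠ σ t := fun e => (hzt t).2.2 (congrArg Subtype.val e).symm
    refine le_antisymm (hle t _ hne) ?_
    rw [← Nat.card_prod]
    refine Nat.card_le_card_of_injective (fun v : V =>
      ((⟨v + ρ t.1 v, by rw [mem_fix, map_add, invol_apply ρ t.2.1, add_comm]⟩ : fix ρ t.1),
       (⟨v - ρ t.1 v, by rw [mem_fix, hσfix, map_sub, invol_apply ρ t.2.1, neg_sub]⟩ : fix ρ (σ t).1))) ?_
    intro v w h
    simp only [Prod.mk.injEq, Subtype.mk.injEq] at h
    refine sub_eq_zero.1 (htwo _ ?_ hq2)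
    calc (v - w) + (v - w) = (v + ρ t.1 v + (v - ρ t.1 v)) - (w + ρ t.1 w + (w - ρ t.1 w)) := by abel
      _ = 0 := by rw [h.1, h.2, sub_self]
  -- counting
  have hcount : ∑ t : T, (A t - 1) = Nat.card V - 1 := by
    have e2 : ∀ t : T, A t - 1 = Nat.card {v : V // v ≠ 0 ∧ ρ t.1 v = v} := fun t => by
      show Nat.card (fix ρ t.1) - 1 = _
      haveI := Fintype.ofFinite (fix ρ t.1)
      rw [Nat.card_eq_fintype_card, show Fintype.card (fix ρ t.1) - 1 = Fintype.card {y : fix ρ t.1 // y ≠ 0} by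
        rw [Fintype.card_subtype_compl, Fintype.card_subtype_eq], ← Nat.card_eq_fintype_card]
      exact Nat.card_congr ⟨fun y => ⟨y.1.1, fun h => y.2 (Subtype.ext h), y.1.2⟩,
        fun y => ⟨⟨y.1, y.2.2⟩, fun h => y.2.1 (congrArg Subtype.val h)⟩, fun _ => rfl, fun _ => rfl⟩
    have e3 : Nat.card V - 1 = Nat.card {v : V // v ≠ 0} := by
      haveI := Fintype.ofFinite V
      rw [Nat.card_eq_fintype_card, Nat.card_eq_fintype_card, Fintype.card_subtype_compl, Fintype.card_subtype_eq]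
    rw [Finset.sum_congr rfl fun t _ => e2 t, e3, ← Nat.card_sigma]
    refine Nat.card_congr (Equiv.ofBijective (fun x => ⟨x.2.1, x.2.2.1⟩) ⟨?_, ?_⟩)
    · rintro ⟨t, v, hv, htv⟩ ⟨u, w, hw, huw⟩ h
      simp only [Subtype.mk.injEq] at h
      subst h
      have : t = u := by
        by_contra hne
        exact hv ((Submodule.mem_bot (ZMod q)).1 (hdis t u hne ▸ Submodule.mem_inf.2 ⟨htv, huw⟩))
      subst this; rfl
    · rintro ⟨v, hv⟩
      obtain ⟨t, hto, htv, -⟩ := hst v hv
      exact ⟨⟨⟨t, hto, fun hc => hv (hcf t hto hc v htv)⟩, v, hv, htv⟩, rfl⟩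
  -- all the fixed spaces have the same size
  have hsq : ∀ t : T, A t * A t = Nat.card V := by
    intro t
    have hne : t ≠ σ t := fun e => (hzt t).2.2 (congrArg Subtype.val e).symm
    obtain ⟨u, hu1, hu2⟩ : ∃ u : T, u ≠ t ∧ u ≠ σ t := by
      by_contra h
      push Not at h
      have huniv : (Finset.univ : Finset T) = {t, σ t} := by
        ext u
        simp only [Finset.mem_univ, Finset.mem_insert, Finset.mem_singleton, true_iff]
        exact or_iff_not_imp_left.2 (h u)
      rw [huniv, Finset.sum_pair hne] at hcount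
      obtain ⟨a, ha⟩ : ∃ a, A t = a + 2 := ⟨A t - 2, by have := hA2 t; omega⟩
      obtain ⟨b, hb⟩ : ∃ b, A (σ t) = b + 2 := ⟨A (σ t) - 2, by have := hA2 (σ t); omega⟩
      rw [← hprod t, ha, hb] at hcount
      simp only [Nat.add_mul, Nat.mul_add] at hcount
      omega
    have hσσ : σ (σ t) = t := Subtype.ext (by
      show z * (z * t.1) = t.1
      rw [← mul_assoc, hzz, one_mul])
    have hu3 : σ u ≠ t := fun e => hu2 (by rw [← e]; exact (Subtype.ext (by
      show u.1 = z * (z * u.1)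
      rw [← mul_assoc, hzz, one_mul])))
    have hu4 : σ u ≠ σ t := fun e => hu1 (Subtype.ext (mul_left_cancel (congrArg Subtype.val e)))
    have p1 := hle t u (Ne.symm hu1)
    have p2 := hle t (σ u) (Ne.symm hu3)
    have p3 := hle (σ t) u (Ne.symm hu2)
    have p4 := hle (σ t) (σ u) (Ne.symm hu4)
    have q1 := hprod t
    have q2 := hprod u
    have pa := hA2 t; have pb := hA2 (σ t); have pc := hA2 u; have pd := hA2 (σ u)
    generalize A t = a, A (σ t) = b, A u = c, A (σ u) = d at *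
    generalize Nat.card V = n at *
    have h1 : a ≤ d := Nat.le_of_mul_le_mul_left (by rw [mul_comm c a]; exact p1.trans_eq q2.symm) (by omega : 0 < c)
    have h2 : a ≤ c := Nat.le_of_mul_le_mul_right (p2.trans_eq q2.symm) (by omega : 0 < d)
    have h3 : c ≤ b := Nat.le_of_mul_le_mul_left (p1.trans_eq q1.symm) (by omega : 0 < a)
    have h4 : c ≤ a := Nat.le_of_mul_le_mul_left (by rw [mul_comm b a]; exact p3.trans_eq q1.symm) (by omega : 0 < b)
    have h5 : d ≤ a := Nat.le_of_mul_le_mul_left (by rw [mul_comm b a]; exact p4.trans_eq q1.symm) (by omega : 0 < b)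
    obtain rfl : a = c := le_antisymm h2 h4
    obtain rfl : a = d := le_antisymm h1 h5
    exact q2
  obtain ⟨v, hv⟩ := exists_ne (0 : V)
  obtain ⟨t₀, ht₀, ht₀v, -⟩ := hst v hv
  let t : T := ⟨t₀, ht₀, fun hc => hv (hcf t₀ ht₀ hc v ht₀v)⟩
  have hAr : A t = q ^ Module.finrank (ZMod q) (fix ρ t.1) := by
    show Nat.card (fix ρ t.1) = _
    rw [Module.natCard_eq_pow_finrank (K := ZMod q), Nat.card_zmod]
  set r := Module.finrank (ZMod q) (fix ρ t.1) with hr
  refine ⟨r, by rw [← hsq t, hAr, ← pow_add, two_mul], ?_⟩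
  have hconst : ∀ u : T, A u = q ^ r := fun u => by
    rw [← hAr]; exact Nat.mul_self_inj.1 ((hsq u).trans (hsq t).symm)
  rw [Finset.sum_congr rfl fun u _ => by rw [hconst u], Finset.sum_const, smul_eq_mul,
    ← hsq t, hAr, Finset.card_univ, ← Nat.card_eq_fintype_card] at hcount
  have h2 := hA2 t
  rw [hAr] at h2
  obtain ⟨k, hk⟩ : ∃ k, q ^ r = k + 2 := ⟨q ^ r - 2, by omega⟩
  rw [hk] at hcount ⊢
  show Nat.card T = _
  rw [show (k + 2) * (k + 2) - 1 = (k + 3) * (k + 2 - 1) by
    rw [show k + 2 - 1 = k + 1 by omega]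
    have : (k + 2) * (k + 2) = (k + 3) * (k + 1) + 1 := by ring
    omega] at hcount
  exact Nat.eq_of_mul_eq_mul_right (by omega) hcount

end Cfsg.Agent.S3381
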