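import Cfsg.Statements.S3382
import Mathlib

set_option autoImplicit false
open Cfsg

namespace Cfsg.Agent.S3382

--- PRE
variable {q : ℕ} [Fact q.Prime]

local notation "W" => (Fin 2 → ZMod q) ≃ₗ[ZMod q] (Fin 2 → ZMod q)

/-- diagonal `diag (a, s/a)` -/
def IsD (f : W) (a s : ZMod q) : Prop := ∀ v, f v = ![a * v 0, s * a⁻¹ * v 1]

/-- antidiagonal -/
def IsJ (f : W) (a s : ZMod q) : Prop := ∀ v, f v = ![s * a⁻¹ * v 1, a * v 0]

theorem d_mul {f g : W} {a s b t : ZMod q} (hf : IsD f a s) (hg : IsD g b t) : IsD (f * g) (a * b) (s * t) := by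
  intro v
  show f (g v) = _
  rw [hf, hg]
  funext i
  fin_cases i <;> simp [mul_inv] <;> ring

theorem d_one : IsD (1 : W) 1 1 := by
  intro v
  show v = _
  funext i
  fin_cases i <;> simp

theorem d_pow {f : W} {a s : ZMod q} (hf : IsD f a s) (n : ℕ) : IsD (f ^ n) (a ^ n) (s ^ n) := by
  induction n with
  | zero => simpa using d_one
  | succ n ih => rw [pow_succ, pow_succ, pow_succ]; exact d_mul ih hf

theorem sq3 : ∀ a : ZMod 3, a ≠ 0 → a * a = 1 := by decide

theorem two_cases : ∀ a : ZMod 2, a ≠ 0 → a = 1 := by decide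

theorem d_ext {f g : W} {a s : ZMod q} (hf : IsD f a s) (hg : IsD g a s) : f = g :=
  LinearEquiv.ext fun v => by rw [hf, hg]

theorem d_unique {f : W} {a s b t : ZMod q} (ha : a ≠ 0) (hf : IsD f a s) (hg : IsD f b t) : a = b ∧ s = t := by
  have h0 := congrFun ((hf ![1, 1]).symm.trans (hg ![1, 1])) 0
  have h1 := congrFun ((hf ![1, 1]).symm.trans (hg ![1, 1])) 1
  simp at h0 h1
  subst h0
  exact ⟨rfl, mul_right_cancel₀ (inv_ne_zero ha) h1⟩

theorem j_mul_j {f g : W} {a s b t : ZMod q} (hf : IsJ f a s) (hg : IsJ g b t) (ha : a ≠ 0) (hb : b ≠ 0) :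
    IsD (f * g) (s * a⁻¹ * b) (s * t) ∨ s = 0 := by
  by_cases hs : s = 0
  · exact Or.inr hs
  left
  intro v
  show f (g v) = _
  rw [hf, hg]
  funext i
  fin_cases i <;> simp <;> field_simp

theorem j_not_d {f : W} {a s b t : ZMod q} (ha : a ≠ 0) (hf : IsJ f a s) (hg : IsD f b t) : False := by
  have h := congrFun ((hf ![1, 0]).symm.trans (hg ![1, 0])) 1
  simp at h
  exact ha h

theorem exists_d (a s : ZMod q) (ha : a ≠ 0) (hs : s ≠ 0) : ∃ f : W, IsD f a s := by
  refine ⟨{ toFun := fun v => ![a * v 0, s * a⁻¹ * v 1]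
            map_add' := fun v w => by funext i; fin_cases i <;> simp <;> ring
            map_smul' := fun c v => by funext i; fin_cases i <;> simp <;> ring
            invFun := fun v => ![a⁻¹ * v 0, a * s⁻¹ * v 1]
            left_inv := fun v => by funext i; fin_cases i <;> simp <;> field_simp
            right_inv := fun v => by funext i; fin_cases i <;> simp <;> field_simp }, fun v => rfl⟩

theorem exists_j (a s : ZMod q) (ha : a ≠ 0) (hs : s ≠ 0) : ∃ f : W, IsJ f a s := by
  refine ⟨{ toFun := fun v => ![s * a⁻¹ * v 1, a * v 0]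
            map_add' := fun v w => by funext i; fin_cases i <;> simp <;> ring
            map_smul' := fun c v => by funext i; fin_cases i <;> simp <;> ring
            invFun := fun v => ![a⁻¹ * v 1, a * s⁻¹ * v 0]
            left_inv := fun v => by funext i; fin_cases i <;> simp <;> field_simp
            right_inv := fun v => by funext i; fin_cases i <;> simp <;> field_simp }, fun v => rfl⟩

theorem fix_of_two_part {T : Type*} [Group T] {φ : MulAut T} {k : ℕ} {x u : T} (hx : φ x = x * u)
    (hu : φ u = u) (hφ : Odd (orderOf φ)) (h2 : u ^ 2 ^ k = 1) : φ x = x := by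
  have key : ∀ n : ℕ, (φ ^ n) x = x * u ^ n := by
    intro n
    induction n with
    | zero => simp
    | succ n ih =>
      rw [pow_succ' φ, MulAut.mul_apply, ih, map_mul, map_pow, hu, hx, mul_assoc, ← pow_succ']
  have h := key (orderOf φ)
  rw [pow_orderOf_eq_one, MulAut.one_apply] at h
  have h1 : u ^ orderOf φ = 1 := mul_eq_left.1 h.symm
  have hco : (orderOf φ).Coprime (2 ^ k) := (hφ.coprime_two_right).pow_right k
  have h3 : u = 1 := orderOf_eq_one_iff.1 (Nat.eq_one_of_dvd_coprimes hco
    (orderOf_dvd_of_pow_eq_one h1) (orderOf_dvd_of_pow_eq_one h2))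
  rw [hx, h3, mul_one]

/-- Let q = 2^m + 1 be a prime other than 5. Then the automorphism group of the group of linear maps of F_q² of the forms (x, y) ↦ (a x, ± a⁻¹ y) and (x, y) ↦ (± a⁻¹ y, a x) with a ≠ 0 is itself a 2-group. -/
theorem result (q m : ℕ) [Fact q.Prime] (hq : q = 2 ^ m + 1) (hq5 : q ≠ 5)
    (T : Subgroup ((Fin 2 → ZMod q) ≃ₗ[ZMod q] (Fin 2 → ZMod q)))
    (hT : ∀ f, f ∈ T ↔ ∃ a s : ZMod q, a ≠ 0 ∧ (s = 1 ∨ s = -1) ∧
      ((∀ v, f v = ![a * v 0, s * a⁻¹ * v 1]) ∨ (∀ v, f v = ![s * a⁻¹ * v 1, a * v 0]))) :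
    IsPGroup 2 (MulAut T) := by
  classical
  have hqp : q.Prime := Fact.out
  -- elements of `T`
  have hmem : ∀ x : T, ∃ a s : ZMod q, a ≠ 0 ∧ (s = 1 ∨ s = -1) ∧ (IsD x.1 a s ∨ IsJ x.1 a s) := fun x => (hT x.1).1 x.2
  have hmk : ∀ a s : ZMod q, a ≠ 0 → (s = 1 ∨ s = -1) → ∀ f, IsD f a s ∨ IsJ f a s → f ∈ T :=
    fun a s ha hs f hf => (hT f).2 ⟨a, s, ha, hs, hf⟩
  have hs0 : ∀ {s : ZMod q}, (s = 1 ∨ s = -1) → s ≠ 0 := by
    rintro s (rfl | rfl) <;> simp
  have hss : ∀ {s : ZMod q}, (s = 1 ∨ s = -1) → s * s = 1 := by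
    rintro s (rfl | rfl) <;> simp
  haveI : Finite T := by
    haveI : Finite ((Fin 2 → ZMod q) ≃ₗ[ZMod q] (Fin 2 → ZMod q)) :=
      Finite.of_injective (fun f => (f : (Fin 2 → ZMod q) → (Fin 2 → ZMod q))) DFunLike.coe_injective
    exact Subtype.finite
  by_cases hm0 : m = 0
  · -- `q = 2`
    subst hm0
    norm_num at hq
    subst hq
    have hone : ∀ x : T, x ≠ 1 → IsJ x.1 1 1 := by
      intro x hx
      obtain ⟨a, s, ha, hs, h | h⟩ := hmem x
      · exfalso
        apply hx
        refine Subtype.ext (d_ext h ?_)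
        rw [two_cases a ha, two_cases s (hs0 hs)]
        exact d_one
      · rwa [two_cases a ha, two_cases s (hs0 hs)] at h
    intro φ
    refine ⟨0, ?_⟩
    rw [pow_zero, pow_one]
    refine MulEquiv.ext fun x => ?_
    show φ x = x
    by_cases hx : x = 1
    · rw [hx, map_one]
    · exact Subtype.ext (LinearEquiv.ext fun v => by
        rw [hone x hx v, hone (φ x) (fun h => hx (φ.injective (h.trans (map_one φ).symm))) v])
  have hq2 : 2 < q := by
    have : 2 ^ 1 ≤ 2 ^ m := Nat.pow_le_pow_right two_pos (Nat.one_le_iff_ne_zero.2 hm0)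
    omega
  have hne : (-1 : ZMod q) ≠ 1 := by
    haveI : Fact (2 < q) := ⟨hq2⟩
    exact ZMod.neg_one_ne_one
  let D : T → Prop := fun x => ∃ a s : ZMod q, a ≠ 0 ∧ (s = 1 ∨ s = -1) ∧ IsD x.1 a s
  have hDmul : ∀ x y : T, D x → D y → D (x * y) := by
    rintro x y ⟨a, s, ha, hs, hx⟩ ⟨b, t, hb, ht, hy⟩
    exact ⟨a * b, s * t, mul_ne_zero ha hb, by rcases hs with rfl | rfl <;> rcases ht with rfl | rfl <;> simp, d_mul hx hy⟩
  have hcomm : ∀ x y : T, D x → D y → x * y = y * x := by
    rintro x y ⟨a, s, -, -, hx⟩ ⟨b, t, -, -, hy⟩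
    refine Subtype.ext (d_ext (d_mul hx hy) ?_)
    rw [mul_comm a b, mul_comm s t]
    exact d_mul hy hx
  have hDinv : ∀ x : T, D x → D x⁻¹ := by
    intro x hx
    have : ∀ n : ℕ, D (x ^ n) := fun n => by
      induction n with
      | zero => exact ⟨1, 1, one_ne_zero, Or.inl rfl, by simpa using d_one⟩
      | succ n ih => rw [pow_succ]; exact hDmul _ _ ih hx
    have he : x⁻¹ = x ^ (orderOf x - 1) := by
      refine inv_eq_of_mul_eq_one_right ?_
      rw [← pow_succ', Nat.sub_add_cancel (orderOf_pos x), pow_orderOf_eq_one]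
    rw [he]; exact this _
  -- products of two antidiagonal elements
  have hJJ : ∀ x y : T, ¬ D x → ¬ D y → D (x * y) := by
    intro x y hx hy
    obtain ⟨a, s, ha, hs, h1 | h1⟩ := hmem x
    · exact absurd ⟨a, s, ha, hs, h1⟩ hx
    obtain ⟨b, t, hb, ht, h2 | h2⟩ := hmem y
    · exact absurd ⟨b, t, hb, ht, h2⟩ hy
    refine ⟨s * a⁻¹ * b, s * t, mul_ne_zero (mul_ne_zero (hs0 hs) (inv_ne_zero ha)) hb, ?_,
      (j_mul_j h1 h2 ha hb).resolve_right (hs0 hs)⟩
    rcases hs with rfl | rfl <;> rcases ht with rfl | rfl <;> simp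
  obtain ⟨z', hz'⟩ := exists_d (q := q) (-1) 1 (by simp) one_ne_zero
  let z : T := ⟨z', hmk (-1) 1 (by simp) (Or.inl rfl) z' (Or.inl hz')⟩
  obtain ⟨e', he'⟩ := exists_d (q := q) 1 (-1) one_ne_zero (by simp)
  let e : T := ⟨e', hmk 1 (-1) one_ne_zero (Or.inr rfl) e' (Or.inl he')⟩
  obtain ⟨j', hj'⟩ := exists_j (q := q) 1 (-1) one_ne_zero (by simp)
  let j : T := ⟨j', hmk 1 (-1) one_ne_zero (Or.inr rfl) j' (Or.inr hj')⟩
  have hz2 : z * z = 1 := Subtype.ext (d_ext (d_mul hz' hz') (by simpa using d_one))
  have he2 : e * e = 1 := Subtype.ext (d_ext (d_mul he' he') (by simpa using d_one))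
  have hz1 : z ≠ 1 := fun h => hne (d_unique (by simp) hz' (show IsD z' 1 1 by
    have h' : z' = (1 : _) := congrArg Subtype.val h
    rw [h']; exact d_one)).1
  have hDz : D z := ⟨-1, 1, by simp, Or.inl rfl, hz'⟩
  have hDe : D e := ⟨1, -1, one_ne_zero, Or.inr rfl, he'⟩
  have hJj : ¬ D j := by
    rintro ⟨a, s, -, -, h⟩
    exact j_not_d one_ne_zero hj' h
  -- squares
  have hsqJ : ∀ x : T, ¬ D x → x * x = 1 ∨ x * x = z := by
    intro x hx
    obtain ⟨a, s, ha, hs, h1 | h1⟩ := hmem x
    · exact absurd ⟨a, s, ha, hs, h1⟩ hx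
    have h := (j_mul_j h1 h1 ha ha).resolve_right (hs0 hs)
    rw [inv_mul_cancel_right₀ ha, hss hs] at h
    rcases hs with rfl | rfl
    · exact Or.inl (Subtype.ext (d_ext h (by simpa using d_one)))
    · exact Or.inr (Subtype.ext (d_ext h hz'))
  have hjj : j * j = z := by
    have h := (j_mul_j hj' hj' one_ne_zero one_ne_zero).resolve_right (by simp)
    rw [inv_mul_cancel_right₀ one_ne_zero, hss (Or.inr rfl)] at h
    exact Subtype.ext (d_ext h hz')
  have hpoint : ∀ a s : ZMod q, (s = 1 ∨ s = -1) → ∀ x : T, IsD x.1 a s → a * a = 1 → x = 1 ∨ x = z ∨ x = e ∨ x = z * e := by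
    intro a s hs x hx ha
    have ha' : a = 1 ∨ a = -1 := mul_self_eq_one_iff.1 ha
    rcases ha' with rfl | rfl <;> rcases hs with rfl | rfl
    · exact Or.inl (Subtype.ext (d_ext hx d_one))
    · exact Or.inr (Or.inr (Or.inl (Subtype.ext (d_ext hx he'))))
    · exact Or.inr (Or.inl (Subtype.ext (d_ext hx hz')))
    · refine Or.inr (Or.inr (Or.inr (Subtype.ext (d_ext hx ?_))))
      have := d_mul hz' he'
      simpa using this
  have hinv : ∀ x : T, D x → x * x = 1 → x = 1 ∨ x = z ∨ x = e ∨ x = z * e := by
    rintro x ⟨a, s, ha, hs, hx⟩ h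
    refine hpoint a s hs x hx (d_unique (b := 1) (t := 1) (mul_ne_zero ha ha) (d_mul hx hx) ?_).1
    have h' : x.1 * x.1 = 1 := congrArg Subtype.val h
    rw [h']; exact d_one
  -- squares which are involutions
  have hsqz : ∀ x : T, (x * x) * (x * x) = 1 → x * x = 1 ∨ x * x = z := by
    intro x h
    by_cases hx : D x
    · obtain ⟨a, s, ha, hs, hd⟩ := hx
      have h1 := d_mul hd hd
      rw [hss hs] at h1
      have h' : (x * x).1 * (x * x).1 = 1 := congrArg Subtype.val h
      have h2 := (d_unique (mul_ne_zero (mul_ne_zero ha ha) (mul_ne_zero ha ha)) (d_mul h1 h1)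
        (show IsD ((x * x).1 * (x * x).1) 1 1 by rw [h']; exact d_one)).1
      rcases mul_self_eq_one_iff.1 h2 with h3 | h3 <;> rw [h3] at h1
      · exact Or.inl (Subtype.ext (d_ext h1 d_one))
      · exact Or.inr (Subtype.ext (d_ext h1 hz'))
    · exact hsqJ x hx
  -- automorphisms of odd order are trivial
  have main : ∀ φ : MulAut T, Odd (orderOf φ) → φ = 1 := by
    intro φ hφ
    have hfz : φ z = z := by
      have h := hsqz (φ j) (by rw [← map_mul, hjj, ← map_mul, hz2, map_one])
      rw [← map_mul, hjj] at h
      exact h.resolve_left fun h1 => hz1 (φ.injective (h1.trans (map_one φ).symm))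
    -- the diagonal subgroup is invariant
    have hDφ : ∀ x : T, D x → D (φ x) := by
      intro x hx
      by_cases hm3 : m ≤ 2
      · -- `q = 3`
        have hm : m = 1 := by
          interval_cases m
          · exact absurd rfl hm0
          · rfl
          · norm_num at hq; exact absurd hq hq5
        subst hm
        norm_num at hq
        subst hq
        obtain ⟨a, s, ha, hs, hd⟩ := hx
        have haa : a * a = 1 := sq3 a ha
        have hje : ∀ w : T, ¬ D w → w * w = z → φ w = w := by
          have hjs : ∀ w : T, ¬ D w → w * w = z → w = j ∨ w = j * z := by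
            intro w hw hwz
            have hd' : D (j⁻¹ * w) := by
              by_contra hn
              have h5 := hJJ j (j⁻¹ * w) hJj hn
              rw [mul_inv_cancel_left] at h5
              exact hw h5
            obtain ⟨b, t, hb, ht, hb'⟩ := hd'
            have hb1 : b * b = 1 := sq3 b hb
            have hje' : j * e * (j * e) = 1 := by
              have hbd : IsJ (j * e).1 1 1 := by
                intro v
                show j' (e' v) = _
                rw [hj', he']
                funext i
                fin_cases i <;> simp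
              have h6 := (j_mul_j hbd hbd one_ne_zero one_ne_zero).resolve_right one_ne_zero
              exact Subtype.ext (d_ext h6 (by simpa using d_one))
            have hzc : ∀ y : T, z * y = y * z := fun y => Subtype.ext (LinearEquiv.ext fun v => by
              show z' (y.1 v) = y.1 (z' v)
              have hz'' : ∀ u, z' u = -u := fun u => by
                rw [hz']; funext i; fin_cases i <;> simp
              rw [hz'', hz'', map_neg])
            have hw' : w = j * (j⁻¹ * w) := (mul_inv_cancel_left _ _).symm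
            rcases hpoint b t ht _ hb' hb1 with h1 | h1 | h1 | h1
            · rw [h1, mul_one] at hw'; exact Or.inl hw'
            · rw [h1] at hw'; exact Or.inr hw'
            · exfalso
              rw [h1] at hw'
              rw [hw', hje'] at hwz
              exact hz1 hwz.symm
            · exfalso
              rw [h1, ← mul_assoc, ← hzc j, mul_assoc] at hw'
              rw [hw', show z * (j * e) * (z * (j * e)) = z * z * (j * e * (j * e)) by
                rw [mul_assoc z, ← mul_assoc (j * e) z, ← hzc (j * e), mul_assoc z (j * e), ← mul_assoc],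
                hz2, one_mul, hje'] at hwz
              exact hz1 hwz.symm
          have hsz : ∀ w : T, w * w = z → ¬ D w := by
            rintro w hwz ⟨b, t, hb, ht, hbd⟩
            have hb1 : b * b = 1 := sq3 b hb
            have h7 := d_mul hbd hbd
            rw [hb1, hss ht] at h7
            exact hz1 (hwz ▸ (Subtype.ext (d_ext h7 d_one) : w * w = 1))
          intro w hw hwz
          have himg := hjs (φ w) (hsz _ (by rw [← map_mul, hwz, hfz])) (by rw [← map_mul, hwz, hfz])
          have hj1 := hjs (φ j) (hsz _ (by rw [← map_mul, hjj, hfz])) (by rw [← map_mul, hjj, hfz])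
          have hfj : φ j = j := by
            rcases hj1 with h8 | h8
            · exact h8
            · exact fix_of_two_part (k := 1) h8 hfz hφ (by rw [pow_one, pow_two, hz2])
          rcases hjs w hw hwz with rfl | rfl
          · exact hfj
          · rw [map_mul, hfj, hfz]
        have hfix_e : φ e = e := by
          by_cases hde : D (φ e)
          · obtain ⟨b, t, hb, ht, hbd⟩ := hde
            have hb1 : b * b = 1 := sq3 b hb
            rcases hpoint b t ht _ hbd hb1 with h1 | h1 | h1 | h1
            · exfalso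
              exact absurd (d_unique one_ne_zero he' (show IsD e' 1 1 by
                have : e' = 1 := congrArg Subtype.val (φ.injective (h1.trans (map_one φ).symm))
                rw [this]; exact d_one)).2 hne
            · exfalso
              have : e = z := φ.injective (h1.trans hfz.symm)
              exact hne (d_unique one_ne_zero he' (show IsD e' (-1) 1 by
                have h9 : e' = z' := congrArg Subtype.val this
                rw [h9]; exact hz')).1.symm
            · exact h1
            · refine fix_of_two_part (k := 1) (u := z) ?_ hfz hφ (by rw [pow_one, pow_two, hz2])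
              rw [h1]; exact hcomm z e hDz hDe
          · exfalso
            set u := e * φ e with hu
            have hDu : ¬ D u := fun h => hde (by
              have := hDmul e u hDe h
              rwa [hu, ← mul_assoc, he2, one_mul] at this)
            rcases hsqJ u hDu with h10 | h10
            · -- `u² = 1`: `e` and `φ e` commute
              obtain ⟨b, t, hb, ht, h11 | h11⟩ := hmem (φ e)
              · exact hde ⟨b, t, hb, ht, h11⟩
              have h12 : (φ e * φ e) = 1 := by rw [← map_mul, he2, map_one]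
              have h13 := (j_mul_j h11 h11 hb hb).resolve_right (hs0 ht)
              rw [inv_mul_cancel_right₀ hb, hss ht] at h13
              have h14 : (φ e).1 * (φ e).1 = 1 := congrArg Subtype.val h12
              rw [h14] at h13
              obtain rfl : t = 1 := (d_unique one_ne_zero d_one h13).1.symm
              have hud : IsJ u.1 (-1 * b) (-1) := by
                intro v
                show e' ((φ e).1 v) = _
                rw [he', h11]
                funext i
                fin_cases i <;> simp
              have hnb : -1 * b ≠ 0 := mul_ne_zero (by simp) hb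
              have h15 := (j_mul_j hud hud hnb hnb).resolve_right (by simp)
              rw [inv_mul_cancel_right₀ hnb, hss (Or.inr rfl)] at h15
              have h16 : u.1 * u.1 = 1 := congrArg Subtype.val h10
              rw [h16] at h15
              exact hne (d_unique one_ne_zero d_one h15).1.symm
            · have hfu := hje u hDu h10
              have := fix_of_two_part (k := 2) (x := e) (u := u) (by rw [hu, ← mul_assoc, he2, one_mul]) hfu hφ
                (by rw [show (2 : ℕ) ^ 2 = 2 + 2 by norm_num, pow_add, pow_two, h10, hz2])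
              exact hde (by rw [this]; exact hDe)
        rcases hpoint a s hs x hd haa with rfl | rfl | rfl | rfl
        · rw [map_one]; exact ⟨1, 1, one_ne_zero, Or.inl rfl, d_one⟩
        · rw [hfz]; exact hDz
        · rw [hfix_e]; exact hDe
        · rw [map_mul, hfz, hfix_e]; exact hDmul _ _ hDz hDe
      · obtain ⟨g, hg⟩ := IsCyclic.exists_generator (α := (ZMod q)ˣ)
        have hgo : orderOf g = 2 ^ m := by
          rw [orderOf_eq_card_of_forall_mem_zpowers hg, Nat.card_eq_fintype_card, ZMod.card_units q, hq,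
            Nat.add_sub_cancel]
        have hbig : ∀ (s : ZMod q), (s = 1 ∨ s = -1) → ∀ w : T, IsD w.1 (g : ZMod q) s → D (φ w) := by
          intro s hs w hw
          by_contra hn
          have h4 : (φ w) ^ 4 = 1 := by
            rcases hsqJ _ hn with h1 | h1
            · rw [show 4 = 2 + 2 from rfl, pow_add, pow_two, h1, one_mul]
            · rw [show 4 = 2 + 2 from rfl, pow_add, pow_two, h1, hz2]
          rw [← map_pow, ← map_one φ] at h4
          have h5 : w.1 ^ 4 = 1 := by rw [← SubmonoidClass.coe_pow, φ.injective h4]; rfl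
          have h6 := (d_unique (pow_ne_zero 4 g.ne_zero) (d_pow hw 4) (h5 ▸ d_one)).1
          have h7 : g ^ 4 = 1 := Units.ext (by rw [Units.val_pow_eq_pow_val, h6]; rfl)
          have h8 := Nat.le_of_dvd (by norm_num) (hgo ▸ orderOf_dvd_of_pow_eq_one h7)
          have : 2 ^ 3 ≤ 2 ^ m := Nat.pow_le_pow_right two_pos (by omega)
          omega
        obtain ⟨c', hc'⟩ := exists_d (q := q) (g : ZMod q) 1 g.ne_zero one_ne_zero
        let c : T := ⟨c', hmk g 1 g.ne_zero (Or.inl rfl) c' (Or.inl hc')⟩
        have hc1 : D (φ c) := hbig 1 (Or.inl rfl) c hc'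
        have hce : D (φ e) := by
          have h1 : D (φ (c * e)) := hbig (-1) (Or.inr rfl) _ (by
            show IsD (c' * e') _ _
            simpa using d_mul hc' he')
          have := hDmul _ _ (hDinv _ hc1) h1
          rwa [← map_inv, ← map_mul, inv_mul_cancel_left] at this
        obtain ⟨a, s, ha, hs, hd⟩ := hx
        obtain ⟨i, hi⟩ := (Submonoid.mem_powers_iff _ _).1 (mem_powers_iff_mem_zpowers.2 (hg (Units.mk0 a ha)))
        have hi' : (g : ZMod q) ^ i = a := by rw [← Units.val_pow_eq_pow_val, hi]; rfl
        have hpw : ∀ n : ℕ, D (φ (c ^ n)) := fun n => by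
          induction n with
          | zero => rw [pow_zero, map_one]; exact ⟨1, 1, one_ne_zero, Or.inl rfl, d_one⟩
          | succ n ih => rw [pow_succ, map_mul]; exact hDmul _ _ ih hc1
        rcases hs with rfl | rfl
        · rw [show x = c ^ i from Subtype.ext (d_ext hd (by
            have h9 := d_pow hc' i
            rw [hi', one_pow] at h9
            exact h9))]
          exact hpw i
        · rw [show x = c ^ i * e from Subtype.ext (d_ext hd (by
            have h9 := d_mul (d_pow hc' i) he'
            rw [hi', mul_one, one_pow, one_mul] at h9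
            exact h9)), map_mul]
          exact hDmul _ _ (hpw i) hce
    have hez : φ e = e := by
      rcases hinv (φ e) (hDφ e hDe) (by rw [← map_mul, he2, map_one]) with h1 | h1 | h1 | h1
      · exfalso
        exact absurd (d_unique one_ne_zero he' (show IsD e' 1 1 by
          have h2 : e' = 1 := congrArg Subtype.val (φ.injective (h1.trans (map_one φ).symm))
          rw [h2]; exact d_one)).2 hne
      · exfalso
        exact hne (d_unique one_ne_zero he' (show IsD e' (-1) 1 by
          have h2 : e' = z' := congrArg Subtype.val (φ.injective (h1.trans hfz.symm))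
          rw [h2]; exact hz')).1.symm
      · exact h1
      · refine fix_of_two_part (k := 1) (u := z) ?_ hfz hφ (by rw [pow_one, pow_two, hz2])
        rw [h1]; exact hcomm z e hDz hDe
    have hV : ∀ x : T, D x → x * x = 1 → φ x = x := by
      intro x hx h
      rcases hinv x hx h with rfl | rfl | rfl | rfl
      · exact map_one φ
      · exact hfz
      · exact hez
      · rw [map_mul, hfz, hez]
    have hchain : ∀ k : ℕ, ∀ x : T, D x → x ^ 2 ^ (k + 1) = 1 → φ x = x := by
      intro k
      induction k with
      | zero => intro x hx h; rw [pow_one, pow_two] at h; exact hV x hx h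
      | succ k ih =>
        intro x hx h
        have hu : D (x⁻¹ * φ x) := hDmul _ _ (hDinv _ hx) (hDφ x hx)
        have hfix : φ (x ^ 2 ^ (k + 1)) = x ^ 2 ^ (k + 1) := by
          have hpw : ∀ n : ℕ, D (x ^ n) := fun n => by
            induction n with
            | zero => exact ⟨1, 1, one_ne_zero, Or.inl rfl, by simpa using d_one⟩
            | succ n ih => rw [pow_succ]; exact hDmul _ _ ih hx
          refine hV _ (hpw _) ?_
          rw [← pow_add, ← two_mul, ← pow_succ', h]
        have hu2 : (x⁻¹ * φ x) ^ 2 ^ (k + 1) = 1 := by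
          rw [(show Commute x⁻¹ (φ x) from hcomm _ _ (hDinv _ hx) (hDφ x hx)).mul_pow, ← map_pow, hfix, inv_pow, inv_mul_cancel]
        exact fix_of_two_part (k := k + 1) (mul_inv_cancel_left x (φ x)).symm (ih _ hu hu2) hφ hu2
    have hA : ∀ x : T, D x → φ x = x := by
      intro x hx
      obtain ⟨a, s, ha, hs, hd⟩ := id hx
      refine hchain m x hx (Subtype.ext (d_ext (d_pow hd _) ?_))
      have h1 : a ^ 2 ^ m = 1 := by
        have := ZMod.pow_card_sub_one_eq_one ha
        have hq' : q - 1 = 2 ^ m := by rw [hq]; rfl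
        rwa [hq'] at this
      have h2 : s ^ 2 ^ (m + 1) = 1 := by rw [pow_succ', pow_mul, pow_two, hss hs, one_pow]
      rw [h2, pow_succ, pow_mul, h1, one_pow]
      exact d_one
    refine MulEquiv.ext fun x => ?_
    show φ x = x
    by_cases hx : D x
    · exact hA x hx
    have hnx : ¬ D (φ x) := by
      intro h
      exact hx (φ.injective (hA _ h) ▸ h)
    have hxi : ¬ D x⁻¹ := fun h => hx (inv_inv x ▸ hDinv _ h)
    have hu : D (x⁻¹ * φ x) := hJJ _ _ hxi hnx
    obtain ⟨a, s, ha, hs, hd⟩ := id hu
    refine fix_of_two_part (k := m + 1) (mul_inv_cancel_left x (φ x)).symm (hA _ hu) hφ (Subtype.ext (d_ext (d_pow hd _) ?_))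
    have h1 : a ^ 2 ^ m = 1 := by
      have := ZMod.pow_card_sub_one_eq_one ha
      have hq' : q - 1 = 2 ^ m := by rw [hq]; rfl
      rwa [hq'] at this
    have h2 : s ^ 2 ^ (m + 1) = 1 := by rw [pow_succ', pow_mul, pow_two, hss hs, one_pow]
    rw [h2, pow_succ, pow_mul, h1, one_pow]
    exact d_one
  intro φ
  haveI : Finite (MulAut T) := Finite.of_injective (fun f => (f : T → T)) DFunLike.coe_injective
  obtain ⟨k, r, hr, hord⟩ := Nat.exists_eq_two_pow_mul_odd (orderOf_pos φ).ne'
  refine ⟨k, main _ ?_⟩
  rw [orderOf_pow' _ (by positivity), hord, Nat.gcd_eq_right (dvd_mul_right _ _), Nat.mul_div_cancel_left _ (by positivity)]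
  exact hr

end Cfsg.Agent.S3382
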