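import Cfsg.Statements.S3383
import Mathlib
import Cfsg.Agent.Lib.Char.Frobenius

set_option autoImplicit false
open Cfsg

open scoped Pointwise

namespace Cfsg.Agent.S3383

/-- Let H be a Frobenius complement in a finite group L and K the Frobenius kernel (as a subgroup). Then K is characteristic in L, and every normal subgroup of L either contains K or is contained in K. -/
theorem result {L : Type*} [Group L] [Finite L]
    (H : Subgroup L) (hH : Cfsg.IsFrobeniusComplement H)
    (K : Subgroup L) (hK : (K : Set L) = Cfsg.frobeniusKernel H) :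
    K.Characteristic ∧ ∀ N : Subgroup L, N.Normal → K ≤ N ∨ N ≤ K := by
  classical
  obtain ⟨hH0, hH1, hTI⟩ := hH
  have hTI' : ∀ g x : L, x ∈ H → g * x * g⁻¹ ∈ H → x ≠ 1 → g ∈ H := by
    intro g x hx hgx hne
    by_contra hg
    have h := hTI g hg
    have hmem : g * x * g⁻¹ ∈ H ⊓ (MulAut.conj g • H) :=
      ⟨hgx, ⟨x, hx, rfl⟩⟩
    rw [h, Subgroup.mem_bot, conj_eq_one_iff] at hmem
    exact hne hmem
  have hconj : ∀ g x : L, x ∈ MulAut.conj g • H ↔ g⁻¹ * x * g ∈ H := by
    intro g x
    rw [Subgroup.mem_pointwise_smul_iff_inv_smul_mem]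
    simp [MulAut.smul_def]
  have hKmem : ∀ x, x ∈ K ↔ x = 1 ∨ ∀ g : L, x ∉ MulAut.conj g • H := fun x => by
    show x ∈ (K : Set L) ↔ _
    rw [hK]; rfl
  haveI hKn : K.Normal := by
    refine ⟨fun x hx g => ?_⟩
    rw [hKmem] at hx ⊢
    rcases hx with rfl | hx
    · left; simp
    · right
      intro u hu
      apply hx (g⁻¹ * u)
      rw [hconj] at hu ⊢
      simpa [mul_assoc] using hu
  have hKH : ∀ x, x ∈ K → x ∈ H → x = 1 := fun x hx hxH => by
    rcases (hKmem x).mp hx with h | h
    · exact h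
    · exact absurd ((hconj 1 x).mpr (by simpa using hxH)) (h 1)
  haveI := Fintype.ofFinite L
  have hcard : Nat.card K = H.index := by
    rw [← CfsgLib.Frobenius.card_frobeniusKernel (H := H) ⟨hH0, hH1, hTI⟩]
    exact Nat.card_congr (Equiv.setCongr hK)
  have hcop : (Nat.card K).Coprime (Nat.card H) := by
    rw [hcard]
    refine Nat.coprime_of_dvd fun p hp hpi hpH => ?_
    haveI := Fact.mk hp
    obtain ⟨P₀⟩ : Nonempty (Sylow p H) := inferInstance
    set P := (P₀ : Subgroup H).map H.subtype with hP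
    have hPH : P ≤ H := Subgroup.map_subtype_le _
    have hne : P ≠ ⊥ := by
      rw [hP, Ne, Subgroup.map_eq_bot_iff_of_injective _ H.subtype_injective]
      exact Sylow.ne_bot_of_dvd_card P₀ hpH
    obtain ⟨x, hx⟩ := Subgroup.ne_bot_iff_exists_ne_one.mp hne
    have hNH : Subgroup.normalizer (P : Set L) ≤ H := fun g hg =>
      hTI' g x (hPH x.2) (hPH ((Subgroup.mem_normalizer_iff.mp hg x).mp x.2)) (fun h => hx (Subtype.ext h))
    obtain ⟨n, hn⟩ := (P₀.2.map H.subtype : IsPGroup p P).exists_card_eq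
    have hmod := Sylow.card_quotient_normalizer_modEq_card_quotient (p := p) (H := P) hn
    have hd : p ∣ P.index := hpi.trans (Subgroup.index_dvd_of_le hPH)
    have h2 : p ∣ P.relIndex (Subgroup.normalizer (P : Set L)) := (Nat.ModEq.dvd_iff hmod dvd_rfl).mpr hd
    have h3 : p ∣ P.relIndex H := h2.trans ⟨_, (Subgroup.relIndex_mul_relIndex _ _ _ Subgroup.le_normalizer hNH).symm⟩
    have h4 : P.relIndex H = (P₀ : Subgroup H).index := by
      show (P.subgroupOf H).index = _
      rw [hP, Subgroup.subgroupOf, Subgroup.comap_map_eq_self_of_injective H.subtype_injective]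
    exact P₀.not_dvd_index (h4 ▸ h3)
  have hidx : K.index = Nat.card H := by
    have h1 := K.card_mul_index
    have h2 := H.card_mul_index
    rw [hcard, ← h2, mul_comm (Nat.card H)] at h1
    exact Nat.eq_of_mul_eq_mul_left (Nat.pos_of_ne_zero Subgroup.index_ne_zero_of_finite) h1
  have hchar : ∀ x : L, x ∈ K ↔ orderOf x ∣ Nat.card K := by
    intro x
    refine ⟨fun hx => ?_, fun hx => ?_⟩
    · rw [← Subgroup.orderOf_mk x hx]; exact orderOf_dvd_natCard _
    · have h1 : orderOf (QuotientGroup.mk' K x) ∣ Nat.card H := by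
        rw [← hidx]; exact orderOf_dvd_natCard _
      have h2 : orderOf (QuotientGroup.mk' K x) ∣ Nat.card K := (orderOf_map_dvd _ x).trans hx
      have h3 := Nat.dvd_gcd h2 h1
      rw [hcop.gcd_eq_one, Nat.dvd_one, orderOf_eq_one_iff] at h3
      exact (QuotientGroup.eq_one_iff x).mp h3
  refine ⟨⟨fun φ => ?_⟩, fun N hN => ?_⟩
  · ext x
    show φ x ∈ K ↔ x ∈ K
    rw [hchar, hchar, MulEquiv.orderOf_eq]
  · by_cases hNH : N ⊓ H = ⊥
    · right
      intro x hx
      rw [hKmem]
      by_contra hne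
      push Not at hne
      obtain ⟨hx1, g, hg⟩ := hne
      rw [hconj] at hg
      have : g⁻¹ * x * g ∈ N ⊓ H := ⟨by simpa using hN.conj_mem x hx g⁻¹, hg⟩
      rw [hNH, Subgroup.mem_bot] at this
      apply hx1
      have := congrArg (fun y => g * y * g⁻¹) this
      simpa [mul_assoc] using this
    · left
      obtain ⟨⟨e, heN, heH⟩, he⟩ := Subgroup.ne_bot_iff_exists_ne_one.mp hNH
      have he1 : e ≠ 1 := fun h => he (Subtype.ext h)
      have hmap : ∀ k : K, (k : L) * e * (k : L)⁻¹ * e⁻¹ ∈ K := fun k => by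
        rw [show (k : L) * e * (k : L)⁻¹ * e⁻¹ = k * (e * (k : L)⁻¹ * e⁻¹) by simp [mul_assoc]]
        exact K.mul_mem k.2 (hKn.conj_mem _ (K.inv_mem k.2) e)
      have hinj : Function.Injective fun k : K => (⟨_, hmap k⟩ : K) := by
        intro a b hab
        have h := congrArg Subtype.val hab
        simp only [mul_left_inj] at h
        have h' : ((b : L)⁻¹ * a) * e * ((b : L)⁻¹ * a)⁻¹ = e := by
          calc ((b : L)⁻¹ * a) * e * ((b : L)⁻¹ * a)⁻¹ = (b : L)⁻¹ * (a * e * (a : L)⁻¹) * b := by simp [mul_assoc]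
            _ = e := by rw [h]; simp [mul_assoc]
        have hmemH := hTI' ((b : L)⁻¹ * a) e heH (h'.symm ▸ heH) he1
        exact Subtype.ext (inv_mul_eq_one.mp (hKH _ (K.mul_mem (K.inv_mem b.2) a.2) hmemH)).symm
      intro x hx
      obtain ⟨k, hk⟩ := Finite.injective_iff_surjective.mp hinj ⟨x, hx⟩
      have hk' : (k : L) * e * (k : L)⁻¹ * e⁻¹ = x := congrArg Subtype.val hk
      rw [← hk']
      exact N.mul_mem (hN.conj_mem e heN _) (N.inv_mem heN)

end Cfsg.Agent.S3383
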