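import Cfsg.Statements.S3685
import Cfsg.Agent.Lib.Perm.SuborbitKernel
import Cfsg.Agent.Lib.Perm.CubicCases

set_option autoImplicit false
set_option linter.style.haveILetI false
set_option maxHeartbeats 400000
open Cfsg

namespace Cfsg.Agent.S3685

/-- Let a finite group G act faithfully and primitively on a set Ω, and suppose the stabilizer of a point a has an orbit of length 3. Then the stabilizer of a is isomorphic to one of: the cyclic group of order 3, the symmetric group of degree 3, the dihedral group of order 12, the symmetric group of degree 4, or the direct product of the symmetric group of degree 4 with a group of order 2. -/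
theorem result {G Ω : Type*} [Group G] [Finite G] [MulAction G Ω] [FaithfulSMul G Ω] [Finite Ω]
    (hprim : MulAction.IsPreprimitive G Ω) (a b : Ω) (h3 : Nat.card (MulAction.orbit (MulAction.stabilizer G a) b) = 3) :
    Nonempty (MulAction.stabilizer G a ≃* Multiplicative (ZMod 3)) ∨ Nonempty (MulAction.stabilizer G a ≃* Equiv.Perm (Fin 3)) ∨
      Nonempty (MulAction.stabilizer G a ≃* DihedralGroup 6) ∨ Nonempty (MulAction.stabilizer G a ≃* Equiv.Perm (Fin 4)) ∨
      Nonempty (MulAction.stabilizer G a ≃* Equiv.Perm (Fin 4) × Multiplicative (ZMod 2)) := by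
  haveI := hprim
  classical
  haveI : Fact (Nat.Prime 2) := ⟨Nat.prime_two⟩
  set A := MulAction.stabilizer G a with hAdef
  set B := MulAction.stabilizer G b with hBdef
  haveI : Nontrivial Ω := by
    by_contra hns
    rw [not_nontrivial_iff_subsingleton] at hns
    have := Finite.card_le_one_iff_subsingleton.2 (inferInstance :
      Subsingleton (MulAction.orbit A b))
    omega
  have hsym : Nat.card (MulAction.orbit B a) = 3 :=
    (CfsgLib.SuborbitKernel.card_orbit_symm a b).trans h3
  -- elements of odd order fixing two adjacent points fix the suborbit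
  have hodd : ∀ a' b' : Ω, Nat.card (MulAction.orbit (MulAction.stabilizer G a') b') = 3 →
      ∀ k ∈ MulAction.stabilizer G a' ⊓ MulAction.stabilizer G b', (orderOf k).Coprime 2 →
        k ∈ CfsgLib.ThompsonWielandt.coreIn (MulAction.stabilizer G a') (MulAction.stabilizer G b') := by
    intro a' b' hc k hk ho
    refine ⟨hk.1, fun l hl => MulAction.mem_stabilizer_iff.2 ?_⟩
    let φ := MulAction.toPermHom (MulAction.stabilizer G a') (MulAction.orbit (MulAction.stabilizer G a') b')
    have hkey : ∀ (σ : Equiv.Perm (Fin 3)) (i : Fin 3), σ i = i → σ * σ = 1 := by decide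
    let e := Finite.equivFinOfCardEq hc
    set σ := e.permCongrHom (φ ⟨k, hk.1⟩) with hσ
    have hsq : σ * σ = 1 := by
      refine hkey σ (e ⟨b', MulAction.mem_orbit_self b'⟩) ?_
      show e (φ ⟨k, hk.1⟩ (e.symm (e ⟨b', MulAction.mem_orbit_self b'⟩))) = _
      rw [Equiv.symm_apply_apply]
      exact congrArg e (Subtype.ext hk.2)
    have h1 : σ = 1 := orderOf_eq_one_iff.1 (Nat.eq_one_of_dvd_coprimes ho
      ((orderOf_map_dvd (e.permCongrHom.toMonoidHom.comp φ) ⟨k, hk.1⟩).trans
        (by rw [← Subgroup.orderOf_coe]))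
      (orderOf_dvd_of_pow_eq_one (by rw [pow_two]; exact hsq)))
    have h2 : φ ⟨k, hk.1⟩ = 1 := e.permCongrHom.injective (h1.trans (map_one _).symm)
    have h4 := congrArg (fun τ : Equiv.Perm (MulAction.orbit (MulAction.stabilizer G a') b') =>
      ((τ ⟨l⁻¹ • b', ⟨⟨l⁻¹, (MulAction.stabilizer G a').inv_mem hl⟩, rfl⟩⟩ :
        MulAction.orbit (MulAction.stabilizer G a') b') : Ω)) h2
    have h5 : k • l⁻¹ • b' = l⁻¹ • b' := h4
    rw [mul_smul, mul_smul, h5, smul_inv_smul]
  have hA := CfsgLib.SuborbitKernel.normClosed_stabilizer (G := G) a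
  have hBA : ¬ B ≤ A := CfsgLib.SuborbitKernel.not_le_of_two_le (hsym.symm ▸ by norm_num)
  -- `K` is a 2-group
  set K := A ⊓ B with hKdef
  have hK2 : IsPGroup 2 K := by
    by_contra hK
    have hW := CfsgLib.ThompsonWielandt.primeTo_ne_bot hK
    have hWle : ∀ a' b' : Ω, Nat.card (MulAction.orbit (MulAction.stabilizer G a') b') = 3 →
        MulAction.stabilizer G a' ⊓ MulAction.stabilizer G b' = K →
        MulAction.stabilizer G a' ≤
          Subgroup.normalizer (CfsgLib.ThompsonWielandt.primeTo 2 K : Set G) := by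
      intro a' b' hc he
      have heq : CfsgLib.ThompsonWielandt.primeTo 2 K = CfsgLib.ThompsonWielandt.primeTo 2
          (CfsgLib.ThompsonWielandt.coreIn (MulAction.stabilizer G a') (MulAction.stabilizer G b')) := by
        refine le_antisymm ((Subgroup.closure_le _).2 fun k hk => Subgroup.subset_closure
          ⟨hodd a' b' hc k (he.symm ▸ hk.1) hk.2, hk.2⟩) ((Subgroup.closure_le _).2
          fun k hk => Subgroup.subset_closure ⟨he ▸ ⟨CfsgLib.ThompsonWielandt.coreIn_le_left hk.1,
            CfsgLib.ThompsonWielandt.coreIn_le_right hk.1⟩, hk.2⟩)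
      rw [heq]
      exact CfsgLib.ThompsonWielandt.le_normalizer_coreIn.trans
        (CfsgLib.ThompsonWielandt.normalizer_le_normalizer_primeTo 2 _)
    exact hBA ((hWle b a hsym (inf_comm B A)).trans (hA _
      (CfsgLib.ThompsonWielandt.primeTo_le.trans inf_le_left) (hWle a b h3 rfl) hW))
  obtain ⟨r, hr⟩ := hK2.exists_card_eq
  have hcA : Nat.card A = 3 * 2 ^ r := by
    have h1 := Subgroup.card_mul_index (B.subgroupOf A)
    rw [← Subgroup.inf_subgroupOf_left, Nat.card_congr (Subgroup.subgroupOfEquivOfLe inf_le_left).toEquiv,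
      Subgroup.inf_subgroupOf_left] at h1
    rw [CfsgLib.SuborbitKernel.card_orbit_eq_relIndex, Subgroup.relIndex] at h3
    rw [h3, hr] at h1
    omega
  rcases Nat.eq_zero_or_pos r with rfl | hpos
  · left
    haveI : Fact (Nat.Prime 3) := ⟨Nat.prime_three⟩
    exact ⟨mulEquivOfPrimeCardEq (p := 3) (by simpa using hcA) (by simp)⟩
  obtain ⟨g₀, hg₀⟩ := MulAction.exists_smul_eq G a b
  have hBe : ∀ g : G, g • a = b → B = A.map (MulAut.conj g).toMonoidHom := fun g hg => by
    rw [hBdef, ← hg]; exact MulAction.stabilizer_smul_eq_stabilizer_map_conj g a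
  have hcB : Nat.card B = 3 * 2 ^ r := by
    rw [hBdef, ← CfsgLib.SuborbitKernel.card_stabilizer_eq (G := G) a b, ← hAdef, hcA]
  -- a normal subgroup of `A` or `B` of order `2^r` is `K`
  have huniq : ∀ C X : Subgroup G, K ≤ C → Nat.card C = 3 * 2 ^ r → X ≤ C →
      C ≤ Subgroup.normalizer (X : Set G) → Nat.card X = 2 ^ r → X = K := by
    intro C X hKC hcC hXC hn hcX
    have hS : IsPGroup 2 (X ⊔ K : Subgroup G) :=
      IsPGroup.to_sup_of_normal_left' (IsPGroup.of_card hcX) hK2 (hKC.trans hn)
    obtain ⟨k, hk⟩ := hS.exists_card_eq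
    have hd := Subgroup.card_dvd_of_le (sup_le hXC hKC : X ⊔ K ≤ C)
    rw [hk, hcC] at hd
    have hkr : k ≤ r := (Nat.pow_dvd_pow_iff_le_right (by norm_num)).1
      (Nat.Coprime.dvd_of_dvd_mul_left (Nat.Coprime.pow_left k (by norm_num)) hd)
    have hle : 2 ^ k ≤ 2 ^ r := Nat.pow_le_pow_right (by norm_num) hkr
    exact (Subgroup.eq_of_le_of_card_ge le_sup_left (by rw [hk, hcX]; exact hle)).trans
      (Subgroup.eq_of_le_of_card_ge le_sup_right (by rw [hk, hr]; exact hle)).symm
  have hnonormal : ∀ X : Subgroup G, X ≤ A → A ≤ Subgroup.normalizer (X : Set G) →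
      Nat.card X = 2 ^ r → False := by
    intro X hXA hn hcX
    have hXK := huniq A X inf_le_left hcA hXA hn hcX
    have hBn : B ≤ Subgroup.normalizer ((X.map (MulAut.conj g₀).toMonoidHom : Subgroup G) : Set G) := by
      rw [hBe g₀ hg₀]
      exact (Subgroup.map_mono hn).trans (Subgroup.le_normalizer_map _)
    have hXB := huniq B _ inf_le_right hcB (hBe g₀ hg₀ ▸ Subgroup.map_mono hXA) hBn
      (by rw [CfsgLib.CubicChain.card_map_conj, hcX])
    rw [hXB, ← hXK] at hBn
    refine hBA (hBn.trans (hA X hXA hn fun hb => ?_))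
    rw [hb, Subgroup.card_bot] at hcX
    have h2r : 2 ^ 1 ≤ 2 ^ r := Nat.pow_le_pow_right (by norm_num) hpos
    omega
  -- the action on the suborbit is surjective
  let e := Finite.equivFinOfCardEq h3
  obtain ⟨f, hf⟩ : ∃ f : A →* Equiv.Perm (Fin 3),
      f = (e.permCongrHom.toMonoidHom).comp (MulAction.toPermHom A (MulAction.orbit A b)) :=
    ⟨_, rfl⟩
  have hker : f.ker.map A.subtype ≤ K := by
    rintro _ ⟨k, hk, rfl⟩
    refine ⟨k.2, ?_⟩
    have h2 : MulAction.toPermHom A (MulAction.orbit A b) k = 1 :=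
      e.permCongrHom.injective ((hf ▸ (show f k = 1 from hk) :).trans (map_one _).symm)
    exact congrArg Subtype.val (congrArg (fun τ : Equiv.Perm (MulAction.orbit A b) =>
      τ ⟨b, MulAction.mem_orbit_self b⟩) h2)
  have hkn : A ≤ Subgroup.normalizer (f.ker.map A.subtype : Set G) := fun k hk =>
    CfsgLib.ThompsonWielandt.mem_normalizer_of_conj (by
      rintro _ ⟨z, hz, rfl⟩
      exact ⟨⟨k, hk⟩ * z * ⟨k, hk⟩⁻¹, (inferInstance : f.ker.Normal).conj_mem z hz _, rfl⟩)
  have hfs : Function.Surjective f := by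
    rw [← MonoidHom.range_eq_top]
    refine Subgroup.eq_top_of_card_eq _ ?_
    have h1 := Subgroup.card_mul_index f.ker
    rw [Subgroup.index_ker, hcA] at h1
    have h6 := Subgroup.card_subgroup_dvd_card f.range
    rw [Nat.card_perm, Nat.card_fin, show Nat.factorial 3 = 6 from rfl] at h6
    rw [Nat.card_perm, Nat.card_fin, show Nat.factorial 3 = 6 from rfl]
    have hkd : Nat.card f.ker ∣ 2 ^ r := by
      rw [← hr, ← Subgroup.card_map_of_injective A.subtype_injective (K := f.ker)]
      exact Subgroup.card_dvd_of_le hker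
    obtain ⟨j, hj, hj'⟩ := (Nat.dvd_prime_pow Nat.prime_two).1 hkd
    have hne : Nat.card f.range ≠ 3 := fun he => hnonormal _ (Subgroup.map_subtype_le _) hkn (by
      rw [Subgroup.card_map_of_injective A.subtype_injective]
      rw [he] at h1
      omega)
    have hle : Nat.card f.range ≤ 6 := Nat.le_of_dvd (by norm_num) h6
    have h3d : 3 ∣ Nat.card f.range := by
      have : 3 ∣ 2 ^ j * Nat.card f.range := by rw [← hj', h1]; exact dvd_mul_right _ _
      exact ((Nat.Coprime.pow_right j (by norm_num)).dvd_of_dvd_mul_left this)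
    obtain ⟨c, hc⟩ := h3d
    have : 0 < Nat.card f.range := Nat.card_pos
    omega
  by_cases hr1 : r = 1
  · subst hr1
    right; left
    exact ⟨MulEquiv.ofBijective f ((Nat.bijective_iff_surjective_and_card _).2
      ⟨hfs, by rw [hcA, Nat.card_perm, Nat.card_fin]; rfl⟩)⟩
  -- choose the turning element
  obtain ⟨t, ht, hturn⟩ : ∃ t ∈ B, K.map (MulAut.conj (t * g₀)).toMonoidHom ≠ K := by
    by_contra hall
    push Not at hall
    set X := K.map (MulAut.conj g₀⁻¹).toMonoidHom
    have hcX : Nat.card X = 2 ^ r := by rw [CfsgLib.CubicChain.card_map_conj, hr]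
    have hXA : X ≤ A :=
      (Subgroup.map_mono (inf_le_right.trans (hBe g₀ hg₀).le)).trans
        (CfsgLib.CubicChain.map_conj_conj_inv A g₀).le
    have hBn : B ≤ Subgroup.normalizer (K : Set G) := by
      intro s hs
      refine CfsgLib.ThompsonWielandt.mem_normalizer_of_conj fun k hk => ?_
      have h1 := hall 1 B.one_mem
      rw [one_mul] at h1
      obtain ⟨k', hk', rfl⟩ := h1.ge hk
      exact (hall s hs).le ⟨k', hk', by simp [mul_assoc]⟩
    have hAn : A ≤ Subgroup.normalizer (X : Set G) := by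
      calc A = B.map (MulAut.conj g₀⁻¹).toMonoidHom := by
            rw [hBe g₀ hg₀, CfsgLib.CubicChain.map_conj_conj_inv]
        _ ≤ _ := (Subgroup.map_mono hBn).trans (Subgroup.le_normalizer_map _)
    exact hnonormal X hXA hAn hcX
  set g := t * g₀
  have hg : g • a = b := by rw [mul_smul, hg₀]; exact ht
  have hgA : g ∉ A := fun hm => by
    have hab : a = b := (MulAction.mem_stabilizer_iff.1 hm).symm.trans hg
    exact hBA (by rw [hAdef, hBdef, hab])
  have hset : CfsgLib.CubicChain.Setting A g r f := ⟨hA, hgA, hcA, by rw [← hBe g hg]; exact hr,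
    by rw [← hBe g hg]; exact hturn, hfs, hpos⟩
  obtain ⟨x, hx1, hx2, hx⟩ := hset.exists_gen
  have hch : CfsgLib.CubicChain.Chain A g r f x := ⟨hset, by omega, hx2, hx⟩
  rcases hch.r_cases with h | h | h | h
  · exact Or.inr (Or.inr (Or.inl (hch.case_two h)))
  · exact Or.inr (Or.inr (Or.inr (Or.inl (hch.case_three h))))
  · exact Or.inr (Or.inr (Or.inr (Or.inr (hch.case_four h))))
  · exact (hch.not_six h).elim

end Cfsg.Agent.S3685
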