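import Cfsg.Statements.S3389
import Mathlib

set_option autoImplicit false
open Cfsg

namespace Cfsg.Agent.S3389

/-- Let G be a finite group acting faithfully and transitively on a finite set Ω with fixity k ≥ 1: every non-identity element fixes at most k points and some non-identity element fixes exactly k points. Then |Z(G)| divides k; if k = 2 then |G| is even; and for every prime p > k dividing |G| and every point α, either p does not divide |G_α| or G_α contains a Sylow p-subgroup of G. -/
theorem result {G : Type*} [Group G] [Finite G] {Ω : Type*} [Fintype Ω] [MulAction G Ω] [FaithfulSMul G Ω]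
    (htr : MulAction.IsPretransitive G Ω) (k : ℕ) (hk : 1 ≤ k)
    (hfix : ∀ g : G, g ≠ 1 → Nat.card (MulAction.fixedBy Ω g) ≤ k) (hex : ∃ g : G, g ≠ 1 ∧ Nat.card (MulAction.fixedBy Ω g) = k) :
    Nat.card (Subgroup.center G) ∣ k ∧ (k = 2 → 2 ∣ Nat.card G) ∧
      ∀ (p : ℕ), p.Prime → k < p → p ∣ Nat.card G → ∀ α : Ω,
        ¬ p ∣ Nat.card (MulAction.stabilizer G α) ∨ ¬ p ∣ (MulAction.stabilizer G α).index := by
  classical
  haveI := htr
  obtain ⟨g₀, hg₀, hk₀⟩ := hex
  have hfaith : ∀ z ∈ Subgroup.center G, ∀ ω : Ω, z • ω = ω → z = 1 := by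
    intro z hz ω hω
    refine FaithfulSMul.eq_of_smul_eq_smul (α := Ω) fun η => ?_
    obtain ⟨h, rfl⟩ := MulAction.exists_smul_eq G ω η
    rw [one_smul, ← mul_smul, ← Subgroup.mem_center_iff.mp hz h, mul_smul, hω]
  refine ⟨?_, ?_, ?_⟩
  · let X := {ω : Ω // g₀ • ω = ω}
    letI : MulAction (Subgroup.center G) X :=
      { smul := fun z x => ⟨(z : G) • x.1, by
          rw [← mul_smul, Subgroup.mem_center_iff.mp z.2 g₀, mul_smul, x.2]⟩
        one_smul := fun x => Subtype.ext (one_smul _ _)
        mul_smul := fun a b x => Subtype.ext (mul_smul (a : G) (b : G) x.1) }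
    have hX : Nat.card X = k := hk₀
    have hst : ∀ x : X, MulAction.stabilizer (Subgroup.center G) x = ⊥ := fun x => by
      rw [eq_bot_iff]
      intro z hz
      rw [Subgroup.mem_bot]
      exact Subtype.ext (hfaith z z.2 x.1 (congrArg Subtype.val hz))
    rw [← hX, Nat.card_congr (MulAction.selfEquivSigmaOrbitsQuotientStabilizer (Subgroup.center G) X), Nat.card_sigma]
    refine Finset.dvd_sum fun q _ => ?_
    rw [← Subgroup.index_eq_card, hst, Subgroup.index_bot]
  · intro hk2
    subst hk2
    by_contra hodd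
    have hne : Nonempty (MulAction.fixedBy Ω g₀) := (Nat.card_pos_iff.mp (by omega)).1
    obtain ⟨⟨α, hα⟩⟩ := hne
    obtain ⟨⟨β, hβ⟩, hαβ⟩ : ∃ b : MulAction.fixedBy Ω g₀, b.1 ≠ α := by
      by_contra hne
      push Not at hne
      have : Subsingleton (MulAction.fixedBy Ω g₀) := ⟨fun x y => Subtype.ext ((hne x).trans (hne y).symm)⟩
      have := Finite.card_le_one_iff_subsingleton.mpr this
      omega
    set A := MulAction.stabilizer G α with hA
    set K := A ⊓ MulAction.stabilizer G β with hK
    have hg₀K : g₀ ∈ K := ⟨hα, hβ⟩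
    have hK1 : Nat.card K ≠ 1 := fun h => by
      rw [Subgroup.card_eq_one] at h
      rw [h, Subgroup.mem_bot] at hg₀K
      exact hg₀ hg₀K
    have hp := Nat.minFac_prime hK1
    haveI := Fact.mk hp
    set p := (Nat.card K).minFac
    obtain ⟨P₀⟩ : Nonempty (Sylow p K) := inferInstance
    set P : Subgroup G := (P₀ : Subgroup K).map K.subtype with hP
    have hPK : P ≤ K := Subgroup.map_subtype_le _
    obtain ⟨e, heP, he1⟩ : ∃ e ∈ P, e ≠ 1 := by
      have : P ≠ ⊥ := by
        rw [hP, Ne, Subgroup.map_eq_bot_iff_of_injective _ K.subtype_injective]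
        exact Sylow.ne_bot_of_dvd_card P₀ (Nat.minFac_dvd _)
      obtain ⟨e, he⟩ := (Subgroup.ne_bot_iff_exists_ne_one).mp this
      exact ⟨e, e.2, fun h => he (Subtype.ext h)⟩
    have hfixP : ∀ ω : Ω, e • ω = ω → ω = α ∨ ω = β := by
      intro ω hω
      by_contra hne
      push Not at hne
      have h3 : ({α, β, ω} : Set Ω) ⊆ MulAction.fixedBy Ω e := by
        rintro x (rfl | rfl | rfl)
        · exact (hPK heP).1
        · exact (hPK heP).2
        · exact hω
      have := (Set.ncard_le_ncard h3).trans_eq (Nat.card_coe_set_eq _).symm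
      rw [Set.ncard_eq_three.mpr ⟨α, β, ω, Ne.symm hαβ, Ne.symm hne.1, Ne.symm hne.2, rfl⟩] at this
      have := hfix e he1
      omega
    have hNfix : ∀ u ∈ Subgroup.normalizer (P : Set G), u • α = α := by
      intro u hu
      have key : ∀ v ∈ Subgroup.normalizer (P : Set G), ∀ ω, (ω = α ∨ ω = β) → v • ω = α ∨ v • ω = β := by
        intro v hv ω hω
        refine hfixP _ ?_
        have h1 : v⁻¹ * e * v ∈ P := by
          simpa using (Subgroup.mem_normalizer_iff.mp (inv_mem hv) e).mp heP
        have h2 : (v⁻¹ * e * v) • ω = ω := by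
          rcases hω with rfl | rfl
          · exact (hPK h1).1
          · exact (hPK h1).2
        rw [mul_smul, mul_smul, inv_smul_eq_iff] at h2
        exact h2
      rcases key u hu α (Or.inl rfl) with h | h
      · exact h
      exfalso
      have hb : u • β = α := by
        rcases key u hu β (Or.inr rfl) with h' | h'
        · exact h'
        · exact absurd (MulAction.injective u (h.trans h'.symm)) (Ne.symm hαβ)
      have hu2 : ∀ j : ℕ, u ^ (2 * j + 1) • α = β := by
        intro j
        induction j with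
        | zero => simpa using h
        | succ j ih => rw [show 2 * (j + 1) + 1 = 2 + (2 * j + 1) by ring, pow_add, mul_smul, ih, pow_two, mul_smul, hb, h]
      obtain ⟨j, hj⟩ : Odd (orderOf u) := by
        rw [← Nat.not_even_iff_odd, even_iff_two_dvd]
        exact fun hd => hodd (hd.trans (orderOf_dvd_natCard u))
      have := hu2 j
      rw [← hj, pow_orderOf_eq_one, one_smul] at this
      exact hαβ this.symm
    have hPA : P ≤ A := hPK.trans inf_le_left
    have hsyl : ¬ p ∣ (P.subgroupOf A).index := by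
      intro hd
      have hPp : IsPGroup p P := P₀.2.map _
      obtain ⟨n, hn⟩ := (hPp.comap_subtype (K := A)).exists_card_eq
      have hmod := Sylow.card_quotient_normalizer_modEq_card_quotient (p := p) (H := P.subgroupOf A) hn
      have hN2 : p ∣ (P.subgroupOf A).relIndex (Subgroup.normalizer ((P.subgroupOf A : Subgroup A) : Set A)) :=
        (Nat.ModEq.dvd_iff hmod dvd_rfl).mpr hd
      rw [← Subgroup.relIndex_map_map_of_injective _ _ A.subtype_injective, Subgroup.subgroupOf_map_subtype,
        inf_of_le_left hPA] at hN2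
      set N := (Subgroup.normalizer ((P.subgroupOf A : Subgroup A) : Set A)).map A.subtype
      have hNK : N ≤ K := by
        rintro _ ⟨u, hu, rfl⟩
        have hun : (u : G) ∈ Subgroup.normalizer (P : Set G) := by
          refine Subgroup.mem_normalizer_iff.mpr fun a => ⟨fun ha => ?_, fun ha => ?_⟩
          · exact (Subgroup.mem_normalizer_iff.mp hu ⟨a, hPA ha⟩).mp ha
          · have := (Subgroup.mem_normalizer_iff.mp (inv_mem hu) ⟨_, hPA ha⟩).mp ha
            simpa [Subgroup.mem_subgroupOf, mul_assoc] using this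
        refine ⟨u.2, ?_⟩
        show (u : G) • β = β
        have h1 : ((u : G)⁻¹ * e * u) ∈ P := by
          simpa using (Subgroup.mem_normalizer_iff.mp (inv_mem hun) e).mp heP
        have h2 : ((u : G)⁻¹ * e * u) • β = β := (hPK h1).2
        rw [mul_smul, mul_smul, inv_smul_eq_iff] at h2
        rcases hfixP _ h2 with h | h
        · exact absurd (MulAction.injective (u : G) (h.trans (MulAction.mem_stabilizer_iff.mp u.2).symm)) hαβ
        · exact h
      have hPN : P ≤ N := fun a ha => ⟨⟨a, hPA ha⟩, Subgroup.le_normalizer ha, rfl⟩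
      have : p ∣ P.relIndex K := hN2.trans ⟨_, (Subgroup.relIndex_mul_relIndex P N K hPN hNK).symm⟩
      have heq : P.relIndex K = (P₀ : Subgroup K).index := by
        show (P.subgroupOf K).index = _
        rw [hP, Subgroup.subgroupOf, Subgroup.comap_map_eq_self_of_injective K.subtype_injective]
      exact P₀.not_dvd_index (heq ▸ this)
    have hPp : IsPGroup p P := P₀.2.map _
    let PA : Sylow p A := (hPp.comap_subtype (K := A)).toSylow hsyl
    obtain ⟨h, hh⟩ := MulAction.exists_smul_eq G α β
    have hle : P.map (MulAut.conj h⁻¹).toMonoidHom ≤ A := by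
      rintro _ ⟨a, ha, rfl⟩
      show (h⁻¹ * a * h⁻¹⁻¹) • α = α
      rw [inv_inv, mul_smul, mul_smul, hh, inv_smul_eq_iff, hh]
      exact (hPK ha).2
    obtain ⟨Q, hQ⟩ := ((hPp.map (MulAut.conj h⁻¹).toMonoidHom).comap_subtype (K := A)).exists_le_sylow
    obtain ⟨x, hx⟩ := MulAction.exists_smul_eq A Q PA
    have hu : (x : G) * h⁻¹ ∈ Subgroup.normalizer (P : Set G) := by
      refine Subgroup.mem_normalizer_fintype fun a ha => ?_
      have hm : h⁻¹ * a * h⁻¹⁻¹ ∈ P.map (MulAut.conj h⁻¹).toMonoidHom := ⟨a, ha, rfl⟩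
      have h3 : x * ⟨_, hle hm⟩ * x⁻¹ ∈ (PA : Subgroup A) := by
        rw [← hx]; exact ⟨⟨_, hle hm⟩, hQ hm, rfl⟩
      have h4 : (x : G) * (h⁻¹ * a * h⁻¹⁻¹) * (x : G)⁻¹ ∈ P := h3
      show _ ∈ P
      simpa [mul_assoc] using h4
    have := hNfix _ hu
    have h5 := hNfix _ (inv_mem hu)
    rw [mul_inv_rev, inv_inv, mul_smul] at h5
    have hx' : (x : G)⁻¹ • α = α := MulAction.mem_stabilizer_iff.mp (x⁻¹).2
    rw [hx', hh] at h5
    exact hαβ h5
  · intro p hp hkp _ α
    haveI := Fact.mk hp
    by_contra hne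
    push Not at hne
    obtain ⟨⟨g, hgA⟩, hg⟩ := exists_prime_orderOf_dvd_card' (G := MulAction.stabilizer G α) p hne.1
    rw [← Subgroup.orderOf_coe] at hg
    have hg1 : g ≠ 1 := fun h => by
      subst h
      simp at hg
      exact hp.ne_one hg.symm
    have hP : IsPGroup p (Subgroup.zpowers g) := IsPGroup.of_card (n := 1) (by rw [Nat.card_zpowers, pow_one]; exact hg)
    have hmod := hP.card_modEq_card_fixedPoints Ω
    have hfp : Nat.card (MulAction.fixedPoints (Subgroup.zpowers g) Ω) = Nat.card (MulAction.fixedBy Ω g) := by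
      refine Nat.card_congr (Equiv.subtypeEquivRight fun ω => ?_)
      constructor
      · intro h; exact h ⟨g, Subgroup.mem_zpowers g⟩
      · rintro h ⟨y, hy⟩
        obtain ⟨i, rfl⟩ := Subgroup.mem_zpowers_iff.mp hy
        exact MulAction.mem_stabilizer_iff.mp ((MulAction.stabilizer G ω).zpow_mem h i)
    rw [hfp] at hmod
    have hd : p ∣ Nat.card Ω := by rw [← MulAction.index_stabilizer_of_transitive G α]; exact hne.2
    have hd2 := (Nat.ModEq.dvd_iff hmod dvd_rfl).mp hd
    haveI : Nonempty (MulAction.fixedBy Ω g) := ⟨⟨α, hgA⟩⟩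
    have := Nat.le_of_dvd Nat.card_pos hd2
    have := hfix g hg1
    omega

end Cfsg.Agent.S3389
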