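import Cfsg.Statements.S3390
import Cfsg.Agent.Lib.Transfer.MaximalClass
import Cfsg.Agent.Lib.TwoGroups.Recognition
import Cfsg.Agent.Lib.TwoGroups.TransferControlled

set_option autoImplicit false
open Cfsg

namespace Cfsg.Agent.S3390

open MulAction

universe u

theorem card_eq_double {G : Type*} [Group G] (A B : Subgroup G) (hAB : A ≤ B) {a : G}
    (ha : a ∈ B) (hA : ∀ b ∈ B, b * a ∈ A ∧ b ∉ A ∨ b ∈ A ∧ b * a ∉ A) :
    Nat.card B = 2 * Nat.card A := by
  have h : (A.subgroupOf B).index = 2 := by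
    rw [Subgroup.index_eq_two_iff]
    refine ⟨⟨a, ha⟩, fun b => ?_⟩
    exact hA b b.2
  rw [← Subgroup.index_mul_card (A.subgroupOf B), h,
    Nat.card_congr (Subgroup.subgroupOfEquivOfLe hAB).toEquiv]

/-- A 2-group with an involution whose centraliser has order four. -/
theorem dihedral_or_semidihedral {P : Type u} [Group P] [Finite P] {n : ℕ}
    (hP : Nat.card P = 2 ^ n) {s : P} (hs2 : s * s = 1) (hs1 : s ≠ 1)
    (hC : Nat.card (Subgroup.centralizer ({s} : Set P)) = 4)
    (hbase : n = 2 → ∃ c : P, c * c = 1 ∧ c ≠ 1 ∧ c ≠ s) :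
    (∃ m : ℕ, Nonempty (P ≃* DihedralGroup m)) ∨ Cfsg.IsQuasiDihedral P := by
  haveI := Fact.mk Nat.prime_two
  set A := Subgroup.centralizer ({s} : Set P) with hA
  have hso : orderOf s = 2 := orderOf_eq_prime (by rw [pow_two, hs2]) hs1
  have hsA : s ∈ A := Subgroup.mem_centralizer_singleton_iff.2 rfl
  have hA4 : Nat.card A = 2 ^ 2 := by rw [hC]; norm_num
  have hAc : ∀ x y : A, x * y = y * x := IsPGroup.commutative_of_card_eq_prime_sq hA4
  have hn2 : 2 ≤ n := by
    have h := Subgroup.card_subgroup_dvd_card A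
    rw [hA4, hP] at h
    exact (Nat.pow_dvd_pow_iff_le_right (by norm_num)).1 h
  rcases eq_or_lt_of_le hn2 with rfl | hn3
  · obtain ⟨c, hc2, hc1, hcs⟩ := hbase rfl
    have hco : orderOf c = 2 := orderOf_eq_prime (by rw [pow_two, hc2]) hc1
    have htop : A = ⊤ := Subgroup.eq_top_of_card_eq _ (by rw [hA4, hP])
    have hcomm : s * c = c * s := by
      have h := congrArg Subtype.val (hAc ⟨s, hsA⟩ ⟨c, htop ▸ Subgroup.mem_top c⟩)
      exact h
    refine Or.inl ⟨2, CfsgLib.TwoGroups.nonempty_mulEquiv_dihedralGroup (a := c) (b := s) hco hs2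
      ?_ ?_ (by rw [hP]; norm_num)⟩
    · rintro ⟨k, hk⟩
      rcases Int.even_or_odd' k with ⟨j, rfl | rfl⟩
      · apply hs1
        rw [← hk]
        show c ^ (2 * j) = 1
        rw [zpow_mul, zpow_two, hc2, one_zpow]
      · apply hcs
        rw [← hk]
        show c = c ^ (2 * j + 1)
        rw [zpow_add, zpow_one, zpow_mul, zpow_two, hc2, one_zpow, one_mul]
    · rw [hcomm, mul_inv_cancel_right]
      exact eq_inv_of_mul_eq_one_left hc2
  have hself : Subgroup.centralizer (A : Set P) = A := by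
    refine le_antisymm (fun x hx => ?_) (fun x hx => ?_)
    · exact Subgroup.mem_centralizer_singleton_iff.2 (Subgroup.mem_centralizer_iff.1 hx s hsA).symm
    · exact Subgroup.mem_centralizer_iff.2 fun y hy =>
        congrArg Subtype.val (hAc ⟨y, hy⟩ ⟨x, hx⟩)
  have hcl := CfsgLib.Transfer.class_eq_of_self_centralizing (p := 2) n P hP A hA4 hself
  obtain ⟨a, b, ha, hb, hconj, -⟩ := CfsgLib.Transfer.shape_of_class hn3 hP hcl
  have hbcon : ∀ i : ℕ, (b * a ^ i) * a * (b * a ^ i)⁻¹ = b * a * b⁻¹ := by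
    intro i
    rw [mul_inv_rev, mul_assoc b (a ^ i) a, ← pow_succ, pow_succ']
    group
  have hsa : s ∉ Subgroup.zpowers a := by
    intro h
    have hle : Subgroup.zpowers a ≤ A := by
      rintro _ ⟨k, rfl⟩
      obtain ⟨j, rfl⟩ := h
      exact Subgroup.mem_centralizer_singleton_iff.2 (by
        show a ^ k * a ^ j = a ^ j * a ^ k
        rw [← zpow_add, ← zpow_add, add_comm])
    have h1 := Subgroup.card_le_of_le hle
    rw [Nat.card_zpowers, ha, hA4] at h1
    have hn : n = 3 := by
      have := (Nat.pow_le_pow_iff_right (by norm_num : 1 < 2)).1 h1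
      omega
    -- here `⟨a⟩ = A` and `s` is the involution of `⟨a⟩`, which is central
    have hAeq : Subgroup.zpowers a = A := Subgroup.eq_of_le_of_card_ge hle
      (by rw [Nat.card_zpowers, ha, hA4, hn])
    have hw : ∀ x : P, x ∈ Subgroup.centralizer ({s} : Set P) := by
      intro x
      rw [Subgroup.mem_centralizer_singleton_iff]
      obtain ⟨i, hi⟩ := mem_powers_iff_mem_zpowers.mpr h
      change a ^ i = s at hi
      have hcent : Subgroup.center P = Subgroup.zpowers (a ^ 2 ^ (n - 2)) :=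
        CfsgLib.Transfer.center_eq hn3 hP ha hb hconj
      have hsw : s ∈ Subgroup.center P := by
        rw [hcent]
        have h2 : a ^ (i * 2) = 1 := by rw [pow_mul, hi, pow_two, hs2]
        have h4 := orderOf_dvd_of_pow_eq_one h2
        rw [ha, hn] at h4
        obtain ⟨j, hj⟩ := h4
        refine ⟨(j : ℤ), ?_⟩
        show (a ^ 2 ^ (n - 2)) ^ (j : ℤ) = s
        rw [zpow_natCast, ← pow_mul, ← hi, hn]
        congr 1
        norm_num at hj ⊢
        omega
      exact (Subgroup.mem_center_iff.1 hsw x)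
    have htop : A = ⊤ := eq_top_iff.2 fun x _ => hw x
    have := hA4
    rw [htop, Subgroup.card_top, hP, hn] at this
    norm_num at this
  obtain ⟨i, hi | hi⟩ := CfsgLib.Transfer.exists_pow_or (by omega) hP ha hb s
  · exact absurd (hi ▸ pow_mem (Subgroup.mem_zpowers a) i) hsa
  rcases hconj with hc | ⟨hn4, hc⟩
  · haveI : NeZero (2 ^ (n - 1)) := ⟨pow_ne_zero _ two_ne_zero⟩
    refine Or.inl ⟨2 ^ (n - 1), CfsgLib.TwoGroups.nonempty_mulEquiv_dihedralGroup ha hs2 hsa
      (by rw [hi, hbcon, hc]) ?_⟩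
    rw [hP, ← pow_succ']
    congr 1; omega
  · refine Or.inr ⟨n - 1, by omega, by rw [hP]; congr 1; omega, a, s, ha, hso, ?_⟩
    rw [hi, hbcon, hc, show n - 1 - 1 = n - 2 by omega]
    rw [mul_inv_eq_iff_eq_mul, ← pow_succ, Nat.sub_add_cancel Nat.one_le_two_pow]

section Main

variable {G : Type*} [Group G] [Finite G] {Ω : Type*} [Fintype Ω] [MulAction G Ω]

theorem eq_one_of_three (hfix : ∀ g : G, g ≠ 1 → Nat.card (fixedBy Ω g) ≤ 2) {g : G} {a b c : Ω}
    (ha : g • a = a) (hb : g • b = b) (hc : g • c = c) (hab : a ≠ b) (hac : a ≠ c) (hbc : b ≠ c) :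
    g = 1 := by
  by_contra hg
  have h := hfix g hg
  rw [Nat.card_coe_set_eq] at h
  have hsub : ({a, b, c} : Set Ω) ⊆ fixedBy Ω g := by
    rintro z (rfl | rfl | rfl)
    · exact ha
    · exact hb
    · exact hc
  have h3 := Set.ncard_le_ncard hsub (Set.toFinite _)
  rw [Set.ncard_eq_three.2 ⟨a, b, c, hab, hac, hbc, rfl⟩] at h3
  omega

/-- The Frobenius subgroup of index two. -/
theorem frobenius_case [FaithfulSMul G Ω] (htr : IsPretransitive G Ω)
    (hfix : ∀ g : G, g ≠ 1 → Nat.card (fixedBy Ω g) ≤ 2) (α β : Ω) (hαβ : β ≠ α)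
    (S : Sylow 2 G) (T : Subgroup G) (hT : T = (S : Subgroup G) ⊓ stabilizer G α) (hT1 : T ≠ ⊥)
    (hTβ : ∀ u ∈ T, u • β = β) {x : G} (hxS : x ∈ (S : Subgroup G)) (hxα : x • α = β)
    (hB : ∀ s ∈ (S : Subgroup G), s • α = α ∨ s • α = β)
    (hfree : ∀ s ∈ (S : Subgroup G), s • α ≠ α → ∀ γ : Ω, s • γ ≠ γ) :
    ∃ N : Subgroup G, N.Normal ∧ N.index = 2 ∧ ∃ H : Subgroup ↥N, Cfsg.IsFrobeniusComplement H := by
  classical
  haveI := Fact.mk Nat.prime_two
  have hsβ : ∀ s ∈ (S : Subgroup G), s • α = α → s • β = β := fun s hs h =>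
    hTβ s (hT ▸ ⟨hs, h⟩)
  have hswap : ∀ s ∈ (S : Subgroup G), s • α = β → s • β = α := by
    intro s hs h
    rcases hB _ (mul_mem hs hs) with h' | h' <;> rw [mul_smul, h] at h'
    · exact h'
    · exact absurd (smul_left_cancel s (h'.trans h.symm)) hαβ
  let φ : (S : Subgroup G) →* ℤˣ :=
    MonoidHom.mk' (fun s => if (s : G) • α = α then 1 else -1) (by
      intro s t
      simp only [Subgroup.coe_mul, mul_smul]
      rcases hB _ s.2 with hs | hs <;> rcases hB _ t.2 with ht | ht
      · simp [hs, ht]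
      · simp [hs, ht, hsβ _ s.2 hs, hαβ]
      · simp [hs, ht, hαβ]
      · simp [hs, ht, hswap _ s.2 hs, hαβ])
  have hφ : ∀ y : (S : Subgroup G), ∀ a : G, ∀ h : a * (y : G) * a⁻¹ ∈ (S : Subgroup G),
      φ ⟨_, h⟩ = φ y := by
    intro y a h
    show (if (a * (y : G) * a⁻¹) • α = α then (1 : ℤˣ) else -1) =
      if (y : G) • α = α then 1 else -1
    have hiff : (a * (y : G) * a⁻¹) • α = α ↔ (y : G) • α = α := by
      constructor
      · intro h1
        by_contra h2
        refine hfree _ y.2 h2 (a⁻¹ • α) ?_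
        conv_rhs => rw [← h1]
        simp [mul_smul]
      · intro h1
        by_contra h2
        exact hfree _ h h2 (a • α) (by simp [mul_smul, h1])
    rw [if_congr hiff rfl rfl]
  have hV : ∀ g : (S : Subgroup G),
      MonoidHom.transfer φ (g : G) = φ g ^ (S : Subgroup G).index := fun g => by
    refine CfsgLib.TwoGroups.transfer_eq_pow_of_controlled φ g.2 fun m a h => ?_
    rw [show φ ⟨a * (g : G) ^ m * a⁻¹, h⟩ = φ (g ^ m) from hφ (g ^ m) a h, map_pow]
  have hodd : Odd (S : Subgroup G).index := by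
    rw [← Nat.not_even_iff_odd, even_iff_two_dvd]
    exact S.not_dvd_index
  set N := (MonoidHom.transfer φ).ker with hN
  have hxN : x ∉ N := by
    intro h
    have h1 : MonoidHom.transfer φ ((⟨x, hxS⟩ : (S : Subgroup G)) : G) = 1 := h
    have h0 : φ ⟨x, hxS⟩ = -1 := by simp [φ, hxα, hαβ]
    rw [hV, h0, hodd.neg_one_pow] at h1
    exact absurd h1 (by decide)
  have hidx : N.index = 2 := by
    have h1 : N.index = Nat.card (MonoidHom.transfer φ).range := Subgroup.index_ker _
    have h2 : Nat.card (MonoidHom.transfer φ).range ≤ Nat.card ℤˣ :=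
      Subgroup.card_le_card_group _
    have h3 : Nat.card ℤˣ = 2 := by rw [Nat.card_eq_fintype_card]; rfl
    have h4 : N.index ≠ 1 := fun h => hxN (Subgroup.index_eq_one.1 h ▸ Subgroup.mem_top x)
    have h5 : N.index ≠ 0 := Subgroup.index_ne_zero_of_finite
    omega
  have hTS : T ≤ (S : Subgroup G) := hT ▸ inf_le_left
  have hTN : T ≤ N := by
    intro u hu
    have h0 : φ ⟨u, hTS hu⟩ = 1 := by
      have : u • α = α := (hT ▸ hu : u ∈ (S : Subgroup G) ⊓ stabilizer G α).2
      simp [φ, this]
    show MonoidHom.transfer φ ((⟨u, hTS hu⟩ : (S : Subgroup G)) : G) = 1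
    rw [hV, h0, one_pow]
  have hST : Nat.card (S : Subgroup G) = 2 * Nat.card T := by
    refine card_eq_double T _ hTS hxS fun b hb => ?_
    have e : ∀ c : G, c ∈ (S : Subgroup G) → (c ∈ T ↔ c • α = α) := fun c hc => by
      rw [hT]; exact ⟨fun h => h.2, fun h => ⟨hc, h⟩⟩
    rw [e b hb, e _ (mul_mem hb hxS), mul_smul, hxα]
    rcases hB b hb with h | h
    · exact Or.inr ⟨h, by rw [hsβ b hb h]; exact hαβ⟩
    · exact Or.inl ⟨hswap b hb h, by rw [h]; exact hαβ⟩
  have hTidx : (T.subgroupOf N).index = (S : Subgroup G).index := by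
    have h1 := (T.subgroupOf N).index_mul_card
    rw [Nat.card_congr (Subgroup.subgroupOfEquivOfLe hTN).toEquiv] at h1
    have h2 := N.index_mul_card
    have h3 := (S : Subgroup G).index_mul_card
    rw [hidx, ← h1] at h2
    rw [hST] at h3
    have h4 : 0 < 2 * Nat.card T := Nat.mul_pos two_pos Nat.card_pos
    refine Nat.eq_of_mul_eq_mul_right h4 ?_
    rw [h3, ← h2]
    ring
  obtain ⟨u₀, hu₀, hu₀1⟩ : ∃ u ∈ T, u ≠ 1 := T.ne_bot_iff_exists_ne_one.1 hT1 |>.elim
    fun u hu => ⟨u, u.2, fun h => hu (Subtype.ext h)⟩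
  have hu₀α : u₀ • α = α := (hT ▸ hu₀ : u₀ ∈ (S : Subgroup G) ⊓ stabilizer G α).2
  -- orbit sizes
  have hAodd : ¬ 2 ∣ Nat.card (orbit N α) := by
    intro h
    have h1 : T.subgroupOf N ≤ stabilizer N α := fun u hu =>
      ((hT ▸ hu : (u : G) ∈ (S : Subgroup G) ⊓ stabilizer G α)).2
    have h2 := Subgroup.index_dvd_of_le h1
    rw [MulAction.index_stabilizer, ← Nat.card_coe_set_eq] at h2
    rw [hTidx] at h2
    exact S.not_dvd_index (h.trans h2)
  have hβA : β ∉ orbit N α := by
    intro hβ
    apply hAodd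
    have hp : IsPGroup 2 (T.subgroupOf N) :=
      (S.2.to_le hTS).of_equiv (Subgroup.subgroupOfEquivOfLe hTN).symm
    have h := hp.card_modEq_card_fixedPoints (orbit N α)
    let pα : orbit N α := ⟨α, mem_orbit_self α⟩
    let pβ : orbit N α := ⟨β, hβ⟩
    have hfp : fixedPoints (T.subgroupOf N) (orbit N α) = {pα, pβ} := by
      ext z
      simp only [mem_fixedPoints, Set.mem_insert_iff, Set.mem_singleton_iff]
      constructor
      · intro hz
        by_contra hne
        push Not at hne
        have h1 := congrArg Subtype.val (hz ⟨⟨u₀, hTN hu₀⟩, hu₀⟩)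
        exact hu₀1 (eq_one_of_three hfix hu₀α (hTβ u₀ hu₀) h1 hαβ.symm
          (fun e => hne.1 (Subtype.ext e.symm)) (fun e => hne.2 (Subtype.ext e.symm)))
      · rintro (rfl | rfl) u <;> apply Subtype.ext
        · exact (hT ▸ u.2 : ((u : N) : G) ∈ (S : Subgroup G) ⊓ stabilizer G α).2
        · exact hTβ _ u.2
    rw [hfp, Nat.card_coe_set_eq {pα, pβ},
      Set.ncard_pair (fun e => hαβ.symm (congrArg Subtype.val e))] at h
    exact (Nat.modEq_zero_iff_dvd.1 (h.trans (by decide)))
  have hNn : N.Normal := MonoidHom.normal_ker _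
  have himg : orbit N β = (fun z => x • z) '' orbit N α := by
    ext z
    constructor
    · rintro ⟨n, rfl⟩
      refine ⟨(x⁻¹ * (n : G) * x) • α, ⟨⟨_, ?_⟩, rfl⟩, ?_⟩
      · simpa using hNn.conj_mem _ n.2 x⁻¹
      · show x • ((x⁻¹ * (n : G) * x) • α) = (n : G) • β
        simp [mul_smul, hxα]
    · rintro ⟨_, ⟨n, rfl⟩, rfl⟩
      refine ⟨⟨x * (n : G) * x⁻¹, hNn.conj_mem _ n.2 x⟩, ?_⟩
      show (x * (n : G) * x⁻¹) • β = x • ((n : G) • α)
      simp [mul_smul, ← hxα]
  have hBA : Nat.card (orbit N β) = Nat.card (orbit N α) := by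
    rw [himg, Nat.card_image_of_injective (MulAction.injective x)]
  have hkey : ∀ g : N, g ≠ 1 → ∀ a ∈ orbit N α, ∀ b ∈ orbit N α,
      g • a = a → g • b = b → a = b := by
    intro g hg a ha b hb hga hgb
    by_contra hab
    have hgne : orderOf g ≠ 1 := fun h => hg (orderOf_eq_one_iff.1 h)
    obtain ⟨p, hp, hpd⟩ := Nat.exists_prime_and_dvd hgne
    haveI := Fact.mk hp
    set h : N := g ^ (orderOf g / p) with hh
    have hho : orderOf h = p := by
      rw [hh, orderOf_pow_orderOf_div (orderOf_pos g).ne' hpd]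
    have hmem : ∀ {z : Ω}, g • z = z → h • z = z := fun {z} hz =>
      (stabilizer N z).pow_mem hz _
    have hh1 : (h : G) ≠ 1 := by
      intro e
      have : h = 1 := Subtype.ext e
      rw [this, orderOf_one] at hho
      exact hp.ne_one hho.symm
    have hP : IsPGroup p (Subgroup.zpowers h) :=
      IsPGroup.of_card (n := 1) (by rw [Nat.card_zpowers, hho, pow_one])
    have hfixmem : ∀ (c : Ω) (z : orbit N c),
        z ∈ fixedPoints (Subgroup.zpowers h) (orbit N c) → (h : G) • (z : Ω) = z := fun c z hz =>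
      congrArg Subtype.val (hz ⟨h, Subgroup.mem_zpowers h⟩)
    have hB0 : Nat.card (fixedPoints (Subgroup.zpowers h) (orbit N β)) = 0 := by
      rw [Nat.card_eq_zero]
      refine Or.inl ⟨fun z => ?_⟩
      have hz := hfixmem β z.1 z.2
      have hne : ∀ c ∈ orbit N α, c ≠ (z.1 : Ω) := by
        rintro c hc rfl
        have h1 : orbit N α = orbit N β :=
          (orbit_eq_iff.2 hc).symm.trans (orbit_eq_iff.2 z.1.2)
        exact hβA (h1 ▸ mem_orbit_self β)
      exact hh1 (eq_one_of_three hfix (hmem hga) (hmem hgb) hz hab (hne a ha) (hne b hb))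
    have hmod2 := hP.card_modEq_card_fixedPoints (orbit N β)
    rw [hB0, hBA] at hmod2
    have hmod1 := hP.card_modEq_card_fixedPoints (orbit N α)
    have hA2 : Nat.card (fixedPoints (Subgroup.zpowers h) (orbit N α)) = 2 := by
      have hf : fixedPoints (Subgroup.zpowers h) (orbit N α) =
          {⟨a, ha⟩, ⟨b, hb⟩} := by
        ext z
        simp only [Set.mem_insert_iff, Set.mem_singleton_iff]
        constructor
        · intro hz
          by_contra hne
          push Not at hne
          exact hh1 (eq_one_of_three hfix (hmem hga) (hmem hgb) (hfixmem α z hz) hab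
            (fun e => hne.1 (Subtype.ext e.symm)) (fun e => hne.2 (Subtype.ext e.symm)))
        · intro hz k
          have hle : Subgroup.zpowers h ≤ stabilizer N (z : Ω) := Subgroup.zpowers_le.2
            (by rcases hz with rfl | rfl
                · exact hmem hga
                · exact hmem hgb)
          exact Subtype.ext (hle k.2)
      rw [hf, Nat.card_coe_set_eq, Set.ncard_pair (fun e => hab (congrArg Subtype.val e))]
    rw [hA2] at hmod1
    have hp2 : p ∣ 2 := Nat.modEq_zero_iff_dvd.1 (hmod1.symm.trans hmod2)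
    have hpe : p = 2 := (Nat.prime_dvd_prime_iff_eq hp Nat.prime_two).1 hp2
    subst hpe
    exact hAodd (Nat.modEq_zero_iff_dvd.1 hmod2)
  refine ⟨N, hNn, hidx, stabilizer N α, ?_, ?_, ?_⟩
  · intro hbot
    have h : (⟨u₀, hTN hu₀⟩ : N) ∈ stabilizer N α := hu₀α
    rw [hbot, Subgroup.mem_bot] at h
    exact hu₀1 (congrArg Subtype.val h)
  · intro htop
    have hfixN : ∀ n ∈ N, n • α = α := fun n hn =>
      (htop ▸ Subgroup.mem_top _ : (⟨n, hn⟩ : N) ∈ stabilizer N α)
    apply hu₀1
    refine eq_of_smul_eq_smul (α := Ω) fun z => ?_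
    rw [one_smul]
    obtain ⟨g, rfl⟩ := MulAction.exists_smul_eq G α z
    by_cases hg : g ∈ N
    · rw [hfixN g hg, hu₀α]
    · have hgx : g⁻¹ * x ∈ N :=
        (Subgroup.mul_mem_iff_of_index_two hidx).2 (iff_of_false (by rwa [inv_mem_iff]) hxN)
      have h1 := hfixN _ hgx
      rw [mul_smul, hxα, inv_smul_eq_iff] at h1
      rw [← h1, hTβ u₀ hu₀]
  · intro g hg
    rw [eq_bot_iff]
    rintro y ⟨hy1, hy2⟩
    rw [Subgroup.mem_bot]
    by_contra hy
    have hy1' : y • α = α := hy1
    obtain ⟨y', hy', rfl⟩ := hy2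
    have hy'' : y' • α = α := hy'
    have h2 : (MulDistribMulAction.toMonoidEnd (MulAut N) N (MulAut.conj g)) y' • (g • α) =
        g • α := by
      show (g * y' * g⁻¹) • (g • α) = g • α
      simp [mul_smul, hy'']
    exact hg (hkey _ hy α (mem_orbit_self α) (g • α) (mem_orbit α g) hy1' h2).symm

end Main

/-- Let G be a finite group acting faithfully and transitively on a finite set Ω with fixity 2 (every non-identity element fixes at most two points, and some fixes exactly two). Let α ∈ Ω and S a Sylow 2-subgroup of G. Then one of the following holds: the stabilizer S_α of α in S is trivial; S is dihedral or semidihedral and either |S_α| = 2 or |S : S_α| = 2; |S| ≥ 4, S has exactly one orbit of size 2 on Ω, every other S-orbit is regular, and G has a normal subgroup of index 2 or of index |S| which is a Frobenius group; or S ≤ G_α. -/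
theorem result {G : Type*} [Group G] [Finite G] {Ω : Type*} [Fintype Ω] [MulAction G Ω] [FaithfulSMul G Ω] (htr : MulAction.IsPretransitive G Ω)
    (hfix : ∀ g : G, g ≠ 1 → Nat.card (MulAction.fixedBy Ω g) ≤ 2) (hex : ∃ g : G, g ≠ 1 ∧ Nat.card (MulAction.fixedBy Ω g) = 2) (α : Ω) (S : Sylow 2 G) :
    (S : Subgroup G) ⊓ MulAction.stabilizer G α = ⊥ ∨
    (((∃ n : ℕ, Nonempty (↥(S : Subgroup G) ≃* DihedralGroup n)) ∨ Cfsg.IsQuasiDihedral ↥(S : Subgroup G)) ∧
       (Nat.card ↥((S : Subgroup G) ⊓ MulAction.stabilizer G α) = 2 ∨ ((S : Subgroup G) ⊓ MulAction.stabilizer G α).relIndex (S : Subgroup G) = 2)) ∨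
    (4 ≤ Nat.card (S : Subgroup G) ∧
       (∃ ω : Ω, Nat.card (MulAction.orbit ↥(S : Subgroup G) ω) = 2 ∧
          ∀ ω' : Ω, ω' ∉ MulAction.orbit ↥(S : Subgroup G) ω → Nat.card (MulAction.orbit ↥(S : Subgroup G) ω') = Nat.card (S : Subgroup G)) ∧
       ∃ N : Subgroup G, N.Normal ∧ (N.index = 2 ∨ N.index = Nat.card (S : Subgroup G)) ∧ (∃ H : Subgroup ↥N, Cfsg.IsFrobeniusComplement H)) ∨
    (S : Subgroup G) ≤ MulAction.stabilizer G α := by
  classical
  haveI := Fact.mk Nat.prime_two
  set P := (S : Subgroup G) with hP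
  set T := P ⊓ stabilizer G α with hT
  by_cases hT1 : T = ⊥
  · exact Or.inl hT1
  by_cases hle : P ≤ stabilizer G α
  · exact Or.inr (Or.inr (Or.inr hle))
  refine Or.inr ?_
  have hTP : T ≤ P := inf_le_left
  have hPp : IsPGroup 2 P := S.2
  haveI : Group.IsNilpotent P := hPp.isNilpotent
  obtain ⟨u₀, hu₀, hu₀1⟩ : ∃ u ∈ T, u ≠ 1 := T.ne_bot_iff_exists_ne_one.1 hT1 |>.elim
    fun u hu => ⟨u, u.2, fun h => hu (Subtype.ext h)⟩
  -- the normaliser moves `α`
  have hlt : T.subgroupOf P < ⊤ := lt_top_iff_ne_top.2 fun h =>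
    hle (fun y hy => ((Subgroup.subgroupOf_eq_top.1 h) hy).2)
  obtain ⟨x', hx', hx'T⟩ := SetLike.exists_of_lt (Group.normalizerCondition_of_isNilpotent _ hlt)
  set x : G := (x' : G) with hx
  have hxP : x ∈ P := x'.2
  have hxn : ∀ u ∈ T, x * u * x⁻¹ ∈ T ∧ x⁻¹ * u * x ∈ T := by
    intro u hu
    have h1 := (Subgroup.mem_normalizer_iff.1 hx' ⟨u, hTP hu⟩).1 hu
    have h2 := (Subgroup.mem_normalizer_iff.1 (inv_mem hx') ⟨u, hTP hu⟩).1 hu
    simp [Subgroup.mem_subgroupOf] at h1 h2
    exact ⟨h1, h2⟩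
  set β := x • α with hβ
  have hαβ : β ≠ α := fun h => hx'T ⟨hxP, h⟩
  have hTβ : ∀ u ∈ T, u • β = β := by
    intro u hu
    have : (x⁻¹ * u * x) • α = α := (hxn u hu).2.2
    rw [mul_smul, mul_smul, inv_smul_eq_iff] at this
    exact this
  have hTα : ∀ u ∈ T, u • α = α := fun u hu => hu.2
  have hmem : ∀ u ∈ P, u • α = α → u ∈ T := fun u hu h => ⟨hu, h⟩
  have honly : ∀ u ∈ T, u ≠ 1 → ∀ z : Ω, u • z = z → z = α ∨ z = β := by
    intro u hu hu1 z hz
    by_contra h
    push Not at h
    exact hu1 (eq_one_of_three hfix (hTα u hu) (hTβ u hu) hz hαβ.symm h.1.symm h.2.symm)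
  have hxinv : x • β = α := by
    have h0 := hTβ _ (hxn u₀ hu₀).2
    rw [mul_smul, mul_smul, inv_smul_eq_iff] at h0
    rcases honly u₀ hu₀ hu₀1 (x • β) h0 with h | h
    · exact h
    · exact absurd (smul_left_cancel x (h.trans hβ)) hαβ
  -- elements of `P` moving `α` to `α` or `β`
  have hcard : ∀ M : Subgroup G, M ≤ P → x ∈ M → T ≤ M →
      (∀ b ∈ M, b • α = α ∨ b • α = β) → Nat.card M = 2 * Nat.card T := by
    intro M hMP hxM hTM hM
    refine card_eq_double T M hTM hxM fun b hb => ?_
    rcases hM b hb with h | h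
    · refine Or.inr ⟨hmem b (hMP hb) h, fun h' => ?_⟩
      have := hTα _ h'
      rw [mul_smul, ← hβ, hTβ b (hmem b (hMP hb) h)] at this
      exact hαβ this
    · refine Or.inl ⟨hmem _ (mul_mem (hMP hb) hxP) ?_, fun h' => hαβ (h ▸ hTα b h')⟩
      have hxb : x⁻¹ * b ∈ T := hmem _ (mul_mem (inv_mem hxP) (hMP hb))
        (by rw [mul_smul, h, hβ, inv_smul_smul])
      have := hTβ _ hxb
      rw [mul_smul, inv_smul_eq_iff, hxinv] at this
      rw [mul_smul, ← hβ, this]
  obtain ⟨n, hn⟩ := hPp.exists_card_eq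
  by_cases hB : ∀ s ∈ P, s • α = α ∨ s • α = β
  · -- index two
    have hPT : Nat.card P = 2 * Nat.card T := hcard P le_rfl hxP hTP hB
    have hrel : T.relIndex P = 2 := by
      have h := (T.subgroupOf P).index_mul_card
      rw [Nat.card_congr (Subgroup.subgroupOfEquivOfLe hTP).toEquiv, hPT] at h
      exact Nat.eq_of_mul_eq_mul_right Nat.card_pos h
    have hT2 : 2 ≤ Nat.card T := T.one_lt_card_iff_ne_bot.2 hT1
    have h4 : 4 ≤ Nat.card P := by omega
    by_cases hfree : ∀ s ∈ P, s • α ≠ α → ∀ γ : Ω, s • γ ≠ γ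
    · refine Or.inr (Or.inl ⟨h4, ⟨α, ?_, ?_⟩, ?_⟩)
      · have horb : orbit P α = {α, β} := by
          ext z
          constructor
          · rintro ⟨s, rfl⟩
            exact hB s s.2
          · rintro (rfl | rfl)
            · exact mem_orbit_self _
            · exact ⟨⟨x, hxP⟩, rfl⟩
        rw [horb, Nat.card_coe_set_eq, Set.ncard_pair hαβ.symm]
      · intro z hz
        have hst : stabilizer P z = ⊥ := by
          rw [eq_bot_iff]
          intro s hs
          rw [Subgroup.mem_bot]
          by_contra hs1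
          have hs' : (s : G) • z = z := hs
          by_cases hsα : (s : G) • α = α
          · rcases honly s (hmem s s.2 hsα) (fun e => hs1 (Subtype.ext e)) z hs' with rfl | rfl
            · exact hz (mem_orbit_self _)
            · exact hz ⟨⟨x, hxP⟩, rfl⟩
          · exact hfree s s.2 hsα z hs'
        rw [Nat.card_coe_set_eq, ← MulAction.index_stabilizer, hst, Subgroup.index_bot]
      · obtain ⟨N, hN1, hN2, hN3⟩ :=
          frobenius_case htr hfix α β hαβ S T rfl hT1 hTβ hxP hβ.symm hB hfree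
        exact ⟨N, hN1, Or.inl hN2, hN3⟩
    · push Not at hfree
      obtain ⟨s, hsP, hsα, γ, hγ⟩ := hfree
      refine Or.inl ⟨?_, Or.inr hrel⟩
      have hγα : γ ≠ α := fun e => hsα (e ▸ hγ)
      have hsβ : s • α = β := (hB s hsP).resolve_left hsα
      have hγβ : γ ≠ β := fun e => hαβ.symm (smul_left_cancel s (by rw [hsβ]; rw [e] at hγ; exact hγ.symm))
      have hss : s * s = 1 := by
        have h : (s * s) • α = α := by
          rcases hB _ (mul_mem hsP hsP) with h | h
          · exact h
          · rw [mul_smul, hsβ] at h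
            exact absurd (smul_left_cancel s (h.trans hsβ.symm)) hαβ
        by_contra h1
        rcases honly _ (hmem _ (mul_mem hsP hsP) h) h1 γ (by rw [mul_smul, hγ, hγ]) with e | e
        · exact hγα e
        · exact hγβ e
      have hs1 : s ≠ 1 := fun e => hsα (by rw [e, one_smul])
      set s' : P := ⟨s, hsP⟩ with hs'
      set C := Subgroup.centralizer ({s'} : Set P) with hC
      set CT := C ⊓ T.subgroupOf P with hCT
      have hsT : s' ∉ T.subgroupOf P := fun h => hsα (hTα s h)
      have hCcard : Nat.card C = 2 * Nat.card CT := by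
        refine card_eq_double CT C inf_le_left
          (Subgroup.mem_centralizer_singleton_iff.2 rfl : s' ∈ C) fun b hb => ?_
        have hidx2 : (T.subgroupOf P).index = 2 := hrel
        have hiff := Subgroup.mul_mem_iff_of_index_two hidx2 (a := b) (b := s')
        have hbs : b * s' ∈ C := mul_mem hb (Subgroup.mem_centralizer_singleton_iff.2 rfl)
        simp only [hCT, Subgroup.mem_inf, hb, hbs, true_and]
        tauto
      have hCT2 : Nat.card CT ≤ 2 := by
        by_contra h3
        have hcases : ∀ u ∈ CT, u ≠ 1 → ((u : P) : G) • γ ≠ γ := by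
          intro u hu hu1 e
          rcases honly _ hu.2 (fun e => hu1 (Subtype.ext e)) γ e with e | e
          · exact hγα e
          · exact hγβ e
        haveI : Fintype CT := Fintype.ofFinite _
        have h3' : 2 < Fintype.card CT := by rw [← Nat.card_eq_fintype_card]; omega
        obtain ⟨a, b, c, hab, hac, hbc⟩ := Fintype.two_lt_card_iff.1 h3'
        have hsfix : ∀ u : CT, s • (((u : P) : G) • γ) = ((u : P) : G) • γ := by
          intro u
          have h := congrArg Subtype.val (Subgroup.mem_centralizer_singleton_iff.1 u.2.1)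
          simp only [Subgroup.coe_mul] at h
          rw [← mul_smul, ← h, mul_smul, hγ]
        have hne : ∀ u v : CT, u ≠ v → ((u : P) : G) • γ ≠ ((v : P) : G) • γ := by
          intro u v huv e
          refine hcases (((u⁻¹ * v : CT)) : P) (u⁻¹ * v).2 ?_ ?_
          · intro e'
            exact huv (inv_mul_eq_one.1 (Subtype.ext e'))
          · show ((((u : P) : G))⁻¹ * ((v : P) : G)) • γ = γ
            rw [mul_smul, ← e, inv_smul_smul]
        exact hs1 (eq_one_of_three hfix (hsfix a) (hsfix b) (hsfix c) (hne a b hab) (hne a c hac)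
          (hne b c hbc))
      have hCTge : 2 ≤ Nat.card CT := by
        by_contra hlt2
        have h1 : Nat.card CT = 1 := by have := Nat.card_pos (α := CT); omega
        rw [h1, mul_one] at hCcard
        haveI : Nontrivial P := Finite.one_lt_card_iff_nontrivial.1 (by omega)
        have hle2 : Subgroup.zpowers s' ≤ C :=
          Subgroup.zpowers_le.2 (Subgroup.mem_centralizer_singleton_iff.2 rfl)
        have heq : Subgroup.zpowers s' = C := Subgroup.eq_of_le_of_card_ge hle2 (by
          rw [hCcard, Nat.card_zpowers,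
            orderOf_eq_prime (by rw [pow_two]; exact Subtype.ext hss)
              (fun e => hs1 (congrArg Subtype.val e))])
        haveI := hPp.center_nontrivial
        obtain ⟨z, hz1⟩ := exists_ne (1 : Subgroup.center P)
        have hzC : (z : P) ∈ C :=
          Subgroup.mem_centralizer_singleton_iff.2 ((Subgroup.mem_center_iff.1 z.2 s').symm)
        rw [← heq] at hzC
        obtain ⟨k, hk⟩ := hzC
        have hzc : (z : P) = s' := by
          rcases Int.even_or_odd' k with ⟨j, rfl | rfl⟩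
          · exfalso
            apply hz1
            apply Subtype.ext
            rw [← hk]
            show s' ^ (2 * j) = 1
            rw [zpow_mul, zpow_two, show s' * s' = 1 from Subtype.ext hss, one_zpow]
          · rw [← hk]
            show s' ^ (2 * j + 1) = s'
            rw [zpow_add, zpow_one, zpow_mul, zpow_two, show s' * s' = 1 from Subtype.ext hss,
              one_zpow, one_mul]
        have hCtop : C = ⊤ := eq_top_iff.2 fun y _ => Subgroup.mem_centralizer_singleton_iff.2
          (by rw [← hzc]; exact Subgroup.mem_center_iff.1 z.2 y)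
        rw [hCtop, Subgroup.card_top] at hCcard
        omega
      have hC4 : Nat.card C = 4 := by omega
      refine dihedral_or_semidihedral hn (Subtype.ext hss) (fun e => hs1 (congrArg Subtype.val e))
        hC4 fun _ => ?_
      haveI : Nontrivial CT := Finite.one_lt_card_iff_nontrivial.1 hCTge
      obtain ⟨c, hc⟩ := exists_ne (1 : CT)
      have hc2 : c ^ Nat.card CT = 1 := pow_card_eq_one'
      rw [show Nat.card CT = 2 by omega, pow_two] at hc2
      exact ⟨c, congrArg Subtype.val hc2, fun e => hc (Subtype.ext e),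
        fun e => hsT (e ▸ c.2.2)⟩
  · -- index at least four
    push Not at hB
    obtain ⟨w, hwP, hw1, hw2⟩ := hB
    let M : Subgroup P := Subgroup.normalizer ((T.subgroupOf P : Subgroup P) : Set P)
    have hnorm : ∀ b : P, b ∈ M → (b : G) • α = α ∨ (b : G) • α = β := by
      intro b hb
      have hcj : ((b : G))⁻¹ * u₀ * b ∈ T := by
        have h2 := (Subgroup.mem_normalizer_iff.1 (inv_mem hb) ⟨u₀, hTP hu₀⟩).1 hu₀
        simpa [Subgroup.mem_subgroupOf] using h2
      refine honly u₀ hu₀ hu₀1 _ ?_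
      have := hTα _ hcj
      rwa [mul_smul, mul_smul, inv_smul_eq_iff] at this
    have hnorm' : ∀ b : P, ((b : G) • α = α ∨ (b : G) • α = β) → b ∈ M := by
      rintro b (h | h)
      · exact Subgroup.le_normalizer (hmem b b.2 h)
      · have hxb : x⁻¹ * (b : G) ∈ T := hmem _ (mul_mem (inv_mem hxP) b.2)
          (by rw [mul_smul, h, hβ, inv_smul_smul])
        have : b = x' * ⟨x⁻¹ * (b : G), hTP hxb⟩ := Subtype.ext (by simp [hx])
        rw [this]
        exact mul_mem hx' (Subgroup.le_normalizer hxb)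
    have hMlt : M < ⊤ := lt_top_iff_ne_top.2 fun h => by
      rcases hnorm ⟨w, hwP⟩ (h ▸ Subgroup.mem_top _) with e | e
      · exact hw1 e
      · exact hw2 e
    obtain ⟨y', hy', hy'M⟩ := SetLike.exists_of_lt (Group.normalizerCondition_of_isNilpotent _ hMlt)
    set y : G := (y' : G) with hy
    have hT2 : Nat.card T = 2 := by
      refine le_antisymm ?_ (T.one_lt_card_iff_ne_bot.2 hT1)
      by_contra h3
      haveI : Fintype T := Fintype.ofFinite _
      have h3' : Fintype.card Bool < Fintype.card T := by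
        rw [Fintype.card_bool, ← Nat.card_eq_fintype_card]; omega
      obtain ⟨a, b, hab, he⟩ := Fintype.exists_ne_map_eq_of_card_lt
        (fun u : T => decide ((y * (u : G) * y⁻¹) • α = α)) h3'
      simp only [decide_eq_decide] at he
      have hin : ∀ u : T, (y * (u : G) * y⁻¹) • α = α ∨ (y * (u : G) * y⁻¹) • α = β := by
        intro u
        have hu : (⟨u, hTP u.2⟩ : P) ∈ M := Subgroup.le_normalizer (show _ from u.2)
        exact hnorm _ ((Subgroup.mem_normalizer_iff.1 hy' _).1 hu)
      have heq : (y * (a : G) * y⁻¹) • α = (y * (b : G) * y⁻¹) • α := by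
        rcases hin a with h1 | h1
        · rw [h1, he.1 h1]
        · rcases hin b with h2 | h2
          · exact absurd ((he.2 h2).symm.trans h1) hαβ.symm
          · rw [h1, h2]
      set r := y * ((a : G)⁻¹ * b) * y⁻¹ with hr
      have hab' : (a : G)⁻¹ * b ∈ T := mul_mem (inv_mem a.2) b.2
      have hr1 : r ≠ 1 := fun e => hab (Subtype.ext (inv_mul_eq_one.1 (conj_eq_one_iff.1 e)))
      have hrα : r • α = α := by
        rw [hr, show y * ((a : G)⁻¹ * b) * y⁻¹ = (y * a * y⁻¹)⁻¹ * (y * b * y⁻¹) by group,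
          mul_smul, ← heq, inv_smul_smul]
      have hrT : r ∈ T :=
        hmem r (mul_mem (mul_mem y'.2 (hTP hab')) (inv_mem y'.2)) hrα
      refine hy'M (hnorm' y' (honly r hrT hr1 _ ?_))
      show r • y • α = y • α
      rw [hr, mul_smul, inv_smul_smul, mul_smul, hTα _ hab']
    have hu₀2 : u₀ * u₀ = 1 := by
      have h : (⟨u₀, hu₀⟩ : T) ^ Nat.card T = 1 := pow_card_eq_one'
      rw [hT2, pow_two] at h
      exact congrArg Subtype.val h
    set t : P := ⟨u₀, hTP hu₀⟩ with ht
    set C := Subgroup.centralizer ({t} : Set P) with hC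
    have hTmem : ∀ u ∈ T, u = 1 ∨ u = u₀ := by
      intro u hu
      by_contra h
      push Not at h
      haveI : Fintype T := Fintype.ofFinite _
      have h3 : 2 < Fintype.card T := Fintype.two_lt_card_iff.2
        ⟨1, ⟨u, hu⟩, ⟨u₀, hu₀⟩, fun e => h.1 (congrArg Subtype.val e).symm,
          fun e => hu₀1 (congrArg Subtype.val e).symm, fun e => h.2 (congrArg Subtype.val e)⟩
      rw [← Nat.card_eq_fintype_card, hT2] at h3
      omega
    have hCM : C = M := by
      ext b
      rw [hC, Subgroup.mem_centralizer_singleton_iff]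
      constructor
      · intro hb
        refine hnorm' b (honly u₀ hu₀ hu₀1 _ ?_)
        have hb' : (b : G) * u₀ = u₀ * b := congrArg Subtype.val hb
        rw [← mul_smul, ← hb', mul_smul, hTα u₀ hu₀]
      · intro hb
        have h := (Subgroup.mem_normalizer_iff.1 hb t).1 (show t ∈ T.subgroupOf P from hu₀)
        apply Subtype.ext
        show (b : G) * u₀ = u₀ * b
        rcases hTmem _ (show (b : G) * u₀ * (b : G)⁻¹ ∈ T from h) with e | e
        · exact absurd (conj_eq_one_iff.1 e) hu₀1
        · exact mul_inv_eq_iff_eq_mul.1 e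
    have hC4 : Nat.card C = 4 := by
      rw [hCM, Nat.card_congr (M.equivMapOfInjective P.subtype P.subtype_injective).toEquiv]
      have h := hcard (M.map P.subtype) (Subgroup.map_subtype_le M) ⟨x', hx', rfl⟩
        (fun u hu => ⟨⟨u, hTP hu⟩, Subgroup.le_normalizer (show _ from hu), rfl⟩)
        (by rintro _ ⟨b, hb, rfl⟩; exact hnorm b hb)
      omega
    refine Or.inl ⟨dihedral_or_semidihedral hn (Subtype.ext hu₀2)
      (fun e => hu₀1 (congrArg Subtype.val e)) hC4 fun h2 => ?_, Or.inl hT2⟩
    exfalso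
    have htop : C = ⊤ := Subgroup.eq_top_of_card_eq _ (by rw [hC4, hn, h2]; norm_num)
    exact hMlt.ne (hCM ▸ htop)

end Cfsg.Agent.S3390
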