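import Cfsg.Statements.S3391
import Cfsg.Agent.Lib.Lie.Suzuki.Fixity

set_option autoImplicit false
open Cfsg
open CfsgLib.Lie.Suzuki

namespace Cfsg.Agent.S3391

/-- Let q = 2^{2m+1} ≥ 8 and let G be isomorphic to the Suzuki group Sz(q). If G acts faithfully and transitively on a finite set Ω with fixity 2 (every non-identity element fixes at most two points, and some fixes exactly two), then either |Ω| = q² + 1 and the action is 2-transitive, or |Ω| = q²(q² + 1) and the point stabilizers have order q − 1. -/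
theorem result {G : Type*} [Group G] [Finite G] (F : Type) [Field F] [Fintype F] (m : ℕ) (hm : 1 ≤ m) (hF : Fintype.card F = 2 ^ (2 * m + 1))
    (e : G ≃* ↥(Cfsg.Lie.Sz F (2 ^ (m + 1)))) {Ω : Type*} [Fintype Ω] [MulAction G Ω] [FaithfulSMul G Ω] (htr : MulAction.IsPretransitive G Ω)
    (hfix : ∀ g : G, g ≠ 1 → Nat.card (MulAction.fixedBy Ω g) ≤ 2) (hex : ∃ g : G, g ≠ 1 ∧ Nat.card (MulAction.fixedBy Ω g) = 2) :
    (Fintype.card Ω = Fintype.card F ^ 2 + 1 ∧ MulAction.IsMultiplyPretransitive G Ω 2) ∨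
    (Fintype.card Ω = Fintype.card F ^ 2 * (Fintype.card F ^ 2 + 1) ∧ ∀ α : Ω, Nat.card (MulAction.stabilizer G α) = Fintype.card F - 1) := by
  haveI := CfsgLib.Lie.Suzuki.charTwo_of_card hF
  let f : Cfsg.Sz F m ≃* G := (equivLie hm hF).trans e.symm
  letI : MulAction (Cfsg.Sz F m) Ω := MulAction.compHom Ω f.toMonoidHom
  haveI : MulAction.IsPretransitive (Cfsg.Sz F m) Ω := ⟨fun x y => by
    obtain ⟨g, hg⟩ := htr.exists_smul_eq x y
    exact ⟨f.symm g, (show f (f.symm g) • x = y by rw [f.apply_symm_apply, hg])⟩⟩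
  have hfix' : ∀ g : Cfsg.Sz F m, g ≠ 1 → ∀ s : Finset Ω, (∀ x ∈ s, g • x = x) → s.card ≤ 2 := by
    intro g hg s hs
    have h1 : f g ≠ 1 := fun h => hg ((map_eq_one_iff _ f.injective).1 h)
    refine le_trans ?_ (hfix (f g) h1)
    rw [← Nat.card_eq_finsetCard]
    exact Nat.card_le_card_of_injective (fun x : s => (⟨x.1, hs x.1 x.2⟩ : MulAction.fixedBy Ω (f g)))
      fun x y h => Subtype.ext (congrArg Subtype.val h :)
  have hex' : ∃ g : Cfsg.Sz F m, g ≠ 1 ∧ 2 ≤ Nat.card (MulAction.fixedBy Ω g) := by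
    obtain ⟨g, hg, h2⟩ := hex
    refine ⟨f.symm g, fun h => hg ((map_eq_one_iff _ f.symm.injective).1 h), ?_⟩
    rw [show MulAction.fixedBy Ω (f.symm g) = MulAction.fixedBy Ω g from Set.ext fun x => by
      show f (f.symm g) • x = x ↔ g • x = x
      rw [f.apply_symm_apply], h2]
  rcases fixity_two hF hfix' hm hex' with ⟨h1, h2⟩ | ⟨h1, h2⟩
  · refine Or.inl ⟨by rw [← Nat.card_eq_fintype_card, h1], ?_⟩
    rw [MulAction.is_two_pretransitive_iff] at h2 ⊢
    intro a b c d hab hcd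
    obtain ⟨g, hga, hgb⟩ := h2 hab hcd
    exact ⟨f g, hga, hgb⟩
  · refine Or.inr ⟨by rw [← Nat.card_eq_fintype_card, h1], fun α => ?_⟩
    rw [← h2 α]
    exact Nat.card_congr (Equiv.subtypeEquiv f.symm.toEquiv fun g => by
      show g • α = α ↔ f (f.symm g) • α = α
      rw [f.apply_symm_apply])

end Cfsg.Agent.S3391
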