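import Cfsg.Statements.S3401
import Cfsg.Agent.Lib.Perm.TwoTransTwoModFour

set_option autoImplicit false
open Cfsg

namespace Cfsg.Agent.S3401

/-- Let G be a doubly transitive permutation group on a finite set Ω with |Ω| ≡ 2 mod 4 and |Ω| > 2. Then G has a unique minimal normal subgroup M (a nontrivial normal subgroup contained in every nontrivial normal subgroup); M is simple and doubly transitive on Ω, and its centralizer in G is trivial (so G embeds in Aut(M)). -/
theorem result {G : Type*} [Group G] [Finite G] {Ω : Type*} [Fintype Ω] [MulAction G Ω] [FaithfulSMul G Ω]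
    (h2 : MulAction.IsMultiplyPretransitive G Ω 2) (hn : Fintype.card Ω % 4 = 2) (hn2 : 2 < Fintype.card Ω) :
    ∃ M : Subgroup G, M.Normal ∧ M ≠ ⊥ ∧ (∀ N : Subgroup G, N.Normal → N ≠ ⊥ → M ≤ N) ∧
      IsSimpleGroup ↥M ∧ MulAction.IsMultiplyPretransitive ↥M Ω 2 ∧ Subgroup.centralizer (M : Set G) = ⊥ := by
  classical
  have hcard : Nat.card Ω % 4 = 2 := by rwa [Nat.card_eq_fintype_card]
  haveI : Nontrivial Ω := Fintype.one_lt_card_iff_nontrivial.1 (by omega)
  haveI : MulAction.IsPreprimitive G Ω := MulAction.isPreprimitive_of_is_two_pretransitive h2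
  have htop : (⊤ : Subgroup G) ≠ ⊥ := by
    intro h
    obtain ⟨x, y, hxy⟩ := exists_pair_ne Ω
    obtain ⟨g, hg⟩ := MulAction.exists_smul_eq G x y
    have hg' : g ∈ (⊤ : Subgroup G) := Subgroup.mem_top g
    rw [h, Subgroup.mem_bot] at hg'
    rw [hg', one_smul] at hg
    exact hxy hg
  obtain ⟨M, hMn, hM, -, hmin⟩ := CfsgLib.Core.exists_minimal_normal_le' (⊤ : Subgroup G) htop
  haveI := hMn
  have htrans : ∀ N : Subgroup G, N.Normal → N ≠ ⊥ → MulAction.IsPretransitive N Ω := by
    intro N hN hne
    haveI := hN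
    refine MulAction.IsQuasiPreprimitive.isPretransitive_of_normal fun h => hne ?_
    refine N.eq_bot_iff_forall.2 fun g hg => FaithfulSMul.eq_of_smul_eq_smul (α := Ω) fun y => ?_
    rw [one_smul]
    exact Set.eq_univ_iff_forall.1 h y ⟨g, hg⟩
  haveI := htrans M hMn hM
  obtain ⟨a⟩ : Nonempty Ω := inferInstance
  have hnreg : MulAction.stabilizer M a ≠ ⊥ := by
    intro h
    obtain ⟨p, hp, hpg⟩ := CfsgLib.Perm.Burnside2.isPGroup_of_regular h2 M a h
    haveI := Fact.mk hp
    obtain ⟨j, hj⟩ := IsPGroup.iff_card.1 hpg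
    have hcardM : Nat.card M = Nat.card Ω := by
      rw [← MulAction.index_stabilizer_of_transitive M (x := a), h, Subgroup.index_bot]
    rw [hj] at hcardM
    rw [← hcardM] at hcard
    rcases eq_or_ne p 2 with rfl | hp2
    · rcases j with _ | _ | j
      · norm_num at hcard
      · have : Fintype.card Ω = 2 := by rw [← Nat.card_eq_fintype_card, ← hcardM]; norm_num
        omega
      · rw [pow_succ, pow_succ] at hcard
        omega
    · have := (hp.odd_of_ne_two hp2).pow (n := j)
      rw [Nat.odd_iff] at this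
      omega
  have hC : Subgroup.centralizer (M : Set G) = ⊥ := by
    by_contra h
    haveI := htrans (Subgroup.centralizer (M : Set G)) inferInstance h
    exact hnreg (CfsgLib.Perm.Regular.stabilizer_eq_bot_of_commute M
      (Subgroup.centralizer (M : Set G)) (fun s hs t ht => ht s hs) a)
  haveI : MulAction.IsPreprimitive M Ω :=
    CfsgLib.Perm.Burnside2.isPreprimitive_of_minimal_normal h2 M hmin a hnreg
  refine ⟨M, hMn, hM, fun N hN hne => ?_, CfsgLib.Perm.Burnside2.isSimpleGroup_of_primitive h2 M hM hmin,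
    CfsgLib.Perm.TwoModFour.isMultiplyPretransitive_of_card_mod_four h2 hcard M, hC⟩
  rcases hmin (M ⊓ N) inferInstance inf_le_left with h | h
  · exfalso
    refine hne (eq_bot_iff.2 ?_)
    rw [← hC]
    intro t ht s hs
    exact (Subgroup.commute_of_normal_of_disjoint M N hMn hN (disjoint_iff.2 h) s t hs ht).eq
  · exact inf_eq_left.1 h

end Cfsg.Agent.S3401
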