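import Cfsg.Statements.S3410
import Cfsg.Agent.Lib.Perm.ONanAbelian.Main
import Cfsg.Agent.Lib.Classical.SLGroup
import Cfsg.Agent.Lib.Recog.FiFourProd.Extension

set_option autoImplicit false
open Cfsg

namespace Cfsg.Agent.S3410

/-- Let a finite group G act faithfully and 2-transitively on a finite set X, and let N be an abelian normal subgroup of the stabilizer of a point x which is not semiregular on the remaining points (some non-identity element of N fixes a second point). Then the generalized Fitting subgroup of G is isomorphic to PSL_n(F) for some n ≥ 3 and some finite field F. -/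
theorem result {G X : Type*} [Group G] [Finite G] [Fintype X]
    [MulAction G X] [FaithfulSMul G X] (h2 : MulAction.IsMultiplyPretransitive G X 2) (x : X)
    (N : Subgroup G) (hNle : N ≤ MulAction.stabilizer G x)
    (hNnormal : ∀ g ∈ MulAction.stabilizer G x, ∀ n ∈ N, g * n * g⁻¹ ∈ N) (hNab : IsMulCommutative N)
    (hnsr : ∃ n ∈ N, n ≠ 1 ∧ ∃ y : X, y ≠ x ∧ n • y = y) :
    ∃ (F : Type) (_ : Field F) (_ : Fintype F) (n : ℕ), 3 ≤ n ∧
      Nonempty (↥(Cfsg.generalizedFittingSubgroup G) ≃* Matrix.ProjectiveSpecialLinearGroup (Fin n) F) := by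
  obtain ⟨m, F, hF, hFt, hm, M, hM, ⟨e⟩, hC⟩ :=
    CfsgLib.ONanAbelian.exists_psl h2 x N hNle hNnormal hNab hnsr
  haveI hs : IsSimpleGroup (Matrix.ProjectiveSpecialLinearGroup (Fin (m + 1)) F) :=
    CfsgLib.Classical.isSimpleGroup_PSL (by omega)
  haveI : IsSimpleGroup ↥M := MulEquiv.isSimpleGroup e
  have hMna : ¬ IsMulCommutative ↥M := by
    intro h
    obtain ⟨a, ha⟩ := exists_ne (1 : ↥M)
    have : (a : G) ∈ Subgroup.centralizer (M : Set G) := Subgroup.mem_centralizer_iff.2 fun b hb =>
      congrArg Subtype.val (h.is_comm.comm (⟨b, hb⟩ : ↥M) a)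
    rw [hC, Subgroup.mem_bot] at this
    exact ha (Subtype.ext this)
  have hF' : Cfsg.generalizedFittingSubgroup G = M :=
    CfsgLib.Recog.FiFourProd.gFitting_eq_of_quasisimple hM
      (CfsgLib.Components.isQuasisimple_of_isSimpleGroup hMna) (hC.le.trans bot_le)
  exact ⟨F, hF, hFt, m + 1, by omega, ⟨(MulEquiv.subgroupCongr hF').trans e⟩⟩

end Cfsg.Agent.S3410
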