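import Cfsg.Statements.S3412
import Cfsg.Agent.Lib.Blocks.GLTwoThreeCentralizer.Commuting
import Cfsg.Agent.Lib.Blocks.GLTwoThreeCentralizer.PSLThree
import Cfsg.Agent.Lib.Blocks.GLTwoThreeCentralizer.Simple
import Cfsg.Agent.Lib.Blocks.GLTwoThreeCentralizer.Points

set_option autoImplicit false
open Cfsg

namespace Cfsg.Agent.S3412

/-- Let H be a finite group whose commuting graph (vertices the non-identity elements, two joined when they commute) is isomorphic to that of PSL_3(3): there is a bijection between the non-identity elements of H and of PSL_3(3) under which two elements commute exactly when their images do. Then H ≅ PSL_3(3). -/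
theorem result {H : Type*} [Group H] [Finite H]
    (f : {h : H // h ≠ 1} ≃ {g : Matrix.ProjectiveSpecialLinearGroup (Fin 3) (ZMod 3) // g ≠ 1})
    (hf : ∀ x y : {h : H // h ≠ 1}, (x : H) * y = y * x ↔ ((f x) : Matrix.ProjectiveSpecialLinearGroup (Fin 3) (ZMod 3)) * (f y) = (f y) * (f x)) :
    Nonempty (H ≃* Matrix.ProjectiveSpecialLinearGroup (Fin 3) (ZMod 3)) := by
  classical
  open CfsgLib.Blocks.GLTwoThreeCentralizer in
  exact (by
    have : Fact (Nat.Prime 3) := ⟨Nat.prime_three⟩
    have : Fact (Nat.Prime 2) := ⟨Nat.prime_two⟩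
    have : Fact (Nat.Prime 13) := ⟨by norm_num⟩
    have : IsSimpleGroup PSLThree := isSimpleGroup_PSLThree
    have hL : Nat.card PSLThree = 5616 := card_PSLThree
    obtain ⟨tL, htL, ⟨eL⟩⟩ := exists_centralizer_PSLThree
    let E : H ≃ PSLThree :=
      (Equiv.optionSubtypeNe (1 : H)).symm.trans
        (f.optionCongr.trans (Equiv.optionSubtypeNe (1 : PSLThree)))
    have hE1 : E 1 = 1 := by simp [E]
    have hH : Nat.card H = 5616 := (Nat.card_congr E).trans hL
    have hec : ∀ a : {h : H // h ≠ 1}, E (a : H) = (f a : PSLThree) := fun a => by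
      simp [E, a.2]
    have hcomm : ∀ a b : H, a * b = b * a ↔ E a * E b = E b * E a := by
      intro a b
      by_cases ha : a = 1
      · subst ha; simp [hE1]
      by_cases hb : b = 1
      · subst hb; simp [hE1]
      rw [hec ⟨a, ha⟩, hec ⟨b, hb⟩]
      exact hf ⟨a, ha⟩ ⟨b, hb⟩
    have hcard : ∀ a : H, Nat.card (Subgroup.centralizer ({a} : Set H)) =
        Nat.card (Subgroup.centralizer ({E a} : Set PSLThree)) := fun a =>
      Nat.card_congr (E.subtypeEquiv fun b => by
        rw [Subgroup.mem_centralizer_singleton_iff, Subgroup.mem_centralizer_singleton_iff]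
        exact hcomm b a)
    -- involutions correspond
    have hinv : ∀ h : H, orderOf (E h) = 2 → h * h = 1 := by
      intro h hh
      obtain ⟨c, hc⟩ := isConj_iff.1 (isConj_t eL htL hh)
      have hcom : ∀ b : H, b * h = h * b → (h * h) * b = b * (h * h) := fun b hb =>
        ((show Commute h b from hb.symm).mul_left hb.symm).eq
      set u := E (h * h) with hu
      have hcT : ∀ v : Subgroup.centralizer ({tL} : Set PSLThree), u * (c * v * c⁻¹) = c * v * c⁻¹ * u := by
        intro v
        obtain ⟨b, hb⟩ := E.surjective (c * v * c⁻¹)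
        rw [hu, ← hb, ← hcomm]
        refine hcom b ((hcomm b h).2 ?_)
        rw [hb, ← hc]
        calc c * (v : PSLThree) * c⁻¹ * (c * tL * c⁻¹) = c * ((v : PSLThree) * tL) * c⁻¹ := by group
          _ = _ := by rw [Subgroup.mem_centralizer_singleton_iff.1 v.2]; group
      have hmem : c⁻¹ * u * c ∈ Subgroup.centralizer ({tL} : Set PSLThree) := by
        rw [Subgroup.mem_centralizer_singleton_iff]
        have := hcT ⟨tL, Subgroup.mem_centralizer_singleton_iff.2 rfl⟩
        calc c⁻¹ * u * c * tL = c⁻¹ * (u * (c * tL * c⁻¹)) * c := by group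
          _ = _ := by rw [this]; group
      set U : Subgroup.centralizer ({tL} : Set PSLThree) := ⟨c⁻¹ * u * c, hmem⟩ with hU
      have hUc : ∀ v, U * v = v * U := fun v => Subtype.ext (by
        show c⁻¹ * u * c * v = v * (c⁻¹ * u * c)
        calc c⁻¹ * u * c * v = c⁻¹ * (u * (c * v * c⁻¹)) * c := by group
          _ = _ := by rw [hcT v]; group)
      rcases central_eq _ (ct_mem eL U) (fun q hq => by
        obtain ⟨x, rfl⟩ := exists_ct eL hq
        rw [← ct_mul, ← ct_mul, hUc]) with h1 | h1
      · refine E.injective ?_
        rw [hE1, ← hu]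
        have h2 : c⁻¹ * u * c = 1 := congrArg Subtype.val
          (ct_injective eL (h1.trans (ct_one eL).symm))
        calc u = c * (c⁻¹ * u * c) * c⁻¹ := by group
          _ = 1 := by rw [h2]; group
      · exfalso
        have h2 : c⁻¹ * u * c = tL := congrArg Subtype.val
          (ct_injective eL (h1.trans (ct_t eL htL).symm))
        have h3 : u = E h := by
          rw [← hc]
          calc u = c * (c⁻¹ * u * c) * c⁻¹ := by group
            _ = _ := by rw [h2]
        have h4 : h = 1 := by simpa using E.injective h3
        rw [h4, hE1, orderOf_one] at hh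
        norm_num at hh
    -- the involution centralizer
    set z := E.symm tL with hz
    have hEz : E z = tL := E.apply_symm_apply tL
    have hz2 : orderOf z = 2 := by
      refine orderOf_eq_prime (by rw [sq]; exact hinv z (by rw [hEz, htL])) fun h => ?_
      rw [h, hE1] at hEz
      rw [← hEz, orderOf_one] at htL
      norm_num at htL
    let β : Subgroup.centralizer ({z} : Set H) ≃ GLT :=
      (E.subtypeEquiv fun b => by
        rw [Subgroup.mem_centralizer_singleton_iff, Subgroup.mem_centralizer_singleton_iff, ← hEz]
        exact hcomm b z).trans eL.toEquiv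
    have hβ : ∀ a, β a = eL ⟨E a, Subgroup.mem_centralizer_singleton_iff.2 (by
        rw [← hEz]; exact (hcomm a z).1 (Subgroup.mem_centralizer_singleton_iff.1 a.2))⟩ := fun a => rfl
    obtain ⟨e⟩ := nonempty_mulEquiv_GLT β (by
        rw [hβ, MulEquiv.map_eq_one_iff]
        exact Subtype.ext hE1)
      (fun a b => by
        have key : ∀ X Y, X * Y = Y * X ↔ eL X * eL Y = eL Y * eL X := fun X Y =>
          ⟨fun h => by rw [← eL.map_mul, ← eL.map_mul, h],
            fun h => eL.injective (by rw [eL.map_mul, eL.map_mul]; exact h)⟩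
        rw [hβ, hβ]
        refine Iff.trans ?_ (key _ _)
        constructor
        · intro h
          exact Subtype.ext ((hcomm a b).1 (congrArg Subtype.val h))
        · intro h
          exact Subtype.ext ((hcomm a b).2 (congrArg Subtype.val h)))
      (fun a h => by
        rw [hβ, ← map_mul, MulEquiv.map_eq_one_iff] at h
        have h' : E a * E a = 1 := congrArg Subtype.val h
        by_cases ha : E a = 1
        · rw [← hE1] at ha
          rw [show a = 1 from Subtype.ext (E.injective ha), one_mul]
        · exact Subtype.ext (hinv a (orderOf_eq_prime (by rw [sq]; exact h') ha)))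
    -- the element of order thirteen
    obtain ⟨y, hy⟩ := exists_prime_orderOf_dvd_card' (G := H) 13 (by rw [hH]; norm_num)
    have hy13 : Nat.card (Subgroup.centralizer ({y} : Set H)) = 13 := by
      have hy1 : y ≠ 1 := fun h => by simp [h] at hy
      have h13 : 13 ∣ Nat.card (Subgroup.centralizer ({E y} : Set PSLThree)) := by
        rw [← hcard, ← hy]
        exact Subgroup.orderOf_dvd_natCard _ (Subgroup.mem_centralizer_singleton_iff.2 rfl)
      obtain ⟨w, hw⟩ := exists_prime_orderOf_dvd_card'
        (G := Subgroup.centralizer ({E y} : Set PSLThree)) 13 h13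
      rw [← Subgroup.orderOf_coe] at hw
      have hmem : E y ∈ Subgroup.centralizer ({(w : PSLThree)} : Set PSLThree) :=
        Subgroup.mem_centralizer_singleton_iff.2 (Subgroup.mem_centralizer_singleton_iff.1 w.2).symm
      have hd := Subgroup.orderOf_dvd_natCard _ hmem
      rw [card_centralizer_thirteen eL htL hL hw] at hd
      rw [hcard]
      exact card_centralizer_thirteen eL htL hL
        (((Nat.dvd_prime (by norm_num : Nat.Prime 13)).1 hd).resolve_left fun h =>
          hy1 (E.injective ((orderOf_eq_one_iff.1 h).trans hE1.symm)))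
    have hO := pResidual_two_eq_top hH hy hy13
    have : IsSimpleGroup H := isSimpleGroup e hz2 hO
    have := Fintype.ofFinite H
    obtain ⟨A, P, u, h9, hu, ho, hAP, hPu, hNP, hH', htr⟩ := exists_nine e hz2 hH
    have D : NineData A P u := ⟨hH, h9, hu, ho, hAP, hPu, hNP, hH', htr⟩
    exact D.nonempty_iso)

end Cfsg.Agent.S3412
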