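import Cfsg.Statements.S3413
import Cfsg.Agent.Lib.Blocks.Order7920.Table
import Cfsg.Agent.Lib.Blocks.Order7920.Local
import Cfsg.Agent.Lib.Blocks.Order7920.Coords
import Cfsg.Agent.Lib.Sporadic.SporMathieu
import Cfsg.Agent.S2490

set_option autoImplicit false
open Cfsg

namespace Cfsg.Agent.S3413

/-- Let H be a finite group whose commuting graph (vertices the non-identity elements, two joined when they commute) is isomorphic to that of the Mathieu group M_11: there is a bijection between the non-identity elements of H and of M_11 under which two elements commute exactly when their images do. Then H ≅ M_11. -/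
theorem result {H : Type*} [Group H] [Finite H]
    (f : {h : H // h ≠ 1} ≃ {g : ↥Cfsg.Spor.M11 // g ≠ 1})
    (hf : ∀ x y : {h : H // h ≠ 1}, (x : H) * y = y * x ↔ ((f x) : ↥Cfsg.Spor.M11) * (f y) = (f y) * (f x)) :
    Nonempty (H ≃* ↥Cfsg.Spor.M11) := by
  classical
  have : IsSimpleGroup ↥Cfsg.Spor.M11 := CfsgLib.Sporadic.sporM11_isSimple
  have hM := CfsgLib.Sporadic.card_sporM11
  have := Fintype.ofFinite H
  have := Fintype.ofFinite ↥Cfsg.Spor.M11
  let e : H ≃ ↥Cfsg.Spor.M11 :=
    (Equiv.optionSubtypeNe (1 : H)).symm.trans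
      (f.optionCongr.trans (Equiv.optionSubtypeNe (1 : ↥Cfsg.Spor.M11)))
  have he1 : e 1 = 1 := by simp [e]
  have hH : Nat.card H = 7920 := (Nat.card_congr e).trans hM
  have hec : ∀ a : {h : H // h ≠ 1}, e (a : H) = (f a : ↥Cfsg.Spor.M11) := fun a => by
    simp [e, a.2]
  have hcomm : ∀ a b : H, a * b = b * a ↔ e a * e b = e b * e a := by
    intro a b
    by_cases ha : a = 1
    · subst ha; simp [he1]
    by_cases hb : b = 1
    · subst hb; simp [he1]
    rw [hec ⟨a, ha⟩, hec ⟨b, hb⟩]
    exact hf ⟨a, ha⟩ ⟨b, hb⟩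
  have hC : ∀ y : H, orderOf y = 11 → Nat.card (Subgroup.centralizer ({y} : Set H)) = 11 := by
    intro y hy
    have hy1 : y ≠ 1 := fun h => by simp [h] at hy
    have hcard : Nat.card (Subgroup.centralizer ({y} : Set H)) =
        Nat.card (Subgroup.centralizer ({e y} : Set ↥Cfsg.Spor.M11)) :=
      Nat.card_congr (e.subtypeEquiv fun a => by
        rw [Subgroup.mem_centralizer_singleton_iff, Subgroup.mem_centralizer_singleton_iff]
        exact hcomm a y)
    have h11 : 11 ∣ Nat.card (Subgroup.centralizer ({e y} : Set ↥Cfsg.Spor.M11)) := by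
      rw [← hcard, ← hy]
      exact Subgroup.orderOf_dvd_natCard _ (Subgroup.mem_centralizer_singleton_iff.2 rfl)
    have : Fact (Nat.Prime 11) := ⟨by norm_num⟩
    obtain ⟨z, hz, hzo⟩ := CfsgLib.Blocks.Order7920.exists_mem_orderOf hM _ h11
    have hey : e y ≠ 1 := fun h => hy1 (e.injective (h.trans he1.symm))
    have hmem : e y ∈ Subgroup.centralizer ({z} : Set ↥Cfsg.Spor.M11) :=
      Subgroup.mem_centralizer_singleton_iff.2 (Subgroup.mem_centralizer_singleton_iff.1 hz).symm
    have hd := Subgroup.orderOf_dvd_natCard _ hmem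
    rw [CfsgLib.Blocks.Order7920.card_centralizer_eleven hM hzo] at hd
    rw [hcard]
    exact CfsgLib.Blocks.Order7920.card_centralizer_eleven hM
      (((Nat.dvd_prime (by norm_num : Nat.Prime 11)).1 hd).resolve_left fun h => hey (orderOf_eq_one_iff.1 h))
  have : IsSimpleGroup H := by
    refine Cfsg.Agent.S2490.result hH ⟨{11}, ⟨11, rfl, by norm_num, by rw [hH]; norm_num⟩,
      ⟨2, by norm_num, Nat.prime_two, by rw [hH]; norm_num⟩, ?_⟩
    intro a ha b hb hap hbp _ _ ⟨g, hg⟩
    rw [Set.mem_singleton_iff] at ha hb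
    subst ha
    have hy : orderOf (g ^ b) = 11 := by
      rw [orderOf_pow_of_dvd hbp.ne_zero ⟨11, by rw [hg, mul_comm]⟩, hg, Nat.mul_div_cancel _ hbp.pos]
    have h3 := Subgroup.orderOf_dvd_natCard (Subgroup.centralizer ({g ^ b} : Set H))
      (Subgroup.mem_centralizer_singleton_iff.2 ((Commute.refl g).pow_right b).eq)
    rw [hC _ hy, hg] at h3
    have := Nat.le_of_dvd (by norm_num) h3
    have := hbp.two_le
    omega
  exact CfsgLib.Blocks.Order7920.nonempty_mulEquiv hH hM

end Cfsg.Agent.S3413
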