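import Cfsg.Statements.S3419
import Cfsg.Agent.Lib.Orders.TwoBertrand
import Cfsg.Agent.Lib.Core.Hall

set_option autoImplicit false
open Cfsg

namespace Cfsg.Agent.S3419

theorem exists_orderOf_eq_mul {H : Type*} [Group H] [Finite H] (p q a b : ℕ) (hp : p.Prime)
    (hq : q.Prime) (hpq : p ≠ q) (ha : 1 ≤ a) (hb : 1 ≤ b) (hcard : Nat.card H = p ^ a * q ^ b)
    (hpi : ∀ i, 1 ≤ i → i ≤ a → p ^ i % q ≠ 1) (hqi : ∀ i, 1 ≤ i → i ≤ b → q ^ i % p ≠ 1) :
    ∃ h : H, orderOf h = p * q := by
  have key : ∀ p q a b : ℕ, p.Prime → q.Prime → p ≠ q → Nat.card H = p ^ a * q ^ b →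
      (∀ i, 1 ≤ i → i ≤ b → q ^ i % p ≠ 1) → ∀ P : Sylow p H, (P : Subgroup H).Normal := by
    intro p q a b hp hq hpq hcard hqi P
    haveI := Fact.mk hp
    have h1 : Nat.card (Sylow p H) ∣ q ^ b := by
      have hco : (Nat.card (Sylow p H)).Coprime (p ^ a) :=
        ((hp.coprime_iff_not_dvd.2 (not_dvd_card_sylow p H)).symm).pow_right a
      refine hco.dvd_of_dvd_mul_left ?_
      rw [← hcard]
      exact (Sylow.card_dvd_index P).trans (P : Subgroup H).index_dvd_card
    obtain ⟨i, hi, hci⟩ := (Nat.dvd_prime_pow hq).1 h1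
    have hi0 : i = 0 := by
      by_contra hne
      refine hqi i (by omega) hi ?_
      rw [← hci]
      have h4 : Nat.card (Sylow p H) % p = 1 % p := card_sylow_modEq_one p H
      rw [h4, Nat.mod_eq_of_lt hp.one_lt]
    haveI : Subsingleton (Sylow p H) := Finite.card_le_one_iff_subsingleton.1 (by rw [hci, hi0]; simp)
    exact Sylow.normal_of_subsingleton P
  haveI := Fact.mk hp
  haveI := Fact.mk hq
  obtain ⟨x, hx⟩ := exists_prime_orderOf_dvd_card' (G := H) p
    (hcard ▸ (dvd_pow_self p (by omega)).mul_right _)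
  obtain ⟨y, hy⟩ := exists_prime_orderOf_dvd_card' (G := H) q
    (hcard ▸ (dvd_pow_self q (by omega)).mul_left _)
  obtain ⟨P, hP⟩ := (IsPGroup.of_card (p := p) (n := 1) (show Nat.card (Subgroup.zpowers x) = p ^ 1 by
    rw [Nat.card_zpowers, hx, pow_one])).exists_le_sylow
  obtain ⟨Q, hQ⟩ := (IsPGroup.of_card (p := q) (n := 1) (show Nat.card (Subgroup.zpowers y) = q ^ 1 by
    rw [Nat.card_zpowers, hy, pow_one])).exists_le_sylow
  have hPn := key p q a b hp hq hpq hcard hqi P
  have hQn := key q p b a hq hp hpq.symm (by rw [hcard, mul_comm]) hpi Q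
  have hc : Commute x y := Subgroup.commute_of_normal_of_disjoint _ _ hPn hQn
    (IsPGroup.disjoint_of_ne p q hpq _ _ P.2 Q.2) x y (hP (Subgroup.mem_zpowers x))
    (hQ (Subgroup.mem_zpowers y))
  refine ⟨x * y, ?_⟩
  rw [hc.orderOf_mul_eq_mul_orderOf_of_coprime (by rw [hx, hy]; exact (Nat.coprime_primes hp hq).2 hpq),
    hx, hy]

theorem exists_mem_of_prime_dvd_lcm {p : ℕ} (hp : p.Prime) (m : Multiset ℕ) :
    p ∣ m.lcm → ∃ a ∈ m, p ∣ a := by
  induction m using Multiset.induction_on with
  | empty => intro h; exact absurd h (by simpa using hp.ne_one)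
  | cons a m ih =>
    intro h
    rw [Multiset.lcm_cons] at h
    rcases hp.dvd_mul.1 (h.trans (lcm_dvd (dvd_mul_right a m.lcm) (dvd_mul_left m.lcm a))) with h | h
    · exact ⟨a, Multiset.mem_cons_self _ _, h⟩
    · obtain ⟨b, hb, hpb⟩ := ih h
      exact ⟨b, Multiset.mem_cons_of_mem hb, hpb⟩

theorem not_orderOf_eq_mul (n p q : ℕ) (hp : p.Prime) (hq : q.Prime) (hpq : p ≠ q)
    (hsum : n < p + q) (σ : Equiv.Perm (Fin n)) : orderOf σ ≠ p * q := by
  intro h
  have key : ∀ r : ℕ, r.Prime → r ∣ p * q → ∃ c ∈ σ.cycleType, r ∣ c := by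
    intro r hr hrd
    rw [← h, ← Equiv.Perm.lcm_cycleType] at hrd
    exact exists_mem_of_prime_dvd_lcm hr _ hrd
  obtain ⟨c, hc, hcp⟩ := key p hp (dvd_mul_right p q)
  obtain ⟨d, hd, hdq⟩ := key q hq (dvd_mul_left q p)
  have hle : σ.cycleType.sum ≤ n := by
    rw [Equiv.Perm.sum_cycleType]
    exact (Finset.card_le_univ _).trans_eq (Fintype.card_fin n)
  have h2c := Equiv.Perm.two_le_of_mem_cycleType hc
  have h2d := Equiv.Perm.two_le_of_mem_cycleType hd
  have hcp' := Nat.le_of_dvd (by omega) hcp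
  have hdq' := Nat.le_of_dvd (by omega) hdq
  by_cases hcd : c = d
  · subst hcd
    have hmul : p * q ≤ c :=
      Nat.le_of_dvd (by omega) (((Nat.coprime_primes hp hq).2 hpq).mul_dvd_of_dvd_of_dvd hcp hdq)
    have hsing : c ≤ σ.cycleType.sum := Multiset.le_sum_of_mem hc
    have : p + q ≤ p * q := by nlinarith [hp.two_le, hq.two_le]
    omega
  · obtain ⟨s, hs⟩ := Multiset.exists_cons_of_mem hc
    have hds : d ∈ s := by
      rw [hs, Multiset.mem_cons] at hd
      exact hd.resolve_left (Ne.symm hcd)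
    have := Multiset.le_sum_of_mem hds
    rw [hs, Multiset.sum_cons] at hle
    omega

theorem card_hall {G : Type*} [Group G] [Finite G] (hs : Group.IsSolvable G) (p q a b m : ℕ)
    (hcard : Nat.card G = p ^ a * q ^ b * m) (hco : (p ^ a * q ^ b).Coprime m) :
    ∃ H : Subgroup G, Nat.card H = p ^ a * q ^ b := by
  haveI := hs
  exact CfsgLib.Core.exists_subgroup_card_eq hcard hco


/-- Let n ≥ 5 and let G be a finite group with the same order and the same set of element orders as the alternating group of degree n. Then G is not solvable. -/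
theorem result {G : Type*} [Group G] [Finite G] (n : ℕ) (hn : 5 ≤ n)
    (hcard : Nat.card G = Nat.card ↥(alternatingGroup (Fin n)))
    (hspec : Set.range (orderOf : G → ℕ) = Set.range (orderOf : ↥(alternatingGroup (Fin n)) → ℕ)) :
    ¬ Group.IsSolvable G := by
  classical
  intro hs
  haveI : Nontrivial (Fin n) := Fin.nontrivial_iff_two_le.2 (by omega)
  have hA : Nat.card G = n.factorial / 2 := by
    rw [hcard, nat_card_alternatingGroup, Nat.card_fin]
  have hno : ∀ p q : ℕ, p.Prime → q.Prime → p ≠ q → n < p + q → ∀ g : G, orderOf g ≠ p * q := by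
    intro p q hp hq hpq hsum g hg
    obtain ⟨σ, hσ⟩ : orderOf g ∈ Set.range (orderOf : ↥(alternatingGroup (Fin n)) → ℕ) :=
      hspec ▸ Set.mem_range_self g
    exact not_orderOf_eq_mul n p q hp hq hpq hsum σ (by rw [Subgroup.orderOf_coe, hσ, hg])
  -- a Hall subgroup for two large primes
  have main : ∀ p q a b : ℕ, p.Prime → q.Prime → p ≠ q → n < p + q → 1 ≤ a → 1 ≤ b →
      Nat.card G % (p ^ a * q ^ b) = 0 → ¬ p ∣ Nat.card G / (p ^ a * q ^ b) →
      ¬ q ∣ Nat.card G / (p ^ a * q ^ b) →
      (∀ i, 1 ≤ i → i ≤ a → p ^ i % q ≠ 1) → (∀ i, 1 ≤ i → i ≤ b → q ^ i % p ≠ 1) → False := by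
    intro p q a b hp hq hpq hsum ha hb hdiv hnp hnq hpi hqi
    obtain ⟨m, hm⟩ := Nat.dvd_of_mod_eq_zero hdiv
    have hpos : 0 < p ^ a * q ^ b := Nat.mul_pos (pow_pos hp.pos a) (pow_pos hq.pos b)
    rw [hm, Nat.mul_div_cancel_left m hpos] at hnp hnq
    obtain ⟨H, hH⟩ := card_hall hs p q a b m hm (Nat.Coprime.mul_left
      ((hp.coprime_iff_not_dvd.2 hnp).pow_left a) ((hq.coprime_iff_not_dvd.2 hnq).pow_left b))
    obtain ⟨h, hh⟩ := exists_orderOf_eq_mul (H := H) p q a b hp hq hpq ha hb hH hpi hqi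
    exact hno p q hp hq hpq hsum h (by rw [Subgroup.orderOf_coe, hh])
  -- two primes above half of the degree
  have large : ∀ p q : ℕ, p.Prime → q.Prime → p < q → n < 2 * p → q ≤ n → False := by
    intro p q hp hq hlt hp2 hqn
    have hfac : ∀ r : ℕ, r.Prime → n < 2 * r → r ≤ n → ∀ k, r ^ k ∣ n.factorial → k ≤ 1 := by
      intro r hr hr1 hr2 k hk
      have h1 := (hr.pow_dvd_iff_le_factorization (Nat.factorial_ne_zero n)).1 hk
      have hlog : Nat.log r n < 2 := Nat.log_lt_of_lt_pow (by omega) (by nlinarith [hr.two_le])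
      rw [Nat.factorization_factorial hr hlog] at h1
      simp only [show Finset.Ico 1 2 = {1} from rfl, Finset.sum_singleton, pow_one] at h1
      have h3 : n / r < 2 := Nat.div_lt_of_lt_mul (by omega)
      omega
    have h2 : 2 * Nat.card G = n.factorial := by
      rw [hcard, two_mul_nat_card_alternatingGroup, Nat.card_perm, Nat.card_fin]
    have hp3 : 3 ≤ p := by
      have := hp.two_le
      omega
    have hdvd : ∀ r : ℕ, r.Prime → 3 ≤ r → r ≤ n → r ∣ Nat.card G := by
      intro r hr hr3 hrn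
      have h1 : r ∣ 2 * Nat.card G := h2 ▸ Nat.dvd_factorial hr.pos hrn
      exact ((hr.dvd_mul).1 h1).resolve_left fun h => by
        have := Nat.le_of_dvd (by norm_num) h
        omega
    have hd : p * q ∣ Nat.card G := ((Nat.coprime_primes hp hq).2 (by omega)).mul_dvd_of_dvd_of_dvd
      (hdvd p hp hp3 (by omega)) (hdvd q hq (by omega) hqn)
    obtain ⟨m, hm⟩ := hd
    have hnot : ∀ r : ℕ, r.Prime → n < 2 * r → r ≤ n → r ∣ p * q → ¬ r ∣ m := by
      intro r hr hr1 hr2 hr3 hrm
      have h1 : r ^ 2 ∣ n.factorial := by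
        rw [← h2, pow_two, hm]
        exact (mul_dvd_mul hr3 hrm).mul_left 2
      have := hfac r hr hr1 hr2 2 h1
      omega
    refine main p q 1 1 hp hq (by omega) (by omega) le_rfl le_rfl ?_ ?_ ?_ ?_ ?_
    · simp [hm]
    · simp only [pow_one, hm, Nat.mul_div_cancel_left m (Nat.mul_pos hp.pos hq.pos)]
      exact hnot p hp hp2 (by omega) (dvd_mul_right p q)
    · simp only [pow_one, hm, Nat.mul_div_cancel_left m (Nat.mul_pos hp.pos hq.pos)]
      exact hnot q hq (by omega) hqn (dvd_mul_left q p)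
    · intro i h1 h3
      obtain rfl : i = 1 := by omega
      rw [pow_one, Nat.mod_eq_of_lt hlt]
      omega
    · intro i h1 h3
      obtain rfl : i = 1 := by omega
      rw [pow_one]
      intro h4
      have h5 := Nat.div_add_mod q p
      rw [h4] at h5
      have h6 : q / p = 1 := by
        have : 1 ≤ q / p := Nat.div_pos hlt.le hp.pos
        have : q / p < 2 := Nat.div_lt_of_lt_mul (by omega)
        omega
      rw [h6, mul_one] at h5
      have hq2 := hq.eq_two_or_odd
      have hp2' := hp.eq_two_or_odd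
      omega
  by_cases h6 : n = 6
  · subst h6
    have h360 : Nat.card G = 360 := by rw [hA]; rfl
    refine main 3 5 2 1 (by norm_num) (by norm_num) (by norm_num) (by norm_num) (by norm_num)
      le_rfl (by norm_num [h360]) (by norm_num [h360]) (by norm_num [h360]) ?_ ?_ <;>
    · intro i h1 h2
      interval_cases i <;> norm_num
  by_cases h10 : n = 10
  · subst h10
    have hc : Nat.card G = 1814400 := by rw [hA]; rfl
    refine main 5 7 2 1 (by norm_num) (by norm_num) (by norm_num) (by norm_num) (by norm_num)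
      le_rfl (by norm_num [hc]) (by norm_num [hc]) (by norm_num [hc]) ?_ ?_ <;>
    · intro i h1 h2
      interval_cases i <;> norm_num
  rcases le_or_gt 12 n with h12 | h12
  · obtain ⟨p, q, hp, hq, h1, h2, h3⟩ := CfsgLib.Orders.TwoBertrand.exists_two_primes (n / 2) (by omega)
    exact large p q hp hq h2 (by omega) (by omega)
  · interval_cases n
    · exact large 3 5 (by norm_num) (by norm_num) (by norm_num) (by norm_num) (by norm_num)
    · exact h6 rfl
    · exact large 5 7 (by norm_num) (by norm_num) (by norm_num) (by norm_num) (by norm_num)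
    · exact large 5 7 (by norm_num) (by norm_num) (by norm_num) (by norm_num) (by norm_num)
    · exact large 5 7 (by norm_num) (by norm_num) (by norm_num) (by norm_num) (by norm_num)
    · exact h10 rfl
    · exact large 7 11 (by norm_num) (by norm_num) (by norm_num) (by norm_num) (by norm_num)

end Cfsg.Agent.S3419
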