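import Cfsg.Statements.S3420
import Cfsg.Agent.S3419
import Cfsg.Agent.Lib.Perm.CharSimple

set_option autoImplicit false
open Cfsg

namespace Cfsg.Agent.S3420

theorem dvd_of_no_mul {G : Type*} [Group G] [Finite G] (H : Subgroup G) [H.Normal] (p q : ℕ)
    (hp : p.Prime) (hq : q.Prime) (hpq : p ≠ q) (hmod : p % q ≠ 1)
    (hv : ¬ p ^ 2 ∣ Nat.card G) (hqG : q ∣ Nat.card G) (hno : ∀ g : G, orderOf g ≠ p * q)
    (hpH : p ∣ Nat.card H) : q ∣ Nat.card H := by
  by_contra hqH
  haveI := Fact.mk hp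
  haveI := Fact.mk hq
  obtain ⟨P⟩ : Nonempty (Sylow p H) := inferInstance
  have hPcard : Nat.card (P : Subgroup H) = p := by
    obtain ⟨j, hj⟩ := IsPGroup.iff_card.1 P.2
    have h1 : p ^ j ∣ Nat.card G := hj ▸ ((P : Subgroup H).card_subgroup_dvd_card.trans H.card_subgroup_dvd_card)
    have h2 : p ∣ Nat.card (P : Subgroup H) := P.dvd_card_of_dvd_card hpH
    have hj2 : j < 2 := by
      by_contra h
      exact hv ((pow_dvd_pow p (by omega)).trans h1)
    interval_cases j
    · rw [hj, pow_zero] at h2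
      exact absurd (Nat.dvd_one.1 h2) hp.ne_one
    · rw [hj, pow_one]
  obtain ⟨R, hR⟩ : ∃ R : Subgroup G, R = (P : Subgroup H).map H.subtype := ⟨_, rfl⟩
  have hRcard : Nat.card R = p := by
    rw [hR, Subgroup.card_map_of_injective H.subtype_injective, hPcard]
  have hsup : Subgroup.normalizer (R : Set G) ⊔ H = ⊤ := hR ▸ Sylow.normalizer_sup_eq_top P
  have hidx : q ∣ H.index := by
    rw [← H.card_mul_index] at hqG
    exact (hq.dvd_mul.1 hqG).resolve_left hqH
  have h3 : H.index ∣ Nat.card (Subgroup.normalizer (R : Set G)) := by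
    rw [show H.index = H.relIndex (Subgroup.normalizer (R : Set G)) by
      rw [← Subgroup.relIndex_sup_right, hsup, Subgroup.relIndex_top_right]]
    exact Subgroup.relIndex_dvd_card _ _
  obtain ⟨y, hy⟩ := exists_prime_orderOf_dvd_card' (G := Subgroup.normalizer (R : Set G)) q
    (hidx.trans h3)
  have hy1 : Subgroup.normalizerMonoidHom R y = 1 := by
    rw [← orderOf_eq_one_iff]
    haveI : IsCyclic R := isCyclic_of_prime_card (p := p) hRcard
    have h1 : orderOf (Subgroup.normalizerMonoidHom R y) ∣ q := hy ▸ orderOf_map_dvd _ y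
    have h2 : orderOf (Subgroup.normalizerMonoidHom R y) ∣ p - 1 := by
      have h4 := orderOf_dvd_natCard (Subgroup.normalizerMonoidHom R y)
      rwa [IsCyclic.card_mulAut, hRcard, Nat.totient_prime hp] at h4
    refine Nat.eq_one_of_dvd_coprimes (hq.coprime_iff_not_dvd.2 fun h => hmod ?_) h1 h2
    obtain ⟨c, hc⟩ := h
    have : p = 1 + q * c := by have := hp.two_le; omega
    rw [this, Nat.add_mul_mod_self_left, Nat.mod_eq_of_lt hq.one_lt]
  obtain ⟨x, hx⟩ := exists_prime_orderOf_dvd_card' (G := R) p (by rw [hRcard])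
  have hc : Commute (x : G) (y : G) := by
    have h1 : y ∈ (Subgroup.normalizerMonoidHom R).ker := hy1
    rw [Subgroup.normalizerMonoidHom_ker] at h1
    exact Subgroup.mem_centralizer_iff.1 (Subgroup.mem_subgroupOf.1 h1) x x.2
  refine hno ((x : G) * y) ?_
  rw [hc.orderOf_mul_eq_mul_orderOf_of_coprime (by
    rw [Subgroup.orderOf_coe, Subgroup.orderOf_coe, hx, hy]
    exact (Nat.coprime_primes hp hq).2 hpq), Subgroup.orderOf_coe, Subgroup.orderOf_coe, hx, hy]


/-- Let n ≥ 11 and let G be a finite group with the same order and the same set of element orders as the alternating group of degree n. Then G has normal subgroups N < H such that H/N is a non-abelian simple group whose order is divisible by every prime p with n/2 < p ≤ n. -/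
theorem result {G : Type*} [Group G] [Finite G] (n : ℕ) (hn : 11 ≤ n)
    (hcard : Nat.card G = Nat.card ↥(alternatingGroup (Fin n)))
    (hspec : Set.range (orderOf : G → ℕ) = Set.range (orderOf : ↥(alternatingGroup (Fin n)) → ℕ)) :
    ∃ (N H : Subgroup G) (_ : N.Normal), H.Normal ∧ N < H ∧
      IsSimpleGroup (↥H ⧸ N.subgroupOf H) ∧ ¬ IsMulCommutative (↥H ⧸ N.subgroupOf H) ∧
      ∀ p : ℕ, p.Prime → n < 2 * p → p ≤ n → p ∣ Nat.card (↥H ⧸ N.subgroupOf H) := by
  classical
  haveI : Nontrivial (Fin n) := Fin.nontrivial_iff_two_le.2 (by omega)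
  have h2 : 2 * Nat.card G = n.factorial := by
    rw [hcard, two_mul_nat_card_alternatingGroup, Nat.card_perm, Nat.card_fin]
  have hno : ∀ p q : ℕ, p.Prime → q.Prime → p ≠ q → n < p + q → ∀ g : G, orderOf g ≠ p * q := by
    intro p q hp hq hpq hsum g hg
    obtain ⟨σ, hσ⟩ : orderOf g ∈ Set.range (orderOf : ↥(alternatingGroup (Fin n)) → ℕ) :=
      hspec ▸ Set.mem_range_self g
    exact Cfsg.Agent.S3419.not_orderOf_eq_mul n p q hp hq hpq hsum σ
      (by rw [Subgroup.orderOf_coe, hσ, hg])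
  have hdvd : ∀ p : ℕ, p.Prime → n < 2 * p → p ≤ n → p ∣ Nat.card G := by
    intro p hp h1 h3
    have h4 : p ∣ 2 * Nat.card G := h2 ▸ Nat.dvd_factorial hp.pos h3
    exact (hp.dvd_mul.1 h4).resolve_left fun h => by
      have := Nat.le_of_dvd (by norm_num) h
      omega
  have hsq : ∀ p : ℕ, p.Prime → n < 2 * p → p ≤ n → ¬ p ^ 2 ∣ Nat.card G := by
    intro p hp h1 h3 h4
    have h5 := (hp.pow_dvd_iff_le_factorization (Nat.factorial_ne_zero n)).1
      (h2 ▸ h4.mul_left 2 : p ^ 2 ∣ n.factorial)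
    have hlog : Nat.log p n < 2 := Nat.log_lt_of_lt_pow (by omega) (by nlinarith [hp.two_le])
    rw [Nat.factorization_factorial hp hlog] at h5
    simp only [show Finset.Ico 1 2 = {1} from rfl, Finset.sum_singleton, pow_one] at h5
    have h6 : n / p < 2 := Nat.div_lt_of_lt_mul (by omega)
    omega
  have hlink : ∀ H : Subgroup G, H.Normal → ∀ p q : ℕ, p.Prime → q.Prime → n < 2 * p → p ≤ n →
      n < 2 * q → q ≤ n → p ∣ Nat.card H → q ∣ Nat.card H := by
    intro H hH p q hp hq hp1 hp2 hq1 hq2 hpH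
    by_cases hpq : p = q
    · exact hpq ▸ hpH
    haveI := hH
    refine dvd_of_no_mul H p q hp hq hpq (fun h => ?_) (hsq p hp hp1 hp2) (hdvd q hq hq1 hq2)
      (hno p q hp hq hpq (by omega)) hpH
    rcases lt_or_gt_of_ne hpq with hlt | hgt
    · rw [Nat.mod_eq_of_lt hlt] at h
      exact hp.ne_one h
    · have h5 := Nat.div_add_mod p q
      rw [h] at h5
      have h6 : p / q = 1 := by
        have : 1 ≤ p / q := Nat.div_pos hgt.le hq.pos
        have : p / q < 2 := Nat.div_lt_of_lt_mul (by omega)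
        omega
      rw [h6, mul_one] at h5
      have := hp.eq_two_or_odd
      have := hq.eq_two_or_odd
      omega
  obtain ⟨p, q, hp, hq, hp1, hpq, hp2, hq1, hq2⟩ : ∃ p q : ℕ, p.Prime ∧ q.Prime ∧ n < 2 * p ∧
      p < q ∧ p ≤ n ∧ n < 2 * q ∧ q ≤ n := by
    rcases le_or_gt 12 n with h | h
    · obtain ⟨p, q, hp, hq, h1, h3, h4⟩ :=
        CfsgLib.Orders.TwoBertrand.exists_two_primes (n / 2) (by omega)
      exact ⟨p, q, hp, hq, by omega, h3, by omega, by omega, by omega⟩
    · exact ⟨7, 11, by norm_num, by norm_num, by omega, by norm_num, by omega, by omega, by omega⟩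
  -- a least normal subgroup of order divisible by `p`
  obtain ⟨H, ⟨hHn, hpH⟩, hHmin⟩ := wellFounded_lt.has_min
    {H : Subgroup G | H.Normal ∧ p ∣ Nat.card H}
    ⟨⊤, inferInstance, by rw [Subgroup.card_top]; exact hdvd p hp hp1 hp2⟩
  have hqH := hlink H hHn p q hp hq hp1 hp2 hq1 hq2 hpH
  have hHne : H ≠ ⊥ := by
    intro h
    rw [h, Subgroup.card_bot] at hpH
    exact hp.ne_one (Nat.dvd_one.1 hpH)
  obtain ⟨N, ⟨hNn, hNH⟩, hNmax⟩ := wellFounded_gt.has_min {N : Subgroup G | N.Normal ∧ N < H}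
    ⟨⊥, inferInstance, bot_lt_iff_ne_bot.2 hHne⟩
  have hNp : ¬ p ∣ Nat.card N := fun h => hHmin N ⟨hNn, h⟩ hNH
  have hall : ∀ r : ℕ, r.Prime → n < 2 * r → r ≤ n → r ∣ Nat.card (↥H ⧸ N.subgroupOf H) := by
    intro r hr hr1 hr2
    have hrH := hlink H hHn p r hp hr hp1 hp2 hr1 hr2 hpH
    rw [(N.subgroupOf H).card_eq_card_quotient_mul_card_subgroup,
      Nat.card_congr (Subgroup.subgroupOfEquivOfLe hNH.le).toEquiv] at hrH
    refine (hr.dvd_mul.1 hrH).resolve_right fun h => hNp ?_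
    exact hlink N hNn r p hr hp hr1 hr2 hp1 hp2 h
  obtain ⟨φ, hφ⟩ : ∃ φ : H →* G ⧸ N, φ = (QuotientGroup.mk' N).comp H.subtype := ⟨_, rfl⟩
  have hker : φ.ker = N.subgroupOf H := by
    rw [hφ, ← MonoidHom.comap_ker, QuotientGroup.ker_mk']
    rfl
  have hran : φ.range = H.map (QuotientGroup.mk' N) := by
    rw [hφ, MonoidHom.range_comp, Subgroup.range_subtype]
  let e : ↥H ⧸ N.subgroupOf H ≃* H.map (QuotientGroup.mk' N) :=
    ((QuotientGroup.quotientMulEquivOfEq hker.symm).trans (QuotientGroup.quotientKerEquivRange φ)).trans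
      (MulEquiv.subgroupCongr hran)
  haveI : (H.map (QuotientGroup.mk' N)).Normal := hHn.map _ (QuotientGroup.mk'_surjective N)
  have hne : H.map (QuotientGroup.mk' N) ≠ ⊥ := by
    rw [Ne, Subgroup.map_eq_bot_iff, QuotientGroup.ker_mk']
    exact not_le_of_gt hNH
  obtain ⟨T, iT, m, hT, hm, ⟨f⟩⟩ := CfsgLib.Perm.CharSimple.exists_iso_pi_of_minimal_normal
    (H.map (QuotientGroup.mk' N)) hne (fun M hM hMle => by
      have hNM : N ≤ M.comap (QuotientGroup.mk' N) := by
        conv_lhs => rw [← QuotientGroup.ker_mk' N]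
        exact MonoidHom.ker_le_comap _ M
      have hMH : M.comap (QuotientGroup.mk' N) ≤ H := by
        refine le_trans (Subgroup.comap_mono hMle) ?_
        rw [Subgroup.comap_map_eq, QuotientGroup.ker_mk']
        exact sup_le le_rfl hNH.le
      have hMeq := Subgroup.map_comap_eq_self_of_surjective (QuotientGroup.mk'_surjective N) M
      by_cases hcase : M.comap (QuotientGroup.mk' N) = H
      · exact Or.inr (by rw [← hMeq, hcase])
      · left
        have h1 : ¬ N < M.comap (QuotientGroup.mk' N) :=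
          hNmax _ ⟨hM.comap _, lt_of_le_of_ne hMH hcase⟩
        rw [← hMeq, ← (hNM.eq_or_lt.resolve_right h1)]
        exact (Subgroup.map_eq_bot_iff _).2 (QuotientGroup.ker_mk' N).ge)
  letI := iT
  let g : ↥H ⧸ N.subgroupOf H ≃* (Fin m → T) := e.trans f
  have hcardQ : Nat.card (↥H ⧸ N.subgroupOf H) = Nat.card T ^ m := by
    rw [Nat.card_congr g.toEquiv, Nat.card_fun, Nat.card_fin]
  have hm1 : m = 1 := by
    by_contra hm1
    have h5 := hall p hp hp1 hp2
    rw [hcardQ] at h5
    have h7 : p ^ 2 ∣ Nat.card T ^ m :=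
      (pow_dvd_pow_of_dvd (hp.dvd_of_dvd_pow h5) 2).trans (pow_dvd_pow _ (by omega))
    rw [← hcardQ] at h7
    exact hsq p hp hp1 hp2 (h7.trans (((N.subgroupOf H).card_quotient_dvd_card).trans
      H.card_subgroup_dvd_card))
  subst hm1
  let g1 : ↥H ⧸ N.subgroupOf H ≃* T := g.trans (MulEquiv.piUnique fun _ : Fin 1 => T)
  haveI := hT
  haveI : Nontrivial (↥H ⧸ N.subgroupOf H) := g1.toEquiv.nontrivial
  have hsimple : IsSimpleGroup (↥H ⧸ N.subgroupOf H) :=
    IsSimpleGroup.isSimpleGroup_of_surjective g1.symm.toMonoidHom g1.symm.surjective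
  refine ⟨N, H, hNn, hHn, hNH, hsimple, fun hc => ?_, hall⟩
  haveI := hsimple
  letI : CommGroup (↥H ⧸ N.subgroupOf H) :=
    { (inferInstance : Group (↥H ⧸ N.subgroupOf H)) with mul_comm := hc.is_comm.comm }
  have hprime := IsSimpleGroup.prime_card (α := ↥H ⧸ N.subgroupOf H)
  have e1 := (Nat.prime_dvd_prime_iff_eq hp hprime).1 (hall p hp hp1 hp2)
  have e2 := (Nat.prime_dvd_prime_iff_eq hq hprime).1 (hall q hq hq1 hq2)
  omega

end Cfsg.Agent.S3420
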