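import Cfsg.Statements.S3427
import Cfsg.Agent.Lib.Recog.G2Spectrum.Unique
import Cfsg.Agent.Lib.Recog.G2Spectrum.G2Facts

set_option autoImplicit false
open Cfsg

namespace Cfsg.Agent.S3427

/-- Let F be the field with 2 elements and let M be the Chevalley group of type G₂ over F (a non-simple group of order 12096 whose derived subgroup, of index 2, is isomorphic to PSU(3, 3)). A finite group G is isomorphic to M if and only if G has the same set of element orders and the same order as M. -/
theorem result {G : Type*} [Group G] [Finite G] {F : Type*} [Field F] [Fintype F] (hF : Fintype.card F = 2) :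
    Nonempty (G ≃* ↥(Cfsg.Lie.chevG2.group F)) ↔
      (Set.range (orderOf : G → ℕ) = Set.range (orderOf : ↥(Cfsg.Lie.chevG2.group F) → ℕ) ∧ Nat.card G = Nat.card ↥(Cfsg.Lie.chevG2.group F)) := by
  constructor
  · rintro ⟨e⟩
    refine ⟨?_, Nat.card_congr e.toEquiv⟩
    ext n
    constructor
    · rintro ⟨g, rfl⟩
      exact ⟨e g, e.orderOf_eq g⟩
    · rintro ⟨g, rfl⟩
      exact ⟨e.symm g, e.symm.orderOf_eq g⟩
  · rintro ⟨hspec, hcard⟩
    haveI : Fact (Nat.Prime 2) := ⟨Nat.prime_two⟩
    let e : ZMod 2 ≃+* F := ZMod.ringEquivOfPrime F Nat.prime_two hF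
    let D := Cfsg.Lie.chevG2
    let f : ↥(D.group (ZMod 2)) ≃* ↥(D.group F) :=
      { toFun := fun g => ⟨CfsgLib.Lie.Chev.glMap D e.toRingHom g,
          CfsgLib.Lie.Chev.map_group_le D e.toRingHom ⟨g, g.2, rfl⟩⟩
        invFun := fun g => ⟨CfsgLib.Lie.Chev.glMap D e.symm.toRingHom g,
          CfsgLib.Lie.Chev.map_group_le D e.symm.toRingHom ⟨g, g.2, rfl⟩⟩
        left_inv := fun g => Subtype.ext (Units.ext (by ext a b; simp [CfsgLib.Lie.Chev.glMap_val]))
        right_inv := fun g => Subtype.ext (Units.ext (by ext a b; simp [CfsgLib.Lie.Chev.glMap_val]))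
        map_mul' := fun a b => Subtype.ext (map_mul (CfsgLib.Lie.Chev.glMap D e.toRingHom) _ _) }
    haveI : Finite ↥(D.group F) := Finite.of_equiv _ f.toEquiv
    have hM : Nat.card ↥(D.group F) = 12096 :=
      (Nat.card_congr f.toEquiv).symm.trans CfsgLib.Recog.G2Spectrum.card_G2
    have hnbM : CfsgLib.Recog.G2Spectrum.NoBad ↥(D.group F) :=
      CfsgLib.Recog.G2Spectrum.noBad_G2.of_injective f.symm.toMonoidHom f.symm.injective
    have hnbG : CfsgLib.Recog.G2Spectrum.NoBad G := by
      intro g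
      obtain ⟨m, hm⟩ : orderOf g ∈ Set.range (orderOf : ↥(D.group F) → ℕ) := hspec ▸ ⟨g, rfl⟩
      rw [← hm]
      exact hnbM m
    exact CfsgLib.Recog.G2Spectrum.nonempty_mulEquiv_of_card (hcard.trans hM) hnbG hM hnbM

end Cfsg.Agent.S3427
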