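import Cfsg.Statements.S3430
import Cfsg.Agent.Lib.LocalEven.LargePpd
-- import your own Cfsg.Agent.* helpers here

set_option autoImplicit false
open Cfsg

namespace Cfsg.Agent.S3430

set_option linter.all false
set_option maxHeartbeats 1000000
open CfsgLib.LargePpd

/-- Let q, n ≥ 2 be integers. Unless (n = 2 and q + 1 = 2^s·3^t for some s ≥ 0 and t ≤ 1), or (q = 2 and n ∈ {4, 6, 10, 12, 18}), or (q = 3 and n ∈ {4, 6}), or (q, n) = (5, 6), there is a prime p dividing q^n − 1 but no q^i − 1 with 1 ≤ i < n (a primitive prime divisor), such that p > n + 1 or p² divides q^n − 1. -/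
theorem result (q n : ℕ) (hq : 2 ≤ q) (hn : 2 ≤ n)
    (h1 : ¬ (n = 2 ∧ ∃ s t : ℕ, t ≤ 1 ∧ q + 1 = 2 ^ s * 3 ^ t))
    (h2 : ¬ (q = 2 ∧ (n = 4 ∨ n = 6 ∨ n = 10 ∨ n = 12 ∨ n = 18)))
    (h3 : ¬ (q = 3 ∧ (n = 4 ∨ n = 6))) (h4 : ¬ (q = 5 ∧ n = 6)) :
    ∃ p : ℕ, p.Prime ∧ p ∣ q ^ n - 1 ∧ (∀ i : ℕ, 1 ≤ i → i < n → ¬ p ∣ q ^ i - 1) ∧ (n + 1 < p ∨ p ^ 2 ∣ q ^ n - 1) := by
  by_contra hno'
  have hno : ¬ Large q n := hno'
  rcases (by omega : n = 2 ∨ 2 < n) with hn2 | hn2
  · subst hn2
    refine h1 ⟨rfl, ?_⟩
    obtain ⟨s, u, hu, hsu⟩ := Nat.exists_eq_pow_mul_and_not_dvd (by omega : q + 1 ≠ 0) 2 (by norm_num)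
    have hsq : q ^ 2 - 1 = (q + 1) * (q - 1) := by
      obtain ⟨c, rfl⟩ : ∃ c, q = c + 1 := ⟨q - 1, by omega⟩
      simp only [Nat.add_sub_cancel]
      rw [show (c + 1) ^ 2 = (c + 1 + 1) * c + 1 by ring, Nat.add_sub_cancel]
    have key : ∀ p : ℕ, p.Prime → p ∣ u → p = 3 ∧ ¬ 9 ∣ u := by
      intro p hp hpu
      have hp2 : p ≠ 2 := fun h => hu (h ▸ hpu)
      have hpq : p ∣ q + 1 := hsu ▸ dvd_mul_of_dvd_right hpu _
      have hnot : ∀ i : ℕ, 1 ≤ i → i < 2 → ¬ p ∣ q ^ i - 1 := by
        intro i hi hi2 hd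
        obtain rfl : i = 1 := by omega
        rw [pow_one] at hd
        have h2' := Nat.dvd_sub hpq hd
        rw [show q + 1 - (q - 1) = 2 by omega] at h2'
        exact hp2 ((Nat.prime_dvd_prime_iff_eq hp Nat.prime_two).1 h2')
      have hd2 : p ∣ q ^ 2 - 1 := hsq ▸ dvd_mul_of_dvd_left hpq _
      have hh : ¬ (2 + 1 < p ∨ p ^ 2 ∣ q ^ 2 - 1) := fun h => hno ⟨p, hp, hd2, hnot, h⟩
      push Not at hh
      have hp3 : p = 3 := by have := hp.two_le; omega
      subst hp3
      exact ⟨rfl, fun h9 => hh.2 (hsq ▸ dvd_mul_of_dvd_left (hsu ▸ dvd_mul_of_dvd_right h9 _) _)⟩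
    have hu0 : u ≠ 0 := fun h => hu (h ▸ dvd_zero 2)
    obtain ⟨j, hj⟩ : ∃ j, u = 3 ^ j :=
      ⟨_, Nat.eq_prime_pow_of_unique_prime_dvd hu0 fun {d} hd hdd => (key d hd hdd).1⟩
    refine ⟨s, j, ?_, by rw [hsu, hj]⟩
    by_contra hlt
    have h9 : 9 ∣ u := hj ▸ (show (3 : ℕ) ^ 2 ∣ 3 ^ j from pow_dvd_pow 3 (by omega))
    exact (key 3 (by norm_num) ((show (3 : ℕ) ∣ 9 by norm_num).trans h9)).2 h9
  obtain ⟨r, k, m, hr, hnm, hrm, hm0, hsm, hX, hX2⟩ := bound hq hn2 hno
  obtain ⟨f, hf⟩ : ∃ f, f = Nat.totient m := ⟨_, rfl⟩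
  rw [← hf] at hX
  have hf0 : 0 < f := hf ▸ Nat.totient_pos.2 hm0
  have hmf : m ≤ 2 * f ^ 2 := hf ▸ (le_two_mul_totient_sq m).1
  rcases (by have := hr.two_le; omega : r = 2 ∨ r = 3 ∨ r = 4 ∨ 5 ≤ r) with hr2 | hr3 | hr4 | hr5
  · -- powers of two
    subst hr2
    obtain rfl : m = 1 := by
      by_contra hne
      obtain ⟨s, hs, hd⟩ := Nat.exists_prime_and_dvd hne
      have := hsm s hs hd
      have := hs.two_le
      omega
    rw [mul_one] at hnm
    have hb := hX2 rfl
    have hk0 : k ≠ 0 := by rintro rfl; norm_num at hnm; omega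
    have hq2k : 2 ^ 2 ^ k ≤ q ^ 2 ^ k := Nat.pow_le_pow_left hq _
    rcases (by omega : k = 1 ∨ k = 2 ∨ 3 ≤ k) with hk | hk | hk
    · subst hk; norm_num at hnm; subst hnm
      have : q ≤ 3 := by
        by_contra h
        have : 4 ^ 2 ≤ q ^ 2 := Nat.pow_le_pow_left (by omega) 2
        norm_num at hb this
        omega
      interval_cases q
      · exact h2 ⟨rfl, Or.inl rfl⟩
      · exact h3 ⟨rfl, Or.inl rfl⟩
    · subst hk; norm_num at hnm; subst hnm
      have : q ≤ 2 := by
        by_contra h
        have : 3 ^ 4 ≤ q ^ 4 := Nat.pow_le_pow_left (by omega) 4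
        norm_num at hb this
        omega
      interval_cases q
      exact hno (large_of_witness (p := 17) (by norm_num) (by decide) (by decide) (by decide))
    · have h5 : k + 5 ≤ 2 ^ k := by
        clear hnm hq2k hb hX hX2
        induction k, hk using Nat.le_induction with
        | base => norm_num
        | succ i hi ih => rw [pow_succ]; omega
      have : 2 ^ (k + 5) ≤ 2 ^ 2 ^ k := Nat.pow_le_pow_right (by norm_num) h5
      have e1 : 2 ^ (k + 5) = 32 * 2 ^ k := by ring
      have e2 : 2 ^ (k + 1) = 2 * 2 ^ k := by ring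
      have : 1 ≤ 2 ^ k := Nat.one_le_two_pow
      omega
  · -- largest prime three
    subst hr3
    obtain ⟨j, hj⟩ : ∃ j, m = 2 ^ j := ⟨_, Nat.eq_prime_pow_of_unique_prime_dvd (by omega)
      fun {d} hd hdd => by have := hsm d hd hdd; have := hd.two_le; omega⟩
    have hjf : 2 ^ j ≤ 2 * f := by
      rcases j with _ | j
      · omega
      · rw [hf, hj, Nat.totient_prime_pow_succ Nat.prime_two, pow_succ]; omega
    obtain ⟨b, hb⟩ : ∃ b, b = q ^ 3 ^ k := ⟨_, rfl⟩
    rw [← hb] at hX
    rw [show 3 - 2 = 1 from rfl, pow_one] at hX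
    have hX' : (b * (b - 1)) * 2 ^ (f - 1) ≤ 3 * (n + 1) := by
      refine le_trans ?_ hX
      have hb2 : 2 ≤ b := hb ▸ Nat.one_lt_pow (pow_pos (show 0 < 3 by norm_num) k).ne' (show 1 < q by omega)
      have h2 : 2 ≤ b * (b - 1) := le_trans hb2 (Nat.le_mul_of_pos_right _ (by omega))
      calc (b * (b - 1)) * 2 ^ (f - 1) ≤ (b * (b - 1)) * (b * (b - 1)) ^ (f - 1) :=
            Nat.mul_le_mul_left _ (Nat.pow_le_pow_left h2 _)
        _ = (b * (b - 1)) ^ f := by rw [← pow_succ', Nat.sub_add_cancel hf0]
    have hff : f ≤ 2 ^ (f - 1) := by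
      have := Nat.lt_two_pow_self (n := f - 1)
      omega
    rcases (by omega : k = 0 ∨ k = 1 ∨ 2 ≤ k) with hk | hk | hk
    · subst hk
      norm_num at hb hnm
      rw [hb] at hX hX'
      have hj3 : j ≤ 3 := by
        by_contra hlt
        obtain ⟨j', rfl⟩ : ∃ j', j = j' + 4 := ⟨j - 4, by omega⟩
        have hf8 : f = 8 * 2 ^ j' := by
          rw [hf, hj, Nat.totient_prime_pow_succ Nat.prime_two, pow_add]; ring
        have h2 : 2 ≤ q * (q - 1) := le_trans hq (Nat.le_mul_of_pos_right _ (by omega))
        have h3 : 2 ^ f ≤ 3 * (n + 1) := (Nat.pow_le_pow_left h2 f).trans hX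
        have h4 : 18 * f + 4 ≤ 2 ^ f := by
          have h8 : 8 ≤ f := by rw [hf8]; exact Nat.le_mul_of_pos_right _ (pow_pos (by norm_num) _)
          clear h3 hf8 hjf hX hX' hff hmf hf hf0
          induction f, h8 using Nat.le_induction with
          | base => norm_num
          | succ i hi ih => rw [pow_succ]; omega
        rw [hnm, hj] at h3
        omega
      interval_cases j
      · subst hj; norm_num at hnm hf; subst hnm
        rw [hf] at hX
        have : q ≤ 4 := by
          by_contra h
          have : 5 * 4 ≤ q * (q - 1) := Nat.mul_le_mul (by omega) (by omega)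
          norm_num at hX; omega
        interval_cases q
        · exact hno (large_of_witness (p := 7) (by norm_num) (by decide) (by decide) (by decide))
        · exact hno (large_of_witness (p := 13) (by norm_num) (by decide) (by decide) (by decide))
        · exact hno (large_of_witness (p := 7) (by norm_num) (by decide) (by decide) (by decide))
      · subst hj; norm_num at hnm hf; subst hnm
        rw [hf] at hX
        have : q ≤ 5 := by
          by_contra h
          have : 6 * 5 ≤ q * (q - 1) := Nat.mul_le_mul (by omega) (by omega)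
          norm_num at hX; omega
        interval_cases q
        · exact h2 ⟨rfl, Or.inr (Or.inl rfl)⟩
        · exact h3 ⟨rfl, Or.inr rfl⟩
        · exact hno (large_of_witness (p := 13) (by norm_num) (by decide) (by decide) (by decide))
        · exact h4 ⟨rfl, rfl⟩
      · have hf2 : f = 2 := by rw [hf, hj]; decide
        norm_num [hj] at hnm; subst hnm
        rw [hf2] at hX
        have : q ≤ 3 := by
          by_contra h
          have : (4 * 3) ^ 2 ≤ (q * (q - 1)) ^ 2 :=
            Nat.pow_le_pow_left (Nat.mul_le_mul (by omega) (by omega)) 2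
          norm_num at hX this; omega
        interval_cases q
        · exact h2 ⟨rfl, Or.inr (Or.inr (Or.inr (Or.inl rfl)))⟩
        · exact hno (large_of_witness (p := 73) (by norm_num) (by decide) (by decide) (by decide))
      · have hf4 : f = 4 := by rw [hf, hj]; decide
        norm_num [hj] at hnm; subst hnm
        rw [hf4] at hX
        have : q ≤ 2 := by
          by_contra h
          have : (3 * 2) ^ 4 ≤ (q * (q - 1)) ^ 4 :=
            Nat.pow_le_pow_left (Nat.mul_le_mul (by omega) (by omega)) 4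
          norm_num at hX this; omega
        interval_cases q
        exact hno (large_of_witness (p := 241) (by norm_num) (by decide) (by decide) (by decide))
    · subst hk
      norm_num at hb hnm
      have hb8 : 8 ≤ b := hb ▸ (show 2 ^ 3 ≤ q ^ 3 from Nat.pow_le_pow_left hq 3)
      have h56 : 8 * 7 ≤ b * (b - 1) := Nat.mul_le_mul hb8 (by omega)
      have h1' : (b * (b - 1)) * f ≤ 3 * (n + 1) := (Nat.mul_le_mul_left _ hff).trans hX'
      have h2' : 56 * f ≤ (b * (b - 1)) * f := Nat.mul_le_mul_right f (by omega)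
      have hn' : n ≤ 9 * (2 * f) := by rw [hnm, hj]; exact Nat.mul_le_mul_left _ hjf
      obtain rfl : f = 1 := by omega
      have hj1 : j ≤ 1 := by
        by_contra hlt
        obtain ⟨j', rfl⟩ : ∃ j', j = j' + 2 := ⟨j - 2, by omega⟩
        rw [hj, Nat.totient_prime_pow_succ Nat.prime_two, pow_succ] at hf
        omega
      have hq2 : q ≤ 2 := by
        by_contra h
        have : 27 ≤ b := hb ▸ (show 3 ^ 3 ≤ q ^ 3 from Nat.pow_le_pow_left (by omega) 3)
        have h3' : 27 * 26 ≤ b * (b - 1) := Nat.mul_le_mul this (by omega)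
        omega
      interval_cases q
      interval_cases j
      · norm_num [hj] at hnm; subst hnm
        exact hno (large_of_witness (p := 73) (by norm_num) (by decide) (by decide) (by decide))
      · norm_num [hj] at hnm; subst hnm
        exact h2 ⟨rfl, Or.inr (Or.inr (Or.inr (Or.inr rfl)))⟩
    · have he : 2 * k + 5 ≤ 3 ^ k := by
        clear hnm hX hX2 hX' hb
        induction k, hk using Nat.le_induction with
        | base => norm_num
        | succ i hi ih => rw [pow_succ]; omega
      have hb1 : 32 * 3 ^ k ≤ b := by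
        calc 32 * 3 ^ k ≤ 32 * 4 ^ k := Nat.mul_le_mul_left _ (Nat.pow_le_pow_left (by norm_num) _)
          _ = 2 ^ (2 * k + 5) := by rw [show 2 * k + 5 = 5 + 2 * k by omega, pow_add 2 5, pow_mul]; norm_num
          _ ≤ 2 ^ 3 ^ k := Nat.pow_le_pow_right (by norm_num) he
          _ ≤ q ^ 3 ^ k := Nat.pow_le_pow_left hq _
          _ = b := hb.symm
      have h3k : 1 ≤ 3 ^ k := Nat.one_le_pow _ _ (by norm_num)
      have h1' : (b * (b - 1)) * f ≤ 3 * (n + 1) := (Nat.mul_le_mul_left _ hff).trans hX'
      have h2' : (32 * 3 ^ k * 31) * f ≤ (b * (b - 1)) * f :=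
        Nat.mul_le_mul_right f (Nat.mul_le_mul hb1 (by omega))
      have hn' : n ≤ 3 ^ (k + 1) * (2 * f) := by rw [hnm, hj]; exact Nat.mul_le_mul_left _ hjf
      have e : 3 ^ (k + 1) * (2 * f) = 6 * (3 ^ k * f) := by ring
      have e' : 32 * 3 ^ k * 31 * f = 992 * (3 ^ k * f) := by ring
      have : 1 ≤ 3 ^ k * f := Nat.one_le_iff_ne_zero.2 (by positivity)
      omega
  · exact absurd (hr4 ▸ hr) (by norm_num)
  · -- largest prime at least five
    obtain ⟨b, hb⟩ : ∃ b, b = q ^ r ^ k := ⟨_, rfl⟩
    rw [← hb] at hX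
    have hb2 : 2 ≤ b := hb ▸ Nat.one_lt_pow (pow_pos hr.pos k).ne' (show 1 < q by omega)
    obtain ⟨Y, hY⟩ : ∃ Y, Y = b ^ (r - 2) * (b - 1) := ⟨_, rfl⟩
    rw [← hY] at hX
    have hYb : b ^ (r - 2) ≤ Y := hY ▸ Nat.le_mul_of_pos_right _ (by omega)
    have hY8 : 8 ≤ Y := le_trans (show 2 ^ 3 ≤ b ^ (r - 2) from
      (Nat.pow_le_pow_left hb2 3).trans (Nat.pow_le_pow_right (by omega) (by omega))) hYb
    have hn' : n ≤ 2 * (r ^ (k + 1) * f ^ 2) := by
      rw [hnm]; exact (Nat.mul_le_mul_left _ hmf).trans_eq (by ring)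
    have hf2 : 1 ≤ f ^ 2 := Nat.one_le_pow _ _ hf0
    have hsq : f ^ 2 ≤ 8 ^ (f - 1) := by
      clear hmf hf hX hn' hf2
      induction f, hf0 using Nat.le_induction with
      | base => norm_num
      | succ i hi ih =>
        rw [Nat.add_sub_cancel]
        obtain ⟨i', rfl⟩ : ∃ i', i = i' + 1 := ⟨i - 1, by omega⟩
        rw [Nat.add_sub_cancel] at ih
        rw [pow_succ 8 i']
        nlinarith
    have hbig : Y * f ^ 2 ≤ r * (n + 1) := by
      refine le_trans ?_ hX
      calc Y * f ^ 2 ≤ Y * Y ^ (f - 1) :=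
            Nat.mul_le_mul_left _ (hsq.trans (Nat.pow_le_pow_left hY8 _))
        _ = Y ^ f := by rw [← pow_succ', Nat.sub_add_cancel hf0]
    rcases (by omega : k = 0 ∨ 1 ≤ k) with hk | hk
    · subst hk
      rw [pow_zero, pow_one] at hb
      rw [zero_add, pow_one] at hn' hnm
      rw [hb] at hY hYb
      have hq1 : 1 ≤ q - 1 := by omega
      rcases (by omega : r = 5 ∨ r = 6 ∨ r = 7 ∨ r = 8 ∨ r = 9 ∨ r = 10 ∨ 11 ≤ r) with
        h | h | h | h | h | h | h
      · subst h
        have hf3 : f ≤ 2 := by
          by_contra hlt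
          have h512 : 10 * (5 * f ^ 2) + 6 ≤ 8 ^ f := by
            have h3 : 3 ≤ f := by omega
            clear hlt hmf hf hX hn' hf2 hsq hbig
            induction f, h3 using Nat.le_induction with
            | base => norm_num
            | succ i hi ih => rw [pow_succ 8]; nlinarith [ih (by omega)]
          have := (Nat.pow_le_pow_left hY8 f).trans hX
          omega
        have hm8 : m ≤ 8 := by
          have : f ^ 2 ≤ 2 ^ 2 := Nat.pow_le_pow_left hf3 2
          omega
        interval_cases f
        · have hq3 : q ≤ 3 := by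
            by_contra h
            have h192 : 4 ^ 3 * 3 ≤ Y := hY ▸ Nat.mul_le_mul (Nat.pow_le_pow_left (by omega) 3) (by omega)
            omega
          have hm : m = 1 ∨ m = 2 := by
            interval_cases m <;> first | omega | (revert hf; decide)
          rcases hm with rfl | rfl <;> norm_num at hnm <;> subst hnm <;> interval_cases q
          · exact hno (large_of_witness (p := 31) (by norm_num) (by decide) (by decide) (by decide))
          · exact hno (large_of_witness (p := 11) (by norm_num) (by decide) (by decide) (by decide))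
          · exact h2 ⟨rfl, Or.inr (Or.inr (Or.inl rfl))⟩
          · exact hno (large_of_witness (p := 61) (by norm_num) (by decide) (by decide) (by decide))
        · have hq2 : q ≤ 2 := by
            by_contra h
            have h54 : 3 ^ 3 * 2 ≤ Y := hY ▸ Nat.mul_le_mul (Nat.pow_le_pow_left (by omega) 3) (by omega)
            have := Nat.pow_le_pow_left h54 2
            omega
          interval_cases q
          have hm : m = 3 ∨ m = 4 ∨ m = 6 := by
            interval_cases m <;> first | omega | (revert hf; decide) |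
              exact absurd (hsm 5 (by norm_num) (by norm_num)) (by norm_num) |
              exact absurd (hsm 7 (by norm_num) (by norm_num)) (by norm_num)
          rcases hm with rfl | rfl | rfl <;> norm_num at hnm <;> subst hnm
          · exact hno (large_of_witness (p := 151) (by norm_num) (by decide) (by decide) (by decide))
          · exact hno (large_of_witness (p := 41) (by norm_num) (by decide) (by decide) (by decide))
          · exact hno (large_of_witness (p := 331) (by norm_num) (by decide) (by decide) (by decide))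
      · exact absurd (h ▸ hr) (by norm_num)
      · subst h
        have hY32 : 32 ≤ Y := le_trans (show 2 ^ 5 ≤ q ^ (7 - 2) from Nat.pow_le_pow_left hq 5) hYb
        obtain rfl : f = 1 := by
          by_contra hne
          have h2 : 2 ≤ f := by omega
          have h3 : 98 * f ^ 2 + 8 ≤ 32 ^ f := by
            clear hne hmf hf hX hn' hf2 hsq hbig
            induction f, h2 using Nat.le_induction with
            | base => norm_num
            | succ i hi ih => rw [pow_succ 32]; nlinarith [ih (by omega)]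
          have := (Nat.pow_le_pow_left hY32 f).trans hX
          omega
        have hq2 : q ≤ 2 := by
          by_contra h
          have h486 : 3 ^ 5 * 2 ≤ Y := hY ▸ Nat.mul_le_mul (Nat.pow_le_pow_left (by omega) 5) (by omega)
          omega
        interval_cases q
        have hm2 : m ≤ 2 := by norm_num at hmf; omega
        interval_cases m
        · norm_num at hnm; subst hnm
          exact hno (large_of_witness (p := 127) (by norm_num) (by decide) (by decide) (by decide))
        · norm_num at hnm; subst hnm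
          exact hno (large_of_witness (p := 43) (by norm_num) (by decide) (by decide) (by decide))
      · exact absurd (h ▸ hr) (by norm_num)
      · exact absurd (h ▸ hr) (by norm_num)
      · exact absurd (h ▸ hr) (by norm_num)
      · have hlow : 3 * r ^ 2 + 1 ≤ 2 ^ (r - 2) := by
          clear hnm hX hX2 hn' hY hYb hY8 hbig hrm hsm hr
          induction r, h using Nat.le_induction with
          | base => norm_num
          | succ i hi ih =>
            rw [show i + 1 - 2 = i - 2 + 1 by omega, pow_succ 2]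
            nlinarith [ih (by omega)]
        have hYlow : (3 * r ^ 2 + 1) * f ^ 2 ≤ Y * f ^ 2 :=
          Nat.mul_le_mul_right _ ((hlow.trans (Nat.pow_le_pow_left hq _)).trans hYb)
        have : r * (n + 1) ≤ 3 * r ^ 2 * f ^ 2 := by
          calc r * (n + 1) ≤ r * (2 * (r * f ^ 2) + r * f ^ 2) := by
                refine Nat.mul_le_mul_left _ ?_
                have : 1 ≤ r * f ^ 2 := Nat.one_le_iff_ne_zero.2 (by positivity)
                omega
            _ = 3 * r ^ 2 * f ^ 2 := by ring
        rw [add_mul, one_mul] at hYlow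
        omega
    · -- k positive
      have hexp : 3 * k * (r - 2) + 2 ≤ r ^ k * (r - 2) := by
        have h5 : r * k ≤ r ^ k := by
          obtain ⟨k', rfl⟩ : ∃ k', k = k' + 1 := ⟨k - 1, by omega⟩
          rw [pow_succ']
          refine Nat.mul_le_mul_left _ ?_
          exact Nat.lt_pow_self (a := r) (n := k') (by omega)
        have h6 : r * k * (r - 2) ≤ r ^ k * (r - 2) := Nat.mul_le_mul_right _ h5
        have h7 : 1 ≤ k * (r - 2) := Nat.one_le_iff_ne_zero.2 (by
          have : r - 2 ≠ 0 := by omega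
          positivity)
        have h8 : 5 * (k * (r - 2)) ≤ r * k * (r - 2) := by
          rw [mul_assoc r]; exact Nat.mul_le_mul_right _ hr5
        have h9 : 3 * k * (r - 2) = 3 * (k * (r - 2)) := mul_assoc _ _ _
        omega
      have hr2 : r ≤ 2 ^ (r - 2) := by
        clear hnm hX hX2 hn' hY hYb hY8 hbig hexp hb2 hb hrm hsm hr
        induction r, hr5 using Nat.le_induction with
        | base => norm_num
        | succ i hi ih => rw [show i + 1 - 2 = i - 2 + 1 by omega, pow_succ]; omega
      have hYlow : 4 * r ^ (k + 2) ≤ Y := by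
        calc 4 * r ^ (k + 2) ≤ 4 * r ^ (3 * k) :=
              Nat.mul_le_mul_left _ (Nat.pow_le_pow_right hr.pos (by omega))
          _ ≤ 4 * (2 ^ (r - 2)) ^ (3 * k) := Nat.mul_le_mul_left _ (Nat.pow_le_pow_left hr2 _)
          _ = 2 ^ (3 * k * (r - 2) + 2) := by rw [← pow_mul, pow_add]; ring
          _ ≤ 2 ^ (r ^ k * (r - 2)) := Nat.pow_le_pow_right (by norm_num) hexp
          _ ≤ q ^ (r ^ k * (r - 2)) := Nat.pow_le_pow_left hq _
          _ = b ^ (r - 2) := by rw [hb, pow_mul]
          _ ≤ Y := hYb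
      have h1' : 4 * r ^ (k + 2) * f ^ 2 ≤ r * (n + 1) := (Nat.mul_le_mul_right _ hYlow).trans hbig
      have h2' : r * (n + 1) ≤ 3 * r ^ (k + 2) * f ^ 2 := by
        calc r * (n + 1) ≤ r * (2 * (r ^ (k + 1) * f ^ 2) + r ^ (k + 1) * f ^ 2) := by
              refine Nat.mul_le_mul_left _ ?_
              have : 1 ≤ r ^ (k + 1) * f ^ 2 := Nat.one_le_iff_ne_zero.2 (by positivity)
              omega
          _ = 3 * r ^ (k + 2) * f ^ 2 := by ring
      have h3' : 1 ≤ r ^ (k + 2) * f ^ 2 := Nat.one_le_iff_ne_zero.2 (by positivity)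
      rw [mul_assoc] at h1' h2'
      omega

end Cfsg.Agent.S3430
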