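import Cfsg.Statements.S3437
import Mathlib
import Cfsg.Agent.Lib.Recog.FrobeniusSpectrum

set_option autoImplicit false
open Cfsg

namespace Cfsg.Agent.S3437

--- PRE
open CfsgLib.Recog.FrobSpec

instance fact_nonsquare : Fact (∀ r : ZMod 13, r ^ 2 ≠ 2 + 0 * r) := ⟨by decide +kernel⟩

instance : Fact (Nat.Prime 13) := ⟨by norm_num⟩
instance : Fact (Nat.Prime 3) := ⟨by norm_num⟩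

instance : Finite (QuadraticAlgebra (ZMod 13) 2 0) := Finite.of_equiv _ (QuadraticAlgebra.equivProd 2 0).symm

set_option maxRecDepth 100000
set_option maxHeartbeats 1600000

def octList : List (Matrix (Fin 2) (Fin 2) (QuadraticAlgebra (ZMod 13) 2 0)) :=
  [!![⟨1, 0⟩, ⟨0, 0⟩; ⟨0, 0⟩, ⟨1, 0⟩], !![⟨0, 3⟩, ⟨0, 0⟩; ⟨0, 0⟩, ⟨0, 11⟩], !![⟨3, 0⟩, ⟨3, 0⟩; ⟨2, 0⟩, ⟨11, 0⟩], !![⟨5, 0⟩, ⟨0, 0⟩; ⟨0, 0⟩, ⟨8, 0⟩], !![⟨0, 9⟩, ⟨0, 9⟩; ⟨0, 9⟩, ⟨0, 4⟩], !![⟨0, 9⟩, ⟨0, 7⟩; ⟨0, 6⟩, ⟨0, 4⟩], !![⟨2, 0⟩, ⟨3, 0⟩; ⟨2, 0⟩, ⟨10, 0⟩], !![⟨0, 2⟩, ⟨0, 0⟩; ⟨0, 0⟩, ⟨0, 10⟩], !![⟨2, 0⟩, ⟨2, 0⟩; ⟨3, 0⟩, ⟨10, 0⟩], !![⟨0, 6⟩, ⟨0, 9⟩; ⟨0, 9⟩, ⟨0, 6⟩], !![⟨2, 0⟩, ⟨11, 0⟩; ⟨10, 0⟩, ⟨10, 0⟩], !![⟨0, 6⟩, ⟨0, 7⟩; ⟨0, 6⟩, ⟨0, 6⟩], !![⟨12, 0⟩, ⟨0, 0⟩; ⟨0, 0⟩, ⟨12, 0⟩], !![⟨0,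 6⟩, ⟨0, 6⟩; ⟨0, 7⟩, ⟨0, 6⟩], !![⟨10, 0⟩, ⟨2, 0⟩; ⟨3, 0⟩, ⟨2, 0⟩], !![⟨10, 0⟩, ⟨3, 0⟩; ⟨2, 0⟩, ⟨2, 0⟩], !![⟨0, 10⟩, ⟨0, 0⟩; ⟨0, 0⟩, ⟨0, 2⟩], !![⟨0, 6⟩, ⟨0, 4⟩; ⟨0, 4⟩, ⟨0, 6⟩], !![⟨2, 0⟩, ⟨10, 0⟩; ⟨11, 0⟩, ⟨10, 0⟩], !![⟨10, 0⟩, ⟨11, 0⟩; ⟨10, 0⟩, ⟨2, 0⟩], !![⟨10, 0⟩, ⟨10, 0⟩; ⟨11, 0⟩, ⟨2, 0⟩], !![⟨0, 4⟩, ⟨0, 6⟩; ⟨0, 7⟩, ⟨0, 9⟩], !![⟨0, 4⟩, ⟨0, 9⟩; ⟨0, 9⟩, ⟨0, 9⟩], !![⟨8, 0⟩, ⟨0, 0⟩; ⟨0, 0⟩, ⟨5, 0⟩], !![⟨0, 4⟩, ⟨0, 7⟩; ⟨0, 6⟩, ⟨0, 9⟩], !![⟨0, 4⟩, ⟨0, 4⟩; ⟨0, 4⟩, ⟨0, 9⟩], !![⟨0, 0⟩, ⟨0, 10⟩; ⟨0, 11⟩, ⟨0, 0⟩], !![⟨0, 0⟩, ⟨12, 0⟩; ⟨1, 0⟩, ⟨0, 0⟩], !![⟨0, 0⟩, ⟨8, 0⟩; ⟨8, 0⟩, ⟨0, 0⟩], !![⟨11, 0⟩, ⟨10, 0⟩; ⟨11, 0⟩, ⟨3, 0⟩], !![⟨11, 0⟩, ⟨2, 0⟩; ⟨3, 0⟩, ⟨3, 0⟩], !![⟨0, 11⟩, ⟨0, 0⟩; ⟨0, 0⟩, ⟨0, 3⟩], !![⟨11, 0⟩, ⟨3, 0⟩; ⟨2, 0⟩, ⟨3, 0⟩], !![⟨11, 0⟩,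 ⟨11, 0⟩; ⟨10, 0⟩, ⟨3, 0⟩], !![⟨0, 0⟩, ⟨0, 11⟩; ⟨0, 10⟩, ⟨0, 0⟩], !![⟨0, 7⟩, ⟨0, 4⟩; ⟨0, 4⟩, ⟨0, 7⟩], !![⟨0, 7⟩, ⟨0, 6⟩; ⟨0, 7⟩, ⟨0, 7⟩], !![⟨0, 0⟩, ⟨0, 2⟩; ⟨0, 3⟩, ⟨0, 0⟩], !![⟨3, 0⟩, ⟨10, 0⟩; ⟨11, 0⟩, ⟨11, 0⟩], !![⟨0, 7⟩, ⟨0, 9⟩; ⟨0, 9⟩, ⟨0, 7⟩], !![⟨0, 7⟩, ⟨0, 7⟩; ⟨0, 6⟩, ⟨0, 7⟩], !![⟨0, 0⟩, ⟨1, 0⟩; ⟨12, 0⟩, ⟨0, 0⟩], !![⟨3, 0⟩, ⟨11, 0⟩; ⟨10, 0⟩, ⟨11, 0⟩], !![⟨0, 9⟩, ⟨0, 4⟩; ⟨0, 4⟩, ⟨0, 4⟩], !![⟨3, 0⟩, ⟨2, 0⟩; ⟨3, 0⟩, ⟨11, 0⟩], !![⟨0, 0⟩, ⟨5, 0⟩; ⟨5, 0⟩, ⟨0, 0⟩], !![⟨0, 9⟩, ⟨0, 6⟩; ⟨0, 7⟩, ⟨0, 4⟩], !![⟨0, 0⟩, ⟨0, 3⟩; ⟨0, 2⟩, ⟨0, 0⟩]]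

theorem spectrum_H : ∃ (H : Type) (_ : Group H) (_ : Fintype H), Group.IsSolvable H ∧
      Set.range (orderOf : H → ℕ) = insert 13 {n | n ∣ 6 ∨ n ∣ 8 ∨ n ∣ 8} :=
  exists_solvable 13 6 8 8 (by norm_num) (by decide +kernel) (by norm_num) (by norm_num) (by norm_num)
    octList (by decide +kernel) (by decide +kernel) (by decide +kernel) (by decide +kernel)
    (i := 4) (j := 1) (by decide +kernel) (by decide +kernel) (by decide +kernel) (by decide +kernel)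
    (by decide +kernel) (by decide +kernel)

theorem upper_zmod (M : Matrix (Fin 3) (Fin 3) (ZMod 3)) (hdet : M.det = 1) :
    M ^ 6 = 1 ∨ M ^ 8 = 1 ∨ M ^ 13 = 1 := by
  have h : ∀ a b : ZMod 3, cubicPow a b 6 = (0, 0, 1) ∨ cubicPow a b 8 = (0, 0, 1) ∨
      cubicPow a b 13 = (0, 0, 1) := by decide +kernel
  rcases h M.trace M.adjugate.trace with h | h | h
  · exact Or.inl (pow_eq_one_of_cubicPow M hdet rfl rfl h)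
  · exact Or.inr (Or.inl (pow_eq_one_of_cubicPow M hdet rfl rfl h))
  · exact Or.inr (Or.inr (pow_eq_one_of_cubicPow M hdet rfl rfl h))

theorem spectrum_PSL {F : Type*} [Field F] [Fintype F] (hF : Fintype.card F = 3) :
    Set.range (orderOf : Matrix.ProjectiveSpecialLinearGroup (Fin 3) F → ℕ) =
      {n | n ∣ 6 ∨ n ∣ 8 ∨ n ∣ 13} := by
  obtain ⟨f⟩ : Nonempty (ZMod 3 ≃+* F) :=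
    ⟨ZMod.ringEquivOfPrime F (by norm_num) hF⟩
  set φ := Matrix.SpecialLinearGroup.map (n := Fin 3) f.toRingHom with hφ
  have hinj : Function.Injective φ := by
    intro A B h
    ext i j
    exact f.injective (congrFun (congrFun (congrArg Subtype.val h) i) j)
  have hsurj : Function.Surjective φ := by
    intro A
    refine ⟨⟨A.1.map f.symm, ?_⟩, ?_⟩
    · have := (f.symm.toRingHom).map_det A.1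
      rw [A.2, map_one] at this
      exact this.symm
    · ext i j
      exact f.apply_symm_apply _
  have hex : ∀ (n : ℕ) (M N : Matrix.SpecialLinearGroup (Fin 3) (ZMod 3)), 0 < n → M ^ n = 1 →
      (∀ m, m < n → 0 < m → M ^ m * N ≠ N * M ^ m) →
      ∃ g : Matrix.ProjectiveSpecialLinearGroup (Fin 3) F, orderOf g = n := fun n M N hn h1 h2 =>
    ⟨_, orderOf_mk_center (φ M) n hn (by rw [← map_pow, h1, map_one]) fun m hm hm0 =>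
      ⟨φ N, fun h => h2 m hm hm0 (hinj (by rw [map_mul, map_mul, map_pow, h]))⟩⟩
  refine range_orderOf_eq 6 8 13 (by norm_num) (by norm_num) (by norm_num) ?_ ?_ ?_ ?_
  · intro g
    obtain ⟨A, rfl⟩ := QuotientGroup.mk_surjective g
    obtain ⟨M, rfl⟩ := hsurj A
    have key : ∀ n : ℕ, M.1 ^ n = 1 →
        (φ M : Matrix.ProjectiveSpecialLinearGroup (Fin 3) F) ^ n = 1 := fun n h => by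
      have hM : M ^ n = 1 := Subtype.ext ((Matrix.SpecialLinearGroup.coe_pow M n).trans h)
      rw [← QuotientGroup.mk_pow, ← map_pow, hM, map_one]; rfl
    rcases upper_zmod M.1 M.2 with h | h | h
    · exact Or.inl (key _ h)
    · exact Or.inr (Or.inl (key _ h))
    · exact Or.inr (Or.inr (key _ h))
  · exact hex 6 ⟨!![2, 1, 0; 0, 2, 0; 0, 0, 1], by decide +kernel⟩ ⟨!![0, 0, 1; 1, 0, 1; 0, 1, 0], by decide +kernel⟩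
      (by norm_num) (by decide +kernel) (by decide +kernel)
  · exact hex 8 ⟨!![0, 1, 0; 1, 1, 0; 0, 0, 2], by decide +kernel⟩ ⟨!![0, 0, 1; 1, 0, 1; 0, 1, 0], by decide +kernel⟩
      (by norm_num) (by decide +kernel) (by decide +kernel)
  · exact hex 13 ⟨!![0, 0, 1; 1, 0, 1; 0, 1, 0], by decide +kernel⟩ ⟨!![2, 1, 0; 0, 2, 0; 0, 0, 1], by decide +kernel⟩
      (by norm_num) (by decide +kernel) (by decide +kernel)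

/-- There is a finite solvable group with exactly the same set of element orders as the simple group PSL(3,3). -/
theorem result {F : Type*} [Field F] [Fintype F] (hF : Fintype.card F = 3) :
    ∃ (H : Type) (_ : Group H) (_ : Fintype H), Group.IsSolvable H ∧
      Set.range (orderOf : H → ℕ) = Set.range (orderOf : Matrix.ProjectiveSpecialLinearGroup (Fin 3) F → ℕ) := by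
  obtain ⟨H, i1, i2, hs, hr⟩ := spectrum_H
  refine ⟨H, i1, i2, hs, ?_⟩
  rw [hr, spectrum_PSL hF]
  ext n
  simp only [Set.mem_insert_iff, Set.mem_ofPred_eq]
  constructor
  · rintro (rfl | h | h | h) <;> simp_all
  · rintro (h | h | h)
    · exact Or.inr (Or.inl h)
    · exact Or.inr (Or.inr (Or.inl h))
    · rcases (Nat.dvd_prime (by norm_num : Nat.Prime 13)).1 h with rfl | rfl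
      · exact Or.inr (Or.inl (one_dvd _))
      · exact Or.inl rfl

end Cfsg.Agent.S3437
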