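import Cfsg.Statements.S3449
import Cfsg.Agent.Lib.Recog.AltFive

set_option autoImplicit false
open Cfsg

namespace Cfsg.Agent.S3449

/-- The direct product of three copies of the alternating group of degree 5 has exactly the same set of element orders as the cyclic group of order 30, namely the divisors of 30; in particular a direct power of a non-abelian simple group need not be determined by its element orders. -/
theorem result : Set.range (orderOf : alternatingGroup (Fin 5) × alternatingGroup (Fin 5) × alternatingGroup (Fin 5) → ℕ) =
      Set.range (orderOf : Multiplicative (ZMod 30) → ℕ) := by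
  rw [CfsgLib.Recog.AltFive.range_prod, CfsgLib.Recog.AltFive.spectrum_sq, CfsgLib.Recog.AltFive.spectrum]
  have hz : Set.range (orderOf : Multiplicative (ZMod 30) → ℕ) = {n | n ∣ 30} := by
    ext n
    simp only [Set.mem_range, Set.mem_setOf_eq]
    constructor
    · rintro ⟨x, rfl⟩
      have h := orderOf_dvd_natCard x
      rwa [Nat.card_congr Multiplicative.toAdd, Nat.card_zmod] at h
    · intro hn
      refine ⟨Multiplicative.ofAdd ((30 / n : ℕ) : ZMod 30), ?_⟩
      rw [orderOf_ofAdd_eq_addOrderOf, ZMod.addOrderOf_coe' _ (Nat.div_pos (Nat.le_of_dvd (by norm_num) hn) (Nat.pos_of_dvd_of_pos hn (by norm_num))).ne',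
        Nat.gcd_eq_right (Nat.div_dvd_of_dvd hn), Nat.div_div_self hn (by norm_num)]
  rw [hz]
  ext n
  simp only [Set.image2_insert_left, Set.image2_singleton_left, Set.image_insert_eq, Set.image_singleton,
    Set.mem_union, Set.mem_insert_iff, Set.mem_singleton_iff, Set.mem_setOf_eq]
  norm_num
  constructor
  · intro h
    have : n = 1 ∨ n = 2 ∨ n = 3 ∨ n = 5 ∨ n = 6 ∨ n = 10 ∨ n = 15 ∨ n = 30 := by omega
    rcases this with h | h | h | h | h | h | h | h <;> subst h <;> norm_num
  · intro h
    have : n ∈ Nat.divisors 30 := Nat.mem_divisors.mpr ⟨h, by norm_num⟩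
    rw [show Nat.divisors 30 = {1, 2, 3, 5, 6, 10, 15, 30} by decide] at this
    simp only [Finset.mem_insert, Finset.mem_singleton] at this
    omega

end Cfsg.Agent.S3449
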