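import Cfsg.Statements.S3452
import Cfsg.Agent.Lib.Recog.SemidirectFix
import Cfsg.Agent.Lib.Recog.SemidirectSpectrum
import Cfsg.Agent.Lib.Recog.PGLTwoOrders
import Cfsg.Agent.Lib.Recog.PSLTwoOrders
import Cfsg.Agent.Lib.Char.Burnside

set_option autoImplicit false
open Cfsg

namespace Cfsg.Agent.S3452

--- PRE
open CfsgLib.Recog Matrix PGLTwoModule SemidirectFix

/-- translation on the module -/
def transl {F : Type*} [Field F] [Fintype F] (ι : Type) :
    S F →* MulAut (Multiplicative (PGLTwoModule.V F ι)) where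
  toFun M :=
    { toFun := fun w => Multiplicative.ofAdd
        ⟨fun i x => (Multiplicative.toAdd w).1 i (M⁻¹ * x), translate_mem (Multiplicative.toAdd w).2 _⟩
      invFun := fun w => Multiplicative.ofAdd
        ⟨fun i x => (Multiplicative.toAdd w).1 i (M * x), translate_mem (Multiplicative.toAdd w).2 _⟩
      left_inv := fun w => Multiplicative.toAdd.injective (Subtype.ext (funext₂ fun i x => by simp))
      right_inv := fun w => Multiplicative.toAdd.injective (Subtype.ext (funext₂ fun i x => by simp))
      map_mul' := fun w w' => rfl }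
  map_one' := MulEquiv.ext fun w =>
    Multiplicative.toAdd.injective (Subtype.ext (funext₂ fun i x => by simp))
  map_mul' M M' := MulEquiv.ext fun w =>
    Multiplicative.toAdd.injective (Subtype.ext (funext₂ fun i x => by simp [mul_assoc]))

theorem center_pm {F : Type*} [Field F] {M : S F} (h : M ∈ Subgroup.center (S F)) : M = 1 ∨ M = -1 := by
  obtain ⟨r, hr, hM⟩ := Matrix.SpecialLinearGroup.mem_center_iff.mp h
  rw [Fintype.card_fin] at hr
  rcases sq_eq_one_iff.mp hr with rfl | rfl
  · exact Or.inl (Subtype.ext (by rw [← hM]; simp))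
  · exact Or.inr (Subtype.ext (by rw [← hM]; ext i j; fin_cases i <;> fin_cases j <;> simp))

theorem neg_one_mem {F : Type*} [Field F] : (-1 : S F) ∈ Subgroup.center (S F) := by
  rw [Subgroup.mem_center_iff]
  intro g
  rw [mul_neg, neg_mul, mul_one, one_mul]

theorem mk_neg {F : Type*} [Field F] (M : S F) :
    (QuotientGroup.mk (-M) : S F ⧸ Subgroup.center (S F)) = QuotientGroup.mk M := by
  have h : (QuotientGroup.mk (-1) : S F ⧸ Subgroup.center (S F)) = 1 :=
    (QuotientGroup.eq_one_iff _).mpr neg_one_mem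
  rw [← neg_one_mul, QuotientGroup.mk_mul, h, one_mul]

theorem prime_case {F : Type*} [Field F] [Fintype F] (p : ℕ) (hp : p.Prime) (hF : Fintype.card F = p)
    (h5 : 5 ≤ p) (N : ℕ) :
    ∃ (H : Type) (_ : Group H) (_ : Fintype H), N < Fintype.card H ∧
      Set.range (orderOf : H → ℕ) = {n | n ∣ p ∨ n ∣ p - 1 ∨ n ∣ p + 1} := by
  classical
  haveI := Fact.mk hp
  haveI : CharP F p := charP_of_card_eq_prime_pow (f := 1) (by rw [hF, pow_one])
  have hne : ∀ r : ℕ, 0 < r → r < p → (r : F) ≠ 0 := fun r hr hr' h => by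
    have := Nat.le_of_dvd hr ((CharP.cast_eq_zero_iff F p r).mp h)
    omega
  have h2 : (2 : F) ≠ 0 := by exact_mod_cast hne 2 two_pos (by omega)
  have h3 : (3 : F) ≠ 0 := by exact_mod_cast hne 3 three_pos (by omega)
  obtain ⟨k, hk0, hk⟩ := exists_k h2 h3
  let W := Multiplicative (PGLTwoModule.V F (Fin (N + 1)))
  have hlift : Subgroup.center (S F) ≤ (transl (F := F) (Fin (N + 1))).ker := by
    intro M hM
    refine MulEquiv.ext fun w => Multiplicative.toAdd.injective (Subtype.ext (funext₂ fun i x => ?_))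
    show (Multiplicative.toAdd w).1 i (M⁻¹ * x) = (Multiplicative.toAdd w).1 i x
    rcases center_pm hM with rfl | rfl
    · rw [inv_one, one_mul]
    · have h' : (-1 : S F)⁻¹ = -1 := by
        apply inv_eq_of_mul_eq_one_right
        rw [neg_mul_neg, one_mul]
      rw [h', neg_one_mul, (Multiplicative.toAdd w).2.1]
  let φ : S F ⧸ Subgroup.center (S F) →* MulAut W := QuotientGroup.lift _ _ hlift
  haveI : Finite W := inferInstanceAs (Finite (PGLTwoModule.V F (Fin (N + 1))))
  haveI : Finite (W ⋊[φ] (S F ⧸ Subgroup.center (S F))) :=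
    Finite.of_equiv _ SemidirectProduct.equivProd.symm
  obtain ⟨H, i1, i2, ⟨ε⟩⟩ :=
    Spectrum.exists_small_copy (W ⋊[φ] (S F ⧸ Subgroup.center (S F)))
  have hexp : ∀ w : W, w ^ 2 = 1 := fun w => Multiplicative.toAdd.injective (Subtype.ext (by
    rw [sq, toAdd_mul, toAdd_one]
    exact funext₂ fun i x => CharTwo.add_self_eq_zero _))
  refine ⟨H, i1, i2, ?_, ?_⟩
  · rw [← Nat.card_eq_fintype_card, Nat.card_congr ε.toEquiv, SemidirectProduct.card]
    -- a cube of vectors
    let ins : (Fin (N + 1) → ZMod 2) → PGLTwoModule.V F (Fin (N + 1)) := fun c =>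
      ⟨fun i x => c i * base (ι := Fin (N + 1)) k i x, by
        have hb := base_mem (ι := Fin (N + 1)) h2 hk0 hk
        refine ⟨fun i x => by simp [hb.1], fun M h hM i x => ?_⟩
        rw [← Finset.mul_sum, hb.2 M h hM i x, mul_zero]⟩
    obtain ⟨x0, hx0⟩ : ∃ x : S F, base (ι := Unit) k () x = 1 :=
      ⟨⟨!![k, 1; -1, 0], by simp [Matrix.det_fin_two]⟩, by simp [base, Matrix.trace_fin_two]⟩
    have hins : Function.Injective ins := fun c c' h => funext fun i => by
      have h' := congrFun (congrFun (congrArg Subtype.val h) i) x0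
      have hb : base (ι := Fin (N + 1)) k i x0 = 1 := hx0
      simpa [ins, hb] using h'
    have hcard := Nat.card_le_card_of_injective _ hins
    rw [Nat.card_fun, Nat.card_fin, Nat.card_zmod] at hcard
    calc N < 2 ^ N := Nat.lt_two_pow_self
      _ ≤ 2 ^ (N + 1) := Nat.pow_le_pow_right two_pos (by omega)
      _ ≤ Nat.card W := hcard
      _ ≤ _ := Nat.le_mul_of_pos_right _ Nat.card_pos
  have hr : Set.range (orderOf : H → ℕ) =
      Set.range (orderOf : W ⋊[φ] (S F ⧸ Subgroup.center (S F)) → ℕ) := by
    ext n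
    constructor
    · rintro ⟨x, rfl⟩; exact ⟨ε x, ε.orderOf_eq x⟩
    · rintro ⟨x, rfl⟩; exact ⟨ε.symm x, ε.symm.orderOf_eq x⟩
  rw [hr]
  -- elements of order `p` fix nothing
  have hfix : ∀ g : S F ⧸ Subgroup.center (S F), g ^ p = 1 → g ≠ 1 → ∀ w : W, φ g w = w → w = 1 := by
    intro g hg hg1 w hw
    obtain ⟨M, rfl⟩ := QuotientGroup.mk_surjective g
    obtain ⟨e, he, hee⟩ : ∃ M' : S F, M' ^ p = 1 ∧
        (QuotientGroup.mk M' : S F ⧸ Subgroup.center (S F)) = QuotientGroup.mk M := by
      rw [← QuotientGroup.mk_pow, QuotientGroup.eq_one_iff] at hg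
      rcases center_pm hg with h | h
      · exact ⟨M, h, rfl⟩
      · exact ⟨-M, by rw [Odd.neg_pow (hp.odd_of_ne_two (by omega)), h, neg_neg], mk_neg M⟩
    have hN : ((e : Matrix (Fin 2) (Fin 2) F) - 1) * ((e : Matrix (Fin 2) (Fin 2) F) - 1) = 0 := by
      set D := (e : Matrix (Fin 2) (Fin 2) F) - 1 with hD
      haveI : ExpChar (Matrix (Fin 2) (Fin 2) F) p := ExpChar.prime hp
      have hDp : D ^ p = 0 := by
        rw [hD, sub_pow_expChar_of_commute p (Commute.one_right _), one_pow,
          ← Matrix.SpecialLinearGroup.coe_pow, he, Matrix.SpecialLinearGroup.coe_one, sub_self]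
      have hdet : D.det = 0 := by
        have := congrArg Matrix.det hDp
        rw [Matrix.det_pow, Matrix.det_zero] at this
        exact pow_eq_zero_iff hp.ne_zero |>.mp this
      have hD2 : D * D = D.trace • D := by rw [ch_two D, hdet, zero_smul, sub_zero]
      have hpw : ∀ j : ℕ, D ^ (j + 1) = D.trace ^ j • D := by
        intro j
        induction j with
        | zero => simp
        | succ j ih => rw [pow_succ, ih, smul_mul_assoc, hD2, smul_smul, pow_succ]
      rw [show p = (p - 1) + 1 by omega, hpw] at hDp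
      rcases smul_eq_zero.mp hDp with h | h
      · rw [hD2, pow_eq_zero_iff (by omega) |>.mp h, zero_smul]
      · rw [h, mul_zero]
    have he1 : e = unip _ hN 1 := Subtype.ext (by simp [unip])
    have hne0 : (e : Matrix (Fin 2) (Fin 2) F) - 1 ≠ 0 := fun h => hg1 (by
      rw [← hee, show e = 1 from Subtype.ext (sub_eq_zero.mp h)]
      rfl)
    rw [← hee] at hw
    change transl (Fin (N + 1)) e w = w at hw
    refine Multiplicative.toAdd.injective (Subtype.ext (funext₂ fun i x => ?_))
    have hstep : ∀ y : S F, (Multiplicative.toAdd w).1 i (e * y) = (Multiplicative.toAdd w).1 i y := fun y => by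
      have h := congrFun (congrFun (congrArg Subtype.val (congrArg Multiplicative.toAdd hw)) i) (e * y)
      change (Multiplicative.toAdd w).1 i (e⁻¹ * (e * y)) = (Multiplicative.toAdd w).1 i (e * y) at h
      rw [inv_mul_cancel_left] at h
      exact h.symm
    have hall : ∀ s : F, (Multiplicative.toAdd w).1 i (unip _ hN s * x) = (Multiplicative.toAdd w).1 i x := by
      intro s
      obtain ⟨j, rfl⟩ : ∃ j : ℕ, (j : F) = s := by
        obtain ⟨a, rfl⟩ := (ZMod.castHom_bijective F hF).2 s
        exact ⟨a.val, by rw [ZMod.castHom_apply]; exact ZMod.natCast_val _⟩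
      rw [← unip_pow hN j, ← he1]
      induction j with
      | zero => rw [pow_zero, one_mul]
      | succ j ih => rw [pow_succ', mul_assoc, hstep, ih]
    have hsum := (Multiplicative.toAdd w).2.2 _ hN hne0 i x
    simp only [hall, Finset.sum_const, Finset.card_univ, hF, nsmul_eq_mul] at hsum
    have hpz : (p : ZMod 2) = 1 := by
      rw [← Nat.cast_one, ZMod.natCast_eq_natCast_iff']
      exact Nat.odd_iff.mp (hp.odd_of_ne_two (by omega))
    rw [hpz, one_mul] at hsum
    exact hsum
  have hA : (Fintype.card F - 1) ∣ 2 * ((p - 1) / 2) := by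
    rw [hF, Nat.mul_div_cancel' (Even.two_dvd (hp.even_sub_one (by omega)))]
  have hB : (Fintype.card F + 1) ∣ 2 * ((p + 1) / 2) := by
    rw [hF, Nat.mul_div_cancel' (Even.two_dvd ((hp.odd_of_ne_two (by omega)).add_odd odd_one))]
  have hA2 : 2 * ((p - 1) / 2) = p - 1 :=
    Nat.mul_div_cancel' (Even.two_dvd (hp.even_sub_one (by omega)))
  have hB2 : 2 * ((p + 1) / 2) = p + 1 :=
    Nat.mul_div_cancel' (Even.two_dvd ((hp.odd_of_ne_two (by omega)).add_odd odd_one))
  refine FrobSpec.range_orderOf_eq p (p - 1) (p + 1) hp.pos (by omega) (by omega) ?_ ?_ ?_ ?_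
  · intro x
    rcases PSLTwoOrders.pow_cases p hA hB x.right with h | h | h
    · by_cases h1 : x.right = 1
      · refine Or.inr (Or.inl ?_)
        rw [← hA2]
        exact pow_mul_eq_one (n := 1) (x := x) (r := 2) hexp (by rw [h1, one_pow]) ▸ (by
          have := pow_mul_eq_one (n := 1) (x := x) (r := 2) hexp (by rw [h1, one_pow])
          rw [one_mul] at this
          rw [pow_mul, this, one_pow])
      · exact Or.inl (pow_eq_one_of_fixed x h (hfix _ h h1))
    · exact Or.inr (Or.inl (by rw [← hA2, mul_comm]; exact pow_mul_eq_one x hexp h))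
    · exact Or.inr (Or.inr (by rw [← hB2, mul_comm]; exact pow_mul_eq_one x hexp h))
  · obtain ⟨g, hg⟩ := PSLTwoOrders.exists_orderOf_char (F := F) p
    exact ⟨SemidirectProduct.inr g, (orderOf_injective _ SemidirectProduct.inr_injective g).trans hg⟩
  all_goals
    have hgcd : Nat.gcd 2 (Fintype.card F - 1) = 2 := by
      rw [hF]; exact Nat.gcd_eq_left (Even.two_dvd (hp.even_sub_one (by omega)))
    first
      | obtain ⟨d, hd, hd0, hdp⟩ : ∃ d, 2 * d = p - 1 ∧ 1 < d ∧
          d ∈ Set.range (orderOf : PSLTwoOrders.L2 F → ℕ) := by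
          refine ⟨(p - 1) / 2, hA2, by omega, ?_⟩
          rw [PSLTwoOrders.range_orderOf p (by omega), hgcd, hF]
          exact Or.inr (Or.inl dvd_rfl)
        rw [← hd]
      | obtain ⟨d, hd, hd0, hdp⟩ : ∃ d, 2 * d = p + 1 ∧ 1 < d ∧
          d ∈ Set.range (orderOf : PSLTwoOrders.L2 F → ℕ) := by
          refine ⟨(p + 1) / 2, hB2, by omega, ?_⟩
          rw [PSLTwoOrders.range_orderOf p (by omega), hgcd, hF]
          exact Or.inr (Or.inr dvd_rfl)
        rw [← hd]
    obtain ⟨g, hg⟩ := hdp
    obtain ⟨M, hM⟩ := QuotientGroup.mk_surjective g⁻¹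
    have hss : (M : Matrix (Fin 2) (Fin 2) F).trace ^ 2 ≠ 4 := by
      intro h
      have hgp : (QuotientGroup.mk M : S F ⧸ Subgroup.center (S F)) ^ p = 1 := by
        obtain ⟨c, hc⟩ : ∃ c : F, c * c = 1 ∧ (M : Matrix (Fin 2) (Fin 2) F).trace = 2 * c := by
          refine ⟨(M : Matrix (Fin 2) (Fin 2) F).trace / 2, ?_, by field_simp⟩
          field_simp
          linear_combination h
        have hN : ((M : Matrix (Fin 2) (Fin 2) F) - c • 1) * ((M : Matrix (Fin 2) (Fin 2) F) - c • 1) = 0 := by
          rw [sub_mul, mul_sub, mul_sub, ch_two, M.det_coe, hc.2]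
          simp only [smul_mul_assoc, mul_smul_comm, smul_smul, one_mul, mul_one, hc.1, one_smul]
          module
        haveI : ExpChar (Matrix (Fin 2) (Fin 2) F) p := ExpChar.prime hp
        have hsub := sub_pow_expChar_of_commute p
          ((Commute.one_right (M : Matrix (Fin 2) (Fin 2) F)).smul_right c)
        have hz : ((M : Matrix (Fin 2) (Fin 2) F) - c • 1) ^ p = 0 := by
          rw [show p = 2 + (p - 2) by omega, pow_add, sq, hN, zero_mul]
        rw [hz, eq_comm, sub_eq_zero, smul_pow, one_pow] at hsub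
        rw [← QuotientGroup.mk_pow, QuotientGroup.eq_one_iff, Matrix.SpecialLinearGroup.mem_center_iff]
        refine ⟨c ^ p, ?_, ?_⟩
        · rw [Fintype.card_fin, ← pow_mul, mul_comm, pow_mul, sq, hc.1, one_pow]
        · rw [Matrix.SpecialLinearGroup.coe_pow, hsub, Matrix.scalar_apply, Matrix.smul_one_eq_diagonal]
      rw [hM, inv_pow, inv_eq_one] at hgp
      have := orderOf_dvd_of_pow_eq_one hgp
      rw [hg] at this
      rcases (Nat.dvd_prime hp).mp this with h' | h' <;> omega
    obtain ⟨y, hy⟩ := exists_pos h2 hk0 M hss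
    let v : W := Multiplicative.ofAdd ⟨fun i x => base k i (x * y),
      translate_right_mem (base_mem h2 hk0 hk) y⟩
    refine ⟨⟨v, g⟩, ?_⟩
    rw [orderOf_eq_mul _ Nat.prime_two hexp, mul_comm, hg]
    intro h
    rw [left_pow] at h
    have h' := congrFun (congrFun (congrArg Subtype.val (congrArg Multiplicative.toAdd h)) 0) 1
    rw [toAdd_prod, AddSubgroup.val_finsetSum, Finset.sum_apply, Finset.sum_apply] at h'
    have hterm : ∀ j ∈ Finset.range (orderOf g),
        (Multiplicative.toAdd (φ (g ^ j) v)).1 0 1 = if j = 0 then 1 else 0 := by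
      intro j hj
      have hgj : g ^ j = QuotientGroup.mk (M⁻¹ ^ j) := by
        rw [QuotientGroup.mk_pow, QuotientGroup.mk_inv, hM, inv_inv]
      rw [hgj]
      show base k 0 ((M⁻¹ ^ j)⁻¹ * 1 * y) = _
      rw [mul_one, inv_pow, inv_inv]
      simp only [base, hy]
      refine if_congr ⟨fun hc => ?_, fun hj0 => Or.inl (by rw [hj0, pow_zero]; rfl)⟩ rfl rfl
      by_contra hj0
      refine pow_ne_one_of_lt_orderOf hj0 (Finset.mem_range.mp hj) ?_
      rw [← _root_.inv_inj, ← inv_pow, ← hM, inv_one, ← QuotientGroup.mk_pow, QuotientGroup.eq_one_iff]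
      rcases hc with hc | hc
      · rw [show M ^ j = 1 from Subtype.ext hc]; exact one_mem _
      · rw [show M ^ j = -1 from Subtype.ext (by rw [hc]; rfl)]; exact neg_one_mem
    rw [Finset.sum_congr rfl hterm, Finset.sum_ite_eq' , if_pos (Finset.mem_range.mpr (by omega))] at h'
    exact one_ne_zero h'

/-- squaring on the cyclic group of order five -/
def sqFive : MulAut (Multiplicative (ZMod 5)) where
  toFun x := x ^ 2
  invFun x := x ^ 3
  left_inv := by decide
  right_inv := by decide
  map_mul' := by decide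

/-- `C₅ ⋊ C₈` with kernel of the action of order two -/
def actFive : Multiplicative (ZMod 8) →* MulAut (Multiplicative (ZMod 5)) where
  toFun b := sqFive ^ (Multiplicative.toAdd b).val
  map_one' := rfl
  map_mul' a b := MulEquiv.ext (by revert a b; decide +kernel)

abbrev K40 := Multiplicative (ZMod 5) ⋊[actFive] Multiplicative (ZMod 8)

instance : Fintype K40 := Fintype.ofEquiv _ SemidirectProduct.equivProd.symm

/-- the central involution -/
def zK : K40 := ⟨1, Multiplicative.ofAdd 4⟩

def aK : K40 := ⟨Multiplicative.ofAdd 1, 1⟩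

theorem K40_facts : (∀ g : K40, g ^ 8 = 1 ∨ g ^ 10 = 1) ∧ (∀ g : K40, g * zK = zK * g) ∧
    (∀ g : K40, g ≠ 1 → g ^ 5 = 1 → ∃ j : Fin 5, g ^ (j : ℕ) = aK) ∧
    (∀ g : K40, g ^ 5 = 1 ∨ g = zK ∨ g ^ 2 = zK ∨ g ^ 4 = zK ∨ g ^ 5 = zK) := by
  refine ⟨?_, ?_, ?_, ?_⟩ <;> decide +kernel

/-- the module of `C₅ ⋊ C₈` -/
def V40 (ι : Type) : AddSubgroup (ι → K40 → ZMod 3) where
  carrier := {f | ∀ i x, f i (zK * x) = -f i x ∧ ∀ g : K40,
    f i (g * x) + f i (g * aK * x) + f i (g * aK ^ 2 * x) + f i (g * aK ^ 3 * x) + f i (g * aK ^ 4 * x) = 0}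
  zero_mem' := fun i x => ⟨by simp, fun g => by simp⟩
  add_mem' := fun {f f'} hf hf' i x => ⟨by simp [(hf i x).1, (hf' i x).1]; ring, fun g => by
    simp only [Pi.add_apply]; linear_combination (hf i x).2 g + (hf' i x).2 g⟩
  neg_mem' := fun {f} hf i x => ⟨by simp [(hf i x).1], fun g => by
    simp only [Pi.neg_apply]; linear_combination -(hf i x).2 g⟩

theorem V40_translate {ι : Type} {f : ι → K40 → ZMod 3} (hf : f ∈ V40 ι) (h : K40) :
    (fun i x => f i (h * x)) ∈ V40 ι := fun i x => by
  refine ⟨?_, fun g => ?_⟩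
  · show f i (h * (zK * x)) = -f i (h * x)
    rw [← mul_assoc, K40_facts.2.1 h, mul_assoc]; exact (hf i (h * x)).1
  · simpa [mul_assoc] using (hf i x).2 (h * g)

def transl40 (ι : Type) : K40 →* MulAut (Multiplicative (V40 ι)) where
  toFun M :=
    { toFun := fun w => Multiplicative.ofAdd
        ⟨fun i x => (Multiplicative.toAdd w).1 i (M⁻¹ * x), V40_translate (Multiplicative.toAdd w).2 _⟩
      invFun := fun w => Multiplicative.ofAdd
        ⟨fun i x => (Multiplicative.toAdd w).1 i (M * x), V40_translate (Multiplicative.toAdd w).2 _⟩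
      left_inv := fun w => Multiplicative.toAdd.injective (Subtype.ext (funext₂ fun i x => by simp))
      right_inv := fun w => Multiplicative.toAdd.injective (Subtype.ext (funext₂ fun i x => by simp))
      map_mul' := fun w w' => rfl }
  map_one' := MulEquiv.ext fun w =>
    Multiplicative.toAdd.injective (Subtype.ext (funext₂ fun i x => by simp))
  map_mul' M M' := MulEquiv.ext fun w =>
    Multiplicative.toAdd.injective (Subtype.ext (funext₂ fun i x => by simp [mul_assoc]))

/-- one non-zero vector -/
def f40 : K40 → ZMod 3 := fun x =>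
  if x = 1 ∨ x = zK * aK then 1 else if x = zK ∨ x = aK then -1 else 0

theorem f40_facts : (∀ x : K40, f40 (zK * x) = -f40 x) ∧ (∀ g x : K40,
    f40 (g * x) + f40 (g * aK * x) + f40 (g * aK ^ 2 * x) + f40 (g * aK ^ 3 * x) + f40 (g * aK ^ 4 * x) = 0) := by
  refine ⟨?_, ?_⟩ <;> decide +kernel

theorem nine_case (N : ℕ) :
    ∃ (H : Type) (_ : Group H) (_ : Fintype H), N < Fintype.card H ∧
      Set.range (orderOf : H → ℕ) = {n | n ∣ 3 ∨ n ∣ 8 ∨ n ∣ 10} := by
  let W := Multiplicative (V40 (Fin (N + 1)))
  let φ : K40 →* MulAut W := transl40 (Fin (N + 1))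
  haveI : Finite W := inferInstanceAs (Finite (V40 (Fin (N + 1))))
  haveI : Finite (W ⋊[φ] K40) := Finite.of_equiv _ SemidirectProduct.equivProd.symm
  obtain ⟨H, i1, i2, ⟨ε⟩⟩ := Spectrum.exists_small_copy (W ⋊[φ] K40)
  let ins : (Fin (N + 1) → ZMod 3) → V40 (Fin (N + 1)) := fun c =>
    ⟨fun i x => c i * f40 x, fun i x => ⟨by simp [f40_facts.1], fun g => by
      linear_combination c i * f40_facts.2 g x⟩⟩
  refine ⟨H, i1, i2, ?_, ?_⟩
  · have hins : Function.Injective ins := fun c c' h => funext fun i => by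
      have h' := congrFun (congrFun (congrArg Subtype.val h) i) 1
      simpa [ins, f40] using h'
    have hcard := Nat.card_le_card_of_injective _ hins
    rw [Nat.card_fun, Nat.card_fin, Nat.card_zmod] at hcard
    rw [← Nat.card_eq_fintype_card, Nat.card_congr ε.toEquiv, SemidirectProduct.card]
    calc N < 2 ^ N := Nat.lt_two_pow_self
      _ ≤ 3 ^ (N + 1) := (Nat.pow_le_pow_left (by norm_num) N).trans
          (Nat.pow_le_pow_right (by norm_num) (by omega))
      _ ≤ Nat.card W := hcard
      _ ≤ _ := Nat.le_mul_of_pos_right _ Nat.card_pos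
  have hr : Set.range (orderOf : H → ℕ) = Set.range (orderOf : W ⋊[φ] K40 → ℕ) := by
    ext n
    constructor
    · rintro ⟨x, rfl⟩; exact ⟨ε x, ε.orderOf_eq x⟩
    · rintro ⟨x, rfl⟩; exact ⟨ε.symm x, ε.symm.orderOf_eq x⟩
  rw [hr]
  have hexp : ∀ w : W, w ^ 3 = 1 := fun w => Multiplicative.toAdd.injective (Subtype.ext (by
    rw [toAdd_pow, toAdd_one]
    funext i x
    simp
    exact Or.inl (by decide)))
  have hfix : ∀ g : K40, g ≠ 1 → ∀ w : W, φ g w = w → w = 1 := by
    intro g hg w hw
    refine Multiplicative.toAdd.injective (Subtype.ext (funext₂ fun i x => ?_))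
    have hpow : ∀ j : ℕ, φ (g ^ j) w = w := fun j => by
      induction j with
      | zero => simp
      | succ j ih => rw [pow_succ, map_mul, MulAut.mul_apply, hw, ih]
    have hinv : ∀ h : K40, φ h w = w → ∀ y, (Multiplicative.toAdd w).1 i (h * y) = (Multiplicative.toAdd w).1 i y := by
      intro h hh y
      have h' := congrFun (congrFun (congrArg Subtype.val (congrArg Multiplicative.toAdd hh)) i) (h * y)
      change (Multiplicative.toAdd w).1 i (h⁻¹ * (h * y)) = (Multiplicative.toAdd w).1 i (h * y) at h'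
      rw [inv_mul_cancel_left] at h'
      exact h'.symm
    by_cases h5 : g ^ 5 = 1
    · obtain ⟨j, hj⟩ := K40_facts.2.2.1 g hg h5
      have ha : φ aK w = w := hj ▸ hpow _
      have hs := ((Multiplicative.toAdd w).2 i x).2 1
      simp only [one_mul, pow_succ, pow_zero, mul_assoc, hinv aK ha] at hs
      show (Multiplicative.toAdd w).1 i x = 0
      have h3 : (3 : ZMod 3) = 0 := by decide
      linear_combination -hs + 2 * (Multiplicative.toAdd w).1 i x * h3
    · have hz : φ zK w = w := by
        rcases K40_facts.2.2.2 g with h | h | h | h | h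
        · exact absurd h h5
        · exact h ▸ hw
        all_goals exact h ▸ hpow _
      have h' := ((Multiplicative.toAdd w).2 i x).1
      rw [hinv zK hz] at h'
      show (Multiplicative.toAdd w).1 i x = 0
      have h3 : (3 : ZMod 3) = 0 := by decide
      linear_combination -h' + (Multiplicative.toAdd w).1 i x * h3
  refine FrobSpec.range_orderOf_eq 3 8 10 (by norm_num) (by norm_num) (by norm_num) ?_ ?_ ?_ ?_
  · intro x
    by_cases h1 : x.right = 1
    · left
      have := pow_mul_eq_one (n := 1) (x := x) hexp (by rw [h1, one_pow])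
      rwa [one_mul] at this
    · rcases K40_facts.1 x.right with h | h
      · exact Or.inr (Or.inl (pow_eq_one_of_fixed x h (hfix _ h1)))
      · exact Or.inr (Or.inr (pow_eq_one_of_fixed x h (hfix _ h1)))
  · refine ⟨SemidirectProduct.inl (Multiplicative.ofAdd (ins fun _ => 1)), ?_⟩
    rw [orderOf_injective _ SemidirectProduct.inl_injective]
    refine orderOf_eq_prime (hexp _) fun h => ?_
    have h' := congrFun (congrFun (congrArg Subtype.val (congrArg Multiplicative.toAdd h)) 0) 1
    simp [ins, f40] at h'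
  · haveI := Fact.mk Nat.prime_two
    refine ⟨SemidirectProduct.inr (⟨1, Multiplicative.ofAdd 1⟩ : K40), ?_⟩
    rw [orderOf_injective _ SemidirectProduct.inr_injective]
    exact orderOf_eq_prime_pow (p := 2) (n := 2) (by decide +kernel) (by decide +kernel)
  · refine ⟨SemidirectProduct.inr (zK * aK), ?_⟩
    rw [orderOf_injective _ SemidirectProduct.inr_injective, orderOf_eq_iff (by norm_num)]
    refine ⟨by decide +kernel, fun m hm hm0 => ?_⟩
    interval_cases m <;> decide +kernel

/-- For F a finite field whose number of elements is a prime or equals 9, the group PGL(2,F) = GL(2,F)/Z(GL(2,F)) is not determined by its set of element orders: for every bound N there is a finite group of order greater than N with exactly the same set of element orders as PGL(2,F). -/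
theorem result {F : Type*} [Field F] [Fintype F] (hF : (Fintype.card F).Prime ∨ Fintype.card F = 9) (N : ℕ) :
    ∃ (H : Type) (_ : Group H) (_ : Fintype H), N < Fintype.card H ∧
      Set.range (orderOf : H → ℕ) = Set.range (orderOf : Matrix.GeneralLinearGroup (Fin 2) F ⧸ Subgroup.center (Matrix.GeneralLinearGroup (Fin 2) F) → ℕ) := by
  classical
  rcases hF with hp | h9
  · by_cases h5 : 5 ≤ Fintype.card F
    · haveI := Fact.mk hp
      haveI : CharP F (Fintype.card F) := charP_of_card_eq_prime_pow (f := 1) (pow_one _).symm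
      rw [PGLTwoOrders.range_orderOf (F := F) (Fintype.card F) (by omega)]
      exact prime_case _ hp rfl h5 N
    · have hsol : Group.IsSolvable
          (Matrix.GeneralLinearGroup (Fin 2) F ⧸ Subgroup.center (Matrix.GeneralLinearGroup (Fin 2) F)) := by
        have hq : Fintype.card F = 2 ∨ Fintype.card F = 3 := by
          have h2 := hp.two_le
          rcases (show Fintype.card F = 2 ∨ Fintype.card F = 3 ∨ Fintype.card F = 4 by omega) with h | h | h
          · exact Or.inl h
          · exact Or.inr h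
          · rw [h] at hp; norm_num at hp
        have hGL : Group.IsSolvable (Matrix.GeneralLinearGroup (Fin 2) F) := by
          have hc : Nat.card (Matrix.GeneralLinearGroup (Fin 2) F) = _ := Matrix.card_GL_field 2
          rcases hq with h | h <;>
            simp [Fin.prod_univ_two, h] at hc <;> rw [← Nat.card_eq_fintype_card] at hc
          · exact CfsgLib.Burnside.isSolvable_of_card_eq Nat.prime_two Nat.prime_three (a := 1) (b := 1)
              (hc.trans (by norm_num))
          · exact CfsgLib.Burnside.isSolvable_of_card_eq Nat.prime_two Nat.prime_three (a := 4) (b := 1)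
              (hc.trans (by norm_num))
        exact Group.isSolvable_of_surjective (f := QuotientGroup.mk' _) QuotientGroup.mk_surjective
      obtain ⟨V, p, hVn, hp', hV, -, hVp⟩ := Spectrum.exists_elementary_of_solvable
        (⊤ : Subgroup (Matrix.GeneralLinearGroup (Fin 2) F ⧸ Subgroup.center (Matrix.GeneralLinearGroup (Fin 2) F)))
        (by
          intro h
          obtain ⟨g, hg⟩ := CfsgLib.Known.PGLOrder.exists_card_mul_orderOf_eq (F := F) (d := 2) one_le_two
          have hz : (QuotientGroup.mk g :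
              Matrix.GeneralLinearGroup (Fin 2) F ⧸ Subgroup.center (Matrix.GeneralLinearGroup (Fin 2) F)) = 1 :=
            Subgroup.mem_bot.mp (h ▸ Subgroup.mem_top _)
          rw [hz, orderOf_one, mul_one] at hg
          have h2 := hp.two_le
          have : Fintype.card F * 2 ≤ Fintype.card F ^ 2 := by rw [sq]; exact Nat.mul_le_mul_left _ h2
          omega)
        inferInstance
      exact Spectrum.exists_large V hp' hV hVp N
  · haveI := Fact.mk Nat.prime_three
    haveI : CharP F 3 := charP_of_card_eq_prime_pow (f := 2) h9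
    rw [PGLTwoOrders.range_orderOf (F := F) 3 (by norm_num), h9]
    exact nine_case N

end Cfsg.Agent.S3452
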