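import Cfsg.Statements.S3466
import Cfsg.Agent.Lib.HallGen.SympFourSpectrum.PSp
import Cfsg.Agent.Lib.HallGen.SympFourSpectrum.Twist
import Cfsg.Agent.Lib.HallGen.SympFourSpectrum.ThreeGroup
import Cfsg.Agent.S3439

set_option autoImplicit false
open Cfsg

namespace Cfsg.Agent.S3466

/-- Let F be a finite field with q ≥ 3 elements such that q is not of the form 3^(2t+1) with t ≥ 1. Then PSp(4,F) is not determined by its set of element orders, not even up to finitely many groups: for every bound N there is a finite group of order greater than N with exactly the same set of element orders as PSp(4,F). -/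
theorem result {F : Type*} [Field F] [Fintype F] (h3 : 3 ≤ Fintype.card F) (hq : ∀ t : ℕ, 1 ≤ t → Fintype.card F ≠ 3 ^ (2 * t + 1)) (N : ℕ) :
    ∃ (H : Type) (_ : Group H) (_ : Fintype H), N < Fintype.card H ∧ Set.range (orderOf : H → ℕ) = Set.range (orderOf : Cfsg.PSp 2 F → ℕ) := by
  obtain ⟨p, hc⟩ := CharP.exists F
  haveI := hc
  obtain ⟨n, hp, hn⟩ := FiniteField.card F p
  haveI : Fact p.Prime := ⟨hp⟩
  by_cases h33 : Fintype.card F = 3
  · obtain ⟨H, hG, hF, hsol, hrange⟩ := Cfsg.Agent.S3439.result h33
    letI := hG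
    letI := hF
    rw [← hrange]
    have hne : (⊤ : Subgroup H) ≠ ⊥ := by
      intro h
      have h3mem : (3 : ℕ) ∈ Set.range (orderOf : Cfsg.PSp 2 F → ℕ) := by
        rw [CfsgLib.Spectrum.PSpFourThree.range_orderOf_of_card h33]
        simp [CfsgLib.Spectrum.PSpFourThree.orders]
      rw [← hrange] at h3mem
      obtain ⟨x, hx⟩ := h3mem
      have h1 : x = 1 := Subgroup.mem_bot.1 (h ▸ Subgroup.mem_top x)
      rw [h1, orderOf_one] at hx
      omega
    exact Cfsg.Agent.S3444.result (⊤ : Subgroup H) hne inferInstance N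
  have hm : 1 ≤ (n : ℕ) := n.pos
  rw [CfsgLib.HallGen.SympFourSpectrum.range_psp hm hn]
  let K := GaloisField p (2 * (n : ℕ))
  letI : Fintype K := Fintype.ofFinite K
  haveI : ExpChar K p := ExpChar.prime hp
  have hK : Fintype.card K = (Fintype.card F) ^ 2 := by
    rw [← Nat.card_eq_fintype_card, GaloisField.card p _ (by omega), hn, ← pow_mul, mul_comm]
  let σ : K →+* K := iterateFrobenius K p n
  have hσ : ∀ a, σ a = a ^ Fintype.card F := fun a => by rw [iterateFrobenius_def, hn]
  by_cases h2 : p = 2
  · subst h2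
    exact CfsgLib.HallGen.SympFourSpectrum.exists_isospectral_even hm hn hσ hK N
  by_cases h3' : p = 3
  · subst h3'
    obtain ⟨i, hi | hi⟩ := Nat.even_or_odd' (n : ℕ)
    · exact CfsgLib.HallGen.SympFourSpectrum.exists_isospectral_three (c := frobenius K 3) (i := i) hm (by omega) hn
        (by rw [hn, hi, pow_mul]; norm_num) (fun a => frobenius_def 3 a) hσ hK N
    · exfalso
      rcases Nat.eq_zero_or_pos i with rfl | hi0
      · exact h33 (by rw [hn, hi]; rfl)
      · exact hq i hi0 (by rw [hn, hi])
  · refine CfsgLib.HallGen.SympFourSpectrum.exists_isospectral_odd ?_ hm hn hσ hK N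
    have := hp.two_le
    have h4 : p ≠ 4 := fun h => by rw [h] at hp; norm_num at hp
    omega

end Cfsg.Agent.S3466
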