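import Cfsg.Statements.S3489
import Cfsg.Agent.Lib.Recog.TwoSymFive
import Cfsg.Agent.Lib.Recog.SemidirectFix
import Cfsg.Agent.Lib.Recog.SemidirectSpectrum
import Cfsg.Agent.S2477

set_option autoImplicit false
open Cfsg

namespace Cfsg.Agent.S3489

set_option maxHeartbeats 1600000

--- PRE
open CfsgLib.Recog Matrix SemidirectFix

abbrev KK := ↥TwoSymFive.K

def kA : KK := ⟨TwoSymFive.gA, Subgroup.subset_closure (Or.inl rfl)⟩
def kB : KK := ⟨TwoSymFive.gB, Subgroup.subset_closure (Or.inr rfl)⟩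

/-- the central involution -/
def kZ : KK := kA ^ 4

theorem val_pow (T : TwoSymFive.T) (g : GL (Fin 4) (ZMod 7))
    (hg : (g : Matrix (Fin 4) (Fin 4) (ZMod 7)) = TwoSymFive.toMat T) :
    ∀ n : ℕ, ((g ^ n : GL (Fin 4) (ZMod 7)) : Matrix (Fin 4) (Fin 4) (ZMod 7)) = TwoSymFive.toMat T ^ n :=
  fun n => by rw [Units.val_pow_eq_pow_val, hg]

theorem kZ_val : ((kZ : GL (Fin 4) (ZMod 7)) : Matrix (Fin 4) (Fin 4) (ZMod 7)) = -1 := by
  show ((TwoSymFive.gA ^ 4 : GL (Fin 4) (ZMod 7)) : Matrix (Fin 4) (Fin 4) (ZMod 7)) = -1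
  rw [val_pow TwoSymFive.genA _ rfl, ← TwoSymFive.toMat_negOneT,
    show TwoSymFive.negOneT = TwoSymFive.mulT (TwoSymFive.mulT TwoSymFive.genA TwoSymFive.genA)
      (TwoSymFive.mulT TwoSymFive.genA TwoSymFive.genA) by decide +kernel]
  simp only [TwoSymFive.toMat_mul, pow_succ, pow_zero, one_mul, mul_assoc]

theorem eq_kZ_of_val {g : KK} (h : ((g : GL (Fin 4) (ZMod 7)) : Matrix (Fin 4) (Fin 4) (ZMod 7)) = -1) :
    g = kZ := Subtype.ext (Units.ext (h.trans kZ_val.symm))

theorem kZ_comm (g : KK) : g * kZ = kZ * g :=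
  Subtype.ext (Units.ext (by
    show ((g : GL (Fin 4) (ZMod 7)) : Matrix (Fin 4) (Fin 4) (ZMod 7)) *
        ((kZ : GL (Fin 4) (ZMod 7)) : Matrix (Fin 4) (Fin 4) (ZMod 7)) =
      ((kZ : GL (Fin 4) (ZMod 7)) : Matrix (Fin 4) (Fin 4) (ZMod 7)) *
        ((g : GL (Fin 4) (ZMod 7)) : Matrix (Fin 4) (Fin 4) (ZMod 7))
    rw [kZ_val, mul_neg, neg_mul, mul_one, one_mul]))

theorem kZ_ne : kZ ≠ 1 := fun h => by
  have := kZ_val
  rw [h] at this
  exact absurd (congrFun (congrFun this 0) 0) (by decide)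

/-- the odd functions on `K` -/
def W3 : AddSubgroup (KK → ZMod 3) where
  carrier := {f | ∀ x, f (kZ * x) = -f x}
  zero_mem' := fun x => by simp
  add_mem' := fun {f f'} hf hf' x => by simp [hf x, hf' x]; ring
  neg_mem' := fun {f} hf x => by simp [hf x]

/-- translation on the odd functions -/
def act3 : KK →* MulAut (Multiplicative W3) where
  toFun M :=
    { toFun := fun w => Multiplicative.ofAdd ⟨fun x => (Multiplicative.toAdd w).1 (M⁻¹ * x), fun x => by
        show (Multiplicative.toAdd w).1 (M⁻¹ * (kZ * x)) = -(Multiplicative.toAdd w).1 (M⁻¹ * x)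
        rw [← mul_assoc, kZ_comm, mul_assoc]; exact (Multiplicative.toAdd w).2 _⟩
      invFun := fun w => Multiplicative.ofAdd ⟨fun x => (Multiplicative.toAdd w).1 (M * x), fun x => by
        show (Multiplicative.toAdd w).1 (M * (kZ * x)) = -(Multiplicative.toAdd w).1 (M * x)
        rw [← mul_assoc, kZ_comm, mul_assoc]; exact (Multiplicative.toAdd w).2 _⟩
      left_inv := fun w => Multiplicative.toAdd.injective (Subtype.ext (funext fun x => by simp))
      right_inv := fun w => Multiplicative.toAdd.injective (Subtype.ext (funext fun x => by simp))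
      map_mul' := fun w w' => rfl }
  map_one' := MulEquiv.ext fun w =>
    Multiplicative.toAdd.injective (Subtype.ext (funext fun x => by simp))
  map_mul' M M' := MulEquiv.ext fun w =>
    Multiplicative.toAdd.injective (Subtype.ext (funext fun x => by simp [mul_assoc]))

/-- the action on tuples of vectors -/
def act7 (ι : Type) : KK →* MulAut (Multiplicative (ι → Fin 4 → ZMod 7)) where
  toFun g :=
    { toFun := fun w => Multiplicative.ofAdd
        fun i => ((g : GL (Fin 4) (ZMod 7)) : Matrix (Fin 4) (Fin 4) (ZMod 7)) *ᵥ (Multiplicative.toAdd w i)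
      invFun := fun w => Multiplicative.ofAdd
        fun i => (((g : GL (Fin 4) (ZMod 7))⁻¹ : GL (Fin 4) (ZMod 7)) : Matrix (Fin 4) (Fin 4) (ZMod 7)) *ᵥ
          (Multiplicative.toAdd w i)
      left_inv := fun w => by
        simp only [toAdd_ofAdd, Matrix.mulVec_mulVec, ← Units.val_mul, inv_mul_cancel,
          Units.val_one, Matrix.one_mulVec]
        rfl
      right_inv := fun w => by
        simp only [toAdd_ofAdd, Matrix.mulVec_mulVec, ← Units.val_mul, mul_inv_cancel,
          Units.val_one, Matrix.one_mulVec]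
        rfl
      map_mul' := fun w w' => by
        simp only [toAdd_mul, Pi.add_apply, Matrix.mulVec_add]
        rfl }
  map_one' := by
    refine MulEquiv.ext fun w => ?_
    simp
  map_mul' g h := by
    refine MulEquiv.ext fun w => ?_
    simp [Matrix.mulVec_mulVec]

/-- the action on the kernel -/
def act (ι : Type) : KK →* MulAut (Multiplicative W3 × Multiplicative (ι → Fin 4 → ZMod 7)) where
  toFun g := MulEquiv.prodCongr (act3 g) (act7 ι g)
  map_one' := MulEquiv.ext fun w => by simp [MulEquiv.prodCongr]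
  map_mul' g h := MulEquiv.ext fun w => by simp [MulEquiv.prodCongr, Prod.map]

theorem mem_spec {n : ℕ} (h : n ∣ 8 ∨ n ∣ 9 ∨ n ∣ 10 ∨ n ∣ 12 ∨ n ∣ 15 ∨ n ∣ 21) :
    n = 1 ∨ n = 2 ∨ n = 3 ∨ n = 4 ∨ n = 5 ∨ n = 6 ∨ n = 7 ∨ n = 8 ∨ n = 9 ∨ n = 10 ∨ n = 12 ∨ n = 15 ∨
      n = 21 := by
  have key : ∀ m < 22, (m ∣ 8 ∨ m ∣ 9 ∨ m ∣ 10 ∨ m ∣ 12 ∨ m ∣ 15 ∨ m ∣ 21) →
      (m = 1 ∨ m = 2 ∨ m = 3 ∨ m = 4 ∨ m = 5 ∨ m = 6 ∨ m = 7 ∨ m = 8 ∨ m = 9 ∨ m = 10 ∨ m = 12 ∨ m = 15 ∨
        m = 21) := by decide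
  refine key n ?_ h
  rcases h with h | h | h | h | h | h <;> have := Nat.le_of_dvd (by norm_num) h <;> omega

/-- `δ₁ - δ_z` -/
noncomputable def f1 : W3 := ⟨fun x => by
    classical exact (if x = 1 then 1 else if x = kZ then -1 else 0), fun x => by
  classical
  have hzz : kZ * kZ = 1 := Subtype.ext (Units.ext (by
    show ((kZ : GL (Fin 4) (ZMod 7)) : Matrix (Fin 4) (Fin 4) (ZMod 7)) *
      ((kZ : GL (Fin 4) (ZMod 7)) : Matrix (Fin 4) (Fin 4) (ZMod 7)) = 1
    rw [kZ_val, neg_mul_neg, one_mul]))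
  have h1 : kZ * x = 1 ↔ x = kZ := by
    constructor
    · intro h; rw [← one_mul x, ← hzz, mul_assoc, h, mul_one]
    · rintro rfl; exact hzz
  have h2 : kZ * x = kZ ↔ x = 1 := mul_eq_left
  have h3 := kZ_ne
  simp only [h1, h2]
  by_cases a : x = 1
  · subst a; simp [Ne.symm h3]
  by_cases b : x = kZ
  · subst b; simp [h3]
  simp [a, b]⟩

theorem kZ_sq : kZ * kZ = 1 := Subtype.ext (Units.ext (by
  show ((kZ : GL (Fin 4) (ZMod 7)) : Matrix (Fin 4) (Fin 4) (ZMod 7)) *
    ((kZ : GL (Fin 4) (ZMod 7)) : Matrix (Fin 4) (Fin 4) (ZMod 7)) = 1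
  rw [kZ_val, neg_mul_neg, one_mul]))

theorem offKer (g : KK) (p j : ℕ) (hg : orderOf g = p) (hp : Odd p) (hj : 0 < j) (hjp : j < p) :
    f1.1 ((g ^ j)⁻¹ * 1) = 0 := by
  have h1 : g ^ j ≠ 1 := pow_ne_one_of_lt_orderOf hj.ne' (hg.symm ▸ hjp)
  have hzi : kZ⁻¹ = kZ := inv_eq_of_mul_eq_one_right kZ_sq
  have h2 : (g ^ j)⁻¹ ≠ kZ := fun h => kZ_ne (by
    have h' : g ^ j = kZ := by rw [← inv_inv (g ^ j), h, hzi]
    obtain ⟨c, hc⟩ := hp
    have hp1 : kZ ^ p = 1 := by
      rw [← h', ← pow_mul, mul_comm, pow_mul, ← hg, pow_orderOf_eq_one, one_pow]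
    rwa [hc, pow_succ, pow_mul, sq, kZ_sq, one_pow, one_mul] at hp1)
  have h1' : (g ^ j)⁻¹ ≠ 1 := fun h => h1 (inv_eq_one.mp h)
  simp only [f1, mul_one, if_neg h1', if_neg h2]

theorem norm_ne (g : KK) (p : ℕ) (hg : orderOf g = p) (hp : Odd p) :
    (∏ j ∈ Finset.range p, act3 (g ^ j) (Multiplicative.ofAdd f1)) ≠ 1 := by
  have heval : ∀ n : ℕ,
      (Multiplicative.toAdd (∏ j ∈ Finset.range n, act3 (g ^ j) (Multiplicative.ofAdd f1))).1 1 =
        ∑ j ∈ Finset.range n, f1.1 ((g ^ j)⁻¹ * 1) := fun n => by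
    induction n with
    | zero => rfl
    | succ n ih =>
      rw [Finset.prod_range_succ, Finset.sum_range_succ, toAdd_mul, AddSubgroup.coe_add, Pi.add_apply, ih]
      rfl
  intro h
  have h' := heval p
  rw [h, Finset.sum_eq_single 0] at h'
  · simp [f1] at h'
  · exact fun j hj hj0 => offKer g p j hg hp (Nat.pos_of_ne_zero hj0) (Finset.mem_range.mp hj)
  · intro hn
    obtain ⟨c, rfl⟩ := hp
    exact absurd (Finset.mem_range.mpr (by omega)) hn

/-- The alternating group of degree 10 is not determined by its set of element orders, not even up to finitely many groups: for every bound N there is a finite group of order greater than N with exactly the same set of element orders as the alternating group of degree 10. -/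
theorem result (N : ℕ) : ∃ (H : Type) (_ : Group H) (_ : Fintype H), N < Fintype.card H ∧ Set.range (orderOf : H → ℕ) = Set.range (orderOf : alternatingGroup (Fin 10) → ℕ) := by
  classical
  rw [Cfsg.Agent.S2477.result]
  let U := Multiplicative W3
  let V := Multiplicative (Fin (N + 1) → Fin 4 → ZMod 7)
  let φ : KK →* MulAut (U × V) := act (Fin (N + 1))
  haveI : Finite KK := inferInstance
  haveI : Finite U := inferInstanceAs (Finite W3)
  haveI : Finite ((U × V) ⋊[φ] KK) := Finite.of_equiv _ SemidirectProduct.equivProd.symm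
  obtain ⟨H, i1, i2, ⟨ε⟩⟩ := Spectrum.exists_small_copy ((U × V) ⋊[φ] KK)
  refine ⟨H, i1, i2, ?_, ?_⟩
  · rw [← Nat.card_eq_fintype_card, Nat.card_congr ε.toEquiv, SemidirectProduct.card, Nat.card_prod,
      show Nat.card V = (7 ^ 4) ^ (N + 1) by
        rw [Nat.card_congr (Multiplicative.toAdd (α := Fin (N + 1) → Fin 4 → ZMod 7)), Nat.card_fun,
          Nat.card_fun, Nat.card_fin, Nat.card_fin, Nat.card_zmod]]
    calc N < 2 ^ N := Nat.lt_two_pow_self
      _ ≤ (7 ^ 4) ^ N := Nat.pow_le_pow_left (by norm_num) N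
      _ ≤ (7 ^ 4) ^ (N + 1) := Nat.pow_le_pow_right (by norm_num) (by omega)
      _ ≤ _ := Nat.le_mul_of_pos_left _ Nat.card_pos
      _ ≤ _ := Nat.le_mul_of_pos_right _ Nat.card_pos
  have hr : Set.range (orderOf : H → ℕ) = Set.range (orderOf : (U × V) ⋊[φ] KK → ℕ) := by
    ext n
    constructor
    · rintro ⟨x, rfl⟩; exact ⟨ε x, ε.orderOf_eq x⟩
    · rintro ⟨x, rfl⟩; exact ⟨ε.symm x, ε.symm.orderOf_eq x⟩
  rw [hr]
  have hU : ∀ u : U, u ^ 3 = 1 := fun u => Multiplicative.toAdd.injective (Subtype.ext (by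
    rw [toAdd_pow, toAdd_one]
    funext x
    simp
    exact Or.inl (by decide)))
  have h70 : ((7 : ℕ) : ZMod 7) = 0 := ZMod.natCast_self 7
  have hV : ∀ v : V, v ^ 7 = 1 := fun v => Multiplicative.toAdd.injective (by
    rw [toAdd_pow, toAdd_one]
    funext i j
    simp only [Pi.smul_apply, Pi.zero_apply, nsmul_eq_mul, h70, zero_mul])
  have hexp : ∀ w : U × V, w ^ 21 = 1 := fun w => by
    refine Prod.ext ?_ ?_
    · rw [Prod.pow_fst, show (21 : ℕ) = 3 * 7 from rfl, pow_mul, hU, one_pow]; rfl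
    · rw [Prod.pow_snd, show (21 : ℕ) = 7 * 3 from rfl, pow_mul, hV, one_pow]; rfl
  have hpow : ∀ (g : KK) (w : U × V), φ g w = w → ∀ j : ℕ, φ (g ^ j) w = w := fun g w h j => by
    induction j with
    | zero => simp
    | succ j ih => rw [pow_succ, map_mul, MulAut.mul_apply, h, ih]
  -- the central involution fixes nothing
  have hz : ∀ w : U × V, φ kZ w = w → w = 1 := by
    intro w hw
    refine Prod.ext (Multiplicative.toAdd.injective (Subtype.ext (funext fun x => ?_)))
      (Multiplicative.toAdd.injective (funext₂ fun i j => ?_))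
    · have h := congrFun (congrArg Subtype.val (congrArg Multiplicative.toAdd (congrArg Prod.fst hw))) (kZ * x)
      change (Multiplicative.toAdd w.1).1 (kZ⁻¹ * (kZ * x)) = (Multiplicative.toAdd w.1).1 (kZ * x) at h
      rw [inv_mul_cancel_left, (Multiplicative.toAdd w.1).2 x] at h
      show (Multiplicative.toAdd w.1).1 x = 0
      revert h
      generalize (Multiplicative.toAdd w.1).1 x = a
      revert a
      decide
    · have h := congrFun (congrFun (congrArg Multiplicative.toAdd (congrArg Prod.snd hw)) i) j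
      change (((kZ : GL (Fin 4) (ZMod 7)) : Matrix (Fin 4) (Fin 4) (ZMod 7)) *ᵥ Multiplicative.toAdd w.2 i) j
        = Multiplicative.toAdd w.2 i j at h
      rw [kZ_val, Matrix.neg_mulVec, Matrix.one_mulVec, Pi.neg_apply] at h
      show Multiplicative.toAdd w.2 i j = 0
      revert h
      generalize Multiplicative.toAdd w.2 i j = a
      revert a
      decide
  -- the odd elements fix nothing in the second factor
  have hfix7 : ∀ (g : KK) (w : U × V), φ g w = w →
      ((1 : Matrix (Fin 4) (Fin 4) (ZMod 7)) + ((g : GL (Fin 4) (ZMod 7)) : Matrix (Fin 4) (Fin 4) (ZMod 7)) +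
          ((g : GL (Fin 4) (ZMod 7)) : Matrix (Fin 4) (Fin 4) (ZMod 7)) ^ 2 = 0 ∨
        (1 : Matrix (Fin 4) (Fin 4) (ZMod 7)) + ((g : GL (Fin 4) (ZMod 7)) : Matrix (Fin 4) (Fin 4) (ZMod 7)) +
          ((g : GL (Fin 4) (ZMod 7)) : Matrix (Fin 4) (Fin 4) (ZMod 7)) ^ 2 +
          ((g : GL (Fin 4) (ZMod 7)) : Matrix (Fin 4) (Fin 4) (ZMod 7)) ^ 3 +
          ((g : GL (Fin 4) (ZMod 7)) : Matrix (Fin 4) (Fin 4) (ZMod 7)) ^ 4 = 0) →
      w.2 = 1 := by
    intro g w hw hN
    refine Multiplicative.toAdd.injective (funext fun i => ?_)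
    set M := ((g : GL (Fin 4) (ZMod 7)) : Matrix (Fin 4) (Fin 4) (ZMod 7))
    set v := Multiplicative.toAdd w.2 i
    have hv : M *ᵥ v = v := congrFun (congrArg Multiplicative.toAdd (congrArg Prod.snd hw)) i
    show v = 0
    rcases hN with h | h <;> have h' := congrArg (· *ᵥ v) h <;>
      simp [pow_succ, Matrix.add_mulVec, ← Matrix.mulVec_mulVec, hv] at h' <;>
      · funext j
        have h'' := congrFun h' j
        simp at h''
        show v j = 0
        revert h''
        generalize v j = a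
        revert a
        decide
  ext n
  constructor
  · rintro ⟨x, rfl⟩
    have key : orderOf x ∣ 8 ∨ orderOf x ∣ 9 ∨ orderOf x ∣ 10 ∨ orderOf x ∣ 12 ∨ orderOf x ∣ 15 ∨
        orderOf x ∣ 21 := by
      obtain ⟨hb, hc⟩ := TwoSymFive.facts x.right.2
      have up : ∀ k : ℕ, (x.right : GL (Fin 4) (ZMod 7)) ^ k = 1 → x.right ^ k = 1 := fun k h =>
        Subtype.ext (by rw [SubmonoidClass.coe_pow]; exact h)
      by_cases h1 : x.right = 1
      · have := pow_mul_eq_one (n := 1) x hexp (by rw [h1, one_pow])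
        rw [one_mul] at this
        exact Or.inr (Or.inr (Or.inr (Or.inr (Or.inr (orderOf_dvd_of_pow_eq_one this)))))
      rcases hc with hc | ⟨k, hk⟩ | ⟨h3, hN⟩ | ⟨h5, hN⟩
      · exact absurd (Subtype.ext hc) h1
      · have hkz : x.right ^ k = kZ := eq_kZ_of_val (by rw [SubmonoidClass.coe_pow]; exact hk)
        have hfix : ∀ w : U × V, φ x.right w = w → w = 1 := fun w hw => hz w (hkz ▸ hpow _ _ hw k)
        rcases hb with h | h | h
        · exact Or.inl (orderOf_dvd_of_pow_eq_one (pow_eq_one_of_fixed x (up _ h) hfix))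
        · exact Or.inr (Or.inr (Or.inl (orderOf_dvd_of_pow_eq_one (pow_eq_one_of_fixed x (up _ h) hfix))))
        · exact Or.inr (Or.inr (Or.inr (Or.inl (orderOf_dvd_of_pow_eq_one (pow_eq_one_of_fixed x (up _ h) hfix)))))
      all_goals
        have triple : ∀ m : ℕ, x.right ^ m = 1 → (x ^ m).left.2 = 1 → x ^ (m * 3) = 1 := fun m hm h2 => by
          rw [pow_mul]
          have hl : x ^ m = SemidirectProduct.inl (x ^ m).left := by
            refine SemidirectProduct.ext (by simp) ?_
            rw [right_pow, hm, SemidirectProduct.right_inl]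
          rw [hl, ← map_pow]
          have : (x ^ m).left ^ 3 = 1 := Prod.ext (hU _) (by rw [Prod.pow_snd, h2, one_pow]; rfl)
          rw [this, map_one]
      · have h2 := hfix7 _ _ (left_pow_fixed x (up _ h3)) (Or.inl hN)
        exact Or.inr (Or.inl (orderOf_dvd_of_pow_eq_one (triple 3 (up _ h3) h2)))
      · have h2 := hfix7 _ _ (left_pow_fixed x (up _ h5)) (Or.inr hN)
        exact Or.inr (Or.inr (Or.inr (Or.inr (Or.inl (orderOf_dvd_of_pow_eq_one (triple 5 (up _ h5) h2))))))
    simp only [Set.mem_insert_iff, Set.mem_singleton_iff]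
    exact mem_spec key
  · intro hn
    -- it is enough to realise six orders
    have down : ∀ m : ℕ, 0 < m → (∃ y : (U × V) ⋊[φ] KK, orderOf y = m) → n ∣ m →
        n ∈ Set.range (orderOf : (U × V) ⋊[φ] KK → ℕ) := by
      rintro m hm ⟨y, hy⟩ ⟨c, hc⟩
      have hc0 : c ≠ 0 := fun h => by rw [h, mul_zero] at hc; omega
      exact ⟨y ^ c, by rw [orderOf_pow_of_dvd hc0 (hy ▸ hc ▸ dvd_mul_left c n), hy, hc,
        Nat.mul_div_cancel _ (Nat.pos_of_ne_zero hc0)]⟩
    have inK : ∀ (g : KK) (m : ℕ) (t : TwoSymFive.T),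
        ((g : GL (Fin 4) (ZMod 7)) : Matrix (Fin 4) (Fin 4) (ZMod 7)) = TwoSymFive.toMat t →
        orderOf (TwoSymFive.toMat t) = m → ∃ y : (U × V) ⋊[φ] KK, orderOf y = m := fun g m t hg hm =>
      ⟨SemidirectProduct.inr g, by
        rw [orderOf_injective _ SemidirectProduct.inr_injective,
          ← orderOf_injective _ TwoSymFive.K.subtype_injective g, ← orderOf_units, ← hm]
        exact congrArg orderOf hg⟩
    haveI := Fact.mk Nat.prime_two
    haveI := Fact.mk Nat.prime_three
    haveI := Fact.mk Nat.prime_five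
    haveI : Fact (Nat.Prime 7) := ⟨by norm_num⟩
    have hf : (Multiplicative.ofAdd f1 : U) ≠ 1 := fun h => by
      have h' := congrFun (congrArg Subtype.val (congrArg Multiplicative.toAdd h)) 1
      simp [f1] at h'
    let v1 : V := Multiplicative.ofAdd fun _ => Pi.single 0 1
    have hv1 : v1 ≠ 1 := fun h => by
      have h' := congrFun (congrFun (congrArg Multiplicative.toAdd h) 0) 0
      simp [v1] at h'
    have o8 : ∃ y : (U × V) ⋊[φ] KK, orderOf y = 8 := inK kA 8 TwoSymFive.genA rfl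
      (TwoSymFive.orderOf_toMat _ 7 (by decide +kernel) (by decide +kernel))
    have o10 : ∃ y : (U × V) ⋊[φ] KK, orderOf y = 10 :=
      inK (kA * kA * kB) 10 (TwoSymFive.mulT (TwoSymFive.mulT TwoSymFive.genA TwoSymFive.genA) TwoSymFive.genB)
        (by simp only [TwoSymFive.toMat_mul]; rfl)
        (TwoSymFive.orderOf_toMat _ 9 (by decide +kernel) (by decide +kernel))
    have o12 : ∃ y : (U × V) ⋊[φ] KK, orderOf y = 12 :=
      inK (kA * kA * kA * kB) 12 (TwoSymFive.mulT (TwoSymFive.mulT (TwoSymFive.mulT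
        TwoSymFive.genA TwoSymFive.genA) TwoSymFive.genA) TwoSymFive.genB)
        (by simp only [TwoSymFive.toMat_mul]; rfl)
        (TwoSymFive.orderOf_toMat _ 11 (by decide +kernel) (by decide +kernel))
    have ordK : ∀ (g : KK) (p : ℕ) (t : TwoSymFive.T),
        ((g : GL (Fin 4) (ZMod 7)) : Matrix (Fin 4) (Fin 4) (ZMod 7)) = TwoSymFive.toMat t →
        orderOf (TwoSymFive.toMat t) = p → orderOf g = p := fun g p t hg hp => by
      rw [← orderOf_injective _ TwoSymFive.K.subtype_injective g, ← orderOf_units, ← hp]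
      exact congrArg orderOf hg
    have o21 : ∃ y : (U × V) ⋊[φ] KK, orderOf y = 21 := by
      refine ⟨SemidirectProduct.inl (Multiplicative.ofAdd f1, v1), ?_⟩
      rw [orderOf_injective _ SemidirectProduct.inl_injective, Prod.orderOf,
        orderOf_eq_prime (hU _) hf, orderOf_eq_prime (hV _) hv1]
      rfl
    have o9 : ∃ y : (U × V) ⋊[φ] KK, orderOf y = 9 := by
      let g : KK := kA * kA * kB * kB * kB
      let t := TwoSymFive.mulT (TwoSymFive.mulT (TwoSymFive.mulT (TwoSymFive.mulT TwoSymFive.genA TwoSymFive.genA)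
        TwoSymFive.genB) TwoSymFive.genB) TwoSymFive.genB
      have hgv : ((g : GL (Fin 4) (ZMod 7)) : Matrix (Fin 4) (Fin 4) (ZMod 7)) = TwoSymFive.toMat t := by
        simp only [t, TwoSymFive.toMat_mul]; rfl
      have hg : orderOf g = 3 :=
        ordK g 3 t hgv (TwoSymFive.orderOf_toMat t 2 (by decide +kernel) (by decide +kernel))
      have h3 : g ^ 3 = 1 := by rw [← hg]; exact pow_orderOf_eq_one g
      have hodd : Odd 3 := by decide
      refine ⟨⟨(Multiplicative.ofAdd f1, 1), g⟩,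
        orderOf_eq_prime_pow (p := 3) (n := 1) (fun h => ?_) ?_⟩
      · refine norm_ne g 3 hg hodd ?_
        have h' := congrArg Prod.fst (congrArg SemidirectProduct.left h)
        rw [left_pow, Prod.fst_prod, SemidirectProduct.one_left, Prod.fst_one, pow_one] at h'
        exact h'
      · have hN := hfix7 g _ (left_pow_fixed (⟨(Multiplicative.ofAdd f1, 1), g⟩ : (U × V) ⋊[φ] KK) h3)
          (Or.inl (by
            rw [hgv, ← TwoSymFive.toMat_zeroT, show TwoSymFive.zeroT =
              TwoSymFive.addT (TwoSymFive.addT TwoSymFive.oneT t) (TwoSymFive.powT t 2) by decide +kernel]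
            rw [TwoSymFive.toMat_add, TwoSymFive.toMat_add, TwoSymFive.toMat_oneT, TwoSymFive.toMat_powT]))
        rw [show 3 ^ (1 + 1) = 3 * 3 from rfl, pow_mul]
        set y : (U × V) ⋊[φ] KK := ⟨(Multiplicative.ofAdd f1, 1), g⟩
        have hl : y ^ 3 = SemidirectProduct.inl (y ^ 3).left := by
          refine SemidirectProduct.ext (by simp) ?_
          rw [right_pow, SemidirectProduct.right_inl]; exact h3
        rw [hl, ← map_pow]
        have : (y ^ 3).left ^ 3 = 1 := Prod.ext (hU _) (by rw [Prod.pow_snd, hN, one_pow]; rfl)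
        rw [this, map_one]
    have o15 : ∃ y : (U × V) ⋊[φ] KK, orderOf y = 15 := by
      let g : KK := kB
      have hg : orderOf g = 5 :=
        ordK g 5 TwoSymFive.genB rfl (TwoSymFive.orderOf_toMat _ 4 (by decide +kernel) (by decide +kernel))
      have h5 : g ^ 5 = 1 := by rw [← hg]; exact pow_orderOf_eq_one g
      have hodd : Odd 5 := by decide
      let e : U × V := (Multiplicative.ofAdd f1, 1)
      let w : U × V := ∏ j ∈ Finset.range 5, φ (g ^ j) e
      have hw : φ g w = w := by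
        simp only [w, map_prod, ← MulAut.mul_apply, ← map_mul, ← pow_succ']
        have := Finset.prod_range_succ' (fun j => φ (g ^ j) e) 5
        rw [Finset.prod_range_succ, h5, pow_zero] at this
        exact (mul_right_cancel this).symm
      have hwne : w ≠ 1 := fun h => by
        refine norm_ne g 5 hg hodd ?_
        have h' := congrArg Prod.fst h
        simp only [w, Prod.fst_prod, Prod.fst_one] at h'
        exact h'
      have hw3 : w ^ 3 = 1 := by
        refine Prod.ext (hU _) ?_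
        rw [Prod.pow_snd, show w.2 = 1 by
          simp only [w, Prod.snd_prod]
          exact Finset.prod_eq_one fun j _ => map_one (act7 _ (g ^ j))]
        simp
      refine ⟨SemidirectProduct.inl w * SemidirectProduct.inr g, ?_⟩
      have hcomm : Commute (SemidirectProduct.inl w : (U × V) ⋊[φ] KK) (SemidirectProduct.inr g) := by
        refine (SemidirectProduct.ext ?_ ?_ : _ = _)
        · simp [hw]
        · simp
      have o3 : orderOf (SemidirectProduct.inl w : (U × V) ⋊[φ] KK) = 3 := by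
        rw [orderOf_injective _ SemidirectProduct.inl_injective]; exact orderOf_eq_prime hw3 hwne
      have o5 : orderOf (SemidirectProduct.inr g : (U × V) ⋊[φ] KK) = 5 := by
        rw [orderOf_injective _ SemidirectProduct.inr_injective, hg]
      rw [hcomm.orderOf_mul_eq_mul_orderOf_of_coprime (by rw [o3, o5]; norm_num), o3, o5]
    simp only [Set.mem_insert_iff, Set.mem_singleton_iff] at hn
    rcases hn with rfl | rfl | rfl | rfl | rfl | rfl | rfl | rfl | rfl | rfl | rfl | rfl | rfl
    all_goals first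
      | (refine down 8 ?_ o8 ?_ <;> norm_num; done)
      | (refine down 9 ?_ o9 ?_ <;> norm_num; done)
      | (refine down 10 ?_ o10 ?_ <;> norm_num; done)
      | (refine down 12 ?_ o12 ?_ <;> norm_num; done)
      | (refine down 15 ?_ o15 ?_ <;> norm_num; done)
      | (refine down 21 ?_ o21 ?_ <;> norm_num; done)

end Cfsg.Agent.S3489
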