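import Cfsg.Statements.S3491
import Cfsg.Agent.Lib.Recog.AffineFour

set_option autoImplicit false
open Cfsg

namespace Cfsg.Agent.S3491

/-- The alternating group of degree 6 is not determined by its set of element orders, not even up to finitely many groups: for every bound N there is a finite group of order greater than N with exactly the same set of element orders as the alternating group of degree 6. -/
theorem result (N : ℕ) : ∃ (H : Type) (_ : Group H) (_ : Fintype H), N < Fintype.card H ∧ Set.range (orderOf : H → ℕ) = Set.range (orderOf : alternatingGroup (Fin 6) → ℕ) := by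
  classical
  haveI : Fintype (GaloisField 2 2) := Fintype.ofFinite _
  have hF : Fintype.card (GaloisField 2 2) = 4 := by
    rw [← Nat.card_eq_fintype_card, GaloisField.card 2 2 two_ne_zero]; norm_num
  obtain ⟨H, i1, i2, hN, hr⟩ := CfsgLib.Recog.Spectrum.exists_large
    (CfsgLib.Recog.AffineTwo.linPart (F := GaloisField 2 2)).ker Nat.prime_two
    CfsgLib.Recog.AffineTwo.ker_ne_bot (fun x => CfsgLib.Recog.AffineTwo.ker_pow_two x) N
  exact ⟨H, i1, i2, hN, by
    rw [hr, CfsgLib.Recog.AffineTwo.spectrum_affine_four hF, CfsgLib.Recog.AffineTwo.spectrum_alt_six]⟩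

end Cfsg.Agent.S3491
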