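import Cfsg.Statements.S3494
import Cfsg.Agent.Lib.Perm.SuborbitKernel

set_option autoImplicit false
open Cfsg
open scoped Pointwise

namespace Cfsg.Agent.S3494

/-- Manning's Theorem on extremely primitive groups. Let a finite group G act faithfully and primitively on a finite set Ω with non-trivial point stabilizers, and suppose every point stabilizer G_α acts primitively on each of its orbits. Then G_α acts faithfully on each of its orbits other than {α}: an element of G_α fixing every point of one such orbit is the identity. -/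
theorem result {G : Type*} [Group G] [Finite G] {Ω : Type*} [Fintype Ω] [MulAction G Ω] [FaithfulSMul G Ω] (hprim : MulAction.IsPreprimitive G Ω) (hH : ∀ α : Ω, MulAction.stabilizer G α ≠ ⊥) (hep : ∀ (α : Ω) (ω : Ω), MulAction.IsPreprimitive (MulAction.stabilizer G α) (MulAction.orbit (MulAction.stabilizer G α) ω))
    (α ω : Ω) (hω : ω ≠ α) (h : MulAction.stabilizer G α) (hfix : ∀ x ∈ MulAction.orbit (MulAction.stabilizer G α) ω, h • x = x) : h = 1 := by
  classical
  haveI := hprim
  haveI : Nontrivial Ω := ⟨⟨ω, α, hω⟩⟩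
  have hco : ∀ p : Ω, IsCoatom (MulAction.stabilizer G p) := fun p =>
    MulAction.IsPreprimitive.isCoatom_stabilizer_of_isPreprimitive G p
  have hne : ∀ p q : Ω, q ≠ p → ¬ MulAction.stabilizer G q ≤ MulAction.stabilizer G p := by
    intro p q hqp hle
    obtain ⟨g, hg⟩ := MulAction.exists_smul_eq G q p
    have he : MulAction.stabilizer G q = MulAction.stabilizer G p :=
      ((hco q).le_iff.1 hle).resolve_left (hco p).1 |>.symm
    have hgN : g ∈ Subgroup.normalizer (MulAction.stabilizer G q : Set G) := by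
      refine CfsgLib.ThompsonWielandt.mem_normalizer_of_conj fun x hx => ?_
      rw [he, ← hg, MulAction.mem_stabilizer_iff, mul_smul, mul_smul, inv_smul_smul,
        MulAction.mem_stabilizer_iff.1 hx]
    have hgq := CfsgLib.SuborbitKernel.normClosed_stabilizer (G := G) q _ le_rfl
      Subgroup.le_normalizer (hH q) hgN
    exact hqp ((MulAction.mem_stabilizer_iff.1 hgq).symm.trans hg)
  -- a set invariant under two point stabilizers is invariant under the whole group
  have hinvset : ∀ (p : Ω) (S : Set Ω) (g : G), S.Nonempty → p ∉ S →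
      (∀ k ∈ MulAction.stabilizer G p, k • S = S) → g • S = S → g ∈ MulAction.stabilizer G p := by
    intro p S g hS hpS hA hg
    by_contra hgp
    have hle : MulAction.stabilizer G p ≤ MulAction.stabilizer G S := fun k hk => hA k hk
    have htop : MulAction.stabilizer G S = ⊤ := (hco p).2 _
      (lt_of_le_of_ne hle fun he => hgp (he.ge (MulAction.mem_stabilizer_iff.2 hg)))
    obtain ⟨s, hs⟩ := hS
    obtain ⟨t, ht⟩ := MulAction.exists_smul_eq G s p
    have h1 : t • S = S := MulAction.mem_stabilizer_iff.1 (htop ▸ Subgroup.mem_top t)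
    exact hpS (h1 ▸ ⟨s, hs, ht⟩)
  have horbinv : ∀ (p q : Ω), ∀ k ∈ MulAction.stabilizer G p,
      k • MulAction.orbit (MulAction.stabilizer G p) q = MulAction.orbit (MulAction.stabilizer G p) q :=
    fun p q k hk => MulAction.smul_orbit (⟨k, hk⟩ : MulAction.stabilizer G p) q
  -- a normal subgroup of a stabilizer is trivial or transitive on a suborbit
  have htrans : ∀ (p q : Ω) (X : Subgroup G), X ≤ MulAction.stabilizer G p →
      MulAction.stabilizer G p ≤ Subgroup.normalizer (X : Set G) →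
      (∀ x ∈ X, ∀ y ∈ MulAction.orbit (MulAction.stabilizer G p) q, x • y = y) ∨
      ∀ y ∈ MulAction.orbit (MulAction.stabilizer G p) q, ∀ z ∈ MulAction.orbit (MulAction.stabilizer G p) q,
        ∃ x ∈ X, x • y = z := by
    intro p q X hX hn
    set N := X.subgroupOf (MulAction.stabilizer G p)
    haveI : N.Normal := (Subgroup.normal_subgroupOf_iff_le_normalizer hX).2 hn
    haveI := hep p q
    by_cases hfix : ∀ x ∈ X, ∀ y ∈ MulAction.orbit (MulAction.stabilizer G p) q, x • y = y
    · exact Or.inl hfix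
    right
    push Not at hfix
    obtain ⟨x, hx, y₀, hy₀, hxy⟩ := hfix
    intro y hy z hz
    set ys : MulAction.orbit (MulAction.stabilizer G p) q := ⟨y, hy⟩
    have hblock : MulAction.IsBlock (MulAction.stabilizer G p)
        (MulAction.orbit N (⟨y₀, hy₀⟩ : MulAction.orbit (MulAction.stabilizer G p) q)) :=
      MulAction.IsBlock.orbit_of_normal _
    rcases MulAction.IsPreprimitive.isTrivialBlock_of_isBlock hblock with hs | hu
    · exfalso
      have h1 := hs (MulAction.mem_orbit
        (⟨y₀, hy₀⟩ : MulAction.orbit (MulAction.stabilizer G p) q) (⟨⟨x, hX hx⟩, hx⟩ : N))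
        (MulAction.mem_orbit_self _)
      exact hxy (congrArg Subtype.val h1)
    · obtain ⟨n₁, hn₁⟩ := hu.ge (Set.mem_univ ys)
      obtain ⟨n₂, hn₂⟩ := hu.ge (Set.mem_univ
        (⟨z, hz⟩ : MulAction.orbit (MulAction.stabilizer G p) q))
      refine ⟨((n₂ * n₁⁻¹ : N) : MulAction.stabilizer G p), (n₂ * n₁⁻¹).2, ?_⟩
      have h1 : (n₂ * n₁⁻¹ : N) • ys = ⟨z, hz⟩ := by rw [← hn₁, mul_smul, inv_smul_smul]; exact hn₂
      exact congrArg Subtype.val h1
  have hcoreFix : ∀ (p q : Ω), ∀ x ∈ CfsgLib.ThompsonWielandt.coreIn (MulAction.stabilizer G p) (MulAction.stabilizer G q),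
      ∀ y ∈ MulAction.orbit (MulAction.stabilizer G p) q, x • y = y := by
    rintro p q x hx y ⟨⟨l, hl⟩, rfl⟩
    have h1 := MulAction.mem_stabilizer_iff.1 (hx.2 l⁻¹ ((MulAction.stabilizer G p).inv_mem hl))
    rw [inv_inv, mul_smul, mul_smul, inv_smul_eq_iff] at h1
    exact h1
  have hcoreMem : ∀ (p q : Ω) (x : G), x ∈ MulAction.stabilizer G p →
      (∀ y ∈ MulAction.orbit (MulAction.stabilizer G p) q, x • y = y) →
      x ∈ CfsgLib.ThompsonWielandt.coreIn (MulAction.stabilizer G p) (MulAction.stabilizer G q) := by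
    intro p q x hx hy
    refine ⟨hx, fun k hk => MulAction.mem_stabilizer_iff.2 ?_⟩
    have h1 : x • k⁻¹ • q = k⁻¹ • q := hy _ ⟨⟨k⁻¹, (MulAction.stabilizer G p).inv_mem hk⟩, rfl⟩
    rw [mul_smul, mul_smul, h1, smul_inv_smul]
  -- the largest suborbit
  obtain ⟨β, hβ, hmax⟩ := Finset.exists_max_image (Finset.univ.filter (· ≠ α))
    (fun y => Nat.card (MulAction.orbit (MulAction.stabilizer G α) y))
    ⟨ω, by simpa using hω⟩
  rw [Finset.mem_filter] at hβ
  set n := Nat.card (MulAction.orbit (MulAction.stabilizer G α) β)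
  have hmax' : ∀ p q : Ω, q ≠ p → Nat.card (MulAction.orbit (MulAction.stabilizer G p) q) ≤ n := by
    intro p q hqp
    obtain ⟨g, rfl⟩ := MulAction.exists_smul_eq G α p
    rw [← smul_inv_smul g q, CfsgLib.SuborbitKernel.card_orbit_smul]
    refine hmax _ (Finset.mem_filter.2 ⟨Finset.mem_univ _, fun he => hqp ?_⟩)
    rw [← he, smul_inv_smul]
  -- a non-trivial kernel fixes every largest suborbit
  have hfixmax : ∀ p q w : Ω, q ≠ p →
      CfsgLib.ThompsonWielandt.coreIn (MulAction.stabilizer G p) (MulAction.stabilizer G q) ≠ ⊥ →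
      w ≠ p → Nat.card (MulAction.orbit (MulAction.stabilizer G p) w) = n →
      CfsgLib.ThompsonWielandt.coreIn (MulAction.stabilizer G p) (MulAction.stabilizer G q) ≤
        CfsgLib.ThompsonWielandt.coreIn (MulAction.stabilizer G p) (MulAction.stabilizer G w) := by
    intro p q w hqp _ hwp hw
    set X := CfsgLib.ThompsonWielandt.coreIn (MulAction.stabilizer G p) (MulAction.stabilizer G q)
    rcases htrans p w X CfsgLib.ThompsonWielandt.coreIn_le_left
      CfsgLib.ThompsonWielandt.le_normalizer_coreIn with hall | htr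
    · exact fun x hx => hcoreMem p w x (CfsgLib.ThompsonWielandt.coreIn_le_left hx) (hall x hx)
    intro x hx
    by_cases hwq : q ∈ MulAction.orbit (MulAction.stabilizer G p) w
    · refine hcoreMem p w x (CfsgLib.ThompsonWielandt.coreIn_le_left hx) fun y hy => ?_
      rw [← MulAction.orbit_eq_iff.2 hwq] at hy
      exact hcoreFix p q x hx y hy
    exfalso
    have hsub : MulAction.orbit (MulAction.stabilizer G p) w ⊆
        MulAction.orbit (MulAction.stabilizer G q) w := fun y hy => by
      obtain ⟨x', hx', rfl⟩ := htr w (MulAction.mem_orbit_self w) y hy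
      exact ⟨⟨x', CfsgLib.ThompsonWielandt.coreIn_le_right hx'⟩, rfl⟩
    have heq : MulAction.orbit (MulAction.stabilizer G p) w =
        MulAction.orbit (MulAction.stabilizer G q) w := by
      refine Set.eq_of_subset_of_ncard_le hsub ?_ (Set.toFinite _)
      rw [← Nat.card_coe_set_eq, ← Nat.card_coe_set_eq, hw]
      exact hmax' q w fun he => hwq (he ▸ MulAction.mem_orbit_self _)
    refine hne p q hqp fun k hk => hinvset p _ k (MulAction.nonempty_orbit w)
      (fun hm => hwp (by
        obtain ⟨⟨l, hl⟩, hlw⟩ := hm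
        exact smul_left_cancel l ((hlw : l • w = p).trans (MulAction.mem_stabilizer_iff.1 hl).symm)))
      (horbinv p w) (by rw [heq]; exact horbinv q w k hk)
  by_contra hh1
  have hX : CfsgLib.ThompsonWielandt.coreIn (MulAction.stabilizer G α) (MulAction.stabilizer G ω) ≠ ⊥ := by
    intro hb
    have hm : (h : G) ∈ CfsgLib.ThompsonWielandt.coreIn (MulAction.stabilizer G α) (MulAction.stabilizer G ω) :=
      hcoreMem α ω h h.2 hfix
    rw [hb, Subgroup.mem_bot] at hm
    exact hh1 (Subtype.ext hm)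
  clear hfix hh1
  set A := MulAction.stabilizer G α
  set B := MulAction.stabilizer G β
  set M := CfsgLib.ThompsonWielandt.coreIn A B with hM
  have hMne : M ≠ ⊥ := fun hb => hX (le_bot_iff.1 (hb ▸ hfixmax α ω β hω hX hβ.2 rfl))
  -- the kernel at `β` on the suborbit of `α` is conjugate to `M`
  obtain ⟨g, hg⟩ := MulAction.exists_smul_eq G α β
  have hBe : B = A.map (MulAut.conj g).toMonoidHom := by
    rw [show B = MulAction.stabilizer G (g • α) by rw [hg]]
    exact MulAction.stabilizer_smul_eq_stabilizer_map_conj g α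
  set Q := CfsgLib.ThompsonWielandt.coreIn B A with hQ
  have hQM : Nat.card Q = Nat.card M := by
    have hw : g⁻¹ • α ≠ α := fun he => hβ.2 (by rw [← hg, ← he, smul_inv_smul, he])
    have hcard : Nat.card (MulAction.orbit A (g⁻¹ • α)) = n := by
      rw [← CfsgLib.SuborbitKernel.card_orbit_smul g α (g⁻¹ • α), hg, smul_inv_smul,
        CfsgLib.SuborbitKernel.card_orbit_symm]
    set M' := CfsgLib.ThompsonWielandt.coreIn A (MulAction.stabilizer G (g⁻¹ • α))
    have hMM' : M ≤ M' := hfixmax α β _ hβ.2 hMne hw hcard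
    have hM'ne : M' ≠ ⊥ := fun hb => hMne (le_bot_iff.1 (hb ▸ hMM'))
    have heq : M = M' := le_antisymm hMM' (hfixmax α _ β hw hM'ne hβ.2 rfl)
    have hQe : Q = M'.map (MulAut.conj g).toMonoidHom := by
      ext y
      constructor
      · intro hy
        obtain ⟨z, hz, rfl⟩ := hBe.le hy.1
        refine ⟨z, ⟨hz, fun k hk => MulAction.mem_stabilizer_iff.2 ?_⟩, rfl⟩
        have h1 := MulAction.mem_stabilizer_iff.1 (hy.2 (g * k * g⁻¹) (hBe.ge ⟨k, hk, rfl⟩))
        simp only [MulEquiv.coe_toMonoidHom, MulAut.conj_apply, mul_inv_rev, inv_inv, mul_smul,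
          inv_smul_smul] at h1
        rw [mul_smul, mul_smul]
        exact eq_inv_smul_iff.2 h1
      · rintro ⟨z, hz, rfl⟩
        refine ⟨hBe.ge ⟨z, hz.1, rfl⟩, fun k hk => MulAction.mem_stabilizer_iff.2 ?_⟩
        obtain ⟨k', hk', rfl⟩ := hBe.le hk
        have h1 := MulAction.mem_stabilizer_iff.1 (hz.2 k' hk')
        rw [mul_smul, mul_smul] at h1
        simp only [MulEquiv.coe_toMonoidHom, MulAut.conj_apply, mul_inv_rev, inv_inv, mul_smul,
          inv_smul_smul]
        rw [h1, smul_inv_smul]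
    rw [hQe, heq]
    exact (Nat.card_congr (M'.equivMapOfInjective _ (MulAut.conj g).injective).toEquiv).symm
  have hnle : ¬ M ≤ Q := by
    intro hle
    have he : M = Q := Subgroup.eq_of_le_of_card_ge hle hQM.le
    refine hne α β hβ.2 ?_
    refine le_trans ?_ (CfsgLib.SuborbitKernel.normClosed_stabilizer (G := G) α M
      CfsgLib.ThompsonWielandt.coreIn_le_left CfsgLib.ThompsonWielandt.le_normalizer_coreIn hMne)
    rw [he]
    exact CfsgLib.ThompsonWielandt.le_normalizer_coreIn
  obtain ⟨x, hxM, hxQ⟩ := SetLike.not_le_iff_exists.1 hnle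
  have hxB : x ∈ B := CfsgLib.ThompsonWielandt.coreIn_le_right hxM
  obtain ⟨γ, hγO, hxγ⟩ : ∃ γ ∈ MulAction.orbit B α, x • γ ≠ γ := by
    by_contra hall
    push Not at hall
    exact hxQ (hcoreMem β α x hxB hall)
  have hγα : γ ≠ α := fun he => hxγ (by
    rw [he]; exact MulAction.mem_stabilizer_iff.1 (CfsgLib.ThompsonWielandt.coreIn_le_left hxM))
  have hΓ : MulAction.orbit A γ ⊆ MulAction.orbit B α := by
    rcases htrans α γ M CfsgLib.ThompsonWielandt.coreIn_le_left
      CfsgLib.ThompsonWielandt.le_normalizer_coreIn with hall | htr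
    · exact absurd (hall x hxM γ (MulAction.mem_orbit_self γ)) hxγ
    · intro y hy
      obtain ⟨x', hx', rfl⟩ := htr γ (MulAction.mem_orbit_self γ) y hy
      exact CfsgLib.SuborbitKernel.smul_mem_orbit_of
        (CfsgLib.ThompsonWielandt.coreIn_le_right hx') hγO
  obtain ⟨⟨m, hm⟩, hmγ⟩ := hγO
  have hmα : m • α = γ := hmγ
  have hmaps : ∀ y ∈ MulAction.orbit A β, m⁻¹ • y ∈ MulAction.orbit A β := by
    rintro _ ⟨⟨k, hk⟩, rfl⟩
    obtain ⟨⟨m₁, hm₁⟩, hm₁e⟩ := hΓ ⟨⟨k⁻¹, A.inv_mem hk⟩, rfl⟩
    have hm₁α : m₁ • α = k⁻¹ • γ := hm₁e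
    refine ⟨⟨m⁻¹ * k * m₁, MulAction.mem_stabilizer_iff.2 ?_⟩, ?_⟩
    · rw [mul_smul, mul_smul, hm₁α, smul_inv_smul, ← hmα, inv_smul_smul]
    · show (m⁻¹ * k * m₁) • β = m⁻¹ • k • β
      rw [mul_smul, mul_smul, MulAction.mem_stabilizer_iff.1 hm₁]
  have hset : m⁻¹ • MulAction.orbit A β = MulAction.orbit A β := by
    refine Set.eq_of_subset_of_ncard_le ?_ (le_of_eq ?_) (Set.toFinite _)
    · rintro _ ⟨y, hy, rfl⟩; exact hmaps y hy
    · rw [Set.ncard_smul_set]
  have hβα : α ∉ MulAction.orbit A β := fun hm' => hβ.2 (by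
    obtain ⟨⟨l, hl⟩, hlb⟩ := hm'
    exact smul_left_cancel l ((hlb : l • β = α).trans (MulAction.mem_stabilizer_iff.1 hl).symm))
  have hmA := hinvset α _ m⁻¹ (MulAction.nonempty_orbit β) hβα (horbinv α β) hset
  exact hγα (hmα.symm.trans (MulAction.mem_stabilizer_iff.1 (inv_inv m ▸ A.inv_mem hmA)))

end Cfsg.Agent.S3494
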