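import Cfsg.Statements.S3495
import Mathlib

set_option autoImplicit false
open Cfsg

namespace Cfsg.Agent.S3495

/-- Let a finite group G act faithfully and primitively on a finite set Ω with non-trivial point stabilizers, each acting primitively on every one of its orbits (an extremely primitive group), and suppose G has an elementary abelian normal p-subgroup N acting regularly on Ω (affine type). Then every non-trivial subgroup M of a point stabilizer G_α that is normal in G_α has the same orbits on Ω as G_α, and normalizes no subgroup of N other than 1 and N. -/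
theorem result {G : Type*} [Group G] [Finite G] {Ω : Type*} [Fintype Ω] [MulAction G Ω] [FaithfulSMul G Ω] (hprim : MulAction.IsPreprimitive G Ω) (hH : ∀ α : Ω, MulAction.stabilizer G α ≠ ⊥) (hep : ∀ (α : Ω) (ω : Ω), MulAction.IsPreprimitive (MulAction.stabilizer G α) (MulAction.orbit (MulAction.stabilizer G α) ω))
    (N : Subgroup G) [N.Normal] (hNc : IsMulCommutative N) (p : ℕ) (hp : p.Prime) (hNp : ∀ n ∈ N, n ^ p = 1)
    (hNtr : MulAction.IsPretransitive N Ω) (hNreg : ∀ ω : Ω, MulAction.stabilizer N ω = ⊥) (α : Ω) (M : Subgroup G) (hM : M ≠ ⊥) (hMle : M ≤ MulAction.stabilizer G α)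
    (hMn : MulAction.stabilizer G α ≤ Subgroup.normalizer (M : Set G)) :
    (∀ ω : Ω, MulAction.orbit M ω = MulAction.orbit (MulAction.stabilizer G α) ω) ∧
    (∀ L : Subgroup G, L ≤ N → M ≤ Subgroup.normalizer (L : Set G) → L = ⊥ ∨ L = N) := by
  classical
  haveI := hprim
  haveI := hNtr
  have hreg : ∀ n ∈ N, ∀ ω : Ω, n • ω = ω → n = 1 := fun n hn ω h => by
    have : (⟨n, hn⟩ : N) ∈ MulAction.stabilizer N ω := h
    rw [hNreg, Subgroup.mem_bot] at this
    exact congrArg Subtype.val this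
  have hH' : ∀ h : G, h • α = α → ∀ x, x ∈ M ↔ h * x * h⁻¹ ∈ M := fun h hh x =>
    Subgroup.mem_normalizer_iff.mp (hMn hh) x
  -- a subgroup of `N` normalized by the stabilizer is trivial or `N`
  have hirr : ∀ L : Subgroup G, L ≤ N → (∀ h : G, h • α = α → ∀ x ∈ L, h * x * h⁻¹ ∈ L) → L = ⊥ ∨ L = N := by
    intro L hLN hinv
    have hLn : L.Normal := by
      refine ⟨fun x hx g => ?_⟩
      obtain ⟨n, hn⟩ := MulAction.exists_smul_eq N α (g • α)
      have hs : ((n : G)⁻¹ * g) • α = α := by rw [mul_smul, inv_smul_eq_iff]; exact hn.symm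
      have h1 := hinv _ hs x hx
      have h2 : (n : G) * (((n : G)⁻¹ * g) * x * ((n : G)⁻¹ * g)⁻¹) * (n : G)⁻¹ = ((n : G)⁻¹ * g) * x * ((n : G)⁻¹ * g)⁻¹ := by
        rw [mul_inv_eq_iff_eq_mul]
        exact congrArg Subtype.val (hNc.is_comm.comm n (⟨_, hLN h1⟩ : N))
      have h3 : (n : G) * (((n : G)⁻¹ * g) * x * ((n : G)⁻¹ * g)⁻¹) * (n : G)⁻¹ = g * x * g⁻¹ := by
        simp [mul_assoc]
      rw [← h3, h2]; exact h1
    haveI := hLn
    by_cases hf : MulAction.fixedPoints L Ω = Set.univ
    · left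
      rw [eq_bot_iff]
      intro x hx
      rw [Subgroup.mem_bot]
      refine hreg x (hLN hx) α ?_
      have : α ∈ MulAction.fixedPoints L Ω := hf ▸ Set.mem_univ α
      exact this ⟨x, hx⟩
    · right
      haveI := MulAction.IsQuasiPreprimitive.isPretransitive_of_normal (G := G) hf
      refine le_antisymm hLN fun n hn => ?_
      obtain ⟨l, hl⟩ := MulAction.exists_smul_eq L α (n • α)
      have h1 : n⁻¹ * (l : G) = 1 := hreg _ (N.mul_mem (N.inv_mem hn) (hLN l.2)) α (by
        rw [mul_smul, inv_smul_eq_iff]; exact hl)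
      rw [inv_mul_eq_one] at h1
      rw [h1]; exact l.2
  have hfaith : M ⊓ Subgroup.centralizer (N : Set G) = ⊥ := by
    rw [eq_bot_iff]
    rintro x ⟨hx, hxc⟩
    rw [Subgroup.mem_bot]
    refine FaithfulSMul.eq_of_smul_eq_smul (α := Ω) fun ω => ?_
    obtain ⟨n, rfl⟩ := MulAction.exists_smul_eq N α ω
    rw [one_smul]
    show x • (n : G) • α = (n : G) • α
    rw [← mul_smul, ← Subgroup.mem_centralizer_iff.mp hxc n n.2, mul_smul]
    have hxα : x • α = α := hMle hx
    rw [hxα]
  -- only `α` is fixed by `M`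
  have hfix : ∀ ω : Ω, (∀ x ∈ M, x • ω = ω) → ω = α := by
    intro ω hω
    obtain ⟨n, hn⟩ := MulAction.exists_smul_eq N α ω
    let L : Subgroup G := N ⊓ Subgroup.centralizer (M : Set G)
    have hnL : (n : G) ∈ L := by
      refine ⟨n.2, Subgroup.mem_centralizer_iff.mpr fun x hx => ?_⟩
      have h1 := hω x hx
      rw [← hn] at h1
      have hxα : x⁻¹ • α = α := by rw [inv_smul_eq_iff]; exact (hMle hx).symm
      have h1' : x • (n : G) • α = (n : G) • α := h1
      have h2 : (n : G)⁻¹ * (x * n * x⁻¹) = 1 := hreg _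
        (N.mul_mem (N.inv_mem n.2) ((inferInstance : N.Normal).conj_mem _ n.2 x)) α
        (by rw [mul_smul, inv_smul_eq_iff, mul_smul, mul_smul, hxα, h1'])
      rw [inv_mul_eq_one, eq_mul_inv_iff_mul_eq] at h2
      exact h2.symm
    rcases hirr L inf_le_left (fun h hh x hx => ⟨(inferInstance : N.Normal).conj_mem _ hx.1 h,
      Subgroup.mem_centralizer_iff.mpr fun y hy => by
        have hy' := (hH' h⁻¹ (by rw [inv_smul_eq_iff]; exact hh.symm) y).mp hy
        have h1 := Subgroup.mem_centralizer_iff.mp hx.2 _ hy'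
        rw [inv_inv] at h1
        have h2 : h * (h⁻¹ * y * h * x) * h⁻¹ = h * (x * (h⁻¹ * y * h)) * h⁻¹ := by rw [h1]
        simpa [mul_assoc] using h2⟩) with hL | hL
    · rw [hL, Subgroup.mem_bot] at hnL
      rw [← hn]
      show (n : G) • α = α
      rw [hnL, one_smul]
    · exfalso
      apply hM
      rw [eq_bot_iff, ← hfaith]
      refine le_inf le_rfl fun x hx => Subgroup.mem_centralizer_iff.mpr fun m hm => ?_
      have hm' : m ∈ L := hL.symm ▸ hm
      exact (Subgroup.mem_centralizer_iff.mp hm'.2 x hx).symm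
  have horb : ∀ ω : Ω, MulAction.orbit M ω = MulAction.orbit (MulAction.stabilizer G α) ω := by
    intro ω
    apply Set.Subset.antisymm
    · rintro _ ⟨x, rfl⟩
      exact ⟨⟨x, hMle x.2⟩, rfl⟩
    · rintro _ ⟨s, rfl⟩
      by_cases hω : ω = α
      · subst hω
        exact ⟨1, (one_smul M ω).trans (MulAction.mem_stabilizer_iff.mp s.2).symm⟩
      haveI := hep α ω
      let M' := M.subgroupOf (MulAction.stabilizer G α)
      haveI : M'.Normal := (Subgroup.normal_subgroupOf_iff_le_normalizer hMle).mpr hMn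
      have hf : MulAction.fixedPoints M' (MulAction.orbit (MulAction.stabilizer G α) ω) ≠ Set.univ := by
        intro hf
        apply hω
        refine hfix ω fun x hx => ?_
        have h1 : (⟨ω, MulAction.mem_orbit_self ω⟩ : MulAction.orbit (MulAction.stabilizer G α) ω) ∈
            MulAction.fixedPoints M' (MulAction.orbit (MulAction.stabilizer G α) ω) := hf ▸ Set.mem_univ _
        exact congrArg Subtype.val (h1 ⟨⟨x, hMle hx⟩, hx⟩)
      haveI := MulAction.IsQuasiPreprimitive.isPretransitive_of_normal (G := MulAction.stabilizer G α) hf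
      obtain ⟨x, hx⟩ := MulAction.exists_smul_eq M'
        (⟨ω, MulAction.mem_orbit_self ω⟩ : MulAction.orbit (MulAction.stabilizer G α) ω) ⟨s • ω, s, rfl⟩
      exact ⟨⟨_, x.2⟩, congrArg Subtype.val hx⟩
  refine ⟨horb, fun L hLN hLM => hirr L hLN fun h hh x hx => ?_⟩
  have hmem : h • x • α ∈ MulAction.orbit M (x • α) := by
    rw [horb]; exact ⟨⟨h, hh⟩, rfl⟩
  obtain ⟨m, hm⟩ := hmem
  have hm2 : (m : G) * x * (m : G)⁻¹ ∈ L := (Subgroup.mem_normalizer_iff.mp (hLM m.2) x).mp hx
  have hmi : (m : G)⁻¹ • α = α := by rw [inv_smul_eq_iff]; exact (hMle m.2).symm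
  have hhi : h⁻¹ • α = α := by rw [inv_smul_eq_iff]; exact hh.symm
  have h4 : (h * x * h⁻¹)⁻¹ * ((m : G) * x * (m : G)⁻¹) = 1 := hreg _
    (N.mul_mem (N.inv_mem ((inferInstance : N.Normal).conj_mem _ (hLN hx) h)) (hLN hm2)) α (by
      rw [mul_smul, inv_smul_eq_iff, mul_smul, mul_smul, mul_smul, mul_smul, hmi, hhi]
      exact hm)
  rw [inv_mul_eq_one] at h4
  rw [h4]; exact hm2

end Cfsg.Agent.S3495
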