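import Cfsg.Statements.S3496
import Cfsg.Agent.Lib.Perm.ExtremelyPrimitiveSolvable
-- import your own Cfsg.Agent.* helpers here

set_option autoImplicit false
open Cfsg
open scoped IsMulCommutative

namespace Cfsg.Agent.S3496

set_option linter.all false

/-- The soluble extremely primitive groups. Let a finite solvable group G act faithfully and primitively on a finite set Ω with p ^ d points (p prime), with non-trivial point stabilizers each acting primitively on every one of its orbits. Then there is a prime q such that every orbit of a point stabilizer G_α other than {α} has exactly q points, q divides p ^ d − 1 but no p ^ i − 1 with 0 < i < d, and G_α has a normal subgroup T of order q with G_α generated by T and one further element and the order of G_α dividing q·d (so G_α is cyclic of order q, or an extension of T by a cyclic group of order dividing d). -/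
theorem result {G : Type*} [Group G] [Finite G] {Ω : Type*} [Fintype Ω] [MulAction G Ω] [FaithfulSMul G Ω] [Group.IsSolvable G] (p d : ℕ) (hp : p.Prime) (hcard : Fintype.card Ω = p ^ d)
    (hprim : MulAction.IsPreprimitive G Ω) (hH : ∀ α : Ω, MulAction.stabilizer G α ≠ ⊥) (hep : ∀ (α : Ω) (ω : Ω), MulAction.IsPreprimitive (MulAction.stabilizer G α) (MulAction.orbit (MulAction.stabilizer G α) ω)) (α : Ω) :
    ∃ q : ℕ, q.Prime ∧ (∀ ω : Ω, ω ≠ α → Nat.card (MulAction.orbit (MulAction.stabilizer G α) ω) = q) ∧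
      q ∣ p ^ d - 1 ∧ (∀ i : ℕ, 0 < i → i < d → ¬ q ∣ p ^ i - 1) ∧
      ∃ T : Subgroup G, T ≤ MulAction.stabilizer G α ∧ MulAction.stabilizer G α ≤ Subgroup.normalizer (T : Set G) ∧ Nat.card T = q ∧
        (∃ h : G, MulAction.stabilizer G α = T ⊔ Subgroup.zpowers h) ∧ Nat.card (MulAction.stabilizer G α) ∣ q * d := by
  haveI := Fintype.ofFinite G
  set H := MulAction.stabilizer G α with hHdef
  haveI : Nontrivial G := by
    rcases subsingleton_or_nontrivial G with h | h
    · exact absurd (Subsingleton.elim _ _) (hH α)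
    · exact h
  obtain ⟨N, hNn, hNb, hNc, ⟨r, hr, hpg, hexp⟩, hbij, hirr, hfaith⟩ :=
    CfsgLib.Perm.ExtremelyPrimitive.exists_regular_normal hprim α
  haveI := hNn
  haveI := hNc
  have hcardN : Nat.card N = p ^ d := by
    rw [Nat.card_congr (Equiv.ofBijective _ hbij), Nat.card_eq_fintype_card, hcard]
  have hN1 : 1 < Nat.card N := Subgroup.one_lt_card_iff_ne_bot _ |>.2 hNb
  have hrp : r = p := by
    haveI := Fact.mk hr
    obtain ⟨k, hk⟩ := IsPGroup.iff_card.1 hpg
    have hk0 : k ≠ 0 := by rintro rfl; simp [hk] at hN1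
    have : r ∣ p ^ d := hcardN ▸ hk ▸ dvd_pow_self r hk0
    exact (Nat.prime_dvd_prime_iff_eq hr hp).1 (hr.dvd_of_dvd_pow this)
  subst hrp
  have hsmul : ∀ h ∈ H, ∀ n : G, h • (n • α) = (h * n * h⁻¹) • α := by
    intro h hh n
    rw [mul_smul, mul_smul, show h⁻¹ • α = α from H.inv_mem hh]
  have hinjN : ∀ a ∈ N, ∀ b ∈ N, a • α = b • α → a = b := fun a ha b hb e =>
    congrArg Subtype.val (hbij.1 (a₁ := ⟨a, ha⟩) (a₂ := ⟨b, hb⟩) e)
  -- a minimal normal subgroup of H
  haveI : Nontrivial H := (Subgroup.nontrivial_iff_ne_bot H).2 (hH α)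
  obtain ⟨T₀, hT₀n, hT₀b, -, hT₀min⟩ :=
    CfsgLib.Core.exists_minimal_normal_le' (⊤ : Subgroup H) top_ne_bot
  haveI := hT₀n
  obtain ⟨q, hq, -, hT₀c, hT₀exp⟩ :=
    CfsgLib.Core.isPGroup_of_minimal_normal T₀ inferInstance hT₀b hT₀min
  haveI := hT₀c
  haveI := Fact.mk hq
  have hT₀comm : ∀ {a b : H}, a ∈ T₀ → b ∈ T₀ → a * b = b * a := fun ha hb =>
    congrArg Subtype.val (hT₀c.is_comm.comm ⟨_, ha⟩ ⟨_, hb⟩)
  set T := T₀.map H.subtype with hTdef
  have hTH : T ≤ H := Subgroup.map_subtype_le T₀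
  have hTmem : ∀ {t : G}, t ∈ T → ∃ s ∈ T₀, (s : G) = t := fun ht => Subgroup.mem_map.1 ht
  haveI hTc : IsMulCommutative T := Subgroup.map_isMulCommutative _ _
  have hTconj : ∀ h ∈ H, ∀ t ∈ T, h * t * h⁻¹ ∈ T := by
    intro h hh t ht
    obtain ⟨s, hs, rfl⟩ := hTmem ht
    exact ⟨⟨h, hh⟩ * s * ⟨h, hh⟩⁻¹, hT₀n.conj_mem s hs _, rfl⟩
  -- T has no fixed points on N
  have hCN : ∀ n ∈ N, (∀ t ∈ T, t * n = n * t) → n = 1 := by
    have hinv : ∀ h ∈ H, ∀ m ∈ N ⊓ Subgroup.centralizer (T : Set G),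
        h * m * h⁻¹ ∈ N ⊓ Subgroup.centralizer (T : Set G) := by
      intro h hh m hm
      refine ⟨hNn.conj_mem m hm.1 h, Subgroup.mem_centralizer_iff.2 fun t ht => ?_⟩
      have h1 := Subgroup.mem_centralizer_iff.1 hm.2 _ (hTconj h⁻¹ (inv_mem hh) t ht)
      calc t * (h * m * h⁻¹) = h * (h⁻¹ * t * h⁻¹⁻¹ * m) * h⁻¹ := by group
        _ = h * (m * (h⁻¹ * t * h⁻¹⁻¹)) * h⁻¹ := by rw [h1]
        _ = h * m * h⁻¹ * t := by group
    rcases hirr (N ⊓ Subgroup.centralizer (T : Set G)) inf_le_left hinv with h | h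
    · intro n hn hc
      exact Subgroup.mem_bot.1 (h.le ⟨hn, Subgroup.mem_centralizer_iff.2 hc⟩)
    · exfalso
      refine hT₀b ((Subgroup.eq_bot_iff_forall _).2 fun s hs => Subtype.ext ?_)
      exact hfaith s s.2 fun n hn =>
        Subgroup.mem_centralizer_iff.1 (h.ge hn).2 s ⟨s, hs, rfl⟩
  -- T is regular on every orbit
  have hmove : ∀ ω : Ω, ω ≠ α → ∃ s ∈ T₀, s • ω ≠ ω := by
    intro ω hω
    by_contra hc
    push Not at hc
    obtain ⟨n, hn⟩ := hbij.2 ω
    simp only at hn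
    refine hω ?_
    rw [← hn, hCN n n.2 fun t ht => ?_, one_smul]
    obtain ⟨s, hs, rfl⟩ := hTmem ht
    have h1 := hc s hs
    rw [← hn, Subgroup.smul_def, hsmul s s.2] at h1
    exact mul_inv_eq_iff_eq_mul.1 (hinjN _ (hNn.conj_mem n n.2 s) _ n.2 h1)
  have htrans : ∀ ω : Ω, ω ≠ α → ∀ β ∈ MulAction.orbit H ω, ∃ s ∈ T₀, s • ω = β :=
    fun ω hω β hβ => CfsgLib.Perm.ExtremelyPrimitive.exists_smul_eq_of_normal (hep α ω) T₀ (hmove ω hω) hβ
  have hsemi : ∀ ω : Ω, ω ≠ α → ∀ s ∈ T₀, s • ω = ω → s = 1 := by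
    intro ω hω
    have hall : ∀ s ∈ T₀, s • ω = ω → ∀ β ∈ MulAction.orbit H ω, s • β = β := by
      intro s hs e β hβ
      obtain ⟨t, ht, rfl⟩ := htrans ω hω β hβ
      rw [smul_smul, hT₀comm hs ht, mul_smul, e]
    let K : Subgroup H := T₀ ⊓ MulAction.stabilizer H ω
    have hKn : K.Normal := by
      refine ⟨fun s hs h => ⟨hT₀n.conj_mem s hs.1 h, MulAction.mem_stabilizer_iff.2 ?_⟩⟩
      rw [mul_smul, mul_smul, hall s hs.1 hs.2 _ (MulAction.mem_orbit ω _), smul_inv_smul]
    rcases hT₀min K hKn inf_le_left with h | h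
    · intro s hs e
      exact Subgroup.mem_bot.1 (h.le ⟨hs, e⟩)
    · obtain ⟨s, hs, hne⟩ := hmove ω hω
      exact absurd (h.ge hs).2 hne
  have hfpf : ∀ a ∈ T, a ≠ 1 → N ⊓ Subgroup.centralizer {a} = ⊥ := by
    intro a ha ha1
    obtain ⟨s, hs, rfl⟩ := hTmem ha
    refine (Subgroup.eq_bot_iff_forall _).2 fun n hn => ?_
    by_contra hn1
    refine ha1 (congrArg Subtype.val (hsemi (n • α) (fun e => hn1 ?_) s hs ?_))
    · exact hinjN n hn.1 1 N.one_mem (by rw [one_smul, e])
    · rw [Subgroup.smul_def, hsmul s s.2, ← Subgroup.mem_centralizer_singleton_iff.1 hn.2,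
        mul_inv_cancel_right]
  have hTN : T ≤ Subgroup.normalizer (N : Set G) := by
    rw [Subgroup.normalizer_eq_top]; exact le_top
  -- T has order q
  haveI hTcyc : IsCyclic T := CfsgLib.Core.FPF.isCyclic_of_isMulCommutative hTN hfpf hNb le_rfl
  have hTb : T ≠ ⊥ := fun h => hT₀b ((Subgroup.map_eq_bot_iff_of_injective _
    H.subtype_injective).1 h)
  obtain ⟨⟨t, htT⟩, htgen⟩ := hTcyc.exists_generator
  have htq : t ^ q = 1 := by
    obtain ⟨s, hs, e⟩ := hTmem htT
    rw [← e, ← SubgroupClass.coe_pow, hT₀exp s hs]; rfl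
  have hTz : T = Subgroup.zpowers t := by
    refine le_antisymm (fun x hx => ?_) (Subgroup.zpowers_le.2 htT)
    obtain ⟨k, hk⟩ := htgen ⟨x, hx⟩
    exact ⟨k, congrArg Subtype.val hk⟩
  have ht1 : t ≠ 1 := fun h => hTb (by rw [hTz, h, Subgroup.zpowers_one_eq_bot])
  have hot : orderOf t = q := orderOf_eq_prime htq ht1
  have hTcard : Nat.card T = q := by rw [hTz, Nat.card_zpowers, hot]
  have hT₀card : Nat.card T₀ = q := by
    rw [← hTcard]
    exact Nat.card_congr (T₀.equivMapOfInjective _ H.subtype_injective).toEquiv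
  -- the action of G on N
  let A := Additive N
  let F : G →* AddMonoid.End A :=
    { toFun := fun g => MonoidHom.toAdditive (MulAut.conjNormal g : MulAut N).toMonoidHom
      map_one' := AddMonoidHom.ext fun x => by
        show Additive.ofMul ((MulAut.conjNormal (1 : G) : MulAut N) (Additive.toMul x)) = x
        rw [map_one]; rfl
      map_mul' := fun a b => AddMonoidHom.ext fun x => by
        show Additive.ofMul ((MulAut.conjNormal (a * b) : MulAut N) (Additive.toMul x)) = _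
        rw [map_mul]; rfl }
  haveI : Nontrivial A := by
    haveI : Nontrivial N := (Subgroup.nontrivial_iff_ne_bot N).2 hNb
    infer_instance
  have hpA : ∀ a : A, r • a = 0 := fun a =>
    congrArg Additive.ofMul (Subtype.ext (hexp _ (Additive.toMul a).2) :
      (Additive.toMul a) ^ r = 1)
  have hFt : F t ^ q = 1 := by rw [← map_pow, htq, map_one]
  have hFt1 : F t ≠ 1 := by
    intro h
    obtain ⟨⟨n, hn⟩, hn1⟩ := Subgroup.ne_bot_iff_exists_ne_one.mp hNb
    refine hn1 (Subtype.ext (CfsgLib.Core.FPF.eq_one_of_fixed hfpf htT ht1 hn ?_))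
    have := congrArg (fun f : AddMonoid.End A => ((Additive.toMul (f (Additive.ofMul ⟨n, hn⟩)) : N) : G)) h
    exact mul_inv_eq_iff_eq_mul.1 this
  have hirrA : ∀ B : AddSubgroup A, (∀ b ∈ B, F t b ∈ B) → B = ⊥ ∨ B = ⊤ := by
    intro B hB
    by_cases hB0 : B = ⊥
    · exact Or.inl hB0
    refine Or.inr (eq_top_iff.2 fun x _ => ?_)
    obtain ⟨b, hbB, hb0⟩ : ∃ b ∈ B, b ≠ 0 := by
      by_contra hc; push Not at hc; exact hB0 ((AddSubgroup.eq_bot_iff_forall _).2 hc)
    have hpow : ∀ (k : ℕ) (y : A), y ∈ B → F (t ^ k) y ∈ B := by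
      intro k
      induction k with
      | zero => intro y hy; rw [pow_zero, map_one]; exact hy
      | succ k ih => intro y hy; rw [pow_succ, map_mul]; exact ih _ (hB y hy)
    set n : N := Additive.toMul b with hn
    have hn1 : (n : G) ≠ 1 := fun h => hb0 (congrArg Additive.ofMul (Subtype.ext h : n = 1))
    have hnα : (n : G) • α ≠ α := fun e => hn1 (hinjN _ n.2 1 N.one_mem (by rw [e, one_smul]))
    let M : Subgroup G := Subgroup.closure {y : G | ∃ h ∈ H, h * n * h⁻¹ = y}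
    have hMN : M ≤ N := (Subgroup.closure_le _).2 (by
      rintro _ ⟨h, hh, rfl⟩; exact hNn.conj_mem _ n.2 h)
    have hMeq : M = N := by
      refine (hirr M hMN ?_).resolve_left fun h => hn1 ?_
      · intro h hh m hm
        induction hm using Subgroup.closure_induction with
        | mem y hy =>
          obtain ⟨h', hh', rfl⟩ := hy
          exact Subgroup.subset_closure ⟨h * h', mul_mem hh hh', by group⟩
        | one => simp
        | mul y z _ _ hy hz =>
          rw [show h * (y * z) * h⁻¹ = (h * y * h⁻¹) * (h * z * h⁻¹) by group]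
          exact mul_mem hy hz
        | inv y _ hy =>
          rw [show h * y⁻¹ * h⁻¹ = (h * y * h⁻¹)⁻¹ by group]
          exact inv_mem hy
      · exact Subgroup.mem_bot.1 (h.le (Subgroup.subset_closure ⟨1, H.one_mem, by simp⟩))
    have key : ∀ y ∈ M, ∃ hy : y ∈ N, Additive.ofMul (⟨y, hy⟩ : N) ∈ B := by
      intro y hy
      induction hy using Subgroup.closure_induction with
      | mem y hy =>
        obtain ⟨h, hh, rfl⟩ := hy
        refine ⟨hNn.conj_mem _ n.2 h, ?_⟩
        obtain ⟨s, hs, e⟩ := htrans ((n : G) • α) hnα ((⟨h, hh⟩ : H) • ((n : G) • α))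
          (MulAction.mem_orbit _ _)
        rw [Subgroup.smul_def, Subgroup.smul_def, hsmul s s.2, hsmul h hh] at e
        have e' := hinjN _ (hNn.conj_mem _ n.2 _) _ (hNn.conj_mem _ n.2 h) e
        have hst : (s : G) ∈ Subgroup.zpowers t := hTz ▸ ⟨s, hs, rfl⟩
        rw [← mem_powers_iff_mem_zpowers] at hst
        obtain ⟨k, hk⟩ := hst
        have hk' : t ^ k = (s : G) := hk
        have h3 := hpow k b hbB
        have e2 : F (t ^ k) b = Additive.ofMul (⟨h * n * h⁻¹, hNn.conj_mem _ n.2 h⟩ : N) := by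
          apply Additive.toMul.injective
          apply Subtype.ext
          show (t ^ k) * (n : G) * (t ^ k)⁻¹ = h * n * h⁻¹
          rw [hk', e']
        rwa [e2] at h3
      | one => exact ⟨N.one_mem, B.zero_mem⟩
      | mul y z _ _ hy hz =>
        obtain ⟨hy, hy'⟩ := hy
        obtain ⟨hz, hz'⟩ := hz
        exact ⟨mul_mem hy hz, B.add_mem hy' hz'⟩
      | inv y _ hy =>
        obtain ⟨hy, hy'⟩ := hy
        exact ⟨inv_mem hy, B.neg_mem hy'⟩
    obtain ⟨_, h⟩ := key _ (hMeq.ge (Additive.toMul x).2)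
    exact h
  have hqr : r ≠ q := by
    intro e
    have h1 : Nat.card T ∣ Nat.card N - 1 := CfsgLib.Core.FPF.card_dvd_pred hTN hfpf
    rw [hTcard, hcardN, ← e] at h1
    have hd : d ≠ 0 := by rintro rfl; simp [hcardN] at hN1
    have h2 : r ∣ r ^ d := dvd_pow_self r hd
    have := Nat.dvd_sub h2 h1
    rw [Nat.sub_sub_self (Nat.one_le_pow _ _ hp.pos)] at this
    exact hp.ne_one (Nat.dvd_one.1 this)
  have hd : d = orderOf (r : ZMod q) := by
    have h := CfsgLib.PGroups.IrredAction.card_eq_of_irreducible (A := A) hp hqr hpA (F t) hFt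
      hFt1 hirrA
    rw [show Nat.card A = r ^ d from hcardN] at h
    exact Nat.pow_right_injective hp.two_le h
  have hdiv : ∀ i : ℕ, q ∣ r ^ i - 1 ↔ d ∣ i := by
    intro i
    rw [hd, orderOf_dvd_iff_pow_eq_one, ← ZMod.natCast_eq_zero_iff,
      Nat.cast_sub (Nat.one_le_pow _ _ hp.pos), sub_eq_zero, Nat.cast_pow, Nat.cast_one]
  -- the centralizer of T in H
  have hcent : ∀ c ∈ H, (∀ s ∈ T, c * s = s * c) → c ∈ T := by
    intro c hc hcs
    obtain ⟨s, hs, hsn⟩ := CfsgLib.Perm.ExtremelyPrimitive.exists_commute_of_cover hNc hTN hNb hfpf hTc hcs (fun n hn => by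
      by_cases hn1 : n = 1
      · exact ⟨1, T.one_mem, by simp [hn1]⟩
      obtain ⟨s, hs, e⟩ := htrans (n • α) (fun e => hn1 (hinjN n hn 1 N.one_mem (by rw [e, one_smul])))
        ((⟨c, hc⟩ : H) • (n • α)) (MulAction.mem_orbit _ _)
      rw [Subgroup.smul_def, Subgroup.smul_def, hsmul s s.2, hsmul c hc] at e
      exact ⟨s, ⟨s, hs, rfl⟩, (hinjN _ (hNn.conj_mem n hn _) _ (hNn.conj_mem n hn c) e).symm⟩)
    have := hfaith (s⁻¹ * c) (mul_mem (inv_mem (hTH hs)) hc) fun n hn => by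
      calc s⁻¹ * c * n = s⁻¹ * (c * n * c⁻¹) * c := by group
        _ = s⁻¹ * (s * n * s⁻¹) * c := by rw [hsn n hn]
        _ = n * (s⁻¹ * c) := by group
    rwa [← inv_mul_eq_one.1 this]
  -- the action of H on T
  let f : H →* MulAut T₀ := MulAut.conjNormal
  let φ : MulAut T₀ := MulEquiv.ofBijective
    ({ toFun := fun x => x ^ r, map_one' := one_pow r,
       map_mul' := fun a b => (Commute.all a b).mul_pow r } : T₀ →* T₀)
    (powCoprime (G := T₀) (n := r) (by
      rw [hT₀card]; exact (Nat.coprime_primes hq hp).2 (Ne.symm hqr))).bijective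
  have hφpow : ∀ (k : ℕ) (x : T₀), (φ ^ k) x = x ^ (r ^ k) := by
    intro k
    induction k with
    | zero => intro x; simp
    | succ k ih =>
      intro x
      rw [pow_succ, MulAut.mul_apply, ih, show φ x = x ^ r from rfl, ← pow_mul, ← pow_succ']
  have hφd : φ ^ d = 1 := by
    refine MulEquiv.ext fun x => ?_
    obtain ⟨k, hk⟩ := (hdiv d).2 dvd_rfl
    rw [hφpow, MulAut.one_apply, show r ^ d = q * k + 1 by
      have := Nat.one_le_pow d r hp.pos; omega, pow_succ, pow_mul,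
      show x ^ q = 1 from hT₀card ▸ pow_card_eq_one', one_pow, one_mul]
  obtain ⟨t₀, ht₀, ht₀t⟩ := hTmem htT
  have hrange : f.range ≤ Subgroup.zpowers φ := by
    rintro _ ⟨h, rfl⟩
    -- the exponent of h on t
    have hmem : (h : G) * t * (h : G)⁻¹ ∈ Subgroup.zpowers t := hTz ▸ hTconj h h.2 t htT
    rw [← mem_powers_iff_mem_zpowers] at hmem
    obtain ⟨a, ha⟩ := hmem
    have ha' : t ^ a = (h : G) * t * (h : G)⁻¹ := ha
    obtain ⟨j, hj⟩ := CfsgLib.PGroups.IrredAction.exists_pow_of_conj (A := A) hp hpA (F t) hFt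
      hFt1 hirrA (MulEquiv.toAdditive (MulAut.conjNormal (h : G) : MulAut N)) a (fun x => by
        rw [← map_pow, ha']
        apply Additive.toMul.injective
        apply Subtype.ext
        show (h : G) * (t * ((Additive.toMul x : N) : G) * t⁻¹) * (h : G)⁻¹ =
          ((h : G) * t * (h : G)⁻¹) * ((h : G) * ((Additive.toMul x : N) : G) * (h : G)⁻¹) *
            ((h : G) * t * (h : G)⁻¹)⁻¹
        group)
    have hjt : t ^ a = t ^ r ^ j := by
      rw [← map_pow, ← map_pow] at hj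
      by_contra hne
      have hz : (t ^ r ^ j)⁻¹ * t ^ a ∈ T := mul_mem (inv_mem (pow_mem htT _)) (pow_mem htT _)
      obtain ⟨⟨n, hn⟩, hn1⟩ := Subgroup.ne_bot_iff_exists_ne_one.mp hNb
      refine hn1 (Subtype.ext (CfsgLib.Core.FPF.eq_one_of_fixed hfpf hz
        (fun e => hne (inv_mul_eq_one.1 e).symm) hn ?_))
      have e : t ^ a * n * (t ^ a)⁻¹ = t ^ r ^ j * n * (t ^ r ^ j)⁻¹ := congrArg
        (fun g : AddMonoid.End A => ((Additive.toMul (g (Additive.ofMul ⟨n, hn⟩)) : N) : G)) hj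
      calc (t ^ r ^ j)⁻¹ * t ^ a * n = (t ^ r ^ j)⁻¹ * (t ^ a * n * (t ^ a)⁻¹) * t ^ a := by group
        _ = (t ^ r ^ j)⁻¹ * (t ^ r ^ j * n * (t ^ r ^ j)⁻¹) * t ^ a := by rw [e]
        _ = n * ((t ^ r ^ j)⁻¹ * t ^ a) := by group
    refine ⟨(j : ℤ), ?_⟩
    show φ ^ (j : ℤ) = f h
    rw [zpow_natCast]
    refine MulEquiv.ext fun x => ?_
    rw [hφpow]
    apply Subtype.ext
    apply Subtype.ext
    have hxmem : ((x : H) : G) ∈ Subgroup.zpowers t := hTz ▸ ⟨x, x.2, rfl⟩
    obtain ⟨k, hk⟩ := hxmem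
    show (((x ^ r ^ j : T₀) : H) : G) = (h : G) * ((x : H) : G) * (h : G)⁻¹
    rw [SubgroupClass.coe_pow, SubgroupClass.coe_pow, ← hk]
    show (t ^ k) ^ r ^ j = (h : G) * t ^ k * (h : G)⁻¹
    rw [← conj_zpow, ← ha', hjt, ← zpow_natCast, ← zpow_natCast t, ← zpow_mul, ← zpow_mul,
      mul_comm]
  haveI : IsCyclic f.range :=
    isCyclic_of_injective (Subgroup.inclusion hrange) (Subgroup.inclusion_injective _)
  have hker : f.ker = T₀ := by
    refine le_antisymm (fun c hc => ?_) (fun c hc => ?_)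
    · have hc' : ∀ x : T₀, (c : G) * ((x : H) : G) * (c : G)⁻¹ = ((x : H) : G) := fun x =>
        congrArg (fun g : MulAut T₀ => (((g x : T₀) : H) : G)) (MonoidHom.mem_ker.1 hc)
      obtain ⟨s, hs, e⟩ := hTmem (hcent c c.2 fun s hs => by
        obtain ⟨s', hs', rfl⟩ := hTmem hs
        exact mul_inv_eq_iff_eq_mul.1 (hc' ⟨s', hs'⟩))
      rwa [← Subtype.ext e]
    · refine MonoidHom.mem_ker.2 (MulEquiv.ext fun x => Subtype.ext ?_)
      show c * (x : H) * c⁻¹ = (x : H)
      rw [hT₀comm hc x.2, mul_inv_cancel_right]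
  refine ⟨q, hq, fun ω hω => ?_, (hdiv d).2 dvd_rfl, fun i hi hid h => ?_, T, hTH, ?_, hTcard, ?_, ?_⟩
  · rw [← hT₀card]
    refine (Nat.card_eq_of_bijective
      (fun s : T₀ => (⟨(s : H) • ω, MulAction.mem_orbit _ _⟩ : MulAction.orbit H ω)) ⟨?_, ?_⟩).symm
    · intro a b e
      have e' : (a : H) • ω = (b : H) • ω := congrArg Subtype.val e
      have := hsemi ω hω _ (mul_mem (inv_mem b.2) a.2) (by rw [mul_smul, e', inv_smul_smul])
      exact (Subtype.ext (inv_mul_eq_one.1 this)).symm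
    · rintro ⟨β, hβ⟩
      obtain ⟨s, hs, e⟩ := htrans ω hω β hβ
      exact ⟨⟨s, hs⟩, Subtype.ext e⟩
  · exact absurd (Nat.le_of_dvd hi ((hdiv i).1 h)) (by omega)
  · intro h hh
    refine Subgroup.mem_normalizer_iff.2 fun x => ⟨hTconj h hh x, fun hx => ?_⟩
    have := hTconj h⁻¹ (inv_mem hh) _ hx
    simpa [mul_assoc] using this
  · obtain ⟨⟨g, h, rfl⟩, hgen⟩ := IsCyclic.exists_generator (α := f.range)
    refine ⟨(h : G), le_antisymm (fun c hc => ?_) (sup_le hTH (Subgroup.zpowers_le.2 h.2))⟩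
    obtain ⟨k, hk⟩ := hgen ⟨f ⟨c, hc⟩, _, rfl⟩
    have hk' : f h ^ k = f ⟨c, hc⟩ := congrArg Subtype.val hk
    have : (h ^ k)⁻¹ * ⟨c, hc⟩ ∈ f.ker := by
      rw [MonoidHom.mem_ker, map_mul, map_inv, map_zpow, hk', inv_mul_cancel]
    rw [hker] at this
    have hmem : ((h : G) ^ k)⁻¹ * c ∈ T := ⟨_, this, by simp⟩
    have := mul_mem (Subgroup.mem_sup_right (S := T) (Subgroup.zpow_mem_zpowers (h : G) k))
      (Subgroup.mem_sup_left (T := Subgroup.zpowers (h : G)) hmem)
    simpa using this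
  · rw [← Subgroup.card_mul_index f.ker, Subgroup.index_ker, hker, hT₀card]
    exact mul_dvd_mul_left q ((Subgroup.card_dvd_of_le hrange).trans
      (by rw [Nat.card_zpowers]; exact orderOf_dvd_of_pow_eq_one hφd))

end Cfsg.Agent.S3496
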