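import Cfsg.Statements.S3497
import Cfsg.Agent.Lib.Perm.ExtremelyPrimitive

set_option autoImplicit false
open Cfsg

namespace Cfsg.Agent.S3497

theorem exists_hom_GL_aux {p e : ℕ} [Fact p.Prime] {V : Type*} [CommGroup V] [Finite V]
    [Module (ZMod p) (Additive V)] (hcard : Nat.card V = p ^ e) :
    ∃ χ : MulAut V →* GL (Fin e) (ZMod p), Function.Injective χ := by
  have hfin : Module.Finite (ZMod p) (Additive V) := Module.Finite.of_finite
  have hrank : Module.finrank (ZMod p) (Additive V) = e := by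
    have h := Module.natCard_eq_pow_finrank (K := ZMod p) (V := Additive V)
    rw [Nat.card_congr Additive.toMul, hcard, Nat.card_zmod] at h
    exact (Nat.pow_right_injective (Fact.out : p.Prime).two_le h).symm
  let b := Module.finBasisOfFinrankEq (ZMod p) (Additive V) hrank
  let f : MulAut V →* Matrix (Fin e) (Fin e) (ZMod p) :=
    { toFun := fun φ => LinearMap.toMatrix b b ((MonoidHom.toAdditive φ.toMonoidHom).toZModLinearMap p)
      map_one' := by
        rw [← LinearMap.toMatrix_id b]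
        rfl
      map_mul' := fun φ ψ => by
        rw [← LinearMap.toMatrix_comp]
        rfl }
  refine ⟨f.toHomUnits, fun φ ψ h => ?_⟩
  have h1 : f φ = f ψ := congrArg Units.val h
  have h2 := (LinearMap.toMatrix b b).injective h1
  ext v
  exact congrArg Additive.toMul (LinearMap.congr_fun h2 (Additive.ofMul v))

theorem exists_hom_GL {p e : ℕ} [hp : Fact p.Prime] {V : Type*} [CommGroup V] [Finite V]
    (hexp : ∀ v : V, v ^ p = 1) (hcard : Nat.card V = p ^ e) :
    ∃ χ : MulAut V →* GL (Fin e) (ZMod p), Function.Injective χ :=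
  @exists_hom_GL_aux p e hp V _ _ (AddCommGroup.zmodModule (fun x =>
    Additive.toMul.injective (by
      show (p • x).toMul = _
      rw [toMul_nsmul, hexp]; rfl))) hcard


/-- Restrictions on the point stabilizer of an extremely primitive group. Let a finite group G act faithfully and primitively on a finite set Ω with point stabilizers H = G_α whose order is neither 1 nor a prime, each acting primitively on every one of its orbits. Then H has trivial center, the Fitting subgroup F(H) is an elementary abelian p-group for some prime p, and if F(H) ≠ 1 has order p ^ e then p ^ e divides the number of points minus one and H / F(H) embeds in GL_e(p) (there is a homomorphism from H to GL_e(p) with kernel exactly F(H)). -/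
theorem result {G : Type*} [Group G] [Finite G] {Ω : Type*} [Fintype Ω] [MulAction G Ω] [FaithfulSMul G Ω] (hprim : MulAction.IsPreprimitive G Ω) (hep : ∀ (α : Ω) (ω : Ω), MulAction.IsPreprimitive (MulAction.stabilizer G α) (MulAction.orbit (MulAction.stabilizer G α) ω)) (α : Ω)
    (hH1 : MulAction.stabilizer G α ≠ ⊥) (hHp : ¬ (Nat.card (MulAction.stabilizer G α)).Prime) :
    Subgroup.center (MulAction.stabilizer G α) = ⊥ ∧
    IsMulCommutative (Cfsg.fittingSubgroup (MulAction.stabilizer G α)) ∧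
    ∃ p e : ℕ, p.Prime ∧ Nat.card (Cfsg.fittingSubgroup (MulAction.stabilizer G α)) = p ^ e ∧
      (∀ x ∈ Cfsg.fittingSubgroup (MulAction.stabilizer G α), x ^ p = 1) ∧
      (Cfsg.fittingSubgroup (MulAction.stabilizer G α) ≠ ⊥ →
        p ^ e ∣ Fintype.card Ω - 1 ∧
        ∃ φ : MulAction.stabilizer G α →* GL (Fin e) (ZMod p), φ.ker = Cfsg.fittingSubgroup (MulAction.stabilizer G α)) := by
  classical
  haveI := hprim
  haveI : Nontrivial Ω := by
    by_contra hns
    rw [not_nontrivial_iff_subsingleton] at hns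
    exact hH1 ((Subgroup.eq_bot_iff_forall _).2 fun x _ =>
      eq_of_smul_eq_smul (α := Ω) fun y => Subsingleton.elim _ _)
  set H := MulAction.stabilizer G α with hHdef
  have hepr : CfsgLib.Perm.ExtremelyPrimitive.EP G Ω := hep
  -- one prime only
  have huniq : ∀ p q : ℕ, p.Prime → q.Prime → Cfsg.pCore p H ≠ ⊥ → Cfsg.pCore q H ≠ ⊥ → p = q := by
    intro p q hp hq h1 h2
    haveI := Fact.mk hp
    haveI := Fact.mk hq
    obtain ⟨b, hb⟩ := exists_ne α
    have hne : ∀ r : ℕ, Cfsg.pCore r H ≠ ⊥ → Cfsg.pCoreOf r H ≠ ⊥ := fun r hr h =>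
      hr ((Subgroup.map_eq_bot_iff_of_injective _ H.subtype_injective).1 h)
    have e1 := CfsgLib.Perm.ExtremelyPrimitive.card_orbit (p := p) hepr hH1 hb.symm (hne p h1)
    have e2 := CfsgLib.Perm.ExtremelyPrimitive.card_orbit (p := q) hepr hH1 hb.symm (hne q h2)
    obtain ⟨i, hi⟩ := IsPGroup.iff_card.1 (CfsgLib.Perm.ExtremelyPrimitive.R_isPGroup (G := G) p α)
    obtain ⟨j, hj⟩ := IsPGroup.iff_card.1 (CfsgLib.Perm.ExtremelyPrimitive.R_isPGroup (G := G) q α)
    rw [hi] at e1
    rw [hj] at e2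
    by_contra hpq
    refine hne p h1 (Subgroup.card_eq_one.1 ?_)
    show Nat.card (CfsgLib.Perm.ExtremelyPrimitive.R G p α) = 1
    rw [hi]
    exact Nat.eq_one_of_dvd_coprimes (Nat.Coprime.pow i j ((Nat.coprime_primes hp hq).2 hpq))
      dvd_rfl (by rw [e1, ← e2])
  have hcenter : Subgroup.center H = ⊥ := by
    by_contra hne
    haveI : Nontrivial (Subgroup.center H) := (Subgroup.center H).nontrivial_iff_ne_bot.2 hne
    obtain ⟨p, hp, hpd⟩ := Nat.exists_prime_and_dvd (n := Nat.card (Subgroup.center H))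
      Finite.one_lt_card.ne'
    haveI := Fact.mk hp
    obtain ⟨z, hz⟩ := exists_prime_orderOf_dvd_card' p hpd
    have hzord : orderOf ((z : H) : G) = p := by rw [Subgroup.orderOf_coe, Subgroup.orderOf_coe, hz]
    have h1 := CfsgLib.Perm.ExtremelyPrimitive.eq_one_of_pow_eq_one_central (p := p) hepr hH1 hHp
      (z := ((z : H) : G)) (z : H).2 (by rw [← hzord, pow_orderOf_eq_one]) (fun h hh =>
        congrArg Subtype.val (Subgroup.mem_center_iff.1 z.2 ⟨h, hh⟩))
    rw [h1, orderOf_one] at hzord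
    exact hp.ne_one hzord.symm
  -- the prime
  obtain ⟨p, hp, hF⟩ : ∃ p : ℕ, p.Prime ∧ Cfsg.fittingSubgroup H = Cfsg.pCore p H := by
    by_cases h : ∃ r : Nat.Primes, Cfsg.pCore (r : ℕ) H ≠ ⊥
    · obtain ⟨r, hr⟩ := h
      refine ⟨r, r.2, ?_⟩
      rw [CfsgLib.Core.fittingSubgroup_eq_iSup_pCore]
      refine le_antisymm (iSup_le fun s => ?_) (le_iSup (fun s : Nat.Primes => Cfsg.pCore (s : ℕ) H) r)
      by_cases hs : Cfsg.pCore (s : ℕ) H = ⊥
      · exact hs.le.trans bot_le
      · rw [huniq s r s.2 r.2 hs hr]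
    · push Not at h
      refine ⟨2, Nat.prime_two, ?_⟩
      rw [CfsgLib.Core.fittingSubgroup_eq_iSup_pCore]
      exact le_antisymm (iSup_le fun s => (h s).le.trans bot_le)
        (le_iSup (fun s : Nat.Primes => Cfsg.pCore (s : ℕ) H) ⟨2, Nat.prime_two⟩)
  haveI := Fact.mk hp
  obtain ⟨hel, hexp⟩ := CfsgLib.Perm.ExtremelyPrimitive.elementary (p := p) hepr α
  have hmem : ∀ x : H, x ∈ Cfsg.fittingSubgroup H ↔ (x : G) ∈ Cfsg.pCoreOf p H := by
    intro x
    rw [hF]
    exact ⟨fun h => ⟨x, h, rfl⟩, fun ⟨y, hy, hyx⟩ => (Subtype.ext hyx : y = x) ▸ hy⟩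
  have hcomm : IsMulCommutative (Cfsg.fittingSubgroup H) :=
    ⟨⟨fun x y => Subtype.ext (Subtype.ext (hel _ ((hmem _).1 x.2) _ ((hmem _).1 y.2)))⟩⟩
  have hexp' : ∀ x ∈ Cfsg.fittingSubgroup H, x ^ p = 1 := fun x hx =>
    Subtype.ext (by rw [SubmonoidClass.coe_pow]; exact hexp _ ((hmem x).1 hx))
  obtain ⟨e, he⟩ := IsPGroup.iff_card.1
    (show IsPGroup p (Cfsg.fittingSubgroup H) from fun x => ⟨1, Subtype.ext (by
      rw [pow_one, SubmonoidClass.coe_pow]; exact hexp' x x.2)⟩)
  refine ⟨hcenter, hcomm, p, e, hp, he, hexp', fun hne => ?_⟩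
  have hne' : CfsgLib.Perm.ExtremelyPrimitive.R G p α ≠ ⊥ := fun h =>
    hne (hF ▸ (Subgroup.map_eq_bot_iff_of_injective _ H.subtype_injective).1 h)
  constructor
  · haveI : Finite (SubMulAction.ofStabilizer G α) := Subtype.finite
    have hfree : ∀ w : SubMulAction.ofStabilizer G α,
        MulAction.stabilizer (Cfsg.fittingSubgroup H) w = ⊥ := by
      intro w
      rw [Subgroup.eq_bot_iff_forall]
      intro x hx
      have hwne : α ≠ (w : Ω) := fun h => w.2 h.symm
      have h1 : ((x : H) : G) • (w : Ω) = w := congrArg Subtype.val hx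
      have h2 : ((x : H) : G) ∈ Cfsg.pCoreOf p H ⊓ MulAction.stabilizer G (w : Ω) :=
        ⟨(hmem _).1 x.2, h1⟩
      rw [CfsgLib.Perm.ExtremelyPrimitive.semiregular (p := p) hepr hH1 hwne, Subgroup.mem_bot] at h2
      exact Subtype.ext (Subtype.ext h2)
    have hc := Nat.card_congr (MulAction.selfEquivOrbitsQuotientProd hfree)
    rw [Nat.card_prod, he, SubMulAction.nat_card_ofStabilizer_eq G α,
      Nat.card_eq_fintype_card] at hc
    exact ⟨_, hc.trans (mul_comm _ _)⟩
  · letI : CommGroup (Cfsg.fittingSubgroup H) :=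
      { (inferInstance : Group (Cfsg.fittingSubgroup H)) with mul_comm := hcomm.is_comm.comm }
    obtain ⟨χ, hχ⟩ := exists_hom_GL (V := Cfsg.fittingSubgroup H)
      (fun v => Subtype.ext (by rw [SubmonoidClass.coe_pow]; exact hexp' v v.2)) he
    refine ⟨χ.comp MulAut.conjNormal, ?_⟩
    rw [← MonoidHom.comap_ker, (MonoidHom.ker_eq_bot_iff χ).2 hχ, MonoidHom.comap_bot]
    have hmemC : ∀ x : H, x ∈ (MulAut.conjNormal : H →* MulAut (Cfsg.fittingSubgroup H)).ker ↔
        ∀ v ∈ Cfsg.fittingSubgroup H, v * x = x * v := by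
      intro x
      rw [MonoidHom.mem_ker]
      constructor
      · intro h v hv
        have h1 : x * v * x⁻¹ = v :=
          (MulAut.conjNormal_apply x ⟨v, hv⟩).symm.trans (congrArg Subtype.val
            (congrArg (fun φ : MulAut (Cfsg.fittingSubgroup H) => φ ⟨v, hv⟩) h))
        calc v * x = x * v * x⁻¹ * x := by rw [h1]
          _ = x * v := by group
      · intro h
        ext v
        rw [MulAut.conjNormal_apply, ← h v v.2, mul_inv_cancel_right]
        rfl
    refine le_antisymm ?_ fun x hx => (hmemC x).2 fun v hv =>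
      congrArg Subtype.val (hcomm.is_comm.comm ⟨v, hv⟩ ⟨x, hx⟩)
    haveI hcn : IsMulCommutative (MulAut.conjNormal : H →* MulAut (Cfsg.fittingSubgroup H)).ker := by
      have hc : ∀ x ∈ (MulAut.conjNormal : H →* MulAut (Cfsg.fittingSubgroup H)).ker,
          (x : G) ∈ MulAction.stabilizer G α ⊓
            Subgroup.centralizer (CfsgLib.Perm.ExtremelyPrimitive.R G p α : Set G) := by
        refine fun x hx => ⟨x.2, Subgroup.mem_centralizer_iff.2 ?_⟩
        rintro _ ⟨v, hv, rfl⟩
        exact congrArg Subtype.val ((hmemC x).1 hx v (hF ▸ hv))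
      exact ⟨⟨fun x y => Subtype.ext (Subtype.ext
        (CfsgLib.Perm.ExtremelyPrimitive.cent_comm (p := p) hepr hH1 hne' (hc _ x.2) (hc _ y.2)))⟩⟩
    refine CfsgLib.Core.le_fittingSubgroup ?_
    letI : CommGroup (MulAut.conjNormal : H →* MulAut (Cfsg.fittingSubgroup H)).ker :=
      { (inferInstance : Group _) with mul_comm := hcn.is_comm.comm }
    exact CommGroup.isNilpotent

end Cfsg.Agent.S3497
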