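import Cfsg.Statements.S3498
import Mathlib
import Cfsg.Agent.Lib.Core.Coprime
import Cfsg.Agent.Lib.Perm.SimpleCount

set_option autoImplicit false
open Cfsg

namespace Cfsg.Agent.S3498

/-- A maximal subgroup of a finite almost simple group does not have prime order. Here G is almost simple in the sense that it has a non-abelian simple normal subgroup T with trivial centralizer. -/
theorem result {G : Type*} [Group G] [Finite G] (T : Subgroup G) [T.Normal] (hT : IsSimpleGroup T) (hTc : ¬ IsMulCommutative T)
    (hC : Subgroup.centralizer (T : Set G) = ⊥) (H : Subgroup G) (hmax : IsCoatom H) : ¬ (Nat.card H).Prime := by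
  intro hp
  haveI := Fact.mk hp
  set p := Nat.card H with hpdef
  haveI : IsCyclic H := isCyclic_of_prime_card rfl
  have hTbot : T ≠ ⊥ := fun h => by
    subst h
    exact hTc ⟨⟨fun x y => Subsingleton.elim _ _⟩⟩
  have hTH : ¬ T ≤ H := fun h => by
    have := (Nat.dvd_prime hp).mp (Subgroup.card_dvd_of_le h)
    rcases this with h1 | h1
    · exact hTbot (Subgroup.card_eq_one.mp h1)
    · haveI := Fact.mk hp
      haveI : IsCyclic T := isCyclic_of_prime_card h1
      exact hTc inferInstance
  have hcases : ∀ K : Subgroup G, H ⊓ K = ⊥ ∨ H ≤ K := fun K => by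
    rcases (Nat.dvd_prime hp).mp (Subgroup.card_dvd_of_le (inf_le_left : H ⊓ K ≤ H)) with h | h
    · exact Or.inl (Subgroup.card_eq_one.mp h)
    · exact Or.inr (inf_eq_left.mp (Subgroup.eq_of_le_of_card_ge inf_le_left h.ge))
  have hnn : ¬ H.Normal := by
    intro hn
    haveI := hn
    rcases (hn.subgroupOf T).eq_bot_or_eq_top with h | h
    · have hd : Disjoint H T := Subgroup.subgroupOf_eq_bot.mp h
      have : H ≤ Subgroup.centralizer (T : Set G) := fun x hx => Subgroup.mem_centralizer_iff.mpr fun t ht =>
        (Subgroup.commute_of_normal_of_disjoint H T hn inferInstance hd x t hx ht).symm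
      rw [hC, le_bot_iff] at this
      rw [this, Subgroup.card_bot] at hpdef
      exact hp.ne_one hpdef
    · exact hTH (Subgroup.subgroupOf_eq_top.mp h)
  have hN : Subgroup.normalizer (H : Set G) = H :=
    (hmax.le_iff.mp Subgroup.le_normalizer).resolve_left fun h => hnn (Subgroup.normalizer_eq_top_iff.mp h)
  have hidx : ¬ p ∣ H.index := by
    intro hd
    have hm := Sylow.card_quotient_normalizer_modEq_card_quotient (p := p) (H := H) (n := 1) (pow_one p).symm
    have h1 : Nat.card (Subgroup.normalizer (H : Set G) ⧸ H.comap (Subgroup.normalizer (H : Set G)).subtype) = 1 := by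
      show H.relIndex (Subgroup.normalizer (H : Set G)) = 1
      rw [hN, Subgroup.relIndex_self]
    rw [h1] at hm
    have : p ∣ 1 := (Nat.ModEq.dvd_iff hm dvd_rfl).mpr hd
    exact hp.ne_one (Nat.dvd_one.mp this)
  have hsy : IsPGroup p H := IsPGroup.of_card (pow_one p).symm
  let P : Sylow p G := hsy.toSylow hidx
  rcases hcases T with hdisj | hle
  · have hcop : (Nat.card H).Coprime (Nat.card T) := by
      refine hp.coprime_iff_not_dvd.mpr fun hd => ?_
      obtain ⟨x, hx⟩ := exists_prime_orderOf_dvd_card' p hd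
      have hz : IsPGroup p (Subgroup.zpowers (x : G)) :=
        IsPGroup.of_card (n := 1) (by rw [Nat.card_zpowers, Subgroup.orderOf_coe, hx, pow_one])
      obtain ⟨Q, hQ⟩ := hz.exists_le_sylow
      obtain ⟨g, hg⟩ := MulAction.exists_smul_eq G Q P
      have hxH : g * (x : G) * g⁻¹ ∈ H ⊓ T := by
        refine ⟨?_, (inferInstance : T.Normal).conj_mem _ x.2 g⟩
        have : g * (x : G) * g⁻¹ ∈ ((g • Q : Sylow p G) : Subgroup G) := ⟨x, hQ (Subgroup.mem_zpowers _), rfl⟩
        rw [hg] at this
        exact this
      rw [hdisj, Subgroup.mem_bot, conj_eq_one_iff] at hxH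
      rw [← Subgroup.orderOf_coe, hxH, orderOf_one] at hx
      exact hp.ne_one hx.symm
    have hnHT : H ≤ Subgroup.normalizer (T : Set G) := by
      rw [Subgroup.normalizer_eq_top_iff.mpr inferInstance]; exact le_top
    haveI : IsMulCommutative H := inferInstance
    have hq := Nat.minFac_prime (fun h => hTbot (Subgroup.card_eq_one.mp h))
    haveI := Fact.mk hq
    set q := (Nat.card T).minFac
    obtain ⟨Q, hQ⟩ := CfsgLib.Core.exists_invariant_sylow hnHT hcop (Or.inl inferInstance) q
    set Q' := (Q : Subgroup T).map T.subtype with hQ'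
    have hQT : Q' ≤ T := Subgroup.map_subtype_le _
    have hQbot : Q' ≠ ⊥ := by
      rw [hQ', Ne, Subgroup.map_eq_bot_iff_of_injective _ T.subtype_injective]
      exact Sylow.ne_bot_of_dvd_card Q (Nat.minFac_dvd _)
    have hQd : H ⊓ Q' = ⊥ := eq_bot_iff.mpr fun x hx => hdisj.le ⟨hx.1, hQT hx.2⟩
    have hsup : ∀ K : Subgroup G, K ≠ ⊥ → H ⊓ K = ⊥ → H ⊔ K = ⊤ := fun K hK hKd =>
      (hmax.le_iff.mp le_sup_left).resolve_right fun h => hK (by
        rw [eq_bot_iff, ← hKd]; exact le_inf (le_sup_right.trans h.le) le_rfl)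
    have c1 := CfsgLib.Core.card_sup_of_disjoint H Q' hQ hQd
    have c2 := CfsgLib.Core.card_sup_of_disjoint H T hnHT hdisj
    rw [hsup Q' hQbot hQd] at c1
    rw [hsup T hTbot hdisj] at c2
    have hcard : Nat.card Q' = Nat.card T := Nat.eq_of_mul_eq_mul_left Nat.card_pos (c1.symm.trans c2)
    have hTq : IsPGroup q T := by
      have := Q.2.map T.subtype
      rw [← hQ', Subgroup.eq_of_le_of_card_ge hQT hcard.ge] at this
      exact this
    haveI : Nontrivial T := (Subgroup.nontrivial_iff_ne_bot T).mpr hTbot
    have hz := hTq.center_nontrivial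
    have htop : Subgroup.center T = ⊤ := by
      haveI := hT
      exact ((inferInstance : (Subgroup.center T).Normal).eq_bot_or_eq_top).resolve_left
        ((Subgroup.nontrivial_iff_ne_bot _).mp hz)
    exact hTc ⟨⟨fun a b => (Subgroup.mem_center_iff.mp (htop ▸ Subgroup.mem_top b) a)⟩⟩
  · have hTtop : T = ⊤ := (hmax.le_iff.mp hle).resolve_right fun h => hTH h.le
    subst hTtop
    haveI := hT
    haveI : IsSimpleGroup G :=
      haveI : Nontrivial G := (Subgroup.topEquiv (G := G)).toEquiv.symm.nontrivial
      IsSimpleGroup.isSimpleGroup_of_surjective (f := (Subgroup.topEquiv (G := G)).toMonoidHom)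
        (Subgroup.topEquiv (G := G)).surjective
    have hcard : p ∣ Nat.card G := Subgroup.card_subgroup_dvd_card H
    have hne : ¬ IsPGroup p G := by
      intro hG
      obtain ⟨k, hk⟩ := hG.index H
      rcases Nat.eq_zero_or_pos k with rfl | hk'
      · exact hmax.1 (Subgroup.index_eq_one.mp (by simpa using hk))
      · exact hidx (hk ▸ dvd_pow_self p hk'.ne')
    refine CfsgLib.Perm.not_normalizer_le_centralizer P hcard hne ?_
    show Subgroup.normalizer (H : Set G) ≤ Subgroup.centralizer (H : Set G)
    rw [hN]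
    exact Subgroup.le_centralizer H

end Cfsg.Agent.S3498
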