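import Cfsg.Statements.S3501
import Cfsg.Agent.Lib.Perm.OneDerangementClass
import Cfsg.Agent.Lib.Perm.SharplyTwo

set_option autoImplicit false
open Cfsg

namespace Cfsg.Agent.S3501

/-- Let a finite group G act faithfully and primitively on a finite set Ω with at least two points, and suppose G is not almost simple (it has no non-abelian simple normal subgroup with trivial centralizer). Then the derangements of G form a single conjugacy class if and only if G is sharply 2-transitive (2-transitive, and no non-identity element fixes two points). -/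
theorem result {G : Type*} [Group G] [Finite G] {Ω : Type*} [Fintype Ω] [MulAction G Ω] [FaithfulSMul G Ω] (hΩ : 2 ≤ Fintype.card Ω) (hprim : MulAction.IsPreprimitive G Ω) (hnas : ¬ ∃ T : Subgroup G, T.Normal ∧ IsSimpleGroup T ∧ ¬ IsMulCommutative T ∧ Subgroup.centralizer (T : Set G) = ⊥) :
    Nat.card {c : ConjClasses G // ∃ g : G, ConjClasses.mk g = c ∧ ∀ ω : Ω, g • ω ≠ ω} = 1 ↔ (MulAction.IsMultiplyPretransitive G Ω 2 ∧ ∀ g : G, g ≠ 1 → ∀ a b : Ω, a ≠ b → g • a = a → g • b ≠ b) := by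
  classical
  have hconjOf : Nat.card {c : ConjClasses G // ∃ g : G, ConjClasses.mk g = c ∧ ∀ ω : Ω, g • ω ≠ ω} = 1 →
      ∀ d e : G, (∀ y : Ω, d • y ≠ y) → (∀ y : Ω, e • y ≠ y) → IsConj d e := by
    intro h d e hd he
    haveI := (Nat.card_eq_one_iff_unique.1 h).1
    exact ConjClasses.mk_eq_mk_iff_isConj.1 (congrArg Subtype.val (Subsingleton.elim
      (α := {c : ConjClasses G // ∃ g : G, ConjClasses.mk g = c ∧ ∀ ω : Ω, g • ω ≠ ω})
      ⟨_, d, rfl, hd⟩ ⟨_, e, rfl, he⟩))
  haveI := hprim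
  constructor
  · intro h
    have hc := hconjOf h
    haveI : Nontrivial G := by
      by_contra hns
      rw [not_nontrivial_iff_subsingleton] at hns
      obtain ⟨d, hd⟩ := CfsgLib.HallGen.exists_derangement G Ω
        (by rw [Nat.card_eq_fintype_card]; omega)
      obtain ⟨y⟩ : Nonempty Ω := Fintype.card_pos_iff.1 (by omega)
      exact hd y (by rw [Subsingleton.elim d 1, one_smul])
    obtain ⟨N, hNn, hN, -, hmin⟩ :=
      CfsgLib.Core.exists_minimal_normal_le' (⊤ : Subgroup G) top_ne_bot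
    haveI := hNn
    exact CfsgLib.Perm.OneDerangementClass.sharp_of_abelian hprim hΩ hc N hN
      (CfsgLib.Perm.OneDerangementClass.isMulCommutative_minimal hprim hΩ hnas hc N hN hmin)
  · rintro ⟨h2, hsharp⟩
    have hfix : ∀ n : G, ∀ c d : Ω, c ≠ d → n • c = c → n • d = d → n = 1 := fun n c d hcd hc hd =>
      by_contra fun hn => hsharp n hn c d hcd hc hd
    obtain ⟨p, j, K, -, -, -, hKn, -, -, -, hKmem, hKtr, hreg, -⟩ :=
      CfsgLib.Perm.SharplyTwo.exists_kernel h2 hΩ hfix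
    obtain ⟨d0, hd0⟩ := CfsgLib.HallGen.exists_derangement G Ω
      (by rw [Nat.card_eq_fintype_card]; omega)
    obtain ⟨a⟩ : Nonempty Ω := Fintype.card_pos_iff.1 (by omega)
    refine Nat.card_eq_one_iff_unique.2 ⟨⟨?_⟩, ⟨⟨_, d0, rfl, hd0⟩⟩⟩
    rintro ⟨_, d, rfl, hd⟩ ⟨_, e, rfl, he⟩
    refine Subtype.ext (ConjClasses.mk_eq_mk_iff_isConj.2 (isConj_iff.2 ?_))
    obtain ⟨g, hga, hgd⟩ := MulAction.is_two_pretransitive_iff.1 h2 (Ne.symm (hd a)) (Ne.symm (he a))
    refine ⟨g, ?_⟩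
    have hm : e⁻¹ * (g * d * g⁻¹) ∈ K := K.mul_mem (K.inv_mem ((hKmem e).2 (Or.inr he)))
      (hKn.conj_mem d ((hKmem d).2 (Or.inr hd)) g)
    have h1 : (e⁻¹ * (g * d * g⁻¹)) • a = a := by
      rw [mul_smul, mul_smul, mul_smul, inv_smul_eq_iff.2 hga.symm, hgd, inv_smul_smul]
    have h3 : (⟨_, hm⟩ : K) ∈ MulAction.stabilizer K a := h1
    rw [hreg a, Subgroup.mem_bot] at h3
    exact (inv_mul_eq_one.1 (congrArg Subtype.val h3)).symm

end Cfsg.Agent.S3501
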