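import Cfsg.Statements.S3504
import Mathlib

set_option autoImplicit false
open Cfsg

namespace Cfsg.Agent.S3504

/-- For n ≥ 5, the fixed-point-free permutations of prime order in the symmetric group of degree n form a single conjugacy class if and only if n is a prime power. -/
theorem result (n : ℕ) (hn : 5 ≤ n) :
    Nat.card {c : ConjClasses (Equiv.Perm (Fin n)) // ∃ g : Equiv.Perm (Fin n), ConjClasses.mk g = c ∧ (orderOf g).Prime ∧ ∀ i : Fin n, g i ≠ i} = 1 ↔ IsPrimePow n := by
  classical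
  rw [isPrimePow_iff_card_primeFactors_eq_one]
  have hne : ∀ g : Equiv.Perm (Fin n), (∀ i, g i ≠ i) → g.support.card = n := fun g hg => by
    rw [show g.support = Finset.univ from Finset.eq_univ_of_forall fun i => Equiv.Perm.mem_support.mpr (hg i),
      Finset.card_univ, Fintype.card_fin]
  have hex : ∀ p ∈ n.primeFactors, ∃ g : Equiv.Perm (Fin n),
      orderOf g = p ∧ (∀ i, g i ≠ i) ∧ g.cycleType = Multiset.replicate (n / p) p := by
    intro p hp
    obtain ⟨hpp, hpn, -⟩ := Nat.mem_primeFactors.mp hp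
    have hpos : 0 < n / p := Nat.div_pos (Nat.le_of_dvd (by omega) hpn) hpp.pos
    obtain ⟨g, hg⟩ := (Equiv.Perm.exists_with_cycleType_iff (α := Fin n) (m := Multiset.replicate (n / p) p)).mpr
      ⟨by rw [Multiset.sum_replicate, smul_eq_mul, Nat.div_mul_cancel hpn, Fintype.card_fin],
        fun a ha => by rw [Multiset.eq_of_mem_replicate ha]; exact hpp.two_le⟩
    refine ⟨g, ?_, fun i => ?_, hg⟩
    · rw [← Equiv.Perm.lcm_cycleType, hg]
      refine Nat.dvd_antisymm (Multiset.lcm_dvd.mpr fun a ha => (Multiset.eq_of_mem_replicate ha).dvd)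
        (Multiset.dvd_lcm (Multiset.mem_replicate.mpr ⟨hpos.ne', rfl⟩))
    · have h1 := Equiv.Perm.sum_cycleType g
      rw [hg, Multiset.sum_replicate, smul_eq_mul, Nat.div_mul_cancel hpn] at h1
      have h2 : g.support = Finset.univ := Finset.eq_univ_of_card _ (by rw [← h1, Fintype.card_fin])
      exact Equiv.Perm.mem_support.mp (h2 ▸ Finset.mem_univ i)
  choose G hG1 hG2 hG3 using hex
  let f : n.primeFactors → {c : ConjClasses (Equiv.Perm (Fin n)) // ∃ g : Equiv.Perm (Fin n), ConjClasses.mk g = c ∧ (orderOf g).Prime ∧ ∀ i : Fin n, g i ≠ i} :=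
    fun p => ⟨ConjClasses.mk (G p p.2), G p p.2, rfl, by rw [hG1]; exact (Nat.mem_primeFactors.mp p.2).1, hG2 p p.2⟩
  have hf : Function.Bijective f := by
    refine ⟨fun p q h => Subtype.ext ?_, fun c => ?_⟩
    · have h1 : ConjClasses.mk (G p p.2) = ConjClasses.mk (G q q.2) := congrArg Subtype.val h
      rw [ConjClasses.mk_eq_mk_iff_isConj] at h1
      rw [← hG1 p p.2, ← hG1 q q.2]
      obtain ⟨c, hc⟩ := isConj_iff.mp h1
      rw [← hc]
      exact ((MulAut.conj c).orderOf_eq _).symm
    · obtain ⟨c, g, rfl, hp, hfix⟩ := c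
      obtain ⟨k, hk⟩ := Equiv.Perm.cycleType_prime_order hp
      have h1 := Equiv.Perm.sum_cycleType g
      rw [hk, Multiset.sum_replicate, smul_eq_mul, hne g hfix] at h1
      have hmem : orderOf g ∈ n.primeFactors :=
        Nat.mem_primeFactors.mpr ⟨hp, ⟨k + 1, h1.symm.trans (mul_comm _ _)⟩, by omega⟩
      refine ⟨⟨_, hmem⟩, Subtype.ext ?_⟩
      show ConjClasses.mk (G _ hmem) = ConjClasses.mk g
      rw [ConjClasses.mk_eq_mk_iff_isConj, Equiv.Perm.isConj_iff_cycleType_eq, hG3, hk]
      congr 1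
      exact Nat.div_eq_of_eq_mul_left hp.pos h1.symm
  rw [← Nat.card_congr (Equiv.ofBijective f hf), Nat.card_eq_fintype_card, Fintype.card_coe]

end Cfsg.Agent.S3504
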