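import Cfsg.Statements.S3508
import Mathlib

set_option autoImplicit false
open Cfsg

namespace Cfsg.Agent.S3508

/-- Let a finite group G act faithfully on a set Ω with p ^ m points (p prime) and have an elementary abelian normal p-subgroup N acting regularly on Ω (so G is a group of affine transformations of an m-dimensional space over the field with p elements). If G contains an element of order p ^ r with r ≥ 1, then p ^ (r − 1) ≤ m. In particular an element of order p ^ m forces m ≤ 2, and m ≤ 1 when p is odd. -/
theorem result {G : Type*} [Group G] [Finite G] {Ω : Type*} [Fintype Ω] [MulAction G Ω] [FaithfulSMul G Ω] (p m : ℕ) (hp : p.Prime) (hcard : Fintype.card Ω = p ^ m)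
    (N : Subgroup G) [N.Normal] (hNc : IsMulCommutative N) (hNp : ∀ n ∈ N, n ^ p = 1)
    (hNtr : MulAction.IsPretransitive N Ω) (hNreg : ∀ ω : Ω, MulAction.stabilizer N ω = ⊥)
    (g : G) (r : ℕ) (hr : 1 ≤ r) (hg : orderOf g = p ^ r) :
    p ^ (r - 1) ≤ m ∧ (r = m → m ≤ 2 ∧ (2 < p → m ≤ 1)) := by
  classical
  haveI := Fact.mk hp
  haveI := hNtr
  have hmain : p ^ (r - 1) ≤ m := by
    by_contra hlt
    push Not at hlt
    haveI : Nonempty Ω := by
      rw [← Fintype.card_pos_iff, hcard]; exact pow_pos hp.pos m
    obtain ⟨α⟩ := ‹Nonempty Ω›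
    letI : CommGroup N := { (inferInstance : Group N) with mul_comm := hNc.is_comm.comm }
    haveI : Module (ZMod p) (Additive N) := AddCommGroup.zmodModule (fun x => by
      show Additive.ofMul (x.toMul ^ p) = 0
      rw [show x.toMul ^ p = 1 from Subtype.ext (hNp _ x.toMul.2)]
      rfl)
    obtain ⟨v, hv⟩ := MulAction.exists_smul_eq N α (g • α)
    set s : G := (v : G)⁻¹ * g with hs
    have hsα : s • α = α := by
      rw [hs, mul_smul, inv_smul_eq_iff]; exact hv.symm
    let c : Additive N →+ Additive N :=
      MonoidHom.toAdditive ((MulAut.conjNormal s : MulAut N) : N →* N)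
    let C : Module.End (ZMod p) (Additive N) := c.toZModLinearMap p
    have hCapp : ∀ (k : ℕ) (n : N), (((C ^ k : Module.End (ZMod p) (Additive N)) (Additive.ofMul n)).toMul : G) = s ^ k * n * (s ^ k)⁻¹ := by
      intro k
      induction k with
      | zero => intro n; simp
      | succ k ih =>
        intro n
        rw [pow_succ' C, Module.End.mul_apply]
        show ((MulAut.conjNormal s ((C ^ k : Module.End (ZMod p) (Additive N)) (Additive.ofMul n)).toMul : N) : G) = _
        rw [MulAut.conjNormal_apply, ih, pow_succ', mul_inv_rev]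
        simp [mul_assoc, hs]
    have hw : ∀ k : ℕ, g ^ k = (((∑ i ∈ Finset.range k, C ^ i : Module.End (ZMod p) (Additive N)) (Additive.ofMul v)).toMul : G) * s ^ k := by
      intro k
      induction k with
      | zero => simp
      | succ k ih =>
        rw [geom_sum_succ, pow_succ' g, ih, LinearMap.add_apply, Module.End.mul_apply, Module.End.one_apply,
          toMul_add, Subgroup.coe_mul]
        show g * _ = ((MulAut.conjNormal s ((∑ i ∈ Finset.range k, C ^ i : Module.End (ZMod p) (Additive N)) (Additive.ofMul v)).toMul : N) : G) * _ * _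
        rw [MulAut.conjNormal_apply, toMul_ofMul, pow_succ' s]
        have hcm : ∀ a b : N, (a : G) * b = (b : G) * a := fun a b => congrArg Subtype.val (hNc.is_comm.comm a b)
        generalize ((∑ i ∈ Finset.range k, C ^ i : Module.End (ZMod p) (Additive N)) (Additive.ofMul v)).toMul = w
        have h1 : s * (w : G) * s⁻¹ ∈ N := (inferInstance : N.Normal).conj_mem _ w.2 s
        have h2 := hcm v ⟨_, h1⟩
        simp only at h2
        rw [← h2, hs]
        simp [mul_assoc]
    have hNα : ∀ n ∈ N, n • α = α → n = 1 := fun n hn h => by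
      have : (⟨n, hn⟩ : N) ∈ MulAction.stabilizer N α := h
      rw [hNreg, Subgroup.mem_bot] at this
      exact congrArg Subtype.val this
    have hspow : ∀ k : ℕ, g ^ k = 1 → s ^ k = 1 := fun k hk => by
      have h1 := hw k
      rw [hk] at h1
      have h2 : s ^ k ∈ N := by
        rw [← inv_inv (s ^ k), ← eq_inv_of_mul_eq_one_left h1.symm]
        exact N.inv_mem (SetLike.coe_mem _)
      refine hNα _ h2 ?_
      have : s ∈ MulAction.stabilizer G α := hsα
      exact (MulAction.stabilizer G α).pow_mem this k
    have hfr : Module.finrank (ZMod p) (Additive N) = m := by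
      have h1 := Module.natCard_eq_pow_finrank (K := ZMod p) (V := Additive N)
      have h2 : Nat.card N = p ^ m := by
        have h := MulAction.index_stabilizer_of_transitive N α
        rw [hNreg, Subgroup.index_bot, Nat.card_eq_fintype_card (α := Ω), hcard] at h
        exact h
      rw [Nat.card_congr Additive.toMul, h2, Nat.card_zmod] at h1
      exact (Nat.pow_right_injective hp.two_le h1).symm
    have hid : ∀ j : ℕ, (C - 1) ^ (p ^ j) = C ^ (p ^ j) - 1 := fun j => by
      have := congrArg (Polynomial.aeval C) (sub_pow_char_pow (R := Polynomial (ZMod p)) (p := p) (n := j) Polynomial.X 1)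
      simpa using this
    have hone : C ^ (p ^ r) = 1 := by
      refine LinearMap.ext fun x => ?_
      have h1 := hCapp (p ^ r) x.toMul
      rw [hspow _ (hg ▸ pow_orderOf_eq_one g), one_mul, inv_one, mul_one] at h1
      exact Subtype.ext h1
    have hnil : IsNilpotent (C - 1) := ⟨p ^ r, by rw [hid, hone, sub_self]⟩
    have hm0 : ∀ k, m ≤ k → (C - 1) ^ k = 0 := by
      intro k hk
      have := LinearMap.aeval_self_charpoly (C - 1)
      rw [IsNilpotent.charpoly_eq_X_pow_finrank hnil, hfr, map_pow, Polynomial.aeval_X] at this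
      exact pow_eq_zero_of_le hk this
    have hq : C ^ (p ^ (r - 1)) = 1 := sub_eq_zero.mp ((hid _).symm.trans (hm0 _ hlt.le))
    have hs1 : s ^ (p ^ (r - 1)) = 1 := by
      refine FaithfulSMul.eq_of_smul_eq_smul (α := Ω) fun ω => ?_
      obtain ⟨n, rfl⟩ := MulAction.exists_smul_eq N α ω
      have h1 := hCapp (p ^ (r - 1)) n
      rw [hq] at h1
      simp only [Module.End.one_apply, toMul_ofMul] at h1
      rw [one_smul]
      show s ^ (p ^ (r - 1)) • ((n : G) • α) = (n : G) • α
      rw [← mul_smul, mul_inv_eq_iff_eq_mul.mp h1.symm, mul_smul]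
      have hst : s ^ (p ^ (r - 1)) • α = α := (MulAction.stabilizer G α).pow_mem hsα _
      rw [hst]
    have hsum : ∑ i ∈ Finset.range (p ^ (r - 1)), C ^ i = (C - 1) ^ (p ^ (r - 1) - 1) := by
      have hpoly : ∑ i ∈ Finset.range (p ^ (r - 1)), (Polynomial.X : Polynomial (ZMod p)) ^ i =
          (Polynomial.X - 1) ^ (p ^ (r - 1) - 1) := by
        have hne : (Polynomial.X - 1 : Polynomial (ZMod p)) ≠ 0 := Polynomial.X_sub_C_ne_zero (1 : ZMod p)
        apply mul_right_cancel₀ hne
        rw [geom_sum_mul, ← pow_succ, Nat.sub_add_cancel (Nat.one_le_pow _ _ hp.pos),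
          sub_pow_char_pow, one_pow]
      simpa using congrArg (Polynomial.aeval C) hpoly
    have hq1 := hw (p ^ (r - 1))
    rw [hsum, hm0 _ (by omega), LinearMap.zero_apply, hs1] at hq1
    have hdvd := orderOf_dvd_of_pow_eq_one (hq1.trans (by simp))
    rw [hg, Nat.pow_dvd_pow_iff_le_right hp.one_lt] at hdvd
    omega
  refine ⟨hmain, fun hrm => ?_⟩
  subst hrm
  have h2 : 2 ^ (r - 1) ≤ r := le_trans (Nat.pow_le_pow_left hp.two_le _) hmain
  have key : ∀ t : ℕ, t + 3 < 2 ^ (t + 2) := by
    intro t
    induction t with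
    | zero => norm_num
    | succ t ih => rw [pow_succ]; omega
  refine ⟨?_, fun hp2 => ?_⟩
  · by_contra h
    obtain ⟨t, rfl⟩ := Nat.exists_eq_add_of_le (show 3 ≤ r by omega)
    have := key t
    rw [show 3 + t - 1 = t + 2 by omega] at h2
    omega
  · by_contra h
    by_cases hr2 : r = 2
    · subst hr2; simp at hmain; omega
    · obtain ⟨t, rfl⟩ := Nat.exists_eq_add_of_le (show 3 ≤ r by omega)
      have := key t
      rw [show 3 + t - 1 = t + 2 by omega] at h2
      omega

end Cfsg.Agent.S3508
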