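import Cfsg.Statements.S3511

set_option autoImplicit false
open Cfsg

namespace Cfsg.Agent.S3511

/-- Let a finite group G act faithfully on a set Ω. If every element of G of square-free order has a regular cycle (an orbit of the cyclic group it generates with trivial stabilizer), then every element of G has a regular cycle. -/
theorem result {G : Type*} [Group G] [Finite G] {Ω : Type*} [MulAction G Ω] [FaithfulSMul G Ω]
    (h : ∀ g : G, Squarefree (orderOf g) → ∃ ω : Ω, MulAction.stabilizer (Subgroup.zpowers g) ω = ⊥) (g : G) :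
    ∃ ω : Ω, MulAction.stabilizer (Subgroup.zpowers g) ω = ⊥ := by
  classical
  set n := orderOf g with hn
  have hn0 : 0 < n := orderOf_pos g
  set r := ∏ p ∈ n.primeFactors, p with hr
  have hrn : r ∣ n := Nat.prod_primeFactors_dvd n
  have hr0 : 0 < r := Nat.pos_of_dvd_of_pos hrn hn0
  set g₀ := g ^ (n / r) with hg₀
  have hord : orderOf g₀ = r := by
    rw [hg₀, orderOf_pow_of_dvd (Nat.pos_iff_ne_zero.mp (Nat.div_pos (Nat.le_of_dvd hn0 hrn) hr0))
      (Nat.div_dvd_of_dvd hrn)]
    exact Nat.div_div_self hrn hn0.ne'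
  have hsq : Squarefree (orderOf g₀) := by
    rw [hord, hr]
    refine Finset.squarefree_prod_of_pairwise_isCoprime ?_ ?_
    · intro a ha b hb hab
      exact Nat.coprime_iff_isRelPrime.mp ((Nat.coprime_primes (Nat.prime_of_mem_primeFactors ha)
        (Nat.prime_of_mem_primeFactors hb)).mpr hab)
    · exact fun a ha => (Nat.prime_of_mem_primeFactors ha).squarefree
  obtain ⟨ω, hω⟩ := h g₀ hsq
  refine ⟨ω, ?_⟩
  by_contra hne
  let K := (MulAction.stabilizer (Subgroup.zpowers g) ω)
  have hK : Nat.card K ≠ 1 := fun h1 => hne (Subgroup.card_eq_one.mp h1)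
  obtain ⟨p, hp, hpK⟩ := Nat.exists_prime_and_dvd hK
  haveI := Fact.mk hp
  obtain ⟨x, hx⟩ := exists_prime_orderOf_dvd_card' (G := K) p hpK
  have hxG : orderOf ((x : Subgroup.zpowers g) : G) = p := by
    rw [Subgroup.orderOf_coe, Subgroup.orderOf_coe, hx]
  have hfix : ((x : Subgroup.zpowers g) : G) • ω = ω := x.2
  obtain ⟨k, hk⟩ := (mem_zpowers_iff_mem_range_orderOf.mp (x : Subgroup.zpowers g).2 |> Finset.mem_image.mp)
  have hpn : p ∣ n := by
    rw [← hxG]; exact orderOf_dvd_of_mem_zpowers (x : Subgroup.zpowers g).2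
  have hpr : p ∣ r := Finset.dvd_prod_of_mem _ (Nat.mem_primeFactors.mpr ⟨hp, hpn, hn0.ne'⟩)
  have hmem : ((x : Subgroup.zpowers g) : G) ∈ Subgroup.zpowers g₀ := by
    have hkp : n ∣ k * p := by
      apply orderOf_dvd_of_pow_eq_one
      rw [pow_mul, hk.2, ← hxG, pow_orderOf_eq_one]
    have h1 : n / p ∣ k := Nat.dvd_of_mul_dvd_mul_right hp.pos (by rwa [Nat.div_mul_cancel hpn])
    have h2 : n / r ∣ k := dvd_trans (by
      obtain ⟨c, hc⟩ := hpr
      obtain ⟨d, hd⟩ := hrn
      rw [hd, Nat.mul_div_cancel_left _ hr0, hc]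
      rw [mul_assoc, Nat.mul_div_cancel_left _ hp.pos]
      exact dvd_mul_left d c) h1
    obtain ⟨e, rfl⟩ := h2
    rw [← hk.2, pow_mul]
    exact pow_mem (Subgroup.mem_zpowers _) e
  have : (⟨_, hmem⟩ : Subgroup.zpowers g₀) ∈ MulAction.stabilizer (Subgroup.zpowers g₀) ω := hfix
  rw [hω, Subgroup.mem_bot, Subtype.ext_iff] at this
  have h1 : ((x : Subgroup.zpowers g) : G) = 1 := this
  rw [h1, orderOf_one] at hxG
  exact hp.one_lt.ne hxG

end Cfsg.Agent.S3511
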