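import Cfsg.Statements.S3514
import Mathlib
import Cfsg.Agent.Lib.Core.Basic

set_option autoImplicit false
open Cfsg

namespace Cfsg.Agent.S3514

/-- Let p be a prime, V a finite vector space over the field with p elements, and H a group of linear transformations of V all of whose orbits on V have size coprime to p. (i) Every normal subgroup K of H has all its orbits on V of size coprime to p. (ii) If N is a group of linear transformations of V of order coprime to p that is normalized by H, then the group generated by N and H has all its orbits on V of size coprime to p. -/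
theorem result (p : ℕ) [Fact p.Prime] {V : Type*} [AddCommGroup V] [Module (ZMod p) V] [Finite V]
    (H : Subgroup (V ≃ₗ[ZMod p] V)) (hH : ∀ v : V, ¬ p ∣ Nat.card {u : V | ∃ h ∈ H, h v = u}) :
    (∀ K : Subgroup (V ≃ₗ[ZMod p] V), K ≤ H → H ≤ Subgroup.normalizer (K : Set (V ≃ₗ[ZMod p] V)) →
        ∀ v : V, ¬ p ∣ Nat.card {u : V | ∃ k ∈ K, k v = u}) ∧
    (∀ N : Subgroup (V ≃ₗ[ZMod p] V), ¬ p ∣ Nat.card N → H ≤ Subgroup.normalizer (N : Set (V ≃ₗ[ZMod p] V)) →
        ∀ v : V, ¬ p ∣ Nat.card {u : V | ∃ x ∈ N ⊔ H, x v = u}) := by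
  classical
  have hp : p.Prime := Fact.out
  haveI : Finite (V ≃ₗ[ZMod p] V) := Finite.of_injective (fun e => (e : V → V)) DFunLike.coe_injective
  let st : V → Subgroup (V ≃ₗ[ZMod p] V) := fun v => MulAction.stabilizer (V ≃ₗ[ZMod p] V) v
  have horb : ∀ (S : Subgroup (V ≃ₗ[ZMod p] V)) (v : V),
      Nat.card {u : V | ∃ h ∈ S, h v = u} = (st v).relIndex S := by
    intro S v
    show _ = ((st v).subgroupOf S).index
    rw [show (st v).subgroupOf S = MulAction.stabilizer S v from rfl, MulAction.index_stabilizer, ← Nat.card_coe_set_eq]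
    refine Nat.card_congr (Equiv.setCongr ?_)
    ext u
    exact ⟨fun ⟨h, hh, he⟩ => ⟨⟨h, hh⟩, he⟩, fun ⟨h, he⟩ => ⟨h, h.2, he⟩⟩
  have hmul : ∀ A B : Subgroup (V ≃ₗ[ZMod p] V), A ≤ B → Nat.card A * A.relIndex B = Nat.card B := fun A B h => by
    simpa [Subgroup.relIndex_bot_left] using Subgroup.relIndex_mul_relIndex ⊥ A B bot_le h
  refine ⟨fun K hKH hKn v hd => ?_, fun N hN hNn v hd => ?_⟩
  · rw [horb] at hd
    apply hH v
    rw [horb]
    refine hd.trans ?_
    set A := st v ⊓ H with hA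
    have hn : A ≤ Subgroup.normalizer (K : Set (V ≃ₗ[ZMod p] V)) := inf_le_right.trans hKn
    have hc := CfsgLib.Core.card_sup_mul_card_inf A K hn
    have h1 : st v ⊓ K = A ⊓ K := by rw [hA, inf_assoc, inf_eq_right.mpr hKH]
    have h2 : (st v).relIndex K = A.relIndex (A ⊔ K) := by
      rw [← Subgroup.inf_relIndex_right, h1]
      have e1 := hmul (A ⊓ K) K inf_le_right
      have e2 := hmul A (A ⊔ K) le_sup_left
      rw [← e2, mul_assoc, mul_comm (A.relIndex _), ← e1] at hc
      have e3 : Nat.card A * (A.relIndex (A ⊔ K) * Nat.card ↥(A ⊓ K)) = Nat.card A * ((A ⊓ K).relIndex K * Nat.card ↥(A ⊓ K)) := by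
        ring_nf at hc ⊢
        linarith
      exact (Nat.eq_of_mul_eq_mul_right Nat.card_pos (Nat.eq_of_mul_eq_mul_left Nat.card_pos e3)).symm
    rw [h2, ← Subgroup.inf_relIndex_right (st v) H, ← hA]
    exact ⟨_, (Subgroup.relIndex_mul_relIndex A (A ⊔ K) H le_sup_left (sup_le inf_le_right hKH)).symm⟩
  · rw [horb] at hd
    have hc := CfsgLib.Core.card_sup_mul_card_inf H N hNn
    have e1 := hmul (H ⊓ N) N inf_le_right
    have e2 := hmul H (H ⊔ N) le_sup_left
    have h3 : H.relIndex (H ⊔ N) ∣ Nat.card N := by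
      refine ⟨Nat.card ↥(H ⊓ N), Nat.eq_of_mul_eq_mul_left (Nat.card_pos (α := H)) ?_⟩
      rw [← hc, ← e2, mul_assoc]
    have h4 := (Subgroup.relIndex_mul_relIndex (st v ⊓ H) H (N ⊔ H) inf_le_right le_sup_right)
    have h5 : (st v).relIndex (N ⊔ H) ∣ (st v ⊓ H).relIndex (N ⊔ H) := Subgroup.relIndex_dvd_of_le_left _ inf_le_left
    rw [← h4, Subgroup.inf_relIndex_right] at h5
    rcases hp.dvd_mul.mp (hd.trans h5) with h | h
    · exact hH v (by rw [horb]; exact h)
    · rw [sup_comm] at h; exact hN (h.trans h3)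

end Cfsg.Agent.S3514
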