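import Cfsg.Statements.S3515
import Cfsg.Agent.Lib.Recog.AffineTriples

set_option autoImplicit false
open Cfsg

namespace Cfsg.Agent.S3515

/-- Every primitive affine permutation group of degree p² is 3-closed. Let p be a prime and G a group of permutations of the plane V = F_p² consisting of affine maps x ↦ Ax + b, containing all translations, and acting primitively on V. Then any permutation σ of V that agrees on every triple of points with some element of G (σ preserves every G-orbit on ordered triples) already lies in G. -/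
theorem result (p : ℕ) [Fact p.Prime] (G : Subgroup (Equiv.Perm (Fin 2 → ZMod p)))
    (haff : (G : Set (Equiv.Perm (Fin 2 → ZMod p))) ⊆ {τ : Equiv.Perm (Fin 2 → ZMod p) | ∃ (A : (Fin 2 → ZMod p) ≃ₗ[ZMod p] (Fin 2 → ZMod p)) (b : Fin 2 → ZMod p), ∀ x, τ x = A x + b})
    (htrans : ∀ b : Fin 2 → ZMod p, ∃ g ∈ G, ∀ x, g x = x + b) (hprim : MulAction.IsPreprimitive G (Fin 2 → ZMod p))
    (σ : Equiv.Perm (Fin 2 → ZMod p)) (hσ : (∀ t : Fin 3 → (Fin 2 → ZMod p), ∃ g ∈ G, ∀ i, σ (t i) = g (t i))) : σ ∈ G := by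
  classical
  have _ := htrans
  have _ := hprim
  obtain ⟨A₀, b₀, h₀⟩ := CfsgLib.Recog.AffineTriples.affine_plane σ (fun t => by
    obtain ⟨g, hg, hgt⟩ := hσ t
    obtain ⟨A, b, hA⟩ := haff hg
    exact ⟨A, b, fun i => (hgt i).trans (hA _)⟩)
  let e := Pi.basisFun (ZMod p) (Fin 2)
  obtain ⟨g, hg, hgt⟩ := hσ ![0, e 0, e 1]
  obtain ⟨A, b, hA⟩ := haff hg
  have h0 : σ 0 = g 0 := hgt 0
  have h1 : σ (e 0) = g (e 0) := hgt 1
  have h2 : σ (e 1) = g (e 1) := hgt 2
  rw [hA, h₀] at h0 h1 h2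
  simp only [map_zero, zero_add] at h0
  subst h0
  have hAA : (A₀ : (Fin 2 → ZMod p) →ₗ[ZMod p] (Fin 2 → ZMod p)) = (A : (Fin 2 → ZMod p) →ₗ[ZMod p] (Fin 2 → ZMod p)) :=
    e.ext fun i => by
      fin_cases i
      · exact add_right_cancel h1
      · exact add_right_cancel h2
  have : σ = g := Equiv.ext fun x => by
    rw [h₀, hA]; congr 1; exact LinearMap.congr_fun hAA x
  rw [this]; exact hg

end Cfsg.Agent.S3515
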