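import Cfsg.Statements.S3516
import Cfsg.Agent.Lib.Recog.AffineTriples

set_option autoImplicit false
open Cfsg

namespace Cfsg.Agent.S3516

/-- Let p be an odd prime, d ≥ 3, and G a group of affine permutations x ↦ Ax + b of V = F_p^d containing all translations and all maps x ↦ Ax with A of determinant 1. Then the 3-closure of G is the full affine group: a permutation σ of V agrees on every triple of points with some element of G if and only if σ is an affine map. -/
theorem result (p : ℕ) [Fact p.Prime] (hp : p ≠ 2) (d : ℕ) (hd : 3 ≤ d) (G : Subgroup (Equiv.Perm (Fin d → ZMod p)))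
    (haff : (G : Set (Equiv.Perm (Fin d → ZMod p))) ⊆ {τ : Equiv.Perm (Fin d → ZMod p) | ∃ (A : (Fin d → ZMod p) ≃ₗ[ZMod p] (Fin d → ZMod p)) (b : Fin d → ZMod p), ∀ x, τ x = A x + b})
    (htrans : ∀ b : Fin d → ZMod p, ∃ g ∈ G, ∀ x, g x = x + b)
    (hsl : ∀ A : (Fin d → ZMod p) ≃ₗ[ZMod p] (Fin d → ZMod p), LinearMap.det (A : (Fin d → ZMod p) →ₗ[ZMod p] (Fin d → ZMod p)) = 1 → ∃ g ∈ G, ∀ x, g x = A x)
    (σ : Equiv.Perm (Fin d → ZMod p)) :
    (∀ t : Fin 3 → (Fin d → ZMod p), ∃ g ∈ G, ∀ i, σ (t i) = g (t i)) ↔ σ ∈ {τ : Equiv.Perm (Fin d → ZMod p) | ∃ (A : (Fin d → ZMod p) ≃ₗ[ZMod p] (Fin d → ZMod p)) (b : Fin d → ZMod p), ∀ x, τ x = A x + b} := by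
  classical
  constructor
  · intro h
    exact CfsgLib.Recog.AffineTriples.affine_of_triples hp σ fun t => by
      obtain ⟨g, hg, hgt⟩ := h t
      obtain ⟨A, b, hA⟩ := haff hg
      exact ⟨A, b, fun i => (hgt i).trans (hA _)⟩
  · rintro ⟨A, b, hσ⟩ t
    obtain ⟨B, hB, hBv, hBw⟩ := CfsgLib.Recog.AffineTriples.exists_det_one_agree
      (by rw [Module.finrank_fintype_fun_eq_card, Fintype.card_fin]; exact hd) A (t 1 - t 0) (t 2 - t 0)
    obtain ⟨g₁, hg₁, h₁⟩ := hsl B hB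
    obtain ⟨g₂, hg₂, h₂⟩ := htrans (A (t 0) + b - B (t 0))
    refine ⟨g₂ * g₁, G.mul_mem hg₂ hg₁, fun i => ?_⟩
    rw [Equiv.Perm.mul_apply, h₁, h₂, hσ]
    have key : A (t i - t 0) = B (t i - t 0) := by
      fin_cases i
      · simp
      · exact hBv.symm
      · exact hBw.symm
    rw [map_sub, map_sub] at key
    linear_combination (norm := abel) key

end Cfsg.Agent.S3516
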