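import Cfsg.Statements.S3517
import Cfsg.Agent.Lib.Recog.AffineTriples

set_option autoImplicit false
open Cfsg

namespace Cfsg.Agent.S3517

/-- For d ≥ 3, the 3-closure of the affine group AGL_d(2) acting on F_2^d is the full symmetric group: every permutation of F_2^d agrees on every ordered triple of points with some affine map (AGL_d(2) is 3-transitive). -/
theorem result (d : ℕ) (hd : 3 ≤ d) (σ : Equiv.Perm (Fin d → ZMod 2)) (t : Fin 3 → (Fin d → ZMod 2)) :
    ∃ (A : (Fin d → ZMod 2) ≃ₗ[ZMod 2] (Fin d → ZMod 2)) (b : Fin d → ZMod 2), ∀ i, σ (t i) = A (t i) + b := by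
  classical
  have _ := hd
  -- reduce to the linear part
  suffices h : ∀ v w : Fin d → ZMod 2, ∀ v' w' : Fin d → ZMod 2, (v = 0 ↔ v' = 0) → (w = 0 ↔ w' = 0) → (v = w ↔ v' = w') →
      ∃ A : (Fin d → ZMod 2) ≃ₗ[ZMod 2] (Fin d → ZMod 2), A v = v' ∧ A w = w' by
    obtain ⟨A, h1, h2⟩ := h (t 1 - t 0) (t 2 - t 0) (σ (t 1) - σ (t 0)) (σ (t 2) - σ (t 0))
      (by simp [sub_eq_zero]) (by simp [sub_eq_zero]) (by simp [sub_left_inj])
    refine ⟨A, σ (t 0) - A (t 0), fun i => ?_⟩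
    fin_cases i
    · simp
    · simp only [map_sub] at h1
      show σ (t 1) = A (t 1) + (σ (t 0) - A (t 0))
      linear_combination (norm := abel) -(1:ℤ) • h1
    · simp only [map_sub] at h2
      show σ (t 2) = A (t 2) + (σ (t 0) - A (t 0))
      linear_combination (norm := abel) -(1:ℤ) • h2
  intro v w v' w' hv hw hvw
  have one : ∀ a a' : Fin d → ZMod 2, a ≠ 0 → a' ≠ 0 →
      ∃ A : (Fin d → ZMod 2) ≃ₗ[ZMod 2] (Fin d → ZMod 2), A a = a' := fun a a' ha ha' => by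
    obtain ⟨A, hA⟩ := CfsgLib.Recog.AffineTriples.exists_linearEquiv_of_li (K := ZMod 2)
      (v := ![a]) (w := ![a']) (LinearIndependent.of_subsingleton 0 (by simpa using ha)) (LinearIndependent.of_subsingleton 0 (by simpa using ha'))
    exact ⟨A, hA 0⟩
  by_cases hv0 : v = 0
  · by_cases hw0 : w = 0
    · exact ⟨LinearEquiv.refl _ _, by simp [hv0, hv.mp hv0], by simp [hw0, hw.mp hw0]⟩
    · obtain ⟨A, hA⟩ := one w w' hw0 (mt hw.mpr hw0)
      exact ⟨A, by rw [hv0, hv.mp hv0, map_zero], hA⟩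
  by_cases hw0 : w = 0
  · obtain ⟨A, hA⟩ := one v v' hv0 (mt hv.mpr hv0)
    exact ⟨A, hA, by rw [hw0, hw.mp hw0, map_zero]⟩
  by_cases he : v = w
  · obtain ⟨A, hA⟩ := one v v' hv0 (mt hv.mpr hv0)
    exact ⟨A, hA, by rw [← he, hA, hvw.mp he]⟩
  have h01 : ∀ c : ZMod 2, c = 0 ∨ c = 1 := by decide
  have li : ∀ a b : Fin d → ZMod 2, a ≠ 0 → b ≠ 0 → a ≠ b → LinearIndependent (ZMod 2) ![a, b] := by
    intro a b ha hb hab
    rw [LinearIndependent.pair_iff' ha]
    intro c hc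
    rcases h01 c with rfl | rfl
    · rw [zero_smul] at hc; exact hb hc.symm
    · rw [one_smul] at hc; exact hab hc
  obtain ⟨A, hA⟩ := CfsgLib.Recog.AffineTriples.exists_linearEquiv_of_li
    (li v w hv0 hw0 he) (li v' w' (mt hv.mpr hv0) (mt hw.mpr hw0) (mt hvw.mpr he))
  exact ⟨A, hA 0, hA 1⟩

end Cfsg.Agent.S3517
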