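import Cfsg.Statements.S3518
import Cfsg.Agent.Lib.Recog.Directions
import Cfsg.Agent.Lib.Recog.AffineTriples

set_option autoImplicit false
open Cfsg

namespace Cfsg.Agent.S3518

theorem perm_two : ∀ (σ : Equiv.Perm (ZMod 2)) (x : ZMod 2), σ x = x + σ 0 := by decide +kernel

/-- Closures of subgroups of the one-dimensional affine group. Let p be a prime and G a group of permutations of F_p lying in the affine group AGL₁(p) = {x ↦ ax + b, a ≠ 0} and containing all translations. (1) If G is a proper subgroup of AGL₁(p), then G is 2-closed: a permutation of F_p agreeing on every ordered pair of points with some element of G lies in G. (2) Every permutation of F_p agrees on every ordered pair with some element of AGL₁(p) (the 2-closure of AGL₁(p) is the symmetric group). (3) AGL₁(p) is 3-closed: a permutation agreeing on every ordered triple with some affine map is affine. -/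
theorem result (p : ℕ) [Fact p.Prime] (G : Subgroup (Equiv.Perm (ZMod p))) (hG : G ≤ Cfsg.affineGroup (ZMod p))
    (htrans : ∀ b : ZMod p, ∃ g ∈ G, ∀ x, g x = x + b) :
    (G ≠ Cfsg.affineGroup (ZMod p) → ∀ σ : Equiv.Perm (ZMod p), (∀ t : Fin 2 → ZMod p, ∃ g ∈ G, ∀ i, σ (t i) = g (t i)) → σ ∈ G) ∧
    (∀ σ : Equiv.Perm (ZMod p), (∀ t : Fin 2 → ZMod p, ∃ g ∈ Cfsg.affineGroup (ZMod p), ∀ i, σ (t i) = g (t i))) ∧
    (∀ σ : Equiv.Perm (ZMod p), (∀ t : Fin 3 → ZMod p, ∃ g ∈ Cfsg.affineGroup (ZMod p), ∀ i, σ (t i) = g (t i)) → σ ∈ Cfsg.affineGroup (ZMod p)) := by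
  classical
  have hpp := (Fact.out : p.Prime)
  refine ⟨fun hne σ hσ => ?_, fun σ t => ?_, fun σ hσ => ?_⟩
  · -- multipliers
    let U : Subgroup (ZMod p)ˣ :=
      { carrier := {a | ∃ g ∈ G, ∀ x, g x = (a : ZMod p) * x}
        one_mem' := ⟨1, G.one_mem, fun x => by simp⟩
        mul_mem' := by
          rintro a b ⟨g, hg, ha⟩ ⟨g', hg', hb⟩
          exact ⟨g * g', G.mul_mem hg hg', fun x => by rw [Equiv.Perm.mul_apply, hb, ha, Units.val_mul, mul_assoc]⟩
        inv_mem' := by
          rintro a ⟨g, hg, ha⟩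
          refine ⟨g⁻¹, G.inv_mem hg, fun x => g.injective ?_⟩
          rw [Equiv.Perm.inv_def, Equiv.apply_symm_apply, ha, ← mul_assoc, Units.mul_inv, one_mul] }
    have hmult : ∀ g ∈ G, ∀ (a : (ZMod p)ˣ) (b : ZMod p), (∀ x, g x = (a : ZMod p) * x + b) → a ∈ U := by
      intro g hg a b h
      obtain ⟨t, ht, htx⟩ := htrans (-b)
      exact ⟨t * g, G.mul_mem ht hg, fun x => by rw [Equiv.Perm.mul_apply, htx, h, add_neg_cancel_right]⟩
    have hU : U ≠ ⊤ := by
      intro htop
      apply hne
      refine le_antisymm hG ?_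
      rintro τ ⟨a, b, hτ⟩
      obtain ⟨g, hg, hga⟩ : a ∈ U := htop ▸ Subgroup.mem_top a
      obtain ⟨t, ht, htx⟩ := htrans b
      have : τ = t * g := Equiv.ext fun x => by rw [hτ, Equiv.Perm.mul_apply, htx, hga]
      rw [this]; exact G.mul_mem ht hg
    have hidx : 2 ≤ U.index := by
      have h1 : U.index ≠ 1 := fun h => hU (Subgroup.index_eq_one.mp h)
      have h0 : U.index ≠ 0 := Subgroup.index_ne_zero_of_finite
      omega
    have hcard : 2 * Nat.card U ≤ p - 1 := by
      have h := U.card_mul_index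
      rw [Nat.card_eq_fintype_card (α := (ZMod p)ˣ), ZMod.card_units] at h
      rw [← h, mul_comm 2]
      exact Nat.mul_le_mul_left _ hidx
    have hp2 : p ≠ 2 := by
      intro h
      have : 0 < Nat.card U := Nat.card_pos
      omega
    let C : Finset (ZMod p) := Finset.univ.filter fun c => ∀ a ∈ U, (a : ZMod p) ≠ -c
    have hC : (p + 1) / 2 ≤ C.card := by
      have h1 : (Finset.univ \ C).card ≤ Nat.card U := by
        have hsub : Finset.univ \ C ⊆ (Finset.univ.filter fun a : (ZMod p)ˣ => a ∈ U).image fun a : (ZMod p)ˣ => -(a : ZMod p) := by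
          intro c hc
          simp only [C, Finset.mem_sdiff, Finset.mem_univ, Finset.mem_filter, true_and, not_forall, not_not] at hc
          obtain ⟨a, ha, hac⟩ := hc
          exact Finset.mem_image.mpr ⟨a, by simpa using ha, by rw [hac, neg_neg]⟩
        refine (Finset.card_le_card hsub).trans (Finset.card_image_le.trans ?_)
        rw [Nat.card_eq_fintype_card, Fintype.card_subtype]
      rw [Finset.card_sdiff, Finset.inter_univ, Finset.card_univ, ZMod.card] at h1
      have := hpp.eq_two_or_odd.resolve_left hp2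
      omega
    have hdir : ∀ x y : ZMod p, x ≠ y → ∃ a ∈ U, σ x - σ y = (a : ZMod p) * (x - y) := by
      intro x y _
      obtain ⟨g, hg, hgt⟩ := hσ ![x, y]
      obtain ⟨a, b, hab⟩ := hG hg
      refine ⟨a, hmult g hg a b hab, ?_⟩
      have h0 := hgt 0; have h1 := hgt 1
      simp only [Matrix.cons_val_zero, Matrix.cons_val_one] at h0 h1
      rw [h0, h1, hab, hab]; ring
    obtain ⟨α, β, hαβ⟩ := CfsgLib.Recog.Directions.linear_of_few_directions hp2 σ C hC (fun c hc => by
      refine (Finite.injective_iff_bijective).mp fun x y hxy => ?_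
      by_contra hne'
      obtain ⟨a, ha, hab⟩ := hdir x y hne'
      have : (a : ZMod p) = -c := by
        apply mul_right_cancel₀ (sub_ne_zero.mpr hne')
        linear_combination hxy - hab
      exact (Finset.mem_filter.mp hc).2 a ha this)
    obtain ⟨g, hg, hgt⟩ := hσ ![0, 1]
    obtain ⟨a, b, hab⟩ := hG hg
    have h0 := hgt 0; have h1 := hgt 1
    simp only [Matrix.cons_val_zero, Matrix.cons_val_one] at h0 h1
    rw [hαβ, hab] at h0 h1
    simp only [mul_zero, zero_add, mul_one] at h0 h1
    have hασ : σ = g := Equiv.ext fun x => by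
      rw [hαβ, hab]
      linear_combination x * h1 + (1 - x) * h0
    rw [hασ]; exact hg
  · -- two-transitivity
    by_cases h : t 0 = t 1
    · refine ⟨Equiv.addRight (σ (t 0) - t 0), ⟨1, σ (t 0) - t 0, fun x => by simp⟩, fun i => ?_⟩
      fin_cases i <;> simp [h]
    · have ha : (σ (t 1) - σ (t 0)) / (t 1 - t 0) ≠ 0 :=
        div_ne_zero (sub_ne_zero.mpr fun e => h (σ.injective e).symm) (sub_ne_zero.mpr (Ne.symm h))
      let g : Equiv.Perm (ZMod p) :=
        (Equiv.mulLeft₀ _ ha).trans (Equiv.addRight (σ (t 0) - (σ (t 1) - σ (t 0)) / (t 1 - t 0) * t 0))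
      refine ⟨g, ⟨Units.mk0 _ ha, _, fun x => rfl⟩, fun i => ?_⟩
      have hne' : t 1 - t 0 ≠ 0 := sub_ne_zero.mpr (Ne.symm h)
      fin_cases i <;> simp [g] <;> field_simp <;> ring
  · by_cases hp2 : p = 2
    · subst hp2
      exact ⟨1, σ 0, fun x => by rw [perm_two σ x]; simp⟩
    · obtain ⟨A, b, hA⟩ := CfsgLib.Recog.AffineTriples.affine_of_triples hp2 σ (fun t => by
        obtain ⟨g, hg, hgt⟩ := hσ t
        obtain ⟨a, b, hab⟩ := hg
        exact ⟨LinearEquiv.smulOfUnit a, b, fun i => by rw [hgt i, hab]; rfl⟩)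
      have hA1 : ∀ x, A x = x * A 1 := fun x => by
        conv_lhs => rw [show x = x • (1 : ZMod p) by simp, map_smul]
        simp
      have hne : A 1 ≠ 0 := fun h => one_ne_zero (A.injective (h.trans (map_zero A).symm))
      exact ⟨Units.mk0 (A 1) hne, b, fun x => by rw [hA, hA1, Units.val_mk0, mul_comm]⟩

end Cfsg.Agent.S3518
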