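import Cfsg.Statements.S3524

set_option autoImplicit false
open Cfsg

namespace Cfsg.Agent.S3524

/-- A permutation group with a base is closed at one level above the base size. Let G be a group of permutations of a set Ω and suppose some k points α₁, …, α_k are fixed simultaneously only by the identity of G (a base of size k). Then G is (k+1)-closed: a permutation of Ω that agrees on every (k+1)-tuple of points with some element of G belongs to G. -/
theorem result {Ω : Type*} (G : Subgroup (Equiv.Perm Ω)) (k : ℕ) (α : Fin k → Ω)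
    (hbase : ∀ g ∈ G, (∀ i, g (α i) = α i) → g = 1) (σ : Equiv.Perm Ω)
    (hσ : ∀ t : Fin (k + 1) → Ω, ∃ g ∈ G, ∀ i, σ (t i) = g (t i)) : σ ∈ G := by
  classical
  rcases isEmpty_or_nonempty Ω with hΩ | ⟨⟨ω₀⟩⟩
  · have : σ = 1 := Equiv.ext fun x => (hΩ.false x).elim
    rw [this]; exact G.one_mem
  choose g hgG hg using fun ω : Ω => hσ (Fin.snoc α ω)
  have ha : ∀ ω i, g ω (α i) = σ (α i) := fun ω i => by
    have := hg ω i.castSucc
    simpa using this.symm
  have hl : ∀ ω, g ω ω = σ ω := fun ω => by
    have := hg ω (Fin.last k)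
    simpa using this.symm
  have heq : ∀ ω, g ω = g ω₀ := fun ω => by
    have := hbase ((g ω₀)⁻¹ * g ω) (G.mul_mem (G.inv_mem (hgG ω₀)) (hgG ω)) (fun i => by
      rw [Equiv.Perm.mul_apply, ha, ← ha ω₀ i]; simp)
    exact (inv_mul_eq_one.mp this).symm
  have : σ = g ω₀ := Equiv.ext fun ω => by rw [← heq ω]; exact (hl ω).symm
  rw [this]; exact hgG ω₀

end Cfsg.Agent.S3524
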