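import Cfsg.Statements.S3532
import Mathlib
import Cfsg.Agent.Lib.Recog.PSLTwoOrders

set_option autoImplicit false
open Cfsg

namespace Cfsg.Agent.S3532

--- PRE
/-- the action of a group of units of a field on its additive group -/
def unitAct (K : Type) [Field K] (C : Subgroup Kˣ) : C →* MulAut (Multiplicative K) :=
  MonoidHom.mk' (fun c => AddEquiv.toMultiplicative (AddAut.mulLeft ((c : Kˣ))))
    (fun a b => by
      ext v
      show Multiplicative.ofAdd (((a * b : C) : Kˣ).val * v.toAdd) = _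
      simp [mul_assoc]; rfl)

theorem orders (K : Type) [Field K] [Finite K] (p : ℕ) [hp : Fact p.Prime] [CharP K p] (C : Subgroup Kˣ)
    (A : ℕ) (hC : Nat.card C = A) :
    Set.range (orderOf : (Multiplicative K) ⋊[unitAct K C] C → ℕ) = {n | n = p ∨ n ∣ A} := by
  have hpow : ∀ (c : C) (v : K) (n : ℕ),
      ((⟨Multiplicative.ofAdd v, c⟩ : (Multiplicative K) ⋊[unitAct K C] C) ^ n) =
        ⟨Multiplicative.ofAdd ((∑ i ∈ Finset.range n, ((c : Kˣ) : K) ^ i) * v), c ^ n⟩ := by
    intro c v n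
    induction n with
    | zero => simp <;> rfl
    | succ n ih =>
      rw [pow_succ, ih]
      apply SemidirectProduct.ext
      · rw [SemidirectProduct.mul_left, Finset.sum_range_succ, add_mul]
        show _ * Multiplicative.ofAdd (((c ^ n : C) : Kˣ).val * v) = _
        simp [ofAdd_add]
      · rw [SemidirectProduct.mul_right, pow_succ]
  ext n
  constructor
  · rintro ⟨⟨v, c⟩, rfl⟩
    obtain ⟨v, rfl⟩ : ∃ w : K, Multiplicative.ofAdd w = v := ⟨v.toAdd, rfl⟩
    by_cases hc : c = 1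
    · subst hc
      have h : (⟨Multiplicative.ofAdd v, 1⟩ : (Multiplicative K) ⋊[unitAct K C] C) ^ p = 1 := by
        rw [hpow]; simp <;> rfl
      rcases (Nat.dvd_prime hp.out).1 (orderOf_dvd_of_pow_eq_one h) with h' | h'
      · exact Or.inr (by rw [h']; exact one_dvd _)
      · exact Or.inl h'
    · right
      apply orderOf_dvd_of_pow_eq_one
      have hcA : c ^ A = 1 := hC ▸ pow_card_eq_one'
      have hz : (∑ i ∈ Finset.range A, ((c : Kˣ) : K) ^ i) = 0 := by
        have hne : ((c : Kˣ) : K) - 1 ≠ 0 := fun h => hc (Subtype.ext (Units.ext (sub_eq_zero.1 h)))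
        apply mul_right_cancel₀ hne
        rw [geom_sum_mul, zero_mul, ← Units.val_pow_eq_pow_val, ← Subgroup.coe_pow, hcA]
        simp
      rw [hpow, hz, zero_mul, hcA]
      rfl
  · rintro (rfl | h)
    · refine ⟨SemidirectProduct.inl (Multiplicative.ofAdd 1), ?_⟩
      rw [orderOf_injective _ SemidirectProduct.inl_injective]
      refine orderOf_eq_prime (congrArg Multiplicative.ofAdd (show n • (1 : K) = 0 by simp)) ?_
      exact fun h => one_ne_zero (congrArg Multiplicative.toAdd h)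
    · obtain ⟨c, hc⟩ := IsCyclic.exists_ofOrder_eq_natCard (α := C)
      rw [hC] at hc
      obtain ⟨k, hk⟩ := h
      refine ⟨SemidirectProduct.inr (c ^ k), ?_⟩
      rw [orderOf_injective _ SemidirectProduct.inr_injective]
      have hA : 0 < A := hC ▸ Nat.card_pos
      have hk0 : k ≠ 0 := by rintro rfl; simp at hk; omega
      rw [orderOf_pow_of_dvd hk0 (hc ▸ hk ▸ dvd_mul_left k n), hc, hk,
        Nat.mul_div_cancel _ (Nat.pos_of_ne_zero hk0)]

theorem exists_units (K : Type) [Field K] [Finite K] (A : ℕ) (hA : A ∣ Nat.card K - 1) :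
    ∃ C : Subgroup Kˣ, Nat.card C = A := by
  obtain ⟨g, hg⟩ := IsCyclic.exists_ofOrder_eq_natCard (α := Kˣ)
  obtain ⟨k, hk⟩ := hA
  refine ⟨Subgroup.zpowers (g ^ k), ?_⟩
  have hcard : Nat.card Kˣ = A * k := by rw [Nat.card_units, hk]
  have hpos : 0 < A * k := hcard ▸ Nat.card_pos
  rw [Nat.card_zpowers, orderOf_pow_of_dvd (by rintro rfl; simp at hpos)
    (by rw [hg, hcard]; exact dvd_mul_left _ _), hg, hcard,
    Nat.mul_div_cancel _ (Nat.pos_of_mul_pos_left hpos)]

/-- Let q ≥ 4 be a prime power and L = PSL(2,q). There is a finite solvable group with the same set of element orders as L × L (so L × L is not determined by its spectrum). -/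
theorem result {F : Type*} [Field F] [Fintype F] (hF : 4 ≤ Fintype.card F) :
    ∃ (H : Type) (_ : Group H) (_ : Finite H), Group.IsSolvable H ∧
      Set.range (orderOf : H → ℕ) = Set.range (orderOf : Matrix.ProjectiveSpecialLinearGroup (Fin 2) F × Matrix.ProjectiveSpecialLinearGroup (Fin 2) F → ℕ) := by
  classical
  obtain ⟨p, hp⟩ := CharP.exists F
  haveI := hp
  obtain ⟨k, hpp, hk⟩ := FiniteField.card F p
  haveI := Fact.mk hpp
  have hspec := CfsgLib.Recog.PSLTwoOrders.range_orderOf (F := F) p hF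
  have hk0 : 2 * (k : ℕ) ≠ 0 := by positivity
  let K := GaloisField p (2 * (k : ℕ))
  have hK : Nat.card K = Fintype.card F * Fintype.card F := by
    rw [GaloisField.card p _ hk0, hk, two_mul, pow_add]
  set q := Fintype.card F with hq
  set A := (q - 1) / Nat.gcd 2 (q - 1) with hAd
  set B := (q + 1) / Nat.gcd 2 (q - 1) with hBd
  have hdiv : q * q - 1 = (q - 1) * (q + 1) := by
    rcases Nat.exists_eq_add_of_le (show 1 ≤ q by omega) with ⟨c, hc⟩
    rw [hc]; simp; ring_nf; omega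
  have hd1 : Nat.gcd 2 (q - 1) ∣ q + 1 := by
    rw [show q + 1 = (q - 1) + 2 by omega]
    exact dvd_add (Nat.gcd_dvd_right _ _) (Nat.gcd_dvd_left _ _)
  obtain ⟨CA, hCA⟩ := exists_units K A (by
    rw [hK, hdiv]; exact (Nat.div_dvd_of_dvd (Nat.gcd_dvd_right _ _)).trans (dvd_mul_right _ _))
  obtain ⟨CB, hCB⟩ := exists_units K B (by
    rw [hK, hdiv]; exact (Nat.div_dvd_of_dvd hd1).trans (dvd_mul_left _ _))
  have hsolC : ∀ C : Subgroup Kˣ, Group.IsSolvable C := fun C => inferInstance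
  have hsol : ∀ C : Subgroup Kˣ, Group.IsSolvable ((Multiplicative K) ⋊[unitAct K C] C) := by
    intro C
    haveI := hsolC C
    refine solvable_of_ker_le_range (SemidirectProduct.inl : Multiplicative K →* _)
      (SemidirectProduct.rightHom : _ →* C) ?_
    rw [SemidirectProduct.range_inl_eq_ker_rightHom]
  haveI := hsol CA
  haveI := hsol CB
  haveI : ∀ C : Subgroup Kˣ, Finite ((Multiplicative K) ⋊[unitAct K C] C) := fun C =>
    Finite.of_equiv _ SemidirectProduct.equivProd.symm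
  refine ⟨((Multiplicative K) ⋊[unitAct K CA] CA) × ((Multiplicative K) ⋊[unitAct K CB] CB),
    inferInstance, inferInstance, inferInstance, ?_⟩
  have hA := orders K p CA A hCA
  have hB := orders K p CB B hCB
  ext n
  constructor
  · rintro ⟨⟨a, b⟩, rfl⟩
    have ha : orderOf a ∈ Set.range (orderOf : Matrix.ProjectiveSpecialLinearGroup (Fin 2) F → ℕ) := by
      rw [hspec]
      rcases (hA ▸ Set.mem_range_self a : orderOf a ∈ {n | n = p ∨ n ∣ A}) with h | h
      · exact Or.inl h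
      · exact Or.inr (Or.inl h)
    have hb : orderOf b ∈ Set.range (orderOf : Matrix.ProjectiveSpecialLinearGroup (Fin 2) F → ℕ) := by
      rw [hspec]
      rcases (hB ▸ Set.mem_range_self b : orderOf b ∈ {n | n = p ∨ n ∣ B}) with h | h
      · exact Or.inl h
      · exact Or.inr (Or.inr h)
    obtain ⟨x, hx⟩ := ha
    obtain ⟨y, hy⟩ := hb
    exact ⟨(x, y), by rw [Prod.orderOf, Prod.orderOf]; simp only [hx, hy]⟩
  · rintro ⟨⟨x, y⟩, rfl⟩
    have hx := hspec ▸ Set.mem_range_self (f := orderOf) x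
    have hy := hspec ▸ Set.mem_range_self (f := orderOf) y
    have mA : ∀ m, (m = p ∨ m ∣ A) → ∃ a : (Multiplicative K) ⋊[unitAct K CA] CA, orderOf a = m :=
      fun m hm => (hA.symm ▸ hm : m ∈ Set.range (orderOf : (Multiplicative K) ⋊[unitAct K CA] CA → ℕ))
    have mB : ∀ m, (m = p ∨ m ∣ B) → ∃ a : (Multiplicative K) ⋊[unitAct K CB] CB, orderOf a = m :=
      fun m hm => (hB.symm ▸ hm : m ∈ Set.range (orderOf : (Multiplicative K) ⋊[unitAct K CB] CB → ℕ))
    have fin : ∀ u v, (u = p ∨ u ∣ A) → (v = p ∨ v ∣ B) →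
        ∃ z : ((Multiplicative K) ⋊[unitAct K CA] CA) × ((Multiplicative K) ⋊[unitAct K CB] CB),
          orderOf z = Nat.lcm u v := by
      intro u v hu hv
      obtain ⟨a, rfl⟩ := mA u hu
      obtain ⟨b, rfl⟩ := mB v hv
      exact ⟨(a, b), Prod.orderOf _⟩
    rw [Prod.orderOf]
    rcases hx with hx | hx | hx <;> rcases hy with hy | hy | hy
    · exact fin _ _ (Or.inl hx) (Or.inl hy)
    · obtain ⟨z, hz⟩ := fin _ _ (Or.inr hy) (Or.inl hx)
      exact ⟨z, hz.trans (Nat.lcm_comm _ _)⟩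
    · exact fin _ _ (Or.inl hx) (Or.inr hy)
    · exact fin _ _ (Or.inr hx) (Or.inl hy)
    · obtain ⟨z, hz⟩ := fin (Nat.lcm (orderOf x) (orderOf y)) 1 (Or.inr (Nat.lcm_dvd hx hy)) (Or.inr (one_dvd _))
      exact ⟨z, hz.trans (by simp)⟩
    · exact fin _ _ (Or.inr hx) (Or.inr hy)
    · obtain ⟨z, hz⟩ := fin _ _ (Or.inl hy) (Or.inr hx)
      exact ⟨z, hz.trans (Nat.lcm_comm _ _)⟩
    · obtain ⟨z, hz⟩ := fin _ _ (Or.inr hy) (Or.inr hx)
      exact ⟨z, hz.trans (Nat.lcm_comm _ _)⟩
    · obtain ⟨z, hz⟩ := fin 1 (Nat.lcm (orderOf x) (orderOf y)) (Or.inr (one_dvd _)) (Or.inr (Nat.lcm_dvd hx hy))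
      exact ⟨z, hz.trans (by simp)⟩

end Cfsg.Agent.S3532
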