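import Cfsg.Statements.S3548
import Cfsg.Agent.Lib.Recog.Derangement

set_option autoImplicit false
open Cfsg

namespace Cfsg.Agent.S3548

/-- Let G act faithfully and transitively on a finite set with n ≥ 2 points and let D be the subgroup generated by the derangements. Then the index of D in G divides n − 1, and if it equals n − 1 then n is a prime power. -/
theorem result {G Ω : Type*} [Group G] [Finite G] [MulAction G Ω] [FaithfulSMul G Ω] [Finite Ω]
    (htrans : MulAction.IsPretransitive G Ω) (hΩ : 2 ≤ Nat.card Ω) :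
    (Subgroup.closure {g : G | ∀ ω : Ω, g • ω ≠ ω}).index ∣ Nat.card Ω - 1 ∧
    ((Subgroup.closure {g : G | ∀ ω : Ω, g • ω ≠ ω}).index = Nat.card Ω - 1 → IsPrimePow (Nat.card Ω)) := by
  classical
  haveI : Nontrivial Ω := Finite.one_lt_card_iff_nontrivial.mp hΩ
  obtain ⟨htrD, hone⟩ := CfsgLib.Recog.Derangement.main htrans
  set D := Subgroup.closure {g : G | ∀ ω : Ω, g • ω ≠ ω} with hDdef
  haveI : D.Normal := by
    refine ⟨fun x hx g => ?_⟩
    have : (D.map (MulAut.conj g).toMonoidHom) ≤ D := by
      rw [hDdef, MonoidHom.map_closure, Subgroup.closure_le]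
      rintro _ ⟨y, hy, rfl⟩
      refine Subgroup.subset_closure fun ω hω => hy (g⁻¹ • ω) ?_
      have h1 : (g * y * g⁻¹) • ω = ω := hω
      rw [mul_smul, mul_smul] at h1
      rw [eq_inv_smul_iff, h1]
    exact this ⟨x, hx, rfl⟩
  obtain ⟨α⟩ : Nonempty Ω := inferInstance
  set A := MulAction.stabilizer G α with hA
  -- elements fixing two points lie in `D`
  have htwo : ∀ β, β ≠ α → ∀ g : G, g • α = α → g • β = β → g ∈ D := by
    intro β hβ g h1 h2
    by_contra hg
    have hc := hone g hg
    obtain ⟨hs⟩ := (Nat.card_eq_one_iff_unique.mp hc).1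
    exact hβ (congrArg Subtype.val (hs (⟨β, h2⟩ : MulAction.fixedBy Ω g) ⟨α, h1⟩))
  have hidx : D.index = D.relIndex A := by
    have hsup : A ⊔ D = ⊤ := by
      rw [eq_top_iff]
      intro g _
      obtain ⟨d, hd⟩ := MulAction.exists_smul_eq D (g • α) α
      have hdg : (d : G) * g ∈ A := by
        rw [hA, MulAction.mem_stabilizer_iff, mul_smul]; exact hd
      rw [show g = (d : G)⁻¹ * ((d : G) * g) by simp, sup_comm]
      exact Subgroup.mul_mem_sup (D.inv_mem d.2) hdg
    rw [← Subgroup.relIndex_top_right D, ← hsup, Subgroup.relIndex_sup_right]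
  have hdvd : ∀ β : Ω, β ≠ α → D.index ∣ Nat.card (MulAction.orbit A β) := by
    intro β hβ
    rw [hidx, Nat.card_coe_set_eq, ← MulAction.index_stabilizer]
    show (D.subgroupOf A).index ∣ _
    refine Subgroup.index_dvd_of_le fun g hg => ?_
    exact htwo β hβ g g.2 hg
  set S : Set Ω := {β | β ≠ α} with hS
  have hScard : Nat.card S = Nat.card Ω - 1 := by
    rw [Nat.card_coe_set_eq, show S = ({α} : Set Ω)ᶜ from rfl, Set.ncard_compl, Set.ncard_singleton]
  letI : MulAction A S :=
    { smul := fun g x => ⟨(g : G) • x.1, fun h => x.2 (MulAction.injective (g : G) (h.trans g.2.symm))⟩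
      one_smul := fun x => Subtype.ext (one_smul G x.1)
      mul_smul := fun g h x => Subtype.ext (mul_smul (g : G) (h : G) x.1) }
  have horbS : ∀ x : S, MulAction.stabilizer A x = MulAction.stabilizer A x.1 := fun x => by
    ext g
    exact ⟨fun h => congrArg Subtype.val h, fun h => Subtype.ext h⟩
  have hd1 : D.index ∣ Nat.card Ω - 1 := by
    rw [← hScard, Nat.card_congr (MulAction.selfEquivSigmaOrbitsQuotientStabilizer A S)]
    haveI := Fintype.ofFinite (MulAction.orbitRel.Quotient A S)
    rw [Nat.card_sigma]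
    refine Finset.dvd_sum fun q _ => ?_
    have h := hdvd _ (Quotient.out q).2
    rw [Nat.card_coe_set_eq, ← MulAction.index_stabilizer, ← horbS] at h
    rw [← Subgroup.index_eq_card]
    exact h
  refine ⟨hd1, fun heq => ?_⟩
  have hpos : 0 < Nat.card Ω - 1 := by omega
  -- single orbit
  have hfull : ∀ β : Ω, β ≠ α → Nat.card (MulAction.orbit A β) = Nat.card Ω - 1 := by
    intro β hβ
    refine le_antisymm ?_ ?_
    · rw [← hScard]
      refine Nat.card_mono (Set.toFinite _) ?_
      rintro _ ⟨g, rfl⟩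
      exact fun h => hβ (MulAction.injective (g : G) (h.trans g.2.symm))
    · rw [← heq]
      haveI : Nonempty (MulAction.orbit A β) := ⟨⟨β, MulAction.mem_orbit_self β⟩⟩
      exact Nat.le_of_dvd Nat.card_pos (hdvd β hβ)
  have hreg : ∀ d ∈ D, d • α = α → d = 1 := by
    intro d hd hdα
    refine FaithfulSMul.eq_of_smul_eq_smul (α := Ω) fun β => ?_
    rw [one_smul]
    by_cases hβ : β = α
    · rw [hβ, hdα]
    have hle : MulAction.stabilizer A β ≤ D.subgroupOf A := fun g hg => htwo β hβ g g.2 hg
    have heq' : MulAction.stabilizer A β = D.subgroupOf A := by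
      refine Subgroup.eq_of_le_of_card_ge hle (le_of_eq ?_)
      have h1 : (MulAction.stabilizer A β).index = (D.subgroupOf A).index := by
        rw [MulAction.index_stabilizer, ← Nat.card_coe_set_eq, hfull β hβ, ← heq, hidx]; rfl
      have e1 := (MulAction.stabilizer A β).card_mul_index
      have e2 := (D.subgroupOf A).card_mul_index
      rw [h1, ← e2] at e1
      exact (Nat.eq_of_mul_eq_mul_right (Nat.pos_of_ne_zero Subgroup.index_ne_zero_of_finite) e1).symm
    have : (⟨d, hdα⟩ : A) ∈ MulAction.stabilizer A β := by rw [heq']; exact hd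
    exact this
  haveI := htrD
  have hcardD : Nat.card D = Nat.card Ω := by
    refine Nat.card_eq_of_bijective (fun d : D => d • α) ⟨fun a b hab => ?_, fun ω => MulAction.exists_smul_eq D α ω⟩
    have hab' : (a : G) • α = (b : G) • α := hab
    have h1 : ((b : G)⁻¹ * a) = 1 := hreg _ (D.mul_mem (D.inv_mem b.2) a.2) (by rw [mul_smul, hab', inv_smul_smul])
    exact Subtype.ext (inv_mul_eq_one.mp h1).symm
  have hp := Nat.minFac_prime (n := Nat.card D) (by omega)
  haveI := Fact.mk hp
  obtain ⟨e, he⟩ := exists_prime_orderOf_dvd_card' (G := D) (Nat.card D).minFac (Nat.minFac_dvd _)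
  have hall : ∀ d : D, d ≠ 1 → orderOf d = (Nat.card D).minFac := by
    intro d hd
    have hne : ∀ u : D, u ≠ 1 → (u : G) • α ≠ α := fun u hu h => hu (Subtype.ext (hreg _ u.2 h))
    have he1 : e ≠ 1 := fun h => hp.ne_one (by rw [← he, h, orderOf_one])
    have h1 : MulAction.orbit A ((e : G) • α) = S := by
      refine Set.eq_of_subset_of_ncard_le ?_ ?_
      · rintro _ ⟨g, rfl⟩
        exact fun h => hne e he1 (MulAction.injective (g : G) (h.trans g.2.symm))
      · rw [← Nat.card_coe_set_eq, ← Nat.card_coe_set_eq, hScard, hfull _ (hne e he1)]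
    have h2 : (d : G) • α ∈ MulAction.orbit A ((e : G) • α) := by rw [h1]; exact hne d hd
    obtain ⟨a, ha⟩ := h2
    have haα : (a : G)⁻¹ • α = α := by rw [inv_smul_eq_iff]; exact a.2.symm
    have h3 : (d : G)⁻¹ * ((a : G) * e * (a : G)⁻¹) = 1 := by
      refine hreg _ (D.mul_mem (D.inv_mem d.2) ((inferInstance : D.Normal).conj_mem _ e.2 a)) ?_
      rw [mul_smul, inv_smul_eq_iff, mul_smul, mul_smul, haα]
      exact ha
    rw [inv_mul_eq_one] at h3
    rw [← Subgroup.orderOf_coe, h3, ← MulAut.conj_apply, MulEquiv.orderOf_eq, Subgroup.orderOf_coe, he]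
  have hpg : IsPGroup (Nat.card D).minFac D := IsPGroup.iff_orderOf.mpr fun d => by
    by_cases hd : d = 1
    · exact ⟨0, by rw [hd, orderOf_one, pow_zero]⟩
    · exact ⟨1, by rw [hall d hd, pow_one]⟩
  obtain ⟨k, hk⟩ := hpg.exists_card_eq
  rw [hcardD] at hk
  refine ⟨(Nat.card D).minFac, k, hp.prime, ?_, ?_⟩
  · by_contra h0
    have hk0 : k = 0 := by omega
    rw [hk0, pow_zero] at hk
    omega
  · rw [← hcardD] at hk ⊢; exact hk.symm

end Cfsg.Agent.S3548
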