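import Cfsg.Statements.S3549
import Mathlib

set_option autoImplicit false
open Cfsg Pointwise

namespace Cfsg.Agent.S3549

--- PRE
open MulAction

/-- If every element outside `D` fixes a point of a transitive action, it fixes exactly one, and
`D` is transitive. -/
theorem unique_fixed {G X : Type*} [Group G] [Finite G] [MulAction G X] [Finite X] [Nonempty X]
    (htr : IsPretransitive G X) (D : Subgroup G) (hfix : ∀ g : G, g ∉ D → ∃ x : X, g • x = x) :
    (∀ g : G, g ∉ D → ∀ x y : X, g • x = x → g • y = y → x = y) ∧ IsPretransitive D X := by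
  classical
  haveI := htr
  haveI := Fintype.ofFinite G
  haveI := Fintype.ofFinite X
  haveI : Fintype D := Fintype.ofFinite D
  haveI : Fintype (Quotient (orbitRel G X)) := Fintype.ofFinite _
  haveI : Fintype (Quotient (orbitRel D X)) := Fintype.ofFinite _
  have h1 := sum_card_fixedBy_eq_card_orbits_mul_card_group G X
  have h2 := sum_card_fixedBy_eq_card_orbits_mul_card_group D X
  have hG1 : Fintype.card (Quotient (orbitRel G X)) = 1 := by
    rw [Fintype.card_eq_one_iff]
    obtain ⟨x⟩ := (inferInstance : Nonempty X)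
    refine ⟨⟦x⟧, fun q => ?_⟩
    induction q using Quotient.inductionOn with
    | h y => exact Quotient.sound (exists_smul_eq G x y)
  rw [hG1, one_mul] at h1
  rw [← Finset.sum_filter_add_sum_filter_not _ (fun g => g ∈ D)] at h1
  have h3 : ∑ g ∈ Finset.univ.filter (fun g => g ∈ D), Fintype.card (fixedBy X g) =
      ∑ d : D, Fintype.card (fixedBy X d) :=
    Finset.sum_subtype (p := fun g => g ∈ D) _ (by simp) (fun g => Fintype.card (fixedBy X g))
  have hge : ∀ g ∈ Finset.univ.filter (fun g => g ∉ D), 1 ≤ Fintype.card (fixedBy X g) := by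
    intro g hg
    simp only [Finset.mem_filter, Finset.mem_univ, true_and] at hg
    obtain ⟨x, hx⟩ := hfix g hg
    exact Fintype.card_pos_iff.2 ⟨⟨x, hx⟩⟩
  have h4 := Finset.sum_le_sum hge
  rw [Finset.sum_const, smul_eq_mul, mul_one] at h4
  have h5 : (Finset.univ.filter (fun g => g ∈ D)).card + (Finset.univ.filter (fun g => g ∉ D)).card =
      Fintype.card G := Finset.card_filter_add_card_filter_not _
  have h6 : (Finset.univ.filter (fun g => g ∈ D)).card = Fintype.card D := (Fintype.card_subtype _).symm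
  rw [h3, h2] at h1
  have hpos : 0 < Fintype.card (Quotient (orbitRel D X)) :=
    Fintype.card_pos_iff.2 ⟨⟦Classical.arbitrary X⟧⟩
  have hD1 : Fintype.card (Quotient (orbitRel D X)) * Fintype.card D ≤ 1 * Fintype.card D := by omega
  have hr : Fintype.card (Quotient (orbitRel D X)) = 1 :=
    le_antisymm (Nat.le_of_mul_le_mul_right hD1 Fintype.card_pos) hpos
  rw [hr, one_mul] at h1
  refine ⟨fun g hg x y hx hy => ?_, ?_⟩
  · by_contra hne
    have hlt : ∑ g ∈ Finset.univ.filter (fun g => g ∉ D), 1 <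
        ∑ g ∈ Finset.univ.filter (fun g => g ∉ D), Fintype.card (fixedBy X g) :=
      Finset.sum_lt_sum hge ⟨g, by simp [hg], Fintype.one_lt_card_iff.2
        ⟨⟨x, hx⟩, ⟨y, hy⟩, fun e => hne (congrArg Subtype.val e)⟩⟩
    rw [Finset.sum_const, smul_eq_mul, mul_one] at hlt
    omega
  · refine ⟨fun x y => ?_⟩
    obtain ⟨q, hq⟩ := Fintype.card_eq_one_iff.1 hr
    have : (⟦y⟧ : Quotient (orbitRel D X)) = ⟦x⟧ := (hq _).trans (hq _).symm
    exact Quotient.exact this

/-- orbit lengths -/
theorem dvd_card_sub_one {H X : Type*} [Group H] [Finite H] [MulAction H X] [Finite X] (K : Subgroup H)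
    (x : X) (hx : ∀ h : H, h • x = x) (huniq : ∀ h : H, h ∉ K → ∀ y : X, h • y = y → y = x) :
    K.index ∣ Nat.card X - 1 := by
  classical
  haveI := Fintype.ofFinite X
  haveI : Fintype (Quotient (orbitRel H X)) := Fintype.ofFinite _
  have h := Nat.card_congr (selfEquivSigmaOrbits H X)
  rw [Nat.card_sigma, ← Finset.add_sum_erase _ _ (Finset.mem_univ (⟦x⟧ : Quotient (orbitRel H X)))] at h
  have hone : Nat.card (orbit H ((⟦x⟧ : Quotient (orbitRel H X)).out)) = 1 := by
    have : (⟦x⟧ : Quotient (orbitRel H X)).out ∈ orbit H x :=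
      MulAction.orbitRel_apply.1 (Quotient.mk_out (s := orbitRel H X) x)
    obtain ⟨k, hk⟩ := this
    have hox : (⟦x⟧ : Quotient (orbitRel H X)).out = x := hk.symm.trans (hx k)
    rw [hox, Nat.card_eq_one_iff_unique]
    exact ⟨⟨fun ⟨a, u, hu⟩ ⟨b, v, hv⟩ => Subtype.ext (hu.symm.trans ((hx u).trans ((hx v).symm.trans hv)))⟩,
      ⟨⟨x, mem_orbit_self x⟩⟩⟩
  rw [h, hone, Nat.add_sub_cancel_left]
  refine Finset.dvd_sum fun q hq => ?_
  rw [Finset.mem_erase] at hq
  rw [Nat.card_coe_set_eq, ← MulAction.index_stabilizer]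
  refine Subgroup.index_dvd_of_le fun k hk => ?_
  by_contra hkK
  refine hq.1 ?_
  rw [← Quotient.out_eq q, huniq k hkK _ hk]

/-- Let G act faithfully, transitively but imprimitively on a finite set with n points, and let D be the subgroup generated by the derangements. Then the index of D in G is at most √n − 1. -/
theorem result {G Ω : Type*} [Group G] [Finite G] [MulAction G Ω] [FaithfulSMul G Ω] [Finite Ω]
    (htrans : MulAction.IsPretransitive G Ω) (himp : ¬ MulAction.IsPreprimitive G Ω) :
    ((Subgroup.closure {g : G | ∀ ω : Ω, g • ω ≠ ω}).index : ℝ) ≤ Real.sqrt (Nat.card Ω) - 1 := by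
  classical
  haveI := htrans
  set D := Subgroup.closure {g : G | ∀ ω : Ω, g • ω ≠ ω} with hD
  have hfix : ∀ g : G, g ∉ D → ∃ ω : Ω, g • ω = ω := fun g hg => by
    by_contra h
    push Not at h
    exact hg (Subgroup.subset_closure h)
  -- a nontrivial block
  obtain ⟨B, hB, hBn⟩ : ∃ B : Set Ω, IsBlock G B ∧ ¬ IsTrivialBlock B := by
    by_contra h
    push Not at h
    exact himp { isTrivialBlock_of_isBlock := fun {B} hB => h B hB }
  have hsub : ¬ B.Subsingleton := fun h => hBn (Or.inl h)
  obtain ⟨α, hα⟩ : B.Nonempty := by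
    by_contra h
    rw [Set.not_nonempty_iff_eq_empty] at h
    exact hsub (h ▸ Set.subsingleton_empty)
  haveI : Nonempty Ω := ⟨α⟩
  obtain ⟨huniq, hDtr⟩ := unique_fixed htrans D hfix
  set X := orbit G B with hX
  haveI : Nonempty X := ⟨⟨B, mem_orbit_self B⟩⟩
  haveI : Finite X := Subtype.finite
  have hXtr : IsPretransitive G X := inferInstance
  have hfixX : ∀ g : G, g ∉ D → ∃ x : X, g • x = x := by
    intro g hg
    obtain ⟨ω, hω⟩ := hfix g hg
    obtain ⟨h, rfl⟩ := exists_smul_eq G α ω
    refine ⟨⟨h • B, mem_orbit B h⟩, Subtype.ext ?_⟩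
    show g • h • B = h • B
    rw [← mul_smul]
    exact hB.smul_eq_smul_of_nonempty ⟨h • α, by
      rw [← hω, ← mul_smul]; exact Set.smul_mem_smul_set hα, Set.smul_mem_smul_set hα⟩
  obtain ⟨huniqX, -⟩ := unique_fixed hXtr D hfixX
  set H := stabilizer G α with hH
  -- index of `D`
  have hidx : (D.subgroupOf H).index = D.index := by
    haveI := hDtr
    have h1 : (stabilizer D α).index = Nat.card Ω := index_stabilizer_of_transitive D α
    have h2 : H.index = Nat.card Ω := index_stabilizer_of_transitive G α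
    have h3 : stabilizer D α = H.subgroupOf D := by
      ext d; simp [Subgroup.mem_subgroupOf, H, Subgroup.smul_def]
    rw [h3] at h1
    have h4 := Subgroup.relIndex_mul_index (inf_le_right : H ⊓ D ≤ D)
    have h5 := Subgroup.relIndex_mul_index (inf_le_left : H ⊓ D ≤ H)
    rw [Subgroup.inf_relIndex_right] at h4
    rw [Subgroup.inf_relIndex_left] at h5
    change (D.relIndex H) = D.index
    change H.relIndex D = Nat.card Ω at h1
    rw [h1] at h4
    rw [h2, ← h4, mul_comm] at h5
    exact Nat.eq_of_mul_eq_mul_left Nat.card_pos h5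
  have hHB : ∀ (h : H), ∀ y ∈ B, h • y ∈ B := by
    intro h y hy
    have : (h : G) • B = B := hB.smul_eq_of_mem hα (by rw [show (h : G) • α = α from h.2]; exact hα)
    rw [← this]
    exact Set.smul_mem_smul_set hy
  -- inside the block
  let SB : SubMulAction H Ω := ⟨B, fun h {y} hy => hHB h y hy⟩
  haveI : Finite SB := Subtype.finite
  have hd1 : D.index ∣ Nat.card B - 1 := by
    rw [← hidx]
    exact dvd_card_sub_one (X := SB) (D.subgroupOf H) ⟨α, hα⟩ (fun h => Subtype.ext h.2)
      fun h hh y hy => Subtype.ext (huniq h (fun hD' => hh hD') y.1 α (congrArg Subtype.val hy) h.2)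
  have hd2 : D.index ∣ Nat.card X - 1 := by
    rw [← hidx]
    have hfixB : ∀ h : H, (h : G) • (⟨B, mem_orbit_self B⟩ : X) = ⟨B, mem_orbit_self B⟩ := fun h =>
      Subtype.ext (hB.smul_eq_of_mem hα (by rw [show (h : G) • α = α from h.2]; exact hα))
    exact dvd_card_sub_one (D.subgroupOf H) (⟨B, mem_orbit_self B⟩ : X) hfixB
      fun h hh y hy => huniqX h (fun hD' => hh hD') y _ hy (hfixB h)
  have hb : 2 ≤ Nat.card B := by
    obtain ⟨u, hu, v, hv, huv⟩ := Set.not_subsingleton_iff.1 hsub
    haveI : Nontrivial B := ⟨⟨⟨u, hu⟩, ⟨v, hv⟩, fun e => huv (congrArg Subtype.val e)⟩⟩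
    exact Finite.one_lt_card
  have hmul : Nat.card B * Nat.card X = Nat.card Ω := by
    rw [Nat.card_coe_set_eq, Nat.card_coe_set_eq]
    exact hB.ncard_block_mul_ncard_orbit_eq ⟨α, hα⟩
  have ha : 2 ≤ Nat.card X := by
    by_contra h
    have h1 : Nat.card X = 1 := by
      have : 0 < Nat.card X := Nat.card_pos
      omega
    rw [h1, mul_one, Nat.card_coe_set_eq] at hmul
    apply hBn
    right
    exact Set.eq_of_subset_of_ncard_le (Set.subset_univ _) (by rw [Set.ncard_univ, hmul]) (Set.toFinite _)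
  have hle1 := Nat.le_of_dvd (by omega) hd1
  have hle2 := Nat.le_of_dvd (by omega) hd2
  have hsq : (D.index + 1) * (D.index + 1) ≤ Nat.card Ω := by
    rw [← hmul]; exact Nat.mul_le_mul (by omega) (by omega)
  rw [le_sub_iff_add_le]
  apply Real.le_sqrt_of_sq_le
  rw [pow_two]
  exact_mod_cast hsq

end Cfsg.Agent.S3549
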