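import Cfsg.Statements.S3550
import Cfsg.Agent.Lib.Perm.DerangeIndex.Main

set_option autoImplicit false
open Cfsg

namespace Cfsg.Agent.S3550

/-- Let G act faithfully and primitively on a finite set with n ≥ 2 points and suppose G has no non-trivial abelian normal subgroup (G is not of affine type). Let D be the subgroup generated by the derangements. Then the index of D in G is at most √n − 1. -/
theorem result {G Ω : Type*} [Group G] [Finite G] [MulAction G Ω] [FaithfulSMul G Ω] [Finite Ω]
    (hprim : MulAction.IsPreprimitive G Ω) (hΩ : 2 ≤ Nat.card Ω) (hna : ∀ N : Subgroup G, N.Normal → IsMulCommutative ↥N → N = ⊥) :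
    ((Subgroup.closure {g : G | ∀ ω : Ω, g • ω ≠ ω}).index : ℝ) ≤ Real.sqrt (Nat.card Ω) - 1 := by
  haveI hn : (Subgroup.closure {g : G | ∀ ω : Ω, g • ω ≠ ω}).Normal :=
    Subgroup.Normal.mk fun x hx g => by
      induction hx using Subgroup.closure_induction with
      | mem y hy =>
        refine Subgroup.subset_closure fun ω => ?_
        intro h
        refine hy (g⁻¹ • ω) ?_
        rw [eq_inv_smul_iff, ← mul_smul, ← mul_smul]
        exact h
      | one => simp
      | mul a b _ _ ha hb =>
        rw [show g * (a * b) * g⁻¹ = g * a * g⁻¹ * (g * b * g⁻¹) by group]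
        exact mul_mem ha hb
      | inv a _ ha =>
        rw [show g * a⁻¹ * g⁻¹ = (g * a * g⁻¹)⁻¹ by group]
        exact inv_mem ha
  have h := CfsgLib.Perm.DerangeIndex.sq_index_le hprim hΩ hna
    (Subgroup.closure {g : G | ∀ ω : Ω, g • ω ≠ ω}) fun g hg => Subgroup.subset_closure hg
  rw [le_sub_iff_add_le]
  refine Real.le_sqrt_of_sq_le ?_
  exact_mod_cast h

end Cfsg.Agent.S3550
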