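import Cfsg.Statements.S3554

set_option autoImplicit false
open Cfsg

namespace Cfsg.Agent.S3554

/-- Let G act faithfully and transitively on a finite set and suppose G has a non-trivial cyclic normal subgroup. Then some element of G of prime order fixes no point. -/
theorem result {G Ω : Type*} [Group G] [Finite G] [MulAction G Ω] [FaithfulSMul G Ω] [Finite Ω]
    (htrans : MulAction.IsPretransitive G Ω) (C : Subgroup G) (hC : C.Normal) (hC1 : C ≠ ⊥) (hcyc : IsCyclic ↥C) :
    ∃ g : G, (orderOf g).Prime ∧ ∀ ω : Ω, g • ω ≠ ω := by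
  classical
  obtain ⟨p, hp, hpC⟩ := Nat.exists_prime_and_dvd (fun h => hC1 (Subgroup.card_eq_one.mp h))
  haveI := Fact.mk hp
  obtain ⟨x, hx⟩ := exists_prime_orderOf_dvd_card' (G := C) p hpC
  refine ⟨x, by rw [Subgroup.orderOf_coe, hx]; exact hp, fun ω hω => ?_⟩
  have hx1 : (x : G) = 1 := by
    apply FaithfulSMul.eq_of_smul_eq_smul (α := Ω)
    intro ω'
    obtain ⟨g, rfl⟩ := htrans.exists_smul_eq ω ω'
    rw [one_smul]
    obtain ⟨m, hm⟩ := MonoidHom.map_cyclic (G := C) ((MulAut.conjNormal g⁻¹).toMonoidHom)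
    have h2 := congrArg (fun c : C => (c : G)) (hm x)
    simp [MulAut.conjNormal_apply] at h2
    have h3 : ((x : G) ^ m) • ω = ω := by
      have : (x : G) ^ m ∈ MulAction.stabilizer G ω := zpow_mem (MulAction.mem_stabilizer_iff.mpr hω) m
      exact this
    rw [← h2] at h3
    calc (x : G) • g • ω = g • ((g⁻¹ * (x : G) * g) • ω) := by
          rw [smul_smul, smul_smul]; congr 1; group
      _ = g • ω := by rw [h3]
  rw [← Subgroup.orderOf_coe, hx1, orderOf_one] at hx
  exact hp.one_lt.ne hx

end Cfsg.Agent.S3554
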