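import Cfsg.Statements.S3555
-- import your own Cfsg.Agent.* helpers here

set_option autoImplicit false
open Cfsg


namespace Cfsg.Agent.S3555aux

open MulAction

attribute [local instance] Classical.propDecidable

variable {G Ω : Type*} [Group G] [Fintype G] [MulAction G Ω] [Fintype Ω]

noncomputable def fixCnt (g : G) : ℤ := ∑ ω : Ω, if g • ω = ω then 1 else 0

lemma fixCnt_nonneg (g : G) : 0 ≤ fixCnt (Ω := Ω) g :=
  Finset.sum_nonneg (fun ω _ => by split <;> norm_num)

lemma fixCnt_le (g : G) : fixCnt (Ω := Ω) g ≤ Fintype.card Ω := by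
  unfold fixCnt
  calc _ ≤ ∑ _ω : Ω, (1 : ℤ) := Finset.sum_le_sum (fun ω _ => by split <;> norm_num)
    _ = _ := by simp

lemma fixCnt_eq_card (g : G) :
    fixCnt (Ω := Ω) g = ((Finset.univ.filter (fun ω : Ω => g • ω = ω)).card : ℤ) := by
  simp [fixCnt]

lemma sum_sq_ge :
    ∑ g : G, fixCnt (Ω := Ω) (g * g) ≤ ∑ g : G, fixCnt (Ω := Ω) g * fixCnt (Ω := Ω) g := by
  have hA : ∀ g : G, fixCnt (Ω := Ω) (g * g) =
      ∑ a : Ω, ∑ b : Ω, (if g • a = b ∧ g • b = a then (1 : ℤ) else 0) := by
    intro g
    refine Finset.sum_congr rfl (fun a _ => ?_)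
    rw [Finset.sum_eq_single (g • a)]
    · by_cases h : (g * g) • a = a
      · rw [if_pos h, if_pos ⟨rfl, by rwa [← mul_smul]⟩]
      · rw [if_neg h, if_neg (fun h' => h (by rw [mul_smul]; exact h'.2))]
    · intro b _ hb
      exact if_neg (fun h => hb h.1.symm)
    · simp
  have hB : ∀ g : G, fixCnt (Ω := Ω) g * fixCnt (Ω := Ω) g =
      ∑ a : Ω, ∑ b : Ω, (if g • a = a ∧ g • b = b then (1 : ℤ) else 0) := by
    intro g
    unfold fixCnt
    rw [Finset.sum_mul_sum]
    refine Finset.sum_congr rfl (fun a _ => Finset.sum_congr rfl (fun b _ => ?_))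
    by_cases h1 : g • a = a <;> by_cases h2 : g • b = b <;> simp [h1, h2]
  rw [Finset.sum_congr rfl (fun g _ => hA g), Finset.sum_congr rfl (fun g _ => hB g),
    Finset.sum_comm]
  rw [Finset.sum_comm (s := (Finset.univ : Finset G))
    (f := fun g a => ∑ b : Ω, (if g • a = a ∧ g • b = b then (1 : ℤ) else 0))]
  refine Finset.sum_le_sum (fun a _ => ?_)
  rw [Finset.sum_comm, Finset.sum_comm (s := (Finset.univ : Finset G))]
  refine Finset.sum_le_sum (fun b _ => ?_)
  by_cases h : ∃ g0 : G, g0 • a = b ∧ g0 • b = a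
  · obtain ⟨g0, h1, h2⟩ := h
    rw [← Equiv.sum_comp (Equiv.mulLeft g0) (fun g => if g • a = b ∧ g • b = a then (1:ℤ) else 0)]
    refine Finset.sum_le_sum (fun k _ => ?_)
    by_cases hk : (Equiv.mulLeft g0 k) • a = b ∧ (Equiv.mulLeft g0 k) • b = a
    · rw [if_pos hk, if_pos]
      simp only [Equiv.coe_mulLeft, mul_smul] at hk
      exact ⟨smul_left_cancel g0 (hk.1.trans h1.symm), smul_left_cancel g0 (hk.2.trans h2.symm)⟩
    · rw [if_neg hk]; split <;> norm_num
  · exact Finset.sum_le_sum (fun g _ => by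
      rw [if_neg (fun hg => h ⟨g, hg⟩)]; split <;> norm_num)

lemma sum_fixCnt [IsPretransitive G Ω] [Nonempty Ω] :
    ∑ g : G, fixCnt (Ω := Ω) g = Fintype.card G := by
  obtain ⟨α⟩ := ‹Nonempty Ω›
  unfold fixCnt
  rw [Finset.sum_comm]
  have hcoset : ∀ ω : Ω, ∑ g : G, (if g • ω = ω then (1:ℤ) else 0)
      = ∑ g : G, (if g • α = α then (1:ℤ) else 0) := by
    intro ω
    obtain ⟨c, hc⟩ := MulAction.exists_smul_eq G α ω
    rw [← Equiv.sum_comp (MulAut.conj c).toEquiv (fun g => if g • ω = ω then (1:ℤ) else 0)]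
    refine Finset.sum_congr rfl (fun g _ => ?_)
    have : (MulAut.conj c).toEquiv g • ω = ω ↔ g • α = α := by
      show (c * g * c⁻¹) • ω = ω ↔ _
      rw [← hc]
      simp [mul_smul]
    exact if_congr this rfl rfl
  rw [Finset.sum_congr rfl (fun ω _ => hcoset ω)]
  have hfib : ∀ ω : Ω, ∑ g : G, (if g • α = α then (1:ℤ) else 0)
      = ∑ g : G, (if g • α = ω then (1:ℤ) else 0) := by
    intro ω
    obtain ⟨c, hc⟩ := MulAction.exists_smul_eq G α ω
    rw [← Equiv.sum_comp (Equiv.mulLeft c) (fun g => if g • α = ω then (1:ℤ) else 0)]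
    refine Finset.sum_congr rfl (fun g _ => ?_)
    have : (Equiv.mulLeft c g) • α = ω ↔ g • α = α := by
      show (c * g) • α = ω ↔ _
      rw [← hc, mul_smul, smul_left_cancel_iff]
    exact (if_congr this rfl rfl).symm
  rw [Finset.sum_congr rfl (fun ω _ => hfib ω), Finset.sum_comm]
  simp

lemma fix_one_or_all [IsPretransitive G Ω] [Nonempty Ω]
    (hinv : ∀ g : G, (∀ ω : Ω, g • ω ≠ ω) → g * g = 1) (g : G) :
    fixCnt (Ω := Ω) g = 0 ∨ fixCnt (Ω := Ω) g = 1 ∨ fixCnt (Ω := Ω) g = Fintype.card Ω := by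
  let n : ℤ := Fintype.card Ω
  let f : G → ℤ := fun g =>
    if fixCnt (Ω := Ω) g = 0 then 0 else (fixCnt (Ω := Ω) g - 1) * (fixCnt (Ω := Ω) g - n)
  have hle : ∀ g : G, f g ≤ 0 := by
    intro g
    simp only [f]
    split
    · rfl
    · rename_i hne
      have h0 := fixCnt_nonneg (Ω := Ω) g
      have h1 := fixCnt_le (Ω := Ω) g
      exact mul_nonpos_of_nonneg_of_nonpos (by omega) (by simp only [n]; omega)
  have hpt : ∀ g : G, fixCnt (Ω := Ω) g * fixCnt (Ω := Ω) g - fixCnt (Ω := Ω) (g * g)
      ≤ f g + (n * fixCnt (Ω := Ω) g - n) := by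
    intro g
    simp only [f]
    by_cases h0 : fixCnt (Ω := Ω) g = 0
    · rw [if_pos h0, h0]
      have : fixCnt (Ω := Ω) (g * g) = n := by
        have hg : g * g = 1 := hinv g (fun ω hω => by
          rw [fixCnt_eq_card] at h0
          have : ω ∈ Finset.univ.filter (fun ω : Ω => g • ω = ω) := by simp [hω]
          have := Finset.card_pos.2 ⟨ω, this⟩
          omega)
        simp [fixCnt, hg, n]
      rw [this]; ring_nf; rfl
    · rw [if_neg h0]
      have : fixCnt (Ω := Ω) g ≤ fixCnt (Ω := Ω) (g * g) := by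
        unfold fixCnt
        refine Finset.sum_le_sum (fun ω _ => ?_)
        by_cases h : g • ω = ω
        · rw [if_pos h, if_pos (by rw [mul_smul, h, h])]
        · rw [if_neg h]; split <;> norm_num
      linarith
  have hsum : 0 ≤ ∑ g : G, f g := by
    have h1 := Finset.sum_le_sum (s := (Finset.univ : Finset G)) (fun g _ => hpt g)
    rw [Finset.sum_sub_distrib, Finset.sum_add_distrib, Finset.sum_sub_distrib, ← Finset.mul_sum,
      sum_fixCnt] at h1
    have h2 := sum_sq_ge (G := G) (Ω := Ω)
    simp [mul_comm] at h1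
    linarith
  have hz : f g = 0 :=
    (Finset.sum_eq_zero_iff_of_nonpos (fun g _ => hle g)).1
      (le_antisymm (Finset.sum_nonpos (fun g _ => hle g)) hsum) g (Finset.mem_univ g)
  simp only [f] at hz
  by_cases h0 : fixCnt (Ω := Ω) g = 0
  · exact Or.inl h0
  · rw [if_neg h0] at hz
    rcases mul_eq_zero.1 hz with h | h
    · exact Or.inr (Or.inl (by linarith))
    · exact Or.inr (Or.inr (by simp only [n] at h; linarith))

end Cfsg.Agent.S3555aux

namespace Cfsg.Agent.S3555

open scoped Pointwise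

/-- Let G act faithfully and transitively on a finite set and suppose every element of G fixing no point is an involution. Then either G is an elementary abelian 2-group, or G is a Frobenius group whose Frobenius kernel is an elementary abelian 2-group: G has a Frobenius complement H, and the elements lying in no conjugate of H, together with the identity, pairwise commute and square to the identity. -/
theorem result {G Ω : Type*} [Group G] [Finite G] [MulAction G Ω] [FaithfulSMul G Ω] [Finite Ω]
    (htrans : MulAction.IsPretransitive G Ω) (hinv : ∀ g : G, (∀ ω : Ω, g • ω ≠ ω) → orderOf g = 2) :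
    (IsMulCommutative G ∧ ∀ g : G, g ^ 2 = 1) ∨
    (∃ H : Subgroup G, Cfsg.IsFrobeniusComplement H ∧
      (∀ x ∈ Cfsg.frobeniusKernel H, x ^ 2 = 1) ∧
      ∀ x ∈ Cfsg.frobeniusKernel H, ∀ y ∈ Cfsg.frobeniusKernel H, x * y = y * x) := by
  classical
  cases nonempty_fintype G
  cases nonempty_fintype Ω
  have hinv' : ∀ g : G, (∀ ω : Ω, g • ω ≠ ω) → g * g = 1 := by
    intro g hg
    have := pow_orderOf_eq_one g
    rw [hinv g hg, pow_two] at this
    exact this
  have invol_case : (∀ g : G, g ≠ 1 → ∀ ω : Ω, g • ω ≠ ω) →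
      IsMulCommutative G ∧ ∀ g : G, g ^ 2 = 1 := by
    intro h
    have hsq : ∀ g : G, g * g = 1 := fun g => by
      by_cases hg : g = 1
      · simp [hg]
      · exact hinv' g (h g hg)
    refine ⟨⟨⟨fun a b => ?_⟩⟩, fun g => by rw [pow_two]; exact hsq g⟩
    have ha := inv_eq_of_mul_eq_one_left (hsq a)
    have hb := inv_eq_of_mul_eq_one_left (hsq b)
    have hab := inv_eq_of_mul_eq_one_left (hsq (a * b))
    rw [mul_inv_rev, ha, hb] at hab
    exact hab.symm
  rcases isEmpty_or_nonempty Ω with hΩ | hΩ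
  · exact Or.inl (invol_case (fun g hg ω => isEmptyElim ω))
  obtain ⟨α⟩ := id hΩ
  haveI := htrans
  have huniq : ∀ g : G, g ≠ 1 → ∀ a b : Ω, g • a = a → g • b = b → a = b := by
    intro g hg a b ha hb
    rcases S3555aux.fix_one_or_all hinv' g with h | h | h
    · rw [S3555aux.fixCnt_eq_card] at h
      have := Finset.card_pos.2 ⟨a, show a ∈ Finset.univ.filter (fun ω : Ω => g • ω = ω) by simp [ha]⟩
      omega
    · rw [S3555aux.fixCnt_eq_card] at h
      have h1 : (Finset.univ.filter (fun ω : Ω => g • ω = ω)).card = 1 := by exact_mod_cast h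
      exact Finset.card_le_one.1 h1.le a (by simp [ha]) b (by simp [hb])
    · rw [S3555aux.fixCnt_eq_card] at h
      have h1 : (Finset.univ.filter (fun ω : Ω => g • ω = ω)).card = Fintype.card Ω := by
        exact_mod_cast h
      rw [Finset.card_eq_iff_eq_univ] at h1
      exfalso
      refine hg (FaithfulSMul.eq_of_smul_eq_smul (fun ω : Ω => ?_))
      have : ω ∈ Finset.univ.filter (fun ω : Ω => g • ω = ω) := by rw [h1]; simp
      simpa using this
  let H := MulAction.stabilizer G α
  by_cases hH : H = ⊥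
  · refine Or.inl (invol_case (fun g hg ω hω => hg ?_))
    obtain ⟨c, hc⟩ := MulAction.exists_smul_eq G α ω
    have : c⁻¹ * g * c ∈ H := by
      show (c⁻¹ * g * c) • α = α
      rw [mul_smul, mul_smul, hc, hω, ← hc, inv_smul_smul]
    rw [hH, Subgroup.mem_bot] at this
    calc g = c * (c⁻¹ * g * c) * c⁻¹ := by group
      _ = 1 := by rw [this]; group
  · have hmem : ∀ c x : G, x ∈ MulAut.conj c • H ↔ x • (c • α) = c • α := by
      intro c x
      rw [Subgroup.mem_pointwise_smul_iff_inv_smul_mem]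
      show ((MulAut.conj c)⁻¹ • x) • α = α ↔ _
      simp [MulAut.smul_def, mul_smul, inv_smul_eq_iff]
    refine Or.inr ⟨H, ⟨hH, ?_, ?_⟩, ?_⟩
    · intro htop
      refine hH (Subgroup.ext fun x => ⟨fun _ => ?_, fun hx => by
        rw [Subgroup.mem_bot] at hx; rw [hx]; exact H.one_mem⟩)
      rw [Subgroup.mem_bot]
      refine FaithfulSMul.eq_of_smul_eq_smul (fun ω : Ω => ?_)
      obtain ⟨c, hc⟩ := MulAction.exists_smul_eq G α ω
      have hcα : c • α = α := by
        have : c ∈ H := by rw [htop]; trivial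
        exact this
      have hxα : x • α = α := by
        have : x ∈ H := by rw [htop]; trivial
        exact this
      rw [← hc, hcα, hxα, one_smul]
    · intro c hc
      rw [eq_bot_iff]
      intro x hx
      rw [Subgroup.mem_bot]
      by_contra hx1
      exact hc (show c • α = α from (huniq x hx1 α (c • α) hx.1 ((hmem c x).1 hx.2)).symm)
    · have hder : ∀ x, x ∈ Cfsg.frobeniusKernel H → x = 1 ∨ ∀ ω : Ω, x • ω ≠ ω := by
        intro x hx
        rcases hx with hx | hx
        · exact Or.inl hx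
        · refine Or.inr (fun ω hω => ?_)
          obtain ⟨c, hc⟩ := MulAction.exists_smul_eq G α ω
          exact hx c ((hmem c x).2 (by rw [hc]; exact hω))
      have hsq : ∀ x, x ∈ Cfsg.frobeniusKernel H → x * x = 1 := by
        intro x hx
        rcases hder x hx with h | h
        · simp [h]
        · exact hinv' x h
      refine ⟨fun x hx => by rw [pow_two]; exact hsq x hx, fun x hx y hy => ?_⟩
      rcases hder x hx with hx1 | hxd
      · simp [hx1]
      have hxy : (x * y) * (x * y) = 1 := by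
        by_cases h1 : x * y = 1
        · simp [h1]
        · refine hinv' _ (fun ω hω => hxd ω ?_)
          refine huniq (x * y) h1 (x • ω) ω ?_ hω
          calc (x * y) • (x • ω) = (x * y * x) • ((x * y) • ω) := by rw [hω, ← mul_smul]
            _ = (x * (y * (x * x) * y)) • ω := by rw [← mul_smul]; group
            _ = x • ω := by rw [hsq x hx, mul_one, hsq y hy, mul_one]
      have hX := inv_eq_of_mul_eq_one_left (hsq x hx)
      have hY := inv_eq_of_mul_eq_one_left (hsq y hy)
      have hXY := inv_eq_of_mul_eq_one_left hxy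
      rw [mul_inv_rev, hX, hY] at hXY
      exact hXY.symm

end Cfsg.Agent.S3555
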