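import Cfsg.Statements.S3556
import Cfsg.Agent.Lib.HallGen.PrimePowerDerangements

set_option autoImplicit false
open Cfsg

namespace Cfsg.Agent.S3556

/-- Let G act faithfully and primitively on a finite set with at least two points, and suppose that for some fixed prime p every element of G fixing no point has order a power of p. Then G is of affine type (it has a regular normal subgroup that is an elementary abelian r-group for some prime r) or almost simple (it has a non-abelian simple normal subgroup with trivial centralizer). -/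
theorem result {G Ω : Type*} [Group G] [Finite G] [MulAction G Ω] [FaithfulSMul G Ω] [Finite Ω]
    (hprim : MulAction.IsPreprimitive G Ω) (hΩ : 2 ≤ Nat.card Ω) (p : ℕ) (hp : p.Prime)
    (hder : ∀ g : G, (∀ ω : Ω, g • ω ≠ ω) → ∃ k : ℕ, orderOf g = p ^ k) :
    (∃ (N : Subgroup G) (r : ℕ), r.Prime ∧ N.Normal ∧ Cfsg.IsElementaryAbelian r N ∧
      MulAction.IsPretransitive N Ω ∧ ∀ a : Ω, MulAction.stabilizer N a = ⊥) ∨
    (∃ T : Subgroup G, T.Normal ∧ IsSimpleGroup ↥T ∧ ¬ IsMulCommutative ↥T ∧
      Subgroup.centralizer (T : Set G) = ⊥) := by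
  classical
  haveI := Fintype.ofFinite Ω
  rw [Nat.card_eq_fintype_card] at hΩ
  by_cases hnas : ∃ T : Subgroup G, T.Normal ∧ IsSimpleGroup ↥T ∧ ¬ IsMulCommutative ↥T ∧
      Subgroup.centralizer (T : Set G) = ⊥
  · exact Or.inr hnas
  haveI : Nontrivial Ω := Fintype.one_lt_card_iff_nontrivial.1 (by omega)
  haveI : MulAction.IsPretransitive G Ω := hprim.toIsPretransitive
  haveI : Nontrivial G := by
    obtain ⟨a, b, hab⟩ := exists_pair_ne Ω
    obtain ⟨g, hg⟩ := MulAction.exists_smul_eq G a b
    exact ⟨⟨g, 1, fun e => hab (by rw [← hg, e, one_smul])⟩⟩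
  obtain ⟨N, hNn, hN, -, hmin⟩ := CfsgLib.Core.exists_minimal_normal_le' (G := G) ⊤ top_ne_bot
  haveI := hNn
  have hab := CfsgLib.HallGen.PrimePowerDerangements.isMulCommutative_minimal hprim hΩ hnas p hp hder N hN hmin
  obtain ⟨r, hr, hrN⟩ := CfsgLib.Core.exists_prime_pow_eq_one_of_minimal_normal N hab hN hmin
  haveI htr := CfsgLib.Perm.OneDerangementClass.isPretransitive_of_normal hprim N hN
  refine Or.inl ⟨N, r, hr, hNn, ⟨hab, fun x hx => hrN x hx⟩, htr, fun a => (Subgroup.eq_bot_iff_forall _).2 fun n hn => ?_⟩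
  refine Subtype.ext (eq_of_smul_eq_smul (α := Ω) fun z => ?_)
  obtain ⟨k, rfl⟩ := MulAction.exists_smul_eq N a z
  rw [OneMemClass.coe_one, one_smul, ← Subgroup.smul_def n, ← mul_smul, hab.is_comm.comm n k, mul_smul,
    MulAction.mem_stabilizer_iff.1 hn]
end Cfsg.Agent.S3556
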