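import Cfsg.Statements.S3557
import Mathlib
import Cfsg.Agent.Lib.Transfer.Tate

set_option autoImplicit false
open Cfsg

namespace Cfsg.Agent.S3557

--- PRE
theorem derangement_orderOf {G Ω : Type*} [Group G] [MulAction G Ω] [FaithfulSMul G Ω] [Nonempty Ω]
    (p : ℕ) (hp : p.Prime) {g : G} (hfpf : ∀ ω : Ω, g • ω ≠ ω) (hpow : ∀ ω : Ω, g ^ p • ω = ω) :
    orderOf g = p := by
  haveI := Fact.mk hp
  refine orderOf_eq_prime (FaithfulSMul.eq_of_smul_eq_smul fun ω => by rw [hpow, one_smul]) ?_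
  intro h
  exact hfpf (Classical.arbitrary Ω) (by rw [h, one_smul])

theorem case_fixed {G Ω : Type*} [Group G] [Finite G] [MulAction G Ω] [FaithfulSMul G Ω] [Finite Ω]
    (p : ℕ) (hp : p.Prime)
    (hcl : ∀ σ : Equiv.Perm Ω, (∀ a b : Ω, ∃ g : G, σ a = g • a ∧ σ b = g • b) → ∃ g : G, ∀ a : Ω, σ a = g • a)
    (P : Subgroup G) (hP : IsPGroup p P) (a b : Ω)
    (hcov : ∀ w : Ω, w ∈ MulAction.orbit P a ∨ w ∈ MulAction.orbit P b)
    (hdis : b ∉ MulAction.orbit P a)
    (ha : (MulAction.stabilizer P a).index = p ^ 2) (hb : (MulAction.stabilizer P b).index = p ^ 2)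
    (z : P) (hzc : z ∈ Subgroup.center P) (hzp : z ^ p = 1) (hza : z • a = a) (hzb : z • b ≠ b) :
    ∃ g : G, (orderOf g).Prime ∧ ∀ ω : Ω, g • ω ≠ ω := by
  classical
  haveI := Fact.mk hp
  haveI : Nonempty Ω := ⟨a⟩
  have hzcomm : ∀ h : P, z * h = h * z := fun h => (Subgroup.mem_center_iff.1 hzc h).symm
  have hOA : ∀ (h : P) (x : Ω), x ∈ MulAction.orbit P a → h • x ∈ MulAction.orbit P a :=
    fun h x hx => MulAction.mem_orbit_of_mem_orbit h hx
  have hOA' : ∀ (h : P) (x : Ω), x ∉ MulAction.orbit P a → h • x ∉ MulAction.orbit P a := by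
    intro h x hx hc
    apply hx
    have := hOA h⁻¹ _ hc
    rwa [inv_smul_smul] at this
  -- kernel on the first orbit
  let K : Subgroup P :=
    { carrier := {k | ∀ x ∈ MulAction.orbit P a, k • x = x}
      one_mem' := fun x _ => one_smul _ x
      mul_mem' := fun {k l} hk hl x hx => by rw [mul_smul, hl x hx, hk x hx]
      inv_mem' := fun {k} hk x hx => by rw [inv_smul_eq_iff, hk x hx] }
  have hKn : K.Normal := ⟨fun k hk h x hx => by
    show (h * k * h⁻¹) • x = x
    rw [mul_smul, mul_smul, hk _ (hOA h⁻¹ x hx), smul_inv_smul]⟩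
  have hzK : z ∈ K := by
    rintro x ⟨h, rfl⟩
    show z • h • a = h • a
    rw [← mul_smul, hzcomm, mul_smul, hza]
  -- gluing
  have glue : ∀ g h : P, (∀ y, y ∉ MulAction.orbit P a → ∃ k ∈ K, k • g • y = h • y) →
      ∃ s : G, (∀ x ∈ MulAction.orbit P a, s • x = g • x) ∧ (∀ y, y ∉ MulAction.orbit P a → s • y = h • y) := by
    intro g h hgh
    let f : Ω → Ω := fun w => if w ∈ MulAction.orbit P a then g • w else h • w
    have hf1 : ∀ w ∈ MulAction.orbit P a, f w = g • w := fun w hw => if_pos hw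
    have hf2 : ∀ w, w ∉ MulAction.orbit P a → f w = h • w := fun w hw => if_neg hw
    have hinj : Function.Injective f := by
      intro u v huv
      by_cases hu : u ∈ MulAction.orbit P a <;> by_cases hv : v ∈ MulAction.orbit P a
      · rw [hf1 u hu, hf1 v hv] at huv; exact (smul_left_cancel_iff g).1 huv
      · rw [hf1 u hu, hf2 v hv] at huv; exact absurd (huv ▸ hOA g u hu) (hOA' h v hv)
      · rw [hf2 u hu, hf1 v hv] at huv; exact absurd (huv ▸ hOA g v hv) (hOA' h u hu)
      · rw [hf2 u hu, hf2 v hv] at huv; exact (smul_left_cancel_iff h).1 huv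
    obtain ⟨s, hs⟩ := hcl (Equiv.ofBijective f hinj.bijective_of_finite) (by
      intro u v
      show ∃ s : G, f u = s • u ∧ f v = s • v
      by_cases hu : u ∈ MulAction.orbit P a <;> by_cases hv : v ∈ MulAction.orbit P a
      · exact ⟨(g : G), hf1 u hu, hf1 v hv⟩
      · obtain ⟨k, hk, hkv⟩ := hgh v hv
        refine ⟨((k * g : P) : G), ?_, ?_⟩
        · show f u = (k * g) • u
          rw [hf1 u hu, mul_smul, hk _ (hOA g u hu)]
        · show f v = (k * g) • v
          rw [hf2 v hv, mul_smul, hkv]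
      · obtain ⟨k, hk, hku⟩ := hgh u hu
        refine ⟨((k * g : P) : G), ?_, ?_⟩
        · show f u = (k * g) • u
          rw [hf2 u hu, mul_smul, hku]
        · show f v = (k * g) • v
          rw [hf1 v hv, mul_smul, hk _ (hOA g v hv)]
      · exact ⟨(h : G), hf2 u hu, hf2 v hv⟩)
    exact ⟨s, fun x hx => by rw [← hs x]; exact hf1 x hx, fun y hy => by rw [← hs y]; exact hf2 y hy⟩
  -- kernel on the blocks
  let Q : Subgroup P := K ⊔ MulAction.stabilizer P b
  have hQb : ∀ q ∈ Q, ∃ k ∈ K, q • b = k • b := by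
    intro q hq
    rw [Subgroup.mem_sup_of_normal_left] at hq
    obtain ⟨k, hk, s, hs, rfl⟩ := hq
    exact ⟨k, hk, by rw [mul_smul, MulAction.mem_stabilizer_iff.1 hs]⟩
  have hQidx : Q.index ∣ p := by
    have hlt : MulAction.stabilizer P b < Q := lt_of_le_of_ne le_sup_right fun h => hzb (by
      have : z ∈ MulAction.stabilizer P b := by rw [h]; exact Subgroup.mem_sup_left hzK
      exact this)
    have hd : Q.index ∣ p ^ 2 := hb ▸ Subgroup.index_dvd_of_le hlt.le
    obtain ⟨i, hi, hi'⟩ := (Nat.dvd_prime_pow hp).1 hd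
    rcases i with _ | _ | i
    · rw [hi', pow_zero]; exact one_dvd _
    · rw [hi', pow_one]
    · exfalso
      obtain rfl : i = 0 := by omega
      have h2 := Subgroup.relIndex_mul_index hlt.le
      rw [hb, hi'] at h2
      have h3 : (MulAction.stabilizer P b).relIndex Q = 1 :=
        Nat.eq_of_mul_eq_mul_right (pow_pos hp.pos 2) (h2.trans (one_mul _).symm)
      exact absurd (Subgroup.relIndex_eq_one.1 h3) (not_le_of_gt hlt)
  have hQn : Q.Normal := by
    rcases (Nat.dvd_prime hp).1 hQidx with h | h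
    · exact Subgroup.normal_of_index_eq_one h
    · refine Subgroup.normal_of_index_eq_minFac_card ?_
      obtain ⟨n, hn⟩ := IsPGroup.iff_card.1 hP
      have hn0 : n ≠ 0 := by
        rintro rfl
        have := h ▸ Q.index_dvd_card
        rw [hn, pow_zero, Nat.dvd_one] at this
        exact hp.ne_one this
      rw [h, hn, Nat.pow_minFac hn0, hp.minFac_eq]
  have hQblock : ∀ q ∈ Q, ∀ y, y ∉ MulAction.orbit P a → ∃ k ∈ K, q • y = k • y := by
    intro q hq y hy
    obtain ⟨h, rfl⟩ := (hcov y).resolve_left hy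
    obtain ⟨k, hk, hkb⟩ := hQb (h⁻¹ * q * h) (by simpa using hQn.conj_mem q hq h⁻¹)
    refine ⟨h * k * h⁻¹, hKn.conj_mem k hk h, ?_⟩
    show q • h • b = (h * k * h⁻¹) • h • b
    rw [← mul_smul, ← mul_smul, show h * k * h⁻¹ * h = h * k by group, mul_smul h k, ← hkb, ← mul_smul]
    congr 1
    group
  -- an element of Q acting as a fixed point free central element on the first orbit
  have hQK : ¬ Q ≤ K := by
    intro hle
    have hKa : K ≤ MulAction.stabilizer P a := fun k hk => hk a (MulAction.mem_orbit_self a)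
    have h1 : p ^ 2 ∣ p := (ha ▸ Subgroup.index_dvd_of_le (hle.trans hKa)).trans hQidx
    have := Nat.le_of_dvd hp.pos h1
    nlinarith [hp.two_le]
  haveI := hKn
  haveI : (Q.map (QuotientGroup.mk' K)).Normal := hQn.map _ (QuotientGroup.mk'_surjective K)
  have hQne : Q.map (QuotientGroup.mk' K) ≠ ⊥ := by
    rw [Ne, Subgroup.map_eq_bot_iff, QuotientGroup.ker_mk']; exact hQK
  obtain ⟨u', hu'Q, hu'c, hu'o⟩ := CfsgLib.Transfer.exists_mem_center_orderOf_eq (hP.to_quotient K) hQne
  have hu'm : u' ∈ Q.map (QuotientGroup.mk' K) ⊓ Subgroup.center (P ⧸ K) := ⟨hu'Q, hu'c⟩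
  obtain ⟨q, hq, hqu⟩ := hu'm.1
  have hqc : ∀ h : P, ∃ k ∈ K, q * h = h * q * k := fun h => ⟨(h * q)⁻¹ * (q * h), by
    rw [← QuotientGroup.eq]
    show QuotientGroup.mk' K (h * q) = QuotientGroup.mk' K (q * h)
    rw [map_mul, map_mul, hqu]
    exact Subgroup.mem_center_iff.1 hu'm.2 _, by group⟩
  have hqK : q ∉ K := fun h => by
    have h1 : QuotientGroup.mk' K q = 1 := (QuotientGroup.eq_one_iff q).2 h
    rw [hqu] at h1
    rw [h1, orderOf_one] at hu'o
    exact hp.ne_one hu'o.symm
  have hqp : q ^ p ∈ K := by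
    rw [← QuotientGroup.eq_one_iff]
    show QuotientGroup.mk' K (q ^ p) = 1
    rw [map_pow, hqu, ← hu'o, pow_orderOf_eq_one]
  have hqa : q • a ≠ a := by
    intro h
    apply hqK
    rintro x ⟨m, rfl⟩
    show q • m • a = m • a
    obtain ⟨k, hk, hqm⟩ := hqc m
    rw [← mul_smul, hqm, mul_smul, hk a (MulAction.mem_orbit_self a), mul_smul, h]
  obtain ⟨s, hs1, hs2⟩ := glue q z (fun y hy => by
    obtain ⟨k, hk, hky⟩ := hQblock q hq y hy
    exact ⟨z * k⁻¹, K.mul_mem hzK (K.inv_mem hk), by rw [hky, mul_smul, inv_smul_smul]⟩)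
  have hfpf : ∀ ω : Ω, s • ω ≠ ω := by
    intro ω
    by_cases hω : ω ∈ MulAction.orbit P a
    · rw [hs1 ω hω]
      obtain ⟨m, rfl⟩ := hω
      intro h
      apply hqa
      obtain ⟨k, hk, hqm⟩ := hqc m
      rw [← mul_smul, hqm, mul_smul, hk a (MulAction.mem_orbit_self a), mul_smul] at h
      exact (smul_left_cancel_iff m).1 h
    · rw [hs2 ω hω]
      obtain ⟨m, rfl⟩ := (hcov ω).resolve_left hω
      intro h
      apply hzb
      rw [← mul_smul, hzcomm, mul_smul] at h
      exact (smul_left_cancel_iff m).1 h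
  have hsn : ∀ (n : ℕ) (ω : Ω), (ω ∈ MulAction.orbit P a → s ^ n • ω = q ^ n • ω) ∧
      (ω ∉ MulAction.orbit P a → s ^ n • ω = z ^ n • ω) := by
    intro n
    induction n with
    | zero => intro ω; simp
    | succ n ih =>
      intro ω
      constructor
      · intro hω
        rw [pow_succ, mul_smul, hs1 ω hω, (ih _).1 (hOA q ω hω), ← mul_smul, ← pow_succ]
      · intro hω
        rw [pow_succ, mul_smul, hs2 ω hω, (ih _).2 (hOA' z ω hω), ← mul_smul, ← pow_succ]
  refine ⟨s, ?_, hfpf⟩
  rw [derangement_orderOf p hp hfpf fun ω => ?_]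
  · exact hp
  · by_cases hω : ω ∈ MulAction.orbit P a
    · rw [(hsn p ω).1 hω]; exact hqp ω hω
    · rw [(hsn p ω).2 hω, hzp, one_smul]

/-- Let G act faithfully and transitively on a finite set with 2p² points, p a prime, and suppose G is 2-closed: every permutation of the set which, on each ordered pair of points, agrees with some element of G, is itself induced by an element of G. Then some element of G of prime order fixes no point. -/
theorem result {G Ω : Type*} [Group G] [Finite G] [MulAction G Ω] [FaithfulSMul G Ω] [Finite Ω]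
    (htrans : MulAction.IsPretransitive G Ω) (p : ℕ) (hp : p.Prime) (hcard : Nat.card Ω = 2 * p ^ 2)
    (hcl : ∀ σ : Equiv.Perm Ω, (∀ a b : Ω, ∃ g : G, σ a = g • a ∧ σ b = g • b) → ∃ g : G, ∀ a : Ω, σ a = g • a) :
    ∃ g : G, (orderOf g).Prime ∧ ∀ ω : Ω, g • ω ≠ ω := by
  classical
  haveI := Fact.mk hp
  haveI := htrans
  obtain ⟨S⟩ := (inferInstance : Nonempty (Sylow p G))
  haveI : Nonempty Ω := (Nat.card_pos_iff.1 (by rw [hcard]; have := hp.pos; positivity)).1
  have hidx : ∀ a : Ω, ∃ i, 2 ≤ i ∧ (MulAction.stabilizer (S : Subgroup G) a).index = p ^ i ∧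
      (MulAction.orbit (S : Subgroup G) a).ncard = p ^ i := by
    intro a
    have h1 : (MulAction.stabilizer G a).index = 2 * p ^ 2 := by
      rw [MulAction.index_stabilizer_of_transitive G a, hcard]
    obtain ⟨i, hi⟩ := S.isPGroup'.index (MulAction.stabilizer (S : Subgroup G) a)
    refine ⟨i, ?_, hi, by rw [← MulAction.index_stabilizer, hi]⟩
    have hsub : MulAction.stabilizer (S : Subgroup G) a = (MulAction.stabilizer G a).subgroupOf S := by
      ext g; simp [Subgroup.mem_subgroupOf, Subgroup.smul_def]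
    rw [hsub] at hi
    have h2 : (MulAction.stabilizer G a ⊓ S).index = p ^ i * (S : Subgroup G).index := by
      rw [← hi, ← Subgroup.relIndex_mul_index (inf_le_right : MulAction.stabilizer G a ⊓ S ≤ S),
        Subgroup.inf_relIndex_right]
      rfl
    have h3 : p ^ 2 ∣ p ^ i * (S : Subgroup G).index := by
      rw [← h2]
      exact (Dvd.intro_left 2 h1.symm).trans (Subgroup.index_dvd_of_le inf_le_left)
    have h4 : p ^ 2 ∣ p ^ i :=
      (((hp.coprime_iff_not_dvd).2 S.not_dvd_index).pow_left 2).dvd_of_dvd_mul_right h3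
    exact (Nat.pow_dvd_pow_iff_le_right hp.one_lt).1 h4
  -- an element of order p in the centre
  have hSne : Nontrivial (S : Subgroup G) := by
    obtain ⟨i, hi, hi', -⟩ := hidx (Classical.arbitrary Ω)
    by_contra h
    haveI := not_nontrivial_iff_subsingleton.1 h
    rw [Subgroup.eq_bot_of_subsingleton (MulAction.stabilizer _ _), Subgroup.index_bot,
      Nat.card_of_subsingleton (1 : (S : Subgroup G))] at hi'
    exact absurd hi'.symm (Nat.one_lt_pow (by omega) hp.one_lt).ne'
  haveI := hSne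
  obtain ⟨z', -, hz'c, hz'o⟩ := CfsgLib.Transfer.exists_mem_center_orderOf_eq (p := p) S.isPGroup'
    (Z := (⊤ : Subgroup (S : Subgroup G))) top_ne_bot
  let z : Subgroup.center (S : Subgroup G) := ⟨z', hz'c⟩
  have hz : orderOf z = p := by rw [← Subgroup.orderOf_coe]; exact hz'o
  have hzp : (z : (S : Subgroup G)) ^ p = 1 := by
    have h := pow_orderOf_eq_one z'
    rw [hz'o] at h
    exact h
  have hzfix : ∀ a : Ω, (z : (S : Subgroup G)) • a = a → ∀ x ∈ MulAction.orbit (S : Subgroup G) a,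
      (z : (S : Subgroup G)) • x = x := by
    rintro a ha x ⟨m, rfl⟩
    show (z : (S : Subgroup G)) • m • a = m • a
    rw [← mul_smul, ← Subgroup.mem_center_iff.1 z.2 m, mul_smul, ha]
  by_cases hfree : ∀ ω : Ω, (z : (S : Subgroup G)) • ω ≠ ω
  · refine ⟨((z : (S : Subgroup G)) : G), ?_, hfree⟩
    rw [derangement_orderOf (g := ((z : (S : Subgroup G)) : G)) p hp hfree fun ω => ?_]
    · exact hp
    · rw [← SubmonoidClass.coe_pow, hzp]; exact one_smul _ ω
  push Not at hfree
  obtain ⟨a, hza⟩ := hfree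
  obtain ⟨b, hzb⟩ : ∃ b : Ω, (z : (S : Subgroup G)) • b ≠ b := by
    by_contra h
    push Not at h
    have : (z : (S : Subgroup G)) = 1 := FaithfulSMul.eq_of_smul_eq_smul fun ω : Ω => by rw [h, one_smul]
    have hz1 : z = 1 := Subtype.ext this
    rw [hz1, orderOf_one] at hz
    exact hp.ne_one hz.symm
  have hdis : b ∉ MulAction.orbit (S : Subgroup G) a := fun h => hzb (hzfix a hza b h)
  obtain ⟨i, hi2, hia, hoa⟩ := hidx a
  obtain ⟨j, hj2, hjb, hob⟩ := hidx b
  have hd : Disjoint (MulAction.orbit (S : Subgroup G) a) (MulAction.orbit (S : Subgroup G) b) := by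
    rcases MulAction.orbit.eq_or_disjoint (G := (S : Subgroup G)) a b with h | h
    · exact absurd (h ▸ MulAction.mem_orbit_self b) hdis
    · exact h
  have hsum := Set.ncard_union_eq hd (Set.toFinite _) (Set.toFinite _)
  have hle := Set.ncard_le_card (MulAction.orbit (S : Subgroup G) a ∪ MulAction.orbit (S : Subgroup G) b)
  rw [hsum, hoa, hob, hcard] at hle
  have h2i : p ^ 2 ≤ p ^ i := Nat.pow_le_pow_right hp.pos hi2
  have h2j : p ^ 2 ≤ p ^ j := Nat.pow_le_pow_right hp.pos hj2
  have hia2 : p ^ i = p ^ 2 := by omega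
  have hjb2 : p ^ j = p ^ 2 := by omega
  have huniv : MulAction.orbit (S : Subgroup G) a ∪ MulAction.orbit (S : Subgroup G) b = Set.univ := by
    refine Set.eq_of_subset_of_ncard_le (Set.subset_univ _) ?_ (Set.toFinite _)
    rw [hsum, hoa, hob, Set.ncard_univ, hcard]; omega
  exact case_fixed p hp hcl (S : Subgroup G) S.isPGroup' a b (fun w => by
      have : w ∈ (Set.univ : Set Ω) := trivial
      rw [← huniv] at this; exact this) hdis (hia.trans hia2) (hjb.trans hjb2)
    (z : (S : Subgroup G)) z.2 hzp hza hzb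

end Cfsg.Agent.S3557
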