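import Cfsg.Statements.S3559
import Cfsg.Agent.Lib.Perm.CyclicRegularAction

set_option autoImplicit false
open Cfsg
open scoped Pointwise commutatorElement

namespace Cfsg.Agent.S3559

/-- Let G act faithfully and transitively on a finite set whose number of points n ≥ 2 is not a prime power, and suppose G has a cyclic subgroup acting regularly (transitively with trivial point stabilizers). Then G is imprimitive or doubly transitive. -/
theorem result {G Ω : Type*} [Group G] [Finite G] [MulAction G Ω] [FaithfulSMul G Ω] [Finite Ω]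
    (htrans : MulAction.IsPretransitive G Ω) (hn : 2 ≤ Nat.card Ω) (hnp : ¬ IsPrimePow (Nat.card Ω))
    (C : Subgroup G) (hcyc : IsCyclic ↥C) (hC : MulAction.IsPretransitive ↥C Ω ∧ ∀ a : Ω, MulAction.stabilizer ↥C a = ⊥) :
    ¬ MulAction.IsPreprimitive G Ω ∨ MulAction.IsMultiplyPretransitive G Ω 2 := by
  classical
  obtain ⟨hCt, hCf⟩ := hC
  haveI : Nonempty Ω := (Nat.card_pos_iff.1 (by omega : 0 < Nat.card Ω)).1
  haveI : NeZero (Nat.card Ω) := ⟨by omega⟩
  let a : Ω := Classical.arbitrary Ω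
  have hbij : Function.Bijective (fun c : C => c • a) := by
    refine ⟨fun c d h => ?_, fun x => hCt.exists_smul_eq a x⟩
    have h1 : d⁻¹ * c ∈ MulAction.stabilizer C a := by
      rw [MulAction.mem_stabilizer_iff, mul_smul]
      simp only at h
      rw [h, inv_smul_smul]
    rw [hCf, Subgroup.mem_bot] at h1
    exact (inv_mul_eq_one.1 h1).symm
  have hcard : Nat.card C = Nat.card Ω := Nat.card_eq_of_bijective _ hbij
  obtain ⟨g, hg⟩ := hcyc.exists_generator
  have hgo : orderOf g = Nat.card Ω := (orderOf_eq_card_of_forall_mem_zpowers hg).trans hcard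
  have hgN : (g : G) ^ Nat.card Ω = 1 := by rw [← hgo, ← SubmonoidClass.coe_pow, pow_orderOf_eq_one]; rfl
  have hinj : ∀ i < Nat.card Ω, ∀ j < Nat.card Ω, (g : G) ^ i • a = (g : G) ^ j • a → i = j := by
    intro i hi j hj h
    exact pow_injOn_Iio_orderOf (hgo ▸ hi) (hgo ▸ hj) (hbij.1 (a₁ := g ^ i) (a₂ := g ^ j) h)
  obtain ⟨p, hp, hpd⟩ := Nat.exists_prime_and_dvd (n := Nat.card Ω) (by omega)
  have hlt : p < Nat.card Ω := lt_of_le_of_ne (Nat.le_of_dvd (by omega) hpd) fun h => hnp (h ▸ hp.isPrimePow)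
  rcases CfsgLib.Perm.CyclicRegular.two_pretransitive_or_invariant (g : G) rfl hgN a hinj hp hpd hlt
    with h | ⟨e, -, D, hD1, hD2, hD⟩
  · exact Or.inr h
  · exact Or.inl (CfsgLib.Perm.CyclicRegular.not_isPreprimitive_of_invariant e hD1 hD2 hD)

end Cfsg.Agent.S3559
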