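import Cfsg.Statements.S3560
import Mathlib

set_option autoImplicit false
open Cfsg Pointwise

namespace Cfsg.Agent.S3560

--- PRE
section
variable {ι : Type*} [Fintype ι] [DecidableEq ι] {A : Type*} [DecidableEq A]

/-- permutations of `ι → A` preserving the number of agreeing coordinates -/
def isoGroup (ι A : Type*) [Fintype ι] [DecidableEq A] : Subgroup (Equiv.Perm (ι → A)) where
  carrier := {σ | ∀ x y, hammingDist (σ x) (σ y) = hammingDist x y}
  one_mem' := fun _ _ => rfl
  mul_mem' := fun {a b} ha hb x y => (ha (b x) (b y)).trans (hb x y)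
  inv_mem' := fun {a} ha x y => by
    have h := ha (a⁻¹ x) (a⁻¹ y)
    rw [show a (a⁻¹ x) = x from a.apply_symm_apply x, show a (a⁻¹ y) = y from a.apply_symm_apply y] at h
    exact h.symm

/-- independent permutations of the coordinates' values -/
theorem piCongr_mem (f : ι → Equiv.Perm A) : Equiv.piCongrRight f ∈ isoGroup ι A := fun x y =>
  hammingDist_comp (fun i => ⇑(f i)) (fun i => (f i).injective)

theorem reindex_mem (e : Equiv.Perm ι) : Equiv.arrowCongr e (Equiv.refl A) ∈ isoGroup ι A := by
  intro x y
  simp only [hammingDist]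
  rw [← Finset.card_map e.toEmbedding (s := Finset.univ.filter fun i => x i ≠ y i)]
  congr 1
  ext i
  simp only [Finset.mem_filter, Finset.mem_univ, true_and, Finset.mem_map_equiv]
  rfl

instance pretrans : MulAction.IsPretransitive (isoGroup ι A) (ι → A) :=
  ⟨fun x y => ⟨⟨_, piCongr_mem fun i => Equiv.swap (x i) (y i)⟩, by
    funext i
    show Equiv.swap (x i) (y i) (x i) = y i
    exact Equiv.swap_apply_left _ _⟩⟩

theorem prim [Fintype A] (hA : 3 ≤ Fintype.card A) :
    MulAction.IsPreprimitive (isoGroup ι A) (ι → A) := by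
  refine ⟨fun {B} hB => ?_⟩
  rw [MulAction.IsTrivialBlock]
  by_cases hsub : B.Subsingleton
  · exact Or.inl hsub
  right
  obtain ⟨x, hx, y, hy, hxy⟩ := Set.not_subsingleton_iff.1 hsub
  -- maps fixing a point of `B` preserve `B`
  have hpres : ∀ σ ∈ isoGroup ι A, ∀ u ∈ B, σ u ∈ B → ∀ w ∈ B, σ w ∈ B := by
    intro σ hσ u hu hσu w hw
    have h : (⟨σ, hσ⟩ : isoGroup ι A) • B = B :=
      hB.smul_eq_of_nonempty ⟨σ u, ⟨u, hu, rfl⟩, hσu⟩
    rw [← h]
    exact ⟨w, hw, rfl⟩
  obtain ⟨i, hi⟩ := Function.ne_iff.1 hxy
  obtain ⟨z, hzx, hzy⟩ : ∃ z, z ≠ x i ∧ z ≠ y i := by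
    have : 1 < (Finset.univ.erase (x i)).card := by
      rw [Finset.card_erase_of_mem (Finset.mem_univ _), Finset.card_univ]; omega
    obtain ⟨z, hz, hz'⟩ := Finset.exists_mem_ne this (y i)
    exact ⟨z, Finset.ne_of_mem_erase hz, hz'⟩
  have hstep : ∀ u, ∀ (j : ι) (f : Equiv.Perm A) (k : ι),
      Equiv.piCongrRight (Function.update (fun _ => (1 : Equiv.Perm A)) j f) u k =
        if k = j then f (u k) else u k := by
    intro u j f k
    simp only [Equiv.piCongrRight_apply, Pi.map_apply, Function.update_apply]
    split_ifs <;> rfl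
  -- two points of `B` differing only at `i`
  obtain ⟨y', hy'B, hy'i, hy'o⟩ : ∃ y' ∈ B, y' i ≠ y i ∧ ∀ k, k ≠ i → y' k = y k := by
    refine ⟨_, hpres _ (piCongr_mem (Function.update (fun _ => 1) i (Equiv.swap (y i) z))) x hx ?_ y hy,
      ?_, fun k hk => ?_⟩
    · have : Equiv.piCongrRight (Function.update (fun _ => (1 : Equiv.Perm A)) i (Equiv.swap (y i) z)) x = x := by
        funext k
        rw [hstep]
        split_ifs with h
        · subst h; exact Equiv.swap_apply_of_ne_of_ne hi (Ne.symm hzx)
        · rfl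
      rw [this]; exact hx
    · rw [hstep, if_pos rfl, Equiv.swap_apply_left]; exact hzy
    · rw [hstep, if_neg hk]
  -- every coordinate of `y` can be changed
  have hline : ∀ (j : ι) (a : A), Function.update y j a ∈ B := by
    intro j a
    by_cases ha : a = y j
    · rw [ha, Function.update_eq_self]; exact hy
    let e : Equiv.Perm ι := Equiv.swap i j
    let w : ι → A := Equiv.arrowCongr e (Equiv.refl A) y
    let w' : ι → A := Equiv.arrowCongr e (Equiv.refl A) y'
    have hw : ∀ k, w k = y (e k) := fun k => by simp [w, e, Equiv.arrowCongr]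
    have hw' : ∀ k, w' k = y' (e k) := fun k => by simp [w', e, Equiv.arrowCongr]
    obtain ⟨f, hf, hfa⟩ : ∃ f : Equiv.Perm A, f (y i) = y j ∧ f (y' i) = a := by
      refine ⟨Equiv.swap (Equiv.swap (y i) (y j) (y' i)) a * Equiv.swap (y i) (y j), ?_, ?_⟩
      · show Equiv.swap _ a (Equiv.swap (y i) (y j) (y i)) = y j
        rw [Equiv.swap_apply_left, Equiv.swap_apply_of_ne_of_ne ?_ (Ne.symm ha)]
        intro h
        apply hy'i
        have := (Equiv.swap (y i) (y j)).injective ((Equiv.swap_apply_left (y i) (y j)).trans h)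
        exact this.symm
      · show Equiv.swap _ a (Equiv.swap (y i) (y j) (y' i)) = a
        rw [Equiv.swap_apply_left]
    let F : ι → Equiv.Perm A := fun k => if k = j then f else Equiv.swap (w k) (y k)
    let σ := Equiv.piCongrRight F * Equiv.arrowCongr e (Equiv.refl A)
    have hσ : σ ∈ isoGroup ι A := Subgroup.mul_mem _ (piCongr_mem F) (reindex_mem e)
    have hσy : σ y = y := by
      funext k
      show F k (w k) = y k
      simp only [F]
      split_ifs with h
      · subst h; rw [hw]; simp [e, hf]
      · exact Equiv.swap_apply_left _ _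
    have := hpres σ hσ y hy (by rw [hσy]; exact hy) y' hy'B
    have hval : σ y' = Function.update y j a := by
      funext k
      show F k (w' k) = _
      simp only [F, Function.update_apply]
      split_ifs with h
      · subst h; rw [hw']; simp [e, hfa]
      · have hk : e k ≠ i := by
          intro h'
          apply h
          have := congrArg e h'
          simpa [e] using this
        rw [hw', hy'o _ hk, ← hw]
        exact Equiv.swap_apply_left _ _
    rw [hval] at this
    exact this
  -- hence every point is in `B`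
  have hall : ∀ u ∈ B, ∀ (j : ι) (a : A), Function.update u j a ∈ B := by
    intro u hu j a
    let σ := Equiv.piCongrRight fun k => Equiv.swap (y k) (u k)
    have h1 : σ y = u := funext fun k => Equiv.swap_apply_left _ _
    have := hpres σ (piCongr_mem _) y hy (by rw [h1]; exact hu) _ (hline j (Equiv.swap (y j) (u j) a))
    have h2 : σ (Function.update y j (Equiv.swap (y j) (u j) a)) = Function.update u j a := by
      funext k
      show Equiv.swap (y k) (u k) (Function.update y j _ k) = _
      simp only [Function.update_apply]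
      split_ifs with h
      · subst h; simp
      · exact Equiv.swap_apply_left _ _
    rw [h2] at this
    exact this
  rw [Set.eq_univ_iff_forall]
  intro v
  suffices ∀ s : Finset ι, (fun k => if k ∈ s then v k else y k) ∈ B by simpa using this Finset.univ
  intro s
  induction s using Finset.induction_on with
  | empty => simpa using hy
  | insert j s hj ih =>
    have := hall _ ih j (v j)
    convert this using 1
    funext k
    simp only [Function.update_apply, Finset.mem_insert]
    split_ifs <;> simp_all

theorem not_two [Fintype A] (hA : 2 ≤ Fintype.card A) (hr : 2 ≤ Fintype.card ι) :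
    ¬ MulAction.IsMultiplyPretransitive (isoGroup ι A) (ι → A) 2 := by
  intro h
  obtain ⟨a, b, hab⟩ := Fintype.exists_pair_of_one_lt_card (show 1 < Fintype.card A by omega)
  obtain ⟨i, j, hij⟩ := Fintype.exists_pair_of_one_lt_card (show 1 < Fintype.card ι by omega)
  let u : ι → A := fun _ => a
  let v := Function.update u i b
  let w : ι → A := fun _ => b
  have huv : u ≠ v := fun e => hab (by have := congrFun e i; simpa [u, v] using this)
  have huw : u ≠ w := fun e => hab (congrFun e i)
  obtain ⟨g, hgu, hgv⟩ := MulAction.is_two_pretransitive_iff.1 h huv huw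
  have hd := g.2 u v
  rw [show (g : Equiv.Perm (ι → A)) u = u from hgu, show (g : Equiv.Perm (ι → A)) v = w from hgv] at hd
  have h1 : hammingDist u v ≤ 1 := by
    refine le_trans (Finset.card_le_card (t := {i}) fun k hk => ?_) (by simp)
    simp only [Finset.mem_filter, Finset.mem_univ, true_and] at hk
    rw [Finset.mem_singleton]
    by_contra hne
    exact hk (by simp [u, v, hne])
  have h2 : 2 ≤ hammingDist u w := by
    refine le_trans (by rw [Finset.card_pair hij]) (Finset.card_le_card (s := {i, j}) fun k _ => ?_)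
    simp [u, w, hab]
  omega

end

/-- Let K be a finite group isomorphic to a direct product of r ≥ 2 groups all of the same order m ≥ 3. Then K is not a B-group: there is a primitive but not doubly transitive permutation group (on some finite set) containing a regular subgroup isomorphic to K. -/
theorem result {K : Type*} [Group K] [Finite K] {ι : Type*} [Fintype ι] (F : ι → Type*) [∀ i, Group (F i)]
    (hr : 2 ≤ Fintype.card ι) (m : ℕ) (hm : 3 ≤ m) (hcard : ∀ i, Nat.card (F i) = m) (e : K ≃* (∀ i, F i)) :
    ∃ (n : ℕ) (G R : Subgroup (Equiv.Perm (Fin n))), R ≤ G ∧ Nonempty (↥R ≃* K) ∧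
      MulAction.IsPretransitive ↥R (Fin n) ∧ (∀ a : Fin n, MulAction.stabilizer ↥R a = ⊥) ∧
      MulAction.IsPreprimitive ↥G (Fin n) ∧ ¬ MulAction.IsMultiplyPretransitive ↥G (Fin n) 2 := by
  classical
  let φ : ∀ i, F i ≃ Fin m := fun i =>
    haveI : Finite (F i) := Nat.finite_of_card_ne_zero (by rw [hcard]; omega)
    Finite.equivFinOfCardEq (hcard i)
  let n := Fintype.card (ι → Fin m)
  let ψ : (ι → Fin m) ≃ Fin n := Fintype.equivFin _
  let P : Equiv.Perm (ι → Fin m) ≃* Equiv.Perm (Fin n) := ψ.permCongrHom
  let tr : K →* Equiv.Perm (ι → Fin m) :=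
    { toFun := fun k => Equiv.piCongrRight fun i => (φ i).permCongr (Equiv.mulLeft (e k i))
      map_one' := by ext x i; simp [Equiv.permCongr_apply]
      map_mul' := fun a b => by ext x i; simp [Equiv.permCongr_apply, mul_assoc] }
  have htr : ∀ k x, tr k x = x → k = 1 := by
    intro k x h
    apply e.injective
    rw [map_one]
    funext i
    have := congrFun h i
    simpa [tr, Equiv.permCongr_apply, ← Equiv.eq_symm_apply] using this
  have hinj : Function.Injective tr := fun a b h => by
    rw [← inv_mul_eq_one]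
    exact htr _ (fun _ => ⟨0, by omega⟩) (by rw [map_mul, map_inv, h, inv_mul_cancel]; rfl)
  refine ⟨n, (isoGroup ι (Fin m)).map P.toMonoidHom, (tr.range).map P.toMonoidHom,
    Subgroup.map_mono ?_, ⟨((MonoidHom.ofInjective hinj).trans
      (tr.range.equivMapOfInjective _ P.injective)).symm⟩, ⟨fun a b => ?_⟩, fun a => ?_, ?_, ?_⟩
  · rintro _ ⟨k, rfl⟩
    exact piCongr_mem _
  · let k : K := e.symm fun i => (φ i).symm (ψ.symm b i) * ((φ i).symm (ψ.symm a i))⁻¹
    refine ⟨⟨P (tr k), tr k, ⟨k, rfl⟩, rfl⟩, ?_⟩
    show ψ (tr k (ψ.symm a)) = b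
    rw [← Equiv.eq_symm_apply]
    funext i
    simp [tr, k, Equiv.permCongr_apply]
  · rw [Subgroup.eq_bot_iff_forall]
    rintro ⟨_, _, ⟨k, rfl⟩, rfl⟩ hg
    rw [MulAction.mem_stabilizer_iff] at hg
    have hg' : ψ (tr k (ψ.symm a)) = a := hg
    have : k = 1 := htr k (ψ.symm a) (by rw [Equiv.eq_symm_apply]; exact hg')
    subst this
    apply Subtype.ext
    simp
  · haveI := prim (ι := ι) (A := Fin m) (by simpa using hm)
    let f : (ι → Fin m) →ₑ[fun g : isoGroup ι (Fin m) =>
        (⟨P g, g, g.2, rfl⟩ : (isoGroup ι (Fin m)).map P.toMonoidHom)] Fin n :=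
      { toFun := ψ
        map_smul' := fun g x => by
          show ψ ((g : Equiv.Perm _) x) = ψ ((g : Equiv.Perm _) (ψ.symm (ψ x)))
          rw [Equiv.symm_apply_apply] }
    exact MulAction.IsPreprimitive.of_surjective (f := f) ψ.surjective
  · intro h
    apply not_two (ι := ι) (A := Fin m) (by simp; omega) hr
    rw [MulAction.is_two_pretransitive_iff]
    intro a b c d hab hcd
    obtain ⟨⟨_, g, hg, rfl⟩, hgc, hgd⟩ := MulAction.is_two_pretransitive_iff.1 h
      (ψ.injective.ne hab) (ψ.injective.ne hcd)
    refine ⟨⟨g, hg⟩, ?_, ?_⟩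
    · apply ψ.injective
      rw [← hgc]
      show ψ (g a) = ψ (g (ψ.symm (ψ a)))
      rw [Equiv.symm_apply_apply]
    · apply ψ.injective
      rw [← hgd]
      show ψ (g b) = ψ (g (ψ.symm (ψ b)))
      rw [Equiv.symm_apply_apply]

end Cfsg.Agent.S3560
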