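import Cfsg.Statements.S3573
import Mathlib

set_option autoImplicit false
open Cfsg

namespace Cfsg.Agent.S3573

/-- Let 1 ≤ k with 2k < n and consider the symmetric group of degree n acting on the k-subsets of an n-set. Let r be a prime dividing the number C(n,k) of k-subsets. If r is odd, then every permutation of order r fixes some k-subset if and only if r ≤ k and the remainder of k modulo r is at most the remainder of n modulo r. If r = 2, then every involution fixes some k-subset if and only if k is even or n is odd. -/
theorem result (n k : ℕ) (hk : 1 ≤ k) (hkn : 2 * k < n) (r : ℕ) (hr : r.Prime) (hrd : r ∣ Nat.choose n k) :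
    (r ≠ 2 → ((∀ σ : Equiv.Perm (Fin n), orderOf σ = r → ∃ s : Finset (Fin n), s.card = k ∧ s.image σ = s) ↔
      (r ≤ k ∧ k % r ≤ n % r))) ∧
    (r = 2 → ((∀ σ : Equiv.Perm (Fin n), orderOf σ = 2 → ∃ s : Finset (Fin n), s.card = k ∧ s.image σ = s) ↔
      (Even k ∨ Odd n))) := by
  classical
  haveI := Fact.mk hr
  -- the general criterion
  have key : (∀ σ : Equiv.Perm (Fin n), orderOf σ = r → ∃ s : Finset (Fin n), s.card = k ∧ s.image σ = s) ↔
      k % r ≤ n % r := by
    constructor
    · intro h
      by_contra hlt
      push Not at hlt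
      have hrn : r ≤ n := by
        by_contra hgt
        have : n.choose k ∣ n.factorial := Dvd.intro _ (by
          rw [← Nat.choose_mul_factorial_mul_factorial (show k ≤ n by omega), mul_assoc])
        have := (Nat.Prime.dvd_factorial hr).mp (hrd.trans this)
        omega
      have hpos : 0 < n / r := Nat.div_pos hrn hr.pos
      obtain ⟨σ, hσ⟩ := (Equiv.Perm.exists_with_cycleType_iff (α := Fin n) (m := Multiset.replicate (n / r) r)).mpr
        ⟨by rw [Multiset.sum_replicate, smul_eq_mul, Fintype.card_fin]; exact Nat.div_mul_le_self n r,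
          fun a ha => by rw [Multiset.eq_of_mem_replicate ha]; exact hr.two_le⟩
      have hord : orderOf σ = r := by
        rw [← Equiv.Perm.lcm_cycleType, hσ]
        exact Nat.dvd_antisymm (Multiset.lcm_dvd.mpr fun a ha => (Multiset.eq_of_mem_replicate ha).dvd)
          (Multiset.dvd_lcm (Multiset.mem_replicate.mpr ⟨hpos.ne', rfl⟩))
      obtain ⟨s, hs, hinv⟩ := h σ hord
      have hsupp : σ.supportᶜ.card = n % r := by
        have h1 := Equiv.Perm.sum_cycleType σ
        rw [hσ, Multiset.sum_replicate, smul_eq_mul] at h1
        rw [Finset.card_compl, ← h1, Fintype.card_fin]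
        have := Nat.mod_add_div n r
        rw [mul_comm] at this
        omega
      have hmem : ∀ x, x ∈ s ↔ σ x ∈ s := fun x => by
        refine ⟨fun hx => hinv ▸ Finset.mem_image_of_mem σ hx, fun hx => ?_⟩
        rw [← hinv] at hx
        obtain ⟨y, hy, hxy⟩ := Finset.mem_image.mp hx
        rwa [← σ.injective hxy]
      let τ : Equiv.Perm {x // x ∈ s} := σ.subtypePerm (fun x => (hmem x).symm)
      have hpow : τ ^ r ^ 1 = 1 := by
        rw [pow_one, Equiv.Perm.subtypePerm_pow]
        refine Equiv.ext fun x => Subtype.ext ?_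
        show (σ ^ r) x.1 = x.1
        rw [← hord, pow_orderOf_eq_one]
        rfl
      have h2 := Equiv.Perm.card_compl_support_modEq hpow
      rw [Fintype.card_coe, hs] at h2
      have h3 : τ.supportᶜ.card ≤ σ.supportᶜ.card := by
        refine Finset.card_le_card_of_injOn Subtype.val (fun x hx => ?_) Subtype.val_injective.injOn
        rw [Finset.mem_coe, Finset.mem_compl, Equiv.Perm.notMem_support] at hx ⊢
        exact congrArg Subtype.val hx
      rw [hsupp] at h3
      rw [Nat.ModEq, Nat.mod_eq_of_lt (lt_of_le_of_lt h3 (Nat.mod_lt _ hr.pos))] at h2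
      omega
    · intro hle σ hσ
      obtain ⟨a, ha⟩ := Equiv.Perm.cycleType_prime_order (hσ ▸ hr : (orderOf σ).Prime)
      rw [hσ] at ha
      have h1 := Equiv.Perm.sum_cycleType σ
      rw [ha, Multiset.sum_replicate, smul_eq_mul] at h1
      have hcard : σ.cycleFactorsFinset.card = a + 1 := by
        have := congrArg Multiset.card ha
        rwa [Equiv.Perm.cycleType_def, Multiset.card_map, Multiset.card_replicate] at this
      have hsz : ∀ c ∈ σ.cycleFactorsFinset, c.support.card = r := fun c hc => by
        have : c.support.card ∈ σ.cycleType := by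
          rw [Equiv.Perm.cycleType_def]; exact Multiset.mem_map.mpr ⟨c, hc, rfl⟩
        rw [ha] at this
        exact Multiset.eq_of_mem_replicate this
      have hnk := Nat.mod_add_div n r
      have hkk := Nat.mod_add_div k r
      have hsn : σ.support.card ≤ n := (Finset.card_le_univ _).trans_eq (Fintype.card_fin n)
      have hcompl : σ.supportᶜ.card = n - (a + 1) * r := by
        rw [Finset.card_compl, ← h1, Fintype.card_fin]
      obtain ⟨b, hb1, hb2, hb3⟩ : ∃ b, b ≤ a + 1 ∧ b * r ≤ k ∧ k - b * r ≤ n - (a + 1) * r := by
        by_cases hab : k / r ≤ a + 1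
        · refine ⟨k / r, hab, Nat.div_mul_le_self k r, ?_⟩
          have hna : a + 1 ≤ n / r := (Nat.le_div_iff_mul_le hr.pos).mpr (by omega)
          have : (a + 1) * r ≤ n / r * r := Nat.mul_le_mul_right r hna
          rw [mul_comm (n / r)] at this
          rw [mul_comm (k / r)]
          omega
        · refine ⟨a + 1, le_rfl, ?_, ?_⟩
          · have : (a + 1) * r ≤ k / r * r := Nat.mul_le_mul_right r (by omega)
            have := Nat.div_mul_le_self k r
            omega
          · omega
      obtain ⟨T, hT, hTc⟩ := Finset.exists_subset_card_eq (s := σ.cycleFactorsFinset) (n := b) (by omega)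
      obtain ⟨F, hF, hFc⟩ := Finset.exists_subset_card_eq (s := σ.supportᶜ) (n := k - b * r) (by omega)
      refine ⟨T.biUnion Equiv.Perm.support ∪ F, ?_, ?_⟩
      · rw [Finset.card_union_of_disjoint, Finset.card_biUnion, Finset.sum_congr rfl (fun c hc => hsz c (hT hc)),
          Finset.sum_const, hTc, hFc, smul_eq_mul]
        · omega
        · intro c hc d hd hne
          exact Equiv.Perm.Disjoint.disjoint_support (Equiv.Perm.cycleFactorsFinset_pairwise_disjoint σ (hT hc) (hT hd) hne)
        · rw [Finset.disjoint_left]
          intro x hx hxF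
          obtain ⟨c, hc, hxc⟩ := Finset.mem_biUnion.mp hx
          exact Finset.mem_compl.mp (hF hxF) (Equiv.Perm.mem_cycleFactorsFinset_support_le (hT hc) hxc)
      · apply Finset.eq_of_subset_of_card_le
        · intro x hx
          obtain ⟨y, hy, rfl⟩ := Finset.mem_image.mp hx
          rcases Finset.mem_union.mp hy with hy | hy
          · obtain ⟨c, hc, hyc⟩ := Finset.mem_biUnion.mp hy
            refine Finset.mem_union_left _ (Finset.mem_biUnion.mpr ⟨c, hc, ?_⟩)
            have := (Equiv.Perm.mem_cycleFactorsFinset_iff.mp (hT hc)).2 y hyc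
            rw [← this]
            exact Equiv.Perm.apply_mem_support.mpr hyc
          · rw [Equiv.Perm.notMem_support.mp (Finset.mem_compl.mp (hF hy))]
            exact Finset.mem_union_right _ hy
        · rw [Finset.card_image_of_injective _ σ.injective]
  refine ⟨fun _ => key.trans ⟨fun h => ⟨?_, h⟩, fun h => h.2⟩, fun h2 => ?_⟩
  · by_contra hlt
    push Not at hlt
    rw [Nat.mod_eq_of_lt hlt] at h
    have hd : r ∣ n.descFactorial k := by
      rw [Nat.descFactorial_eq_factorial_mul_choose]; exact hrd.trans (dvd_mul_left _ _)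
    rw [Nat.descFactorial_eq_prod_range] at hd
    obtain ⟨i, hi, hri⟩ := (Prime.dvd_finset_prod_iff (Nat.prime_iff.mp hr) _).mp hd
    rw [Finset.mem_range] at hi
    obtain ⟨c, hc⟩ := hri
    have : n % r = i := by
      rw [show n = i + r * c by omega, Nat.add_mul_mod_self_left, Nat.mod_eq_of_lt (by omega)]
    omega
  · subst h2
    rw [key, Nat.even_iff, Nat.odd_iff]
    omega

end Cfsg.Agent.S3573
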