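import Cfsg.Statements.S3575
import Cfsg.Agent.Lib.PermPartitions.Uniform

set_option autoImplicit false
open Cfsg

namespace Cfsg.Agent.S3575

/-- Let a, b ≥ 2 and consider the symmetric group of degree a·b acting on the partitions of an (a·b)-set into b parts of size a (encoded as maps onto a b-element set all of whose fibres have a elements; a permutation fixes such a partition when it permutes the fibres). Let r be a prime dividing the number (ab)!/((a!)^b·b!) of such partitions, and let ℓ and k be the remainders of a and b modulo r. Then every permutation of order r fixes some such partition if and only if r ≤ a and one of the following holds: ℓ = 0; or k = 0 and ℓ = 1; or ℓ and k are non-zero, k·ℓ < r, and either b < r or (k + r)·ℓ ≤ k·a + r. -/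
theorem result (a b : ℕ) (ha : 2 ≤ a) (hb : 2 ≤ b) (r : ℕ) (hr : r.Prime)
    (hrd : r ∣ (a * b).factorial / (a.factorial ^ b * b.factorial)) :
    (∀ σ : Equiv.Perm (Fin (a * b)), orderOf σ = r →
        ∃ f : Fin (a * b) → Fin b, (∀ j : Fin b, Nat.card {x : Fin (a * b) // f x = j} = a) ∧
          ∃ π : Equiv.Perm (Fin b), ∀ x : Fin (a * b), f (σ x) = π (f x)) ↔
      (r ≤ a ∧ (a % r = 0 ∨ (b % r = 0 ∧ a % r = 1) ∨
        (a % r ≠ 0 ∧ b % r ≠ 0 ∧ (b % r) * (a % r) < r ∧ (b < r ∨ (b % r + r) * (a % r) ≤ (b % r) * a + r)))) := by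
  classical
  haveI : Fact r.Prime := ⟨hr⟩
  have hrab : r ≤ a * b := by
    refine (Nat.Prime.dvd_factorial hr).1 (hrd.trans ?_)
    refine Nat.div_dvd_of_dvd ⟨Nat.uniformBell b a, ?_⟩
    rw [mul_comm _ (Nat.uniformBell b a), ← mul_assoc, Nat.uniformBell_mul_eq b (by omega), Nat.mul_comm]
  rw [← CfsgLib.PermPartitions.Uniform.rep_all_iff ha hb hr hrab]
  constructor
  · intro h m hm1 hm
    obtain ⟨σ, hσ, hσc⟩ := CfsgLib.PermPartitions.Uniform.exists_perm hr hm
    have hord : orderOf σ = r := orderOf_eq_prime hσ fun e => by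
      rw [e, Equiv.Perm.support_one, Finset.card_empty] at hσc
      exact (Nat.mul_pos hm1 hr.pos).ne' hσc.symm
    obtain ⟨f, hf, π, hπ⟩ := h σ hord
    have h1 := CfsgLib.PermPartitions.Uniform.rep_of_fixed hr (by omega) hσ f hf π hπ
    have h2 := CfsgLib.PermPartitions.Uniform.support_card_eq hσ
    rw [hσc] at h2
    rwa [← Nat.eq_of_mul_eq_mul_right hr.pos h2] at h1
  · intro h σ hσ
    have hσr : σ ^ r = 1 := hσ ▸ pow_orderOf_eq_one σ
    refine CfsgLib.PermPartitions.Uniform.fixed_of_rep hr hσr (h _ ?_ ?_)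
    · rw [Nat.one_le_iff_ne_zero]
      intro e
      rw [Multiset.card_eq_zero, Equiv.Perm.cycleType_eq_zero] at e
      rw [e, orderOf_one] at hσ
      exact hr.ne_one hσ.symm
    · rw [← CfsgLib.PermPartitions.Uniform.support_card_eq hσr]
      exact (Finset.card_le_univ _).trans (le_of_eq (Fintype.card_fin _))

end Cfsg.Agent.S3575
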