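import Cfsg.Statements.S3590
import Cfsg.Agent.Lib.HallGen.SpEightSpectrum.Main
import Cfsg.Agent.Lib.Classical.Quad.Matrix
import Cfsg.Agent.S3444

set_option autoImplicit false
open Cfsg

namespace Cfsg.Agent.S3590

/-- Let F be a finite field of characteristic 2. Then PSp(8,F) is not determined by its set of element orders, not even up to finitely many groups: for every bound there is a finite group of larger order with exactly the same set of element orders as PSp(8,F). -/
theorem result {F : Type*} [Field F] [Fintype F]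
    [CharP F 2] (M : ℕ) :
    ∃ (H : Type) (_ : Group H) (_ : Fintype H), M < Fintype.card H ∧ Set.range (orderOf : H → ℕ) = Set.range (orderOf : Cfsg.PSp 4 F → ℕ) := by
  obtain ⟨a, b, hab⟩ := CfsgLib.HallGen.SpEightSpectrum.exists_anisotropic (F := F)
  rw [CfsgLib.HallGen.SpEightSpectrum.range_psp hab, ← CfsgLib.HallGen.SpEightSpectrum.range_affine hab]
  set Q := CfsgLib.Classical.Quad.qMinus 3 F a b
  haveI := CfsgLib.HallGen.SpEightSpectrum.finite_OQ Q
  haveI : Finite (Multiplicative ((Fin 3 ⊕ Fin 3) ⊕ Fin 2 → F) ⋊[CfsgLib.HallGen.SpEightSpectrum.actHom Q]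
      ↥(commutator (CfsgLib.Classical.Quad.OQ Q))) :=
    Finite.of_equiv _ SemidirectProduct.equivProd.symm
  let K := (SemidirectProduct.rightHom :
    Multiplicative ((Fin 3 ⊕ Fin 3) ⊕ Fin 2 → F) ⋊[CfsgLib.HallGen.SpEightSpectrum.actHom Q] _ →* _).ker
  have hK : K = (SemidirectProduct.inl : _ →* Multiplicative ((Fin 3 ⊕ Fin 3) ⊕ Fin 2 → F)
      ⋊[CfsgLib.HallGen.SpEightSpectrum.actHom Q] _).range :=
    (SemidirectProduct.range_inl_eq_ker_rightHom).symm
  refine Cfsg.Agent.S3444.result K ?_ ?_ M
  · rw [hK]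
    intro h
    have h1 := (MonoidHom.range_eq_bot_iff.1 h)
    have h2 := DFunLike.congr_fun h1 (Multiplicative.ofAdd (fun _ => (1 : F)))
    have h3 := SemidirectProduct.inl_injective (h2.trans (map_one _).symm)
    exact one_ne_zero (congrFun (Multiplicative.ofAdd.injective (h3.trans ofAdd_zero.symm)) (Sum.inr 0))
  · haveI : Group.IsSolvable (Multiplicative ((Fin 3 ⊕ Fin 3) ⊕ Fin 2 → F)) := inferInstance
    rw [hK]
    exact Group.isSolvable_of_surjective (MonoidHom.rangeRestrict_surjective _)

end Cfsg.Agent.S3590
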