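import Cfsg.Statements.S3593
import Cfsg.Agent.Lib.Blocks.Order95040.Recognize
import Cfsg.Agent.Lib.Blocks.Order95040.SameCounts
import Cfsg.Agent.Lib.Sporadic.SporMathieu

set_option autoImplicit false
open Cfsg

namespace Cfsg.Agent.S3593

/-- Let M be the Mathieu group M₁₂ (order 95040). If a finite group G has the same order as M and the same set of values of the function 'number of elements of order n' (taken over the element orders n that occur), then G is isomorphic to M. -/
theorem result {G : Type*} [Group G] [Finite G]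
    (hcard : Nat.card G = Nat.card ↥Cfsg.Spor.M12)
    (hnse : {c : ℕ | 0 < c ∧ ∃ n : ℕ, c = Nat.card {g : G // orderOf g = n}} =
      {c : ℕ | 0 < c ∧ ∃ n : ℕ, c = Nat.card {g : ↥Cfsg.Spor.M12 // orderOf g = n}}) :
    Nonempty (G ≃* ↥Cfsg.Spor.M12) := by
  have : IsSimpleGroup ↥Cfsg.Spor.M12 := CfsgLib.Sporadic.sporM12_isSimple
  have hM := CfsgLib.Sporadic.card_sporM12
  have hG : Nat.card G = 95040 := hcard.trans hM
  have : IsSimpleGroup G := CfsgLib.Blocks.Order95040.isSimple_of_counts hG fun c n hc hcn => by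
    obtain ⟨-, m, hm⟩ := hnse.subset (show c ∈ {c : ℕ | 0 < c ∧
      ∃ n : ℕ, c = Nat.card {g : G // orderOf g = n}} from ⟨hc, n, hcn⟩)
    exact CfsgLib.Blocks.Order95040.counts_simple hM hm
  have := Fintype.ofFinite G
  have := Fintype.ofFinite ↥Cfsg.Spor.M12
  obtain ⟨e1⟩ := CfsgLib.Blocks.Order95040.nonempty_mulEquiv_std (G := G) hG
  obtain ⟨e2⟩ := CfsgLib.Blocks.Order95040.nonempty_mulEquiv_std (G := ↥Cfsg.Spor.M12) hM
  exact ⟨e1.trans e2.symm⟩

end Cfsg.Agent.S3593
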