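import Cfsg.Statements.S3596
import Cfsg.Agent.Lib.Blocks.Order244823040.SameCounts
import Cfsg.Agent.Lib.Blocks.Order244823040.SevenDegree
import Cfsg.Agent.Lib.Blocks.Order244823040.IndexTwentyFour
import Cfsg.Agent.Lib.Blocks.Order244823040.Endgame
import Cfsg.Agent.Lib.Blocks.Order244823040.FiveRational

set_option autoImplicit false
open Cfsg

namespace Cfsg.Agent.S3596

open CfsgLib.Blocks.Order244823040

/-- Let M be the Mathieu group M₂₄ (order 244823040). If a finite group G has the same order as M and the same set of values of the function 'number of elements of order n' (taken over the element orders n that occur), then G is isomorphic to M. -/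
theorem result {G : Type*} [Group G] [Finite G]
    (hcard : Nat.card G = Nat.card ↥Cfsg.M24)
    (hnse : {c : ℕ | 0 < c ∧ ∃ n : ℕ, c = Nat.card {g : G // orderOf g = n}} =
      {c : ℕ | 0 < c ∧ ∃ n : ℕ, c = Nat.card {g : ↥Cfsg.M24 // orderOf g = n}}) :
    Nonempty (G ≃* ↥Cfsg.M24) := by
  have := Fintype.ofFinite G
  have hG : Nat.card G = ord := hcard.trans M24_card'
  have hC : CountsLike G :=
    ⟨fun n h0 => (hnse.subset ⟨h0, n, rfl⟩).2,
      fun m h0 => by
        obtain ⟨n, hn⟩ := (hnse.superset ⟨h0, m, rfl⟩).2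
        exact ⟨n, hn.symm⟩⟩
  have := isSimple_of_counts hG hC
  have := Fact.mk (show Nat.Prime 23 by norm_num)
  have := Fact.mk (show Nat.Prime 11 by norm_num)
  have := Fact.mk (show Nat.Prime 7 by norm_num)
  obtain ⟨L23⟩ := exists_local hG (p := 23) (by norm_num)
  obtain ⟨L11⟩ := exists_local hG (p := 11) (by norm_num)
  obtain ⟨L7⟩ := exists_local hG (p := 7) (by norm_num)
  obtain ⟨e23, v23⟩ := shape_twentyThree hG hC L23
  obtain ⟨e11, v11⟩ := shape_eleven hG hC L11
  obtain ⟨e7, v7, nc7⟩ := shape_seven hG hC L7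
  obtain ⟨S⟩ := exists_seven_blocks L7 e7 v7 nc7
  obtain ⟨χ, hχ⟩ :=
    (⟨L23, L11, L7, e23, v23, e11, v11, e7, v7, nc7, S⟩ : Shaped G).exists_degree_twentyThree hG
  obtain ⟨T, hT⟩ := exists_index_twentyFour hG L11 e11 v11 L23 e23 v23
    (isConj_sq_of_orderOf_five hG hC) hχ
  exact nonempty_mulEquiv_of_index_twentyFour hG T hT

end Cfsg.Agent.S3596
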