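import Cfsg.Statements.S3598
import Cfsg.Agent.Lib.Recog.PSLDegreeMultiset.PSL
import Cfsg.Agent.Lib.Recog.PSLDegreeMultiset.Main
import Cfsg.Agent.Lib.Perm.ElemCentRecog
import Cfsg.Agent.Lib.Recog.Zassenhaus.SmallRecog
import Cfsg.Agent.Lib.Classical.Dickson.SubgroupFacts
import Cfsg.Agent.S0252
import Cfsg.Agent.S0494

set_option autoImplicit false
open Cfsg

namespace Cfsg.Agent.S3598

open CfsgLib.Char CfsgLib.CharDegree CfsgLib.Recog.PSLDegreeMultiset

theorem degree_eq_iff {H : Type*} [Group H] [Finite H] (χ : Cfsg.IrrCharacter H) (d : ℕ) :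
    (χ : H → ℂ) 1 = (d : ℂ) ↔ Cfsg.charDegree (χ : H → ℂ) = d := by
  rw [← cast_irrDegree χ, Nat.cast_inj]


/-- Let p be a prime and F a field with p² elements. If a finite group G has, for every d, the same number of irreducible complex characters of degree d as PSL(2,F) (the same first column of the character table, with multiplicities), then G is isomorphic to PSL(2,F). -/
theorem result {F : Type*} [Field F] [Fintype F] (p : ℕ) (hp : p.Prime)
    (hF : Fintype.card F = p ^ 2) {G : Type*} [Group G] [Finite G]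
    (h : ∀ d : ℕ, Nat.card {χ : Cfsg.IrrCharacter G // (χ : G → ℂ) 1 = (d : ℂ)} =
      Nat.card {χ : Cfsg.IrrCharacter (Matrix.ProjectiveSpecialLinearGroup (Fin 2) F) // (χ : Matrix.ProjectiveSpecialLinearGroup (Fin 2) F → ℂ) 1 = (d : ℂ)}) :
    Nonempty (G ≃* Matrix.ProjectiveSpecialLinearGroup (Fin 2) F) := by
  classical
  let S := Matrix.ProjectiveSpecialLinearGroup (Fin 2) F
  have e₀ : ∀ d, Nonempty ({χ : Cfsg.IrrCharacter G // Cfsg.charDegree (χ : G → ℂ) = d} ≃
      {χ : Cfsg.IrrCharacter S // Cfsg.charDegree (χ : S → ℂ) = d}) := fun d => by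
    have h1 := h d
    simp only [degree_eq_iff] at h1
    exact Finite.card_eq.1 h1
  let e : Cfsg.IrrCharacter G ≃ Cfsg.IrrCharacter S := Equiv.ofFiberEquiv fun d => (e₀ d).some
  have he : ∀ χ, Cfsg.charDegree (e χ : S → ℂ) = Cfsg.charDegree (χ : G → ℂ) := fun χ =>
    Equiv.ofFiberEquiv_map (g := fun χ : Cfsg.IrrCharacter S => Cfsg.charDegree (χ : S → ℂ)) _ χ
  have hcard : Nat.card G = Nat.card S := by
    have := Fintype.ofFinite (Cfsg.IrrCharacter G)
    have := Fintype.ofFinite (Cfsg.IrrCharacter S)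
    rw [← Nat.cast_inj (R := ℂ), ← sum_sq_degree, ← sum_sq_degree]
    refine Fintype.sum_equiv e _ _ fun χ => ?_
    rw [← cast_irrDegree, ← cast_irrDegree, he]
  rcases hp.eq_two_or_odd with rfl | hodd
  · obtain ⟨a⟩ := Cfsg.Agent.S0252.result (F := F) (by rw [hF]; norm_num)
    have h60 : Nat.card S = 60 := by
      rw [Nat.card_congr a.toEquiv, nat_card_alternatingGroup, Nat.card_fin]; decide
    haveI : IsSimpleGroup (alternatingGroup (Fin 5)) := alternatingGroup.isSimpleGroup (by simp)
    haveI : Nontrivial S := Finite.one_lt_card_iff_nontrivial.1 (by omega)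
    haveI : IsSimpleGroup S :=
      IsSimpleGroup.isSimpleGroup_of_surjective a.symm.toMonoidHom a.symm.surjective
    have hperfS : _root_.commutator S = ⊤ :=
      (Subgroup.Normal.eq_bot_or_eq_top (inferInstance : (_root_.commutator S).Normal)).resolve_left
        fun e0 => CfsgLib.Perm.not_comm_of_not_prime (G := S) (by rw [h60]; norm_num) ⟨⟨fun x y => by
          have := Subgroup.commutator_mem_commutator (Subgroup.mem_top x) (Subgroup.mem_top y)
          rw [← commutator_def, e0, Subgroup.mem_bot, commutatorElement_eq_one_iff_mul_comm] at this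
          exact this⟩⟩
    have hperf : _root_.commutator G = ⊤ := by
      rw [← Subgroup.index_eq_one, ← card_linear, Nat.card_congr (e₀ 1).some, card_linear, hperfS,
        Subgroup.index_top]
    haveI : Nontrivial G := Finite.one_lt_card_iff_nontrivial.1 (by omega)
    haveI := CfsgLib.Recog.Zassenhaus.isSimple_of_sixty (T := G) (hcard.trans h60) fun hs =>
      (Group.IsSolvable.commutator_lt_top_of_nontrivial G).ne hperf
    obtain ⟨b⟩ := Cfsg.Agent.S0494.result (G := G) (hcard.trans h60)
    exact ⟨b.trans a.symm⟩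
  · have h3 : 3 ≤ p := by have := hp.two_le; omega
    have hq4 : Fintype.card F % 4 = 1 := by
      obtain ⟨k, hk⟩ : Odd p := Nat.odd_iff.2 hodd
      have : Fintype.card F = 4 * (k * k + k) + 1 := by rw [hF, hk]; ring
      omega
    obtain ⟨hc, hu⟩ := psl_degree_facts (F := F) hq4
    have hD : Degs G (Fintype.card F) :=
      ⟨fun χ => he χ ▸ hc (e χ), fun χ φ h1 h2 =>
        e.injective (hu _ _ ((he χ).trans (h1.trans (he φ).symm)) (by rw [he χ]; exact h2))⟩
    obtain ⟨K, _, _, hK, ⟨b⟩⟩ := iso_psl hp h3 hF hD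
      (by
        have e1 := CfsgLib.Classical.Dickson.gcd_mul_card_psl (F := F) rfl
        rw [Nat.gcd_eq_left (show 2 ∣ Fintype.card F - 1 by omega)] at e1
        rw [hcard]; exact e1)
    obtain ⟨c⟩ := CfsgLib.Perm.nonempty_psl_congr (FiniteField.ringEquivOfCardEq hK)
    exact ⟨b.trans c⟩

end Cfsg.Agent.S3598
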