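import Cfsg.Statements.S3599
import Cfsg.Agent.Lib.Spectrum.CriticalProduct

set_option autoImplicit false
open Cfsg

namespace Cfsg.Agent.S3599

/-- A finite group is critical with respect to a set Ω of natural numbers when its set of element orders is Ω while no proper section H/N (H a subgroup, N normal in H, (H, N) ≠ (whole group, 1)) has Ω as its set of element orders. Let s ≥ 1 and let p(j,0), p(j,1) (j < s) be 2s pairwise distinct primes, and let Ω be the set of all products c(0)·…·c(s−1) with each c(j) ∈ {1, p(j,0), p(j,1)}. Then there are 2^s pairwise non-isomorphic finite groups critical with respect to Ω. -/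
theorem result (s : ℕ) (hs : 1 ≤ s) (p : Fin s → Fin 2 → ℕ)
    (hp : ∀ j i, (p j i).Prime) (hinj : ∀ j i j' i', p j i = p j' i' → j = j' ∧ i = i') :
    ∃ (G : Fin (2 ^ s) → Type) (_ : ∀ a, Group (G a)) (_ : ∀ a, Fintype (G a)),
      (∀ a b, a ≠ b → ¬ Nonempty (G a ≃* G b)) ∧
      ∀ a, Set.range (orderOf : (G a) → ℕ) = {m : ℕ | ∃ c : Fin s → ℕ, (∀ j, c j = 1 ∨ c j = p j 0 ∨ c j = p j 1) ∧ m = ∏ j, c j} ∧
      ∀ (H : Subgroup (G a)) (N : Subgroup ↥H) [N.Normal], (H ≠ ⊤ ∨ N ≠ ⊥) → Set.range (orderOf : (↥H ⧸ N) → ℕ) ≠ {m : ℕ | ∃ c : Fin s → ℕ, (∀ j, c j = 1 ∨ c j = p j 0 ∨ c j = p j 1) ∧ m = ∏ j, c j} := by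
  classical
  have hne : ∀ (j : Fin s) (i : Fin 2), p j i ≠ p j (i + 1) := fun j i e => by
    have h1 := (hinj j i j (i + 1) e).2
    revert h1
    fin_cases i <;> decide
  have hblock : ∀ (j : Fin s) (i : Fin 2), ∃ (K : Type) (_ : Group K) (_ : Finite K),
      CfsgLib.Spectrum.CriticalBlock.IsBlock K (p j i) (p j (i + 1)) := fun j i => by
    haveI := Fact.mk (hp j i)
    haveI := Fact.mk (hp j (i + 1))
    exact CfsgLib.Spectrum.CriticalBlock.exists_block (hne j i)
  choose K hG hFin hK using hblock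
  let e : Fin (2 ^ s) ≃ (Fin s → Fin 2) := finFunctionFinEquiv.symm
  letI := hG
  haveI := hFin
  have hpairs : ∀ a, CfsgLib.Spectrum.CriticalProduct.IsPairs (fun j => p j (e a j))
      (fun j => p j (e a j + 1)) := fun a =>
    { hp := fun j => hp _ _
      hq := fun j => hp _ _
      ne := fun j => hne j _
      disj := fun j l hjl => ⟨fun h => hjl (hinj _ _ _ _ h).1, fun h => hjl (hinj _ _ _ _ h).1,
        fun h => hjl (hinj _ _ _ _ h).1⟩ }
  have hΩ : ∀ (a : Fin (2 ^ s)) (v j), (v = 1 ∨ v = p j 0 ∨ v = p j 1) ↔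
      (v = 1 ∨ v = p j (e a j) ∨ v = p j (e a j + 1)) := by
    intro a v j
    generalize e a j = i
    fin_cases i
    · exact Iff.rfl
    · exact or_congr_right or_comm
  refine ⟨fun a => ∀ j, K j (e a j), fun a => inferInstance, fun a => Fintype.ofFinite _, ?_, fun a => ?_⟩
  · rintro a b hab ⟨f⟩
    obtain ⟨j, hj⟩ : ∃ j, e a j ≠ e b j := Function.ne_iff.1 fun h => hab (e.injective h)
    have hij : e b j + 1 = e a j := by
      revert hj
      generalize e a j = i
      generalize e b j = k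
      fin_cases i <;> fin_cases k <;> decide
    obtain ⟨x, y, hx, hy, hxy⟩ := CfsgLib.Spectrum.CriticalProduct.not_closed (hpairs b)
      (fun j => hK j (e b j)) j
    apply hxy
    obtain ⟨x, rfl⟩ := f.surjective x
    obtain ⟨y, rfl⟩ := f.surjective y
    simp only [hij] at hx hy ⊢
    rw [← map_pow, map_eq_one_iff f f.injective] at hx hy
    rw [← map_mul, ← map_pow, map_eq_one_iff f f.injective]
    exact CfsgLib.Spectrum.CriticalProduct.closed (hpairs a) (fun j => hK j (e a j)) j hx hy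
  · have hset : {m : ℕ | ∃ c : Fin s → ℕ, (∀ j, c j = 1 ∨ c j = p j 0 ∨ c j = p j 1) ∧ m = ∏ j, c j} =
        {m : ℕ | ∃ c : Fin s → ℕ, (∀ j, c j = 1 ∨ c j = p j (e a j) ∨ c j = p j (e a j + 1)) ∧
          m = ∏ j, c j} := by
      ext m
      exact exists_congr fun c => and_congr_left' (forall_congr' fun j => hΩ a (c j) j)
    rw [hset]
    exact ⟨CfsgLib.Spectrum.CriticalProduct.range_orderOf (hpairs a) (fun j => hK j (e a j)),
      fun H N _ hne' => CfsgLib.Spectrum.CriticalProduct.critical (hpairs a) (fun j => hK j (e a j)) H N hne'⟩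

end Cfsg.Agent.S3599
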