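import Cfsg.Statements.S3600
import Cfsg.Agent.Lib.Recog.SmallOrders.CriticalMain
import Cfsg.Agent.S2497
-- import your own Cfsg.Agent.* helpers here

set_option autoImplicit false
open Cfsg

namespace Cfsg.Agent.S3600

/-- A finite group is critical with respect to a set Ω of natural numbers when its set of element orders is Ω while no proper section has Ω as its set of element orders. A finite group critical with respect to {1, 2, 3, 4, 5} (the set of element orders of the alternating group of degree 6) is isomorphic either to the alternating group of degree 6 or to the affine group F² ⋊ SL(2,F) over the field F with four elements (realised as the matrices of SL(3,F) with last row (0, 0, 1)). -/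
theorem result {G : Type*} [Group G] [Finite G]
    (hcrit : Set.range (orderOf : G → ℕ) = ({1, 2, 3, 4, 5} : Set ℕ) ∧
      ∀ (H : Subgroup G) (N : Subgroup ↥H) [N.Normal], (H ≠ ⊤ ∨ N ≠ ⊥) → Set.range (orderOf : (↥H ⧸ N) → ℕ) ≠ ({1, 2, 3, 4, 5} : Set ℕ)) :
    Nonempty (G ≃* alternatingGroup (Fin 6)) ∨
      ∃ (F : Type) (_ : Field F) (_ : Fintype F), Fintype.card F = 4 ∧
        Nonempty (G ≃* ↥(Subgroup.closure {M : Matrix.SpecialLinearGroup (Fin 3) F |
          (M : Matrix (Fin 3) (Fin 3) F) 2 0 = 0 ∧ (M : Matrix (Fin 3) (Fin 3) F) 2 1 = 0 ∧ (M : Matrix (Fin 3) (Fin 3) F) 2 2 = 1})) := by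
  have hset : ({1, 2, 3, 4, 5} : Set ℕ) = {k : ℕ | 1 ≤ k ∧ k ≤ 5} := by
    ext k; simp only [Set.mem_insert_iff, Set.mem_singleton_iff, Set.mem_setOf_eq]; omega
  rw [hset] at hcrit
  obtain ⟨F⟩ : Nonempty (Σ' (F : Type) (i : Field F) (j : Fintype F), Fintype.card F = 4) :=
    letI := Fintype.ofFinite (GaloisField 2 2)
    ⟨⟨GaloisField 2 2, inferInstance, inferInstance, by
      rw [← Nat.card_eq_fintype_card, GaloisField.card 2 2 two_ne_zero]; norm_num⟩⟩
  obtain ⟨F, _, _, hF⟩ := F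
  rcases CfsgLib.Recog.SmallOrders.critical_five (fun T _ _ _ hT hpp => (fun T => @Cfsg.Agent.S2497.result T) T hT hpp) hcrit.1 (fun N hN hN1 he => by
      let q : (↥(⊤ : Subgroup G) ⧸ N.subgroupOf ⊤) ≃* G ⧸ N :=
        QuotientGroup.congr (N.subgroupOf ⊤) N Subgroup.topEquiv (by
          ext g
          exact ⟨fun ⟨y, hy, hyg⟩ => hyg ▸ hy, fun hg => ⟨⟨g, Subgroup.mem_top g⟩, hg, rfl⟩⟩)
      refine hcrit.2 ⊤ (N.subgroupOf ⊤) (Or.inr fun hb => hN1 (eq_bot_iff.2 fun g hg => ?_)) ?_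
      · have h1 : (⟨g, Subgroup.mem_top g⟩ : (⊤ : Subgroup G)) ∈ N.subgroupOf ⊤ := hg
        rw [hb, Subgroup.mem_bot] at h1
        exact Subgroup.mem_bot.2 (congrArg Subtype.val h1)
      rw [← he]
      ext k
      exact ⟨fun ⟨z, hz⟩ => ⟨q z, (q.orderOf_eq z).trans hz⟩, fun ⟨z, hz⟩ => ⟨q.symm z, (q.symm.orderOf_eq z).trans hz⟩⟩)
    F hF with h | h
  · exact Or.inl h
  · exact Or.inr ⟨F, inferInstance, inferInstance, hF, h⟩


end Cfsg.Agent.S3600
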