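import Cfsg.Statements.S3614
import Cfsg.Agent.Lib.Recog.NeumannTwin.Five
import Cfsg.Agent.Lib.Recog.NeumannTwin.AltDegree
import Cfsg.Agent.Lib.Recog.NeumannTwin.Transfer

set_option autoImplicit false
open Cfsg

namespace Cfsg.Agent.S3614

/-- Let G be an insoluble group acting faithfully and transitively on a finite set of prime size p, and suppose the normalizer of a Sylow p-subgroup of G has order p(p-1)/2. If p = q + 2 = 2r + 3 > 9 or p = q + 2 = 3r + 4 > 13 with q and r prime, then G is isomorphic to the alternating group of degree p. -/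
theorem result {G Ω : Type*} [Group G] [Finite G] [MulAction G Ω] [FaithfulSMul G Ω] [Finite Ω]
    (p : ℕ) (hp : p.Prime) (hΩ : Nat.card Ω = p) (htrans : MulAction.IsPretransitive G Ω)
    (hins : ¬ Group.IsSolvable G) (P : Sylow p G)
    (hN : 2 * Nat.card ↥(Subgroup.normalizer ((P : Subgroup G) : Set G)) = p * (p - 1))
    (q r : ℕ) (hq : q.Prime) (hr : r.Prime)
    (hcases : (p = q + 2 ∧ p = 2 * r + 3 ∧ 9 < p) ∨ (p = q + 2 ∧ p = 3 * r + 4 ∧ 13 < p)) :
    Nonempty (G ≃* alternatingGroup (Fin p)) := by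
  classical
  have := Fact.mk hp
  have := Fintype.ofFinite Ω
  obtain ⟨H, PH, ⟨φ⟩, hHt, hHs, hHN, -⟩ := CfsgLib.Recog.NeumannTwin.transfer htrans hins P
  rw [← hHN] at hN
  have hc : Fintype.card Ω = p := by rw [← Nat.card_eq_fintype_card, hΩ]
  obtain ⟨k, c, hkc, hpc, hr5, hq5, hpq⟩ : ∃ k c, ((k = 3 ∧ c = 2) ∨ (k = 4 ∧ c = 3)) ∧ p = c * r + k ∧
      5 ≤ r ∧ 5 < q ∧ p = q + 2 := by
    rcases hcases with ⟨h1, h2, h3⟩ | ⟨h1, h2, h3⟩
    · have : r ≠ 4 := fun h => by rw [h] at hr; norm_num at hr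
      exact ⟨3, 2, Or.inl ⟨rfl, rfl⟩, h2, by omega, by omega, h1⟩
    · have : r ≠ 4 := fun h => by rw [h] at hr; norm_num at hr
      exact ⟨4, 3, Or.inr ⟨rfl, rfl⟩, h2, by omega, by omega, h1⟩
  have h5 := CfsgLib.Recog.NeumannTwin.five_transitive H hq hq5 hc hpq hHs PH hN
  have hA := CfsgLib.Recog.NeumannTwin.alternating_le H hr hr5 hkc (hc.trans hpc) h5
  have : Nontrivial Ω := Fintype.one_lt_card_iff_nontrivial.1 (by rw [hc]; exact hp.one_lt)
  have hidx := Subgroup.index_dvd_of_le hA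
  rw [alternatingGroup.index_eq_two] at hidx
  have hHA : H = alternatingGroup Ω := by
    rcases (Nat.dvd_prime Nat.prime_two).1 hidx with h | h
    · refine (CfsgLib.Recog.NeumannTwin.not_factorial (by omega) PH hN ?_).elim
      rw [Subgroup.index_eq_one.1 h, Subgroup.card_top, Nat.card_perm, hΩ]
    · exact Equiv.Perm.eq_alternatingGroup_of_index_eq_two h
  exact ⟨φ.trans ((MulEquiv.subgroupCongr hHA).trans (Fintype.equivFinOfCardEq hc).altCongrHom)⟩

end Cfsg.Agent.S3614
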