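import Cfsg.Statements.S3615
import Cfsg.Agent.Lib.Perm.ItoTwoQ.Main

set_option autoImplicit false
open Cfsg

namespace Cfsg.Agent.S3615

/-- Let G be an insoluble group acting faithfully and transitively on a finite set of prime size p, and suppose the normalizer of a Sylow p-subgroup of G has order p(p-1)/2. If p = 2q + 1 with q prime, then G is 4-fold transitive, unless p is 5, 7 or 11 and G is isomorphic to PSL(2, p). -/
theorem result {G Ω : Type*} [Group G] [Finite G] [MulAction G Ω] [FaithfulSMul G Ω] [Finite Ω]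
    (p : ℕ) (hp : p.Prime) (hΩ : Nat.card Ω = p) (htrans : MulAction.IsPretransitive G Ω)
    (hins : ¬ Group.IsSolvable G) (P : Sylow p G)
    (hN : 2 * Nat.card ↥(Subgroup.normalizer ((P : Subgroup G) : Set G)) = p * (p - 1))
    (q : ℕ) (hq : q.Prime) (hpq : p = 2 * q + 1) :
    MulAction.IsMultiplyPretransitive G Ω 4 ∨
    ((p = 5 ∨ p = 7 ∨ p = 11) ∧ Nonempty (G ≃* Matrix.ProjectiveSpecialLinearGroup (Fin 2) (ZMod p))) := by
  haveI := Fact.mk hp
  exact CfsgLib.Perm.ItoTwoQ.main hΩ htrans hins P hN hq hpq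

end Cfsg.Agent.S3615
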