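import Cfsg.Statements.S3619
import Mathlib

set_option autoImplicit false
open Cfsg Pointwise

namespace Cfsg.Agent.S3619

/-- Let G act faithfully on a finite set in such a way that every non-trivial normal subgroup of G is transitive (G is quasiprimitive). Let Γ be a subset with more than one point and not the whole set, such that the pointwise stabilizer of the complement of Γ acts transitively on Γ (a Jordan set). If that pointwise stabilizer acts primitively on Γ, then G is k-fold transitive where k is one more than the number of points outside Γ (the Jordan set is a trivial one). -/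
theorem result {G Ω : Type*} [Group G] [Finite G] [MulAction G Ω] [FaithfulSMul G Ω] [Finite Ω]
    (hqp : ∀ N : Subgroup G, N.Normal → N ≠ ⊥ → MulAction.IsPretransitive ↥N Ω)
    (Γ : Set Ω) (hΓ1 : 1 < Γ.ncard) (hΓ2 : Γ.ncard < Nat.card Ω)
    (hJ : MulAction.IsPretransitive ↥(fixingSubgroup G Γᶜ) ↥(SubMulAction.ofFixingSubgroup G Γᶜ))
    (hJp : MulAction.IsPreprimitive ↥(fixingSubgroup G Γᶜ) ↥(SubMulAction.ofFixingSubgroup G Γᶜ)) :
    MulAction.IsMultiplyPretransitive G Ω (Nat.card Ω - Γ.ncard + 1) := by
  classical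
  haveI : Fintype Ω := Fintype.ofFinite Ω
  obtain ⟨a, ha, b, hb, hab⟩ := (Set.one_lt_ncard).1 hΓ1
  have hne : fixingSubgroup G Γᶜ ≠ ⊥ := by
    intro h
    obtain ⟨⟨g, hg⟩, hga⟩ := hJ.exists_smul_eq ⟨a, fun h => h ha⟩ ⟨b, fun h => h hb⟩
    have hga' : g • a = b := congrArg Subtype.val hga
    rw [h, Subgroup.mem_bot] at hg
    rw [hg, one_smul] at hga'
    exact hab hga'
  have hN : (Subgroup.normalClosure (fixingSubgroup G Γᶜ : Set G)) ≠ ⊥ :=
    fun h => hne (le_bot_iff.1 (h ▸ Subgroup.le_normalClosure))
  haveI := hqp _ Subgroup.normalClosure_normal hN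
  haveI htr : MulAction.IsPretransitive G Ω := ⟨fun x y => by
    obtain ⟨g, hg⟩ := MulAction.exists_smul_eq (Subgroup.normalClosure (fixingSubgroup G Γᶜ : Set G)) x y
    exact ⟨g, hg⟩⟩
  haveI hprim : MulAction.IsPreprimitive G Ω := by
    refine ⟨fun {B} hB => ?_⟩
    by_contra hnt
    simp only [MulAction.IsTrivialBlock, not_or] at hnt
    obtain ⟨hsub, huniv⟩ := hnt
    -- the traces of translates of `B` on `Γ` are blocks of a primitive group
    have htrace : ∀ t : G, (Γ ∩ t • B).Subsingleton ∨ Γ ⊆ t • B := by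
      intro t
      have hblk : MulAction.IsBlock (fixingSubgroup G Γᶜ)
          (Subtype.val ⁻¹' (t • B) : Set (SubMulAction.ofFixingSubgroup G Γᶜ)) := by
        rw [MulAction.isBlock_iff_smul_eq_of_nonempty]
        rintro g ⟨u, hu, hu'⟩
        have hBt := hB.translate (g := t)
        have h1 : (g : G) • (t • B) = t • B := by
          obtain ⟨w, hw, rfl⟩ := hu
          exact hBt.smul_eq_of_nonempty ⟨(g : G) • (w : Ω), ⟨(w : Ω), hw, rfl⟩, hu'⟩
        ext w
        rw [Set.mem_smul_set_iff_inv_smul_mem, Set.mem_preimage, Set.mem_preimage]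
        conv_rhs => rw [← h1, Set.mem_smul_set_iff_inv_smul_mem]
        rfl
      rcases hJp.isTrivialBlock_of_isBlock hblk with h | h
      · left
        intro x hx y hy
        have h' := h (show (⟨x, fun h => h hx.1⟩ : SubMulAction.ofFixingSubgroup G Γᶜ) ∈ _ from hx.2)
          (show (⟨y, fun h => h hy.1⟩ : SubMulAction.ofFixingSubgroup G Γᶜ) ∈ _ from hy.2)
        exact congrArg Subtype.val h'
      · right
        intro x hx
        have := h ▸ Set.mem_univ (⟨x, fun h => h hx⟩ : SubMulAction.ofFixingSubgroup G Γᶜ)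
        exact this
    -- hence every block through a point of `Γ` contains all of `Γ`
    have hfix : ∀ g ∈ fixingSubgroup G Γᶜ, ∀ t : G, g • (t • B) = t • B := by
      intro g hg t
      have hBt := hB.translate (g := t)
      have hfixout : ∀ z ∉ Γ, g • z = z := fun z hz => (mem_fixingSubgroup_iff G).1 hg z hz
      have hBne : (t • B).Nonempty := by
        obtain ⟨x, hx, -⟩ : B.Nontrivial := Set.not_subsingleton_iff.1 hsub
        exact ⟨t • x, x, hx, rfl⟩
      by_cases hout : ∃ z ∈ t • B, z ∉ Γ
      · obtain ⟨z, hz, hzΓ⟩ := hout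
        exact hBt.smul_eq_of_nonempty ⟨z, ⟨z, hz, hfixout z hzΓ⟩, hz⟩
      · push Not at hout
        rcases htrace t with h | h
        · exfalso
          have hs : (t • B).Subsingleton := fun x hx y hy =>
            h ⟨hout x hx, hx⟩ ⟨hout y hy, hy⟩
          exact hsub fun x hx y hy => MulAction.injective t
            (hs ⟨x, hx, rfl⟩ ⟨y, hy, rfl⟩)
        · have hga : g • a ∈ t • B := by
            apply h
            by_contra hc
            have := (hfixout _ hc)
            exact hc ((MulAction.injective g this).symm ▸ ha)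
          exact hBt.smul_eq_of_nonempty ⟨g • a, ⟨a, h ha, rfl⟩, hga⟩
    have hker : ∀ g ∈ Subgroup.normalClosure (fixingSubgroup G Γᶜ : Set G),
        ∀ t : G, g • (t • B) = t • B := by
      intro g hg
      induction hg using Subgroup.closure_induction with
      | mem y hy =>
        intro t
        obtain ⟨s, hs, hcs⟩ := Group.mem_conjugatesOfSet_iff.1 hy
        obtain ⟨c, hc⟩ := isConj_iff.1 hcs
        rw [← hc, ← mul_smul, show c * s * c⁻¹ * t = c * (s * (c⁻¹ * t)) by group, mul_smul,
          mul_smul, hfix s hs (c⁻¹ * t), ← mul_smul, mul_inv_cancel_left]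
      | one => intro t; exact one_smul _ _
      | mul u v _ _ hu hv => intro t; rw [mul_smul, hv, hu]
      | inv u _ hu => intro t; rw [inv_smul_eq_iff, hu]
    obtain ⟨x, hx, -⟩ : B.Nontrivial := Set.not_subsingleton_iff.1 hsub
    apply huniv
    rw [Set.eq_univ_iff_forall]
    intro y
    obtain ⟨g, hg⟩ := MulAction.exists_smul_eq (Subgroup.normalClosure (fixingSubgroup G Γᶜ : Set G)) x y
    have := hker g g.2 1
    rw [one_smul] at this
    rw [← hg, Subgroup.smul_def, ← this]
    exact ⟨x, hx, rfl⟩
  obtain ⟨k, hk⟩ : ∃ k, Γᶜ.ncard = k + 1 := by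
    refine ⟨Γᶜ.ncard - 1, ?_⟩
    have := Set.ncard_add_ncard_compl Γ
    omega
  have hsum := Set.ncard_add_ncard_compl Γ
  have h := hprim.isMultiplyPreprimitive hk (by omega) hJp
  have h' := h.isMultiplyPretransitive
  rw [show Nat.card Ω - Γ.ncard + 1 = k + 2 by omega]
  exact h'

end Cfsg.Agent.S3619
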