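import Cfsg.Statements.S3622

set_option autoImplicit false
open Cfsg

namespace Cfsg.Agent.S3622

/-- Let G be a group of permutations of a finite set, m ≥ 2, and α a point. Say a permutation σ is k-approximated by a set S of permutations if for every k points there is a member of S agreeing with σ at those points. Suppose every permutation that is (m-1)-approximated by the stabilizer of α in G lies in that stabilizer (the stabilizer is (m-1)-closed). Then every permutation that is m-approximated by G lies in G (G is m-closed). -/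
theorem result {Ω : Type*} [Finite Ω] (G : Subgroup (Equiv.Perm Ω)) (m : ℕ) (hm : 2 ≤ m) (α : Ω)
    (hclosed : ∀ σ : Equiv.Perm Ω,
      (∀ t : Fin (m - 1) → Ω, ∃ g ∈ MulAction.stabilizer ↥G α, ∀ i, (g : Equiv.Perm Ω) (t i) = σ (t i)) →
      σ ∈ G ∧ σ α = α) :
    ∀ σ : Equiv.Perm Ω, (∀ t : Fin m → Ω, ∃ g ∈ G, ∀ i, g (t i) = σ (t i)) → σ ∈ G := by
  intro σ hσ
  obtain ⟨g₀, hg₀, hg₀α⟩ := hσ (fun _ => α)
  have hm0 : 0 < m := by omega
  have h0 : g₀ α = σ α := hg₀α ⟨0, hm0⟩
  have key : ∀ t : Fin (m - 1) → Ω, ∃ g ∈ MulAction.stabilizer ↥G α,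
      ∀ i, (g : Equiv.Perm Ω) (t i) = (g₀⁻¹ * σ) (t i) := by
    intro t
    let t' : Fin m → Ω := fun i => if h : i.val < m - 1 then t ⟨i.val, h⟩ else α
    obtain ⟨g, hg, hgt⟩ := hσ t'
    have hlast : g α = σ α := by
      have := hgt ⟨m - 1, by omega⟩
      simpa [t'] using this
    refine ⟨⟨g₀⁻¹ * g, G.mul_mem (G.inv_mem hg₀) hg⟩, ?_, ?_⟩
    · rw [MulAction.mem_stabilizer_iff]
      show (g₀⁻¹ * g) α = α
      rw [Equiv.Perm.mul_apply, hlast, ← h0]
      simp
    · intro i
      have := hgt ⟨i.val, by omega⟩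
      simp [t', i.isLt] at this
      show (g₀⁻¹ * g) (t i) = (g₀⁻¹ * σ) (t i)
      simp [this]
  obtain ⟨hmem, -⟩ := hclosed _ key
  have := G.mul_mem hg₀ hmem
  simpa using this

end Cfsg.Agent.S3622
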