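import Cfsg.Statements.S3626
import Cfsg.Agent.Lib.Lie.Twisted.Ree.SixTori
import Cfsg.Agent.Lib.Lie.Twisted.Ree.Tori
import Cfsg.Agent.Lib.Recog.TruncatedReeSpectrum
import Cfsg.Agent.Lib.Recog.SemidirectSpectrum

set_option autoImplicit false
open Cfsg

namespace Cfsg.Agent.S3626

open CfsgLib.Lie.Ree CfsgLib.Recog

theorem exists_order_of_dvd {G : Type*} [Monoid G] {g : G} {d : ℕ} (hd : d ∣ orderOf g)
    (h0 : orderOf g ≠ 0) : ∃ x : G, orderOf x = d :=
  ⟨g ^ (orderOf g / d), orderOf_pow_orderOf_div h0 hd⟩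

variable {K : Type*} [Field K] [Fintype K] {m : ℕ}

theorem ree_spectrum (hm : 1 ≤ m) (hK : Fintype.card K = 3 ^ (2 * m + 1)) :
    ∃ a b : ℕ, (∀ g : RG K m, orderOf g ∣ 6 ∨ orderOf g ∣ 9 ∨ orderOf g ∣ Fintype.card K - 1 ∨
      orderOf g ∣ (Fintype.card K + 1) / 2 ∨ orderOf g ∣ a ∨ orderOf g ∣ b) ∧
      ∀ v ∈ [6, 9, Fintype.card K - 1, (Fintype.card K + 1) / 2, a, b],
        ∃ g : RG K m, orderOf g = v := by
  obtain ⟨A, B, hA, hB, -, -, hAB⟩ := six_tori hK hm
  have h2Q : 2 * nQ m = (Fintype.card K + 1) / 2 := by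
    rw [hK]; have := (nQ_spec m).1; omega
  refine ⟨Nat.card A, Nat.card B, fun g => ?_, ?_⟩
  · rcases order_cases hK hm g with h | h | h | h | h | ⟨r, hr, hrn, hro⟩
    · exact .inl (by rw [h]; exact one_dvd _)
    · exact .inl (by rw [h]; norm_num)
    · rcases orderOf_three_cases hK hm h with e | e | e
      · exact .inl (by rw [e]; norm_num)
      · exact .inl (by rw [e])
      · exact .inr (.inl (by rw [e]))
    · exact .inr (.inr (.inl (hK ▸ orderOf_dvd_HR hK hm h)))
    · exact .inr (.inr (.inr (.inl (h2Q ▸ orderOf_dvd_TD hK hm h))))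
    · rw [← hAB] at hrn
      have key : ∀ T : Subgroup (RG K m), SixTorus T → r ∣ Nat.card T → orderOf g ∣ Nat.card T := by
        intro T hT hd
        obtain ⟨x, hx⟩ := hT.cover g ⟨r, hr, hd, hro⟩
        have ho : orderOf (x⁻¹ * g * x) = orderOf g := by
          simpa using (MulEquiv.orderOf_eq (MulAut.conj x⁻¹) g)
        rw [← ho, ← Subgroup.orderOf_mk _ hx]
        exact orderOf_dvd_natCard _
      rcases hr.dvd_mul.1 hrn with h | h
      · exact .inr (.inr (.inr (.inr (.inl (key A hA h)))))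
      · exact .inr (.inr (.inr (.inr (.inr (key B hB h)))))
  · have cyc : ∀ T : Subgroup (RG K m), IsCyclic T → ∃ g : RG K m, orderOf g = Nat.card T := by
      intro T hT
      obtain ⟨z, hz⟩ := IsCyclic.exists_ofOrder_eq_natCard (α := T)
      exact ⟨z, by rw [Subgroup.orderOf_coe, hz]⟩
    intro v hv
    simp only [List.mem_cons, List.not_mem_nil, or_false] at hv
    rcases hv with rfl | rfl | rfl | rfl | rfl | rfl
    · exact exists_orderOf_six hK
    · exact exists_orderOf_nine hK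
    · obtain ⟨g, hg⟩ := cyc _ (HR_cyclic hK)
      exact ⟨g, by rw [hg, card_HR hK, hK]⟩
    · obtain ⟨g, hg⟩ := cyc _ (TP_cyclic hK)
      exact ⟨g, by rw [hg, card_TP hK, h2Q]⟩
    · exact cyc _ hA.cyclic
    · exact cyc _ hB.cyclic

/-- The cube of the Ree group and its truncation share their element orders. -/
theorem range_eq [CharP K 3] [Finite (TruncatedRee.Grp K)] (hm : 1 ≤ m)
    (hK : Fintype.card K = 3 ^ (2 * m + 1)) :
    Set.range (orderOf : RG K m × RG K m × TruncatedRee.Grp K → ℕ) =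
      Set.range (orderOf : RG K m × RG K m × RG K m → ℕ) := by
  obtain ⟨a, b, hub, hex⟩ := ree_spectrum hm hK
  have hodd : Odd (2 * m + 1) := odd_two_mul_add_one m
  have real : ∀ (d v : ℕ), v ∈ [6, 9, Fintype.card K - 1, (Fintype.card K + 1) / 2, a, b] → d ∣ v →
      ∃ g : RG K m, orderOf g = d := by
    intro d v hv hd
    obtain ⟨g, hg⟩ := hex v hv
    exact exists_order_of_dvd (hg ▸ hd) (orderOf_pos g).ne'
  have realT : ∀ (d v : ℕ), v ∈ [6, 9, Fintype.card K - 1, (Fintype.card K + 1) / 2] → d ∣ v →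
      ∃ g : TruncatedRee.Grp K, orderOf g = d := by
    intro d v hv hd
    obtain ⟨g, hg⟩ : ∃ g : TruncatedRee.Grp K, orderOf g = v := by
      simp only [List.mem_cons, List.not_mem_nil, or_false] at hv
      rcases hv with rfl | rfl | rfl | rfl
      exacts [TruncatedRee.exists_orderOf_six K, TruncatedRee.exists_orderOf_nine K,
        TruncatedRee.exists_orderOf_split K hodd hK, TruncatedRee.exists_orderOf_nonsplit K hodd hK]
    exact exists_order_of_dvd (hg ▸ hd) (orderOf_pos g).ne'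
  -- an element of the cube with a coordinate that fits the truncation
  have good : ∀ x y z : RG K m, (∃ t : TruncatedRee.Grp K, orderOf t = orderOf z) →
      ∃ w : RG K m × RG K m × TruncatedRee.Grp K,
        orderOf w = (orderOf x).lcm ((orderOf y).lcm (orderOf z)) := by
    rintro x y z ⟨t, ht⟩
    exact ⟨(x, y, t), by simp [Prod.orderOf, ht]⟩
  ext n
  constructor
  · rintro ⟨⟨x, y, t⟩, rfl⟩
    obtain ⟨z, hz⟩ : ∃ z : RG K m, orderOf z = orderOf t := by
      rcases TruncatedRee.exponent_cases hodd hK t with h | h | h | h <;>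
        exact real _ _ (by simp) h
    exact ⟨(x, y, z), by simp [Prod.orderOf, hz]⟩
  · rintro ⟨⟨x, y, z⟩, rfl⟩
    have cases : ∀ g : RG K m, (∃ t : TruncatedRee.Grp K, orderOf t = orderOf g) ∨
        orderOf g ∣ a ∨ orderOf g ∣ b := by
      intro g
      rcases hub g with h | h | h | h | h | h
      iterate 4 exact .inl (realT _ _ (by simp) h)
      exacts [.inr (.inl h), .inr (.inr h)]
    simp only [Set.mem_range, Prod.orderOf]
    rcases cases z with hz | hz
    · obtain ⟨w, hw⟩ := good x y z hz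
      exact ⟨w, by simpa [Prod.orderOf] using hw⟩
    rcases cases y with hy | hy
    · obtain ⟨w, hw⟩ := good x z y hy
      exact ⟨w, by rw [Nat.lcm_comm (orderOf y)]; simpa [Prod.orderOf] using hw⟩
    rcases cases x with hx | hx
    · obtain ⟨w, hw⟩ := good z y x hx
      exact ⟨w, by rw [Nat.lcm_comm (orderOf x), Nat.lcm_comm (orderOf y), Nat.lcm_assoc]
                   simpa [Prod.orderOf] using hw⟩
    -- two coordinates lie in one torus
    have merge : ∀ (p r : ℕ) (g : RG K m), (p ∣ a ∧ r ∣ a ∨ p ∣ b ∧ r ∣ b) →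
        ∃ w : RG K m × RG K m × TruncatedRee.Grp K, orderOf w = (orderOf g).lcm (p.lcm r) := by
      intro p r g h
      obtain ⟨u, hu⟩ : ∃ u : RG K m, orderOf u = p.lcm r := by
        rcases h with ⟨h1, h2⟩ | ⟨h1, h2⟩ <;> exact real _ _ (by simp) (Nat.lcm_dvd h1 h2)
      exact ⟨(g, u, 1), by simp [Prod.orderOf, hu]⟩
    suffices ∃ w : RG K m × RG K m × TruncatedRee.Grp K,
        orderOf w = (orderOf x).lcm ((orderOf y).lcm (orderOf z)) by
      simpa [Prod.orderOf] using this
    rcases hy with hy | hy <;> rcases hz with hz | hz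
    · exact merge _ _ x (.inl ⟨hy, hz⟩)
    · rcases hx with hx | hx
      · obtain ⟨w, hw⟩ := merge _ _ z (.inl ⟨hx, hy⟩)
        exact ⟨w, by rw [hw, Nat.lcm_comm, Nat.lcm_assoc]⟩
      · obtain ⟨w, hw⟩ := merge _ _ y (.inr ⟨hx, hz⟩)
        exact ⟨w, by rw [hw, Nat.lcm_comm (orderOf y), Nat.lcm_assoc, Nat.lcm_comm (orderOf z)]⟩
    · rcases hx with hx | hx
      · obtain ⟨w, hw⟩ := merge _ _ y (.inl ⟨hx, hz⟩)
        exact ⟨w, by rw [hw, Nat.lcm_comm (orderOf y), Nat.lcm_assoc, Nat.lcm_comm (orderOf z)]⟩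
      · obtain ⟨w, hw⟩ := merge _ _ z (.inr ⟨hx, hy⟩)
        exact ⟨w, by rw [hw, Nat.lcm_comm, Nat.lcm_assoc]⟩
    · exact merge _ _ x (.inr ⟨hy, hz⟩)


/-- Let R be the small Ree group over the field with q = 3^(2m+1) ≥ 27 elements. Then there are finite groups of arbitrarily large order with exactly the same set of element orders as R × R × R. -/
theorem result {K : Type*} [Field K] [Fintype K] {m : ℕ} (hm : 1 ≤ m) (hK : Fintype.card K = 3 ^ (2 * m + 1)) (N : ℕ) :
    ∃ (H : Type) (_ : Group H) (_ : Fintype H), N < Fintype.card H ∧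
      Set.range (orderOf : H → ℕ) = Set.range (orderOf : ↥(Cfsg.Lie.twistedG2 K (3 ^ m)) × ↥(Cfsg.Lie.twistedG2 K (3 ^ m)) × ↥(Cfsg.Lie.twistedG2 K (3 ^ m)) → ℕ) := by
  classical
  have : Fact (Nat.Prime 3) := ⟨Nat.prime_three⟩
  have : CharP K 3 := by
    obtain ⟨r, hr⟩ := CharP.exists K
    have : Fact r.Prime := ⟨CharP.char_is_prime K r⟩
    obtain ⟨c, hr', hc⟩ := FiniteField.card K r
    have h3 : r ∣ 3 ^ (2 * m + 1) := hK ▸ hc ▸ dvd_pow_self r c.pos.ne'
    rwa [← (Nat.prime_dvd_prime_iff_eq hr' Nat.prime_three).1 (hr'.dvd_of_dvd_pow h3)]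
  have : Finite (MulAut (Multiplicative (Matrix (Fin 2) (Fin 2) K))) :=
    Finite.of_injective _ DFunLike.coe_injective
  have : Finite (TruncatedRee.Grp K) := Finite.of_equiv _ SemidirectProduct.equivProd.symm
  let P : Subgroup (TruncatedRee.Grp K) := (SemidirectProduct.inl).range
  have : P.Normal := by
    show (SemidirectProduct.inl).range.Normal
    rw [SemidirectProduct.range_inl_eq_ker_rightHom]; infer_instance
  let V : Subgroup (RG K m × RG K m × TruncatedRee.Grp K) := (⊥ : Subgroup _).prod ((⊥ : Subgroup _).prod P)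
  have hV : V ≠ ⊥ := by
    intro h
    have h1 : ((1 : RG K m), (1 : RG K m),
        (SemidirectProduct.inl (Multiplicative.ofAdd (1 : Matrix (Fin 2) (Fin 2) K)) : TruncatedRee.Grp K)) ∈ V :=
      ⟨Subgroup.mem_bot.2 rfl, Subgroup.mem_bot.2 rfl, ⟨_, rfl⟩⟩
    rw [h, Subgroup.mem_bot, Prod.ext_iff, Prod.ext_iff] at h1
    have h2 := h1.2.2
    simp only [Prod.snd_one] at h2
    rw [map_eq_one_iff _ SemidirectProduct.inl_injective] at h2
    exact one_ne_zero (α := Matrix (Fin 2) (Fin 2) K) (Multiplicative.ofAdd.injective h2)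
  have hexp : ∀ v : V, v ^ 3 = 1 := by
    rintro ⟨⟨x, y, t⟩, hx, hy, hw⟩
    obtain ⟨w, hw⟩ := hw
    apply Subtype.ext
    simp only [SubgroupClass.coe_pow, Prod.pow_mk, OneMemClass.coe_one, Prod.mk_eq_one]
    refine ⟨?_, ?_, ?_⟩
    · rw [show x = 1 from Subgroup.mem_bot.1 hx, one_pow]
    · rw [show y = 1 from Subgroup.mem_bot.1 hy, one_pow]
    · rw [show t = SemidirectProduct.inl w from hw.symm, ← map_pow, TruncatedRee.three_pow_eq_one, map_one]
  obtain ⟨H, i1, i2, hN, hs⟩ := Spectrum.exists_large V Nat.prime_three hV hexp N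
  exact ⟨H, i1, i2, hN, hs.trans (range_eq hm hK)⟩

end Cfsg.Agent.S3626
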