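import Cfsg.Statements.S3627
import Cfsg.Agent.Lib.Recog.JankoOneSpectrum
import Cfsg.Agent.Lib.Recog.DivisorCover

set_option autoImplicit false
open Cfsg

namespace Cfsg.Agent.S3627

--- PRE

/-- Let J be the first Janko group. Then there are finite groups of arbitrarily large order with exactly the same set of element orders as J × J × J × J. -/
theorem result (N : ℕ) : ∃ (H : Type) (_ : Group H) (_ : Fintype H), N < Fintype.card H ∧
      Set.range (orderOf : H → ℕ) = Set.range (orderOf : ↥Cfsg.Spor.J1 × ↥Cfsg.Spor.J1 × ↥Cfsg.Spor.J1 × ↥Cfsg.Spor.J1 → ℕ) := by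
  have : Fact (Nat.Prime 7) := ⟨by norm_num⟩
  have : NeZero (6270 : ℕ) := ⟨by norm_num⟩
  obtain ⟨H, i1, i2, h1, h2⟩ :=
    CfsgLib.Recog.DivisorCover.exists_large_group 6270 7 N (by norm_num) (by norm_num)
  exact ⟨H, i1, i2, h1, h2.trans CfsgLib.Recog.JankoOne.range_fourth_power.symm⟩

end Cfsg.Agent.S3627
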