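import Cfsg.Statements.S3633
import Mathlib
import Cfsg.Agent.Lib.Recog.ThreePrimes

set_option autoImplicit false
open Cfsg

namespace Cfsg.Agent.S3633

/-- Let G be a finite group and ρ a set of at least three prime divisors of the order of G that are pairwise non-adjacent in the prime graph (no element of order rs for distinct r, s ∈ ρ). Then at most one prime of ρ divides the order of any given solvable normal subgroup of G; in particular G is not solvable. -/
theorem result {G : Type*} [Group G] [Finite G] (ρ : Finset ℕ) (hρ : 3 ≤ ρ.card) (hc : ((∀ r ∈ ρ, r.Prime ∧ r ∣ Nat.card G) ∧ (∀ r ∈ ρ, ∀ s ∈ ρ, r ≠ s → ¬ ∃ x : G, orderOf x = r * s)))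
    (K : Subgroup G) [K.Normal] (hK : Group.IsSolvable ↥K) :
    (∀ r ∈ ρ, ∀ s ∈ ρ, r ∣ Nat.card ↥K → s ∣ Nat.card ↥K → r = s) ∧ ¬ Group.IsSolvable G := by
  classical
  obtain ⟨hc1, hc2⟩ := hc
  have main : ∀ (L : Subgroup G), Group.IsSolvable L → ∀ r ∈ ρ, ∀ s ∈ ρ, ∀ t ∈ ρ, r ≠ s → r ≠ t → s ≠ t →
      r ∣ Nat.card L → s ∣ Nat.card L → t ∣ Nat.card L → False := by
    intro L hL r hr s hs t ht hrs hrt hst d1 d2 d3
    haveI := hL
    rcases CfsgLib.Recog.ThreePrimes.solvable_three_primes _ L rfl r s t (hc1 r hr).1 (hc1 s hs).1 (hc1 t ht).1 hrs hrt hst d1 d2 d3 with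
      ⟨x, hx⟩ | ⟨x, hx⟩ | ⟨x, hx⟩
    · exact hc2 r hr s hs hrs ⟨x, by rw [Subgroup.orderOf_coe]; exact hx⟩
    · exact hc2 r hr t ht hrt ⟨x, by rw [Subgroup.orderOf_coe]; exact hx⟩
    · exact hc2 s hs t ht hst ⟨x, by rw [Subgroup.orderOf_coe]; exact hx⟩
  refine ⟨fun r hr s hs hrK hsK => ?_, fun hG => ?_⟩
  · by_contra hrs
    obtain ⟨t, ht, htr, hts⟩ : ∃ t ∈ ρ, t ≠ r ∧ t ≠ s := by
      by_contra hne
      push Not at hne
      have hsub : ρ ⊆ {r, s} := fun t ht => by
        by_cases h : t = r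
        · simp [h]
        · simp [hne t ht h]
      have := (Finset.card_le_card hsub).trans Finset.card_le_two
      omega
    haveI := Fact.mk (hc1 t ht).1
    obtain ⟨x, hx⟩ := exists_prime_orderOf_dvd_card' t (hc1 t ht).2
    haveI := hK
    set L := Subgroup.zpowers x ⊔ K
    have hKL : K ≤ L := le_sup_right
    haveI : Group.IsSolvable (Subgroup.zpowers x) := inferInstance
    haveI : Group.IsSolvable (L ⧸ K.subgroupOf L) :=
      let e := QuotientGroup.quotientInfEquivProdNormalQuotient (Subgroup.zpowers x) K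
      solvable_of_surjective (f := e.toMonoidHom) e.surjective
    have hL : Group.IsSolvable L := solvable_of_ker_le_range (Subgroup.inclusion hKL)
      (QuotientGroup.mk' (K.subgroupOf L)) (fun z hz => by
        rw [QuotientGroup.ker_mk'] at hz
        exact ⟨⟨z, hz⟩, rfl⟩)
    have hxt : t ∣ Nat.card L := by
      rw [← hx, ← Subgroup.orderOf_mk x ((le_sup_left : _ ≤ L) (Subgroup.mem_zpowers x))]
      exact orderOf_dvd_natCard _
    exact main L hL r hr s hs t ht hrs (Ne.symm htr) (Ne.symm hts) (hrK.trans (Subgroup.card_dvd_of_le hKL))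
      (hsK.trans (Subgroup.card_dvd_of_le hKL)) hxt
  · obtain ⟨u, hu, hucard⟩ := Finset.exists_subset_card_eq hρ
    obtain ⟨r, s, t, hrs, hrt, hst, rfl⟩ := Finset.card_eq_three.mp hucard
    haveI := hG
    have hd : ∀ z ∈ ρ, z ∣ Nat.card (⊤ : Subgroup G) := fun z hz => by rw [Subgroup.card_top]; exact (hc1 z hz).2
    exact main ⊤ inferInstance r (hu (by simp)) s (hu (by simp)) t (hu (by simp)) hrs hrt hst
      (hd r (hu (by simp))) (hd s (hu (by simp))) (hd t (hu (by simp)))

end Cfsg.Agent.S3633
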