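import Cfsg.Statements.S3634
import Mathlib
import Cfsg.Agent.Lib.Recog.ThreePrimes

set_option autoImplicit false
open Cfsg

namespace Cfsg.Agent.S3634

/-- Let G be a finite group with normal subgroups K ≤ M, and let p, q, r be distinct primes with p dividing the order of K, q dividing the order of M/K and r dividing the order of G/M. Then p, q, r are not pairwise non-adjacent in the prime graph of G: G has an element of order pq, pr or qr. -/
theorem result {G : Type*} [Group G] [Finite G] (K M : Subgroup G) [K.Normal] [M.Normal] (hKM : K ≤ M)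
    (p q r : ℕ) (hp : p.Prime) (hq : q.Prime) (hr : r.Prime) (hpq : p ≠ q) (hpr : p ≠ r) (hqr : q ≠ r)
    (hpK : p ∣ Nat.card ↥K) (hqM : q ∣ Nat.card ↥M / Nat.card ↥K) (hrG : r ∣ Nat.card G / Nat.card ↥M) :
    (∃ x : G, orderOf x = p * q) ∨ (∃ x : G, orderOf x = p * r) ∨ (∃ x : G, orderOf x = q * r) := by
  classical
  haveI := Fact.mk hp; haveI := Fact.mk hq; haveI := Fact.mk hr
  have hmul : ∀ A B : Subgroup G, A ≤ B → Nat.card B / Nat.card A = A.relIndex B := fun A B h => by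
    have h1 : Nat.card A * A.relIndex B = Nat.card B := by
      simpa [Subgroup.relIndex_bot_left] using Subgroup.relIndex_mul_relIndex ⊥ A B bot_le h
    rw [← h1, Nat.mul_div_cancel_left _ Nat.card_pos]
  obtain ⟨P₀⟩ : Nonempty (Sylow p K) := inferInstance
  set P := (P₀ : Subgroup K).map K.subtype with hP
  set N := Subgroup.normalizer (P : Set G) with hN
  have hfr : N ⊔ K = ⊤ := Sylow.normalizer_sup_eq_top P₀
  have hPp : IsPGroup p P := P₀.2.map _
  have hPne : P ≠ ⊥ := by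
    rw [hP, Ne, Subgroup.map_eq_bot_iff_of_injective _ K.subtype_injective]
    exact Sylow.ne_bot_of_dvd_card P₀ hpK
  -- `q` divides `|N ∩ M|`
  have hqNM : q ∣ Nat.card ↥(N ⊓ M) := by
    rw [hmul K M hKM] at hqM
    have h1 : M = (N ⊓ M) ⊔ K := by
      refine le_antisymm ?_ (sup_le inf_le_right hKM)
      intro x hx
      have : x ∈ N ⊔ K := hfr ▸ Subgroup.mem_top x
      rw [← SetLike.mem_coe, Subgroup.mul_normal] at this
      obtain ⟨n, hn, k, hk, rfl⟩ := this
      exact Subgroup.mul_mem_sup ⟨hn, by simpa using M.mul_mem hx (M.inv_mem (hKM hk))⟩ hk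
    rw [h1, Subgroup.relIndex_sup_right] at hqM
    exact hqM.trans (Subgroup.relIndex_dvd_card K (N ⊓ M))
  have hrN : r ∣ M.relIndex N := by
    have h1 : Nat.card G / Nat.card M = M.index := by
      rw [← M.card_mul_index, Nat.mul_div_cancel_left _ Nat.card_pos]
    rw [h1] at hrG
    have h2 : N ⊔ M = ⊤ := eq_top_iff.mpr (hfr ▸ sup_le_sup_left hKM N)
    rwa [← Subgroup.relIndex_top_right, ← h2, Subgroup.relIndex_sup_right] at hrG
  obtain ⟨Q₀⟩ : Nonempty (Sylow q ↥(M.subgroupOf N)) := inferInstance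
  set Q' := (Q₀ : Subgroup ↥(M.subgroupOf N)).map (M.subgroupOf N).subtype with hQ'
  set N2 := Subgroup.normalizer (Q' : Set N)
  have hfr2 : N2 ⊔ M.subgroupOf N = ⊤ := Sylow.normalizer_sup_eq_top Q₀
  have hqcard : q ∣ Nat.card ↥(M.subgroupOf N) := by
    have : Nat.card ↥(M.subgroupOf N) = Nat.card ↥(N ⊓ M) := by
      rw [← Subgroup.card_map_of_injective (K := M.subgroupOf N) N.subtype_injective, Subgroup.subgroupOf_map_subtype, inf_comm]
    rwa [this]
  have hr2 : r ∣ Nat.card N2 := by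
    have h3 : (M.subgroupOf N).relIndex N2 = (M.subgroupOf N).index := by
      rw [← Subgroup.relIndex_top_right, ← hfr2, Subgroup.relIndex_sup_right]
    exact (show r ∣ (M.subgroupOf N).index from hrN).trans (h3 ▸ Subgroup.relIndex_dvd_card _ _)
  obtain ⟨y, hy⟩ := exists_prime_orderOf_dvd_card' (G := N2) r hr2
  -- the subgroup `Ω₁(Z(P))`
  let c : Subgroup N := (Subgroup.centralizer (P : Set G)).subgroupOf N
  let V : Subgroup N :=
    { carrier := {x | (x : G) ∈ P ∧ (x : G) ∈ Subgroup.centralizer (P : Set G) ∧ x ^ p = 1}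
      one_mem' := ⟨one_mem _, one_mem _, one_pow _⟩
      mul_mem' := fun {a b} ha hb => ⟨P.mul_mem ha.1 hb.1, mul_mem ha.2.1 hb.2.1, by
        rw [Commute.mul_pow (Subtype.ext ((Subgroup.mem_centralizer_iff.mp hb.2.1 _ ha.1))), ha.2.2, hb.2.2, one_mul]⟩
      inv_mem' := fun {a} ha => ⟨P.inv_mem ha.1, inv_mem ha.2.1, by rw [inv_pow, ha.2.2, inv_one]⟩ }
  haveI : V.Normal := ⟨fun x hx g => by
    refine ⟨(Subgroup.mem_normalizer_iff.mp g.2 x).mp hx.1, Subgroup.mem_centralizer_iff.mpr fun a ha => ?_, by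
      rw [conj_pow, hx.2.2, mul_one, mul_inv_cancel]⟩
    have ha' : (g : G)⁻¹ * a * g ∈ P := by
      simpa using (Subgroup.mem_normalizer_iff.mp (N.inv_mem g.2) a).mp ha
    have h1 := Subgroup.mem_centralizer_iff.mp hx.2.1 _ ha'
    have h2 : (g : G) * ((g : G)⁻¹ * a * g * x) * (g : G)⁻¹ = (g : G) * (x * ((g : G)⁻¹ * a * g)) * (g : G)⁻¹ := by rw [h1]
    simpa [mul_assoc] using h2⟩
  have hV1 : V ≠ ⊥ := by
    haveI : Nontrivial P := (Subgroup.nontrivial_iff_ne_bot P).mpr hPne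
    haveI := hPp.center_nontrivial
    obtain ⟨z, hz⟩ := exists_prime_orderOf_dvd_card' (G := Subgroup.center P) p
      ((hPp.to_subgroup _).card_eq_or_dvd.resolve_left (Finite.one_lt_card (α := Subgroup.center P)).ne')
    have hzP : ((z : P) : G) ∈ N := Subgroup.le_normalizer (z : P).2
    have hmem : (⟨_, hzP⟩ : N) ∈ V := by
      refine ⟨(z : P).2, Subgroup.mem_centralizer_iff.mpr fun a ha => ?_, Subtype.ext ?_⟩
      · exact congrArg Subtype.val (Subgroup.mem_center_iff.mp z.2 ⟨a, ha⟩)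
      · exact congrArg (fun w : Subgroup.center P => ((w : P) : G)) (hz ▸ pow_orderOf_eq_one z)
    intro hb
    rw [hb, Subgroup.mem_bot] at hmem
    have h1 : ((z : P) : G) = 1 := congrArg Subtype.val hmem
    rw [show z = 1 from Subtype.ext (Subtype.ext h1), orderOf_one] at hz
    exact hp.ne_one hz.symm
  have hQ1 : Q' ≠ ⊥ := by
    rw [hQ', Ne, Subgroup.map_eq_bot_iff_of_injective _ (M.subgroupOf N).subtype_injective]
    exact Sylow.ne_bot_of_dvd_card Q₀ hqcard
  have res := CfsgLib.Recog.ThreePrimes.exists_pair V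
    (fun a b => Subtype.ext (Subtype.ext (Subgroup.mem_centralizer_iff.mp b.2.2.1 _ a.2.1))) hV1 hp hq hr hpq hpr hqr
    (fun v => Subtype.ext v.2.2.2) Q' (Q₀.2.map _) hQ1 (y : N) (by rw [Subgroup.orderOf_coe]; exact hy)
    (fun a ha => (Subgroup.mem_normalizer_iff.mp y.2 a).mp ha)
  rcases res with ⟨x, hx⟩ | ⟨x, hx⟩ | ⟨x, hx⟩
  · exact Or.inl ⟨x, by rw [Subgroup.orderOf_coe]; exact hx⟩
  · exact Or.inr (Or.inl ⟨x, by rw [Subgroup.orderOf_coe]; exact hx⟩)
  · exact Or.inr (Or.inr ⟨x, by rw [Subgroup.orderOf_coe]; exact hx⟩)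

end Cfsg.Agent.S3634
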