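import Cfsg.Statements.S3639
import Cfsg.Agent.Lib.Recog.SuzukiFix
import Cfsg.Agent.Lib.Recog.SemidirectSpectrum

set_option autoImplicit false
open Cfsg

namespace Cfsg.Agent.S3639

--- PRE
open CfsgLib.Recog Matrix

/-- the diagonal action of `GL₄(F)` on tuples of vectors -/
def actHom {F : Type*} [Field F] (ι : Type) :
    GL (Fin 4) F →* MulAut (Multiplicative (ι → Fin 4 → F)) where
  toFun g :=
    { toFun := fun w => Multiplicative.ofAdd
        fun i => (g : Matrix (Fin 4) (Fin 4) F) *ᵥ (Multiplicative.toAdd w i)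
      invFun := fun w => Multiplicative.ofAdd
        fun i => ((g⁻¹ : GL (Fin 4) F) : Matrix (Fin 4) (Fin 4) F) *ᵥ (Multiplicative.toAdd w i)
      left_inv := fun w => by
        simp only [toAdd_ofAdd, Matrix.mulVec_mulVec, ← Units.val_mul, inv_mul_cancel,
          Units.val_one, Matrix.one_mulVec]
        rfl
      right_inv := fun w => by
        simp only [toAdd_ofAdd, Matrix.mulVec_mulVec, ← Units.val_mul, mul_inv_cancel,
          Units.val_one, Matrix.one_mulVec]
        rfl
      map_mul' := fun w w' => by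
        simp only [toAdd_mul, Pi.add_apply, Matrix.mulVec_add]
        rfl }
  map_one' := by
    refine MulEquiv.ext fun w => ?_
    simp
  map_mul' g h := by
    refine MulEquiv.ext fun w => ?_
    simp [Matrix.mulVec_mulVec]

/-- Let S be the Suzuki group over the field with q = 2^(2m+1) ≥ 8 elements. Then there are finite groups of arbitrarily large order with the same prime graph as S. -/
theorem result {F : Type*} [Field F] [Fintype F] {m : ℕ} (hm : 1 ≤ m) (hF : Fintype.card F = 2 ^ (2 * m + 1)) (N : ℕ) :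
    ∃ (H : Type) (_ : Group H) (_ : Fintype H), N < Fintype.card H ∧ ((∀ r : ℕ, r.Prime → (r ∣ Nat.card ↥(Cfsg.Lie.Sz F (2 ^ (m + 1))) ↔ r ∣ Nat.card H)) ∧
      (∀ r s : ℕ, r.Prime → s.Prime → r ≠ s → ((∃ x : ↥(Cfsg.Lie.Sz F (2 ^ (m + 1))), orderOf x = r * s) ↔ (∃ y : H, orderOf y = r * s)))) := by
  haveI := Fact.mk Nat.prime_two
  haveI : CharP F 2 := charP_of_card_eq_prime_pow hF
  let S : Subgroup (GL (Fin 4) F) := Cfsg.Lie.Sz F (2 ^ (m + 1))
  let φ : F →+* F := iterateFrobenius F 2 (m + 1)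
  have hφ : ∀ x, φ x = x ^ (2 ^ (m + 1)) := fun x => iterateFrobenius_def 2 (m + 1) x
  -- an involution
  have hinv : 2 ∣ Nat.card S := by
    let J : Matrix (Fin 4) (Fin 4) F := !![0, 0, 0, 1; 0, 0, 1, 0; 0, 1, 0, 0; 1, 0, 0, 0]
    have hJ : J * J = 1 := by
      ext i j
      fin_cases i <;> fin_cases j <;> simp [J, Matrix.mul_apply, Fin.sum_univ_four]
    let u : GL (Fin 4) F := ⟨J, J, hJ, hJ⟩
    have hu : u ∈ S := by
      refine Subgroup.subset_closure ⟨?_, ?_⟩
      · intro x y
        simp [u, J, Cfsg.Lie.altForm4, Matrix.mulVec, dotProduct, Fin.sum_univ_four]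
        ring
      · ext p r
        fin_cases p <;> fin_cases r <;>
          simp [u, J, Cfsg.Lie.star4, Cfsg.Lie.pairOf, CharTwo.neg_eq]
    have hord : orderOf (⟨u, hu⟩ : S) = 2 := by
      refine orderOf_eq_prime (Subtype.ext (Units.ext (by rw [sq]; exact hJ))) fun h => ?_
      have h' := congrArg (fun x : S => ((x : GL (Fin 4) F) : Matrix (Fin 4) (Fin 4) F) 0 0) h
      simp [u, J] at h'
    rw [← hord]
    exact orderOf_dvd_natCard _
  -- the large group
  let act := (actHom (F := F) (Fin N)).comp S.subtype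
  have hcardV : Nat.card (Multiplicative (Fin N → Fin 4 → F)) = 2 ^ ((2 * m + 1) * (4 * N)) := by
    rw [Nat.card_congr Multiplicative.toAdd, Nat.card_fun, Nat.card_fun, Nat.card_fin,
      Nat.card_fin, Nat.card_eq_fintype_card, hF, ← pow_mul, ← pow_mul]
  haveI : Finite (Multiplicative (Fin N → Fin 4 → F) ⋊[act] S) :=
    Finite.of_equiv _ SemidirectProduct.equivProd.symm
  obtain ⟨K, i1, i2, ⟨ε⟩⟩ :=
    Spectrum.exists_small_copy (Multiplicative (Fin N → Fin 4 → F) ⋊[act] S)
  have hcard : Nat.card K = 2 ^ ((2 * m + 1) * (4 * N)) * Nat.card S := by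
    rw [Nat.card_congr ε.toEquiv, SemidirectProduct.card, hcardV]
  refine ⟨K, i1, i2, ?_, ?_, ?_⟩
  · rw [← Nat.card_eq_fintype_card, hcard]
    calc N < 2 ^ N := Nat.lt_two_pow_self
      _ ≤ 2 ^ ((2 * m + 1) * (4 * N)) := Nat.pow_le_pow_right (by norm_num) (by nlinarith)
      _ ≤ _ := Nat.le_mul_of_pos_right _ Nat.card_pos
  · intro r hr
    rw [hcard]
    refine ⟨fun h => h.mul_left _, fun h => ?_⟩
    rcases (Nat.Prime.dvd_mul hr).mp h with h' | h'
    · rw [(Nat.prime_dvd_prime_iff_eq hr Nat.prime_two).mp (hr.dvd_of_dvd_pow h')]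
      exact hinv
    · exact h'
  intro r s hr hs hrs
  constructor
  · rintro ⟨x, hx⟩
    refine ⟨ε.symm (SemidirectProduct.inr x), ?_⟩
    rw [ε.symm.orderOf_eq, orderOf_injective _ SemidirectProduct.inr_injective]
    exact hx
  rintro ⟨y0, hy0⟩
  set y := ε y0 with hydef
  have hy : orderOf y = r * s := by rw [hydef, ε.orderOf_eq, hy0]
  set x := y.right with hxdef
  set d := orderOf x with hddef
  have hpow : ∀ n : ℕ, (y ^ n).right = x ^ n := fun n => map_pow SemidirectProduct.rightHom y n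
  have hd1 : d ∣ r * s := by
    rw [← hy]; exact orderOf_map_dvd SemidirectProduct.rightHom y
  by_cases hd : d = r * s
  · exact ⟨x, hd⟩
  exfalso
  have hyd : y ^ d = SemidirectProduct.inl (y ^ d).left := by
    ext1
    · simp
    · rw [hpow, hddef, pow_orderOf_eq_one]; simp
  have hd2 : r * s ∣ d * 2 := by
    rw [← hy]
    refine orderOf_dvd_of_pow_eq_one ?_
    rw [pow_mul, hyd, ← map_pow]
    have : ∀ w : Multiplicative (Fin N → Fin 4 → F), w ^ 2 = 1 := fun w => by
      rw [sq]
      refine Multiplicative.toAdd.injective ?_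
      rw [toAdd_mul, toAdd_one]
      funext i j
      exact CharTwo.add_self_eq_zero _
    rw [this, map_one]
  obtain ⟨k, hk⟩ := hd1
  have hk2 : k = 2 := by
    have : k ∣ 2 := by
      refine Nat.dvd_of_mul_dvd_mul_left (orderOf_pos x) ?_
      rw [← hddef, ← hk]; exact hd2
    rcases (Nat.dvd_prime Nat.prime_two).mp this with h | h
    · rw [h, mul_one] at hk; exact absurd hk.symm hd
    · exact h
  subst hk2
  have hdodd : d.Prime ∧ d ≠ 2 := by
    have h2 : 2 ∣ r * s := ⟨d, by rw [hk]; ring⟩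
    rcases (Nat.Prime.dvd_mul Nat.prime_two).mp h2 with h | h
    · have h' := ((Nat.prime_dvd_prime_iff_eq Nat.prime_two hr).mp h).symm
      have : d = s := by rw [h'] at hk; linarith
      rw [this]
      exact ⟨hs, fun h'' => hrs (h'.trans h''.symm)⟩
    · have h' := ((Nat.prime_dvd_prime_iff_eq Nat.prime_two hs).mp h).symm
      have : d = r := by rw [h'] at hk; linarith
      rw [this]
      exact ⟨hr, fun h'' => hrs (h''.trans h'.symm)⟩
  have hne : (y ^ d).left ≠ 1 := by
    intro h
    have h1 : y ^ d = 1 := by rw [hyd, h, map_one]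
    have h2 := orderOf_dvd_of_pow_eq_one h1
    rw [hy, hk] at h2
    have h3 := Nat.le_of_dvd hdodd.1.pos h2
    have := hdodd.1.pos
    omega
  have hfix : act x (y ^ d).left = (y ^ d).left := by
    have hr1 : (y ^ d).right = 1 := by rw [hpow, hddef, pow_orderOf_eq_one]
    have h := congrArg SemidirectProduct.left (Commute.self_pow y d).eq
    rw [SemidirectProduct.mul_left, SemidirectProduct.mul_left, hr1, map_one,
      MulAut.one_apply, mul_comm (y ^ d).left] at h
    exact mul_left_cancel h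
  obtain ⟨i, hi⟩ : ∃ i, Multiplicative.toAdd (y ^ d).left i ≠ 0 := by
    by_contra h
    push Not at h
    exact hne (Multiplicative.toAdd.injective (funext h))
  have h4 : (x : GL (Fin 4) F) ^ 4 = 1 := by
    refine SuzukiFix.pow_four_of_fixed φ hφ x.2 hi ?_
    exact congrFun (congrArg Multiplicative.toAdd hfix) i
  have h5 : d ∣ 4 := orderOf_dvd_of_pow_eq_one (Subtype.ext (by simpa using h4))
  exact hdodd.2 ((Nat.prime_dvd_prime_iff_eq hdodd.1 Nat.prime_two).mp
    (hdodd.1.dvd_of_dvd_pow (show d ∣ 2 ^ 2 from h5)))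

end Cfsg.Agent.S3639
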