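import Cfsg.Statements.S3643
import Cfsg.Agent.Lib.CharDegree.GraphMTwelve.Reduction
import Cfsg.Agent.Lib.CharDegree.GraphMTwelve.Facts
import Cfsg.Agent.Lib.Sporadic.SporMathieu

set_option autoImplicit false
open Cfsg

namespace Cfsg.Agent.S3643

/-- Let G be a finite group of the same order as the Mathieu group M₁₂ whose character degree graph equals that of M₁₂ (same primes dividing some irreducible complex character degree, same pairs of distinct primes whose product divides some degree). Then G is isomorphic to M₁₂ or to the direct product of the alternating group of degree 4 with M₁₁. -/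
theorem result {G : Type*} [Group G] [Finite G] (hcard : Nat.card G = Nat.card ↥Cfsg.Spor.M12) (hΔ : Cfsg.degreePrimes G = Cfsg.degreePrimes ↥Cfsg.Spor.M12 ∧ Cfsg.degreeGraph G = Cfsg.degreeGraph ↥Cfsg.Spor.M12) :
    Nonempty (G ≃* ↥Cfsg.Spor.M12) ∨ Nonempty (G ≃* alternatingGroup (Fin 4) × ↥Cfsg.Spor.M11) := by
  have := CfsgLib.Sporadic.sporM12_isSimple
  haveI := Fintype.ofFinite ↥Cfsg.Spor.M12
  have hM : Nat.card ↥Cfsg.Spor.M12 = 95040 := CfsgLib.Sporadic.card_sporM12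
  obtain ⟨⟨χ5, h5⟩, χ3, h3⟩ := CfsgLib.CharDegree.GraphMTwelve.exists_linked_degrees hM
  have hlink : ∀ q : ℕ, q.Prime → q ≠ 11 → (∃ χ : IrrCharacter ↥Cfsg.Spor.M12, 11 * q ∣ charDegree (χ : ↥Cfsg.Spor.M12 → ℂ)) →
      ∃ χ : IrrCharacter G, 11 * q ∣ charDegree (χ : G → ℂ) := by
    rintro q hq hne ⟨χ, hχ⟩
    have hadj : (degreeGraph G).Adj 11 q := by
      rw [hΔ.2]
      exact ⟨fun e => hne e.symm, by norm_num, hq, _, ⟨χ, rfl⟩, hχ⟩
    obtain ⟨-, -, -, d, ⟨ψ, rfl⟩, hd⟩ := hadj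
    exact ⟨ψ, hd⟩
  have h11 : 11 ∈ degreePrimes G := by
    rw [hΔ.1]
    exact ⟨by norm_num, _, ⟨χ5, rfl⟩, (by norm_num : (11 : ℕ) ∣ 55).trans h5⟩
  exact CfsgLib.CharDegree.GraphMTwelve.structure_of_graph (hcard.trans hM) h11
    (hlink 5 (by norm_num) (by norm_num) ⟨χ5, h5⟩) (hlink 3 (by norm_num) (by norm_num) ⟨χ3, h3⟩)

end Cfsg.Agent.S3643
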