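import Cfsg.Statements.S3662
import Cfsg.Agent.Lib.Recog.GTwoFour
import Cfsg.Agent.Lib.Recog.SemidirectFix
import Cfsg.Agent.Lib.Recog.SemidirectSpectrum
import Cfsg.Agent.S1055
import Cfsg.Agent.S1059

set_option autoImplicit false
open Cfsg

namespace Cfsg.Agent.S3662

--- PRE
open CfsgLib.Recog Matrix SemidirectFix
open CfsgLib.Recog.GTwoFour (D idx x6 lieMat adEntry adSum root formJ wordMat)

theorem map_geom {F : Type*} [CommRing F] (f : UnitalFour.R4 →+* F) (M : Matrix (Fin 6) (Fin 6) UnitalFour.R4)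
    (v : Fin 6 → F) (hv : f.mapMatrix M *ᵥ v = v) (n : ℕ) :
    f.mapMatrix (GTwoFour.geom M n) *ᵥ v = (n : F) • v := by
  induction n with
  | zero => simp [GTwoFour.geom]
  | succ n ih =>
    rw [GTwoFour.geom, map_add, map_one, map_mul, Matrix.add_mulVec, Matrix.one_mulVec, ← Matrix.mulVec_mulVec, ih,
      Matrix.mulVec_smul, hv, Nat.cast_succ, add_smul, one_smul, add_comm]

theorem r4_inv : ∀ x : UnitalFour.R4, x = 0 ∨ ∃ y ∈ UnitalFour.elts4, x * y = 1 := by
  rintro ⟨a, b⟩; revert a b; decide +kernel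

theorem r4_mem : ∀ t : UnitalFour.R4, t ∈ UnitalFour.elts4 := by
  rintro ⟨a, b⟩; revert a b; decide +kernel

theorem geom_pow {R : Type*} (M : Matrix (Fin 6) (Fin 6) UnitalFour.R4) (n : ℕ) :
    M ^ n - 1 = (M - 1) * GTwoFour.geom M n := by
  induction n with
  | zero => simp [GTwoFour.geom]
  | succ n ih =>
    rw [GTwoFour.geom, pow_succ', mul_add, mul_one, ← mul_assoc,
      show (M - 1) * M = M * (M - 1) by rw [sub_mul, mul_sub, mul_one, one_mul], mul_assoc, ← ih, mul_sub, mul_one]
    abel

/-- The prime graph of a finite group has the prime divisors of its order as vertices, two distinct primes p, q being joined when the group has an element of order pq; two groups have the same prime graph when they have the same prime divisors and the same joined pairs. Let F be the field with 4 elements and L the Chevalley group of type G₂ over F. There are finite groups of arbitrarily large order with the same prime graph as L. -/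
theorem result {F : Type*} [Field F] [Fintype F] (hF : Fintype.card F = 4) (N : ℕ) :
    ∃ (H : Type) (_ : Group H) (_ : Finite H), N < Nat.card H ∧
      ((∀ p : ℕ, p.Prime → (p ∣ Nat.card ↥(Cfsg.Lie.chevG2.group F) ↔ p ∣ Nat.card H)) ∧
      (∀ p q : ℕ, p.Prime → q.Prime → p ≠ q → ((∃ g : ↥(Cfsg.Lie.chevG2.group F), orderOf g = p * q) ↔ (∃ g : H, orderOf g = p * q)))) := by
  classical
  haveI := Fact.mk Nat.prime_two
  haveI : CharP F 2 := charP_of_card_eq_prime_pow (f := 2) hF
  letI : Algebra (ZMod 2) F := ZMod.algebra F 2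
  -- a root of `X² = X + 1`
  obtain ⟨c, hc⟩ : ∃ c : F, c * c = c + 1 := by
    haveI : Fact (Nat.Prime 3) := ⟨by norm_num⟩
    obtain ⟨u, hu⟩ := exists_prime_orderOf_dvd_card' (G := Fˣ) 3 (by
      rw [Nat.card_eq_fintype_card, Fintype.card_units, hF])
    refine ⟨u, ?_⟩
    have h3 : (u : F) ^ 3 = 1 := by
      rw [← Units.val_pow_eq_pow_val, ← hu, pow_orderOf_eq_one, Units.val_one]
    have h1 : (u : F) - 1 ≠ 0 := sub_ne_zero.mpr fun h => by
      rw [Units.val_eq_one.mp h, orderOf_one] at hu; norm_num at hu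
    have hφ : (u : F) ^ 2 + u + 1 = 0 := by
      refine (mul_eq_zero.mp (?_ : ((u : F) - 1) * _ = 0)).resolve_left h1
      linear_combination h3
    linear_combination hφ - ((u : F) + 1) * (CharTwo.two_eq_zero (R := F))
  have hc' : c * c = (1 : ZMod 2) • (1 : F) + (1 : ZMod 2) • c := by
    rw [one_smul, one_smul, hc, add_comm]
  let f : UnitalFour.R4 →+* F := (QuadraticAlgebra.lift ⟨c, hc'⟩).toRingHom
  haveI : Finite UnitalFour.R4 := Finite.of_equiv _ (QuadraticAlgebra.equivProd _ _).symm
  have hfi : Function.Injective f := (injective_iff_map_eq_zero f).mpr fun x hx => by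
    rcases r4_inv x with h | ⟨y, -, hy⟩
    · exact h
    · have := congrArg f hy
      rw [map_mul, hx, zero_mul, map_one] at this
      exact absurd this zero_ne_one
  have hfs : Function.Surjective f := (hfi.bijective_of_nat_card_le (by
    rw [Nat.card_eq_fintype_card, hF, Nat.card_congr (QuadraticAlgebra.equivProd _ _), Nat.card_prod,
      Nat.card_zmod])).2
  have mem4 : ∀ t : UnitalFour.R4, t ∈ UnitalFour.elts4 := r4_mem
  have hsq : ∀ (r : Fin 12) (t : F), x6 r t * x6 r t = 1 := fun r t => by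
    obtain ⟨a, rfl⟩ := hfs t
    rw [← GTwoFour.x6_map, ← RingHom.mapMatrix_apply, ← map_mul,
      beq_iff_eq.mp (List.all_eq_true.mp (GTwoFour.x6_sq_check r) a (mem4 a)), map_one]
  have hform : ∀ (r : Fin 12) (t : F), (x6 r t).transpose * formJ * x6 r t = formJ := fun r t => by
    obtain ⟨a, rfl⟩ := hfs t
    have hJ : f.mapMatrix formJ = formJ := by
      ext i j; fin_cases i <;> fin_cases j <;> simp [GTwoFour.formJ]
    have h := congrArg f.mapMatrix (beq_iff_eq.mp (List.all_eq_true.mp (GTwoFour.form_check r) a (mem4 a)))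
    rw [map_mul, map_mul, hJ] at h
    simp only [RingHom.mapMatrix_apply, Matrix.transpose_map, GTwoFour.x6_map] at h
    exact h
  let G := Cfsg.Lie.chevG2.group F
  haveI : Finite (GL D.Idx F) := inferInstance
  let T : GL (Fin 6) F × GL D.Idx F → Prop := fun p =>
    (∀ k, (p.1 : Matrix (Fin 6) (Fin 6) F) * lieMat k =
      (∑ u, (p.2 : Matrix D.Idx D.Idx F) (idx u) (idx k) • lieMat u) * (p.1 : Matrix (Fin 6) (Fin 6) F)) ∧
    (p.1 : Matrix (Fin 6) (Fin 6) F).transpose * formJ * (p.1 : Matrix (Fin 6) (Fin 6) F) = formJ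
  let S : Set (GL (Fin 6) F × GL D.Idx F) := {p | ∃ (r : Fin 12) (t : F),
    (p.1 : Matrix (Fin 6) (Fin 6) F) = x6 r t ∧ (p.2 : Matrix D.Idx D.Idx F) = D.xMat F (root r) t}
  let K : Subgroup (GL (Fin 6) F × GL D.Idx F) := Subgroup.closure S
  have hadE : ∀ (r : Fin 12) (t : F) (u k : Fin 14), D.xMat F (root r) t (idx u) (idx k) = adEntry r t u k :=
    fun r t u k => by
      rw [GTwoFour.xMat_eq, GTwoFour.adEntry_eq]
      exact GTwoFour.evalTerms_congr t (List.all_eq_true.mp (List.all_eq_true.mp (GTwoFour.adEntry_check r)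
        u (List.mem_finRange u)) k (List.mem_finRange k))
  have hsum : ∀ (r : Fin 12) (t : F) (k : Fin 14),
      adSum r t k = ∑ u, adEntry r t u k • (lieMat u : Matrix (Fin 6) (Fin 6) F) := fun r t k => by
    simp only [GTwoFour.adSum, GTwoFour.adEntry]
    induction (GTwoFour.adCols.getD r.1 []).getD k.1 [] with
    | nil => simp
    | cons e l ih =>
      simp only [List.map_cons, List.sum_cons, add_smul, Finset.sum_add_distrib, ← ih]
      congr 1
      rw [Finset.sum_eq_single e.1 (fun u _ hu => by simp [(beq_eq_false_iff_ne).mpr hu.symm])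
        (fun h => absurd (Finset.mem_univ _) h)]
      simp
  have hT : ∀ p ∈ K, T p := by
    intro p hp
    haveI : Finite (GL (Fin 6) F × GL D.Idx F) := inferInstance
    have hp' : p ∈ Submonoid.closure S := by
      rw [← Subgroup.closure_toSubmonoid_of_finite]; exact hp
    refine Submonoid.closure_induction (motive := fun q _ => T q) ?_ ?_ ?_ hp'
    · rintro q ⟨r, t, h1, h2⟩
      refine ⟨fun k => ?_, by rw [h1]; exact hform r t⟩
      rw [h1, h2, GTwoFour.cov r t k, hsum]
      simp only [hadE]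
    · refine ⟨fun k => ?_, by simp⟩
      simp only [Prod.fst_one, Prod.snd_one, Units.val_one, one_mul, mul_one]
      rw [Finset.sum_eq_single k (fun u _ hu => by
        rw [Matrix.one_apply_ne (fun h => hu (GTwoFour.idx_bijective.1 h)), zero_smul])
        (fun h => absurd (Finset.mem_univ _) h), Matrix.one_apply_eq, one_smul]
    · rintro a b _ _ ⟨ha1, ha2⟩ ⟨hb1, hb2⟩
      refine ⟨fun k => ?_, ?_⟩
      · rw [Prod.fst_mul, Prod.snd_mul, Units.val_mul, Units.val_mul, mul_assoc, hb1, ← mul_assoc,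
          Finset.mul_sum]
        simp only [mul_smul_comm, ha1]
        rw [show (∑ u, (b.2 : Matrix D.Idx D.Idx F) (idx u) (idx k) •
            ((∑ v, (a.2 : Matrix D.Idx D.Idx F) (idx v) (idx u) • lieMat v) * (a.1 : Matrix (Fin 6) (Fin 6) F))) =
          (∑ v, ((a.2 : Matrix D.Idx D.Idx F) * (b.2 : Matrix D.Idx D.Idx F)) (idx v) (idx k) • lieMat v) *
            (a.1 : Matrix (Fin 6) (Fin 6) F) by
          simp only [← smul_mul_assoc, ← Finset.sum_mul, Finset.smul_sum, smul_smul]
          congr 1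
          rw [Finset.sum_comm]
          refine Finset.sum_congr rfl fun v _ => ?_
          rw [← Finset.sum_smul, Matrix.mul_apply,
            ← (Equiv.ofBijective _ GTwoFour.idx_bijective).sum_comp]
          exact congrArg (· • _) (Finset.sum_congr rfl fun u _ => mul_comm _ _), mul_assoc]
      · rw [Prod.fst_mul, Units.val_mul]
        calc _ = (b.1 : Matrix (Fin 6) (Fin 6) F).transpose * ((a.1 : Matrix (Fin 6) (Fin 6) F).transpose * formJ *
              (a.1 : Matrix (Fin 6) (Fin 6) F)) * (b.1 : Matrix (Fin 6) (Fin 6) F) := by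
              simp only [Matrix.transpose_mul, mul_assoc]
          _ = formJ := by rw [ha2]; exact hb2
  -- only the identity lies over the identity
  have hker : ∀ p ∈ K, p.2 = 1 → p.1 = 1 := by
    intro p hp h2
    obtain ⟨h1, hJ⟩ := hT p hp
    set A := (p.1 : Matrix (Fin 6) (Fin 6) F)
    have hcom : ∀ k, A * lieMat k = lieMat k * A := fun k => by
      rw [h1 k, Finset.sum_eq_single k (fun u _ hu => by
        rw [h2, Units.val_one, Matrix.one_apply_ne (fun h => hu (GTwoFour.idx_bijective.1 h)), zero_smul])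
        (fun h => absurd (Finset.mem_univ _) h), h2, Units.val_one, Matrix.one_apply_eq, one_smul]
    let z : ZMod 2 →+* F := ZMod.castHom dvd_rfl F
    have hz : ∀ k, z.mapMatrix (lieMat k) = lieMat k := fun k => by
      ext i j
      simp only [RingHom.mapMatrix_apply, Matrix.map_apply, GTwoFour.lieMat]
      cases GTwoFour.lieBit k i j == 1 <;> simp
    have hE : ∀ i j : Fin 6, A * Matrix.single i j 1 = Matrix.single i j 1 * A := fun i j => by
      have hu := congrArg z.mapMatrix (GTwoFour.unit_check i j)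
      rw [map_list_prod, List.map_map,
        show z.mapMatrix (Matrix.single i j 1) = Matrix.single i j (1 : F) by simp [Matrix.map_single]] at hu
      rw [← hu]
      refine Commute.list_prod_right _ _ fun x hx => ?_
      simp only [List.mem_map, Function.comp_apply] at hx
      obtain ⟨k, -, rfl⟩ := hx
      rw [hz]
      exact hcom k
    have hscal : A = A 0 0 • 1 := by
      ext i j
      have h := congrFun (congrFun (hE j 0) i) 0
      rw [Matrix.mul_single_apply_same, mul_one] at h
      rw [h, Matrix.smul_apply, smul_eq_mul]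
      by_cases hij : i = j
      · subst hij
        simp
      · simp [hij, Ne.symm hij]
    have hlam : A 0 0 = 1 := by
      have h05 := congrFun (congrFun hJ 0) 5
      rw [hscal] at h05
      simp [Matrix.transpose_smul, GTwoFour.formJ, smul_smul] at h05
      rcases mul_self_eq_one_iff.mp h05 with h | h
      · exact h
      · rwa [CharTwo.neg_eq] at h
    refine Units.ext ?_
    rw [Units.val_one]
    show A = 1
    rw [hscal, hlam, one_smul]
  let π : K →* G := ((MonoidHom.snd _ _).comp K.subtype).codRestrict G (fun p => by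
    have hle : K ≤ (Cfsg.Lie.chevG2.group F).comap (MonoidHom.snd (GL (Fin 6) F) (GL D.Idx F)) := by
      rw [Subgroup.closure_le]
      rintro q ⟨r, t, -, h2⟩
      exact Subgroup.subset_closure ⟨root r, t, h2⟩
    exact hle p.2)
  have hπb : Function.Bijective π := by
    refine ⟨(injective_iff_map_eq_one π).mpr fun p hp => ?_, fun g => ?_⟩
    · have h2 : (p.1).2 = 1 := congrArg Subtype.val hp
      exact Subtype.ext (Prod.ext (hker _ p.2 h2) h2)
    · have hle : Cfsg.Lie.chevG2.group F ≤ K.map (MonoidHom.snd (GL (Fin 6) F) (GL D.Idx F)) := by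
        refine (Subgroup.closure_le _).mpr ?_
        rintro b ⟨r, t, hb⟩
        let r' : Fin 12 := ⟨r.1, r.2⟩
        have hr : root r' = r := rfl
        exact ⟨(⟨x6 r' t, x6 r' t, hsq r' t, hsq r' t⟩, b), Subgroup.subset_closure ⟨r', t, rfl, hr ▸ hb⟩, rfl⟩
      obtain ⟨p, hp, hpg⟩ := hle g.2
      exact ⟨⟨p, hp⟩, Subtype.ext hpg⟩
  let e : K ≃* G := MulEquiv.ofBijective π hπb
  let ρ : G →* GL (Fin 6) F := ((MonoidHom.fst _ _).comp K.subtype).comp e.symm.toMonoidHom
  have hρx : ∀ w : List (Fin 12 × UnitalFour.R4), ∃ g : G,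
      (ρ g : Matrix (Fin 6) (Fin 6) F) = f.mapMatrix (wordMat w) := fun w => by
    induction w with
    | nil => exact ⟨1, by rw [map_one, Units.val_one]; simp [GTwoFour.wordMat]⟩
    | cons a w ih =>
      obtain ⟨g, hg⟩ := ih
      let b : GL D.Idx F := CfsgLib.Lie.Chev.xGL CfsgLib.Lie.Chev.certG2 F a.1.1 (f a.2)
      have hb : (b : Matrix D.Idx D.Idx F) = D.xMat F (root a.1) (f a.2) := dif_pos a.1.2
      let p : K := ⟨(⟨x6 a.1 (f a.2), x6 a.1 (f a.2), hsq _ _, hsq _ _⟩, b),
        Subgroup.subset_closure ⟨a.1, f a.2, rfl, hb⟩⟩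
      refine ⟨e p * g, ?_⟩
      rw [map_mul, Units.val_mul, hg]
      show ((e.symm (e p) : K).1.1 : Matrix (Fin 6) (Fin 6) F) * _ = _
      rw [e.symm_apply_apply]
      simp [p, GTwoFour.wordMat, GTwoFour.x6_map]
  -- simplicity and order
  obtain ⟨hsimple, -⟩ := Cfsg.Agent.S1055.result (F := F) ⟨c, fun h => by simp [h] at hc, fun h => by
    rw [h, one_mul, CharTwo.add_self_eq_zero] at hc; exact one_ne_zero hc⟩
  have hcardG : Nat.card G = 251596800 := by
    rw [Cfsg.Agent.S1059.result hF]; norm_num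
  obtain ⟨g6, hg6⟩ := hρx GTwoFour.word6
  obtain ⟨g10, hg10⟩ := hρx GTwoFour.word10
  obtain ⟨g7, hg7⟩ := hρx GTwoFour.word7
  obtain ⟨g13, hg13⟩ := hρx GTwoFour.word13
  have hρi : Function.Injective ρ := by
    rcases IsSimpleGroup.eq_bot_or_eq_top_of_normal ρ.ker ρ.normal_ker with h | h
    · exact (MonoidHom.ker_eq_bot_iff ρ).mp h
    · exfalso
      have h1 : ρ g7 = 1 := MonoidHom.mem_ker.mp (h ▸ Subgroup.mem_top g7)
      rw [h1, Units.val_one, ← map_one f.mapMatrix] at hg7
      exact GTwoFour.word7_check.2 (Matrix.map_injective hfi hg7).symm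
  have hord : ∀ (g : G) (M : Matrix (Fin 6) (Fin 6) UnitalFour.R4),
      (ρ g : Matrix (Fin 6) (Fin 6) F) = f.mapMatrix M → orderOf g = orderOf M := fun g M h => by
    rw [← orderOf_injective ρ hρi, ← orderOf_units, h,
      ← orderOf_injective f.mapMatrix.toMonoidHom (Matrix.map_injective hfi) M]
    rfl
  have hpow1 : ∀ (M : Matrix (Fin 6) (Fin 6) UnitalFour.R4) (n : ℕ), GTwoFour.geom M n = 0 → M ^ n = 1 :=
    fun M n h => sub_eq_zero.mp (by rw [geom_pow (R := ℕ) M n, h, mul_zero])
  haveI h7p : Fact (Nat.Prime 7) := ⟨by norm_num⟩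
  haveI h13p : Fact (Nat.Prime 13) := ⟨by norm_num⟩
  have ho7 : orderOf g7 = 7 := by
    rw [hord _ _ hg7]; exact orderOf_eq_prime (hpow1 _ _ GTwoFour.word7_check.1) GTwoFour.word7_check.2
  have ho13 : orderOf g13 = 13 := by
    rw [hord _ _ hg13]; exact orderOf_eq_prime (hpow1 _ _ GTwoFour.word13_check.1) GTwoFour.word13_check.2
  have mk_ord : ∀ {M : Matrix (Fin 6) (Fin 6) UnitalFour.R4} (n : ℕ), M ^ (n + 1) = 1 →
      (∀ m : Fin n, M ^ (m.1 + 1) ≠ 1) → orderOf M = n + 1 := fun {M} n h h' => by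
    rw [orderOf_eq_iff (Nat.succ_pos n)]
    refine ⟨h, fun m hm hm0 => ?_⟩
    obtain ⟨i, rfl⟩ := Nat.exists_eq_add_one.mpr hm0
    exact h' ⟨i, by omega⟩
  have ho6 : orderOf g6 = 6 := by
    rw [hord _ _ hg6]; exact mk_ord 5 GTwoFour.word6_check.1 GTwoFour.word6_check.2
  have ho10 : orderOf g10 = 10 := by
    rw [hord _ _ hg10]; exact mk_ord 9 GTwoFour.word10_check.1 GTwoFour.word10_check.2
  -- the action
  let A : G →* MulAut (Multiplicative (Fin (N + 1) → Fin 6 → F)) :=
    { toFun := fun g =>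
        { toFun := fun w => Multiplicative.ofAdd
            fun i => (ρ g : Matrix (Fin 6) (Fin 6) F) *ᵥ (Multiplicative.toAdd w i)
          invFun := fun w => Multiplicative.ofAdd
            fun i => ((ρ g)⁻¹ : GL (Fin 6) F).1 *ᵥ (Multiplicative.toAdd w i)
          left_inv := fun w => by
            simp only [toAdd_ofAdd, Matrix.mulVec_mulVec, ← Units.val_mul, inv_mul_cancel, Units.val_one,
              Matrix.one_mulVec]
            rfl
          right_inv := fun w => by
            simp only [toAdd_ofAdd, Matrix.mulVec_mulVec, ← Units.val_mul, mul_inv_cancel, Units.val_one,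
              Matrix.one_mulVec]
            rfl
          map_mul' := fun w w' => by
            simp only [toAdd_mul, Pi.add_apply, Matrix.mulVec_add]
            rfl }
      map_one' := MulEquiv.ext fun w => by simp
      map_mul' := fun g h => MulEquiv.ext fun w => by simp [Matrix.mulVec_mulVec] }
  have hfix : ∀ (q : ℕ) (x : G) (M : Matrix (Fin 6) (Fin 6) UnitalFour.R4), q.Prime → q ≠ 2 →
      orderOf x = q → (ρ x : Matrix (Fin 6) (Fin 6) F) = f.mapMatrix M → GTwoFour.geom M q = 0 →
      (Nat.card G).factorization q = 1 →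
      ∀ y : G, orderOf y = q → ∀ d, A y d = d → d = 1 := by
    intro q x M hq hq2 hx hM hgeom hfac y hy d hd
    haveI := Fact.mk hq
    let P : Sylow q G := Sylow.ofCard (Subgroup.zpowers y) (by rw [Nat.card_zpowers, hy, hfac, pow_one])
    let Q : Sylow q G := Sylow.ofCard (Subgroup.zpowers x) (by rw [Nat.card_zpowers, hx, hfac, pow_one])
    obtain ⟨g, hg⟩ := MulAction.exists_smul_eq G P Q
    have hxmem : x ∈ ((g • P : Sylow q G) : Subgroup G) := by
      rw [hg]; exact Subgroup.mem_zpowers x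
    rw [Sylow.coe_subgroup_smul, Subgroup.mem_pointwise_smul_iff_inv_smul_mem] at hxmem
    have hx' : g⁻¹ * x * g ∈ Subgroup.zpowers y := by
      simpa [P, Sylow.coe_ofCard, MulAut.conj_apply] using hxmem
    obtain ⟨j, hj⟩ := (mem_powers_iff_mem_zpowers.mpr hx')
    have hyj : ∀ k : ℕ, A (y ^ k) d = d := fun k => by
      induction k with
      | zero => simp
      | succ k ih => rw [pow_succ, map_mul, MulAut.mul_apply, hd, ih]
    have hxd : A x (A g d) = A g d := by
      rw [← MulAut.mul_apply, ← map_mul, show x * g = g * y ^ j by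
        simp only at hj; rw [hj]; group, map_mul, MulAut.mul_apply, hyj]
    have hgd : A g d = 1 := by
      refine Multiplicative.toAdd.injective (funext fun l => ?_)
      have hv : f.mapMatrix M *ᵥ Multiplicative.toAdd (A g d) l = Multiplicative.toAdd (A g d) l := by
        rw [← hM]; exact congrFun (congrArg Multiplicative.toAdd hxd) l
      have h0 := map_geom f M _ hv q
      rw [hgeom, map_zero, Matrix.zero_mulVec] at h0
      refine (smul_eq_zero.mp h0.symm).resolve_left fun h => hq2 ?_
      exact (Nat.prime_dvd_prime_iff_eq Nat.prime_two hq).mp ((CharP.cast_eq_zero_iff F 2 q).mp h) |>.symm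
    exact (A g).injective (hgd.trans (map_one _).symm)
  haveI : Finite (Multiplicative (Fin (N + 1) → Fin 6 → F) ⋊[A] G) :=
    Finite.of_equiv _ SemidirectProduct.equivProd.symm
  obtain ⟨H, i1, i2, ⟨ε⟩⟩ := Spectrum.exists_small_copy (Multiplicative (Fin (N + 1) → Fin 6 → F) ⋊[A] G)
  have hexp : ∀ w : Multiplicative (Fin (N + 1) → Fin 6 → F), w ^ 2 = 1 := fun w => by
    rw [sq]
    refine Multiplicative.toAdd.injective ?_
    rw [toAdd_mul, toAdd_one]
    funext i j
    exact CharTwo.add_self_eq_zero _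
  have hcardH : Nat.card H = 2 ^ (2 * (6 * (N + 1))) * 251596800 := by
    rw [Nat.card_congr ε.toEquiv, SemidirectProduct.card, hcardG, Nat.card_congr Multiplicative.toAdd,
      Nat.card_fun, Nat.card_fun, Nat.card_fin, Nat.card_fin, Nat.card_eq_fintype_card, hF,
      show (4 : ℕ) = 2 ^ 2 by norm_num, ← pow_mul, ← pow_mul]
  refine ⟨H, i1, inferInstance, ?_, ?_, ?_⟩
  · rw [hcardH]
    calc N < 2 ^ N := Nat.lt_two_pow_self
      _ ≤ 2 ^ (2 * (6 * (N + 1))) := Nat.pow_le_pow_right two_pos (by omega)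
      _ ≤ _ := Nat.le_mul_of_pos_right _ (by norm_num)
  · intro r hr
    rw [show Nat.card ↥(Cfsg.Lie.chevG2.group F) = 251596800 from hcardG, hcardH]
    refine ⟨fun h => h.mul_left _, fun h => ?_⟩
    rcases (Nat.Prime.dvd_mul hr).mp h with h' | h'
    · rw [(Nat.prime_dvd_prime_iff_eq hr Nat.prime_two).mp (hr.dvd_of_dvd_pow h')]; norm_num
    · exact h'
  intro r s hr hs hrs
  constructor
  · rintro ⟨g, hg⟩
    refine ⟨ε.symm (SemidirectProduct.inr g), ?_⟩
    rw [ε.symm.orderOf_eq, orderOf_injective _ SemidirectProduct.inr_injective, hg]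
  rintro ⟨z0, hz0⟩
  set z := ε z0 with hzdef
  have hz : orderOf z = r * s := by rw [hzdef, ε.orderOf_eq, hz0]
  obtain ⟨k, hk⟩ : orderOf z.right ∣ r * s := hz ▸ orderOf_map_dvd SemidirectProduct.rightHom z
  by_cases hd : orderOf z.right = r * s
  · exact ⟨_, hd⟩
  have hk2 : k = 2 := by
    have h1 : r * s ∣ orderOf z.right * 2 :=
      hz ▸ orderOf_dvd_of_pow_eq_one (pow_mul_eq_one z hexp (pow_orderOf_eq_one _))
    rw [hk] at h1
    rcases (Nat.dvd_prime Nat.prime_two).mp (Nat.dvd_of_mul_dvd_mul_left (orderOf_pos _) h1) with h | h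
    · rw [h, mul_one] at hk; exact absurd hk.symm hd
    · exact h
  subst hk2
  obtain ⟨t, ht, ht2, hts, htd⟩ : ∃ t, t.Prime ∧ t ≠ 2 ∧ r * s = 2 * t ∧ orderOf z.right = t := by
    rcases (Nat.Prime.dvd_mul Nat.prime_two).mp (hk ▸ dvd_mul_left 2 _ : 2 ∣ r * s) with h | h
    · have := (Nat.prime_dvd_prime_iff_eq Nat.prime_two hr).mp h
      subst this
      exact ⟨s, hs, hrs.symm, rfl, by linarith⟩
    · have := (Nat.prime_dvd_prime_iff_eq Nat.prime_two hs).mp h
      subst this
      exact ⟨r, hr, hrs, mul_comm _ _, by linarith⟩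
  have ht62 : t ∣ 2 ^ 12 * 3 ^ 3 * 5 ^ 2 * 7 * 13 := by
    rw [show (2 : ℕ) ^ 12 * 3 ^ 3 * 5 ^ 2 * 7 * 13 = 251596800 by norm_num, ← hcardG, ← htd]
    exact orderOf_dvd_natCard _
  have hcases : t = 3 ∨ t = 5 ∨ t = 7 ∨ t = 13 := by
    have h3 : ∀ {p : ℕ}, p.Prime → t ∣ p → t = p := fun hp h => (Nat.prime_dvd_prime_iff_eq ht hp).mp h
    rcases (Nat.Prime.dvd_mul ht).mp ht62 with h | h
    · rcases (Nat.Prime.dvd_mul ht).mp h with h | h
      · rcases (Nat.Prime.dvd_mul ht).mp h with h | h
        · rcases (Nat.Prime.dvd_mul ht).mp h with h | h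
          · exact absurd (h3 Nat.prime_two (ht.dvd_of_dvd_pow h)) ht2
          · exact Or.inl (h3 Nat.prime_three (ht.dvd_of_dvd_pow h))
        · exact Or.inr (Or.inl (h3 Nat.prime_five (ht.dvd_of_dvd_pow h)))
      · exact Or.inr (Or.inr (Or.inl (h3 h7p.out h)))
    · exact Or.inr (Or.inr (Or.inr (h3 h13p.out h)))
  have hfac : ∀ q m : ℕ, q.Prime → 251596800 = q * m → ¬ q ∣ m → (Nat.card G).factorization q = 1 :=
    fun q m hq he hm => by
      rw [hcardG, he, Nat.factorization_mul hq.ne_zero (fun h => by simp [h] at he), Finsupp.add_apply,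
        hq.factorization_self, Nat.factorization_eq_zero_of_not_dvd hm]
  rcases hcases with rfl | rfl | rfl | rfl
  · exact ⟨g6, by rw [ho6, hts]⟩
  · exact ⟨g10, by rw [ho10, hts]⟩
  · exfalso
    have h1 := orderOf_eq_of_fixed z (hfix 7 g7 _ h7p.out (by norm_num) ho7 hg7 GTwoFour.word7_check.1
      (hfac 7 35942400 h7p.out (by norm_num) (by norm_num)) _ htd)
    rw [hz, htd, hts] at h1
    omega
  · exfalso
    have h1 := orderOf_eq_of_fixed z (hfix 13 g13 _ h13p.out (by norm_num) ho13 hg13 GTwoFour.word13_check.1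
      (hfac 13 19353600 h13p.out (by norm_num) (by norm_num)) _ htd)
    rw [hz, htd, hts] at h1
    omega

end Cfsg.Agent.S3662
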