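import Cfsg.Statements.S3663
import Cfsg.Agent.Lib.Recog.UnitalFour
import Cfsg.Agent.Lib.Recog.SemidirectFix
import Cfsg.Agent.Lib.Recog.SemidirectSpectrum
import Cfsg.Agent.Lib.Classical.Unitary.Two

set_option autoImplicit false
set_option maxRecDepth 4000
set_option maxHeartbeats 2000000
open Cfsg

namespace Cfsg.Agent.S3663

--- PRE
open CfsgLib.Recog Matrix SemidirectFix
open CfsgLib.Recog.UnitalFour (R4 R16 pt pole block witness permX scalX matX)

theorem foldl_sum {α M : Type*} [AddCommMonoid M] (g : α → M) (l : List α) (a : M) :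
    l.foldl (fun s x => s + g x) a = a + (l.map g).sum := by
  induction l generalizing a with
  | nil => simp
  | cons x l ih => simp [ih, add_assoc]

theorem foldl_bif_sum {α M : Type*} [AddCommMonoid M] (p : α → Bool) (g : α → M) (l : List α) :
    l.foldl (fun s x => bif p x then s + g x else s) 0 = (l.map fun x => bif p x then g x else 0).sum := by
  rw [show (fun (s : M) x => bif p x then s + g x else s) = fun s x => s + bif p x then g x else 0 by
    funext s x; cases p x <;> simp, foldl_sum, zero_add]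

section

variable {F : Type*} [Field F]

/-- incidence with the polar line of `u` -/
def InV (f : R16 →+* F) (w : Fin 65 → ZMod 5) : Prop :=
  ∀ u : Fin 3 → F, Cfsg.hermForm 3 F 4 u u ≠ 0 → ∀ S : Finset (Fin 65),
    (∀ i, i ∈ S ↔ Cfsg.hermForm 3 F 4 (f ∘ pt i) u = 0) → ∑ i ∈ S, w i = 0

theorem hermForm_map (f : R16 →+* F) (a b : Fin 3 → R16) :
    Cfsg.hermForm 3 F 4 (f ∘ a) (f ∘ b) = f (UnitalFour.herm a b) := by
  simp only [Cfsg.hermForm, Fin.sum_univ_three, UnitalFour.herm, UnitalFour.conj16, Function.comp_apply,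
    map_add, map_mul]
  ring

theorem hermForm_smul_right (c : F) (a b : Fin 3 → F) :
    Cfsg.hermForm 3 F 4 a (c • b) = c ^ 4 * Cfsg.hermForm 3 F 4 a b := by
  simp only [Cfsg.hermForm, Fin.sum_univ_three, Pi.smul_apply, smul_eq_mul]
  ring

theorem hermForm_smul_left (c : F) (a b : Fin 3 → F) :
    Cfsg.hermForm 3 F 4 (c • a) b = c * Cfsg.hermForm 3 F 4 a b := by
  simp only [Cfsg.hermForm, Fin.sum_univ_three, Pi.smul_apply, smul_eq_mul]
  ring

theorem matX_facts : matX.det = 1 ∧ matX.transpose * matX.map UnitalFour.conj16 = 1 ∧ matX ^ 13 = 1 ∧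
    ∀ m : Fin 12, matX ^ (m.1 + 1) ≠ 1 := by
  refine ⟨?_, ?_, ?_, ?_⟩ <;> decide +kernel

theorem mat10_facts : UnitalFour.mat10.det = 1 ∧
    UnitalFour.mat10.transpose * UnitalFour.mat10.map UnitalFour.conj16 = 1 ∧ UnitalFour.mat10 ^ 10 = 1 ∧
    ∀ m : Fin 9, UnitalFour.mat10 ^ (m.1 + 1) ≠ 1 := by
  refine ⟨?_, ?_, ?_, ?_⟩ <;> decide +kernel

theorem mat15_facts : UnitalFour.mat15.det = 1 ∧
    UnitalFour.mat15.transpose * UnitalFour.mat15.map UnitalFour.conj16 = 1 ∧ UnitalFour.mat15 ^ 15 = 1 ∧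
    ∀ m : Fin 14, UnitalFour.mat15 ^ (m.1 + 1) ≠ 1 := by
  refine ⟨?_, ?_, ?_, ?_⟩ <;> decide +kernel

theorem orderOf_of_facts {M : Type*} [Monoid M] {a : M} (n : ℕ) (h : a ^ (n + 1) = 1)
    (h' : ∀ m : Fin n, a ^ (m.1 + 1) ≠ 1) : orderOf a = n + 1 := by
  rw [orderOf_eq_iff (Nat.succ_pos n)]
  refine ⟨h, fun m hm hm0 => ?_⟩
  obtain ⟨i, rfl⟩ := Nat.exists_eq_add_one.mpr hm0
  exact h' ⟨i, by omega⟩

theorem permX_pow : permX^[13] 0 = 0 := by decide +kernel

theorem witness_nonconst : witness 0 ≠ witness 1 ∨ witness 0 ≠ witness 2 := by decide +kernel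

theorem filter_sum_eq {n : ℕ} {M : Type*} [AddCommMonoid M] (p : Fin n → Bool) (g : Fin n → M) :
    ∑ i ∈ Finset.univ.filter (fun i => p i = true), g i =
      ((List.finRange n).map fun i => bif p i then g i else 0).sum := by
  rw [Finset.sum_filter, Fin.sum_univ_def]
  refine congrArg List.sum (List.map_congr_left fun i _ => ?_)
  cases p i <;> simp

theorem sum_indicator {n : ℕ} {M : Type*} [NonAssocSemiring M] (L : List (Fin n)) (w : Fin n → M) :
    ∑ i, w i * (bif L.elem i then 1 else 0) = ∑ i ∈ L.toFinset, w i := by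
  rw [show L.toFinset = Finset.univ.filter (fun i => L.elem i = true) by ext i; simp, Finset.sum_filter]
  refine Finset.sum_congr rfl fun i _ => ?_
  cases L.elem i <;> simp

theorem pole_ne : ((List.finRange 208).all fun k => !(UnitalFour.herm (pole k) (pole k) == 0)) = true := by
  decide +kernel

end

/-- The prime graph of a finite group has the prime divisors of its order as vertices, two distinct primes p, q being joined when the group has an element of order pq; two groups have the same prime graph when they have the same prime divisors and the same joined pairs. Let F be the field with 16 elements and L = PSU(3,4) realised over F. There are finite groups of arbitrarily large order with the same prime graph as L. -/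
theorem result {F : Type*} [Field F] [Fintype F] (hF : Fintype.card F = 16) (N : ℕ) :
    ∃ (H : Type) (_ : Group H) (_ : Finite H), N < Nat.card H ∧
      ((∀ p : ℕ, p.Prime → (p ∣ Nat.card (Cfsg.PSU 3 F 4) ↔ p ∣ Nat.card H)) ∧
      (∀ p q : ℕ, p.Prime → q.Prime → p ≠ q → ((∃ g : (Cfsg.PSU 3 F 4), orderOf g = p * q) ↔ (∃ g : H, orderOf g = p * q)))) := by
  classical
  haveI := Fact.mk Nat.prime_two
  haveI : Fact (Nat.Prime 5) := ⟨by norm_num⟩
  haveI : CharP F 2 := charP_of_card_eq_prime_pow (f := 4) hF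
  letI : Algebra (ZMod 2) F := ZMod.algebra F 2
  have h2 : (2 : F) = 0 := CharTwo.two_eq_zero
  -- the model field
  obtain ⟨g5, hg5, hg5'⟩ : ∃ g : F, g ^ 5 = 1 ∧ g ≠ 1 := by
    haveI : Fact (Nat.Prime 5) := ⟨by norm_num⟩
    obtain ⟨u, hu⟩ := exists_prime_orderOf_dvd_card' (G := Fˣ) 5 (by
      rw [Nat.card_eq_fintype_card, Fintype.card_units, hF]; norm_num)
    refine ⟨u, ?_, fun h => ?_⟩
    · rw [← Units.val_pow_eq_pow_val, ← hu, pow_orderOf_eq_one, Units.val_one]
    · rw [Units.val_eq_one.mp h, orderOf_one] at hu; norm_num at hu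
  have hphi : g5 ^ 4 + g5 ^ 3 + g5 ^ 2 + g5 + 1 = 0 := by
    refine (mul_eq_zero.mp (?_ : (g5 - 1) * _ = 0)).resolve_left (sub_ne_zero.mpr hg5')
    linear_combination hg5
  set s : F := g5 + g5 ^ 4 with hs
  have hs2 : s * s = s + 1 := by
    rw [hs]; linear_combination (2 + g5 ^ 3) * hg5 + hphi + (-g5 - g5 ^ 4) * h2
  have hd2 : (g5 * (s * s)) * (g5 * (s * s)) = s + g5 * (s * s) := by
    rw [show g5 * (s * s) = g5 * s + g5 by rw [hs2]; ring]
    linear_combination g5 ^ 2 * hs2 + hphi + (g5 + 1) * hg5 + (g5 ^ 2 + g5 + 1) * hs +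
      (g5 ^ 2 * s + g5 ^ 2 - s - g5 * s - g5 + g5) * h2
  have hs' : s * s = (1 : ZMod 2) • (1 : F) + (1 : ZMod 2) • s := by
    rw [one_smul, one_smul, hs2, add_comm]
  set f4 : R4 →ₐ[ZMod 2] F := QuadraticAlgebra.lift ⟨s, hs'⟩ with hf4
  have hfs : f4 ⟨0, 1⟩ = s := by
    rw [hf4]; simp [QuadraticAlgebra.lift]
  letI : Algebra R4 F := f4.toRingHom.toAlgebra
  have hd' : (g5 * (s * s)) * (g5 * (s * s)) =
      (⟨0, 1⟩ : R4) • (1 : F) + (1 : R4) • (g5 * (s * s)) := by
    rw [one_smul, Algebra.smul_def, mul_one]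
    exact hd2.trans (congrArg (· + _) hfs.symm)
  let f : R16 →+* F := (QuadraticAlgebra.lift ⟨g5 * (s * s), hd'⟩).toRingHom
  have hinv := List.all_eq_true.mp UnitalFour.inv_check
  have hfi : Function.Injective f := (injective_iff_map_eq_zero f).mpr fun x hx => by
    have h := hinv x (UnitalFour.mem_elts x)
    simp only [Bool.or_eq_true, beq_iff_eq, List.any_eq_true] at h
    rcases h with h | ⟨y, -, hy⟩
    · exact h
    · have := congrArg f hy
      rw [map_mul, hx, zero_mul, map_one] at this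
      exact absurd this zero_ne_one
  haveI : Finite R16 := Finite.of_injective f hfi
  have hfsj : Function.Surjective f := (hfi.bijective_of_nat_card_le (by
    rw [Nat.card_eq_fintype_card, hF, Nat.card_congr (QuadraticAlgebra.equivProd _ _), Nat.card_prod,
      Nat.card_congr (QuadraticAlgebra.equivProd _ _), Nat.card_prod, Nat.card_zmod])).2
  have hlift : ∀ v : Fin 3 → F, ∃ a : Fin 3 → R16, f ∘ a = v := fun v =>
    ⟨fun i => (hfsj (v i)).choose, funext fun i => (hfsj (v i)).choose_spec⟩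
  have hfne : ∀ {x : R16}, x ≠ 0 → f x ≠ 0 := fun h h' => h ((injective_iff_map_eq_zero f).mp hfi _ h')
  -- normalisation
  have normal : ∀ v : Fin 3 → F, v ≠ 0 → ∃ c : F, c ≠ 0 ∧ ∃ a ∈ UnitalFour.normed, f ∘ a = c • v := by
    intro v hv
    have mem : ∀ x y : R16, ![1, x, y] ∈ UnitalFour.normed ∧ ![0, 1, x] ∈ UnitalFour.normed ∧
        ![0, 0, 1] ∈ UnitalFour.normed := fun x y => by
      simp only [UnitalFour.normed, List.mem_append, List.mem_flatMap, List.mem_map, List.mem_singleton]
      exact ⟨Or.inl (Or.inl ⟨x, UnitalFour.mem_elts x, y, UnitalFour.mem_elts y, rfl⟩),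
        Or.inl (Or.inr ⟨x, UnitalFour.mem_elts x, rfl⟩), by simp⟩
    by_cases h0 : v 0 = 0
    · by_cases h1 : v 1 = 0
      · have h2 : v 2 ≠ 0 := fun h => hv (by ext i; fin_cases i <;> assumption)
        refine ⟨(v 2)⁻¹, inv_ne_zero h2, ![0, 0, 1], (mem 0 0).2.2, ?_⟩
        ext i; fin_cases i <;> simp [h0, h1, inv_mul_cancel₀ h2]
      · obtain ⟨x, hx⟩ := hfsj ((v 1)⁻¹ * v 2)
        refine ⟨(v 1)⁻¹, inv_ne_zero h1, ![0, 1, x], (mem x 0).2.1, ?_⟩
        ext i; fin_cases i <;> simp [h0, hx, inv_mul_cancel₀ h1]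
    · obtain ⟨x, hx⟩ := hfsj ((v 0)⁻¹ * v 1)
      obtain ⟨y, hy⟩ := hfsj ((v 0)⁻¹ * v 2)
      refine ⟨(v 0)⁻¹, inv_ne_zero h0, ![1, x, y], (mem x y).1, ?_⟩
      ext i; fin_cases i <;> simp [hx, hy, inv_mul_cancel₀ h0]
  have eqv_iff : ∀ {a b : Fin 3 → R16}, UnitalFour.eqv a b = true → a = b := fun {a b} h => by
    simp only [UnitalFour.eqv, Bool.and_eq_true, beq_iff_eq] at h
    ext i : 1
    fin_cases i
    · exact h.1.1
    · exact h.1.2
    · exact h.2
  have complete := List.all_eq_true.mp UnitalFour.complete_check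
  have hiso : ∀ i, Cfsg.hermForm 3 F 4 (f ∘ pt i) (f ∘ pt i) = 0 := fun i => by
    rw [hermForm_map, show UnitalFour.herm (pt i) (pt i) = 0 from
      beq_iff_eq.mp (List.all_eq_true.mp UnitalFour.isotropic_check i (List.mem_finRange i)), map_zero]
  have hne : ∀ i, f ∘ pt i ≠ 0 := fun i h => by
    have h1 := List.all_eq_true.mp (List.all_eq_true.mp UnitalFour.indep_check i (List.mem_finRange i))
      (if i = 0 then 1 else 0) (List.mem_finRange _)
    have hz : ∀ j, pt i j = 0 := fun j => (injective_iff_map_eq_zero f).mp hfi _ (congrFun h j)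
    have hij : i ≠ if i = 0 then 1 else 0 := by split_ifs with hh <;> simp [hh]
    simp [hz, hij] at h1
  -- a unique point on each isotropic line
  have huniq : ∀ (i j : Fin 65) (c : F), c • (f ∘ pt i) = f ∘ pt j → i = j := fun i j c hc => by
    by_contra hij
    have h1 := List.all_eq_true.mp (List.all_eq_true.mp UnitalFour.indep_check i (List.mem_finRange i))
      j (List.mem_finRange _)
    have hc' : ∀ k, c * f (pt i k) = f (pt j k) := fun k => congrFun hc k
    have hz : ∀ k l, pt i k * pt j l = pt i l * pt j k := fun k l => hfi (by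
      rw [map_mul, map_mul, ← hc' k, ← hc' l]; ring)
    simp [hij, hz 0 1, hz 0 2, hz 1 2] at h1
  have hex : ∀ v : Fin 3 → F, v ≠ 0 → Cfsg.hermForm 3 F 4 v v = 0 → ∃ (i : Fin 65) (c : F), c ≠ 0 ∧ v = c • (f ∘ pt i) := by
    intro v hv hv0
    obtain ⟨c, hc, a, ha, hav⟩ := normal v hv
    have h1 := complete a ha
    have hz : UnitalFour.herm a a = 0 := (injective_iff_map_eq_zero f).mp hfi _ (by
      rw [← hermForm_map, hav, hermForm_smul_left, hermForm_smul_right, hv0, mul_zero, mul_zero])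
    simp only [hz, beq_self_eq_true, cond_true, List.any_eq_true] at h1
    obtain ⟨i, -, hi⟩ := h1
    exact ⟨i, c⁻¹, inv_ne_zero hc, by rw [eqv_iff hi, hav, smul_smul, inv_mul_cancel₀ hc, one_smul]⟩
  have hU : ∀ (g : Cfsg.SU 3 F 4) (u v : Fin 3 → F),
      Cfsg.hermForm 3 F 4 (g.1.1 *ᵥ u) (g.1.1 *ᵥ v) = Cfsg.hermForm 3 F 4 u v := fun g => g.2
  have hcomp : ∀ (g h : Cfsg.SU 3 F 4) (v : Fin 3 → F), (g * h).1.1 *ᵥ v = g.1.1 *ᵥ (h.1.1 *ᵥ v) :=
    fun g h v => (Matrix.mulVec_mulVec v g.1.1 h.1.1).symm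
  have hone : ∀ v : Fin 3 → F, (1 : Cfsg.SU 3 F 4).1.1 *ᵥ v = v := fun v => Matrix.one_mulVec v
  have hinvv : ∀ (g : Cfsg.SU 3 F 4) (v : Fin 3 → F), g.1.1 *ᵥ (g⁻¹.1.1 *ᵥ v) = v := fun g v => by
    rw [← hcomp, mul_inv_cancel, hone]
  have hinj : ∀ (g : Cfsg.SU 3 F 4) {v : Fin 3 → F}, g.1.1 *ᵥ v = 0 → v = 0 := fun g v h => by
    rw [← hone v, ← inv_mul_cancel g, hcomp, h, Matrix.mulVec_zero]
  have hσ : ∀ (g : Cfsg.SU 3 F 4) (i : Fin 65), ∃ (j : Fin 65) (c : F), c ≠ 0 ∧ g.1.1 *ᵥ (f ∘ pt i) = c • (f ∘ pt j) :=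
    fun g i => hex _ (fun h => hne i (hinj g h)) (by rw [hU, hiso])
  choose σ sc hsc hσ' using hσ
  have hσu : ∀ (g : Cfsg.SU 3 F 4) (i j : Fin 65) (c : F), g.1.1 *ᵥ (f ∘ pt i) = c • (f ∘ pt j) → σ g i = j :=
    fun g i j c h => by
      have hc : c ≠ 0 := fun h0 => hne i (hinj g (by rw [h, h0, zero_smul]))
      refine huniq _ _ (c⁻¹ * sc g i) ?_
      rw [← smul_smul, ← hσ', h, smul_smul, inv_mul_cancel₀ hc, one_smul]
  have hσ1 : ∀ i, σ 1 i = i := fun i => hσu 1 i i 1 (by rw [hone, one_smul])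
  have hσm : ∀ g h i, σ (g * h) i = σ g (σ h i) := fun g h i =>
    hσu _ _ _ (sc h i * sc g (σ h i)) (by rw [hcomp, hσ', Matrix.mulVec_smul, hσ', smul_smul])
  let σe : Cfsg.SU 3 F 4 → Equiv.Perm (Fin 65) := fun g =>
    ⟨σ g, σ g⁻¹, fun i => by rw [← hσm, inv_mul_cancel, hσ1], fun i => by rw [← hσm, mul_inv_cancel, hσ1]⟩
  -- the code
  have hVt : ∀ (g : Cfsg.SU 3 F 4) (w : Fin 65 → ZMod 5), InV f w → InV f (fun i => w (σ g i)) := by
    intro g w hw u hu S hS
    have hu' : Cfsg.hermForm 3 F 4 (g.1.1 *ᵥ u) (g.1.1 *ᵥ u) ≠ 0 := by rwa [hU]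
    have := hw _ hu' (S.map (σe g).toEmbedding) (fun i => by
      rw [Finset.mem_map_equiv, hS]
      conv_rhs => rw [← (σe g).apply_symm_apply i]
      set j := (σe g).symm i
      show _ ↔ Cfsg.hermForm 3 F 4 (f ∘ pt (σ g j)) (g.1.1 *ᵥ u) = 0
      have he : f ∘ pt (σ g j) = (sc g j)⁻¹ • (g.1.1 *ᵥ (f ∘ pt j)) := by
        rw [hσ', smul_smul, inv_mul_cancel₀ (hsc g j), one_smul]
      rw [he, hermForm_smul_left, hU, mul_eq_zero, inv_eq_zero]
      simp [hsc g j])
    rw [Finset.sum_map] at this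
    exact this
  let W : AddSubgroup (Fin 65 → Fin 65 → ZMod 5) :=
    { carrier := {d | ∃ w, InV f w ∧ ∀ i j, d i j = w i - w j}
      zero_mem' := ⟨0, fun u hu S hS => by simp, fun i j => by simp⟩
      add_mem' := fun {d d'} ⟨w, hw, hd⟩ ⟨w', hw', hd'⟩ => ⟨w + w', fun u hu S hS => by
        simp [Finset.sum_add_distrib, hw u hu S hS, hw' u hu S hS], fun i j => by
        simp [hd i j, hd' i j]; ring⟩
      neg_mem' := fun {d} ⟨w, hw, hd⟩ => ⟨-w, fun u hu S hS => by simp [hw u hu S hS], fun i j => by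
        simp [hd i j]; ring⟩ }
  have hWt : ∀ (g : Cfsg.SU 3 F 4) (d : Fin 65 → Fin 65 → ZMod 5), d ∈ W →
      (fun i j => d (σ g i) (σ g j)) ∈ W := fun g d ⟨w, hw, hd⟩ =>
    ⟨fun i => w (σ g i), hVt g w hw, fun i j => hd _ _⟩
  let A : Cfsg.SU 3 F 4 →* MulAut (Multiplicative (Fin (N + 1) → W)) :=
    { toFun := fun g =>
        { toFun := fun d => Multiplicative.ofAdd fun l =>
            ⟨fun i j => (Multiplicative.toAdd d l).1 (σ g⁻¹ i) (σ g⁻¹ j), hWt _ _ (Multiplicative.toAdd d l).2⟩
          invFun := fun d => Multiplicative.ofAdd fun l =>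
            ⟨fun i j => (Multiplicative.toAdd d l).1 (σ g i) (σ g j), hWt _ _ (Multiplicative.toAdd d l).2⟩
          left_inv := fun d => Multiplicative.toAdd.injective (funext fun l => Subtype.ext (funext₂ fun i j => by
            simp [← hσm, hσ1]))
          right_inv := fun d => Multiplicative.toAdd.injective (funext fun l => Subtype.ext (funext₂ fun i j => by
            simp [← hσm, hσ1]))
          map_mul' := fun d d' => rfl }
      map_one' := MulEquiv.ext fun d => Multiplicative.toAdd.injective (funext fun l => Subtype.ext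
        (funext₂ fun i j => by simp [hσ1]))
      map_mul' := fun g h => MulEquiv.ext fun d => Multiplicative.toAdd.injective (funext fun l => Subtype.ext
        (funext₂ fun i j => by simp [hσm])) }
  -- the witness
  have hwit : InV f witness := by
    intro u hu S hS
    have hu0 : u ≠ 0 := fun h => hu (by simp [h, Cfsg.hermForm])
    obtain ⟨c, hc, a, ha, hau⟩ := normal u hu0
    have h1 := complete a ha
    have hz : UnitalFour.herm a a ≠ 0 := fun h => hu (by
      have h' := congrArg f h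
      rw [← hermForm_map, hau, hermForm_smul_left, hermForm_smul_right, map_zero, mul_eq_zero, mul_eq_zero] at h'
      rcases h' with h' | h' | h'
      · exact absurd h' hc
      · exact absurd h' (pow_ne_zero 4 hc)
      · exact h')
    rw [beq_eq_false_iff_ne.mpr hz, cond_false, List.any_eq_true] at h1
    obtain ⟨k, -, hk⟩ := h1
    have hS' : S = Finset.univ.filter (fun i => (block k).elem i = true) := by
      ext i
      rw [hS, Finset.mem_filter, and_iff_right (Finset.mem_univ i)]
      have hb := List.all_eq_true.mp (List.all_eq_true.mp UnitalFour.block_check k (List.mem_finRange k))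
        i (List.mem_finRange i)
      rw [beq_iff_eq] at hb
      rw [← hb, beq_iff_eq, ← map_eq_zero_iff f hfi, ← hermForm_map, eqv_iff hk, hau, hermForm_smul_right,
        mul_eq_zero, or_iff_right (pow_ne_zero 4 hc)]
    have hw := List.all_eq_true.mp UnitalFour.witness_check k (List.mem_finRange k)
    rw [beq_iff_eq, foldl_bif_sum] at hw
    rw [hS', ← hw]
    exact filter_sum_eq _ _
  -- the group
  have hc5 : Fintype.card F = 4 ^ 2 := hF
  have hcard : Nat.card (Cfsg.PSU 3 F 4) = 62400 := by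
    have h := CfsgLib.Classical.Herm.card_PSU hc5 3 (by norm_num)
    norm_num [Finset.prod_range_succ] at h ⊢
    omega
  have hcen : Subgroup.center (Cfsg.SU 3 F 4) = ⊥ := by
    rw [← Subgroup.card_eq_one, CfsgLib.Classical.Herm.card_center_SU hc5 3 le_rfl]
    rfl
  let π : Cfsg.SU 3 F 4 ≃* Cfsg.PSU 3 F 4 :=
    MulEquiv.ofBijective (QuotientGroup.mk' _) ⟨(MonoidHom.ker_eq_bot_iff _).mp (by
      rw [QuotientGroup.ker_mk', hcen]), QuotientGroup.mk_surjective⟩
  have hcardS : Nat.card (Cfsg.SU 3 F 4) = 62400 := (Nat.card_congr π.toEquiv).trans hcard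
  -- elements
  have mkU : ∀ M : Matrix (Fin 3) (Fin 3) R16, M.det = 1 →
      M.transpose * M.map UnitalFour.conj16 = 1 → ∃ g : Cfsg.SU 3 F 4, g.1.1 = M.map f := by
    intro M hd hM
    refine ⟨⟨⟨M.map f, ?_⟩, fun u v => ?_⟩, rfl⟩
    · have := f.map_det M
      rw [hd, map_one] at this
      exact this.symm
    · have h : ∀ j k : Fin 3, ∑ i, f (M i j) * f (M i k) ^ 4 = if j = k then 1 else 0 := by
        intro j k
        have h1 := congrArg f (congrFun (congrFun hM j) k)
        rw [Matrix.mul_apply, map_sum, Matrix.one_apply] at h1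
        simp only [Matrix.transpose_apply, Matrix.map_apply, map_mul, UnitalFour.conj16] at h1
        rw [show (∑ i, f (M i j) * f (M i k) ^ 4) =
          ∑ i, f (M i j) * (f (M i k) * f (M i k) * (f (M i k) * f (M i k))) from
          Finset.sum_congr rfl fun i _ => by ring, h1]
        split_ifs <;> simp
      have h00 := h 0 0; have h01 := h 0 1; have h02 := h 0 2
      have h10 := h 1 0; have h11 := h 1 1; have h12 := h 1 2
      have h20 := h 2 0; have h21 := h 2 1; have h22 := h 2 2
      simp [Fin.sum_univ_three] at h00 h01 h02 h10 h11 h12 h20 h21 h22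
      have hchar : ∀ x y : F, (x + y) ^ 4 = x ^ 4 + y ^ 4 := fun x y => by
        rw [show (4 : ℕ) = 2 ^ 2 from rfl]; exact add_pow_char_pow x y 2 2
      show Cfsg.hermForm 3 F 4 ((M.map f) *ᵥ u) ((M.map f) *ᵥ v) = _
      simp only [Cfsg.hermForm, Matrix.mulVec, dotProduct, Fin.sum_univ_three, Matrix.map_apply, hchar, mul_pow]
      linear_combination (u 0 * v 0 ^ 4) * h00 + (u 0 * v 1 ^ 4) * h01 + (u 0 * v 2 ^ 4) * h02 +
        (u 1 * v 0 ^ 4) * h10 + (u 1 * v 1 ^ 4) * h11 + (u 1 * v 2 ^ 4) * h12 +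
        (u 2 * v 0 ^ 4) * h20 + (u 2 * v 1 ^ 4) * h21 + (u 2 * v 2 ^ 4) * h22
  have hordM : ∀ (g : Cfsg.SU 3 F 4) (M : Matrix (Fin 3) (Fin 3) R16), g.1.1 = M.map f →
      orderOf g = orderOf M := fun g M h => by
    rw [← orderOf_injective (Cfsg.SU 3 F 4).subtype Subtype.val_injective g,
      ← orderOf_injective (Matrix.SpecialLinearGroup.toGL) Matrix.SpecialLinearGroup.toGL_injective,
      ← orderOf_units, ← orderOf_injective f.mapMatrix.toMonoidHom (Matrix.map_injective hfi) M]
    exact congrArg orderOf h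
  obtain ⟨x, hx⟩ := mkU matX matX_facts.1 matX_facts.2.1
  have hxo : orderOf x = 13 := by
    rw [hordM x _ hx]; exact orderOf_of_facts 12 matX_facts.2.2.1 matX_facts.2.2.2
  obtain ⟨y10, hy10⟩ := mkU UnitalFour.mat10 mat10_facts.1 mat10_facts.2.1
  have ho10 : orderOf y10 = 10 := by
    rw [hordM _ _ hy10]; exact orderOf_of_facts 9 mat10_facts.2.2.1 mat10_facts.2.2.2
  obtain ⟨y15, hy15⟩ := mkU UnitalFour.mat15 mat15_facts.1 mat15_facts.2.1
  have ho15 : orderOf y15 = 15 := by
    rw [hordM _ _ hy15]; exact orderOf_of_facts 14 mat15_facts.2.2.1 mat15_facts.2.2.2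
  have hσx : ∀ i, σ x i = permX i := fun i => by
    have h := List.all_eq_true.mp UnitalFour.perm_check i (List.mem_finRange i)
    rw [Bool.and_eq_true] at h
    refine hσu x i _ (f (scalX.getD i.1 0)) ?_
    rw [hx]
    funext j
    have h' := congrArg f (congrFun (eqv_iff h.1) j)
    simp only [map_add, map_mul] at h'
    simp only [Pi.smul_apply, smul_eq_mul, Function.comp_apply, h', Matrix.mulVec, dotProduct,
      Fin.sum_univ_three, Matrix.map_apply]
  -- fixed vectors of `x`
  have hcast13 : ((13 : ℕ) : ZMod 5) ≠ 0 := by rw [Ne, ZMod.natCast_eq_zero_iff]; norm_num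
  have hfixx : ∀ d : W, (∀ i j, d.1 (σ x i) (σ x j) = d.1 i j) → d = 0 := by
    rintro ⟨d, w, hw, hd⟩ hfix
    simp only [hd, hσx] at hfix
    set c := w (permX 0) - w 0 with hc
    have hstep : ∀ i, w (permX i) = w i + c := fun i => by rw [hc]; linear_combination hfix i 0
    have hit : ∀ (k : ℕ) i, w (permX^[k] i) = w i + (k : ZMod 5) * c := fun k i => by
      induction k with
      | zero => simp
      | succ k ih => rw [Function.iterate_succ_apply', hstep, ih]; push_cast; ring
    have hc0 : c = 0 := by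
      have h := hit 13 0
      rw [permX_pow, eq_comm, add_eq_left] at h
      exact (mul_eq_zero.mp h).resolve_left hcast13
    have hmem : ∀ t, ∀ i ∈ UnitalFour.orbit t, w i = w (UnitalFour.orbitReps t) := fun t i hi => by
      simp only [UnitalFour.orbit, List.mem_map] at hi
      obtain ⟨k, -, rfl⟩ := hi
      rw [hit, hc0, mul_zero, add_zero]
    have hsum : ∀ t, ∑ i, w i * (bif (UnitalFour.orbit t).elem i then 1 else 0) =
        ((13 : ℕ) : ZMod 5) * w (UnitalFour.orbitReps t) := fun t => by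
      have hnd : (UnitalFour.orbit t).Nodup :=
        of_decide_eq_true (List.all_eq_true.mp UnitalFour.nodup_check t (List.mem_finRange t))
      rw [sum_indicator (UnitalFour.orbit t) w, Finset.sum_congr rfl
        (fun i hi => hmem t i (List.mem_toFinset.mp hi)), Finset.sum_const,
        List.toFinset_card_of_nodup hnd, nsmul_eq_mul]
      rw [UnitalFour.orbit, List.length_map, List.length_range]
    have hblock : ∀ k, ∑ i, w i * (bif (block k).elem i then 1 else 0) = 0 := fun k => by
      have hp := List.all_eq_true.mp pole_ne k (List.mem_finRange k)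
      simp only [Bool.not_eq_true', beq_eq_false_iff_ne] at hp
      have h := hw (f ∘ pole k) (by rw [hermForm_map]; exact hfne hp)
        (Finset.univ.filter fun i => (block k).elem i = true) (fun i => by
          rw [Finset.mem_filter, and_iff_right (Finset.mem_univ i)]
          have hb := List.all_eq_true.mp (List.all_eq_true.mp UnitalFour.block_check k (List.mem_finRange k))
            i (List.mem_finRange i)
          rw [beq_iff_eq] at hb
          rw [← hb, beq_iff_eq, hermForm_map, map_eq_zero_iff f hfi])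
      refine Eq.trans ?_ h
      rw [Finset.sum_filter]
      refine Finset.sum_congr rfl fun i _ => ?_
      cases (block k).elem i <;> simp
    have heq : ∀ t : Fin 5, w (UnitalFour.orbitReps t) = w (UnitalFour.orbitReps 0) := by
      intro t
      refine Fin.cases rfl (fun t => ?_) t
      have hz : ∀ i, _ = _ := fun i => beq_iff_eq.mp (List.all_eq_true.mp
        (List.all_eq_true.mp UnitalFour.cert_check t (List.mem_finRange t)) i (List.mem_finRange i))
      have h0 : ∑ i, w i * ((bif (UnitalFour.orbit t.succ).elem i then (1 : ZMod 5) else 0) -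
          (bif (UnitalFour.orbit 0).elem i then 1 else 0)) = 0 := by
        simp only [← hz, foldl_bif_sum]
        have hind : ∀ L : List (Fin 208 × ZMod 5),
            ∑ i, w i * (L.map fun kc => bif (block kc.1).elem i then kc.2 else 0).sum = 0 := fun L => by
          induction L with
          | nil => simp
          | cons kc L ih =>
            simp only [List.map_cons, List.sum_cons, mul_add, Finset.sum_add_distrib, ih, add_zero]
            refine Eq.trans ?_ (congrArg (kc.2 * ·) (hblock kc.1) |>.trans (mul_zero _))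
            simp only [Finset.mul_sum]
            refine Finset.sum_congr rfl fun i _ => ?_
            cases (block kc.1).elem i <;> simp [mul_comm]
        exact hind _
      rw [Finset.sum_congr rfl (fun i _ => mul_sub _ _ _)] at h0
      rw [Finset.sum_sub_distrib, hsum, hsum, ← mul_sub] at h0
      exact sub_eq_zero.mp ((mul_eq_zero.mp h0).resolve_left hcast13)
    have hconst : ∀ i, w i = w (UnitalFour.orbitReps 0) := fun i => by
      obtain ⟨t, -, ht⟩ := List.any_eq_true.mp
        (List.all_eq_true.mp UnitalFour.orbit_check i (List.mem_finRange i))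
      rw [hmem t i (List.elem_iff.mp ht), heq]
    exact Subtype.ext (funext₂ fun i j => by simp [hd, hconst i, hconst j])
  haveI : Finite W := Finite.of_injective (fun d : W => d.1) Subtype.val_injective
  haveI : Finite (Multiplicative (Fin (N + 1) → W)) := inferInstanceAs (Finite (Fin (N + 1) → W))
  haveI : Finite (Multiplicative (Fin (N + 1) → W) ⋊[A] Cfsg.SU 3 F 4) :=
    Finite.of_equiv _ SemidirectProduct.equivProd.symm
  obtain ⟨H, i1, i2, ⟨ε⟩⟩ :=
    Spectrum.exists_small_copy (Multiplicative (Fin (N + 1) → W) ⋊[A] Cfsg.SU 3 F 4)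
  have hfix : ∀ y : Cfsg.SU 3 F 4, orderOf y = 13 → ∀ d, A y d = d → d = 1 := by
    intro y hy d hd
    haveI : Fact (Nat.Prime 13) := ⟨by norm_num⟩
    have hf13 : (Nat.card (Cfsg.SU 3 F 4)).factorization 13 = 1 := by
      rw [hcardS, show 62400 = 13 * 4800 from rfl, Nat.factorization_mul (by norm_num) (by norm_num),
        Finsupp.add_apply, Nat.Prime.factorization_self (by norm_num),
        Nat.factorization_eq_zero_of_not_dvd (by norm_num)]
    let P : Sylow 13 (Cfsg.SU 3 F 4) := Sylow.ofCard (Subgroup.zpowers y)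
      (by rw [Nat.card_zpowers, hy, hf13, pow_one])
    let Q : Sylow 13 (Cfsg.SU 3 F 4) := Sylow.ofCard (Subgroup.zpowers x)
      (by rw [Nat.card_zpowers, hxo, hf13, pow_one])
    obtain ⟨g, hg⟩ := MulAction.exists_smul_eq (Cfsg.SU 3 F 4) P Q
    have hxmem : x ∈ ((g • P : Sylow 13 (Cfsg.SU 3 F 4)) : Subgroup (Cfsg.SU 3 F 4)) := by
      rw [hg]; exact Subgroup.mem_zpowers x
    rw [Sylow.coe_subgroup_smul, Subgroup.mem_pointwise_smul_iff_inv_smul_mem] at hxmem
    have hx' : g⁻¹ * x * g ∈ Subgroup.zpowers y := by simpa [P, Sylow.coe_ofCard, MulAut.conj_apply] using hxmem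
    obtain ⟨j, hj⟩ := (mem_powers_iff_mem_zpowers.mpr hx')
    have hyj : ∀ k : ℕ, A (y ^ k) d = d := fun k => by
      induction k with
      | zero => simp
      | succ k ih => rw [pow_succ, map_mul, MulAut.mul_apply, hd, ih]
    have hxd : A x (A g d) = A g d := by
      rw [← MulAut.mul_apply, ← map_mul, show x * g = g * y ^ j by
        simp only at hj; rw [hj]; group, map_mul, MulAut.mul_apply, hyj]
    have hgd : A g d = 1 := by
      refine Multiplicative.toAdd.injective (funext fun l => hfixx _ fun i j => ?_)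
      have h := congrFun (congrFun (congrArg Subtype.val (congrFun (congrArg Multiplicative.toAdd hxd) l))
        (σ x i)) (σ x j)
      change (Multiplicative.toAdd (A g d) l).1 (σ x⁻¹ (σ x i)) (σ x⁻¹ (σ x j)) = _ at h
      rw [← hσm, ← hσm, inv_mul_cancel, hσ1, hσ1] at h
      exact h.symm
    exact (A g).injective (hgd.trans (map_one _).symm)
  have h5 : ∀ d : Multiplicative (Fin (N + 1) → W), d ^ 5 = 1 := fun d =>
    Multiplicative.toAdd.injective (funext fun l => Subtype.ext (funext₂ fun i j => by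
      rw [toAdd_pow, toAdd_one]
      simp [nsmul_eq_mul, show (5 : ZMod 5) = 0 from rfl]))
  have hWcard : 2 ≤ Nat.card W := by
    have hd : (fun i j => witness i - witness j) ∈ W := ⟨witness, hwit, fun _ _ => rfl⟩
    haveI : Nontrivial W := ⟨⟨_, hd⟩, 0, fun h => by
      have h' : ∀ i j : Fin 65, witness i - witness j = 0 := fun i j =>
        congrFun (congrFun (congrArg Subtype.val h) i) j
      rcases witness_nonconst with h1 | h1
      · exact h1 (sub_eq_zero.mp (h' 0 1))
      · exact h1 (sub_eq_zero.mp (h' 0 2))⟩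
    exact Finite.one_lt_card
  have hcardH : Nat.card H = Nat.card (Multiplicative (Fin (N + 1) → W)) * 62400 := by
    rw [Nat.card_congr ε.toEquiv, SemidirectProduct.card, hcardS]
  have hWpow : ∀ r : ℕ, r.Prime → r ∣ Nat.card (Multiplicative (Fin (N + 1) → W)) → r = 5 := by
    intro r hr h
    haveI := Fact.mk hr
    obtain ⟨d, hd⟩ := exists_prime_orderOf_dvd_card' r h
    have := orderOf_dvd_of_pow_eq_one (h5 d)
    rw [hd] at this
    exact (Nat.prime_dvd_prime_iff_eq hr (by norm_num)).mp this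
  refine ⟨H, i1, inferInstance, ?_, ?_, ?_⟩
  · rw [hcardH]
    calc N < 2 ^ N := Nat.lt_two_pow_self
      _ ≤ Nat.card W ^ (N + 1) := (Nat.pow_le_pow_right two_pos (by omega)).trans (Nat.pow_le_pow_left hWcard _)
      _ = Nat.card (Multiplicative (Fin (N + 1) → W)) := by
        rw [Nat.card_congr Multiplicative.toAdd, Nat.card_fun, Nat.card_fin]
      _ ≤ _ := Nat.le_mul_of_pos_right _ (by norm_num)
  · intro r hr
    rw [hcard, hcardH]
    refine ⟨fun h => h.mul_left _, fun h => ?_⟩
    rcases (Nat.Prime.dvd_mul hr).mp h with h' | h'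
    · rw [hWpow r hr h']; norm_num
    · exact h'
  intro r s hr hs hrs
  constructor
  · rintro ⟨g, hg⟩
    refine ⟨ε.symm (SemidirectProduct.inr (π.symm g)), ?_⟩
    rw [ε.symm.orderOf_eq, orderOf_injective _ SemidirectProduct.inr_injective, π.symm.orderOf_eq, hg]
  rintro ⟨z0, hz0⟩
  set z := ε z0 with hzdef
  have hz : orderOf z = r * s := by rw [hzdef, ε.orderOf_eq, hz0]
  suffices hS : ∃ g : Cfsg.SU 3 F 4, orderOf g = r * s by
    obtain ⟨g, hg⟩ := hS
    exact ⟨π g, by rw [π.orderOf_eq, hg]⟩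
  obtain ⟨k, hk⟩ : orderOf z.right ∣ r * s := hz ▸ orderOf_map_dvd SemidirectProduct.rightHom z
  by_cases hd : orderOf z.right = r * s
  · exact ⟨_, hd⟩
  have hk5 : k = 5 := by
    have h1 : r * s ∣ orderOf z.right * 5 :=
      hz ▸ orderOf_dvd_of_pow_eq_one (pow_mul_eq_one z h5 (pow_orderOf_eq_one _))
    rw [hk] at h1
    rcases (Nat.dvd_prime (by norm_num)).mp (Nat.dvd_of_mul_dvd_mul_left (orderOf_pos _) h1) with h | h
    · rw [h, mul_one] at hk; exact absurd hk.symm hd
    · exact h
  subst hk5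
  obtain ⟨t, ht, hts, htd⟩ : ∃ t, t.Prime ∧ r * s = 5 * t ∧ orderOf z.right = t := by
    rcases (Nat.Prime.dvd_mul (by norm_num : Nat.Prime 5)).mp (hk ▸ dvd_mul_left 5 _ : 5 ∣ r * s) with h | h
    · have := (Nat.prime_dvd_prime_iff_eq (by norm_num) hr).mp h
      subst this
      exact ⟨s, hs, rfl, by linarith⟩
    · have := (Nat.prime_dvd_prime_iff_eq (by norm_num) hs).mp h
      subst this
      exact ⟨r, hr, mul_comm _ _, by linarith⟩
  have ht62 : t ∣ 62400 := hcardS ▸ htd ▸ orderOf_dvd_natCard _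
  have hcases : t = 2 ∨ t = 3 ∨ t = 5 ∨ t = 13 := by
    have h1 : t ∈ Nat.primeFactors 62400 := Nat.mem_primeFactors.mpr ⟨ht, ht62, by norm_num⟩
    rw [show (62400 : ℕ) = 2 ^ 6 * 3 * 5 ^ 2 * 13 from rfl] at h1
    rw [Nat.primeFactors_mul (by norm_num) (by norm_num), Nat.primeFactors_mul (by norm_num) (by norm_num),
      Nat.primeFactors_mul (by norm_num) (by norm_num), Nat.primeFactors_prime_pow (by norm_num) Nat.prime_two,
      Nat.Prime.primeFactors Nat.prime_three, Nat.primeFactors_prime_pow (by norm_num) (by norm_num),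
      Nat.Prime.primeFactors (by norm_num : Nat.Prime 13)] at h1
    simp at h1
    tauto
  rcases hcases with rfl | rfl | rfl | rfl
  · exact ⟨y10, by rw [ho10, hts]⟩
  · exact ⟨y15, by rw [ho15, hts]⟩
  · exact absurd (Nat.Prime.eq_one_or_self_of_dvd (by norm_num : Nat.Prime 5) _ (dvd_refl 5)) (by
      intro _
      have hr5 : r ∣ 5 * 5 := hts ▸ dvd_mul_right r s
      have hs5 : s ∣ 5 * 5 := hts ▸ dvd_mul_left s r
      have e1 := (Nat.prime_dvd_prime_iff_eq hr (by norm_num)).mp ((Nat.Prime.dvd_mul hr).mp hr5 |>.elim id id)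
      have e2 := (Nat.prime_dvd_prime_iff_eq hs (by norm_num)).mp ((Nat.Prime.dvd_mul hs).mp hs5 |>.elim id id)
      exact hrs (e1.trans e2.symm))
  · exfalso
    have h1 := orderOf_eq_of_fixed z (hfix _ htd)
    rw [hz, htd, hts] at h1
    omega

end Cfsg.Agent.S3663
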