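import Cfsg.Statements.S3664
import Cfsg.Agent.Lib.Recog.PSpSixThreeGroup
import Cfsg.Agent.Lib.Recog.SuzukiEightWitness
import Cfsg.Agent.Lib.Recog.SemidirectFix
import Cfsg.Agent.Lib.Recog.SemidirectSpectrum
import Cfsg.Agent.Lib.Classical.RingTransfer

set_option autoImplicit false
open Cfsg

namespace Cfsg.Agent.S3664

--- PRE
open CfsgLib.Recog Matrix SemidirectFix SuzukiEight EightCodes

/-- the allowed pairs -/
def allowed (r s : ℕ) : Prop :=
  (r = 2 ∧ s = 3) ∨ (r = 2 ∧ s = 5) ∨ (r = 2 ∧ s = 7) ∨ (r = 3 ∧ s = 5) ∨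
  (r = 3 ∧ s = 2) ∨ (r = 5 ∧ s = 2) ∨ (r = 7 ∧ s = 2) ∨ (r = 5 ∧ s = 3)

theorem allowed_cases : ∀ r ∈ [2, 3, 5, 7, 13], ∀ s ∈ [2, 3, 5, 7, 13], r ≠ s →
    allowed r s ∨ (r = 13 ∨ s = 13) ∨ (r = 7 ∧ (s = 3 ∨ s = 5)) ∨ (s = 7 ∧ (r = 3 ∨ r = 5)) := by
  unfold allowed; decide

theorem five_mem {p : ℕ} (hp : p.Prime) (h : p ∣ 2 ^ 9 * 3 ^ 9 * 5 * 7 * 13) : p ∈ [2, 3, 5, 7, 13] := by
  have e : ∀ {q : ℕ}, q.Prime → p ∣ q → p = q := fun hq hh => (Nat.prime_dvd_prime_iff_eq hp hq).mp hh
  rcases (Nat.Prime.dvd_mul hp).mp h with h | h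
  · rcases (Nat.Prime.dvd_mul hp).mp h with h | h
    · rcases (Nat.Prime.dvd_mul hp).mp h with h | h
      · rcases (Nat.Prime.dvd_mul hp).mp h with h | h
        · simp [e Nat.prime_two (hp.dvd_of_dvd_pow h)]
        · simp [e Nat.prime_three (hp.dvd_of_dvd_pow h)]
      · simp [e Nat.prime_five h]
    · simp [e (by norm_num) h]
  · simp [e (by norm_num) h]

open PSpSixThree in
theorem psp_graph (r s : ℕ) (hr : r.Prime) (hs : s.Prime) (hrs : r ≠ s) :
    (∃ g : PSp6, orderOf g = r * s) ↔ allowed r s := by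
  constructor
  · rintro ⟨g, hg⟩
    have hd : r * s ∣ 4585351680 := hg ▸ card_psp ▸ orderOf_dvd_natCard g
    have hmem : ∀ p : ℕ, p.Prime → p ∣ r * s → p ∈ [2, 3, 5, 7, 13] := fun p hp h =>
      five_mem hp (by rw [show 2 ^ 9 * 3 ^ 9 * 5 * 7 * 13 = 4585351680 by norm_num]; exact h.trans hd)
    have h13 : ∀ t, (r * s = 13 * t) → t.Prime → False := fun t ht htp => by
      rw [ht] at hg
      have hy : orderOf (g ^ t) = 13 := by
        rw [orderOf_pow' _ htp.ne_zero, hg, Nat.gcd_mul_left_left, Nat.mul_div_cancel _ htp.pos]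
      have := Nat.le_of_dvd (by norm_num) (hg ▸ orderOf_dvd_of_pow_eq_one
        (thirteen_commuting g _ hy (Commute.self_pow g t)))
      have := htp.two_le
      omega
    have h7 : ∀ t, (r * s = 7 * t) → (t = 3 ∨ t = 5) → False := fun t ht htv => by
      rw [ht] at hg
      have hy : orderOf (g ^ t) = 7 := by
        rw [orderOf_pow' _ (by omega), hg, Nat.gcd_mul_left_left, Nat.mul_div_cancel _ (by omega)]
      have := hg ▸ orderOf_dvd_of_pow_eq_one (seven_commuting g _ hy (Commute.self_pow g t))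
      rcases htv with rfl | rfl <;> norm_num at this
    rcases allowed_cases r (hmem r hr (dvd_mul_right _ _)) s (hmem s hs (dvd_mul_left _ _)) hrs with
      h | (h | h) | ⟨h, h'⟩ | ⟨h, h'⟩
    · exact h
    · exact (h13 s (by rw [h]) hs).elim
    · exact (h13 r (by rw [h, mul_comm]) hr).elim
    · exact (h7 s (by rw [h]) h').elim
    · exact (h7 r (by rw [h, mul_comm]) h').elim
  · rintro (⟨rfl, rfl⟩ | ⟨rfl, rfl⟩ | ⟨rfl, rfl⟩ | ⟨rfl, rfl⟩ | ⟨rfl, rfl⟩ | ⟨rfl, rfl⟩ | ⟨rfl, rfl⟩ | ⟨rfl, rfl⟩)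
    · exact exists_six
    · exact exists_ten
    · exact exists_fourteen
    · exact exists_fifteen
    · exact exists_six
    · exact exists_ten
    · exact exists_fourteen
    · exact exists_fifteen

theorem z2_checks : mJ * mJ = 1 ∧ mP * mP ^ 4 = 1 ∧ mQ * mQ ^ 4 = 1 ∧ mJ ≠ 1 ∧ mP ≠ 1 ∧ mJ ^ 2 = 1 ∧ mP ^ 5 = 1 ∧
    mW ≠ 0 ∧ mP * mW * mPᵀ = mW := by decide +kernel

theorem code_checks : pw ((1, 0, 1) : C8) 13 = one4 ∧ ((1, 0, 1) : C8) ≠ 0 := by decide +kernel

/-- transport to the standard field -/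
theorem exists_equiv {F : Type*} [Field F] [Fintype F] (hF : Fintype.card F = 3) :
    Nonempty (Cfsg.PSp 3 F ≃* PSpSixThree.PSp6) := by
  haveI : Fact (Nat.Prime 3) := ⟨Nat.prime_three⟩
  let e : Matrix.symplecticGroup (Fin 3) F ≃* Matrix.symplecticGroup (Fin 3) (ZMod 3) :=
    (CfsgLib.Classical.symplecticMap (ZMod.ringEquivOfPrime F Nat.prime_three hF) (Fin 3)).symm
  refine ⟨QuotientGroup.congr _ _ e ?_⟩
  ext g
  show g ∈ (Subgroup.center _).map e.toMonoidHom ↔ _
  rw [Subgroup.mem_map_equiv, Subgroup.mem_center_iff, Subgroup.mem_center_iff]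
  constructor
  · intro h y
    have := congrArg e (h (e.symm y))
    simpa using this
  · intro h y
    apply e.injective
    simpa using h (e y)

section K

variable {F : Type} [Field F] [Fintype F] [CharP F 2]

theorem K_prime (hF : Fintype.card F = 8) (z : K F) {p : ℕ} (hp : p.Prime) (hz : orderOf z = p) :
    p ∈ [2, 3, 5, 7, 13] := by
  by_cases h1 : z.right = 1
  · have hzl : z = SemidirectProduct.inl z.left := SemidirectProduct.ext rfl h1
    rw [hzl, orderOf_injective _ SemidirectProduct.inl_injective] at hz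
    have e : ∀ {n q : ℕ}, q.Prime → n = q → z.left ^ n = 1 → p = q := fun hq he hh =>
      (Nat.prime_dvd_prime_iff_eq hp hq).mp (he ▸ hz ▸ orderOf_dvd_of_pow_eq_one hh)
    rcases SuzukiEight.spectrum hF z.left with h | h | h | h
    · have : p ∣ 2 ^ 2 := hz ▸ orderOf_dvd_of_pow_eq_one h
      simp [(Nat.prime_dvd_prime_iff_eq hp Nat.prime_two).mp (hp.dvd_of_dvd_pow this)]
    · simp [e Nat.prime_five rfl h]
    · simp [e (by norm_num) rfl h]
    · simp [e (by norm_num) rfl h]
  · haveI : Fact (Nat.Prime 3) := ⟨Nat.prime_three⟩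
    have h3 : orderOf z.right = 3 := orderOf_eq_prime (C_pow_three hF _) h1
    have : 3 ∣ p := hz ▸ h3 ▸ orderOf_map_dvd SemidirectProduct.rightHom z
    simp [(Nat.prime_dvd_prime_iff_eq Nat.prime_three hp).mp this ▸ (rfl : p = p)]
    rw [← (Nat.prime_dvd_prime_iff_eq Nat.prime_three hp).mp this]
    norm_num

theorem K_isolated (hF : Fintype.card F = 8) (z : K F) {t s : ℕ} (ht : t = 7 ∨ t = 13) (hs : s.Prime)
    (hts : t ≠ s) (hz : orderOf z = t * s) : False := by
  have htp : t.Prime := by rcases ht with rfl | rfl <;> norm_num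
  have ht2 := htp.two_le
  have hs2 := hs.two_le
  by_cases h1 : z.right = 1
  · have hzl : z = SemidirectProduct.inl z.left := SemidirectProduct.ext rfl h1
    rw [hzl, orderOf_injective _ SemidirectProduct.inl_injective] at hz
    have e : ∀ {n}, n.Prime → z.left ^ n = 1 → False := fun hn hh => by
      have hd := hz ▸ orderOf_dvd_of_pow_eq_one hh
      rcases (Nat.dvd_prime hn).mp hd with h | h
      · nlinarith
      · exact absurd (h ▸ hn) (Nat.not_prime_mul (by omega) (by omega))
    rcases SuzukiEight.spectrum hF z.left with h | h | h | h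
    · have hd : t ∣ 2 ^ 2 := (dvd_mul_right t s).trans (hz ▸ orderOf_dvd_of_pow_eq_one h)
      have := (Nat.prime_dvd_prime_iff_eq htp Nat.prime_two).mp (htp.dvd_of_dvd_pow hd)
      omega
    · exact e Nat.prime_five h
    · exact e (by norm_num) h
    · exact e (by norm_num) h
  · haveI : Fact (Nat.Prime 3) := ⟨Nat.prime_three⟩
    have h3 : orderOf z.right = 3 := orderOf_eq_prime (C_pow_three hF _) h1
    have hd : 3 ∣ t * s := hz ▸ h3 ▸ orderOf_map_dvd SemidirectProduct.rightHom z
    have hs3 : s = 3 := by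
      rcases (Nat.Prime.dvd_mul Nat.prime_three).mp hd with h | h
      · have := (Nat.prime_dvd_prime_iff_eq Nat.prime_three htp).mp h; omega
      · exact ((Nat.prime_dvd_prime_iff_eq Nat.prime_three hs).mp h).symm
    subst hs3
    have hpr : (z ^ 3).right = 1 :=
      (map_pow SemidirectProduct.rightHom z 3).trans (C_pow_three hF _)
    have hzl : z ^ 3 = SemidirectProduct.inl (z ^ 3).left := SemidirectProduct.ext rfl hpr
    have ho : orderOf (z ^ 3).left = t := by
      rw [← orderOf_injective (SemidirectProduct.inl : S F →* K F) SemidirectProduct.inl_injective, ← hzl, orderOf_pow' _ (by norm_num), hz,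
        Nat.gcd_mul_left_left, Nat.mul_div_cancel _ (by norm_num)]
    rcases outer_centralized hF (z ^ 3).left z (hzl ▸ Commute.self_pow z 3) h1 with h | h
    · have hd : t ∣ 2 ^ 2 := ho ▸ orderOf_dvd_of_pow_eq_one h
      have := (Nat.prime_dvd_prime_iff_eq htp Nat.prime_two).mp (htp.dvd_of_dvd_pow hd)
      omega
    · have := (Nat.prime_dvd_prime_iff_eq htp Nat.prime_five).mp (ho ▸ orderOf_dvd_of_pow_eq_one h)
      omega

theorem exists_witnesses (hF : Fintype.card F = 8) :
    ∃ (g6 g15 : K F) (g5 g7 g13 : S F), orderOf g6 = 6 ∧ orderOf g15 = 15 ∧ orderOf g5 = 5 ∧ orderOf g7 = 7 ∧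
      orderOf g13 = 13 ∧ (∃ W, W ≠ 0 ∧ actW (SemidirectProduct.inl g5) W = W) ∧
      (∃ W, W ≠ 0 ∧ actW (SemidirectProduct.inl g7) W = W) := by
  classical
  haveI := Fact.mk Nat.prime_two
  haveI : Fact (Nat.Prime 3) := ⟨Nat.prime_three⟩
  haveI : Fact (Nat.Prime 5) := ⟨Nat.prime_five⟩
  haveI : Fact (Nat.Prime 7) := ⟨by norm_num⟩
  haveI : Fact (Nat.Prime 13) := ⟨by norm_num⟩
  obtain ⟨τ, hτ⟩ := exists_root hF
  have hci : Function.Injective ((cst (F := F)).mapMatrix :
      Matrix (Fin 4) (Fin 4) (ZMod 2) →+* Matrix (Fin 4) (Fin 4) F) :=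
    Matrix.map_injective (f := ⇑(cst (F := F))) (cst (F := F)).injective
  obtain ⟨hsJ, hsP, hsQ⟩ := star_checks
  obtain ⟨cJ, cP, cQ, cJ1, cP1, cJ2, cP5, cW, cPW⟩ := z2_checks
  let J0 : S F := ⟨unitOf mJ mJ cJ, unitOf_mem _ mJ_symp hsJ⟩
  let P0 : S F := ⟨unitOf mP (mP ^ 4) cP, unitOf_mem _ mP_symp hsP⟩
  let Q0 : S F := ⟨unitOf mQ (mQ ^ 4) cQ, unitOf_mem _ mQ_symp hsQ⟩
  have hne : ∀ {A : Matrix (Fin 4) (Fin 4) (ZMod 2)}, A ≠ 1 → (cst (F := F)).mapMatrix A ≠ 1 :=
    fun {A} h e => h (hci (e.trans (map_one _).symm))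
  have hJ : orderOf J0 = 2 := by
    refine orderOf_eq_prime (Subtype.ext (Units.ext ?_)) fun h => hne cJ1
      (congrArg (fun x : S F => x.1.1) h)
    show ((cst (F := F)).mapMatrix mJ) ^ 2 = 1
    rw [← map_pow, cJ2, map_one]
  have hP : orderOf P0 = 5 := by
    refine orderOf_eq_prime (Subtype.ext (Units.ext ?_)) fun h => hne cP1
      (congrArg (fun x : S F => x.1.1) h)
    show ((cst (F := F)).mapMatrix mP) ^ 5 = 1
    rw [← map_pow, cP5, map_one]
  obtain ⟨d, hd⟩ := exists_diag hτ
  have h7 : τ ^ 7 = 1 := by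
    linear_combination (τ ^ 4 + τ ^ 2 + τ + 1) * hτ + (τ ^ 2 + τ) * (CharTwo.two_eq_zero (R := F))
  have hτ1 : τ ≠ 1 := fun h => by
    rw [h, one_pow, CharTwo.add_self_eq_zero] at hτ; exact one_ne_zero hτ
  have hD : orderOf d = 7 := by
    refine orderOf_eq_prime (Subtype.ext (Units.ext ?_)) fun h => ?_
    · show d.1.1 ^ 7 = 1
      rw [hd, Matrix.diagonal_pow, ← Matrix.diagonal_one]
      congr 1
      funext i
      fin_cases i <;> simp [← pow_mul, h7, show τ ^ 21 = 1 by rw [show 21 = 7 * 3 by norm_num, pow_mul, h7, one_pow],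
        show τ ^ 28 = 1 by rw [show 28 = 7 * 4 by norm_num, pow_mul, h7, one_pow],
        show τ ^ 42 = 1 by rw [show 42 = 7 * 6 by norm_num, pow_mul, h7, one_pow]]
    · have := congrArg (fun x : S F => x.1.1 0 0) h
      simp [hd] at this
      exact hτ1 this
  have h13 : orderOf (Q0 * d) = 13 := by
    obtain ⟨t, htr, ht⟩ := exists_code hF hτ (Q0 * d).2
    have htc : t = (1, 0, 1) := by
      refine val_injective hτ (htr.trans ?_)
      show ((cst (F := F)).mapMatrix mQ * d.1.1).trace = _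
      rw [hd]
      simp [mQ, val, Matrix.trace, Fin.sum_univ_four]
      linear_combination (τ ^ 3 + τ + 1) * hτ + τ * (CharTwo.two_eq_zero (R := F))
    subst htc
    refine orderOf_eq_prime (Subtype.ext (Units.ext ?_)) fun h => ?_
    · show (Q0 * d).1.1 ^ 13 = 1
      exact pow_eq_one hτ ht code_checks.1
    · rw [h] at htr
      have h0 : val τ ((1, 0, 1) : C8) = val τ 0 := by
        rw [htr, val_zero]
        show (1 : Matrix (Fin 4) (Fin 4) F).trace = 0
        simp only [Matrix.trace_one, Fintype.card_fin]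
        linear_combination 2 * (CharTwo.two_eq_zero (R := F))
      exact absurd (val_injective hτ h0) code_checks.2
  let φ : C F := ⟨fr F, Subgroup.mem_zpowers _⟩
  have hφ1 : φ ≠ 1 := fun h => by
    have h1 := RingEquiv.congr_fun (congrArg Subtype.val h) τ
    have h1' : τ ^ 2 = τ := by rw [← fr_apply]; exact h1
    have h0 : τ ≠ 0 := fun h0 => by simp [h0] at hτ
    exact hτ1 (mul_right_cancel₀ h0 (by rw [one_mul, ← sq]; exact h1'))
  have hφ : orderOf φ = 3 := orderOf_eq_prime (C_pow_three hF _) hφ1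
  have hcm : ∀ (g : S F), ((g.1 : Matrix (Fin 4) (Fin 4) F).map (fr F) = g.1) →
      Commute (SemidirectProduct.inl g : K F) (SemidirectProduct.inr φ) := fun g hg => by
    refine SemidirectProduct.ext ?_ ?_
    · simp only [SemidirectProduct.mul_left, SemidirectProduct.left_inl, SemidirectProduct.right_inl,
        SemidirectProduct.left_inr, SemidirectProduct.right_inr, map_one, mul_one, one_mul, MulAut.one_apply]
      exact Subtype.ext (Units.ext hg.symm)
    · simp
  refine ⟨SemidirectProduct.inl J0 * SemidirectProduct.inr φ, SemidirectProduct.inl P0 * SemidirectProduct.inr φ,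
    P0, d, Q0 * d, ?_, ?_, hP, hD, h13, ?_, ?_⟩
  · rw [(hcm J0 (map_fr_cst mJ)).orderOf_mul_eq_mul_orderOf_of_coprime] <;>
      rw [orderOf_injective _ SemidirectProduct.inl_injective, orderOf_injective _ SemidirectProduct.inr_injective,
        hJ, hφ]
    norm_num
  · rw [(hcm P0 (map_fr_cst mP)).orderOf_mul_eq_mul_orderOf_of_coprime] <;>
      rw [orderOf_injective _ SemidirectProduct.inl_injective, orderOf_injective _ SemidirectProduct.inr_injective,
        hP, hφ]
    norm_num
  · refine ⟨(cst (F := F)).mapMatrix mW, fun h => ?_, ?_⟩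
    · exact cW (hci (h.trans (map_zero _).symm))
    · show (cst (F := F)).mapMatrix mP * ((cst (F := F)).mapMatrix mW).map (1 : RingAut F) *
        (((cst (F := F)).mapMatrix mP).map (fr F))ᵀ = _
      rw [map_fr_cst]
      simp only [RingHom.mapMatrix_apply, ← Matrix.transpose_map]
      rw [show (mW.map (cst (F := F))).map ⇑(1 : RingAut F) = mW.map (cst (F := F)) from rfl, ← Matrix.map_mul,
        ← Matrix.map_mul, cPW]
  · refine ⟨Matrix.single 0 1 1, fun h => ?_, ?_⟩
    · have := congrFun (congrFun h 0) 1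
      simp at this
    · show d.1.1 * (Matrix.single 0 1 (1 : F)).map (1 : RingAut F) * (d.1.1.map (fr F))ᵀ = _
      rw [hd, Matrix.diagonal_map (map_zero _), Matrix.diagonal_transpose]
      ext i j
      rw [Matrix.mul_diagonal, Matrix.diagonal_mul, Matrix.map_apply]
      fin_cases i <;> fin_cases j <;> simp [fr_apply]
      linear_combination h7

theorem key13 (hF : Fintype.card F = 8) {ι : Type}
    (y : Multiplicative (ι → Matrix (Fin 4) (Fin 4) F) ⋊[SuzukiEight.act ι] K F)
    (h : orderOf y.right = 13) (hy : orderOf y ≠ orderOf y.right) : False := by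
  refine hy (orderOf_eq_of_fixed y fun v hv => ?_)
  have hr1 : y.right.right = 1 := by
    by_contra h1
    haveI : Fact (Nat.Prime 3) := ⟨Nat.prime_three⟩
    have h3 : orderOf y.right.right = 3 := orderOf_eq_prime (C_pow_three hF _) h1
    have hd : 3 ∣ 13 := h ▸ h3 ▸ orderOf_map_dvd SemidirectProduct.rightHom y.right
    norm_num at hd
  have hg : orderOf y.right.left = 13 := by
    rw [← h, ← orderOf_injective (SemidirectProduct.inl : S F →* K F) SemidirectProduct.inl_injective]
    congr 1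
    exact SemidirectProduct.ext rfl hr1.symm
  refine Multiplicative.toAdd.injective (funext fun i => ?_)
  have hW : actW y.right (Multiplicative.toAdd v i) = Multiplicative.toAdd v i :=
    congrFun (congrArg Multiplicative.toAdd hv) i
  refine thirteen_fixed hF y.right.left (hg ▸ pow_orderOf_eq_one _)
    (fun h1 => by rw [h1, orderOf_one] at hg; norm_num at hg) _ ?_
  rw [actW, hr1] at hW
  exact hW

end K

/-- The prime graph of a finite group has the prime divisors of its order as vertices, two distinct primes p, q being joined when the group has an element of order pq; two groups have the same prime graph when they have the same prime divisors and the same joined pairs. Let F be the field with 3 elements and L = PSp(6,F). There are finite groups of arbitrarily large order with the same prime graph as L (a prime graph shared by the orthogonal groups Ω₇(3) and PΩ⁺₈(3)). -/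
theorem result {F : Type*} [Field F] [Fintype F] (hF : Fintype.card F = 3) (N : ℕ) :
    ∃ (H : Type) (_ : Group H) (_ : Finite H), N < Nat.card H ∧
      ((∀ p : ℕ, p.Prime → (p ∣ Nat.card (Cfsg.PSp 3 F) ↔ p ∣ Nat.card H)) ∧
      (∀ p q : ℕ, p.Prime → q.Prime → p ≠ q → ((∃ g : (Cfsg.PSp 3 F), orderOf g = p * q) ↔ (∃ g : H, orderOf g = p * q)))) := by
  classical
  haveI := Fact.mk Nat.prime_two
  let E := GaloisField 2 3
  haveI : Fintype E := Fintype.ofFinite E
  have hE : Fintype.card E = 8 := by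
    rw [← Nat.card_eq_fintype_card, GaloisField.card 2 3 (by norm_num)]
    norm_num
  obtain ⟨eL⟩ := exists_equiv hF
  let V := Multiplicative (Fin (N + 1) → Matrix (Fin 4) (Fin 4) E)
  haveI : Finite (RingAut E) := Finite.of_injective (fun e : RingAut E => (e : E → E)) DFunLike.coe_injective
  haveI : Finite (K E) := Finite.of_equiv _ SemidirectProduct.equivProd.symm
  haveI : Finite (V ⋊[SuzukiEight.act (Fin (N + 1))] K E) := Finite.of_equiv _ SemidirectProduct.equivProd.symm
  obtain ⟨H, i1, i2, ⟨ε⟩⟩ := Spectrum.exists_small_copy (V ⋊[SuzukiEight.act (Fin (N + 1))] K E)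
  have hcardV : Nat.card V = 2 ^ (3 * (4 * 4) * (N + 1)) := by
    show Nat.card (Multiplicative (Fin (N + 1) → Fin 4 → Fin 4 → E)) = _
    rw [Nat.card_congr Multiplicative.toAdd, Nat.card_fun, Nat.card_fun, Nat.card_fun,
      Nat.card_fin, Nat.card_fin, Nat.card_eq_fintype_card, hE, show (8 : ℕ) = 2 ^ 3 by norm_num, ← pow_mul,
      ← pow_mul, ← pow_mul]
    ring_nf
  have hcardH : Nat.card H = 2 ^ (3 * (4 * 4) * (N + 1)) * Nat.card (K E) := by
    rw [Nat.card_congr ε.toEquiv, SemidirectProduct.card, hcardV]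
  have hexp : ∀ w : V, w ^ 2 = 1 := fun w => by
    rw [sq]
    refine Multiplicative.toAdd.injective ?_
    rw [toAdd_mul, toAdd_one]
    funext i
    exact Matrix.ext fun a b => CharTwo.add_self_eq_zero _
  obtain ⟨g6, g15, g5, g7, g13, ho6, ho15, ho5, ho7, ho13, hW5, hW7⟩ := exists_witnesses hE
  have hLcard : Nat.card (Cfsg.PSp 3 F) = 4585351680 :=
    (Nat.card_congr eL.toEquiv).trans PSpSixThree.card_psp
  have hinl : ∀ (g : S E), orderOf (SemidirectProduct.inl g : K E) = orderOf g :=
    fun g => orderOf_injective _ SemidirectProduct.inl_injective g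
  have hdvdK : ∀ p ∈ [2, 3, 5, 7, 13], p ∣ Nat.card (K E) := by
    have h : ∀ {z : K E} {n p : ℕ}, orderOf z = n → p ∣ n → p ∣ Nat.card (K E) :=
      fun {z} {n} {p} hz hp => hp.trans (hz ▸ orderOf_dvd_natCard z)
    intro p hp
    simp only [List.mem_cons, List.not_mem_nil, or_false] at hp
    rcases hp with rfl | rfl | rfl | rfl | rfl
    · exact h ho6 (by norm_num)
    · exact h ho6 (by norm_num)
    · exact h ((hinl g5).trans ho5) dvd_rfl
    · exact h ((hinl g7).trans ho7) dvd_rfl
    · exact h ((hinl g13).trans ho13) dvd_rfl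
  refine ⟨H, i1, inferInstance, ?_, ?_, ?_⟩
  · rw [hcardH]
    calc N < 2 ^ N := Nat.lt_two_pow_self
      _ ≤ 2 ^ (3 * (4 * 4) * (N + 1)) := Nat.pow_le_pow_right two_pos (by omega)
      _ ≤ _ := Nat.le_mul_of_pos_right _ Nat.card_pos
  · intro p hp
    rw [hLcard, hcardH]
    constructor
    · intro h
      refine (hdvdK p (five_mem hp ?_)).mul_left _
      rwa [show 2 ^ 9 * 3 ^ 9 * 5 * 7 * 13 = 4585351680 by norm_num]
    · intro h
      have hmem : p ∈ [2, 3, 5, 7, 13] := by
        rcases (Nat.Prime.dvd_mul hp).mp h with h' | h'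
        · simp [(Nat.prime_dvd_prime_iff_eq hp Nat.prime_two).mp (hp.dvd_of_dvd_pow h')]
        · haveI := Fact.mk hp
          obtain ⟨z, hz⟩ := exists_prime_orderOf_dvd_card' p h'
          exact K_prime hE z hp hz
      simp only [List.mem_cons, List.not_mem_nil, or_false] at hmem
      rcases hmem with rfl | rfl | rfl | rfl | rfl <;> norm_num
  intro r s hr hs hrs
  have hLiff : (∃ g : Cfsg.PSp 3 F, orderOf g = r * s) ↔ allowed r s := by
    rw [← psp_graph r s hr hs hrs]
    exact ⟨fun ⟨g, hg⟩ => ⟨eL g, by rw [eL.orderOf_eq, hg]⟩, fun ⟨g, hg⟩ => ⟨eL.symm g, by rw [eL.symm.orderOf_eq, hg]⟩⟩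
  rw [hLiff]
  have hinr : ∀ z : K E, orderOf (ε.symm (SemidirectProduct.inr z)) = orderOf z := fun z => by
    rw [ε.symm.orderOf_eq, orderOf_injective _ SemidirectProduct.inr_injective]
  constructor
  · have hfix : ∀ (g : S E) (n : ℕ), orderOf g = n → Nat.Coprime 2 n →
        (∃ W, W ≠ 0 ∧ actW (SemidirectProduct.inl g) W = W) → ∃ h : H, orderOf h = 2 * n := by
      rintro g n hg hn ⟨W, hW0, hW⟩
      let v : V := Multiplicative.ofAdd fun _ => W
      have hv : orderOf v = 2 := orderOf_eq_prime (hexp v) fun h =>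
        hW0 (congrFun (congrArg Multiplicative.toAdd h) 0)
      refine ⟨ε.symm (SemidirectProduct.inl v * SemidirectProduct.inr (SemidirectProduct.inl g)), ?_⟩
      have hc : Commute (SemidirectProduct.inl v : V ⋊[SuzukiEight.act (Fin (N + 1))] K E)
          (SemidirectProduct.inr (SemidirectProduct.inl g)) := by
        refine SemidirectProduct.ext ?_ (by simp)
        simp only [SemidirectProduct.mul_left, SemidirectProduct.left_inl, SemidirectProduct.right_inl,
          SemidirectProduct.left_inr, SemidirectProduct.right_inr, map_one, mul_one, one_mul, MulAut.one_apply]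
        exact (Multiplicative.toAdd.injective (funext fun _ => hW)).symm
      rw [ε.symm.orderOf_eq, hc.orderOf_mul_eq_mul_orderOf_of_coprime] <;>
        rw [orderOf_injective _ SemidirectProduct.inl_injective, orderOf_injective _ SemidirectProduct.inr_injective,
          hinl, hv, hg]
      exact hn
    rintro (⟨rfl, rfl⟩ | ⟨rfl, rfl⟩ | ⟨rfl, rfl⟩ | ⟨rfl, rfl⟩ | ⟨rfl, rfl⟩ | ⟨rfl, rfl⟩ | ⟨rfl, rfl⟩ | ⟨rfl, rfl⟩)
    · exact ⟨_, (hinr g6).trans ho6⟩
    · exact hfix g5 5 ho5 (by norm_num) hW5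
    · exact hfix g7 7 ho7 (by norm_num) hW7
    · exact ⟨_, (hinr g15).trans ho15⟩
    · exact ⟨_, (hinr g6).trans ho6⟩
    · exact hfix g5 5 ho5 (by norm_num) hW5
    · exact hfix g7 7 ho7 (by norm_num) hW7
    · exact ⟨_, (hinr g15).trans ho15⟩
  rintro ⟨h0, hh0⟩
  set y := ε h0 with hydef
  have hy : orderOf y = r * s := by rw [hydef, ε.orderOf_eq, hh0]
  have hmemp : ∀ p : ℕ, p.Prime → p ∣ r * s → p ∈ [2, 3, 5, 7, 13] := by
    intro p hp hd
    have h : p ∣ Nat.card H := hd.trans (hh0 ▸ orderOf_dvd_natCard h0)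
    rw [hcardH] at h
    rcases (Nat.Prime.dvd_mul hp).mp h with h' | h'
    · simp [(Nat.prime_dvd_prime_iff_eq hp Nat.prime_two).mp (hp.dvd_of_dvd_pow h')]
    · haveI := Fact.mk hp
      obtain ⟨z, hz⟩ := exists_prime_orderOf_dvd_card' p h'
      exact K_prime hE z hp hz
  obtain ⟨k, hk⟩ : orderOf y.right ∣ r * s := hy ▸ orderOf_map_dvd SemidirectProduct.rightHom y
  by_cases hd : orderOf y.right = r * s
  · rcases allowed_cases r (hmemp r hr (dvd_mul_right _ _)) s (hmemp s hs (dvd_mul_left _ _)) hrs with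
      h | (h | h) | ⟨h, -⟩ | ⟨h, -⟩
    · exact h
    · exact (K_isolated hE y.right (t := r) (Or.inr h) hs hrs hd).elim
    · exact (K_isolated hE y.right (t := s) (Or.inr h) hr hrs.symm (hd.trans (mul_comm _ _))).elim
    · exact (K_isolated hE y.right (t := r) (Or.inl h) hs hrs hd).elim
    · exact (K_isolated hE y.right (t := s) (Or.inl h) hr hrs.symm (hd.trans (mul_comm _ _))).elim
  have hk2 : k = 2 := by
    have h1 : r * s ∣ orderOf y.right * 2 :=
      hy ▸ orderOf_dvd_of_pow_eq_one (pow_mul_eq_one y hexp (pow_orderOf_eq_one _))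
    rw [hk] at h1
    rcases (Nat.dvd_prime Nat.prime_two).mp (Nat.dvd_of_mul_dvd_mul_left (orderOf_pos _) h1) with h | h
    · rw [h, mul_one] at hk; exact absurd hk.symm hd
    · exact h
  subst hk2
  rcases (Nat.Prime.dvd_mul Nat.prime_two).mp (hk ▸ dvd_mul_left 2 _ : 2 ∣ r * s) with h | h
  · have := (Nat.prime_dvd_prime_iff_eq Nat.prime_two hr).mp h
    subst this
    have hts : orderOf y.right = s := by linarith
    have hmem := hmemp s hs (dvd_mul_left _ _)
    simp only [List.mem_cons, List.not_mem_nil, or_false] at hmem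
    rcases hmem with rfl | rfl | rfl | rfl | rfl
    · exact absurd rfl hrs
    · simp [allowed]
    · simp [allowed]
    · simp [allowed]
    · exfalso
      exact key13 hE y hts (by rw [hy, hts]; norm_num)
  · have := (Nat.prime_dvd_prime_iff_eq Nat.prime_two hs).mp h
    subst this
    have hts : orderOf y.right = r := by linarith
    have hmem := hmemp r hr (dvd_mul_right _ _)
    simp only [List.mem_cons, List.not_mem_nil, or_false] at hmem
    rcases hmem with rfl | rfl | rfl | rfl | rfl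
    · exact absurd rfl hrs
    · simp [allowed]
    · simp [allowed]
    · simp [allowed]
    · exfalso
      exact key13 hE y hts (by rw [hy, hts]; norm_num)

end Cfsg.Agent.S3664
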