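import Cfsg.Statements.S3670
import Cfsg.Agent.Lib.Recog.UnitaryBorel
import Cfsg.Agent.Lib.Classical.Unitary.MatrixStructure
import Cfsg.Agent.Lib.Recog.SemidirectSpectrum

set_option autoImplicit false
open Cfsg

namespace Cfsg.Agent.S3670

--- PRE
open CfsgLib.Char
open scoped ComplexConjugate

/-- the kernel of the solvable group -/
abbrev AV := (ZMod 2 × ZMod 2 × ZMod 2) × (ZMod 3 × ZMod 3) × ZMod 2

/-- an automorphism of order 42 -/
def step : AV → AV := fun a => ((a.1.2.2, a.1.1 + a.1.2.2, a.1.2.1), (-a.2.1.1 - a.2.1.2, -a.2.1.2), a.2.2)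

theorem step_pow : ∀ a : AV, step^[42] a = a := by decide +kernel

theorem step_add (a b : AV) : step (a + b) = step a + step b := by
  refine Prod.ext (Prod.ext rfl (Prod.ext ?_ rfl)) (Prod.ext (Prod.ext ?_ ?_) rfl) <;> simp [step] <;> abel

theorem step_left (a : AV) : step^[41] (step a) = a := by
  rw [← Function.iterate_succ_apply]; exact step_pow a

theorem step_right (a : AV) : step (step^[41] a) = a := by
  exact (Function.iterate_succ_apply' step 41 a).symm.trans (step_pow a)

/-- the automorphism -/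
def sigma : Multiplicative AV ≃* Multiplicative AV where
  toFun x := Multiplicative.ofAdd (step x.toAdd)
  invFun x := Multiplicative.ofAdd (step^[41] x.toAdd)
  left_inv x := congrArg Multiplicative.ofAdd (step_left x.toAdd)
  right_inv x := congrArg Multiplicative.ofAdd (step_right x.toAdd)
  map_mul' x y := congrArg Multiplicative.ofAdd (step_add x.toAdd y.toAdd)

theorem sigma_pow (k : ℕ) (x : Multiplicative AV) : ((sigma : MulAut (Multiplicative AV)) ^ k) x =
    Multiplicative.ofAdd (step^[k] x.toAdd) := by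
  induction k with
  | zero => rfl
  | succ k ih => rw [pow_succ', MulAut.mul_apply, ih, Function.iterate_succ_apply']; rfl

theorem sigma_pow42 : (sigma : MulAut (Multiplicative AV)) ^ 42 = 1 :=
  MulEquiv.ext fun x => (sigma_pow 42 x).trans (congrArg Multiplicative.ofAdd (step_pow x.toAdd))

/-- the action -/
def act : Multiplicative (ZMod 42) →* MulAut (Multiplicative AV) where
  toFun q := (sigma : MulAut (Multiplicative AV)) ^ q.toAdd.val
  map_one' := by simp
  map_mul' q q' := by
    rw [← pow_add, toAdd_mul, ZMod.val_add]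
    conv_rhs => rw [← Nat.mod_add_div (q.toAdd.val + q'.toAdd.val) 42, pow_add, pow_mul, sigma_pow42, one_pow,
      mul_one]

/-- the group of order 6048 -/
abbrev HG := Multiplicative AV ⋊[act] Multiplicative (ZMod 42)

/-- a functional with regular orbit -/
def phi (a : AV) : ZMod 6 := 3 * (a.1.1.val : ZMod 6) + 2 * (a.2.1.1.val : ZMod 6)

theorem phi_add : ∀ a b : AV, phi (a + b) = phi a + phi b := by
  have h1 : ∀ x y : ZMod 2, (3 : ZMod 6) * ((x + y).val : ZMod 6) = 3 * (x.val : ZMod 6) + 3 * (y.val : ZMod 6) := by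
    decide
  have h2 : ∀ x y : ZMod 3, (2 : ZMod 6) * ((x + y).val : ZMod 6) = 2 * (x.val : ZMod 6) + 2 * (y.val : ZMod 6) := by
    decide
  intro a b
  simp only [phi, Prod.fst_add, Prod.snd_add, h1, h2]
  abel

theorem phi_orbit : ∀ k : Fin 42, (∀ a : AV, phi (step^[k.1] a) = phi a) → k = 0 := by decide +kernel

/-- the linear character -/
noncomputable def lamA : Multiplicative AV →* ℂˣ :=
  MonoidHom.toHomUnits
    { toFun := fun x => ZMod.stdAddChar (phi x.toAdd)
      map_one' := by simp [phi]
      map_mul' := fun x y => by rw [toAdd_mul, phi_add, AddChar.map_add_eq_mul] }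

theorem exists_42 : 42 ∈ Cfsg.charDegrees HG := by
  classical
  haveI : Finite HG := Finite.of_equiv _ SemidirectProduct.equivProd.symm
  haveI : Fintype HG := Fintype.ofFinite _
  let N : Subgroup HG := (SemidirectProduct.inl : Multiplicative AV →* HG).range
  haveI : Fintype N := Fintype.ofFinite _
  let f : Multiplicative AV ≃* N := MonoidHom.ofInjective SemidirectProduct.inl_injective
  let L : N →* ℂˣ := lamA.comp f.symm.toMonoidHom
  let θ : N → ℂ := fun x => (L x : ℂ)
  have hθ : Cfsg.IsIrrCharacter N θ := isIrrCharacter_linear L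
  have hNcard : Nat.card N = 144 := by
    rw [← Nat.card_congr f.toEquiv, Nat.card_congr Multiplicative.toAdd]; simp
  have hHcard : Nat.card HG = 6048 := by
    rw [SemidirectProduct.card, Nat.card_congr Multiplicative.toAdd, Nat.card_congr Multiplicative.toAdd]; simp
  have hindex : N.index = 42 := by
    have := N.card_mul_index
    rw [hNcard, hHcard] at this
    omega
  let θq : Multiplicative (ZMod 42) → N → ℂ := fun q x => (lamA (act q (f.symm x)) : ℂ)
  have hθq : ∀ q, Cfsg.IsIrrCharacter N (θq q) := fun q =>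
    isIrrCharacter_linear (lamA.comp ((act q).toMonoidHom.comp f.symm.toMonoidHom))
  have hne : ∀ q, q ≠ 1 → θ ≠ θq q := fun q hq he => by
    refine hq (Multiplicative.toAdd.injective ?_)
    rw [toAdd_one]
    have := phi_orbit ⟨q.toAdd.val, ZMod.val_lt _⟩ fun a => by
      have h1 := congrFun he (f (Multiplicative.ofAdd a))
      simp only [θ, θq, L, MonoidHom.comp_apply, MulEquiv.coe_toMonoidHom, MulEquiv.symm_apply_apply] at h1
      have h2 : ZMod.stdAddChar (phi a) = ZMod.stdAddChar (phi (step^[q.toAdd.val] a)) := by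
        have h3 : act q (Multiplicative.ofAdd a) = Multiplicative.ofAdd (step^[q.toAdd.val] a) :=
          sigma_pow _ _
        rw [h3] at h1
        exact h1
      exact (ZMod.injective_stdAddChar h2).symm
    exact (ZMod.val_eq_zero _).mp (congrArg Fin.val this)
  have hconj : ∀ (x : HG) (n : N), Cfsg.extendByZero N θ (x⁻¹ * n * x) = θq x.right⁻¹ n := fun x n => by
    obtain ⟨a, rfl⟩ := f.surjective n
    have h1 : x⁻¹ * (f a : HG) * x = (f (act x.right⁻¹ a) : HG) := by
      show x⁻¹ * SemidirectProduct.inl a * x = SemidirectProduct.inl (act x.right⁻¹ a)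
      refine SemidirectProduct.ext ?_ (by simp)
      simp [mul_comm, mul_assoc, mul_left_comm]
    rw [h1, extendByZero_coe]
    simp [θ, θq, L]
  have hres : (fun n : N => Cfsg.indFun N θ n) = ∑ q : Multiplicative (ZMod 42), θq q := by
    funext n
    simp only [Cfsg.indFun, hconj, Finset.sum_apply]
    rw [← (SemidirectProduct.equivProd (φ := act)).symm.sum_comp, Fintype.sum_prod_type]
    simp only [show ∀ (a : Multiplicative AV) (q : Multiplicative (ZMod 42)),
      ((SemidirectProduct.equivProd (φ := act)).symm (a, q)).right = q from fun _ _ => rfl, Finset.sum_const,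
      Finset.card_univ, nsmul_eq_mul]
    rw [show Fintype.card (Multiplicative AV) = Nat.card N from by
        rw [← Nat.card_eq_fintype_card, Nat.card_congr f.toEquiv], ← mul_assoc,
      inv_mul_cancel₀ (Nat.cast_ne_zero.mpr Nat.card_pos.ne'), one_mul]
    exact Fintype.sum_equiv (Equiv.inv _) _ _ fun q => rfl
  have hnorm : Cfsg.classInner (Cfsg.indFun N θ) (Cfsg.indFun N θ) = 1 := by
    rw [frobenius_reciprocity N θ (isClassFunction_indFun N θ), hres, classInner_sum_right,
      Finset.sum_eq_single_of_mem 1 (Finset.mem_univ _)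
        (fun q _ hq => classInner_irr_of_ne (χ := ⟨θ, hθ⟩) (ψ := ⟨θq q, hθq q⟩)
          fun e => hne q hq (congrArg Subtype.val e))]
    have h1 : θq 1 = θ := by funext x; simp [θq, θ, L]
    rw [show Cfsg.classInner θ (θq 1) = Cfsg.classInner θ θ by rw [h1]]
    exact classInner_irr_self ⟨θ, hθ⟩
  refine ⟨⟨_, IsChar.isIrr_of_classInner_eq_one (isCharacter_indFun N (IsIrr.isCharacter hθ)) hnorm⟩, ?_⟩
  refine CfsgLib.CharDegree.charDegree_eq_of_apply_one ?_
  show Cfsg.indFun N θ 1 = _
  rw [indFun_apply_one, hindex]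
  simp [θ]

/-- degrees are transported by isomorphisms -/
theorem charDegrees_of_equiv {G G' : Type*} [Group G] [Group G'] (e : G ≃* G') {d : ℕ}
    (h : d ∈ Cfsg.charDegrees G') : d ∈ Cfsg.charDegrees G := by
  obtain ⟨χ, hχ⟩ := h
  refine ⟨⟨_, IsIrr.comp_surjective e.toMonoidHom e.surjective χ.2⟩, ?_⟩
  rw [← hχ]
  simp [Cfsg.charDegree]

theorem dvd_six_thousand {p : ℕ} (hp : p.Prime) (h : p ∣ 6048) : p = 2 ∨ p = 3 ∨ p = 7 := by
  rw [show (6048 : ℕ) = 2 ^ 5 * 3 ^ 3 * 7 by norm_num] at h
  rcases (Nat.Prime.dvd_mul hp).mp h with h | h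
  · rcases (Nat.Prime.dvd_mul hp).mp h with h | h
    · exact Or.inl ((Nat.prime_dvd_prime_iff_eq hp Nat.prime_two).mp (hp.dvd_of_dvd_pow h))
    · exact Or.inr (Or.inl ((Nat.prime_dvd_prime_iff_eq hp Nat.prime_three).mp (hp.dvd_of_dvd_pow h)))
  · exact Or.inr (Or.inr ((Nat.prime_dvd_prime_iff_eq hp (by norm_num)).mp h))

theorem complete_graph {G : Type*} [Group G] [Finite G] (hG : Nat.card G = 6048)
    (h : ∀ n ∈ [6, 14, 21], ∃ d ∈ Cfsg.charDegrees G, n ∣ d) :
    Cfsg.degreePrimes G = {p | p = 2 ∨ p = 3 ∨ p = 7} ∧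
      ∀ p q, (Cfsg.degreeGraph G).Adj p q ↔
        p ≠ q ∧ (p = 2 ∨ p = 3 ∨ p = 7) ∧ (q = 2 ∨ q = 3 ∨ q = 7) := by
  have hsub : ∀ {p d : ℕ}, p.Prime → d ∈ Cfsg.charDegrees G → p ∣ d → p = 2 ∨ p = 3 ∨ p = 7 := by
    rintro p d hp ⟨χ, rfl⟩ hd
    exact dvd_six_thousand hp (hd.trans (hG ▸ CfsgLib.CharDegree.charDegree_dvd_card χ))
  refine ⟨?_, ?_⟩
  · ext p
    constructor
    · rintro ⟨hp, d, hd, hpd⟩
      exact hsub hp hd hpd
    · rintro (rfl | rfl | rfl)
      · obtain ⟨d, hd, hn⟩ := h 6 (by simp)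
        exact ⟨Nat.prime_two, d, hd, (by norm_num : 2 ∣ 6).trans hn⟩
      · obtain ⟨d, hd, hn⟩ := h 6 (by simp)
        exact ⟨Nat.prime_three, d, hd, (by norm_num : 3 ∣ 6).trans hn⟩
      · obtain ⟨d, hd, hn⟩ := h 14 (by simp)
        exact ⟨by norm_num, d, hd, (by norm_num : 7 ∣ 14).trans hn⟩
  · intro p q
    constructor
    · rintro ⟨hne, hp, hq, d, hd, hpq⟩
      exact ⟨hne, hsub hp hd ((dvd_mul_right p q).trans hpq), hsub hq hd ((dvd_mul_left q p).trans hpq)⟩
    · rintro ⟨hne, hp, hq⟩
      have pp : ∀ r : ℕ, r = 2 ∨ r = 3 ∨ r = 7 → r.Prime := by rintro r (rfl | rfl | rfl) <;> norm_num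
      have hn : ∃ n ∈ [6, 14, 21], p * q = n := by
        rcases hp with rfl | rfl | rfl <;> rcases hq with rfl | rfl | rfl <;> simp at hne ⊢
      obtain ⟨n, hn1, hn2⟩ := hn
      obtain ⟨d, hd, hdn⟩ := h n hn1
      exact ⟨hne, pp p hp, pp q hq, d, hd, hn2 ▸ hdn⟩

/-- The character degree graph of a finite group has as vertices the primes dividing some irreducible complex character degree, two distinct primes being joined when their product divides some irreducible character degree; two groups have the same character degree graph when they have the same vertices and the same joined pairs. Let F be the field with 9 elements and L = PSU(3,3) realised over F (order 6048). There is a finite solvable group of order 6048 with the same character degree graph as L; so L is not determined by its order together with its character degree graph. -/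
theorem result {F : Type*} [Field F] [Fintype F] (hF : Fintype.card F = 9) :
    ∃ (H : Type) (_ : Group H) (_ : Fintype H), Group.IsSolvable H ∧ Nat.card H = 6048 ∧ Cfsg.degreePrimes H = Cfsg.degreePrimes (Cfsg.PSU 3 F 3) ∧ Cfsg.degreeGraph H = Cfsg.degreeGraph (Cfsg.PSU 3 F 3) := by
  classical
  haveI : Fact (Nat.Prime 3) := ⟨Nat.prime_three⟩
  haveI : CharP F 3 := charP_of_card_eq_prime_pow (f := 2) hF
  have hF' : Fintype.card F = 3 ^ 2 := hF
  have hSU : Nat.card (Cfsg.SU 3 F 3) = 6048 := by
    have h := CfsgLib.Classical.Herm.card_SU hF' 3 (by norm_num)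
    simp [Finset.prod_range_succ, Nat.even_iff] at h ⊢
    omega
  have hZ : Subgroup.center (Cfsg.SU 3 F 3) = ⊥ := Subgroup.card_eq_one.mp (by
    rw [CfsgLib.Classical.Herm.card_center_SU hF' 3 (by norm_num)]; norm_num)
  let eL : Cfsg.PSU 3 F 3 ≃* Cfsg.SU 3 F 3 :=
    (QuotientGroup.quotientMulEquivOfEq hZ).trans QuotientGroup.quotientBot
  haveI hsimp : IsSimpleGroup (Cfsg.SU 3 F 3) := by
    haveI := CfsgLib.Classical.Herm.isSimpleGroup_PSU' hF' 3 (by norm_num) (fun _ h => by norm_num at h)
    exact eL.symm.isSimpleGroup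
  have hperf : commutator (Cfsg.SU 3 F 3) = ⊤ := by
    refine (inferInstance : (commutator (Cfsg.SU 3 F 3)).Normal).eq_bot_or_eq_top.resolve_left fun hb => ?_
    have hc : Subgroup.center (Cfsg.SU 3 F 3) = ⊤ := by
      rw [eq_top_iff]
      intro x _
      rw [Subgroup.mem_center_iff]
      intro y
      refine commutatorElement_eq_one_iff_mul_comm.1 ?_
      rw [← Subgroup.mem_bot, ← hb]
      exact Subgroup.commutator_mem_commutator (Subgroup.mem_top y) (Subgroup.mem_top x)
    rw [hZ] at hc
    exact bot_ne_top hc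
  obtain ⟨D, hD⟩ := CfsgLib.Recog.UnitaryBorel.exists_datum (F := F) (by rw [Nat.card_eq_fintype_card, hF])
  haveI : Fintype (Cfsg.SU 3 F 3) := Fintype.ofFinite _
  obtain ⟨h28, h21, d6, hd6, h6⟩ := CfsgLib.Recog.BorelChar.exists_degrees (hD hSU) hperf
  have hL : Nat.card (Cfsg.PSU 3 F 3) = 6048 := (Nat.card_congr eL.toEquiv).trans hSU
  obtain ⟨hp1, hg1⟩ := complete_graph hL (fun n hn => by
    simp only [List.mem_cons, List.not_mem_nil, or_false] at hn
    rcases hn with rfl | rfl | rfl
    · exact ⟨d6, charDegrees_of_equiv eL hd6, h6⟩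
    · exact ⟨28, charDegrees_of_equiv eL h28, by norm_num⟩
    · exact ⟨21, charDegrees_of_equiv eL h21, dvd_rfl⟩)
  haveI : Finite HG := Finite.of_equiv _ SemidirectProduct.equivProd.symm
  have hH : Nat.card HG = 6048 := by
    rw [SemidirectProduct.card, Nat.card_congr Multiplicative.toAdd, Nat.card_congr Multiplicative.toAdd]; simp
  obtain ⟨hp2, hg2⟩ := complete_graph hH (fun n hn => by
    refine ⟨42, exists_42, ?_⟩
    simp only [List.mem_cons, List.not_mem_nil, or_false] at hn
    rcases hn with rfl | rfl | rfl <;> norm_num)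
  have hsol : Group.IsSolvable HG :=
    Group.isSolvable_of_ker_le_range SemidirectProduct.inl SemidirectProduct.rightHom
      SemidirectProduct.range_inl_eq_ker_rightHom.ge
  refine ⟨HG, inferInstance, Fintype.ofFinite _, hsol, hH, hp2.trans hp1.symm, ?_⟩
  ext p q
  rw [hg1, hg2]

end Cfsg.Agent.S3670
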