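import Cfsg.Statements.S3680
import Mathlib
import Cfsg.Agent.Lib.Perm.CharSimple
import Cfsg.Agent.Lib.Perm.Regular

set_option autoImplicit false
open Cfsg

namespace Cfsg.Agent.S3680

/-- The socle of a finite primitive permutation group. Let a finite group G act faithfully and primitively on a set Ω, and let N be the subgroup generated by the minimal normal subgroups of G. Then either N is an elementary abelian p-group for some prime p and acts regularly on Ω (transitively with trivial point stabilizers), or N is isomorphic to a direct product of m ≥ 1 copies of a non-abelian simple group. -/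
theorem result {G Ω : Type*} [Group G] [Finite G] [MulAction G Ω] [FaithfulSMul G Ω] [Finite Ω]
    (hprim : MulAction.IsPreprimitive G Ω) (N : Subgroup G)
    (hN : N = sSup {V : Subgroup G | V.Normal ∧ V ≠ ⊥ ∧ ∀ M : Subgroup G, M.Normal → M ≤ V → M = ⊥ ∨ M = V}) :
    (∃ p : ℕ, p.Prime ∧ IsMulCommutative N ∧ (∀ x : N, x ^ p = 1) ∧
      MulAction.IsPretransitive N Ω ∧ ∀ ω : Ω, MulAction.stabilizer N ω = ⊥) ∨
    (∃ (T : Type) (_ : Group T) (m : ℕ), 1 ≤ m ∧ IsSimpleGroup T ∧ ¬ IsMulCommutative T ∧ Nonempty (N ≃* (Fin m → T))) := by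
  classical
  let S : Set (Subgroup G) := {V | V.Normal ∧ V ≠ ⊥ ∧ ∀ M : Subgroup G, M.Normal → M ≤ V → M = ⊥ ∨ M = V}
  have htrans : ∀ V : Subgroup G, V.Normal → V ≠ ⊥ → MulAction.IsPretransitive V Ω := by
    intro V hV hVb
    haveI := hV
    refine MulAction.IsQuasiPreprimitive.isPretransitive_of_normal fun h => hVb ?_
    refine V.eq_bot_iff_forall.2 fun n hn => FaithfulSMul.eq_of_smul_eq_smul (α := Ω) fun y => ?_
    rw [one_smul]
    exact Set.eq_univ_iff_forall.1 h y ⟨n, hn⟩
  by_cases hSe : S = ∅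
  · -- no minimal normal subgroup: the group is trivial
    have hN0 : N = ⊥ := by rw [hN]; exact (congrArg sSup hSe).trans sSup_empty
    have htriv : ∀ g : G, g = 1 := by
      intro g
      by_contra hg
      haveI : Nontrivial G := ⟨⟨g, 1, hg⟩⟩
      obtain ⟨V, h1, h2, -, h3⟩ := CfsgLib.Core.exists_minimal_normal_le' (⊤ : Subgroup G) top_ne_bot
      exact (Set.eq_empty_iff_forall_notMem.1 hSe V) ⟨h1, h2, h3⟩
    have hΩ : ∀ a b : Ω, a = b := fun a b => by
      obtain ⟨g, hg⟩ := MulAction.exists_smul_eq G a b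
      rwa [htriv g, one_smul] at hg
    subst hN0
    refine Or.inl ⟨2, Nat.prime_two, ⟨⟨fun a b => Subsingleton.elim _ _⟩⟩,
      fun x => Subsingleton.elim _ _, ⟨fun a b => ⟨1, hΩ _ _⟩⟩, fun ω => ?_⟩
    exact (Subgroup.eq_bot_iff_forall _).2 fun x _ => Subsingleton.elim _ _
  obtain ⟨V, hVn, hVb, hVmin⟩ := Set.nonempty_iff_ne_empty.2 hSe
  haveI := hVn
  haveI hVt := htrans V hVn hVb
  have hVS : V ∈ S := ⟨hVn, hVb, hVmin⟩
  have hcomm : ∀ U ∈ S, U ≠ V → ∀ a ∈ V, ∀ b ∈ U, Commute a b := by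
    intro U hU hne a ha b hb
    haveI := hU.1
    have hdis : Disjoint V U := by
      rw [disjoint_iff]
      rcases hVmin (V ⊓ U) inferInstance inf_le_left with h | h
      · exact h
      · rcases hU.2.2 V hVn (h ▸ inf_le_right) with h' | h'
        · exact absurd h' hVb
        · exact absurd h'.symm hne
    exact Subgroup.commute_of_normal_of_disjoint V U hVn hU.1 hdis a b ha hb
  obtain ⟨T, iT, m, hT, hm, ⟨eV⟩⟩ := CfsgLib.Perm.CharSimple.exists_iso_pi_of_minimal_normal V hVb hVmin
  by_cases hΩe : IsEmpty Ω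
  · exfalso
    apply hVb
    exact V.eq_bot_iff_forall.2 fun n _ => FaithfulSMul.eq_of_smul_eq_smul (α := Ω) fun y => isEmptyElim y
  rw [not_isEmpty_iff] at hΩe
  by_cases hVc : IsMulCommutative V
  · -- abelian: unique minimal normal subgroup
    have hVV : ∀ a ∈ V, ∀ b ∈ V, Commute a b := fun a ha b hb =>
      congrArg Subtype.val (hVc.is_comm.comm ⟨a, ha⟩ ⟨b, hb⟩)
    have huniq : ∀ U ∈ S, U = V := by
      intro U hU
      by_contra hne
      have hle : U ≤ V := fun u hu => CfsgLib.Perm.Regular.mem_of_commute (α := Ω) V V hVV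
        (fun a ha => hcomm U hU hne a ha u hu)
      rcases hVmin U hU.1 hle with h | h
      · exact hU.2.1 h
      · exact hne h
    have hNV : N = V := by
      rw [hN]; exact le_antisymm (sSup_le fun U hU => (huniq U hU).le) (le_sSup hVS)
    obtain ⟨p, hp, hexp⟩ := CfsgLib.Core.exists_prime_pow_eq_one_of_minimal_normal V hVc hVb hVmin
    subst hNV
    exact Or.inl ⟨p, hp, hVc, fun x => Subtype.ext (hexp x x.2), hVt,
      fun ω => CfsgLib.Perm.Regular.stabilizer_eq_bot_of_commute N N hVV ω⟩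
  have hTc : ¬ IsMulCommutative T := fun h => hVc ⟨⟨fun a b => eV.injective (by
    rw [map_mul, map_mul]
    exact funext fun i => h.is_comm.comm _ _)⟩⟩
  by_cases huniq : ∀ U ∈ S, U = V
  · have hNV : N = V := by
      rw [hN]; exact le_antisymm (sSup_le fun U hU => (huniq U hU).le) (le_sSup hVS)
    subst hNV
    exact Or.inr ⟨T, iT, m, hm, hT, hTc, ⟨eV⟩⟩
  push Not at huniq
  obtain ⟨W, hW, hWV⟩ := huniq
  haveI := hW.1
  haveI := htrans W hW.1 hW.2.1
  have hVW := hcomm W hW hWV
  have hNVW : N = V ⊔ W := by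
    rw [hN]
    refine le_antisymm (sSup_le fun U hU => ?_) (sup_le (le_sSup hVS) (le_sSup hW))
    by_cases hUV : U = V
    · exact hUV ▸ le_sup_left
    · exact le_sup_of_le_right fun u hu => CfsgLib.Perm.Regular.mem_of_commute (α := Ω) V W hVW
        (fun a ha => hcomm U hU hUV a ha u hu)
  have hdis : Disjoint V W := by
    rw [disjoint_iff]
    rcases hVmin (V ⊓ W) inferInstance inf_le_left with h | h
    · exact h
    · rcases hW.2.2 V hVn (h ▸ inf_le_right) with h' | h'
      · exact absurd h' hVb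
      · exact absurd h'.symm hWV
  obtain ⟨e⟩ := CfsgLib.Perm.CharSimple.nonempty_prod_mulEquiv_sup V W hdis
  obtain ⟨eW⟩ := CfsgLib.Perm.Regular.nonempty_mulEquiv (α := Ω) V W hVW
  let e2 : (Fin m → T) × (Fin m → T) ≃* (Fin (m + m) → T) :=
    { toEquiv := (Equiv.sumArrowEquivProdArrow (Fin m) (Fin m) T).symm.trans (Equiv.arrowCongr finSumFinEquiv (Equiv.refl T))
      map_mul' := fun a b => by
        funext i
        show Sum.elim (a.1 * b.1) (a.2 * b.2) (finSumFinEquiv.symm i) =
          Sum.elim a.1 a.2 (finSumFinEquiv.symm i) * Sum.elim b.1 b.2 (finSumFinEquiv.symm i)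
        cases finSumFinEquiv.symm i <;> rfl }
  subst hNVW
  exact Or.inr ⟨T, iT, m + m, by omega, hT, hTc, ⟨e.symm.trans ((MulEquiv.prodCongr eV (eW.symm.trans eV)).trans e2)⟩⟩

end Cfsg.Agent.S3680
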