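import Cfsg.Statements.S3683
import Mathlib

set_option autoImplicit false
open Cfsg

namespace Cfsg.Agent.S3683

/-- Let a finite group G act faithfully and primitively on a set Ω, and suppose the stabilizer of a point a fixes a second point b ≠ a (a suborbit of length 1 other than {a}). Then the stabilizer of a is trivial and G is cyclic of prime order. -/
theorem result {G Ω : Type*} [Group G] [Finite G] [MulAction G Ω] [FaithfulSMul G Ω] [Finite Ω]
    (hprim : MulAction.IsPreprimitive G Ω) (a b : Ω) (hab : a ≠ b) (hfix : ∀ g : G, g • a = a → g • b = b) :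
    MulAction.stabilizer G a = ⊥ ∧ IsCyclic G ∧ (Nat.card G).Prime := by
  haveI : Nontrivial Ω := ⟨⟨a, b, hab⟩⟩
  haveI := hprim
  have hco : IsCoatom (MulAction.stabilizer G a) :=
    MulAction.IsPreprimitive.isCoatom_stabilizer_of_isPreprimitive G a
  have hbtop : MulAction.stabilizer G b ≠ ⊤ := by
    intro h
    obtain ⟨g, hg⟩ := MulAction.exists_smul_eq G b a
    have : g • b = b := MulAction.mem_stabilizer_iff.mp (h ▸ Subgroup.mem_top g)
    exact hab (hg.symm.trans this)
  have heq : MulAction.stabilizer G b = MulAction.stabilizer G a :=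
    (hco.le_iff.mp (fun g hg => hfix g hg)).resolve_left hbtop
  obtain ⟨g, hg⟩ := MulAction.exists_smul_eq G a b
  have hgn : g ∈ Subgroup.normalizer ((MulAction.stabilizer G a : Subgroup G) : Set G) := by
    refine Subgroup.mem_normalizer_iff.mpr fun x => ?_
    conv_rhs => rw [← heq]
    rw [MulAction.mem_stabilizer_iff, MulAction.mem_stabilizer_iff, ← hg, mul_smul, mul_smul,
      inv_smul_smul, smul_left_cancel_iff]
  have hga : g ∉ MulAction.stabilizer G a := fun h => hab ((MulAction.mem_stabilizer_iff.mp h).symm.trans hg)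
  have htop : Subgroup.normalizer ((MulAction.stabilizer G a : Subgroup G) : Set G) = ⊤ :=
    (hco.le_iff.mp Subgroup.le_normalizer).resolve_right fun h => hga (h ▸ hgn)
  have hn : (MulAction.stabilizer G a).Normal := Subgroup.normalizer_eq_top_iff.mp htop
  have hbot : MulAction.stabilizer G a = ⊥ := by
    rw [eq_bot_iff]
    intro x hx
    rw [Subgroup.mem_bot]
    refine FaithfulSMul.eq_of_smul_eq_smul (α := Ω) fun ω => ?_
    obtain ⟨h, rfl⟩ := MulAction.exists_smul_eq G a ω
    rw [one_smul]
    have h1 : (h⁻¹ * x * h⁻¹⁻¹) • a = a := MulAction.mem_stabilizer_iff.mp (hn.conj_mem x hx h⁻¹)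
    rw [inv_inv, mul_smul, mul_smul, inv_smul_eq_iff] at h1
    exact h1
  rw [hbot] at hco
  have hcyc : ∀ x : G, x ≠ 1 → Subgroup.zpowers x = ⊤ := fun x hx =>
    (hco.le_iff.mp bot_le).resolve_right fun h => hx (Subgroup.zpowers_eq_bot.mp h)
  haveI : Nontrivial G := ⟨⟨g, 1, fun h => hga (h ▸ one_mem _)⟩⟩
  obtain ⟨x, hx⟩ := exists_ne (1 : G)
  refine ⟨hbot, ⟨x, fun y => by have := Subgroup.mem_top y; rwa [← hcyc x hx] at this⟩, ?_⟩
  have hp : (Nat.card G).minFac.Prime := Nat.minFac_prime Finite.one_lt_card.ne'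
  haveI := Fact.mk hp
  obtain ⟨y, hy⟩ := exists_prime_orderOf_dvd_card' (Nat.card G).minFac (Nat.minFac_dvd _)
  have hy1 : y ≠ 1 := fun h => hp.ne_one (by rw [← hy, h, orderOf_one])
  rw [← Subgroup.card_top, ← hcyc y hy1, Nat.card_zpowers, hy]
  exact hp

end Cfsg.Agent.S3683
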