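import Cfsg.Statements.S3684
import Mathlib
import Cfsg.Agent.Lib.Signalizer.Involutions

set_option autoImplicit false
open Cfsg

namespace Cfsg.Agent.S3684

/-- Let a finite group G act faithfully and primitively on a set Ω, and suppose the stabilizer of a point a has an orbit of length 2. Then the stabilizer of a has order 2 and G is isomorphic to the dihedral group of order 2p for some prime p. -/
theorem result {G Ω : Type*} [Group G] [Finite G] [MulAction G Ω] [FaithfulSMul G Ω] [Finite Ω]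
    (hprim : MulAction.IsPreprimitive G Ω) (a b : Ω) (h2 : Nat.card (MulAction.orbit (MulAction.stabilizer G a) b) = 2) :
    Nat.card (MulAction.stabilizer G a) = 2 ∧ ∃ p : ℕ, p.Prime ∧ Nonempty (G ≃* DihedralGroup p) := by
  classical
  haveI := hprim
  set A := MulAction.stabilizer G a with hA
  set B := MulAction.stabilizer G b with hB
  have hab : a ≠ b := by
    rintro rfl
    have h1 : Nat.card (MulAction.orbit A a) ≤ 1 := by
      refine (Finite.card_le_one_iff_subsingleton).mpr ⟨?_⟩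
      rintro ⟨_, g, rfl⟩ ⟨_, g', rfl⟩
      exact Subtype.ext ((MulAction.mem_stabilizer_iff.mp g.2).trans (MulAction.mem_stabilizer_iff.mp g'.2).symm)
    omega
  haveI : Nontrivial Ω := ⟨⟨a, b, hab⟩⟩
  have hco : IsCoatom A := MulAction.IsPreprimitive.isCoatom_stabilizer_of_isPreprimitive G a
  have hr : B.relIndex A = 2 := by
    show (B.subgroupOf A).index = 2
    have : MulAction.stabilizer A b = B.subgroupOf A := rfl
    rw [← this, MulAction.index_stabilizer, ← Nat.card_coe_set_eq, h2]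
  obtain ⟨g, hg⟩ := MulAction.exists_smul_eq G a b
  have hcard : Nat.card B = Nat.card A := by
    rw [hB, ← hg, MulAction.stabilizer_smul_eq_stabilizer_map_conj,
      Subgroup.card_map_of_injective (MulAut.conj g).injective]
  have hmul : ∀ H : Subgroup G, A ⊓ B ≤ H → Nat.card (A ⊓ B : Subgroup G) * (A ⊓ B).relIndex H = Nat.card H := by
    intro H h
    simpa [Subgroup.relIndex_bot_left] using Subgroup.relIndex_mul_relIndex ⊥ (A ⊓ B) H bot_le h
  have hrA : (A ⊓ B).relIndex A = 2 := by rw [Subgroup.inf_relIndex_left, hr]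
  have hrB : (A ⊓ B).relIndex B = 2 := by
    have h1 := hmul A inf_le_left
    have h2' := hmul B inf_le_right
    rw [hrA] at h1
    rw [hcard, ← h1] at h2'
    exact Nat.eq_of_mul_eq_mul_left Nat.card_pos h2'
  have hnA : A ≤ Subgroup.normalizer ((A ⊓ B : Subgroup G) : Set G) :=
    (Subgroup.normal_subgroupOf_iff_le_normalizer inf_le_left).mp (Subgroup.normal_of_index_eq_two hrA)
  have hnB : B ≤ Subgroup.normalizer ((A ⊓ B : Subgroup G) : Set G) :=
    (Subgroup.normal_subgroupOf_iff_le_normalizer inf_le_right).mp (Subgroup.normal_of_index_eq_two hrB)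
  have hsup : A ⊔ B = ⊤ := by
    refine (hco.le_iff.mp le_sup_left).resolve_right fun h => ?_
    have hle : B ≤ A := le_sup_right.trans h.le
    have : (A ⊓ B).relIndex B = 1 := Subgroup.relIndex_eq_one.mpr (le_inf hle le_rfl)
    omega
  have hn : (A ⊓ B : Subgroup G).Normal :=
    Subgroup.normalizer_eq_top_iff.mp (top_le_iff.mp (hsup ▸ sup_le hnA hnB))
  have hbot : A ⊓ B = ⊥ := by
    rw [eq_bot_iff]
    intro x hx
    rw [Subgroup.mem_bot]
    refine FaithfulSMul.eq_of_smul_eq_smul (α := Ω) fun ω => ?_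
    obtain ⟨h, rfl⟩ := MulAction.exists_smul_eq G a ω
    rw [one_smul]
    have h1 : (h⁻¹ * x * h⁻¹⁻¹) • a = a := MulAction.mem_stabilizer_iff.mp (hn.conj_mem x hx h⁻¹).1
    rw [inv_inv, mul_smul, mul_smul, inv_smul_eq_iff] at h1
    exact h1
  have hA2 : Nat.card A = 2 := by rw [← hmul A inf_le_left, hrA, hbot, Subgroup.card_bot]
  refine ⟨hA2, ?_⟩
  have hgen : ∀ H : Subgroup G, Nat.card H = 2 → ∃ s, orderOf s = 2 ∧ H = Subgroup.zpowers s := by
    intro H hH
    haveI := Fact.mk Nat.prime_two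
    obtain ⟨x, hx⟩ := exists_prime_orderOf_dvd_card' (G := H) 2 (by rw [hH])
    refine ⟨x, by rw [Subgroup.orderOf_coe]; exact hx, (Subgroup.eq_of_le_of_card_ge (Subgroup.zpowers_le.mpr x.2) ?_).symm⟩
    rw [hH, Nat.card_zpowers, Subgroup.orderOf_coe, hx]
  obtain ⟨s, hs, hsA⟩ := hgen A hA2
  obtain ⟨t, ht, htB⟩ := hgen B (hcard.trans hA2)
  obtain ⟨f, hf, hrange⟩ := CfsgLib.Signalizer.exists_dihedral_hom hs ht
  have hclo : Subgroup.closure ({s, t} : Set G) = ⊤ := by
    rw [← hsup, hsA, htB, Subgroup.zpowers_eq_closure, Subgroup.zpowers_eq_closure, ← Subgroup.closure_union,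
      Set.insert_eq]
  rw [hclo] at hrange
  let e := MulEquiv.ofBijective f ⟨hf, MonoidHom.range_eq_top.mp hrange⟩
  set n := orderOf (s * t) with hn'
  refine ⟨n, ?_, ⟨e.symm⟩⟩
  have hne : s ≠ t := by
    intro h
    subst h
    rw [← htB] at hsA
    rw [hsA, inf_idem] at hrB hrA
    simp at hrA
  have hn1 : n ≠ 1 := by
    intro h
    rw [hn', orderOf_eq_one_iff] at h
    apply hne
    rw [eq_inv_of_mul_eq_one_left h, CfsgLib.Signalizer.involution_inv ht]
  have hn0 : n ≠ 0 := (orderOf_pos _).ne'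
  haveI : NeZero n := ⟨hn0⟩
  have hcardG : Nat.card G = 2 * n := by rw [← Nat.card_congr e.toEquiv, DihedralGroup.nat_card]
  refine Nat.prime_def_minFac.mpr ⟨by omega, ?_⟩
  by_contra hlt
  have hp := Nat.minFac_prime hn1
  obtain ⟨m, hm⟩ := Nat.minFac_dvd n
  set p := n.minFac
  have hpow : orderOf ((s * t) ^ p) = m := by
    rw [orderOf_pow' _ hp.ne_zero, ← hn', Nat.gcd_eq_right ⟨m, hm⟩]
    conv_lhs => rw [hm]
    rw [Nat.mul_div_cancel_left _ hp.pos]
  set W := Subgroup.zpowers ((s * t) ^ p) with hW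
  have hsW : A ≤ Subgroup.normalizer (W : Set G) := by
    rw [hsA, Subgroup.zpowers_le, Subgroup.mem_normalizer_iff]
    have hinv : ∀ x ∈ W, s * x * s⁻¹ = x⁻¹ := by
      intro x hx
      obtain ⟨k, hk⟩ := Subgroup.mem_zpowers_iff.mp hx
      rw [← hk, ← zpow_natCast, ← zpow_mul]
      exact CfsgLib.Signalizer.conj_zpow_of_inverts
        (CfsgLib.Signalizer.conj_mul_eq_inv hs ht) _ |>.trans (by rw [zpow_neg])
    intro x
    constructor
    · intro hx; rw [hinv x hx]; exact W.inv_mem hx
    · intro hx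
      have := hinv _ hx
      rw [show s * (s * x * s⁻¹) * s⁻¹ = (s * s) * x * (s * s)⁻¹ by simp [mul_assoc],
        CfsgLib.Signalizer.involution_sq hs, inv_one, one_mul, mul_one] at this
      rw [this]; exact W.inv_mem hx
  rcases hco.le_iff.mp (le_sup_left : A ≤ A ⊔ W) with h | h
  · have hle : Nat.card ↥(A ⊔ W) ≤ Nat.card A * Nat.card W := by
      show Nat.card ((A ⊔ W : Subgroup G) : Set G) ≤ _
      rw [Subgroup.coe_mul_of_left_le_normalizer_right A W hsW]
      exact Set.natCard_mul_le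
    rw [h, Subgroup.card_top, hcardG, hA2, hW, Nat.card_zpowers, hpow] at hle
    have : 2 * m ≤ p * m := Nat.mul_le_mul_right m hp.two_le
    have : 0 < m := Nat.pos_of_ne_zero fun h0 => hn0 (by rw [hm, h0, mul_zero])
    omega
  · have hwA : (s * t) ^ p ∈ A := h.le ((le_sup_right : W ≤ A ⊔ W) (Subgroup.mem_zpowers _))
    rw [hsA] at hwA
    obtain ⟨k, hk⟩ := Subgroup.mem_zpowers_iff.mp hwA
    rcases Int.even_or_odd k with ⟨c, rfl⟩ | ⟨c, rfl⟩
    · rw [← two_mul, zpow_mul, zpow_two, CfsgLib.Signalizer.involution_sq hs, one_zpow] at hk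
      rw [← hk, orderOf_one] at hpow
      rw [← hpow, mul_one] at hm
      exact hlt hm.symm
    · rw [zpow_add, zpow_mul, zpow_two, CfsgLib.Signalizer.involution_sq hs, one_zpow, one_mul, zpow_one] at hk
      apply CfsgLib.Signalizer.left_not_mem_zpowers hs ht
      have : (s * t) ^ p ∈ Subgroup.zpowers (s * t) := pow_mem (Subgroup.mem_zpowers _) p
      rwa [← hk] at this

end Cfsg.Agent.S3684
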