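import Cfsg.Statements.S3686
import Cfsg.Agent.S3685
import Cfsg.Agent.Lib.Perm.SuborbitThree.CaseTwelve
import Cfsg.Agent.Lib.Perm.SuborbitThree.CaseFour
import Cfsg.Agent.Lib.Perm.SuborbitThree.CaseFourTwo
import Cfsg.Agent.Lib.Known.GLFourTwoFacts

set_option autoImplicit false
set_option linter.style.haveILetI false
open Cfsg

namespace Cfsg.Agent.S3686

/-- Let G be a finite insoluble group acting faithfully and primitively on a set Ω so that the stabilizer of a point a has an orbit of length 3. Then G is isomorphic to one of: the alternating or the symmetric group of degree 5, PGL(2, 7), PSL(2, 11), PSL(2, 13), PSL(2, p) for a prime p ≡ ±1 (mod 16), PSL(3, 3), or a group containing a normal subgroup of index 2 isomorphic to PSL(3, 3) with trivial centralizer. -/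
theorem result {G Ω : Type*} [Group G] [Finite G] [MulAction G Ω] [FaithfulSMul G Ω] [Finite Ω]
    (hsol : ¬ Group.IsSolvable G) (hprim : MulAction.IsPreprimitive G Ω) (a b : Ω) (h3 : Nat.card (MulAction.orbit (MulAction.stabilizer G a) b) = 3) :
    Nonempty (G ≃* alternatingGroup (Fin 5)) ∨ Nonempty (G ≃* Equiv.Perm (Fin 5)) ∨
      Nonempty (G ≃* GL (Fin 2) (ZMod 7) ⧸ Subgroup.center (GL (Fin 2) (ZMod 7))) ∨
      Nonempty (G ≃* Matrix.ProjectiveSpecialLinearGroup (Fin 2) (ZMod 11)) ∨
      Nonempty (G ≃* Matrix.ProjectiveSpecialLinearGroup (Fin 2) (ZMod 13)) ∨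
      (∃ p : ℕ, p.Prime ∧ (p % 16 = 1 ∨ p % 16 = 15) ∧ Nonempty (G ≃* Matrix.ProjectiveSpecialLinearGroup (Fin 2) (ZMod p))) ∨
      Nonempty (G ≃* Matrix.ProjectiveSpecialLinearGroup (Fin 3) (ZMod 3)) ∨
      (∃ N : Subgroup G, N.Normal ∧ N.index = 2 ∧ Subgroup.centralizer (N : Set G) = ⊥ ∧
        Nonempty (N ≃* Matrix.ProjectiveSpecialLinearGroup (Fin 3) (ZMod 3))) := by
  classical
  haveI := hprim
  haveI : Nontrivial Ω := by
    by_contra hns
    rw [not_nontrivial_iff_subsingleton] at hns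
    have := Finite.card_le_one_iff_subsingleton.2 (inferInstance :
      Subsingleton (MulAction.orbit (MulAction.stabilizer G a) b))
    omega
  have hcases := Cfsg.Agent.S3685.result hprim a b h3
  set H := MulAction.stabilizer G a with hH
  have hsolv : Group.IsSolvable H := by
    have key : ∀ (X : Type) [Group X] [Finite X], Nat.card X < 60 → (H ≃* X) → Group.IsSolvable H := by
      intro X _ _ hX e
      haveI := CfsgLib.Known.GLFourTwo.isSolvable_of_card_lt_sixty _ X rfl hX
      exact Group.isSolvable_of_isSolvable_injective (f := e.toMonoidHom) e.injective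
    rcases hcases with ⟨⟨e⟩⟩ | ⟨⟨e⟩⟩ | ⟨⟨e⟩⟩ | ⟨⟨e⟩⟩ | ⟨⟨e⟩⟩
    · exact key _ (by rw [Nat.card_congr Multiplicative.toAdd, Nat.card_zmod]; norm_num) e
    · exact key _ (by rw [Nat.card_perm, Nat.card_fin]; decide) e
    · exact key _ (by rw [DihedralGroup.nat_card]; norm_num) e
    · exact key _ (by rw [Nat.card_perm, Nat.card_fin]; decide) e
    · exact key _ (by rw [CfsgLib.Perm.SuborbitThree.card_ft]; norm_num) e
  have hmate : ∃ g : G, Nat.card H = 3 * Nat.card ↥(H ⊓ H.map (MulAut.conj g).toMonoidHom) := by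
    obtain ⟨g, hg⟩ := MulAction.exists_smul_eq G a b
    refine ⟨g, ?_⟩
    rw [← CfsgLib.SuborbitKernel.stabilizer_conj, hg]
    rw [CfsgLib.SuborbitKernel.card_orbit_eq_relIndex, Subgroup.relIndex] at h3
    have h := Subgroup.card_mul_index ((MulAction.stabilizer G b).subgroupOf H)
    rw [h3, ← Subgroup.inf_subgroupOf_left,
      Nat.card_congr (Subgroup.subgroupOfEquivOfLe inf_le_left).toEquiv] at h
    omega
  have hs : CfsgLib.Perm.SuborbitThree.Setting H :=
    ⟨MulAction.IsPreprimitive.isCoatom_stabilizer_of_isPreprimitive G a,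
      CfsgLib.SuborbitKernel.normClosed_stabilizer a, hsol, hsolv, hmate⟩
  rcases hcases with ⟨⟨e⟩⟩ | ⟨⟨e⟩⟩ | ⟨⟨e⟩⟩ | ⟨⟨e⟩⟩ | ⟨⟨e⟩⟩
  · left
    have hc : Nat.card H = 3 := by
      rw [Nat.card_congr e.toEquiv, Nat.card_congr Multiplicative.toAdd, Nat.card_zmod]
    exact CfsgLib.Perm.SuborbitThree.case_three hs le_rfl hc Subgroup.le_normalizer
      (fun h hh _ => hh) (Or.inl hc)
  · left
    set ι : Equiv.Perm (Fin 3) →* G := H.subtype.comp e.symm.toMonoidHom with hι
    have hιi : Function.Injective ι := H.subtype_injective.comp e.symm.injective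
    have hιH : ∀ h ∈ H, ∃ x, ι x = h := fun h hh => ⟨e ⟨h, hh⟩, by simp [hι]⟩
    refine CfsgLib.Perm.SuborbitThree.case_three (X := (alternatingGroup (Fin 3)).map ι) hs ?_ ?_ ?_ ?_
      (Or.inr (by rw [Nat.card_congr e.toEquiv, Nat.card_perm, Nat.card_fin]; rfl))
    · rintro _ ⟨x, -, rfl⟩
      exact (e.symm x).2
    · rw [Subgroup.card_map_of_injective hιi, nat_card_alternatingGroup, Nat.card_fin]
      rfl
    · intro h hh
      obtain ⟨x, rfl⟩ := hιH h hh
      refine Subgroup.le_normalizer_map ι (Subgroup.mem_map_of_mem ι ?_)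
      rw [Subgroup.normalizer_eq_top]
      exact Subgroup.mem_top x
    · intro h hh hc
      obtain ⟨x, rfl⟩ := hιH h hh
      refine Subgroup.mem_map_of_mem ι (Equiv.Perm.mem_alternatingGroup.2 ?_)
      have key : ∀ x : Equiv.Perm (Fin 3), x * finRotate 3 = finRotate 3 * x → Equiv.Perm.sign x = 1 := by
        decide +kernel
      refine key x (hιi ?_)
      rw [map_mul, map_mul]
      exact (Subgroup.mem_centralizer_iff.1 hc _ (Subgroup.mem_map_of_mem ι
        (Equiv.Perm.mem_alternatingGroup.2 (by decide +kernel)))).symm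
  · rcases CfsgLib.Perm.SuborbitThree.case_twelve hs e with h | h | h | h
    · exact Or.inr (Or.inl h)
    · exact Or.inr (Or.inr (Or.inl h))
    · exact Or.inr (Or.inr (Or.inr (Or.inl h)))
    · exact Or.inr (Or.inr (Or.inr (Or.inr (Or.inl h))))
  · rcases CfsgLib.Perm.SuborbitThree.case_four hs e with h | h
    · exact Or.inr (Or.inr (Or.inr (Or.inr (Or.inr (Or.inl h)))))
    · exact Or.inr (Or.inr (Or.inr (Or.inr (Or.inr (Or.inr (Or.inl h))))))
  · exact Or.inr (Or.inr (Or.inr (Or.inr (Or.inr (Or.inr (Or.inr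
      (CfsgLib.Perm.SuborbitThree.case_four_two hs e)))))))

end Cfsg.Agent.S3686
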