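import Cfsg.Statements.S3693
import Cfsg.Agent.Lib.Perm.SuborbitKernel

set_option autoImplicit false
set_option linter.style.haveILetI false
open Cfsg
open scoped Pointwise

namespace Cfsg.Agent.S3693

/-- Let a finite group G act faithfully and primitively on a set Ω, let a and b be points such that the orbit Δ of b under the stabilizer H of a has length d ≥ 2, and consider the permutation group induced on Δ by the elements of H fixing b. If that induced group has trivial Fitting subgroup (no non-trivial nilpotent normal subgroup), then the two-point stabilizer of a and b has trivial Fitting subgroup and the order of H divides d! · ((d - 1)!)^d. -/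
theorem result {G Ω : Type*} [Group G] [Finite G] [MulAction G Ω] [FaithfulSMul G Ω] [Finite Ω]
    (hprim : MulAction.IsPreprimitive G Ω) (a b : Ω) (d : ℕ) (hd : Nat.card (MulAction.orbit (MulAction.stabilizer G a) b) = d) (h2 : 2 ≤ d)
    (hF : Cfsg.fittingSubgroup ↥(((MulAction.stabilizer G b).subgroupOf (MulAction.stabilizer G a)).map (MulAction.toPermHom (MulAction.stabilizer G a) (MulAction.orbit (MulAction.stabilizer G a) b))) = ⊥) :
    Cfsg.fittingSubgroup ↥(MulAction.stabilizer G a ⊓ MulAction.stabilizer G b) = ⊥ ∧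
      Nat.card (MulAction.stabilizer G a) ∣ Nat.factorial d * (Nat.factorial (d - 1)) ^ d := by
  haveI := hprim
  classical
  set A := MulAction.stabilizer G a with hA
  set B := MulAction.stabilizer G b with hB
  set f := MulAction.toPermHom A (MulAction.orbit A b)
  -- every normal `r`-subgroup of the two-point stabilizer fixes the suborbit pointwise
  have hcore : ∀ U : Subgroup G, ∀ r : ℕ, r.Prime → U ≤ A ⊓ B →
      A ⊓ B ≤ Subgroup.normalizer (U : Set G) → IsPGroup r U →
      U ≤ CfsgLib.ThompsonWielandt.coreIn A B := by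
    intro U r hr hU hn hp u hu
    haveI := Fact.mk hr
    refine ⟨(hU hu).1, fun k hk => MulAction.mem_stabilizer_iff.2 ?_⟩
    set M := (B.subgroupOf A).map f
    have hN : (((U.subgroupOf A).map f).subgroupOf M).Normal := by
      refine ⟨?_⟩
      rintro ⟨_, _⟩ ⟨x, hx, hxe⟩ ⟨_, ⟨c, hc, rfl⟩⟩
      refine ⟨c * x * c⁻¹, ?_, ?_⟩
      · exact (Subgroup.mem_normalizer_iff.1 (hn ⟨c.2, hc⟩) (x : G)).1 hx
      · simp only [map_mul, map_inv, hxe]
        rfl
    have hnil : Group.IsNilpotent ↥(((U.subgroupOf A).map f).subgroupOf M) :=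
      (((hp.comap_of_injective A.subtype A.subtype_injective).map f).comap_of_injective
        M.subtype M.subtype_injective).isNilpotent
    have hbot := hF ▸ CfsgLib.Components.le_fitting hN hnil
    have h1 : f ⟨u, (hU hu).1⟩ = 1 := by
      have hm : f ⟨u, (hU hu).1⟩ ∈ M := ⟨_, (hU hu).2, rfl⟩
      have h3 : (⟨_, hm⟩ : M) ∈ ((U.subgroupOf A).map f).subgroupOf M := ⟨_, hu, rfl⟩
      exact congrArg Subtype.val (Subgroup.mem_bot.1 (hbot h3))
    have h4 := congrArg (fun σ : Equiv.Perm (MulAction.orbit A b) =>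
      ((σ ⟨k⁻¹ • b, ⟨⟨k⁻¹, A.inv_mem hk⟩, rfl⟩⟩ : MulAction.orbit A b) : Ω)) h1
    have h5 : u • k⁻¹ • b = k⁻¹ • b := h4
    rw [mul_smul, mul_smul, h5, smul_inv_smul]
  haveI : Nontrivial Ω := by
    by_contra hns
    rw [not_nontrivial_iff_subsingleton] at hns
    have := Finite.card_le_one_iff_subsingleton.2 (inferInstance :
      Subsingleton (MulAction.orbit A b))
    omega
  have hAc := CfsgLib.SuborbitKernel.normClosed_stabilizer (G := G) a
  have hbot : ∀ r : ℕ, r.Prime → Cfsg.pCoreOf r (A ⊓ B) = ⊥ := by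
    intro r hr
    haveI := Fact.mk hr
    set U := Cfsg.pCoreOf r (A ⊓ B) with hUdef
    have hUK : U ≤ A ⊓ B := Subgroup.map_subtype_le _
    have hKn := CfsgLib.LocalEvenB.le_normalizer_pCoreOf (p := r) (A ⊓ B)
    have hUp : IsPGroup r U := CfsgLib.LocalEvenB.isPGroup_pCoreOf _
    set H := CfsgLib.ThompsonWielandt.coreIn A B
    have hUH : U ≤ H := hcore U r hr hUK hKn hUp
    have hHK : H ≤ A ⊓ B := le_inf CfsgLib.ThompsonWielandt.coreIn_le_left
      CfsgLib.ThompsonWielandt.coreIn_le_right
    -- `U = O_r(H)` is normal in `A`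
    have hHn : A ≤ Subgroup.normalizer (Cfsg.pCoreOf r H : Set G) := by
      intro k hk
      have hkH := (CfsgLib.ThompsonWielandt.le_normalizer_coreIn (A := A) (B := B) hk)
      refine CfsgLib.ThompsonWielandt.mem_normalizer_of_conj ?_
      rintro _ ⟨y, hy, rfl⟩
      let e : H ≃* H :=
        { toFun := fun z => ⟨k * z * k⁻¹, (Subgroup.mem_normalizer_iff.1 hkH _).1 z.2⟩
          invFun := fun z => ⟨k⁻¹ * z * k, by
            simpa using (Subgroup.mem_normalizer_iff.1
              ((Subgroup.normalizer _).inv_mem hkH) _).1 z.2⟩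
          left_inv := fun z => Subtype.ext (by simp [mul_assoc])
          right_inv := fun z => Subtype.ext (by simp [mul_assoc])
          map_mul' := fun z w => Subtype.ext (by simp [mul_assoc]) }
      refine ⟨e y, ?_, rfl⟩
      rw [← CfsgLib.Core.map_equiv_pCore (p := r) e]
      exact ⟨y, hy, rfl⟩
    have hUe : U = Cfsg.pCoreOf r H :=
      le_antisymm (CfsgLib.LocalEvenB.le_pCoreOf hUH hUp (hHK.trans hKn))
        (CfsgLib.LocalEvenB.le_pCoreOf ((Subgroup.map_subtype_le _).trans hHK)
          (CfsgLib.LocalEvenB.isPGroup_pCoreOf _) (inf_le_left.trans hHn))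
    have hAU : A ≤ Subgroup.normalizer (U : Set G) := hUe ▸ hHn
    by_contra hne
    obtain ⟨g, hg⟩ := MulAction.exists_smul_eq G a b
    set U' := U.map (MulAut.conj g).toMonoidHom with hU'
    have hBe : B = A.map (MulAut.conj g).toMonoidHom := by
      rw [hB, ← hg]
      exact MulAction.stabilizer_smul_eq_stabilizer_map_conj g a
    have hU'B : U' ≤ B := hBe ▸ Subgroup.map_mono (hUK.trans inf_le_left)
    have hBn : B ≤ Subgroup.normalizer (U' : Set G) := by
      rw [hBe]
      exact (Subgroup.map_mono hAU).trans (Subgroup.le_normalizer_map _)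
    have hUU' : U ≤ Subgroup.normalizer (U' : Set G) := (hUK.trans inf_le_right).trans hBn
    have hS : IsPGroup r (U' ⊔ U : Subgroup G) :=
      IsPGroup.to_sup_of_normal_left' (hUp.map _) hUp hUU'
    have hNU := hAc U (hUK.trans inf_le_left) hAU hne
    have hT : U' ⊓ A ≤ U := CfsgLib.LocalEvenB.le_pCoreOf
      (le_inf inf_le_right (inf_le_left.trans hU'B)) ((hUp.map _).to_le inf_le_left)
      fun k hk => CfsgLib.ThompsonWielandt.mem_normalizer_of_conj fun t ht =>
        ⟨(Subgroup.mem_normalizer_iff.1 (hBn hk.2) t).1 ht.1,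
          A.mul_mem (A.mul_mem hk.1 ht.2) (A.inv_mem hk.1)⟩
    have heq : U = U' ⊔ U := by
      refine CfsgLib.ThompsonWielandt.eq_of_normalizer_inf_le hS le_sup_right ?_
      rintro x ⟨hxS, hxN⟩
      have hxS' : x ∈ (U' : Set G) * (U : Set G) :=
        Subgroup.coe_mul_of_right_le_normalizer_left U' U hUU' ▸ hxS
      obtain ⟨u, hu, v, hv, rfl⟩ := Set.mem_mul.1 hxS'
      exact U.mul_mem (hT ⟨hu, (A.mul_mem_cancel_right ((hUK hv).1)).1 (hNU hxN)⟩) hv
    have hUeq : U' = U := Subgroup.eq_of_le_of_card_ge (heq ▸ le_sup_left)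
      (Nat.card_congr (U.equivMapOfInjective _ (MulAut.conj g).injective).toEquiv).le
    have hBA : B ≤ A := (hUeq ▸ hBn : B ≤ Subgroup.normalizer (U : Set G)).trans hNU
    exact CfsgLib.SuborbitKernel.not_le_of_two_le
      (((CfsgLib.SuborbitKernel.card_orbit_symm a b).trans hd).symm ▸ h2) hBA
  have hbot' : ∀ r : ℕ, r.Prime → Cfsg.pCore r ↥(A ⊓ B) = ⊥ := fun r hr =>
    (Subgroup.map_eq_bot_iff_of_injective _ (A ⊓ B).subtype_injective).1 (hbot r hr)
  refine ⟨?_, ?_⟩
  · rw [CfsgLib.Core.fittingSubgroup_eq_iSup_pCore]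
    exact iSup_eq_bot.2 fun q => hbot' q q.2
  · rcases CfsgLib.SuborbitKernel.main hd h2 with h | ⟨p, hp, -, S, hS, hn, hSp, h⟩
    · exact h
    · have hle := CfsgLib.LocalEvenB.le_pCoreOf hS hSp (inf_le_left.trans hn)
      rw [hbot p hp, le_bot_iff] at hle
      rwa [hle, Subgroup.card_bot, mul_one] at h

end Cfsg.Agent.S3693
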