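import Cfsg.Statements.S3687
import Cfsg.Agent.S3693
import Cfsg.Agent.Lib.Perm.AltSuborbitPerm

set_option autoImplicit false
set_option linter.style.haveILetI false
set_option maxHeartbeats 1000000
open Cfsg

namespace Cfsg.Agent.S3687

/-- Let a finite group G act faithfully and primitively on a set Ω, let a and b be points such that the orbit Δ of b under the stabilizer H of a has d ≥ 6 elements, and suppose that the permutation group induced by H on Δ contains the alternating group of Δ (the image of H in the symmetric group of Δ has index at most 2) while H does not act faithfully on Δ. Then either H induces exactly the alternating group of Δ and H is isomorphic to the direct product of the alternating groups of degrees d and d - 1; or H induces the full symmetric group of Δ and H is isomorphic to one of: the direct product of the symmetric groups of degrees d and d - 1, the direct product of the symmetric group of degree d with the alternating group of degree d - 1, or the subgroup of the direct product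 of the symmetric groups of degrees d and d - 1 consisting of the pairs of permutations with equal signs. -/
theorem result {G Ω : Type*} [Group G] [Finite G] [MulAction G Ω] [FaithfulSMul G Ω] [Finite Ω]
    (hprim : MulAction.IsPreprimitive G Ω) (a b : Ω) (d : ℕ) (hd : Nat.card (MulAction.orbit (MulAction.stabilizer G a) b) = d) (h6 : 6 ≤ d)
    (halt : (MulAction.toPermHom (MulAction.stabilizer G a) (MulAction.orbit (MulAction.stabilizer G a) b)).range.index ≤ 2)
    (hunf : ¬ Function.Injective (MulAction.toPermHom (MulAction.stabilizer G a) (MulAction.orbit (MulAction.stabilizer G a) b))) :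
    ((MulAction.toPermHom (MulAction.stabilizer G a) (MulAction.orbit (MulAction.stabilizer G a) b)).range.index = 2 ∧
      Nonempty (MulAction.stabilizer G a ≃* alternatingGroup (Fin d) × alternatingGroup (Fin (d - 1)))) ∨
    ((MulAction.toPermHom (MulAction.stabilizer G a) (MulAction.orbit (MulAction.stabilizer G a) b)).range = ⊤ ∧
      (Nonempty (MulAction.stabilizer G a ≃* Equiv.Perm (Fin d) × Equiv.Perm (Fin (d - 1))) ∨
       Nonempty (MulAction.stabilizer G a ≃* Equiv.Perm (Fin d) × alternatingGroup (Fin (d - 1))) ∨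
       Nonempty (MulAction.stabilizer G a ≃* ((Equiv.Perm.sign.comp (MonoidHom.fst (Equiv.Perm (Fin d)) (Equiv.Perm (Fin (d - 1))))) *
         (Equiv.Perm.sign.comp (MonoidHom.snd (Equiv.Perm (Fin d)) (Equiv.Perm (Fin (d - 1)))))).ker))) := by
  haveI := hprim
  classical
  set A := MulAction.stabilizer G a with hAdef
  set B := MulAction.stabilizer G b with hBdef
  obtain ⟨n, rfl⟩ : ∃ n, d = n + 1 := ⟨d - 1, by omega⟩
  rw [Nat.add_sub_cancel]
  have h5 : 5 ≤ n := by omega
  haveI : Nontrivial Ω := by
    by_contra hns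
    rw [not_nontrivial_iff_subsingleton] at hns
    have := Finite.card_le_one_iff_subsingleton.2 (inferInstance :
      Subsingleton (MulAction.orbit A b))
    omega
  have hsym : Nat.card (MulAction.orbit B a) = n + 1 :=
    (CfsgLib.SuborbitKernel.card_orbit_symm a b).trans hd
  have hA := CfsgLib.SuborbitKernel.normClosed_stabilizer (G := G) a
  have hB := CfsgLib.SuborbitKernel.normClosed_stabilizer (G := G) b
  have hBA : ¬ B ≤ A := CfsgLib.SuborbitKernel.not_le_of_two_le
    (show 2 ≤ Nat.card (MulAction.orbit B a) by omega)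
  have hAB : ¬ A ≤ B := CfsgLib.SuborbitKernel.not_le_of_two_le
    (show 2 ≤ Nat.card (MulAction.orbit A b) by omega)
  let K : Subgroup G := A ⊓ B
  have hKA : K ≤ A := inf_le_left
  have hKB : K ≤ B := inf_le_right
  -- the action on the suborbit, numbered
  let e := Finite.equivFinOfCardEq hd
  obtain ⟨f, hf⟩ : ∃ f : A →* Equiv.Perm (Fin (n + 1)), ∀ z, f z =
      e.permCongrHom (MulAction.toPermHom A (MulAction.orbit A b) z) :=
    ⟨(e.permCongrHom.toMonoidHom).comp (MulAction.toPermHom A (MulAction.orbit A b)), fun _ => rfl⟩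
  let pt := e ⟨b, MulAction.mem_orbit_self b⟩
  have hstab : ∀ z : A, f z pt = pt ↔ (z : G) ∈ B := by
    intro z
    rw [hf]
    show e (z • (e.symm (e ⟨b, MulAction.mem_orbit_self b⟩))) = e _ ↔ _
    rw [Equiv.symm_apply_apply, e.injective.eq_iff]
    exact ⟨fun h => MulAction.mem_stabilizer_iff.2 (congrArg Subtype.val h),
      fun h => Subtype.ext (MulAction.mem_stabilizer_iff.1 h)⟩
  have hfrange : f.range =
      (MulAction.toPermHom A (MulAction.orbit A b)).range.map e.permCongrHom.toMonoidHom := by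
    ext σ
    constructor
    · rintro ⟨z, rfl⟩; exact ⟨_, ⟨z, rfl⟩, (hf z).symm⟩
    · rintro ⟨_, ⟨z, rfl⟩, rfl⟩; exact ⟨z, hf z⟩
  have hfidx : f.range.index = (MulAction.toPermHom A (MulAction.orbit A b)).range.index := by
    rw [hfrange]
    exact Subgroup.index_map_equiv _ e.permCongrHom
  have hidx2 : f.range.index ≤ 2 := hfidx ▸ halt
  have hfalt : alternatingGroup (Fin (n + 1)) ≤ f.range :=
    Equiv.Perm.alternatingGroup_le_of_index_le_two hidx2
  set H := CfsgLib.ThompsonWielandt.coreIn A B with hH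
  have hHK : H ≤ K :=
    le_inf CfsgLib.ThompsonWielandt.coreIn_le_left CfsgLib.ThompsonWielandt.coreIn_le_right
  have hkerf : f.ker.map A.subtype = H := by
    ext z
    constructor
    · rintro ⟨z, hz, rfl⟩
      refine ⟨z.2, fun k hk => MulAction.mem_stabilizer_iff.2 ?_⟩
      have h1 : MulAction.toPermHom A (MulAction.orbit A b) z = 1 :=
        e.permCongrHom.injective (((hf z).symm.trans hz).trans (map_one _).symm)
      have h2 : (z : G) • k⁻¹ • b = k⁻¹ • b := congrArg Subtype.val
        (congrArg (fun σ : Equiv.Perm (MulAction.orbit A b) =>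
          σ ⟨k⁻¹ • b, ⟨⟨k⁻¹, A.inv_mem hk⟩, rfl⟩⟩) h1)
      show (k * (z : G) * k⁻¹) • b = b
      rw [mul_smul, mul_smul, h2, smul_inv_smul]
    · intro hz
      refine ⟨⟨z, hz.1⟩, ?_, rfl⟩
      show f ⟨z, hz.1⟩ = 1
      rw [hf, show MulAction.toPermHom A (MulAction.orbit A b) ⟨z, hz.1⟩ = 1 from ?_, map_one]
      ext ⟨y, ⟨l, hl⟩, hly⟩
      have h1 := MulAction.mem_stabilizer_iff.1 (hz.2 l⁻¹ (A.inv_mem hl))
      rw [inv_inv, mul_smul, mul_smul, inv_smul_eq_iff] at h1
      have hly' : l • b = y := hly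
      show z • y = y
      rw [← hly']
      exact h1
  have hHne : H ≠ ⊥ := by
    intro hb
    rw [← hkerf, Subgroup.map_eq_bot_iff_of_injective _ A.subtype_injective] at hb
    refine hunf fun x y hxy => (MonoidHom.ker_eq_bot_iff f).1 hb ?_
    rw [hf, hf, hxy]
  -- orders
  have hcA : Nat.card A = Nat.card H * Nat.card f.range := by
    have h1 := Subgroup.card_mul_index f.ker
    rw [Subgroup.index_ker, ← Subgroup.card_map_of_injective A.subtype_injective, hkerf] at h1
    exact h1.symm
  have hcAK : Nat.card A = Nat.card K * (n + 1) := by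
    have h1 := Subgroup.card_mul_index (B.subgroupOf A)
    rw [← Subgroup.inf_subgroupOf_left,
      Nat.card_congr (Subgroup.subgroupOfEquivOfLe inf_le_left).toEquiv,
      Subgroup.inf_subgroupOf_left] at h1
    rw [← hd, CfsgLib.SuborbitKernel.card_orbit_eq_relIndex, Subgroup.relIndex]
    exact h1.symm
  have hcR : f.range.index * Nat.card f.range = Nat.factorial (n + 1) := by
    rw [mul_comm, Subgroup.card_mul_index, Nat.card_perm, Nat.card_fin]
  -- the range of a two-point action with kernel of the order of `H`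
  have hrng : ∀ ρ : K →* Equiv.Perm (Fin n), Nat.card ρ.ker = Nat.card H →
      Nat.card ρ.range * (n + 1) = Nat.card f.range ∧ alternatingGroup (Fin n) ≤ ρ.range := by
    intro ρ hρ
    have h1 := Subgroup.card_mul_index ρ.ker
    rw [Subgroup.index_ker, hρ] at h1
    have h2 : Nat.card ρ.range * (n + 1) = Nat.card f.range := by
      have h3 := hcAK
      rw [hcA, ← h1, mul_assoc] at h3
      exact (Nat.eq_of_mul_eq_mul_left Nat.card_pos h3).symm
    refine ⟨h2, Equiv.Perm.alternatingGroup_le_of_index_le_two ?_⟩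
    have h4 : Nat.card ρ.range * ρ.range.index = Nat.factorial n := by
      rw [Subgroup.card_mul_index, Nat.card_perm, Nat.card_fin]
    rw [← h2, Nat.factorial_succ, ← h4] at hcR
    have h6 : ρ.range.index = f.range.index := by
      have h7 : f.range.index * (Nat.card ρ.range * (n + 1)) =
          ρ.range.index * (Nat.card ρ.range * (n + 1)) := by rw [hcR]; ring
      exact (Nat.eq_of_mul_eq_mul_right
        (Nat.mul_pos Nat.card_pos (Nat.succ_pos n)) h7).symm
    omega
  obtain ⟨ρ, hρ⟩ := CfsgLib.AltSuborbit.exists_pointHom a b hd K le_rfl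
  obtain ⟨ρ', hρ'⟩ := CfsgLib.AltSuborbit.exists_pointHom b a hsym K (le_inf hKB hKA)
  set Q := CfsgLib.ThompsonWielandt.coreIn B A with hQ
  have hQK : Q ≤ K :=
    le_inf CfsgLib.ThompsonWielandt.coreIn_le_right CfsgLib.ThompsonWielandt.coreIn_le_left
  have hkerρ : Nat.card ρ.ker = Nat.card H := by
    rw [show ρ.ker = H.subgroupOf K from Subgroup.ext hρ,
      Nat.card_congr (Subgroup.subgroupOfEquivOfLe hHK).toEquiv]
  have hkerρ' : Nat.card ρ'.ker = Nat.card Q := by
    rw [show ρ'.ker = Q.subgroupOf K from Subgroup.ext hρ',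
      Nat.card_congr (Subgroup.subgroupOfEquivOfLe hQK).toEquiv]
  obtain ⟨hcρ, hρalt⟩ := hrng ρ hkerρ
  -- the two-point stabilizer has no soluble normal subgroup
  have hFK : Cfsg.fittingSubgroup K = ⊥ := by
    refine (Cfsg.Agent.S3693.result hprim a b (n + 1) hd (by omega) ?_).1
    set M := (B.subgroupOf A).map (MulAction.toPermHom A (MulAction.orbit A b))
    let σ : K →* M :=
      { toFun := fun k => ⟨_, ⟨⟨k, hKA k.2⟩, hKB k.2, rfl⟩⟩
        map_one' := Subtype.ext (map_one _)
        map_mul' := fun k l => Subtype.ext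
          (map_mul (MulAction.toPermHom A (MulAction.orbit A b)) ⟨k, hKA k.2⟩ ⟨l, hKA l.2⟩) }
    have hσ : Function.Surjective σ := by
      rintro ⟨_, z, hz, rfl⟩
      exact ⟨⟨z, z.2, hz⟩, rfl⟩
    have hσker : σ.ker = ρ.ker := by
      ext k
      rw [MonoidHom.mem_ker, MonoidHom.mem_ker, hρ, ← hH, ← hkerf]
      constructor
      · intro hk
        refine ⟨⟨k, hKA k.2⟩, ?_, rfl⟩
        show f _ = 1
        rw [hf, show MulAction.toPermHom A (MulAction.orbit A b) ⟨k, hKA k.2⟩ = 1 from
          congrArg Subtype.val hk, map_one]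
      · rintro ⟨z, hz, hzk⟩
        refine Subtype.ext (e.permCongrHom.injective ?_)
        have : (⟨k, hKA k.2⟩ : A) = z := Subtype.ext hzk.symm
        show e.permCongrHom (MulAction.toPermHom A (MulAction.orbit A b) ⟨k, hKA k.2⟩) = _
        rw [← hf, this, show f z = 1 from hz]
        exact (map_one _).symm
    let θ : M →* Equiv.Perm (Fin n) := MonoidHom.liftOfSurjective σ hσ ⟨ρ, hσker.le⟩
    have hθ : ∀ k, θ (σ k) = ρ k := fun k =>
      MonoidHom.liftOfRightInverse_comp_apply σ _ (Function.rightInverse_surjInv hσ) ⟨ρ, hσker.le⟩ k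
    have hθi : Function.Injective θ := by
      rw [injective_iff_map_eq_one]
      intro m hm
      obtain ⟨k, rfl⟩ := hσ m
      rw [hθ] at hm
      exact (show k ∈ σ.ker from hσker ▸ hm)
    haveI := CfsgLib.Components.fitting_normal (G := M)
    haveI := CfsgLib.Components.fitting_isNilpotent (G := M)
    haveI : Group.IsSolvable (Cfsg.fittingSubgroup M) := IsNilpotent.to_isSolvable
    have h1 : (Cfsg.fittingSubgroup M).map θ = ⊥ := by
      refine CfsgLib.AltSuborbit.eq_bot_of_isSolvable (by rwa [Fintype.card_fin]) ?_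
        (Group.isSolvable_of_surjective
          (f := ((Cfsg.fittingSubgroup M).equivMapOfInjective θ hθi).toMonoidHom)
          (MulEquiv.surjective _))
      intro τ hτ
      obtain ⟨k, rfl⟩ := hρalt hτ
      rw [← hθ]
      refine Subgroup.le_normalizer_map θ ⟨σ k, ?_, rfl⟩
      exact CfsgLib.ThompsonWielandt.mem_normalizer_of_conj fun y hy =>
        Subgroup.Normal.conj_mem inferInstance y hy _
    exact (Subgroup.map_eq_bot_iff_of_injective _ hθi).1 h1
  have hab : ∀ N : Subgroup G, N ≤ K → K ≤ Subgroup.normalizer (N : Set G) →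
      Group.IsSolvable N → N = ⊥ := by
    intro N hN hn hs
    haveI hNn : (N.subgroupOf K).Normal := (Subgroup.normal_subgroupOf_iff_le_normalizer hN).2 hn
    haveI : Group.IsSolvable (N.subgroupOf K) := by
      haveI := hs
      exact Group.isSolvable_of_surjective
        (f := (Subgroup.subgroupOfEquivOfLe hN).symm.toMonoidHom) (MulEquiv.surjective _)
    have h1 := CfsgLib.Components.fitting_subnormal (Subgroup.Normal.isSubnormal hNn)
    rw [hFK, bot_inf_eq, Subgroup.map_eq_bot_iff_of_injective _ (N.subgroupOf K).subtype_injective]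
      at h1
    have h2 := CfsgLib.Components.centralizer_fitting_le_of_isSolvable (G := N.subgroupOf K)
    rw [h1, Subgroup.coe_bot] at h2
    rw [eq_bot_iff]
    intro x hx
    have h3 : (⟨⟨x, hN hx⟩, hx⟩ : N.subgroupOf K) ∈ (⊥ : Subgroup (N.subgroupOf K)) :=
      h2 (by simp [Subgroup.mem_centralizer_iff])
    rw [Subgroup.mem_bot] at h3 ⊢
    exact congrArg (fun z : N.subgroupOf K => ((z : K) : G)) h3
  obtain ⟨g, hg⟩ := MulAction.exists_smul_eq G a b
  have hBe : B = A.map (MulAut.conj g).toMonoidHom := by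
    rw [hBdef, ← hg]; exact MulAction.stabilizer_smul_eq_stabilizer_map_conj g a
  set Hg := H.map (MulAut.conj g).toMonoidHom with hHg
  have hHgB : Hg ≤ B := hBe ▸ Subgroup.map_mono CfsgLib.ThompsonWielandt.coreIn_le_left
  have hHgn : B ≤ Subgroup.normalizer (Hg : Set G) := by
    rw [hBe]
    exact (Subgroup.map_mono CfsgLib.ThompsonWielandt.le_normalizer_coreIn).trans
      (Subgroup.le_normalizer_map _)
  -- the kernel on the out-suborbit of `b` fixes `a`
  have hHgA : Hg ≤ A := by
    by_contra hcase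
    set K' := K.map (MulAut.conj g⁻¹).toMonoidHom
    have hK'A : K' ≤ A := by
      rintro _ ⟨k, hk, rfl⟩
      obtain ⟨z, hz, hzk⟩ := hBe.le (hKB hk)
      rw [← hzk]
      simpa [mul_assoc] using hz
    set C := ((K'.subgroupOf A).map f).comap f with hC
    have hCge : K'.subgroupOf A ≤ C := Subgroup.le_comap_map f _
    have hlt : C.index < n + 1 := by
      have hidx : (K'.subgroupOf A).index = n + 1 := by
        have h1 := Subgroup.card_mul_index (K'.subgroupOf A)
        rw [Nat.card_congr (Subgroup.subgroupOfEquivOfLe hK'A).toEquiv] at h1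
        rw [show Nat.card K' = Nat.card K from
          (Nat.card_congr (K.equivMapOfInjective _ (MulAut.conj g⁻¹).injective).toEquiv).symm,
          hcAK] at h1
        exact Nat.eq_of_mul_eq_mul_left Nat.card_pos h1
      rw [← hidx]
      refine Subgroup.index_strictAnti (lt_of_le_of_ne hCge fun he => hcase ?_)
      rintro _ ⟨z, hz, rfl⟩
      obtain ⟨z', hz', rfl⟩ := hkerf.ge hz
      have hmem : z' ∈ C := by
        rw [hC, Subgroup.mem_comap, show f z' = 1 from hz']
        exact Subgroup.one_mem _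
      rw [← he] at hmem
      obtain ⟨k, hk, hkz⟩ := hmem
      rw [← hkz]
      simpa [mul_assoc] using hKA hk
    have hM : alternatingGroup (Fin (n + 1)) ≤ (K'.subgroupOf A).map f := by
      refine CfsgLib.AltSuborbit.alternating_le_of_relIndex_lt
        (by rw [Fintype.card_fin]; omega) _ (lt_of_le_of_lt ?_ (by rwa [Fintype.card_fin]))
      rw [hC, Subgroup.index_comap]
      exact Subgroup.relIndex_le_of_le_right hfalt Subgroup.index_ne_zero_of_finite
    -- transported to `K`
    let ι : K →* A :=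
      { toFun := fun k => ⟨g⁻¹ * k * g, hK'A ⟨k, k.2, by simp⟩⟩
        map_one' := Subtype.ext (by simp)
        map_mul' := fun k l => Subtype.ext (by simp [mul_assoc]) }
    have hψ : alternatingGroup (Fin (n + 1)) ≤ (f.comp ι).range := by
      intro σ hσ
      obtain ⟨⟨z, hzA⟩, hz, rfl⟩ := hM hσ
      obtain ⟨k, hk, hkz⟩ := hz
      refine ⟨⟨k, hk⟩, congrArg f (Subtype.ext ?_)⟩
      show g⁻¹ * k * g = z
      simpa using hkz
    have hkey : ∀ (W : Subgroup G) (θ : K →* Equiv.Perm (Fin n)),
        (∀ k : K, θ k = 1 ↔ (k : G) ∈ W) →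
        ¬ alternatingGroup (Fin (n + 1)) ≤ (W.subgroupOf K).map (f.comp ι) → False := by
      intro W θ hθ hno
      have hWn : (W.subgroupOf K).Normal := by
        rw [show W.subgroupOf K = θ.ker from Subgroup.ext fun k => (hθ k).symm]
        infer_instance
      have hnorm : alternatingGroup (Fin (n + 1)) ≤ Subgroup.normalizer
          ((W.subgroupOf K).map (f.comp ι) : Set (Equiv.Perm (Fin (n + 1)))) := by
        intro σ hσ
        obtain ⟨k, rfl⟩ := hψ hσ
        refine CfsgLib.ThompsonWielandt.mem_normalizer_of_conj ?_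
        rintro _ ⟨y, hy, rfl⟩
        exact ⟨k * y * k⁻¹, hWn.conj_mem y hy k, by simp only [map_mul, map_inv]⟩
      have hb := (CfsgLib.AltSuborbit.eq_bot_or_alternating_le
        (by rw [Fintype.card_fin]; omega) hnorm).resolve_right hno
      have hle : θ.ker ≤ (f.comp ι).ker := fun k hk => by
        have : (f.comp ι) k ∈ (W.subgroupOf K).map (f.comp ι) := ⟨k, (hθ k).1 hk, rfl⟩
        rwa [hb, Subgroup.mem_bot] at this
      have h1 := Subgroup.index_dvd_of_le hle
      rw [Subgroup.index_ker, Subgroup.index_ker] at h1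
      have h2 := Nat.le_of_dvd Nat.card_pos h1
      have h3 := Subgroup.card_le_card_group θ.range
      rw [Nat.card_perm, Nat.card_fin] at h3
      have h4 := Subgroup.card_le_of_le hψ
      have h5' := CfsgLib.AltSuborbit.card_alternating (α := Fin (n + 1))
        (by rw [Fintype.card_fin]; omega)
      rw [Fintype.card_fin] at h5'
      have h6 := CfsgLib.AltSuborbit.factorial_pred_lt (d := n + 1) (by omega)
      rw [Nat.add_sub_cancel] at h6
      omega
    by_cases hP : CfsgLib.SuborbitKernel.twKernel G a b = ⊥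
    · exact hkey H ρ hρ
        (CfsgLib.AltSuborbit.not_alternating_le_core a b (by omega) hd hP K (f.comp ι))
    by_cases hZ : CfsgLib.SuborbitKernel.twKernel G b a = ⊥
    · exact hkey Q ρ' hρ'
        (CfsgLib.AltSuborbit.not_alternating_le_core b a (by omega) hsym hZ K (f.comp ι))
    obtain ⟨p, hp, hF, -⟩ := CfsgLib.ThompsonWielandt.main hA hB
      CfsgLib.SuborbitKernel.twKernel_le_left CfsgLib.SuborbitKernel.le_normalizer_twKernel
      CfsgLib.SuborbitKernel.twKernel_le_right CfsgLib.SuborbitKernel.twKernel_isSubnormal hP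
      CfsgLib.SuborbitKernel.twKernel_le_left CfsgLib.SuborbitKernel.le_normalizer_twKernel
      CfsgLib.SuborbitKernel.twKernel_isSubnormal CfsgLib.SuborbitKernel.twKernel_le_coreIn hZ
      hBA hAB (fun q _ => CfsgLib.SuborbitKernel.card_pCoreOf_stabilizer_eq a b q)
    haveI := Fact.mk hp
    haveI : Nontrivial A := A.nontrivial_iff_ne_bot.2 fun hb => hAB (hb ▸ bot_le)
    apply CfsgLib.Components.gFitting_ne_bot (G := A)
    rw [hF]
    haveI := CfsgLib.Components.pCore_normal (G := A) p
    haveI : Group.IsNilpotent (Cfsg.pCore p A) :=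
      (CfsgLib.Components.pCore_isPGroup (G := A) p).isNilpotent
    have h1 : (Cfsg.pCore p A).map f = ⊥ := by
      refine CfsgLib.AltSuborbit.eq_bot_of_isSolvable (by rw [Fintype.card_fin]; omega) ?_ ?_
      · intro τ hτ
        obtain ⟨k, rfl⟩ := hfalt hτ
        refine CfsgLib.ThompsonWielandt.mem_normalizer_of_conj ?_
        rintro _ ⟨y, hy, rfl⟩
        exact ⟨k * y * k⁻¹, Subgroup.Normal.conj_mem inferInstance y hy k,
          by simp only [map_mul, map_inv]⟩
      · haveI : Group.IsSolvable (Cfsg.pCore p A) := IsNilpotent.to_isSolvable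
        exact Group.isSolvable_of_surjective (f := f.subgroupMap (Cfsg.pCore p A))
          (f.subgroupMap_surjective _)
    have hUH : Cfsg.pCoreOf p A ≤ H := by
      rw [← hkerf]
      refine Subgroup.map_mono fun z hz => ?_
      have : f z ∈ (Cfsg.pCore p A).map f := ⟨z, hz, rfl⟩
      rwa [h1, Subgroup.mem_bot] at this
    have h2 : Cfsg.pCoreOf p A = ⊥ := hab _ (hUH.trans hHK)
      (hKA.trans (CfsgLib.LocalEvenB.le_normalizer_pCoreOf A)) (by
        haveI : Group.IsNilpotent (Cfsg.pCoreOf p A) :=
          (CfsgLib.LocalEvenB.isPGroup_pCoreOf A).isNilpotent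
        exact IsNilpotent.to_isSolvable)
    exact (Subgroup.map_eq_bot_iff_of_injective _ A.subtype_injective).1 h2
  -- hence it is the kernel on the in-suborbit
  have hHgQ : Hg ≤ Q := fun x hx => ⟨hHgB hx, fun k hk => hHgA
    ((Subgroup.mem_normalizer_iff.1 (hHgn hk) x).1 hx)⟩
  have hHgeq : Hg = Q := by
    refine le_antisymm hHgQ fun q hq => ?_
    set Q0 := Q.map (MulAut.conj g⁻¹).toMonoidHom
    have hQ0A : Q0 ≤ A := by
      rintro _ ⟨k, hk, rfl⟩
      obtain ⟨z, hz, hzk⟩ := hBe.le (CfsgLib.ThompsonWielandt.coreIn_le_left hk)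
      rw [← hzk]
      simpa [mul_assoc] using hz
    have hQ0n : A ≤ Subgroup.normalizer (Q0 : Set G) := by
      intro k hk
      refine CfsgLib.ThompsonWielandt.mem_normalizer_of_conj ?_
      rintro _ ⟨z, hz, rfl⟩
      exact ⟨_, CfsgLib.ThompsonWielandt.conj_mem_coreIn
        (hBe.ge ⟨k, hk, rfl⟩) hz, by simp [mul_assoc]⟩
    have hn : alternatingGroup (Fin (n + 1)) ≤ Subgroup.normalizer
        ((Q0.subgroupOf A).map f : Set (Equiv.Perm (Fin (n + 1)))) := by
      intro σ hσ
      obtain ⟨k, rfl⟩ := hfalt hσ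
      refine CfsgLib.ThompsonWielandt.mem_normalizer_of_conj ?_
      rintro _ ⟨y, hy, rfl⟩
      exact ⟨k * y * k⁻¹, (Subgroup.mem_normalizer_iff.1 (hQ0n k.2) _).1 hy,
        by simp only [map_mul, map_inv]⟩
    rcases CfsgLib.AltSuborbit.eq_bot_or_alternating_le (by rw [Fintype.card_fin]; omega) hn with
      hb | hbig
    · have hq0 : g⁻¹ * q * g ∈ Q0 := ⟨q, hq, by simp⟩
      have : f ⟨_, hQ0A hq0⟩ ∈ (Q0.subgroupOf A).map f := ⟨_, hq0, rfl⟩
      rw [hb, Subgroup.mem_bot] at this
      exact ⟨g⁻¹ * q * g, hkerf.le ⟨⟨_, hQ0A hq0⟩, this, rfl⟩, by simp [mul_assoc]⟩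
    · exfalso
      have hker0 : f.ker ≤ Q0.subgroupOf A := by
        intro z hz
        have hzH : (z : G) ∈ H := hkerf.le ⟨z, hz, rfl⟩
        exact ⟨_, hHgQ ⟨_, hzH, rfl⟩, by simp [mul_assoc]⟩
      have h1 : (Q0.subgroupOf A).index ≤ 2 := by
        rw [← Subgroup.comap_map_eq_self hker0, Subgroup.index_comap]
        refine (Nat.le_of_dvd ?_ ((Subgroup.relIndex_dvd_of_le_left (f.range) hbig).trans
          (Subgroup.relIndex_dvd_index_of_normal _ _))).trans ?_
        · exact Nat.pos_of_ne_zero Subgroup.index_ne_zero_of_finite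
        · haveI : Nontrivial (Fin (n + 1)) := Fin.nontrivial_iff_two_le.2 (by omega)
          exact le_of_eq alternatingGroup.index_eq_two
      have h2 : Nat.card Q0 * (Q0.subgroupOf A).index = Nat.card K * (n + 1) := by
        rw [← hcAK, ← Subgroup.card_mul_index (Q0.subgroupOf A),
          Nat.card_congr (Subgroup.subgroupOfEquivOfLe hQ0A).toEquiv]
      have h3 : Nat.card Q0 ≤ Nat.card K := by
        rw [show Nat.card Q0 = Nat.card Q from
          (Nat.card_congr (Q.equivMapOfInjective _ (MulAut.conj g⁻¹).injective).toEquiv).symm]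
        exact Subgroup.card_le_of_le hQK
      have h4 := Nat.mul_le_mul h3 h1
      have h7 : Nat.card K * 3 ≤ Nat.card K * (n + 1) := Nat.mul_le_mul_left _ (by omega)
      have : 0 < Nat.card K := Nat.card_pos
      omega
  have hiso : Nonempty (H ≃* Q) :=
    ⟨(H.equivMapOfInjective _ (MulAut.conj g).injective).trans (MulEquiv.subgroupCongr hHgeq)⟩
  obtain ⟨hcρ', hρ'alt⟩ := hrng ρ' (hkerρ'.trans (Nat.card_congr hiso.some.toEquiv).symm)
  have hQne : Q ≠ ⊥ := fun hb => hHne (by
    rw [← hHgeq, hHg, Subgroup.map_eq_bot_iff_of_injective _ (MulAut.conj g).injective] at hb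
    exact hb)
  have hSide : CfsgLib.AltSuborbit.Side K H ρ :=
    ⟨hHK, hKA.trans CfsgLib.ThompsonWielandt.le_normalizer_coreIn, hρ, hρalt⟩
  have hSide' : CfsgLib.AltSuborbit.Side K Q ρ' :=
    ⟨hQK, hKB.trans CfsgLib.ThompsonWielandt.le_normalizer_coreIn, hρ', hρ'alt⟩
  -- a point stabilizer is maximal
  have hmaxA : ∀ (a' b' : Ω), MulAction.stabilizer G a' ⊓ MulAction.stabilizer G b' = K →
      ∀ θ : K →* Equiv.Perm (Fin n), alternatingGroup (Fin n) ≤ θ.range →
      (∀ k : K, θ k = 1 ↔ (k : G) ∈ CfsgLib.ThompsonWielandt.coreIn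
        (MulAction.stabilizer G a') (MulAction.stabilizer G b')) →
      (∀ z : MulAction.stabilizer G a', (z : G) ∉ MulAction.stabilizer G b' →
        ∀ w : MulAction.stabilizer G a', (w : G) ∉ MulAction.stabilizer G b' →
        ∃ k : K, (k : G) • (z : G) • b' = (w : G) • b') →
      ∀ N : Subgroup G, K ≤ N → N ≤ MulAction.stabilizer G a' →
        N = K ∨ N = MulAction.stabilizer G a' := by
    intro a' b' hK' θ _ _ htr N hKN hNA
    by_cases hNK : N ≤ K
    · exact Or.inl (le_antisymm hNK hKN)
    · right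
      obtain ⟨z, hzN, hzK⟩ := SetLike.not_le_iff_exists.1 hNK
      refine le_antisymm hNA fun w hw => ?_
      have hzb : z ∉ MulAction.stabilizer G b' := fun hzb => hzK (hK' ▸ ⟨hNA hzN, hzb⟩)
      by_cases hwb : w ∈ MulAction.stabilizer G b'
      · exact hKN (hK' ▸ ⟨hw, hwb⟩)
      · obtain ⟨k, hk⟩ := htr ⟨z, hNA hzN⟩ hzb ⟨w, hw⟩ hwb
        have hkz : (k : G) * z ∈ N := N.mul_mem (hKN k.2) hzN
        have hm : ((k : G) * z)⁻¹ * w ∈ K := by
          refine hK'.le ⟨(MulAction.stabilizer G a').mul_mem
            ((MulAction.stabilizer G a').inv_mem (hNA hkz)) hw, MulAction.mem_stabilizer_iff.2 ?_⟩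
          have hk' : (k : G) • z • b' = w • b' := hk
          rw [mul_smul, ← hk', ← mul_smul, ← mul_smul, mul_assoc, inv_mul_cancel, one_smul]
        have hres := N.mul_mem hkz (hKN hm)
        rwa [mul_inv_cancel_left] at hres
  -- transitivity of the two-point stabilizer on the rest of a suborbit
  have htrans : ∀ (a' b' : Ω), MulAction.stabilizer G a' ⊓ MulAction.stabilizer G b' = K →
      Nat.card (MulAction.orbit (MulAction.stabilizer G a') b') = n + 1 →
      ∀ θ : K →* Equiv.Perm (Fin n), alternatingGroup (Fin n) ≤ θ.range →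
      (∀ k : K, θ k = 1 ↔ (k : G) ∈ CfsgLib.ThompsonWielandt.coreIn
        (MulAction.stabilizer G a') (MulAction.stabilizer G b')) →
      (∀ z : MulAction.stabilizer G a', (z : G) ∉ MulAction.stabilizer G b' →
        ∀ w : MulAction.stabilizer G a', (w : G) ∉ MulAction.stabilizer G b' →
        ∃ k : K, (k : G) • (z : G) • b' = (w : G) • b') := by
    intro a' b' hK' hd' θ hθalt hθ
    set A' := MulAction.stabilizer G a'
    set B' := MulAction.stabilizer G b'
    intro z hz w hw
    let e' := Finite.equivFinOfCardEq hd'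
    let φ : A' →* Equiv.Perm (Fin (n + 1)) :=
      (e'.permCongrHom.toMonoidHom).comp (MulAction.toPermHom A' (MulAction.orbit A' b'))
    -- the image of `K` is large
    have hcard : Nat.factorial (n + 1) ≤ 2 * (n + 1) * Nat.card θ.range := by
      have h1 := Subgroup.card_le_of_le hθalt
      have h2 := CfsgLib.AltSuborbit.card_alternating (α := Fin n) (by rw [Fintype.card_fin]; omega)
      rw [Fintype.card_fin] at h2
      rw [Nat.factorial_succ]
      calc (n + 1) * n.factorial ≤ (n + 1) * (2 * Nat.card θ.range) :=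
            Nat.mul_le_mul_left _ (by omega)
        _ = 2 * (n + 1) * Nat.card θ.range := by ring
    let κ : K →* A' :=
      { toFun := fun k => ⟨k, (hK'.ge k.2).1⟩
        map_one' := rfl
        map_mul' := fun _ _ => rfl }
    have hker : (φ.comp κ).ker ≤ θ.ker := by
      intro k hk
      refine (hθ k).2 ⟨(hK'.ge k.2).1, fun l hl => MulAction.mem_stabilizer_iff.2 ?_⟩
      have h1 : MulAction.toPermHom A' (MulAction.orbit A' b') (κ k) = 1 :=
        e'.permCongrHom.injective ((show e'.permCongrHom _ = 1 from hk).trans (map_one _).symm)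
      have h2 : (k : G) • l⁻¹ • b' = l⁻¹ • b' := congrArg Subtype.val
        (congrArg (fun σ : Equiv.Perm (MulAction.orbit A' b') =>
          σ ⟨l⁻¹ • b', ⟨⟨l⁻¹, A'.inv_mem hl⟩, rfl⟩⟩) h1)
      rw [mul_smul, mul_smul, h2, smul_inv_smul]
    set M := (φ.comp κ).range with hMdef
    have hMcard : Nat.factorial (n + 1) ≤ 2 * (n + 1) * Nat.card M := by
      refine hcard.trans (Nat.mul_le_mul_left _ (Nat.le_of_dvd Nat.card_pos ?_))
      rw [← Subgroup.index_ker, hMdef, ← Subgroup.index_ker]
      exact Subgroup.index_dvd_of_le hker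
    set pt' := e' ⟨b', MulAction.mem_orbit_self b'⟩
    have hMfix : M ≤ MulAction.stabilizer (Equiv.Perm (Fin (n + 1))) pt' := by
      rintro _ ⟨k, rfl⟩
      show e' (κ k • (e'.symm (e' ⟨b', MulAction.mem_orbit_self b'⟩))) = e' _
      rw [Equiv.symm_apply_apply]
      exact congrArg e' (Subtype.ext (hK'.ge k.2).2)
    set S := MulAction.stabilizer (Equiv.Perm (Fin (n + 1))) pt'
    have hScard : Nat.card S * (n + 1) = Nat.factorial (n + 1) := by
      have h1 := MulAction.index_stabilizer_of_transitive (Equiv.Perm (Fin (n + 1))) pt'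
      rw [Nat.card_fin] at h1
      calc Nat.card S * (n + 1) = Nat.card S * S.index := by rw [h1]
        _ = Nat.factorial (n + 1) := by rw [Subgroup.card_mul_index, Nat.card_perm, Nat.card_fin]
    have hrel : M.relIndex S ≤ 2 := by
      have h1 := Subgroup.card_mul_index (M.subgroupOf S)
      rw [Nat.card_congr (Subgroup.subgroupOfEquivOfLe hMfix).toEquiv] at h1
      rw [← hScard] at hMcard
      change Nat.card M * M.relIndex S = Nat.card S at h1
      rw [← h1] at hMcard
      have h2 : M.relIndex S * (Nat.card M * (n + 1)) ≤ 2 * (Nat.card M * (n + 1)) := by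
        calc M.relIndex S * (Nat.card M * (n + 1)) = Nat.card M * M.relIndex S * (n + 1) := by ring
          _ ≤ 2 * (n + 1) * Nat.card M := hMcard
          _ = 2 * (Nat.card M * (n + 1)) := by ring
      exact Nat.le_of_mul_le_mul_right h2 (Nat.mul_pos Nat.card_pos (Nat.succ_pos n))
    let qz := e' ⟨(z : G) • b', ⟨z, rfl⟩⟩
    let qw := e' ⟨(w : G) • b', ⟨w, rfl⟩⟩
    have hqz : qz ≠ pt' := by
      intro he
      exact hz (MulAction.mem_stabilizer_iff.2 (congrArg Subtype.val (e'.injective he)))
    have hqw : qw ≠ pt' := fun he => hw (MulAction.mem_stabilizer_iff.2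
      (congrArg Subtype.val (e'.injective he)))
    obtain ⟨τ, hτ, hτq⟩ : ∃ τ ∈ M, τ qz = qw := by
      by_cases hq : qz = qw
      · exact ⟨1, M.one_mem, by rw [hq]; rfl⟩
      -- a three-cycle fixing `pt'` lies in any subgroup of index two
      obtain ⟨u, hu1, hu2, hu3⟩ : ∃ u : Fin (n + 1), u ≠ pt' ∧ u ≠ qz ∧ u ≠ qw := by
        by_contra hall
        push Not at hall
        have hsub : (Finset.univ : Finset (Fin (n + 1))) ⊆ {pt', qz, qw} := fun u _ => by
          simp only [Finset.mem_insert, Finset.mem_singleton]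
          by_cases h1 : u = pt'
          · exact Or.inl h1
          by_cases h2 : u = qz
          · exact Or.inr (Or.inl h2)
          exact Or.inr (Or.inr (hall u h1 h2))
        have := (Finset.card_le_card hsub).trans Finset.card_le_three
        rw [Finset.card_univ, Fintype.card_fin] at this
        omega
      set π := Equiv.swap qz qw * Equiv.swap qw u with hπ
      have hπS : π ∈ S := by
        show π pt' = pt'
        rw [hπ, Equiv.Perm.mul_apply, Equiv.swap_apply_of_ne_of_ne hqw.symm hu1.symm,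
          Equiv.swap_apply_of_ne_of_ne hqz.symm hqw.symm]
      have hπ3 : π ^ 3 = 1 := by
        have h3c : π.IsThreeCycle := by
          rw [hπ, show Equiv.swap qz qw = Equiv.swap qw qz from Equiv.swap_comm _ _]
          exact Equiv.Perm.isThreeCycle_swap_mul_swap_same (Ne.symm hq) hu3.symm hu2.symm
        have := pow_orderOf_eq_one π
        rwa [h3c.orderOf] at this
      refine ⟨π, ?_, ?_⟩
      · have hnS : (M.subgroupOf S).Normal := by
          rcases Nat.lt_or_eq_of_le hrel with hlt | heq
          · have h1 : M.relIndex S = 1 := by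
              have : M.relIndex S ≠ 0 := Subgroup.index_ne_zero_of_finite
              omega
            rw [Subgroup.relIndex, Subgroup.index_eq_one] at h1
            rw [h1]; infer_instance
          · exact Subgroup.normal_of_index_eq_two heq
        have := CfsgLib.ThompsonWielandt.mem_of_subnormal_coprime hnS.isSubnormal
          (x := (⟨π, hπS⟩ : S)) (by
            rw [← Subgroup.orderOf_coe]
            refine Nat.Coprime.coprime_dvd_left (orderOf_dvd_of_pow_eq_one hπ3) ?_
            change Nat.Coprime 3 (M.relIndex S)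
            have : M.relIndex S ≠ 0 := Subgroup.index_ne_zero_of_finite
            rcases (by omega : M.relIndex S = 1 ∨ M.relIndex S = 2) with h | h <;> rw [h] <;>
              norm_num)
        exact this
      · rw [hπ, Equiv.Perm.mul_apply, Equiv.swap_apply_of_ne_of_ne hq hu2.symm,
          Equiv.swap_apply_left]
    obtain ⟨k, rfl⟩ := hτ
    have h1 : e' (κ k • (e'.symm qz)) = qw := hτq
    have h2 : κ k • (⟨(z : G) • b', ⟨z, rfl⟩⟩ : MulAction.orbit A' b') = ⟨(w : G) • b', ⟨w, rfl⟩⟩ := by
      refine e'.injective ?_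
      rwa [Equiv.symm_apply_apply] at h1
    exact ⟨k, congrArg Subtype.val h2⟩
  have hPair : CfsgLib.AltSuborbit.Pair A B K H Q :=
    ⟨rfl, rfl, rfl, hA, hBA, hmaxA a b rfl ρ hρalt hρ (htrans a b rfl hd ρ hρalt hρ), hab, hiso,
      hHne⟩
  have hPair' : CfsgLib.AltSuborbit.Pair B A K Q H :=
    ⟨inf_comm A B, rfl, rfl, hB, hAB,
      hmaxA b a (inf_comm B A) ρ' hρ'alt hρ' (htrans b a (inf_comm B A) hsym ρ' hρ'alt hρ'),
      hab, ⟨hiso.some.symm⟩, hQne⟩
  have hHQ := hPair.inf_eq_bot hPair' h5 hSide hSide'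
  obtain ⟨F, hF, hF1, hF2, hFle, hFsurj⟩ :=
    hPair.exists_embedding h5 rfl hSide' hQne hHQ f pt hfalt hstab hkerf
  -- classify the image
  set I := F.range with hI
  have hAI : Nonempty (A ≃* I) := ⟨MonoidHom.ofInjective hF⟩
  have hprod : ∀ σ ∈ alternatingGroup (Fin (n + 1)), ∀ τ ∈ alternatingGroup (Fin n),
      (σ, τ) ∈ I := fun σ hσ τ hτ => by
    simpa using I.mul_mem (hF1 σ hσ) (hF2 τ hτ)
  have hsigns : ∀ σ τ σ' τ', (σ', τ') ∈ I → Equiv.Perm.sign σ = Equiv.Perm.sign σ' →
      Equiv.Perm.sign τ = Equiv.Perm.sign τ' → (σ, τ) ∈ I := by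
    intro σ τ σ' τ' h' h1 h2
    have := I.mul_mem (hprod (σ * σ'⁻¹) (by simp [Equiv.Perm.mem_alternatingGroup, h1])
      (τ * τ'⁻¹) (by simp [Equiv.Perm.mem_alternatingGroup, h2])) h'
    simpa using this
  rcases Nat.lt_or_eq_of_le halt with hlt | heq
  · -- the full symmetric group
    right
    have h1 : (MulAction.toPermHom A (MulAction.orbit A b)).range.index = 1 := by
      have : (MulAction.toPermHom A (MulAction.orbit A b)).range.index ≠ 0 :=
        Subgroup.index_ne_zero_of_finite
      omega
    have htop : f.range = ⊤ := Subgroup.index_eq_one.1 (hfidx.trans h1)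
    refine ⟨Subgroup.index_eq_one.1 h1, ?_⟩
    haveI : Nontrivial (Fin (n + 1)) := Fin.nontrivial_iff_two_le.2 (by omega)
    obtain ⟨σ₀, hσ₀⟩ : ∃ σ : Equiv.Perm (Fin (n + 1)), Equiv.Perm.sign σ = -1 :=
      Equiv.Perm.sign_surjective _ (-1)
    obtain ⟨τ₀, hτ₀⟩ := hFsurj σ₀ (htop ▸ Subgroup.mem_top _)
    by_cases hmix : ∃ σ τ, (σ, τ) ∈ I ∧ Equiv.Perm.sign σ = 1 ∧ Equiv.Perm.sign τ = -1
    · -- everything
      obtain ⟨σ₁, τ₁, h1', hs1, ht1⟩ := hmix
      have hI' : I = ⊤ := by
        rw [eq_top_iff]
        rintro ⟨σ, τ⟩ -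
        have hall : ∀ s t : ℤˣ, ∃ σ' τ', (σ', τ') ∈ I ∧ Equiv.Perm.sign σ' = s ∧
            Equiv.Perm.sign τ' = t := by
          intro s t
          rcases Int.units_eq_one_or s with rfl | rfl <;> rcases Int.units_eq_one_or t with rfl | rfl
          · exact ⟨1, 1, I.one_mem, map_one _, map_one _⟩
          · exact ⟨σ₁, τ₁, h1', hs1, ht1⟩
          · rcases Int.units_eq_one_or (Equiv.Perm.sign τ₀) with ht | ht
            · exact ⟨σ₀, τ₀, hτ₀, hσ₀, ht⟩
            · exact ⟨σ₀ * σ₁, τ₀ * τ₁, I.mul_mem hτ₀ h1', by simp [hσ₀, hs1], by simp [ht, ht1]⟩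
          · rcases Int.units_eq_one_or (Equiv.Perm.sign τ₀) with ht | ht
            · exact ⟨σ₀ * σ₁, τ₀ * τ₁, I.mul_mem hτ₀ h1', by simp [hσ₀, hs1], by simp [ht, ht1]⟩
            · exact ⟨σ₀, τ₀, hτ₀, hσ₀, ht⟩
        obtain ⟨σ', τ', h', hs, ht⟩ := hall (Equiv.Perm.sign σ) (Equiv.Perm.sign τ)
        exact hsigns σ τ σ' τ' h' hs.symm ht.symm
      exact Or.inl ⟨(hAI.some.trans (MulEquiv.subgroupCongr hI')).trans Subgroup.topEquiv⟩
    · push Not at hmix
      have hev : ∀ σ τ, (σ, τ) ∈ I → Equiv.Perm.sign σ = 1 → Equiv.Perm.sign τ = 1 := fun σ τ h h' =>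
        (Int.units_eq_one_or _).resolve_right (hmix σ τ h h')
      have hodd : ∀ σ τ, (σ, τ) ∈ I → Equiv.Perm.sign σ = -1 →
          Equiv.Perm.sign τ = Equiv.Perm.sign τ₀ := by
        intro σ τ h h'
        have := hev (σ * σ₀⁻¹) (τ * τ₀⁻¹) (I.mul_mem h (I.inv_mem hτ₀))
          (by rw [map_mul, map_inv, h', hσ₀, mul_inv_cancel])
        rwa [map_mul, map_inv, mul_inv_eq_one] at this
      rcases Int.units_eq_one_or (Equiv.Perm.sign τ₀) with ht0 | ht0
      · have hI' : I = (⊤ : Subgroup (Equiv.Perm (Fin (n + 1)))).prod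
            (alternatingGroup (Fin n)) := by
          ext ⟨σ, τ⟩
          rw [Subgroup.mem_prod, Equiv.Perm.mem_alternatingGroup]
          constructor
          · intro h
            refine ⟨Subgroup.mem_top _, ?_⟩
            rcases Int.units_eq_one_or (Equiv.Perm.sign σ) with hs | hs
            · exact hev σ τ h hs
            · exact (hodd σ τ h hs).trans ht0
          · rintro ⟨-, ht⟩
            rcases Int.units_eq_one_or (Equiv.Perm.sign σ) with hs | hs
            · exact hsigns σ τ 1 1 I.one_mem (by simpa using hs) (by simpa using ht)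
            · exact hsigns σ τ σ₀ τ₀ hτ₀ (hs.trans hσ₀.symm) (ht.trans ht0.symm)
        exact Or.inr (Or.inl ⟨((hAI.some.trans (MulEquiv.subgroupCongr hI')).trans
          (Subgroup.prodEquiv _ _)).trans (MulEquiv.prodCongr Subgroup.topEquiv (MulEquiv.refl _))⟩)
      · refine Or.inr (Or.inr ⟨hAI.some.trans (MulEquiv.subgroupCongr ?_)⟩)
        ext ⟨σ, τ⟩
        rw [MonoidHom.mem_ker, MonoidHom.mul_apply, MonoidHom.comp_apply, MonoidHom.comp_apply]
        show (σ, τ) ∈ I ↔ Equiv.Perm.sign σ * Equiv.Perm.sign τ = 1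
        constructor
        · intro h
          rcases Int.units_eq_one_or (Equiv.Perm.sign σ) with hs | hs
          · rw [hs, hev σ τ h hs, one_mul]
          · rw [hs, (hodd σ τ h hs).trans ht0]; rfl
        · intro h
          rcases Int.units_eq_one_or (Equiv.Perm.sign σ) with hs | hs
          · rw [hs, one_mul] at h
            exact hsigns σ τ 1 1 I.one_mem (by simpa using hs) (by simpa using h)
          · refine hsigns σ τ σ₀ τ₀ hτ₀ (hs.trans hσ₀.symm) ?_
            rw [hs] at h
            rw [ht0]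
            exact (inv_eq_of_mul_eq_one_right h).symm.trans (by decide)
  · -- the alternating group
    left
    refine ⟨heq, ?_⟩
    have hfr : f.range = alternatingGroup (Fin (n + 1)) :=
      Equiv.Perm.eq_alternatingGroup_of_index_eq_two (hfidx.trans heq)
    have hρr : ρ'.range = alternatingGroup (Fin n) := by
      refine (Subgroup.eq_of_le_of_card_ge hρ'alt ?_).symm
      have h1 := hcρ'
      rw [hfr] at h1
      have h2 := CfsgLib.AltSuborbit.card_alternating (α := Fin (n + 1))
        (by rw [Fintype.card_fin]; omega)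
      have h3 := CfsgLib.AltSuborbit.card_alternating (α := Fin n) (by rw [Fintype.card_fin]; omega)
      rw [Fintype.card_fin] at h2 h3
      rw [← h1, Nat.factorial_succ, ← h3] at h2
      have h4 : (Nat.card ρ'.range) * (2 * (n + 1)) =
          Nat.card (alternatingGroup (Fin n)) * (2 * (n + 1)) := by linarith
      exact (Nat.eq_of_mul_eq_mul_right (by omega) h4).le
    have hI' : I = (alternatingGroup (Fin (n + 1))).prod (alternatingGroup (Fin n)) := by
      ext ⟨σ, τ⟩
      rw [Subgroup.mem_prod]
      exact ⟨fun h => ⟨hfr ▸ (hFle _ h).1, hρr ▸ (hFle _ h).2⟩, fun h => hprod σ h.1 τ h.2⟩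
    exact ⟨(hAI.some.trans (MulEquiv.subgroupCongr hI')).trans (Subgroup.prodEquiv _ _)⟩

end Cfsg.Agent.S3687
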