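import Cfsg.Statements.S3696
import Mathlib

set_option autoImplicit false
open Cfsg

namespace Cfsg.Agent.S3696

/-- padding a list of exponents -/
theorem pad {p : ℕ} (hp : 2 ≤ p) : ∀ (d : ℕ) (L : List ℕ) (k : ℕ), L.length + d = k → k ≤ L.sum →
    ∃ L' : List ℕ, L'.length = k ∧ L'.sum = L.sum ∧ (L'.map (p ^ ·)).sum ≤ (L.map (p ^ ·)).sum
  | 0, L, k, h, _ => ⟨L, by omega, rfl, le_rfl⟩
  | d + 1, L, k, h, hs => by
    obtain ⟨a, ha, ha2⟩ : ∃ a ∈ L, 2 ≤ a := by
      by_contra hne
      push Not at hne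
      have := List.sum_le_card_nsmul L 1 (fun x hx => Nat.le_of_lt_succ (hne x hx))
      rw [smul_eq_mul, mul_one] at this
      omega
    have hperm := List.perm_cons_erase ha
    set M := L.erase a
    obtain ⟨L', h1, h2, h3⟩ := pad hp d ((a - 1) :: 1 :: M) k (by
      have := hperm.length_eq; simp at this ⊢; omega) (by
      have := hperm.sum_eq; simp at this ⊢; omega)
    refine ⟨L', h1, h2.trans (by have := hperm.sum_eq; simp at this ⊢; omega), h3.trans ?_⟩
    rw [(hperm.map (p ^ ·)).sum_eq]
    simp only [List.map_cons, List.sum_cons, pow_one]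
    have h4 : p ^ a = p ^ (a - 1) * p := by rw [← pow_succ, Nat.sub_add_cancel (by omega)]
    have h5 : p ≤ p ^ (a - 1) := Nat.le_self_pow (by omega) p
    rw [h4]
    nlinarith

/-- arithmetic-geometric mean for natural numbers -/
theorem amgm (L : List ℕ) : L.prod * L.length ^ L.length ≤ L.sum ^ L.length := by
  rcases Nat.eq_zero_or_pos L.length with h | h
  · rw [List.length_eq_zero_iff] at h; subst h; simp
  have h1 := Real.geom_mean_le_arith_mean (Finset.univ : Finset (Fin L.length)) (fun _ => 1) (fun i => ((L.get i : ℕ) : ℝ))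
    (fun _ _ => zero_le_one) (by simp; exact_mod_cast h) (fun i _ => by positivity)
  simp only [Real.rpow_one, one_mul, Finset.sum_const, Finset.card_univ, Fintype.card_fin, nsmul_eq_mul, mul_one] at h1
  have hk : (0 : ℝ) < L.length := by exact_mod_cast h
  have h2 := pow_le_pow_left₀ (Real.rpow_nonneg (Finset.prod_nonneg fun i _ => by positivity) _) h1 L.length
  rw [Real.rpow_inv_natCast_pow (Finset.prod_nonneg fun i _ => by positivity) h.ne', div_pow,
    le_div_iff₀ (pow_pos hk _)] at h2
  have e1 : ∏ i : Fin L.length, L.get i = L.prod := by simp [← List.prod_ofFn]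
  have e2 : ∑ i : Fin L.length, L.get i = L.sum := by simp [← List.sum_ofFn]
  rw [← e1]
  conv_rhs => rw [← e2]
  exact_mod_cast h2

/-- Let p be a prime, Ω a finite set with n ≥ p elements, and A an abelian p-subgroup of the symmetric group on Ω whose elements of order dividing p number p^k (so k is the rank of A). Then |A| · k^k ≤ n^k, that is, |A| ≤ (n/k)^k. -/
theorem result {Ω : Type*} [Fintype Ω] [DecidableEq Ω]
    (p : ℕ) (hp : p.Prime) (hn : p ≤ Fintype.card Ω) (A : Subgroup (Equiv.Perm Ω)) (hA : IsPGroup p A) (hab : IsMulCommutative A)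
    (k : ℕ) (hk : Nat.card {x : A // x ^ p = 1} = p ^ k) :
    Nat.card A * k ^ k ≤ Fintype.card Ω ^ k := by
  haveI := Fact.mk hp
  have hcomm : ∀ a b : A, a * b = b * a := hab.is_comm.comm
  let st : Ω → Subgroup A := fun x => MulAction.stabilizer A x
  have hst : ∀ (x : Ω) (g : A), st (g • x) = st x := by
    intro x g
    ext a
    show a • g • x = g • x ↔ a • x = x
    rw [← mul_smul, hcomm, mul_smul, smul_left_cancel_iff]
  let E : Subgroup A :=
    { carrier := {x | x ^ p = 1}
      one_mem' := one_pow p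
      mul_mem' := fun {a b} ha hb => by
        show (a * b) ^ p = 1
        rw [Commute.mul_pow (hcomm a b), ha, hb, one_mul]
      inv_mem' := fun {a} ha => by show a⁻¹ ^ p = 1; rw [inv_pow, ha, inv_one] }
  have hE : Nat.card E = p ^ k := hk
  -- choose the orbits
  have sel : ∀ j (W : Subgroup A), Nat.card W = p ^ j → ∃ P : Finset Ω, P.card ≤ j ∧
      W ⊓ P.inf st = ⊥ ∧ (∀ x ∈ P, ¬ W ≤ st x) ∧ ∀ x ∈ P, ∀ y ∈ P, (∃ g : A, g • x = y) → x = y := by
    intro j
    induction j using Nat.strong_induction_on with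
    | _ j ih =>
      intro W hW
      by_cases hWb : W = ⊥
      · exact ⟨∅, Nat.zero_le _, by simp [hWb], by simp, by simp⟩
      obtain ⟨e, he⟩ := Subgroup.ne_bot_iff_exists_ne_one.mp hWb
      obtain ⟨x, hx⟩ : ∃ x : Ω, (e : A) • x ≠ x := by
        by_contra hne
        push Not at hne
        exact he (Subtype.ext (Subtype.ext (Equiv.ext hne)))
      have hWp : IsPGroup p W := IsPGroup.of_card hW
      obtain ⟨i, hi⟩ := (hWp.to_le (inf_le_left : W ⊓ st x ≤ W)).exists_card_eq
      have hlt : i < j := by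
        have hle : Nat.card ↥(W ⊓ st x) ≤ Nat.card W := Nat.card_le_card_of_injective _ (Subgroup.inclusion_injective inf_le_left)
        rw [hi, hW, Nat.pow_le_pow_iff_right hp.one_lt] at hle
        refine lt_of_le_of_ne hle fun heq => hx ?_
        have h1 : W ⊓ st x = W := Subgroup.eq_of_le_of_card_ge inf_le_left (by rw [hi, hW, heq])
        exact (inf_eq_left.mp h1) e.2
      obtain ⟨P, hP1, hP2, hP3, hP4⟩ := ih i hlt (W ⊓ st x) hi
      refine ⟨insert x P, (Finset.card_insert_le _ _).trans (by omega), ?_, ?_, ?_⟩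
      · rw [Finset.inf_insert, ← inf_assoc, hP2]
      · intro y hy
        rcases Finset.mem_insert.mp hy with rfl | hy
        · exact fun h => hx (h e.2)
        · exact fun h => hP3 y hy (inf_le_left.trans h)
      · intro y hy z hz hyz
        obtain ⟨g, hg⟩ := hyz
        have hsame : st y = st z := by rw [← hg, hst]
        rcases Finset.mem_insert.mp hy with hy | hy <;> rcases Finset.mem_insert.mp hz with hz | hz
        · rw [hy, hz]
        · exact absurd (show W ⊓ st x ≤ st z by rw [← hsame, hy]; exact inf_le_right) (hP3 z hz)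
        · exact absurd (show W ⊓ st x ≤ st y by rw [hsame, hz]; exact inf_le_right) (hP3 y hy)
        · exact hP4 y hy z hz ⟨g, hg⟩
  obtain ⟨P, hP1, hP2, hP3, hP4⟩ := sel k E hE
  have hS : P.inf st = ⊥ := by
    by_contra hne
    obtain ⟨s, hs⟩ := Subgroup.ne_bot_iff_exists_ne_one.mp hne
    haveI : Nontrivial (P.inf st : Subgroup A) := ⟨⟨s, 1, hs⟩⟩
    obtain ⟨u, hu⟩ := exists_prime_orderOf_dvd_card' p ((hA.to_subgroup (P.inf st)).card_eq_or_dvd.resolve_left
      (fun h => (Finite.one_lt_card (α := (P.inf st : Subgroup A))).ne' h))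
    have hm : (u : A) ∈ E ⊓ P.inf st := by
      refine ⟨?_, u.2⟩
      show (u : A) ^ p = 1
      rw [← Subgroup.coe_pow, ← hu, pow_orderOf_eq_one, Subgroup.coe_one]
    rw [hP2, Subgroup.mem_bot] at hm
    rw [show u = 1 from Subtype.ext hm, orderOf_one] at hu
    exact hp.ne_one hu.symm
  have hinj : Function.Injective fun (a : A) (x : P) => (⟨a • (x : Ω), MulAction.mem_orbit _ a⟩ : MulAction.orbit A (x : Ω)) := by
    intro a b hab'
    have h1 : a⁻¹ * b ∈ P.inf st := by
      rw [Finset.inf_eq_iInf, Subgroup.mem_iInf]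
      intro x
      rw [Subgroup.mem_iInf]
      intro hx
      show (a⁻¹ * b) • x = x
      rw [mul_smul, inv_smul_eq_iff]
      exact (congrArg Subtype.val (congrFun hab' ⟨x, hx⟩)).symm
    rw [hS, Subgroup.mem_bot, inv_mul_eq_one] at h1
    exact h1
  have hcard := Nat.card_le_card_of_injective _ hinj
  rw [Nat.card_pi] at hcard
  have hsum : ∑ x : P, Nat.card (MulAction.orbit A (x : Ω)) ≤ Fintype.card Ω := by
    rw [← Nat.card_sigma, ← Nat.card_eq_fintype_card (α := Ω)]
    refine Nat.card_le_card_of_injective (fun q : Σ x : P, MulAction.orbit A (x : Ω) => (q.2 : Ω)) ?_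
    rintro ⟨x, u⟩ ⟨y, v⟩ huv
    simp only at huv
    have h1 : (x : Ω) = y := hP4 x x.2 y y.2 (by
      obtain ⟨g, hg⟩ := u.2
      obtain ⟨g', hg'⟩ := v.2
      have h2 : g • (x : Ω) = g' • (y : Ω) := hg.trans (huv.trans hg'.symm)
      exact ⟨g'⁻¹ * g, by rw [mul_smul, h2, inv_smul_smul]⟩)
    obtain rfl : x = y := Subtype.ext h1
    exact Sigma.ext rfl (heq_of_eq (Subtype.ext huv))
  have horb : ∀ x : P, ∃ a, Nat.card (MulAction.orbit A (x : Ω)) = p ^ a := fun x => hA.card_orbit (x : Ω)
  choose ex hex using horb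
  set L := ((Finset.univ : Finset P).toList.map ex) with hL
  have hLlen : L.length ≤ k := by rw [hL, List.length_map, Finset.length_toList, Finset.card_univ, Fintype.card_coe]; exact hP1
  have hLsum : L.sum = ∑ x : P, ex x := by rw [hL, Finset.sum_map_toList]
  have hLsum' : (L.map (p ^ ·)).sum = ∑ x : P, p ^ ex x := by
    rw [hL, List.map_map, Finset.sum_map_toList]; rfl
  have hAle : Nat.card A ≤ p ^ L.sum := by
    rw [hLsum, ← Finset.prod_pow_eq_pow_sum]
    exact hcard.trans_eq (Finset.prod_congr rfl fun x _ => hex x)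
  have hkle : k ≤ L.sum := by
    refine (Nat.pow_le_pow_iff_right hp.one_lt).mp (le_trans ?_ hAle)
    rw [← hE]; exact Subgroup.card_le_card_group E
  obtain ⟨L', h1, h2, h3⟩ := pad hp.two_le (k - L.length) L k (by omega) hkle
  have h4 := amgm (L'.map (p ^ ·))
  rw [List.length_map, h1] at h4
  have h5 : (L'.map (p ^ ·)).prod = p ^ L.sum := by
    rw [← h2]
    clear h1 h2 h3 h4
    induction L' with
    | nil => simp
    | cons a M ih => simp [ih, pow_add]
  rw [h5] at h4
  refine le_trans (Nat.mul_le_mul_right _ hAle) (h4.trans (Nat.pow_le_pow_left (h3.trans ?_) _))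
  rw [hLsum']
  exact le_trans (le_of_eq (Finset.sum_congr rfl fun x _ => (hex x).symm)) hsum

end Cfsg.Agent.S3696
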