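import Cfsg.Statements.S3701
import Cfsg.Agent.Lib.Recog.ThreeCubeFour.Main

set_option autoImplicit false
open Cfsg

namespace Cfsg.Agent.S3701

/-- Let H₀ ≤ Sym(9) be generated by the 3-cycles (1 2 3), (4 5 6), (7 8 9) and the involutions (1 2)(4 5), (1 2)(7 8) (a group of order 108, elementary abelian of order 27 extended by a four-group). Let G be a finite group with a subgroup H ≅ H₀, and T ≤ H of order 27 (a Sylow 3-subgroup of H) with N_G(T) = H and C_G(t) ≤ H for every t ≠ 1 in T. Then G = H. -/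
theorem result {G : Type*} [Group G] [Finite G] (H : Subgroup G)
    (hH : Nonempty (↥H ≃* ↥(Subgroup.closure ({Equiv.swap (0 : Fin 9) 1 * Equiv.swap 1 2, Equiv.swap (3 : Fin 9) 4 * Equiv.swap 4 5, Equiv.swap (6 : Fin 9) 7 * Equiv.swap 7 8,
        Equiv.swap (0 : Fin 9) 1 * Equiv.swap 3 4, Equiv.swap (0 : Fin 9) 1 * Equiv.swap 6 7} : Set (Equiv.Perm (Fin 9))))))
    (T : Subgroup G) (hTH : T ≤ H) (hT : Nat.card T = 27) (hN : Subgroup.normalizer (T : Set G) = H)
    (hC : ∀ t ∈ T, t ≠ 1 → Subgroup.centralizer ({t} : Set G) ≤ H) : H = ⊤ := by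
  classical
  obtain ⟨e⟩ := hH
  have hgen : CfsgLib.Recog.ThreeCubeFour.toPerm9.range = Subgroup.closure ({Equiv.swap (0 : Fin 9) 1 * Equiv.swap 1 2, Equiv.swap (3 : Fin 9) 4 * Equiv.swap 4 5, Equiv.swap (6 : Fin 9) 7 * Equiv.swap 7 8,
      Equiv.swap (0 : Fin 9) 1 * Equiv.swap 3 4, Equiv.swap (0 : Fin 9) 1 * Equiv.swap 6 7} : Set (Equiv.Perm (Fin 9))) := by
    rw [CfsgLib.Recog.ThreeCubeFour.range_toPerm9]
    simp [CfsgLib.Recog.ThreeCubeFour.genPerm]
  let f₀ : CfsgLib.Recog.ThreeCubeFour.M ≃* ↥H :=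
    ((MonoidHom.ofInjective CfsgLib.Recog.ThreeCubeFour.toPerm9_injective).trans
      (MulEquiv.subgroupCongr hgen)).trans e.symm
  let f : CfsgLib.Recog.ThreeCubeFour.M →* G := H.subtype.comp f₀.toMonoidHom
  have hf : Function.Injective f := H.subtype_injective.comp f₀.injective
  have hrange : f.range = H := by
    rw [MonoidHom.range_comp, MonoidHom.range_eq_top.2 f₀.surjective, ← MonoidHom.range_eq_map,
      Subgroup.range_subtype]
  have hTeq : CfsgLib.Recog.ThreeCubeFour.tImg f = T := by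
    refine (Subgroup.eq_of_le_of_card_ge (fun g hg => ?_) ?_).symm
    · obtain ⟨m, hm⟩ : ∃ m, f m = g := (hrange ▸ hTH hg : g ∈ f.range)
      refine CfsgLib.Recog.ThreeCubeFour.mem_tImg.2 ⟨m, CfsgLib.Recog.ThreeCubeFour.tHom_of_pow m (hf ?_), hm⟩
      rw [map_pow, hm, map_one, ← hT]
      exact orderOf_dvd_iff_pow_eq_one.1 (Subgroup.orderOf_dvd_natCard T hg)
    · rw [CfsgLib.Recog.ThreeCubeFour.tImg, Subgroup.card_map_of_injective hf,
        CfsgLib.Recog.ThreeCubeFour.card_tM, hT]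
  rw [← hrange]
  exact CfsgLib.Recog.ThreeCubeFour.range_eq_top f hf (by rw [hTeq, hrange]; exact hN)
    (by rw [hTeq, hrange]; exact hC)

end Cfsg.Agent.S3701
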