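import Cfsg.Statements.S3702
import Cfsg.Agent.Lib.Recog.ThreeCubeSFour.Main
import Cfsg.Agent.Lib.HallGen.Basic

set_option autoImplicit false
open Cfsg

namespace Cfsg.Agent.S3702

/-- Let K ≤ Sym(9) be generated by (1 2 3), (1 4 7)(2 5 8)(3 6 9), (1 2)(4 5) and (1 4)(2 5)(3 6)(7 8) (the normalizer in Alt(9) of the elementary abelian group generated by (1 2 3), (4 5 6), (7 8 9)). Let G be a finite group with a subgroup H ≅ K and J = O₃(H). If C_G(j) ≤ H for every j ≠ 1 in J and J is strongly closed in H with respect to G (a G-conjugate of an element of J lying in H lies in J), then G = H. -/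
theorem result {G : Type*} [Group G] [Finite G] (H : Subgroup G)
    (hH : Nonempty (↥H ≃* ↥(Subgroup.closure ({Equiv.swap (0 : Fin 9) 1 * Equiv.swap 1 2,
        Equiv.swap (0 : Fin 9) 3 * Equiv.swap 3 6 * (Equiv.swap (1 : Fin 9) 4 * Equiv.swap 4 7) * (Equiv.swap (2 : Fin 9) 5 * Equiv.swap 5 8),
        Equiv.swap (0 : Fin 9) 1 * Equiv.swap 3 4, Equiv.swap (0 : Fin 9) 3 * Equiv.swap 1 4 * Equiv.swap 2 5 * Equiv.swap 6 7} : Set (Equiv.Perm (Fin 9))))))
    (J : Subgroup G) (hJ : J = (Cfsg.pCore 3 ↥H).map H.subtype)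
    (hC : ∀ j ∈ J, j ≠ 1 → Subgroup.centralizer ({j} : Set G) ≤ H) (hsc : Cfsg.IsStronglyClosed J H) : H = ⊤ := by
  classical
  obtain ⟨e⟩ := hH
  have hgen : CfsgLib.Recog.ThreeCubeSFour.toPerm9.range = Subgroup.closure ({Equiv.swap (0 : Fin 9) 1 * Equiv.swap 1 2,
      Equiv.swap (0 : Fin 9) 3 * Equiv.swap 3 6 * (Equiv.swap (1 : Fin 9) 4 * Equiv.swap 4 7) * (Equiv.swap (2 : Fin 9) 5 * Equiv.swap 5 8),
      Equiv.swap (0 : Fin 9) 1 * Equiv.swap 3 4, Equiv.swap (0 : Fin 9) 3 * Equiv.swap 1 4 * Equiv.swap 2 5 * Equiv.swap 6 7} : Set (Equiv.Perm (Fin 9))) := by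
    rw [CfsgLib.Recog.ThreeCubeSFour.range_toPerm9]
    simp [CfsgLib.Recog.ThreeCubeSFour.genPerm]
  let f₀ : CfsgLib.Recog.ThreeCubeSFour.M ≃* ↥H :=
    ((MonoidHom.ofInjective CfsgLib.Recog.ThreeCubeSFour.toPerm9_injective).trans
      (MulEquiv.subgroupCongr hgen)).trans e.symm
  let f : CfsgLib.Recog.ThreeCubeSFour.M →* G := H.subtype.comp f₀.toMonoidHom
  have hf : Function.Injective f := H.subtype_injective.comp f₀.injective
  have hrange : f.range = H := by
    rw [MonoidHom.range_comp, MonoidHom.range_eq_top.2 f₀.surjective, ← MonoidHom.range_eq_map,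
      Subgroup.range_subtype]
  haveI : Fact (Nat.Prime 3) := ⟨Nat.prime_three⟩
  have hcore : Cfsg.pCore 3 ↥H = CfsgLib.Recog.ThreeCubeSFour.JM.map f₀.toMonoidHom := by
    apply le_antisymm
    · intro x hx
      obtain ⟨m, rfl⟩ := f₀.surjective x
      refine Subgroup.mem_map.2 ⟨m, CfsgLib.Recog.ThreeCubeSFour.mem_JM.2 ?_, rfl⟩
      haveI : (Cfsg.pCore 3 ↥H).Normal := CfsgLib.HallGen.pCore_normal' 3
      have h9 : ∀ n, f₀ n ∈ Cfsg.pCore 3 ↥H → n ^ 9 = 1 := fun n hn => by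
        obtain ⟨k, hk⟩ := CfsgLib.HallGen.isPGroup_pCore 3 ⟨f₀ n, hn⟩
        refine CfsgLib.Recog.ThreeCubeSFour.pow_nine_of_three (k := k) (f₀.injective ?_)
        rw [map_pow, map_one]
        exact congrArg Subtype.val hk
      refine (CfsgLib.Recog.ThreeCubeSFour.core_cases m (h9 m hx)).resolve_right fun hne => hne (h9 _ ?_)
      rw [map_mul, map_mul, map_mul (f₀) _ m, map_inv]
      exact Subgroup.mul_mem _ hx (Subgroup.Normal.conj_mem inferInstance _ hx _)
    · haveI : (CfsgLib.Recog.ThreeCubeSFour.JM.map f₀.toMonoidHom).Normal :=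
        Subgroup.Normal.map ⟨fun n hn g => CfsgLib.Recog.ThreeCubeSFour.mem_JM.2
          (CfsgLib.Recog.ThreeCubeSFour.inJ_conj n hn g)⟩ _ f₀.surjective
      exact le_sSup ⟨inferInstance, IsPGroup.map (IsPGroup.of_card (n := 3)
        (by rw [CfsgLib.Recog.ThreeCubeSFour.card_JM]; norm_num)) _⟩
  have hJeq : J = CfsgLib.Recog.ThreeCubeSFour.JM.map f := by
    rw [hJ, hcore, Subgroup.map_map]
  have hyp : CfsgLib.Recog.ThreeCubeSFour.Hyp f :=
    { inj := hf
      cent := fun j hj hj1 => by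
        rw [hrange]
        refine hC _ (hJeq ▸ Subgroup.mem_map.2 ⟨j, hj, rfl⟩) fun h => hj1 (hf ?_)
        rw [h, map_one]
      closed := fun j hj g hg => by
        rw [hrange] at hg
        have h := hsc.2 _ (hJeq ▸ Subgroup.mem_map.2 ⟨j, hj, rfl⟩) g hg
        rw [hJeq] at h
        obtain ⟨j', hj', hjj⟩ := Subgroup.mem_map.1 h
        exact ⟨j', hj', hjj⟩ }
  rw [← hrange]
  exact CfsgLib.Recog.ThreeCubeSFour.range_eq_top hyp

end Cfsg.Agent.S3702
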