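import Cfsg.Statements.S3703
import Mathlib

set_option autoImplicit false
open Cfsg

namespace Cfsg.Agent.S3703

--- PRE
open Finset in
theorem abelian_core {Γ : Type*} [Group Γ] [Finite Γ] (P Q : Subgroup Γ) [P.Normal]
    (habel : ∀ u ∈ P, ∀ v ∈ P, u * v = v * u) (x : Γ) (m : ℕ) (hm : x ^ m = 1) (hm0 : 0 < m)
    (hQx : ∀ y ∈ Q, x * y * x⁻¹ ∈ Q)
    (hfpf : ∀ i, 0 < i → i < m → ∀ y ∈ Q, x ^ i * y = y * x ^ i → y = 1)
    (hcop : (Nat.card Q).Coprime (Nat.card P)) (hT : ∀ u ∈ P, (u * x) ^ m = 1) :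
    ∀ y ∈ Q, ∀ u ∈ P, y * u = u * y := by
  classical
  letI : CommGroup P := { (inferInstance : Group P) with
    mul_comm := fun a b => Subtype.ext (habel _ a.2 _ b.2) }
  let φ : Γ →* MulAut P := MulAut.conjNormal
  have hφ : ∀ (g : Γ) (u : P), ((φ g u : P) : Γ) = g * u * g⁻¹ := fun g u =>
    MulAut.conjNormal_apply g u
  have hpow : ∀ (u : P) (k : ℕ),
      ((u : Γ) * x) ^ k = ((∏ i ∈ range k, φ (x ^ i) u : P) : Γ) * x ^ k := by
    intro u k
    induction k with
    | zero => simp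
    | succ k ih =>
      rw [pow_succ, ih, prod_range_succ, Subgroup.coe_mul, hφ, pow_succ x k]
      group
  have hT' : ∀ u : P, (∏ i ∈ range m, φ (x ^ i) u) = 1 := by
    intro u
    have h := hT _ u.2
    rw [hpow, hm, mul_one] at h
    exact Subtype.ext h
  have hQxi : ∀ (i : ℕ), ∀ y ∈ Q, x ^ i * y * (x ^ i)⁻¹ ∈ Q := by
    intro i
    induction i with
    | zero => intro y hy; simpa using hy
    | succ i ih =>
      intro y hy
      have : x ^ (i + 1) * y * (x ^ (i + 1))⁻¹ = x * (x ^ i * y * (x ^ i)⁻¹) * x⁻¹ := by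
        rw [pow_succ']; group
      rw [this]
      exact hQx _ (ih y hy)
  haveI : Fintype Q := Fintype.ofFinite _
  intro y hy u hu
  let U : P := ⟨u, hu⟩
  have h1 : ∏ q : Q, ∏ i ∈ range m, φ ((q : Γ) * x ^ i * (q : Γ)⁻¹) U = 1 := by
    apply prod_eq_one
    intro q _
    have : ∀ i, φ ((q : Γ) * x ^ i * (q : Γ)⁻¹) U = φ (q : Γ) (φ (x ^ i) (φ (q : Γ)⁻¹ U)) := by
      intro i; rw [map_mul, map_mul]; rfl
    simp only [this]
    rw [← map_prod, hT', map_one]
  rw [prod_comm] at h1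
  obtain ⟨k, rfl⟩ : ∃ k, m = k + 1 := ⟨m - 1, by omega⟩
  have h2 : ∏ i ∈ range (k + 1), ∏ q : Q, φ (q : Γ) (φ (x ^ i) U) = 1 := by
    rw [prod_comm]
    apply prod_eq_one
    intro q _
    rw [← map_prod, hT', map_one]
  rw [prod_range_succ'] at h1 h2
  have hsame : ∀ i ∈ range k, ∏ q : Q, φ ((q : Γ) * x ^ (i + 1) * (q : Γ)⁻¹) U =
      ∏ q : Q, φ (q : Γ) (φ (x ^ (i + 1)) U) := by
    intro i hi
    have hi' : i + 1 < k + 1 := by simp only [mem_range] at hi; omega
    let f : Q → Q := fun q => ⟨(q : Γ) * (x ^ (i + 1) * (q : Γ)⁻¹ * (x ^ (i + 1))⁻¹),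
      Q.mul_mem q.2 (hQxi _ _ (Q.inv_mem q.2))⟩
    have hfi : Function.Injective f := by
      intro a b hab
      have h : (a : Γ) * (x ^ (i + 1) * (a : Γ)⁻¹ * (x ^ (i + 1))⁻¹) =
          (b : Γ) * (x ^ (i + 1) * (b : Γ)⁻¹ * (x ^ (i + 1))⁻¹) := congrArg Subtype.val hab
      have hc : x ^ (i + 1) * ((b : Γ)⁻¹ * a) = ((b : Γ)⁻¹ * a) * x ^ (i + 1) := by
        have h' : (a : Γ) * x ^ (i + 1) * (a : Γ)⁻¹ = (b : Γ) * x ^ (i + 1) * (b : Γ)⁻¹ := by
          have := congrArg (fun t => t * x ^ (i + 1)) h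
          simpa [mul_assoc] using this
        calc x ^ (i + 1) * ((b : Γ)⁻¹ * a)
            = (b : Γ)⁻¹ * ((b : Γ) * x ^ (i + 1) * (b : Γ)⁻¹) * a := by group
          _ = (b : Γ)⁻¹ * ((a : Γ) * x ^ (i + 1) * (a : Γ)⁻¹) * a := by rw [h']
          _ = _ := by group
      have := hfpf (i + 1) (by omega) hi' _ (Q.mul_mem (Q.inv_mem b.2) a.2) hc
      exact Subtype.ext (inv_mul_eq_one.1 this).symm
    refine Fintype.prod_bijective f ⟨hfi, Finite.surjective_of_injective hfi⟩ _ _ ?_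
    intro q
    have : (q : Γ) * x ^ (i + 1) * (q : Γ)⁻¹ = (f q : Γ) * x ^ (i + 1) := by
      show _ = (q : Γ) * (x ^ (i + 1) * (q : Γ)⁻¹ * (x ^ (i + 1))⁻¹) * x ^ (i + 1)
      group
    rw [this, map_mul]; rfl
  rw [prod_congr rfl hsame] at h1
  have h3 : (∏ q : Q, φ ((q : Γ) * x ^ 0 * (q : Γ)⁻¹) U) = ∏ q : Q, φ (q : Γ) (φ (x ^ 0) U) :=
    mul_left_cancel (h1.trans h2.symm)
  simp only [pow_zero, mul_one, mul_inv_cancel, map_one, MulAut.one_apply, prod_const,
    card_univ] at h3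
  have h4 : φ y (U ^ Fintype.card Q) = U ^ Fintype.card Q := by
    rw [h3, map_prod]
    refine Fintype.prod_equiv (Equiv.mulLeft (⟨y, hy⟩ : Q)) _ _ ?_
    intro q
    simp only [Equiv.coe_mulLeft, Subgroup.coe_mul, map_mul]
    rfl
  have h5 : (φ y U / U) ^ Fintype.card Q = 1 := by
    rw [div_pow, ← map_pow, h4, div_self']
  have h6 : φ y U / U = 1 := by
    refine orderOf_eq_one_iff.1 (Nat.eq_one_of_dvd_coprimes hcop ?_ ?_)
    · rw [Nat.card_eq_fintype_card]; exact orderOf_dvd_of_pow_eq_one h5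
    · exact orderOf_dvd_natCard _
  rw [div_eq_one] at h6
  have h7 := congrArg Subtype.val h6
  rw [hφ] at h7
  exact mul_inv_eq_iff_eq_mul.1 h7

theorem coprime_core {p : ℕ} (hp : p.Prime) : ∀ (k : ℕ) {Γ : Type*} [Group Γ] [Finite Γ]
    (P Q : Subgroup Γ), P.Normal → Nat.card P = k → IsPGroup p P →
    (Nat.card Q).Coprime (Nat.card P) → ∀ (x : Γ) (m : ℕ), x ^ m = 1 → 0 < m →
    (∀ y ∈ Q, x * y * x⁻¹ ∈ Q) →
    (∀ i, 0 < i → i < m → ∀ y ∈ Q, x ^ i * y = y * x ^ i → y = 1) →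
    (∀ u ∈ P, (u * x) ^ m = 1) → ∀ y ∈ Q, ∀ u ∈ P, y * u = u * y := by
  intro k
  induction k using Nat.strong_induction_on with
  | _ k IH =>
    intro Γ _ _ P Q hPn hPk hP hcop x m hxm hm0 hQx hfpf hT
    haveI := hPn
    haveI := Fact.mk hp
    by_cases hPt : P = ⊥
    · intro y _ u hu
      rw [hPt, Subgroup.mem_bot] at hu
      simp [hu]
    haveI : Nontrivial P := (Subgroup.nontrivial_iff_ne_bot P).2 hPt
    let Z : Subgroup Γ := (Subgroup.center P).map P.subtype
    haveI hZn : Z.Normal := inferInstance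
    have hZP : Z ≤ P := Subgroup.map_subtype_le _
    have hmemZ : ∀ u : Γ, u ∈ Z → ∀ v ∈ P, u * v = v * u := by
      rintro u ⟨a, ha, rfl⟩ v hv
      exact (congrArg Subtype.val (Subgroup.mem_center_iff.1 ha ⟨v, hv⟩)).symm
    have hcopZ : (Nat.card Q).Coprime (Nat.card Z) :=
      hcop.coprime_dvd_right (Subgroup.card_dvd_of_le hZP)
    have hQZ := abelian_core Z Q (fun u hu v hv => hmemZ u hu v (hZP hv)) x m hxm hm0 hQx hfpf
      hcopZ (fun u hu => hT u (hZP hu))
    let π := QuotientGroup.mk' Z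
    have hlt : Nat.card (P.map π) < k := by
      rw [← hPk]
      classical
      haveI : Fintype P := Fintype.ofFinite _
      haveI : Fintype (P.map π) := Fintype.ofFinite _
      rw [Nat.card_eq_fintype_card, Nat.card_eq_fintype_card]
      apply Fintype.card_lt_of_surjective_not_injective _ (π.subgroupMap_surjective P)
      intro hinj
      haveI := hP.center_nontrivial
      obtain ⟨z, hz⟩ := exists_ne (1 : Subgroup.center P)
      apply hz
      apply Subtype.ext
      apply hinj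
      apply Subtype.ext
      show π ((z : P) : Γ) = π ((1 : P) : Γ)
      rw [Subgroup.coe_one, map_one]
      exact (QuotientGroup.eq_one_iff _).2 ⟨z, z.2, rfl⟩
    have hQP : ∀ y ∈ Q, y ∈ P → y = 1 := fun y hy hy' => by
      have h1 := Subgroup.orderOf_dvd_natCard (s := Q) hy
      have h2 := Subgroup.orderOf_dvd_natCard (s := P) hy'
      exact orderOf_eq_one_iff.1 (Nat.eq_one_of_dvd_coprimes hcop h1 h2)
    have hq := IH _ hlt (P.map π) (Q.map π) (Subgroup.Normal.map hPn π (QuotientGroup.mk'_surjective Z))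
      rfl (hP.map π)
      ((hcop.coprime_dvd_left (Subgroup.card_map_dvd _ _)).coprime_dvd_right
        (Subgroup.card_map_dvd _ _)) (π x) m (by rw [← map_pow, hxm, map_one]) hm0 ?_ ?_ ?_
    · intro y hy u hu
      have h := hq (π y) ⟨y, hy, rfl⟩ (π u) ⟨u, hu, rfl⟩
      rw [← map_mul, ← map_mul] at h
      have hc : (u * y)⁻¹ * (y * u) ∈ Z := QuotientGroup.eq.1 h.symm
      set c := (u * y)⁻¹ * (y * u) with hcdef
      have hyc : y * c = c * y := hQZ y hy c hc
      have h1 : ∀ j : ℕ, y ^ j * u * (y ^ j)⁻¹ = u * c ^ j := by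
        intro j
        induction j with
        | zero => simp
        | succ j ih =>
          have hstep : y * u * y⁻¹ = u * c := by
            have hh : y * u = u * y * c := by rw [hcdef]; group
            rw [hh, mul_assoc u y c, hyc]; group
          have hcy : y * c ^ j * y⁻¹ = c ^ j := by
            rw [(Commute.pow_right (show Commute y c from hyc) j).eq]; group
          calc y ^ (j + 1) * u * (y ^ (j + 1))⁻¹
              = y * (y ^ j * u * (y ^ j)⁻¹) * y⁻¹ := by rw [pow_succ']; group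
            _ = y * (u * c ^ j) * y⁻¹ := by rw [ih]
            _ = (y * u * y⁻¹) * (y * c ^ j * y⁻¹) := by group
            _ = u * c * c ^ j := by rw [hstep, hcy]
            _ = u * c ^ (j + 1) := by rw [pow_succ', mul_assoc]
      have h2 : c ^ orderOf y = 1 := by
        have h := h1 (orderOf y)
        rw [pow_orderOf_eq_one] at h
        simpa using h
      have hc1 : c = 1 := orderOf_eq_one_iff.1 (Nat.eq_one_of_dvd_coprimes hcop
        ((orderOf_dvd_of_pow_eq_one h2).trans (Subgroup.orderOf_dvd_natCard Q hy))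
        (Subgroup.orderOf_dvd_natCard P (hZP hc)))
      exact (inv_mul_eq_one.1 hc1).symm
    · rintro _ ⟨y, hy, rfl⟩
      exact ⟨x * y * x⁻¹, hQx y hy, by simp⟩
    · rintro i hi him _ ⟨y, hy, rfl⟩ h
      rw [← map_pow, ← map_mul, ← map_mul] at h
      have hc : (x ^ i * y)⁻¹ * (y * x ^ i) ∈ Z := QuotientGroup.eq.1 h
      have hQxi : ∀ j : ℕ, ∀ y ∈ Q, (x ^ j)⁻¹ * y * x ^ j ∈ Q := by
        intro j y hy
        have hj : ∀ t : ℕ, x ^ t * y * (x ^ t)⁻¹ ∈ Q := by
          intro t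
          induction t with
          | zero => simpa using hy
          | succ t ih =>
            have h' : x ^ (t + 1) * y * (x ^ (t + 1))⁻¹ = x * (x ^ t * y * (x ^ t)⁻¹) * x⁻¹ := by
              rw [pow_succ']; group
            rw [h']
            exact hQx _ ih
        have hinv : (x ^ j)⁻¹ = x ^ (j * (m - 1)) := by
          apply inv_eq_of_mul_eq_one_right
          rw [← pow_add, show j + j * (m - 1) = j * m by
            obtain ⟨k', rfl⟩ : ∃ k', m = k' + 1 := ⟨m - 1, by omega⟩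
            simp; ring, mul_comm j m, pow_mul, hxm, one_pow]
        have h3 := hj (j * (m - 1))
        rw [← hinv, inv_inv] at h3
        exact h3
      have hmem : (x ^ i * y)⁻¹ * (y * x ^ i) ∈ Q := by
        have : (x ^ i * y)⁻¹ * (y * x ^ i) = y⁻¹ * ((x ^ i)⁻¹ * y * x ^ i) := by group
        rw [this]
        exact Q.mul_mem (Q.inv_mem hy) (hQxi i y hy)
      have heq : x ^ i * y = y * x ^ i := inv_mul_eq_one.1 (hQP _ hmem (hZP hc))
      rw [hfpf i hi him y hy heq, map_one]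
    · rintro _ ⟨u, hu, rfl⟩
      rw [← map_mul, ← map_pow, hT u hu, map_one]

/-- Let N be a normal subgroup of the finite group G such that G/N is a Frobenius group with kernel F and cyclic complement H, where the order of F is coprime to that of N and F is not contained in the image of C_G(N) in G/N. Then G has an element of order p·#H for some prime p dividing the order of N. (A standard tool in recognising groups by their element orders.) -/
theorem result {G : Type*} [Group G] [Finite G] (N : Subgroup G) [N.Normal]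
    (Fb Hb : Subgroup (G ⧸ N)) [Fb.Normal] (hHb : Cfsg.IsFrobeniusComplement Hb) (hker : Cfsg.frobeniusKernel Hb = (Fb : Set (G ⧸ N)))
    (hcyc : IsCyclic Hb) (hcop : (Nat.card Fb).Coprime (Nat.card N))
    (hnot : ¬ Fb ≤ (Subgroup.centralizer (N : Set G)).map (QuotientGroup.mk' N)) :
    ∃ p : ℕ, p.Prime ∧ p ∣ Nat.card N ∧ ∃ g : G, orderOf g = p * Nat.card Hb := by
  classical
  let π := QuotientGroup.mk' N
  have hπ : Function.Surjective π := QuotientGroup.mk'_surjective N
  have hπN : ∀ g : G, π g = 1 ↔ g ∈ N := fun g => QuotientGroup.eq_one_iff g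
  obtain ⟨h, hh⟩ := hcyc.exists_generator
  set m := Nat.card Hb with hm
  have hm0 : 0 < m := Nat.card_pos
  have hho : orderOf (h : G ⧸ N) = m := by
    rw [Subgroup.orderOf_coe]; exact orderOf_eq_card_of_forall_mem_zpowers hh
  -- an element of order `m` in the quotient with nontrivial `m`-th power suffices
  have finish : ∀ g : G, orderOf (π g) = m → g ^ m ≠ 1 →
      ∃ p : ℕ, p.Prime ∧ p ∣ Nat.card N ∧ ∃ g : G, orderOf g = p * m := by
    intro g hg hne
    obtain ⟨d, hd⟩ : m ∣ orderOf g := hg ▸ orderOf_map_dvd π g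
    have hd1 : d ≠ 1 := by
      rintro rfl
      rw [mul_one] at hd
      exact hne (hd ▸ pow_orderOf_eq_one g)
    obtain ⟨p, hp, d', rfl⟩ := Nat.exists_prime_and_dvd hd1
    refine ⟨p, hp, ?_, g ^ d', ?_⟩
    · have hmem : g ^ m ∈ N := (hπN _).1 (by rw [map_pow, ← hg, pow_orderOf_eq_one])
      have ho : orderOf (g ^ m) = p * d' := by
        rw [orderOf_pow_of_dvd hm0.ne' (hd ▸ dvd_mul_right _ _), hd, Nat.mul_div_cancel_left _ hm0]
      exact (Dvd.intro d' rfl).trans (ho ▸ Subgroup.orderOf_dvd_natCard N hmem)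
    · have hpos : 0 < orderOf g := orderOf_pos g
      have hd' : d' ≠ 0 := by rintro rfl; simp [hd] at hpos
      rw [orderOf_pow_of_dvd hd' ⟨m * p, by rw [hd]; ring⟩, hd]
      rw [show m * (p * d') = p * m * d' by ring, Nat.mul_div_cancel _ (Nat.pos_of_ne_zero hd')]
  have hker1 : ∀ f ∈ Fb, f ∈ Hb → f = 1 := by
    intro f hf hf'
    rcases (hker.symm ▸ hf : f ∈ Cfsg.frobeniusKernel Hb) with h1 | h1
    · exact h1
    · exact absurd (by simpa using hf') (h1 1)
  have hfix : ∀ f ∈ Fb, ∀ t ∈ Hb, t ≠ 1 → t * f = f * t → f = 1 := by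
    intro f hf t ht ht1 hc
    by_contra hf1
    have hfH : f ∉ Hb := fun h' => hf1 (hker1 f hf h')
    have h0 := hHb.2.2 f hfH
    apply ht1
    rw [← Subgroup.mem_bot, ← h0, Subgroup.mem_inf]
    refine ⟨ht, ?_⟩
    rw [Subgroup.mem_pointwise_smul_iff_inv_smul_mem]
    have : ((MulAut.conj f)⁻¹ • t : G ⧸ N) = f⁻¹ * t * f := by simp
    rw [this, mul_assoc, hc, inv_mul_cancel_left]
    exact ht
  -- elements of the coset `Fb h` behave like `h`
  have hcoset : ∀ a : G ⧸ N, a * (h : G ⧸ N)⁻¹ ∈ Fb →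
      orderOf a = m ∧ ∀ i, 0 < i → i < m → ∀ y ∈ Fb, a ^ i * y = y * a ^ i → y = 1 := by
    intro a ha
    by_cases hm1 : m = 1
    · have : Hb = ⊥ := Subgroup.eq_bot_of_card_eq _ hm1
      exact absurd this hHb.1
    let t : G ⧸ N := h
    let conjT : Fb → Fb := fun f => ⟨(f : G ⧸ N) * (t * (f : G ⧸ N)⁻¹ * t⁻¹),
      Fb.mul_mem f.2 (Subgroup.Normal.conj_mem inferInstance _ (Fb.inv_mem f.2) t)⟩
    have hinj : Function.Injective conjT := by
      intro f₁ f₂ he
      have he' : (f₁ : G ⧸ N) * (t * (f₁ : G ⧸ N)⁻¹ * t⁻¹) =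
          (f₂ : G ⧸ N) * (t * (f₂ : G ⧸ N)⁻¹ * t⁻¹) := congrArg Subtype.val he
      have h' : (f₁ : G ⧸ N) * t * (f₁ : G ⧸ N)⁻¹ = (f₂ : G ⧸ N) * t * (f₂ : G ⧸ N)⁻¹ := by
        have := congrArg (fun z => z * t) he'
        simpa [mul_assoc] using this
      have hc : t * ((f₂ : G ⧸ N)⁻¹ * f₁) = ((f₂ : G ⧸ N)⁻¹ * f₁) * t := by
        calc t * ((f₂ : G ⧸ N)⁻¹ * f₁)
            = (f₂ : G ⧸ N)⁻¹ * ((f₂ : G ⧸ N) * t * (f₂ : G ⧸ N)⁻¹) * f₁ := by group
          _ = (f₂ : G ⧸ N)⁻¹ * ((f₁ : G ⧸ N) * t * (f₁ : G ⧸ N)⁻¹) * f₁ := by rw [h']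
          _ = _ := by group
      have hne : t ≠ 1 := fun h1 => hm1 (by rw [← hho]; exact orderOf_eq_one_iff.2 h1)
      exact Subtype.ext (inv_mul_eq_one.1
        (hfix _ (Fb.mul_mem (Fb.inv_mem f₂.2) f₁.2) t h.2 hne hc)).symm
    obtain ⟨f, hf⟩ := Finite.surjective_of_injective hinj ⟨a * t⁻¹, ha⟩
    have hf' : (f : G ⧸ N) * (t * (f : G ⧸ N)⁻¹ * t⁻¹) = a * t⁻¹ := congrArg Subtype.val hf
    have hconj : a = MulAut.conj (f : G ⧸ N) t := by
      rw [MulAut.conj_apply]
      have := congrArg (fun z => z * t) hf'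
      simpa [mul_assoc] using this.symm
    refine ⟨?_, ?_⟩
    · rw [hconj, MulEquiv.orderOf_eq, hho]
    · intro i hi him y hy hc
      have hti : t ^ i ≠ 1 := fun h1 => by
        have h2 := orderOf_dvd_of_pow_eq_one h1
        rw [hho] at h2
        exact absurd (Nat.le_of_dvd hi h2) (by omega)
      rw [hconj, ← map_pow] at hc
      have hy' : (MulAut.conj (f : G ⧸ N)).symm y ∈ Fb := by
        rw [MulAut.conj_symm_apply]
        simpa using Subgroup.Normal.conj_mem (inferInstance : Fb.Normal) y hy (f : G ⧸ N)⁻¹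
      have hc' := congrArg (MulAut.conj (f : G ⧸ N)).symm hc
      simp only [map_mul, MulEquiv.symm_apply_apply] at hc'
      have h8 := hfix _ hy' (t ^ i) (Hb.pow_mem h.2 i) hti hc'
      exact (MulEquiv.symm_apply_eq _).1 h8 |>.trans (map_one _)
  -- a Sylow subgroup of the preimage of `Fb` which does not centralise `N`
  let K := Fb.comap π
  have hKcard : Nat.card K = Nat.card N * Nat.card Fb := by
    let r : K →* Fb := π.subgroupComap Fb
    have hr : Function.Surjective r := fun f => by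
      obtain ⟨g, hg⟩ := hπ f
      exact ⟨⟨g, show π g ∈ Fb by rw [hg]; exact f.2⟩, Subtype.ext hg⟩
    have hk : r.ker = N.subgroupOf K := by
      ext g
      rw [MonoidHom.mem_ker, Subgroup.mem_subgroupOf, ← hπN, Subtype.ext_iff]
      rfl
    have hNK : N ≤ K := fun g hg => by
      show π g ∈ Fb
      rw [(hπN g).2 hg]
      exact Fb.one_mem
    rw [Subgroup.card_eq_card_quotient_mul_card_subgroup r.ker, hk,
      Nat.card_congr (Subgroup.subgroupOfEquivOfLe hNK).toEquiv, ← hk,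
      Nat.card_congr (QuotientGroup.quotientKerEquivOfSurjective r hr).toEquiv, mul_comm]
  obtain ⟨q, hq, hqF, Q, hQ⟩ : ∃ q : ℕ, q.Prime ∧ q ∣ Nat.card Fb ∧
      ∃ Q : Sylow q K, ¬ ((Q : Subgroup K).map K.subtype ≤ Subgroup.centralizer (N : Set G)) := by
    by_contra hcon
    push Not at hcon
    apply hnot
    let D := ((Subgroup.centralizer (N : Set G)).map π).subgroupOf Fb
    suffices hD : D = ⊤ from Subgroup.subgroupOf_eq_top.1 hD
    rw [← Subgroup.index_eq_one]
    by_contra hne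
    obtain ⟨q, hq, hqd⟩ := Nat.exists_prime_and_dvd hne
    haveI := Fact.mk hq
    have hqF : q ∣ Nat.card Fb := hqd.trans (Subgroup.index_dvd_card D)
    let Q : Sylow q K := default
    let r : K →* Fb := π.subgroupComap Fb
    have hr : Function.Surjective r := fun f => by
      obtain ⟨g, hg⟩ := hπ f
      exact ⟨⟨g, show π g ∈ Fb by rw [hg]; exact f.2⟩, Subtype.ext hg⟩
    have hle : ((Q.mapSurjective hr : Sylow q Fb) : Subgroup Fb) ≤ D := by
      rintro _ ⟨k, hk, rfl⟩
      exact ⟨k, hcon q hq hqF Q ⟨k, hk, rfl⟩, rfl⟩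
    exact (Q.mapSurjective hr).not_dvd_index (hqd.trans (Subgroup.index_dvd_of_le hle))
  haveI := Fact.mk hq
  have hqN : ¬ q ∣ Nat.card N := fun hd => by
    have := Nat.eq_one_of_dvd_coprimes hcop hqF hd
    exact hq.ne_one this
  let Qg : Subgroup G := (Q : Subgroup K).map K.subtype
  have hQg : IsPGroup q Qg := Q.2.map _
  -- a Sylow subgroup of `N` normalised, not centralised, by `Qg`
  obtain ⟨p, hp, hpN, P, hPfix, hPnc⟩ : ∃ p : ℕ, p.Prime ∧ p ∣ Nat.card N ∧ ∃ P : Sylow p N,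
      Qg ≤ Subgroup.normalizer (((P : Subgroup N).map N.subtype : Subgroup G) : Set G) ∧
      ¬ ∀ y ∈ Qg, ∀ u ∈ (P : Subgroup N).map N.subtype, y * u = u * y := by
    by_contra hcon
    push Not at hcon
    apply hQ
    intro y hy
    let C := (Subgroup.centralizer (Qg : Set G)).subgroupOf N
    suffices hC : C = ⊤ by
      rw [Subgroup.mem_centralizer_iff]
      intro n hn
      have : (⟨n, hn⟩ : N) ∈ C := hC ▸ Subgroup.mem_top _
      exact (Subgroup.mem_centralizer_iff.1 this y hy).symm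
    rw [← Subgroup.index_eq_one]
    by_contra hne
    obtain ⟨p, hp, hpd⟩ := Nat.exists_prime_and_dvd hne
    haveI := Fact.mk hp
    have hpN : p ∣ Nat.card N := hpd.trans (Subgroup.index_dvd_card C)
    have hcardSyl : ¬ q ∣ Nat.card (Sylow p N) := fun hd =>
      hqN (hd.trans ((Sylow.card_dvd_index default).trans (Subgroup.index_dvd_card _)))
    letI : MulAction Qg (Sylow p N) :=
      MulAction.compHom (Sylow p N) ((MulAut.conjNormal (H := N)).comp Qg.subtype)
    obtain ⟨P, hP⟩ := hQg.nonempty_fixed_point_of_prime_not_dvd_card (Sylow p N) hcardSyl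
    have hPn : Qg ≤ Subgroup.normalizer (((P : Subgroup N).map N.subtype : Subgroup G) : Set G) := by
      intro g hg
      have hfix' : ∀ g : Qg, ∀ u : N, u ∈ (P : Subgroup N) →
          MulAut.conjNormal (g : G) u ∈ (P : Subgroup N) := by
        intro g u hu
        have h1 : (MulAut.conjNormal (H := N) (g : G)) • P = P := hP g
        have h2 : MulAut.conjNormal (g : G) u ∈ ((MulAut.conjNormal (H := N) (g : G)) • P).toSubgroup :=
          ⟨u, hu, rfl⟩
        rwa [h1] at h2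
      rw [Subgroup.mem_normalizer_iff]
      intro u
      constructor
      · rintro ⟨v, hv, rfl⟩
        exact ⟨_, hfix' ⟨g, hg⟩ v hv, MulAut.conjNormal_apply g v⟩
      · rintro ⟨v, hv, hv'⟩
        refine ⟨_, hfix' ⟨g⁻¹, Qg.inv_mem hg⟩ v hv, ?_⟩
        show ((MulAut.conjNormal (H := N) g⁻¹ v : N) : G) = u
        have hv'' : (v : G) = g * u * g⁻¹ := hv'
        rw [MulAut.conjNormal_apply, hv'']
        group
    have hc := hcon p hp hpN P hPn
    have hle : (P : Subgroup N) ≤ C := by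
      intro u hu
      rw [Subgroup.mem_subgroupOf, Subgroup.mem_centralizer_iff]
      intro z hz
      exact hc z hz _ ⟨u, hu, rfl⟩
    exact P.not_dvd_index (hpd.trans (Subgroup.index_dvd_of_le hle))
  haveI := Fact.mk hp
  let Pg : Subgroup G := (P : Subgroup N).map N.subtype
  let G1 : Subgroup G := Subgroup.normalizer (Pg : Set G)
  have hG1 : G1 ⊔ N = ⊤ := Sylow.normalizer_sup_eq_top P
  have hQ1 : Qg ≤ G1 := hPfix
  have hQK : Qg ≤ K := Subgroup.map_subtype_le _
  let K1 : Subgroup G1 := K.subgroupOf G1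
  let Q1 : Subgroup K1 := (Qg.subgroupOf G1).subgroupOf K1
  have hQ1c : Nat.card Q1 = Nat.card Qg := by
    rw [Nat.card_congr (Subgroup.subgroupOfEquivOfLe (show Qg.subgroupOf G1 ≤ K1 from
      fun g hg => hQK hg)).toEquiv, Nat.card_congr (Subgroup.subgroupOfEquivOfLe hQ1).toEquiv]
  obtain ⟨Q1s, hQ1s⟩ : ∃ S : Sylow q K1, (S : Subgroup K1) = Q1 := by
    have hQgc : Nat.card Qg = q ^ (Nat.card K).factorization q := by
      rw [Subgroup.card_map_of_injective K.subtype_injective, Q.card_eq_multiplicity]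
    have hK1 : Nat.card K1 ∣ Nat.card K := by
      have : Nat.card K1 = Nat.card (K1.map G1.subtype) :=
        (Subgroup.card_map_of_injective G1.subtype_injective).symm
      rw [this]
      apply Subgroup.card_dvd_of_le
      rintro _ ⟨g, hg, rfl⟩
      exact hg
    have hK1' : Nat.card Q1 ∣ Nat.card K1 := Subgroup.card_subgroup_dvd_card Q1
    have hf : (Nat.card K1).factorization q = (Nat.card K).factorization q := by
      apply le_antisymm
      · exact (Nat.factorization_le_iff_dvd Nat.card_pos.ne' Nat.card_pos.ne').2 hK1 q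
      · rw [hQ1c, hQgc] at hK1'
        exact (hq.pow_dvd_iff_le_factorization Nat.card_pos.ne').1 hK1'
    exact ⟨Sylow.ofCard Q1 (by rw [hQ1c, hQgc, hf]), rfl⟩
  have hfrat := Sylow.normalizer_sup_eq_top Q1s
  obtain ⟨g0, hg0⟩ := hπ (h : G ⧸ N)
  obtain ⟨g1, hg1, n, hn, hgn⟩ : ∃ g1 ∈ G1, ∃ n ∈ N, g1 * n = g0 := by
    have : g0 ∈ G1 ⊔ N := hG1 ▸ Subgroup.mem_top _
    rw [Subgroup.mem_sup_of_normal_right] at this
    exact this
  have hpg1 : π g1 = (h : G ⧸ N) := by
    rw [← hg0, ← hgn, map_mul, (hπN n).2 hn, mul_one]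
  obtain ⟨x1, hx1, k1, hk1, hxk⟩ : ∃ x1 ∈ Subgroup.normalizer
      (((Q1s : Subgroup K1).map K1.subtype : Subgroup G1) : Set G1), ∃ k ∈ K1,
      x1 * k = (⟨g1, hg1⟩ : G1) := by
    have h' := hfrat ▸ Subgroup.mem_top (⟨g1, hg1⟩ : G1)
    rw [Subgroup.mem_sup_of_normal_right] at h'
    exact h'
  let x : G := (x1 : G)
  have hxQ : ∀ y ∈ Qg, x * y * x⁻¹ ∈ Qg := by
    intro y hy
    have hy1 : (⟨y, hQ1 hy⟩ : G1) ∈ (Q1s : Subgroup K1).map K1.subtype :=
      ⟨⟨⟨y, hQ1 hy⟩, hQK hy⟩, by rw [hQ1s]; exact hy, rfl⟩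
    obtain ⟨z, hz, hz'⟩ := (Subgroup.mem_normalizer_iff.1 hx1 _).1 hy1
    rw [hQ1s] at hz
    have hz'' : ((z : G1) : G) = x * y * x⁻¹ := congrArg Subtype.val hz'
    rw [← hz'']
    exact hz
  have hxh : π x * (h : G ⧸ N)⁻¹ ∈ Fb := by
    have hxk' : x * (k1 : G) = g1 := congrArg Subtype.val hxk
    rw [← hpg1, ← hxk', map_mul, mul_inv_rev, ← mul_assoc]
    exact Subgroup.Normal.conj_mem inferInstance _ (Fb.inv_mem hk1) (π x)
  obtain ⟨hxo, hxf⟩ := hcoset _ hxh
  by_cases hxm : x ^ m = 1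
  swap
  · exact finish x hxo hxm
  by_contra hgoal
  have hPgN : Pg ≤ N := Subgroup.map_subtype_le _
  have hT : ∀ u ∈ Pg, (u * x) ^ m = 1 := by
    intro u hu
    by_contra hne
    refine hgoal (finish (u * x) ?_ hne)
    rw [map_mul, (hπN u).2 (hPgN hu), one_mul, hxo]
  have hfpf : ∀ i, 0 < i → i < m → ∀ y ∈ Qg, x ^ i * y = y * x ^ i → y = 1 := by
    intro i hi him y hy hc
    have hy1 : π y = 1 := hxf i hi him (π y) (hQK hy) (by rw [← map_pow, ← map_mul, hc, map_mul])
    obtain ⟨a, ha⟩ := IsPGroup.iff_orderOf.1 hQg ⟨y, hy⟩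
    have hd := Subgroup.orderOf_dvd_natCard N ((hπN y).1 hy1)
    rw [← Subgroup.orderOf_coe (⟨y, hy⟩ : Qg)] at ha
    rw [ha] at hd
    rcases Nat.eq_zero_or_pos a with rfl | ha0
    · simpa using ha
    · exact absurd ((dvd_pow_self q ha0.ne').trans hd) hqN
  apply hPnc
  have hPcop : (Nat.card Qg).Coprime (Nat.card Pg) := by
    obtain ⟨a, ha⟩ := IsPGroup.iff_card.1 hQg
    rw [ha]
    refine Nat.Coprime.pow_left _ ((Nat.Prime.coprime_iff_not_dvd hq).2 fun hd => hqN ?_)
    exact hd.trans (Subgroup.card_dvd_of_le hPgN)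
  intro y hy u hu
  have hres := coprime_core hp _ (Pg.subgroupOf G1) (Qg.subgroupOf G1)
    Subgroup.normal_in_normalizer rfl
    ((P.2.map N.subtype).comap_of_injective _ G1.subtype_injective) ?_ x1 m
    (Subtype.ext hxm) hm0 (fun y hy => hxQ _ hy)
    (fun i hi him y hy hc => Subtype.ext (hfpf i hi him _ hy (congrArg Subtype.val hc)))
    (fun u hu => Subtype.ext (hT _ hu))
    ⟨y, hQ1 hy⟩ hy ⟨u, Subgroup.le_normalizer hu⟩ hu
  · exact congrArg Subtype.val hres
  · rw [Nat.card_congr (Subgroup.subgroupOfEquivOfLe hQ1).toEquiv,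
      Nat.card_congr (Subgroup.subgroupOfEquivOfLe (Subgroup.le_normalizer (H := Pg))).toEquiv]
    exact hPcop

end Cfsg.Agent.S3703
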