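import Cfsg.Statements.S3704
import Mathlib

set_option autoImplicit false
open Cfsg

namespace Cfsg.Agent.S3704

--- PRE
open Finset Pointwise in
theorem complement_eq {G Ω C : Type*} [Group G] [MulAction G Ω] [MulAction G C] [Fintype Ω] [Fintype C]
    [DecidableEq Ω] (hcard : Fintype.card C = Fintype.card Ω)
    (h2 : ∀ a b c d : Ω, a ≠ b → c ≠ d → ∃ g : G, g • a = c ∧ g • b = d)
    (h1 : ∀ a c : Ω, ∃ g : G, g • a = c)
    (B P : C → Finset Ω) (hB : ∀ (g : G) c x, x ∈ B (g • c) ↔ g⁻¹ • x ∈ B c)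
    (hP : ∀ (g : G) c x, x ∈ P (g • c) ↔ g⁻¹ • x ∈ P c)
    (hne : ∀ c, (B c).Nonempty) (hnu : ∀ c, B c ≠ univ) (hPne : ∀ c, (P c).Nonempty)
    (hdis : ∀ c, Disjoint (B c) (P c)) : ∀ c y, y ∈ B c ∨ y ∈ P c := by
  classical
  let β : Ω → C → ℚ := fun x c => if x ∈ B c then 1 else 0
  let ρ : Ω → C → ℚ := fun x c => if x ∈ P c then 1 else 0
  have hinv : ∀ (F F' : Ω → C → ℚ), (∀ (g : G) x c, F (g • x) (g • c) = F x c) →
      (∀ (g : G) x c, F' (g • x) (g • c) = F' x c) → ∀ (g : G) x y,
      ∑ c, F (g • x) c * F' (g • y) c = ∑ c, F x c * F' y c := by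
    intro F F' hF hF' g x y
    rw [← Equiv.sum_comp (MulAction.toPerm g : Equiv.Perm C)]
    exact sum_congr rfl fun c _ => by simp [hF, hF']
  have hβ : ∀ (g : G) x c, β (g • x) (g • c) = β x c := fun g x c => by
    simp only [β, hB, inv_smul_smul]
  have hρ : ∀ (g : G) x c, ρ (g • x) (g • c) = ρ x c := fun g x c => by
    simp only [ρ, hP, inv_smul_smul]
  by_cases hΩ : ∀ x y : Ω, x = y
  · intro c y
    obtain ⟨x, hx⟩ := hne c
    exact Or.inl (hΩ x y ▸ hx)
  push Not at hΩ
  obtain ⟨x0, y0, hxy⟩ := hΩ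
  obtain ⟨r, hr⟩ : ∃ r, r = ∑ c, β x0 c * β x0 c := ⟨_, rfl⟩
  obtain ⟨l, hl⟩ : ∃ l, l = ∑ c, β x0 c * β y0 c := ⟨_, rfl⟩
  obtain ⟨μ, hμ⟩ : ∃ μ, μ = ∑ c, β x0 c * ρ y0 c := ⟨_, rfl⟩
  have hd : ∀ x, ∑ c, β x c * β x c = r := fun x => by
    obtain ⟨g, rfl⟩ := h1 x0 x; rw [hinv β β hβ hβ, hr]
  have hod : ∀ x y, x ≠ y → ∑ c, β x c * β y c = l := fun x y h => by
    obtain ⟨g, rfl, rfl⟩ := h2 x0 y0 x y hxy h; rw [hinv β β hβ hβ, hl]
  have hdμ : ∀ x, ∑ c, β x c * ρ x c = 0 := fun x => by
    refine sum_eq_zero fun c _ => ?_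
    simp only [β, ρ]
    split_ifs with ha hb
    · exact absurd hb (disjoint_left.1 (hdis c) ha)
    all_goals simp
  have hoμ : ∀ x y, x ≠ y → ∑ c, β x c * ρ y c = μ := fun x y h => by
    obtain ⟨g, rfl, rfl⟩ := h2 x0 y0 x y hxy h; rw [hinv β ρ hβ hρ, hμ]
  have hβsq : ∀ x c, β x c * β x c = β x c := fun x c => by simp only [β]; split_ifs <;> simp
  have hrl : l < r := by
    obtain ⟨c0⟩ : Nonempty C := Fintype.card_pos_iff.1 (hcard ▸ Fintype.card_pos_iff.2 ⟨x0⟩)
    obtain ⟨u, hu⟩ := hne c0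
    obtain ⟨v, hv⟩ : ∃ v, v ∉ B c0 := by
      by_contra hc; push Not at hc; exact hnu c0 (eq_univ_of_forall hc)
    have huv : u ≠ v := fun h => hv (h ▸ hu)
    rw [← hd u, ← hod u v huv]
    refine sum_lt_sum (fun c _ => ?_) ⟨c0, mem_univ _, ?_⟩
    · simp only [β]; split_ifs <;> norm_num
    · simp [β, hu, hv]
  have hl0 : 0 ≤ l := by
    rw [hl]; refine sum_nonneg fun c _ => ?_
    simp only [β]; split_ifs <;> norm_num
  have hrsum : ∀ x, ∑ c, β x c = r := fun x => by rw [← hd x]; simp only [hβsq]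
  -- the rows of the incidence matrix span everything
  have hli : LinearIndependent ℚ β := by
    rw [Fintype.linearIndependent_iff]
    intro v hv
    have hkey : ∀ y, (r - l) * v y + l * ∑ x, v x = 0 := by
      intro y
      have h0 : ∑ c, (∑ x, v x • β x) c * β y c = 0 := by simp only [hv, Pi.zero_apply, zero_mul, Finset.sum_const_zero]
      simp only [Finset.sum_apply, Pi.smul_apply, smul_eq_mul, sum_mul] at h0
      rw [sum_comm] at h0
      simp only [mul_assoc, ← mul_sum] at h0
      have : ∀ x, v x * ∑ c, β x c * β y c = v x * l + if x = y then v x * (r - l) else 0 := by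
        intro x
        split_ifs with h
        · subst h; rw [hd]; ring
        · rw [hod x y h]; ring
      simp only [this, sum_add_distrib, sum_ite_eq', mem_univ, if_true, ← sum_mul] at h0
      linarith
    have hS : ∑ x, v x = 0 := by
      have h3 : ∑ y, ((r - l) * v y + l * ∑ x, v x) = 0 := sum_eq_zero fun y _ => hkey y
      rw [sum_add_distrib, ← mul_sum, sum_const, card_univ, nsmul_eq_mul] at h3
      have hpos : 0 < (r - l) + (Fintype.card Ω : ℚ) * l :=
        add_pos_of_pos_of_nonneg (sub_pos.2 hrl) (mul_nonneg (Nat.cast_nonneg _) hl0)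
      have h4 : ((r - l) + (Fintype.card Ω : ℚ) * l) * ∑ x, v x = 0 := by linarith
      exact (mul_eq_zero.1 h4).resolve_left hpos.ne'
    intro y
    have := hkey y
    rw [hS, mul_zero, add_zero, mul_eq_zero] at this
    exact this.resolve_left (sub_pos.2 hrl).ne'
  have hspan := hli.span_eq_top_of_card_eq_finrank' (by rw [Module.finrank_pi, hcard])
  have hr0 : r ≠ 0 := (hl0.trans_lt hrl).ne'
  obtain ⟨α, hα⟩ : ∃ α, α = -μ / (r - l) := ⟨_, rfl⟩
  obtain ⟨γ, hγ⟩ : ∃ γ, γ = (μ - α * l) / r := ⟨_, rfl⟩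
  have hlin : ∀ y c, ρ y c = α * β y c + γ := by
    intro y
    let d : C → ℚ := fun c => ρ y c - α * β y c - γ
    let L : (C → ℚ) →ₗ[ℚ] ℚ := Fintype.linearCombination ℚ d
    have hL : ∀ f, L f = ∑ c, f c * d c := fun f => by
      simp [L, Fintype.linearCombination_apply, smul_eq_mul]
    have hL0 : ∀ x, L (β x) = 0 := by
      intro x
      have : ∀ c, β x c * d c = β x c * ρ y c - α * (β x c * β y c) - γ * β x c := fun c => by
        simp only [d]; ring
      simp only [hL, this, sum_sub_distrib, ← mul_sum, hrsum]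
      have h1' : r - l ≠ 0 := (sub_pos.2 hrl).ne'
      have e1 : α * (r - l) = -μ := by rw [hα]; field_simp
      have e2 : γ * r = μ - α * l := by rw [hγ]; field_simp
      by_cases h : x = y
      · subst h; rw [hdμ, hd]; linarith
      · rw [hoμ x y h, hod x y h]; linarith
    have hLz : L d = 0 := by
      have : L = 0 := by
        apply LinearMap.ext_on_range hspan
        simpa using hL0
      simp [this]
    rw [hL] at hLz
    intro c
    have hz := (sum_eq_zero_iff_of_nonneg fun c _ => mul_self_nonneg (d c)).1 hLz c (mem_univ _)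
    have : d c = 0 := mul_self_eq_zero.1 hz
    simp only [d] at this
    linarith
  intro c0 y
  by_contra hcon
  push Not at hcon
  have h0 := hlin y c0
  simp only [β, ρ, if_neg hcon.1, if_neg hcon.2, mul_zero, zero_add] at h0
  obtain ⟨z, hz⟩ := hPne c0
  have hz' := hlin z c0
  simp only [β, ρ, if_pos hz, if_neg (disjoint_right.1 (hdis c0) hz), mul_zero, zero_add] at hz'
  linarith

/-- Let G be a finite group acting faithfully and 2-transitively on a finite set Ω of size n, and let H be a subgroup of index n in G which is not transitive on Ω and fixes no point of Ω. Then H has exactly two orbits on Ω. -/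
theorem result {G Ω : Type*} [Group G] [Finite G] [MulAction G Ω] [FaithfulSMul G Ω] [Finite Ω] (h2 : MulAction.IsMultiplyPretransitive G Ω 2) (H : Subgroup G) (hidx : H.index = Nat.card Ω) (hnt : ¬ MulAction.IsPretransitive H Ω) (hfix : ∀ a : Ω, ∃ h : H, h • a ≠ a) : Nat.card (MulAction.orbitRel.Quotient H Ω) = 2 := by
  classical
  haveI : Fintype Ω := Fintype.ofFinite Ω
  haveI : Fintype (G ⧸ H) := Fintype.ofFinite _
  haveI htr : MulAction.IsPretransitive G Ω := MulAction.isPretransitive_of_is_two_pretransitive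
  have h2' : ∀ a b c d : Ω, a ≠ b → c ≠ d → ∃ g : G, g • a = c ∧ g • b = d := fun a b c d h h' =>
    MulAction.is_two_pretransitive_iff.1 h2 h h'
  obtain ⟨a, b, hab⟩ : ∃ a b : Ω, b ∉ MulAction.orbit H a := by
    by_contra hc
    push Not at hc
    exact hnt ⟨fun x y => hc x y⟩
  -- the translate of an orbit by a coset
  let T : Ω → G ⧸ H → Finset Ω := fun u c =>
    Finset.univ.filter fun x => c.out⁻¹ • x ∈ MulAction.orbit H u
  have hT : ∀ u (g : G) c x, x ∈ T u (g • c) ↔ g⁻¹ • x ∈ T u c := by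
    intro u g c x
    simp only [T, Finset.mem_filter, Finset.mem_univ, true_and]
    obtain ⟨k, hk⟩ : ∃ k : H, (g • c).out = g * c.out * k := by
      have h : (((g • c).out : G) : G ⧸ H) = ((g * c.out : G) : G ⧸ H) := by
        rw [QuotientGroup.out_eq']
        conv_lhs => rw [← QuotientGroup.out_eq' c]
        exact MulAction.Quotient.smul_coe H g c.out
      exact ⟨⟨_, QuotientGroup.eq.1 h.symm⟩, (mul_inv_cancel_left _ _).symm⟩
    rw [hk, mul_inv_rev, mul_inv_rev, mul_smul, mul_smul, ← Subgroup.coe_inv, ← Subgroup.smul_def]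
    constructor
    · intro h
      have := MulAction.mem_orbit_of_mem_orbit k h
      rwa [smul_inv_smul] at this
    · exact MulAction.mem_orbit_of_mem_orbit k⁻¹
  have hcard : Fintype.card (G ⧸ H) = Fintype.card Ω := by
    rw [← Nat.card_eq_fintype_card, ← Nat.card_eq_fintype_card, ← hidx]; rfl
  have hcomp := complement_eq hcard h2' (fun a c => MulAction.exists_smul_eq G a c)
    (T a) (T b) (hT a) (hT b)
    (fun c => ⟨c.out • a, by simp [T]⟩) (fun c h => by
      have hb' : c.out • b ∈ T a c := h ▸ Finset.mem_univ _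
      simp [T] at hb'
      exact hab hb') (fun c => ⟨c.out • b, by simp [T]⟩) (fun c => by
      rw [Finset.disjoint_left]
      intro x hx hx'
      simp only [T, Finset.mem_filter, Finset.mem_univ, true_and] at hx hx'
      exact hab (MulAction.orbit_eq_iff.1 ((MulAction.orbit_eq_iff.2 hx').symm.trans
        (MulAction.orbit_eq_iff.2 hx))))
  rw [Nat.card_eq_two_iff]
  refine ⟨Quotient.mk'' a, Quotient.mk'' b, fun h => hab ?_, ?_⟩
  · exact MulAction.orbitRel_apply.1 (Quotient.exact' h.symm)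
  · rw [Set.eq_univ_iff_forall]
    intro q
    induction q using Quotient.inductionOn' with
    | _ y =>
      let c : G ⧸ H := ((1 : G) : G ⧸ H)
      rcases hcomp c (c.out • y) with h | h <;> simp [T] at h
      · exact Or.inl (Quotient.sound' h)
      · exact Or.inr (Quotient.sound' h)

end Cfsg.Agent.S3704
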