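import Cfsg.Statements.S3708
import Cfsg.Agent.Lib.Recog.Phan.Pick

set_option autoImplicit false
open Cfsg

namespace Cfsg.Agent.S3708

/-- Phan's recognition of unitary groups. Let F be a finite field with q² elements, q > 4, and n ≥ 2. Let G be a group generated by subgroups U_0, …, U_{n−1}, each isomorphic to the special unitary group SU(2, q²) (determinant-one isometries of the standard Hermitian form in two variables over F), and let D_i ≤ U_i be cyclic subgroups of order q + 1. Suppose that U_i and U_j commute elementwise whenever the indices differ by at least 2, that the subgroup generated by U_i and U_{i+1} is isomorphic to SU(3, q²) for each i, and that D_i and D_j commute elementwise for all i, j. Then G is a homomorphic image of SU(n+1, q²). (Generation of G by the U_i is part of the hypothesis; G is not assumed finite.) -/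
theorem result {G : Type*} [Group G] (n : ℕ) (hn : 2 ≤ n)
    (F : Type*) [Field F] [Fintype F] (q : ℕ) (hq : 4 < q) (hF : Fintype.card F = q ^ 2)
    (U : Fin n → Subgroup G) (e : ∀ i, ↥(Cfsg.SU 2 F q) ≃* ↥(U i)) (hgen : ⨆ i, U i = ⊤)
    (D : Fin n → Subgroup G) (hD : ∀ i, D i ≤ U i ∧ IsCyclic ↥(D i) ∧ Nat.card ↥(D i) = q + 1)
    (h1 : ∀ i j : Fin n, (i : ℕ) + 2 ≤ j → ∀ x ∈ U i, ∀ y ∈ U j, x * y = y * x)
    (h2 : ∀ i j : Fin n, (i : ℕ) + 1 = j → Nonempty (↥(U i ⊔ U j) ≃* ↥(Cfsg.SU 3 F q)))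
    (h3 : ∀ i j : Fin n, i ≠ j → ∀ x ∈ D i, ∀ y ∈ D j, x * y = y * x) :
    ∃ f : ↥(Cfsg.SU (n + 1) F q) →* G, Function.Surjective f := by
  classical
  obtain ⟨m, rfl⟩ : ∃ m, n = m + 1 := ⟨n - 1, by omega⟩
  -- generators of the tori
  have hD' : ∀ i, ∃ a : G, a ∈ D i ∧ a ∈ U i ∧ orderOf a = q + 1 := fun i => by
    obtain ⟨hle, hcyc, hcard⟩ := hD i
    obtain ⟨a, ha⟩ := IsCyclic.exists_ofOrder_eq_natCard (α := D i)
    exact ⟨a, a.2, hle a.2, by rw [Subgroup.orderOf_coe, ha, hcard]⟩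
  choose a haD haU hao using hD'
  let U' : ℕ → Subgroup G := fun p => if h : p < m + 1 then U ⟨p, h⟩ else ⊥
  let V' : ℕ → Subgroup G := fun p => U' p ⊔ U' (p + 1)
  obtain ⟨f, hf⟩ := CfsgLib.Phan.exists_hom_of_system hF (by omega) U' V' m (by omega)
    (fun p hp => by
      simp only [U', V', dif_pos (show p < m + 1 by omega), dif_pos (show p + 1 < m + 1 by omega)]
      obtain ⟨ε⟩ := h2 ⟨p, by omega⟩ ⟨p + 1, by omega⟩ rfl
      exact CfsgLib.Phan.standard_of_tori hF (by omega) _ _ (e _) (e _) ε (haU _) (haU _) (hao _) (hao _)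
        (h3 ⟨p, by omega⟩ ⟨p + 1, by omega⟩ (by simp [Fin.ext_iff]) _ (haD _) _ (haD _)))
    (fun p r hpr hr x hx y hy => by
      simp only [U', dif_pos (show p < m + 1 by omega)] at hx
      simp only [U', dif_pos (show r < m + 1 by omega)] at hy
      exact h1 _ _ hpr x hx y hy)
  refine ⟨f, MonoidHom.range_eq_top.1 (eq_top_iff.2 (hgen.ge.trans (iSup_le fun i => ?_)))⟩
  obtain ⟨i, hi⟩ := i
  have hU' : U ⟨i, hi⟩ = U' i := by simp only [U', dif_pos hi]
  rw [hU']
  rcases Nat.lt_or_ge i m with h | h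
  · exact (le_sup_right.trans le_sup_left).trans (hf i h)
  · obtain ⟨j, rfl⟩ : ∃ j, i = j + 1 := ⟨i - 1, by omega⟩
    exact le_sup_right.trans (hf j (by omega))

end Cfsg.Agent.S3708
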