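import Cfsg.Statements.S3709
import Cfsg.Agent.Lib.Recog.Phan.Pair

set_option autoImplicit false
open Cfsg

namespace Cfsg.Agent.S3709

/-- Recognition of unitary groups from a weak Phan system. Let F be a finite field with q² elements, q > 3, and n ≥ 3. Let G be a group with subgroups U_0, …, U_{n−1}, each isomorphic to SU(2, q²), and, for each pair of consecutive indices, a subgroup V_{i,i+1} in which U_i and U_{i+1} form a standard pair (some isomorphism from SU(3, q²), or from its central quotient PSU(3, q²), onto V_{i,i+1} carries the two block-diagonal SU(2, q²) subgroups, or their images, onto U_i and U_{i+1}). Suppose that U_i and U_j commute elementwise whenever the indices differ by at least 2, and that G is generated by the U_i together with the V_{i,i+1}. Then G is a homomorphic image of SU(n+1, q²). (G is not assumed finite.) -/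
theorem result {G : Type*} [Group G] (n : ℕ) (hn : 3 ≤ n)
    (F : Type*) [Field F] [Fintype F] (q : ℕ) (hq : 3 < q) (hF : Fintype.card F = q ^ 2)
    (U : Fin n → Subgroup G) (e : ∀ i, ↥(Cfsg.SU 2 F q) ≃* ↥(U i))
    (V : Fin n → Fin n → Subgroup G)
    (h1 : ∀ i j : Fin n, (i : ℕ) + 2 ≤ j → ∀ x ∈ U i, ∀ y ∈ U j, x * y = y * x)
    (h2 : ∀ i j : Fin n, (i : ℕ) + 1 = j → Cfsg.IsStandardUnitaryPair (V i j) (U i) (U j) F q)
    (hgen : (⨆ i, U i) ⊔ (⨆ (i : Fin n) (j : Fin n) (_ : (i : ℕ) + 1 = j), V i j) = ⊤) :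
    ∃ f : ↥(Cfsg.SU (n + 1) F q) →* G, Function.Surjective f := by
  classical
  obtain ⟨m, rfl⟩ : ∃ m, n = m + 1 := ⟨n - 1, by omega⟩
  let U' : ℕ → Subgroup G := fun p => if h : p < m + 1 then U ⟨p, h⟩ else ⊥
  let V' : ℕ → Subgroup G := fun p => if h : p < m then V ⟨p, by omega⟩ ⟨p + 1, by omega⟩ else ⊥
  obtain ⟨f, hf⟩ := CfsgLib.Phan.exists_hom_of_system hF (by omega) U' V' m (by omega)
    (fun p hp => by
      simp only [U', V', dif_pos hp, dif_pos (show p < m + 1 by omega), dif_pos (show p + 1 < m + 1 by omega)]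
      exact h2 _ _ rfl)
    (fun p r hpr hr x hx y hy => by
      simp only [U', dif_pos (show p < m + 1 by omega)] at hx
      simp only [U', dif_pos (show r < m + 1 by omega)] at hy
      exact h1 _ _ hpr x hx y hy)
  have key : ∀ (p : ℕ) (hp : p < m), V ⟨p, by omega⟩ ⟨p + 1, by omega⟩ ⊔ U ⟨p, by omega⟩ ⊔ U ⟨p + 1, by omega⟩ ≤
      f.range := fun p hp => by
    have := hf p hp
    simpa only [U', V', dif_pos hp, dif_pos (show p < m + 1 by omega), dif_pos (show p + 1 < m + 1 by omega)]
      using this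
  refine ⟨f, MonoidHom.range_eq_top.1 (eq_top_iff.2 (hgen.ge.trans (sup_le (iSup_le fun i => ?_)
    (iSup_le fun i => iSup_le fun j => iSup_le fun hij => ?_))))⟩
  · obtain ⟨i, hi⟩ := i
    rcases Nat.lt_or_ge i m with h | h
    · exact (le_sup_right.trans le_sup_left).trans (key i h)
    · obtain ⟨j, rfl⟩ : ∃ j, i = j + 1 := ⟨i - 1, by omega⟩
      exact le_sup_right.trans (key j (by omega))
  · obtain ⟨i, hi⟩ := i
    obtain ⟨j, hj⟩ := j
    obtain rfl : i + 1 = j := hij
    exact (le_sup_left.trans le_sup_left).trans (key i (by omega))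

end Cfsg.Agent.S3709
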