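import Cfsg.Statements.S3711
import Cfsg.Agent.Lib.Recog.Phan.Two.Main
-- import your own Cfsg.Agent.* helpers here

set_option autoImplicit false
open Cfsg

namespace Cfsg.Agent.S3711

/-- Recognition of unitary groups over the field with 4 elements from a weak Phan system. Let F be a field with 4 elements and n ≥ 4. Let G be a group with subgroups U_0, …, U_{n−1}, each isomorphic to SU(2, 4), and, for consecutive indices, subgroups V_{i,i+1} in which U_i and U_{i+1} form a standard pair (via an isomorphism from SU(3, 4) or PSU(3, 4) carrying the block-diagonal subgroups, or their images, onto U_i and U_{i+1}); suppose U_i and U_j commute elementwise whenever the indices differ by at least 2, that G is generated by the U_i and the V_{i,i+1}, that for each i the subgroup generated by V_{i,i+1} and V_{i+1,i+2} is a homomorphic image of SU(4, 4), that U_i and V_{j,j+1} commute elementwise whenever i ≤ j − 2 or i ≥ j + 3, and that V_{i,i+1}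 and V_{k,k+1} commute elementwise whenever k ≥ i + 3. Then G is a homomorphic image of SU(n+1, 4). (G is not assumed finite.) -/
theorem result {G : Type*} [Group G] (n : ℕ) (hn : 4 ≤ n)
    (F : Type*) [Field F] [Fintype F] (hF : Fintype.card F = 4)
    (U : Fin n → Subgroup G) (e : ∀ i, ↥(Cfsg.SU 2 F 2) ≃* ↥(U i))
    (V : Fin n → Fin n → Subgroup G)
    (h1 : ∀ i j : Fin n, (i : ℕ) + 2 ≤ j → ∀ x ∈ U i, ∀ y ∈ U j, x * y = y * x)
    (h2 : ∀ i j : Fin n, (i : ℕ) + 1 = j → Cfsg.IsStandardUnitaryPair (V i j) (U i) (U j) F 2)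
    (hgen : (⨆ i, U i) ⊔ (⨆ (i : Fin n) (j : Fin n) (_ : (i : ℕ) + 1 = j), V i j) = ⊤)
    (h4 : ∀ i j k : Fin n, (i : ℕ) + 1 = j → (j : ℕ) + 1 = k →
      ∃ g : ↥(Cfsg.SU 4 F 2) →* ↥(V i j ⊔ V j k), Function.Surjective g)
    (h5 : ∀ i j k : Fin n, (j : ℕ) + 1 = k → ((i : ℕ) + 2 ≤ j ∨ (k : ℕ) + 2 ≤ i) →
      ∀ x ∈ U i, ∀ y ∈ V j k, x * y = y * x)
    (h6 : ∀ i j k l : Fin n, (i : ℕ) + 1 = j → (k : ℕ) + 1 = l → (j : ℕ) + 2 ≤ k →
      ∀ x ∈ V i j, ∀ y ∈ V k l, x * y = y * x) :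
    ∃ f : ↥(Cfsg.SU (n + 1) F 2) →* G, Function.Surjective f := by
  classical
  obtain ⟨m, rfl⟩ : ∃ m, n = m + 1 := ⟨n - 1, by omega⟩
  have hF' : Fintype.card F = 2 ^ 2 := by rw [hF]; norm_num
  let U' : ℕ → Subgroup G := fun p => if h : p < m + 1 then U ⟨p, h⟩ else ⊥
  let V' : ℕ → Subgroup G := fun p => if h : p < m then V ⟨p, by omega⟩ ⟨p + 1, by omega⟩ else ⊥
  obtain ⟨Φ, hΦ, hglue⟩ := CfsgLib.Phan.exists_coherent_two hF' U' V' m
    (fun p hp => by
      simp only [U', V', dif_pos hp, dif_pos (show p < m + 1 by omega), dif_pos (show p + 1 < m + 1 by omega)]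
      exact h2 _ _ rfl)
  obtain ⟨C, hC⟩ := CfsgLib.Phan.exists_chain hF' U' V' m (by omega) Φ hΦ hglue
    (fun p r hpr hr x hx y hy => by
      simp only [U', dif_pos (show p < m + 1 by omega)] at hx
      simp only [U', dif_pos (show r < m + 1 by omega)] at hy
      exact h1 _ _ hpr x hx y hy)
  have hU : ∀ (p : ℕ) (hp : p < m + 1) (x : ↥(Cfsg.SU 2 F 2)), C.ψ p x ∈ U ⟨p, hp⟩ := by
    intro p hp x
    rcases Nat.lt_or_ge p m with h | h
    · have e : (Φ p).comp CfsgLib.Phan.bup x ∈ U' p := (hΦ p h).up ▸ ⟨x, rfl⟩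
      simp only [U', dif_pos hp] at e
      rw [← C.up p (by omega) x, hC]
      exact e
    · obtain ⟨j, rfl⟩ : ∃ j, p = j + 1 := ⟨p - 1, by omega⟩
      have e : (Φ j).comp CfsgLib.Phan.blo x ∈ U' (j + 1) := (hΦ j (by omega)).lo ▸ ⟨x, rfl⟩
      simp only [U', dif_pos hp] at e
      rw [← C.lo j (by omega) x, hC]
      exact e
  have hV : ∀ (r : ℕ) (hr : r < m) (y : ↥(Cfsg.SU 3 F 2)), C.φ r y ∈ V ⟨r, by omega⟩ ⟨r + 1, by omega⟩ := by
    intro r hr y
    have e : Φ r y ∈ V' r := (hΦ r hr).range ▸ ⟨y, rfl⟩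
    simp only [V', dif_pos hr] at e
    rw [hC]; exact e
  obtain ⟨f, hf⟩ := CfsgLib.Phan.exists_extends_two hF' (m + 2) (by omega) C
    (fun p r h x y => h5 ⟨p, by omega⟩ ⟨r, by omega⟩ ⟨r + 1, by omega⟩ rfl
      (by show p + 2 ≤ r ∨ r + 1 + 2 ≤ p; omega) _ (hU p (by omega) x) _ (hV r (by omega) y))
    (fun p r h h' x y => h6 ⟨p, by omega⟩ ⟨p + 1, by omega⟩ ⟨r, by omega⟩ ⟨r + 1, by omega⟩ rfl rfl
      (by show p + 1 + 2 ≤ r; omega) _ (hV p (by omega) x) _ (hV r (by omega) y))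
    fun s hs => by
    have e0 : (Φ s).range = V ⟨s, by omega⟩ ⟨s + 1, by omega⟩ := by
      rw [(hΦ s (by omega)).range]; simp only [V', dif_pos (show s < m by omega)]
    have e1 : (Φ (s + 1)).range = V ⟨s + 1, by omega⟩ ⟨s + 2, by omega⟩ := by
      rw [(hΦ (s + 1) (by omega)).range]; simp only [V', dif_pos (show s + 1 < m by omega)]
    obtain ⟨W, hW⟩ : ∃ W, W = V ⟨s, by omega⟩ ⟨s + 1, by omega⟩ ⊔ V ⟨s + 1, by omega⟩ ⟨s + 2, by omega⟩ := ⟨_, rfl⟩
    have m0 : ∀ x, Φ s x ∈ W := fun x => by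
      rw [hW, ← e0]; exact Subgroup.mem_sup_left ⟨x, rfl⟩
    have m1 : ∀ x, Φ (s + 1) x ∈ W := fun x => by
      rw [hW, ← e1]; exact Subgroup.mem_sup_right ⟨x, rfl⟩
    obtain ⟨g, hg⟩ : ∃ g : ↥(Cfsg.SU 4 F 2) →* ↥W, Function.Surjective g := by
      subst hW; exact h4 _ _ _ rfl rfl
    obtain ⟨f, hf⟩ := CfsgLib.Phan.exists_window_two hF' g hg ((Φ s).codRestrict W m0) ((Φ (s + 1)).codRestrict W m1)
      (fun x hx => (hΦ s (by omega)).ker (congrArg Subtype.val hx))
      (fun x hx => (hΦ (s + 1) (by omega)).ker (congrArg Subtype.val hx))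
      (fun x => Subtype.ext (hglue s (by omega) x))
      (fun x y => Subtype.ext (by
        have := C.far s (s + 2) (by omega) (by omega) x y
        rw [← C.up s (by omega) x, ← C.lo (s + 1) (by omega) y, hC] at this
        exact this.eq))
    refine ⟨W.subtype.comp f, fun p hp x => ?_⟩
    rw [hC]
    rcases p with _ | _ | p
    · exact congrArg Subtype.val (hf x).1
    · exact congrArg Subtype.val (hf x).2
    · omega
  have key : ∀ (p : ℕ) (hp : p < m), V ⟨p, by omega⟩ ⟨p + 1, by omega⟩ ⊔ U ⟨p, by omega⟩ ⊔ U ⟨p + 1, by omega⟩ ≤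
      f.range := fun p hp => by
    have hE := hΦ p hp
    have hV : V' p ≤ f.range := by
      rw [← hE.range]
      rintro _ ⟨x, rfl⟩
      exact ⟨CfsgLib.Phan.blkAt p (by omega) x, (hf p (by omega) x).trans (by rw [hC])⟩
    obtain ⟨hA, hB⟩ := hE.left_le
    have := sup_le (sup_le hV (hA.trans hV)) (hB.trans hV)
    simpa only [U', V', dif_pos hp, dif_pos (show p < m + 1 by omega), dif_pos (show p + 1 < m + 1 by omega)]
      using this
  refine ⟨f, MonoidHom.range_eq_top.1 (eq_top_iff.2 (hgen.ge.trans (sup_le (iSup_le fun i => ?_)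
    (iSup_le fun i => iSup_le fun j => iSup_le fun hij => ?_))))⟩
  · obtain ⟨i, hi⟩ := i
    rcases Nat.lt_or_ge i m with h | h
    · exact (le_sup_right.trans le_sup_left).trans (key i h)
    · obtain ⟨j, rfl⟩ : ∃ j, i = j + 1 := ⟨i - 1, by omega⟩
      exact le_sup_right.trans (key j (by omega))
  · obtain ⟨i, hi⟩ := i
    obtain ⟨j, hj⟩ := j
    obtain rfl : i + 1 = j := hij
    exact (le_sup_left.trans le_sup_left).trans (key i (by omega))


end Cfsg.Agent.S3711
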