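import Cfsg.Statements.S3733
import Mathlib

set_option autoImplicit false
open Cfsg

namespace Cfsg.Agent.S3733

open scoped IsMulCommutative


/-- Let A and V be subgroups of a finite group with V abelian and nontrivial and A normalizing V. Suppose a nonempty finite family of proper subgroups of A partitions A: every non-identity element of A lies in exactly one member. If the number of members minus one is coprime to the order of V, then some member B of the family has a non-identity fixed point on V, that is V ∩ C(B) ≠ 1. -/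
theorem result {G : Type*} [Group G] [Finite G] (A V : Subgroup G) (hVab : IsMulCommutative V) (hV : V ≠ ⊥) (hAV : A ≤ Subgroup.normalizer (V : Set G)) (𝒜 : Finset (Subgroup G)) (hne : 𝒜.Nonempty) (hprop : ∀ B ∈ 𝒜, B < A) (hpart : ∀ a ∈ A, a ≠ 1 → ∃! B, B ∈ 𝒜 ∧ a ∈ B) (hk : (𝒜.card - 1).Coprime (Nat.card V)) : ∃ B ∈ 𝒜, V ⊓ Subgroup.centralizer (B : Set G) ≠ ⊥ := by
  classical
  haveI := hVab
  haveI : Fintype G := Fintype.ofFinite G
  by_contra hcon
  push Not at hcon
  have hmemV : ∀ a ∈ A, ∀ v ∈ V, a * v * a⁻¹ ∈ V := fun a ha v hv =>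
    (Subgroup.mem_normalizer_iff.mp (hAV ha) v).mp hv
  obtain ⟨B₀, hB₀⟩ := hne
  let S : Subgroup G → Finset A := fun B => Finset.univ.filter (fun a => (a : G) ∈ B)
  let φ : A → V → V := fun a v => ⟨(a : G) * v * (a : G)⁻¹, hmemV a a.2 v v.2⟩
  have hφmul : ∀ a b v, φ (a * b) v = φ a (φ b v) := fun a b v => Subtype.ext (by
    change (a : G) * b * v * ((a : G) * b)⁻¹ = a * (b * v * (b : G)⁻¹) * (a : G)⁻¹; group)
  have hφv : ∀ a v w, φ a (v * w) = φ a v * φ a w := fun a v w => Subtype.ext (by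
    change (a : G) * (v * w) * (a : G)⁻¹ = a * v * (a : G)⁻¹ * (a * w * (a : G)⁻¹); group)
  let N : Subgroup G → V → V := fun B v => ∏ a ∈ S B, φ a v
  have hfixN : ∀ B, B ≤ A → ∀ v, ∀ b ∈ B, b * (N B v : G) * b⁻¹ = N B v := by
    intro B hB v b hb
    let ψ : V →* V := MonoidHom.mk' (φ ⟨b, hB hb⟩) (hφv _)
    have h1 : ψ (N B v) = N B v := by
      change ψ (∏ a ∈ S B, φ a v) = ∏ a ∈ S B, φ a v
      rw [map_prod]
      refine Finset.prod_nbij (fun a => (⟨b, hB hb⟩ : A) * a) ?_ ?_ ?_ ?_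
      · intro a ha
        simp only [S, Finset.mem_coe, Finset.mem_filter, Finset.mem_univ, true_and] at ha ⊢
        exact mul_mem hb ha
      · exact fun a _ a' _ h => mul_left_cancel h
      · intro a ha
        refine ⟨(⟨b, hB hb⟩ : A)⁻¹ * a, ?_, mul_inv_cancel_left _ _⟩
        simp only [S, Finset.mem_coe, Finset.mem_filter, Finset.mem_univ, true_and] at ha ⊢
        exact mul_mem (inv_mem hb) ha
      · exact fun a _ => (hφmul _ a v).symm
    exact congrArg Subtype.val h1
  have hone : ∀ B ∈ 𝒜, ∀ v, N B v = 1 := by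
    intro B hB v
    have h1 : ((N B v : V) : G) ∈ V ⊓ Subgroup.centralizer (B : Set G) := by
      refine ⟨(N B v).2, Subgroup.mem_centralizer_iff.mpr fun b hb => ?_⟩
      exact mul_inv_eq_iff_eq_mul.mp (hfixN B (hprop B hB).le v b hb)
    rw [hcon B hB, Subgroup.mem_bot] at h1
    exact Subtype.ext h1
  have honeA : ∀ v, N A v = 1 := by
    intro v
    have h1 : ((N A v : V) : G) ∈ V ⊓ Subgroup.centralizer (B₀ : Set G) := by
      refine ⟨(N A v).2, Subgroup.mem_centralizer_iff.mpr fun b hb => ?_⟩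
      exact mul_inv_eq_iff_eq_mul.mp (hfixN A le_rfl v b ((hprop B₀ hB₀).le hb))
    rw [hcon B₀ hB₀, Subgroup.mem_bot] at h1
    exact Subtype.ext h1
  have hid : ∀ v, ∏ B ∈ 𝒜, N B v = N A v * v ^ (𝒜.card - 1) := by
    intro v
    have h1 : ∏ B ∈ 𝒜, N B v = ∏ a : A, ∏ B ∈ 𝒜.filter (fun B => (a : G) ∈ B), φ a v := by
      change ∏ B ∈ 𝒜, ∏ a ∈ Finset.univ.filter (fun a : A => (a : G) ∈ B), φ a v = _
      exact Finset.prod_comm' (by simp [and_comm])
    have hu : φ 1 v = v := Subtype.ext (by simp [φ])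
    have h2 : ∀ a : A, ∏ B ∈ 𝒜.filter (fun B => (a : G) ∈ B), φ a v =
        φ a v * (if a = 1 then v ^ (𝒜.card - 1) else 1) := by
      intro a
      rw [Finset.prod_const]
      split_ifs with h
      · subst h
        have h3 : 𝒜.filter (fun B => ((1 : A) : G) ∈ B) = 𝒜 :=
          Finset.filter_true_of_mem (fun B _ => B.one_mem)
        have hpos : 1 ≤ 𝒜.card := Finset.card_pos.mpr ⟨B₀, hB₀⟩
        rw [h3, hu, ← pow_succ', Nat.sub_add_cancel hpos]
      · obtain ⟨B, ⟨hB, haB⟩, huq⟩ := hpart a a.2 (fun h' => h (Subtype.ext h'))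
        have h3 : 𝒜.filter (fun B => (a : G) ∈ B) = {B} := by
          ext C
          simp only [Finset.mem_filter, Finset.mem_singleton]
          exact ⟨fun hC => huq C hC, fun hC => hC ▸ ⟨hB, haB⟩⟩
        rw [h3, Finset.card_singleton, pow_one, mul_one]
    rw [h1, Finset.prod_congr rfl (fun a _ => h2 a), Finset.prod_mul_distrib, Finset.prod_ite_eq']
    simp [N, S]
  apply hV
  rw [Subgroup.eq_bot_iff_forall]
  intro x hx
  have h := hid ⟨x, hx⟩
  rw [honeA, one_mul, Finset.prod_eq_one (fun B hB => hone B hB _)] at h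
  have h2 : orderOf (⟨x, hx⟩ : V) ∣ 𝒜.card - 1 := orderOf_dvd_of_pow_eq_one h.symm
  have h3 := Nat.eq_one_of_dvd_coprimes hk h2 (orderOf_dvd_natCard _)
  exact congrArg Subtype.val (orderOf_eq_one_iff.mp h3)

end Cfsg.Agent.S3733
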