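import Cfsg.Statements.S3734
import Mathlib
import Cfsg.Agent.Lib.LocalEven.Generation
import Cfsg.Agent.Lib.Core.Nilpotent
import Cfsg.Agent.Lib.Core.Coprime

set_option autoImplicit false
open Cfsg

namespace Cfsg.Agent.S3734

set_option linter.style.haveILetI false
open scoped commutatorElement
open Subgroup

variable {X : Type*} [Group X] [Finite X]

theorem le_of_cocyclic_centralizers {A : Subgroup X} [IsMulCommutative A] (Y : Subgroup X) :
    ∀ (B₀ N : Subgroup X), B₀ ≤ A → A ≤ Subgroup.normalizer (N : Set X) →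
      (Nat.card A).Coprime (Nat.card N) → B₀ ≤ Subgroup.centralizer (N : Set X) →
      (∀ B : Subgroup X, B ≤ A → (∃ a ∈ A, B ⊔ Subgroup.zpowers a = A) →
        N ⊓ Subgroup.centralizer (B : Set X) ≤ Y) → N ≤ Y := by
  intro B₀
  induction B₀ using (wellFounded_gt (α := Subgroup X)).induction with
  | _ B₀ ih =>
    intro N hB₀ hAN hcop hcent hgood
    by_cases hcyc : ∃ a ∈ A, B₀ ⊔ Subgroup.zpowers a = A
    · intro n hn
      refine hgood B₀ hB₀ hcyc ⟨hn, ?_⟩
      exact Subgroup.mem_centralizer_iff.mpr fun b hb =>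
        (Subgroup.mem_centralizer_iff.mp (hcent hb) n hn).symm
    set W := A ⊔ N with hW
    have hAW : A ≤ W := le_sup_left
    have hNW : N ≤ W := le_sup_right
    have hB₀W : B₀ ≤ W := hB₀.trans hAW
    haveI hBn : (B₀.subgroupOf W).Normal := by
      refine Subgroup.normal_subgroupOf_of_le_normalizer (sup_le ?_ ?_)
      · refine le_trans ?_ (Subgroup.centralizer_le_normalizer _)
        exact fun a ha => Subgroup.mem_centralizer_iff.mpr fun b hb =>
          congrArg Subtype.val ((inferInstance : IsMulCommutative A).is_comm.comm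
            (⟨b, hB₀ hb⟩ : A) ⟨a, ha⟩)
      · refine le_trans ?_ (Subgroup.centralizer_le_normalizer _)
        exact fun n hn => Subgroup.mem_centralizer_iff.mpr fun b hb =>
          (Subgroup.mem_centralizer_iff.mp (hcent hb) n hn).symm
    set π := QuotientGroup.mk' (B₀.subgroupOf W) with hπ
    set Ab := (A.subgroupOf W).map π with hAb
    set Nb := (N.subgroupOf W).map π with hNb
    have hinter : ∀ x : ↥W, (x : X) ∈ N → x ∈ B₀.subgroupOf W → x = 1 := by
      intro x hxN hxB
      have h1 : (x : X) ∈ A ⊓ N := ⟨hB₀ hxB, hxN⟩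
      rw [Subgroup.inf_eq_bot_of_coprime hcop, Subgroup.mem_bot] at h1
      exact Subtype.ext h1
    haveI hAbc : IsMulCommutative Ab := by
      refine ⟨⟨?_⟩⟩
      rintro ⟨_, a, ha, rfl⟩ ⟨_, b, hb, rfl⟩
      apply Subtype.ext
      show π a * π b = π b * π a
      rw [← map_mul, ← map_mul]
      have h := congrArg Subtype.val
        ((inferInstance : IsMulCommutative A).is_comm.comm (⟨a, ha⟩ : A) ⟨b, hb⟩)
      exact congrArg π (Subtype.ext h)
    have hnc : ¬ IsCyclic Ab := by
      intro h
      obtain ⟨g, hg⟩ := Subgroup.isCyclic_iff_exists_zpowers_eq_top (H := Ab) |>.mp h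
      obtain ⟨a, ha, rfl⟩ : g ∈ Ab := hg ▸ Subgroup.mem_zpowers g
      refine hcyc ⟨a, ha, le_antisymm (sup_le hB₀ (Subgroup.zpowers_le.mpr ha)) fun x hx => ?_⟩
      have h1 : π ⟨x, hAW hx⟩ ∈ Subgroup.zpowers (π a) :=
        hg.symm ▸ Subgroup.mem_map_of_mem π (show (⟨x, hAW hx⟩ : ↥W) ∈ A.subgroupOf W from hx)
      obtain ⟨k, hk⟩ := Subgroup.mem_zpowers_iff.mp h1
      rw [← map_zpow, hπ, QuotientGroup.mk'_eq_mk'] at hk
      obtain ⟨z, hz, hzx⟩ := hk
      have h2 := congrArg Subtype.val hzx
      simp only [Subgroup.coe_mul, SubgroupClass.coe_zpow] at h2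
      rw [← h2]
      exact Subgroup.mul_mem _ (Subgroup.mem_sup_right ⟨k, rfl⟩) (Subgroup.mem_sup_left hz)
    obtain ⟨r, hr, E, hEA, hexp, hE⟩ := CfsgLib.Core.exists_elementary_of_not_isCyclic Ab hnc
    haveI := Fact.mk hr
    haveI : IsMulCommutative E := ⟨⟨fun a b => Subtype.ext (congrArg Subtype.val
      (hAbc.is_comm.comm (⟨a, hEA a.2⟩ : Ab) ⟨b, hEA b.2⟩) : _)⟩⟩
    have hEN : E ≤ Subgroup.normalizer (Nb : Set (↥W ⧸ B₀.subgroupOf W)) := by
      refine hEA.trans (le_trans ?_ (Subgroup.le_normalizer_map π))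
      refine Subgroup.map_mono ?_
      intro a ha
      rw [Subgroup.mem_normalizer_iff]
      intro x
      exact Subgroup.mem_normalizer_iff.mp (hAN ha) (x : X)
    have hrA : r ∣ Nat.card A := by
      have hd : r ∣ Nat.card E := by
        obtain ⟨k, hk⟩ := IsPGroup.iff_card.mp
          (show IsPGroup r E from fun e => ⟨1, Subtype.ext (by rw [pow_one]; exact hexp e e.2)⟩)
        rcases Nat.eq_zero_or_pos k with rfl | h
        · rw [pow_zero] at hk
          rw [hk] at hE
          have := hr.two_le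
          nlinarith
        · exact hk ▸ dvd_pow_self r h.ne'
      refine hd.trans ((Subgroup.card_dvd_of_le hEA).trans ?_)
      exact (Subgroup.card_map_dvd (A.subgroupOf W) π).trans
        (Nat.card_congr (Subgroup.subgroupOfEquivOfLe hAW).toEquiv).dvd
    have hrN : ¬ r ∣ Nat.card Nb := by
      intro h
      refine hr.ne_one (Nat.eq_one_of_dvd_coprimes hcop hrA (h.trans ?_))
      exact (Subgroup.card_map_dvd (N.subgroupOf W) π).trans
        (Nat.card_congr (Subgroup.subgroupOfEquivOfLe hNW).toEquiv).dvd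
    have key := CfsgLib.LocalEven.le_of_centralizers_le (A := E) (N := Nb)
      (Y := ((Y ⊓ N).subgroupOf W).map π) hexp hE hEN hrN (by
      intro e he he1
      obtain ⟨a, ha, rfl⟩ := hEA he
      rintro _ ⟨⟨n, hn, rfl⟩, hcen⟩
      refine Subgroup.mem_map_of_mem π ?_
      refine ⟨?_, hn⟩
      set B₁ := B₀ ⊔ Subgroup.zpowers (a : X) with hB₁
      have hlt : B₀ < B₁ := by
        refine lt_of_le_of_ne le_sup_left fun h => he1 ?_
        exact (QuotientGroup.eq_one_iff a).mpr
          (show (a : X) ∈ B₀ from h ▸ Subgroup.mem_sup_right (Subgroup.mem_zpowers _))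
      have hcomm : (a : X) * n = n * a := by
        have h1 := Subgroup.mem_centralizer_iff.mp hcen (π a) rfl
        rw [← map_mul, ← map_mul, hπ, QuotientGroup.mk'_eq_mk'] at h1
        obtain ⟨z, hz, hzx⟩ := h1
        have hzN : (z : X) ∈ N := by
          have : (z : X) = ((a : X) * n)⁻¹ * (n * a) := by
            have h2 := congrArg Subtype.val hzx
            simp only [Subgroup.coe_mul] at h2
            rw [← h2]; group
          have h3 : (z : X) = (n : X)⁻¹ * ((a : X)⁻¹ * n * a) := by rw [this]; group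
          rw [h3]
          refine N.mul_mem (N.inv_mem hn) ?_
          have := (Subgroup.mem_normalizer_iff.mp (hAN (A.inv_mem ha)) (n : X)).mp hn
          simpa [mul_assoc] using this
        rw [hinter z hzN hz, mul_one] at hzx
        exact congrArg Subtype.val hzx
      have := ih B₁ hlt (N ⊓ Subgroup.centralizer (B₁ : Set X))
        (sup_le hB₀ (Subgroup.zpowers_le.mpr ha)) ?_
        (hcop.coprime_dvd_right (Subgroup.card_dvd_of_le inf_le_left)) ?_
        (fun B hB hB' => le_trans (inf_le_inf_right _ inf_le_left) (hgood B hB hB'))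
      · refine this ⟨hn, Subgroup.mem_centralizer_iff.mpr fun b hb => ?_⟩
        have hle : B₁ ≤ Subgroup.centralizer ({(n : X)} : Set X) := by
          refine sup_le (fun b hb => ?_) (Subgroup.zpowers_le.mpr ?_)
          · exact Subgroup.mem_centralizer_singleton_iff.mpr
              (Subgroup.mem_centralizer_iff.mp (hcent hb) n hn).symm
          · exact Subgroup.mem_centralizer_singleton_iff.mpr hcomm
        exact Subgroup.mem_centralizer_singleton_iff.mp (hle hb)
      · refine le_trans (le_inf hAN ?_) Subgroup.inf_normalizer_le_normalizer_inf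
        refine le_trans ?_ Subgroup.le_normalizer
        exact fun x hx => Subgroup.mem_centralizer_iff.mpr fun b hb =>
          congrArg Subtype.val ((inferInstance : IsMulCommutative A).is_comm.comm
            (⟨b, sup_le hB₀ (Subgroup.zpowers_le.mpr ha) hb⟩ : A) ⟨x, hx⟩)
      · exact fun b hb => Subgroup.mem_centralizer_iff.mpr fun m hm =>
          (Subgroup.mem_centralizer_iff.mp hm.2 b hb).symm)
    intro n hn
    obtain ⟨y, ⟨hyY, hyN⟩, hy⟩ := key (Subgroup.mem_map_of_mem π
      (show (⟨n, hNW hn⟩ : ↥W) ∈ N.subgroupOf W from hn))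
    rw [hπ, QuotientGroup.mk'_eq_mk'] at hy
    obtain ⟨z, hz, hzx⟩ := hy
    have h2 := congrArg Subtype.val hzx
    simp only [Subgroup.coe_mul] at h2
    have hz1 : z = 1 := hinter z (by
      rw [show (z : X) = (y : X)⁻¹ * n by rw [← h2]; group]
      exact N.mul_mem (N.inv_mem hyN) hn) hz
    subst hz1
    rw [← h2]
    simpa using hyY

/-- Let A and G be subgroups of a finite group with A abelian, A normalizing G and the orders of A and G coprime. Then G is generated by the fixed-point subgroups C_G(B) of those subgroups B of A for which A/B is cyclic (that is, A = ⟨B, a⟩ for some a), and [G, A] is generated by the commutator subgroups [C_G(B), A] over the same subgroups B. -/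
theorem result {X : Type*} [Group X] [Finite X] (A G : Subgroup X) (hAab : IsMulCommutative A) (hAG : A ≤ Subgroup.normalizer (G : Set X)) (hcop : (Nat.card A).Coprime (Nat.card G)) : (⨆ B ∈ {B : Subgroup X | B ≤ A ∧ ∃ a ∈ A, B ⊔ Subgroup.zpowers a = A}, G ⊓ Subgroup.centralizer (B : Set X)) = G ∧ (⨆ B ∈ {B : Subgroup X | B ≤ A ∧ ∃ a ∈ A, B ⊔ Subgroup.zpowers a = A}, ⁅G ⊓ Subgroup.centralizer (B : Set X), A⁆) = ⁅G, A⁆ := by
  haveI := hAab
  set 𝔅 := {B : Subgroup X | B ≤ A ∧ ∃ a ∈ A, B ⊔ Subgroup.zpowers a = A} with h𝔅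
  have hC_A : ∀ B : Subgroup X, B ≤ A →
      A ≤ Subgroup.normalizer ((G ⊓ Subgroup.centralizer (B : Set X) : Subgroup X) : Set X) := by
    intro B hB
    refine le_trans (le_inf hAG ?_) Subgroup.inf_normalizer_le_normalizer_inf
    refine le_trans ?_ Subgroup.le_normalizer
    exact fun x hx => Subgroup.mem_centralizer_iff.mpr fun b hb =>
      congrArg Subtype.val (hAab.is_comm.comm (⟨b, hB hb⟩ : A) ⟨x, hx⟩)
  have first : (⨆ B ∈ 𝔅, G ⊓ Subgroup.centralizer (B : Set X)) = G := by
    refine le_antisymm (iSup₂_le fun B _ => inf_le_left) ?_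
    refine le_of_cocyclic_centralizers _ ⊥ G bot_le hAG hcop bot_le fun B hB hB' => ?_
    exact le_iSup₂_of_le B ⟨hB, hB'⟩ le_rfl
  refine ⟨first, ?_⟩
  set Z := ⨆ B ∈ 𝔅, ⁅G ⊓ Subgroup.centralizer (B : Set X), A⁆ with hZdef
  refine le_antisymm (iSup₂_le fun B _ => Subgroup.commutator_mono inf_le_left le_rfl) ?_
  have hcopB : ∀ B, (Nat.card A).Coprime
      (Nat.card (G ⊓ Subgroup.centralizer (B : Set X) : Subgroup X)) := fun B =>
    hcop.coprime_dvd_right (Subgroup.card_dvd_of_le inf_le_left)
  have hsol : Group.IsSolvable A := by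
    exact Group.isSolvable_of_comm fun a b => hAab.is_comm.comm a b
  have hZn : ∀ K : Subgroup X,
      (∀ B ∈ 𝔅, K ≤ Subgroup.normalizer
        ((⁅G ⊓ Subgroup.centralizer (B : Set X), A⁆ : Subgroup X) : Set X)) →
      K ≤ Subgroup.normalizer (Z : Set X) := by
    intro K hK k hk
    rw [Subgroup.mem_normalizer_iff_map_conj_eq]
    rw [hZdef, Subgroup.map_iSup]
    refine iSup_congr fun B => ?_
    rw [Subgroup.map_iSup]
    refine iSup_congr fun hB => ?_
    exact Subgroup.mem_normalizer_iff_map_conj_eq.mp (hK B hB hk)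
  have hZA : A ≤ Subgroup.normalizer (Z : Set X) := hZn A fun B _ =>
    le_sup_right.trans (CfsgLib.Core.le_normalizer_commutator_self A _)
  set C := G ⊓ Subgroup.centralizer (A : Set X) with hC
  have hGgen : G ≤ Z ⊔ C := by
    conv_lhs => rw [← first]
    refine iSup₂_le fun B hB => ?_
    rw [← CfsgLib.Core.commutator_sup_centralizer (hC_A B hB.1) (hcopB B) (Or.inl hsol)]
    refine sup_le_sup (le_iSup₂_of_le B hB le_rfl) (le_inf (inf_le_left.trans inf_le_left) inf_le_right)
  have hCZ : C ≤ Subgroup.normalizer (Z : Set X) := hZn C fun B hB =>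
    (le_inf inf_le_left (inf_le_right.trans (Subgroup.centralizer_le hB.1))).trans
      (le_sup_left.trans (CfsgLib.Core.le_normalizer_commutator_self A _))
  have hGZ : G ≤ Subgroup.normalizer (Z : Set X) :=
    hGgen.trans (sup_le Subgroup.le_normalizer hCZ)
  rw [Subgroup.commutator_le]
  intro g hg a ha
  obtain ⟨z, hz, c, hc, rfl⟩ := (CfsgLib.Core.mem_sup_iff_mul' hCZ).mp (sup_comm Z C ▸ hGgen hg)
  rw [commutatorElement_mul_left_eq_conj_mul,
    (commutatorElement_eq_one_iff_mul_comm (g₁ := c) (g₂ := a)).mpr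
      (Subgroup.mem_centralizer_iff.mp hc.2 a ha).symm]
  have h1 : a * z⁻¹ * a⁻¹ ∈ Z := (Subgroup.mem_normalizer_iff.mp (hZA ha) _).mp (Z.inv_mem hz)
  have h2 : ⁅z, a⁆ ∈ Z := by
    rw [commutatorElement_def, show z * a * z⁻¹ * a⁻¹ = z * (a * z⁻¹ * a⁻¹) by group]
    exact Z.mul_mem hz h1
  simpa using h2

end Cfsg.Agent.S3734
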