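import Cfsg.Statements.S3735
import Mathlib
import Cfsg.Agent.Lib.Core.Coprime

set_option autoImplicit false
open Cfsg

namespace Cfsg.Agent.S3735

set_option linter.style.haveILetI false
open Subgroup

variable {G : Type*} [Group G]

/-- `M` is a non-trivial `A`-invariant subgroup of `V`, minimal as such. -/
def IsMinInv (A V M : Subgroup G) : Prop :=
  M ≤ V ∧ A ≤ Subgroup.normalizer (M : Set G) ∧ M ≠ ⊥ ∧
    ∀ M' : Subgroup G, M' ≤ M → A ≤ Subgroup.normalizer (M' : Set G) → M' = ⊥ ∨ M' = M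

theorem le_normalizer_map_conj {A M : Subgroup G} {h : G}
    (hM : A ≤ Subgroup.normalizer (M : Set G)) :
    A.map (MulAut.conj h).toMonoidHom ≤
      Subgroup.normalizer ((M.map (MulAut.conj h).toMonoidHom : Subgroup G) : Set G) :=
  (Subgroup.map_mono hM).trans (Subgroup.le_normalizer_map _)

theorem isMinInv_conj {A H V M : Subgroup G} (hAn : H ≤ Subgroup.normalizer (A : Set G))
    (hHV : H ≤ Subgroup.normalizer (V : Set G)) {h : G} (hh : h ∈ H) (hM : IsMinInv A V M) :
    IsMinInv A V (M.map (MulAut.conj h).toMonoidHom) := by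
  obtain ⟨hMV, hMA, hMne, hmin⟩ := hM
  have hA := Subgroup.mem_normalizer_iff_map_conj_eq.mp (hAn hh)
  have hA' := Subgroup.mem_normalizer_iff_map_conj_eq.mp (hAn (H.inv_mem hh))
  have hV := Subgroup.mem_normalizer_iff_map_conj_eq.mp (hHV hh)
  refine ⟨(Subgroup.map_mono hMV).trans hV.le, hA.ge.trans (le_normalizer_map_conj hMA), ?_, ?_⟩
  · rwa [Ne, Subgroup.map_eq_bot_iff_of_injective _ (MulAut.conj h).injective]
  intro M' hM' hM'A
  have hback : ∀ K : Subgroup G, (K.map (MulAut.conj h⁻¹).toMonoidHom).map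
      (MulAut.conj h).toMonoidHom = K := by
    intro K
    rw [Subgroup.map_map]
    conv_rhs => rw [← Subgroup.map_id K]
    congr 1
    ext x
    simp [mul_assoc]
  have h1 : M'.map (MulAut.conj h⁻¹).toMonoidHom ≤ M := by
    have := Subgroup.map_mono (f := (MulAut.conj h⁻¹).toMonoidHom) hM'
    rw [Subgroup.map_map] at this
    refine this.trans (le_of_eq ?_)
    conv_rhs => rw [← Subgroup.map_id M]
    congr 1
    ext x
    simp [mul_assoc]
  rcases hmin _ h1 (hA'.ge.trans (le_normalizer_map_conj hM'A)) with e | e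
  · left
    rw [← hback M', e, Subgroup.map_bot]
  · right
    conv_lhs => rw [← hback M', e]

theorem le_normalizer_sup' {A W M : Subgroup G} (hW : A ≤ Subgroup.normalizer (W : Set G))
    (hM : A ≤ Subgroup.normalizer (M : Set G)) :
    A ≤ Subgroup.normalizer ((W ⊔ M : Subgroup G) : Set G) :=
  (le_inf hW hM).trans (Subgroup.normalizer_inf_normalizer_le_normalizer_sup W M)

theorem le_normalizer_sSup {A : Subgroup G} {S : Set (Subgroup G)}
    (hS : ∀ a ∈ A, ∀ M ∈ S, M.map (MulAut.conj a).toMonoidHom ∈ S) :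
    A ≤ Subgroup.normalizer ((sSup S : Subgroup G) : Set G) := by
  have hle : ∀ a ∈ A, (sSup S).map (MulAut.conj a).toMonoidHom ≤ sSup S := by
    intro a ha
    rw [Subgroup.map_le_iff_le_comap]
    refine sSup_le fun M hM => ?_
    rw [← Subgroup.map_le_iff_le_comap]
    exact le_sSup (hS a ha M hM)
  intro a ha
  rw [Subgroup.mem_normalizer_iff]
  intro x
  refine ⟨fun hx => hle a ha ⟨x, hx, rfl⟩, fun hx => ?_⟩
  have := hle a⁻¹ (A.inv_mem ha) ⟨_, hx, rfl⟩
  simpa [mul_assoc] using this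

/-- Clifford's Theorem for actions on finite abelian groups, first part. Let H and V be subgroups of a finite group with V abelian and H normalizing V, and let A be a normal subgroup of H. If every H-invariant subgroup of V has an H-invariant complement in V, then every A-invariant subgroup of V has an A-invariant complement in V. -/
theorem result {G : Type*} [Group G] [Finite G] (H A V : Subgroup G) (hVab : IsMulCommutative V) (hHV : H ≤ Subgroup.normalizer (V : Set G)) (hAH : A ≤ H) (hAn : H ≤ Subgroup.normalizer (A : Set G)) (hss : ∀ U : Subgroup G, U ≤ V → H ≤ Subgroup.normalizer (U : Set G) → ∃ W : Subgroup G, W ≤ V ∧ H ≤ Subgroup.normalizer (W : Set G) ∧ U ⊓ W = ⊥ ∧ U ⊔ W = V) (U : Subgroup G) (hUV : U ≤ V) (hAU : A ≤ Subgroup.normalizer (U : Set G)) : ∃ W : Subgroup G, W ≤ V ∧ A ≤ Subgroup.normalizer (W : Set G) ∧ U ⊓ W = ⊥ ∧ U ⊔ W = V := by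
  have hcommV : ∀ W : Subgroup G, W ≤ V → V ≤ Subgroup.normalizer (W : Set G) := fun W hW v hv => by
    refine Subgroup.centralizer_le_normalizer _ (Subgroup.mem_centralizer_iff.mpr fun w hw => ?_)
    exact congrArg Subtype.val (hVab.is_comm.comm (⟨w, hW hw⟩ : V) ⟨v, hv⟩)
  set S := {M : Subgroup G | IsMinInv A V M} with hS
  have hStop : sSup S = V := by
    have hSV : sSup S ≤ V := sSup_le fun M hM => hM.1
    obtain ⟨W, hWV, hWH, hinf, hsup⟩ := hss _ hSV
      (le_normalizer_sSup fun h hh M hM => isMinInv_conj hAn hHV hh hM)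
    by_cases hW : W = ⊥
    · rwa [hW, sup_bot_eq] at hsup
    obtain ⟨M, ⟨hMW, hMne, hMA⟩, hMmin⟩ := Set.Finite.exists_minimal
      (Set.toFinite {M : Subgroup G | M ≤ W ∧ M ≠ ⊥ ∧ A ≤ Subgroup.normalizer (M : Set G)})
      ⟨W, le_rfl, hW, hAH.trans hWH⟩
    have hMS : M ∈ S := ⟨hMW.trans hWV, hMA, hMne, fun M' hM' hM'A => or_iff_not_imp_left.mpr
      fun h => le_antisymm hM' (hMmin ⟨hM'.trans hMW, h, hM'A⟩ hM')⟩
    exact absurd (le_bot_iff.mp (hinf ▸ le_inf (le_sSup hMS) hMW)) hMne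
  obtain ⟨W, ⟨hWV, hWA, hUW⟩, hWmax⟩ := Set.Finite.exists_maximal
    (Set.toFinite {W : Subgroup G | W ≤ V ∧ A ≤ Subgroup.normalizer (W : Set G) ∧ U ⊓ W = ⊥})
    ⟨⊥, bot_le, by
      rw [Subgroup.normalizer_eq_top_iff.mpr (inferInstance : (⊥ : Subgroup G).Normal)]
      exact le_top, inf_bot_eq U⟩
  refine ⟨W, hWV, hWA, hUW, le_antisymm (sup_le hUV hWV) ?_⟩
  rw [← hStop]
  refine sSup_le fun M hM => ?_
  obtain ⟨hMV, hMA, hMne, hMmin⟩ := hM
  by_contra hnot
  have hinv : A ≤ Subgroup.normalizer ((M ⊓ (U ⊔ W) : Subgroup G) : Set G) :=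
    (le_inf hMA (le_normalizer_sup' hAU hWA)).trans Subgroup.inf_normalizer_le_normalizer_inf
  rcases hMmin _ inf_le_left hinv with h | h
  · have hbig : U ⊓ (M ⊔ W) = ⊥ := by
      rw [Subgroup.eq_bot_iff_forall]
      rintro u ⟨hu, hmw⟩
      obtain ⟨m, hm, w, hw, rfl⟩ :=
        (CfsgLib.Core.mem_sup_iff_mul (hMV.trans (hcommV W hWV))).mp hmw
      have hm1 : m ∈ M ⊓ (U ⊔ W) := ⟨hm, by
        have h1 := Subgroup.mul_mem _ (Subgroup.mem_sup_left (T := W) hu)
          (Subgroup.inv_mem _ (Subgroup.mem_sup_right (S := U) hw))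
        rwa [mul_inv_cancel_right] at h1⟩
      rw [h, Subgroup.mem_bot] at hm1
      subst hm1
      rw [one_mul] at hu ⊢
      exact Subgroup.mem_bot.mp (hUW ▸ (⟨hu, hw⟩ : w ∈ U ⊓ W))
    have hMW : M ≤ W := le_sup_left.trans
      (hWmax ⟨sup_le hMV hWV, le_normalizer_sup' hMA hWA, hbig⟩ le_sup_right)
    exact hnot (hMW.trans le_sup_right)
  · exact hnot (inf_eq_left.mp h)

end Cfsg.Agent.S3735
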