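import Cfsg.Statements.S3736
import Mathlib
import Cfsg.Agent.Lib.Transfer.CoprimeAut
import Cfsg.Agent.Lib.PGroups.ClassTwo
import Cfsg.Agent.Lib.PGroups.Basic

set_option autoImplicit false
open Cfsg

namespace Cfsg.Agent.S3736

set_option linter.style.haveILetI false
open scoped commutatorElement
open CfsgLib.PGroups CfsgLib.Transfer Subgroup

theorem structure_of_minimal {G : Type*} [Group G] [Finite G] {p : ℕ} [hp : Fact p.Prime]
    [Nontrivial G] (hG : IsPGroup p G) (A : Subgroup (MulAut G))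
    (hA : Nat.Coprime (Nat.card A) p)
    (hGA : Subgroup.closure {x : G | ∃ g : G, ∃ a ∈ A, x = g⁻¹ * a g} = ⊤)
    (hchar : ∀ H : Subgroup G, H.Characteristic → H ≠ ⊤ → ∀ a ∈ A, ∀ h ∈ H, a h = h) :
    ((IsMulCommutative G ∧ ∀ g : G, g ^ p = 1) ∨ Cfsg.IsSpecial p G) ∧
    (∀ g : G, (∀ a ∈ A, a g = g) → g ∈ frattini G) ∧ (p ≠ 2 → ∀ g : G, g ^ p = 1) := by
  have hfix : ∀ g : G, (∀ a ∈ A, a g = g) → g ∈ frattini G := fun g hg =>
    mem_of_fixed_quotient hG A hA hGA _ (commutator_le_frattini' hG) fun a ha => by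
      rw [hg a ha, inv_mul_cancel]; exact one_mem _
  by_cases hab : IsMulCommutative G
  · letI : CommGroup G := { (inferInstance : Group G) with mul_comm := hab.is_comm.comm }
    have hfix1 : ∀ g : G, (∀ a ∈ A, a g = g) → g = 1 := fun g hg => by
      have h1 := mem_of_fixed_quotient hG A hA hGA ⊥ (by
        rw [_root_.commutator_def, Subgroup.commutator_le]
        intro x _ y _
        rw [Subgroup.mem_bot, commutatorElement_eq_one_iff_mul_comm, hab.is_comm.comm]) (g := g)
        fun a ha => by rw [hg a ha, inv_mul_cancel]; exact one_mem _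
      exact Subgroup.mem_bot.mp h1
    set W : Subgroup G := (powMonoidHom p : G →* G).ker with hW
    haveI hWc : W.Characteristic := by
      rw [Subgroup.characteristic_iff_comap_eq]
      intro e
      ext x
      simp only [hW, Subgroup.mem_comap, MonoidHom.mem_ker, powMonoidHom_apply, ← map_pow]
      exact map_eq_one_iff _ e.injective
    have hWtop : W = ⊤ := by
      by_contra hne
      obtain ⟨x, hx⟩ := exists_prime_orderOf_dvd_card' (G := G) p
        ((hG.card_eq_or_dvd).resolve_left fun h => (Finite.one_lt_card (α := G)).ne' h)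
      have hxW : x ∈ W := by
        show x ^ p = 1
        rw [← hx, pow_orderOf_eq_one]
      have := hfix1 x fun a ha => hchar W hWc hne a ha x hxW
      rw [this, orderOf_one] at hx
      exact hp.out.ne_one hx.symm
    have hexp : ∀ g : G, g ^ p = 1 := fun g => by
      have : g ∈ W := hWtop ▸ Subgroup.mem_top g
      exact this
    exact ⟨Or.inl ⟨hab, hexp⟩, hfix, fun _ => hexp⟩
  · have hch : ∀ H : Subgroup G, H.Characteristic → IsMulCommutative H →
        ∀ a ∈ A, ∀ h ∈ H, a h = h := fun H hH hHab => hchar H hH fun h => by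
      subst h
      exact hab ⟨⟨fun a b => congrArg Subtype.val
        (hHab.is_comm.comm (⟨a, mem_top a⟩ : (⊤ : Subgroup G)) ⟨b, mem_top b⟩)⟩⟩
    obtain ⟨hS, hZ⟩ := isSpecial_of_fixes_char_abelian hG A hA hGA hch
    refine ⟨Or.inr hS, hfix, fun hp2 => ?_⟩
    obtain ⟨-, hΦ, hC⟩ := hS
    have hpow : ∀ x : G, x ^ p ∈ Subgroup.center G := fun x => hΦ ▸ pow_mem_frattini hG x
    have hcc : ∀ x y : G, ⁅x, y⁆ ∈ Subgroup.center G := fun x y =>
      hC ▸ Subgroup.commutator_mem_commutator (mem_top x) (mem_top y)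
    have hcp : ∀ x y : G, ⁅x, y⁆ ^ p = 1 := fun x y => by
      rw [← comm_pow_left_of_central (hcc x y), commutatorElement_eq_one_iff_mul_comm]
      exact (Subgroup.mem_center_iff.mp (hpow x) y).symm
    let f : G →* G := MonoidHom.mk' (fun x => x ^ p) fun x y =>
      mul_pow_of_central_odd (hcc y x) (hp.out.odd_of_ne_two hp2) (hcp y x)
    have hker : f.ker = ⊤ := by
      rw [eq_top_iff, ← hGA, Subgroup.closure_le]
      rintro _ ⟨g, a, ha, rfl⟩
      show f (g⁻¹ * a g) = 1
      rw [map_mul, map_inv, inv_mul_eq_one]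
      show g ^ p = a g ^ p
      rw [← map_pow, (hZ _).mp (hpow g) a ha]
    exact fun g => (hker ▸ mem_top g : g ∈ f.ker)

/-- The Hall–Higman reduction for a minimal non-trivial action. Let B, A and P be subgroups of a finite group with P a p-group, B normalizing P, and A a normal subgroup of B of order prime to p. Suppose A does not centralize P but centralizes every proper B-invariant subgroup of P. Then [P, A] = P; P is elementary abelian or special; B acts irreducibly on P/Φ(P), that is, the only B-invariant subgroups of P containing Φ(P) are Φ(P) and P; and if p is odd then every element of P has order dividing p. -/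
theorem result {X : Type*} [Group X] [Finite X] {p : ℕ} [Fact p.Prime] (B A P : Subgroup X) (hP : IsPGroup p P) (hBP : B ≤ Subgroup.normalizer (P : Set X)) (hAB : A ≤ B) (hAn : B ≤ Subgroup.normalizer (A : Set X)) (hAp : (Nat.card A).Coprime p) (hnt : ⁅P, A⁆ ≠ ⊥) (hmin : ∀ U : Subgroup X, U < P → B ≤ Subgroup.normalizer (U : Set X) → ⁅U, A⁆ = ⊥) : ⁅P, A⁆ = P ∧ (Cfsg.IsElementaryAbelian p P ∨ Cfsg.IsSpecial p ↥P) ∧ (∀ U : Subgroup X, (frattini ↥P).map P.subtype ≤ U → U ≤ P → B ≤ Subgroup.normalizer (U : Set X) → U = (frattini ↥P).map P.subtype ∨ U = P) ∧ (p ≠ 2 → ∀ x ∈ P, x ^ p = 1) := by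
  have hPnorm : A ≤ Subgroup.normalizer (P : Set X) := hAB.trans hBP
  let ψ : ↥B →* MulAut ↥P := (Subgroup.normalizerMonoidHom P).comp (Subgroup.inclusion hBP)
  have hψ : ∀ (b : ↥B) (g : ↥P), ((ψ b g : ↥P) : X) = (b : X) * g * (b : X)⁻¹ := fun b g => rfl
  set A' : Subgroup (MulAut ↥P) := (A.subgroupOf B).map ψ with hA'
  have hA'card : (Nat.card A').Coprime p := by
    refine Nat.Coprime.coprime_dvd_left ((Subgroup.card_map_dvd (A.subgroupOf B) ψ)) ?_
    rwa [Nat.card_congr (Subgroup.subgroupOfEquivOfLe hAB).toEquiv]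
  set W : Subgroup ↥P := Subgroup.closure {x : ↥P | ∃ g : ↥P, ∃ a ∈ A', x = g⁻¹ * a g} with hW
  have hBinv : ∀ U : Subgroup ↥P, (∀ b : ↥B, U.map (ψ b).toMonoidHom = U) →
      B ≤ Subgroup.normalizer (U.map P.subtype : Set X) := by
    intro U hU b hb
    rw [Subgroup.mem_normalizer_iff_map_conj_eq]
    conv_rhs => rw [← hU ⟨b, hb⟩]
    rw [Subgroup.map_map, Subgroup.map_map]
    rfl
  have hproper : ∀ U : Subgroup ↥P, U ≠ ⊤ → B ≤ Subgroup.normalizer (U.map P.subtype : Set X) →
      ∀ a ∈ A', ∀ h ∈ U, a h = h := by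
    intro U hU hUB a ha h hh
    obtain ⟨b, hb, rfl⟩ := Subgroup.mem_map.mp ha
    have hlt : U.map P.subtype < P := by
      refine lt_of_le_of_ne (Subgroup.map_subtype_le _) fun e => hU ?_
      apply Subgroup.map_injective P.subtype_injective
      rw [e, ← MonoidHom.range_eq_map, Subgroup.range_subtype]
    have h1 : ⁅(h : X), (b : X)⁆ ∈ ⁅U.map P.subtype, A⁆ :=
      Subgroup.commutator_mem_commutator ⟨h, hh, rfl⟩ hb
    rw [hmin _ hlt hUB, Subgroup.mem_bot, commutatorElement_eq_one_iff_mul_comm] at h1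
    apply Subtype.ext
    rw [hψ, ← h1, mul_inv_cancel_right]
  have hWinv : ∀ b : ↥B, W.map (ψ b).toMonoidHom ≤ W := by
    intro b
    rw [hW, MonoidHom.map_closure, Subgroup.closure_le]
    rintro _ ⟨_, ⟨g, a, ha, rfl⟩, rfl⟩
    obtain ⟨c, hc, rfl⟩ := Subgroup.mem_map.mp ha
    refine Subgroup.subset_closure ⟨ψ b g, ψ (b * c * b⁻¹), ⟨_, ?_, rfl⟩, ?_⟩
    · exact (Subgroup.mem_normalizer_iff.mp (hAn b.2) _).mp hc
    · simp [map_mul, map_inv, MulAut.mul_apply, MulAut.inv_apply]
  have hWB : B ≤ Subgroup.normalizer (W.map P.subtype : Set X) :=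
    hBinv W fun b => le_antisymm (hWinv b) (by
      have h := Subgroup.map_mono (f := (ψ b).toMonoidHom) (hWinv b⁻¹)
      rw [Subgroup.map_map] at h
      refine le_trans (le_of_eq ?_) h
      conv_lhs => rw [← Subgroup.map_id W]
      congr 1
      ext x
      simp [map_inv])
  have hWeq : ⁅P, A⁆ = W.map P.subtype := by
    apply le_antisymm
    · rw [Subgroup.commutator_le]
      intro g hg a ha
      refine ⟨(⟨g, hg⟩⁻¹ : ↥P)⁻¹ * ψ ⟨a, hAB ha⟩ (⟨g, hg⟩⁻¹ : ↥P),
        Subgroup.subset_closure ⟨_, _, ⟨⟨a, hAB ha⟩, ha, rfl⟩, rfl⟩, ?_⟩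
      simp [hψ, commutatorElement_def, mul_assoc]
    · rw [hW, MonoidHom.map_closure, Subgroup.closure_le]
      rintro _ ⟨_, ⟨g, a, ha, rfl⟩, rfl⟩
      obtain ⟨c, hc, rfl⟩ := Subgroup.mem_map.mp ha
      have := Subgroup.commutator_mem_commutator (P.inv_mem g.2) (H₂ := A) (show (c : X) ∈ A from hc)
      simpa [hψ, commutatorElement_def, mul_assoc] using this
  have hWtop : W = ⊤ := by
    by_contra hne
    refine hnt (le_bot_iff.mp (Subgroup.commutator_le.mpr fun g hg a ha => ?_))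
    rw [Subgroup.mem_bot, commutatorElement_eq_one_iff_mul_comm]
    have ha' : ψ ⟨a, hAB ha⟩ ∈ A' := ⟨_, ha, rfl⟩
    have h1 : ψ ⟨a, hAB ha⟩ (⟨g, hg⟩ : ↥P) = ⟨g, hg⟩ := by
      refine CfsgLib.Transfer.eq_of_fixed_diff hP _ hA'card ?_
        (hproper W hne hWB _ ha' _ (Subgroup.subset_closure ⟨_, _, ha', rfl⟩))
      exact congrArg Subtype.val (pow_card_eq_one' (x := (⟨_, ha'⟩ : A')))
    have h2 := congrArg Subtype.val h1
    rw [hψ] at h2
    exact (mul_inv_eq_iff_eq_mul.mp h2).symm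
  have hchar : ∀ H : Subgroup ↥P, H.Characteristic → H ≠ ⊤ → ∀ a ∈ A', ∀ h ∈ H, a h = h :=
    fun H hH hne => hproper H hne (hBinv H fun b => Subgroup.characteristic_iff_map_eq.mp hH (ψ b))
  have hPeq : ⁅P, A⁆ = P := by
    rw [hWeq, hWtop, ← MonoidHom.range_eq_map, Subgroup.range_subtype]
  haveI : Nontrivial ↥P := by
    rw [Subgroup.nontrivial_iff_ne_bot]
    intro h
    exact hnt (hPeq.trans h)
  obtain ⟨hstr, hfix, hodd⟩ := structure_of_minimal hP A' hA'card hWtop hchar
  refine ⟨hPeq, ?_, ?_, fun hp2 x hx => congrArg Subtype.val (hodd hp2 ⟨x, hx⟩)⟩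
  · rcases hstr with ⟨hab, hexp⟩ | hS
    · exact Or.inl ⟨hab, fun a ha => congrArg Subtype.val (hexp ⟨a, ha⟩)⟩
    · exact Or.inr hS
  · intro U hΦU hUP hUB
    refine (eq_or_ne U P).symm.imp_left fun hne => le_antisymm ?_ hΦU
    intro u hu
    refine ⟨⟨u, hUP hu⟩, hfix _ fun a ha => ?_, rfl⟩
    refine hproper (U.subgroupOf P) ?_ ?_ a ha _ hu
    · intro h
      rw [Subgroup.subgroupOf_eq_top] at h
      exact hne (le_antisymm hUP h)
    · rwa [Subgroup.map_subgroupOf_eq_of_le hUP]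

end Cfsg.Agent.S3736
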