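import Cfsg.Statements.S3737
import Mathlib
import Cfsg.Agent.S3736
import Cfsg.Agent.Lib.Signalizer.BaerTrick
import Cfsg.Agent.Lib.PGroups.ClassTwo

set_option autoImplicit false
open Cfsg

namespace Cfsg.Agent.S3737

set_option linter.style.haveILetI false
open scoped commutatorElement

/-- Thompson's strengthening of the P × Q lemma for odd primes. Let p be an odd prime and let P, Q and G be subgroups of a finite group with P a p-group, Q of order prime to p and normalized by P, and G a p-group normalized by both P and Q. If every element of G centralized by P is centralized by Q, then Q centralizes G. -/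
theorem result {X : Type*} [Group X] [Finite X] {p : ℕ} [Fact p.Prime] (hp : p ≠ 2) (P Q G : Subgroup X) (hP : IsPGroup p P) (hQ : (Nat.card Q).Coprime p) (hPQ : P ≤ Subgroup.normalizer (Q : Set X)) (hG : IsPGroup p G) (hPG : P ≤ Subgroup.normalizer (G : Set X)) (hQG : Q ≤ Subgroup.normalizer (G : Set X)) (hC : G ⊓ Subgroup.centralizer (P : Set X) ≤ Subgroup.centralizer (Q : Set X)) : Q ≤ Subgroup.centralizer (G : Set X) := by
  classical
  by_contra hne
  have hPQn : P ⊔ Q ≤ Subgroup.normalizer (Q : Set X) := sup_le hPQ Subgroup.le_normalizer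
  have hG0 : ⁅G, Q⁆ ≠ ⊥ := fun h => hne
    (Subgroup.le_centralizer_iff.mp (Subgroup.commutator_eq_bot_iff_le_centralizer.mp h))
  obtain ⟨U, ⟨hUG, hUB, hU1⟩, hmin⟩ := (wellFounded_lt (α := Subgroup X)).has_min
    {U | U ≤ G ∧ P ⊔ Q ≤ Subgroup.normalizer (U : Set X) ∧ ⁅U, Q⁆ ≠ ⊥} ⟨G, le_rfl, sup_le hPG hQG, hG0⟩
  obtain ⟨-, hsp, -, hexp⟩ := Cfsg.Agent.S3736.result (P ⊔ Q) Q U (hG.to_le hUG) hUB le_sup_right hPQn
    hQ hU1 (fun V hV hVB => by
      by_contra h
      exact hmin V ⟨hV.le.trans hUG, hVB, h⟩ hV)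
  have hUp : IsPGroup p U := hG.to_le hUG
  have hc : ∀ x y : U, ⁅x, y⁆ ∈ Subgroup.center U := by
    intro x y
    rcases hsp with he | hs
    · rw [commutatorElement_eq_one_iff_mul_comm.mpr (he.1.is_comm.comm x y)]
      exact one_mem _
    · exact CfsgLib.PGroups.commutator_mem_center_of_le le_rfl hs.2.2.le x y
  have hexp' : ∀ x : U, x ^ p = 1 := fun x => Subtype.ext (by simpa using hexp hp x x.2)
  let φ := U.normalizerMonoidHom
  set Pn := P.subgroupOf (Subgroup.normalizer (U : Set X)) with hPn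
  set Qn := Q.subgroupOf (Subgroup.normalizer (U : Set X)) with hQn
  have hPU : P ≤ Subgroup.normalizer (U : Set X) := le_sup_left.trans hUB
  have hQU : Q ≤ Subgroup.normalizer (U : Set X) := le_sup_right.trans hUB
  have hQd : ¬ p ∣ Nat.card (Qn.map φ) := fun h =>
    (Fact.out : p.Prime).coprime_iff_not_dvd.mp hQ.symm
      ((h.trans (Qn.card_map_dvd φ)).trans (dvd_of_eq (Nat.card_congr (Subgroup.subgroupOfEquivOfLe hQU).toEquiv)))
  have hnorm : Pn.map φ ≤ Subgroup.normalizer ((Qn.map φ : Subgroup (MulAut U)) : Set (MulAut U)) := by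
    refine le_trans (Subgroup.map_mono fun x hx => ?_) (Subgroup.le_normalizer_map φ)
    rw [Subgroup.mem_normalizer_iff]
    intro y
    exact Subgroup.mem_normalizer_iff.mp (hPQ hx) y
  have hmov : ∃ q ∈ Qn.map φ, ∃ u : U, q u ≠ u := by
    by_contra hcon
    push Not at hcon
    refine hU1 (Subgroup.commutator_eq_bot_iff_le_centralizer.mpr fun u hu => ?_)
    rw [Subgroup.mem_centralizer_iff]
    intro q hq
    have h1 := congrArg Subtype.val
      (hcon (φ ⟨q, hQU hq⟩) (Subgroup.mem_map_of_mem φ (hq : (⟨q, hQU hq⟩ : Subgroup.normalizer (U : Set X)) ∈ Qn)) ⟨u, hu⟩)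
    exact mul_inv_eq_iff_eq_mul.mp h1
  obtain ⟨u, hu, q, hq, hqu⟩ := CfsgLib.Signalizer.exists_fixed_moved hp hc hexp'
    ((hP.comap_of_injective _ (Subgroup.subtype_injective _)).map φ) hQd hnorm hmov
  obtain ⟨q', hq', rfl⟩ := hq
  have huC : (u : X) ∈ G ⊓ Subgroup.centralizer (P : Set X) := by
    refine ⟨hUG u.2, Subgroup.mem_centralizer_iff.mpr fun a ha => ?_⟩
    have h1 := congrArg Subtype.val
      (hu (φ ⟨a, hPU ha⟩) (Subgroup.mem_map_of_mem φ (ha : (⟨a, hPU ha⟩ : Subgroup.normalizer (U : Set X)) ∈ Pn)))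
    exact mul_inv_eq_iff_eq_mul.mp h1
  refine hqu (Subtype.ext ?_)
  show (q' : X) * u * (q' : X)⁻¹ = u
  rw [Subgroup.mem_centralizer_iff.mp (hC huC) q' hq', mul_inv_cancel_right]

end Cfsg.Agent.S3737
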