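import Cfsg.Statements.S3772
import Mathlib
import Cfsg.Agent.Lib.PGroups.Basic
import Cfsg.Agent.Lib.PGroups.MaxAbelian
import Cfsg.Agent.Lib.PGroups.Extraspecial

set_option autoImplicit false
open Cfsg

namespace Cfsg.Agent.S3772

set_option linter.style.haveILetI false in
/-- The square-indicator sum: its square is `|G| · |Z(G)|` or `0`; value sets. -/
theorem count {G : Type*} [Group G] [Finite G] (hG : IsPGroup 2 G) (hΦ : Nat.card (frattini G) = 2)
    {d : ℕ} (hd : (frattini G).index = 2 ^ d) :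
    ∃ c : ℕ, Nat.card (Subgroup.center G) = 2 ^ c ∧ 1 ≤ c ∧
      (Nat.card {x : G // x ^ 2 = 1} = 2 ^ d ∨ ∃ r, 1 ≤ r ∧ 2 * r + c = d + 1 ∧
        (Nat.card {x : G // x ^ 2 = 1} = 2 ^ d + 2 ^ (d - r) ∨
          Nat.card {x : G // x ^ 2 = 1} + 2 ^ (d - r) = 2 ^ d)) := by
  classical
  haveI : Fact (Nat.Prime 2) := ⟨Nat.prime_two⟩
  haveI : Fintype G := Fintype.ofFinite G
  have hle : frattini G ≤ Subgroup.center G := CfsgLib.PGroups.le_center_of_card_prime hG hΦ
  have hcom : ∀ x y : G, x * y * x⁻¹ * y⁻¹ ∈ frattini G := fun x y =>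
    CfsgLib.PGroups.commutator_le_frattini' hG
      (by rw [commutator_def]; exact Subgroup.commutator_mem_commutator (Subgroup.mem_top x) (Subgroup.mem_top y))
  have hsq : ∀ x : G, x ^ 2 ∈ frattini G := fun x => CfsgLib.PGroups.pow_mem_frattini hG x
  have hC : ∀ a ∈ frattini G, ∀ g : G, g * a = a * g := fun a ha g => Subgroup.mem_center_iff.mp (hle ha) g
  have htwo : ∀ a ∈ frattini G, ∀ b ∈ frattini G, a ≠ 1 → b ≠ 1 → a = b ∧ a * b = 1 := by
    intro a ha b hb ha1 hb1
    have h2 := (Nat.card_eq_two_iff' (⟨1, Subgroup.one_mem _⟩ : frattini G)).mp hΦ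
    have hab : a = b := congrArg Subtype.val (h2.unique (y₁ := ⟨a, ha⟩) (y₂ := ⟨b, hb⟩)
      (fun e => ha1 (congrArg Subtype.val e)) (fun e => hb1 (congrArg Subtype.val e)))
    refine ⟨hab, ?_⟩
    rw [← hab]
    have hp2 := pow_card_eq_one' (x := (⟨a, ha⟩ : frattini G))
    rw [hΦ] at hp2
    have hp3 : a ^ 2 = 1 := by simpa using congrArg Subtype.val hp2
    rw [← pow_two]; exact hp3
  let g : G → ℤ := fun a => if a = 1 then 1 else -1
  have gmul : ∀ a ∈ frattini G, ∀ b ∈ frattini G, g (a * b) = g a * g b := by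
    intro a ha b hb
    by_cases ha1 : a = 1
    · simp [g, ha1]
    by_cases hb1 : b = 1
    · simp [g, hb1]
    simp [g, ha1, hb1, (htwo a ha b hb ha1 hb1).2]
  let f : G → ℤ := fun x => g (x ^ 2)
  have ff : ∀ x, f x * f x = 1 := by
    intro x
    by_cases h : x ^ 2 = 1 <;> simp [f, g, h]
  let c : G → G → G := fun x u => x⁻¹ * u * x * u⁻¹
  have hc : ∀ x u, c x u ∈ frattini G := fun x u => by simpa [c] using hcom x⁻¹ u
  have hf : ∀ x u, f (x * u) = f x * g (c x u) * f u := by
    intro x u
    have : (x * u) ^ 2 = x ^ 2 * c x u * u ^ 2 := by simp only [c, pow_two]; group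
    simp only [f]
    rw [this, gmul _ (Subgroup.mul_mem _ (hsq x) (hc x u)) _ (hsq u), gmul _ (hsq x) _ (hc x u)]
  have hchi : ∀ u, (∑ x : G, g (c x u)) =
      if u ∈ Subgroup.center G then (Fintype.card G : ℤ) else 0 := by
    intro u
    split_ifs with hu
    · have h1 : ∀ x, c x u = 1 := fun x => by
        simp only [c]
        rw [mul_assoc x⁻¹ u x, ← Subgroup.mem_center_iff.mp hu x, inv_mul_cancel_left, mul_inv_cancel]
      simp [g, h1, Finset.card_univ]
    · obtain ⟨x₀, hx₀⟩ : ∃ x₀, c x₀ u ≠ 1 := by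
        by_contra hcon
        push Not at hcon
        refine hu (Subgroup.mem_center_iff.mpr fun x => ?_)
        have := mul_inv_eq_one.mp (hcon x)
        calc x * u = x * (x⁻¹ * u * x) := by rw [this]
          _ = u * x := by group
      have hm : ∀ x, c (x₀ * x) u = c x₀ u * c x u := by
        intro x
        have e : x₀⁻¹ * u * x₀ = c x₀ u * u := by simp [c]
        calc c (x₀ * x) u = x⁻¹ * (x₀⁻¹ * u * x₀) * x * u⁻¹ := by simp only [c]; group
          _ = x⁻¹ * c x₀ u * (u * x * u⁻¹) := by rw [e]; group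
          _ = c x₀ u * c x u := by rw [hC _ (hc x₀ u)]; simp [c, mul_assoc]
      have hs : (∑ x : G, g (c (x₀ * x) u)) = ∑ x : G, g (c x u) :=
        Equiv.sum_comp (Equiv.mulLeft x₀) (fun x => g (c x u))
      simp only [hm, gmul _ (hc x₀ u) _ (hc _ u), ← Finset.mul_sum] at hs
      have hg : g (c x₀ u) = -1 := by simp [g, hx₀]
      rw [hg] at hs
      omega
  set S : ℤ := ∑ x : G, f x with hS
  set T : ℤ := ∑ u ∈ Finset.univ.filter (fun u => u ∈ Subgroup.center G), f u with hT
  have hSS : S * S = (Fintype.card G : ℤ) * T := by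
    calc S * S = ∑ x : G, ∑ u : G, f x * f (x * u) := by
          rw [hS, Finset.sum_mul_sum]
          exact Finset.sum_congr rfl fun x _ => (Equiv.sum_comp (Equiv.mulLeft x) (fun y => f x * f y)).symm
      _ = ∑ x : G, ∑ u : G, f u * g (c x u) := by
          refine Finset.sum_congr rfl fun x _ => Finset.sum_congr rfl fun u _ => ?_
          rw [hf]
          linear_combination g (c x u) * f u * ff x
      _ = ∑ u : G, f u * ∑ x : G, g (c x u) := by
          rw [Finset.sum_comm]
          exact Finset.sum_congr rfl fun u _ => (Finset.mul_sum _ _ _).symm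
      _ = (Fintype.card G : ℤ) * T := by
          rw [hT, Finset.sum_filter, Finset.mul_sum]
          refine Finset.sum_congr rfl fun u _ => ?_
          rw [hchi]
          split_ifs <;> ring
  have hZcard : (Finset.univ.filter (fun u => u ∈ Subgroup.center G)).card =
      Nat.card (Subgroup.center G) := by
    rw [Nat.card_eq_fintype_card, Fintype.card_subtype]
  obtain ⟨k, hk⟩ := IsPGroup.iff_card.mp (hG.to_subgroup (Subgroup.center G))
  have hcardG : Nat.card G = 2 ^ (d + 1) := by
    rw [← (frattini G).card_mul_index, hΦ, hd, pow_succ']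
  have hk1 : 1 ≤ k := by
    have := Subgroup.card_dvd_of_le hle
    rw [hΦ, hk] at this
    by_contra hh
    rw [show k = 0 by omega, pow_zero] at this
    exact absurd (Nat.le_of_dvd one_pos this) (by norm_num)
  refine ⟨k, hk, hk1, ?_⟩
  -- involutions
  set j := Nat.card {x : G // x ^ 2 = 1} with hj
  have hSj : S = 2 * (j : ℤ) - 2 ^ (d + 1) := by
    have e : ∀ x : G, f x = 2 * (if x ^ 2 = 1 then (1 : ℤ) else 0) - 1 := fun x => by
      by_cases h : x ^ 2 = 1 <;> simp [f, g, h]
    have hn : ((Fintype.card G : ℕ) : ℤ) = 2 ^ (d + 1) := by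
      rw [← Nat.card_eq_fintype_card, hcardG]; push_cast; rfl
    rw [hS, Finset.sum_congr rfl (fun x _ => e x), Finset.sum_sub_distrib, ← Finset.mul_sum,
      Finset.sum_boole, ← hn, hj, Nat.card_eq_fintype_card, Fintype.card_subtype]
    simp [Finset.card_univ]
  by_cases hall : ∃ u ∈ Subgroup.center G, u ^ 2 ≠ 1
  · left
    obtain ⟨u₀, hu₀, hu₀2⟩ := hall
    have hfu : f u₀ = -1 := by simp [f, g, hu₀2]
    have hT0 : T = 0 := by
      have h1 : ∀ u ∈ Subgroup.center G, f (u₀ * u) = f u₀ * f u := by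
        intro u hu
        rw [hf, show c u₀ u = 1 by
          simp only [c]
          rw [mul_assoc u₀⁻¹ u u₀, ← Subgroup.mem_center_iff.mp hu u₀, inv_mul_cancel_left, mul_inv_cancel]]
        simp [g]
      have h2 : T = -T := by
        rw [hT, ← Finset.sum_neg_distrib]
        refine Finset.sum_nbij' (fun u => u₀⁻¹ * u) (fun u => u₀ * u) ?_ ?_ ?_ ?_ ?_
        · intro u hu; simpa using Subgroup.mul_mem _ (Subgroup.inv_mem _ hu₀) (by simpa using hu)
        · intro u hu; simpa using Subgroup.mul_mem _ hu₀ (by simpa using hu)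
        · intro u _; simp
        · intro u _; simp
        · intro u hu
          have := h1 (u₀⁻¹ * u) (Subgroup.mul_mem _ (Subgroup.inv_mem _ hu₀) (by simpa using hu))
          rw [mul_inv_cancel_left, hfu] at this
          linarith
      omega
    rw [hT0, mul_zero, mul_self_eq_zero] at hSS
    rw [hSS] at hSj
    have : (2 : ℤ) * j = 2 * 2 ^ d := by rw [pow_succ'] at hSj; linarith
    exact_mod_cast (mul_left_cancel₀ two_ne_zero this)
  · push Not at hall
    right
    have hTk : T = 2 ^ k := by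
      rw [hT, Finset.sum_congr rfl (fun u hu => show f u = 1 by
        simp [f, g, hall u (by simpa using hu)]), Finset.sum_const, hZcard, hk]
      simp
    rw [hTk, ← Nat.card_eq_fintype_card, hcardG] at hSS
    have hnat : S.natAbs * S.natAbs = 2 ^ (d + 1 + k) := by
      rw [← Int.natAbs_mul, hSS]
      push_cast
      rw [← pow_add, Int.natAbs_pow]
      rfl
    obtain ⟨m, -, hm⟩ := (Nat.dvd_prime_pow Nat.prime_two).mp (Dvd.intro S.natAbs hnat)
    rw [hm, ← pow_add] at hnat
    have hmm : m + m = d + 1 + k := Nat.pow_right_injective le_rfl hnat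
    have hkd : k ≤ d := by
      by_contra hh
      have hZtop : Subgroup.center G = ⊤ := by
        refine Subgroup.eq_top_of_le_card _ ?_
        rw [hk, hcardG]; exact Nat.pow_le_pow_right two_pos (by omega)
      have hb : frattini G ≤ ⊥ := by
        refine CfsgLib.PGroups.frattini_le_of_elementary (p := 2) ?_ fun x => ?_
        · rw [commutator_def, Subgroup.commutator_le]
          intro a _ b _
          rw [Subgroup.mem_bot, commutatorElement_eq_one_iff_commute]
          exact (Subgroup.mem_center_iff.mp (hZtop ▸ Subgroup.mem_top b) a)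
        · rw [Subgroup.mem_bot]
          exact hall x (hZtop ▸ Subgroup.mem_top x)
      rw [le_bot_iff.mp hb, Subgroup.card_bot] at hΦ
      omega
    obtain ⟨r, hr⟩ : ∃ r, 2 * r + k = d + 1 := ⟨(d + 1 - k) / 2, by omega⟩
    refine ⟨r, by omega, hr, ?_⟩
    have hmr : m = d - r + 1 := by omega
    rcases Int.natAbs_eq S with e | e
    · left
      rw [e, hm, hmr] at hSj
      push_cast at hSj
      rw [pow_succ', pow_succ'] at hSj
      have : (j : ℤ) = 2 ^ d + 2 ^ (d - r) := by linarith
      exact_mod_cast this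
    · right
      rw [e, hm, hmr] at hSj
      push_cast at hSj
      rw [pow_succ', pow_succ'] at hSj
      have : (j : ℤ) + 2 ^ (d - r) = 2 ^ d := by linarith
      exact_mod_cast this

/-- Let G be a finite 2-group whose Frattini subgroup Φ(G) has order 2, with |G : Φ(G)| = 2^d, and let j be the number of elements x of G with x² = 1. Then j = 2^d, or j = 2^d + 2^(d−r) or j = 2^d − 2^(d−r) for some positive integer r with 2r ≤ d. Moreover if d = 2r and j is 2^d + 2^r or 2^d − 2^r, then G is extraspecial. -/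
theorem result {G : Type*} [Group G] [Finite G] (hG : IsPGroup 2 G) (hΦ : Nat.card (frattini G) = 2) (d : ℕ) (hd : (frattini G).index = 2 ^ d) : (Nat.card {x : G // x ^ 2 = 1} = 2 ^ d ∨ ∃ r : ℕ, 1 ≤ r ∧ 2 * r ≤ d ∧ (Nat.card {x : G // x ^ 2 = 1} = 2 ^ d + 2 ^ (d - r) ∨ Nat.card {x : G // x ^ 2 = 1} + 2 ^ (d - r) = 2 ^ d)) ∧ (∀ r : ℕ, d = 2 * r → (Nat.card {x : G // x ^ 2 = 1} = 2 ^ d + 2 ^ r ∨ Nat.card {x : G // x ^ 2 = 1} + 2 ^ r = 2 ^ d) → Cfsg.IsExtraspecial 2 G) := by
  haveI : Fact (Nat.Prime 2) := ⟨Nat.prime_two⟩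
  obtain ⟨c, hc, hc1, hcase⟩ := count hG hΦ hd
  refine ⟨?_, fun r hr hj => ?_⟩
  · rcases hcase with h | ⟨r, hr1, hr2, h⟩
    · exact Or.inl h
    · exact Or.inr ⟨r, hr1, by omega, h⟩
  have h2 : 0 < 2 ^ r := pow_pos two_pos r
  rcases hcase with h | ⟨r', hr1, hr2, h⟩
  · omega
  have hrr : 2 ^ (d - r') = 2 ^ r := by
    have h3 : 0 < 2 ^ (d - r') := pow_pos two_pos _
    omega
  have hrr' : d - r' = r := Nat.pow_right_injective le_rfl hrr
  have hc' : c = 1 := by omega
  subst hc'
  rw [pow_one] at hc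
  have hle : frattini G ≤ Subgroup.center G := CfsgLib.PGroups.le_center_of_card_prime hG hΦ
  refine CfsgLib.PGroups.isExtraspecial_of hG (fun hcomm => ?_) hc
    ((CfsgLib.PGroups.commutator_le_frattini' hG).trans hle)
    (fun x => hle (CfsgLib.PGroups.pow_mem_frattini hG x))
  haveI := hcomm
  have h4 : Nat.card (Subgroup.center G) = Nat.card G := by
    rw [Subgroup.center_eq_top_iff.mpr hcomm, Subgroup.card_top]
  have hcardG : Nat.card G = 2 ^ (d + 1) := by
    rw [← (frattini G).card_mul_index, hΦ, hd, pow_succ']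
  rw [hc, hcardG, pow_succ'] at h4
  have : d = 0 := by
    by_contra hd0
    have := Nat.pow_le_pow_right two_pos (show 1 ≤ d by omega)
    omega
  omega

end Cfsg.Agent.S3772
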