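import Cfsg.Statements.S3738
import Mathlib
import Cfsg.Agent.S3772
import Cfsg.Agent.Lib.PGroups.Basic

set_option autoImplicit false
open Cfsg

namespace Cfsg.Agent.S3738

set_option linter.style.haveILetI false
set_option maxHeartbeats 1000000

open Subgroup in
open scoped commutatorElement in
/-- A 2-group with three involutions and a fixed-point-free automorphism of 3-power order `3^n`,
`n ≥ 2`: the element of order 3 acts trivially. -/
theorem key : ∀ (N : ℕ) (G : Type*) [Group G] [Finite G], Nat.card G ≤ N → IsPGroup 2 G →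
    ∀ (σ : MulAut G) (m : ℕ), σ ^ (3 ^ (m + 2)) = 1 → (∀ x, σ x = x → x = 1) →
      (∀ A : Subgroup G, IsMulCommutative A → (∀ a ∈ A, a ^ 2 = 1) → Nat.card A ≤ 4) →
      σ ^ (3 ^ (m + 1)) = 1 := by
  intro N
  induction N with
  | zero => intro G _ _ h; exact absurd h (Nat.not_le.mpr Nat.card_pos)
  | succ N ih =>
    intro G _ _ hN hG σ m hσ hfix hrk
    classical
    haveI : Fact (Nat.Prime 2) := ⟨Nat.prime_two⟩
    haveI : Fintype G := Fintype.ofFinite G
    set τ := σ ^ (3 ^ (m + 1)) with hτdef
    by_contra hne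
    have hτ3 : ∀ x, τ (τ (τ x)) = x := by
      intro x
      have : τ ^ 3 = 1 := by rw [hτdef, ← pow_mul, ← pow_succ, hσ]
      simpa [pow_succ] using DFunLike.congr_fun this x
    have hiter : ∀ (k : ℕ) (x : G), (σ ^ k) x = (⇑σ)^[k] x := by
      intro k
      induction k with
      | zero => intro x; rfl
      | succ k ihk => intro x; rw [pow_succ', MulAut.mul_apply, ihk, Function.iterate_succ_apply']
    have hστ : ∀ x, σ (τ x) = τ (σ x) := fun x =>
      DFunLike.congr_fun ((Commute.self_pow σ (3 ^ (m + 1))).eq) x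
    -- proper invariant subgroups are fixed by `τ`
    have hsub : ∀ H : Subgroup G, (∀ x ∈ H, σ x ∈ H) → H ≠ ⊤ → ∀ x ∈ H, τ x = x := by
      intro H hH hHt x hx
      have hmap : H.map σ.toMonoidHom = H := by
        refine eq_of_le_of_card_ge ?_ ?_
        · rintro _ ⟨y, hy, rfl⟩; exact hH y hy
        · exact (Nat.card_congr (σ.subgroupMap H).toEquiv).le
      let σ' : MulAut H := (σ.subgroupMap H).trans (MulEquiv.subgroupCongr hmap)
      have hco : ∀ (k : ℕ) (y : H), ((σ' ^ k) y : G) = (σ ^ k) (y : G) := by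
        intro k
        induction k with
        | zero => intro y; rfl
        | succ k ihk =>
          intro y
          rw [pow_succ, pow_succ, MulAut.mul_apply, MulAut.mul_apply, ihk]
          rfl
      have hlt : Nat.card H ≤ N := by
        have h1 : Nat.card H < Nat.card G := lt_of_le_of_ne (card_le_card_group H)
          fun e => hHt (eq_top_of_card_eq H e)
        omega
      have h := ih H hlt (hG.to_subgroup H) σ' m (MulEquiv.ext fun y => Subtype.ext (by
        rw [hco, hσ]; rfl)) (fun y hy => Subtype.ext (hfix y (congrArg Subtype.val hy)))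
        (fun A hA ha => by
          have hA2 : IsMulCommutative (A.map H.subtype) := ⟨⟨by
            rintro ⟨_, a, ha, rfl⟩ ⟨_, b, hb, rfl⟩
            apply Subtype.ext
            exact congrArg (fun t : A => ((t : H) : G)) (hA.is_comm.comm ⟨a, ha⟩ ⟨b, hb⟩)⟩⟩
          have := hrk (A.map H.subtype) hA2 (by
            rintro _ ⟨a, ha', rfl⟩
            rw [← map_pow, ha a ha', map_one])
          rwa [card_map_of_injective H.subtype_injective] at this)
      have := congrArg Subtype.val (DFunLike.congr_fun h ⟨x, hx⟩)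
      rwa [hco] at this
    -- `x⁻¹ τ x` generate
    set D := closure (Set.range fun x => x⁻¹ * τ x) with hD
    have hDtop : D = ⊤ := by
      by_contra hDt
      refine hne (MulEquiv.ext fun x => ?_)
      have hy := hsub D (fun y hy => by
        have : D ≤ D.comap σ.toMonoidHom := by
          rw [hD, closure_le]
          rintro _ ⟨z, rfl⟩
          exact subset_closure ⟨σ z, by simp [map_mul, hστ]⟩
        exact this hy) hDt (x⁻¹ * τ x) (subset_closure ⟨x, rfl⟩)
      set y := x⁻¹ * τ x with hydef
      have h1 : τ x = x * y := by rw [hydef, mul_inv_cancel_left]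
      have h3 : y ^ 3 = 1 := by
        have e := hτ3 x
        rw [h1, map_mul, hy, h1, map_mul, map_mul, hy, h1] at e
        rw [pow_succ, pow_two]
        simpa [mul_assoc] using e
      have hy1 : y = 1 := by
        obtain ⟨k, hk⟩ := hG y
        exact orderOf_eq_one_iff.mp (Nat.eq_one_of_dvd_coprimes (Nat.Coprime.pow_left k (by norm_num))
          (orderOf_dvd_of_pow_eq_one hk) (orderOf_dvd_of_pow_eq_one h3))
      rw [h1, hy1, mul_one]
      rfl
    have hkill : ∀ {H : Type _} [Group H] (θ : G →* H), (∀ x, θ (τ x) = θ x) → ∀ x, θ x = 1 := by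
      intro H _ θ h x
      have : D ≤ θ.ker := by
        rw [hD, closure_le]
        rintro _ ⟨z, rfl⟩
        simp [h]
      exact this (hDtop ▸ mem_top x)
    have hchar : ∀ H : Subgroup G, H.Characteristic → ∀ x ∈ H, σ x ∈ H := fun H hH x hx => by
      have := hH.fixed σ
      exact (show x ∈ H.comap σ.toMonoidHom by rw [this]; exact hx)
    haveI : Nontrivial G := by
      by_contra hnt
      rw [not_nontrivial_iff_subsingleton] at hnt
      exact hne (MulEquiv.ext fun x => Subsingleton.elim _ _)
    have hΦf : ∀ x ∈ frattini G, τ x = x :=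
      hsub _ (hchar _ inferInstance) CfsgLib.PGroups.frattini_ne_top
    have hcomΦ : ∀ x y : G, ⁅x, y⁆ ∈ frattini G := fun x y =>
      CfsgLib.PGroups.commutator_le_frattini' hG (by
        rw [_root_.commutator_def]; exact commutator_mem_commutator (mem_top x) (mem_top y))
    have hΦZ : frattini G ≤ center G := by
      intro φ hφ
      rw [mem_center_iff]
      have hle : D ≤ centralizer ({φ} : Set G) := by
        rw [hD, closure_le]
        rintro _ ⟨y, rfl⟩
        rw [SetLike.mem_coe, mem_centralizer_singleton_iff]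
        have h1 : ⁅φ, τ y⁆ = ⁅φ, y⁆ := by
          have := hΦf _ (hcomΦ φ y)
          rwa [map_commutatorElement, hΦf φ hφ] at this
        simp only [commutatorElement_def] at h1
        have h2 : φ * τ y * φ⁻¹ * (τ y)⁻¹ = φ * y * φ⁻¹ * y⁻¹ := h1
        calc (y⁻¹ * τ y) * φ
            = y⁻¹ * (φ * τ y * φ⁻¹ * (τ y)⁻¹)⁻¹ * φ * τ y := by group
          _ = y⁻¹ * (φ * y * φ⁻¹ * y⁻¹)⁻¹ * φ * τ y := by rw [h2]
          _ = φ * (y⁻¹ * τ y) := by group
      intro g
      exact mem_centralizer_singleton_iff.mp (hle (hDtop ▸ mem_top g))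
    have hsqΦ : ∀ x : G, x ^ 2 ∈ frattini G := CfsgLib.PGroups.pow_mem_frattini hG
    have hsqc : ∀ x g : G, Commute (x ^ 2) g := fun x g => (mem_center_iff.mp (hΦZ (hsqΦ x)) g).symm
    by_cases hab : center G = ⊤
    · -- abelian
      have hc : ∀ a b : G, Commute a b := fun a b => mem_center_iff.mp (hab ▸ mem_top b) a
      have hel : ∀ x : G, x ^ 2 = 1 := hkill (MonoidHom.mk' (fun x => x ^ 2) fun a b => (hc a b).mul_pow 2)
        (fun x => by show (τ x) ^ 2 = x ^ 2; rw [← map_pow, hΦf _ (hsqΦ x)])
      have hcard : Nat.card G ≤ 4 := by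
        have := hrk ⊤ ⟨⟨fun a b => Subtype.ext (hc a b).eq⟩⟩ (fun a _ => hel a)
        rwa [card_top] at this
      refine hne (MulEquiv.ext fun x => ?_)
      show τ x = x
      have hper : Function.IsPeriodicPt σ (3 ^ (m + 2)) x := by
        show (⇑σ)^[3 ^ (m + 2)] x = x
        rw [← hiter, hσ]; rfl
      have hmin : Function.minimalPeriod σ x ≤ 4 := by
        set c := Function.minimalPeriod σ x
        have hinj : Function.Injective fun i : Fin c => (⇑σ)^[i.1] x := fun i j e =>
          Fin.ext ((Function.iterate_eq_iterate_iff_of_lt_minimalPeriod i.2 j.2).mp e)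
        have := Nat.card_le_card_of_injective _ hinj
        rw [Nat.card_fin] at this
        omega
      obtain ⟨i, -, hi⟩ := (Nat.dvd_prime_pow Nat.prime_three).mp hper.minimalPeriod_dvd
      have hi1 : i ≤ m + 1 := by
        by_contra hh
        have := Nat.pow_le_pow_right (show 0 < 3 by norm_num) (show 2 ≤ i by omega)
        omega
      have : Function.IsPeriodicPt σ (3 ^ (m + 1)) x :=
        (Function.isPeriodicPt_minimalPeriod σ x).trans_dvd (hi ▸ pow_dvd_pow 3 hi1)
      rw [hτdef, hiter]
      exact this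
    have hZf : ∀ x ∈ center G, τ x = x := hsub _ (hchar _ inferInstance) hab
    -- the three involutions
    let Ω : Subgroup G :=
      { carrier := {z | z ∈ center G ∧ z ^ 2 = 1}
        one_mem' := ⟨one_mem _, one_pow _⟩
        mul_mem' := fun {a b} ha hb => ⟨mul_mem ha.1 hb.1, by
          rw [(show Commute a b from (mem_center_iff.mp ha.1 b).symm).mul_pow, ha.2, hb.2, one_mul]⟩
        inv_mem' := fun {a} ha => ⟨inv_mem ha.1, by rw [inv_pow, ha.2, inv_one]⟩ }
    have hΩn : Ω.Normal := ⟨fun x hx g => by
      rwa [mem_center_iff.mp hx.1 g, mul_inv_cancel_right]⟩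
    have hΩc : IsMulCommutative Ω := ⟨⟨fun a b => Subtype.ext (mem_center_iff.mp b.2.1 a)⟩⟩
    have hΩσ : ∀ z ∈ Ω, σ z ∈ Ω := fun z hz =>
      ⟨hchar _ inferInstance z hz.1, by rw [← map_pow, hz.2, map_one]⟩
    have hsmall : ∀ H : Subgroup G, (∀ z ∈ H, σ z ∈ H) → Nat.card H ≤ 2 → H = ⊥ := by
      intro H hH hc
      rw [eq_bot_iff]
      intro z hz
      rw [mem_bot]
      by_contra hz1
      have h2 : Nat.card H = 2 := by
        have : 1 < Nat.card H := (one_lt_card_iff_ne_bot H).mpr fun e => hz1 (mem_bot.mp (e ▸ hz))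
        omega
      have hu := ((Nat.card_eq_two_iff' (⟨1, H.one_mem⟩ : H)).mp h2).unique
        (y₁ := ⟨σ z, hH z hz⟩) (y₂ := ⟨z, hz⟩)
        (fun e => hz1 (σ.injective ((congrArg Subtype.val e).trans (map_one σ).symm)))
        (fun e => hz1 (congrArg Subtype.val e))
      exact hz1 (hfix z (congrArg Subtype.val hu))
    have hΩ4 : Nat.card Ω = 4 := by
      have h1 := hrk Ω hΩc (fun a ha => ha.2)
      have h2 : Ω ≠ ⊥ := by
        intro e
        haveI : Nontrivial (center G) := hG.center_nontrivial
        obtain ⟨z, hz⟩ := exists_prime_orderOf_dvd_card' (G := center G) 2 (by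
          obtain ⟨k, hk⟩ := IsPGroup.iff_card.mp (hG.to_subgroup (center G))
          have : 1 < Nat.card (center G) := Finite.one_lt_card
          rcases Nat.eq_zero_or_pos k with rfl | hk0
          · rw [hk, pow_zero] at this; omega
          · rw [hk]; exact dvd_pow_self 2 (by omega))
        have hm : (z : G) ∈ Ω := ⟨z.2, congrArg Subtype.val (hz ▸ pow_orderOf_eq_one z)⟩
        rw [e, mem_bot] at hm
        rw [show z = 1 from Subtype.ext hm, orderOf_one] at hz
        omega
      obtain ⟨k, hk⟩ := IsPGroup.iff_card.mp (hG.to_subgroup Ω)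
      have h3 : ¬ Nat.card Ω ≤ 2 := fun h => h2 (hsmall Ω hΩσ h)
      rw [hk] at h1 h3 ⊢
      rcases k with _ | _ | _ | k
      · simp at h3
      · simp at h3
      · norm_num
      · exfalso; rw [pow_succ, pow_succ, pow_succ] at h1; have := Nat.one_le_pow k 2 two_pos; omega
    have hinv : ∀ t : G, t ^ 2 = 1 → t ∈ Ω := by
      intro t ht
      by_contra hnt
      let A : Subgroup G := Ω ⊔ zpowers t
      have hA : IsMulCommutative A := by
        refine ⟨⟨fun a b => ?_⟩⟩
        have hle : A ≤ centralizer ((A : Subgroup G) : Set G) := by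
          refine sup_le (fun z hz => mem_centralizer_iff.mpr fun y _ => mem_center_iff.mp hz.1 y) ?_
          rw [zpowers_le, mem_centralizer_iff]
          intro y hy
          have : A ≤ centralizer ({t} : Set G) := sup_le
            (fun z hz => mem_centralizer_singleton_iff.mpr (mem_center_iff.mp hz.1 t).symm)
            (zpowers_le.mpr (mem_centralizer_singleton_iff.mpr rfl))
          exact mem_centralizer_singleton_iff.mp (this hy)
        exact Subtype.ext (mem_centralizer_iff.mp (hle b.2) a a.2)
      have hA2 : ∀ a ∈ A, a ^ 2 = 1 := by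
        intro a ha
        obtain ⟨z, hz, w, hw, rfl⟩ := mem_sup_of_normal_left.mp ha
        obtain ⟨i, rfl⟩ := mem_zpowers_iff.mp hw
        rw [(show Commute z (t ^ i) from (mem_center_iff.mp hz.1 _).symm).mul_pow, hz.2, one_mul,
          ← zpow_natCast, ← zpow_mul, mul_comm, zpow_mul, zpow_natCast, ht, one_zpow]
      have h4 := hrk A hA hA2
      have : Nat.card Ω < Nat.card A := lt_of_le_of_ne (card_le_of_le le_sup_left) fun e =>
        hnt (eq_of_le_of_card_ge (le_sup_left : Ω ≤ A) e.ge ▸ mem_sup_right (mem_zpowers t))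
      omega
    have hΩf : ∀ z ∈ Ω, τ z = z := fun z hz => hZf z hz.1
    -- squares and commutators lie in `Ω`
    have hcom : ∀ x y : G, ⁅x, y⁆ ∈ Ω := by
      intro x y
      refine hinv _ ?_
      have hc := mem_center_iff.mp (hΦZ (hcomΦ x y))
      have e : ⁅x ^ 2, y⁆ = ⁅x, y⁆ ^ 2 := by
        rw [pow_two, pow_two, show ⁅x * x, y⁆ = x * ⁅x, y⁆ * x⁻¹ * ⁅x, y⁆ by
          simp only [commutatorElement_def]; group, hc x, mul_inv_cancel_right]
      rw [← e, commutatorElement_eq_one_iff_commute]
      exact hsqc x y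
    have hfour : ∀ x : G, x ^ 4 = 1 := by
      have hm4 : ∀ a b : G, (a * b) ^ 4 = a ^ 4 * b ^ 4 := by
        intro a b
        have e : (a * b) ^ 2 = a ^ 2 * ⁅b, a⁆ * b ^ 2 := by
          have hc := mem_center_iff.mp (hcom b a).1
          calc (a * b) ^ 2 = a * (⁅b, a⁆ * a) * b * b := by
                rw [pow_two, commutatorElement_def]; group
            _ = a * (a * ⁅b, a⁆) * b * b := by rw [hc a]
            _ = a ^ 2 * ⁅b, a⁆ * b ^ 2 := by rw [pow_two, pow_two]; group
        rw [show 4 = 2 * 2 from rfl, pow_mul, pow_mul, pow_mul, e,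
          ((hsqc b _).symm).mul_pow, (hsqc a _).mul_pow, (hcom b a).2, mul_one]
      intro x
      exact hkill (MonoidHom.mk' (fun y : G => y ^ 4) hm4) (fun y => by
        show (τ y) ^ 4 = y ^ 4
        rw [← map_pow, show 4 = 2 * 2 from rfl, pow_mul, map_pow, hΦf _ (hsqΦ y)]) x
    have hsq : ∀ x : G, x ^ 2 ∈ Ω := fun x => hinv _ (by rw [← pow_mul]; exact hfour x)
    -- fixed points of `τ` are exactly `Ω`
    have hfixτ : ∀ x, τ x = x → x ∈ Ω := by
      intro x hx
      letI : CommGroup (G ⧸ Ω) :=
        { (inferInstance : Group (G ⧸ Ω)) with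
          mul_comm := by
            intro a b
            induction a using QuotientGroup.induction_on with | _ a => ?_
            induction b using QuotientGroup.induction_on with | _ b => ?_
            rw [← commutatorElement_eq_one_iff_mul_comm]
            exact (QuotientGroup.eq_one_iff ⁅a, b⁆).mpr (hcom a b) }
      let π := QuotientGroup.mk' Ω
      have h := hkill (MonoidHom.mk' (fun y => π y * π (τ y) * π (τ (τ y))) fun a b => by
        simp only [map_mul]
        rw [mul_mul_mul_comm (π a), mul_mul_mul_comm (π a * π (τ a))])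
        (fun y => by
          show π (τ y) * π (τ (τ y)) * π (τ (τ (τ y))) = π y * π (τ y) * π (τ (τ y))
          rw [hτ3, mul_comm, mul_assoc]) x
      have h' : π x * π x * π x = 1 := by
        have h'' : π x * π (τ x) * π (τ (τ x)) = 1 := h
        rwa [hx, hx] at h''
      rw [← map_mul, ← map_mul] at h'
      have h3 : x * x * x ∈ Ω := (QuotientGroup.eq_one_iff _).mp h'
      have : x = (x ^ 2)⁻¹ * (x * x * x) := by rw [pow_two]; group
      rw [this]
      exact Ω.mul_mem (Ω.inv_mem (hsq x)) h3
    -- order of `G`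
    obtain ⟨e, he⟩ := IsPGroup.iff_card.mp hG
    have he8 : 8 ≤ e := by
      set ζ := σ ^ (3 ^ m) with hζdef
      have hζ9 : ζ ^ 9 = 1 := by rw [hζdef, ← pow_mul, show 3 ^ m * 9 = 3 ^ (m + 2) by ring, hσ]
      have hζ3 : ζ ^ 3 = τ := by rw [hζdef, hτdef, ← pow_mul, pow_succ]
      have hord : orderOf ζ = 3 ^ 2 :=
        orderOf_eq_prime_pow (p := 3) (n := 1) (by rw [pow_one, hζ3]; exact hne) (by simpa using hζ9)
      have hσΩ : ∀ f : MulAut G, f ∈ zpowers σ → ∀ z, z ∈ Ω ↔ f z ∈ Ω := by
        intro f hf z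
        constructor
        · intro hz; exact hinv _ (by rw [← map_pow, hz.2, map_one])
        · intro hz; exact hinv _ (f.injective (by rw [map_pow, hz.2, map_one]))
      let C := {x : G // x ∉ Ω}
      letI : MulAction (zpowers ζ) C :=
        { smul := fun f x => ⟨(f : MulAut G) x, fun h => x.2 ((hσΩ _ (zpowers_le.mpr
            (pow_mem (mem_zpowers σ) _) f.2) x).mpr h)⟩
          one_smul := fun x => rfl
          mul_smul := fun f g x => rfl }
      have hfree : ∀ x : C, MulAction.stabilizer (zpowers ζ) x = ⊥ := by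
        intro x
        rw [eq_bot_iff]
        rintro ⟨f, hf⟩ hfx
        rw [mem_bot]
        by_contra hf1
        have hfx' : f (x : G) = x := congrArg Subtype.val hfx
        refine x.2 (hfixτ _ ?_)
        have hτmem : τ ∈ zpowers f := by
          obtain ⟨i, hi⟩ := (mem_zpowers_iff_mem_range_orderOf.mp hf : _)
            |> fun h => Finset.mem_image.mp h
          obtain ⟨-, rfl⟩ := hi
          have hi0 : ¬ 9 ∣ i := fun hd => by
            obtain ⟨c, rfl⟩ := hd
            exact hf1 (Subtype.ext (show ζ ^ (9 * c) = (1 : MulAut G) from by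
              rw [pow_mul, hζ9, one_pow]))
          rw [← hζ3]
          by_cases h3 : 3 ∣ i
          · obtain ⟨c, rfl⟩ := h3
            have : c % 3 = 1 ∨ c % 3 = 2 := by omega
            rcases this with hc | hc
            · refine ⟨1, ?_⟩
              show (ζ ^ (3 * c)) ^ (1 : ℤ) = ζ ^ 3
              rw [zpow_one, show 3 * c = 9 * (c / 3) + 3 by omega, pow_add, pow_mul, hζ9, one_pow, one_mul]
            · refine ⟨2, ?_⟩
              show (ζ ^ (3 * c)) ^ (2 : ℤ) = ζ ^ 3
              rw [show (2 : ℤ) = ((2 : ℕ) : ℤ) from rfl, zpow_natCast, ← pow_mul,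
                show 3 * c * 2 = 9 * (2 * (c / 3) + 1) + 3 by omega, pow_add, pow_mul, hζ9, one_pow, one_mul]
          · have hco : Nat.Coprime i (orderOf ζ) := by
              rw [hord]
              exact Nat.Coprime.pow_right 2 ((Nat.prime_three.coprime_iff_not_dvd.mpr h3).symm)
            obtain ⟨k, hk⟩ := exists_pow_eq_self_of_coprime hco
            exact pow_mem (show ζ ∈ zpowers (ζ ^ i) from ⟨(k : ℤ), by simpa using hk⟩) 3
        obtain ⟨i, hi⟩ := mem_zpowers_iff.mp hτmem
        have hst : f ∈ MulAction.stabilizer (MulAut G) (x : G) := hfx'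
        have := hi ▸ zpow_mem hst i
        exact this
      haveI : Finite C := Subtype.finite
      have hdiv : 9 ∣ Nat.card C := by
        have := Nat.card_congr (MulAction.selfEquivOrbitsQuotientProd hfree)
        rw [this, Nat.card_prod, Nat.card_zpowers, hord]
        exact dvd_mul_left 9 _
      have hC : Nat.card C = 2 ^ e - 4 := by
        rw [← he, ← hΩ4, show Nat.card C = ((Ω : Set G)ᶜ).ncard from Nat.card_coe_set_eq _,
          Set.ncard_compl]
        rfl
      rw [hC] at hdiv
      have he2 : 2 < e := by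
        by_contra hh
        refine hab (eq_top_iff.mpr ?_)
        have h4 : Nat.card G ≤ Nat.card Ω := by
          rw [hΩ4, he]; exact (Nat.pow_le_pow_right two_pos (show e ≤ 2 by omega))
        rw [← eq_top_of_le_card Ω h4]
        exact fun z hz => hz.1
      by_contra hh
      interval_cases e <;> norm_num at hdiv
    -- counting
    have hM : ∀ a ∈ Ω, a ≠ 1 → 16 ∣ Nat.card {x : G // x ^ 2 ∈ zpowers a} := by
      intro a ha ha1
      set M := zpowers a
      have hMΩ : M ≤ Ω := zpowers_le.mpr ha
      have hMcard : Nat.card M = 2 := by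
        rw [Nat.card_zpowers]; exact orderOf_eq_prime ha.2 ha1
      haveI hMn : M.Normal := ⟨fun x hx g => by
        rwa [mem_center_iff.mp (hMΩ hx).1 g, mul_inv_cancel_right]⟩
      let π := QuotientGroup.mk' M
      haveI hΩm : (Ω.map π).Normal := hΩn.map π (QuotientGroup.mk'_surjective M)
      have hQ : IsPGroup 2 (G ⧸ M) := hG.to_quotient M
      have hΩmc : Nat.card (Ω.map π) = 2 := by
        have h1 := card_eq_card_quotient_mul_card_subgroup (π.comp Ω.subtype).ker
        have hk : Nat.card (π.comp Ω.subtype).ker = 2 := by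
          rw [← MonoidHom.comap_ker, QuotientGroup.ker_mk']
          exact (Nat.card_congr (subgroupOfEquivOfLe hMΩ).toEquiv).trans hMcard
        rw [hΩ4, hk, Nat.card_congr (QuotientGroup.quotientKerEquivRange (π.comp Ω.subtype)).toEquiv,
          MonoidHom.range_comp, range_subtype] at h1
        omega
      have hfle : frattini (G ⧸ M) ≤ Ω.map π := by
        refine CfsgLib.PGroups.frattini_le_of_elementary (p := 2) ?_ fun x => ?_
        · rw [_root_.commutator_def, commutator_le]
          intro x _ y _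
          obtain ⟨x, rfl⟩ := QuotientGroup.mk'_surjective M x
          obtain ⟨y, rfl⟩ := QuotientGroup.mk'_surjective M y
          exact ⟨⁅x, y⁆, hcom x y, map_commutatorElement π x y⟩
        · obtain ⟨x, rfl⟩ := QuotientGroup.mk'_surjective M x
          exact ⟨x ^ 2, hsq x, map_pow π x 2⟩
      have hfne : frattini (G ⧸ M) ≠ ⊥ := by
        intro hb
        have hle : commutator G ≤ M := by
          rw [_root_.commutator_def, commutator_le]
          intro x _ y _
          rw [← QuotientGroup.eq_one_iff]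
          show π ⁅x, y⁆ = 1
          rw [map_commutatorElement, ← mem_bot, ← hb]
          exact CfsgLib.PGroups.commutator_le_frattini' hQ (by
            rw [_root_.commutator_def]; exact commutator_mem_commutator (mem_top _) (mem_top _))
        have hb' : commutator G = ⊥ :=
          hsmall _ (hchar _ inferInstance) (hMcard ▸ card_le_of_le hle)
        exact hab (center_eq_top_iff.mpr ((commutator_eq_bot_iff G).mp hb'))
      have hΦc : Nat.card (frattini (G ⧸ M)) = 2 := by
        have h1 := card_le_of_le hfle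
        have h2 := (one_lt_card_iff_ne_bot _).mpr hfne
        omega
      obtain ⟨d, hd⟩ := hQ.index (frattini (G ⧸ M))
      have hd6 : 6 ≤ d := by
        have h1 := (frattini (G ⧸ M)).card_mul_index
        have h2 := card_eq_card_quotient_mul_card_subgroup M
        rw [hMcard, he, ← h1, hΦc, hd] at h2
        have h3 : 2 ^ e = 2 ^ (d + 2) := by rw [h2, pow_add]; ring
        have := Nat.pow_right_injective le_rfl h3
        omega
      have h8 : 8 ∣ Nat.card {y : G ⧸ M // y ^ 2 = 1} := by
        obtain ⟨c, -, hc, hcase⟩ := Cfsg.Agent.S3772.count hQ hΦc hd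
        have h2d : 8 ∣ 2 ^ d := (pow_dvd_pow 2 (show 3 ≤ d by omega))
        rcases hcase with h | ⟨r, -, hr, h⟩
        · rw [h]; exact h2d
        · have h2r : 8 ∣ 2 ^ (d - r) := (pow_dvd_pow 2 (show 3 ≤ d - r by omega))
          rcases h with h | h
          · rw [h]; exact Nat.dvd_add h2d h2r
          · exact (Nat.dvd_add_left h2r).mp (h ▸ h2d)
      have heq : Nat.card {x : G // x ^ 2 ∈ M} = 2 * Nat.card {y : G ⧸ M // y ^ 2 = 1} := by
        have e1 : {x : G // x ^ 2 ∈ M} ≃ (QuotientGroup.mk ⁻¹' {y : G ⧸ M | y ^ 2 = 1} : Set G) :=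
          Equiv.subtypeEquivRight fun x => by
            show x ^ 2 ∈ M ↔ (x : G ⧸ M) ^ 2 = 1
            rw [← QuotientGroup.mk_pow, QuotientGroup.eq_one_iff]
        rw [Nat.card_congr e1, Nat.card_congr (QuotientGroup.preimageMkEquivSubgroupProdSet M _),
          Nat.card_prod, hMcard]
        rfl
      rw [heq]
      exact Nat.mul_dvd_mul_left 2 h8
    obtain ⟨a, ha, ha1⟩ : ∃ a ∈ Ω, a ≠ 1 := by
      obtain ⟨⟨a, ha⟩, ha1⟩ := Ω.ne_bot_iff_exists_ne_one.mp (by
        intro e; rw [e, card_bot] at hΩ4; omega)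
      exact ⟨a, ha, fun h => ha1 (Subtype.ext h)⟩
    obtain ⟨b, hb, hb1, hba⟩ : ∃ b ∈ Ω, b ≠ 1 ∧ b ≠ a := by
      by_contra hc
      push Not at hc
      have hsub2 : (Ω : Set G) ⊆ {1, a} := fun z hz => by
        by_cases h : z = 1
        · exact Or.inl h
        · exact Or.inr (hc z hz h)
      have h2 := Set.ncard_le_ncard hsub2 (Set.toFinite _)
      rw [Set.ncard_pair (Ne.symm ha1), show (Ω : Set G).ncard = 4 from hΩ4] at h2
      omega
    set c := a * b with hcdef
    have hc : c ∈ Ω := Ω.mul_mem ha hb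
    have haa : a * a = 1 := by rw [← pow_two]; exact ha.2
    have hc1 : c ≠ 1 := fun h => hba (mul_left_cancel (h.trans haa.symm))
    have hca : c ≠ a := fun h => hb1 (mul_eq_left.mp h)
    have hcb : c ≠ b := fun h => ha1 (mul_eq_right.mp h)
    have hall : ∀ z ∈ Ω, z = 1 ∨ z = a ∨ z = b ∨ z = c := by
      intro z hz
      by_contra hcon
      push Not at hcon
      obtain ⟨h1, h2, h3, h4⟩ := hcon
      have hsub5 : ({1, a, b, c, z} : Finset G) ⊆ Finset.univ.filter (fun u => u ∈ Ω) := by
        intro u hu
        simp only [Finset.mem_insert, Finset.mem_singleton] at hu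
        rcases hu with rfl | rfl | rfl | rfl | rfl <;> simp [Ω.one_mem, ha, hb, hc, hz]
      have h5 := Finset.card_le_card hsub5
      rw [show (Finset.univ.filter (fun u => u ∈ Ω)).card = 4 by
        rw [← Fintype.card_subtype, ← Nat.card_eq_fintype_card]; exact hΩ4,
        Finset.card_insert_of_notMem (by simp [ha1.symm, hb1.symm, hc1.symm, h1.symm]),
        Finset.card_insert_of_notMem (by simp [hba.symm, hca.symm, h2.symm]),
        Finset.card_insert_of_notMem (by simp [hcb.symm, h3.symm]),
        Finset.card_insert_of_notMem (by simp [h4.symm]), Finset.card_singleton] at h5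
      omega
    have hmem : ∀ u ∈ Ω, ∀ y : G, y ∈ zpowers u ↔ y = 1 ∨ y = u := by
      intro u hu y
      constructor
      · intro hy
        obtain ⟨i, rfl⟩ := mem_zpowers_iff.mp hy
        rcases Int.even_or_odd' i with ⟨j, rfl | rfl⟩
        · left; rw [zpow_mul, zpow_ofNat, hu.2, one_zpow]
        · right; rw [zpow_add, zpow_mul, zpow_ofNat, hu.2, one_zpow, one_mul, zpow_one]
      · rintro (rfl | rfl)
        exacts [one_mem _, mem_zpowers _]
    have hsum : Nat.card {x : G // x ^ 2 ∈ zpowers a} + Nat.card {x : G // x ^ 2 ∈ zpowers b} +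
        Nat.card {x : G // x ^ 2 ∈ zpowers c} = Nat.card G + 2 * Nat.card {x : G // x ^ 2 = 1} := by
      simp only [Nat.card_eq_fintype_card, Fintype.card_subtype, Finset.card_filter]
      rw [← Finset.card_univ, Finset.card_eq_sum_ones, Finset.mul_sum, ← Finset.sum_add_distrib,
        ← Finset.sum_add_distrib, ← Finset.sum_add_distrib]
      refine Finset.sum_congr rfl fun x _ => ?_
      simp only [hmem a ha, hmem b hb, hmem c hc]
      rcases hall _ (hsq x) with h | h | h | h <;>
        simp [h, ha1, hb1, hc1, ha1.symm, hb1.symm, hc1.symm, hba, hba.symm, hca, hca.symm, hcb, hcb.symm]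
    have hinvcard : Nat.card {x : G // x ^ 2 = 1} = 4 := by
      rw [← hΩ4]
      exact Nat.card_congr (Equiv.subtypeEquivRight fun x => ⟨hinv x, fun h => h.2⟩)
    have h16 : 16 ∣ 2 ^ e + 2 * 4 := by
      rw [← he, ← hinvcard, ← hsum]
      exact Nat.dvd_add (Nat.dvd_add (hM a ha ha1) (hM b hb hb1)) (hM c hc hc1)
    have := (Nat.dvd_add_right (pow_dvd_pow 2 (show 4 ≤ e by omega))).mp h16
    norm_num at this

/-- Let d be a non-identity 3-element of a finite group and P a 2-subgroup normalized by d on which ⟨d⟩ acts faithfully (no non-identity power of d centralizes P) and without non-identity fixed points (C_P(d) = 1). If every abelian subgroup of P has 2-rank at most 2, then d has order 3. -/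
theorem result {X : Type*} [Group X] [Finite X] (d : X) (n : ℕ) (hn : 1 ≤ n) (hd : orderOf d = 3 ^ n) (P : Subgroup X) (hP : IsPGroup 2 P) (hdP : d ∈ Subgroup.normalizer (P : Set X)) (hfaith : Subgroup.zpowers d ⊓ Subgroup.centralizer (P : Set X) = ⊥) (hfpf : P ⊓ Subgroup.centralizer {d} = ⊥) (hrank : ∀ V : Subgroup X, V ≤ P → IsMulCommutative V → Cfsg.PRankLE 2 2 V) : orderOf d = 3 := by
  classical
  obtain ⟨m, rfl⟩ | h1 : (∃ m, n = m + 2) ∨ n = 1 := by
    rcases n with _ | _ | m
    · omega
    · exact Or.inr rfl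
    · exact Or.inl ⟨m, rfl⟩
  swap
  · rw [hd, h1, pow_one]
  exfalso
  have hmem : ∀ x ∈ P, d * x * d⁻¹ ∈ P := fun x hx => (Subgroup.mem_normalizer_iff.mp hdP x).mp hx
  have hmem' : ∀ x ∈ P, d⁻¹ * x * d ∈ P := fun x hx => by
    have := (Subgroup.mem_normalizer_iff.mp (Subgroup.inv_mem _ hdP) x).mp hx
    simpa using this
  let σ : MulAut P :=
    { toFun := fun x => ⟨d * x * d⁻¹, hmem x x.2⟩
      invFun := fun x => ⟨d⁻¹ * x * d, hmem' x x.2⟩
      left_inv := fun x => Subtype.ext (by simp [mul_assoc])
      right_inv := fun x => Subtype.ext (by simp [mul_assoc])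
      map_mul' := fun x y => Subtype.ext (by simp [mul_assoc]) }
  have hpow : ∀ (k : ℕ) (x : P), ((σ ^ k) x : X) = d ^ k * x * (d ^ k)⁻¹ := by
    intro k
    induction k with
    | zero => intro x; simp
    | succ k ih =>
      intro x
      rw [pow_succ, MulAut.mul_apply, ih]
      show d ^ k * (d * x * d⁻¹) * (d ^ k)⁻¹ = _
      rw [pow_succ]; group
  have h := key (Nat.card P) P le_rfl hP σ m (MulEquiv.ext fun x => Subtype.ext (by
      rw [hpow, ← hd, pow_orderOf_eq_one]; simp))
    (fun x hx => Subtype.ext (by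
      have hx' : d * (x : X) * d⁻¹ = x := congrArg Subtype.val hx
      have : (x : X) ∈ P ⊓ Subgroup.centralizer {d} :=
        ⟨x.2, Subgroup.mem_centralizer_singleton_iff.mpr (mul_inv_eq_iff_eq_mul.mp hx').symm⟩
      rw [hfpf] at this
      simpa using this))
    (fun A hA ha => by
      have hA2 : IsMulCommutative (A.map P.subtype) := ⟨⟨by
        rintro ⟨_, a, ha, rfl⟩ ⟨_, b, hb, rfl⟩
        apply Subtype.ext
        exact congrArg (fun t : A => ((t : P) : X)) (hA.is_comm.comm ⟨a, ha⟩ ⟨b, hb⟩)⟩⟩
      have := hrank (A.map P.subtype) (Subgroup.map_subtype_le A) hA2 ⊤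
        ⟨⟨fun u v => Subtype.ext (hA2.is_comm.comm u.1 v.1)⟩⟩ (by
          rintro ⟨_, a, ha', rfl⟩ -
          exact Subtype.ext (by simpa using congrArg Subtype.val (ha a ha')))
      rw [Subgroup.card_top, Subgroup.card_map_of_injective P.subtype_injective] at this
      simpa using this)
  have hc : d ^ 3 ^ (m + 1) ∈ Subgroup.zpowers d ⊓ Subgroup.centralizer (P : Set X) := by
    refine ⟨pow_mem (Subgroup.mem_zpowers d) _, Subgroup.mem_centralizer_iff.mpr fun x hx => ?_⟩
    have := congrArg Subtype.val (DFunLike.congr_fun h ⟨x, hx⟩)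
    rw [hpow] at this
    exact (mul_inv_eq_iff_eq_mul.mp this).symm
  rw [hfaith, Subgroup.mem_bot] at hc
  have hdvd : 3 ^ (m + 2) ∣ 3 ^ (m + 1) := hd ▸ orderOf_dvd_of_pow_eq_one hc
  have := (Nat.pow_dvd_pow_iff_le_right (show 1 < 3 by norm_num)).mp hdvd
  omega

end Cfsg.Agent.S3738
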