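import Cfsg.Statements.S3739
import Mathlib
import Cfsg.Agent.S3738
import Cfsg.Agent.Lib.Core.Cores
import Cfsg.Agent.Lib.LocalEven.Generation
import Cfsg.Agent.Lib.Transfer.Tate

set_option autoImplicit false
open Cfsg

namespace Cfsg.Agent.S3739

set_option linter.style.haveILetI false

open Subgroup in
/-- An involution centralizing an elementary abelian `W` but outside it gives a larger one. -/
theorem exists_larger {G : Type*} [Group G] [Finite G] {W : Subgroup G}
    (hW : Cfsg.IsElementaryAbelian 2 W) {t : G} (ht2 : t ^ 2 = 1) (htW : t ∉ W)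
    (hWt : ∀ w ∈ W, w * t = t * w) :
    ∃ A : Subgroup G, IsMulCommutative A ∧ (∀ a ∈ A, a ^ 2 = 1) ∧ Nat.card W < Nat.card A := by
  have hcm : ∀ a ∈ W, ∀ b ∈ W, Commute a b := fun a ha b hb =>
    congrArg (fun t : W => (t : G)) (hW.1.is_comm.comm (⟨a, ha⟩ : W) ⟨b, hb⟩)
  have htt : t⁻¹ = t := inv_eq_of_mul_eq_one_right (by rw [← pow_two]; exact ht2)
  let A : Subgroup G :=
    { carrier := {x | ∃ w ∈ W, x = w ∨ x = w * t}
      one_mem' := ⟨1, W.one_mem, Or.inl rfl⟩
      mul_mem' := by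
        rintro x y ⟨a, ha, hx⟩ ⟨b, hb, hy⟩
        refine ⟨a * b, W.mul_mem ha hb, ?_⟩
        rcases hx with hx | hx <;> rcases hy with hy | hy <;> subst x <;> subst y
        · exact Or.inl rfl
        · exact Or.inr (mul_assoc _ _ _).symm
        · exact Or.inr (by rw [mul_assoc, ← hWt b hb, mul_assoc])
        · refine Or.inl ?_
          rw [mul_assoc a t, ← mul_assoc t b t, ← hWt b hb, mul_assoc b t t, ← pow_two, ht2, mul_one]
      inv_mem' := by
        rintro x ⟨a, ha, hx | hx⟩ <;> subst x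
        · exact ⟨a⁻¹, W.inv_mem ha, Or.inl rfl⟩
        · refine ⟨a⁻¹, W.inv_mem ha, Or.inr ?_⟩
          rw [mul_inv_rev, htt]
          exact (show Commute t a⁻¹ from (show Commute t a from (hWt a ha).symm).inv_right).eq }
  refine ⟨A, ⟨⟨?_⟩⟩, ?_, ?_⟩
  · rintro ⟨x, a, ha, hx⟩ ⟨y, b, hb, hy⟩
    apply Subtype.ext
    show x * y = y * x
    have c1 : Commute a t := hWt a ha
    have c2 : Commute b t := hWt b hb
    rcases hx with hx | hx <;> rcases hy with hy | hy <;> subst x <;> subst y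
    · exact (hcm _ ha _ hb).eq
    · exact ((hcm _ ha _ hb).mul_right c1).eq
    · exact ((hcm _ ha _ hb).mul_left c2.symm).eq
    · exact (((hcm _ ha _ hb).mul_right c1).mul_left (c2.symm.mul_right (Commute.refl t))).eq
  · rintro x ⟨a, ha, hx | hx⟩ <;> subst x
    · exact hW.2 _ ha
    · rw [(show Commute a t from hWt a ha).mul_pow, hW.2 a ha, ht2, one_mul]
  · refine lt_of_le_of_ne (card_le_of_le fun w hw => ⟨w, hw, Or.inl rfl⟩) fun e => htW ?_
    have hle : W ≤ A := fun w hw => ⟨w, hw, Or.inl rfl⟩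
    rw [eq_of_le_of_card_ge hle e.ge]
    exact ⟨1, W.one_mem, Or.inr (one_mul t).symm⟩

open Subgroup in
/-- A fixed-point-free set-up on a four group: an element of order 3 fixing a nonidentity point of `W`
centralizes `W`. -/
theorem centralizes_of_fixes {G : Type*} [Group G] [Finite G] {W : Subgroup G}
    (hW : Cfsg.IsElementaryAbelian 2 W) (hW4 : Nat.card W = 4) {e w : G} (he : e ^ 3 = 1)
    (hnorm : e ∈ normalizer (W : Set G)) (hw : w ∈ W) (hw1 : w ≠ 1) (hwe : e * w * e⁻¹ = w) :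
    e ∈ centralizer (W : Set G) := by
  classical
  rw [mem_centralizer_iff]
  intro x (hx : x ∈ W)
  by_contra hne
  have hcm : ∀ a ∈ W, ∀ b ∈ W, a * b = b * a := fun a ha b hb =>
    congrArg Subtype.val (hW.1.is_comm.comm (⟨a, ha⟩ : W) ⟨b, hb⟩)
  have hx1 : x ≠ 1 := fun h => hne (by simp [h])
  have hxw : x ≠ w := by
    intro h
    subst h
    exact hne (mul_inv_eq_iff_eq_mul.mp hwe).symm
  have hy : e * x * e⁻¹ ∈ W := (mem_normalizer_iff.mp hnorm x).mp hx
  set y := e * x * e⁻¹ with hydef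
  have hyx : y ≠ x := fun h => hne (mul_inv_eq_iff_eq_mul.mp h).symm
  have hy1 : y ≠ 1 := fun h => hx1 (by simpa using conj_eq_one_iff.mp h)
  have hyw : y ≠ w := fun h => hxw (by
    have h' : e * x * e⁻¹ = e * w * e⁻¹ := h.trans hwe.symm
    simpa using h')
  have hwx : w * x ∈ W := W.mul_mem hw hx
  have hy' : y = w * x := by
    by_contra h
    haveI : Fintype W := Fintype.ofFinite W
    have hsub : ({1, w, x, y, w * x} : Finset G) ⊆ (Finset.univ : Finset W).map ⟨Subtype.val, Subtype.val_injective⟩ := by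
      intro u hu
      simp only [Finset.mem_insert, Finset.mem_singleton] at hu
      rcases hu with rfl | rfl | rfl | rfl | rfl <;> simp [W.one_mem, hw, hx, hy, hwx]
    have h5 := Finset.card_le_card hsub
    have hwx1 : w * x ≠ 1 := fun h' => hxw (mul_left_cancel (h'.trans (by rw [← pow_two]; exact (hW.2 w hw).symm)))
    rw [Finset.card_map, Finset.card_univ, ← Nat.card_eq_fintype_card, hW4,
      Finset.card_insert_of_notMem (by simp [hw1.symm, hx1.symm, hy1.symm, hwx1.symm]),
      Finset.card_insert_of_notMem (by simp [hxw.symm, hyw.symm, hx1]),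
      Finset.card_insert_of_notMem (by simp [hyx.symm, hw1]),
      Finset.card_insert_of_notMem (by simp [h]), Finset.card_singleton] at h5
    omega
  have h2 : e * y * e⁻¹ = x := by
    rw [hy', show e * (w * x) * e⁻¹ = (e * w * e⁻¹) * (e * x * e⁻¹) by group, hwe, ← hydef, hy',
      ← mul_assoc, ← pow_two, hW.2 w hw, one_mul]
  have h3 : e * (e * y * e⁻¹) * e⁻¹ = x := by
    have h' : e * (e * (e * x * e⁻¹) * e⁻¹) * e⁻¹ = e ^ 3 * x * (e ^ 3)⁻¹ := by
      rw [pow_succ, pow_two]; group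
    rw [hydef, h', he]; simp
  rw [h2] at h3
  exact hyx h3


/-- Let G be a finite group with C_G(O₂(G)) ≤ O₂(G) containing an element of order 6, and let d be a non-identity 3-element of G normalizing a nontrivial elementary abelian 2-subgroup W with C_W(d) = 1. Then G has an elementary abelian subgroup of order 8. -/
theorem result {G : Type*} [Group G] [Finite G] (hchar : Subgroup.centralizer (Cfsg.pCore 2 G : Set G) ≤ Cfsg.pCore 2 G) (hsix : ∃ g : G, orderOf g = 6) (d : G) (hd1 : d ≠ 1) (hd : IsPGroup 3 ↥(Subgroup.zpowers d)) (W : Subgroup G) (hW : Cfsg.IsElementaryAbelian 2 W) (hW1 : W ≠ ⊥) (hdW : d ∈ Subgroup.normalizer (W : Set G)) (hfpf : W ⊓ Subgroup.centralizer {d} = ⊥) : ∃ E : Subgroup G, Cfsg.IsElementaryAbelian 2 E ∧ Nat.card E = 8 := by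
  classical
  by_contra hno
  push Not at hno
  haveI : Fact (Nat.Prime 2) := ⟨Nat.prime_two⟩
  haveI : Fact (Nat.Prime 3) := ⟨Nat.prime_three⟩
  have hrk : ∀ A : Subgroup G, IsMulCommutative A → (∀ a ∈ A, a ^ 2 = 1) → Nat.card A ≤ 4 := by
    intro A hA ha
    obtain ⟨k, hk⟩ := IsPGroup.iff_card.mp
      (show IsPGroup 2 A from fun a => ⟨1, Subtype.ext (by simpa using ha a a.2)⟩)
    by_contra h4
    have hk3 : 3 ≤ k := by
      by_contra hh
      exact h4 (hk ▸ (Nat.pow_le_pow_right two_pos (show k ≤ 2 by omega)))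
    obtain ⟨E, hE⟩ := Sylow.exists_subgroup_card_pow_prime 2 (n := 3) (G := A)
      (by rw [hk]; exact pow_dvd_pow 2 hk3)
    have hEle : E.map A.subtype ≤ A := Subgroup.map_subtype_le E
    refine hno (E.map A.subtype) ⟨⟨⟨fun a b => Subtype.ext ?_⟩⟩, fun a ha' => ha a (hEle ha')⟩ ?_
    · exact congrArg (fun t : A => (t : G)) (hA.is_comm.comm (⟨a, hEle a.2⟩ : A) ⟨b, hEle b.2⟩)
    · rw [Subgroup.card_map_of_injective A.subtype_injective, hE]; rfl
  obtain ⟨nd, hnd⟩ : ∃ n, orderOf d = 3 ^ n := by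
    obtain ⟨k, hk⟩ := IsPGroup.iff_card.mp hd
    exact ⟨k, by rw [← Nat.card_zpowers, hk]⟩
  have hnd1 : 1 ≤ nd := by
    by_contra h
    rw [show nd = 0 by omega, pow_zero, orderOf_eq_one_iff] at hnd
    exact hd1 hnd
  have hsmall : ∀ H : Subgroup G, d ∈ Subgroup.normalizer (H : Set G) → H ⊓ Subgroup.centralizer {d} = ⊥ →
      Nat.card H ≤ 2 → H = ⊥ := by
    intro H hH hf hc
    rw [eq_bot_iff]
    intro z hz
    rw [Subgroup.mem_bot]
    by_contra hz1
    have h2 : Nat.card H = 2 := by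
      have : 1 < Nat.card H := (Subgroup.one_lt_card_iff_ne_bot H).mpr fun e => hz1 (Subgroup.mem_bot.mp (e ▸ hz))
      omega
    have hu := ((Nat.card_eq_two_iff' (⟨1, H.one_mem⟩ : H)).mp h2).unique
      (y₁ := ⟨d * z * d⁻¹, (Subgroup.mem_normalizer_iff.mp hH z).mp hz⟩) (y₂ := ⟨z, hz⟩)
      (fun e => hz1 (by simpa using congrArg Subtype.val e))
      (fun e => hz1 (congrArg Subtype.val e))
    have hm : z ∈ H ⊓ Subgroup.centralizer {d} := ⟨hz, Subgroup.mem_centralizer_singleton_iff.mpr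
      (mul_inv_eq_iff_eq_mul.mp (congrArg Subtype.val hu)).symm⟩
    rw [hf] at hm
    exact hz1 hm
  have hW2 : IsPGroup 2 W := fun a => ⟨1, Subtype.ext (by simpa using hW.2 a a.2)⟩
  have hW4 : Nat.card W = 4 := by
    obtain ⟨k, hk⟩ := IsPGroup.iff_card.mp hW2
    have h1 := hrk W hW.1 hW.2
    have h2 : ¬ Nat.card W ≤ 2 := fun h => hW1 (hsmall W hdW hfpf h)
    rw [hk] at h1 h2 ⊢
    rcases k with _ | _ | _ | k
    · simp at h2
    · simp at h2
    · norm_num
    · exfalso; rw [pow_succ, pow_succ, pow_succ] at h1; have := Nat.one_le_pow k 2 two_pos; omega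
  set P := Cfsg.pCore 2 G with hPdef
  have hP : IsPGroup 2 P := CfsgLib.Core.isPGroup_pCore 2 G
  haveI hPn : P.Normal := inferInstance
  have hPne : P ≠ ⊥ := by
    intro hb
    have : d ∈ Subgroup.centralizer (P : Set G) := Subgroup.mem_centralizer_iff.mpr fun y hy => by
      rw [SetLike.mem_coe, hb, Subgroup.mem_bot] at hy; simp [hy]
    have := hchar this
    rw [hb, Subgroup.mem_bot] at this
    exact hd1 this
  set Q := P ⊔ W with hQdef
  have hQ : IsPGroup 2 Q := IsPGroup.to_sup_of_normal_left hP hW2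
  have hdQ : d ∈ Subgroup.normalizer (Q : Set G) := by
    refine Subgroup.mem_normalizer_iff.mpr fun x => ?_
    have key : ∀ g : G, g ∈ Subgroup.normalizer (W : Set G) → ∀ x ∈ Q, g * x * g⁻¹ ∈ Q := by
      intro g hg x hx
      obtain ⟨a, ha, b, hb, rfl⟩ := Subgroup.mem_sup_of_normal_left.mp hx
      rw [show g * (a * b) * g⁻¹ = (g * a * g⁻¹) * (g * b * g⁻¹) by group]
      exact Q.mul_mem (Subgroup.mem_sup_left (hPn.conj_mem a ha g))
        (Subgroup.mem_sup_right ((Subgroup.mem_normalizer_iff.mp hg b).mp hb))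
    refine ⟨key d hdW x, fun h => ?_⟩
    have := key d⁻¹ (Subgroup.inv_mem _ hdW) _ h
    simpa [mul_assoc] using this
  -- all involutions of `Q` lie in `W`
  let Z : Subgroup G :=
    { carrier := {z | z ∈ Q ∧ z ^ 2 = 1 ∧ ∀ q ∈ Q, z * q = q * z}
      one_mem' := ⟨Q.one_mem, one_pow _, fun q _ => by simp⟩
      mul_mem' := fun {a b} ha hb => ⟨Q.mul_mem ha.1 hb.1, by
        rw [(show Commute a b from ha.2.2 b hb.1).mul_pow, ha.2.1, hb.2.1, one_mul], fun q hq =>
        ((show Commute a q from ha.2.2 q hq).mul_left (hb.2.2 q hq)).eq⟩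
      inv_mem' := fun {a} ha => ⟨Q.inv_mem ha.1, by rw [inv_pow, ha.2.1, inv_one], fun q hq =>
        ((show Commute a q from ha.2.2 q hq).inv_left).eq⟩ }
  have hZW : ∀ z ∈ Z, z ∈ W := by
    intro z hz
    by_contra hzW
    obtain ⟨A, hA, hA2, hlt⟩ := exists_larger hW hz.2.1 hzW fun w hw =>
      (hz.2.2 w (Subgroup.mem_sup_right hw)).symm
    have := hrk A hA hA2
    omega
  have hdZ : d ∈ Subgroup.normalizer (Z : Set G) := by
    have key : ∀ g : G, g ∈ Subgroup.normalizer (Q : Set G) → ∀ z ∈ Z, g * z * g⁻¹ ∈ Z := by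
      intro g hg z hz
      refine ⟨(Subgroup.mem_normalizer_iff.mp hg z).mp hz.1, by rw [conj_pow, hz.2.1]; group, fun q hq => ?_⟩
      have := hz.2.2 (g⁻¹ * q * g) (by simpa using (Subgroup.mem_normalizer_iff.mp (Subgroup.inv_mem _ hg) q).mp hq)
      calc g * z * g⁻¹ * q = g * (z * (g⁻¹ * q * g)) * g⁻¹ := by group
        _ = q * (g * z * g⁻¹) := by rw [this]; group
    refine Subgroup.mem_normalizer_iff.mpr fun x => ⟨key d hdQ x, fun h => ?_⟩
    have := key d⁻¹ (Subgroup.inv_mem _ hdQ) _ h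
    simpa [mul_assoc] using this
  have hZeq : Z = W := by
    refine Subgroup.eq_of_le_of_card_ge hZW ?_
    have hne : Z ≠ ⊥ := by
      haveI : Nontrivial Q := (Subgroup.nontrivial_iff_ne_bot _).mpr fun e =>
        hPne (le_bot_iff.mp (e ▸ (le_sup_left : P ≤ Q)))
      haveI : Nontrivial (Subgroup.center Q) := hQ.center_nontrivial
      obtain ⟨z, hz⟩ := exists_prime_orderOf_dvd_card' (G := Subgroup.center Q) 2 (by
        obtain ⟨k, hk⟩ := IsPGroup.iff_card.mp (hQ.to_subgroup (Subgroup.center Q))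
        have : 1 < Nat.card (Subgroup.center Q) := Finite.one_lt_card
        rcases Nat.eq_zero_or_pos k with rfl | hk0
        · rw [hk, pow_zero] at this; omega
        · rw [hk]; exact dvd_pow_self 2 (by omega))
      have hm : ((z : Q) : G) ∈ Z := ⟨(z : Q).2, by
        have h := pow_orderOf_eq_one z
        rw [hz] at h
        simpa using congrArg (fun t : Subgroup.center Q => ((t : Q) : G)) h, fun q hq =>
          (congrArg Subtype.val (Subgroup.mem_center_iff.mp z.2 ⟨q, hq⟩)).symm⟩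
      intro e
      rw [e, Subgroup.mem_bot] at hm
      rw [show z = 1 from Subtype.ext (Subtype.ext hm), orderOf_one] at hz
      omega
    by_contra hlt
    refine hne (hsmall Z hdZ (eq_bot_iff.mpr fun x hx => hfpf ▸ ⟨hZW x hx.1, hx.2⟩) ?_)
    have hd4 := Subgroup.card_dvd_of_le (show Z ≤ W from hZW)
    rw [hW4] at hd4 hlt
    have := Nat.le_of_dvd (by norm_num) hd4
    interval_cases hc : Nat.card Z <;> omega
  have hinv : ∀ t ∈ Q, t ^ 2 = 1 → t ∈ W := by
    intro t ht ht2
    by_contra htW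
    obtain ⟨A, hA, hA2, hlt⟩ := exists_larger hW ht2 htW fun w hw => (hZeq.ge hw).2.2 t ht
    have := hrk A hA hA2
    omega
  have hfix : ∀ a : G, W ⊓ Subgroup.centralizer {a} = ⊥ → Q ⊓ Subgroup.centralizer {a} = ⊥ := by
    intro a ha
    by_contra hne
    have h2 : IsPGroup 2 (Q ⊓ Subgroup.centralizer {a} : Subgroup G) := hQ.to_le inf_le_left
    obtain ⟨k, hk⟩ := IsPGroup.iff_card.mp h2
    obtain ⟨z, hz⟩ := exists_prime_orderOf_dvd_card' (G := (Q ⊓ Subgroup.centralizer {a} : Subgroup G)) 2 (by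
      rcases Nat.eq_zero_or_pos k with rfl | hk0
      · exact absurd (Subgroup.eq_bot_of_card_eq _ (hk.trans (pow_zero 2))) hne
      · rw [hk]; exact dvd_pow_self 2 (by omega))
    have hz2 : (z : G) ^ 2 = 1 := by
      have h := pow_orderOf_eq_one z
      rw [hz] at h
      simpa using congrArg Subtype.val h
    have hm : (z : G) ∈ W ⊓ Subgroup.centralizer {a} := ⟨hinv _ z.2.1 hz2, z.2.2⟩
    rw [ha, Subgroup.mem_bot] at hm
    rw [show z = 1 from Subtype.ext hm, orderOf_one] at hz
    omega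
  have hfaith : Subgroup.zpowers d ⊓ Subgroup.centralizer (Q : Set G) = ⊥ := by
    refine eq_bot_iff.mpr fun x hx => ?_
    have hxP : x ∈ P := hchar (Subgroup.centralizer_le (SetLike.coe_subset_coe.2 le_sup_left) hx.2)
    have hco : (Nat.card (Subgroup.zpowers d)).Coprime (Nat.card P) := by
      obtain ⟨k, hk⟩ := IsPGroup.iff_card.mp hP
      rw [Nat.card_zpowers, hnd, hk]; exact Nat.Coprime.pow _ _ (by norm_num)
    exact (Subgroup.inf_eq_bot_of_coprime hco).le ⟨hx.1, hxP⟩
  have hd3 : orderOf d = 3 := Cfsg.Agent.S3738.result d nd hnd1 hnd Q hQ hdQ hfaith (hfix d hfpf)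
    (fun V _ hV A hA ha => by
      have := hrk (A.map V.subtype) ⟨⟨by
        rintro ⟨_, a, ha, rfl⟩ ⟨_, b, hb, rfl⟩
        apply Subtype.ext
        exact congrArg (fun t : A => ((t : V) : G)) (hA.is_comm.comm ⟨a, ha⟩ ⟨b, hb⟩)⟩⟩ (by
          rintro _ ⟨a, ha', rfl⟩
          rw [← map_pow, ha a ha', map_one])
      rwa [Subgroup.card_map_of_injective V.subtype_injective] at this)
  -- `W` is normal
  obtain ⟨w₀, hw₀P, hw₀2, hw₀1⟩ : ∃ w, w ∈ P ∧ w ^ 2 = 1 ∧ w ≠ 1 := by
    obtain ⟨k, hk⟩ := IsPGroup.iff_card.mp hP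
    obtain ⟨z, hz⟩ := exists_prime_orderOf_dvd_card' (G := P) 2 (by
      rcases Nat.eq_zero_or_pos k with rfl | hk0
      · exact absurd (Subgroup.eq_bot_of_card_eq _ (hk.trans (pow_zero 2))) hPne
      · rw [hk]; exact dvd_pow_self 2 (by omega))
    refine ⟨z, z.2, by
      have h := pow_orderOf_eq_one z
      rw [hz] at h
      simpa using congrArg Subtype.val h, fun e => ?_⟩
    rw [show z = 1 from Subtype.ext e, orderOf_one] at hz
    omega
  have hWP : W ≤ P := by
    have hne : W ⊓ P ≠ ⊥ := fun e => hw₀1 (Subgroup.mem_bot.mp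
      (e ▸ (⟨hinv _ (Subgroup.mem_sup_left hw₀P) hw₀2, hw₀P⟩ : w₀ ∈ W ⊓ P)))
    have hdn : d ∈ Subgroup.normalizer ((W ⊓ P : Subgroup G) : Set G) := by
      refine Subgroup.mem_normalizer_iff.mpr fun x => ?_
      exact and_congr (Subgroup.mem_normalizer_iff.mp hdW x)
        ⟨fun h => hPn.conj_mem x h d, fun h => by simpa [mul_assoc] using hPn.conj_mem _ h d⁻¹⟩
    have h3 : ¬ Nat.card (W ⊓ P : Subgroup G) ≤ 2 := fun h => hne (hsmall _ hdn
      (eq_bot_iff.mpr fun x hx => hfpf ▸ ⟨hx.1.1, hx.2⟩) h)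
    have hd4 := Subgroup.card_dvd_of_le (inf_le_left : W ⊓ P ≤ W)
    rw [hW4] at hd4
    have h4 : Nat.card (W ⊓ P : Subgroup G) = 4 := by
      have := Nat.le_of_dvd (by norm_num) hd4
      interval_cases hc : Nat.card (W ⊓ P : Subgroup G) <;> omega
    exact inf_eq_left.mp (Subgroup.eq_of_le_of_card_ge inf_le_left (by rw [hW4, h4]))
  haveI hWn : W.Normal := ⟨fun x hx g =>
    hinv _ (Subgroup.mem_sup_left (hPn.conj_mem x (hWP hx) g)) (by rw [conj_pow, hW.2 x hx]; group)⟩
  have hnorm : ∀ g : G, g ∈ Subgroup.normalizer (W : Set G) := fun g => by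
    rw [Subgroup.normalizer_eq_top_iff.mpr hWn]; trivial
  -- an element of order three centralizing `W`
  obtain ⟨g, hg⟩ := hsix
  set e := g ^ 2 with hedef
  set t := g ^ 3 with htdef
  have he3 : e ^ 3 = 1 := by rw [hedef, ← pow_mul, show 2 * 3 = 6 from rfl, ← hg, pow_orderOf_eq_one]
  have ht2 : t ^ 2 = 1 := by rw [htdef, ← pow_mul, show 3 * 2 = 6 from rfl, ← hg, pow_orderOf_eq_one]
  have he1 : e ≠ 1 := fun h => by
    have := orderOf_dvd_of_pow_eq_one h; rw [hg] at this; norm_num at this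
  have ht1 : t ≠ 1 := fun h => by
    have := orderOf_dvd_of_pow_eq_one h; rw [hg] at this; norm_num at this
  have het : Commute e t := Commute.pow_pow_self g 2 3
  have heC : e ∈ Subgroup.centralizer (W : Set G) := by
    by_cases htW : t ∈ W
    · exact centralizes_of_fixes hW hW4 he3 (hnorm e) htW ht1 (by rw [het.eq, mul_inv_cancel_right])
    obtain ⟨x, hx, hxt⟩ : ∃ x ∈ W, t * x * t⁻¹ ≠ x := by
      by_contra hc
      push Not at hc
      obtain ⟨A, hA, hA2, hlt⟩ := exists_larger hW ht2 htW fun w hw =>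
        (mul_inv_eq_iff_eq_mul.mp (hc w hw)).symm
      have := hrk A hA hA2
      omega
    have hcm : ∀ a ∈ W, ∀ b ∈ W, a * b = b * a := fun a ha b hb =>
      congrArg Subtype.val (hW.1.is_comm.comm (⟨a, ha⟩ : W) ⟨b, hb⟩)
    set w := x * (t * x * t⁻¹) with hwdef
    have hyW : t * x * t⁻¹ ∈ W := hWn.conj_mem x hx t
    have hw : w ∈ W := W.mul_mem hx hyW
    have hw1 : w ≠ 1 := fun h => hxt (by
      rw [mul_eq_one_iff_inv_eq] at h
      rw [← h, inv_eq_iff_mul_eq_one, ← pow_two]; exact hW.2 x hx)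
    have htt : t * t = 1 := by rw [← pow_two]; exact ht2
    have hwt : t * w * t⁻¹ = w := by
      have hti : t⁻¹ = t := inv_eq_of_mul_eq_one_right htt
      calc t * w * t⁻¹ = (t * x * t⁻¹) * ((t * t) * x * (t⁻¹ * t⁻¹)) := by rw [hwdef]; group
        _ = (t * x * t⁻¹) * x := by rw [hti, htt, one_mul, mul_one]
        _ = w := hcm _ hyW _ hx
    have hstab : ∀ v ∈ W, t * v * t⁻¹ = v → v = 1 ∨ v = w := by
      intro v hv hvt
      by_contra hc
      push Not at hc
      refine hxt ?_
      -- `⟨w, v⟩ = W` is fixed by `t`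
      have hsub : (Subgroup.closure ({w, v} : Set G)) = W := by
        refine Subgroup.eq_of_le_of_card_ge ((Subgroup.closure_le W).mpr (by simp [Set.insert_subset_iff, hw, hv])) ?_
        have hS : ({1, w, v} : Finset G).card = 3 := by
          rw [Finset.card_insert_of_notMem (by simp [hw1.symm, hc.1.symm]),
            Finset.card_insert_of_notMem (by simp [hc.2.symm]), Finset.card_singleton]
        set C := Subgroup.closure ({w, v} : Set G)
        haveI : Fintype C := Fintype.ofFinite C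
        have h3 : 3 ≤ Nat.card C := by
          rw [← hS, Nat.card_eq_fintype_card, ← Finset.card_univ,
            ← Finset.card_map (⟨Subtype.val, Subtype.val_injective⟩ : C ↪ G)]
          refine Finset.card_le_card fun u hu => ?_
          simp only [Finset.mem_insert, Finset.mem_singleton] at hu
          have hm : u ∈ C := by
            rcases hu with rfl | rfl | rfl
            exacts [C.one_mem, Subgroup.subset_closure (by simp), Subgroup.subset_closure (by simp)]
          simpa using hm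
        have hd4 := Subgroup.card_dvd_of_le ((Subgroup.closure_le W).mpr
          (by simp [Set.insert_subset_iff, hw, hv]) : C ≤ W)
        rw [hW4] at hd4 ⊢
        have := Nat.le_of_dvd (by norm_num) hd4
        interval_cases hc' : Nat.card C <;> omega
      have hle : W ≤ Subgroup.centralizer ({t} : Set G) := hsub ▸ (Subgroup.closure_le _).mpr (by
        rintro u (rfl | rfl)
        · exact Subgroup.mem_centralizer_singleton_iff.mpr (mul_inv_eq_iff_eq_mul.mp hwt).symm
        · exact Subgroup.mem_centralizer_singleton_iff.mpr (mul_inv_eq_iff_eq_mul.mp hvt).symm)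
      rw [← Subgroup.mem_centralizer_singleton_iff.mp (hle hx), mul_inv_cancel_right]
    refine centralizes_of_fixes hW hW4 he3 (hnorm e) hw hw1 ?_
    have h' : t * (e * w * e⁻¹) * t⁻¹ = e * w * e⁻¹ := by
      calc t * (e * w * e⁻¹) * t⁻¹ = (t * e) * w * (e⁻¹ * t⁻¹) := by group
        _ = (e * t) * w * (t⁻¹ * e⁻¹) := by rw [het.eq, ← mul_inv_rev, ← mul_inv_rev, het.eq]
        _ = e * (t * w * t⁻¹) * e⁻¹ := by group
        _ = e * w * e⁻¹ := by rw [hwt]
    rcases hstab _ (hWn.conj_mem w hw e) h' with h | h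
    · exact absurd (conj_eq_one_iff.mp h) hw1
    · exact h
  -- a central element of order three centralizing `W`
  obtain ⟨S, hS⟩ := hd.exists_le_sylow
  have hdS : d ∈ (S : Subgroup G) := hS (Subgroup.mem_zpowers d)
  set CW := Subgroup.centralizer (W : Set G) with hCW
  haveI : CW.Normal := inferInstance
  obtain ⟨u, huW, huS, hu1⟩ : ∃ u, u ∈ CW ∧ u ∈ (S : Subgroup G) ∧ u ≠ 1 := by
    have hpe : IsPGroup 3 (Subgroup.zpowers e) := by
      refine IsPGroup.of_card (n := 1) ?_
      rw [Nat.card_zpowers, pow_one]; exact orderOf_eq_prime he3 he1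
    obtain ⟨T, hT⟩ := hpe.exists_le_sylow
    obtain ⟨h, rfl⟩ := MulAction.exists_smul_eq G S T
    obtain ⟨y, hy, hye⟩ := hT (Subgroup.mem_zpowers e)
    refine ⟨y, ?_, hy, fun e' => he1 ?_⟩
    · have hye' : h * y * h⁻¹ = e := hye
      have := (inferInstance : CW.Normal).conj_mem _ heC h⁻¹
      rw [← hye'] at this
      simpa [mul_assoc] using this
    · have hye' : h * y * h⁻¹ = e := hye
      rw [← hye', e', mul_one, mul_inv_cancel]
  obtain ⟨z, hzN, hzZ, hzo⟩ := CfsgLib.Transfer.exists_mem_center_orderOf_eq S.isPGroup'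
    (Z := CW.subgroupOf (S : Subgroup G)) (fun e' => hu1 (by
      have : (⟨u, huS⟩ : (S : Subgroup G)) ∈ CW.subgroupOf (S : Subgroup G) := huW
      rw [e', Subgroup.mem_bot] at this
      exact congrArg Subtype.val this))
  have hzC : (z : G) ∈ CW := hzN
  have hz3 : (z : G) ^ 3 = 1 := by
    have h := pow_orderOf_eq_one z
    rw [hzo] at h
    simpa using congrArg Subtype.val h
  have hz1 : (z : G) ≠ 1 := fun h => by
    rw [show z = 1 from Subtype.ext h, orderOf_one] at hzo; omega
  have hzd : Commute (z : G) d :=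
    (congrArg Subtype.val (Subgroup.mem_center_iff.mp hzZ ⟨d, hdS⟩)).symm
  have hd3' : d ^ 3 = 1 := hd3 ▸ pow_orderOf_eq_one d
  let A : Subgroup G :=
    { carrier := {a | ∃ i j : ℕ, a = (z : G) ^ i * d ^ j}
      one_mem' := ⟨0, 0, by simp⟩
      mul_mem' := by
        rintro _ _ ⟨i, j, rfl⟩ ⟨i', j', rfl⟩
        exact ⟨i + i', j + j', by
          rw [pow_add, pow_add, mul_assoc, ← mul_assoc (d ^ j), ← (hzd.pow_pow i' j).eq]; group⟩
      inv_mem' := by
        rintro _ ⟨i, j, rfl⟩
        refine ⟨2 * i, 2 * j, inv_eq_of_mul_eq_one_right ?_⟩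
        rw [mul_assoc, ← mul_assoc (d ^ j), ← (hzd.pow_pow _ j).eq, mul_assoc, ← mul_assoc,
          ← pow_add, ← pow_add, show i + 2 * i = 3 * i by ring, show j + 2 * j = 3 * j by ring,
          pow_mul, pow_mul, hz3, hd3', one_pow, one_pow, one_mul] }
  haveI hAc : IsMulCommutative A := ⟨⟨by
    rintro ⟨_, i, j, rfl⟩ ⟨_, i', j', rfl⟩
    exact Subtype.ext ((((Commute.refl (z : G)).pow_pow i i').mul_right (hzd.pow_pow i j')).mul_left
      (((hzd.symm).pow_pow j i').mul_right ((Commute.refl d).pow_pow j j'))).eq⟩⟩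
  have hAexp : ∀ a ∈ A, a ^ 3 = 1 := by
    rintro _ ⟨i, j, rfl⟩
    rw [(hzd.pow_pow i j).mul_pow, ← pow_mul, ← pow_mul, mul_comm i, mul_comm j, pow_mul, pow_mul,
      hz3, hd3', one_pow, one_pow, one_mul]
  have hdC : d ∉ CW := fun h => hW1 (eq_bot_iff.mpr fun x hx => hfpf ▸
    ⟨hx, Subgroup.mem_centralizer_singleton_iff.mpr (Subgroup.mem_centralizer_iff.mp h x hx)⟩)
  have hA9 : 3 ^ 2 ≤ Nat.card A := by
    obtain ⟨k, hk⟩ := IsPGroup.iff_card.mp
      (show IsPGroup 3 A from fun a => ⟨1, Subtype.ext (by simpa using hAexp a a.2)⟩)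
    rw [hk]
    refine Nat.pow_le_pow_right (by norm_num) ?_
    by_contra hk2
    have hle : Subgroup.zpowers (z : G) ≤ A := Subgroup.zpowers_le.mpr ⟨1, 0, by simp⟩
    have heq : Subgroup.zpowers (z : G) = A := Subgroup.eq_of_le_of_card_ge hle (by
      rw [hk, Nat.card_zpowers, orderOf_eq_prime hz3 hz1]
      exact (Nat.pow_le_pow_right (by norm_num) (show k ≤ 1 by omega)).trans_eq (pow_one 3))
    have hdA : d ∈ A := ⟨0, 1, by simp⟩
    rw [← heq] at hdA
    exact hdC (Subgroup.zpowers_le.mpr hzC hdA)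
  -- `A` is faithful on `P`
  have hPz : P ≤ Subgroup.centralizer ({(z : G)} : Set G) := by
    refine CfsgLib.LocalEven.le_of_centralizers_le (p := 3) hAexp hA9 ?_ ?_ ?_
    · rw [Subgroup.normalizer_eq_top_iff.mpr hPn]; exact le_top
    · obtain ⟨k, hk⟩ := IsPGroup.iff_card.mp hP
      rw [hk]; exact fun h => by
        have := Nat.prime_three.dvd_of_dvd_pow h
        norm_num at this
    · intro a ha ha1 x hx
      by_cases haC : a ∈ CW
      · obtain ⟨i, j, rfl⟩ := ha
        have hdj : d ^ j ∈ CW := by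
          have := CW.mul_mem (CW.inv_mem (CW.pow_mem hzC i)) haC
          rwa [inv_mul_cancel_left] at this
        have hj : 3 ∣ j := by
          by_contra hj
          refine hdC ?_
          obtain ⟨k, hk⟩ := exists_pow_eq_self_of_coprime (n := j) (x := d)
            (by rw [hd3]; exact (Nat.prime_three.coprime_iff_not_dvd.mpr hj).symm)
          exact hk ▸ CW.pow_mem hdj k
        obtain ⟨c, rfl⟩ := hj
        rw [pow_mul, hd3', one_pow, mul_one] at hx ha1
        refine Subgroup.mem_centralizer_singleton_iff.mpr ?_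
        have hi : ¬ 3 ∣ i := fun h => ha1 (by obtain ⟨m, rfl⟩ := h; rw [pow_mul, hz3, one_pow])
        obtain ⟨k, hk⟩ := exists_pow_eq_self_of_coprime (n := i) (x := (z : G))
          (by rw [orderOf_eq_prime hz3 hz1]; exact (Nat.prime_three.coprime_iff_not_dvd.mpr hi).symm)
        have hcx : Commute x ((z : G) ^ i) := Subgroup.mem_centralizer_singleton_iff.mp hx.2
        exact (hk ▸ hcx.pow_right k : Commute x (z : G)).eq
      · have hWa : W ⊓ Subgroup.centralizer {a} = ⊥ := by
          rw [eq_bot_iff]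
          intro v hv
          rw [Subgroup.mem_bot]
          by_contra hv1
          refine haC (centralizes_of_fixes hW hW4 (hAexp a ha) (hnorm a) hv.1 hv1 ?_)
          rw [← Subgroup.mem_centralizer_singleton_iff.mp hv.2, mul_inv_cancel_right]
        have hm : x ∈ Q ⊓ Subgroup.centralizer {a} := ⟨Subgroup.mem_sup_left hx.1, hx.2⟩
        rw [hfix a hWa, Subgroup.mem_bot] at hm
        rw [hm]; exact one_mem _
  have hzP : (z : G) ∈ P := hchar (Subgroup.mem_centralizer_iff.mpr fun y hy =>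
    Subgroup.mem_centralizer_singleton_iff.mp (hPz hy))
  obtain ⟨k, hk⟩ := hP ⟨z, hzP⟩
  have hk' : (z : G) ^ 2 ^ k = 1 := by simpa using congrArg Subtype.val hk
  exact hz1 (orderOf_eq_one_iff.mp (Nat.eq_one_of_dvd_coprimes (Nat.Coprime.pow_left k (by norm_num))
    (orderOf_dvd_of_pow_eq_one hk') (orderOf_dvd_of_pow_eq_one hz3)))

end Cfsg.Agent.S3739
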