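import Cfsg.Statements.S3761
import Cfsg.Agent.Lib.TwoGroups.CyclicNormalAbelian
import Cfsg.Agent.Lib.ClassSizes.KulakoffCyclic
import Cfsg.Agent.Lib.PGroups.CyclicIndex
import Cfsg.Agent.Lib.PGroups.Basic

set_option autoImplicit false
open Cfsg

namespace Cfsg.Agent.S3761

open Subgroup

/-- For odd `p`, a residue with `p`-th power one is one modulo `p ^ (n - 1)`. -/
private theorem res_odd {p n k : ℕ} [hp : Fact p.Prime] (hn : 1 ≤ n) (hodd : p ≠ 2)
    (h : k ^ p ≡ 1 [MOD p ^ n]) : k * p ≡ p [MOD p ^ n] := by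
  haveI : NeZero (p ^ n) := ⟨pow_ne_zero _ hp.out.ne_zero⟩
  set v : ZMod (p ^ n) := (k : ZMod (p ^ n))
  have hv : v ^ p = 1 := by
    have := (ZMod.natCast_eq_natCast_iff _ _ _).mpr h
    simpa [v] using this
  have hnear : CfsgLib.TwoGroups.CycNA.Near p n v := by
    rcases CfsgLib.TwoGroups.CycNA.isUnit_or_eq_p_mul hn (v - 1) with hu | ⟨t, ht⟩
    · exfalso
      have hd : p ∣ p ^ n := dvd_pow_self p (by omega)
      have hu' : IsUnit (ZMod.castHom hd (ZMod p) (v - 1)) := hu.map _
      have h1 : ZMod.castHom hd (ZMod p) v ^ p = 1 := by rw [← map_pow, hv, map_one]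
      rw [ZMod.pow_card] at h1
      rw [map_sub, map_one, h1, sub_self] at hu'
      exact not_isUnit_zero hu'
    · exact ⟨t, ht, fun h2 => absurd h2 hodd⟩
  have h2 := hnear.sub_one_mul hv
  rw [← ZMod.natCast_eq_natCast_iff, Nat.cast_mul]
  linear_combination h2

/-- For `p = 2`, a residue with square one is `± 1` modulo `2 ^ (n - 1)`. -/
private theorem res_two {n k : ℕ} (hn : 2 ≤ n) (h : k ^ 2 ≡ 1 [MOD 2 ^ n]) :
    k * 2 ≡ 2 [MOD 2 ^ n] ∨ (k + 1) * 2 ≡ 0 [MOD 2 ^ n] := by
  obtain ⟨j, rfl⟩ : ∃ j, n = j + 2 := ⟨n - 2, by omega⟩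
  have hd : (2 : ℤ) ^ (j + 2) ∣ (k : ℤ) ^ 2 - 1 := by
    have := (Int.natCast_modEq_iff.mpr h).symm.dvd
    push_cast at this
    exact this
  have hodd : Odd (k : ℤ) := by
    rw [← Int.not_even_iff_odd]
    rintro ⟨m, hm⟩
    have h2 : (2 : ℤ) ∣ (k : ℤ) ^ 2 - 1 := (dvd_pow_self 2 (by omega)).trans hd
    rw [hm] at h2
    obtain ⟨c, hc⟩ := h2
    have : (2 : ℤ) ∣ 1 := ⟨2 * m * m - c, by linear_combination -hc⟩
    norm_num at this
  obtain ⟨q, hq | hq⟩ := CfsgLib.PGroups.CyclicIndex.two_roots hd hodd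
  · left
    rw [← Int.natCast_modEq_iff]
    push_cast
    rw [Int.modEq_iff_dvd, hq]
    exact ⟨-q, by ring⟩
  · right
    rw [← Int.natCast_modEq_iff]
    push_cast
    rw [Int.modEq_iff_dvd, hq]
    exact ⟨-q, by ring⟩

variable {G : Type*} [Group G] [Finite G] {p n : ℕ} [hp : Fact p.Prime] {a : G}

/-- A self-centralizing generator: commuting with it means being a power of it. -/
private theorem relindex_data (hord : orderOf a = p ^ n) (hn : 2 ≤ n)
    (hnor : (zpowers a).Normal) (hself : ∀ g : G, g * a = a * g → g ∈ zpowers a) (hG : IsPGroup p G)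
    {g : G} (hg : g ∉ zpowers a) (hgp : g * a ^ p = a ^ p * g) :
    ∃ z w : G, z = a ^ p ^ (n - 1) ∧ w = g * a * g⁻¹ * a⁻¹ ∧ w ≠ 1 ∧ w ∈ zpowers z ∧
      z ∈ center G := by
  obtain ⟨k, hk⟩ := mem_powers_iff_mem_zpowers.mpr (hnor.conj_mem a (mem_zpowers a) g)
  change a ^ k = g * a * g⁻¹ at hk
  set z := a ^ p ^ (n - 1) with hz
  have hzo : orderOf z = p := by
    rw [hz, orderOf_pow' _ (pow_ne_zero _ hp.out.ne_zero), hord,
      Nat.gcd_eq_right (pow_dvd_pow p (by omega)), Nat.pow_div (by omega) hp.out.pos,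
      show n - (n - 1) = 1 by omega, pow_one]
  have hzc : z ∈ center G := by
    haveI : (zpowers z).Normal := by
      refine ⟨fun x hx y => ?_⟩
      obtain ⟨i, rfl⟩ := mem_zpowers_iff.mp hx
      obtain ⟨l, hl⟩ := mem_powers_iff_mem_zpowers.mpr (hnor.conj_mem a (mem_zpowers a) y)
      change a ^ l = y * a * y⁻¹ at hl
      rw [← conj_zpow, hz, ← conj_pow, ← hl, ← pow_mul, mul_comm, pow_mul]
      exact zpow_mem (pow_mem (mem_zpowers _) l) i
    have hne : zpowers z ≠ ⊥ := by
      rw [zpowers_ne_bot]; intro h; rw [h, orderOf_one] at hzo; exact hp.out.ne_one hzo.symm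
    haveI : Fact (Nat.card (zpowers z)).Prime := ⟨by rw [Nat.card_zpowers, hzo]; exact hp.out⟩
    rcases (inf_le_left : zpowers z ⊓ center G ≤ _).lt_or_eq with h | h
    · exfalso
      have hd := Subgroup.card_dvd_of_le (inf_le_left : zpowers z ⊓ center G ≤ zpowers z)
      rcases (Nat.dvd_prime (Fact.out : (Nat.card (zpowers z)).Prime)).mp hd with h1 | h1
      · exact CfsgLib.PGroups.inf_center_ne_bot hG hne (Subgroup.card_eq_one.mp h1)
      · exact h.ne (Subgroup.eq_of_le_of_card_ge inf_le_left h1.ge)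
    · exact inf_eq_left.mp h (mem_zpowers z)
  refine ⟨z, g * a * g⁻¹ * a⁻¹, rfl, rfl, fun h => hg (hself g ?_), ?_, hzc⟩
  · rwa [mul_inv_eq_one, mul_inv_eq_iff_eq_mul] at h
  · have hca : Commute (g * a * g⁻¹) a⁻¹ := by rw [← hk]; exact ((Commute.refl a).pow_left k).inv_right
    have hwp : (g * a * g⁻¹ * a⁻¹) ^ p = 1 := by
      rw [hca.mul_pow, conj_pow, hgp, mul_inv_cancel_right, inv_pow, mul_inv_cancel]
    have hmem : g * a * g⁻¹ * a⁻¹ ∈ zpowers a :=
      mul_mem (hnor.conj_mem a (mem_zpowers a) g) (inv_mem (mem_zpowers a))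
    obtain ⟨i, hi⟩ := mem_powers_iff_mem_zpowers.mpr hmem
    change a ^ i = _ at hi
    rw [← hi] at hwp ⊢
    rw [← pow_mul] at hwp
    have hd := orderOf_dvd_of_pow_eq_one hwp
    rw [hord, show p ^ n = p ^ (n - 1) * p by rw [← pow_succ, Nat.sub_add_cancel (by omega)]] at hd
    obtain ⟨j, rfl⟩ := Nat.dvd_of_mul_dvd_mul_right hp.out.pos hd
    rw [pow_mul]
    exact pow_mem (mem_zpowers _) j


/-- Let G be a finite non-abelian p-group with a cyclic normal subgroup U of order p^n such that C_G(U) = U. Then either p = 2 and G is dihedral, generalized quaternion or semidihedral of order 2^(n+1); or, writing U₁ for the subgroup generated by the p-th powers of elements of U and M = C_G(U₁), the subgroup U has index p in M and the subgroup Ω₁(M) generated by the elements of M of order dividing p is elementary abelian of order p² and characteristic in G. -/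
theorem result {G : Type*} [Group G] [Finite G] {p : ℕ} [Fact p.Prime] (hG : IsPGroup p G) (hna : ¬ IsMulCommutative G) (U : Subgroup G) [U.Normal] (hU : IsCyclic U) (n : ℕ) (hUn : Nat.card U = p ^ n) (hC : Subgroup.centralizer (U : Set G) = U) : (p = 2 ∧ Nat.card G = 2 ^ (n + 1) ∧ ((∃ m : ℕ, Nonempty (G ≃* DihedralGroup m)) ∨ (∃ m : ℕ, Nonempty (G ≃* QuaternionGroup m)) ∨ Cfsg.IsQuasiDihedral G)) ∨ (U.relIndex (Subgroup.centralizer (Cfsg.powerClosure p 1 U : Set G)) = p ∧ Cfsg.IsElementaryAbelian p (Cfsg.omegaOne p (Subgroup.centralizer (Cfsg.powerClosure p 1 U : Set G))) ∧ Nat.card ↥(Cfsg.omegaOne p (Subgroup.centralizer (Cfsg.powerClosure p 1 U : Set G))) = p ^ 2 ∧ (Cfsg.omegaOne p (Subgroup.centralizer (Cfsg.powerClosure p 1 U : Set G))).Characteristic) := by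
  have hp : p.Prime := Fact.out
  obtain ⟨a, ha⟩ := (Subgroup.isCyclic_iff_exists_zpowers_eq_top U).mp hU
  subst ha
  have hord : orderOf a = p ^ n := by rw [← hUn, Nat.card_zpowers]
  have hnor : (zpowers a).Normal := inferInstance
  have hself : ∀ g : G, g * a = a * g → g ∈ zpowers a := fun g hg => by
    rw [← hC, mem_centralizer_iff]
    intro x hx
    obtain ⟨k, rfl⟩ := mem_zpowers_iff.mp hx
    exact ((Commute.zpow_right (hg : Commute g a) k)).eq.symm
  have hUne : ∃ g, g ∉ zpowers a := by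
    by_contra h
    push Not at h
    exact hna ⟨⟨fun x y => by
      obtain ⟨i, rfl⟩ := mem_zpowers_iff.mp (h x)
      obtain ⟨j, rfl⟩ := mem_zpowers_iff.mp (h y)
      exact zpow_mul_comm a i j⟩⟩
  -- conjugation is given by exponents
  have hact : ∀ g : G, ∃ k : ℕ, g * a * g⁻¹ = a ^ k := fun g => by
    obtain ⟨k, hk⟩ := mem_powers_iff_mem_zpowers.mpr (hnor.conj_mem a (mem_zpowers a) g)
    exact ⟨k, hk.symm⟩
  have hmod : ∀ x y : ℕ, a ^ x = a ^ y ↔ x ≡ y [MOD p ^ n] := fun x y => by
    rw [pow_eq_pow_iff_modEq, hord]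
  have hn2 : 2 ≤ n := by
    by_contra hlt
    obtain ⟨g, hg⟩ := hUne
    obtain ⟨k, hk⟩ := hact g
    refine hg (hself g ?_)
    rcases Nat.eq_zero_or_pos n with rfl | hn0
    · rw [pow_zero, orderOf_eq_one_iff] at hord; rw [hord, mul_one, one_mul]
    · obtain rfl : n = 1 := by omega
      have hc : zpowers a ≤ center G := by
        have hne : zpowers a ≠ ⊥ := zpowers_ne_bot.mpr fun h => by
          rw [h, orderOf_one, pow_one] at hord; exact hp.ne_one hord.symm
        have hd := Subgroup.card_dvd_of_le (inf_le_left : zpowers a ⊓ center G ≤ zpowers a)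
        rw [Nat.card_zpowers, hord, pow_one] at hd
        rcases (Nat.dvd_prime hp).mp hd with h1 | h1
        · exact absurd (Subgroup.card_eq_one.mp h1) (CfsgLib.PGroups.inf_center_ne_bot hG hne)
        · exact inf_eq_left.mp (Subgroup.eq_of_le_of_card_ge inf_le_left
            (by rw [Nat.card_zpowers, hord, pow_one, h1]))
      exact (mem_center_iff.mp (hc (mem_zpowers a)) g)
  set M := centralizer (Cfsg.powerClosure p 1 (zpowers a) : Set G) with hM
  have hMiff : ∀ g, g ∈ M ↔ g * a ^ p = a ^ p * g := by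
    intro g
    constructor
    · intro h
      exact ((mem_centralizer_iff.mp h) (a ^ p)
        (subset_closure ⟨a, mem_zpowers a, by rw [pow_one]⟩)).symm
    · intro h
      have hle : Cfsg.powerClosure p 1 (zpowers a) ≤ centralizer {g} := by
        refine (closure_le _).mpr ?_
        rintro _ ⟨x, hx, rfl⟩
        obtain ⟨i, rfl⟩ := mem_zpowers_iff.mp hx
        rw [pow_one, ← zpow_natCast, ← zpow_mul, mul_comm, zpow_mul, zpow_natCast]
        exact mem_centralizer_singleton_iff.mpr ((Commute.zpow_right (h : Commute g (a ^ p)) i).eq.symm)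
      exact mem_centralizer_iff.mpr fun x hx => mem_centralizer_singleton_iff.mp (hle hx)
  have hUM : zpowers a ≤ M := fun x hx => (hMiff x).mpr (by
    obtain ⟨i, rfl⟩ := mem_zpowers_iff.mp hx
    exact ((Commute.refl a).zpow_left i).pow_right p |>.eq)
  by_cases hsplit : (∃ g ∈ M, g ∉ zpowers a) ∧ (p = 2 → 3 ≤ n)
  · right
    obtain ⟨⟨g, hgM, hg⟩, hp2n⟩ := hsplit
    obtain ⟨z, w, hz, hw, hw1, hwz, hzc⟩ :=
      relindex_data hord hn2 hnor hself hG hg ((hMiff g).mp hgM)
    have hzo : orderOf z = p := by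
      rw [hz, orderOf_pow' _ (pow_ne_zero _ hp.ne_zero), hord,
        Nat.gcd_eq_right (pow_dvd_pow p (by omega)), Nat.pow_div (by omega) hp.pos,
        show n - (n - 1) = 1 by omega, pow_one]
    have hwc : w ∈ center G := (zpowers_le.mpr hzc) hwz
    have hwp : w ^ p = 1 := by
      have h := Subgroup.orderOf_dvd_natCard _ hwz
      rw [Nat.card_zpowers, hzo] at h
      exact orderOf_dvd_iff_pow_eq_one.mp h
    have hwo : orderOf w = p := orderOf_eq_prime hwp hw1
    -- the homomorphism `x ↦ x a x⁻¹ a⁻¹` on `M`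
    let ω : M →* zpowers z :=
      { toFun := fun x => ⟨x.1 * a * x.1⁻¹ * a⁻¹, by
          by_cases hx : (x : G) ∈ zpowers a
          · obtain ⟨i, hi⟩ := mem_zpowers_iff.mp hx
            rw [← hi, ((Commute.refl a).zpow_left i).eq, mul_inv_cancel_right, mul_inv_cancel]
            exact one_mem _
          · obtain ⟨z', w', hz', hw', -, hwz', -⟩ :=
              relindex_data hord hn2 hnor hself hG hx ((hMiff x).mp x.2)
            rw [← hw', hz, ← hz']; exact hwz'⟩
        map_one' := by simp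
        map_mul' := fun x y => Subtype.ext (by
          have hyc : y.1 * a * y.1⁻¹ * a⁻¹ ∈ center G := by
            by_cases hy : (y : G) ∈ zpowers a
            · obtain ⟨i, hi⟩ := mem_zpowers_iff.mp hy
              rw [← hi, ((Commute.refl a).zpow_left i).eq, mul_inv_cancel_right, mul_inv_cancel]
              exact one_mem _
            · obtain ⟨z', w', hz', hw', -, hwz', hzc'⟩ :=
                relindex_data hord hn2 hnor hself hG hy ((hMiff y).mp y.2)
              rw [← hw']; exact (zpowers_le.mpr hzc') hwz'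
          change x.1 * y.1 * a * (x.1 * y.1)⁻¹ * a⁻¹ =
            (x.1 * a * x.1⁻¹ * a⁻¹) * (y.1 * a * y.1⁻¹ * a⁻¹)
          calc x.1 * y.1 * a * (x.1 * y.1)⁻¹ * a⁻¹
              = (x.1 * (y.1 * a * y.1⁻¹ * a⁻¹)) * a * x.1⁻¹ * a⁻¹ := by group
            _ = ((y.1 * a * y.1⁻¹ * a⁻¹) * x.1) * a * x.1⁻¹ * a⁻¹ := by
                rw [Subgroup.mem_center_iff.mp hyc x.1]
            _ = (y.1 * a * y.1⁻¹ * a⁻¹) * (x.1 * a * x.1⁻¹ * a⁻¹) := by group
            _ = _ := (Subgroup.mem_center_iff.mp hyc _).symm) }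
    have hker : ω.ker = (zpowers a).subgroupOf M := by
      ext x
      rw [MonoidHom.mem_ker, Subgroup.mem_subgroupOf, Subtype.ext_iff]
      change x.1 * a * x.1⁻¹ * a⁻¹ = 1 ↔ _
      rw [mul_inv_eq_one, mul_inv_eq_iff_eq_mul]
      refine ⟨hself x.1, fun h => ?_⟩
      obtain ⟨i, hi⟩ := mem_zpowers_iff.mp h
      rw [← hi]; exact ((Commute.refl a).zpow_left i).eq
    have hrel : (zpowers a).relIndex M = p := by
      have hd : (zpowers a).relIndex M ∣ p := by
        change ((zpowers a).subgroupOf M).index ∣ p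
        rw [← hker, Subgroup.index_ker, ← hzo, ← Nat.card_zpowers z]
        exact Subgroup.card_subgroup_dvd_card _
      rcases (Nat.dvd_prime hp).mp hd with h | h
      · exact absurd (Subgroup.relIndex_eq_one.mp h hgM) hg
      · exact h
    -- find `b` of order `p` outside
    have hgpow : g ^ p ∈ zpowers a := by
      have h : (⟨g, hgM⟩ : M) ^ p ∈ (zpowers a).subgroupOf M := by
        rw [← hker, MonoidHom.mem_ker, map_pow]
        refine Subtype.ext ?_
        change (g * a * g⁻¹ * a⁻¹) ^ p = 1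
        rw [← hw]; exact hwp
      simpa [Subgroup.mem_subgroupOf] using h
    obtain ⟨i, hi⟩ := mem_powers_iff_mem_zpowers.mpr hgpow
    change a ^ i = g ^ p at hi
    have hga : g * a = a * g * w := by
      rw [mul_assoc, (mem_center_iff.mp hwc g), ← mul_assoc, (mem_center_iff.mp hwc a), hw]; group
    have hpi : p ∣ i := by
      have h2 := CfsgLib.ClassSizes.Kulakoff.swap_pow_pow hwc hga i 1
      rw [pow_one, mul_one] at h2
      rw [hi, ((Commute.refl g).pow_right p).eq] at h2
      rw [← hwo]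
      exact orderOf_dvd_of_pow_eq_one (mul_eq_left.mp h2.symm)
    obtain ⟨t, rfl⟩ := hpi
    -- the exponent `p * s + e s`
    obtain ⟨c, hwc'⟩ := mem_powers_iff_mem_zpowers.mpr hwz
    change z ^ c = w at hwc'
    have hwa : w = a ^ (p * (p ^ (n - 2) * c)) := by
      rw [← hwc', hz, ← pow_mul, ← mul_assoc, ← pow_succ', show n - 2 + 1 = n - 1 by omega]
    set u := p * (p ^ (n - 2) * c) with hu
    -- `(a ^ s * g) ^ p`
    have hform : ∀ s : ℕ, (a ^ s * g) ^ p = a ^ (p * (s * (1 + p ^ (n - 2) * c * p.choose 2)) + p * t) := by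
      intro s
      have h := CfsgLib.ClassSizes.Kulakoff.swap_pow_pow hwc hga s 1
      rw [pow_one, mul_one] at h
      rw [CfsgLib.ClassSizes.Kulakoff.mul_pow_central (pow_mem hwc s) h p, ← hi, hwa, ← pow_mul, ← pow_mul,
        ← pow_mul, ← pow_add, ← pow_add, hu]
      congr 1
      ring
    obtain ⟨s, hs⟩ : ∃ s : ℕ, (a ^ s * g) ^ p = 1 := by
      set e := 1 + p ^ (n - 2) * c * p.choose 2 with he
      have heco : ¬ p ∣ e := by
        have hdvd : p ∣ p ^ (n - 2) * c * p.choose 2 := by
          rcases hp.eq_two_or_odd' with h2 | hodd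
          · obtain ⟨m, hm⟩ : ∃ m, n - 2 = m + 1 := ⟨n - 3, by have := hp2n h2; omega⟩
            rw [hm]; exact ((dvd_pow_self p (by omega)).mul_right _).mul_right _
          · exact (hp.dvd_choose_self (by norm_num) (by
              rcases hodd with ⟨k, hk⟩; have := hp.two_le; omega)).mul_left _
        rw [he, Nat.dvd_add_left hdvd]
        exact hp.not_dvd_one
      have hco : Nat.Coprime e (p ^ n) := ((hp.coprime_iff_not_dvd).mpr heco).symm.pow_right n
      haveI : NeZero (p ^ n) := ⟨pow_ne_zero _ hp.ne_zero⟩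
      refine ⟨(-(t : ZMod (p ^ n)) * (e : ZMod (p ^ n))⁻¹).val, ?_⟩
      rw [hform, pow_eq_one_iff_modEq, hord, ← ZMod.natCast_eq_natCast_iff]
      push_cast
      rw [ZMod.natCast_zmod_val]
      have := ZMod.coe_mul_inv_eq_one e hco
      have he' : (e : ZMod (p ^ n)) = 1 + (p : ZMod (p ^ n)) ^ (n - 2) * (c : ZMod (p ^ n)) * ((p.choose 2 : ℕ) : ZMod (p ^ n)) := by
        rw [he]; push_cast; ring
      linear_combination (-(p : ZMod (p ^ n)) * (t : ZMod (p ^ n))) * this
    set b := a ^ s * g with hb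
    have hbM : b ∈ M := mul_mem (hUM (pow_mem (mem_zpowers a) s)) hgM
    have hbU : b ∉ zpowers a := fun h => hg ((Subgroup.mul_mem_cancel_left _ (pow_mem (mem_zpowers a) s)).mp h)
    -- `Ω₁(M)` is the unique normal elementary abelian subgroup of order `p ^ 2`
    let E : Subgroup G := closure {z, b}
    have hbz : Commute b z := mem_center_iff.mp hzc b
    have hEab : IsMulCommutative E := isMulCommutative_closure (by
      rintro x (rfl | rfl) y (rfl | rfl)
      exacts [rfl, hbz.eq.symm, hbz.eq, rfl])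
    have hzp : z ^ p = 1 := by rw [← hzo]; exact pow_orderOf_eq_one z
    have hEexp : ∀ x ∈ E, x ^ p = 1 := by
      intro x hx
      induction hx using Subgroup.closure_induction with
      | mem x hx =>
        rcases hx with rfl | rfl
        · exact hzp
        · exact hs
      | one => exact one_pow p
      | mul x y hx hy ihx ihy =>
        have h : Commute x y := congrArg Subtype.val (hEab.is_comm.comm (⟨x, hx⟩ : E) ⟨y, hy⟩)
        rw [h.mul_pow, ihx, ihy, one_mul]
      | inv x _ ih => rw [inv_pow, ih, inv_one]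
    have hzE : z ∈ E := subset_closure (Or.inl rfl)
    have hbE : b ∈ E := subset_closure (Or.inr rfl)
    -- every element of exponent `p` of `M` lies in `E`
    have hall : ∀ x ∈ M, x ^ p = 1 → x ∈ E := by
      intro x hx hxp
      obtain ⟨z', w', hz', hw', hw'1, hw'z, -⟩ :=
        relindex_data hord hn2 hnor hself hG hbU ((hMiff b).mp hbM)
      have hgen : zpowers z ≤ zpowers w' := by
        have he : zpowers w' = zpowers z := by
          refine eq_of_le_of_card_ge (zpowers_le.mpr (by rw [hz, ← hz']; exact hw'z)) ?_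
          rw [Nat.card_zpowers, Nat.card_zpowers, hzo]
          have hd := Subgroup.orderOf_dvd_natCard _ hw'z
          rw [Nat.card_zpowers, hz', ← hz, hzo] at hd
          rcases (Nat.dvd_prime hp).mp hd with h | h
          · exact absurd (orderOf_eq_one_iff.mp h) hw'1
          · exact h.ge
        exact he.ge
      obtain ⟨j, hj⟩ := mem_zpowers_iff.mp (hgen (ω ⟨x, hx⟩).2)
      have hbω : ((ω ⟨b, hbM⟩ : zpowers z) : G) = w' := hw'.symm
      have hxU : x * (b ^ j)⁻¹ ∈ zpowers a := by
        have h : (⟨x, hx⟩ : M) * ((⟨b, hbM⟩ : M) ^ j)⁻¹ ∈ ω.ker := by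
          rw [MonoidHom.mem_ker, map_mul, map_inv, map_zpow, mul_inv_eq_one]
          exact Subtype.ext (by rw [SubgroupClass.coe_zpow, hbω, hj])
        rw [hker, Subgroup.mem_subgroupOf] at h
        simpa using h
      -- `x = y * b ^ j`
      obtain ⟨m, hm⟩ := mem_powers_iff_mem_zpowers.mpr hxU
      change a ^ m = x * (b ^ j)⁻¹ at hm
      have hxe : x = a ^ m * b ^ j := by rw [hm, inv_mul_cancel_right]
      suffices hdm : p ^ (n - 1) ∣ m by
        obtain ⟨m', rfl⟩ := hdm
        rw [hxe, pow_mul, ← hz]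
        exact mul_mem (pow_mem hzE m') (zpow_mem hbE j)
      -- compute the `p`-th power
      obtain ⟨jj, hjj⟩ : ∃ jj : ℕ, b ^ j = b ^ jj := by
        obtain ⟨jj, hjj⟩ := mem_powers_iff_mem_zpowers.mpr (zpow_mem (mem_zpowers b) j)
        exact ⟨jj, hjj.symm⟩
      rw [hxe, hjj] at hxp
      have hba : b * a = a * b * w' := by
        have hw'c : w' ∈ center G := (zpowers_le.mpr (hz'.symm ▸ hz ▸ hzc)) hw'z
        rw [mul_assoc a b w', mem_center_iff.mp hw'c b, ← mul_assoc, mem_center_iff.mp hw'c a, hw']; group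
      have hw'c : w' ∈ center G := (zpowers_le.mpr (hz'.symm ▸ hz ▸ hzc)) hw'z
      have h2 := CfsgLib.ClassSizes.Kulakoff.swap_pow_pow hw'c hba m jj
      rw [CfsgLib.ClassSizes.Kulakoff.mul_pow_central (pow_mem hw'c (m * jj)) h2 p] at hxp
      have hbp : (b ^ jj) ^ p = 1 := by rw [← pow_mul, mul_comm, pow_mul, hs, one_pow]
      rw [hbp, mul_one, ← pow_mul, ← pow_mul] at hxp
      -- express `w'` as a power of `a`
      obtain ⟨c', hc'⟩ := mem_powers_iff_mem_zpowers.mpr (hz' ▸ hw'z : w' ∈ zpowers (a ^ p ^ (n - 1)))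
      change (a ^ p ^ (n - 1)) ^ c' = w' at hc'
      rw [← hc', ← pow_mul, ← pow_mul, ← pow_add] at hxp
      have hd := orderOf_dvd_of_pow_eq_one hxp
      rw [hord, show p ^ n = p * p ^ (n - 1) by rw [← pow_succ', Nat.sub_add_cancel (by omega)],
        show m * p + p ^ (n - 1) * (c' * (m * jj * p.choose 2)) =
          p * (m * (1 + p ^ (n - 2) * c' * jj * p.choose 2)) by
          rw [show n - 1 = (n - 2) + 1 by omega, pow_succ]; ring] at hd
      have hdd := Nat.dvd_of_mul_dvd_mul_left hp.pos hd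
      refine Nat.Coprime.dvd_of_dvd_mul_right ?_ hdd
      refine Nat.Coprime.pow_left _ ((hp.coprime_iff_not_dvd).mpr ?_)
      have hdvd : p ∣ p ^ (n - 2) * c' * jj * p.choose 2 := by
        rcases hp.eq_two_or_odd' with h2 | hodd
        · obtain ⟨m', hm'⟩ : ∃ m', n - 2 = m' + 1 := ⟨n - 3, by have := hp2n h2; omega⟩
          rw [hm']; exact (((dvd_pow_self p (by omega)).mul_right _).mul_right _).mul_right _
        · exact (hp.dvd_choose_self (by norm_num) (by
            rcases hodd with ⟨k, hk⟩; have := hp.two_le; omega)).mul_left _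
      rw [Nat.dvd_add_left hdvd]
      exact hp.not_dvd_one
    have hEM : E ≤ M := (closure_le _).mpr (by
      rintro x (rfl | rfl)
      · exact hUM (hz ▸ pow_mem (mem_zpowers a) _)
      · exact hbM)
    have hΩ : Cfsg.omegaOne p M = E :=
      le_antisymm ((closure_le _).mpr fun x hx => hall x hx.1 hx.2)
        (fun x hx => subset_closure ⟨hEM hx, hEexp x hx⟩)
    have hEcard : Nat.card E = p ^ 2 := by
      let ψ : zpowers z × zpowers b → E := fun q =>
        ⟨q.1 * q.2, mul_mem (zpowers_le.mpr hzE q.1.2) (zpowers_le.mpr hbE q.2.2)⟩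
      have hbo : orderOf b = p := orderOf_eq_prime hs (fun h => hbU (h ▸ one_mem _))
      have hψ : Function.Bijective ψ := by
        constructor
        · intro q q' h
          refine Prod.ext_iff.mp (Subgroup.mul_injective_of_disjoint ?_ (congrArg Subtype.val h)) |>.elim
            (fun h1 h2 => Prod.ext h1 h2)
          rw [disjoint_iff, eq_bot_iff]
          rintro x ⟨hxz, hxb⟩
          by_contra hx1
          have hx1 : x ≠ 1 := fun e => hx1 (Subgroup.mem_bot.mpr e)
          have hd : orderOf x ∣ p := hbo ▸ orderOf_dvd_of_mem_zpowers hxb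
          rcases (Nat.dvd_prime hp).mp hd with e | e
          · exact hx1 (orderOf_eq_one_iff.mp e)
          · have heq : zpowers x = zpowers b := eq_of_le_of_card_ge (zpowers_le.mpr hxb)
              (by rw [Nat.card_zpowers, Nat.card_zpowers, e, hbo])
            exact hbU (zpowers_le.mpr (hz ▸ pow_mem (mem_zpowers a) _ : z ∈ zpowers a)
              ((zpowers_le.mpr hxz) (heq.symm ▸ mem_zpowers b)))
        · rintro ⟨x, hx⟩
          have hx' : x ∈ zpowers z ⊔ zpowers b := by
            refine (closure_le _).mpr ?_ hx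
            rintro y (rfl | rfl)
            exacts [mem_sup_left (mem_zpowers _), mem_sup_right (mem_zpowers _)]
          haveI : (zpowers z).Normal := ⟨fun y hy g' => by
            rw [mem_center_iff.mp (zpowers_le.mpr hzc hy) g', mul_inv_cancel_right]; exact hy⟩
          obtain ⟨y, hy, y', hy', rfl⟩ := Subgroup.mem_sup_of_normal_left.mp hx'
          exact ⟨(⟨y, hy⟩, ⟨y', hy'⟩), rfl⟩
      rw [← Nat.card_congr (Equiv.ofBijective ψ hψ), Nat.card_prod, Nat.card_zpowers, Nat.card_zpowers,
        hzo, hbo, pow_two]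
    refine ⟨hrel, ?_⟩
    rw [hΩ]
    refine ⟨⟨hEab, hEexp⟩, hEcard, ?_⟩
    -- `E` is the only normal elementary abelian subgroup of order `p ^ 2`
    haveI hMn : M.Normal := by
      haveI : (Cfsg.powerClosure p 1 (zpowers a)).Normal := by
        refine ⟨fun x hx g' => ?_⟩
        induction hx using Subgroup.closure_induction with
        | mem x hx =>
          obtain ⟨y, hy, rfl⟩ := hx
          exact subset_closure ⟨g' * y * g'⁻¹, hnor.conj_mem y hy g', conj_pow.symm⟩
        | one => simp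
        | mul x y _ _ ihx ihy => rw [← conj_mul]; exact mul_mem ihx ihy
        | inv x _ ih => rw [← conj_inv]; exact inv_mem ih
      exact Subgroup.normal_centralizer
    have hEn : E.Normal := by
      refine ⟨fun x hx g' => hall _ (hMn.conj_mem x (hEM hx) g') (by rw [conj_pow, hEexp x hx]; simp)⟩
    refine Subgroup.characteristic_iff_map_le.mpr fun φ => ?_
    set D := E.map φ.toMonoidHom with hD
    haveI : D.Normal := Subgroup.Normal.map hEn _ φ.surjective
    have hDexp : ∀ x ∈ D, x ^ p = 1 := by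
      rintro _ ⟨x, hx, rfl⟩
      rw [← map_pow, hEexp x hx, map_one]
    have hDcard : Nat.card D = p ^ 2 := by
      rw [hD, Subgroup.card_map_of_injective φ.injective, hEcard]
    have hcyc : ∀ x ∈ D, x ∈ zpowers a → x ∈ zpowers z := by
      intro x hx hxa
      obtain ⟨m, rfl⟩ := mem_powers_iff_mem_zpowers.mpr hxa
      have h := hDexp _ hx
      change (a ^ m) ^ p = 1 at h
      rw [← pow_mul] at h
      have hd := orderOf_dvd_of_pow_eq_one h
      rw [hord, show p ^ n = p ^ (n - 1) * p by rw [← pow_succ, Nat.sub_add_cancel (by omega)]] at hd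
      obtain ⟨j, rfl⟩ := Nat.dvd_of_mul_dvd_mul_right hp.pos hd
      change a ^ (p ^ (n - 1) * j) ∈ zpowers z
      rw [pow_mul, ← hz]
      exact pow_mem (mem_zpowers z) j
    intro e he
    refine hall e ((hMiff e).mpr ?_) (hDexp e he)
    -- `[e, a]` lies in `D ∩ ⟨a⟩`, hence in `⟨z⟩`
    have hc1 : e * a * e⁻¹ * a⁻¹ ∈ zpowers z := by
      refine hcyc _ ?_ (mul_mem (hnor.conj_mem a (mem_zpowers a) e) (inv_mem (mem_zpowers a)))
      rw [show e * a * e⁻¹ * a⁻¹ = e * (a * e⁻¹ * a⁻¹) by group]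
      exact mul_mem he ((inferInstance : D.Normal).conj_mem _ (inv_mem he) a)
    set w2 := e * a * e⁻¹ * a⁻¹ with hw2
    have hw2c : w2 ∈ center G := zpowers_le.mpr hzc hc1
    have hw2p : w2 ^ p = 1 := by
      have h := Subgroup.orderOf_dvd_natCard _ hc1
      rw [Nat.card_zpowers, hzo] at h
      exact orderOf_dvd_iff_pow_eq_one.mp h
    have hconj : e * a * e⁻¹ = w2 * a := by rw [hw2, inv_mul_cancel_right]
    rw [← mul_inv_eq_iff_eq_mul, ← conj_pow, hconj,
      Commute.mul_pow (mem_center_iff.mp hw2c a).symm, hw2p, one_mul]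
  · left
    -- the two-group of maximal class case
    have hkey : ∀ g, g ∉ zpowers a → g ^ p ∈ zpowers a → p = 2 ∧
        ∀ k, g * a * g⁻¹ = a ^ k → (k + 1) * 2 ≡ 0 [MOD 2 ^ n] := by
      intro g hg hgp
      obtain ⟨k, hk⟩ := hact g
      have hpow : ∀ j : ℕ, g ^ j * a * (g ^ j)⁻¹ = a ^ (k ^ j) := by
        intro j
        induction j with
        | zero => simp
        | succ j ih =>
          rw [show g ^ (j + 1) * a * (g ^ (j + 1))⁻¹ = g ^ j * (g * a * g⁻¹) * (g ^ j)⁻¹ by
            rw [pow_succ]; group, hk, ← conj_pow, ih, ← pow_mul, ← pow_succ]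
      have hfix : g ^ p * a * (g ^ p)⁻¹ = a := by
        obtain ⟨i, hi⟩ := mem_zpowers_iff.mp hgp
        rw [← hi, ((Commute.refl a).zpow_left i).eq, mul_inv_cancel_right]
      have hkp : k ^ p ≡ 1 [MOD p ^ n] := by
        rw [← hmod, ← hpow, hfix, pow_one]
      have hinM : (k * p ≡ p [MOD p ^ n]) → g ∈ M := fun h => (hMiff g).mpr (by
        rw [← mul_inv_eq_iff_eq_mul, ← conj_pow, hk, ← pow_mul]
        exact (hmod _ _).mpr h)
      rcases hp.eq_two_or_odd' with h2 | hodd
      · subst h2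
        refine ⟨rfl, fun k' hk' => ?_⟩
        have hkk : k' ≡ k [MOD 2 ^ n] := (hmod _ _).mp (hk'.symm.trans hk)
        refine ((hkk.add_right 1).mul_right 2).trans ?_
        rcases res_two hn2 hkp with h | h
        · have hn3 : n = 2 := by
            by_contra hne
            exact hsplit ⟨⟨g, hinM h, hg⟩, fun _ => by omega⟩
          subst hn3
          -- here `k` is odd and not one modulo four
          by_contra hcon
          have hodd : k % 2 = 1 := by
            rcases Nat.mod_two_eq_zero_or_one k with e | e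
            · exfalso
              obtain ⟨m, rfl⟩ := Nat.dvd_of_mod_eq_zero e
              have : (2 * m) ^ 2 % 4 = 1 % 4 := hkp
              rw [mul_pow] at this
              omega
            · exact e
          exact hcon (show ((k + 1) * 2) % 4 = 0 % 4 by omega)
        · exact h
      · exfalso
        have hp2 : p ≠ 2 := fun h => by subst h; exact absurd hodd (by decide)
        exact hsplit ⟨⟨g, hinM (res_odd (by omega) hp2 hkp), hg⟩, fun h => absurd h hp2⟩
    obtain ⟨g₀, hg₀, hg₀p⟩ : ∃ g, g ∉ zpowers a ∧ g ^ p ∈ zpowers a := by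
      obtain ⟨g, hg⟩ := hUne
      obtain ⟨m, hm⟩ := hG g
      classical
      have hex : ∃ j, g ^ p ^ j ∈ zpowers a := ⟨m, hm ▸ one_mem _⟩
      have hj0 : Nat.find hex ≠ 0 := fun h => hg (by simpa [h] using Nat.find_spec hex)
      refine ⟨g ^ p ^ (Nat.find hex - 1), Nat.find_min hex (by omega), ?_⟩
      rw [← pow_mul, ← pow_succ, Nat.sub_add_cancel (Nat.pos_of_ne_zero hj0)]
      exact Nat.find_spec hex
    obtain ⟨rfl, hk₀⟩ := hkey g₀ hg₀ hg₀p
    have h4 : 4 ∣ 2 ^ n := by
      rw [show (4 : ℕ) = 2 ^ 2 from rfl]; exact pow_dvd_pow 2 hn2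
    -- squares lie in `⟨a⟩`
    have hn3cases : ∀ g, g ^ 2 ∈ zpowers a := by
      intro g
      by_contra hg2
      obtain ⟨m, hm⟩ := hG g
      classical
      have hex : ∃ j, g ^ 2 ^ j ∈ zpowers a := ⟨m, hm ▸ one_mem _⟩
      have hj0 : Nat.find hex ≠ 0 := fun h => hg2 (pow_mem (by simpa [h] using Nat.find_spec hex) 2)
      have hj1 : Nat.find hex ≠ 1 := fun h => hg2 (by simpa [h] using Nat.find_spec hex)
      set u := g ^ 2 ^ (Nat.find hex - 2) with hu
      have hhU : u ^ 2 ∉ zpowers a := by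
        rw [hu, ← pow_mul, ← pow_succ, show Nat.find hex - 2 + 1 = Nat.find hex - 1 by omega]
        exact Nat.find_min hex (by omega)
      have hh2 : (u ^ 2) ^ 2 ∈ zpowers a := by
        rw [hu, ← pow_mul, ← pow_mul, ← mul_assoc, ← pow_succ, ← pow_succ,
          show Nat.find hex - 2 + 1 + 1 = Nat.find hex by omega]
        exact Nat.find_spec hex
      obtain ⟨-, hk⟩ := hkey (u ^ 2) hhU hh2
      obtain ⟨l, hl⟩ := hact u
      have hl2 : u ^ 2 * a * (u ^ 2)⁻¹ = a ^ (l * l) := by
        rw [show u ^ 2 * a * (u ^ 2)⁻¹ = u * (u * a * u⁻¹) * u⁻¹ by rw [pow_two]; group, hl,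
          ← conj_pow, hl, ← pow_mul]
      have h := hk (l * l) hl2
      have h' : ((l * l + 1) * 2) % 4 = 0 % 4 := Nat.ModEq.of_dvd h4 h
      rcases Nat.mod_two_eq_zero_or_one l with e | e
      · -- conjugation by `u` fixes no proper power
        obtain ⟨d, rfl⟩ := Nat.dvd_of_mod_eq_zero e
        have : u * a ^ 2 ^ (n - 1) * u⁻¹ = 1 := by
          rw [← conj_pow, hl, ← pow_mul, show 2 * d * 2 ^ (n - 1) = 2 ^ (n - 1 + 1) * d by rw [pow_succ]; ring,
            Nat.sub_add_cancel (by omega), pow_mul, ← hord, pow_orderOf_eq_one, one_pow]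
        have hz1 : a ^ 2 ^ (n - 1) = 1 := by simpa using this
        have hd := Nat.le_of_dvd (by positivity) (orderOf_dvd_of_pow_eq_one hz1)
        rw [hord] at hd
        have : 2 ^ (n - 1) < 2 ^ n := Nat.pow_lt_pow_right one_lt_two (by omega)
        omega
      · by_cases hn3 : n = 2
        · subst hn3
          have hall : a ^ (l * l) = a := by
            conv_rhs => rw [← pow_one a]
            rw [hmod]
            have : (l * l) % 2 = 1 := by rw [Nat.mul_mod, e]
            rcases (show l % 4 = 1 ∨ l % 4 = 3 by omega) with e4 | e4 <;>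
              · change (l * l) % 4 = 1 % 4
                rw [Nat.mul_mod, e4]
          rw [hall, mul_inv_eq_iff_eq_mul] at hl2
          exact hhU (hself _ hl2)
        · -- `l * l ≡ -1` modulo four
          have h8 : 8 ∣ 2 ^ n := by
            rw [show (8 : ℕ) = 2 ^ 3 from rfl]; exact pow_dvd_pow 2 (by omega)
          have h'' : ((l * l + 1) * 2) % 8 = 0 % 8 := Nat.ModEq.of_dvd h8 h
          have : (l * l) % 4 = 1 := by
            rcases (show l % 4 = 1 ∨ l % 4 = 3 by omega) with e4 | e4 <;> rw [Nat.mul_mod, e4]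
          omega
    -- index two
    have hidx : (zpowers a).index = 2 := by
      refine Subgroup.index_eq_two_iff.mpr ⟨g₀, fun g => ?_⟩
      by_cases hg : g ∈ zpowers a
      · exact Or.inr ⟨hg, fun h => hg₀ ((Subgroup.mul_mem_cancel_left _ hg).mp h)⟩
      · refine Or.inl ⟨?_, hg⟩
        by_contra hgg
        obtain ⟨k, hk⟩ := hact g
        obtain ⟨k', hk'⟩ := hact g₀
        have hmul : g * g₀ * a * (g * g₀)⁻¹ = a ^ (k * k') := by
          rw [show g * g₀ * a * (g * g₀)⁻¹ = g * (g₀ * a * g₀⁻¹) * g⁻¹ by group, hk', ← conj_pow, hk,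
            ← pow_mul]
        have h1 := (hkey g hg (hn3cases g)).2 k hk
        have h2 := hk₀ k' hk'
        have h3 := (hkey _ hgg (hn3cases _)).2 _ hmul
        rcases Nat.lt_or_ge n 3 with hn3 | hn3
        · obtain rfl : n = 2 := by omega
          have hfix : ∀ (x : G) (i : ℕ), x ∉ zpowers a → x * a * x⁻¹ = a ^ i → i % 4 ≠ 1 := by
            intro x i hx hi e
            refine hx (hself x (mul_inv_eq_iff_eq_mul.mp ?_))
            rw [hi]; conv_rhs => rw [← pow_one a]
            exact (hmod _ _).mpr e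
          have e1 := hfix g k hg hk
          have e2 := hfix g₀ k' hg₀ hk'
          have e3 := hfix _ _ hgg hmul
          rw [Nat.mul_mod] at e3
          have h1' : ((k + 1) * 2) % 4 = 0 % 4 := h1
          have h2' : ((k' + 1) * 2) % 4 = 0 % 4 := h2
          rcases (show k % 4 = 3 by omega) with e4
          rcases (show k' % 4 = 3 by omega) with e4'
          rw [e4, e4'] at e3
          exact e3 rfl
        · have h8 : 8 ∣ 2 ^ n := by
            rw [show (8 : ℕ) = 2 ^ 3 from rfl]; exact pow_dvd_pow 2 hn3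
          have h1' : ((k + 1) * 2) % 8 = 0 % 8 := Nat.ModEq.of_dvd h8 h1
          have h2' : ((k' + 1) * 2) % 8 = 0 % 8 := Nat.ModEq.of_dvd h8 h2
          have h3' : ((k * k' + 1) * 2) % 8 = 0 % 8 := Nat.ModEq.of_dvd h8 h3
          have e4 : k % 4 = 3 := by omega
          have e4' : k' % 4 = 3 := by omega
          have e5 : (k * k') % 4 = 1 := by rw [Nat.mul_mod, e4, e4']
          omega
    have hcard : Nat.card G = 2 ^ (n + 1) := by
      rw [← (zpowers a).card_mul_index, hidx, hUn, pow_succ]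
    refine ⟨rfl, hcard, ?_⟩
    -- normal form
    obtain ⟨k, hk⟩ := hact g₀
    set h := a ^ 2 ^ (n - 1) with hh
    have hh2 : h * h = 1 := by
      rw [hh, ← pow_add, ← two_mul, ← pow_succ', Nat.sub_add_cancel (by omega), ← hord, pow_orderOf_eq_one]
    have hpe : 2 ^ n = 2 * 2 ^ (n - 1) := by rw [← pow_succ', Nat.sub_add_cancel (by omega)]
    obtain ⟨q, hq⟩ : ∃ q, k + 1 = 2 ^ (n - 1) * q := by
      have h' := Nat.modEq_zero_iff_dvd.mp (hk₀ k hk)
      rw [hpe, mul_comm (k + 1) 2] at h'
      exact Nat.dvd_of_mul_dvd_mul_left two_pos h'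
    have hconj : g₀ * a * g₀⁻¹ = a⁻¹ ∨ (3 ≤ n ∧ g₀ * a * g₀⁻¹ = h * a⁻¹) := by
      rcases Nat.even_or_odd q with ⟨r, rfl⟩ | ⟨r, rfl⟩
      · left
        rw [hk]; refine eq_inv_of_mul_eq_one_left ?_
        rw [← pow_succ, hq, pow_mul, ← hh, pow_add, ← Commute.mul_pow (Commute.refl h), hh2, one_pow]
      · have hh' : g₀ * a * g₀⁻¹ = h * a⁻¹ := by
          rw [hk, eq_mul_inv_iff_mul_eq, ← pow_succ, hq, pow_mul, ← hh, pow_succ, pow_mul, pow_two, hh2,
            one_pow, one_mul]
        rcases Nat.lt_or_ge n 3 with hn3 | hn3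
        · exfalso
          obtain rfl : n = 2 := by omega
          refine hg₀ (hself g₀ (mul_inv_eq_iff_eq_mul.mp ?_))
          rw [hh', hh, mul_inv_eq_iff_eq_mul, show 2 ^ (2 - 1) = 2 from rfl, pow_two]
        · exact Or.inr ⟨hn3, hh'⟩
    have hg2 : g₀ ^ 2 = 1 ∨ g₀ ^ 2 = h := by
      obtain ⟨i, hi⟩ := mem_powers_iff_mem_zpowers.mpr hg₀p
      change a ^ i = g₀ ^ 2 at hi
      have hfix : g₀ * a ^ i * g₀⁻¹ = a ^ i := by rw [hi]; group
      rw [← conj_pow] at hfix
      have hd : 2 ^ (n - 1) ∣ i := by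
        rcases hconj with e | ⟨hn3, e⟩ <;> rw [e] at hfix
        · rw [inv_pow, inv_eq_iff_mul_eq_one, ← pow_add, ← two_mul] at hfix
          have := orderOf_dvd_of_pow_eq_one hfix
          rw [hord, hpe] at this
          exact Nat.dvd_of_mul_dvd_mul_left two_pos this
        · have hha : Commute h a⁻¹ := ((Commute.refl a).pow_left _).inv_right
          rw [hha.mul_pow, inv_pow, mul_inv_eq_iff_eq_mul, hh, ← pow_mul, ← pow_add, hmod] at hfix
          have h8 : (2 : ℕ) ^ (n - 1) ∣ 2 ^ n := pow_dvd_pow 2 (by omega)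
          have hz0 : i + i ≡ 0 [MOD 2 ^ (n - 1)] :=
            (hfix.of_dvd h8).symm.trans (Nat.modEq_zero_iff_dvd.mpr (Dvd.intro i rfl))
          have hev : 2 ∣ i := by
            rw [← two_mul, Nat.modEq_zero_iff_dvd, show n - 1 = (n - 2) + 1 by omega, pow_succ'] at hz0
            exact ((dvd_pow_self 2 (by omega : n - 2 ≠ 0))).trans (Nat.dvd_of_mul_dvd_mul_left two_pos hz0)
          obtain ⟨m, rfl⟩ := hev
          have hz' : 2 * m + 2 * m ≡ 0 [MOD 2 ^ n] := by
            refine hfix.symm.trans (Nat.modEq_zero_iff_dvd.mpr ⟨m, ?_⟩)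
            rw [hpe]; ring
          rw [← two_mul, Nat.modEq_zero_iff_dvd, hpe] at hz'
          exact Nat.dvd_of_mul_dvd_mul_left two_pos hz'
      obtain ⟨j, rfl⟩ := hd
      rw [pow_mul, ← hh] at hi
      rcases Nat.even_or_odd j with ⟨r, rfl⟩ | ⟨r, rfl⟩
      · left; rw [← hi, pow_add, ← Commute.mul_pow (Commute.refl h), hh2, one_pow]
      · right; rw [← hi, pow_succ, pow_mul, pow_two, hh2, one_pow, one_mul]
    haveI : NeZero (2 ^ n) := ⟨pow_ne_zero _ two_ne_zero⟩
    haveI : NeZero (2 ^ (n - 1)) := ⟨pow_ne_zero _ two_ne_zero⟩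
    rcases hconj with hc | ⟨hn3, hc⟩
    · rcases hg2 with hg2 | hg2
      · exact Or.inl ⟨2 ^ n, CfsgLib.TwoGroups.nonempty_mulEquiv_dihedralGroup hord
          (by rwa [← pow_two]) hg₀ hc (by rw [hcard, pow_succ'])⟩
      · exact Or.inr (Or.inl ⟨2 ^ (n - 1), CfsgLib.TwoGroups.nonempty_mulEquiv_quaternionGroup
          (by rw [hord, hpe]) (by rwa [← pow_two]) hg₀ hc
          (by rw [hcard, show (4 : ℕ) = 2 ^ 2 from rfl, ← pow_add, show 2 + (n - 1) = n + 1 by omega])⟩)
    · refine Or.inr (Or.inr ⟨n, hn3, hcard, a, ?_⟩)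
      have hha : Commute h a := (Commute.refl a).pow_left _
      have hhinv : a ^ (2 ^ (n - 1) - 1) = h * a⁻¹ := by
        rw [hh, pow_sub a Nat.one_le_two_pow, pow_one]
      rcases hg2 with hg2 | hg2
      · exact ⟨g₀, hord, orderOf_eq_prime hg2 (fun e => hg₀ (e ▸ one_mem _)), by rw [hhinv]; exact hc⟩
      · refine ⟨a * g₀, hord, orderOf_eq_prime ?_ (fun e => hg₀ ((Subgroup.mul_mem_cancel_left _
            (mem_zpowers a)).mp (e ▸ one_mem _))), ?_⟩
        · calc (a * g₀) ^ 2 = a * (g₀ * a * g₀⁻¹) * g₀ ^ 2 := by rw [pow_two, pow_two]; group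
            _ = a * (h * a⁻¹) * h := by rw [hc, hg2]
            _ = h * h := by rw [← mul_assoc a h, ← hha.eq]; group
            _ = 1 := hh2
        · rw [hhinv]
          calc a * g₀ * a * (a * g₀)⁻¹ = a * (g₀ * a * g₀⁻¹) * a⁻¹ := by group
            _ = a * (h * a⁻¹) * a⁻¹ := by rw [hc]
            _ = h * a⁻¹ := by rw [← mul_assoc, ← hha.eq]; group

end Cfsg.Agent.S3761
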