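import Cfsg.Statements.S3762
import Mathlib
import Cfsg.Prelude.Def_CaseTheorems
import Cfsg.Prelude.Def_Transfer
import Cfsg.Agent.Lib.PGroups.Basic
import Cfsg.Agent.Lib.PGroups.ClassTwo
import Cfsg.Agent.Lib.PGroups.Extraspecial
import Cfsg.Agent.S3761

set_option autoImplicit false
open Cfsg

namespace Cfsg.Agent.S3762

set_option linter.style.haveILetI false
set_option linter.unusedSectionVars false
open scoped commutatorElement Classical

open Subgroup CfsgLib.PGroups

theorem char_of_forall {G : Type*} [Group G] (H : Subgroup G)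
    (h : ∀ (φ : MulAut G), ∀ x ∈ H, φ x ∈ H) : H.Characteristic :=
  characteristic_iff_map_le.mpr fun φ => by rintro _ ⟨x, hx, rfl⟩; exact h φ x hx

theorem mem_char {G : Type*} [Group G] (H : Subgroup G) [hH : H.Characteristic] (φ : MulAut G) {x : G}
    (hx : x ∈ H) : φ x ∈ H := characteristic_iff_map_le.mp hH φ ⟨x, hx, rfl⟩

theorem comm_subgroup {G : Type*} [Group G] {A : Subgroup G} (h : ∀ x ∈ A, ∀ y ∈ A, x * y = y * x) :
    IsMulCommutative A := ⟨⟨fun x y => Subtype.ext (h x x.2 y y.2)⟩⟩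

theorem card_le_of_cyclic_exp {G : Type*} [Group G] [Finite G] {p : ℕ} [Fact p.Prime] (A : Subgroup G)
    (hA : IsCyclic A) (h : ∀ x ∈ A, x ^ p = 1) : Nat.card A ≤ p := by
  obtain ⟨g, hg⟩ := hA.exists_generator
  rw [← orderOf_eq_card_of_forall_mem_zpowers hg]
  refine Nat.le_of_dvd (Fact.out : p.Prime).pos (orderOf_dvd_of_pow_eq_one (Subtype.ext ?_))
  exact h g g.2

theorem centralizer_index {G : Type*} [Group G] [Finite G] {p : ℕ} [Fact p.Prime] (hG : IsPGroup p G)
    (Ω : Subgroup G) (hΩ : Nat.card Ω ≤ p) (A Z : Subgroup G) (hZA : Z ≤ A) (hZc : Z ≤ center G)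
    (hcomm : ∀ g : G, ∀ a ∈ A, ⁅g, a⁆ ∈ Ω) :
    (centralizer (A : Set G)).index * Nat.card Z ≤ Nat.card A := by
  haveI := Fintype.ofFinite G
  have hy : ∀ y ∈ A, (centralizer ({y} : Set G)).index ≤ p := by
    intro y hy
    refine le_trans ?_ hΩ
    rw [Subgroup.index]
    refine Nat.card_le_card_of_injective (fun q : G ⧸ centralizer ({y} : Set G) => (⟨⁅q.out, y⁆, hcomm _ y hy⟩ : Ω)) ?_
    intro q q' h
    have h' : q.out * y * q.out⁻¹ * y⁻¹ = q'.out * y * q'.out⁻¹ * y⁻¹ := by
      simpa [commutatorElement_def] using congrArg Subtype.val h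
    have h'' := mul_right_cancel h'
    rw [← QuotientGroup.out_eq' q, ← QuotientGroup.out_eq' q', QuotientGroup.eq, mem_centralizer_singleton_iff]
    calc q.out⁻¹ * q'.out * y = q.out⁻¹ * (q'.out * y * q'.out⁻¹) * q'.out := by group
      _ = q.out⁻¹ * (q.out * y * q.out⁻¹) * q'.out := by rw [h'']
      _ = y * (q.out⁻¹ * q'.out) := by group
  have key : ∀ S : Finset G, (S : Set G) ⊆ A →
      (centralizer ((Z ⊔ closure (S : Set G) : Subgroup G) : Set G)).index * Nat.card Z ≤
        Nat.card ↥(Z ⊔ closure (S : Set G)) := by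
    intro S
    induction S using Finset.induction_on with
    | empty =>
      intro _
      rw [Finset.coe_empty, Subgroup.closure_empty, sup_bot_eq, centralizer_eq_top_iff_subset.mpr hZc, index_top, one_mul]
    | @insert y S _ ih =>
      intro hS
      rw [Finset.coe_insert, Set.insert_subset_iff] at hS
      have ih' := ih hS.2
      have heq : Z ⊔ closure ((insert y S : Finset G) : Set G) = Z ⊔ closure (S : Set G) ⊔ zpowers y := by
        rw [Finset.coe_insert, Set.insert_eq, Subgroup.closure_union, ← zpowers_eq_closure, sup_comm (zpowers y), sup_assoc]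
      rw [heq]
      by_cases hyB : y ∈ Z ⊔ closure (S : Set G)
      · rw [sup_eq_left.mpr (zpowers_le.mpr hyB)]; exact ih'
      have hcard : p * Nat.card ↥(Z ⊔ closure (S : Set G)) ≤
          Nat.card ↥(Z ⊔ closure (S : Set G) ⊔ zpowers y) := by
        obtain ⟨i, hi⟩ := IsPGroup.iff_card.mp (hG.to_subgroup (Z ⊔ closure (S : Set G)))
        obtain ⟨j, hj⟩ := IsPGroup.iff_card.mp (hG.to_subgroup (Z ⊔ closure (S : Set G) ⊔ zpowers y))
        have hlt : Nat.card ↥(Z ⊔ closure (S : Set G)) < Nat.card ↥(Z ⊔ closure (S : Set G) ⊔ zpowers y) :=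
          lt_of_not_ge fun hge => hyB (by
            rw [eq_of_le_of_card_ge le_sup_left hge]; exact mem_sup_right (mem_zpowers y))
        rw [hi, hj] at hlt ⊢
        rw [← pow_succ']
        exact Nat.pow_le_pow_right (Fact.out : p.Prime).pos
          ((Nat.pow_lt_pow_iff_right (Fact.out : p.Prime).one_lt).mp hlt)
      have hle : centralizer ((Z ⊔ closure (S : Set G) : Subgroup G) : Set G) ⊓ centralizer ({y} : Set G) ≤
          centralizer ((Z ⊔ closure (S : Set G) ⊔ zpowers y : Subgroup G) : Set G) := by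
        rw [le_centralizer_iff]
        refine sup_le (le_centralizer_iff.mp inf_le_left) (zpowers_le.mpr ?_)
        exact mem_centralizer_iff.mpr fun x hx => mem_centralizer_singleton_iff.mp (mem_inf.mp hx).2
      calc (centralizer ((Z ⊔ closure (S : Set G) ⊔ zpowers y : Subgroup G) : Set G)).index * Nat.card Z
          ≤ (centralizer ((Z ⊔ closure (S : Set G) : Subgroup G) : Set G) ⊓ centralizer ({y} : Set G)).index
              * Nat.card Z := Nat.mul_le_mul_right _ (Nat.le_of_dvd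
                (Nat.pos_of_ne_zero index_ne_zero_of_finite) (index_dvd_of_le hle))
        _ ≤ (centralizer ((Z ⊔ closure (S : Set G) : Subgroup G) : Set G)).index * p * Nat.card Z :=
              Nat.mul_le_mul_right _ (index_inf_le.trans (Nat.mul_le_mul_left _ (hy y hS.1)))
        _ = p * ((centralizer ((Z ⊔ closure (S : Set G) : Subgroup G) : Set G)).index * Nat.card Z) := by ring
        _ ≤ _ := (Nat.mul_le_mul_left p ih').trans hcard
  have h := key (Finset.univ.filter (· ∈ A)) (by intro x; simp)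
  have e : Z ⊔ closure ((Finset.univ.filter (· ∈ A) : Finset G) : Set G) = A := by
    rw [show ((Finset.univ.filter (· ∈ A) : Finset G) : Set G) = (A : Set G) by ext; simp, closure_eq,
      sup_eq_right.mpr hZA]
  rwa [e] at h

section block

variable {H : Type*} [Group H] [Finite H] {p : ℕ} [Fact p.Prime]

theorem class_two (hH : IsPGroup p H)
    (hmax : ∀ A : Subgroup H, A.Characteristic → IsMulCommutative A → center H ≤ A → A = center H) :
    (∀ x y : H, ⁅x, y⁆ ∈ center H) ∧ (∀ x : H, x ^ p ∈ center H) ∧ ∀ x y : H, ⁅x, y⁆ ^ p = 1 := by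
  haveI : (commutator H).Characteristic := by rw [commutator_def]; infer_instance
  let D : Subgroup H :=
    { carrier := {x | ∀ y, ⁅x, y⁆ ∈ center H}
      one_mem' := fun y => by rw [commutatorElement_one_left]; exact one_mem _
      mul_mem' := fun {a b} ha hb y => by rw [comm_mul_left_of_central (hb y)]; exact mul_mem (ha y) (hb y)
      inv_mem' := fun {a} ha y => by rw [comm_inv_left_of_central (ha y)]; exact inv_mem (ha y) }
  haveI : D.Characteristic := char_of_forall D fun φ x hx y => by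
    rw [← φ.apply_symm_apply y, ← map_commutatorElement]
    exact mem_char _ φ (hx _)
  have hDc : ∀ x ∈ D, ∀ c ∈ commutator H, x * c = c * x := by
    intro x hx c hc
    let f : H →* center H := MonoidHom.mk' (fun y => ⟨⁅x, y⁆, hx y⟩)
      fun a b => Subtype.ext (comm_mul_right_of_central (hx b))
    have hker : commutator H ≤ f.ker := by
      rw [_root_.commutator_def, commutator_le]
      intro a _ b _
      rw [MonoidHom.mem_ker, map_commutatorElement, commutatorElement_eq_one_iff_mul_comm]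
      exact Subtype.ext (mem_center_iff.mp (f b).2 _)
    have h : f c = 1 := hker hc
    exact commutatorElement_eq_one_iff_mul_comm.mp (congrArg Subtype.val h)
  have hA : center H ⊔ (commutator H ⊓ D) = center H := by
    refine hmax _ inferInstance ?_ le_sup_left
    refine le_centralizer_iff_isMulCommutative.mp (sup_le ?_ ?_)
    · intro x hx; exact mem_centralizer_iff.mpr fun y _ => (mem_center_iff.mp hx y)
    · rw [le_centralizer_iff]
      refine sup_le ?_ ?_
      · intro x hx; exact mem_centralizer_iff.mpr fun y _ => (mem_center_iff.mp hx y)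
      · intro x hx; exact mem_centralizer_iff.mpr fun y hy =>
          (hDc x (mem_inf.mp hx).2 y (mem_inf.mp hy).1).symm
  have hle : commutator H ≤ center H := by
    by_contra hne
    have hN : (commutator H).map (QuotientGroup.mk' (center H)) ≠ ⊥ := fun h => hne (by
      rw [Subgroup.map_eq_bot_iff, QuotientGroup.ker_mk'] at h; exact h)
    haveI : ((commutator H).map (QuotientGroup.mk' (center H))).Normal :=
      Subgroup.Normal.map inferInstance _ (QuotientGroup.mk'_surjective _)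
    obtain ⟨⟨q, hq⟩, hq1⟩ := ne_bot_iff_exists_ne_one.mp (inf_center_ne_bot (hH.to_quotient (center H)) hN)
    obtain ⟨hqN, hqc⟩ := mem_inf.mp hq
    obtain ⟨c, hc, rfl⟩ := hqN
    have hcD : c ∈ D := fun y => by
      rw [← QuotientGroup.eq_one_iff, ← QuotientGroup.mk'_apply, map_commutatorElement,
        commutatorElement_eq_one_iff_mul_comm]
      exact (mem_center_iff.mp hqc _).symm
    refine hq1 (Subtype.ext ?_)
    show QuotientGroup.mk' (center H) c = 1
    rw [QuotientGroup.mk'_apply, QuotientGroup.eq_one_iff, ← hA]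
    exact mem_sup_right (mem_inf.mpr ⟨hc, hcD⟩)
  have hcz : ∀ x y : H, ⁅x, y⁆ ∈ center H := fun x y =>
    hle (Subgroup.commutator_mem_commutator (mem_top x) (mem_top y))
  have hex : ∃ e, ∀ x : H, x ^ p ^ e ∈ center H := by
    obtain ⟨k, hk⟩ := IsPGroup.iff_card.mp hH
    exact ⟨k, fun x => by rw [← hk, pow_card_eq_one']; exact one_mem _⟩
  set e := Nat.find hex
  have he : ∀ x : H, x ^ p ^ e ∈ center H := Nat.find_spec hex
  have hp1 : ∀ x : H, x ^ p ∈ center H := by
    intro x
    rcases Nat.lt_or_ge e 2 with h2 | h2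
    · interval_cases e
      · exact pow_mem (by simpa using he x) p
      · simpa using he x
    · exfalso
      refine Nat.find_min hex (show e - 1 < e by omega) fun z => ?_
      set S := Set.range fun x : H => x ^ p ^ (e - 1)
      have hcl : center H ⊔ closure S = center H := by
        refine hmax _ (char_of_forall _ fun φ x hx => ?_) ?_ le_sup_left
        · refine (show (center H ⊔ closure S).map φ.toMonoidHom ≤ center H ⊔ closure S from ?_) ⟨x, hx, rfl⟩
          rw [Subgroup.map_sup, MonoidHom.map_closure]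
          refine sup_le_sup (by rintro _ ⟨y, hy, rfl⟩; exact mem_char _ φ hy) (closure_mono ?_)
          rintro _ ⟨_, ⟨y, rfl⟩, rfl⟩
          exact ⟨φ y, (map_pow φ y _).symm⟩
        · refine le_centralizer_iff_isMulCommutative.mp (sup_le ?_ ((closure_le _).mpr ?_))
          · intro x hx; exact mem_centralizer_iff.mpr fun y _ => (mem_center_iff.mp hx y)
          · rintro _ ⟨u, rfl⟩
            refine mem_centralizer_iff.mpr fun y hy => ?_
            have : center H ⊔ closure S ≤ centralizer ({u ^ p ^ (e - 1)} : Set H) := by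
              refine sup_le (center_le_centralizer _) ((closure_le _).mpr ?_)
              rintro _ ⟨v, rfl⟩
              refine mem_centralizer_singleton_iff.mpr (commutatorElement_eq_one_iff_mul_comm.mp ?_)
              rw [comm_pow_left_of_central (hcz _ _), comm_pow_right_of_central (hcz _ _), ← pow_mul, ← pow_add,
                ← comm_pow_left_of_central (hcz _ _), show e - 1 + (e - 1) = e + (e - 2) by omega, pow_add, pow_mul,
                commutatorElement_eq_one_iff_mul_comm]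
              exact (mem_center_iff.mp (pow_mem (he v) _) u).symm
            exact mem_centralizer_singleton_iff.mp (this hy)
      exact hcl ▸ mem_sup_right (subset_closure ⟨z, rfl⟩)
  refine ⟨hcz, hp1, fun x y => ?_⟩
  rw [← comm_pow_left_of_central (hcz x y), commutatorElement_eq_one_iff_mul_comm]
  exact (mem_center_iff.mp (hp1 x) y).symm

theorem exists_root (hH : IsPGroup p H)
    (hmax : ∀ A : Subgroup H, A.Characteristic → IsMulCommutative A → center H ≤ A → A = center H)
    (hcyc : IsCyclic (center H)) (h4 : p = 2 → Nat.card (center H) ≠ 2) :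
    ∀ x : H, ∃ z ∈ center H, x ^ p = z ^ p := by
  obtain ⟨hcz, hpz, hcp⟩ := class_two hH hmax
  have hp := (Fact.out : p.Prime)
  obtain ⟨a, ha⟩ := (Subgroup.isCyclic_iff_exists_zpowers_eq_top (center H)).mp hcyc
  have haZ : a ∈ center H := ha ▸ mem_zpowers a
  obtain ⟨k, hk⟩ := IsPGroup.iff_orderOf.mp hH a
  have hroot : ∀ x y : H, ∃ z ∈ center H, ⁅x, y⁆ ^ p.choose 2 = z ^ p := by
    intro x y
    rcases eq_or_ne p 2 with h2 | h2
    · subst h2
      obtain ⟨i, hi⟩ := mem_zpowers_iff.mp (ha ▸ hcz x y : ⁅x, y⁆ ∈ zpowers a)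
      have hk2 : k ≠ 1 := fun h => h4 rfl (by rw [← ha, Nat.card_zpowers, hk, h, pow_one])
      have h1 := hcp x y
      rw [← hi, ← zpow_natCast, ← zpow_mul, ← orderOf_dvd_iff_zpow_eq_one, hk] at h1
      push_cast at h1
      obtain ⟨l, rfl⟩ | rfl : (2 : ℤ) ∣ i ∨ k = 0 := by
        rcases Nat.eq_zero_or_pos k with h0 | h0
        · exact Or.inr h0
        · left
          obtain ⟨j, rfl⟩ : ∃ j, k = j + 2 := ⟨k - 2, by omega⟩
          rw [pow_succ] at h1
          exact (dvd_pow_self (2 : ℤ) (show j + 1 ≠ 0 by omega)).trans ((mul_dvd_mul_iff_right two_ne_zero).mp h1)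
      · refine ⟨a ^ l, zpow_mem haZ _, ?_⟩
        rw [Nat.choose_self, pow_one, ← hi, ← zpow_natCast, ← zpow_mul]
        push_cast
        rw [mul_comm]
      · refine ⟨1, one_mem _, ?_⟩
        have : a = 1 := orderOf_eq_one_iff.mp (by rw [hk, pow_zero])
        rw [Nat.choose_self, pow_one, ← hi, this, one_zpow, one_pow]
    · obtain ⟨q, hq⟩ := hp.dvd_choose_self two_ne_zero (show 2 < p by have := hp.two_le; omega)
      exact ⟨1, one_mem _, by rw [hq, pow_mul, hcp, one_pow, one_pow]⟩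
  let C₁ : Subgroup H :=
    { carrier := {x | ∃ z ∈ center H, x ^ p = z ^ p}
      one_mem' := ⟨1, one_mem _, rfl⟩
      mul_mem' := by
        rintro u v ⟨z, hz, hu⟩ ⟨z', hz', hv⟩
        obtain ⟨z'', hz'', hc⟩ := hroot v u
        refine ⟨z * z' * z'', mul_mem (mul_mem hz hz') hz'', ?_⟩
        have e1 : Commute z z' := (mem_center_iff.mp hz z').symm
        have e2 : Commute (z * z') z'' := mem_center_iff.mp hz'' _
        rw [mul_pow_of_central (hcz v u), hc, hu, hv, e2.mul_pow, e1.mul_pow]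
      inv_mem' := by
        rintro u ⟨z, hz, hu⟩
        exact ⟨z⁻¹, inv_mem hz, by rw [inv_pow, hu, inv_pow]⟩ }
  suffices htop : C₁ = ⊤ by intro x; exact (htop ▸ mem_top x : x ∈ C₁)
  haveI : C₁.Characteristic := char_of_forall C₁ fun φ x ⟨z, hz, h⟩ =>
    ⟨φ z, mem_char _ φ hz, by rw [← map_pow, h, map_pow]⟩
  have hZC : center H ≤ C₁ := fun z hz => ⟨z, hz, rfl⟩
  let Ω : Subgroup H :=
    { carrier := {z | z ∈ center H ∧ z ^ p = 1}
      one_mem' := ⟨one_mem _, one_pow _⟩
      mul_mem' := fun {u v} hu hv => ⟨mul_mem hu.1 hv.1, by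
        rw [(show Commute u v from mem_center_iff.mp hv.1 u).mul_pow, hu.2, hv.2, one_mul]⟩
      inv_mem' := fun {u} hu => ⟨inv_mem hu.1, by rw [inv_pow, hu.2, inv_one]⟩ }
  haveI := hcyc
  have hΩ : Nat.card Ω ≤ p := card_le_of_cyclic_exp Ω
    (isCyclic_of_injective (inclusion (show Ω ≤ center H from fun z hz => hz.1)) (inclusion_injective _))
    fun x hx => hx.2
  have hcount := centralizer_index hH Ω hΩ C₁ (center H) hZC le_rfl fun g a _ => ⟨hcz g a, hcp g a⟩
  by_contra hne
  have hA : C₁ ⊓ centralizer (C₁ : Set H) = center H := by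
    refine hmax _ inferInstance (comm_subgroup fun x hx y hy => ?_) (le_inf hZC (center_le_centralizer _))
    exact (mem_centralizer_iff.mp (mem_inf.mp hx).2 y (mem_inf.mp hy).1).symm
  obtain ⟨w, hw, hwZ⟩ : ∃ w ∈ centralizer (C₁ : Set H), w ∉ center H := by
    by_contra hall
    push Not at hall
    have h1 := (centralizer (C₁ : Set H)).card_mul_index
    have h2 : Nat.card ↥(centralizer (C₁ : Set H)) ≤ Nat.card (center H) := card_le_of_le hall
    have h3 : Nat.card H ≤ Nat.card C₁ := by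
      rw [← h1]; exact (Nat.mul_le_mul_right _ h2).trans (by rwa [mul_comm])
    exact hne (eq_top_of_le_card _ h3)
  have hwC : w ∉ C₁ := fun h => hwZ (hA ▸ mem_inf.mpr ⟨h, hw⟩)
  refine hwZ (mem_center_iff.mpr fun x => ?_)
  obtain ⟨i₀, hi₀⟩ := mem_zpowers_iff.mp (ha ▸ hpz w : w ^ p ∈ zpowers a)
  obtain ⟨i, hi⟩ := mem_zpowers_iff.mp (ha ▸ hpz x : x ^ p ∈ zpowers a)
  have hi0 : (i₀ : ZMod p) ≠ 0 := fun h => hwC (by
    obtain ⟨l, rfl⟩ := (ZMod.intCast_zmod_eq_zero_iff_dvd _ p).mp h
    exact ⟨a ^ l, zpow_mem haZ _, by rw [← hi₀, ← zpow_natCast, ← zpow_mul, mul_comm]⟩)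
  set j := ((i : ZMod p) * (i₀ : ZMod p)⁻¹).val
  obtain ⟨q, hq⟩ : (p : ℤ) ∣ i - j * i₀ := by
    refine (ZMod.intCast_zmod_eq_zero_iff_dvd _ p).mp ?_
    push_cast
    rw [ZMod.natCast_zmod_val, mul_assoc, inv_mul_cancel₀ hi0, mul_one, sub_self]
  have hxw : x * (w ^ j)⁻¹ ∈ C₁ := by
    obtain ⟨z, hz, hc⟩ := hroot (w ^ j)⁻¹ x
    refine ⟨a ^ q * z, mul_mem (zpow_mem haZ _) hz, ?_⟩
    have e3 : Commute (a ^ q) z := mem_center_iff.mp hz _
    rw [mul_pow_of_central (hcz _ _), hc, e3.mul_pow, inv_pow, ← pow_mul, mul_comm j p, pow_mul, ← hi, ← hi₀,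
      ← zpow_natCast, ← zpow_mul, ← zpow_neg, ← zpow_add, ← zpow_natCast (a ^ q) p, ← zpow_mul]
    congr 2
    linear_combination hq
  have hcw : x * (w ^ j)⁻¹ * w = w * (x * (w ^ j)⁻¹) := mem_centralizer_iff.mp hw _ hxw
  calc x * w = x * (w ^ j)⁻¹ * w * w ^ j := by group
    _ = w * (x * (w ^ j)⁻¹) * w ^ j := by rw [hcw]
    _ = w * x := by group

end block

theorem main {G : Type*} [Group G] [Finite G] {p : ℕ} [Fact p.Prime] (hG : IsPGroup p G)
    (hsymp : ∀ A : Subgroup G, A.Characteristic → IsMulCommutative A → IsCyclic A) :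
    ∃ E R : Subgroup G, (∀ e ∈ E, ∀ r ∈ R, e * r = r * e) ∧ E ⊔ R = ⊤ ∧
      (E = ⊥ ∨ Cfsg.IsExtraspecial p ↥E) ∧ (IsCyclic R ∨ (p = 2 ∧ 16 ≤ Nat.card R ∧
        ((∃ m : ℕ, Nonempty (↥R ≃* DihedralGroup m)) ∨ (∃ m : ℕ, Nonempty (↥R ≃* QuaternionGroup m)) ∨
          Cfsg.IsQuasiDihedral ↥R))) := by
  have hp := (Fact.out : p.Prime)
  haveI := Fintype.ofFinite G
  haveI : Fintype (Subgroup G) := Fintype.ofFinite _
  obtain ⟨U, hU, hUmax⟩ := Finset.exists_max_image
    (Finset.univ.filter fun A : Subgroup G => A.Characteristic ∧ IsMulCommutative A ∧ center G ≤ A)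
    (fun A => Nat.card A) ⟨center G, by
      simp only [Finset.mem_filter, Finset.mem_univ, true_and]
      exact ⟨inferInstance, comm_subgroup fun x hx y _ => (mem_center_iff.mp hx y).symm, le_rfl⟩⟩
  simp only [Finset.mem_filter, Finset.mem_univ, true_and] at hU hUmax
  obtain ⟨hUchar, hUab, hZU⟩ := hU
  haveI := hUchar
  have hUcyc : IsCyclic U := hsymp U hUchar hUab
  have hUcomm : ∀ x ∈ U, ∀ y ∈ U, x * y = y * x := fun x hx y hy =>
    congrArg Subtype.val (hUab.is_comm.comm ⟨x, hx⟩ ⟨y, hy⟩)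
  have hmaxU : ∀ A : Subgroup G, A.Characteristic → IsMulCommutative A → U ≤ A → A = U := fun A h1 h2 h3 =>
    (eq_of_le_of_card_ge h3 (hUmax A ⟨h1, h2, hZU.trans h3⟩)).symm
  set C := centralizer (U : Set G) with hC
  haveI : C.Characteristic := characteristic_centralizer
  have hUC : U ≤ C := fun x hx => mem_centralizer_iff.mpr fun y hy => hUcomm y hy x hx
  have hCU : ∀ x ∈ C, ∀ u ∈ U, u * x = x * u := fun x hx u hu => mem_centralizer_iff.mp hx u hu
  have hZC : ∀ x ∈ C, (∀ y ∈ C, y * x = x * y) → x ∈ U := by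
    intro x hx h
    have hA : C ⊓ centralizer (C : Set G) = U := hmaxU _ inferInstance
      (comm_subgroup fun u hu v hv => (mem_centralizer_iff.mp (mem_inf.mp hu).2 v (mem_inf.mp hv).1).symm)
      (le_inf hUC fun u hu => mem_centralizer_iff.mpr fun y hy => (hCU y hy u hu).symm)
    exact hA ▸ mem_inf.mpr ⟨hx, mem_centralizer_iff.mpr h⟩
  have hcen : ∀ x : C, x ∈ center C ↔ (x : G) ∈ U := fun x =>
    ⟨fun h => hZC x x.2 fun y hy => congrArg Subtype.val (mem_center_iff.mp h ⟨y, hy⟩),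
      fun h => mem_center_iff.mpr fun y => Subtype.ext (hCU y y.2 x h).symm⟩
  have hmapcen : (center C).map C.subtype = U := by
    ext x
    constructor
    · rintro ⟨y, hy, rfl⟩; exact (hcen y).mp hy
    · exact fun hx => ⟨⟨x, hUC hx⟩, (hcen _).mpr hx, rfl⟩
  have hmaxC : ∀ A : Subgroup C, A.Characteristic → IsMulCommutative A → center C ≤ A → A = center C := by
    intro A hA hAab hle
    haveI := hA
    have h := hmaxU (A.map C.subtype) inferInstance
      (comm_subgroup (by
        rintro _ ⟨u, hu, rfl⟩ _ ⟨v, hv, rfl⟩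
        exact congrArg Subtype.val (congrArg Subtype.val (hAab.is_comm.comm ⟨u, hu⟩ ⟨v, hv⟩))))
      (hmapcen ▸ Subgroup.map_mono hle)
    exact map_injective C.subtype_injective (h.trans hmapcen.symm)
  have hCp : IsPGroup p C := hG.to_subgroup C
  obtain ⟨hcz, hpz, hcp⟩ := class_two hCp hmaxC
  have hcU : ∀ x ∈ C, ∀ y ∈ C, ⁅x, y⁆ ∈ U := fun x hx y hy => (hcen _).mp (hcz ⟨x, hx⟩ ⟨y, hy⟩)
  have hcP : ∀ x ∈ C, ∀ y ∈ C, ⁅x, y⁆ ^ p = 1 := fun x hx y hy =>
    congrArg Subtype.val (hcp ⟨x, hx⟩ ⟨y, hy⟩)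
  have hpU : ∀ x ∈ C, x ^ p ∈ U := fun x hx => (hcen _).mp (hpz ⟨x, hx⟩)
  have hcardZ : Nat.card (center C) = Nat.card U := by
    rw [← card_map_of_injective C.subtype_injective, hmapcen]
  haveI := hUcyc
  have hrep : (p = 2 → Nat.card U ≠ 2) → ∀ x ∈ C, ∃ u ∈ U, x ^ p = u ^ p := by
    intro h4 x hx
    have hcyc : IsCyclic (center C) :=
      isCyclic_of_injective ((C.subtype.comp (center C).subtype).codRestrict U fun z => (hcen _).mp z.2)
        fun y z h => Subtype.ext (Subtype.ext (congrArg (fun t : U => (t : G)) h))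
    obtain ⟨z, hz, h⟩ := exists_root hCp hmaxC hcyc (by rwa [hcardZ]) ⟨x, hx⟩
    exact ⟨z, (hcen z).mp hz, congrArg Subtype.val h⟩
  let Ω : Subgroup G :=
    { carrier := {x | x ∈ U ∧ x ^ p = 1}
      one_mem' := ⟨one_mem _, one_pow _⟩
      mul_mem' := fun {u v} hu hv => ⟨mul_mem hu.1 hv.1, by
        rw [(show Commute u v from hUcomm u hu.1 v hv.1).mul_pow, hu.2, hv.2, one_mul]⟩
      inv_mem' := fun {u} hu => ⟨inv_mem hu.1, by rw [inv_pow, hu.2, inv_one]⟩ }
  have hΩU : Ω ≤ U := fun x hx => hx.1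
  have hΩcard : Nat.card Ω ≤ p := card_le_of_cyclic_exp Ω
    (isCyclic_of_injective (inclusion hΩU) (inclusion_injective _)) fun x hx => hx.2
  haveI : Ω.Characteristic := char_of_forall Ω fun φ x hx =>
    ⟨mem_char U φ hx.1, by rw [← map_pow, hx.2, map_one]⟩
  have hΩc : Ω ≤ center G := by
    rcases eq_or_ne Ω ⊥ with h | h
    · rw [h]; exact bot_le
    have h1 : Ω ⊓ center G ≠ ⊥ := inf_center_ne_bot hG h
    have h2 : p ≤ Nat.card ↥(Ω ⊓ center G) := by
      rcases (hG.to_subgroup (Ω ⊓ center G)).card_eq_or_dvd with h3 | h3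
      · exact absurd (card_eq_one.mp h3) h1
      · exact Nat.le_of_dvd Nat.card_pos h3
    exact inf_eq_left.mp (eq_of_le_of_card_ge inf_le_left (hΩcard.trans h2))
  have hcΩ : ∀ x ∈ C, ∀ y ∈ C, ⁅x, y⁆ ∈ Ω := fun x hx y hy => ⟨hcU x hx y hy, hcP x hx y hy⟩
  -- `G` acts trivially on `C / U`
  have hGC : ∀ g : G, ∀ x ∈ C, ⁅g, x⁆ ∈ U := by
    let D : Subgroup G :=
      { carrier := {x | x ∈ C ∧ ∀ g : G, ⁅g, x⁆ ∈ U}
        one_mem' := ⟨one_mem _, fun g => by rw [commutatorElement_one_right]; exact one_mem _⟩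
        mul_mem' := fun {x y} hx hy => ⟨mul_mem hx.1 hy.1, fun g => by
          rw [show ⁅g, x * y⁆ = ⁅g, x⁆ * (x * ⁅g, y⁆ * x⁻¹) by simp only [commutatorElement_def]; group,
            ← hCU x hx.1 _ (hy.2 g), mul_inv_cancel_right]
          exact mul_mem (hx.2 g) (hy.2 g)⟩
        inv_mem' := fun {x} hx => ⟨inv_mem hx.1, fun g => by
          rw [show ⁅g, x⁻¹⁆ = x⁻¹ * ⁅g, x⁆⁻¹ * x⁻¹⁻¹ by simp only [commutatorElement_def]; group,
            ← hCU x⁻¹ (inv_mem hx.1) _ (inv_mem (hx.2 g)), mul_inv_cancel_right]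
          exact inv_mem (hx.2 g)⟩ }
    haveI : D.Characteristic := char_of_forall D fun φ x hx => ⟨mem_char C φ hx.1, fun g => by
      rw [← φ.apply_symm_apply g, ← map_commutatorElement]; exact mem_char U φ (hx.2 _)⟩
    have hUD : U ≤ D := fun u hu => ⟨hUC hu, fun g => by
      rw [commutatorElement_def]
      exact mul_mem ((normal_of_characteristic (H := U)).conj_mem u hu g) (inv_mem hu)⟩
    have hDC : D ≤ C := fun x hx => hx.1
    have hZD : D ⊓ centralizer (D : Set G) = U := hmaxU _ inferInstance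
      (comm_subgroup fun u hu v hv => (mem_centralizer_iff.mp (mem_inf.mp hu).2 v (mem_inf.mp hv).1).symm)
      (le_inf hUD fun u hu => mem_centralizer_iff.mpr fun y hy => (hCU y (hDC hy) u hu).symm)
    set P := C ⊓ centralizer (D : Set G) with hP
    have hUP : U ≤ P := le_inf hUC fun u hu => mem_centralizer_iff.mpr fun y hy => (hCU y (hDC hy) u hu).symm
    have hPU : P = U := by
      refine le_antisymm (fun x hx => ?_) hUP
      by_contra hxU
      have hN : P.map (QuotientGroup.mk' U) ≠ ⊥ := fun h => hxU (by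
        rw [Subgroup.map_eq_bot_iff, QuotientGroup.ker_mk'] at h; exact h hx)
      haveI : (P.map (QuotientGroup.mk' U)).Normal :=
        Subgroup.Normal.map inferInstance _ (QuotientGroup.mk'_surjective _)
      obtain ⟨⟨q, hq⟩, hq1⟩ := ne_bot_iff_exists_ne_one.mp (inf_center_ne_bot (hG.to_quotient U) hN)
      obtain ⟨hqN, hqc⟩ := mem_inf.mp hq
      obtain ⟨c, hc, rfl⟩ := hqN
      have hcD : c ∈ D := ⟨(mem_inf.mp hc).1, fun g => by
        rw [← QuotientGroup.eq_one_iff, ← QuotientGroup.mk'_apply, map_commutatorElement,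
          commutatorElement_eq_one_iff_mul_comm]
        exact mem_center_iff.mp hqc _⟩
      refine hq1 (Subtype.ext ?_)
      show QuotientGroup.mk' U c = 1
      rw [QuotientGroup.mk'_apply, QuotientGroup.eq_one_iff, ← hZD]
      exact mem_inf.mpr ⟨hcD, (mem_inf.mp hc).2⟩
    have hsub : ∀ {K : Subgroup G}, K ≤ C → Nat.card (K.subgroupOf C) = Nat.card K := fun h =>
      Nat.card_congr (subgroupOfEquivOfLe h).toEquiv
    have hcount := centralizer_index hCp (Ω.subgroupOf C) (by rwa [hsub (hΩU.trans hUC)]) (D.subgroupOf C) (center C)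
      (fun z hz => hUD ((hcen z).mp hz)) le_rfl fun g a _ => hcΩ g g.2 a a.2
    have hcc : centralizer (D.subgroupOf C : Set C) = P.subgroupOf C := by
      ext x
      rw [mem_centralizer_iff, mem_subgroupOf]
      constructor
      · exact fun h => mem_inf.mpr ⟨x.2, mem_centralizer_iff.mpr fun y hy =>
          congrArg Subtype.val (h ⟨y, hDC hy⟩ hy)⟩
      · exact fun h y hy => Subtype.ext (mem_centralizer_iff.mp (mem_inf.mp h).2 y hy)
    rw [hcc, hcardZ, hsub hDC] at hcount
    have hi := (P.subgroupOf C).card_mul_index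
    rw [hPU, hsub hUC] at hi
    have hDeq : D = C := eq_of_le_of_card_ge hDC (by rw [← hi, mul_comm]; rwa [hPU] at hcount)
    intro g x hx
    exact ((hDeq ▸ hx : x ∈ D)).2 g
  have hconj : ∀ g : G, ∀ x ∈ C, x ^ p ∈ Ω → ⁅g, x⁆ ∈ Ω := by
    intro g x hx hxp
    refine ⟨hGC g x hx, ?_⟩
    have hc : Commute ⁅g, x⁆ x := hCU x hx _ (hGC g x hx)
    have h1 : (⁅g, x⁆ * x) ^ p = x ^ p := by
      rw [← comm_conj_left, conj_pow, mem_center_iff.mp (hΩc hxp) g, mul_inv_cancel_right]
    rw [hc.mul_pow] at h1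
    exact mul_eq_right.mp h1
  -- the extraspecial part
  obtain ⟨E, R, hER, hEn, hsup, hE, hEC, hUR, hRC, hEp, hEo⟩ : ∃ E R : Subgroup G,
      (∀ e ∈ E, ∀ r ∈ R, e * r = r * e) ∧ E.Normal ∧ E ⊔ R = ⊤ ∧ (E = ⊥ ∨ Cfsg.IsExtraspecial p E) ∧ E ≤ C ∧
      U ≤ R ∧ (∀ x ∈ R, x ∈ C → x ∈ U) ∧ (∀ e ∈ E, e ^ p ∈ Ω) ∧ (p ≠ 2 → ∀ e ∈ E, e ^ p = 1) := by
    by_cases hCeq : C = U
    · refine ⟨⊥, ⊤, fun e he r _ => ?_, inferInstance, bot_sup_eq _, Or.inl rfl, bot_le, le_top,
        fun x _ hx => hCeq ▸ hx, fun e he => ?_, fun _ e he => ?_⟩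
      · rw [mem_bot.mp he, one_mul, mul_one]
      · rw [mem_bot.mp he, one_pow]; exact one_mem _
      · rw [mem_bot.mp he, one_pow]
    have hU1 : U ≠ ⊥ := fun h => by
      rcases subsingleton_or_nontrivial G with hs | hs
      · exact hCeq (SetLike.ext fun x => by simp [Subsingleton.elim x 1])
      · haveI := hG.center_nontrivial
        exact (Subgroup.nontrivial_iff_ne_bot _).mp inferInstance (eq_bot_iff.mpr (h ▸ hZU))
    have hΩp : Nat.card Ω = p := by
      refine le_antisymm hΩcard ?_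
      rcases (hG.to_subgroup U).card_eq_or_dvd with h | h
      · exact absurd (card_eq_one.mp h) hU1
      obtain ⟨u, hu⟩ := exists_prime_orderOf_dvd_card' p h
      have hu' : (u : G) ∈ Ω := ⟨u.2, by
        rw [← hu, ← Subgroup.orderOf_coe, pow_orderOf_eq_one]⟩
      have := Nat.le_of_dvd Nat.card_pos (orderOf_dvd_natCard (⟨(u : G), hu'⟩ : Ω))
      rwa [Subgroup.orderOf_mk, Subgroup.orderOf_coe, hu] at this
    obtain ⟨E, hE, hEmax⟩ := Finset.exists_max_image
      (Finset.univ.filter fun E : Subgroup G =>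
        Ω ≤ E ∧ E ≤ C ∧ (∀ e ∈ E, e ∈ U → e ∈ Ω) ∧ ∀ e ∈ E, e ^ p ∈ Ω ∧ (p ≠ 2 → e ^ p = 1))
      (fun E => Nat.card E) ⟨Ω, by
        simp only [Finset.mem_filter, Finset.mem_univ, true_and]
        exact ⟨le_rfl, hΩU.trans hUC, fun e he _ => he, fun e he => ⟨pow_mem he p, fun _ => he.2⟩⟩⟩
    simp only [Finset.mem_filter, Finset.mem_univ, true_and] at hE hEmax
    obtain ⟨hΩE, hEC, hEU, hEp⟩ := hE
    have hEn : E.Normal := ⟨fun e he g => by
      rw [comm_conj_left]
      exact mul_mem (hΩE (hconj g e (hEC he) (hEp e he).1)) he⟩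
    have hsupC : ∀ x ∈ C, x ∈ E ⊔ U := by
      intro x hx
      by_contra hxEU
      obtain ⟨u, hu, hyp, hyo⟩ : ∃ u ∈ U, (x * u⁻¹) ^ p ∈ Ω ∧ (p ≠ 2 → (x * u⁻¹) ^ p = 1) := by
        by_cases h4 : p = 2 ∧ Nat.card U = 2
        · refine ⟨1, one_mem _, ?_, fun h => absurd h4.1 h⟩
          rw [inv_one, mul_one]
          refine ⟨hpU x hx, ?_⟩
          have := congrArg Subtype.val (pow_card_eq_one' (x := (⟨x ^ p, hpU x hx⟩ : U)))
          rw [h4.2, ← h4.1] at this
          exact this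
        · obtain ⟨u, hu, h⟩ := hrep (fun h2 hU2 => h4 ⟨h2, hU2⟩) x hx
          have h1 : (x * u⁻¹) ^ p = 1 := by
            rw [(show Commute x u⁻¹ from (hCU x hx _ (inv_mem hu)).symm).mul_pow, inv_pow, h, mul_inv_cancel]
          exact ⟨u, hu, h1 ▸ one_mem _, fun _ => h1⟩
      set y := x * u⁻¹ with hy
      have hyC : y ∈ C := mul_mem hx (hUC (inv_mem hu))
      have hyEU : y ∉ E ⊔ U := fun h => hxEU (by
        have h' := mul_mem h (mem_sup_right (S := E) hu)
        rwa [hy, inv_mul_cancel_right] at h')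
      have hlt : E < E ⊔ zpowers y := lt_of_le_of_ne le_sup_left fun h => hyEU
        (mem_sup_left (h.ge (mem_sup_right (mem_zpowers y))))
      have hgood : Ω ≤ E ⊔ zpowers y ∧ E ⊔ zpowers y ≤ C ∧ (∀ e ∈ E ⊔ zpowers y, e ∈ U → e ∈ Ω) ∧
          ∀ e ∈ E ⊔ zpowers y, e ^ p ∈ Ω ∧ (p ≠ 2 → e ^ p = 1) := by
        refine ⟨hΩE.trans le_sup_left, sup_le hEC (zpowers_le.mpr hyC), ?_, ?_⟩
        · intro z hz hzU
          obtain ⟨e, he, w, hw, rfl⟩ := mem_sup_of_normal_left.mp hz
          obtain ⟨j, rfl⟩ := mem_zpowers_iff.mp hw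
          by_cases hj : (p : ℤ) ∣ j
          · obtain ⟨l, rfl⟩ := hj
            refine hEU _ (mul_mem he ?_) hzU
            rw [zpow_mul, zpow_natCast]
            exact zpow_mem (hΩE hyp) l
          · exfalso
            refine hyEU ?_
            have h1 : y ^ j ∈ E ⊔ U := by
              have := mul_mem (mem_sup_left (T := U) (inv_mem he)) (mem_sup_right (S := E) hzU)
              rwa [inv_mul_cancel_left] at this
            obtain ⟨k, hk⟩ := IsPGroup.iff_orderOf.mp hG y
            obtain ⟨a, b, hab⟩ : IsCoprime ((p : ℤ) ^ k) j :=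
              IsCoprime.pow_left ((Nat.prime_iff_prime_int.mp hp).coprime_iff_not_dvd.mpr hj)
            have h2 : y = (y ^ j) ^ b := by
              rw [← zpow_mul, eq_comm, ← mul_inv_eq_one]
              nth_rw 2 [← zpow_one y]
              rw [← zpow_sub, ← orderOf_dvd_iff_zpow_eq_one, hk]
              exact ⟨-a, by push_cast; linear_combination hab⟩
            rw [h2]
            exact zpow_mem h1 b
        · intro z hz
          obtain ⟨e, he, w, hw, rfl⟩ := mem_sup_of_normal_left.mp hz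
          obtain ⟨j, rfl⟩ := mem_zpowers_iff.mp hw
          have hc := hcΩ (y ^ j) (zpow_mem hyC j) e (hEC he)
          have hwp : (y ^ j) ^ p = (y ^ p) ^ j := by
            rw [← zpow_natCast, ← zpow_mul, mul_comm, zpow_mul, zpow_natCast]
          rw [mul_pow_of_central (hΩc hc), hwp]
          refine ⟨mul_mem (mul_mem (hEp e he).1 (zpow_mem hyp j)) (pow_mem hc _), fun h2 => ?_⟩
          obtain ⟨q, hq⟩ := hp.dvd_choose_self two_ne_zero (show 2 < p by have := hp.two_le; omega)
          rw [(hEp e he).2 h2, hyo h2, one_zpow, hq, pow_mul, hc.2, one_pow, one_mul, one_mul]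
      have h1 := hEmax _ hgood
      exact hlt.ne (eq_of_le_of_card_ge hlt.le h1)
    set R := centralizer (E : Set G) with hR
    have hER : ∀ e ∈ E, ∀ r ∈ R, e * r = r * e := fun e he r hr => mem_centralizer_iff.mp hr e he
    have hUR : U ≤ R := fun u hu => mem_centralizer_iff.mpr fun e he => (hCU e (hEC he) u hu).symm
    have hRC : ∀ x ∈ R, x ∈ C → x ∈ U := by
      intro x hxR hxC
      refine hZC x hxC fun y hy => ?_
      have : E ⊔ U ≤ centralizer ({x} : Set G) := sup_le
        (fun e he => mem_centralizer_singleton_iff.mpr (hER e he x hxR))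
        fun u hu => mem_centralizer_singleton_iff.mpr (hCU x hxC u hu)
      exact mem_centralizer_singleton_iff.mp (this (hsupC y hy))
    have hER' : R ⊓ E = Ω := by
      refine le_antisymm (fun x hx => ?_) (le_inf ((hΩU).trans hUR) hΩE)
      obtain ⟨h1, h2⟩ := mem_inf.mp hx
      exact hEU x h2 (hRC x h1 (hEC h2))
    refine ⟨E, R, hER, hEn, ?_, Or.inr ?_, hEC, hUR, hRC, fun e he => (hEp e he).1,
      fun h2 e he => (hEp e he).2 h2⟩
    · have hidx := centralizer_index hG Ω hΩcard E Ω hΩE hΩc fun g a ha => hconj g a (hEC ha) (hEp a ha).1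
      haveI := hEn
      haveI : R.Normal := normal_centralizer
      have h1 := relIndex_mul_index (le_sup_right : R ≤ E ⊔ R)
      rw [relIndex_sup_right] at h1
      have h2 : R.relIndex E * Nat.card Ω = Nat.card E := by
        rw [← inf_relIndex_right, hER', mul_comm]
        rw [← Nat.card_congr (subgroupOfEquivOfLe hΩE).toEquiv]
        exact (Ω.subgroupOf E).card_mul_index
      refine index_eq_one.mp ?_
      rw [← h2, ← h1, hΩp] at hidx
      have hpos : 0 < R.relIndex E := Nat.pos_of_ne_zero fun h0 => index_ne_zero_of_finite (H := R)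
        (by rw [← h1, h0, zero_mul])
      have hipos : 0 < (E ⊔ R).index := Nat.pos_of_ne_zero index_ne_zero_of_finite
      have := Nat.le_of_mul_le_mul_right hidx hp.pos
      nlinarith
    · have hcenE : ∀ x : E, x ∈ center E ↔ (x : G) ∈ Ω := fun x =>
        ⟨fun h => hER' ▸ mem_inf.mpr ⟨mem_centralizer_iff.mpr fun e he =>
          congrArg Subtype.val (mem_center_iff.mp h ⟨e, he⟩), x.2⟩,
          fun h => mem_center_iff.mpr fun y => Subtype.ext (mem_center_iff.mp (hΩc h) y)⟩
      refine isExtraspecial_of (hG.to_subgroup E) (fun hab => hCeq ?_) ?_ ?_ fun x => (hcenE _).mpr (hEp x x.2).1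
      · refine le_antisymm (fun x hx => ?_) hUC
        have h : E ⊔ U ≤ U := sup_le (fun e he => hΩU
          ((hcenE ⟨e, he⟩).mp (mem_center_iff.mpr fun y => hab.is_comm.comm _ _))) le_rfl
        exact h (hsupC x hx)
      · rw [← card_map_of_injective E.subtype_injective, show (center E).map E.subtype = Ω from ?_, hΩp]
        ext x
        constructor
        · rintro ⟨y, hy, rfl⟩; exact (hcenE y).mp hy
        · exact fun hx => ⟨⟨x, hΩE hx⟩, (hcenE _).mpr hx, rfl⟩
      · rw [_root_.commutator_def, commutator_le]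
        intro x _ y _
        exact (hcenE _).mpr (hcΩ x (hEC x.2) y (hEC y.2))
  haveI := hEn
  have hdec : ∀ g : G, ∃ e ∈ E, ∃ r ∈ R, g = e * r := fun g => by
    obtain ⟨e, he, r, hr, h⟩ := mem_sup_of_normal_left.mp (hsup ▸ mem_top g : g ∈ E ⊔ R)
    exact ⟨e, he, r, hr, h.symm⟩
  by_cases hRU : R = U
  · exact ⟨E, R, hER, hsup, hE, Or.inl (hRU ▸ hUcyc)⟩
  obtain ⟨a, ha⟩ := (Subgroup.isCyclic_iff_exists_zpowers_eq_top U).mp hUcyc
  have haU : a ∈ U := ha ▸ mem_zpowers a
  obtain ⟨n, hn⟩ := IsPGroup.iff_orderOf.mp hG a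
  have hUn : Nat.card U = p ^ n := by rw [← ha, Nat.card_zpowers, hn]
  have hmemC : ∀ r : G, r * a * r⁻¹ = a → r ∈ C := fun r hr => mem_centralizer_iff.mpr fun u hu => by
    obtain ⟨k, rfl⟩ := mem_zpowers_iff.mp (ha ▸ hu : u ∈ zpowers a)
    exact ((show Commute r a from mul_inv_eq_iff_eq_mul.mp hr).zpow_right k).eq.symm
  obtain ⟨r₁, hr₁, hr₁U⟩ := SetLike.exists_of_lt (lt_of_le_of_ne hUR (Ne.symm hRU))
  have hr₁a : r₁ * a * r₁⁻¹ ≠ a := fun h => hr₁U (hRC r₁ hr₁ (hmemC r₁ h))
  have hn2 : 2 ≤ n := by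
    by_contra hlt
    have haΩ : a ∈ Ω := ⟨haU, by
      rw [← orderOf_dvd_iff_pow_eq_one, hn]
      interval_cases n <;> simp⟩
    exact hr₁a (by rw [mem_center_iff.mp (hΩc haΩ) r₁, mul_inv_cancel_right])
  by_cases h24 : p = 2 ∧ n = 2
  · obtain ⟨h2, hn'⟩ := h24
    subst h2 hn'
    norm_num at hn
    have ha4 : a ^ (4 : ℤ) = 1 := by
      rw [show (4 : ℤ) = ((4 : ℕ) : ℤ) from rfl, zpow_natCast, ← hn, pow_orderOf_eq_one]
    have ha2 : a ^ 2 ≠ 1 := fun h => by
      have := orderOf_dvd_of_pow_eq_one h; rw [hn] at this; norm_num at this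
    have hu4 : ∀ u ∈ U, u ^ 4 = 1 := fun u hu => by
      have := congrArg Subtype.val (pow_card_eq_one' (x := (⟨u, hu⟩ : U)))
      rw [hUn] at this
      norm_num at this
      exact this
    have hact : ∀ r : G, r * a * r⁻¹ = a ∨ r * a * r⁻¹ = a⁻¹ := by
      intro r
      obtain ⟨k, hk⟩ := mem_zpowers_iff.mp (ha ▸ (normal_of_characteristic (H := U)).conj_mem a haU r :
        r * a * r⁻¹ ∈ zpowers a)
      have hk' : a ^ k = a ^ (k % 4) := by
        conv_lhs => rw [← Int.emod_add_mul_ediv k 4, zpow_add, zpow_mul, ha4, one_zpow, mul_one]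
      have h0 := Int.emod_nonneg k (show (4 : ℤ) ≠ 0 by norm_num)
      have h4 := Int.emod_lt_of_pos k (show (0 : ℤ) < 4 by norm_num)
      rw [← hk, hk']
      have hcases : k % 4 = 0 ∨ k % 4 = 1 ∨ k % 4 = 2 ∨ k % 4 = 3 := by omega
      rcases hcases with h | h | h | h
      · exfalso; rw [hk', h, zpow_zero] at hk; exact ha2 (by rw [conj_eq_one_iff.mp hk.symm, one_pow])
      · left; rw [h, zpow_one]
      · exfalso
        rw [hk', h] at hk
        have e : (r * a * r⁻¹) ^ 2 = 1 := by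
          rw [← hk, ← zpow_natCast, ← zpow_mul]; exact_mod_cast ha4
        rw [conj_pow, conj_eq_one_iff] at e
        exact ha2 e
      · right; rw [h, eq_inv_iff_mul_eq_one, ← zpow_add_one]; exact ha4
    have hUinv : ∀ r : G, r * a * r⁻¹ = a⁻¹ → ∀ u ∈ U, r * u * r⁻¹ = u⁻¹ := by
      intro r hr u hu
      obtain ⟨k, rfl⟩ := mem_zpowers_iff.mp (ha ▸ hu : u ∈ zpowers a)
      rw [← conj_zpow, hr, inv_zpow]
    have hRsq : ∀ r ∈ R, r ^ 2 ∈ Ω := by
      intro r hr
      rcases hact r with h | h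
      · have hrU := hRC r hr (hmemC r h)
        exact ⟨pow_mem hrU 2, by rw [← pow_mul]; exact hu4 r hrU⟩
      · have h2 : r ^ 2 ∈ U := hRC _ (pow_mem hr 2) (hmemC _ (by
          rw [show r ^ 2 * a * (r ^ 2)⁻¹ = r * (r * a * r⁻¹) * r⁻¹ by rw [pow_two]; group, h,
            hUinv r h _ (inv_mem haU), inv_inv]))
        refine ⟨h2, ?_⟩
        have e := hUinv r h _ h2
        rw [show r * r ^ 2 * r⁻¹ = r ^ 2 by group, eq_inv_iff_mul_eq_one, ← pow_two] at e
        exact e
    have hsq : ∀ g : G, g ^ 2 ∈ Ω := by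
      intro g
      obtain ⟨e, he, r, hr, rfl⟩ := hdec g
      rw [(show Commute e r from hER e he r hr).mul_pow]
      exact mul_mem (hEp e he) (hRsq r hr)
    have hcomm : ∀ x y : G, ⁅x, y⁆ ∈ Ω := by
      intro x y
      have e : ⁅x, y⁆ = (x * y) ^ 2 * (y⁻¹ * (x ^ 2)⁻¹ * y⁻¹⁻¹) * (y ^ 2)⁻¹ := by
        rw [commutatorElement_def, pow_two, pow_two, pow_two]; group
      rw [e]
      exact mul_mem (mul_mem (hsq _) ((normal_of_characteristic (H := Ω)).conj_mem _ (inv_mem (hsq x)) y⁻¹))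
        (inv_mem (hsq y))
    have hZΩ : ∀ z ∈ center G, z ∈ Ω := by
      intro z hz
      refine ⟨hZU hz, ?_⟩
      have h := hUinv r₁ ((hact r₁).resolve_left hr₁a) z (hZU hz)
      rw [mem_center_iff.mp hz r₁, mul_inv_cancel_right, eq_inv_iff_mul_eq_one, ← pow_two] at h
      exact h
    refine ⟨⊤, ⊥, fun e _ r hr => by rw [mem_bot.mp hr, one_mul, mul_one], top_sup_eq _, Or.inr ?_,
      Or.inl inferInstance⟩
    have hcenT : ∀ x : (⊤ : Subgroup G), x ∈ center (⊤ : Subgroup G) ↔ (x : G) ∈ Ω := fun x =>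
      ⟨fun h => hZΩ _ (mem_center_iff.mpr fun g => congrArg Subtype.val (mem_center_iff.mp h ⟨g, mem_top g⟩)),
        fun h => mem_center_iff.mpr fun y => Subtype.ext (mem_center_iff.mp (hΩc h) y)⟩
    refine isExtraspecial_of (hG.to_subgroup ⊤) ?_ ?_ ?_ fun x => (hcenT _).mpr (hsq x)
    · intro hab
      refine hr₁a ?_
      rw [show r₁ * a = a * r₁ from congrArg Subtype.val
        (hab.is_comm.comm ⟨r₁, mem_top r₁⟩ ⟨a, mem_top a⟩), mul_inv_cancel_right]
    · rw [← card_map_of_injective (⊤ : Subgroup G).subtype_injective,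
        show (center (⊤ : Subgroup G)).map (⊤ : Subgroup G).subtype = Ω from ?_]
      · refine le_antisymm hΩcard ?_
        have h1 : (⟨a ^ 2, pow_mem haU 2, by rw [← pow_mul]; exact hu4 a haU⟩ : Ω) ≠ 1 := fun h =>
          ha2 (congrArg Subtype.val h)
        haveI : Nontrivial Ω := ⟨⟨_, _, h1⟩⟩
        exact Finite.one_lt_card
      · ext x
        constructor
        · rintro ⟨y, hy, rfl⟩; exact (hcenT y).mp hy
        · exact fun hx => ⟨⟨x, mem_top x⟩, (hcenT _).mpr hx, rfl⟩
    · rw [_root_.commutator_def, commutator_le]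
      intro x _ y _
      exact (hcenT _).mpr (hcomm x y)
  -- `R` is a group with a self-centralizing cyclic normal subgroup
  haveI : U.Normal := normal_of_characteristic (H := U)
  haveI : (U.subgroupOf R).Normal := Normal.subgroupOf inferInstance R
  have hRna : ¬ IsMulCommutative R := fun h => hr₁a (by
    rw [show r₁ * a = a * r₁ from congrArg Subtype.val (h.is_comm.comm ⟨r₁, hr₁⟩ ⟨a, hUR haU⟩),
      mul_inv_cancel_right])
  have hUcyc' : IsCyclic (U.subgroupOf R) := (subgroupOfEquivOfLe hUR).isCyclic.mpr hUcyc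
  have hcR : centralizer (U.subgroupOf R : Set R) = U.subgroupOf R := by
    ext x
    rw [mem_centralizer_iff, mem_subgroupOf]
    constructor
    · exact fun h => hRC x x.2 (mem_centralizer_iff.mpr fun u hu => congrArg Subtype.val (h ⟨u, hUR hu⟩ hu))
    · exact fun h y hy => Subtype.ext (hUcomm y hy x h)
  rcases Cfsg.Agent.S3761.result (hG.to_subgroup R) hRna (U.subgroupOf R) hUcyc' n
    (by rw [Nat.card_congr (subgroupOfEquivOfLe hUR).toEquiv, hUn]) hcR with
    ⟨h2, hcard, htype⟩ | ⟨hrel, hΩab, hΩc2, -⟩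
  · refine ⟨E, R, hER, hsup, hE, Or.inr ⟨h2, ?_, htype⟩⟩
    have h3 : n ≠ 2 := fun h => h24 ⟨h2, h⟩
    calc 16 = 2 ^ (3 + 1) := by norm_num
      _ ≤ 2 ^ (n + 1) := Nat.pow_le_pow_right two_pos (by omega)
      _ = _ := hcard.symm
  exfalso
  set M := centralizer (Cfsg.powerClosure p 1 (U.subgroupOf R) : Set R)
  set Mg := centralizer ((zpowers (a ^ p) : Subgroup G) : Set G)
  haveI : (zpowers (a ^ p) : Subgroup G).Characteristic := char_of_forall _ fun φ x hx => by
    obtain ⟨k, rfl⟩ := mem_zpowers_iff.mp hx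
    obtain ⟨i, hi⟩ := mem_zpowers_iff.mp (ha ▸ mem_char U φ haU : φ a ∈ zpowers a)
    rw [map_zpow, map_pow, ← hi, ← zpow_natCast (a ^ i) p, ← zpow_mul, ← zpow_mul, ← zpow_natCast a p, mem_zpowers_iff]
    exact ⟨i * k, by rw [← zpow_mul]; congr 1; ring⟩
  have hMg : ∀ x : R, x ∈ M ↔ (x : G) ∈ Mg := by
    intro x
    simp only [M, Mg, Cfsg.powerClosure, centralizer_closure, mem_centralizer_iff, pow_one]
    constructor
    · intro h y hy
      obtain ⟨k, rfl⟩ := mem_zpowers_iff.mp hy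
      have h' : a ^ p * (x : G) = (x : G) * a ^ p :=
        congrArg Subtype.val (h ((⟨a, hUR haU⟩ : R) ^ p) ⟨⟨a, hUR haU⟩, haU, rfl⟩)
      exact (show Commute (a ^ p) (x : G) from h').zpow_left k
    · rintro h y ⟨u, hu, rfl⟩
      obtain ⟨k, hk⟩ := mem_zpowers_iff.mp (ha ▸ (mem_subgroupOf.mp hu) : (u : G) ∈ zpowers a)
      refine Subtype.ext ?_
      show (u : G) ^ p * x = x * (u : G) ^ p
      refine h _ ?_
      rw [← hk, ← zpow_natCast (a ^ k) p, ← zpow_mul, mul_comm, zpow_mul, zpow_natCast]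
      exact zpow_mem (mem_zpowers _) k
  have hCMg : C ≤ Mg := centralizer_le (by
    intro y hy
    obtain ⟨k, rfl⟩ := mem_zpowers_iff.mp hy
    exact zpow_mem (pow_mem haU p) k)
  -- a noncyclic characteristic abelian subgroup
  set q := if p = 2 then 4 else p with hq
  have hpq : p ∣ q := by rw [hq]; split_ifs with h <;> simp [h]
  have hpow1 : ∀ x : G, x ^ p = 1 → x ^ q = 1 := fun x hx => by
    obtain ⟨c, hc⟩ := hpq; rw [hc, pow_mul, hx, one_pow]
  have hEq : ∀ e ∈ E, e ^ q = 1 := by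
    intro e he
    rw [hq]
    split_ifs with h
    · have := (hEp e he).2
      subst h
      rw [← pow_mul] at this
      exact this
    · exact hEo h e he
  let S : Set G := {x | x ∈ Mg ∧ x ^ q = 1}
  haveI hKchar : (closure S).Characteristic := characteristic_iff_map_le.mpr fun φ => by
    rw [MonoidHom.map_closure]
    refine closure_mono ?_
    rintro _ ⟨x, ⟨hx1, hx2⟩, rfl⟩
    exact ⟨mem_char Mg φ hx1, (map_pow φ x q).symm.trans (by rw [hx2, map_one])⟩
  set A := closure S ⊓ centralizer ((closure S : Subgroup G) : Set G)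
  have hAcyc : IsCyclic A := hsymp A inferInstance
    (comm_subgroup fun u hu v hv => (mem_centralizer_iff.mp (mem_inf.mp hu).2 v (mem_inf.mp hv).1).symm)
  set W := Cfsg.omegaOne p M
  have hWM : W ≤ M := (closure_le _).mpr fun x hx => hx.1
  have hWA : W.map R.subtype ≤ A := by
    rintro _ ⟨w, hw, rfl⟩
    have hwp : (w : G) ^ p = 1 := congrArg Subtype.val (hΩab.2 w hw)
    refine mem_inf.mpr ⟨subset_closure ⟨(hMg w).mp (hWM hw), hpow1 _ hwp⟩, ?_⟩
    rw [centralizer_closure, mem_centralizer_iff]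
    rintro x ⟨hxM, hxq⟩
    obtain ⟨e, he, r, hr, rfl⟩ := hdec x
    have hrM : (⟨r, hr⟩ : R) ∈ M := (hMg _).mpr (by
      have := mul_mem (inv_mem (hCMg (hEC he))) hxM
      rwa [inv_mul_cancel_left] at this)
    have hrq : r ^ q = 1 := by
      rwa [(show Commute e r from hER e he r hr).mul_pow, hEq e he, one_mul] at hxq
    have hce : Commute e (w : G) := hER e he w w.2
    refine (hce.mul_left ?_).eq
    rcases eq_or_ne p 2 with h2 | h2
    · -- `p = 2`
      subst h2
      have hn3 : 3 ≤ n := by omega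
      rw [hq, if_pos rfl] at hrq
      -- elements of `U` of order at most four are squares in `U`
      have hfour : ∀ u ∈ U, u ^ 4 = 1 → ∃ v ∈ zpowers (a ^ 2), v = u := by
        intro u hu h4
        obtain ⟨k, rfl⟩ := mem_zpowers_iff.mp (ha ▸ hu : u ∈ zpowers a)
        rw [← zpow_natCast, ← zpow_mul, ← orderOf_dvd_iff_zpow_eq_one, hn] at h4
        push_cast at h4
        obtain ⟨j, rfl⟩ : ∃ j, n = j + 3 := ⟨n - 3, by omega⟩
        have h2k : (2 : ℤ) ∣ k := by
          rw [show (2 : ℤ) ^ (j + 3) = 2 ^ (j + 1) * 4 by ring] at h4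
          exact (dvd_pow_self (2 : ℤ) (show j + 1 ≠ 0 by omega)).trans
            ((mul_dvd_mul_iff_right (show (4 : ℤ) ≠ 0 by norm_num)).mp h4)
        obtain ⟨l, rfl⟩ := h2k
        exact ⟨_, zpow_mem (mem_zpowers _) l, by rw [← zpow_natCast, ← zpow_mul]; norm_num⟩
      have hcU' : ∀ u ∈ U, u ^ 4 = 1 → Commute u (w : G) := by
        intro u hu h4
        obtain ⟨v, hv, rfl⟩ := hfour u hu h4
        exact mem_centralizer_iff.mp ((hMg w).mp (hWM hw)) v hv
      by_cases hrU : r ∈ U
      · exact hcU' r hrU hrq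
      by_cases hwU : (w : G) ∈ U
      · exact mem_center_iff.mp (hΩc ⟨hwU, hwp⟩) r
      have hmem : r * (w : G) ∈ U := by
        have h := (Subgroup.mul_mem_iff_of_index_two (H := (U.subgroupOf R).subgroupOf M) hrel
          (a := ⟨⟨r, hr⟩, hrM⟩) (b := ⟨w, hWM hw⟩)).mpr
          ⟨fun h => absurd (mem_subgroupOf.mp (mem_subgroupOf.mp h)) hrU,
            fun h => absurd (mem_subgroupOf.mp (mem_subgroupOf.mp h)) hwU⟩
        exact mem_subgroupOf.mp (mem_subgroupOf.mp h)
      set u := r * (w : G) with hu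
      have hwi : (w : G)⁻¹ = w := inv_eq_of_mul_eq_one_right (by rw [← pow_two]; exact hwp)
      have hru : r = u * (w : G) := by
        nth_rw 1 [← hwi]
        rw [hu, mul_inv_cancel_right]
      set v := (w : G) * u * (w : G)⁻¹ with hv
      have hvU : v ∈ U := (normal_of_characteristic (H := U)).conj_mem u hmem w
      have huv : Commute u v := hUcomm u hmem v hvU
      have hv2 : v ^ 2 = u ^ 2 := by
        rw [hv, conj_pow]
        obtain ⟨k, hk⟩ := mem_zpowers_iff.mp (ha ▸ hmem : u ∈ zpowers a)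
        have hu2 : u ^ 2 ∈ zpowers (a ^ 2) := by
          rw [← hk, ← zpow_natCast (a ^ k) 2, ← zpow_mul, mul_comm, zpow_mul, zpow_natCast]
          exact zpow_mem (mem_zpowers _) k
        rw [← mem_centralizer_iff.mp ((hMg w).mp (hWM hw)) _ hu2, mul_inv_cancel_right]
      have hr4 : u ^ 4 = 1 := by
        have e : r ^ 2 = u * v := by rw [hru, hv, hwi, pow_two]; simp only [mul_assoc]
        calc u ^ 4 = u ^ 2 * v ^ 2 := by rw [hv2, ← pow_add]
          _ = (u * v) ^ 2 := (huv.mul_pow 2).symm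
          _ = r ^ 4 := by rw [← e, ← pow_mul]
          _ = 1 := hrq
      rw [hru]
      exact (hcU' u hmem hr4).mul_left (Commute.refl _)
    · rw [hq, if_neg h2] at hrq
      have hrW : (⟨r, hr⟩ : R) ∈ W := subset_closure ⟨hrM, Subtype.ext hrq⟩
      exact congrArg Subtype.val (congrArg Subtype.val (hΩab.1.is_comm.comm ⟨⟨r, hr⟩, hrW⟩ ⟨w, hw⟩))
  have hle : Nat.card ↥(W.map R.subtype) ≤ p :=
    card_le_of_cyclic_exp _ (isCyclic_of_injective (inclusion hWA) (inclusion_injective _))
      (by rintro _ ⟨w, hw, rfl⟩; exact congrArg Subtype.val (hΩab.2 w hw))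
  rw [card_map_of_injective R.subtype_injective, hΩc2] at hle
  have := Nat.le_of_mul_le_mul_left (hle.trans (mul_one p).ge |> fun h => (pow_two p ▸ h : p * p ≤ p * 1)) hp.pos
  exact absurd hp.one_lt (by omega)

/-- Let G be a finite p-group of symplectic type: every characteristic abelian subgroup of G is cyclic. Then G = E ∗ R is a central product of subgroups E and R (they commute elementwise and generate G) where E is extraspecial or trivial, and R is cyclic, or p = 2 and R is dihedral, semidihedral or generalized quaternion of order at least 16. -/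
theorem result {G : Type*} [Group G] [Finite G] {p : ℕ} [Fact p.Prime] (hG : IsPGroup p G) (hsymp : ∀ A : Subgroup G, A.Characteristic → IsMulCommutative A → IsCyclic A) : ∃ E R : Subgroup G, (∀ e ∈ E, ∀ r ∈ R, e * r = r * e) ∧ E ⊔ R = ⊤ ∧ (E = ⊥ ∨ Cfsg.IsExtraspecial p ↥E) ∧ (IsCyclic R ∨ (p = 2 ∧ 16 ≤ Nat.card R ∧ ((∃ m : ℕ, Nonempty (↥R ≃* DihedralGroup m)) ∨ (∃ m : ℕ, Nonempty (↥R ≃* QuaternionGroup m)) ∨ Cfsg.IsQuasiDihedral ↥R))) := by
  exact main hG hsymp

end Cfsg.Agent.S3762
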