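import Cfsg.Statements.S3740
import Mathlib
import Cfsg.Agent.Lib.Classical.SL2Structure
import Cfsg.Agent.Lib.Classical.SL2Sylow
import Cfsg.Agent.Lib.Core.UniqueOrderP
import Cfsg.Agent.S3762

set_option autoImplicit false
open Cfsg

namespace Cfsg.Agent.S3740

set_option linter.style.haveILetI false
set_option linter.unusedSectionVars false
open scoped commutatorElement Classical MatrixGroups

open Subgroup CfsgLib.PLocal.SLTwo CfsgLib.Classical

section facts

variable {F : Type*} [Field F] [Fintype F] {p : ℕ} [Fact p.Prime] [CharP F p]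

theorem eq_one_of_pow_char {y : SL(2, F)} (h : y ^ p = 1) (hy : (orderOf y).Coprime p) : y = 1 :=
  orderOf_eq_one_iff.mp ((Nat.Coprime.eq_one_of_dvd hy) (orderOf_dvd_of_pow_eq_one h))

theorem tr_sq_ne {y : SL(2, F)} (hy : (orderOf y).Coprime p) (h1 : y ≠ 1) (h2 : y ≠ -1) : tr y ^ 2 ≠ 4 := by
  intro h
  rcases mul_eq_zero.mp (show (tr y - 2) * (tr y + 2) = 0 by linear_combination h) with h' | h'
  · exact h1 (eq_one_of_pow_char (pow_p_of_trace_two (p := p) (sub_eq_zero.mp h')) hy)
  · have hneg : tr (-y) = 2 := by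
      simp only [tr, neg_entry] at h' ⊢
      linear_combination (-1 : F) * h'
    have hsq : (y ^ 2) ^ p = 1 := by
      rw [← neg_sq y, ← pow_mul, mul_comm, pow_mul, pow_p_of_trace_two (p := p) hneg, one_pow]
    have hy2 : y ^ 2 = 1 := eq_one_of_pow_char hsq (Nat.Coprime.coprime_dvd_left (orderOf_pow_dvd 2) hy)
    rcases eq_or_ne p 2 with hp | hp
    · subst hp
      have : y = -y := by refine ext2 ?_ ?_ ?_ ?_ <;> simp [neg_entry, CharTwo.neg_eq]
      exact h1 (eq_one_of_pow_char hy2 hy)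
    · rcases Two.eq_one_or_neg_one_of_sq (Two.two_ne_zero_of_char (p := p) hp) y (by rw [← pow_two]; exact hy2) with e | e
      · exact h1 (Subtype.ext e)
      · exact h2 (Subtype.ext e)

theorem eq_of_commute_conj (hp : p ≠ 2) {a y : SL(2, F)} (ha : a ^ p = 1) (ha1 : a ≠ 1)
    (hy : (orderOf y).Coprime p) (h : y * (a * y * a⁻¹) = a * y * a⁻¹ * y) : y = 1 ∨ y = -1 := by
  by_contra hcon
  push Not at hcon
  obtain ⟨h1, h2⟩ := hcon
  have h2' : (2 : F) ≠ 0 := Two.two_ne_zero_of_char (p := p) hp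
  have hns : NonScalar y := by
    by_contra hc
    exact (scalar_cases hc).elim h1 h2
  have hd := tr_sq_ne hy h1 h2
  obtain ⟨k, hk⟩ := ((Fact.out : p.Prime).odd_of_ne_two hp)
  have hay : a * y = y * a := by
    have hinv2 : a ^ 2 * y * (a ^ 2)⁻¹ = y := by
      rcases eq_or_eq_inv h2' hns hd h (tr_conj y a) with e | e
      · rw [show a ^ 2 * y * (a ^ 2)⁻¹ = a * (a * y * a⁻¹) * a⁻¹ by rw [pow_two]; group, e, e]
      · rw [show a ^ 2 * y * (a ^ 2)⁻¹ = a * (a * y * a⁻¹) * a⁻¹ by rw [pow_two]; group, e, ← conj_inv, e, inv_inv]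
    have hcm : Commute (a ^ 2) y := mul_inv_eq_iff_eq_mul.mp hinv2
    have e : a = (a ^ 2) ^ (k + 1) := by
      rw [← pow_mul, show 2 * (k + 1) = p + 1 by omega, pow_succ, ha, one_mul]
    rw [e]
    exact (hcm.pow_left _).eq
  have hna : NonScalar a := by
    by_contra hc
    rcases scalar_cases hc with e | e
    · exact ha1 e
    · rw [e, hk, pow_succ, pow_mul, CfsgLib.PLocal.SLTwo.neg_one_sq, one_pow, one_mul] at ha
      exact Two.neg_one_ne_one_SL h2' ha
  have hta : tr a = 2 := tr_eq_two_of_pow_p ha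
  obtain ⟨α, β, e00, e01, e10, e11⟩ := exists_affine hna hay
  have hdy := det2 y
  have hda := det2 a
  rw [e00, e01, e10, e11] at hdy
  simp only [tr] at hta hd
  rw [e00, e11] at hd
  exact hd (by linear_combination 4 * hdy - 4 * α ^ 2 * hda
    + (α ^ 2 * (a.1 0 0 + a.1 1 1 + 2)) * hta)

end facts

theorem main (F : Type) [Field F] [Fintype F] {p : ℕ} [Fact p.Prime] [CharP F p] (hp : p ≠ 2) (a : SL(2, F))
    (ha : IsPGroup p ↥(Subgroup.zpowers a)) (R : Subgroup SL(2, F)) (hR : (Nat.card R).Coprime p)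
    (haR : a ∈ Subgroup.normalizer (R : Set SL(2, F))) (hnt : ⁅R, Subgroup.zpowers a⁆ ≠ ⊥) :
    p = 3 ∧ Nonempty (↥R ≃* QuaternionGroup 2) ∧ Nonempty (↥(R ⊔ Subgroup.zpowers a) ≃* SL(2, ZMod 3)) := by
  have hpp := (Fact.out : p.Prime)
  have h2' : (2 : F) ≠ 0 := Two.two_ne_zero_of_char (p := p) hp
  obtain ⟨ka, hka⟩ := ha ⟨a, mem_zpowers a⟩
  have htr : tr a = 2 := Two.tr_eq_two_of_pow (p := p) (k := ka) (congrArg Subtype.val hka)
  have hap : a ^ p = 1 := pow_p_of_trace_two htr
  have hnorm : ∀ r ∈ R, a * r * a⁻¹ ∈ R := fun r hr => (mem_normalizer_iff.mp haR r).mp hr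
  have ha1 : a ≠ 1 := fun h => hnt (by rw [h, zpowers_one_eq_bot, commutator_bot_right])
  have hcopR : ∀ r ∈ R, (orderOf r).Coprime p := fun r hr =>
    Nat.Coprime.coprime_dvd_left (R.orderOf_dvd_natCard hr) hR
  have hkey : ∀ y ∈ R, y * (a * y * a⁻¹) = a * y * a⁻¹ * y → y = 1 ∨ y = -1 := fun y hy =>
    eq_of_commute_conj hp hap ha1 (hcopR y hy)
  -- two non-commuting `p`-elements
  set A := zpowers a with hA
  set H := R ⊔ A with hH
  have haH : a ∈ H := mem_sup_right (mem_zpowers a)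
  have hRH : R ≤ H := le_sup_left
  obtain ⟨r, hr, hne⟩ : ∃ r ∈ R, a * (r * a * r⁻¹) ≠ r * a * r⁻¹ * a := by
    by_contra hall
    push Not at hall
    refine hnt ?_
    rw [eq_bot_iff, commutator_le]
    intro r hr x hx
    rw [mem_bot, commutatorElement_eq_one_iff_mul_comm]
    obtain ⟨m, rfl⟩ := mem_zpowers_iff.mp hx
    have hc : Commute (r * a * r⁻¹) a⁻¹ := (show Commute (r * a * r⁻¹) a from (hall r hr).symm).inv_right
    have hw : r * a * r⁻¹ * a⁻¹ ∈ R := by
      rw [show r * a * r⁻¹ * a⁻¹ = r * (a * r⁻¹ * a⁻¹) by group]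
      exact mul_mem hr (hnorm _ (inv_mem hr))
    have hwp : (r * a * r⁻¹ * a⁻¹) ^ p = 1 := by
      rw [hc.mul_pow, conj_pow, inv_pow, hap, mul_one, mul_inv_cancel, inv_one, one_mul]
    have h1 := eq_one_of_pow_char hwp (hcopR _ hw)
    have : Commute r a := mul_inv_eq_iff_eq_mul.mp (mul_inv_eq_one.mp h1)
    exact (this.zpow_right m).eq
  obtain ⟨ψ, hψ, hψH⟩ := exists_hom_SLTwo hp H haH
    (mul_mem (mul_mem (hRH hr) haH) (inv_mem (hRH hr))) htr ((tr_conj a r).trans htr) hne
  -- the quotient `H / R`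
  have hRn : (R.subgroupOf H).Normal := by
    refine normal_subgroupOf_iff_le_normalizer hRH |>.mpr (sup_le le_normalizer ?_)
    exact zpowers_le.mpr haR
  let ψ' : SL(2, ZMod p) →* H := ψ.codRestrict H fun x => hψH ⟨x, rfl⟩
  have hquot : ∀ x : H ⧸ R.subgroupOf H, x ∈ zpowers ((⟨a, haH⟩ : H) : H ⧸ R.subgroupOf H) := by
    intro x
    induction x using QuotientGroup.induction_on with
    | H y =>
      have hy : (y : SL(2, F)) ∈ ((zpowers a ⊔ R : Subgroup SL(2, F)) : Set SL(2, F)) := by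
        rw [sup_comm]; exact y.2
      rw [coe_mul_of_left_le_normalizer_right _ _ (zpowers_le.mpr haR)] at hy
      obtain ⟨u, hu, v, hv, huv⟩ := hy
      obtain ⟨m, rfl⟩ := mem_zpowers_iff.mp hu
      refine mem_zpowers_iff.mpr ⟨m, ?_⟩
      rw [← QuotientGroup.mk_zpow, QuotientGroup.eq, mem_subgroupOf]
      push_cast
      rw [← huv]
      simpa using hv
  have hcomm : ∀ x y : H ⧸ R.subgroupOf H, x * y = y * x := by
    intro x y
    obtain ⟨i, rfl⟩ := mem_zpowers_iff.mp (hquot x)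
    obtain ⟨j, rfl⟩ := mem_zpowers_iff.mp (hquot y)
    exact ((Commute.refl _).zpow_zpow i j).eq
  have hpq : ∀ x : H ⧸ R.subgroupOf H, x ^ p = 1 := by
    intro x
    obtain ⟨i, rfl⟩ := mem_zpowers_iff.mp (hquot x)
    rw [← zpow_natCast, ← zpow_mul, mul_comm, zpow_mul, zpow_natCast, ← QuotientGroup.mk_pow,
      show (⟨a, haH⟩ : H) ^ p = 1 from Subtype.ext hap, QuotientGroup.mk_one, one_zpow]
  set π := (QuotientGroup.mk' (R.subgroupOf H)).comp ψ' with hπ
  have hmemR : ∀ x, π x = 1 → ψ x ∈ R := fun x hx => mem_subgroupOf.mp ((QuotientGroup.eq_one_iff _).mp hx)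
  have hp3 : p = 3 := by
    have h2p : (2 : ZMod p) ≠ 0 := Two.two_ne_zero_of_char (p := p) hp
    let d : SL(2, ZMod p) := ⟨!![2, 0; 0, 2⁻¹], by simp [Matrix.det_fin_two_of, h2p]⟩
    have d00 : d.1 0 0 = 2 := rfl
    have d01 : d.1 0 1 = 0 := rfl
    have d10 : d.1 1 0 = 0 := rfl
    have d11 : d.1 1 1 = 2⁻¹ := rfl
    have hd : d * U 1 = U 4 * d := by
      refine ext2 ?_ ?_ ?_ ?_ <;> simp [m00, m01, m10, m11, d00, d01, d10, d11]
      field_simp
      norm_num
    have h4 : π (U 4) = π (U 1) := by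
      have := congrArg π hd
      rw [map_mul, map_mul, hcomm (π d)] at this
      exact (mul_right_cancel this).symm
    have h3 : π (U 3) = 1 := by
      have : π (U 3) * π (U 1) = 1 * π (U 1) := by rw [← map_mul, U_mul, one_mul, ← h4]; norm_num
      exact mul_right_cancel this
    have hψ3 : ψ (U 3) = 1 := eq_one_of_pow_char
      (by rw [← map_pow, U_pow, ZMod.natCast_self, zero_mul, U_zero, map_one]) (hcopR _ (hmemR _ h3))
    have h30 : (3 : ZMod p) = 0 := U_injective ((hψ (hψ3.trans (map_one ψ).symm)).trans U_zero.symm)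
    exact (Nat.prime_dvd_prime_iff_eq hpp Nat.prime_three).mp ((ZMod.natCast_eq_zero_iff 3 p).mp (by exact_mod_cast h30))
  subst hp3
  refine ⟨rfl, ?_⟩
  obtain ⟨i, j, hi, hj, -, hij⟩ := exists_quaternion (p := 3) hp
  have hin : ∀ x : SL(2, ZMod 3), x ^ 2 = -1 → ψ x ∈ R := by
    intro x hx
    refine hmemR x ?_
    have h4 : π x ^ 4 = 1 := by
      rw [← map_pow, show x ^ 4 = (x ^ 2) ^ 2 by rw [← pow_mul], hx, CfsgLib.PLocal.SLTwo.neg_one_sq, map_one]
    calc π x = π x ^ 4 := by rw [pow_succ, hpq, one_mul]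
      _ = 1 := h4
  have hneg : (-1 : SL(2, F)) ∈ R := by
    have h : orderOf (ψ (-1)) = 2 := by
      rw [orderOf_injective ψ hψ]
      exact orderOf_eq_prime CfsgLib.PLocal.SLTwo.neg_one_sq (Two.neg_one_ne_one_SL (Two.two_ne_zero_of_char (p := 3) hp))
    rw [← Two.eq_neg_one_of_orderOf_two h2' h, ← hi, map_pow]
    exact pow_mem (hin i hi) 2
  -- `R` is a `2`-group
  let φ : MulAut R := R.normalizerMonoidHom ⟨a, haR⟩
  have hφ : ∀ x : R, ((φ x : R) : SL(2, F)) = a * x * a⁻¹ := fun x => rfl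
  have hR2 : IsPGroup 2 R := by
    refine IsPGroup.of_card (Nat.eq_prime_pow_of_unique_prime_dvd Nat.card_pos.ne' ?_)
    intro s hs hsR
    haveI := Fact.mk hs
    by_contra hs2
    let φA : zpowers a →* MulAut R := R.normalizerMonoidHom.comp (Subgroup.inclusion (zpowers_le.mpr haR))
    letI : MulDistribMulAction (zpowers a) R := MulDistribMulAction.compHom R φA
    have hndvd : ¬ 3 ∣ Nat.card (Sylow s R) := fun h3 => by
      obtain ⟨S₀⟩ := (inferInstance : Nonempty (Sylow s R))
      have h := ((Sylow.card_dvd_index S₀).trans (Subgroup.index_dvd_card _))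
      have := Nat.Coprime.coprime_dvd_left (h3.trans h) hR
      norm_num at this
    obtain ⟨S, hS⟩ := ha.nonempty_fixed_point_of_prime_not_dvd_card (Sylow s R) hndvd
    have hSa : ∀ x ∈ (S : Subgroup R), φ x ∈ (S : Subgroup R) := by
      intro x hx
      have h := congrArg (fun T : Sylow s R => (T : Subgroup R)) (hS ⟨a, mem_zpowers a⟩)
      simp only [Sylow.pointwise_smul_def] at h
      rw [← h]
      exact Subgroup.smul_mem_pointwise_smul x _ _ hx
    have hS1 : (S : Subgroup R) ≠ ⊥ := S.ne_bot_of_dvd_card hsR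
    haveI : Nontrivial (S : Subgroup R) := (Subgroup.nontrivial_iff_ne_bot _).mpr hS1
    haveI := S.isPGroup'.center_nontrivial
    obtain ⟨⟨x, hx⟩, hx1⟩ := exists_ne (1 : Subgroup.center (S : Subgroup R))
    have hc : (x : R) * φ x = φ x * x :=
      (congrArg Subtype.val (mem_center_iff.mp hx ⟨φ x, hSa x x.2⟩)).symm
    obtain ⟨k, hk⟩ := IsPGroup.iff_orderOf.mp S.isPGroup' x
    rcases hkey _ (x : R).2 (by rw [← hφ]; exact congrArg Subtype.val hc) with h | h
    · exact hx1 (Subtype.ext (Subtype.ext (Subtype.ext h)))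
    · have h2 : orderOf x = 2 := by
        rw [← Subgroup.orderOf_coe, ← Subgroup.orderOf_coe, h]
        exact orderOf_eq_prime CfsgLib.PLocal.SLTwo.neg_one_sq (Two.neg_one_ne_one_SL h2')
      rw [hk] at h2
      have : s ∣ 2 := h2 ▸ dvd_pow_self s (fun h0 => by rw [h0, pow_zero] at h2; omega)
      exact hs2 ((Nat.prime_dvd_prime_iff_eq hs Nat.prime_two).mp this)
  -- `R` is extraspecial
  have hnegc : (⟨-1, hneg⟩ : R) ∈ center R :=
    mem_center_iff.mpr fun y => Subtype.ext (show (y : SL(2, F)) * -1 = -1 * y by rw [mul_neg_one, neg_one_mul])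
  have hab : ∀ B : Subgroup R, B.Characteristic → IsMulCommutative B → center R ≤ B → B = center R := by
    intro B hB hBc hle
    refine le_antisymm (fun x hx => ?_) hle
    have hx' : φ x ∈ B := Cfsg.Agent.S3762.mem_char B (hH := hB) φ hx
    have hc := congrArg Subtype.val (hBc.is_comm.comm ⟨x, hx⟩ ⟨φ x, hx'⟩)
    rcases hkey _ x.2 (by rw [← hφ]; exact congrArg Subtype.val hc) with h | h
    · rw [show x = 1 from Subtype.ext h]; exact one_mem _
    · rw [show x = ⟨-1, hneg⟩ from Subtype.ext h]; exact hnegc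
  obtain ⟨-, hsqc, -⟩ := Cfsg.Agent.S3762.class_two hR2 hab
  have hnab : ¬ ∀ x y : R, x * y = y * x := fun h => hij (hψ (by
    rw [map_mul, map_mul]
    exact congrArg Subtype.val (h ⟨ψ i, hin i hi⟩ ⟨ψ j, hin j hj⟩)))
  have huniq : ∀ K L : Subgroup R, Nat.card K = 2 → Nat.card L = 2 → K = L := fun K L hK hL =>
    Two.subgroup_two_unique h2' R.subtype Subtype.val_injective hK hL
  rcases CfsgLib.Core.UniqueOrderP.isCyclic_or_quaternion_of_unique hR2 huniq with hcyc | ⟨-, n, ⟨e⟩⟩
  · exact absurd (fun x y => (IsCyclic.commGroup (α := R)).mul_comm x y) hnab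
  have hn : n = 1 := by
    rcases Nat.eq_zero_or_pos n with h0 | h0
    · subst h0
      refine absurd (fun x y => e.injective ?_) hnab
      rw [map_mul, map_mul]
      have : ∀ u v : QuaternionGroup (2 ^ 0), u * v = v * u := by decide
      exact this _ _
    · have h := mem_center_iff.mp (hsqc (e.symm (.a 1))) (e.symm (.xa 0))
      apply_fun e at h
      simp only [map_mul, MulEquiv.apply_symm_apply, pow_two, QuaternionGroup.a_mul_a,
        QuaternionGroup.xa_mul_a, QuaternionGroup.a_mul_xa, QuaternionGroup.xa.injEq] at h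
      have h4 : ((4 : ℕ) : ZMod (2 * 2 ^ n)) = 0 := by push_cast; linear_combination h
      rw [ZMod.natCast_eq_zero_iff, ← pow_succ'] at h4
      have := (Nat.pow_dvd_pow_iff_le_right (show 1 < 2 by norm_num) (l := 2)).mp (by simpa using h4)
      omega
  subst hn
  refine ⟨⟨e⟩, ?_⟩
  have hcardR : Nat.card R = 8 := by
    rw [Nat.card_congr e.toEquiv, Nat.card_eq_fintype_card, QuaternionGroup.card]; norm_num
  have hcardH : Nat.card H ≤ 24 := by
    have h1 : R.relIndex A * Nat.card R = Nat.card H := by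
      haveI := hRn
      rw [mul_comm, ← Nat.card_congr (subgroupOfEquivOfLe hRH).toEquiv]
      have hrel : R.relIndex A ≥ (R.subgroupOf H).index := by
        rw [Subgroup.index, Subgroup.relIndex, Subgroup.index]
        refine Nat.card_le_card_of_surjective (Quotient.map' (Subgroup.inclusion (le_sup_right : A ≤ H))
          fun x y h => ?_) ?_
        · rw [QuotientGroup.leftRel_apply] at h ⊢
          simpa [mem_subgroupOf] using h
        · intro x
          obtain ⟨m, hm⟩ := mem_zpowers_iff.mp (hquot x)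
          exact ⟨((⟨a, mem_zpowers a⟩ : A) ^ m : A), hm⟩
      have hrel' : R.relIndex A ≤ (R.subgroupOf H).index := by
        have := relIndex_le_of_le_right (H := R) (le_sup_right : A ≤ H)
          (by rw [Subgroup.relIndex]; exact index_ne_zero_of_finite)
        exact this
      rw [le_antisymm hrel' hrel, (R.subgroupOf H).card_mul_index]
    have h2 : R.relIndex A ≤ 3 := by
      refine le_trans (Nat.le_of_dvd Nat.card_pos (R.relIndex_dvd_card A)) ?_
      rw [hA, Nat.card_zpowers]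
      exact Nat.le_of_dvd (by norm_num) (orderOf_dvd_of_pow_eq_one hap)
    rw [← h1, hcardR]; omega
  have hr : Nat.card ψ.range = 24 := by
    rw [← Nat.card_congr (MonoidHom.ofInjective hψ).toEquiv, Two.card_SL_two, ZMod.card]; norm_num
  have heq : ψ.range = H := eq_of_le_of_card_ge hψH (by rw [hr]; exact hcardH)
  exact ⟨((MonoidHom.ofInjective hψ).trans (MulEquiv.subgroupCongr heq)).symm⟩

/-- Let F be a finite field of odd characteristic p and let a be a p-element of SL₂(F) normalizing a subgroup R of order prime to p with [R, a] ≠ 1. Then p = 3, R is a quaternion group of order 8, and R⟨a⟩ is isomorphic to SL₂(3). -/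
theorem result (F : Type) [Field F] [Fintype F] {p : ℕ} [Fact p.Prime] [CharP F p] (hp : p ≠ 2) (a : Matrix.SpecialLinearGroup (Fin 2) F) (ha : IsPGroup p ↥(Subgroup.zpowers a)) (R : Subgroup (Matrix.SpecialLinearGroup (Fin 2) F)) (hR : (Nat.card R).Coprime p) (haR : a ∈ Subgroup.normalizer (R : Set (Matrix.SpecialLinearGroup (Fin 2) F))) (hnt : ⁅R, Subgroup.zpowers a⁆ ≠ ⊥) : p = 3 ∧ Nonempty (↥R ≃* QuaternionGroup 2) ∧ Nonempty (↥(R ⊔ Subgroup.zpowers a) ≃* Matrix.SpecialLinearGroup (Fin 2) (ZMod 3)) := by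
  exact main F hp a ha R hR haR hnt

end Cfsg.Agent.S3740
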