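import Cfsg.Statements.S3741
import Mathlib
import Cfsg.Agent.Lib.PGroups.MaxAbelian
import Cfsg.Agent.Lib.PGroups.Extraspecial

set_option autoImplicit false
open Cfsg

namespace Cfsg.Agent.S3741

open CfsgLib.PGroups
open scoped commutatorElement

theorem half {G : Type*} [Group G] [Finite G] {p : ℕ} [hp : Fact p.Prime] (hG : IsPGroup p G)
    (A B : Subgroup G) (hAB : ⁅A, B⁆ ≤ A ⊓ B) (hcard : Nat.card ↥⁅A, B⁆ ≤ p) :
    (A ⊓ Subgroup.centralizer (B : Set G)).relIndex A ≤
      (B ⊓ Subgroup.centralizer (A : Set G)).relIndex B := by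
  set C := ⁅A, B⁆ with hC
  -- `C` commutes with `A ⊔ B`
  have hCU : C ≤ A ⊔ B := hAB.trans (inf_le_left.trans le_sup_left)
  have hcen : ∀ c ∈ C, ∀ h ∈ A ⊔ B, h * c = c * h := by
    intro c hc h hh
    rcases (hG.to_subgroup C).card_eq_or_dvd with h1 | h1
    · have : c ∈ (⊥ : Subgroup G) := by rw [← Subgroup.card_eq_one.mp h1]; exact hc
      rw [Subgroup.mem_bot] at this; simp [this]
    have hCc : Nat.card C = p := le_antisymm hcard (Nat.le_of_dvd Nat.card_pos h1)
    haveI : (C.subgroupOf (A ⊔ B)).Normal := Subgroup.normal_subgroupOf_commutator_sup A B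
    have hle := le_center_of_card_prime (hG.to_subgroup (A ⊔ B)) (N := C.subgroupOf (A ⊔ B))
      ((Nat.card_congr (Subgroup.subgroupOfEquivOfLe hCU).toEquiv).trans hCc)
    have := Subgroup.mem_center_iff.mp (hle (show (⟨c, hCU hc⟩ : ↥(A ⊔ B)) ∈ _ from hc)) ⟨h, hh⟩
    exact congrArg Subtype.val this
  -- one step
  have step : ∀ (B' : Subgroup G) (b : G), b ∈ B →
      (A ⊓ Subgroup.centralizer ((B' ⊔ Subgroup.zpowers b : Subgroup G) : Set G)).relIndex A ≤
        p * (A ⊓ Subgroup.centralizer (B' : Set G)).relIndex A := by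
    intro B' b hb
    set A' := A ⊓ Subgroup.centralizer (B' : Set G) with hA'
    have hEq : A ⊓ Subgroup.centralizer ((B' ⊔ Subgroup.zpowers b : Subgroup G) : Set G) =
        A' ⊓ Subgroup.centralizer ({b} : Set G) := by
      apply le_antisymm
      · rintro x ⟨hxA, hx⟩
        refine ⟨⟨hxA, fun y hy => hx y (Subgroup.mem_sup_left hy)⟩, ?_⟩
        refine Subgroup.mem_centralizer_singleton_iff.mpr ?_
        exact (hx b (Subgroup.mem_sup_right (Subgroup.mem_zpowers b))).symm
      · refine le_inf (inf_le_left.trans inf_le_left) ?_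
        rw [Subgroup.le_centralizer_iff, sup_le_iff, Subgroup.zpowers_le]
        refine ⟨fun y hy => Subgroup.mem_centralizer_iff.mpr fun x hx => (hx.1.2 y hy).symm,
          Subgroup.mem_centralizer_iff.mpr fun x hx => ?_⟩
        exact Subgroup.mem_centralizer_singleton_iff.mp hx.2
    rw [hEq, ← Subgroup.relIndex_mul_relIndex _ A' A inf_le_left inf_le_left]
    refine Nat.mul_le_mul_right _ ?_
    let φ : A' →* G :=
      { toFun := fun a => ⁅(a : G), b⁆
        map_one' := commutatorElement_one_left b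
        map_mul' := fun x y => by
          have hmem : ∀ z : A', ⁅(z : G), b⁆ ∈ C := fun z =>
            Subgroup.commutator_mem_commutator z.2.1 hb
          have h1 : ⁅((x * y : A') : G), b⁆ = (x : G) * ⁅(y : G), b⁆ * (x : G)⁻¹ * ⁅(x : G), b⁆ := by
            simp only [Subgroup.coe_mul, commutatorElement_def]; group
          rw [h1, hcen _ (hmem y) x (Subgroup.mem_sup_left x.2.1), mul_inv_cancel_right]
          exact (hcen _ (hmem y) _ (hCU (hmem x))).symm }
    have hker : φ.ker = (A' ⊓ Subgroup.centralizer ({b} : Set G)).subgroupOf A' := by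
      ext a
      simp [φ, Subgroup.mem_subgroupOf, Subgroup.mem_centralizer_singleton_iff,
        commutatorElement_eq_one_iff_mul_comm]
    rw [Subgroup.relIndex, ← hker, Subgroup.index_ker]
    refine le_trans (Subgroup.card_le_of_le ?_) hcard
    rintro _ ⟨a, rfl⟩
    exact Subgroup.commutator_mem_commutator a.2.1 hb
  set B₀ := B ⊓ Subgroup.centralizer (A : Set G) with hB₀
  have main : ∀ B' : Subgroup G, B₀ ≤ B' → B' ≤ B →
      (A ⊓ Subgroup.centralizer (B : Set G)).relIndex A * Nat.card B' ≤
        (A ⊓ Subgroup.centralizer (B' : Set G)).relIndex A * Nat.card B := by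
    intro B' h0 h1
    induction hd : Nat.card B - Nat.card B' using Nat.strong_induction_on generalizing B' with
    | _ d ih =>
      rcases eq_or_lt_of_le h1 with rfl | hlt
      · rfl
      obtain ⟨b, hbB, hb⟩ := SetLike.exists_of_lt hlt
      have hlt2 : B' < B' ⊔ Subgroup.zpowers b := lt_of_le_of_ne le_sup_left
        (fun h => hb (h ▸ Subgroup.mem_sup_right (Subgroup.mem_zpowers b)))
      have h2 : B' ⊔ Subgroup.zpowers b ≤ B := sup_le h1 (Subgroup.zpowers_le.mpr hbB)
      have hp2 := mul_card_le_of_lt (hG.to_subgroup (B' ⊔ Subgroup.zpowers b)) (p := p) hlt2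
      have hle := Subgroup.card_le_of_le h2
      have := ih _ (by
        have : 1 * Nat.card B' < p * Nat.card B' :=
          Nat.mul_lt_mul_of_pos_right hp.out.one_lt Nat.card_pos
        omega) _ (h0.trans le_sup_left) h2 rfl
      refine Nat.le_of_mul_le_mul_left ?_ hp.out.pos
      calc p * ((A ⊓ Subgroup.centralizer (B : Set G)).relIndex A * Nat.card B')
          = (A ⊓ Subgroup.centralizer (B : Set G)).relIndex A * (p * Nat.card B') := by ring
        _ ≤ _ := Nat.mul_le_mul_left _ hp2
        _ ≤ _ := this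
        _ ≤ p * (A ⊓ Subgroup.centralizer (B' : Set G)).relIndex A * Nat.card B :=
            Nat.mul_le_mul_right _ (step B' b hbB)
        _ = _ := by ring
  have h0 := main B₀ le_rfl inf_le_left
  have hA : A ⊓ Subgroup.centralizer (B₀ : Set G) = A :=
    inf_eq_left.mpr (Subgroup.le_centralizer_iff.mp inf_le_right)
  rw [hA, Subgroup.relIndex_self, one_mul, ← card_mul_relIndex (inf_le_left : B₀ ≤ B), mul_comm] at h0
  exact Nat.le_of_mul_le_mul_left h0 Nat.card_pos

/-- Let A and B be subgroups of a finite p-group with [A, B] ≤ A ∩ B and [A, B] of order at most p. Then |A : C_A(B)| = |B : C_B(A)|. -/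
theorem result {G : Type*} [Group G] [Finite G] {p : ℕ} [Fact p.Prime] (hG : IsPGroup p G) (A B : Subgroup G) (hAB : ⁅A, B⁆ ≤ A ⊓ B) (hcard : Nat.card ↥⁅A, B⁆ ≤ p) : (A ⊓ Subgroup.centralizer (B : Set G)).relIndex A = (B ⊓ Subgroup.centralizer (A : Set G)).relIndex B := by
  exact le_antisymm (half hG A B hAB hcard)
    (half hG B A (by rw [Subgroup.commutator_comm, inf_comm]; exact hAB)
      (by rw [Subgroup.commutator_comm]; exact hcard))

end Cfsg.Agent.S3741
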