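import Cfsg.Statements.S3746
import Mathlib
import Cfsg.Agent.Lib.Components.Component

set_option autoImplicit false
open Cfsg

namespace Cfsg.Agent.S3746

open CfsgLib.Components
open scoped commutatorElement


/-- Let Z ≤ Z(G) be a central subgroup of a finite group G and E a subgroup of G containing Z whose image E/Z is a component of G/Z (subnormal and quasisimple). Then the derived subgroup [E, E] is a component of G. -/
theorem result {G : Type*} [Group G] [Finite G] (Z : Subgroup G) (hZ : Z ≤ Subgroup.center G) [Z.Normal] (E : Subgroup G) (hZE : Z ≤ E) (hE : Cfsg.IsComponent (E.map (QuotientGroup.mk' Z))) : Cfsg.IsComponent ⁅E, E⁆ := by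
  set f := QuotientGroup.mk' Z with hf
  have hfs : Function.Surjective f := QuotientGroup.mk'_surjective Z
  have hEeq : E = (E.map f).comap f := by
    rw [Subgroup.comap_map_eq, hf, QuotientGroup.ker_mk', sup_eq_left.mpr hZE]
  have hEsn : E.IsSubnormal := hEeq ▸ hE.1.comap f
  set K := ⁅E, E⁆ with hK
  have hKE : K ≤ E := Subgroup.commutator_le_self E
  have hKn : (K.subgroupOf E).Normal := by
    rw [Subgroup.normal_subgroupOf_iff_le_normalizer hKE]
    exact Subgroup.normalizer_commutator_ge_left E E
  have hKsn : K.IsSubnormal :=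
    Subgroup.IsSubnormal.trans hKE hKn.isSubnormal hEsn
  have hmap : K.map f = E.map f := by
    rw [hK, Subgroup.map_commutator]
    exact IsComponent.commutator_eq_self hE
  have hEKZ : E = K ⊔ Z := by
    have h := congrArg (Subgroup.comap f) hmap
    rw [← hEeq, Subgroup.comap_map_eq, hf, QuotientGroup.ker_mk'] at h
    exact h.symm
  have hperf : ⁅K, K⁆ = K := by
    refine le_antisymm (Subgroup.commutator_le_self K) ?_
    rw [hK, Subgroup.commutator_le]
    intro a ha b hb
    rw [hEKZ, Subgroup.mem_sup_of_normal_right] at ha hb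
    obtain ⟨k, hk, z, hz, rfl⟩ := ha
    obtain ⟨l, hl, w, hw, rfl⟩ := hb
    have hz' := Subgroup.mem_center_iff.mp (hZ hz)
    have hw' := Subgroup.mem_center_iff.mp (hZ hw)
    have : ⁅k * z, l * w⁆ = ⁅k, l⁆ := by
      have e1 : k * z * (l * w) = k * l * (z * w) := by
        rw [mul_assoc, ← mul_assoc z, ← hz' l]; group
      have e2 : l * w * (k * z) = l * k * (z * w) := by
        rw [mul_assoc, ← mul_assoc w, ← hw' k, mul_assoc k w z, ← hw' z]; group
      calc ⁅k * z, l * w⁆ = k * z * (l * w) * (l * w * (k * z))⁻¹ := by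
            rw [commutatorElement_def]; group
        _ = ⁅k, l⁆ := by rw [e1, e2, commutatorElement_def]; group
    rw [this]
    exact Subgroup.commutator_mem_commutator hk hl
  refine ⟨hKsn, isQuasisimple_iff.mpr ⟨?_, ?_, ?_⟩⟩
  · rw [Subgroup.nontrivial_iff_ne_bot]
    intro h
    refine IsComponent.ne_bot hE ?_
    rw [← hmap, h, Subgroup.map_bot]
  · refine ⟨?_⟩
    apply Subgroup.map_injective K.subtype_injective
    rw [commutator_def, Subgroup.map_commutator, ← MonoidHom.range_eq_map, K.range_subtype]
    exact hperf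
  · intro N hN hNtop
    haveI := hN
    let φ : K →* E.map f := (f.comp K.subtype).codRestrict (E.map f) (fun x => ⟨x, hKE x.2, rfl⟩)
    have hφ : Function.Surjective φ := by
      rintro ⟨y, hy⟩
      rw [← hmap] at hy
      obtain ⟨x, hx, rfl⟩ := hy
      exact ⟨⟨x, hx⟩, rfl⟩
    have hker : φ.ker ≤ Subgroup.center K := by
      intro x hx
      have hx' : f (x : G) = 1 := congrArg Subtype.val (MonoidHom.mem_ker.mp hx)
      have hxZ : (x : G) ∈ Z := (QuotientGroup.eq_one_iff _).mp hx'
      exact Subgroup.mem_center_iff.mpr fun g =>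
        Subtype.ext (Subgroup.mem_center_iff.mp (hZ hxZ) g)
    have hKK : ⁅(⊤ : Subgroup K), (⊤ : Subgroup K)⁆ = (⊤ : Subgroup K) := by
      apply Subgroup.map_injective K.subtype_injective
      rw [Subgroup.map_commutator, ← MonoidHom.range_eq_map, K.range_subtype]
      exact hperf
    rcases IsQuasisimple.normal_le_center_or_eq_top hE.2 (hN.map φ hφ) with h | h
    · have h1 : ⁅N, (⊤ : Subgroup K)⁆ ≤ φ.ker := by
        rw [← Subgroup.map_eq_bot_iff, Subgroup.map_commutator, Subgroup.map_top_of_surjective φ hφ,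
          Subgroup.commutator_top_right_eq_bot_iff_le_center]
        exact h
      have h2 : ⁅⁅N, (⊤ : Subgroup K)⁆, (⊤ : Subgroup K)⁆ = ⊥ :=
        Subgroup.commutator_top_right_eq_bot_iff_le_center.mpr (h1.trans hker)
      have h3 : ⁅⁅(⊤ : Subgroup K), N⁆, (⊤ : Subgroup K)⁆ = ⊥ := by
        rw [Subgroup.commutator_comm (⊤ : Subgroup K) N]; exact h2
      have h4 := Subgroup.commutator_commutator_eq_bot_of_rotate h3 h2
      rw [hKK] at h4
      exact Subgroup.commutator_top_left_eq_bot_iff_le_center.mp h4
    · exfalso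
      refine hNtop (top_le_iff.mp ?_)
      have hsup : N ⊔ φ.ker = ⊤ := by
        rw [← Subgroup.comap_map_eq, h, Subgroup.comap_top]
      refine hKK.symm.le.trans (Subgroup.commutator_le.mpr fun a _ b _ => ?_)
      have ha : a ∈ N ⊔ φ.ker := hsup ▸ Subgroup.mem_top a
      rw [Subgroup.mem_sup_of_normal_left] at ha
      obtain ⟨n, hn, z, hz, rfl⟩ := ha
      have hz' := Subgroup.mem_center_iff.mp (hker hz)
      have e : ⁅n * z, b⁆ = n * (b * n⁻¹ * b⁻¹) := by
        rw [commutatorElement_def, mul_assoc n z b, ← hz' b]; group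
      rw [e]
      exact mul_mem hn (hN.conj_mem _ (inv_mem hn) b)

end Cfsg.Agent.S3746
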