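import Cfsg.Statements.S3747
import Mathlib
import Cfsg.Agent.Lib.Components.FStar

set_option autoImplicit false
open Cfsg

namespace Cfsg.Agent.S3747

open CfsgLib.Components
open scoped commutatorElement

theorem nilpotent_of_comm (H : Type*) [Group H] [h : IsMulCommutative H] : Group.IsNilpotent H :=
  ⟨⟨1, by rw [Subgroup.upperCentralSeries_one, Subgroup.center_eq_top_iff]; exact h⟩⟩

theorem eq_one_of_central {G : Type*} [Group G] [Finite G] (S : Finset (Subgroup G))
    (hZ : ∀ K ∈ S, Subgroup.center ↥K = ⊥) (hcomm : ∀ K ∈ S, ∀ L ∈ S, K ≠ L → ⁅K, L⁆ = ⊥) :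
    ∀ z ∈ S.sup id, (∀ K ∈ S, ∀ k ∈ K, k * z = z * k) → z = 1 := by
  classical
  induction S using Finset.induction_on with
  | empty => intro z hz _; simpa using hz
  | insert K S hK ih =>
    intro z hz hzc
    rw [Finset.sup_insert] at hz
    have hcl : S.sup id ≤ Subgroup.centralizer (K : Set G) := by
      refine Finset.sup_le fun L hL => ?_
      rw [id, Subgroup.le_centralizer_iff, ← Subgroup.commutator_eq_bot_iff_le_centralizer]
      exact hcomm K (Finset.mem_insert_self _ _) L (Finset.mem_insert_of_mem hL)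
        (fun h => hK (h ▸ hL))
    have hnorm : S.sup id ≤ Subgroup.normalizer (K : Set G) :=
      hcl.trans (Subgroup.centralizer_le_normalizer _)
    obtain ⟨k, hk, r, hr, rfl⟩ : ∃ k ∈ K, ∃ r ∈ S.sup id, k * r = z := by
      have h : z ∈ ((K ⊔ S.sup id : Subgroup G) : Set G) := hz
      rw [Subgroup.coe_mul_of_right_le_normalizer_left K (S.sup id) hnorm] at h
      exact Set.mem_mul.mp h
    have hk1 : (⟨k, hk⟩ : K) ∈ Subgroup.center ↥K := by
      rw [Subgroup.mem_center_iff]
      rintro ⟨l, hl⟩
      apply Subtype.ext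
      have h1 := hzc K (Finset.mem_insert_self _ _) l hl
      have h2 : l * r = r * l := Subgroup.mem_centralizer_iff.mp (hcl hr) l hl
      change l * k = k * l
      apply mul_right_cancel (b := r)
      calc l * k * r = l * (k * r) := mul_assoc ..
        _ = k * r * l := h1
        _ = k * (r * l) := mul_assoc ..
        _ = k * (l * r) := by rw [h2]
        _ = k * l * r := (mul_assoc ..).symm
    rw [hZ K (Finset.mem_insert_self _ _), Subgroup.mem_bot] at hk1
    have hk1' : k = 1 := congrArg Subtype.val hk1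
    subst hk1'
    rw [one_mul] at hzc ⊢
    exact ih (fun L hL => hZ L (Finset.mem_insert_of_mem hL))
      (fun L hL M hM => hcomm L (Finset.mem_insert_of_mem hL) M (Finset.mem_insert_of_mem hM))
      r hr (fun L hL => hzc L (Finset.mem_insert_of_mem hL))

theorem closure_minimal {G : Type*} [Group G] [Finite G] {K : Subgroup G} (hK : Cfsg.IsComponent K)
    (hZ : Subgroup.center ↥K = ⊥) :
    Subgroup.normalClosure (K : Set G) ≠ ⊥ ∧ ∀ N : Subgroup G, N.Normal →
      N ≤ Subgroup.normalClosure (K : Set G) →
        N = ⊥ ∨ N = Subgroup.normalClosure (K : Set G) := by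
  classical
  refine ⟨fun h => IsComponent.ne_bot hK (le_bot_iff.mp ?_), fun N hN hle => ?_⟩
  · exact h ▸ Subgroup.le_normalClosure
  rcases component_le_or_commutes hK hN.isSubnormal with h | h
  · right; exact le_antisymm hle (Subgroup.normalClosure_le_normal h)
  left
  haveI := Fintype.ofFinite G
  set S : Finset (Subgroup G) :=
    (Finset.univ : Finset G).image (fun g => K.map (MulAut.conj g).toMonoidHom) with hS
  have hcompS : ∀ L ∈ S, Cfsg.IsComponent L ∧ Subgroup.center ↥L = ⊥ := by
    intro L hL
    obtain ⟨g, -, rfl⟩ := Finset.mem_image.mp hL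
    refine ⟨isComponent_map_equiv (MulAut.conj g) hK, ?_⟩
    rw [Subgroup.eq_bot_iff_forall]
    rintro ⟨_, x, hx, rfl⟩ hc
    have : (⟨x, hx⟩ : K) ∈ Subgroup.center ↥K := Subgroup.mem_center_iff.mpr fun y => by
      have := congrArg Subtype.val (Subgroup.mem_center_iff.mp hc ⟨_, y, y.2, rfl⟩)
      apply Subtype.ext
      simp only [Subgroup.coe_mul] at this ⊢
      rw [← map_mul, ← map_mul] at this
      exact (MulAut.conj g).injective this
    rw [hZ, Subgroup.mem_bot] at this
    have hx1 : x = 1 := congrArg Subtype.val this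
    subst hx1
    exact Subtype.ext (map_one _)
  have hle' : Subgroup.normalClosure (K : Set G) ≤ S.sup id := by
    rw [Subgroup.normalClosure, Subgroup.closure_le]
    intro x hx
    obtain ⟨k, hk, hkx⟩ := Group.mem_conjugatesOfSet_iff.mp hx
    obtain ⟨g, rfl⟩ := isConj_iff.mp hkx
    have : K.map (MulAut.conj g).toMonoidHom ≤ S.sup id :=
      Finset.le_sup (f := id) (Finset.mem_image_of_mem _ (Finset.mem_univ g))
    exact this ⟨k, hk, by simp⟩
  rw [Subgroup.eq_bot_iff_forall]
  intro z hz
  refine eq_one_of_central S (fun L hL => (hcompS L hL).2)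
    (fun L hL M hM hne => components_commute (hcompS L hL).1 (hcompS M hM).1 hne) z
    (hle' (hle hz)) ?_
  intro L hL k hk
  obtain ⟨g, -, rfl⟩ := Finset.mem_image.mp hL
  obtain ⟨x, hx, rfl⟩ := hk
  have h1 := Subgroup.mem_centralizer_iff.mp (Subgroup.commutator_eq_bot_iff_le_centralizer.mp h hx)
    (g⁻¹ * z * g) (hN.conj_mem' z hz g)
  simp only [MulEquiv.coe_toMonoidHom, MulAut.conj_apply]
  calc g * x * g⁻¹ * z = g * (x * (g⁻¹ * z * g)) * g⁻¹ := by group
    _ = g * ((g⁻¹ * z * g) * x) * g⁻¹ := by rw [h1]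
    _ = z * (g * x * g⁻¹) := by group

/-- Let G be a finite group. (a) If K is a component of G with trivial centre, then the normal closure of K in G is a minimal normal subgroup of G. (b) If the Fitting subgroup of G is trivial, then the layer E(G) is generated by the minimal normal subgroups of G. -/
theorem result {G : Type*} [Group G] [Finite G] : (∀ K : Subgroup G, Cfsg.IsComponent K → Subgroup.center ↥K = ⊥ → (Subgroup.normalClosure (K : Set G) ≠ ⊥ ∧ ∀ N : Subgroup G, N.Normal → N ≤ Subgroup.normalClosure (K : Set G) → N = ⊥ ∨ N = Subgroup.normalClosure (K : Set G))) ∧ (Cfsg.fittingSubgroup G = ⊥ → sSup {N : Subgroup G | N ≠ ⊥ ∧ N.Normal ∧ ∀ N' : Subgroup G, N'.Normal → N' ≤ N → N' = ⊥ ∨ N' = N} = Cfsg.layer G) := by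
  refine ⟨fun K hK hZ => closure_minimal hK hZ, fun hF => le_antisymm ?_ ?_⟩
  · refine sSup_le fun N ⟨hne, hN, hmin⟩ => minimal_normal_le_layer hN hmin fun h => hne ?_
    haveI : IsMulCommutative ↥N := Subgroup.commutator_self_eq_bot_iff.mp h
    exact le_bot_iff.mp (hF ▸ le_fitting hN (nilpotent_of_comm ↥N))
  · rw [layer_le_iff]
    intro K hK
    have hc : Subgroup.center ↥K = ⊥ := by
      have hsn : ((Subgroup.center ↥K).map K.subtype).IsSubnormal := by
        refine Subgroup.IsSubnormal.trans (Subgroup.map_subtype_le _) ?_ hK.1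
        rw [Subgroup.subgroupOf, Subgroup.comap_map_eq_self_of_injective K.subtype_injective]
        exact Subgroup.Normal.isSubnormal inferInstance
      haveI : IsMulCommutative ↥((Subgroup.center ↥K).map K.subtype) := inferInstance
      have := subnormal_nilpotent_le_fitting hsn (nilpotent_of_comm _)
      rw [hF, le_bot_iff, Subgroup.map_eq_bot_iff_of_injective _ K.subtype_injective] at this
      exact this
    obtain ⟨h1, h2⟩ := closure_minimal hK hc
    exact Subgroup.le_normalClosure.trans (le_sSup ⟨h1, Subgroup.normalClosure_normal, h2⟩)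

end Cfsg.Agent.S3747
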