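import Cfsg.Statements.S3749
import Mathlib
import Cfsg.Agent.Lib.PGroups.Primitive

set_option autoImplicit false
open Cfsg

namespace Cfsg.Agent.S3749

set_option linter.style.haveILetI false
open Subgroup CfsgLib.PGroups
open scoped Pointwise

variable {G : Type*} [Group G]

theorem map_smul_eq {M N : Subgroup G} [N.Normal] (m : M) (Q : Subgroup N) :
    (Q.map (MulAut.conjNormal (m : G) : MulAut N).toMonoidHom).map N.subtype =
      (Q.map N.subtype).map (MulAut.conj (m : G)).toMonoidHom := by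
  rw [Subgroup.map_map, Subgroup.map_map]
  congr 1

/-- Call a proper subgroup M of G primitive when M = N_G(N) for every non-trivial normal subgroup N of M. Let M be a primitive subgroup of the finite group G, p a prime with O_p(M) ≠ 1, and N a normal subgroup of G with M ∩ N = 1. Then p does not divide the order of N; for every prime q there is exactly one Sylow q-subgroup of N normalized by M; and if the order of N has at least two prime divisors then M is not a maximal subgroup of G. -/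
theorem result {G : Type*} [Group G] [Finite G] (M : Subgroup G) (hM : M ≠ ⊤) (hprim : ∀ N : Subgroup G, N ≤ M → M ≤ Subgroup.normalizer (N : Set G) → N ≠ ⊥ → Subgroup.normalizer (N : Set G) = M) {p : ℕ} [Fact p.Prime] (hOp : Cfsg.pCore p ↥M ≠ ⊥) (N : Subgroup G) [N.Normal] (hMN : M ⊓ N = ⊥) : ¬ p ∣ Nat.card N ∧ (∀ q : ℕ, [Fact q.Prime] → ∃! Q : Sylow q ↥N, M ≤ Subgroup.normalizer ((Q : Subgroup ↥N).map N.subtype : Set G)) ∧ ((∃ q r : ℕ, q.Prime ∧ r.Prime ∧ q ≠ r ∧ q ∣ Nat.card N ∧ r ∣ Nat.card N) → ¬ IsCoatom M) := by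
  set P : Subgroup ↥M := Cfsg.pCore p ↥M with hP
  haveI hPn : P.Normal := CfsgLib.Components.pCore_normal p
  have hPp : IsPGroup p P := CfsgLib.Components.pCore_isPGroup p
  set PG := P.map M.subtype with hPG
  have hPGle : PG ≤ M := Subgroup.map_subtype_le _
  have hPGnorm : Subgroup.normalizer (PG : Set G) = M := by
    refine hprim PG hPGle ?_ ?_
    · rw [← Subgroup.normal_subgroupOf_iff_le_normalizer hPGle, hPG, Subgroup.subgroupOf,
        Subgroup.comap_map_eq_self_of_injective M.subtype_injective]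
      exact hPn
    · rw [hPG, Ne, Subgroup.map_eq_bot_iff_of_injective _ M.subtype_injective]
      exact hOp
  let φ : ↥M →* MulAut ↥N := MulAut.conjNormal.comp M.subtype
  letI : MulDistribMulAction ↥M ↥N := MulDistribMulAction.compHom ↥N φ
  have hsmul : ∀ (m : ↥M) (n : ↥N), ((m • n : ↥N) : G) = (m : G) * n * (m : G)⁻¹ := fun m n =>
    MulAut.conjNormal_apply (m : G) n
  have hfix : ∀ n : ↥N, (∀ x : ↥P, (x : ↥M) • n = n) → n = 1 := by
    intro n hn
    have hC : (n : G) ∈ Subgroup.centralizer (PG : Set G) := by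
      rw [Subgroup.mem_centralizer_iff]
      rintro _ ⟨x, hx, rfl⟩
      have h1 : (x : G) * n * (x : G)⁻¹ = n := by
        rw [← hsmul]; exact congrArg Subtype.val (hn ⟨x, hx⟩)
      exact mul_inv_eq_iff_eq_mul.mp h1
    have : (n : G) ∈ M ⊓ N :=
      ⟨hPGnorm ▸ Subgroup.centralizer_le_normalizer _ hC, n.2⟩
    rw [hMN, Subgroup.mem_bot] at this
    exact Subtype.ext this
  have hpN : ¬ p ∣ Nat.card N := by
    intro hdvd
    have h1 : MulAction.fixedPoints ↥P ↥N = {1} := by
      ext n
      refine ⟨fun h => hfix n fun x => h x, ?_⟩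
      rintro rfl x
      exact smul_one (x : ↥M)
    have h2 := hPp.card_modEq_card_fixedPoints ↥N
    rw [h1, Nat.card_coe_set_eq, Set.ncard_singleton] at h2
    have h3 : Nat.card ↥N % p = 0 := Nat.mod_eq_zero_of_dvd hdvd
    rw [Nat.ModEq, h3, Nat.mod_eq_of_lt (Fact.out : p.Prime).one_lt] at h2
    exact absurd h2 (by norm_num)
  have hmem : ∀ (m : ↥M) (Q : Subgroup ↥N), m • Q = Q →
      ∀ g ∈ Q.map N.subtype, (m : G) * g * (m : G)⁻¹ ∈ Q.map N.subtype := by
    intro m Q h g hg
    obtain ⟨n, hn, rfl⟩ := hg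
    exact ⟨m • n, h ▸ Subgroup.smul_mem_pointwise_smul n m Q hn, hsmul m n⟩
  have key : ∀ q : ℕ, [Fact q.Prime] → ∃! Q : Sylow q ↥N,
      M ≤ Subgroup.normalizer ((Q : Subgroup ↥N).map N.subtype : Set G) := by
    intro q _
    have hex : (MulAction.fixedPoints ↥P (Sylow q ↥N)).Nonempty := by
      obtain ⟨Q₀⟩ := (inferInstance : Nonempty (Sylow q ↥N))
      refine hPp.nonempty_fixed_point_of_prime_not_dvd_card _ fun h => hpN (h.trans ?_)
      rw [Sylow.card_eq_index_normalizer Q₀]
      exact Subgroup.index_dvd_card _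
    have huniq : ∀ Q Q' : Sylow q ↥N, (∀ x : ↥P, (x : ↥M) • Q = Q) →
        (∀ x : ↥P, (x : ↥M) • Q' = Q') → Q = Q' := by
      intro Q Q' hQ hQ'
      have heqv : ∀ (m : ↥M) (n : ↥N) (R : Sylow q ↥N), m • (n • R) = (m • n) • (m • R) := by
        intro m n R
        apply Sylow.ext
        simp only [Sylow.pointwise_smul_def, Sylow.coe_subgroup_smul]
        ext y
        simp only [Subgroup.mem_pointwise_smul_iff_inv_smul_mem]
        simp [MulAut.smul_def, smul_mul', smul_inv']
      let f : SubMulAction ↥P ↥N :=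
        { carrier := {n | n • Q = Q'}
          smul_mem' := by
            intro x n hn
            show ((x : ↥M) • n) • Q = Q'
            have := heqv (x : ↥M) n Q
            rw [hQ, show n • Q = Q' from hn, hQ'] at this
            exact this.symm }
      obtain ⟨n₀, hn₀⟩ := MulAction.exists_smul_eq ↥N Q Q'
      have hcard : Nat.card f = Nat.card (MulAction.stabilizer ↥N Q) := by
        refine Nat.card_congr (Equiv.subtypeEquiv (Equiv.mulLeft n₀⁻¹) fun n => ?_)
        show n • Q = Q' ↔ (n₀⁻¹ * n) • Q = Q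
        rw [mul_smul, inv_smul_eq_iff, hn₀]
      obtain ⟨⟨n, hn⟩, hn'⟩ := hPp.nonempty_fixed_point_of_prime_not_dvd_card f
        (fun h => hpN ((hcard ▸ h).trans (Subgroup.card_subgroup_dvd_card _)))
      have h1 : n = 1 := hfix n fun x => congrArg Subtype.val (hn' x)
      subst h1
      exact (one_smul ↥N Q).symm.trans hn
    obtain ⟨Q, hQ⟩ := hex
    have hQ' : ∀ x : ↥P, (x : ↥M) • Q = Q := hQ
    have hall : ∀ m : ↥M, m • Q = Q := by
      intro m
      refine (huniq Q (m • Q) hQ' fun x => ?_).symm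
      have hx : m⁻¹ * (x : ↥M) * m ∈ P := by simpa using hPn.conj_mem _ x.2 m⁻¹
      rw [← mul_smul, show (x : ↥M) * m = m * (m⁻¹ * x * m) by group, mul_smul]
      exact congrArg (m • ·) (hQ' ⟨_, hx⟩)
    refine ⟨Q, ?_, ?_⟩
    · intro m hm
      rw [Subgroup.mem_normalizer_iff]
      intro g
      refine ⟨hmem ⟨m, hm⟩ Q (congrArg Sylow.toSubgroup (hall _)) g, fun h => ?_⟩
      have := hmem ⟨m⁻¹, M.inv_mem hm⟩ Q (congrArg Sylow.toSubgroup (hall _)) _ h
      simpa [mul_assoc] using this
    · intro R hR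
      refine huniq R Q (fun x => Sylow.ext ?_) hQ'
      apply Subgroup.map_injective N.subtype_injective
      refine (map_smul_eq (x : ↥M) (R : Subgroup ↥N)).trans ?_
      exact Subgroup.mem_normalizer_iff_map_conj_eq.mp (hR (x : ↥M).2)
  refine ⟨hpN, key, ?_⟩
  rintro ⟨q, r, hq, hr, hqr, hqN, hrN⟩ hmax
  haveI := Fact.mk hq
  obtain ⟨Q, hQ, -⟩ := key q
  set S := (Q : Subgroup ↥N).map N.subtype with hS
  have hSN : S ≤ N := Subgroup.map_subtype_le _
  have hcardS : Nat.card S = Nat.card (Q : Subgroup ↥N) :=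
    Subgroup.card_map_of_injective N.subtype_injective
  have hlt : M < M ⊔ S := by
    refine lt_of_le_of_ne le_sup_left fun h => ?_
    have hS1 : S = ⊥ := le_bot_iff.mp (hMN ▸ le_inf (sup_eq_left.mp h.symm) hSN)
    rw [hS1, Subgroup.card_bot] at hcardS
    obtain ⟨k, hk, hQk⟩ : ∃ k, 0 < k ∧ Nat.card (Q : Subgroup ↥N) = q ^ k := by
      refine ⟨_, ?_, Q.card_eq_multiplicity⟩
      exact hq.factorization_pos_of_dvd Nat.card_pos.ne' hqN
    have : 1 < q ^ k := Nat.one_lt_pow hk.ne' hq.one_lt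
    omega
  have htop := hmax.2 _ hlt
  have hNS : N ≤ S := by
    intro n hn
    have hn' : n ∈ M ⊔ S := htop ▸ Subgroup.mem_top n
    rw [← SetLike.mem_coe, Subgroup.coe_mul_of_left_le_normalizer_right M S hQ] at hn'
    obtain ⟨a, ha, b, hb, rfl⟩ := hn'
    have : a ∈ M ⊓ N := ⟨ha, (N.mul_mem_cancel_right (hSN hb)).mp hn⟩
    rw [hMN, Subgroup.mem_bot] at this
    subst this
    simpa using hb
  have hNeq : S = N := le_antisymm hSN hNS
  have : r ∣ q ^ (Nat.card ↥N).factorization q := by
    rw [← Q.card_eq_multiplicity, ← hcardS, hNeq]; exact hrN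
  exact hqr ((Nat.prime_dvd_prime_iff_eq hr hq).mp (hr.dvd_of_dvd_pow this)).symm

end Cfsg.Agent.S3749
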