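import Cfsg.Statements.S3750
import Mathlib
import Cfsg.Agent.Lib.PGroups.Primitive

set_option autoImplicit false
open Cfsg

namespace Cfsg.Agent.S3750

set_option linter.style.haveILetI false
open Subgroup CfsgLib.Components CfsgLib.PGroups

/-- Call a proper subgroup M of G primitive when M = N_G(N) for every non-trivial normal subgroup N of M. Let M be a primitive subgroup of the finite group G and N a normal subgroup of G with M ∩ F*(N) ≠ 1. Then F(G) = 1 and F*(N) = F*(G) = E(G); in particular every minimal normal subgroup of G is contained in N. -/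
theorem result {G : Type*} [Group G] [Finite G] (M : Subgroup G) (hM : M ≠ ⊤) (hprim : ∀ N : Subgroup G, N ≤ M → M ≤ Subgroup.normalizer (N : Set G) → N ≠ ⊥ → Subgroup.normalizer (N : Set G) = M) (N : Subgroup G) [N.Normal] (hMF : M ⊓ (Cfsg.generalizedFittingSubgroup ↥N).map N.subtype ≠ ⊥) : Cfsg.fittingSubgroup G = ⊥ ∧ (Cfsg.generalizedFittingSubgroup ↥N).map N.subtype = Cfsg.generalizedFittingSubgroup G ∧ Cfsg.generalizedFittingSubgroup G = Cfsg.layer G ∧ ∀ K : Subgroup G, K.Normal → K ≠ ⊥ → (∀ K' : Subgroup G, K'.Normal → K' ≤ K → K' = ⊥ ∨ K' = K) → K ≤ N := by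
  have hNn : N.Normal := inferInstance
  set T := (Cfsg.generalizedFittingSubgroup ↥N).map N.subtype with hT
  have hTeq : T = Cfsg.generalizedFittingSubgroup G ⊓ N := gFitting_normal_subgroup hNn
  haveI hTn : T.Normal := by
    haveI := gFitting_normal (G := G)
    rw [hTeq]; infer_instance
  set D := M ⊓ T with hD
  have hDM : Subgroup.normalizer (D : Set G) = M := by
    refine hprim D inf_le_left ?_ hMF
    refine le_trans (le_inf Subgroup.le_normalizer ?_) (Subgroup.inf_normalizer_le_normalizer_inf)
    rw [Subgroup.normalizer_eq_top_iff.mpr hTn]; exact le_top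
  have hzero : ∀ K : Subgroup G, K.Normal → ⁅K, T⁆ = ⊥ → K = ⊥ := by
    intro K hK h
    refine primitive_no_subnormal hM hprim hK.isSubnormal ?_
    refine le_trans ?_ hDM.le
    refine le_trans ?_ (Subgroup.centralizer_le_normalizer _)
    exact (commutator_eq_bot_iff_le_centralizer.mp h).trans
      (Subgroup.centralizer_le fun x hx => hx.2)
  have hmin : ∀ K : Subgroup G, K.Normal → K ≠ ⊥ →
      (∀ K' : Subgroup G, K'.Normal → K' ≤ K → K' = ⊥ ∨ K' = K) → K ≤ N := by
    intro K hKn hKne hKmin
    rcases hKmin (K ⊓ N) inferInstance inf_le_left with h | h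
    · refine absurd (hzero K hKn ?_) hKne
      have h1 : ⁅K, N⁆ = ⊥ := le_bot_iff.mp (h ▸ Subgroup.commutator_le_inf K N)
      exact le_bot_iff.mp (h1 ▸ Subgroup.commutator_mono le_rfl (Subgroup.map_subtype_le _))
    · exact inf_eq_left.mp h
  have hFbot : Cfsg.fittingSubgroup G = ⊥ := by
    by_contra hne
    haveI hFn := fitting_normal (G := G)
    obtain ⟨K, hKn, hKne, hKF, hKmin⟩ := exists_minimal_normal_le hFn hne
    have hKN : K ≤ N := hmin K hKn hKne hKmin
    refine hKne (hzero K hKn (le_bot_iff.mp (le_trans (Subgroup.commutator_mono le_rfl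
      (hTeq ▸ (inf_le_left : Cfsg.generalizedFittingSubgroup G ⊓ N ≤ _))) ?_)))
    rw [le_bot_iff]
    unfold Cfsg.generalizedFittingSubgroup
    rw [commutator_sup_right_eq_bot]
    refine ⟨?_, ?_⟩
    · rw [Subgroup.commutator_comm, ← le_bot_iff]
      exact (Subgroup.commutator_mono le_rfl hKF).trans layer_commutes_fitting.le
    · rcases hKmin ⁅K, Cfsg.fittingSubgroup G⁆ inferInstance (Subgroup.commutator_le_left _ _) with h | h
      · exact h
      · exfalso
        haveI := fitting_isNilpotent (G := G)
        have hall : ∀ n : ℕ, K ≤ (Subgroup.lowerCentralSeries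
            (Cfsg.fittingSubgroup G) n) := by
          intro n
          induction n with
          | zero => rw [Subgroup.lowerCentralSeries_zero]; exact hKF
          | succ n ih =>
            rw [Subgroup.lowerCentralSeries_succ]
            exact h.ge.trans (Subgroup.commutator_mono ih le_rfl)
        obtain ⟨n, hn⟩ := (Subgroup.isNilpotent_iff_lowerCentralSeries (Cfsg.fittingSubgroup G)).mp this
        exact hKne (le_bot_iff.mp (hn ▸ hall n))
  have hE : Cfsg.generalizedFittingSubgroup G = Cfsg.layer G := by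
    unfold Cfsg.generalizedFittingSubgroup; rw [hFbot, sup_bot_eq]
  refine ⟨hFbot, ?_, hE, hmin⟩
  rw [hTeq]
  refine inf_eq_left.mpr ?_
  rw [hE, layer_le_iff]
  intro L hL
  refine (component_le_or_commutes hL hNn.isSubnormal).resolve_right fun h => ?_
  have hT' : ⁅L, T⁆ = ⊥ :=
    le_bot_iff.mp (h ▸ Subgroup.commutator_mono le_rfl (Subgroup.map_subtype_le _))
  haveI : (Subgroup.centralizer (T : Set G)).Normal := Subgroup.normal_centralizer
  have hC := hzero (Subgroup.centralizer (T : Set G)) inferInstance
    (commutator_eq_bot_iff_le_centralizer.mpr le_rfl)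
  exact IsComponent.ne_bot hL (le_bot_iff.mp (hC ▸ commutator_eq_bot_iff_le_centralizer.mp hT'))

end Cfsg.Agent.S3750
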