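import Cfsg.Statements.S3751
import Mathlib
import Cfsg.Agent.Lib.Components.Char

set_option autoImplicit false
open Cfsg

namespace Cfsg.Agent.S3751

set_option linter.style.haveILetI false
set_option linter.unusedSectionVars false
open scoped Classical

open Subgroup CfsgLib.Components

section loc

variable {G : Type*} [Group G] [Finite G] {p : ℕ} [Fact p.Prime]

/-- The `p`-local subgroups. -/
def IsLoc (p : ℕ) (L : Subgroup G) : Prop :=
  ∃ T : Subgroup G, IsPGroup p T ∧ T ≠ ⊥ ∧ L = normalizer (T : Set G)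

/-- The maximal `p`-local subgroups. -/
def IsMaxLoc (p : ℕ) (M : Subgroup G) : Prop :=
  IsLoc p M ∧ ∀ L : Subgroup G, IsLoc p L → M ≤ L → L = M

theorem exists_maxLoc {L : Subgroup G} (hL : IsLoc p L) : ∃ M, IsMaxLoc p M ∧ L ≤ M := by
  obtain ⟨M, hLM, hM⟩ := Set.Finite.exists_le_maximal (s := {M : Subgroup G | IsLoc p M}) (Set.toFinite _) hL
  exact ⟨M, ⟨hM.1, fun K hK hle => le_antisymm (hM.2 hK hle) hle⟩, hLM⟩

/-- `O_p(M)` as a subgroup of `G`. -/
def core (p : ℕ) (M : Subgroup G) : Subgroup G := (Cfsg.pCore p M).map M.subtype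

theorem core_le (M : Subgroup G) : core p M ≤ M := map_subtype_le _

theorem core_isPGroup (M : Subgroup G) : IsPGroup p (core p M) := (pCore_isPGroup p).map _

theorem le_normalizer_core (M : Subgroup G) : M ≤ normalizer (core p M : Set G) := by
  haveI := CfsgLib.Components.pCore_normal (G := M) p
  refine le_trans (fun g hg => ?_) (Subgroup.le_normalizer_map M.subtype)
  exact ⟨⟨g, hg⟩, by rw [Subgroup.normalizer_eq_top]; exact mem_top _, rfl⟩

theorem le_core {M A : Subgroup G} (hA : A ≤ M) (hAp : IsPGroup p A) (hn : M ≤ normalizer (A : Set G)) :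
    A ≤ core p M := by
  haveI hn' : (A.subgroupOf M).Normal := (normal_subgroupOf_iff_le_normalizer hA).mpr hn
  calc A = (A.subgroupOf M).map M.subtype := (map_subgroupOf_eq_of_le hA).symm
    _ ≤ core p M := Subgroup.map_mono
      (CfsgLib.Components.le_pCore hn' (hAp.comap_of_injective _ M.subtype_injective))

theorem core_ne_bot {M : Subgroup G} (hM : IsLoc p M) : core p M ≠ ⊥ := by
  obtain ⟨T, hT, hT1, rfl⟩ := hM
  exact fun h => hT1 (eq_bot_iff.mpr (h ▸ le_core le_normalizer hT le_rfl))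

theorem normalizer_core {M : Subgroup G} (hM : IsMaxLoc p M) : normalizer (core p M : Set G) = M :=
  hM.2 _ ⟨core p M, core_isPGroup M, core_ne_bot hM.1, rfl⟩ (le_normalizer_core M)

theorem charP (hloc : Cfsg.IsOfLocalCharacteristic p G) {M : Subgroup G} (hM : IsLoc p M) :
    centralizer (Cfsg.pCore p M : Set M) ≤ Cfsg.pCore p M := by
  obtain ⟨T, hT, hT1, rfl⟩ := hM
  exact hloc.2 T hT hT1

theorem normalizer_of_normal (hloc : Cfsg.IsOfLocalCharacteristic p G) {M A : Subgroup G} (hM : IsMaxLoc p M)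
    (hA1 : A ≠ ⊥) (hA : A ≤ M) (hn : M ≤ normalizer (A : Set G)) : normalizer (A : Set G) = M := by
  set B := core p A with hB
  have hB1 : B ≠ ⊥ := by
    intro h
    refine hA1 (eq_bot_iff.mpr fun x hx => ?_)
    have hAC : (⟨x, hA hx⟩ : M) ∈ centralizer (Cfsg.pCore p M : Set M) := by
      haveI := CfsgLib.Components.pCore_normal (G := M) p
      refine mem_centralizer_iff.mpr fun y hy => Subtype.ext ?_
      have hy' : (y : G) ∈ core p M := ⟨y, hy, rfl⟩
      have hc1 : (y : G) * x * (y : G)⁻¹ * x⁻¹ ∈ A :=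
        mul_mem ((mem_normalizer_iff.mp (hn y.2) x).mp hx) (inv_mem hx)
      have hc2 : (y : G) * x * (y : G)⁻¹ * x⁻¹ ∈ core p M := by
        rw [show (y : G) * x * (y : G)⁻¹ * x⁻¹ = (y : G) * (x * (y : G)⁻¹ * x⁻¹) by group]
        exact mul_mem hy' ((mem_normalizer_iff.mp (le_normalizer_core M (hA hx)) _).mp (inv_mem hy'))
      have hle : A ⊓ core p M ≤ B := le_core inf_le_left ((core_isPGroup M).to_le inf_le_right)
        (le_inf le_normalizer ((hA).trans (le_normalizer_core M)) |>.trans (inf_normalizer_le_normalizer_inf))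
      have h1 := hle (mem_inf.mpr ⟨hc1, hc2⟩)
      rw [h, mem_bot, mul_inv_eq_one, mul_inv_eq_iff_eq_mul] at h1
      exact h1
    have h2 : x ∈ A ⊓ core p M := mem_inf.mpr ⟨hx, ⟨_, charP hloc hM.1 hAC, rfl⟩⟩
    have hle : A ⊓ core p M ≤ B := le_core inf_le_left ((core_isPGroup M).to_le inf_le_right)
      (le_inf le_normalizer ((hA).trans (le_normalizer_core M)) |>.trans (inf_normalizer_le_normalizer_inf))
    exact h ▸ hle h2
  have hNA : normalizer (A : Set G) ≤ normalizer (B : Set G) := by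
    intro g hg
    rw [mem_normalizer_iff_map_conj_eq] at hg ⊢
    have hchar := CfsgLib.Components.pCore_characteristic (G := A) p
    refine le_antisymm ?_ ?_
    · exact le_core ((Subgroup.map_mono (core_le A)).trans hg.le) ((core_isPGroup A).map _) (by
        refine hg.ge.trans ((Subgroup.map_mono (le_normalizer_core (p := p) A)).trans ?_)
        exact le_normalizer_map _)
    · have e : B.map (MulAut.conj g).toMonoidHom ≤ B := le_core ((Subgroup.map_mono (core_le A)).trans hg.le)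
        ((core_isPGroup A).map _) (hg.ge.trans ((Subgroup.map_mono (le_normalizer_core (p := p) A)).trans (le_normalizer_map _)))
      exact (eq_of_le_of_card_ge e (card_map_of_injective (MulAut.conj g).injective).ge).ge
  have := hM.2 _ ⟨B, core_isPGroup A, hB1, rfl⟩ (hn.trans hNA)
  exact le_antisymm (this ▸ hNA) hn

theorem pair_spec (hloc : Cfsg.IsOfLocalCharacteristic p G) {M₁ M₂ : Subgroup G} (h1 : IsMaxLoc p M₁)
    (h2 : IsMaxLoc p M₂) (hne : M₁ ≠ M₂) (hq1 : core p M₁ ≤ M₂) (hq2 : core p M₂ ≤ M₁) :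
    ∃ M₁ M₂ : Subgroup G, M₁ ≠ M₂ ∧ (∀ A : Subgroup G, A ≠ ⊥ → A ≤ M₁ ⊓ M₂ → (M₁ ≤ normalizer (A : Set G) → M₂ ⊓ normalizer (A : Set G) = M₁ ⊓ M₂) ∧ (M₂ ≤ normalizer (A : Set G) → M₁ ⊓ normalizer (A : Set G) = M₁ ⊓ M₂)) ∧ centralizer (Cfsg.pCore p ↥M₁ : Set ↥M₁) ≤ Cfsg.pCore p ↥M₁ ∧ centralizer (Cfsg.pCore p ↥M₂ : Set ↥M₂) ≤ Cfsg.pCore p ↥M₂ ∧ (Cfsg.pCore p ↥M₁).map M₁.subtype ⊔ (Cfsg.pCore p ↥M₂).map M₂.subtype ≤ M₁ ⊓ M₂ := by
  refine ⟨M₁, M₂, hne, fun A hA hle => ⟨fun hn => ?_, fun hn => ?_⟩, charP hloc h1.1, charP hloc h2.1,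
    sup_le (le_inf (core_le M₁) hq1) (le_inf hq2 (core_le M₂))⟩
  · rw [normalizer_of_normal hloc h1 hA (hle.trans inf_le_left) hn, inf_comm]
  · rw [normalizer_of_normal hloc h2 hA (hle.trans inf_le_right) hn]

theorem main (hloc : Cfsg.IsOfLocalCharacteristic p G) {M : Subgroup G}
    (hM : IsMaxLoc p M) {g : G} (hg : g ∉ M)
    (hdvd : p ∣ Nat.card ↥(M ⊓ M.map (MulAut.conj g).toMonoidHom)) :
    ∃ M₁ M₂ : Subgroup G, M₁ ≠ M₂ ∧ (∀ A : Subgroup G, A ≠ ⊥ → A ≤ M₁ ⊓ M₂ → (M₁ ≤ normalizer (A : Set G) → M₂ ⊓ normalizer (A : Set G) = M₁ ⊓ M₂) ∧ (M₂ ≤ normalizer (A : Set G) → M₁ ⊓ normalizer (A : Set G) = M₁ ⊓ M₂)) ∧ centralizer (Cfsg.pCore p ↥M₁ : Set ↥M₁) ≤ Cfsg.pCore p ↥M₁ ∧ centralizer (Cfsg.pCore p ↥M₂ : Set ↥M₂) ≤ Cfsg.pCore p ↥M₂ ∧ (Cfsg.pCore p ↥M₁).map M₁.subtype ⊔ (Cfsg.pCore p ↥M₂).map M₂.subtype ≤ M₁ ⊓ M₂ := by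
  haveI := Fintype.ofFinite G
  haveI : Fintype (Subgroup G) := Fintype.ofFinite _
  -- conjugates of maximal locals
  have hconj : ∀ (N : Subgroup G) (x : G), IsMaxLoc p N → IsMaxLoc p (N.map (MulAut.conj x).toMonoidHom) := by
    have hl : ∀ (N : Subgroup G) (x : G), IsLoc p N → IsLoc p (N.map (MulAut.conj x).toMonoidHom) := by
      rintro _ x ⟨T, hT, hT1, rfl⟩
      refine ⟨T.map (MulAut.conj x).toMonoidHom, hT.map _, fun h => hT1 ?_, ?_⟩
      · exact (Subgroup.map_eq_bot_iff_of_injective T (MulAut.conj x).injective).mp h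
      · exact (map_normalizer_eq_of_bijective T (f := (MulAut.conj x).toMonoidHom) (MulAut.conj x).bijective)
    intro N x hN
    refine ⟨hl N x hN.1, fun L hL hle => ?_⟩
    have e : (L.map (MulAut.conj x⁻¹).toMonoidHom).map (MulAut.conj x).toMonoidHom = L := by
      rw [Subgroup.map_map]; ext y; simp [mul_assoc]
    have h := hN.2 _ (hl L x⁻¹ hL) (by
      intro y hy
      exact ⟨x * y * x⁻¹, hle ⟨y, hy, rfl⟩, by simp [mul_assoc]⟩)
    rw [← h, e]
  have hdiff : ∀ (N : Subgroup G) (x : G), IsMaxLoc p N → x ∉ N → N.map (MulAut.conj x).toMonoidHom ≠ N := by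
    intro N x hN hx h
    refine hx ?_
    rw [← normalizer_core hN, mem_normalizer_iff_map_conj_eq]
    have e : (core p N).map (MulAut.conj x).toMonoidHom ≤ core p N := le_core ((Subgroup.map_mono (core_le N)).trans h.le)
      ((core_isPGroup N).map _) (h.ge.trans ((Subgroup.map_mono (le_normalizer_core (p := p) N)).trans (le_normalizer_map _)))
    exact eq_of_le_of_card_ge e (card_map_of_injective (MulAut.conj x).injective).ge
  obtain ⟨x, hx⟩ := exists_prime_orderOf_dvd_card' p hdvd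
  rw [← Subgroup.orderOf_coe] at hx
  obtain ⟨U, hU, hUmax⟩ := Finset.exists_max_image
    (Finset.univ.filter fun U : Subgroup G => IsPGroup p U ∧ U ≠ ⊥ ∧
      ∃ A B : Subgroup G, IsMaxLoc p A ∧ IsMaxLoc p B ∧ A ≠ B ∧ U ≤ A ⊓ B)
    (fun U => Nat.card U) ⟨zpowers (x : G), by
      simp only [Finset.mem_filter, Finset.mem_univ, true_and]
      refine ⟨IsPGroup.of_card (n := 1) (by rw [Nat.card_zpowers, hx, pow_one]), fun h => ?_,
        M, _, hM, hconj M g hM, (hdiff M g hM hg).symm, zpowers_le.mpr x.2⟩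
      rw [zpowers_eq_bot.mp h, orderOf_one] at hx
      exact (Fact.out : p.Prime).ne_one hx.symm⟩
  simp only [Finset.mem_filter, Finset.mem_univ, true_and] at hU hUmax
  obtain ⟨hUp, hU1, A, B, hA, hB, hAB, hUle⟩ := hU
  -- growing inside a larger `p`-subgroup
  have hgrow : ∀ N : Subgroup G, U ≤ N → (¬ ∀ P : Subgroup G, IsPGroup p P → P ≤ N → U ≤ P → P = U) →
      ∃ y ∈ N, y ∈ normalizer (U : Set G) ∧ y ∉ U ∧ IsPGroup p ↥(U ⊔ zpowers y) := by
    intro N hUN h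
    push Not at h
    obtain ⟨P, hP, hPN, hUP, hne⟩ := h
    haveI := hP.isNilpotent
    have hlt : U.subgroupOf P < ⊤ := lt_of_le_of_ne le_top fun h =>
      hne (le_antisymm (subgroupOf_eq_top.mp h) hUP)
    obtain ⟨y, hy, hyU⟩ := SetLike.exists_of_lt (Group.normalizerCondition_of_isNilpotent (G := P) _ hlt)
    refine ⟨y, hPN y.2, ?_, fun h => hyU (mem_subgroupOf.mpr h), hP.to_le (sup_le hUP (zpowers_le.mpr y.2))⟩
    refine mem_normalizer_iff.mpr fun u => ⟨fun hu => ?_, fun hu => ?_⟩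
    · exact mem_subgroupOf.mp ((mem_normalizer_iff.mp hy ⟨u, hUP hu⟩).mp (mem_subgroupOf.mpr hu))
    · have hu' : u ∈ P := by
        have := mul_mem (mul_mem (inv_mem y.2) (hUP hu)) y.2
        rwa [show (y : G)⁻¹ * ((y : G) * u * (y : G)⁻¹) * (y : G) = u by group] at this
      exact mem_subgroupOf.mp ((mem_normalizer_iff.mp hy ⟨u, hu'⟩).mpr (mem_subgroupOf.mpr hu))
  have hcore : ∀ N : Subgroup G, U ≤ N → (∀ P : Subgroup G, IsPGroup p P → P ≤ N → U ≤ P → P = U) →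
      core p N ≤ U := by
    intro N hUN hS
    have := hS (U ⊔ core p N) (hUp.to_sup_of_normal_right' (core_isPGroup N) (hUN.trans (le_normalizer_core (p := p) N)))
      (sup_le hUN (core_le N)) le_sup_left
    exact this ▸ le_sup_right
  have hone : ∀ N N' : Subgroup G, IsMaxLoc p N → IsMaxLoc p N' → U ≤ N → U ≤ N' →
      (∀ P : Subgroup G, IsPGroup p P → P ≤ N → U ≤ P → P = U) →
      (¬ ∀ P : Subgroup G, IsPGroup p P → P ≤ N' → U ≤ P → P = U) →
      ∃ N₁ N₂ : Subgroup G, IsMaxLoc p N₁ ∧ IsMaxLoc p N₂ ∧ N₁ ≠ N₂ ∧ core p N₁ ≤ N₂ ∧ core p N₂ ≤ N₁ := by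
    intro N N' hN hN' hUN hUN' hS hS'
    obtain ⟨y, -, hyn, hyU, hyp⟩ := hgrow N' hUN' hS'
    have hyN : y ∉ N := fun h => hyU (by
      rw [← hS _ hyp (sup_le hUN (zpowers_le.mpr h)) le_sup_left]; exact mem_sup_right (mem_zpowers y))
    have hUe : U.map (MulAut.conj y).toMonoidHom = U := mem_normalizer_iff_map_conj_eq.mp hyn
    refine ⟨N, _, hN, hconj N y hN, (hdiff N y hN hyN).symm, ?_, ?_⟩
    · exact (hcore N hUN hS).trans (hUe.ge.trans (Subgroup.map_mono hUN))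
    · have h1 : core p (N.map (MulAut.conj y).toMonoidHom) ≤ U := by
        refine hcore _ (hUe.ge.trans (Subgroup.map_mono hUN)) fun P hP hPN hUP => ?_
        have hP' := hS (P.map (MulAut.conj y⁻¹).toMonoidHom) (hP.map _) ?_ ?_
        · refine le_antisymm (fun z hz => ?_) hUP
          have hz' : y⁻¹ * z * y ∈ U := hP' ▸ ⟨z, hz, by simp⟩
          rw [show z = y * (y⁻¹ * z * y) * y⁻¹ by group]
          exact (mem_normalizer_iff.mp hyn _).mp hz'
        · rintro _ ⟨z, hz, rfl⟩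
          obtain ⟨w, hw, rfl⟩ := hPN hz
          simpa [mul_assoc] using hw
        · intro u hu
          exact ⟨y * u * y⁻¹, hUP ((mem_normalizer_iff.mp hyn u).mp hu), by simp [mul_assoc]⟩
      exact h1.trans hUN
  have hfin : ∃ N₁ N₂ : Subgroup G, IsMaxLoc p N₁ ∧ IsMaxLoc p N₂ ∧ N₁ ≠ N₂ ∧ core p N₁ ≤ N₂ ∧ core p N₂ ≤ N₁ := by
    by_cases sA : ∀ P : Subgroup G, IsPGroup p P → P ≤ A → U ≤ P → P = U
    · by_cases sB : ∀ P : Subgroup G, IsPGroup p P → P ≤ B → U ≤ P → P = U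
      · exact ⟨A, B, hA, hB, hAB, (hcore A (hUle.trans inf_le_left) sA).trans (hUle.trans inf_le_right),
          (hcore B (hUle.trans inf_le_right) sB).trans (hUle.trans inf_le_left)⟩
      · exact hone A B hA hB (hUle.trans inf_le_left) (hUle.trans inf_le_right) sA sB
    · by_cases sB : ∀ P : Subgroup G, IsPGroup p P → P ≤ B → U ≤ P → P = U
      · exact hone B A hB hA (hUle.trans inf_le_right) (hUle.trans inf_le_left) sB sA
      · exfalso
        obtain ⟨L, hL, hNL⟩ := exists_maxLoc (p := p) (L := normalizer (U : Set G)) ⟨U, hUp, hU1, rfl⟩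
        have key : ∀ N : Subgroup G, IsMaxLoc p N → U ≤ N →
            (¬ ∀ P : Subgroup G, IsPGroup p P → P ≤ N → U ≤ P → P = U) → N = L := by
          intro N hN hUN hS
          by_contra hne
          obtain ⟨y, hy, hyn, hyU, hyp⟩ := hgrow N hUN hS
          have hbig := hUmax (U ⊔ zpowers y) ⟨hyp, ne_bot_of_le_ne_bot hU1 le_sup_left, N, L, hN, hL, hne,
            sup_le (le_inf hUN (le_normalizer.trans hNL)) (zpowers_le.mpr (mem_inf.mpr ⟨hy, hNL hyn⟩))⟩
          exact hyU ((eq_of_le_of_card_ge le_sup_left hbig).ge (mem_sup_right (mem_zpowers y)))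
        exact hAB ((key A hA (hUle.trans inf_le_left) sA).trans (key B hB (hUle.trans inf_le_right) sB).symm)
  obtain ⟨N₁, N₂, h1, h2, hne, hq1, hq2⟩ := hfin
  exact pair_spec hloc h1 h2 hne hq1 hq2

end loc

/-- Two distinct subgroups M₁, M₂ of G form a primitive pair when, for {i, j} = {1, 2}, every non-trivial normal subgroup A of M_i contained in M₁ ∩ M₂ satisfies N_{M_j}(A) = M₁ ∩ M₂; the pair has characteristic p when moreover C_{M_i}(O_p(M_i)) ≤ O_p(M_i) for both i and O_p(M₁)O_p(M₂) ≤ M₁ ∩ M₂. Let G be a finite group, p a prime dividing its order, with O_p(G) = 1 and every p-local subgroup of characteristic p. Then either G has a primitive pair of characteristic p, or every maximal p-local subgroup M of G is strongly p-embedded in G: M is a proper subgroup, p divides its order, and for every g ∉ M the order of M ∩ gMg⁻¹ is prime to p. -/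
theorem result {G : Type*} [Group G] [Finite G] {p : ℕ} [Fact p.Prime] (hloc : Cfsg.IsOfLocalCharacteristic p G) (hOp : Cfsg.pCore p G = ⊥) : (∃ M₁ M₂ : Subgroup G, M₁ ≠ M₂ ∧ (∀ A : Subgroup G, A ≠ ⊥ → A ≤ M₁ ⊓ M₂ → (M₁ ≤ Subgroup.normalizer (A : Set G) → M₂ ⊓ Subgroup.normalizer (A : Set G) = M₁ ⊓ M₂) ∧ (M₂ ≤ Subgroup.normalizer (A : Set G) → M₁ ⊓ Subgroup.normalizer (A : Set G) = M₁ ⊓ M₂)) ∧ Subgroup.centralizer (Cfsg.pCore p ↥M₁ : Set ↥M₁) ≤ Cfsg.pCore p ↥M₁ ∧ Subgroup.centralizer (Cfsg.pCore p ↥M₂ : Set ↥M₂) ≤ Cfsg.pCore p ↥M₂ ∧ (Cfsg.pCore p ↥M₁).map M₁.subtype ⊔ (Cfsg.pCore p ↥M₂).map M₂.subtype ≤ M₁ ⊓ M₂) ∨ (∀ M : Subgroup G, (∃ T : Subgroup G, IsPGroup p T ∧ T ≠ ⊥ ∧ M = Subgroup.normalizer (T : Set G)) → (∀ L : Subgroup G, (∃ T : Subgroup G, IsPGroup p T ∧ T ≠ ⊥ ∧ L = Subgroup.normalizer (T : Set G)) → M ≤ L → L = M) → M ≠ ⊤ ∧ p ∣ Nat.card M ∧ ∀ g : G, g ∉ M → ¬ p ∣ Nat.card ↥(M ⊓ M.map (MulAut.conj g).toMonoidHom))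 := by
  by_cases h : ∀ M : Subgroup G, IsMaxLoc p M → ∀ g : G, g ∉ M → ¬ p ∣ Nat.card ↥(M ⊓ M.map (MulAut.conj g).toMonoidHom)
  · refine Or.inr fun M hM hmax => ⟨fun htop => ?_, ?_, h M ⟨hM, hmax⟩⟩
    · obtain ⟨T, hT, hT1, hMT⟩ := hM
      exact hT1 (eq_bot_iff.mpr (hOp ▸ CfsgLib.Components.le_pCore
        (Subgroup.normalizer_eq_top_iff.mp (hMT.symm.trans htop)) hT))
    · obtain ⟨T, hT, hT1, rfl⟩ := hM
      rcases hT.card_eq_or_dvd with h | h
      · exact absurd (Subgroup.card_eq_one.mp h) hT1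
      · exact h.trans (Subgroup.card_dvd_of_le Subgroup.le_normalizer)
  · push Not at h
    obtain ⟨M, hM, g, hg, hd⟩ := h
    exact Or.inl (main hloc hM hg hd)

end Cfsg.Agent.S3751
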