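import Cfsg.Statements.S3752
import Mathlib
import Cfsg.Agent.Lib.Components.FStar
import Cfsg.Agent.Lib.Core.Cores
import Cfsg.Agent.Lib.Core.Nilpotent
import Cfsg.Agent.Lib.OddLocal.FittingHall

set_option autoImplicit false
open Cfsg

namespace Cfsg.Agent.S3752

set_option linter.style.haveILetI false
set_option linter.unusedSectionVars false
set_option linter.unusedVariables false
open scoped Classical

open Subgroup CfsgLib.Components

theorem sn_step {G : Type*} [Group G] {A B M : Subgroup G} (hAB : A ≤ B)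
    (hn : ∀ a ∈ A, ∀ b ∈ B, b * a * b⁻¹ ∈ A) (hB : (B.subgroupOf M).IsSubnormal) :
    (A.subgroupOf M).IsSubnormal :=
  IsSubnormal.step _ _ (Subgroup.comap_mono hAB) hB
    ((normal_subgroupOf_iff (Subgroup.comap_mono hAB)).mpr fun a b ha hb => hn _ ha _ hb)

theorem layer_of_overgroup {X : Type*} [Group X] [Finite X] (H : Subgroup X)
    (hH : Cfsg.generalizedFittingSubgroup X ≤ H) : (Cfsg.layer H).map H.subtype = Cfsg.layer X := by
  set F := Cfsg.generalizedFittingSubgroup X with hF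
  haveI : F.Normal := gFitting_normal
  refine le_antisymm ?_ (layer_le_iff.mpr fun L hL => ?_)
  · rw [Subgroup.map_le_iff_le_comap, layer_le_iff]
    intro K hK
    rw [← Subgroup.map_le_iff_le_comap]
    by_cases hcomp : ∃ L : Subgroup X, Cfsg.IsComponent L ∧ K.map H.subtype = L
    · obtain ⟨L, hL, h⟩ := hcomp
      exact h ▸ le_layer hL
    push Not at hcomp
    have hcF : K.map H.subtype ≤ F := by
      refine le_trans ?_ (centralizer_gFitting_le (G := X))
      rw [centralizer_gFitting, le_inf_iff]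
      constructor <;> rw [le_centralizer_iff]
      · refine (layer_le_iff (G := X)).mpr fun L hL => ?_
        have hLH : L ≤ H := (component_le_gFitting hL).trans hH
        rcases components_eq_or_commute hK (isComponent_subgroupOf hL hLH) with h | h
        · exact (hcomp L hL (by rw [h, map_subtype_subgroupOf hLH])).elim
        · rw [← map_subtype_subgroupOf hLH, le_centralizer_iff, ← commutator_eq_bot_iff_le_centralizer,
            ← Subgroup.map_commutator, h, Subgroup.map_bot]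
      · have hFH : Cfsg.fittingSubgroup X ≤ H := fitting_le_gFitting.trans hH
        haveI := fitting_normal (G := X)
        have hn : ((Cfsg.fittingSubgroup X).subgroupOf H).Normal := Normal.subgroupOf inferInstance H
        haveI := fitting_isNilpotent (G := X)
        haveI : Group.IsNilpotent ((Cfsg.fittingSubgroup X).subgroupOf H) :=
          (Group.isNilpotent_congr (subgroupOfEquivOfLe hFH).symm).mp inferInstance
        have h := component_commutes_of_solvable_subnormal hK hn.isSubnormal inferInstance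
        rw [← map_subtype_subgroupOf hFH, le_centralizer_iff, ← commutator_eq_bot_iff_le_centralizer,
          ← Subgroup.map_commutator, h, Subgroup.map_bot]
    have hind : ∀ A : Subgroup H, A.IsSubnormal → (A.map H.subtype ⊓ F).IsSubnormal := by
      intro A hA
      induction hA with
      | top =>
        have e : (⊤ : Subgroup H).map H.subtype ⊓ F = F := by
          rw [← MonoidHom.range_eq_map, Subgroup.range_subtype, inf_eq_right.mpr hH]
        rw [e]; exact Normal.isSubnormal inferInstance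
      | step A B hle _ hn ih =>
        refine IsSubnormal.step _ _ (inf_le_inf_right F (Subgroup.map_mono hle)) ih
          ((normal_subgroupOf_iff (inf_le_inf_right F (Subgroup.map_mono hle))).mpr ?_)
        intro a b ha hb
        obtain ⟨⟨a', ha', rfl⟩, haF⟩ := mem_inf.mp ha
        obtain ⟨⟨b', hb', rfl⟩, hbF⟩ := mem_inf.mp hb
        exact mem_inf.mpr ⟨⟨b' * a' * b'⁻¹, (normal_subgroupOf_iff hle).mp hn a' b' ha' hb', rfl⟩,
          mul_mem (mul_mem hbF haF) (inv_mem hbF)⟩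
    have hsn := hind K hK.1
    rw [inf_eq_left.mpr hcF] at hsn
    exact le_layer ⟨hsn, (isQuasisimple_map_iff H.subtype_injective).mpr hK.2⟩
  · have hLH : L ≤ H := (component_le_gFitting hL).trans hH
    rw [← map_subtype_subgroupOf hLH]
    exact Subgroup.map_mono (le_layer (isComponent_subgroupOf hL hLH))

section parts

variable {G : Type*} [Group G] [Finite G]

theorem layer_inf_eq (M H : Subgroup G) (hHM : H ≤ M)
    (hF : (Cfsg.generalizedFittingSubgroup M).map M.subtype ≤ H) :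
    (Cfsg.layer H).map H.subtype = (Cfsg.layer M).map M.subtype := by
  rw [← layer_of_overgroup (H.subgroupOf M) (fun x hx => hF ⟨x, hx, rfl⟩),
    ← layer_map_equiv (subgroupOfEquivOfLe hHM), Subgroup.map_map, Subgroup.map_map]
  rfl

theorem fitting_le_of_le (M H : Subgroup G) (hHM : H ≤ M)
    (hF : (Cfsg.fittingSubgroup M).map M.subtype ≤ H) :
    (Cfsg.fittingSubgroup M).map M.subtype ≤ (Cfsg.fittingSubgroup H).map H.subtype := by
  haveI := fitting_normal (G := M)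
  haveI := fitting_isNilpotent (G := M)
  set F := (Cfsg.fittingSubgroup M).map M.subtype
  haveI : Group.IsNilpotent F :=
    (Group.isNilpotent_congr ((Cfsg.fittingSubgroup M).equivMapOfInjective _ M.subtype_injective)).mp inferInstance
  haveI : Group.IsNilpotent (F.subgroupOf H) :=
    (Group.isNilpotent_congr (subgroupOfEquivOfLe hF).symm).mp inferInstance
  have hn : (F.subgroupOf H).Normal := by
    refine (normal_subgroupOf_iff hF).mpr ?_
    rintro _ k ⟨x, hx, rfl⟩ hk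
    exact ⟨⟨k, hHM hk⟩ * x * ⟨k, hHM hk⟩⁻¹, (fitting_normal (G := M)).conj_mem x hx _, rfl⟩
  rw [← map_subtype_subgroupOf hF]
  exact Subgroup.map_mono (le_fitting hn inferInstance)

theorem core_step (M₁ M₂ : Subgroup G) {q : ℕ} [Fact q.Prime]
    (hF1 : (Cfsg.fittingSubgroup M₁).map M₁.subtype ≤ M₁ ⊓ M₂)
    (hF2 : (Cfsg.fittingSubgroup M₂).map M₂.subtype ≤ M₁ ⊓ M₂)
    (hC2 : centralizer (Cfsg.fittingSubgroup M₂ : Set M₂) ≤ Cfsg.fittingSubgroup M₂)
    (hP1 : ∀ A : Subgroup G, A ≠ ⊥ → A ≤ M₁ ⊓ M₂ → M₁ ≤ normalizer (A : Set G) →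
      M₂ ⊓ normalizer (A : Set G) = M₁ ⊓ M₂)
    (hR : Cfsg.fittingSubgroup M₁ ⊓ Cfsg.pPrimeCore q M₁ ≠ ⊥) :
    (Cfsg.pCore q M₁).map M₁.subtype ≤ (Cfsg.pCore q M₂).map M₂.subtype := by
  haveI := fitting_normal (G := M₁)
  haveI := fitting_normal (G := M₂)
  haveI := pPrimeCore_normal (G := M₁) q
  haveI := pPrimeCore_normal (G := M₂) q
  haveI := pCore_normal (G := M₁) q
  haveI := pCore_normal (G := M₂) q
  set H := M₁ ⊓ M₂ with hH
  set F12 := (Cfsg.fittingSubgroup H).map H.subtype with hF12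
  have hnil : Group.IsNilpotent F12 := by
    haveI := fitting_isNilpotent (G := H)
    exact (Group.isNilpotent_congr ((Cfsg.fittingSubgroup H).equivMapOfInjective _ H.subtype_injective)).mp inferInstance
  set Q₁ := (Cfsg.pCore q M₁).map M₁.subtype with hQ₁
  set Q₂ := (Cfsg.pCore q M₂).map M₂.subtype with hQ₂
  set R₁ := (Cfsg.fittingSubgroup M₁ ⊓ Cfsg.pPrimeCore q M₁).map M₁.subtype with hR₁
  set R₂ := (Cfsg.fittingSubgroup M₂ ⊓ Cfsg.pPrimeCore q M₂).map M₂.subtype with hR₂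
  have hF1' := fitting_le_of_le M₁ H inf_le_left hF1
  have hF2' := fitting_le_of_le M₂ H inf_le_right hF2
  have hQF₁ : Q₁ ≤ F12 := (Subgroup.map_mono (pCore_le_fitting q)).trans hF1'
  have hQF₂ : Q₂ ≤ F12 := (Subgroup.map_mono (pCore_le_fitting q)).trans hF2'
  have hRF₁ : R₁ ≤ F12 := (Subgroup.map_mono inf_le_left).trans hF1'
  have hRF₂ : R₂ ≤ F12 := (Subgroup.map_mono inf_le_left).trans hF2'
  have hQord : ∀ (M : Subgroup G), ∀ x ∈ (Cfsg.pCore q M).map M.subtype, ∃ k, orderOf x = q ^ k := by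
    rintro M _ ⟨x, hx, rfl⟩
    obtain ⟨k, hk⟩ := IsPGroup.iff_orderOf.mp (pCore_isPGroup (G := M) q) ⟨x, hx⟩
    exact ⟨k, by rw [orderOf_injective _ M.subtype_injective, ← hk]; exact (Subgroup.orderOf_mk _ _).symm⟩
  have hRord : ∀ (M : Subgroup G), ∀ x ∈ (Cfsg.fittingSubgroup M ⊓ Cfsg.pPrimeCore q M).map M.subtype,
      (orderOf x).Coprime q := by
    rintro M _ ⟨x, hx, rfl⟩
    rw [orderOf_injective _ M.subtype_injective]
    exact Nat.Coprime.coprime_dvd_left ((Cfsg.pPrimeCore q M).orderOf_dvd_natCard (mem_inf.mp hx).2)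
      (pPrimeCore_coprime q)
  have hcomm : ∀ x y, x ∈ F12 → y ∈ F12 → (orderOf x).Coprime (orderOf y) → x * y = y * x := by
    intro x y hx hy h
    exact congrArg Subtype.val (CfsgLib.OddLocal.commute_of_coprime_orderOf hnil
      (x := ⟨x, hx⟩) (y := ⟨y, hy⟩) (by rwa [Subgroup.orderOf_mk, Subgroup.orderOf_mk])).eq
  have hQR : ∀ (M M' : Subgroup G), (Cfsg.pCore q M).map M.subtype ≤ F12 →
      (Cfsg.fittingSubgroup M' ⊓ Cfsg.pPrimeCore q M').map M'.subtype ≤ F12 →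
      ∀ x ∈ (Cfsg.pCore q M).map M.subtype,
      ∀ y ∈ (Cfsg.fittingSubgroup M' ⊓ Cfsg.pPrimeCore q M').map M'.subtype, x * y = y * x := by
    intro M M' h h' x hx y hy
    obtain ⟨k, hk⟩ := hQord M x hx
    exact hcomm x y (h hx) (h' hy) (hk ▸ (Nat.Coprime.pow_right k (hRord M' y hy)).symm)
  -- the `q'`-part of the nilpotent group `F12`
  set T := (Cfsg.pPrimeCore q F12).map F12.subtype
  have hT : ∀ x ∈ F12, (orderOf x).Coprime q → x ∈ T := by
    intro x hx ho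
    refine ⟨⟨x, hx⟩, subnormal_coprime_le_pPrimeCore (A := zpowers (⟨x, hx⟩ : F12))
      ((CfsgLib.Core.isNilpotent_iff_isSubnormal.mp hnil) _) ?_ (mem_zpowers _), rfl⟩
    rwa [Nat.card_zpowers, Subgroup.orderOf_mk]
  have hTord : ∀ x ∈ T, (orderOf x).Coprime q := by
    rintro _ ⟨x, hx, rfl⟩
    rw [orderOf_injective _ F12.subtype_injective]
    exact Nat.Coprime.coprime_dvd_left ((Cfsg.pPrimeCore q F12).orderOf_dvd_natCard hx) (pPrimeCore_coprime q)
  -- the Fitting subgroup of `M₂`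
  have hF2dec : Cfsg.fittingSubgroup M₂ ≤
      Cfsg.pCore q M₂ ⊔ (Cfsg.fittingSubgroup M₂ ⊓ Cfsg.pPrimeCore q M₂) := by
    conv_lhs => rw [CfsgLib.Core.fittingSubgroup_eq_iSup_pCore]
    refine iSup_le fun r => ?_
    haveI := Fact.mk r.2
    by_cases hr : (r : ℕ) = q
    · rw [hr]; exact le_sup_left
    · refine le_sup_of_le_right (le_inf (pCore_le_fitting (r : ℕ)) (le_pPrimeCore (CfsgLib.Components.pCore_normal _) ?_))
      obtain ⟨k, hk⟩ := IsPGroup.iff_card.mp (pCore_isPGroup (G := M₂) (r : ℕ))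
      rw [hk]
      exact Nat.Coprime.pow_left k ((Nat.coprime_primes r.2 Fact.out).mpr hr)
  set L := M₂ ⊓ centralizer (R₂ : Set G) with hL
  set K := L ⊓ centralizer (R₁ : Set G) with hK
  have hnorm : ∀ (M : Subgroup G) (A : Subgroup M), A.Normal → ∀ g ∈ M, ∀ a ∈ A.map M.subtype,
      g * a * g⁻¹ ∈ A.map M.subtype := by
    rintro M A hA g hg _ ⟨a, ha, rfl⟩
    exact ⟨⟨g, hg⟩ * a * ⟨g, hg⟩⁻¹, hA.conj_mem a ha _, rfl⟩
  have hR₂M : ∀ g ∈ M₂, ∀ a ∈ R₂, g * a * g⁻¹ ∈ R₂ := hnorm M₂ _ inferInstance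
  have hLn : ∀ a ∈ L, ∀ b ∈ M₂, b * a * b⁻¹ ∈ L := by
    intro a ha b hb
    obtain ⟨ha1, ha2⟩ := mem_inf.mp ha
    refine mem_inf.mpr ⟨mul_mem (mul_mem hb ha1) (inv_mem hb), mem_centralizer_iff.mpr fun r hr => ?_⟩
    have h := mem_centralizer_iff.mp ha2 _ (hR₂M b⁻¹ (inv_mem hb) r hr)
    calc r * (b * a * b⁻¹) = b * ((b⁻¹ * r * b⁻¹⁻¹) * a) * b⁻¹ := by group
      _ = b * (a * (b⁻¹ * r * b⁻¹⁻¹)) * b⁻¹ := by rw [h]
      _ = b * a * b⁻¹ * r := by group
  have hF1M2 : ∀ f ∈ R₁, f ∈ M₂ := fun f hf =>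
    (mem_inf.mp ((map_subtype_le (Cfsg.fittingSubgroup H)) (hRF₁ hf))).2
  -- `L` conjugates `R₁` into the `q'`-part of `R₁R₂`
  have hkey : ∀ l ∈ L, ∀ f ∈ R₁, ∀ k ∈ K, k * (l * f * l⁻¹) = l * f * l⁻¹ * k := by
    intro l hl f hf k hk
    obtain ⟨hlM, hlC⟩ := mem_inf.mp hl
    obtain ⟨hkL, hkC⟩ := mem_inf.mp hk
    set x := l * f * l⁻¹ * f⁻¹ with hx
    have hxM : x ∈ M₂ := mul_mem (mul_mem (mul_mem hlM (hF1M2 f hf)) (inv_mem hlM)) (inv_mem (hF1M2 f hf))
    have hcx : ∀ a ∈ Q₂, a * x = x * a := by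
      intro a ha
      have h1 : Commute a f := hQR M₂ M₁ hQF₂ hRF₁ a ha f hf
      have h2 : Commute (l⁻¹ * a * l⁻¹⁻¹) f :=
        hQR M₂ M₁ hQF₂ hRF₁ _ (hnorm M₂ _ inferInstance l⁻¹ (inv_mem hlM) a ha) f hf
      have h3 : Commute a (l * f * l⁻¹) := by
        show a * (l * f * l⁻¹) = l * f * l⁻¹ * a
        calc a * (l * f * l⁻¹) = l * ((l⁻¹ * a * l⁻¹⁻¹) * f) * l⁻¹ := by group
          _ = l * (f * (l⁻¹ * a * l⁻¹⁻¹)) * l⁻¹ := by rw [h2.eq]
          _ = l * f * l⁻¹ * a := by group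
      exact (h3.mul_right h1.inv_right).eq
    -- `f` and `x` lie in `F12`
    have hxF2 : x ∈ (Cfsg.fittingSubgroup M₂).map M₂.subtype → ∃ r ∈ R₂, l * f * l⁻¹ = r * f := by
      intro hxF
      obtain ⟨x', hx', hxe⟩ := hxF
      obtain ⟨a, ha, r, hr, har⟩ := mem_sup_of_normal_left.mp (hF2dec hx')
      have haQ : (a : G) ∈ Q₂ := ⟨a, ha, rfl⟩
      have hrR : (r : G) ∈ R₂ := ⟨r, hr, rfl⟩
      have he : x = (a : G) * r := by rw [← hxe, ← har]; rfl
      have hy : l * f * l⁻¹ ∈ T := by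
        refine hT _ ?_ ?_
        · rw [show l * f * l⁻¹ = x * f by rw [hx, inv_mul_cancel_right]]
          exact mul_mem (hF2' ⟨x', hx', hxe⟩) (hRF₁ hf)
        · rw [show l * f * l⁻¹ = MulAut.conj l f from rfl, MulEquiv.orderOf_eq]; exact hRord M₁ f hf
      have hfT := hT f (hRF₁ hf) (hRord M₁ f hf)
      have hrT := hT _ (hRF₂ hrR) (hRord M₂ _ hrR)
      have haT : (a : G) ∈ T := by
        have h := mul_mem (mul_mem hy (inv_mem hfT)) (inv_mem hrT)
        rwa [← hx, he, mul_inv_cancel_right] at h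
      obtain ⟨j, hj⟩ := hQord M₂ _ haQ
      have hco := hTord _ haT
      have ha1 : (a : G) = 1 := by
        rw [← orderOf_eq_one_iff, hj]
        exact Nat.eq_one_of_dvd_coprimes (Nat.Coprime.pow_right j (hj ▸ hco : (q ^ j).Coprime q)) dvd_rfl dvd_rfl
      refine ⟨r, hrR, ?_⟩
      rw [← inv_mul_cancel_right (l * f * l⁻¹) f, ← hx, he, ha1, one_mul]
    suffices hxF : x ∈ (Cfsg.fittingSubgroup M₂).map M₂.subtype by
      obtain ⟨r, hr, he⟩ := hxF2 hxF
      rw [he]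
      have h1 : Commute k r := (mem_centralizer_iff.mp (mem_inf.mp hkL).2 r hr).symm
      have h2 : Commute k f := (mem_centralizer_iff.mp hkC f hf).symm
      exact (h1.mul_right h2).eq
    refine ⟨⟨x, hxM⟩, hC2 (mem_centralizer_iff.mpr fun y hy => Subtype.ext ?_), rfl⟩
    show (y : G) * x = x * y
    obtain ⟨a, ha, r, hr, har⟩ := mem_sup_of_normal_left.mp (hF2dec hy)
    rw [← har]
    have hrR : (r : G) ∈ R₂ := ⟨r, hr, rfl⟩
    have hca : Commute (a : G) x := hcx a ⟨a, ha, rfl⟩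
    have hcr : Commute (r : G) x := by
      have h1 : r.1 * x = x * r.1 := by
        -- `x` is a commutator in `L`
        have hxL : x ∈ L := by
          have := mul_mem hl (hLn _ (inv_mem hl) f (hF1M2 f hf))
          rwa [show l * (f * l⁻¹ * f⁻¹) = x by rw [hx]; group] at this
        exact mem_centralizer_iff.mp (mem_inf.mp hxL).2 _ hrR
      exact h1
    exact (hca.mul_left hcr).eq
  have hKn : ∀ a ∈ K, ∀ b ∈ L, b * a * b⁻¹ ∈ K := by
    intro a ha b hb
    refine mem_inf.mpr ⟨mul_mem (mul_mem hb (mem_inf.mp ha).1) (inv_mem hb), mem_centralizer_iff.mpr fun f hf => ?_⟩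
    have h := hkey b⁻¹ (inv_mem hb) f hf a ha
    calc f * (b * a * b⁻¹) = b * ((b⁻¹ * f * b⁻¹⁻¹) * a) * b⁻¹ := by group
      _ = b * (a * (b⁻¹ * f * b⁻¹⁻¹)) * b⁻¹ := by rw [h]
      _ = b * a * b⁻¹ * f := by group
  have hR1bot : R₁ ≠ ⊥ := fun h => hR (by
    rwa [hR₁, Subgroup.map_eq_bot_iff_of_injective _ M₁.subtype_injective] at h)
  have hR₁H : R₁ ≤ H := hRF₁.trans (map_subtype_le _)
  have hprim := hP1 R₁ hR1bot hR₁H fun g hg => mem_normalizer_iff.mpr fun a =>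
    ⟨fun ha => hnorm M₁ _ inferInstance g hg a ha, fun ha => by
      have h := hnorm M₁ _ inferInstance g⁻¹ (inv_mem hg) _ ha
      rwa [show g⁻¹ * (g * a * g⁻¹) * g⁻¹⁻¹ = a by group] at h⟩
  have hKM₁ : ∀ b ∈ K, b ∈ M₁ := by
    intro b hb
    have h : b ∈ M₂ ⊓ normalizer (R₁ : Set G) := mem_inf.mpr ⟨(mem_inf.mp (mem_inf.mp hb).1).1,
      centralizer_le_normalizer _ (mem_inf.mp hb).2⟩
    rw [hprim] at h
    exact (mem_inf.mp h).1
  have hQK : Q₁ ≤ K := fun a ha => by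
    have haH := mem_inf.mp ((map_subtype_le (Cfsg.fittingSubgroup H)) (hQF₁ ha))
    exact mem_inf.mpr ⟨mem_inf.mpr ⟨haH.2, mem_centralizer_iff.mpr fun r hr =>
      (hQR M₁ M₂ hQF₁ hRF₂ a ha r hr).symm⟩,
      mem_centralizer_iff.mpr fun r hr => (hQR M₁ M₁ hQF₁ hRF₁ a ha r hr).symm⟩
  have hsn : (Q₁.subgroupOf M₂).IsSubnormal := by
    refine sn_step hQK (fun a ha b hb => hnorm M₁ _ inferInstance b (hKM₁ b hb) a ha)
      (sn_step inf_le_left hKn (sn_step inf_le_left hLn ?_))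
    rw [subgroupOf_self]
    exact IsSubnormal.top
  have hQM : Q₁ ≤ M₂ := fun a ha => (mem_inf.mp (mem_inf.mp (hQK ha)).1).1
  rw [← map_subtype_subgroupOf hQM]
  refine Subgroup.map_mono (subnormal_pGroup_le_pCore hsn ?_)
  exact ((pCore_isPGroup (G := M₁) q).map M₁.subtype).comap_of_injective _ M₂.subtype_injective

theorem main (M₁ M₂ : Subgroup G) (hne : M₁ ≠ M₂)
    (hP : ∀ A : Subgroup G, A ≠ ⊥ → A ≤ M₁ ⊓ M₂ → (M₁ ≤ normalizer (A : Set G) → M₂ ⊓ normalizer (A : Set G) = M₁ ⊓ M₂) ∧ (M₂ ≤ normalizer (A : Set G) → M₁ ⊓ normalizer (A : Set G) = M₁ ⊓ M₂))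
    (h₁ : (Cfsg.generalizedFittingSubgroup M₁).map M₁.subtype ≤ M₂)
    (h₂ : (Cfsg.generalizedFittingSubgroup M₂).map M₂.subtype ≤ M₁) :
    ∃ p : ℕ, p.Prime ∧ centralizer (Cfsg.pCore p M₁ : Set M₁) ≤ Cfsg.pCore p M₁ ∧
      centralizer (Cfsg.pCore p M₂ : Set M₂) ≤ Cfsg.pCore p M₂ ∧
      (Cfsg.pCore p M₁).map M₁.subtype ⊔ (Cfsg.pCore p M₂).map M₂.subtype ≤ M₁ ⊓ M₂ := by
  have g1 : (Cfsg.generalizedFittingSubgroup M₁).map M₁.subtype ≤ M₁ ⊓ M₂ := le_inf (map_subtype_le _) h₁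
  have g2 : (Cfsg.generalizedFittingSubgroup M₂).map M₂.subtype ≤ M₁ ⊓ M₂ := le_inf h₂ (map_subtype_le _)
  have hnb : ∀ (M : Subgroup G) (A : Subgroup M), A.Normal → M ≤ normalizer ((A.map M.subtype : Subgroup G) : Set G) := by
    intro M A hA
    refine le_trans (fun g hg => ?_) (Subgroup.le_normalizer_map M.subtype)
    exact ⟨⟨g, hg⟩, by rw [Subgroup.normalizer_eq_top_iff.mpr hA]; exact mem_top _, rfl⟩
  -- a common nontrivial normal subgroup forces equality
  have hcommon : ∀ A : Subgroup G, A ≠ ⊥ → A ≤ M₁ ⊓ M₂ → M₁ ≤ normalizer (A : Set G) → M₂ ≤ normalizer (A : Set G) → False := by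
    intro A hA hle n1 n2
    have e1 := (hP A hA hle).1 n1
    have e2 := (hP A hA hle).2 n2
    rw [inf_eq_left.mpr n2] at e1
    rw [inf_eq_left.mpr n1] at e2
    exact hne (e2.trans e1.symm)
  have hE1 := layer_inf_eq M₁ (M₁ ⊓ M₂) inf_le_left g1
  have hE2 := layer_inf_eq M₂ (M₁ ⊓ M₂) inf_le_right g2
  have hEbot : (Cfsg.layer ↥(M₁ ⊓ M₂)).map (M₁ ⊓ M₂).subtype = ⊥ := by
    by_contra h
    refine hcommon _ h (map_subtype_le _) ?_ ?_
    · rw [hE1]; exact hnb M₁ _ layer_normal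
    · rw [hE2]; exact hnb M₂ _ layer_normal
  have hL1 : Cfsg.layer M₁ = ⊥ := by
    rwa [hE1, Subgroup.map_eq_bot_iff_of_injective _ M₁.subtype_injective] at hEbot
  have hL2 : Cfsg.layer M₂ = ⊥ := by
    rwa [hE2, Subgroup.map_eq_bot_iff_of_injective _ M₂.subtype_injective] at hEbot
  have hC1 := centralizer_fitting_le_of_layer_eq_bot hL1
  have hC2 := centralizer_fitting_le_of_layer_eq_bot hL2
  have f1 : (Cfsg.fittingSubgroup M₁).map M₁.subtype ≤ M₁ ⊓ M₂ := (Subgroup.map_mono fitting_le_gFitting).trans g1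
  have f2 : (Cfsg.fittingSubgroup M₂).map M₂.subtype ≤ M₁ ⊓ M₂ := (Subgroup.map_mono fitting_le_gFitting).trans g2
  have hne1 : Cfsg.fittingSubgroup M₁ ≠ ⊥ := by
    intro h
    have hbot : M₁ = ⊥ := by
      refine eq_bot_iff.mpr fun x hx => mem_bot.mpr ?_
      have h' : (⟨x, hx⟩ : M₁) ∈ centralizer (Cfsg.fittingSubgroup M₁ : Set M₁) := by
        rw [h, coe_bot]; simp [mem_centralizer_iff]
      have := hC1 h'
      rw [h, mem_bot] at this
      exact congrArg Subtype.val this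
    refine hne (hbot.trans (eq_bot_iff.mpr fun x hx => mem_bot.mpr ?_).symm)
    have hF2 : Cfsg.fittingSubgroup M₂ = ⊥ := by
      refine (Subgroup.map_eq_bot_iff_of_injective _ M₂.subtype_injective).mp (le_bot_iff.mp ?_)
      rw [hbot, bot_inf_eq] at f2; exact f2
    have h' : (⟨x, hx⟩ : M₂) ∈ centralizer (Cfsg.fittingSubgroup M₂ : Set M₂) := by
      rw [hF2, coe_bot]; simp [mem_centralizer_iff]
    have := hC2 h'
    rw [hF2, mem_bot] at this
    exact congrArg Subtype.val this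
  have hne2 : Cfsg.fittingSubgroup M₂ ≠ ⊥ := by
    intro h
    have hbot : M₂ = ⊥ := by
      refine eq_bot_iff.mpr fun x hx => mem_bot.mpr ?_
      have h' : (⟨x, hx⟩ : M₂) ∈ centralizer (Cfsg.fittingSubgroup M₂ : Set M₂) := by
        rw [h, coe_bot]; simp [mem_centralizer_iff]
      have := hC2 h'
      rw [h, mem_bot] at this
      exact congrArg Subtype.val this
    refine hne1 ((Subgroup.map_eq_bot_iff_of_injective _ M₁.subtype_injective).mp (le_bot_iff.mp ?_))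
    rw [hbot, inf_bot_eq] at f1; exact f1
  -- a prime of `F(M)`
  have hprime : ∀ (M : Subgroup G), Cfsg.fittingSubgroup M ≠ ⊥ → ∃ p : Nat.Primes, Cfsg.pCore (p : ℕ) M ≠ ⊥ := by
    intro M hM
    by_contra h
    push Not at h
    exact hM (by rw [CfsgLib.Core.fittingSubgroup_eq_iSup_pCore]; exact iSup_eq_bot.mpr h)
  have hsingle : ∀ (M M' : Subgroup G), (∀ q : ℕ, q.Prime → Cfsg.fittingSubgroup M ⊓ Cfsg.pPrimeCore q M ≠ ⊥ →
        (Cfsg.pCore q M).map M.subtype ≤ (Cfsg.pCore q M').map M'.subtype) →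
      (∀ q : ℕ, q.Prime → Cfsg.fittingSubgroup M ⊓ Cfsg.pPrimeCore q M ≠ ⊥) →
      (Cfsg.fittingSubgroup M).map M.subtype ≤ (Cfsg.fittingSubgroup M').map M'.subtype := by
    intro M M' hq hall
    rw [CfsgLib.Core.fittingSubgroup_eq_iSup_pCore, Subgroup.map_iSup]
    refine iSup_le fun r => ?_
    haveI := Fact.mk r.2
    exact (hq r r.2 (hall r r.2)).trans (Subgroup.map_mono (pCore_le_fitting (r : ℕ)))
  have hstep1 : ∀ q : ℕ, q.Prime → Cfsg.fittingSubgroup M₁ ⊓ Cfsg.pPrimeCore q M₁ ≠ ⊥ →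
      (Cfsg.pCore q M₁).map M₁.subtype ≤ (Cfsg.pCore q M₂).map M₂.subtype := fun q hq hR => by
    haveI := Fact.mk hq
    exact core_step M₁ M₂ f1 f2 hC2 (fun A h1 h2 => (hP A h1 h2).1) hR
  have hstep2 : ∀ q : ℕ, q.Prime → Cfsg.fittingSubgroup M₂ ⊓ Cfsg.pPrimeCore q M₂ ≠ ⊥ →
      (Cfsg.pCore q M₂).map M₂.subtype ≤ (Cfsg.pCore q M₁).map M₁.subtype := fun q hq hR => by
    haveI := Fact.mk hq
    refine core_step M₂ M₁ (inf_comm M₁ M₂ ▸ f2) (inf_comm M₁ M₂ ▸ f1) hC1 (fun A h1 h2 h3 => ?_) hR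
    rw [inf_comm M₂ M₁] at h2 ⊢
    exact (hP A h1 h2).2 h3
  -- one prime
  have hone : ∀ (M : Subgroup G) (q : ℕ) [Fact q.Prime], Cfsg.fittingSubgroup M ⊓ Cfsg.pPrimeCore q M = ⊥ →
      Cfsg.fittingSubgroup M = Cfsg.pCore q M := by
    intro M q _ h
    refine le_antisymm ?_ (pCore_le_fitting q)
    rw [CfsgLib.Core.fittingSubgroup_eq_iSup_pCore]
    refine iSup_le fun r => ?_
    haveI := Fact.mk r.2
    by_cases hr : (r : ℕ) = q
    · rw [hr]
    · refine le_trans (le_of_eq (le_bot_iff.mp (h ▸ le_inf (pCore_le_fitting (r : ℕ)) (le_pPrimeCore (CfsgLib.Components.pCore_normal _) ?_)))) bot_le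
      obtain ⟨k, hk⟩ := IsPGroup.iff_card.mp (pCore_isPGroup (G := M) (r : ℕ))
      rw [hk]
      exact Nat.Coprime.pow_left k ((Nat.coprime_primes r.2 Fact.out).mpr hr)
  by_cases c1 : ∀ q : ℕ, q.Prime → Cfsg.fittingSubgroup M₁ ⊓ Cfsg.pPrimeCore q M₁ ≠ ⊥
  · exfalso
    have hle := hsingle M₁ M₂ hstep1 c1
    by_cases c2 : ∀ q : ℕ, q.Prime → Cfsg.fittingSubgroup M₂ ⊓ Cfsg.pPrimeCore q M₂ ≠ ⊥
    · have heq := le_antisymm hle (hsingle M₂ M₁ hstep2 c2)
      refine hcommon _ (fun h => hne1 ((Subgroup.map_eq_bot_iff_of_injective _ M₁.subtype_injective).mp h)) f1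
        (hnb M₁ _ fitting_normal) ?_
      rw [heq]; exact hnb M₂ _ fitting_normal
    · push Not at c2
      obtain ⟨q, hq, h⟩ := c2
      haveI := Fact.mk hq
      rw [hone M₂ q h] at hle
      refine c1 q hq (eq_bot_iff.mpr fun x hx => mem_bot.mpr ?_)
      obtain ⟨y, hy, hxy⟩ := hle ⟨x, (mem_inf.mp hx).1, rfl⟩
      obtain ⟨k, hk⟩ := IsPGroup.iff_orderOf.mp (pCore_isPGroup (G := M₂) q) ⟨y, hy⟩
      have hco := Nat.Coprime.coprime_dvd_left ((Cfsg.pPrimeCore q M₁).orderOf_dvd_natCard (mem_inf.mp hx).2)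
        (pPrimeCore_coprime q)
      have e : orderOf x = q ^ k := by
        rw [← orderOf_injective _ M₁.subtype_injective, ← hxy, orderOf_injective _ M₂.subtype_injective, ← hk]; exact (Subgroup.orderOf_mk _ _).symm
      rw [← orderOf_eq_one_iff, e]
      exact Nat.eq_one_of_dvd_coprimes (Nat.Coprime.pow_right k (e ▸ hco : (q ^ k).Coprime q)) dvd_rfl dvd_rfl
  · push Not at c1
    obtain ⟨p, hp, hp1⟩ := c1
    haveI := Fact.mk hp
    have e1 := hone M₁ p hp1
    have hp2 : Cfsg.fittingSubgroup M₂ ⊓ Cfsg.pPrimeCore p M₂ = ⊥ := by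
      by_contra h2
      -- `O_p(M₁)` centralizes the `p'`-part of `F(M₂)` and is contained in `F(M₂)`
      by_cases c2 : ∀ q : ℕ, q.Prime → Cfsg.fittingSubgroup M₂ ⊓ Cfsg.pPrimeCore q M₂ ≠ ⊥
      · have hle := hsingle M₂ M₁ hstep2 c2
        rw [e1] at hle
        refine c2 p hp (eq_bot_iff.mpr fun x hx => mem_bot.mpr ?_)
        obtain ⟨y, hy, hxy⟩ := hle ⟨x, (mem_inf.mp hx).1, rfl⟩
        obtain ⟨k, hk⟩ := IsPGroup.iff_orderOf.mp (pCore_isPGroup (G := M₁) p) ⟨y, hy⟩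
        have hco := Nat.Coprime.coprime_dvd_left ((Cfsg.pPrimeCore p M₂).orderOf_dvd_natCard (mem_inf.mp hx).2)
          (pPrimeCore_coprime p)
        have e : orderOf x = p ^ k := by
          rw [← orderOf_injective _ M₂.subtype_injective, ← hxy, orderOf_injective _ M₁.subtype_injective, ← hk]; exact (Subgroup.orderOf_mk _ _).symm
        rw [← orderOf_eq_one_iff, e]
        exact Nat.eq_one_of_dvd_coprimes (Nat.Coprime.pow_right k (e ▸ hco : (p ^ k).Coprime p)) dvd_rfl dvd_rfl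
      · push Not at c2
        obtain ⟨r, hr, hr2⟩ := c2
        haveI := Fact.mk hr
        have e2 := hone M₂ r hr2
        have hpr : p ≠ r := fun h => h2 (h ▸ hr2)
        set H := M₁ ⊓ M₂
        have hF1' := fitting_le_of_le M₁ H inf_le_left f1
        have hF2' := fitting_le_of_le M₂ H inf_le_right f2
        haveI := fitting_isNilpotent (G := H)
        have hnil : Group.IsNilpotent ((Cfsg.fittingSubgroup H).map H.subtype) :=
          (Group.isNilpotent_congr ((Cfsg.fittingSubgroup H).equivMapOfInjective _ H.subtype_injective)).mp inferInstance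
        refine hne1 ((Subgroup.map_eq_bot_iff_of_injective _ M₁.subtype_injective).mp (eq_bot_iff.mpr fun x hx => mem_bot.mpr ?_))
        have hxH := mem_inf.mp (f1 hx)
        obtain ⟨x', hx', rfl⟩ := hx
        obtain ⟨k, hk⟩ := IsPGroup.iff_orderOf.mp (pCore_isPGroup (G := M₁) p) ⟨x', e1 ▸ hx'⟩
        have hox : orderOf (M₁.subtype x') = p ^ k := by
          rw [orderOf_injective _ M₁.subtype_injective, ← hk]; exact (Subgroup.orderOf_mk _ _).symm
        have hmem : (⟨M₁.subtype x', hxH.2⟩ : M₂) ∈ centralizer (Cfsg.fittingSubgroup M₂ : Set M₂) := by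
          refine mem_centralizer_iff.mpr fun y hy => Subtype.ext ?_
          obtain ⟨j, hj⟩ := IsPGroup.iff_orderOf.mp (pCore_isPGroup (G := M₂) r) ⟨y, e2 ▸ hy⟩
          have hoy : orderOf (y : G) = r ^ j := by rw [← hj, Subgroup.orderOf_mk, Subgroup.orderOf_coe]
          have hc := (CfsgLib.OddLocal.commute_of_coprime_orderOf hnil
            (x := ⟨(y : G), hF2' ⟨y, hy, rfl⟩⟩) (y := ⟨M₁.subtype x', hF1' ⟨x', hx', rfl⟩⟩)
            (by rw [Subgroup.orderOf_mk, Subgroup.orderOf_mk, hox, hoy]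
                exact Nat.Coprime.pow _ _ ((Nat.coprime_primes hr hp).mpr (Ne.symm hpr)))).eq
          exact (congrArg Subtype.val hc : _)
        have hF := hC2 hmem
        rw [e2] at hF
        obtain ⟨j, hj⟩ := IsPGroup.iff_orderOf.mp (pCore_isPGroup (G := M₂) r) ⟨_, hF⟩
        have e : p ^ k = r ^ j := by
          rw [← hox, ← hj, ← Subgroup.orderOf_coe, ← Subgroup.orderOf_coe]
        rw [← orderOf_eq_one_iff, hox]
        exact Nat.eq_one_of_dvd_coprimes (Nat.Coprime.pow k j ((Nat.coprime_primes hp hr).mpr hpr)) dvd_rfl (e ▸ dvd_rfl)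
    have e2 := hone M₂ p hp2
    exact ⟨p, hp, e1 ▸ hC1, e2 ▸ hC2, sup_le (e1 ▸ f1) (e2 ▸ f2)⟩

end parts

/-- Bender's Theorem on primitive pairs. Two distinct subgroups M₁, M₂ of G form a primitive pair when, for {i, j} = {1, 2}, every non-trivial normal subgroup A of M_i contained in M₁ ∩ M₂ satisfies N_{M_j}(A) = M₁ ∩ M₂; the pair has characteristic p when moreover C_{M_i}(O_p(M_i)) ≤ O_p(M_i) for both i and O_p(M₁)O_p(M₂) ≤ M₁ ∩ M₂. If (M₁, M₂) is a primitive pair of the finite group G with F*(M₁) ≤ M₂ and F*(M₂) ≤ M₁, then for some prime p the pair has characteristic p. -/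
theorem result {G : Type*} [Group G] [Finite G] (M₁ M₂ : Subgroup G) (hne : M₁ ≠ M₂) (hP : ∀ A : Subgroup G, A ≠ ⊥ → A ≤ M₁ ⊓ M₂ → (M₁ ≤ Subgroup.normalizer (A : Set G) → M₂ ⊓ Subgroup.normalizer (A : Set G) = M₁ ⊓ M₂) ∧ (M₂ ≤ Subgroup.normalizer (A : Set G) → M₁ ⊓ Subgroup.normalizer (A : Set G) = M₁ ⊓ M₂)) (h₁ : (Cfsg.generalizedFittingSubgroup ↥M₁).map M₁.subtype ≤ M₂) (h₂ : (Cfsg.generalizedFittingSubgroup ↥M₂).map M₂.subtype ≤ M₁) : ∃ p : ℕ, p.Prime ∧ Subgroup.centralizer (Cfsg.pCore p ↥M₁ : Set ↥M₁) ≤ Cfsg.pCore p ↥M₁ ∧ Subgroup.centralizer (Cfsg.pCore p ↥M₂ : Set ↥M₂) ≤ Cfsg.pCore p ↥M₂ ∧ (Cfsg.pCore p ↥M₁).map M₁.subtype ⊔ (Cfsg.pCore p ↥M₂).map M₂.subtype ≤ M₁ ⊓ M₂ := by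
  exact main M₁ M₂ hne hP h₁ h₂

end Cfsg.Agent.S3752
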