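import Cfsg.Statements.S3754
import Cfsg.Agent.Lib.PGroups.FrattiniModule
import Cfsg.Agent.Lib.PGroups.Basic
import Cfsg.Agent.Lib.Signalizer.Basic
import Cfsg.Agent.Lib.Transfer.PResidual
import Cfsg.Agent.Lib.Core.Cores
import Cfsg.Agent.Lib.Core.Coprime
import Cfsg.Agent.Lib.PLocal.Offender

set_option autoImplicit false
open Cfsg

namespace Cfsg.Agent.S3754

open Subgroup
open scoped commutatorElement

/-- the subgroup generated by `A` and its conjugate by `d` -/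
abbrev pair {M : Type*} [Group M] (A : Subgroup M) (d : M) : Subgroup M :=
  A ⊔ A.map (MulAut.conj d).toMonoidHom

/-- the image of `O^p` of a subgroup -/
abbrev res {M : Type*} [Group M] (p : ℕ) (L : Subgroup M) : Subgroup M :=
  (Cfsg.pResidual p ↥L).map L.subtype

/-- Let M be a finite p-soluble group and A a p-subgroup of M with Φ(A) ≤ O_p(M) but A ≰ O_p(M). Then there is x ∈ O_{p,p'}(M) such that L = ⟨A, xAx⁻¹⟩ satisfies: x ∈ O^p(L) and O^p(L) ≤ O_{p,p'}(M); [O^p(L), A] = O^p(L); A ∩ O_p(L) has index p in A; and [A ∩ O_p(L), L] ≤ O_p(M). Here O^p(L) is the subgroup generated by the p'-elements of L and O_{p,p'}(M) the preimage of O_{p'}(M/O_p(M)). -/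
theorem result {M : Type*} [Group M] [Finite M] {p : ℕ} [Fact p.Prime] (hM : Cfsg.IsPSolvable p M) (A : Subgroup M) (hA : IsPGroup p A) (hΦ : (frattini ↥A).map A.subtype ≤ Cfsg.pCore p M) (hnot : ¬ A ≤ Cfsg.pCore p M) : ∃ x ∈ (Cfsg.pPrimeCore p (M ⧸ Cfsg.pCore p M)).comap (QuotientGroup.mk' (Cfsg.pCore p M)), x ∈ (Cfsg.pResidual p ↥(A ⊔ A.map (MulAut.conj x).toMonoidHom)).map (A ⊔ A.map (MulAut.conj x).toMonoidHom).subtype ∧ (Cfsg.pResidual p ↥(A ⊔ A.map (MulAut.conj x).toMonoidHom)).map (A ⊔ A.map (MulAut.conj x).toMonoidHom).subtype ≤ (Cfsg.pPrimeCore p (M ⧸ Cfsg.pCore p M)).comap (QuotientGroup.mk' (Cfsg.pCore p M)) ∧ ⁅(Cfsg.pResidual p ↥(A ⊔ A.map (MulAut.conj x).toMonoidHom)).map (A ⊔ A.map (MulAut.conj x).toMonoidHom).subtype, A⁆ = (Cfsg.pResidual p ↥(A ⊔ A.map (MulAut.conj x).toMonoidHom)).map (A ⊔ A.map (MulAut.conj x).toMonoidHom).subtype ∧ (A ⊓ (Cfsg.pCore p ↥(A ⊔ A.map (MulAut.conj x).toMonoidHom)).map (A ⊔ A.map (MulAut.conj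 x).toMonoidHom).subtype).relIndex A = p ∧ ⁅A ⊓ (Cfsg.pCore p ↥(A ⊔ A.map (MulAut.conj x).toMonoidHom)).map (A ⊔ A.map (MulAut.conj x).toMonoidHom).subtype, A ⊔ A.map (MulAut.conj x).toMonoidHom⁆ ≤ Cfsg.pCore p M := by
  classical
  have hp := (Fact.out : p.Prime)
  set R := Cfsg.pCore p M with hR
  haveI : R.Normal := CfsgLib.Core.normal_pCore p M
  have hRg : IsPGroup p R := CfsgLib.Core.isPGroup_pCore p M
  set π := QuotientGroup.mk' R with hπ
  set N := Cfsg.pPrimeCore p (M ⧸ R) with hN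
  haveI : N.Normal := CfsgLib.Core.normal_pPrimeCore p (M ⧸ R)
  set Kh := N.comap π with hKh
  haveI : Kh.Normal := inferInstance
  have hNc : (Nat.card N).Coprime p := CfsgLib.Core.coprime_card_pPrimeCore p _
  set Ab := A.map π with hAb
  have hπR : ∀ g : M, π g = 1 ↔ g ∈ R := fun g => QuotientGroup.eq_one_iff g
  have hpN : ∀ n ∈ N, n ^ p = 1 → n = 1 := fun n hn h => orderOf_eq_one_iff.1
    (Nat.eq_one_of_dvd_coprimes hNc (N.orderOf_dvd_natCard hn) (orderOf_dvd_of_pow_eq_one h))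
  have hAel : Cfsg.IsElementaryAbelian p Ab := by
    refine ⟨le_centralizer_iff_isMulCommutative.1 ?_, ?_⟩
    · rintro _ ⟨a, ha, rfl⟩
      refine mem_centralizer_iff.2 ?_
      rintro _ ⟨b, hb, rfl⟩
      rw [← commutatorElement_eq_one_iff_mul_comm, ← map_commutatorElement, hπR]
      exact hΦ ⟨⁅(⟨b, hb⟩ : A), ⟨a, ha⟩⁆, CfsgLib.PGroups.commutator_le_frattini' hA
        (commutator_mem_commutator (mem_top _) (mem_top _)), rfl⟩
    · rintro _ ⟨a, ha, rfl⟩
      rw [← map_pow, hπR]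
      exact hΦ ⟨(⟨a, ha⟩ : A) ^ p, CfsgLib.PGroups.pow_mem_frattini hA _, rfl⟩
  haveI := hAel.1
  have hcN : centralizer (N : Set (M ⧸ R)) ≤ N :=
    CfsgLib.PGroups.centralizer_pPrimeCore_le (CfsgLib.PLocal.isPSolvable_quotient hM R)
      (CfsgLib.Core.pCore_quotient_pCore p M)
  have hNA : Ab ⊓ N = ⊥ := eq_bot_iff.2 fun y hy =>
    mem_bot.2 (hpN y (mem_inf.1 hy).2 (hAel.2 y (mem_inf.1 hy).1))
  obtain ⟨Bb, hBA, hBi, hBne⟩ : ∃ Bb : Subgroup (M ⧸ R), Bb ≤ Ab ∧ Bb.relIndex Ab ≤ p ∧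
      ¬ N ⊓ centralizer (Bb : Set (M ⧸ R)) ≤ centralizer (Ab : Set (M ⧸ R)) := by
    by_contra hc
    push Not at hc
    have h1 := CfsgLib.Signalizer.le_of_hyperplanes_le hAel (X := N)
      (fun h => hp.ne_one (Nat.eq_one_of_dvd_coprimes hNc h dvd_rfl))
      le_normalizer_of_normal (Y := centralizer (Ab : Set (M ⧸ R))) hc
    have h2 : Ab ≤ Ab ⊓ N := le_inf le_rfl ((le_centralizer_iff.1 h1).trans hcN)
    rw [hNA, le_bot_iff, hAb, Subgroup.map_eq_bot_iff, QuotientGroup.ker_mk'] at h2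
    exact hnot h2
  obtain ⟨db, hdb, hdbA⟩ := SetLike.not_le_iff_exists.1 hBne
  set B := A ⊓ Bb.comap π with hB
  have hBidx : B.relIndex A = p := by
    have h1 : B.relIndex A = Bb.relIndex Ab := by
      rw [Subgroup.relIndex, Subgroup.relIndex, hB,
        show (A ⊓ Bb.comap π).subgroupOf A = (Bb.subgroupOf Ab).comap (π.subgroupMap A) by
          ext a
          exact ⟨fun h => h.2, fun h => ⟨a.2, h⟩⟩,
        index_comap_of_surjective _ (π.subgroupMap_surjective A)]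
    rw [h1]
    obtain ⟨j, hj⟩ := (hA.map π).index (Bb.subgroupOf Ab)
    have hne : j ≠ 0 := by
      rintro rfl
      rw [pow_zero] at hj
      have : Ab ≤ Bb := subgroupOf_eq_top.1 (index_eq_one.1 hj)
      exact hdbA (centralizer_le (SetLike.coe_subset_coe.2 this) (mem_inf.1 hdb).2)
    refine le_antisymm hBi ?_
    show p ≤ (Bb.subgroupOf Ab).index
    rw [hj]
    exact Nat.le_self_pow hne p
  -- admissible conjugating elements
  let ok : M → Prop := fun d =>
    d ∈ Kh ∧ π d ∉ centralizer (Ab : Set (M ⧸ R)) ∧ ∀ b ∈ B, π b * π d = π d * π b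
  obtain ⟨d0, rfl⟩ := QuotientGroup.mk'_surjective R db
  have hd0 : ok d0 := ⟨(mem_inf.1 hdb).1, hdbA, fun b hb =>
    mem_centralizer_iff.1 (mem_inf.1 hdb).2 _ (mem_inf.1 hb).2⟩
  obtain ⟨d, hd, hmin⟩ := Set.exists_min_image {d : M | ok d} (fun d => Nat.card (pair A d))
    (Set.toFinite _) ⟨d0, hd0⟩
  obtain ⟨hdK, hdA, hdB⟩ := hd
  set L := pair A d with hL
  set E := res p L with hE
  have hAL : A ≤ L := le_sup_left
  have hdl : ∀ a ∈ A, d * a * d⁻¹ ∈ L := fun a ha => mem_sup_right ⟨a, ha, rfl⟩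
  have hBL : ∀ b ∈ B, ∀ l ∈ L, π b * π l = π l * π b := by
    intro b hb l hl
    have hle : L ≤ (centralizer ({π b} : Set (M ⧸ R))).comap π := by
      refine sup_le (fun a ha => ?_) ?_
      · exact mem_centralizer_singleton_iff.2
          (CfsgLib.PLocal.comm_of_mem hAel.1 (mem_map_of_mem π ha) (mem_map_of_mem π (mem_inf.1 hb).1))
      · rintro _ ⟨a, ha, rfl⟩
        show π (d * a * d⁻¹) ∈ centralizer ({π b} : Set (M ⧸ R))
        have h1 : Commute (π b) (π d) := hdB b hb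
        have h2 : Commute (π b) (π a) :=
          CfsgLib.PLocal.comm_of_mem hAel.1 (mem_map_of_mem π (mem_inf.1 hb).1) (mem_map_of_mem π ha)
        rw [map_mul, map_mul, map_inv, mem_centralizer_singleton_iff]
        exact ((h1.mul_right h2).mul_right h1.inv_right).eq.symm
    exact (mem_centralizer_singleton_iff.1 (hle hl)).symm
  have hEK : E ≤ Kh := by
    rintro _ ⟨g, hg, rfl⟩
    have hsub : L ≤ A ⊔ Kh := by
      refine sup_le le_sup_left ?_
      rintro _ ⟨a, ha, rfl⟩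
      exact mul_mem (mul_mem (mem_sup_right hdK) (mem_sup_left ha)) (inv_mem (mem_sup_right hdK))
    let φ : L →* M ⧸ Kh := (QuotientGroup.mk' Kh).comp L.subtype
    have hφ : IsPGroup p φ.range := by
      refine (hA.map (QuotientGroup.mk' Kh)).to_le ?_
      rintro _ ⟨l, rfl⟩
      have := mem_map_of_mem (QuotientGroup.mk' Kh) (hsub l.2)
      rwa [Subgroup.map_sup, QuotientGroup.map_mk'_self, sup_bot_eq] at this
    have := CfsgLib.Transfer.pResidual_le_ker hφ φ.rangeRestrict hg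
    rw [MonoidHom.ker_rangeRestrict] at this
    exact (QuotientGroup.eq_one_iff _).1 this
  have hEL : E ≤ L := map_subtype_le _
  -- every element of `L` is in `A E` modulo `R`
  have hAE : ∀ l ∈ L, ∃ a ∈ A, ∃ e ∈ E, π l = π a * π e := by
    intro l hl
    have hsub : L ≤ A ⊔ Kh := by
      refine sup_le le_sup_left ?_
      rintro _ ⟨a, ha, rfl⟩
      exact mul_mem (mul_mem (mem_sup_right hdK) (mem_sup_left ha)) (inv_mem (mem_sup_right hdK))
    obtain ⟨a, ha, k, hk, rfl⟩ := mem_sup_of_normal_right.1 (hsub hl)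
    have hkL : k ∈ L := by
      have := L.mul_mem (L.inv_mem (hAL ha)) hl
      rwa [inv_mul_cancel_left] at this
    obtain ⟨j, hj⟩ := CfsgLib.Transfer.exists_pow_prime_pow_coprime (p := p) (⟨k, hkL⟩ : L)
    have hkE : k ^ p ^ j ∈ E :=
      ⟨_, CfsgLib.Transfer.mem_pResidual_of_coprime hj, rfl⟩
    have hcopk : (p ^ j).Coprime (orderOf (π k)) :=
      ((hNc.coprime_dvd_left (N.orderOf_dvd_natCard hk)).pow_right j).symm
    obtain ⟨m, hm⟩ := exists_pow_eq_self_of_coprime (x := π k) (n := p ^ j) hcopk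
    exact ⟨a, ha, (k ^ p ^ j) ^ m, pow_mem hkE m, by rw [map_mul, map_pow, map_pow, hm]⟩
  -- some element of `E` moves `A` modulo `R`
  obtain ⟨e, heE, heA⟩ : ∃ e ∈ E, π e ∉ centralizer (Ab : Set (M ⧸ R)) := by
    by_contra hc
    push Not at hc
    refine hdA (mem_centralizer_iff.2 ?_)
    rintro _ ⟨a, ha, rfl⟩
    obtain ⟨a1, ha1, e1, he1, heq⟩ := hAE _ (hdl a ha)
    have hcomm : Commute (π a1) (π e1) :=
      mem_centralizer_iff.1 (hc e1 he1) _ (mem_map_of_mem π ha1)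
    have hpow : (π (d * a * d⁻¹)) ^ p = 1 := by
      rw [map_mul, map_mul, map_inv, conj_pow, hAel.2 _ (mem_map_of_mem π ha), mul_one, mul_inv_cancel]
    rw [heq, hcomm.mul_pow, hAel.2 _ (mem_map_of_mem π ha1), one_mul] at hpow
    rw [hpN _ (hEK he1) hpow, mul_one, map_mul, map_mul, map_inv] at heq
    have hmem : π d * π a * (π d)⁻¹ * (π a)⁻¹ ∈ Ab ⊓ N := by
      refine mem_inf.2 ⟨?_, ?_⟩
      · rw [heq]
        exact mul_mem (mem_map_of_mem π ha1) (inv_mem (mem_map_of_mem π ha))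
      · rw [show π d * π a * (π d)⁻¹ * (π a)⁻¹ = π d * (π a * (π d)⁻¹ * (π a)⁻¹) by group]
        exact mul_mem hdK ((inferInstance : N.Normal).conj_mem _ (inv_mem hdK) _)
    rw [hNA, mem_bot, ← commutatorElement_def, commutatorElement_eq_one_iff_mul_comm] at hmem
    exact hmem.symm
  have heL : e ∈ L := hEL heE
  have hok : ok e := ⟨hEK heE, heA, fun b hb => hBL b hb e heL⟩
  have hle : pair A e ≤ L := by
    refine sup_le hAL ?_
    rintro _ ⟨a, ha, rfl⟩
    exact mul_mem (mul_mem heL (hAL ha)) (inv_mem heL)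
  have hLe : pair A e = L := eq_of_le_of_card_ge hle (hmin e hok)
  refine ⟨e, hEK heE, ?_⟩
  show e ∈ res p (pair A e) ∧ res p (pair A e) ≤ Kh ∧ ⁅res p (pair A e), A⁆ = res p (pair A e) ∧
    (A ⊓ (Cfsg.pCore p ↥(pair A e)).map (pair A e).subtype).relIndex A = p ∧
    ⁅A ⊓ (Cfsg.pCore p ↥(pair A e)).map (pair A e).subtype, pair A e⁆ ≤ R
  rw [hLe]
  refine ⟨heE, hEK, ?_, ?_⟩
  · -- `[E, A] = E`
    have hLE : L ≤ normalizer (E : Set M) := by
      intro l hl
      rw [mem_normalizer_iff_map_conj_eq]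
      refine eq_of_le_of_card_ge ?_ (Subgroup.card_map_of_injective (MulAut.conj l).injective).ge
      rintro _ ⟨_, ⟨g, hg, rfl⟩, rfl⟩
      exact ⟨⟨l, hl⟩ * g * ⟨l, hl⟩⁻¹, CfsgLib.Transfer.pResidual_normal.conj_mem g hg _, rfl⟩
    set Y := ⁅E, A⁆ with hY
    have hYE : Y ≤ E := le_normalizer_iff_commutator_le_left.1 (hAL.trans hLE)
    refine le_antisymm hYE ?_
    have hLY : L ≤ A ⊔ Y := by
      rw [← hLe]
      refine sup_le le_sup_left ?_
      rintro _ ⟨a, ha, rfl⟩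
      show e * a * e⁻¹ ∈ A ⊔ Y
      rw [show e * a * e⁻¹ = ⁅e, a⁆ * a by rw [commutatorElement_def]; group]
      exact mul_mem (mem_sup_right (commutator_mem_commutator heE ha)) (mem_sup_left ha)
    have hLn : L ≤ normalizer (Y : Set M) := hLY.trans (sup_le (normalizer_commutator_ge_right E A)
      (hYE.trans (normalizer_commutator_ge_left E A)))
    haveI : (Y.subgroupOf L).Normal := normal_subgroupOf_of_le_normalizer hLn
    have hq : IsPGroup p (L ⧸ Y.subgroupOf L) := by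
      refine (hA.of_equiv (subgroupOfEquivOfLe hAL).symm).of_surjective
        ((QuotientGroup.mk' (Y.subgroupOf L)).comp (A.subgroupOf L).subtype) ?_
      intro q
      obtain ⟨⟨l, hl⟩, rfl⟩ := QuotientGroup.mk'_surjective _ q
      obtain ⟨a, ha, y, hy, rfl⟩ : ∃ a ∈ A, ∃ y ∈ Y, l = a * y :=
        (CfsgLib.Core.mem_sup_iff_mul (hAL.trans hLn)).1 (hLY hl)
      refine ⟨⟨⟨a, hAL ha⟩, ha⟩, (QuotientGroup.eq).2 ?_⟩
      show a⁻¹ * (a * y) ∈ Y
      rwa [inv_mul_cancel_left]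
    rintro _ ⟨g, hg, rfl⟩
    exact CfsgLib.Transfer.pResidual_le_of_isPGroup_quotient hq hg
  set O := (Cfsg.pCore p ↥L).map L.subtype with hO
  have hBO : B ≤ O := by
    set D := B.subgroupOf L ⊔ R.subgroupOf L with hD
    haveI : D.Normal := by
      refine ⟨fun x hx l => ?_⟩
      rw [hD] at hx ⊢
      obtain ⟨b, hb, r, hr, rfl⟩ := mem_sup_of_normal_right.1 hx
      have h1 : (l : M) * b * (l : M)⁻¹ * (b : M)⁻¹ ∈ R := by
        rw [← hπR, map_mul, map_mul, map_mul, map_inv, map_inv, ← hBL b hb l l.2, mul_inv_cancel_right,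
          mul_inv_cancel]
      have h2 : l * b * l⁻¹ * b⁻¹ ∈ R.subgroupOf L := h1
      rw [show l * (b * r) * l⁻¹ = (l * b * l⁻¹ * b⁻¹) * b * (l * r * l⁻¹) by group]
      exact mul_mem (mul_mem (mem_sup_right h2) (mem_sup_left hb))
        (mem_sup_right ((inferInstance : (R.subgroupOf L).Normal).conj_mem r hr l))
    have hDp : IsPGroup p D := IsPGroup.to_sup_of_normal_right
      ((hA.to_le inf_le_left).of_equiv (subgroupOfEquivOfLe ((inf_le_left : B ≤ A).trans hAL)).symm)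
      (hRg.comap_subtype)
    intro b hb
    exact ⟨⟨b, hAL (mem_inf.1 hb).1⟩, CfsgLib.Core.le_pCore hDp (mem_sup_left hb), rfl⟩
  have hAnO : ¬ A ≤ O := by
    intro hAO
    have hLO : L ≤ O := by
      rw [← hLe]
      refine sup_le hAO ?_
      rintro _ ⟨a, ha, rfl⟩
      obtain ⟨a', ha', rfl⟩ := hAO ha
      exact ⟨⟨e, heL⟩ * a' * ⟨e, heL⟩⁻¹,
        (CfsgLib.Core.normal_pCore p ↥L).conj_mem a' ha' _, rfl⟩
    obtain ⟨g, hg, hge⟩ := heE
    have hge1 : g = 1 := by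
      refine (Subgroup.mem_bot).1 ?_
      have hLp : IsPGroup p ↥L := by
        intro l
        obtain ⟨l', hl', hll⟩ := hLO l.2
        obtain ⟨k, hk⟩ := CfsgLib.Core.isPGroup_pCore p ↥L ⟨l', hl'⟩
        refine ⟨k, ?_⟩
        rw [show l = l' from Subtype.ext hll.symm]
        exact congrArg Subtype.val hk
      have : Cfsg.pResidual p ↥L ≤ ⊥ := CfsgLib.Transfer.pResidual_le_iff.2 fun y hy =>
        mem_bot.2 (CfsgLib.Transfer.eq_one_of_coprime_of_isPGroup hLp hy)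
      exact this hg
    exact heA (by rw [← hge, hge1]; simp)
  have hAOB : A ⊓ O = B := by
    refine le_antisymm ?_ (le_inf inf_le_left hBO)
    by_contra hne
    refine hAnO ?_
    have h1 : B ≤ A ⊓ O := le_inf inf_le_left hBO
    have h2 : B.relIndex (A ⊓ O) * (A ⊓ O).relIndex A = p :=
      (relIndex_mul_relIndex _ _ _ h1 inf_le_left).trans hBidx
    rcases hp.eq_one_or_self_of_dvd _ ⟨_, h2.symm⟩ with h3 | h3
    · exact absurd (relIndex_eq_one.1 h3) hne
    · rw [h3] at h2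
      have h4 : (A ⊓ O).relIndex A = 1 := Nat.eq_of_mul_eq_mul_left hp.pos (by rw [h2, mul_one])
      exact (relIndex_eq_one.1 h4).trans inf_le_right
  rw [hAOB]
  refine ⟨hBidx, commutator_le.2 fun b hb l hl => ?_⟩
  rw [← hπR, map_commutatorElement, commutatorElement_eq_one_iff_mul_comm]
  exact hBL b hb l hl

end Cfsg.Agent.S3754
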