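import Cfsg.Statements.S3755
import Cfsg.Agent.Lib.Techniques2.SFourFree
import Cfsg.Agent.Lib.PLocal.Thompson

set_option autoImplicit false
open Cfsg

namespace Cfsg.Agent.S3755

/-- Let M and V be subgroups of a finite group with V an elementary abelian 2-group, M normalizing V and acting faithfully on it (M ∩ C(V) = 1), and C_M(O_{2'}(M)) ≤ O_{2'}(M). If some elementary abelian 2-subgroup A of M satisfies |V : C_V(A)| < |A|², then M has a section isomorphic to the symmetric group of degree 3. -/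
theorem result {X : Type*} [Group X] [Finite X] (M V : Subgroup X) (hV : Cfsg.IsElementaryAbelian 2 V) (hMV : M ≤ Subgroup.normalizer (V : Set X)) (hfaith : M ⊓ Subgroup.centralizer (V : Set X) = ⊥) (hcon : Subgroup.centralizer (Cfsg.pPrimeCore 2 ↥M : Set ↥M) ≤ Cfsg.pPrimeCore 2 ↥M) (A : Subgroup X) (hAM : A ≤ M) (hA : Cfsg.IsElementaryAbelian 2 A) (hsmall : (V ⊓ Subgroup.centralizer (A : Set X)).relIndex V < Nat.card A ^ 2) : Cfsg.Involves (Equiv.Perm (Fin 3)) ↥M := by
  haveI : Fact (Nat.Prime 2) := ⟨Nat.prime_two⟩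
  by_contra hfree
  set K := Cfsg.pPrimeCore 2 ↥M with hK
  haveI : K.Normal := CfsgLib.Core.normal_pPrimeCore 2 ↥M
  set Ab := A.subgroupOf M with hAb
  have hAbe : Cfsg.IsElementaryAbelian 2 Ab :=
    CfsgLib.PLocal.elementary_comap M.subtype M.subtype_injective hA
  obtain ⟨n, a, k, hcard, haA, hkK, hk1, hinv, hcomm⟩ := CfsgLib.Techniques.exists_dual_family K
    (Nat.coprime_two_right.1 (CfsgLib.Core.coprime_card_pPrimeCore 2 ↥M)) hcon Ab hAbe
  rw [hAb, Nat.card_congr (Subgroup.subgroupOfEquivOfLe hAM).toEquiv] at hcard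
  have hbound := CfsgLib.Techniques.pow_four_mul_card_le_of n V hV (fun i => (a i : X))
    (fun i => (k i : X)) (fun i => hMV (a i).2) (fun i => hMV (k i).2)
    (fun i => by
      rw [← pow_two, hA.2 _ (show (a i : X) ∈ A from haA i)]
      exact one_mem _)
    (fun i j => congrArg Subtype.val (hA.1.is_comm.comm
      ⟨(a i : X), haA i⟩ ⟨(a j : X), haA j⟩))
    (fun i => by
      have h : ((a i : X)) * k i * (a i : X)⁻¹ = (k i : X)⁻¹ := congrArg Subtype.val (hinv i)
      show (a i : X) * k i * (a i : X)⁻¹ * k i ∈ _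
      rw [h, inv_mul_cancel]; exact one_mem _)
    (fun i j hij => by
      have h : (a i : X) * k j = k j * a i := congrArg Subtype.val (hcomm i j hij)
      show (a i : X) * k j * (a i : X)⁻¹ * (k j : X)⁻¹ ∈ _
      rw [h, mul_inv_cancel_right, mul_inv_cancel]; exact one_mem _)
    (fun i => ⟨orderOf (k i),
      (Nat.coprime_two_right.1 (CfsgLib.Core.coprime_card_pPrimeCore 2 ↥M)).of_dvd_nat
        (Subgroup.orderOf_dvd_natCard K (hkK i)), by
        rw [← SubmonoidClass.coe_pow, pow_orderOf_eq_one]; exact one_mem _⟩)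
    (fun i hi => hk1 i (Subtype.ext (Subgroup.mem_bot.1 (hfaith.le ⟨(k i).2, hi⟩))))
    (fun i F hF ha hk h1 h2 h3 => CfsgLib.Techniques.mem_centralizer_of_cube_sthree hfree
      (a i).2 (k i).2 ha hk h1 h2 h3)
  have hCA : Nat.card ↥(V ⊓ Subgroup.centralizer (A : Set X)) ≤
      Nat.card ↥(V ⊓ Subgroup.centralizer (Set.range fun i => (a i : X))) :=
    Subgroup.card_le_of_le (inf_le_inf_left _ (Subgroup.centralizer_le (by
      rintro _ ⟨i, rfl⟩; exact haA i)))
  have h1 := CfsgLib.Techniques.card_mul_relIndex'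
    (inf_le_left : V ⊓ Subgroup.centralizer (A : Set X) ≤ V)
  have h2 : Nat.card A ^ 2 ≤ 4 ^ n := by
    refine (Nat.pow_le_pow_left hcard 2).trans (le_of_eq ?_)
    rw [← pow_mul, Nat.mul_comm, pow_mul]
    norm_num
  have h3 : 4 ^ n * Nat.card ↥(V ⊓ Subgroup.centralizer (A : Set X)) ≤
      Nat.card ↥(V ⊓ Subgroup.centralizer (A : Set X)) *
        (V ⊓ Subgroup.centralizer (A : Set X)).relIndex V :=
    (Nat.mul_le_mul_left _ hCA).trans (hbound.trans h1.ge)
  rw [Nat.mul_comm] at h3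
  exact absurd (Nat.le_of_mul_le_mul_left h3 Nat.card_pos) (not_le.2 (hsmall.trans_le h2))

end Cfsg.Agent.S3755
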