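import Cfsg.Statements.S3759
import Cfsg.Agent.Lib.PGroups.ZC.Main

set_option autoImplicit false
open Cfsg

namespace Cfsg.Agent.S3759

/-- Let G be a finite group of even order in which the centralizer of every involution is solvable and C_G(Ω₁(Z(S))) ≤ N_G(S) for every Sylow 2-subgroup S, with O_{2'}(G) = 1 = O₂(G). Fix a Sylow 2-subgroup S and put Z = Ω₁(Z(S)), H = O²(G), R = S ∩ H. Then H has a strongly embedded subgroup; or Z ∩ R has order 2 and is weakly closed in R with respect to H; or Z has order 4 and equals the subgroup generated by the involutions of R; or the subgroup HZ has local characteristic 2: it has even order and every 2-local subgroup L of HZ satisfies C_L(O₂(L)) ≤ O₂(L). -/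
theorem result {G : Type*} [Group G] [Finite G] (heven : Even (Nat.card G)) (hC : ∀ t : G, orderOf t = 2 → Group.IsSolvable ↥(Subgroup.centralizer ({t} : Set G))) (hZ : ∀ S : Sylow 2 G, Subgroup.centralizer (Cfsg.omegaOne 2 ((S : Subgroup G) ⊓ Subgroup.centralizer ((S : Subgroup G) : Set G)) : Set G) ≤ Subgroup.normalizer ((S : Subgroup G) : Set G)) (hO' : Cfsg.pPrimeCore 2 G = ⊥) (hO : Cfsg.pCore 2 G = ⊥) (S : Sylow 2 G) : (∃ M : Subgroup ↥(Cfsg.pResidual 2 G), Cfsg.IsStronglyEmbedded M) ∨ (Nat.card ↥(Cfsg.omegaOne 2 ((S : Subgroup G) ⊓ Subgroup.centralizer ((S : Subgroup G) : Set G)) ⊓ Cfsg.pResidual 2 G) = 2 ∧ ∀ h ∈ Cfsg.pResidual 2 G, ∀ z ∈ Cfsg.omegaOne 2 ((S : Subgroup G) ⊓ Subgroup.centralizer ((S : Subgroup G) : Set G)) ⊓ Cfsg.pResidual 2 G, h * z * h⁻¹ ∈ (S : Subgroup G) → h * z * h⁻¹ ∈ Cfsg.omegaOne 2 ((S : Subgroup G) ⊓ Subgroup.centralizer ((S : Subgroup G) : Set G))) ∨ (Nat.card ↥(Cfsg.omegaOne 2 ((S : Subgroup G) ⊓ Subgroup.centralizer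 ((S : Subgroup G) : Set G))) = 4 ∧ Cfsg.omegaOne 2 ((S : Subgroup G) ⊓ Cfsg.pResidual 2 G) = Cfsg.omegaOne 2 ((S : Subgroup G) ⊓ Subgroup.centralizer ((S : Subgroup G) : Set G))) ∨ Cfsg.IsCharacteristicTwoType ↥(Cfsg.pResidual 2 G ⊔ Cfsg.omegaOne 2 ((S : Subgroup G) ⊓ Subgroup.centralizer ((S : Subgroup G) : Set G))) := by
  have hres : (S : Subgroup G) ⊓ Cfsg.pResidual 2 G ≠ ⊥ := by
    intro hbot
    haveI : Fact (Nat.Prime 2) := ⟨Nat.prime_two⟩
    haveI : (Cfsg.pResidual 2 G).Normal := CfsgLib.Transfer.pResidual_normal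
    have hodd : Odd (Nat.card ↥(Cfsg.pResidual 2 G)) := by
      rw [← Nat.not_even_iff_odd]
      intro hev
      obtain ⟨⟨w, hw⟩, hw2⟩ := exists_prime_orderOf_dvd_card' 2 (even_iff_two_dvd.1 hev)
      rw [Subgroup.orderOf_mk] at hw2
      obtain ⟨g, hg⟩ := CfsgLib.PGroups.ZC.exists_le_cj S (IsPGroup.of_card (n := 1)
        (G := Subgroup.zpowers w) (by rw [Nat.card_zpowers, hw2, pow_one]))
      have hmem : g⁻¹ * w * g ∈ (S : Subgroup G) ⊓ Cfsg.pResidual 2 G :=
        ⟨CfsgLib.Bender.Dichotomy.mem_cj.mp (hg (Subgroup.mem_zpowers w)),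
          Subgroup.Normal.conj_mem' inferInstance w hw g⟩
      rw [hbot, Subgroup.mem_bot] at hmem
      have : w = 1 := by
        calc w = g * (g⁻¹ * w * g) * g⁻¹ := by group
          _ = 1 := by rw [hmem]; group
      rw [this, orderOf_one] at hw2
      omega
    have hHbot : Cfsg.pResidual 2 G = ⊥ :=
      le_bot_iff.mp (hO'.le.trans' (CfsgLib.Core.le_pPrimeCore (Nat.coprime_two_right.mpr hodd)))
    have hG : IsPGroup 2 G := by
      have hq : IsPGroup 2 (G ⧸ Cfsg.pResidual 2 G) := CfsgLib.Transfer.isPGroup_quotient_pResidual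
      exact hq.of_injective (QuotientGroup.mk' _)
        ((MonoidHom.ker_eq_bot_iff _).mp (by rw [QuotientGroup.ker_mk', hHbot]))
    have htop : (⊤ : Subgroup G) ≤ Cfsg.pCore 2 G :=
      CfsgLib.Core.le_pCore (hG.to_subgroup ⊤)
    rw [hO, top_le_iff] at htop
    obtain ⟨t, ht⟩ := exists_prime_orderOf_dvd_card' 2 (even_iff_two_dvd.1 heven)
    have : t = 1 := Subgroup.mem_bot.mp (htop ▸ Subgroup.mem_top t)
    rw [this, orderOf_one] at ht
    omega
  exact CfsgLib.PGroups.ZC.reduction ⟨⟨hC, hZ S⟩, hO', hres⟩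

end Cfsg.Agent.S3759
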