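import Cfsg.Statements.S3760


set_option autoImplicit false
open Cfsg

namespace Cfsg.Agent.S3760

/-- Let the group G act transitively on a set X, let x ∈ X with stabilizer H = G_x, and let K ≤ H. Then N_G(K) acts transitively on the set of fixed points of K if and only if every G-conjugate of K contained in H is already an H-conjugate of K. -/
theorem result {G : Type*} [Group G] {X : Type*} [MulAction G X] (htrans : ∀ a b : X, ∃ g : G, g • a = b) (x : X) (K : Subgroup G) (hK : K ≤ MulAction.stabilizer G x) : (∀ a b : X, (∀ k ∈ K, k • a = a) → (∀ k ∈ K, k • b = b) → ∃ g ∈ Subgroup.normalizer (K : Set G), g • a = b) ↔ ∀ g : G, K.map (MulAut.conj g).toMonoidHom ≤ MulAction.stabilizer G x → ∃ h ∈ MulAction.stabilizer G x, K.map (MulAut.conj g).toMonoidHom = K.map (MulAut.conj h).toMonoidHom := by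
  have hconj : ∀ (g : G) (L : Subgroup G), K.map (MulAut.conj g).toMonoidHom ≤ L ↔
      ∀ k ∈ K, g * k * g⁻¹ ∈ L := fun g L =>
    ⟨fun h k hk => h ⟨k, hk, rfl⟩, fun h y ⟨k, hk, e⟩ => e ▸ h k hk⟩
  have hcomp : ∀ g h : G, (K.map (MulAut.conj g).toMonoidHom).map (MulAut.conj h).toMonoidHom =
      K.map (MulAut.conj (h * g)).toMonoidHom := by
    intro g h
    rw [Subgroup.map_map]
    congr 1
    ext y
    simp [mul_assoc]
  constructor
  · intro H g hg
    have hfix : ∀ k ∈ K, k • (g⁻¹ • x) = g⁻¹ • x := by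
      intro k hk
      have := (hconj g _).mp hg k hk
      rw [MulAction.mem_stabilizer_iff] at this
      calc k • (g⁻¹ • x) = g⁻¹ • ((g * k * g⁻¹) • x) := by
            rw [← mul_smul, ← mul_smul]; congr 1; group
        _ = g⁻¹ • x := by rw [this]
    obtain ⟨n, hn, hnx⟩ := H x (g⁻¹ • x) (fun k hk => hK hk) hfix
    refine ⟨g * n, ?_, ?_⟩
    · rw [MulAction.mem_stabilizer_iff, mul_smul, hnx, smul_inv_smul]
    · rw [← hcomp n g]
      congr 1
      ext y
      constructor
      · intro hy
        refine ⟨n⁻¹ * y * n, ?_, by simp [mul_assoc]⟩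
        simpa using (Subgroup.mem_normalizer_iff''.mp hn y).mp hy
      · rintro ⟨k, hk, rfl⟩
        simpa using (Subgroup.mem_normalizer_iff.mp hn k).mp hk
  · intro H a b ha hb
    have key : ∀ c : X, (∀ k ∈ K, k • c = c) →
        ∃ n ∈ Subgroup.normalizer (K : Set G), n • x = c := by
      intro c hc
      obtain ⟨g, rfl⟩ := htrans x c
      have hg : K.map (MulAut.conj g⁻¹).toMonoidHom ≤ MulAction.stabilizer G x := by
        rw [hconj]
        intro k hk
        rw [MulAction.mem_stabilizer_iff, inv_inv, mul_smul, mul_smul, hc k hk, inv_smul_smul]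
      obtain ⟨h, hh, he⟩ := H g⁻¹ hg
      refine ⟨g * h, ?_, by rw [mul_smul, MulAction.mem_stabilizer_iff.mp hh]⟩
      have hfix : K.map (MulAut.conj (g * h)).toMonoidHom = K := by
        rw [← hcomp h g, ← he, hcomp, mul_inv_cancel]
        ext y; simp
      rw [Subgroup.mem_normalizer_iff]
      intro k
      constructor
      · intro hk
        have : (MulAut.conj (g * h)).toMonoidHom k ∈ K.map (MulAut.conj (g * h)).toMonoidHom :=
          ⟨k, hk, rfl⟩
        rw [hfix] at this
        simpa [mul_assoc] using this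
      · intro hk
        rw [← hfix] at hk
        obtain ⟨k', hk', e⟩ := hk
        simp [mul_assoc] at e
        exact e ▸ hk'
    obtain ⟨na, hna, ea⟩ := key a ha
    obtain ⟨nb, hnb, eb⟩ := key b hb
    exact ⟨nb * na⁻¹, mul_mem hnb (inv_mem hna), by rw [← ea, ← eb, mul_smul, inv_smul_smul]⟩

end Cfsg.Agent.S3760
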