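import Cfsg.Statements.S3764
import Mathlib
import Cfsg.Agent.Lib.PGroups.HHSetup
import Cfsg.Agent.Lib.PGroups.Extraspecial
import Cfsg.Agent.Lib.Core.HallHigman

set_option autoImplicit false
open Cfsg

namespace Cfsg.Agent.S3764

/-- Let p, q, r be distinct primes and let X, Q, V be subgroups of a finite group with X of order r, Q an extraspecial q-group normalized by X with C_Q(X) = Z(Q), and V an elementary abelian p-group normalized by X and Q on which XQ acts faithfully ((X ⊔ Q) ∩ C(V) = 1). If C_V(X) = 1, then q = 2, r = 2^n + 1 for some n, and Q has order 2^(2n+1). -/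
theorem result {G : Type*} [Group G] [Finite G] {p q r : ℕ} (hp : p.Prime) (hq : q.Prime) (hr : r.Prime) (hpq : p ≠ q) (hpr : p ≠ r) (hqr : q ≠ r) (X Q V : Subgroup G) (hX : Nat.card X = r) (hQ : Cfsg.IsExtraspecial q ↥Q) (hXQ : X ≤ Subgroup.normalizer (Q : Set G)) (hCQ : Q ⊓ Subgroup.centralizer (X : Set G) = (Subgroup.center ↥Q).map Q.subtype) (hV : Cfsg.IsElementaryAbelian p V) (hXV : X ≤ Subgroup.normalizer (V : Set G)) (hQV : Q ≤ Subgroup.normalizer (V : Set G)) (hfaith : (X ⊔ Q) ⊓ Subgroup.centralizer (V : Set G) = ⊥) (hCV : V ⊓ Subgroup.centralizer (X : Set G) = ⊥) : q = 2 ∧ ∃ n : ℕ, r = 2 ^ n + 1 ∧ Nat.card Q = 2 ^ (2 * n + 1) := by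
  classical
  haveI := Fact.mk hr
  haveI := Fact.mk hq
  obtain ⟨M, iM, fM, x, θ, σ, ρ, hxX, hθ, hθr, hσr, hcomp, hfpf, hfa, k, hk⟩ :=
    CfsgLib.PGroups.HHSetup.setup hp hr X Q V hX hXQ hV hXV hQV hfaith hCV
  have hPQ : IsPGroup q Q := CfsgLib.PGroups.IsExtraspecial.isPGroup hQ
  obtain ⟨e, he⟩ := IsPGroup.iff_card.mp hPQ
  set D := Subgroup.center Q with hD
  have hDc : Nat.card D = q := CfsgLib.PGroups.IsExtraspecial.card_center hQ
  have hfix : ∀ y : Q, θ y = y ↔ y ∈ D := by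
    intro y
    have key : (y : G) ∈ Q ⊓ Subgroup.centralizer (X : Set G) ↔ y ∈ D := by
      rw [hCQ]
      exact Subgroup.mem_map_iff_mem Q.subtype_injective
    rw [← key]
    constructor
    · intro h
      refine ⟨y.2, Subgroup.mem_centralizer_iff.mpr fun z hz => ?_⟩
      rw [← hxX] at hz
      obtain ⟨i, rfl⟩ := Subgroup.mem_zpowers_iff.mp hz
      have h' := hθ y
      rw [h] at h'
      exact ((show Commute x (y : G) from mul_inv_eq_iff_eq_mul.mp h'.symm).zpow_left i).eq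
    · intro h
      apply Subtype.ext
      rw [hθ, Subgroup.mem_centralizer_iff.mp h.2 x (hxX ▸ Subgroup.mem_zpowers x), mul_inv_cancel_right]
  have hMQ : (Nat.card M).Coprime (Nat.card (⊤ : Subgroup Q)) := by
    rw [Subgroup.card_top, he, hk]; exact Nat.Coprime.pow _ _ ((Nat.coprime_primes hp hq).mpr hpq)
  have hDne : D ≠ ⊥ := fun h => hq.ne_one (by rw [← hDc, h, Subgroup.card_bot])
  obtain ⟨n, hn, hle⟩ := CfsgLib.Core.HH.critical_bound ρ θ σ hθr hσr hcomp hfpf
    (hk ▸ ((Nat.coprime_primes hp hr).mpr hpr).pow_left k) ⊤ D le_top hDne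
    (fun u _ => Subgroup.mem_top _) (fun z hz => (hfix z).mpr hz)
    (fun a _ b _ => CfsgLib.PGroups.IsExtraspecial.comm_mem hQ a b)
    (fun z hz u _ => Subgroup.mem_center_iff.mp hz u) hMQ (fun u _ => hfa u)
    (fun L hL hne u _ hu => by
      have hLb : L = ⊥ := by
        rcases (Nat.dvd_prime hq).mp (hDc ▸ Subgroup.card_dvd_of_le hL) with h | h
        · exact Subgroup.eq_bot_of_card_eq _ h
        · exact absurd (Subgroup.eq_of_le_of_card_ge hL (by rw [h, hDc])) hne
      refine Subgroup.mem_center_iff.mpr fun g => ?_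
      have h := hu g (Subgroup.mem_top g)
      rw [hLb, Subgroup.mem_bot, commutatorElement_eq_one_iff_mul_comm] at h
      exact h.symm)
  haveI : (D.subgroupOf ⊤).Normal := inferInstance
  have hcardq : Nat.card ((⊤ : Subgroup Q) ⧸ D.subgroupOf ⊤) * q = Nat.card Q := by
    have h := Subgroup.card_eq_card_quotient_mul_card_subgroup (D.subgroupOf (⊤ : Subgroup Q))
    rw [Nat.card_congr (Subgroup.subgroupOfEquivOfLe (le_top : D ≤ ⊤)).toEquiv, hDc, Subgroup.card_top] at h
    exact h.symm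
  have hone : Nat.card {w : (⊤ : Subgroup Q) ⧸ D.subgroupOf ⊤ //
      ((CfsgLib.Core.HH.res ⊤ θ (fun u _ => Subgroup.mem_top _) w.out : (⊤ : Subgroup Q)) :
        (⊤ : Subgroup Q) ⧸ D.subgroupOf ⊤) = w} ≤ 1 := by
    refine Finite.card_le_one_iff_subsingleton.mpr ⟨?_⟩
    rintro ⟨a, ha⟩ ⟨b, hb⟩
    apply Subtype.ext
    suffices ∀ w : (⊤ : Subgroup Q) ⧸ D.subgroupOf ⊤,
        ((CfsgLib.Core.HH.res ⊤ θ (fun u _ => Subgroup.mem_top _) w.out : (⊤ : Subgroup Q)) :
          (⊤ : Subgroup Q) ⧸ D.subgroupOf ⊤) = w → w = 1 from (this a ha).trans (this b hb).symm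
    intro w hw
    rw [← QuotientGroup.out_eq' w] at hw ⊢
    rw [QuotientGroup.out_eq' w, eq_comm] at hw
    nth_rewrite 1 [← QuotientGroup.out_eq' w] at hw
    rw [QuotientGroup.eq, Subgroup.mem_subgroupOf] at hw
    rw [QuotientGroup.eq_one_iff, Subgroup.mem_subgroupOf]
    set u : Q := (w.out : Q)
    have hz : u⁻¹ * θ u ∈ D := hw
    set z := u⁻¹ * θ u with hzdef
    have hu : θ u = u * z := by rw [hzdef, mul_inv_cancel_left]
    have hpow : ∀ m : ℕ, (θ ^ m) u = u * z ^ m := by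
      intro m
      induction m with
      | zero => simp
      | succ m ih => rw [pow_succ', MulAut.mul_apply, ih, map_mul, map_pow, (hfix z).mpr hz, hu, mul_assoc, pow_succ']
    have h1 := hpow r
    rw [hθr, MulAut.one_apply, left_eq_mul] at h1
    have h2 : z ^ q = 1 := CfsgLib.PGroups.IsExtraspecial.center_pow hQ hz
    have hz1 : z = 1 := orderOf_eq_one_iff.mp (Nat.eq_one_of_dvd_coprimes
      ((Nat.coprime_primes hq hr).mpr hqr) (orderOf_dvd_of_pow_eq_one h2) (orderOf_dvd_of_pow_eq_one h1))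
    exact (hfix u).mp (by rw [hu, hz1, mul_one])
  have hle' : n * n ≤ (r - 1) * (r - 1) := by
    rw [hn]
    refine hle.trans ?_
    rw [pow_two]
    exact (Nat.mul_le_mul_left _ hone).trans_eq (mul_one _)
  have hn1 : 1 < n := by
    by_contra h
    have hnn : Nat.card Q ≤ q := by
      rw [← hcardq, ← hn]
      calc n * n * q ≤ 1 * 1 * q := Nat.mul_le_mul_right q (Nat.mul_le_mul (by omega) (by omega))
        _ = q := by ring
    have h3 : q ^ 3 ≤ q ^ 1 := by
      rw [pow_one]; exact (CfsgLib.PGroups.IsExtraspecial.card_ge hQ).trans hnn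
    have := (Nat.pow_le_pow_iff_right hq.one_lt).mp h3
    omega
  have he1 : 1 ≤ e := by
    by_contra h
    rw [he, show e = 0 by omega, pow_zero] at hcardq
    exact hq.ne_one (Nat.dvd_one.mp ⟨_, by rw [← hcardq]; ring⟩)
  have hnn' : n * n = q ^ (e - 1) := by
    rw [hn]
    refine Nat.eq_of_mul_eq_mul_right hq.pos ?_
    rw [hcardq, he, ← pow_succ, Nat.sub_add_cancel he1]
  have hmod : n * n ≡ 1 [MOD r] := by
    have hP : IsPGroup r (Subgroup.zpowers θ) := fun g => ⟨1, by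
      obtain ⟨i, hi⟩ := g.2
      refine Subtype.ext ?_
      show (g : MulAut Q) ^ r ^ 1 = 1
      rw [← hi, pow_one, ← zpow_natCast, ← zpow_mul, mul_comm, zpow_mul, zpow_natCast, hθr, one_zpow]⟩
    have h := hP.card_modEq_card_fixedPoints (α := Q)
    have h1 : MulAction.fixedPoints (Subgroup.zpowers θ) Q = (D : Set Q) := by
      ext y
      refine ⟨fun hy => (hfix y).mp (hy ⟨θ, Subgroup.mem_zpowers θ⟩), fun hy => ?_⟩
      rintro ⟨g, hg⟩
      obtain ⟨i, rfl⟩ := Subgroup.mem_zpowers_iff.mp hg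
      have hst : θ ∈ MulAction.stabilizer (MulAut Q) y := (hfix y).mpr hy
      exact zpow_mem hst i
    rw [h1, ← hcardq, ← hn, show Nat.card ↥(D : Set Q) = 1 * q by rw [one_mul]; exact hDc] at h
    refine Nat.ModEq.cancel_right_of_coprime ?_ h
    rw [Nat.gcd_comm]; exact (Nat.coprime_primes hq hr).mpr hqr
  have hlt : n ≤ r - 1 := Nat.mul_self_le_mul_self_iff.mp hle'
  obtain ⟨hq2, j, hj⟩ := CfsgLib.Core.HH.eq_two_pow_add_one (q := r) hq hnn' hn1 hlt hmod
  subst hq2
  obtain ⟨i, -, hi⟩ := (Nat.dvd_prime_pow Nat.prime_two).mp (Dvd.intro n hnn')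
  refine ⟨rfl, j, hj, ?_⟩
  have hij : i ≤ j := by
    have : 2 ^ i ≤ 2 ^ j := by omega
    exact (Nat.pow_le_pow_iff_right (by norm_num)).mp this
  have hji : i = j := by
    obtain ⟨t, ht⟩ : ∃ t, 2 ^ i = t + 1 := ⟨2 ^ i - 1, by omega⟩
    have hd : r ∣ t * (t + 2) := by
      have h := (Nat.modEq_iff_dvd' (by nlinarith)).mp hmod.symm
      rw [hi, ht] at h
      rwa [show (t + 1) * (t + 1) - 1 = t * (t + 2) by rw [Nat.sub_eq_of_eq_add]; ring] at h
    have hp2 : 2 ^ i ≤ 2 ^ j := Nat.pow_le_pow_right two_pos hij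
    rcases hr.dvd_mul.mp hd with h | h
    · have := Nat.le_of_dvd (by omega) h
      omega
    · have := Nat.le_of_dvd (by omega) h
      exact Nat.pow_right_injective le_rfl (show 2 ^ i = 2 ^ j by omega)
  have hsum : e - 1 = j + j := by
    apply Nat.pow_right_injective (le_refl 2)
    show 2 ^ (e - 1) = 2 ^ (j + j)
    rw [← hnn', hi, hji, pow_add]
  rw [he]
  congr 1
  omega

end Cfsg.Agent.S3764
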