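import Cfsg.Statements.S3765
import Mathlib
import Cfsg.Agent.Lib.PGroups.HHSetup
import Cfsg.Agent.Lib.Core.HallHigman

set_option autoImplicit false
open Cfsg

namespace Cfsg.Agent.S3765

/-- Let p, q, r be distinct primes and let X, Q, V be subgroups of a finite group with X of order r normalizing the q-group Q and acting faithfully on it (X ∩ C(Q) = 1), and V a nontrivial elementary abelian p-group normalized by X and Q on which XQ acts faithfully. If q = 2 and r has the form 2^n + 1, assume in addition that Q is abelian. Then C_V(X) ≠ 1. -/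
theorem result {G : Type*} [Group G] [Finite G] {p q r : ℕ} (hp : p.Prime) (hq : q.Prime) (hr : r.Prime) (hpq : p ≠ q) (hpr : p ≠ r) (hqr : q ≠ r) (X Q V : Subgroup G) (hX : Nat.card X = r) (hQ : IsPGroup q Q) (hXQ : X ≤ Subgroup.normalizer (Q : Set G)) (hXfaith : X ⊓ Subgroup.centralizer (Q : Set G) = ⊥) (hV : Cfsg.IsElementaryAbelian p V) (hV1 : V ≠ ⊥) (hXV : X ≤ Subgroup.normalizer (V : Set G)) (hQV : Q ≤ Subgroup.normalizer (V : Set G)) (hfaith : (X ⊔ Q) ⊓ Subgroup.centralizer (V : Set G) = ⊥) (hexc : q = 2 → (∃ n : ℕ, r = 2 ^ n + 1) → IsMulCommutative Q) : V ⊓ Subgroup.centralizer (X : Set G) ≠ ⊥ := by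
  intro hCV
  haveI := Fact.mk hr
  haveI := Fact.mk hq
  obtain ⟨M, iM, fM, x, θ, σ, ρ, hxX, hθ, hθr, hσr, hcomp, hfpf, hfa, k, hk⟩ :=
    CfsgLib.PGroups.HHSetup.setup hp hr X Q V hX hXQ hV hXV hQV hfaith hCV
  obtain ⟨i, hi⟩ := IsPGroup.iff_card.mp hQ
  have hMr : (Nat.card M).Coprime r := hk ▸ ((Nat.coprime_primes hp hr).mpr hpr).pow_left k
  have hQr : (Nat.card (⊤ : Subgroup Q)).Coprime r := by
    rw [Subgroup.card_top, hi]; exact ((Nat.coprime_primes hq hr).mpr hqr).pow_left i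
  have hMQ : (Nat.card M).Coprime (Nat.card (⊤ : Subgroup Q)) := by
    rw [Subgroup.card_top, hi, hk]; exact Nat.Coprime.pow _ _ ((Nat.coprime_primes hp hq).mpr hpq)
  have hall : ∀ y : Q, θ y = y := by
    by_cases hab : IsMulCommutative Q
    · exact fun y => CfsgLib.Core.HH.fixed_of_abelian ρ θ σ hθr hσr hcomp hfpf ⊤ (fun a _ => Subgroup.mem_top _)
        (fun a _ b _ => hab.is_comm.comm a b) hQr hMQ (fun a _ => hfa a) y (Subgroup.mem_top y)
    · exact fun y => CfsgLib.Core.HH.fixed_of_fpf_module ρ θ σ hθr hσr hcomp hfpf hMr (F := ⊤)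
        (Group.isNilpotent_top.mpr hQ.isNilpotent) (fun a _ => Subgroup.mem_top _) hQr hMQ (fun a _ => hfa a)
        (by
          rintro ⟨h2, hj⟩
          rw [Subgroup.card_top, hi] at h2
          exact hab (hexc ((Nat.prime_dvd_prime_iff_eq Nat.prime_two hq).mp (Nat.prime_two.dvd_of_dvd_pow h2)).symm hj))
        y (Subgroup.mem_top y)
  have hX1 : x ∈ X ⊓ Subgroup.centralizer (Q : Set G) := by
    refine ⟨hxX ▸ Subgroup.mem_zpowers x, Subgroup.mem_centralizer_iff.mpr fun y hy => ?_⟩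
    have h := hθ ⟨y, hy⟩
    rw [hall] at h
    exact (mul_inv_eq_iff_eq_mul.mp h.symm).symm
  rw [hXfaith, Subgroup.mem_bot] at hX1
  rw [hX1, Subgroup.zpowers_one_eq_bot] at hxX
  rw [← hxX, Subgroup.card_bot] at hX
  exact hr.ne_one hX.symm

end Cfsg.Agent.S3765
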