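import Cfsg.Statements.S3766
import Mathlib
import Cfsg.Agent.Lib.Components.Char
import Cfsg.Agent.Lib.LocalEven.Generation

set_option autoImplicit false
open Cfsg

namespace Cfsg.Agent.S3766

set_option linter.style.haveILetI false
open scoped commutatorElement
open Subgroup

/-- The elements whose commutator with every element of `U` lies in the normal subgroup `V`. -/
def centMod {G : Type*} [Group G] (U V : Subgroup G) [hV : V.Normal] : Subgroup G where
  carrier := {g | ∀ u ∈ U, u * g * u⁻¹ * g⁻¹ ∈ V}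
  one_mem' u _ := by simp
  mul_mem' {a b} ha hb u hu := by
    have h := V.mul_mem (ha u hu) (hV.conj_mem _ (hb u hu) a)
    convert h using 1
    group
  inv_mem' {a} ha u hu := by
    have h := hV.conj_mem _ (V.inv_mem (ha u hu)) a⁻¹
    convert h using 1
    group

variable {G : Type*} [Group G] [Finite G]

theorem commutator_le_of_isChief {F U V : Subgroup G} [F.Normal] (hF : Group.IsNilpotent F)
    (hU : U.Normal) (hV : V.Normal) (hVU : V < U)
    (hmin : ∀ W : Subgroup G, W.Normal → V ≤ W → W ≤ U → W = V ∨ W = U) : ⁅U, F⁆ ≤ V := by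
  haveI := hU; haveI := hV
  rcases hmin (⁅U, F⁆ ⊔ V) inferInstance le_sup_right
    (sup_le (Subgroup.commutator_le_left U F) hVU.le) with h | h
  · exact h ▸ le_sup_left
  exfalso
  have hall : ∀ n : ℕ, U ≤ F.lowerCentralSeries n ⊔ V := by
    intro n
    induction n with
    | zero =>
      rw [Subgroup.lowerCentralSeries_zero]
      exact h.ge.trans (sup_le_sup_right (Subgroup.commutator_le_right U F) V)
    | succ n ih =>
      refine h.ge.trans (sup_le ?_ le_sup_right)
      refine le_trans (Subgroup.commutator_mono ih le_rfl) ?_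
      rw [Subgroup.lowerCentralSeries_succ, Subgroup.commutator_le]
      intro x hx f hf
      haveI : (F.lowerCentralSeries n).Normal := inferInstance
      obtain ⟨y, hy, v, hv, rfl⟩ := Subgroup.mem_sup_of_normal_left.mp hx
      rw [commutatorElement_mul_left_eq_conj_mul]
      refine Subgroup.mul_mem _ (Subgroup.mem_sup_right ?_)
        (Subgroup.mem_sup_left (Subgroup.commutator_mem_commutator hy hf))
      exact hV.conj_mem _ (Subgroup.commutator_le_left V F (Subgroup.commutator_mem_commutator hv hf)) y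
  obtain ⟨n, hn⟩ := (Subgroup.isNilpotent_iff_lowerCentralSeries F).mp hF
  exact hVU.not_ge ((hall n).trans (by rw [hn, bot_sup_eq]))

/-- Let G be a finite solvable group and N a normal subgroup of G. Call a pair V < U of normal subgroups of G a chief factor of G when no normal subgroup of G lies strictly between them; an element g centralizes the chief factor U/V when u g u⁻¹ g⁻¹ ∈ V for all u ∈ U. Then an element of G lies in the Fitting subgroup F(N) if and only if it lies in N and centralizes every chief factor of G; and also if and only if it lies in N and centralizes every chief factor U/V of G with U ≤ F(N). -/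
theorem result {G : Type*} [Group G] [Finite G] (hG : Group.IsSolvable G) (N : Subgroup G) [N.Normal] (g : G) : (g ∈ (Cfsg.fittingSubgroup ↥N).map N.subtype ↔ g ∈ N ∧ ∀ U V : Subgroup G, (U.Normal ∧ V.Normal ∧ V < U ∧ ∀ W : Subgroup G, W.Normal → V ≤ W → W ≤ U → W = V ∨ W = U) → ∀ u ∈ U, u * g * u⁻¹ * g⁻¹ ∈ V) ∧ (g ∈ (Cfsg.fittingSubgroup ↥N).map N.subtype ↔ g ∈ N ∧ ∀ U V : Subgroup G, (U.Normal ∧ V.Normal ∧ V < U ∧ ∀ W : Subgroup G, W.Normal → V ≤ W → W ≤ U → W = V ∨ W = U) → U ≤ (Cfsg.fittingSubgroup ↥N).map N.subtype → ∀ u ∈ U, u * g * u⁻¹ * g⁻¹ ∈ V) := by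
  have hF : (Cfsg.fittingSubgroup ↥N).map N.subtype = Cfsg.fittingSubgroup G ⊓ N :=
    CfsgLib.Components.fitting_subnormal (inferInstance : N.Normal).isSubnormal
  set F := (Cfsg.fittingSubgroup ↥N).map N.subtype with hFdef
  haveI hFn : F.Normal := by
    haveI := CfsgLib.Components.fitting_normal (G := G)
    rw [hF]; infer_instance
  have hFnil : Group.IsNilpotent F := (Group.isNilpotent_congr
      (Subgroup.equivMapOfInjective _ _ N.subtype_injective)).mp CfsgLib.Components.fitting_isNilpotent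
  have fwd : g ∈ F → g ∈ N ∧ ∀ U V : Subgroup G, (U.Normal ∧ V.Normal ∧ V < U ∧
      ∀ W : Subgroup G, W.Normal → V ≤ W → W ≤ U → W = V ∨ W = U) →
      ∀ u ∈ U, u * g * u⁻¹ * g⁻¹ ∈ V := by
    intro hg
    refine ⟨Subgroup.map_subtype_le _ hg, fun U V ⟨hU, hV, hVU, hmin⟩ u hu => ?_⟩
    exact commutator_le_of_isChief hFnil hU hV hVU hmin (Subgroup.commutator_mem_commutator hu hg)
  have bwd : (g ∈ N ∧ ∀ U V : Subgroup G, (U.Normal ∧ V.Normal ∧ V < U ∧
      ∀ W : Subgroup G, W.Normal → V ≤ W → W ≤ U → W = V ∨ W = U) → U ≤ F →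
      ∀ u ∈ U, u * g * u⁻¹ * g⁻¹ ∈ V) → g ∈ F := by
    rintro ⟨hgN, hg⟩
    let K : Subgroup G :=
      { carrier := {x | x ∈ N ∧ ∀ U V : Subgroup G, (U.Normal ∧ V.Normal ∧ V < U ∧
          ∀ W : Subgroup G, W.Normal → V ≤ W → W ≤ U → W = V ∨ W = U) → U ≤ F →
          ∀ u ∈ U, u * x * u⁻¹ * x⁻¹ ∈ V}
        one_mem' := ⟨N.one_mem, fun U V hc hle u hu => by simp⟩
        mul_mem' := fun {a b} ha hb => ⟨N.mul_mem ha.1 hb.1, fun U V hc hle =>
          haveI := hc.2.1
          (centMod U V).mul_mem (ha.2 U V hc hle) (hb.2 U V hc hle)⟩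
        inv_mem' := fun {a} ha => ⟨N.inv_mem ha.1, fun U V hc hle =>
          haveI := hc.2.1
          (centMod U V).inv_mem (ha.2 U V hc hle)⟩ }
    haveI hKn : K.Normal := ⟨fun a ha x => ⟨(inferInstance : N.Normal).conj_mem _ ha.1 x,
      fun U V hc hle u hu => by
        have h := hc.2.1.conj_mem _ (ha.2 U V hc hle _ (hc.1.conj_mem _ hu x⁻¹)) x
        convert h using 1
        group⟩⟩
    by_contra hgF
    obtain ⟨M, ⟨hMn, hMK, hMF⟩, hMmin⟩ := Set.Finite.exists_minimal
      (Set.toFinite {M : Subgroup G | M.Normal ∧ M ≤ K ∧ ¬ M ≤ F})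
      ⟨K, hKn, le_rfl, fun h => hgF (h ⟨hgN, hg⟩)⟩
    haveI := hMn
    have hMsol : Group.IsSolvable M := inferInstance
    have hMbot : M ≠ ⊥ := fun h => hMF (h ▸ bot_le)
    have hlt := CfsgLib.Core.commutator_self_lt hMsol hMbot
    have hMM : ⁅M, M⁆ ≤ F := by
      by_contra h
      exact hlt.not_ge (hMmin ⟨inferInstance, hlt.le.trans hMK, h⟩ hlt.le)
    obtain ⟨W, ⟨n, rfl⟩, hWmin⟩ := Set.Finite.exists_minimal
      (Set.toFinite {W : Subgroup G | ∃ n : ℕ, W = M.lowerCentralSeries (n + 1)}) ⟨_, 0, rfl⟩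
    have hstab : M.lowerCentralSeries (n + 1) ≤ M.lowerCentralSeries (n + 2) :=
      hWmin ⟨n + 1, rfl⟩ (Subgroup.lowerCentralSeries_antitone M (by omega))
    have hWF : M.lowerCentralSeries (n + 1) ≤ F := by
      refine le_trans (Subgroup.lowerCentralSeries_antitone M (show 1 ≤ n + 1 by omega)) ?_
      rw [Subgroup.lowerCentralSeries_succ, Subgroup.lowerCentralSeries_zero]
      exact hMM
    have hW0 : M.lowerCentralSeries (n + 1) = ⊥ := by
      by_contra hne
      obtain ⟨V, ⟨hVn, hVlt⟩, hVmax⟩ := Set.Finite.exists_maximal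
        (Set.toFinite {V : Subgroup G | V.Normal ∧ V < M.lowerCentralSeries (n + 1)})
        ⟨⊥, inferInstance, bot_lt_iff_ne_bot.mpr hne⟩
      refine hVlt.not_ge (hstab.trans ?_)
      rw [show n + 2 = (n + 1) + 1 from rfl, Subgroup.lowerCentralSeries_succ,
        Subgroup.commutator_le]
      intro u hu m hm
      refine (hMK hm).2 _ V ⟨inferInstance, hVn, hVlt, fun W hW hVW hWU => ?_⟩ hWF u hu
      rcases eq_or_lt_of_le hWU with h | h
      · exact Or.inr h
      · exact Or.inl (le_antisymm (hVmax ⟨hW, h⟩ hVW) hVW)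
    refine hMF (hF ▸ le_inf (CfsgLib.Components.le_fitting hMn ?_) (fun m hm => (hMK hm).1))
    exact Subgroup.isNilpotent_of_lowerCentralSeries_eq_bot hW0
  refine ⟨⟨fwd, fun h => bwd ⟨h.1, fun U V hc _ => h.2 U V hc⟩⟩, ⟨fun h => ⟨(fwd h).1,
    fun U V hc _ => (fwd h).2 U V hc⟩, bwd⟩⟩

end Cfsg.Agent.S3766
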