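import Cfsg.Statements.S3767
import Mathlib
import Cfsg.Agent.Lib.PGroups.Extraspecial
import Cfsg.Agent.Lib.PGroups.ClassTwo

set_option autoImplicit false
open Cfsg

namespace Cfsg.Agent.S3767

set_option linter.style.haveILetI false
open scoped commutatorElement

/-- The count: a multiplicity function on `(ℤ/h)ˣ` invariant under `u ↦ p u` and `u ↦ -u` with
total `2 n`. -/
theorem dvd_of_count {h p n : ℕ} [NeZero h] (hco : p.Coprime h) (hp0 : 0 < p)
    (e : (ZMod h)ˣ → ℕ) (hsum : ∑ u, e u = 2 * n) (he : ∀ u, e (ZMod.unitOfCoprime p hco * u) = e u)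
    (hen : ∀ u, e (-1 * u) = e u) : h ∣ p ^ n + 1 ∨ h ∣ p ^ n - 1 := by
  classical
  set π := ZMod.unitOfCoprime p hco with hπ
  have hcoe : ∀ k : ℕ, ((π ^ k : (ZMod h)ˣ) : ZMod h) = ((p ^ k : ℕ) : ZMod h) := fun k => by
    simp [hπ]
  have hdvd : ∀ Γ : Subgroup (ZMod h)ˣ, (∀ γ ∈ Γ, ∀ u, e (γ * u) = e u) → Nat.card Γ ∣ 2 * n := by
    intro Γ hΓ
    rw [← hsum, ← Finset.sum_fiberwise Finset.univ (QuotientGroup.mk : (ZMod h)ˣ → (ZMod h)ˣ ⧸ Γ) e]
    refine Finset.dvd_sum fun c _ => ?_
    obtain ⟨r, rfl⟩ := QuotientGroup.mk_surjective c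
    rw [Finset.sum_congr rfl fun u hu => show e u = e r by
      have := (Finset.mem_filter.mp hu).2
      have h' := hΓ _ (QuotientGroup.eq.mp this.symm) r
      rwa [mul_comm r⁻¹ u, inv_mul_cancel_right] at h',
      Finset.sum_const, smul_eq_mul]
    refine Dvd.dvd.mul_right (dvd_of_eq ?_) _
    rw [Nat.card_eq_fintype_card, ← Finset.card_univ]
    refine Finset.card_bij (fun γ _ => r * γ) ?_ ?_ ?_
    · intro γ _
      refine Finset.mem_filter.mpr ⟨Finset.mem_univ _, QuotientGroup.eq.mpr ?_⟩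
      rw [mul_inv_rev, inv_mul_cancel_right]
      exact Γ.inv_mem γ.2
    · intro a _ b _ hab
      exact Subtype.ext (mul_left_cancel hab)
    · intro u hu
      have := QuotientGroup.eq.mp (Finset.mem_filter.mp hu).2.symm
      exact ⟨⟨_, this⟩, Finset.mem_univ _, mul_inv_cancel_left r u⟩
  have hinvP : ∀ γ ∈ Subgroup.zpowers π, ∀ u, e (γ * u) = e u := by
    intro γ hγ
    obtain ⟨k, rfl⟩ := (mem_powers_iff_mem_zpowers).mpr hγ
    induction k with
    | zero => simp
    | succ k ih =>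
      intro u
      show e (π ^ (k + 1) * u) = e u
      rw [pow_succ', mul_assoc, he]
      exact ih (Subgroup.pow_mem _ (Subgroup.mem_zpowers π) _) u
  have hd : orderOf π ∣ 2 * n := by rw [← Nat.card_zpowers]; exact hdvd _ hinvP
  have hone : π ^ n = 1 → h ∣ p ^ n + 1 ∨ h ∣ p ^ n - 1 := fun h1 => by
    right
    have := congrArg (Units.val : (ZMod h)ˣ → ZMod h) h1
    rw [hcoe, Units.val_one] at this
    rw [← ZMod.natCast_eq_zero_iff, Nat.cast_sub (Nat.one_le_pow _ _ hp0), this, Nat.cast_one, sub_self]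
  by_cases hn1 : π ^ n = 1
  · exact hone hn1
  left
  suffices π ^ n = -1 by
    have h1 := congrArg (Units.val : (ZMod h)ˣ → ZMod h) this
    rw [hcoe, Units.val_neg, Units.val_one] at h1
    rw [← ZMod.natCast_eq_zero_iff, Nat.cast_add, h1, Nat.cast_one, neg_add_cancel]
  have hsq : (π ^ n) ^ 2 = 1 := by
    rw [← pow_mul, mul_comm]; exact orderOf_dvd_iff_pow_eq_one.mp hd
  have hne1 : (-1 : (ZMod h)ˣ) ≠ 1 := by
    intro h1
    refine hn1 ?_
    -- then every unit is an involution and `π` is trivial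
    have h2 : ((-1 : (ZMod h)ˣ) : ZMod h) = 1 := by rw [h1, Units.val_one]
    rw [Units.val_neg, Units.val_one] at h2
    have h3 : h ∣ 2 := by
      rw [← ZMod.natCast_eq_zero_iff]
      push_cast
      linear_combination -h2
    have hs : Subsingleton (ZMod h)ˣ := by
      rcases (Nat.dvd_prime Nat.prime_two).mp h3 with rfl | rfl <;> infer_instance
    exact Subsingleton.elim _ _
  by_cases hmem : (-1 : (ZMod h)ˣ) ∈ Subgroup.zpowers π
  · obtain ⟨g, hg⟩ : ∃ g, g = π := ⟨π, rfl⟩
    haveI : IsCyclic (Subgroup.zpowers π) := inferInstance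
    letI : Fintype (Subgroup.zpowers π) := Fintype.ofFinite _
    have hcard : (Finset.univ.filter (fun a : Subgroup.zpowers π => a ^ 2 = 1)).card ≤ 2 :=
      IsCyclic.card_pow_eq_one_le two_pos
    by_contra hne
    have hsub : ({1, ⟨-1, hmem⟩, ⟨π ^ n, Subgroup.pow_mem _ (Subgroup.mem_zpowers π) n⟩} :
        Finset (Subgroup.zpowers π)) ⊆ Finset.univ.filter (fun a => a ^ 2 = 1) := by
      intro a ha
      simp only [Finset.mem_insert, Finset.mem_singleton] at ha
      rcases ha with rfl | rfl | rfl <;> simp [Subtype.ext_iff, hsq]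
    have h3 := (Finset.card_le_card hsub).trans hcard
    rw [Finset.card_insert_of_notMem (by simp [Subtype.ext_iff, hne1.symm, Ne.symm hn1]),
      Finset.card_insert_of_notMem (by simp [Subtype.ext_iff, Ne.symm hne]), Finset.card_singleton] at h3
    omega
  · exfalso
    refine hn1 ?_
    set N := Subgroup.zpowers (-1 : (ZMod h)ˣ) with hN
    have hNc : Nat.card N = 2 := by
      rw [Nat.card_zpowers]; exact orderOf_eq_prime (by rw [neg_one_sq]) hne1
    have hdis : Disjoint N (Subgroup.zpowers π) := by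
      rw [Subgroup.disjoint_def]
      intro a ha ha'
      obtain ⟨i, rfl⟩ := Subgroup.mem_zpowers_iff.mp ha
      rcases Int.even_or_odd i with hi | hi
      · exact hi.neg_one_zpow
      · rw [hi.neg_one_zpow] at ha'; exact absurd ha' hmem
    let Γ := N ⊔ Subgroup.zpowers π
    have hΓ : ∀ γ ∈ Γ, ∀ u, e (γ * u) = e u := by
      intro γ hγ u
      obtain ⟨a, ha, b, hb, rfl⟩ := Subgroup.mem_sup.mp hγ
      obtain ⟨i, rfl⟩ := Subgroup.mem_zpowers_iff.mp ha
      rw [mul_assoc]
      rcases Int.even_or_odd i with hi | hi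
      · rw [hi.neg_one_zpow, one_mul]; exact hinvP b hb u
      · rw [hi.neg_one_zpow, hen]; exact hinvP b hb u
    have h2 : 2 * orderOf π ∣ Nat.card Γ := by
      have hinj : Function.Injective (fun ab : N × Subgroup.zpowers π => (⟨(ab.1 : (ZMod h)ˣ) * ab.2,
          Subgroup.mul_mem _ (Subgroup.mem_sup_left ab.1.2) (Subgroup.mem_sup_right ab.2.2)⟩ : Γ)) := by
        intro x y hxy
        exact Subgroup.mul_injective_of_disjoint hdis (congrArg Subtype.val hxy)
      have hsurj : Function.Surjective (fun ab : N × Subgroup.zpowers π => (⟨(ab.1 : (ZMod h)ˣ) * ab.2,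
          Subgroup.mul_mem _ (Subgroup.mem_sup_left ab.1.2) (Subgroup.mem_sup_right ab.2.2)⟩ : Γ)) := by
        rintro ⟨c, hc⟩
        obtain ⟨a, ha, b, hb, rfl⟩ := Subgroup.mem_sup.mp hc
        exact ⟨(⟨a, ha⟩, ⟨b, hb⟩), rfl⟩
      rw [← Nat.card_eq_of_bijective _ ⟨hinj, hsurj⟩, Nat.card_prod, hNc, Nat.card_zpowers]
    exact orderOf_dvd_iff_pow_eq_one.mp
      (Nat.dvd_of_mul_dvd_mul_left two_pos (h2.trans (hdvd Γ hΓ)))

open Matrix in
/-- The matrix form. -/
theorem dvd_of_matrix {p h n : ℕ} [hp : Fact p.Prime] (hh : 0 < h) (hco : p.Coprime h)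
    (M J : Matrix (Fin (2 * n)) (Fin (2 * n)) (ZMod p)) (hM : M ^ h = 1) (hJ : J.det ≠ 0)
    (hMJ : Mᵀ * J * M = J) (hfree : ∀ i, 0 < i → i < h → (M ^ i - 1).det ≠ 0) :
    h ∣ p ^ n + 1 ∨ h ∣ p ^ n - 1 := by
  classical
  haveI : NeZero h := ⟨hh.ne'⟩
  set d := orderOf (ZMod.unitOfCoprime p hco) with hd
  have hd0 : d ≠ 0 := (orderOf_pos _).ne'
  set K := GaloisField p d
  haveI : Fintype K := Fintype.ofFinite K
  have hq : Nat.card K = p ^ d := GaloisField.card p d hd0
  obtain ⟨ζ, hζ⟩ : ∃ ζ : K, IsPrimitiveRoot ζ h := by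
    have hdvd : h ∣ p ^ d - 1 := by
      have h1 := congrArg (Units.val : (ZMod h)ˣ → ZMod h)
        (pow_orderOf_eq_one (ZMod.unitOfCoprime p hco))
      rw [← hd] at h1
      simp only [Units.val_pow_eq_pow_val, ZMod.coe_unitOfCoprime, Units.val_one] at h1
      rw [← ZMod.natCast_eq_zero_iff, Nat.cast_sub (Nat.one_le_pow _ _ hp.out.pos), Nat.cast_pow,
        h1, Nat.cast_one, sub_self]
    obtain ⟨g, hg⟩ := IsCyclic.exists_ofOrder_eq_natCard (α := Kˣ)
    rw [Nat.card_units, hq] at hg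
    obtain ⟨c, hc⟩ := hdvd
    refine ⟨((g ^ c : Kˣ) : K), IsPrimitiveRoot.coe_units_iff.mpr ?_⟩
    have h1 : IsPrimitiveRoot g (p ^ d - 1) := hg ▸ IsPrimitiveRoot.orderOf g
    refine h1.pow ?_ (by rw [hc, mul_comm])
    have : 1 < p ^ d := Nat.one_lt_pow hd0 hp.out.one_lt
    omega
  let φ := algebraMap (ZMod p) K
  haveI : CharP K p := charP_of_injective_algebraMap φ.injective p
  set A := M.map φ with hA
  set Jk := J.map φ with hJk
  have hJdet : Jk.det ≠ 0 := by
    rw [hJk, ← RingHom.mapMatrix_apply, ← RingHom.map_det]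
    exact (map_ne_zero φ).mpr hJ
  have hAJ : Aᵀ * Jk * A = Jk := by
    rw [hA, hJk, ← Matrix.transpose_map, ← Matrix.map_mul, ← Matrix.map_mul, hMJ]
  have hApow : ∀ i, A ^ i = (M ^ i).map φ := fun i => by
    rw [hA, ← RingHom.mapMatrix_apply, ← map_pow]; rfl
  have hA1 : A ^ h = 1 := by rw [hApow, hM, Matrix.map_one φ (map_zero φ) (map_one φ)]
  let c : ZMod h → K := fun u => ζ ^ u.val
  have hc_add : ∀ u v : ZMod h, c (u + v) = c u * c v := fun u v => by
    simp only [c]; rw [ZMod.val_add, ← pow_add, pow_eq_pow_mod (u.val + v.val) hζ.pow_eq_one]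
  have hc_inj : Function.Injective c := fun u v huv =>
    ZMod.val_injective h (hζ.pow_inj u.val_lt v.val_lt huv)
  have hc0 : c 0 = 1 := by simp [c]
  have hc_nat : ∀ (k : ℕ) (u : ZMod h), c ((k : ZMod h) * u) = c u ^ k := fun k u => by
    induction k with
    | zero => simp [hc0]
    | succ k ih => rw [Nat.cast_succ, add_mul, one_mul, hc_add, ih, pow_succ]
  -- eigenspaces
  let E : ZMod h → Submodule K (Fin (2 * n) → K) := fun u => LinearMap.ker ((A - c u • 1).mulVecLin)
  let e : ZMod h → ℕ := fun u => Module.finrank K (E u)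
  have hEmem : ∀ u v, v ∈ E u ↔ A *ᵥ v = c u • v := fun u v => by
    simp [E, Matrix.sub_mulVec, Matrix.smul_mulVec, sub_eq_zero]
  -- `u ↦ p u`
  have hfrob : ∀ u, e ((p : ZMod h) * u) = e u := by
    intro u
    have hAF : ∀ v : Fin (2 * n) → K, A *ᵥ (fun i => v i ^ p) = fun i => (A *ᵥ v) i ^ p := by
      intro v; funext i
      simp only [Matrix.mulVec, dotProduct]
      rw [sum_pow_char]
      refine Finset.sum_congr rfl fun j _ => ?_
      rw [mul_pow]
      congr 1
      rw [hA, Matrix.map_apply, ← map_pow, ZMod.pow_card]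
    have hbij : Function.Bijective (fun x : K => x ^ p) :=
      Finite.injective_iff_bijective.mp (frobenius_inj K p)
    have key : Nat.card (E ((p : ZMod h) * u)) = Nat.card (E u) := by
      symm
      refine Nat.card_eq_of_bijective (fun v : E u => (⟨fun i => (v : Fin (2 * n) → K) i ^ p, ?_⟩ : E ((p : ZMod h) * u))) ⟨?_, ?_⟩
      · rw [hEmem, hAF, (hEmem u _).mp v.2, hc_nat]
        funext i; simp [mul_pow]
      · intro v w hvw
        exact Subtype.ext (funext fun i => hbij.1 (congrFun (congrArg Subtype.val hvw) i))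
      · rintro ⟨w, hw⟩
        choose v hv using fun i => hbij.2 (w i)
        refine ⟨⟨v, (hEmem u v).mpr (funext fun i => hbij.1 ?_)⟩, Subtype.ext (funext hv)⟩
        show (A *ᵥ v) i ^ p = (c u • v) i ^ p
        rw [← congrFun (hAF v) i, show (fun i => v i ^ p) = w from funext hv, (hEmem _ _).mp hw, hc_nat]
        simp [mul_pow, ← hv]
    rw [Module.natCard_eq_pow_finrank (K := K) (V := E ((p : ZMod h) * u)),
      Module.natCard_eq_pow_finrank (K := K) (V := E u)] at key
    exact Nat.pow_right_injective (Finite.one_lt_card (α := K)) key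
  -- `u ↦ -u`
  have hneg : ∀ u, e (-u) = e u := by
    intro u
    have hcu : c u * c (-u) = 1 := by rw [← hc_add, add_neg_cancel, hc0]
    have hid : (A - c u • 1)ᵀ * Jk * A = (-c u) • (Jk * (A - c (-u) • 1)) := by
      rw [Matrix.transpose_sub, Matrix.transpose_smul, Matrix.transpose_one, sub_mul, sub_mul, hAJ,
        Matrix.smul_mul, Matrix.smul_mul, one_mul, Matrix.mul_sub, Matrix.mul_smul, mul_one, smul_sub,
        smul_smul, neg_mul, hcu, neg_smul, neg_smul, one_smul]
      abel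
    have hAu : IsUnit A.det :=
      (Matrix.isUnit_iff_isUnit_det A).mp (IsUnit.of_pow_eq_one hA1 hh.ne')
    have hrank : (A - c (-u) • 1).rank = (A - c u • 1).rank := by
      have h1 := congrArg Matrix.rank hid
      rw [Matrix.rank_mul_eq_left_of_isUnit_det A _ hAu,
        Matrix.rank_mul_eq_left_of_isUnit_det Jk _ hJdet.isUnit, Matrix.rank_transpose] at h1
      rw [h1, ← Matrix.smul_mul, Matrix.rank_mul_eq_right_of_isUnit_det]
      rw [Matrix.det_smul]
      exact ((neg_ne_zero.mpr (left_ne_zero_of_mul_eq_one hcu)).isUnit.pow _).mul hJdet.isUnit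
    have h1 := LinearMap.finrank_range_add_finrank_ker ((A - c u • 1).mulVecLin)
    have h2 := LinearMap.finrank_range_add_finrank_ker ((A - c (-u) • 1).mulVecLin)
    simp only [Matrix.rank] at hrank
    show Module.finrank K (E (-u)) = Module.finrank K (E u)
    simp only [E]
    omega
  -- non-units
  have hnonunit : ∀ u : ZMod h, ¬ IsUnit u → E u = ⊥ := by
    intro u hu
    obtain ⟨i, hi0, hih, hiu⟩ : ∃ i : ℕ, 0 < i ∧ i < h ∧ (i : ZMod h) * u = 0 := by
      have hg : ¬ Nat.Coprime u.val h := fun hc' => hu (by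
        have := (ZMod.unitOfCoprime u.val hc').isUnit
        rwa [ZMod.coe_unitOfCoprime, ZMod.natCast_zmod_val] at this)
      obtain ⟨r, hr, hr1, hr2⟩ := Nat.Prime.not_coprime_iff_dvd.mp hg
      obtain ⟨s, hs⟩ := hr2
      obtain ⟨t, ht⟩ := hr1
      refine ⟨s, Nat.pos_of_ne_zero (by rintro rfl; simp at hs; omega), ?_, ?_⟩
      · rw [hs]; exact lt_mul_of_one_lt_left (Nat.pos_of_ne_zero (by rintro rfl; simp at hs; omega)) hr.one_lt
      · rw [← ZMod.natCast_zmod_val u, ← Nat.cast_mul, ZMod.natCast_eq_zero_iff, ht, hs]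
        exact ⟨t, by ring⟩
    rw [Submodule.eq_bot_iff]
    intro v hv
    have hpow : ∀ k : ℕ, (A ^ k) *ᵥ v = c ((k : ZMod h) * u) • v := by
      intro k
      induction k with
      | zero => simp [hc0]
      | succ k ih =>
        rw [pow_succ', ← Matrix.mulVec_mulVec, ih, Matrix.mulVec_smul, (hEmem u v).mp hv, smul_smul,
          ← hc_add]
        push_cast; ring_nf
    have h1 := hpow i
    rw [hiu, hc0, one_smul, hApow] at h1
    have h2 : ((M ^ i - 1).map φ) *ᵥ v = 0 := by
      rw [Matrix.map_sub _ (map_sub φ), Matrix.map_one φ (map_zero φ) (map_one φ), Matrix.sub_mulVec,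
        h1, Matrix.one_mulVec, sub_self]
    have hdet : ((M ^ i - 1).map φ).det ≠ 0 := by
      rw [← RingHom.mapMatrix_apply, ← RingHom.map_det]
      exact (map_ne_zero φ).mpr (hfree i hi0 hih)
    exact Matrix.eq_zero_of_mulVec_eq_zero hdet h2
  -- decomposition
  have hh' : (h : K) ≠ 0 := fun hz =>
    hp.out.ne_one (Nat.dvd_one.mp (hco.gcd_eq_one ▸ Nat.dvd_gcd dvd_rfl ((CharP.cast_eq_zero_iff K p h).mp hz)))
  have htop : ⨆ u, E u = ⊤ := by
    rw [eq_top_iff]
    intro v _
    let P : ZMod h → (Fin (2 * n) → K) := fun u => ∑ k : ZMod h, c (-(u * k)) • (A ^ k.val *ᵥ v)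
    have hstep : ∀ k : ZMod h, A ^ (k + 1).val = A * A ^ k.val := by
      intro k
      rw [← pow_succ', ZMod.val_add, ← pow_eq_pow_mod _ hA1]
      exact pow_eq_pow_mod _ hA1 |>.trans (by simp [ZMod.val_one_eq_one_mod, Nat.add_mod]) |>.trans
        (pow_eq_pow_mod _ hA1).symm
    have hPE : ∀ u, P u ∈ E u := by
      intro u
      rw [hEmem]
      simp only [P, Matrix.mulVec_sum, Finset.smul_sum, Matrix.mulVec_smul, Matrix.mulVec_mulVec,
        ← hstep, smul_smul, ← hc_add]
      refine Fintype.sum_equiv (Equiv.addRight 1) _ _ fun k => ?_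
      simp only [Equiv.coe_addRight]
      rw [Matrix.mulVec_mulVec, ← hstep]
      congr 2; ring
    have hsum : ∑ u, P u = (h : K) • v := by
      simp only [P]
      rw [Finset.sum_comm]
      simp only [← Finset.sum_smul]
      rw [Finset.sum_eq_single 0]
      · simp [hc0]
      · intro k _ hk
        have hS : (∑ u : ZMod h, c (-(u * k))) * c (-k) = ∑ u : ZMod h, c (-(u * k)) := by
          rw [Finset.sum_mul]
          refine Fintype.sum_equiv (Equiv.addRight 1) _ _ fun u => ?_
          rw [← hc_add]; simp only [Equiv.coe_addRight]; congr 1; ring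
        have hne : c (-k) ≠ 1 := fun hk' => hk (neg_eq_zero.mp (hc_inj (hk'.trans hc0.symm)))
        have h0 : (∑ u : ZMod h, c (-(u * k))) = 0 := by
          by_contra h0
          exact hne (mul_left_cancel₀ h0 (hS.trans (mul_one _).symm))
        rw [h0, zero_smul]
      · simp
    have hv : v = (h : K)⁻¹ • ∑ u, P u := by rw [hsum, smul_smul, inv_mul_cancel₀ hh', one_smul]
    rw [hv]
    exact Submodule.smul_mem _ _ (Submodule.sum_mem _ fun u _ => Submodule.mem_iSup_of_mem u (hPE u))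
  have hind : iSupIndep E := by
    have heig : E = (Module.End.eigenspace (A.mulVecLin : Module.End K (Fin (2 * n) → K))) ∘ c := by
      funext u; ext w
      simp [hEmem, Module.End.mem_eigenspace_iff]
    rw [heig]
    exact (Module.End.eigenspaces_iSupIndep _).comp hc_inj
  have htot : ∑ u, e u = 2 * n := by
    have hint := DirectSum.isInternal_submodule_of_iSupIndep_of_iSup_eq_top hind htop
    have h1 := (LinearEquiv.ofBijective (DirectSum.coeLinearMap E) hint).finrank_eq
    rw [Module.finrank_directSum, Module.finrank_pi, Fintype.card_fin] at h1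
    exact h1
  refine dvd_of_count hco hp.out.pos (fun u : (ZMod h)ˣ => e u) ?_ ?_ ?_
  · rw [← htot]
    refine Fintype.sum_of_injective (fun u : (ZMod h)ˣ => (u : ZMod h)) Units.val_injective _ _ ?_ ?_
    · intro u hu
      have : ¬ IsUnit u := fun hh' => hu ⟨hh'.unit, hh'.unit_spec⟩
      simp [e, hnonunit u this]
    · intro u; rfl
  · intro u; simp only [Units.val_mul, ZMod.coe_unitOfCoprime]; exact hfrob _
  · intro u; simp only [neg_mul, one_mul, Units.val_neg]; exact hneg _

/-- The form of the statement for a vector space. -/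
theorem dvd_of_space {p h n : ℕ} [hp : Fact p.Prime] (hh : 0 < h) (hco : p.Coprime h) {V : Type*}
    [AddCommGroup V] [Finite V] (hexp : ∀ v : V, p • v = 0) (hcard : Nat.card V = p ^ (2 * n))
    (T : AddMonoid.End V) (hT : T ^ h = 1) (β : V →+ V →+ ZMod p) (hβ : ∀ v, (∀ w, β v w = 0) → v = 0)
    (hinv : ∀ v w, β (T v) (T w) = β v w) (hfree : ∀ i, 0 < i → i < h → ∀ v, (T ^ i) v = v → v = 0) :
    h ∣ p ^ n + 1 ∨ h ∣ p ^ n - 1 := by
  classical
  letI := AddCommGroup.zmodModule (n := p) hexp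
  haveI : Module.Finite (ZMod p) V := Module.Finite.of_finite
  have hrk : Module.finrank (ZMod p) V = 2 * n := by
    have h1 : Nat.card V = Nat.card (ZMod p) ^ Module.finrank (ZMod p) V := Module.natCard_eq_pow_finrank
    rw [Nat.card_zmod, hcard] at h1
    exact (Nat.pow_right_injective hp.out.two_le h1).symm
  let b := Module.finBasisOfFinrankEq (ZMod p) V hrk
  let B : V →ₗ[ZMod p] V →ₗ[ZMod p] ZMod p :=
    LinearMap.mk₂ (ZMod p) (fun q r => β q r)
      (fun q q' r => by rw [map_add, AddMonoidHom.add_apply])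
      (fun k q r => ZMod.map_smul (β.flip r) k q)
      (fun q r r' => map_add (β q) r r')
      (fun k q r => ZMod.map_smul (β q) k r)
  let L : Module.End (ZMod p) V := AddMonoidHom.toZModLinearMap p T
  have hL : ∀ i, ∀ v, (L ^ i) v = (T ^ i) v := by
    intro i
    induction i with
    | zero => intro v; simp
    | succ i ih => intro v; rw [pow_succ, pow_succ]; exact ih (T v)
  refine dvd_of_matrix (M := LinearMap.toMatrixAlgEquiv b L) (J := LinearMap.toMatrix₂ b b B)
    hh hco ?_ ?_ ?_ ?_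
  · rw [← map_pow, show L ^ h = 1 from LinearMap.ext fun v => by rw [hL, hT]; rfl, map_one]
  · exact (LinearMap.separatingLeft_iff_det_ne_zero b).mp (fun v hv => hβ v hv)
  · have h1 := LinearMap.toMatrix₂_compl₁₂ b b b b B L L
    rw [show B.compl₁₂ L L = B from LinearMap.ext fun q => LinearMap.ext fun r => hinv q r] at h1
    exact h1.symm
  · intro i hi hih
    rw [← map_pow, ← map_one (LinearMap.toMatrixAlgEquiv b), ← map_sub]
    show (LinearMap.toMatrix b b (L ^ i - 1)).det ≠ 0
    rw [LinearMap.det_toMatrix]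
    intro hdet
    obtain ⟨q, hq, hq0⟩ := Submodule.exists_mem_ne_zero_of_ne_bot
      (LinearMap.bot_lt_ker_of_det_eq_zero hdet).ne'
    refine hq0 (hfree i hi hih q ?_)
    rw [LinearMap.mem_ker, LinearMap.sub_apply, sub_eq_zero, hL] at hq
    exact hq


/-- Let P be an extraspecial p-group of order p^(2n+1) and H a cyclic group of order h prime to p acting on P (inside a common finite group: H normalizes P) so that C_P(x) = Z(P) for every non-identity x ∈ H. Then h divides p^n + 1 or h divides p^n − 1. -/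
theorem result {G : Type*} [Group G] [Finite G] {p : ℕ} [Fact p.Prime] (P H : Subgroup G) (hP : Cfsg.IsExtraspecial p ↥P) (n : ℕ) (hn : Nat.card P = p ^ (2 * n + 1)) (hH : IsCyclic H) (hcop : (Nat.card H).Coprime p) (hHP : H ≤ Subgroup.normalizer (P : Set G)) (hfix : ∀ x ∈ H, x ≠ 1 → P ⊓ Subgroup.centralizer {x} = (Subgroup.center ↥P).map P.subtype) : Nat.card H ∣ p ^ n + 1 ∨ Nat.card H ∣ p ^ n - 1 := by
  classical
  have hp := (Fact.out : p.Prime)
  obtain ⟨x, hx⟩ := IsCyclic.exists_ofOrder_eq_natCard (α := H)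
  set h := Nat.card H with hh
  have hcent := CfsgLib.PGroups.IsExtraspecial.comm_mem hP
  have hZp : Nat.card (Subgroup.center ↥P) = p := hP.2
  letI : CommGroup (↥P ⧸ (Subgroup.center ↥P)) :=
    { (inferInstance : Group (↥P ⧸ (Subgroup.center ↥P))) with
      mul_comm := fun a b => by
        obtain ⟨a, rfl⟩ := QuotientGroup.mk_surjective a
        obtain ⟨b, rfl⟩ := QuotientGroup.mk_surjective b
        rw [← QuotientGroup.mk_mul, ← QuotientGroup.mk_mul, QuotientGroup.eq]
        have := (Subgroup.center ↥P).inv_mem (hcent a b)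
        have h2 : (a * b)⁻¹ * (b * a) = ⁅b⁻¹, a⁻¹⁆ := by simp only [commutatorElement_def]; group
        rw [h2]; exact hcent _ _ }
  have hexp : ∀ q : Additive (↥P ⧸ (Subgroup.center ↥P)), p • q = 0 := fun q => by
    obtain ⟨u, hu⟩ := QuotientGroup.mk_surjective (Additive.toMul q)
    refine Additive.toMul.injective ?_
    rw [toMul_nsmul, toMul_zero, ← hu, ← QuotientGroup.mk_pow, QuotientGroup.eq_one_iff]
    exact CfsgLib.PGroups.IsExtraspecial.pow_mem_center hP u
  letI : CommGroup ↥(Subgroup.center ↥P) :=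
    { (inferInstance : Group ↥(Subgroup.center ↥P)) with
      mul_comm := fun a b => Subtype.ext (Subgroup.mem_center_iff.mp b.2 a) }
  have hQcard : Nat.card (Additive (↥P ⧸ Subgroup.center ↥P)) = p ^ (2 * n) := by
    have h2 := Subgroup.card_eq_card_quotient_mul_card_subgroup (Subgroup.center ↥P)
    rw [hn, hZp, pow_succ] at h2
    rw [Nat.card_congr Additive.toMul]
    exact (Nat.eq_of_mul_eq_mul_right hp.pos h2).symm
  -- the pairing
  let c : ↥P →* ↥P →* (Subgroup.center ↥P) := MonoidHom.mk' (fun u => MonoidHom.mk' (fun v => (⟨⁅u, v⁆, hcent u v⟩ : (Subgroup.center ↥P)))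
      (fun v w => Subtype.ext (CfsgLib.PGroups.comm_mul_right_of_central (hcent u w))))
    (fun u v => MonoidHom.ext fun w => Subtype.ext (CfsgLib.PGroups.comm_mul_left_of_central (hcent v w)))
  have hcr : ∀ u, (Subgroup.center ↥P) ≤ (c u).ker := fun u z hz => Subtype.ext
    (commutatorElement_eq_one_iff_mul_comm.mpr (Subgroup.mem_center_iff.mp hz u))
  let c₂ : ↥P →* (↥P ⧸ (Subgroup.center ↥P)) →* (Subgroup.center ↥P) := MonoidHom.mk' (fun u => QuotientGroup.lift (Subgroup.center ↥P) (c u) (hcr u))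
    (fun u v => MonoidHom.ext fun q => QuotientGroup.induction_on q fun w => by
      show c (u * v) w = c u w * c v w
      rw [map_mul]; rfl)
  have hcl : (Subgroup.center ↥P) ≤ c₂.ker := fun z hz => MonoidHom.ext fun q => QuotientGroup.induction_on q fun w =>
    Subtype.ext (commutatorElement_eq_one_iff_mul_comm.mpr (Subgroup.mem_center_iff.mp hz w).symm)
  let C := QuotientGroup.lift (Subgroup.center ↥P) c₂ hcl
  haveI : IsCyclic (Subgroup.center ↥P) := isCyclic_of_prime_card hZp
  let ψ : (Subgroup.center ↥P) ≃* Multiplicative (ZMod p) := (zmodCyclicMulEquiv this).symm.trans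
    (AddEquiv.toMultiplicative (ZMod.ringEquivCongr hZp).toAddEquiv)
  let β : Additive (↥P ⧸ (Subgroup.center ↥P)) →+ Additive (↥P ⧸ (Subgroup.center ↥P)) →+ ZMod p :=
    AddMonoidHom.mk' (fun q => AddMonoidHom.mk'
      (fun r => Multiplicative.toAdd (ψ (C (Additive.toMul q) (Additive.toMul r))))
      (fun r s => by rw [toMul_add, map_mul, map_mul, toAdd_mul]))
      (fun q r => AddMonoidHom.ext fun s => by
        show Multiplicative.toAdd (ψ (C (Additive.toMul (q + r)) _)) = _
        rw [toMul_add, map_mul, MonoidHom.mul_apply, map_mul, toAdd_mul]; rfl)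
  have hB : ∀ q, (∀ r, β q r = 0) → q = 0 := by
    intro q hq
    obtain ⟨u, hu⟩ := QuotientGroup.mk_surjective (Additive.toMul q)
    refine Additive.toMul.injective ?_
    rw [← hu, toMul_zero, QuotientGroup.eq_one_iff, Subgroup.mem_center_iff]
    intro v
    have h1 : Multiplicative.toAdd (ψ (C (Additive.toMul q) ((v : ↥P ⧸ (Subgroup.center ↥P))))) = 0 :=
      hq (Additive.ofMul (v : ↥P ⧸ (Subgroup.center ↥P)))
    rw [toAdd_eq_zero, MulEquiv.map_eq_one_iff, ← hu] at h1
    exact (commutatorElement_eq_one_iff_mul_comm.mp (congrArg Subtype.val h1)).symm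
  -- the action
  have hnorm : ∀ y : H, ∀ u : ↥P, (y : G) * u * (y : G)⁻¹ ∈ P := fun y u =>
    (Subgroup.mem_normalizer_iff.mp (hHP y.2) u).mp u.2
  let θ : H → (↥P →* ↥P) := fun y => MonoidHom.mk' (fun u => ⟨(y : G) * u * (y : G)⁻¹, hnorm y u⟩)
    (fun u v => Subtype.ext (by simp only [Subgroup.coe_mul]; group))
  have hθZ : ∀ y : H, ∀ z ∈ (Subgroup.center ↥P), θ y z = z := by
    intro y z hz
    apply Subtype.ext
    show (y : G) * z * (y : G)⁻¹ = z
    rcases eq_or_ne y 1 with rfl | hy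
    · simp
    have h1 : (z : G) ∈ P ⊓ Subgroup.centralizer {(y : G)} := by
      rw [hfix y y.2 (by simpa using hy)]; exact Subgroup.mem_map_of_mem _ hz
    rw [Subgroup.mem_centralizer_singleton_iff.mp h1.2 |> Eq.symm, mul_inv_cancel_right]
  let T : H → AddMonoid.End (Additive (↥P ⧸ Subgroup.center ↥P)) := fun y =>
    MonoidHom.toAdditive (QuotientGroup.map (Subgroup.center ↥P) (Subgroup.center ↥P) (θ y) fun z hz => by
      rw [Subgroup.mem_comap, hθZ y z hz]; exact hz)
  have hTmk : ∀ y (u : ↥P), T y (Additive.ofMul (u : ↥P ⧸ (Subgroup.center ↥P))) = Additive.ofMul ((θ y u : ↥P) : ↥P ⧸ (Subgroup.center ↥P)) :=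
    fun _ _ => rfl
  have hθ1 : ∀ u, θ 1 u = u := fun u => Subtype.ext (by simp [θ])
  have hθmul : ∀ y z u, θ (y * z) u = θ y (θ z u) := fun y z u => Subtype.ext (by
    simp only [θ, MonoidHom.mk'_apply, Subgroup.coe_mul]; group)
  have hT1 : T 1 = 1 := DFunLike.ext _ _ fun q => by
    obtain ⟨u, hu⟩ := QuotientGroup.mk_surjective (Additive.toMul q)
    obtain rfl : q = Additive.ofMul (u : ↥P ⧸ (Subgroup.center ↥P)) := hu.symm
    rw [hTmk, hθ1]; rfl
  have hTmul : ∀ y z, T (y * z) = T y * T z := fun y z => DFunLike.ext _ _ fun q => by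
    obtain ⟨u, hu⟩ := QuotientGroup.mk_surjective (Additive.toMul q)
    obtain rfl : q = Additive.ofMul (u : ↥P ⧸ (Subgroup.center ↥P)) := hu.symm
    show T (y * z) _ = T y (T z _)
    rw [hTmk, hTmk, hTmk, hθmul]
  let Tm : H →* AddMonoid.End (Additive (↥P ⧸ (Subgroup.center ↥P))) := ⟨⟨T, hT1⟩, hTmul⟩
  have hfree : ∀ y : H, y ≠ 1 → ∀ q, T y q = q → q = 0 := by
    intro y hy q hq
    obtain ⟨u, hu⟩ := QuotientGroup.mk_surjective (Additive.toMul q)
    obtain rfl : q = Additive.ofMul (u : ↥P ⧸ (Subgroup.center ↥P)) := hu.symm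
    rw [hTmk] at hq
    have hz : u⁻¹ * θ y u ∈ (Subgroup.center ↥P) := QuotientGroup.eq.mp (Additive.ofMul.injective hq).symm
    obtain ⟨z, hzu⟩ : ∃ z, z = u⁻¹ * θ y u := ⟨_, rfl⟩
    rw [← hzu] at hz
    have hyu : θ y u = u * z := by rw [hzu, mul_inv_cancel_left]
    have hk : ∀ k : ℕ, θ (y ^ k) u = u * z ^ k := by
      intro k
      induction k with
      | zero => simp [hθ1]
      | succ k ih => rw [pow_succ', hθmul, ih, map_mul, map_pow, hyu, hθZ y z hz, pow_succ', mul_assoc]
    have h1 := hk h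
    rw [pow_card_eq_one', hθ1] at h1
    have hzh : z ^ h = 1 := left_eq_mul.mp h1
    have hz1 : z = 1 := by
      have h2 : z ^ p = 1 := CfsgLib.PGroups.IsExtraspecial.center_pow hP hz
      have h3 := pow_gcd_eq_one.mpr (⟨hzh, h2⟩ : z ^ h = 1 ∧ z ^ p = 1)
      rwa [hcop.gcd_eq_one, pow_one] at h3
    rw [hz1, mul_one] at hyu
    have h4 : (u : G) ∈ P ⊓ Subgroup.centralizer {(y : G)} := by
      refine ⟨u.2, Subgroup.mem_centralizer_singleton_iff.mpr ?_⟩
      have h5 : (y : G) * u * (y : G)⁻¹ = u := congrArg Subtype.val hyu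
      exact (mul_inv_eq_iff_eq_mul.mp h5).symm
    rw [hfix y y.2 (by simpa using hy)] at h4
    obtain ⟨v, hv, hvu⟩ := h4
    obtain rfl : v = u := Subtype.ext hvu
    exact Additive.toMul.injective ((QuotientGroup.eq_one_iff v).mpr hv)
  refine dvd_of_space Nat.card_pos hcop.symm hexp hQcard (Tm x) ?_ β hB ?_ ?_
  · rw [← map_pow, ← hx, pow_orderOf_eq_one, map_one]
  · intro q r
    obtain ⟨u, hu⟩ := QuotientGroup.mk_surjective (Additive.toMul q)
    obtain rfl : q = Additive.ofMul (u : ↥P ⧸ Subgroup.center ↥P) := hu.symm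
    obtain ⟨v, hv⟩ := QuotientGroup.mk_surjective (Additive.toMul r)
    obtain rfl : r = Additive.ofMul (v : ↥P ⧸ Subgroup.center ↥P) := hv.symm
    show Multiplicative.toAdd (ψ (⟨⁅θ x u, θ x v⁆, hcent _ _⟩ : Subgroup.center ↥P)) =
      Multiplicative.toAdd (ψ (⟨⁅u, v⁆, hcent _ _⟩ : Subgroup.center ↥P))
    congr 3
    rw [← map_commutatorElement, hθZ x _ (hcent u v)]
  · intro i hi hih q hq
    refine hfree (x ^ i) (pow_ne_one_of_lt_orderOf hi.ne' (hx ▸ hih)) q ?_
    rwa [← map_pow] at hq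

end Cfsg.Agent.S3767
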