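import Cfsg.Statements.S3768
import Mathlib
import Cfsg.Agent.Lib.Core.FrobeniusConj

set_option autoImplicit false
open Cfsg

namespace Cfsg.Agent.S3768

open scoped Pointwise commutatorElement
open Subgroup
set_option linter.style.haveILetI false

/-- Let G be a finite Frobenius group with Frobenius complement R and Frobenius kernel K (the identity together with the elements in no conjugate of R), and let N be a normal subgroup of G not containing K. Then G/N is a Frobenius group with Frobenius complement RN/N whose Frobenius kernel is the image of K. -/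
theorem result {G : Type*} [Group G] [Finite G] (R : Subgroup G) (hR : Cfsg.IsFrobeniusComplement R) (N : Subgroup G) [N.Normal] (hKN : ¬ Cfsg.frobeniusKernel R ⊆ N) : Cfsg.IsFrobeniusComplement (R.map (QuotientGroup.mk' N)) ∧ Cfsg.frobeniusKernel (R.map (QuotientGroup.mk' N)) = QuotientGroup.mk' N '' Cfsg.frobeniusKernel R := by
  obtain ⟨K, hK, hKn, hc, -, hfpf⟩ := CfsgLib.Core.FrobeniusConj.exists_kernel hR
  haveI := hKn
  rw [← hK] at hKN ⊢
  have hRK : ∀ x, x ∈ R → x ∈ K → x = 1 := fun x h1 h2 =>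
    mem_bot.mp (hc.disjoint.le_bot ⟨h2, h1⟩)
  have hout : ∀ x : G, x ∉ K → ∃ g : G, g⁻¹ * x * g ∈ R := by
    intro x hx
    by_contra hcon
    push Not at hcon
    refine hx ?_
    rw [← SetLike.mem_coe, hK]
    exact Or.inr fun g hg => hcon g (CfsgLib.Frobenius.mem_conj_smul.mp hg)
  -- `k ↦ [k, h]` is a bijection of `K`
  have hcomm : ∀ h ∈ R, h ≠ 1 → ∀ M : Subgroup G, M.Normal → M ≤ K → ∀ m ∈ M, ∃ k ∈ M, ⁅k, h⁆ = m := by
    intro h hh h1 M hM hMK m hm
    have hmap : ∀ k : M, ⁅(k : G), h⁆ ∈ M := fun k => by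
      rw [commutatorElement_def, show (k : G) * h * (k : G)⁻¹ * h⁻¹ = k * (h * (k : G)⁻¹ * h⁻¹) by group]
      exact M.mul_mem k.2 (hM.conj_mem _ (M.inv_mem k.2) h)
    obtain ⟨⟨k, hk⟩, hk'⟩ := Finite.surjective_of_injective
      (f := fun k : M => (⟨_, hmap k⟩ : M)) (fun a b hab => by
        have e : (a : G) * h * (a : G)⁻¹ * h⁻¹ = b * h * (b : G)⁻¹ * h⁻¹ := congrArg Subtype.val hab
        have hmem : (b : G)⁻¹ * a ∈ K ⊓ centralizer {h} := by
          refine ⟨K.mul_mem (K.inv_mem (hMK b.2)) (hMK a.2), mem_centralizer_singleton_iff.mpr ?_⟩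
          calc (b : G)⁻¹ * a * h = (b : G)⁻¹ * (a * h * (a : G)⁻¹ * h⁻¹) * h * a := by group
            _ = (b : G)⁻¹ * (b * h * (b : G)⁻¹ * h⁻¹) * h * a := by rw [e]
            _ = h * ((b : G)⁻¹ * a) := by group
        rw [hfpf h hh h1, mem_bot, inv_mul_eq_one] at hmem
        exact Subtype.ext hmem.symm) ⟨m, hm⟩
    exact ⟨k, hk, congrArg Subtype.val hk'⟩
  have hNK : N ≤ K := by
    intro x hx
    by_contra hxK
    obtain ⟨g, hg⟩ := hout x hxK
    refine hKN fun k hk => ?_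
    have h1 : g⁻¹ * x * g ≠ 1 := fun e => hxK (by
      have : x = 1 := by
        calc x = g * (g⁻¹ * x * g) * g⁻¹ := by group
          _ = 1 := by rw [e]; group
      exact this ▸ one_mem K)
    have hN' : g⁻¹ * x * g ∈ N := by simpa using ‹N.Normal›.conj_mem x hx g⁻¹
    obtain ⟨k', -, rfl⟩ := hcomm _ hg h1 K hKn le_rfl k hk
    rw [SetLike.mem_coe, commutatorElement_def]
    exact N.mul_mem (‹N.Normal›.conj_mem _ hN' k') (N.inv_mem hN')
  set π := QuotientGroup.mk' N with hπ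
  have hsurj : Function.Surjective π := QuotientGroup.mk'_surjective N
  have hker : ∀ {x : G}, π x = 1 ↔ x ∈ N := QuotientGroup.eq_one_iff _
  have hne : R.map π ≠ ⊥ := by
    intro h
    refine hR.1 ((eq_bot_iff_forall _).mpr fun x hx => hRK x hx (hNK (hker.mp ?_)))
    exact mem_bot.mp (h ▸ mem_map_of_mem π hx)
  have htop : R.map π ≠ ⊤ := by
    intro h
    refine hKN fun k hk => ?_
    obtain ⟨r, hr, hrk⟩ := (h ▸ mem_top (π k) : π k ∈ R.map π)
    have hn : r⁻¹ * k ∈ N := by rw [← hker, map_mul, map_inv, hrk, inv_mul_cancel]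
    have hrK : r ∈ K := by simpa using K.mul_mem hk (K.inv_mem (hNK hn))
    rw [hRK r hr hrK, inv_one, one_mul] at hn
    exact hn
  have hTI : ∀ g : G ⧸ N, g ∉ R.map π → R.map π ⊓ MulAut.conj g • R.map π = ⊥ := by
    intro gb hgb
    rw [eq_bot_iff_forall]
    rintro xb ⟨⟨x, hx, rfl⟩, hxb⟩
    obtain ⟨g, rfl⟩ := hsurj gb
    obtain ⟨y, hy, hye⟩ := CfsgLib.Frobenius.mem_conj_smul.mp hxb
    obtain ⟨k, hk, s, hs, rfl⟩ : ∃ k ∈ K, ∃ s ∈ R, g = k * s := by
      obtain ⟨⟨⟨k, hk⟩, ⟨s, hs⟩⟩, e⟩ := hc.2 g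
      exact ⟨k, hk, s, hs, e.symm⟩
    by_contra hx1
    have hy' : s * y * s⁻¹ ∈ R := R.mul_mem (R.mul_mem hs hy) (R.inv_mem hs)
    have hn : x⁻¹ * (k * (s * y * s⁻¹) * k⁻¹) ∈ N := by
      rw [← hker]
      simp only [map_mul, map_inv, hye]
      group
    have hKx : x⁻¹ * (s * y * s⁻¹) ∈ K := by
      have h2 : k * (s * y * s⁻¹) * k⁻¹ * (s * y * s⁻¹)⁻¹ ∈ K := by
        rw [show k * (s * y * s⁻¹) * k⁻¹ * (s * y * s⁻¹)⁻¹ =
          k * ((s * y * s⁻¹) * k⁻¹ * (s * y * s⁻¹)⁻¹) by group]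
        exact K.mul_mem hk (hKn.conj_mem _ (K.inv_mem hk) _)
      have h3 := K.mul_mem (hNK hn) (hKn.conj_mem _ (K.inv_mem h2) (s * y * s⁻¹)⁻¹)
      convert h3 using 1
      group
    have hxy : x = s * y * s⁻¹ := inv_mul_eq_one.mp (hRK _ (R.mul_mem (R.inv_mem hx) hy') hKx)
    rw [← hxy] at hn
    have hx0 : x ≠ 1 := fun e => hx1 (by rw [e, map_one])
    have hn' : ⁅k, x⁆ ∈ N := by
      have := ‹N.Normal›.conj_mem _ hn x
      rw [commutatorElement_def]
      convert this using 1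
      group
    obtain ⟨n, hnN, hne'⟩ := hcomm x hx hx0 N inferInstance hNK _ hn'
    have : k = n := by
      have hmem : n⁻¹ * k ∈ K ⊓ centralizer {x} := by
        refine ⟨K.mul_mem (K.inv_mem (hNK hnN)) hk, mem_centralizer_singleton_iff.mpr ?_⟩
        rw [commutatorElement_def, commutatorElement_def] at hne'
        calc n⁻¹ * k * x = n⁻¹ * (k * x * k⁻¹ * x⁻¹) * x * k := by group
          _ = n⁻¹ * (n * x * n⁻¹ * x⁻¹) * x * k := by rw [hne']
          _ = x * (n⁻¹ * k) := by group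
      rw [hfpf x hx hx0, mem_bot, inv_mul_eq_one] at hmem
      exact hmem.symm
    refine hgb ⟨s, hs, ?_⟩
    have hkN : k ∈ N := this.symm ▸ hnN
    rw [map_mul, hker.mpr hkN, one_mul]
  refine ⟨⟨hne, htop, hTI⟩, ?_⟩
  ext xb
  obtain ⟨x, rfl⟩ := hsurj xb
  constructor
  · intro h
    rcases h with h | h
    · exact ⟨1, K.one_mem, by rw [h]; exact map_one π⟩
    · by_cases hxK : x ∈ K
      · exact ⟨x, hxK, rfl⟩
      obtain ⟨g, hg⟩ := hout x hxK
      have hmem : (π g)⁻¹ * π x * π g ∈ R.map π := ⟨g⁻¹ * x * g, hg, by simp only [map_mul, map_inv]⟩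
      exact absurd (CfsgLib.Frobenius.mem_conj_smul.mpr hmem) (h (π g))
  · rintro ⟨k, hk, hkx⟩
    rw [← hkx]
    refine or_iff_not_imp_left.mpr fun hne1 gb hgb => hne1 ?_
    obtain ⟨g, rfl⟩ := hsurj gb
    obtain ⟨r, hr, hre⟩ := CfsgLib.Frobenius.mem_conj_smul.mp hgb
    have hn : r⁻¹ * (g⁻¹ * k * g) ∈ N := by
      rw [← hker]
      simp only [map_mul, map_inv, hre]
      group
    have hgk : g⁻¹ * k * g ∈ K := by simpa using hKn.conj_mem k hk g⁻¹
    have hrK : r ∈ K := by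
      have := K.mul_mem hgk (K.inv_mem (hNK hn))
      simpa [mul_assoc] using this
    rw [hRK r hr hrK, inv_one, one_mul] at hn
    exact hker.mpr (by simpa [mul_assoc] using ‹N.Normal›.conj_mem _ hn g)

end Cfsg.Agent.S3768
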