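import Cfsg.Statements.S3769
import Mathlib
import Cfsg.Agent.Lib.PGroups.HHSetup
import Cfsg.Agent.Lib.Core.HallHigman
import Cfsg.Agent.Lib.Components.Radicals
import Cfsg.Agent.Lib.Components.Char
import Cfsg.Agent.Lib.Components.FStar

set_option autoImplicit false
open Cfsg

namespace Cfsg.Agent.S3769

set_option linter.style.haveILetI false

/-- A coprime automorphism of a solvable group centralizing the Fitting subgroup is trivial. -/
theorem fixed_of_fitting {Y : Type*} [Group Y] [Finite Y] [Group.IsSolvable Y] (θ : MulAut Y) (q : ℕ)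
    (hθ : θ ^ q = 1) (hco : (Nat.card Y).Coprime q)
    (hF : ∀ f ∈ Cfsg.fittingSubgroup Y, θ f = f) : ∀ y, θ y = y := by
  intro y
  haveI : (Cfsg.fittingSubgroup Y).Normal := CfsgLib.Components.fitting_normal
  set z := y⁻¹ * θ y with hz
  have hzF : z ∈ Cfsg.fittingSubgroup Y := by
    refine CfsgLib.Components.centralizer_fitting_le_of_isSolvable (Subgroup.mem_centralizer_iff.mpr fun f hf => ?_)
    have h1 : y * f * y⁻¹ ∈ Cfsg.fittingSubgroup Y := ‹(Cfsg.fittingSubgroup Y).Normal›.conj_mem f hf y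
    have h2 := hF _ h1
    rw [map_mul, map_mul, map_inv, hF f hf] at h2
    calc f * z = y⁻¹ * (y * f * y⁻¹) * θ y := by rw [hz]; group
      _ = y⁻¹ * (θ y * f * (θ y)⁻¹) * θ y := by rw [h2]
      _ = z * f := by rw [hz]; group
  have hy : θ y = y * z := by rw [hz, mul_inv_cancel_left]
  have hpow : ∀ m : ℕ, (θ ^ m) y = y * z ^ m := by
    intro m
    induction m with
    | zero => simp
    | succ m ih => rw [pow_succ', MulAut.mul_apply, ih, map_mul, map_pow, hF z hzF, hy, mul_assoc, pow_succ']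
  have h1 := hpow q
  rw [hθ, MulAut.one_apply, left_eq_mul] at h1
  have hz1 : z = 1 := orderOf_eq_one_iff.mp (Nat.eq_one_of_dvd_coprimes hco (orderOf_dvd_natCard z)
    (orderOf_dvd_of_pow_eq_one h1))
  rw [hy, hz1, mul_one]

/-- Let G and V be subgroups of a finite group with G solvable of odd order normalizing V, V an elementary abelian ℓ-group for a prime ℓ not dividing the order of G, and suppose G has a normal Hall subgroup K with a complement R of prime order. If C_V(R) = 1, then [R, K] centralizes V. -/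
theorem result {X : Type*} [Group X] [Finite X] (G : Subgroup X) (hsolv : Group.IsSolvable G) (hodd : Odd (Nat.card G)) (V : Subgroup X) {ℓ : ℕ} (hℓ : ℓ.Prime) (hV : Cfsg.IsElementaryAbelian ℓ V) (hℓG : ¬ ℓ ∣ Nat.card G) (hGV : G ≤ Subgroup.normalizer (V : Set X)) (K R : Subgroup X) (hKG : K ≤ G) (hKn : G ≤ Subgroup.normalizer (K : Set X)) (hHall : (Nat.card K).Coprime (K.relIndex G)) (hRG : R ≤ G) (hR : (Nat.card R).Prime) (hKR : K ⊓ R = ⊥) (hKRG : K ⊔ R = G) (hCV : V ⊓ Subgroup.centralizer (R : Set X) = ⊥) : ⁅R, K⁆ ≤ Subgroup.centralizer (V : Set X) := by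
  classical
  set q := Nat.card R with hq
  haveI := Fact.mk hR
  haveI := Fact.mk hℓ
  obtain ⟨M, iM, fM, x, θ, σ, ρ, hxX, hθ, hθr, hσr, hcomp, hfpf, hker, k, hk⟩ :=
    CfsgLib.PGroups.HHSetup.setup' hℓ hR R K V hq.symm (hRG.trans hKn) hV (hRG.trans hGV) (hKG.trans hGV) hCV
  -- orders
  have hKq : (Nat.card K).Coprime q := by
    refine (Nat.Coprime.coprime_dvd_right ?_ hHall)
    have h := CfsgLib.Core.card_sup_of_disjoint R K (hRG.trans hKn) (by rw [inf_comm]; exact hKR)
    rw [sup_comm, hKRG] at h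
    have h2 : Nat.card (K.subgroupOf G) * K.relIndex G = Nat.card G := (K.subgroupOf G).card_mul_index
    rw [Nat.card_congr (Subgroup.subgroupOfEquivOfLe hKG).toEquiv, h, mul_comm (Nat.card R)] at h2
    exact (Nat.eq_of_mul_eq_mul_left Nat.card_pos h2).symm.dvd
  have hKdG : Nat.card K ∣ Nat.card G := Subgroup.card_dvd_of_le hKG
  have hqℓ : q ≠ ℓ := fun e => hℓG (e ▸ Subgroup.card_dvd_of_le hRG)
  -- the faithful quotient
  set C := ρ.toHomUnits.ker with hC
  have hCmem : ∀ y : K, y ∈ C ↔ (∀ m, ρ y m = m) := by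
    intro y
    rw [hC, MonoidHom.mem_ker, Units.ext_iff, Units.val_one]
    constructor
    · intro h m
      have : ρ y = 1 := h
      rw [this]; rfl
    · intro h
      exact (AddMonoidHom.ext h : ρ y = 1)
  have hCθ : C.map θ.toMonoidHom = C := by
    refine Subgroup.eq_of_le_of_card_ge ?_
      (Subgroup.card_map_of_injective (f := θ.toMonoidHom) θ.injective).ge
    rintro _ ⟨y, hy, rfl⟩
    refine (hCmem _).mpr fun m => ?_
    obtain ⟨m', rfl⟩ : ∃ m', σ m' = m := by
      refine ⟨(σ ^ (q - 1)) m, ?_⟩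
      have : σ * σ ^ (q - 1) = 1 := by
        rw [← pow_succ', Nat.sub_add_cancel hR.one_lt.le, hσr]
      exact DFunLike.congr_fun this m
    exact (hcomp y m').symm.trans (congrArg σ ((hCmem y).mp hy m'))
  let Y := K ⧸ C
  let θ' : MulAut Y := QuotientGroup.congr C C θ hCθ
  let ρ' : Y →* AddMonoid.End M := (Units.coeHom _).comp (QuotientGroup.lift C ρ.toHomUnits le_rfl)
  have hθ'mk : ∀ y : K, θ' (y : Y) = ((θ y : K) : Y) := fun y => rfl
  have hρ'mk : ∀ y : K, ρ' (y : Y) = ρ y := fun y => rfl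
  have hθ'q : θ' ^ q = 1 := by
    have h : ∀ (m : ℕ) (y : K), (θ' ^ m) (y : Y) = (((θ ^ m) y : K) : Y) := by
      intro m y
      induction m with
      | zero => rfl
      | succ m ih => rw [pow_succ', MulAut.mul_apply, ih, hθ'mk, pow_succ', MulAut.mul_apply]
    refine MulEquiv.ext fun z => ?_
    obtain ⟨y, rfl⟩ := QuotientGroup.mk_surjective z
    rw [h, hθr]; rfl
  have hYdvd : Nat.card Y ∣ Nat.card K := Subgroup.card_quotient_dvd_card C
  haveI : Group.IsSolvable K := Group.isSolvable_of_isSolvable_injective (f := Subgroup.inclusion hKG)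
    (Subgroup.inclusion_injective hKG)
  haveI : Group.IsSolvable Y := inferInstance
  have hFdvd : Nat.card (Cfsg.fittingSubgroup Y) ∣ Nat.card K :=
    (Subgroup.card_subgroup_dvd_card _).trans hYdvd
  have hF : ∀ y ∈ Cfsg.fittingSubgroup Y, θ' y = y := by
    refine CfsgLib.Core.HH.fixed_of_fpf_module ρ' θ' σ hθ'q hσr ?_ hfpf ?_
      CfsgLib.Components.fitting_isNilpotent ?_ (hKq.coprime_dvd_left hFdvd) ?_ ?_ ?_
    · intro z m
      obtain ⟨y, rfl⟩ := QuotientGroup.mk_surjective z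
      exact hcomp y m
    · rw [hk]; exact ((Nat.coprime_primes hℓ hR).mpr (Ne.symm hqℓ)).pow_left k
    · intro y hy
      have h := CfsgLib.Components.fitting_map_equiv θ'
      rw [← h]
      exact ⟨y, hy, rfl⟩
    · rw [hk]
      refine Nat.Coprime.pow_left k (hℓ.coprime_iff_not_dvd.mpr fun hd => hℓG ?_)
      exact hd.trans (hFdvd.trans hKdG)
    · intro z hz h
      obtain ⟨y, rfl⟩ := QuotientGroup.mk_surjective z
      exact (QuotientGroup.eq_one_iff y).mpr ((hCmem y).mpr h)
    · rintro ⟨h2, -⟩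
      exact (Nat.not_even_iff_odd.mpr hodd) (even_iff_two_dvd.mpr (h2.trans (hFdvd.trans hKdG)))
  have hall := fixed_of_fitting θ' q hθ'q (hKq.coprime_dvd_left hYdvd) hF
  rw [Subgroup.commutator_le]
  intro g hg y hy
  rw [← hxX] at hg
  obtain ⟨i, rfl⟩ := Subgroup.mem_zpowers_iff.mp hg
  have hyn : ∀ u : K, ((θ u : K) : Y) = (u : Y) := fun u => hall (u : Y)
  -- conjugates by powers of `x`
  have hcC : ∀ (m : ℕ) (u : K), (((θ ^ m) u : K) : Y) = (u : Y) := by
    intro m u
    induction m with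
    | zero => rfl
    | succ m ih => rw [pow_succ', MulAut.mul_apply, hyn, ih]
  have hxq : x ^ q = 1 := by
    have hxR : x ∈ R := hxX ▸ Subgroup.mem_zpowers x
    have h1 := pow_card_eq_one' (G := R) (x := ⟨x, hxR⟩)
    exact congrArg (fun t : R => (t : X)) h1
  obtain ⟨m, hm⟩ : ∃ m : ℕ, x ^ i = x ^ m := by
    refine ⟨(i % (q : ℤ)).toNat, ?_⟩
    rw [← zpow_natCast, Int.toNat_of_nonneg (Int.emod_nonneg _ (Int.natCast_ne_zero.mpr hR.ne_zero))]
    conv_lhs => rw [← Int.emod_add_ediv_mul i (q : ℤ)]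
    rw [zpow_add, mul_comm (i / (q : ℤ)), zpow_mul, zpow_natCast, hxq, one_zpow, mul_one]
  have hconj : ∀ (m : ℕ) (u : K), (((θ ^ m) u : K) : X) = x ^ m * u * (x ^ m)⁻¹ := by
    intro m
    induction m with
    | zero => intro u; simp
    | succ m ih => intro u; rw [pow_succ, MulAut.mul_apply, ih, hθ, pow_succ]; group
  have hmem : (θ ^ m) ⟨y, hy⟩ * (⟨y, hy⟩ : K)⁻¹ ∈ C := by
    rw [← QuotientGroup.eq_one_iff, QuotientGroup.mk_mul, QuotientGroup.mk_inv, hcC, mul_inv_cancel]
  have h := (hker _).mp ((hCmem _).mp hmem)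
  rw [Subgroup.coe_mul, Subgroup.coe_inv, hconj] at h
  rw [hm, commutatorElement_def]
  exact h

end Cfsg.Agent.S3769
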