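import Cfsg.Statements.S3770
import Mathlib
import Cfsg.Agent.Lib.Core.FrobeniusConj
import Cfsg.Agent.Lib.Core.FPFAutomorphism
import Cfsg.Agent.Lib.Core.Nilpotent
import Cfsg.Agent.Lib.PLocal.NormalPComplementThms

set_option autoImplicit false
set_option maxHeartbeats 1000000
open Cfsg

namespace Cfsg.Agent.S3770

open scoped commutatorElement

set_option linter.style.haveILetI false

open Finset in
theorem key : ∀ (N : ℕ) (K : Type*) [Group K] [Finite K], Nat.card K ≤ N → Group.IsNilpotent K →
    ∀ (M : Type*) [AddCommGroup M] [Finite M] (ρ : K →* AddMonoid.End M) (θ : MulAut K)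
      (σ : AddMonoid.End M) (q : ℕ), q.Prime → θ ^ q = 1 → σ ^ q = 1 →
      (∀ y m, σ (ρ y m) = ρ (θ y) (σ m)) → (∀ y, θ y = y → y = 1) →
      (Nat.card K).Coprime (Nat.card M) →
      (∀ m m' : M, σ m = m → m ≠ 0 → σ m' = m' → ∃ n : ℕ, m' = n • m) →
      ∀ (y z : K) (m : M), ρ (y * z) m = ρ (z * y) m := by
  intro N
  induction N with
  | zero => intro K _ _ h; exact absurd h (Nat.not_le.mpr Nat.card_pos)
  | succ N ih =>
    intro K _ _ hN hnil M _ _ ρ θ σ q hq hθq hσq hcomp hfpf hco hone
    classical
    haveI := hnil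
    haveI := Fintype.ofFinite K
    rcases subsingleton_or_nontrivial K with hs | hnt
    · intro y z m; rw [Subsingleton.elim (y * z) (z * y)]
    set A := Subgroup.center K with hA
    have hAne : A ≠ ⊥ := fun e => CfsgLib.Core.inf_center_ne_bot_of_isNilpotent (⊤ : Subgroup K)
      top_ne_bot (by rw [top_inf_eq]; exact e)
    have hAc : ∀ a ∈ A, ∀ y : K, y * a = a * y := fun a ha y => Subgroup.mem_center_iff.mp ha y
    have hAθ : ∀ a ∈ A, θ a ∈ A := fun a ha => Subgroup.mem_center_iff.mpr fun y => by
      obtain ⟨y, rfl⟩ := θ.surjective y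
      rw [← map_mul, ← map_mul, hAc a ha]
    have hr : ∀ (a b : K) (m : M), ρ (a * b) m = ρ a (ρ b m) := fun a b m => by rw [map_mul]; rfl
    have hr1 : ∀ m : M, ρ 1 m = m := fun m => by rw [map_one]; rfl
    have hσcomp : ∀ (k : ℕ) (y : K) (m : M), (σ ^ k) (ρ y m) = ρ ((θ ^ k) y) ((σ ^ k) m) := by
      intro k
      induction k with
      | zero => intro y m; rfl
      | succ k ih =>
        intro y m
        rw [pow_succ', pow_succ', MulAut.mul_apply]
        show σ ((σ ^ k) (ρ y m)) = ρ (θ ((θ ^ k) y)) (σ ((σ ^ k) m))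
        rw [ih, hcomp]
    -- the trace over the centre
    let T : AddMonoid.End M := ∑ a : A, ρ (a : K)
    have hT : ∀ m, T m = ∑ a : A, ρ (a : K) m := fun m => AddMonoidHom.finsetSum_apply _ _ _
    have hTfix : ∀ (b : A) m, ρ (b : K) (T m) = T m := by
      intro b m
      rw [hT, map_sum]
      exact Fintype.sum_equiv (Equiv.mulLeft b) _ _ fun a => (hr b a m).symm
    have hTρ : ∀ (y : K) m, T (ρ y m) = ρ y (T m) := by
      intro y m
      rw [hT, hT, map_sum]
      refine Finset.sum_congr rfl fun a _ => ?_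
      rw [← hr, ← hr, hAc a a.2]
    -- the part fixed by the centre
    have hfixed : ∀ w : M, (∀ a : A, ρ (a : K) w = w) → ∀ y z : K, ρ (y * z) w = ρ (z * y) w := by
      intro w hw y z
      let M₀ : AddSubgroup M :=
        { carrier := {m | ∀ a : A, ρ (a : K) m = m}
          zero_mem' := fun a => map_zero _
          add_mem' := fun {u v} hu hv a => by rw [map_add, hu a, hv a]
          neg_mem' := fun {u} hu a => by rw [map_neg, hu a] }
      have hρ₀ : ∀ (y : K), ∀ m ∈ M₀, ρ y m ∈ M₀ := fun y m hm a => by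
        rw [← hr, ← hAc a a.2, hr, hm a]
      have hσ₀ : ∀ m ∈ M₀, σ m ∈ M₀ := by
        intro m hm a
        obtain ⟨b, hb⟩ : ∃ b : A, θ (b : K) = a := by
          have hb : θ.symm (a : K) ∈ A := Subgroup.mem_center_iff.mpr fun y => θ.injective (by
            rw [map_mul, map_mul, θ.apply_symm_apply, hAc a a.2])
          exact ⟨⟨_, hb⟩, θ.apply_symm_apply _⟩
        rw [← hb, ← hcomp, hm b]
      let ρ₀ : K →* AddMonoid.End M₀ :=
        { toFun := fun y => ((ρ y : M →+ M).comp M₀.subtype).codRestrict M₀ fun m => hρ₀ y m m.2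
          map_one' := AddMonoidHom.ext fun m => Subtype.ext (hr1 _)
          map_mul' := fun u v => AddMonoidHom.ext fun m => Subtype.ext (hr u v _) }
      have hker : A ≤ ρ₀.toHomUnits.ker := fun a ha => Units.ext (AddMonoidHom.ext fun m =>
        Subtype.ext (m.2 ⟨a, ha⟩))
      have hmap : A.map θ.toMonoidHom = A := by
        refine Subgroup.eq_of_le_of_card_ge ?_
          (Subgroup.card_map_of_injective (f := θ.toMonoidHom) θ.injective).ge
        rintro _ ⟨a, ha, rfl⟩; exact hAθ a ha
      let θ' : MulAut (K ⧸ A) := QuotientGroup.congr A A θ hmap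
      let ρ' : K ⧸ A →* AddMonoid.End M₀ :=
        (Units.coeHom _).comp (QuotientGroup.lift A ρ₀.toHomUnits hker)
      let σ' : AddMonoid.End M₀ := ((σ : M →+ M).comp M₀.subtype).codRestrict M₀ fun m => hσ₀ m m.2
      have hθ' : θ' ^ q = 1 := by
        have h : ∀ (k : ℕ) (u : K), (θ' ^ k) (u : K ⧸ A) = (((θ ^ k) u : K) : K ⧸ A) := by
          intro k u
          induction k with
          | zero => rfl
          | succ k ihk => rw [pow_succ', MulAut.mul_apply, ihk, pow_succ', MulAut.mul_apply]; rfl
        refine MulEquiv.ext fun u => ?_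
        obtain ⟨u, rfl⟩ := QuotientGroup.mk_surjective u
        rw [h, hθq]; rfl
      have hσ' : σ' ^ q = 1 := by
        have h : ∀ (k : ℕ) (m : M₀), (((σ' ^ k) m : M₀) : M) = (σ ^ k) (m : M) := by
          intro k
          induction k with
          | zero => intro m; rfl
          | succ k ihk =>
            intro m
            rw [pow_succ', pow_succ']
            show σ (((σ' ^ k) m : M₀) : M) = σ ((σ ^ k) (m : M))
            rw [ihk]
        exact AddMonoidHom.ext fun m => Subtype.ext ((h q m).trans (by rw [hσq]; rfl))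
      have hfpf' : ∀ u, θ' u = u → u = 1 := by
        intro u hu
        obtain ⟨u, rfl⟩ := QuotientGroup.mk_surjective u
        have hu' : (θ u : K ⧸ A) = (u : K ⧸ A) := hu
        have ha : u⁻¹ * θ u ∈ A := QuotientGroup.eq.mp hu'.symm
        let f : A → A := fun b => ⟨(b : K)⁻¹ * θ b, A.mul_mem (A.inv_mem b.2) (hAθ b b.2)⟩
        have hf : Function.Injective f := by
          intro a b e
          have e' : (a : K)⁻¹ * θ a = (b : K)⁻¹ * θ b := congrArg Subtype.val e
          have : θ ((b : K) * (a : K)⁻¹) = (b : K) * (a : K)⁻¹ := by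
            rw [map_mul, map_inv]
            calc θ (b : K) * (θ (a : K))⁻¹ = (b : K) * ((b : K)⁻¹ * θ b) * ((a : K)⁻¹ * θ a)⁻¹ * (a : K)⁻¹ := by group
              _ = (b : K) * (a : K)⁻¹ := by rw [e']; group
          exact Subtype.ext (mul_inv_eq_one.mp (hfpf _ this)).symm
        obtain ⟨b, hb⟩ := Finite.surjective_of_injective hf ⟨_, ha⟩
        have hb' : (b : K)⁻¹ * θ b = u⁻¹ * θ u := congrArg Subtype.val hb
        have : θ (u * (b : K)⁻¹) = u * (b : K)⁻¹ := by
          rw [map_mul, map_inv]
          calc θ u * (θ (b : K))⁻¹ = u * (u⁻¹ * θ u) * ((b : K)⁻¹ * θ b)⁻¹ * (b : K)⁻¹ := by group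
            _ = u * (b : K)⁻¹ := by rw [hb']; group
        rw [QuotientGroup.eq_one_iff, mul_inv_eq_one.mp (hfpf _ this)]
        exact b.2
      have hlt : Nat.card (K ⧸ A) ≤ N := by
        have h1 := Subgroup.card_eq_card_quotient_mul_card_subgroup A
        have h2 := (Subgroup.one_lt_card_iff_ne_bot A).mpr hAne
        have h3 : 0 < Nat.card (K ⧸ A) := Nat.card_pos
        nlinarith
      have h := ih (K ⧸ A) hlt inferInstance M₀ ρ' θ' σ' q hq hθ' hσ'
        (fun u m => by
          obtain ⟨u, rfl⟩ := QuotientGroup.mk_surjective u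
          exact Subtype.ext (hcomp u m)) hfpf'
        ((hco.coprime_dvd_left (Subgroup.card_quotient_dvd_card A)).coprime_dvd_right
          (AddSubgroup.card_addSubgroup_dvd_card M₀))
        (fun m m' hm hm0 hm' => by
          obtain ⟨n, hn⟩ := hone m m' (congrArg Subtype.val hm) (fun e => hm0 (Subtype.ext e))
            (congrArg Subtype.val hm')
          exact ⟨n, Subtype.ext (by simpa using hn)⟩)
        (y : K ⧸ A) (z : K ⧸ A) ⟨w, hw⟩
      rw [← QuotientGroup.mk_mul, ← QuotientGroup.mk_mul] at h
      exact congrArg Subtype.val h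
    -- the part without fixed points of the centre
    have hmoved : ∀ w : M, T w = 0 → ∀ y z : K, ρ (y * z) w = ρ (z * y) w := by
      let U : AddSubgroup M := (T : M →+ M).ker
      have hUmem : ∀ u, u ∈ U ↔ T u = 0 := fun u => Iff.rfl
      have hUρ : ∀ (y : K), ∀ u ∈ U, ρ y u ∈ U := fun y u hu => by
        rw [hUmem] at hu ⊢
        rw [hTρ, hu, map_zero]
      have hUσ : ∀ u ∈ U, ∀ k : ℕ, (σ ^ k) u ∈ U := by
        intro u hu k
        rw [hUmem, hT] at hu ⊢
        have hAk : ∀ a : A, (θ ^ k) (a : K) ∈ A := by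
          intro a
          clear hu
          induction k with
          | zero => exact a.2
          | succ k ihk => rw [pow_succ', MulAut.mul_apply]; exact hAθ _ ihk
        let π : A → A := fun a => ⟨(θ ^ k) (a : K), hAk a⟩
        have hπ : Function.Bijective π := Finite.injective_iff_bijective.mp fun a b e =>
          Subtype.ext ((θ ^ k).injective (congrArg Subtype.val e))
        have h := congrArg (σ ^ k) hu
        rw [map_sum, map_zero] at h
        rw [← h]
        exact (Fintype.sum_bijective π hπ _ _ fun a => hσcomp k _ u).symm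
      -- fixed vectors
      let F : M → M := fun u => ∑ k ∈ Finset.range q, (σ ^ k) u
      have hFfix : ∀ u, σ (F u) = F u := by
        intro u
        simp only [F, map_sum]
        have h1 : ∑ k ∈ Finset.range q, σ ((σ ^ k) u) = ∑ k ∈ Finset.range q, (σ ^ (k + 1)) u :=
          Finset.sum_congr rfl fun k _ => by rw [pow_succ']; rfl
        have h2 := Finset.sum_range_succ' (fun k => (σ ^ k) u) q
        have h3 := Finset.sum_range_succ (fun k => (σ ^ k) u) q
        rw [hσq] at h3
        rw [h1]
        have h4 : (σ ^ 0) u = u := by rw [pow_zero]; rfl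
        rw [h4] at h2
        exact add_right_cancel (h2.symm.trans h3)
      have hFU : ∀ u ∈ U, F u ∈ U := fun u hu => sum_mem fun k _ => hUσ u hu k
      have hspan : ∀ u ∈ U, Nat.card A • u = ∑ a : A, ρ (a : K) (F (ρ (a : K)⁻¹ u)) := by
        intro u hu
        simp only [F, map_sum]
        rw [Finset.sum_comm, Finset.sum_eq_single_of_mem 0 (Finset.mem_range.mpr hq.pos)]
        · rw [Finset.sum_congr rfl (fun (a : A) _ => show ρ (a : K) ((σ ^ 0) (ρ (a : K)⁻¹ u)) = u by
            rw [pow_zero]; show ρ (a : K) (ρ (a : K)⁻¹ u) = u; rw [← hr, mul_inv_cancel, hr1]),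
            Finset.sum_const, Finset.card_univ, Nat.card_eq_fintype_card]
        · intro k hk hk0
          rw [Finset.mem_range] at hk
          have hAk : ∀ a : A, (a : K) * (θ ^ k) ((a : K)⁻¹) ∈ A := by
            intro a
            refine A.mul_mem a.2 ?_
            clear hk hk0
            induction k with
            | zero => exact A.inv_mem a.2
            | succ k ihk => rw [pow_succ', MulAut.mul_apply]; exact hAθ _ ihk
          let π : A → A := fun a => ⟨(a : K) * (θ ^ k) ((a : K)⁻¹), hAk a⟩
          have hπ : Function.Bijective π := by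
            refine Finite.injective_iff_bijective.mp fun a b e => ?_
            have e' : (a : K) * (θ ^ k) ((a : K)⁻¹) = (b : K) * (θ ^ k) ((b : K)⁻¹) := congrArg Subtype.val e
            have hfx : (θ ^ k) ((b : K)⁻¹ * a) = (b : K)⁻¹ * a := by
              rw [map_mul, map_inv]
              rw [map_inv, map_inv] at e'
              calc ((θ ^ k) (b : K))⁻¹ * (θ ^ k) (a : K)
                  = (b : K)⁻¹ * ((b : K) * ((θ ^ k) (b : K))⁻¹) * (θ ^ k) (a : K) := by group
                _ = (b : K)⁻¹ * a := by rw [← e']; group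
            have hfix1 : θ ((b : K)⁻¹ * a) = (b : K)⁻¹ * a := by
              have hco' : Nat.Coprime k q :=
                ((hq.coprime_iff_not_dvd).mpr (Nat.not_dvd_of_pos_of_lt (Nat.pos_of_ne_zero hk0) hk)).symm
              have hst : θ ^ k ∈ MulAction.stabilizer (MulAut K) ((b : K)⁻¹ * a) := hfx
              obtain ⟨j, hj⟩ := exists_pow_eq_self_of_coprime (x := θ) (n := k)
                (hco'.coprime_dvd_right (orderOf_dvd_of_pow_eq_one hθq))
              exact hj ▸ pow_mem hst j
            exact Subtype.ext (inv_mul_eq_one.mp (hfpf _ hfix1)).symm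
          rw [Fintype.sum_bijective π hπ _ (fun a : A => ρ (a : K) ((σ ^ k) u)) fun a => by
            rw [hσcomp, ← hr]]
          rw [← hT]
          exact hUσ u hu k
      by_cases hz : ∃ c ∈ U, σ c = c ∧ c ≠ 0
      · obtain ⟨c, hcU, hcσ, hc0⟩ := hz
        let E : AddSubgroup (AddMonoid.End M) :=
          AddSubgroup.closure (Set.range fun a : A => ρ (a : K))
        have hE : ∀ e ∈ E, ∀ (y : K) m, ρ y (e m) = e (ρ y m) := by
          intro e he y
          induction he using AddSubgroup.closure_induction with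
          | mem e he =>
            obtain ⟨a, rfl⟩ := he
            intro m; rw [← hr, ← hr, hAc a a.2]
          | zero => intro m; exact map_zero _
          | add e f _ _ he hf =>
            intro m
            show ρ y (e m + f m) = e (ρ y m) + f (ρ y m)
            rw [map_add, he, hf]
          | neg e _ he =>
            intro m
            show ρ y (-(e m)) = -(e (ρ y m))
            rw [map_neg, he]
        have hEE : ∀ e ∈ E, ∀ f ∈ E, ∀ m, e (f m) = f (e m) := by
          intro e he f hf
          induction he using AddSubgroup.closure_induction with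
          | mem e he =>
            obtain ⟨a, rfl⟩ := he
            intro m; exact hE f hf a m
          | zero => intro m; exact (map_zero f).symm
          | add e g _ _ he hg =>
            intro m
            show e (f m) + g (f m) = f (e m + g m)
            rw [map_add, he, hg]
          | neg e _ he =>
            intro m
            show -(e (f m)) = f (-(e m))
            rw [map_neg, he]
        have hgen : ∀ u ∈ U, ∃ e ∈ E, u = e c := by
          intro u hu
          let W : AddSubgroup M := E.map ((AddMonoidHom.eval c : (M →+ M) →+ M))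
          suffices u ∈ W by obtain ⟨e, he, h⟩ := this; exact ⟨e, he, h.symm⟩
          have hcopA : (Nat.card A).Coprime (addOrderOf u) :=
            (hco.coprime_dvd_left (Subgroup.card_subgroup_dvd_card A)).coprime_dvd_right (addOrderOf_dvd_natCard u)
          obtain ⟨j, hj⟩ := exists_nsmul_eq_self_of_coprime hcopA
          rw [← hj]
          refine W.nsmul_mem ?_ j
          rw [hspan u hu]
          refine sum_mem fun a _ => ?_
          obtain ⟨n, hn⟩ := hone c (F (ρ (a : K)⁻¹ u)) hcσ hc0 (hFfix _)
          rw [hn, map_nsmul]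
          exact W.nsmul_mem ⟨ρ (a : K), AddSubgroup.subset_closure ⟨a, rfl⟩, rfl⟩ n
        intro w hw y z
        obtain ⟨e, he, rfl⟩ := hgen w hw
        obtain ⟨ey, hey, hy⟩ := hgen (ρ y c) (hUρ y c hcU)
        obtain ⟨ez, hez, hz⟩ := hgen (ρ z c) (hUρ z c hcU)
        rw [hE e he, hE e he, hr, hr]
        congr 1
        rw [hz, hE ez hez, hy, hE ey hey z, hz, hEE ez hez ey hey]
      · push Not at hz
        intro w hw y z
        have hw0 : w = 0 := by
          have h := hspan w hw
          rw [Finset.sum_eq_zero (fun a _ => by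
            rw [hz _ (hFU _ (hUρ _ w hw)) (hFfix _), map_zero])] at h
          exact AddMonoid.addOrderOf_eq_one_iff.mp (Nat.eq_one_of_dvd_coprimes
            (hco.coprime_dvd_left (Subgroup.card_subgroup_dvd_card A))
            (addOrderOf_dvd_of_nsmul_eq_zero h) (addOrderOf_dvd_natCard w))
        rw [hw0, map_zero, map_zero]
    intro y z m
    have hcopA : (Nat.card A).Coprime (addOrderOf m) :=
      (hco.coprime_dvd_left (Subgroup.card_subgroup_dvd_card A)).coprime_dvd_right (addOrderOf_dvd_natCard m)
    obtain ⟨j, hj⟩ := exists_nsmul_eq_self_of_coprime hcopA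
    have h2 : ρ (y * z) (Nat.card A • m - T m) = ρ (z * y) (Nat.card A • m - T m) := by
      refine hmoved _ ?_ y z
      rw [map_sub, map_nsmul]
      have : T (T m) = Nat.card A • T m := by
        rw [hT (T m), Finset.sum_congr rfl (fun a _ => hTfix a m), Finset.sum_const, Finset.card_univ,
          Nat.card_eq_fintype_card]
      rw [this, sub_self]
    have h1 := hfixed (T m) (fun a => hTfix a m) y z
    rw [map_sub, map_sub, h1] at h2
    have h3 : ρ (y * z) (Nat.card A • m) = ρ (z * y) (Nat.card A • m) := sub_left_injective h2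
    rw [← hj, map_nsmul (ρ (y * z)) j, map_nsmul (ρ (z * y)) j, h3]

/-- Let G and V be subgroups of a finite group with G a Frobenius group with complement R of prime order and kernel K, G normalizing V, and V an elementary abelian ℓ-group for a prime ℓ not dividing the order of G. If C_V(R) has order ℓ, then the derived subgroup of K centralizes V. -/
theorem result {X : Type*} [Group X] [Finite X] (G : Subgroup X) (V : Subgroup X) {ℓ : ℕ} (hℓ : ℓ.Prime) (hV : Cfsg.IsElementaryAbelian ℓ V) (hℓG : ¬ ℓ ∣ Nat.card G) (hGV : G ≤ Subgroup.normalizer (V : Set X)) (R : Subgroup ↥G) (hR : Cfsg.IsFrobeniusComplement R) (hRp : (Nat.card R).Prime) (hCV : Nat.card ↥(V ⊓ Subgroup.centralizer ((R.map G.subtype : Subgroup X) : Set X)) = ℓ) : ⁅Subgroup.closure (Subtype.val '' Cfsg.frobeniusKernel R), Subgroup.closure (Subtype.val '' Cfsg.frobeniusKernel R)⁆ ≤ Subgroup.centralizer (V : Set X) := by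
  classical
  haveI := Fact.mk hℓ
  haveI := Fact.mk hRp
  obtain ⟨N, hN, hNn, hNc, -, hfpf⟩ := CfsgLib.Core.FrobeniusConj.exists_kernel hR
  haveI := hNn
  obtain ⟨r₀, hr₀⟩ : ∃ r : R, r ≠ 1 := by
    haveI : Nontrivial R := Finite.one_lt_card_iff_nontrivial.mp hRp.one_lt
    exact exists_ne 1
  have hr1 : ((r₀ : G) : X) ≠ 1 := fun e => hr₀ (Subtype.ext (Subtype.ext e))
  have hr1' : (r₀ : G) ≠ 1 := fun e => hr₀ (Subtype.ext e)
  set x := ((r₀ : G) : X) with hx
  set q := Nat.card R with hq
  have hxq : (r₀ : G) ^ q = 1 :=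
    congrArg (fun t : R => (t : G)) (pow_card_eq_one' (G := R) (x := r₀))
  -- the Frobenius kernel is nilpotent
  have hnil : Group.IsNilpotent N := by
    obtain ⟨N', hN', -, hnil⟩ := CfsgLib.Core.FPFAut.frobeniusKernel_nilpotent
      (fun K _ _ p _ hp P h => CfsgLib.PLocal.hasNormalPComplement_glauberman hp P h) hR
    have : N' = N := SetLike.ext' (hN'.trans hN.symm)
    exact this ▸ hnil
  let θ : MulAut N := MulAut.conjNormal (r₀ : G)
  letI : CommGroup V := { (inferInstance : Group V) with mul_comm := fun a b => hV.1.is_comm.comm a b }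
  let cj : ∀ g : G, Additive ↥V →+ Additive ↥V := fun g =>
    MonoidHom.toAdditive (MonoidHom.mk' (fun v : V => (⟨(g : X) * v * (g : X)⁻¹,
      (Subgroup.mem_normalizer_iff.mp (hGV g.2) v).mp v.2⟩ : V)) fun a b => Subtype.ext (by simp [mul_assoc]))
  let ρG : G →* AddMonoid.End (Additive ↥V) :=
    { toFun := cj
      map_one' := AddMonoidHom.ext fun m => by
        apply Additive.toMul.injective
        apply Subtype.ext
        show (1 : X) * _ * (1 : X)⁻¹ = _
        simp
        rfl
      map_mul' := fun a b => AddMonoidHom.ext fun m => by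
        apply Additive.toMul.injective
        apply Subtype.ext
        show ((a : X) * b) * _ * ((a : X) * b)⁻¹ = (a : X) * ((b : X) * _ * (b : X)⁻¹) * (a : X)⁻¹
        group }
  have hfix : ∀ m : Additive ↥V, ρG (r₀ : G) m = m →
      ((Additive.toMul m : V) : X) ∈ V ⊓ Subgroup.centralizer ((R.map G.subtype : Subgroup X) : Set X) := by
    intro m hm
    refine ⟨(Additive.toMul m : V).2, Subgroup.mem_centralizer_iff.mpr ?_⟩
    have h1 : x * ((Additive.toMul m : V) : X) * x⁻¹ = (Additive.toMul m : V) :=
      congrArg (fun t : Additive ↥V => ((Additive.toMul t : V) : X)) hm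
    rintro _ ⟨r, hr, rfl⟩
    have hgen := zpowers_eq_top_of_prime_card rfl hr₀
    obtain ⟨i, hi⟩ := Subgroup.mem_zpowers_iff.mp (hgen ▸ Subgroup.mem_top (⟨r, hr⟩ : R))
    have hi' : x ^ i = (r : X) := congrArg (fun t : R => ((t : G) : X)) hi
    show (r : X) * _ = _ * (r : X)
    rw [← hi']
    exact ((show Commute x _ from mul_inv_eq_iff_eq_mul.mp h1).zpow_left i).eq
  have hcop : (Nat.card N).Coprime (Nat.card (Additive ↥V)) := by
    obtain ⟨k, hk⟩ := IsPGroup.iff_card.mp (show IsPGroup ℓ V from
      fun v => ⟨1, Subtype.ext (by simpa using hV.2 v v.2)⟩)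
    rw [show Nat.card (Additive ↥V) = ℓ ^ k from hk]
    exact (Nat.Coprime.pow_left k ((hℓ.coprime_iff_not_dvd.mpr fun h =>
      hℓG (h.trans (Subgroup.card_subgroup_dvd_card N))))).symm
  have hkey := key (Nat.card N) N le_rfl hnil (Additive ↥V) (ρG.comp N.subtype) θ (ρG (r₀ : G)) q hRp
    (by
      show MulAut.conjNormal (r₀ : G) ^ q = 1
      rw [← map_pow, hxq, map_one])
    (by rw [← map_pow, hxq, map_one])
    (fun y m => by
      show ρG (r₀ : G) (ρG y m) = ρG ((θ y : N) : G) (ρG (r₀ : G) m)
      rw [show ((θ y : N) : G) = (r₀ : G) * y * (r₀ : G)⁻¹ from MulAut.conjNormal_apply _ _]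
      show (ρG (r₀ : G) * ρG y) m = (ρG ((r₀ : G) * y * (r₀ : G)⁻¹) * ρG (r₀ : G)) m
      rw [← map_mul, ← map_mul, inv_mul_cancel_right])
    (fun y hy => Subtype.ext (Subgroup.mem_bot.mp ((hfpf r₀ r₀.2 hr1').le
      ⟨y.2, Subgroup.mem_centralizer_singleton_iff.mpr (by
        have h := congrArg Subtype.val hy
        rw [MulAut.conjNormal_apply] at h
        exact (mul_inv_eq_iff_eq_mul.mp h).symm)⟩)))
    hcop
    (fun m m' hm hm0 hm' => by
      set C := V ⊓ Subgroup.centralizer ((R.map G.subtype : Subgroup X) : Set X) with hC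
      have hne : (⟨_, hfix m hm⟩ : C) ≠ 1 := fun e => hm0 (Additive.toMul.injective (Subtype.ext
        (congrArg (fun t : C => (t : X)) e)))
      have hgen := zpowers_eq_top_of_prime_card hCV hne
      obtain ⟨n, hn⟩ := mem_powers_iff_mem_zpowers.mpr (hgen ▸ Subgroup.mem_top (⟨_, hfix m' hm'⟩ : C))
      refine ⟨n, Additive.toMul.injective (Subtype.ext ?_)⟩
      have h := congrArg Subtype.val hn
      simpa using h.symm)
  have hcl : Subgroup.closure (Subtype.val '' Cfsg.frobeniusKernel R) = N.map G.subtype := by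
    rw [← hN, show (Subtype.val '' (N : Set G)) = ((N.map G.subtype : Subgroup X) : Set X) from rfl,
      Subgroup.closure_eq]
  rw [hcl, Subgroup.commutator_le]
  rintro _ ⟨a, ha, rfl⟩ _ ⟨b, hb, rfl⟩
  refine Subgroup.mem_centralizer_iff.mpr fun v hv => ?_
  have h := congrArg (fun t : Additive ↥V => ((Additive.toMul t : V) : X))
    (hkey ⟨a, ha⟩ ⟨b, hb⟩ (Additive.ofMul ⟨(a * b : G)⁻¹ * v * (a * b : G),
      by simpa using (Subgroup.mem_normalizer_iff.mp (hGV (G.inv_mem (a * b : G).2)) v).mp hv⟩))
  have h' : ((a : X) * b) * (((a : X) * b)⁻¹ * v * ((a : X) * b)) * ((a : X) * b)⁻¹ =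
      ((b : X) * a) * (((a : X) * b)⁻¹ * v * ((a : X) * b)) * ((b : X) * a)⁻¹ := h
  have e1 : ((a : X) * b) * (((a : X) * b)⁻¹ * v * ((a : X) * b)) * ((a : X) * b)⁻¹ = v := by group
  rw [e1] at h'
  show v * ⁅(a : X), (b : X)⁆ = ⁅(a : X), (b : X)⁆ * v
  rw [commutatorElement_def]
  conv_rhs => rw [h']
  group

end Cfsg.Agent.S3770
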