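import Cfsg.Statements.S3775
import Mathlib

set_option autoImplicit false
open Cfsg

namespace Cfsg.Agent.S3775

set_option linter.style.haveILetI false
open Subgroup

variable {A : Type*} [CommGroup A] [Finite A] {p : ℕ}

/-- Maschke with a denominator: an invariant subgroup with a complement has an invariant one. -/
theorem exists_invariant_compl (X : Subgroup (MulAut A)) {K U V W : Subgroup A}
    (hcop : (Nat.card X).Coprime (Nat.card A))
    (hK : ∀ x ∈ X, ∀ a ∈ K, x a ∈ K) (hU : ∀ x ∈ X, ∀ a ∈ U, x a ∈ U)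
    (hV : ∀ x ∈ X, ∀ a ∈ V, x a ∈ V) (hKU : K ≤ U) (hUV : U ≤ V) (hWV : W ≤ V)
    (hinf : W ⊓ U = K) (hsup : W ⊔ U = V) :
    ∃ T : Subgroup A, (∀ x ∈ X, ∀ a ∈ T, x a ∈ T) ∧ T ≤ V ∧ T ⊓ U = K ∧ T ⊔ U = V := by
  classical
  haveI : Finite (MulAut A) := Finite.of_injective (fun f => (f : A → A)) DFunLike.coe_injective
  letI : Fintype X := Fintype.ofFinite X
  have hKW : K ≤ W := hinf.ge.trans inf_le_left
  have hdec : ∀ v : V, ∃ u : A, u ∈ U ∧ u⁻¹ * (v : A) ∈ W := by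
    rintro ⟨v, hv⟩
    obtain ⟨w, hw, u, hu, rfl⟩ := Subgroup.mem_sup.mp (hsup.ge hv)
    exact ⟨u, hu, by simpa [mul_comm w u] using hw⟩
  choose f hfU hfW using hdec
  have huniq : ∀ (v : V) (u : A), u ∈ U → u⁻¹ * (v : A) ∈ W → (f v : A ⧸ K) = (u : A ⧸ K) := by
    intro v u hu huv
    rw [QuotientGroup.eq, ← hinf]
    refine ⟨?_, U.mul_mem (U.inv_mem (hfU v)) hu⟩
    simpa [mul_assoc] using W.mul_mem (hfW v) (W.inv_mem huv)
  let P : V →* A ⧸ K := MonoidHom.mk' (fun v => (f v : A ⧸ K)) fun v w => by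
    refine (huniq _ (f v * f w) (U.mul_mem (hfU v) (hfU w)) ?_).trans (QuotientGroup.mk_mul K _ _)
    have h := W.mul_mem (hfW v) (hfW w)
    rwa [mul_mul_mul_comm, ← mul_inv] at h
  let act : X → V →* V := fun x => MonoidHom.mk' (fun v => ⟨(x : MulAut A) v, hV x x.2 v v.2⟩)
    fun v w => Subtype.ext (map_mul _ _ _)
  let bar : X → (A ⧸ K) →* A ⧸ K := fun x =>
    QuotientGroup.map K K ((x : MulAut A) : A ≃* A).toMonoidHom fun a ha => hK x x.2 a ha
  let T : V →* A ⧸ K := ∏ x : X, (bar x).comp (P.comp (act x⁻¹))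
  have hT : ∀ v, T v = ∏ x : X, bar x (P (act x⁻¹ v)) := fun v => by
    simp [T, MonoidHom.finsetProd_apply]
  have hTfix : ∀ v : V, (v : A) ∈ U → T v = ((v : A) : A ⧸ K) ^ Nat.card X := by
    intro v hv
    rw [hT, Nat.card_eq_fintype_card, ← Finset.card_univ, ← Finset.prod_const]
    refine Finset.prod_congr rfl fun x _ => ?_
    have : P (act x⁻¹ v) = (((x⁻¹ : X) : MulAut A) v : A ⧸ K) :=
      huniq _ _ (hU _ (x⁻¹).2 _ hv) (by simp [act])
    rw [this]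
    simp [bar]
  have hTU : ∀ v, ∃ u ∈ U, T v = (u : A ⧸ K) := by
    intro v
    have : T v ∈ U.map (QuotientGroup.mk' K) := by
      rw [hT]
      refine Subgroup.prod_mem _ fun x _ => ?_
      exact ⟨(x : MulAut A) (f (act x⁻¹ v)), hU _ x.2 _ (hfU _), by simp [bar, P]⟩
    obtain ⟨u, hu, h⟩ := this
    exact ⟨u, hu, h.symm⟩
  have hTequiv : ∀ (y : X) (v : V), T (act y v) = bar y (T v) := by
    intro y v
    rw [hT, hT, map_prod]
    refine Fintype.prod_equiv (Equiv.mulLeft y⁻¹) _ _ fun x => ?_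
    have h1 : ∀ (z : X) (q : A ⧸ K), bar y (bar z q) = bar (y * z) q := by
      rintro z ⟨q⟩
      rfl
    rw [Equiv.coe_mulLeft, h1, mul_inv_cancel_left]
    congr 2
  refine ⟨T.ker.map V.subtype, ?_, Subgroup.map_subtype_le _, le_antisymm ?_ ?_, ?_⟩
  · rintro x hx _ ⟨v, hv, rfl⟩
    refine ⟨act ⟨x, hx⟩ v, ?_, rfl⟩
    show T (act ⟨x, hx⟩ v) = 1
    rw [hTequiv, show T v = 1 from hv, map_one]
  · rintro _ ⟨⟨v, hv, rfl⟩, hvU⟩
    have h1 : T v = ((v : A) : A ⧸ K) ^ Nat.card X := hTfix v hvU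
    rw [show T v = 1 from hv, ← QuotientGroup.mk_pow] at h1
    have h2 := (QuotientGroup.eq_one_iff _).mp h1.symm
    obtain ⟨k, hk⟩ := exists_pow_eq_self_of_coprime (x := (v : A))
      (hcop.coprime_dvd_right (orderOf_dvd_natCard _))
    show (v : A) ∈ K
    rw [← hk]
    exact K.pow_mem h2 k
  · refine le_inf (fun k hk => ⟨⟨k, hUV (hKU hk)⟩, ?_, rfl⟩) hKU
    show T _ = 1
    rw [hTfix _ (hKU hk), show ((k : A) : A ⧸ K) = 1 from (QuotientGroup.eq_one_iff k).mpr hk, one_pow]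
  · refine le_antisymm (sup_le (Subgroup.map_subtype_le _) hUV) fun v hv => ?_
    obtain ⟨u, hu, hTu⟩ := hTU ⟨v, hv⟩
    obtain ⟨k, hk⟩ := exists_pow_eq_self_of_coprime (x := u)
      (hcop.coprime_dvd_right (orderOf_dvd_natCard u))
    have hu' : u ^ k ∈ U := U.pow_mem hu k
    have hker : (⟨v, hv⟩ : V) * (⟨u ^ k, hUV hu'⟩ : V)⁻¹ ∈ T.ker := by
      rw [MonoidHom.mem_ker, map_mul, map_inv, hTu, hTfix _ hu', mul_inv_eq_one,
        ← QuotientGroup.mk_pow, ← pow_mul, mul_comm, pow_mul, hk]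
    have h1 : v * (u ^ k)⁻¹ ∈ T.ker.map V.subtype := ⟨_, hker, rfl⟩
    simpa using Subgroup.mul_mem_sup h1 hu'

/-- Complement to a subgroup modulo which everything has exponent `p`. -/
theorem exists_compl_of_elementary (hp : p.Prime) {K U V : Subgroup A} (hKU : K ≤ U) (hUV : U ≤ V)
    (hel : ∀ v ∈ V, v ^ p ∈ K) : ∃ W : Subgroup A, W ≤ V ∧ W ⊓ U = K ∧ W ⊔ U = V := by
  obtain ⟨W, ⟨hKW, hWV, hWU⟩, hmax⟩ := Set.Finite.exists_maximal
    (Set.toFinite {W : Subgroup A | K ≤ W ∧ W ≤ V ∧ W ⊓ U = K}) ⟨K, le_rfl, hKU.trans hUV, inf_eq_left.mpr hKU⟩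
  refine ⟨W, hWV, hWU, le_antisymm (sup_le hWV hUV) fun v hv => ?_⟩
  by_contra hnot
  have hbig : (W ⊔ Subgroup.zpowers v) ⊓ U = K := by
    refine le_antisymm ?_ (le_inf (hKW.trans le_sup_left) hKU)
    rintro u ⟨hu, huU⟩
    obtain ⟨w, hw, z, hz, rfl⟩ := Subgroup.mem_sup.mp hu
    obtain ⟨i, rfl⟩ := Subgroup.mem_zpowers_iff.mp hz
    by_cases hi : (p : ℤ) ∣ i
    · obtain ⟨j, rfl⟩ := hi
      have hvW : v ^ ((p : ℤ) * j) ∈ W := by
        rw [zpow_mul, zpow_natCast]; exact W.zpow_mem (hKW (hel v hv)) j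
      exact hWU ▸ ⟨W.mul_mem hw hvW, huU⟩
    · exfalso
      obtain ⟨a, b, hab⟩ := (Nat.prime_iff_prime_int.mp hp).coprime_iff_not_dvd.mpr hi
      refine hnot ?_
      have hvi : v ^ i ∈ W ⊔ U := by
        have := Subgroup.mul_mem_sup (W.inv_mem hw) huU
        simpa using this
      have hvp : v ^ (p : ℤ) ∈ W ⊔ U := by
        rw [zpow_natCast]; exact Subgroup.mem_sup_left (hKW (hel v hv))
      have h1 := (W ⊔ U).mul_mem ((W ⊔ U).zpow_mem hvp a) ((W ⊔ U).zpow_mem hvi b)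
      rwa [← zpow_mul, ← zpow_mul, ← zpow_add, mul_comm (p : ℤ) a, mul_comm i b, hab, zpow_one] at h1
  have hle := hmax ⟨hKW.trans le_sup_left, sup_le hWV (Subgroup.zpowers_le.mpr hv), hbig⟩ le_sup_left
  exact hnot (Subgroup.mem_sup_left (hle (Subgroup.mem_sup_right (Subgroup.mem_zpowers v))))

/-- A homocyclic subgroup of top exponent is a direct factor. -/
theorem exists_compl_of_homocyclic (hp : p.Prime) {n : ℕ} (hA : ∀ a : A, a ^ p ^ (n + 1) = 1)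
    {B : Subgroup A} (hB : ∀ b ∈ B, b ^ p ^ n = 1 → ∃ d ∈ B, d ^ p = b) :
    ∃ C : Subgroup A, C ⊓ B = ⊥ ∧ C ⊔ B = ⊤ := by
  obtain ⟨C, hCB, hmax⟩ := Set.Finite.exists_maximal
    (Set.toFinite {C : Subgroup A | C ⊓ B = ⊥}) ⟨⊥, bot_inf_eq B⟩
  refine ⟨C, hCB, ?_⟩
  by_contra hne
  obtain ⟨a, haL, hap⟩ : ∃ a : A, a ∉ C ⊔ B ∧ a ^ p ∈ C ⊔ B := by
    obtain ⟨a, ha⟩ : ∃ a : A, a ∉ C ⊔ B := by
      by_contra h
      push Not at h
      exact hne (eq_top_iff.mpr fun a _ => h a)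
    have hex : ∃ j, a ^ p ^ j ∈ C ⊔ B := ⟨n + 1, by rw [hA]; exact one_mem _⟩
    classical
    have hpos : 0 < Nat.find hex := by
      rcases Nat.eq_zero_or_pos (Nat.find hex) with h | h
      · have := Nat.find_spec hex
        rw [h, pow_zero, pow_one] at this
        exact absurd this ha
      · exact h
    refine ⟨a ^ p ^ (Nat.find hex - 1), Nat.find_min hex (Nat.sub_lt hpos Nat.one_pos), ?_⟩
    rw [← pow_mul, ← pow_succ, Nat.sub_add_cancel hpos]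
    exact Nat.find_spec hex
  obtain ⟨c, hc, b, hb, hcb⟩ := Subgroup.mem_sup.mp hap
  have hb1 : b ^ p ^ n = 1 := by
    have h1 : (c * b) ^ p ^ n = 1 := by rw [hcb, ← pow_mul, ← pow_succ', hA]
    rw [mul_pow] at h1
    have h2 : b ^ p ^ n ∈ C ⊓ B :=
      ⟨(eq_inv_of_mul_eq_one_right h1) ▸ C.inv_mem (C.pow_mem hc _), B.pow_mem hb _⟩
    rwa [hCB, Subgroup.mem_bot] at h2
  obtain ⟨d, hd, rfl⟩ := hB b hb hb1
  set a' := a * d⁻¹ with ha'
  have ha'p : a' ^ p ∈ C := by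
    rw [ha', mul_pow, ← hcb, inv_pow, mul_inv_cancel_right]
    exact hc
  have ha'L : a' ∉ C ⊔ B := fun h => haL (by
    simpa [ha'] using (C ⊔ B).mul_mem h (Subgroup.mem_sup_right hd))
  obtain ⟨W, hWV, hWU, hWsup⟩ := exists_compl_of_elementary hp (K := C) (U := C)
    (V := C ⊔ Subgroup.zpowers a') le_rfl le_sup_left (by
      intro v hv
      obtain ⟨e, he, z, hz, rfl⟩ := Subgroup.mem_sup.mp hv
      obtain ⟨i, rfl⟩ := Subgroup.mem_zpowers_iff.mp hz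
      rw [mul_pow, ← zpow_natCast (a' ^ i), ← zpow_mul, mul_comm i (p : ℤ), zpow_mul, zpow_natCast]
      exact C.mul_mem (C.pow_mem he p) (C.zpow_mem ha'p i))
  have hbig : (C ⊔ Subgroup.zpowers a') ⊓ B = ⊥ := by
    rw [Subgroup.eq_bot_iff_forall]
    rintro u ⟨hu, huB⟩
    obtain ⟨e, he, z, hz, rfl⟩ := Subgroup.mem_sup.mp hu
    obtain ⟨i, rfl⟩ := Subgroup.mem_zpowers_iff.mp hz
    by_cases hi : (p : ℤ) ∣ i
    · obtain ⟨j, rfl⟩ := hi
      have hvC : a' ^ ((p : ℤ) * j) ∈ C := by rw [zpow_mul, zpow_natCast]; exact C.zpow_mem ha'p j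
      exact Subgroup.mem_bot.mp (hCB ▸ ⟨C.mul_mem he hvC, huB⟩)
    · exfalso
      obtain ⟨k, m, hkm⟩ := (Nat.prime_iff_prime_int.mp hp).coprime_iff_not_dvd.mpr hi
      refine ha'L ?_
      have hvi : a' ^ i ∈ C ⊔ B := by
        have := Subgroup.mul_mem_sup (C.inv_mem he) huB
        simpa using this
      have hvp : a' ^ (p : ℤ) ∈ C ⊔ B := by
        rw [zpow_natCast]; exact Subgroup.mem_sup_left ha'p
      have h1 := (C ⊔ B).mul_mem ((C ⊔ B).zpow_mem hvp k) ((C ⊔ B).zpow_mem hvi m)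
      rwa [← zpow_mul, ← zpow_mul, ← zpow_add, mul_comm (p : ℤ) k, mul_comm i m, hkm, zpow_one] at h1
  have hle := hmax hbig le_sup_left
  exact ha'L (Subgroup.mem_sup_left (hle (Subgroup.mem_sup_right (Subgroup.mem_zpowers _))))

theorem map_eq_of_forall_mem (X : Subgroup (MulAut A)) {B : Subgroup A}
    (hB : ∀ x ∈ X, ∀ a ∈ B, x a ∈ B) : ∀ x ∈ X, B.map x.toMonoidHom = B := by
  intro x hx
  refine le_antisymm ?_ fun b hb => ?_
  · rintro _ ⟨b, hb, rfl⟩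
    exact hB x hx b hb
  · exact ⟨x⁻¹ b, hB _ (X.inv_mem hx) b hb, by simp⟩

theorem forall_mem_of_map_eq (X : Subgroup (MulAut A)) {B : Subgroup A}
    (hB : ∀ x ∈ X, B.map x.toMonoidHom = B) : ∀ x ∈ X, ∀ a ∈ B, x a ∈ B :=
  fun x hx a ha => hB x hx ▸ ⟨a, ha, rfl⟩

/-- Let A be a finite abelian p-group and X a group of automorphisms of A of order prime to p. Call a subgroup of A invariant when every element of X maps it onto itself. Then the following are equivalent: (i) A is not the direct product of two nontrivial invariant subgroups; (ii) every invariant subgroup of A is one of the subgroups Ω_i(A) = {a : a^(p^i) = 1}; (iii) the subgroup Ω₁(A) of elements of order dividing p has no invariant subgroups other than 1 and itself. -/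
theorem result {A : Type*} [CommGroup A] [Finite A] {p : ℕ} [Fact p.Prime] (hA : IsPGroup p A) (X : Subgroup (MulAut A)) (hX : (Nat.card X).Coprime p) : ((¬ ∃ B C : Subgroup A, B ≠ ⊥ ∧ C ≠ ⊥ ∧ (∀ x ∈ X, B.map x.toMonoidHom = B) ∧ (∀ x ∈ X, C.map x.toMonoidHom = C) ∧ B ⊓ C = ⊥ ∧ B ⊔ C = ⊤) ↔ (∀ B : Subgroup A, (∀ x ∈ X, B.map x.toMonoidHom = B) → ∃ i : ℕ, ∀ a : A, a ∈ B ↔ a ^ p ^ i = 1)) ∧ ((∀ B : Subgroup A, (∀ x ∈ X, B.map x.toMonoidHom = B) → ∃ i : ℕ, ∀ a : A, a ∈ B ↔ a ^ p ^ i = 1) ↔ (∀ B : Subgroup A, (∀ x ∈ X, B.map x.toMonoidHom = B) → (∀ b ∈ B, b ^ p = 1) → B = ⊥ ∨ ∀ a : A, a ∈ B ↔ a ^ p = 1)) := by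
  have hp := (Fact.out : p.Prime)
  obtain ⟨N, hN⟩ := IsPGroup.iff_card.mp hA
  have hcop : (Nat.card X).Coprime (Nat.card A) := hN ▸ hX.pow_right N
  -- the exponent
  have hex : ∃ n, ∀ a : A, a ^ p ^ n = 1 := ⟨N, fun a => by rw [← hN, pow_card_eq_one']⟩
  have hirr : (∀ B : Subgroup A, (∀ x ∈ X, B.map x.toMonoidHom = B) → (∀ b ∈ B, b ^ p = 1) →
      B = ⊥ ∨ ∀ a : A, a ∈ B ↔ a ^ p = 1) →
      ∀ B : Subgroup A, (∀ x ∈ X, B.map x.toMonoidHom = B) →
        ∃ i : ℕ, ∀ a : A, a ∈ B ↔ a ^ p ^ i = 1 := by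
    intro hI B hB
    classical
    have hexB : ∃ i, ∀ b ∈ B, b ^ p ^ i = 1 := ⟨N, fun b _ => by rw [← hN, pow_card_eq_one']⟩
    obtain ⟨i, hi, himin⟩ := Nat.findX hexB
    refine ⟨i, fun a => ⟨hi a, ?_⟩⟩
    have hkey : ∀ j ≤ i, ∀ a : A, a ^ p ^ j = 1 → a ∈ B := by
      intro j
      induction j with
      | zero => intro _ a ha; rw [pow_zero, pow_one] at ha; exact ha ▸ one_mem B
      | succ j ih =>
        intro hj a ha
        -- the `p^(i-1)` powers of `B`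
        set I := B.map (powMonoidHom (p ^ (i - 1)) : A →* A) with hI'
        have hIinv : ∀ x ∈ X, I.map x.toMonoidHom = I := by
          refine map_eq_of_forall_mem X fun x hx _ hb => ?_
          obtain ⟨b, hb, rfl⟩ := hb
          exact ⟨x b, forall_mem_of_map_eq X hB x hx b hb, by simp⟩
        have hIexp : ∀ b ∈ I, b ^ p = 1 := by
          rintro _ ⟨b, hb, rfl⟩
          rw [powMonoidHom_apply, ← pow_mul, ← pow_succ, Nat.sub_add_cancel (by omega)]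
          exact hi b hb
        rcases hI I hIinv hIexp with h | h
        · exact absurd (fun b hb => Subgroup.mem_bot.mp (h ▸ ⟨b, hb, rfl⟩ : b ^ p ^ (i - 1) ∈ (⊥ : Subgroup A)))
            (himin (i - 1) (by omega))
        · have h1 : a ^ p ^ j ∈ I := (h _).mpr (by rw [← pow_mul, ← pow_succ, ha])
          obtain ⟨b, hb, hab⟩ := h1
          simp only [powMonoidHom_apply] at hab
          set c := b ^ p ^ (i - 1 - j) with hc
          have hcj : c ^ p ^ j = a ^ p ^ j := by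
            rw [hc, ← pow_mul, ← pow_add, show i - 1 - j + j = i - 1 by omega, hab]
          have hd : a * c⁻¹ ∈ B := ih (by omega) _ (by rw [mul_pow, inv_pow, hcj, mul_inv_cancel])
          have h2 : a * c⁻¹ * c ∈ B := B.mul_mem hd (B.pow_mem hb (p ^ (i - 1 - j)))
          rwa [inv_mul_cancel_right] at h2
    exact hkey i le_rfl a
  have hall1 : (∀ B : Subgroup A, (∀ x ∈ X, B.map x.toMonoidHom = B) →
      ∃ i : ℕ, ∀ a : A, a ∈ B ↔ a ^ p ^ i = 1) →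
      ∀ B : Subgroup A, (∀ x ∈ X, B.map x.toMonoidHom = B) → (∀ b ∈ B, b ^ p = 1) →
        B = ⊥ ∨ ∀ a : A, a ∈ B ↔ a ^ p = 1 := by
    intro hall B hB hexp
    obtain ⟨i, hi⟩ := hall B hB
    rcases Nat.eq_zero_or_pos i with rfl | hpos
    · left
      rw [Subgroup.eq_bot_iff_forall]
      intro b hb
      simpa using (hi b).mp hb
    · right
      refine fun a => ⟨hexp a, fun ha => (hi a).mpr ?_⟩
      obtain ⟨e, he⟩ := dvd_pow_self p hpos.ne'
      rw [he, pow_mul, ha, one_pow]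
  have hdec : (∀ B : Subgroup A, (∀ x ∈ X, B.map x.toMonoidHom = B) →
      ∃ i : ℕ, ∀ a : A, a ∈ B ↔ a ^ p ^ i = 1) →
      ¬ ∃ B C : Subgroup A, B ≠ ⊥ ∧ C ≠ ⊥ ∧ (∀ x ∈ X, B.map x.toMonoidHom = B) ∧
        (∀ x ∈ X, C.map x.toMonoidHom = C) ∧ B ⊓ C = ⊥ ∧ B ⊔ C = ⊤ := by
    rintro hall ⟨B, C, hBne, hCne, hB, hC, hinf, -⟩
    have key : ∀ D : Subgroup A, D ≠ ⊥ → (∀ x ∈ X, D.map x.toMonoidHom = D) →
        ∀ a : A, a ^ p = 1 → a ∈ D := by
      intro D hD hDinv a ha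
      obtain ⟨i, hi⟩ := hall D hDinv
      rcases Nat.eq_zero_or_pos i with rfl | hpos
      · exfalso
        apply hD
        rw [Subgroup.eq_bot_iff_forall]
        intro b hb
        simpa using (hi b).mp hb
      · refine (hi a).mpr ?_
        obtain ⟨e, he⟩ := dvd_pow_self p hpos.ne'
        rw [he, pow_mul, ha, one_pow]
    obtain ⟨b, hb⟩ := exists_prime_orderOf_dvd_card' (G := ↥B) p
      (((hA.to_subgroup B).card_eq_or_dvd).resolve_left fun h => hBne (Subgroup.eq_bot_of_card_eq _ h))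
    have hbp : (b : A) ^ p = 1 := by rw [← hb, ← Subgroup.orderOf_coe, pow_orderOf_eq_one]
    have hb1 : (b : A) ∈ B ⊓ C := ⟨b.2, key C hCne hC _ hbp⟩
    rw [hinf, Subgroup.mem_bot] at hb1
    rw [← Subgroup.orderOf_coe, hb1, orderOf_one] at hb
    exact hp.ne_one hb.symm
  have hind : (¬ ∃ B C : Subgroup A, B ≠ ⊥ ∧ C ≠ ⊥ ∧ (∀ x ∈ X, B.map x.toMonoidHom = B) ∧
        (∀ x ∈ X, C.map x.toMonoidHom = C) ∧ B ⊓ C = ⊥ ∧ B ⊔ C = ⊤) →
      ∀ B : Subgroup A, (∀ x ∈ X, B.map x.toMonoidHom = B) → (∀ b ∈ B, b ^ p = 1) →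
        B = ⊥ ∨ ∀ a : A, a ∈ B ↔ a ^ p = 1 := by
    intro hnd B₀ hB₀ hexp₀
    refine or_iff_not_imp_left.mpr fun hB₀ne => ?_
    by_contra hB₀top
    obtain ⟨b₀, hb₀, hb₀1⟩ : ∃ b ∈ B₀, b ≠ 1 := by
      by_contra h
      push Not at h
      exact hB₀ne ((Subgroup.eq_bot_iff_forall B₀).mpr h)
    classical
    obtain ⟨n₁, hn₁, hn₁min⟩ := Nat.findX hex
    obtain ⟨n, rfl⟩ : ∃ n, n₁ = n + 1 := by
      rcases n₁ with _ | n
      · exact absurd (by simpa using hn₁ b₀) hb₀1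
      · exact ⟨n, rfl⟩
    set f : A →* A := powMonoidHom (p ^ n) with hf
    have hrange : f.range ≠ ⊥ := by
      intro h
      refine hn₁min n (by omega) fun a => ?_
      exact Subgroup.mem_bot.mp (h ▸ ⟨a, rfl⟩ : a ^ p ^ n ∈ (⊥ : Subgroup A))
    obtain ⟨U, ⟨hUne, hUinv, hUr⟩, hUmin⟩ := Set.Finite.exists_minimal
      (Set.toFinite {U : Subgroup A | U ≠ ⊥ ∧ (∀ x ∈ X, ∀ a ∈ U, x a ∈ U) ∧ U ≤ f.range})
      ⟨f.range, hrange, by rintro x hx _ ⟨a, rfl⟩; exact ⟨x a, by simp [hf]⟩, le_rfl⟩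
    obtain ⟨B, ⟨hBinv, hUB⟩, hBmin⟩ := Set.Finite.exists_minimal
      (Set.toFinite {B : Subgroup A | (∀ x ∈ X, ∀ a ∈ B, x a ∈ B) ∧ U ≤ B.map f})
      ⟨⊤, fun x _ a _ => Subgroup.mem_top _, by rw [← MonoidHom.range_eq_map]; exact hUr⟩
    have hfB : B.map f = U := by
      refine le_antisymm ?_ hUB
      have hle := hBmin (y := B ⊓ U.comap f) ⟨fun x hx a ha => Subgroup.mem_inf.mpr ⟨hBinv x hx a ha.1, by
          show f (x a) ∈ U
          have h1 : f (x a) = x (f a) := by simp [hf]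
          rw [h1]; exact hUinv x hx _ ha.2⟩,
        fun u hu => by
          obtain ⟨b, hb, rfl⟩ := hUB hu
          exact ⟨b, ⟨hb, hu⟩, rfl⟩⟩ inf_le_left
      rintro _ ⟨b, hb, rfl⟩
      exact (hle hb).2
    set K := B.map (powMonoidHom p : A →* A) with hK
    have hKU' : K ≤ B ⊓ f.ker := by
      rintro _ ⟨b, hb, rfl⟩
      refine ⟨B.pow_mem hb p, ?_⟩
      show (b ^ p) ^ p ^ n = 1
      rw [← pow_mul, ← pow_succ', hn₁]
    have hKinv : ∀ x ∈ X, ∀ a ∈ K, x a ∈ K := by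
      rintro x hx _ ⟨b, hb, rfl⟩
      exact ⟨x b, hBinv x hx b hb, by simp⟩
    have hKer : B ⊓ f.ker ≤ K := by
      obtain ⟨W, hWV, hWinf, hWsup⟩ := exists_compl_of_elementary hp hKU'
        (inf_le_left : B ⊓ f.ker ≤ B) (fun v hv => ⟨v, hv, rfl⟩)
      obtain ⟨T, hTinv, hTV, hTinf, hTsup⟩ := exists_invariant_compl X hcop hKinv
        (fun x hx a ha => Subgroup.mem_inf.mpr ⟨hBinv x hx a ha.1, by
          show f (x a) = 1
          have h1 : f (x a) = x (f a) := by simp [hf]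
          rw [h1, show f a = 1 from ha.2, map_one]⟩) hBinv hKU' inf_le_left hWV hWinf hWsup
      have hBT := hBmin (y := T) ⟨hTinv, by
        rw [← hfB, ← hTsup, Subgroup.map_sup]
        refine sup_le le_rfl ?_
        rintro _ ⟨b, hb, rfl⟩
        rw [show f b = 1 from hb.2]
        exact one_mem _⟩ hTV
      exact (le_inf (inf_le_left.trans hBT) le_rfl).trans hTinf.le
    have hdiv : ∀ b ∈ B, b ^ p ^ n = 1 → ∃ d ∈ B, d ^ p = b := fun b hb h => hKer ⟨hb, h⟩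
    have homega : ∀ k ≤ n, ∀ b ∈ B, b ^ p ^ (n + 1 - k) = 1 → ∃ d ∈ B, d ^ p ^ k = b := by
      intro k
      induction k with
      | zero => exact fun _ b hb _ => ⟨b, hb, by simp⟩
      | succ k ih =>
        intro hk b hb h
        obtain ⟨e, he⟩ := pow_dvd_pow p (show n + 1 - (k + 1) ≤ n + 1 - k by omega)
        obtain ⟨d, hd, rfl⟩ := ih (by omega) b hb (by rw [he, pow_mul, h, one_pow])
        rw [← pow_mul, ← pow_add, show k + (n + 1 - (k + 1)) = n by omega] at h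
        obtain ⟨e', he', rfl⟩ := hdiv d hd h
        exact ⟨e', he', by rw [pow_succ', pow_mul]⟩
    have hBomega : ∀ b ∈ B, b ^ p = 1 → b ∈ U := by
      intro b hb h
      obtain ⟨d, hd, rfl⟩ := homega n le_rfl b hb (by
        rwa [show n + 1 - n = 1 by omega, pow_one])
      exact hfB ▸ ⟨d, hd, rfl⟩
    obtain ⟨C₀, hC₀inf, hC₀sup⟩ := exists_compl_of_homocyclic hp hn₁ hdiv
    obtain ⟨C, hCinv, -, hCinf, hCsup⟩ := exists_invariant_compl X hcop (K := ⊥) (U := B) (V := ⊤)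
      (fun x _ a ha => by rw [Subgroup.mem_bot.mp ha, map_one]; exact one_mem _)
      hBinv (fun x _ a _ => Subgroup.mem_top _) bot_le le_top le_top hC₀inf hC₀sup
    refine hnd ⟨B, C, ?_, ?_, map_eq_of_forall_mem X hBinv, map_eq_of_forall_mem X hCinv,
      by rw [inf_comm]; exact hCinf, by rw [sup_comm]; exact hCsup⟩
    · rintro rfl
      exact hUne (le_bot_iff.mp (by rw [← hfB, Subgroup.map_bot]))
    · rintro rfl
      rw [bot_sup_eq] at hCsup
      refine hB₀top fun a => ⟨hexp₀ a, fun ha => ?_⟩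
      have hsub : B₀ ≤ U := fun b hb => hBomega b (hCsup ▸ Subgroup.mem_top b) (hexp₀ b hb)
      exact hUmin ⟨hB₀ne, forall_mem_of_map_eq X hB₀, hsub.trans hUr⟩ hsub
        (hBomega a (hCsup ▸ Subgroup.mem_top a) ha)
  exact ⟨⟨fun h => hirr (hind h), hdec⟩, ⟨hall1, hirr⟩⟩

end Cfsg.Agent.S3775
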