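import Cfsg.Statements.S3776
import Cfsg.Agent.Lib.PGroups.Suzuki.Semi.Transitive

set_option autoImplicit false
open Cfsg

namespace Cfsg.Agent.S3776

/-- Let G be a finite non-abelian 2-group with more than one involution admitting a solvable group of automorphisms that permutes its involutions transitively. Then the derived subgroup, the Frattini subgroup and the centre of G coincide and consist exactly of the elements x with x² = 1. -/
theorem result {G : Type*} [Group G] [Finite G] (hG : IsPGroup 2 G) (hna : ¬ IsMulCommutative G) (htwo : ∃ x y : G, x ≠ y ∧ x ≠ 1 ∧ x ^ 2 = 1 ∧ y ≠ 1 ∧ y ^ 2 = 1) (hY : ∃ Y : Subgroup (MulAut G), Group.IsSolvable Y ∧ ∀ x y : G, x ≠ 1 → x ^ 2 = 1 → y ≠ 1 → y ^ 2 = 1 → ∃ a ∈ Y, a x = y) : commutator G = frattini G ∧ frattini G = Subgroup.center G ∧ ∀ x : G, x ∈ Subgroup.center G ↔ x ^ 2 = 1 := by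
  obtain ⟨Y, hY, htr⟩ := hY
  obtain ⟨n, ⟨D⟩⟩ := CfsgLib.PGroups.Suzuki.Semi.exists_data hG htwo Y hY htr
  have hsq := CfsgLib.PGroups.Suzuki.Semi.higman D hna
  have hc := CfsgLib.PGroups.Suzuki.Semi.center_eq D hna
  haveI := Fact.mk Nat.prime_two
  haveI := D.ω_normal
  haveI := hG.isNilpotent
  have hcom : commutator G ≤ D.ω := Subgroup.commutator_le.mpr fun a _ b _ => D.commutator_mem_of_sq hsq a b
  have hne : commutator G ≠ ⊥ := fun h => hna ⟨⟨fun a b =>
    (commutatorElement_eq_one_iff_commute.mp (Subgroup.mem_bot.mp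
      (h.le (Subgroup.commutator_mem_commutator (Subgroup.mem_top a) (Subgroup.mem_top b))))).eq⟩⟩
  have h1 : commutator G = D.ω := le_antisymm hcom (D.ω_le (D.char_inv _) hne)
  have h2 : frattini G = D.ω := le_antisymm (CfsgLib.PGroups.frattini_le_of_elementary hcom hsq)
    (h1 ▸ CfsgLib.PGroups.commutator_le_frattini)
  refine ⟨h1.trans h2.symm, h2.trans hc.symm, fun x => ?_⟩
  rw [hc]
  exact D.mem_ω

end Cfsg.Agent.S3776
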