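import Cfsg.Statements.S3778
import Mathlib

set_option autoImplicit false
open Cfsg

namespace Cfsg.Agent.S3778

set_option linter.style.haveILetI false
open scoped commutatorElement Classical

variable {G : Type*} [Group G]

/-- Elements whose commutators with `L` lie in `M`. -/
def rel (L M : Subgroup G) [M.Normal] : Subgroup G :=
  (Subgroup.centralizer (L.map (QuotientGroup.mk' M) : Set (G ⧸ M))).comap (QuotientGroup.mk' M)

theorem mem_rel {L M : Subgroup G} [M.Normal] {x : G} : x ∈ rel L M ↔ ∀ y ∈ L, ⁅y, x⁆ ∈ M := by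
  rw [rel, Subgroup.mem_comap, Subgroup.mem_centralizer_iff]
  constructor
  · intro h y hy
    rw [← QuotientGroup.eq_one_iff, ← QuotientGroup.mk'_apply, map_commutatorElement,
      commutatorElement_eq_one_iff_commute]
    exact h _ ⟨y, hy, rfl⟩
  · rintro h _ ⟨y, hy, rfl⟩
    have := h y hy
    rwa [← QuotientGroup.eq_one_iff, ← QuotientGroup.mk'_apply, map_commutatorElement,
      commutatorElement_eq_one_iff_commute] at this

theorem pow_card_le_index [Finite G] {p : ℕ} [Fact p.Prime] (hG : IsPGroup p G) (x : G) (n : ℕ) :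
    p ^ ((Finset.range n).filter fun j =>
      x ∉ rel ((⊤ : Subgroup G).lowerCentralSeries j) ((⊤ : Subgroup G).lowerCentralSeries (j + 2))).card ≤
      ((⊤ : Subgroup G).lowerCentralSeries n ⊔ Subgroup.centralizer {x}).index := by
  classical
  induction n with
  | zero => rw [Finset.range_zero, Finset.filter_empty, Finset.card_empty, pow_zero]; exact Nat.one_le_iff_ne_zero.mpr Subgroup.index_ne_zero_of_finite
  | succ n ih =>
    set C := Subgroup.centralizer ({x} : Set G) with hC
    set L := fun j => (⊤ : Subgroup G).lowerCentralSeries j with hL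
    have hle : L (n + 1) ⊔ C ≤ L n ⊔ C :=
      sup_le_sup_right (Subgroup.lowerCentralSeries_antitone _ n.le_succ) C
    have hmul := Subgroup.relIndex_mul_index hle
    rw [Finset.range_add_one, Finset.filter_insert]
    split_ifs with hx
    swap
    · rw [Finset.card_insert_of_notMem (fun h => (Finset.mem_range.mp (Finset.mem_filter.mp h).1).false), pow_succ', ← hmul]
      refine Nat.mul_le_mul ?_ ih
      obtain ⟨m, hm⟩ : ∃ m, (L (n + 1) ⊔ C).relIndex (L n ⊔ C) = p ^ m := by
        obtain ⟨k, hk⟩ := IsPGroup.iff_card.mp hG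
        obtain ⟨m, -, hm⟩ := (Nat.dvd_prime_pow Fact.out).mp
          (((Subgroup.relIndex_dvd_index_of_le hle).trans (Subgroup.index_dvd_card _)).trans hk.dvd)
        exact ⟨m, hm⟩
      rw [hm]
      refine Nat.le_self_pow (fun h0 => ?_) p
      rw [h0, pow_zero, Subgroup.relIndex_eq_one] at hm
      refine hx (mem_rel.mpr fun y hy => ?_)
      have hy' : y ∈ ((⊤ : Subgroup G).lowerCentralSeries (n + 1) ⊔ C) := hm (Subgroup.mem_sup_left hy)
      obtain ⟨z, hz, c, hc, rfl⟩ := Subgroup.mem_sup_of_normal_left.mp hy'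
      have hcx : c * x = x * c := Subgroup.mem_centralizer_singleton_iff.mp hc
      have he : ⁅z * c, x⁆ = ⁅z, x⁆ := by
        rw [commutatorElement_def, commutatorElement_def, mul_inv_rev]
        calc z * c * x * (c⁻¹ * z⁻¹) * x⁻¹ = z * (c * x * c⁻¹) * z⁻¹ * x⁻¹ := by group
          _ = z * x * z⁻¹ * x⁻¹ := by rw [hcx, mul_inv_cancel_right]
      rw [he]
      exact Subgroup.commutator_mem_commutator hz (Subgroup.mem_top x)
    · exact ih.trans (Nat.le_of_dvd (Nat.pos_of_ne_zero Subgroup.index_ne_zero_of_finite)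
        (Subgroup.index_dvd_of_le hle))

/-- If G is a finite p-group in which every conjugacy class has at most p^b elements (every element has centralizer of index at most p^b), then G is abelian when b = 0, and when b ≥ 1 its nilpotency class c satisfies (c − 1)(p − 1) < bp, that is c < bp/(p − 1) + 1, and hence c ≤ 2b. -/
theorem result {G : Type*} [Group G] [Finite G] {p : ℕ} [Fact p.Prime] (hG : IsPGroup p G) (b : ℕ) (hb : ∀ x : G, (Subgroup.centralizer ({x} : Set G)).index ≤ p ^ b) : ∃ c : ℕ, (⊤ : Subgroup G).lowerCentralSeries c = ⊥ ∧ (b ≠ 0 → (c - 1) * (p - 1) < b * p ∧ c ≤ 2 * b) ∧ (b = 0 → c ≤ 1) := by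
  classical
  haveI : Group.IsNilpotent G := hG.isNilpotent
  refine ⟨Group.nilpotencyClass G, Subgroup.lowerCentralSeries_nilpotencyClass, fun hb0 => ?_, fun hb0 => ?_⟩
  swap
  · rw [← Subgroup.lowerCentralSeries_eq_bot_iff_nilpotencyClass_le, Subgroup.top_lowerCentralSeries_one,
      commutator_eq_bot_iff_center_eq_top, eq_top_iff]
    intro x _
    have h := hb x
    rw [hb0, pow_zero] at h
    have h1 : (Subgroup.centralizer ({x} : Set G)) = ⊤ :=
      Subgroup.index_eq_one.mp (le_antisymm h (Nat.one_le_iff_ne_zero.mpr Subgroup.index_ne_zero_of_finite))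
    refine Subgroup.mem_center_iff.mpr fun g => ?_
    exact Subgroup.mem_centralizer_singleton_iff.mp (h1 ▸ Subgroup.mem_top g)
  set c := Group.nilpotencyClass G with hc
  set L := fun j => (⊤ : Subgroup G).lowerCentralSeries j with hL
  have hp2 : 2 ≤ p := (Fact.out : p.Prime).two_le
  -- each two-step centraliser is proper
  have hprop : ∀ j < c - 1, p * Nat.card (rel (L j) (L (j + 2))) ≤ Nat.card G := by
    intro j hj
    have hne : rel (L j) (L (j + 2)) ≠ ⊤ := by
      intro htop
      have h1 : L (j + 1) ≤ L (j + 2) := by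
        show ⁅L j, (⊤ : Subgroup G)⁆ ≤ _
        refine Subgroup.commutator_le.mpr fun y hy g _ => mem_rel.mp (?_ : g ∈ rel (L j) (L (j + 2))) y hy
        rw [htop]; exact Subgroup.mem_top g
      have h2 : ∀ i, L (j + 1) ≤ L (j + 1 + i) := by
        intro i
        induction i with
        | zero => exact le_rfl
        | succ i ih =>
          refine h1.trans ?_
          show ⁅L (j + 1), (⊤ : Subgroup G)⁆ ≤ ⁅L (j + 1 + i), (⊤ : Subgroup G)⁆
          exact Subgroup.commutator_mono ih le_rfl
      have h3 : L (j + 1) = ⊥ := le_bot_iff.mp ((h2 c).trans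
        ((Subgroup.lowerCentralSeries_antitone _ (by omega : c ≤ j + 1 + c)).trans
          Subgroup.lowerCentralSeries_nilpotencyClass.le))
      have := Subgroup.lowerCentralSeries_eq_bot_iff_nilpotencyClass_le.mp h3
      omega
    rw [← Subgroup.index_mul_card (rel (L j) (L (j + 2)))]
    refine Nat.mul_le_mul_right _ ?_
    obtain ⟨m, hm⟩ := hG.index (rel (L j) (L (j + 2)))
    rw [hm]
    refine Nat.le_self_pow (fun h0 => hne (Subgroup.index_eq_one.mp (by rw [hm, h0, pow_zero]))) p
  haveI := Fintype.ofFinite G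
  let cnt : G → ℕ := fun x => ((Finset.range (c - 1)).filter fun j => x ∉ rel (L j) (L (j + 2))).card
  have hcnt : ∀ x, cnt x ≤ b := fun x =>
    (Nat.pow_le_pow_iff_right hp2).mp ((pow_card_le_index hG x (c - 1)).trans
      ((Nat.le_of_dvd (Nat.pos_of_ne_zero Subgroup.index_ne_zero_of_finite)
        (Subgroup.index_dvd_of_le le_sup_right)).trans (hb x)))
  have hone : cnt 1 = 0 := by
    simp only [cnt, Finset.card_eq_zero, Finset.filter_eq_empty_iff]
    exact fun j _ h => h (one_mem _)
  have hlt : ∑ x, cnt x < b * Nat.card G := by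
    rw [Nat.card_eq_fintype_card, mul_comm, ← smul_eq_mul, ← Finset.card_univ, ← Finset.sum_const]
    exact Finset.sum_lt_sum (fun x _ => hcnt x) ⟨1, Finset.mem_univ 1, by rw [hone]; omega⟩
  have hsum : (c - 1) * ((p - 1) * Nat.card G) ≤ p * ∑ x, cnt x := by
    have hswap : ∑ x, cnt x =
        ∑ j ∈ Finset.range (c - 1), (Finset.univ.filter fun x => x ∉ rel (L j) (L (j + 2))).card := by
      simp only [cnt, Finset.card_filter]
      exact Finset.sum_comm
    rw [hswap, Finset.mul_sum,
      show (c - 1) * ((p - 1) * Nat.card G) = ∑ _j ∈ Finset.range (c - 1), (p - 1) * Nat.card G by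
        rw [Finset.sum_const, Finset.card_range, smul_eq_mul]]
    refine Finset.sum_le_sum fun j hj => ?_
    have h := hprop j (Finset.mem_range.mp hj)
    have hadd : (Finset.univ.filter fun x => x ∉ rel (L j) (L (j + 2))).card +
        Nat.card (rel (L j) (L (j + 2))) = Nat.card G := by
      rw [Nat.card_eq_fintype_card, Fintype.card_subtype, Nat.card_eq_fintype_card, add_comm,
        Finset.card_filter_add_card_filter_not, Finset.card_univ]
    set A := (Finset.univ.filter fun x => x ∉ rel (L j) (L (j + 2))).card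
    set B := Nat.card (rel (L j) (L (j + 2)))
    rw [← hadd] at h ⊢
    obtain ⟨q, rfl⟩ : ∃ q, p = q + 1 := ⟨p - 1, by omega⟩
    rw [Nat.add_sub_cancel]
    nlinarith
  have hmain : (c - 1) * (p - 1) < b * p := by
    have hpos : 0 < Nat.card G := Nat.card_pos
    refine Nat.lt_of_mul_lt_mul_right (a := Nat.card G) ?_
    calc (c - 1) * (p - 1) * Nat.card G ≤ p * ∑ x, cnt x := by rw [Nat.mul_assoc]; exact hsum
      _ < p * (b * Nat.card G) := Nat.mul_lt_mul_of_pos_left hlt (by omega)
      _ = b * p * Nat.card G := by ring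
  refine ⟨hmain, ?_⟩
  obtain ⟨q, rfl⟩ : ∃ q, p = q + 1 := ⟨p - 1, by omega⟩
  rw [Nat.add_sub_cancel] at hmain
  by_contra hcb
  have h1 : 2 * b * q ≤ (c - 1) * q := Nat.mul_le_mul_right q (by omega)
  have h2 : b * (q + 1) ≤ 2 * b * q := by nlinarith
  omega

end Cfsg.Agent.S3778
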