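import Cfsg.Statements.S3780
import Mathlib

set_option autoImplicit false
open Cfsg

namespace Cfsg.Agent.S3780

/-- In an abelian `p`-group a subgroup of index at most `p ^ m` is completed by `m` elements. -/
theorem exists_complete {V : Type*} [CommGroup V] [Finite V] {p : ℕ} [Fact p.Prime]
    (hV : IsPGroup p V) : ∀ (m : ℕ) (K : Subgroup V), K.index ≤ p ^ m →
      ∃ S : Finset V, S.card ≤ m ∧ K ⊔ Subgroup.closure (S : Set V) = ⊤ := by
  intro m
  induction m with
  | zero =>
    intro K hK
    refine ⟨∅, le_rfl, ?_⟩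
    have h0 : K.index ≠ 0 := Subgroup.index_ne_zero_of_finite
    rw [pow_zero] at hK
    have h1 : K.index = 1 := by omega
    simp [Subgroup.index_eq_one.mp h1]
  | succ m ih =>
    intro K hK
    classical
    by_cases htop : K = ⊤
    · exact ⟨∅, by simp, by simp [htop]⟩
    obtain ⟨x, hx⟩ : ∃ x, x ∉ K := by
      by_contra h
      push Not at h
      exact htop (eq_top_iff.mpr fun x _ => h x)
    set K' := K ⊔ Subgroup.zpowers x with hK'
    have hle : K ≤ K' := le_sup_left
    have hne : K.relIndex K' ≠ 1 := fun h =>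
      hx (Subgroup.relIndex_eq_one.mp h (Subgroup.mem_sup_right (Subgroup.mem_zpowers x)))
    have hmul := Subgroup.relIndex_mul_index hle
    obtain ⟨a, ha⟩ := (hV.to_subgroup K').index (K.subgroupOf K')
    have hp2 : p ≤ K.relIndex K' := by
      change K.relIndex K' = p ^ a at ha
      rcases Nat.eq_zero_or_pos a with rfl | ha0
      · exact absurd (by simpa using ha) hne
      · rw [ha]; exact Nat.le_self_pow (by omega) p
    have hidx : K'.index ≤ p ^ m := by
      rw [← hmul, pow_succ, mul_comm (p ^ m)] at hK
      exact Nat.le_of_mul_le_mul_left ((Nat.mul_le_mul_right _ hp2).trans hK) (Fact.out : p.Prime).pos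
    obtain ⟨S, hS, hS'⟩ := ih K' hidx
    refine ⟨insert x S, (Finset.card_insert_le _ _).trans (by omega), eq_top_iff.mpr ?_⟩
    rw [← hS', hK', Finset.coe_insert, Set.insert_eq, Subgroup.closure_union, ← Subgroup.zpowers_eq_closure, sup_assoc]

theorem card_ker_le {V : Type*} [CommGroup V] [Finite V] {p : ℕ} [Fact p.Prime]
    (α : MulAut V) (hα : orderOf α = p) (n : ℕ) (hfix : Nat.card {v : V // α v = v} = p ^ n) :
    Nat.card (powMonoidHom p : V →* V).ker ≤ p ^ (p * n) := by
  let a : AddMonoid.End (Additive V) := MonoidHom.toAdditive α.toMonoidHom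
  let f : AddMonoid.End (Additive V) := a - 1
  have hpowa : ∀ (k : ℕ) (v : Additive V), (a ^ k) v = Additive.ofMul ((α ^ k) v.toMul) := by
    intro k
    induction k with
    | zero => intro v; rfl
    | succ k ih =>
      intro v
      rw [pow_succ', pow_succ']
      change a ((a ^ k) v) = _
      rw [ih]
      rfl
  have hap : a ^ p = 1 := by
    ext v
    rw [hpowa, ← hα, pow_orderOf_eq_one]
    rfl
  obtain ⟨r, hr⟩ := (Commute.one_right f).exists_add_pow_prime_eq (Fact.out : p.Prime)
  rw [show f + 1 = a from sub_add_cancel a 1, hap, one_pow] at hr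
  let T : AddSubgroup (Additive V) := (nsmulAddMonoidHom p).ker
  have hkey : ∀ v ∈ T, (f ^ p) v = 0 := by
    intro v hv
    have hv' : p • v = 0 := hv
    have h1 := DFunLike.congr_fun hr v
    change v = (f ^ p) v + v + (p : AddMonoid.End (Additive V)) (f (r v)) at h1
    rw [AddMonoid.End.natCast_apply, ← map_nsmul, ← map_nsmul, hv', map_zero, map_zero, add_zero]
      at h1
    simpa using h1
  let L : ℕ → AddSubgroup (Additive V) := fun k => T ⊓ AddMonoidHom.ker (f ^ k)
  have hL : ∀ k, Nat.card (L k) ≤ p ^ (k * n) := by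
    intro k
    induction k with
    | zero =>
      have : L 0 = ⊥ := by
        rw [eq_bot_iff]
        rintro v ⟨-, hv⟩
        exact hv
      simp [this]
    | succ k ih =>
      have hmap : ∀ v : L (k + 1), f (v : Additive V) ∈ L k := by
        rintro ⟨v, hv1, hv2⟩
        refine ⟨?_, ?_⟩
        · change p • f v = 0
          rw [← map_nsmul, show p • v = 0 from hv1, map_zero]
        · change (f ^ k) (f v) = 0
          change (f ^ k * f) v = 0
          rw [← pow_succ]
          exact hv2
      let g : L (k + 1) →+ L k :=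
        ((f : Additive V →+ Additive V).comp (L (k + 1)).subtype).codRestrict (L k) hmap
      have hfx : ∀ v : g.ker, α ((v : L (k+1)) : Additive V).toMul = ((v : L (k+1)) : Additive V).toMul := by
        rintro ⟨⟨v, hv1⟩, hv2⟩
        have h : a v - v = 0 := congrArg Subtype.val (show g ⟨v, hv1⟩ = 0 from hv2)
        exact congrArg Additive.toMul (sub_eq_zero.mp h)
      have h1 : Nat.card g.ker ≤ p ^ n := hfix ▸ Nat.card_le_card_of_injective
        (fun v => (⟨_, hfx v⟩ : {v : V // α v = v}))
        (fun u v h => by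
          have := congrArg Subtype.val h
          exact Subtype.ext (Subtype.ext (Additive.toMul.injective this)))
      have h2 : g.ker.index ≤ Nat.card (L k) := by
        rw [AddSubgroup.index_ker]
        exact Nat.card_le_card_of_injective _ Subtype.val_injective
      rw [← AddSubgroup.card_mul_index g.ker, Nat.succ_mul, pow_add, mul_comm (p ^ (k * n))]
      exact Nat.mul_le_mul h1 (h2.trans ih)
  refine le_trans ?_ (hL p)
  refine Nat.card_le_card_of_injective (fun v => (⟨Additive.ofMul (v : V), ?_, ?_⟩ : L p)) ?_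
  · exact v.2
  · exact hkey _ v.2
  · intro u v h
    exact Subtype.ext (congrArg Subtype.val h :)

/-- Let V be a finite abelian p-group and α an automorphism of V of order p whose fixed-point subgroup has order p^n. Then V can be generated by pn elements: some subset of V with at most pn elements generates V. -/
theorem result {V : Type*} [CommGroup V] [Finite V] {p : ℕ} [Fact p.Prime] (hV : IsPGroup p V) (α : MulAut V) (hα : orderOf α = p) (n : ℕ) (hfix : Nat.card {v : V // α v = v} = p ^ n) : ∃ S : Finset V, S.card ≤ p * n ∧ Subgroup.closure (S : Set V) = ⊤ := by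
  have hidx : (powMonoidHom p : V →* V).range.index ≤ p ^ (p * n) := by
    refine le_of_eq_of_le ?_ (card_ker_le α hα n hfix)
    have h1 := (powMonoidHom p : V →* V).range.card_mul_index
    have h2 := (powMonoidHom p : V →* V).ker.card_mul_index
    rw [Subgroup.index_ker, mul_comm] at h2
    rw [← h2] at h1
    exact Nat.eq_of_mul_eq_mul_left Nat.card_pos h1
  obtain ⟨S, hS, hsup⟩ := exists_complete hV (p * n) _ hidx
  refine ⟨S, hS, eq_top_iff.mpr fun x _ => ?_⟩
  have key : ∀ j, ∀ x : V, ∃ y : V, ∃ h ∈ Subgroup.closure (S : Set V), x = y ^ p ^ j * h := by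
    intro j
    induction j with
    | zero => intro x; exact ⟨x, 1, one_mem _, by simp⟩
    | succ j ih =>
      intro x
      obtain ⟨y, h, hh, rfl⟩ := ih x
      have hy : y ∈ (powMonoidHom p : V →* V).range ⊔ Subgroup.closure (S : Set V) := by
        rw [hsup]; exact Subgroup.mem_top y
      obtain ⟨_, ⟨z, rfl⟩, w, hw, rfl⟩ := Subgroup.mem_sup.mp hy
      refine ⟨z, w ^ p ^ j * h, mul_mem (pow_mem hw _) hh, ?_⟩
      rw [powMonoidHom_apply, mul_pow, ← pow_mul, pow_succ', mul_assoc]
  obtain ⟨e, he⟩ := IsPGroup.iff_card.mp hV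
  obtain ⟨y, h, hh, rfl⟩ := key e x
  rw [← he, pow_card_eq_one', one_mul]
  exact hh

end Cfsg.Agent.S3780
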