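import Cfsg.Statements.S3781
import Mathlib
import Cfsg.Agent.Lib.ClassSizes.Basic
import Cfsg.Agent.Lib.PGroups.MaxAbelian

set_option autoImplicit false
open Cfsg

namespace Cfsg.Agent.S3781

open scoped commutatorElement
set_option linter.style.haveILetI false

variable {G : Type*} [Group G]

/-- `[M, G, ..., G]`. -/
def It (M : Subgroup G) : ℕ → Subgroup G
  | 0 => M
  | j + 1 => ⁅It M j, (⊤ : Subgroup G)⁆

instance it_normal (M : Subgroup G) [M.Normal] : ∀ j, (It M j).Normal
  | 0 => ‹M.Normal›
  | j + 1 => by
    haveI := it_normal M j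
    exact Subgroup.commutator_normal (It M j) ⊤

theorem it_comm_lcs (M : Subgroup G) [M.Normal] :
    ∀ b a, ⁅It M a, (⊤ : Subgroup G).lowerCentralSeries b⁆ ≤ It M (a + b + 1) := by
  intro b
  induction b with
  | zero => intro a; exact le_rfl
  | succ b ih =>
    intro a
    rw [Subgroup.lowerCentralSeries_succ, Subgroup.commutator_comm]
    refine CfsgLib.ClassSizes.three_subgroup_le _ ?_ ?_
    · rw [Subgroup.commutator_comm ⊤]
      have h := ih (a + 1)
      rw [show a + (b + 1) + 1 = a + 1 + b + 1 by omega]
      exact h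
    · rw [show a + (b + 1) + 1 = (a + b + 1) + 1 by omega]
      exact Subgroup.commutator_mono (ih a) le_rfl

/-- Let G be a finite p-group and n ≥ 1, and write γ_1(G) = G, γ_{k+1}(G) = [γ_k(G), G], and likewise γ_k(N) for a subgroup N. Let N be a normal subgroup of G contained in γ_n(G). If i > 1 and γ_{i+1}(N) ≠ 1, then |γ_i(N) : γ_{i+1}(N)| ≥ p^n. -/
theorem result {G : Type*} [Group G] [Finite G] {p : ℕ} [Fact p.Prime] (hG : IsPGroup p G) (n : ℕ) (hn : 1 ≤ n) (N : Subgroup G) [N.Normal] (hN : N ≤ (⊤ : Subgroup G).lowerCentralSeries (n - 1)) (i : ℕ) (hi : 1 < i) (hne : N.lowerCentralSeries i ≠ ⊥) : p ^ n ≤ (N.lowerCentralSeries i).relIndex (N.lowerCentralSeries (i - 1)) := by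
  obtain ⟨i, rfl⟩ : ∃ k, i = k + 1 := ⟨i - 1, by omega⟩
  rw [Nat.add_sub_cancel, Subgroup.lowerCentralSeries_succ] at *
  have hnorm : ∀ j, (N.lowerCentralSeries j).Normal := by
    intro j
    induction j with
    | zero => exact ‹N.Normal›
    | succ j ih => exact Subgroup.commutator_normal (N.lowerCentralSeries j) N
  haveI := hnorm i
  set M := N.lowerCentralSeries i
  set K := ⁅M, N⁆ with hK
  haveI : K.Normal := Subgroup.commutator_normal M N
  have hKM : K ≤ M := Subgroup.commutator_le_left M N
  haveI := hG.isNilpotent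
  obtain ⟨c, hc⟩ := (Subgroup.isNilpotent_iff_lowerCentralSeries (S := (⊤ : Subgroup G))).mp
    (Group.isNilpotent_congr Subgroup.topEquiv |>.mpr inferInstance)
  -- the chain modulo `K` descends
  have hstrict : ∀ j, ¬ It M j ≤ K → It M (j + 1) ⊔ K < It M j ⊔ K := by
    intro j hj
    have hle : It M (j + 1) ⊔ K ≤ It M j ⊔ K :=
      sup_le_sup_right (Subgroup.commutator_le_left (It M j) ⊤) K
    refine lt_of_le_of_ne hle fun he => hj ?_
    have h0 : It M j ≤ It M (j + 1) ⊔ K := by rw [he]; exact le_sup_left
    have key : ∀ t, It M j ≤ It M (j + t) ⊔ K := by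
      intro t
      induction t with
      | zero => exact le_sup_left
      | succ t ih =>
        refine h0.trans (sup_le ?_ le_sup_right)
        refine (Subgroup.commutator_mono ih le_rfl).trans ?_
        rw [Subgroup.commutator_le]
        intro x hx g _
        rw [Subgroup.mem_sup_of_normal_right] at hx
        obtain ⟨u, hu, v, hv, rfl⟩ := hx
        rw [commutatorElement_mul_left_eq_conj_mul]
        refine mul_mem (Subgroup.mem_sup_right ?_)
          (Subgroup.mem_sup_left (Subgroup.commutator_mem_commutator hu trivial))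
        exact Subgroup.Normal.conj_mem inferInstance _
          (Subgroup.commutator_le_left K ⊤ (Subgroup.commutator_mem_commutator hv trivial)) u
    have hit : ∀ t, It M (j + t) ≤ (⊤ : Subgroup G).lowerCentralSeries t := by
      intro t
      induction t with
      | zero => exact le_top
      | succ t ih => exact Subgroup.commutator_mono ih le_rfl
    refine (key c).trans (sup_le ?_ le_rfl)
    exact ((hit c).trans (le_of_eq hc)).trans bot_le
  by_contra hlt
  push Not at hlt
  have hit : It M (n - 1) ≤ K := by
    by_contra hcon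
    have hcont : ∀ j ≤ n - 1, ¬ It M j ≤ K := by
      intro j hj h
      refine hcon ?_
      have : ∀ t, It M (j + t) ≤ K := by
        intro t
        induction t with
        | zero => exact h
        | succ t ih => exact (Subgroup.commutator_le_left (It M (j + t)) ⊤).trans ih
      simpa [Nat.add_sub_cancel' hj] using this (n - 1 - j)
    have hchain : ∀ j ≤ n - 1, p ^ j * Nat.card ↥(It M j ⊔ K) ≤ Nat.card M := by
      intro j
      induction j with
      | zero => intro _; rw [pow_zero, one_mul]; exact Subgroup.card_le_of_le (sup_le le_rfl hKM)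
      | succ j ih =>
        intro hj
        refine le_trans ?_ (ih (by omega))
        rw [pow_succ, mul_assoc]
        exact Nat.mul_le_mul_left _ (CfsgLib.PGroups.mul_card_le_of_lt (hG.to_subgroup _) (hstrict j (hcont j (by omega))))
    have h1 : p * Nat.card K ≤ Nat.card ↥(It M (n - 1) ⊔ K) :=
      CfsgLib.PGroups.mul_card_le_of_lt (hG.to_subgroup _) (lt_of_le_of_ne le_sup_right fun he => hcon (he ▸ le_sup_left))
    have h2 := (Nat.mul_le_mul_left (p ^ (n - 1)) h1).trans (hchain (n - 1) le_rfl)
    rw [← mul_assoc, ← pow_succ, Nat.sub_add_cancel hn] at h2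
    have h3 : Nat.card K * K.relIndex M = Nat.card M := by
      rw [← Subgroup.relIndex_bot_left, ← Subgroup.relIndex_bot_left M]
      exact Subgroup.relIndex_mul_relIndex _ _ _ bot_le hKM
    rw [← h3, mul_comm] at h2
    exact absurd (Nat.le_of_mul_le_mul_left h2 Nat.card_pos) (not_le.mpr hlt)
  have hKK : K ≤ ⁅K, (⊤ : Subgroup G)⁆ := by
    refine (Subgroup.commutator_mono le_rfl hN).trans ((it_comm_lcs M (n - 1) 0).trans ?_)
    rw [show 0 + (n - 1) + 1 = (n - 1) + 1 by omega]
    exact Subgroup.commutator_mono hit le_rfl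
  refine hne (le_bot_iff.mp (hc ▸ ?_))
  have : ∀ t, K ≤ (⊤ : Subgroup G).lowerCentralSeries t := by
    intro t
    induction t with
    | zero => exact le_top
    | succ t ih => exact hKK.trans (Subgroup.commutator_mono ih le_rfl)
  exact this c

end Cfsg.Agent.S3781
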