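import Cfsg.Statements.S3782
import Cfsg.Agent.Lib.PGroups.Alperin.DerivedLength
import Cfsg.Agent.Lib.Core.HKKBound
import Cfsg.Agent.Lib.Core.FPFAutomorphism
import Cfsg.Agent.Lib.Core.Coprime
import Cfsg.Agent.Lib.Core.Cores
import Cfsg.Agent.Lib.Core.SolvableStruct
import Cfsg.Agent.Lib.PLocal.NormalPComplementThms

set_option autoImplicit false
open Cfsg

namespace Cfsg.Agent.S3782

open CfsgLib.PGroups CfsgLib.PGroups.Alperin
open scoped commutatorElement

/-- The part of a soluble group above the largest normal `p'`-subgroup. -/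
theorem upper_part {G : Type} [Group G] [Finite G] {p n : ℕ} [hp : Fact p.Prime]
    (hG : Group.IsSolvable G) (hO : Cfsg.pPrimeCore p G = ⊥) {α : MulAut G} (hb : Bd p n α) :
    derivedSeries G ((p ^ (n * p)).factorial + pgroupBound p n) = ⊥ := by
  classical
  set R := Cfsg.pCore p G with hR
  have hRp : IsPGroup p R := CfsgLib.Core.isPGroup_pCore p _
  haveI : R.Characteristic := by rw [hR]; infer_instance
  have hbR := hb.restrict R (mem_iff_of_char α R)
  set Φ := frattini R with hΦ
  set β := restrict α R (mem_iff_of_char α R) with hβ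
  -- the Frattini quotient is small
  have hcard : Nat.card (R ⧸ Φ) ≤ p ^ (n * p) := by
    letI : CommGroup (R ⧸ Φ) :=
      { (inferInstance : Group (R ⧸ Φ)) with
        mul_comm := fun x y => by
          induction x using QuotientGroup.induction_on with
          | H x =>
          induction y using QuotientGroup.induction_on with
          | H y =>
          show ((x * y : R) : R ⧸ Φ) = ((y * x : R) : R ⧸ Φ)
          rw [QuotientGroup.eq]
          have := commutator_le_frattini' hRp
            (Subgroup.commutator_mem_commutator (Subgroup.mem_top y⁻¹) (Subgroup.mem_top x⁻¹))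
          simpa [commutatorElement_def, mul_assoc] using this }
    refine card_le_of_elementary (hbR.quot Φ (mem_iff_of_char β Φ)) fun x => ?_
    induction x using QuotientGroup.induction_on with
    | H x =>
      rw [← QuotientGroup.mk_pow]
      exact (QuotientGroup.eq_one_iff _).mpr (pow_mem_frattini hRp x)
  -- the kernel of the action on it
  let act : G → Equiv.Perm (R ⧸ Φ) := fun g =>
    (QuotientGroup.congr Φ Φ (MulAut.conjNormal g : MulAut R)
      (map_of_iff _ Φ (mem_iff_of_char _ Φ))).toEquiv
  let actHom : G →* Equiv.Perm (R ⧸ Φ) := MonoidHom.mk' act fun g h => by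
    refine Equiv.ext fun q => ?_
    induction q using QuotientGroup.induction_on with
    | H x =>
      show ((MulAut.conjNormal (g * h) x : R) : R ⧸ Φ) =
        ((MulAut.conjNormal g (MulAut.conjNormal h x : R) : R) : R ⧸ Φ)
      rw [map_mul, MulAut.mul_apply]
  set D := actHom.ker with hD
  have hDp : IsPGroup p D := by
    intro d
    obtain ⟨k, m, hm, hord⟩ := Nat.exists_eq_pow_mul_and_not_dvd (orderOf_pos (d : G)).ne' p
      hp.out.ne_one
    refine ⟨k, ?_⟩
    set u := (d : G) ^ p ^ k with hu
    have hum : u ^ m = 1 := by rw [hu, ← pow_mul, ← hord, pow_orderOf_eq_one]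
    have huc : (Nat.card (Subgroup.zpowers u)).Coprime p := by
      rw [Nat.card_zpowers]
      exact (((hp.out.coprime_iff_not_dvd).mpr hm).symm).coprime_dvd_left
        (orderOf_dvd_of_pow_eq_one hum)
    have huR : Subgroup.zpowers u ≤ Subgroup.centralizer (R : Set G) := by
      obtain ⟨f, hf⟩ := IsPGroup.iff_card.mp (hRp.to_subgroup (frattini R))
      refine CfsgLib.Core.centralizes_of_centralizes_frattini_quotient
        Subgroup.le_normalizer_of_normal (hf ▸ huc.pow_right f) fun w hw r hr => ?_
      have hwD : w ∈ D := (Subgroup.zpowers_le.mpr (D.pow_mem d.2 _)) hw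
      have h1 : ((MulAut.conjNormal w ⟨r, hr⟩ : R) : R ⧸ Φ) = ((⟨r, hr⟩ : R) : R ⧸ Φ) :=
        Equiv.congr_fun (MonoidHom.mem_ker.mp hwD) ((⟨r, hr⟩ : R) : R ⧸ Φ)
      rw [QuotientGroup.eq_iff_div_mem] at h1
      exact ⟨_, h1, by simp [div_eq_mul_inv]⟩
    have h1 : u ∈ R :=
      (CfsgLib.Core.centralizer_pCore_le_of_pPrimeCore_eq_bot (G := G) hO) (huR (Subgroup.mem_zpowers u))
    obtain ⟨f, hf⟩ := hRp ⟨u, h1⟩
    have h2 : u ^ p ^ f = 1 := by simpa using congrArg Subtype.val hf
    have h3 := pow_gcd_eq_one.mpr (⟨h2, hum⟩ : u ^ p ^ f = 1 ∧ u ^ m = 1)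
    rw [(((hp.out.coprime_iff_not_dvd).mpr hm).pow_left f).gcd_eq_one, pow_one] at h3
    exact Subtype.ext (by simpa [hu] using h3)
  have hindex : Nat.card (G ⧸ D) ≤ (p ^ (n * p)).factorial := by
    rw [hD, Nat.card_congr (QuotientGroup.quotientKerEquivRange actHom).toEquiv]
    refine (Subgroup.card_le_card_group actHom.range).trans ?_
    rw [Nat.card_perm]
    exact Nat.factorial_le hcard
  have hDR : D ≤ R := CfsgLib.Core.le_pCore hDp
  refine derivedSeries_add_eq_bot ((derivedSeries_le_of_quotient
    (derivedSeries_eq_bot_of_card_le (hG := (inferInstance : Group.IsSolvable (G ⧸ D))) hindex)).trans hDR)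
    (pgroup_derived_length hRp hbR)

/-- Alperin's Theorem: for each prime p and each n ≥ 0 there is an integer l such that every finite solvable group admitting an automorphism of order p with exactly p^n fixed points has derived length at most l. -/
theorem result (p : ℕ) (hp : p.Prime) (n : ℕ) : ∃ l : ℕ, ∀ (G : Type) [Group G] [Finite G], Group.IsSolvable G → ∀ α : MulAut G, orderOf α = p → Nat.card {g : G // α g = g} = p ^ n → derivedSeries G l = ⊥ := by
  haveI : Fact p.Prime := ⟨hp⟩
  refine ⟨hkk p + ((p ^ (n * p)).factorial + pgroupBound p n), fun G _ _ hG α hord hfix => ?_⟩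
  haveI := hG
  have hpow : α ^ p = 1 := by rw [← hord]; exact pow_orderOf_eq_one α
  have hb : Bd p n α := ⟨hpow, hfix.le⟩
  set R := Cfsg.pPrimeCore p G with hR
  haveI : R.Characteristic := by rw [hR]; infer_instance
  set αR := restrict α R (mem_iff_of_char α R) with hαR
  have hbR := hb.restrict R (mem_iff_of_char α R)
  -- the `p'`-core has no fixed points
  have hfpf : ∀ x, αR x = x → x = 1 := by
    intro x hx
    let C : Subgroup G := α.toMonoidHom.eqLocus (MonoidHom.id G)
    have hC : Nat.card C = p ^ n := hfix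
    have hxC : (x : G) ∈ C := congrArg Subtype.val hx
    have h1 : orderOf (x : G) ∣ p ^ n := hC ▸ Subgroup.orderOf_dvd_natCard _ hxC
    have h2 : orderOf (x : G) ∣ Nat.card R := Subgroup.orderOf_dvd_natCard _ x.2
    have h3 := Nat.eq_one_of_dvd_coprimes
      ((CfsgLib.Core.coprime_card_pPrimeCore p G).pow_right n) h2 h1
    exact Subtype.ext (orderOf_eq_one_iff.mp h3)
  haveI : Group.IsNilpotent R := CfsgLib.Core.FPFAut.isNilpotent_of_fpf
    (fun K _ _ q _ hq P h => CfsgLib.PLocal.hasNormalPComplement_glauberman hq P h) αR hfpf hp hbR.1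
  have hlower : derivedSeries R (hkk p) = ⊥ :=
    le_bot_iff.mp ((Subgroup.derived_le_lower_central _).trans
      (CfsgLib.Core.HKK.lowerCentralSeries_eq_bot αR hbR.1 hfpf _ (fun M _ gr => gr.C_eq_bot)).le)
  have hbq := hb.quot R (mem_iff_of_char α R)
  have hup := upper_part (n := n) (inferInstance : Group.IsSolvable (G ⧸ R))
    (CfsgLib.Core.pPrimeCore_quotient_pPrimeCore p G) hbq
  rw [Nat.add_comm]
  exact derivedSeries_add_eq_bot (derivedSeries_le_of_quotient hup) hlower

end Cfsg.Agent.S3782
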