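import Cfsg.Statements.S3783
import Mathlib
import Cfsg.Agent.Lib.PGroups.FrattiniModule
import Cfsg.Agent.Lib.PLocal.PLength

set_option autoImplicit false
open Cfsg

namespace Cfsg.Agent.S3783

set_option linter.style.haveILetI false
open scoped Pointwise
open CfsgLib.Core

/-- A `p`-element of a quotient lifts to a `p`-element; a `q`-subgroup is covered by a Sylow
`q`-subgroup. -/
theorem exists_sylow_cover {G Q : Type*} [Group G] [Finite G] [Group Q] {f : G →* Q}
    (hf : Function.Surjective f) {q : ℕ} [Fact q.Prime] {U : Subgroup Q} (hU : IsPGroup q U) :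
    ∃ S : Sylow q G, U ≤ (S : Subgroup G).map f := by
  obtain ⟨T, hT⟩ := hU.exists_le_sylow
  obtain ⟨S, rfl⟩ := Sylow.mapSurjective_surjective hf q T
  exact ⟨S, hT⟩

/-- One step of the induction. -/
theorem step {H : Type*} [Group H] [Finite H] {p : ℕ} [hp : Fact p.Prime] (hsol : Cfsg.IsPSolvable p H)
    (hO : Cfsg.pPrimeCore p H = ⊥)
    (hab : ∀ (q : ℕ), q.Prime → q ≠ p → ∀ U : Subgroup H, IsPGroup q U → IsMulCommutative U)
    (e : ℕ) (hexp : ∀ x : H, (∃ k, x ^ p ^ k = 1) → x ^ p ^ (e + 1) = 1)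
    (x : H) (hx : ∃ k, x ^ p ^ k = 1) : x ^ p ^ e ∈ Cfsg.pCore p H := by
  classical
  obtain ⟨Φ, hΦn, V, hVn, hVR, hΦR, hVc, hVp, hCV, hOX⟩ := CfsgLib.PGroups.frattini_module hsol hO
  set ψ := QuotientGroup.mk' Φ with hψ
  have hψs := QuotientGroup.mk'_surjective Φ
  set π := QuotientGroup.mk' V with hπ
  have hπs := QuotientGroup.mk'_surjective V
  refine hVR.le ?_
  show ψ (x ^ p ^ e) ∈ V
  rw [← QuotientGroup.eq_one_iff (N := V)]
  show π (ψ (x ^ p ^ e)) = 1
  by_contra hne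
  set a := ψ x with ha
  have hap : a ^ p ^ (e + 1) = 1 := by rw [ha, ← map_pow, hexp x hx, map_one]
  set b := π a with hb
  have hbe : b ^ p ^ e ≠ 1 := by rwa [hb, ha, ← map_pow, ← map_pow]
  have hbp : b ^ p ^ (e + 1) = 1 := by rw [hb, ← map_pow, hap, map_one]
  set Qb := Cfsg.pPrimeCore p ((H ⧸ Φ) ⧸ V) with hQb
  have hQc : (Nat.card Qb).Coprime p := coprime_card_pPrimeCore p _
  have hsolX : Cfsg.IsPSolvable p ((H ⧸ Φ) ⧸ V) :=
    CfsgLib.PLocal.isPSolvable_quotient (CfsgLib.PLocal.isPSolvable_quotient hsol Φ) V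
  have hnc : b ^ p ^ e ∉ Subgroup.centralizer (Qb : Set ((H ⧸ Φ) ⧸ V)) := by
    intro hc
    have h1 := CfsgLib.PGroups.centralizer_pPrimeCore_le hsolX hOX hc
    have h3 := pow_gcd_eq_one.mpr (⟨orderOf_dvd_iff_pow_eq_one.mp (Subgroup.orderOf_dvd_natCard Qb h1),
      by rw [← pow_mul, ← pow_succ, hbp]⟩ : (b ^ p ^ e) ^ Nat.card Qb = 1 ∧ (b ^ p ^ e) ^ p = 1)
    rw [hQc.gcd_eq_one, pow_one] at h3
    exact hbe h3
  have hbN : Subgroup.zpowers b ≤ Subgroup.normalizer (Qb : Set ((H ⧸ Φ) ⧸ V)) :=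
    Subgroup.le_normalizer_of_normal
  have hbc : (Nat.card (Subgroup.zpowers b)).Coprime (Nat.card Qb) := by
    rw [Nat.card_zpowers]
    exact (hQc.symm.pow_left (e + 1)).coprime_dvd_left (orderOf_dvd_of_pow_eq_one hbp)
  obtain ⟨q, hq, S, hSN, hSc⟩ : ∃ (q : ℕ) (_ : Fact q.Prime) (S : Sylow q Qb),
      Subgroup.zpowers b ≤ Subgroup.normalizer ((S : Subgroup Qb).map Qb.subtype : Set ((H ⧸ Φ) ⧸ V)) ∧
      b ^ p ^ e ∉ Subgroup.centralizer ((S : Subgroup Qb).map Qb.subtype : Set ((H ⧸ Φ) ⧸ V)) := by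
    by_contra hcon
    push Not at hcon
    refine hnc ?_
    have htop : (Subgroup.centralizer ({b ^ p ^ e} : Set ((H ⧸ Φ) ⧸ V))).subgroupOf Qb = ⊤ := by
      refine Subgroup.eq_top_of_card_eq _ (Nat.dvd_antisymm (Subgroup.card_subgroup_dvd_card _) ?_)
      refine (Nat.dvd_iff_prime_pow_dvd_dvd _ _).mpr fun q k hq hk => ?_
      haveI := Fact.mk hq
      obtain ⟨S, hS⟩ := exists_invariant_sylow hbN hbc (Or.inl inferInstance) q
      have h1 := hcon q inferInstance S hS
      refine (S.pow_dvd_card_of_pow_dvd_card hk).trans (Subgroup.card_dvd_of_le fun s hs => ?_)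
      rw [Subgroup.mem_subgroupOf, Subgroup.mem_centralizer_singleton_iff]
      exact Subgroup.mem_centralizer_iff.mp h1 _ (Subgroup.mem_map_of_mem _ hs)
    rw [Subgroup.mem_centralizer_iff]
    intro y hy
    have h1 : (⟨y, hy⟩ : Qb) ∈ (Subgroup.centralizer ({b ^ p ^ e} : Set ((H ⧸ Φ) ⧸ V))).subgroupOf Qb :=
      htop ▸ Subgroup.mem_top _
    rw [Subgroup.mem_subgroupOf, Subgroup.mem_centralizer_singleton_iff] at h1
    exact h1
  haveI := hq
  set A := (S : Subgroup Qb).map Qb.subtype with hA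
  have hAq : IsPGroup q A := S.2.map _
  have hAcard : (Nat.card A).Coprime p :=
    hQc.coprime_dvd_left (Subgroup.card_dvd_of_le (Subgroup.map_subtype_le _))
  have hAne : A ≠ ⊥ := fun h => hSc (by rw [h, Subgroup.mem_centralizer_iff]; simp)
  have hqp : q ≠ p := by
    rintro rfl
    obtain ⟨k, hk⟩ := IsPGroup.iff_card.mp hAq
    rcases k with _ | k
    · exact hAne (Subgroup.eq_bot_of_card_eq A (by rw [hk, pow_zero]))
    · rw [hk] at hAcard
      exact hp.out.ne_one (Nat.Coprime.eq_one_of_dvd hAcard.symm (dvd_pow_self q k.succ_ne_zero))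
  have hAc : ∀ u ∈ A, ∀ w ∈ A, u * w = w * u := by
    intro u hu w hw
    obtain ⟨P, hP⟩ := exists_sylow_cover (f := π.comp ψ) (hπs.comp hψs) hAq
    obtain ⟨u', hu', rfl⟩ := hP hu
    obtain ⟨w', hw', rfl⟩ := hP hw
    have h1 := (hab q Fact.out hqp P P.2).is_comm.comm ⟨u', hu'⟩ ⟨w', hw'⟩
    rw [← map_mul, ← map_mul]
    exact congrArg _ (congrArg Subtype.val h1)
  obtain ⟨v, hv, hne'⟩ := CfsgLib.PGroups.exists_mul_pow_ne (m := e) V hVc hVp hCV (a := a)
    (by rw [hap]; exact one_mem _) A hAc hAcard (hSN (Subgroup.mem_zpowers b))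
    (by rw [map_pow]; exact hSc)
  refine hne' ?_
  obtain ⟨r, rfl⟩ := hψs v
  have hr : r ∈ Cfsg.pCore p H := hVR.le hv
  rw [hap, ha, ← map_mul, ← map_pow, hexp _ ?_, map_one]
  obtain ⟨k, hk⟩ := hx
  have hmem : (r * x) ^ p ^ k ∈ Cfsg.pCore p H := by
    rw [← QuotientGroup.eq_one_iff, QuotientGroup.mk_pow, QuotientGroup.mk_mul,
      (QuotientGroup.eq_one_iff r).mpr hr, one_mul, ← QuotientGroup.mk_pow, hk, QuotientGroup.mk_one]
  obtain ⟨l, hl⟩ := (isPGroup_pCore p H) ⟨_, hmem⟩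
  exact ⟨k + l, by rw [pow_add, pow_mul]; simpa using congrArg Subtype.val hl⟩

/-- Let G be a finite p-soluble group in which, for every prime q ≠ p, the Sylow q-subgroups are abelian. If the Sylow p-subgroups of G have exponent dividing p^n, then G has p-length at most n. -/
theorem result {G : Type*} [Group G] [Finite G] {p : ℕ} [Fact p.Prime] (hG : Cfsg.IsPSolvable p G) (hab : ∀ (q : ℕ) [Fact q.Prime], q ≠ p → ∀ Q : Sylow q G, IsMulCommutative (Q : Subgroup G)) (n : ℕ) (hexp : ∀ (P : Sylow p G), ∀ x ∈ (P : Subgroup G), x ^ p ^ n = 1) : Cfsg.PLengthLE p n G := by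
  classical
  have main : ∀ k ≤ n, ∀ g : G, (∃ i, g ^ p ^ i = 1) →
      g ^ p ^ (n - k) ∈ (Cfsg.upperPSeries p G (2 * k + 1)).1 := by
    intro k
    induction k with
    | zero =>
      intro _ g hg
      obtain ⟨i, hi⟩ := hg
      have hpg : IsPGroup p (Subgroup.zpowers g) := by
        obtain ⟨j, -, hj⟩ := (Nat.dvd_prime_pow Fact.out).mp (orderOf_dvd_of_pow_eq_one hi)
        exact IsPGroup.of_card (n := j) (by rw [Nat.card_zpowers, hj])
      obtain ⟨P, hP⟩ := hpg.exists_le_sylow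
      rw [Nat.sub_zero, hexp P g (hP (Subgroup.mem_zpowers g))]
      exact one_mem _
    | succ k ih =>
      intro hk g hg
      have hIH := ih (by omega)
      set U := (Cfsg.upperPSeries p G (2 * k + 1)).1 with hU
      have hs := QuotientGroup.mk'_surjective U
      have h1 := step (CfsgLib.PLocal.isPSolvable_quotient hG U)
        (CfsgLib.PLocal.pPrimeCore_quotient_upper_odd k)
        (fun q hq hqp W hW => by
          haveI := Fact.mk hq
          obtain ⟨S, hS⟩ := exists_sylow_cover hs hW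
          haveI := hab q hqp S
          exact ⟨⟨fun u w => by
            obtain ⟨u', hu', hu''⟩ := hS u.2
            obtain ⟨w', hw', hw''⟩ := hS w.2
            apply Subtype.ext
            rw [Subgroup.coe_mul, Subgroup.coe_mul, ← hu'', ← hw'', ← map_mul, ← map_mul]
            exact congrArg _ (congrArg Subtype.val
              ((hab q hqp S).is_comm.comm (⟨u', hu'⟩ : (S : Subgroup G)) ⟨w', hw'⟩))⟩⟩)
        (n - (k + 1))
        (fun y hy => by
          obtain ⟨i, hi⟩ := hy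
          have hpg : IsPGroup p (Subgroup.zpowers y) := by
            obtain ⟨j, -, hj⟩ := (Nat.dvd_prime_pow Fact.out).mp (orderOf_dvd_of_pow_eq_one hi)
            exact IsPGroup.of_card (n := j) (by rw [Nat.card_zpowers, hj])
          obtain ⟨S, hS⟩ := exists_sylow_cover hs hpg
          obtain ⟨g', hg', rfl⟩ := hS (Subgroup.mem_zpowers y)
          rw [← map_pow, show n - (k + 1) + 1 = n - k by omega]
          refine (QuotientGroup.eq_one_iff _).mpr (hIH g' ?_)
          obtain ⟨j, hj⟩ := S.2 ⟨g', hg'⟩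
          exact ⟨j, by simpa using congrArg Subtype.val hj⟩)
        (QuotientGroup.mk' U g) (by obtain ⟨i, hi⟩ := hg; exact ⟨i, by rw [← map_pow, hi, map_one]⟩)
      refine CfsgLib.PLocal.upper_succ_ge (2 * k + 2) ?_
      rw [CfsgLib.PLocal.upper_even]
      show QuotientGroup.mk' U (g ^ p ^ (n - (k + 1))) ∈ Cfsg.pCore p (G ⧸ U)
      rw [map_pow]; exact h1
  show (Cfsg.upperPSeries p G (2 * n + 1)).1 = ⊤
  set W := (Cfsg.upperPSeries p G (2 * n + 1)).1 with hW
  obtain ⟨P⟩ : Nonempty (Sylow p G) := inferInstance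
  have hPW : (P : Subgroup G) ≤ W := fun g hg => by
    have := main n le_rfl g (by
      obtain ⟨j, hj⟩ := P.2 ⟨g, hg⟩
      exact ⟨j, by simpa using congrArg Subtype.val hj⟩)
    rwa [Nat.sub_self, pow_zero, pow_one] at this
  have hcop : (Nat.card (⊤ : Subgroup (G ⧸ W))).Coprime p := by
    rw [Subgroup.card_top, ← Subgroup.index_eq_card, Nat.coprime_comm,
      (Fact.out : p.Prime).coprime_iff_not_dvd]
    exact fun h => P.not_dvd_index (h.trans (Subgroup.index_dvd_of_le hPW))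
  have h2 := (le_pPrimeCore hcop).trans (CfsgLib.PLocal.pPrimeCore_quotient_upper_odd (G := G) (p := p) n).le
  rw [← QuotientGroup.ker_mk' W, MonoidHom.ker_eq_top_iff]
  ext x
  exact Subgroup.mem_bot.mp (h2 (Subgroup.mem_top _))

end Cfsg.Agent.S3783
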