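import Cfsg.Statements.S3784
import Mathlib

set_option autoImplicit false
open Cfsg

namespace Cfsg.Agent.S3784

/-- An odd divisor of a power of two is one. -/
theorem odd_dvd_two_pow {m n : ℕ} (hm : Odd m) (h : m ∣ 2 ^ n) : m = 1 := by
  obtain ⟨i, -, rfl⟩ := (Nat.dvd_prime_pow Nat.prime_two).mp h
  rcases i with _ | i
  · simp
  · rw [Nat.odd_iff, pow_succ] at hm; omega

theorem odd_geom (x : ℤ) (hx : Odd x) (n : ℕ) (hn : Odd n) :
    Odd (∑ i ∈ Finset.range n, x ^ i) := by
  rw [← ZMod.intCast_eq_one_iff_odd]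
  push_cast
  rw [(ZMod.intCast_eq_one_iff_odd).mpr hx]
  obtain ⟨k, rfl⟩ := hn
  simp [show (2 : ZMod 2) = 0 from rfl]

/-- Let p, q be primes and a, b positive integers with p^a = q^b + 1. Then either p = 2, b = 1, a is prime and q = 2^a − 1; or q = 2, a = 1, b is a power of 2 and p = 2^b + 1; or p^a = 9 and q^b = 8. -/
theorem result (p q a b : ℕ) (hp : p.Prime) (hq : q.Prime) (ha : 1 ≤ a) (hb : 1 ≤ b) (h : p ^ a = q ^ b + 1) : (p = 2 ∧ b = 1 ∧ a.Prime ∧ q + 1 = 2 ^ a) ∨ (q = 2 ∧ a = 1 ∧ (∃ m : ℕ, b = 2 ^ m) ∧ p = 2 ^ b + 1) ∨ (p ^ a = 9 ∧ q ^ b = 8) := by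
  rcases hp.eq_two_or_odd' with rfl | hpo
  · left
    have hqo : Odd q := by
      rcases hq.eq_two_or_odd' with rfl | h'
      · exfalso
        obtain ⟨a, rfl⟩ : ∃ a', a = a' + 1 := ⟨a - 1, by omega⟩
        obtain ⟨b, rfl⟩ : ∃ b', b = b' + 1 := ⟨b - 1, by omega⟩
        rw [pow_succ, pow_succ] at h
        omega
      · exact h'
    have hbo : Odd b := by
      rcases Nat.even_or_odd b with ⟨c, rfl⟩ | h'
      · exfalso
        obtain ⟨k, hk⟩ := hqo.pow (n := c)
        have h2 : (2:ℕ) ≤ q ^ c := le_trans hq.two_le (Nat.le_self_pow (by omega) q)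
        rw [pow_add, hk] at h
        have : (2 * k + 1) * (2 * k + 1) = 4 * (k * k + k) + 1 := by ring
        obtain ⟨a, rfl⟩ : ∃ a', a = a' + 1 := ⟨a - 1, by omega⟩
        rcases a with _ | a
        · have : 2 * 2 ≤ (2 * k + 1) * (2 * k + 1) := Nat.mul_le_mul (hk ▸ h2) (hk ▸ h2)
          omega
        · rw [pow_succ, pow_succ] at h
          omega
      · exact h'
    have hb1 : b = 1 := by
      by_contra hne
      have hgeom := geom_sum_mul (-(q:ℤ)) b
      rw [hbo.neg_pow] at hgeom
      have hsodd := odd_geom (-(q:ℤ)) (((Int.odd_coe_nat _).mpr hqo).neg) b hbo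
      set s : ℤ := ∑ i ∈ Finset.range b, (-(q:ℤ)) ^ i with hs
      have hz : (2:ℤ) ^ a = s * ((q:ℤ) + 1) := by
        have : (2:ℤ) ^ a = (q:ℤ) ^ b + 1 := by exact_mod_cast h
        linarith
      have hn : (2:ℕ) ^ a = s.natAbs * (q + 1) := by
        have := congrArg Int.natAbs hz
        rw [Int.natAbs_pow, Int.natAbs_mul] at this
        simpa [show ((q:ℤ) + 1).natAbs = q + 1 by omega] using this
      have h1 := odd_dvd_two_pow (m := s.natAbs) (Int.natAbs_odd.mpr hsodd) ⟨q + 1, hn⟩
      rw [h1, one_mul, h] at hn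
      have : q ^ 1 < q ^ b := Nat.pow_lt_pow_right hq.one_lt (by omega)
      rw [pow_one] at this
      omega
    subst hb1
    rw [pow_one] at h
    refine ⟨rfl, rfl, ?_, h.symm⟩
    refine (Nat.prime_of_pow_sub_one_prime (a := 2) ?_ ?_).2
    · intro ha1; subst ha1
      rw [pow_one] at h
      have := hq.two_le
      omega
    · rw [h, Nat.add_sub_cancel]; exact hq
  · have hq2 : q = 2 := by
      rcases hq.eq_two_or_odd' with h' | h'
      · exact h'
      · exfalso
        obtain ⟨i, hi⟩ := hpo.pow (n := a)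
        obtain ⟨j, hj⟩ := h'.pow (n := b)
        omega
    subst hq2
    rcases Nat.even_or_odd a with ⟨c, rfl⟩ | hao
    · right; right
      have hfac : (p ^ c + 1) * (p ^ c - 1) = 2 ^ b := by
        rw [← Nat.sq_sub_sq, one_pow, ← pow_mul, mul_two, h, Nat.add_sub_cancel]
      obtain ⟨i, -, hi⟩ := (Nat.dvd_prime_pow Nat.prime_two).mp (Dvd.intro _ hfac)
      obtain ⟨j, -, hj⟩ := (Nat.dvd_prime_pow Nat.prime_two).mp (Dvd.intro_left _ hfac)
      have h3 : 3 ≤ p ^ c := by
        obtain ⟨k, hk⟩ := hpo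
        exact le_trans (by have := hp.two_le; omega) (Nat.le_self_pow (by omega) p)
      have hj1 : j = 1 := by
        rcases j with _ | _ | j
        · simp only [pow_zero] at hj; omega
        · rfl
        · exfalso
          rcases i with _ | _ | i
          · simp only [pow_zero] at hi; omega
          · simp only [zero_add, pow_one] at hi; omega
          · rw [pow_succ, pow_succ] at hi hj
            omega
      subst hj1
      have hc : p ^ c = 3 := by simp only [pow_one] at hj; omega
      refine ⟨by rw [pow_add, hc]; norm_num, ?_⟩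
      rw [pow_add, hc] at h; omega
    · right; left
      have ha1 : a = 1 := by
        by_contra hne
        have hgeom := geom_sum_mul (p:ℤ) a
        have hsodd := odd_geom (p:ℤ) ((Int.odd_coe_nat _).mpr hpo) a hao
        set s : ℤ := ∑ i ∈ Finset.range a, (p:ℤ) ^ i with hs
        have hz : (2:ℤ) ^ b = s * ((p:ℤ) - 1) := by
          have : ((p:ℤ)) ^ a = (2:ℤ) ^ b + 1 := by exact_mod_cast h
          linarith
        have hn : (2:ℕ) ^ b = s.natAbs * (p - 1) := by
          have := congrArg Int.natAbs hz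
          rw [Int.natAbs_pow, Int.natAbs_mul] at this
          simpa [show ((p:ℤ) - 1).natAbs = p - 1 by have := hp.two_le; omega] using this
        have h1 := odd_dvd_two_pow (m := s.natAbs) (Int.natAbs_odd.mpr hsodd) ⟨p - 1, hn⟩
        rw [h1, one_mul] at hn
        have : p ^ 1 < p ^ a := Nat.pow_lt_pow_right hp.one_lt (by omega)
        rw [pow_one] at this
        have := hp.two_le
        omega
      subst ha1
      rw [pow_one] at h
      exact ⟨rfl, rfl, Nat.pow_of_pow_add_prime (a := 2) (by norm_num) (by omega) (h ▸ hp), h⟩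

end Cfsg.Agent.S3784
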