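import Cfsg.Statements.S3785
import Mathlib
import Cfsg.Agent.Lib.OddLocal.Coprime
import Cfsg.Agent.Lib.Components.FStar
import Cfsg.Agent.Lib.HallGen.Basic
import Cfsg.Agent.Lib.Core.Basic
import Cfsg.Agent.Lib.Core.Cores

set_option autoImplicit false
open Cfsg

namespace Cfsg.Agent.S3785

open scoped commutatorElement
set_option linter.style.haveILetI false

/-- Let G be a finite solvable group whose Fitting subgroup F(G) has odd order. If an element g of G commutes with every element of prime order of F(G), then g ∈ F(G). -/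
theorem result {G : Type*} [Group G] [Finite G] (hG : Group.IsSolvable G) (hodd : Odd (Nat.card (Cfsg.fittingSubgroup G))) (g : G) (hg : ∀ x ∈ Cfsg.fittingSubgroup G, (orderOf x).Prime → g * x = x * g) : g ∈ Cfsg.fittingSubgroup G := by
  haveI := hG
  set F := Cfsg.fittingSubgroup G with hF
  set C := Subgroup.centralizer {x : G | x ∈ F ∧ (orderOf x).Prime} with hC
  haveI hCn : C.Normal := by
    refine ⟨fun c hc u => Subgroup.mem_centralizer_iff.mpr fun x hx => ?_⟩
    have h1 := Subgroup.mem_centralizer_iff.mp hc (u⁻¹ * x * u)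
      ⟨by simpa using Subgroup.Normal.conj_mem inferInstance x hx.1 u⁻¹, by
        have e : orderOf (u⁻¹ * x * u) = orderOf x := by
          rw [show u⁻¹ * x * u = MulAut.conj u⁻¹ x by simp, MulEquiv.orderOf_eq]
        rw [e]; exact hx.2⟩
    calc x * (u * c * u⁻¹) = u * ((u⁻¹ * x * u) * c) * u⁻¹ := by group
      _ = u * (c * (u⁻¹ * x * u)) * u⁻¹ := by rw [h1]
      _ = u * c * u⁻¹ * x := by group
  suffices hnil : Group.IsNilpotent C from
    CfsgLib.Core.le_fittingSubgroup hnil (Subgroup.mem_centralizer_iff.mpr fun x hx => (hg x hx.1 hx.2).symm)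
  -- coprime prime-power elements of `C`
  have hcent : ∀ (q : ℕ), q.Prime → ∀ y ∈ C, (∃ k, orderOf y = q ^ k) → ∀ r : ℕ, r.Prime → r ≠ q →
      y ∈ Subgroup.centralizer (Cfsg.pCore r G : Set G) := by
    rintro q hq y hy ⟨k, hk⟩ r hr hrq
    haveI := Fact.mk hr
    by_cases hb : Cfsg.pCore r G = ⊥
    · rw [hb]; exact Subgroup.mem_centralizer_iff.mpr fun x hx => by simp [Subgroup.mem_bot.mp hx]
    have hr2 : r ≠ 2 := by
      rintro rfl
      obtain ⟨j, hj⟩ := IsPGroup.iff_card.mp (CfsgLib.Core.isPGroup_pCore 2 G)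
      have hd : Nat.card (Cfsg.pCore 2 G) ∣ Nat.card F :=
        Subgroup.card_dvd_of_le (CfsgLib.Core.pCore_le_fittingSubgroup 2)
      rcases Nat.eq_zero_or_pos j with rfl | hj0
      · exact hb (Subgroup.eq_bot_of_card_eq _ (by rw [hj, pow_zero]))
      · exact hodd.not_two_dvd_nat ((dvd_pow_self 2 hj0.ne').trans (hj ▸ hd))
    refine CfsgLib.OddLocal.centralizes_of_fixes_order_p hr2 (n := q ^ k) (by rw [← hk, pow_orderOf_eq_one])
      (((Nat.coprime_primes hq hr).mpr (Ne.symm hrq)).pow_left k) (CfsgLib.Core.isPGroup_pCore r G)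
      (CfsgLib.Core.le_normalizer_of_normal ⊤ _ (Subgroup.mem_top y)) fun x hx hxo => ?_
    exact (Subgroup.mem_centralizer_iff.mp hy x
      ⟨CfsgLib.Core.pCore_le_fittingSubgroup r hx, hxo ▸ hr⟩).symm
  set A := C ⊓ Subgroup.centralizer (F : Set G) with hA
  have hAF : A ≤ F := inf_le_right.trans CfsgLib.Components.centralizer_fitting_le_of_isSolvable
  have hcomm : ∀ (q r : ℕ), q.Prime → r.Prime → q ≠ r → ∀ y ∈ C, (∃ k, orderOf y = q ^ k) →
      ∀ x ∈ C, (∃ k, orderOf x = r ^ k) → ⁅y, x⁆ ∈ A := by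
    intro q r hq hr hqr y hy hyk x hx hxk
    refine ⟨C.mul_mem (C.mul_mem (C.mul_mem hy hx) (C.inv_mem hy)) (C.inv_mem hx), ?_⟩
    have hle : F ≤ Subgroup.centralizer {⁅y, x⁆} := by
      rw [hF, CfsgLib.Core.fittingSubgroup_eq_iSup_pCore]
      refine iSup_le fun ⟨s, hs⟩ => ?_
      suffices hs' : ⁅y, x⁆ ∈ Subgroup.centralizer (Cfsg.pCore s G : Set G) from fun f hf =>
        Subgroup.mem_centralizer_singleton_iff.mpr (Subgroup.mem_centralizer_iff.mp hs' f hf)
      have hmem : ∀ {z : G}, z ∈ Subgroup.centralizer (Cfsg.pCore s G : Set G) → ∀ w : G,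
          w * z * w⁻¹ ∈ Subgroup.centralizer (Cfsg.pCore s G : Set G) :=
        fun hz w => Subgroup.Normal.conj_mem inferInstance _ hz w
      by_cases hsq : s = q
      · subst hsq
        have hxc := hcent r hr x hx hxk s hs hqr
        exact mul_mem (hmem hxc y) (inv_mem hxc)
      · have hyc := hcent q hq y hy hyk s hs hsq
        rw [commutatorElement_def, mul_assoc, mul_assoc]
        refine mul_mem hyc ?_
        rw [← mul_assoc]
        exact hmem (inv_mem hyc) x
    exact Subgroup.mem_centralizer_iff.mpr fun f hf => Subgroup.mem_centralizer_singleton_iff.mp (hle hf)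
  refine ((Group.isNilpotent_of_finite_tfae (G := C)).out 0 3).mpr fun r hr R => ?_
  haveI := hr
  set A' := A.subgroupOf C with hA'
  haveI : A.Normal := inferInstance
  haveI : A'.Normal := inferInstance
  have hRA : (R : Subgroup C) ⊔ A' ≤ Subgroup.normalizer ((R : Subgroup C) : Set C) := by
    refine sup_le Subgroup.le_normalizer fun a ha => ?_
    refine CfsgLib.HallGen.mem_of_primePow_parts _ a fun z hz q k hq hzk => ?_
    have hzA : z ∈ A' := Subgroup.zpowers_le.mpr ha hz
    by_cases hqr : q = r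
    · subst hqr
      -- an `r`-element of `A` lies in `O_r(G)`, hence in `R`
      haveI := CfsgLib.Core.isNilpotent_fittingSubgroup G
      refine Subgroup.le_normalizer ?_
      obtain ⟨S⟩ : Nonempty (Sylow q F) := inferInstance
      have hn : ∀ (r : ℕ) (_hr : Fact r.Prime) (P : Sylow r F), (P : Subgroup F).Normal :=
        ((Group.isNilpotent_of_finite_tfae (G := F)).out 0 3).mp (CfsgLib.Core.isNilpotent_fittingSubgroup G)
      haveI := hn q inferInstance S
      have hzF : (z : G) ∈ F := hAF hzA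
      have hz' : IsPGroup q (Subgroup.zpowers (⟨z, hzF⟩ : F)) := IsPGroup.of_card (n := k)
        (by rw [Nat.card_zpowers, ← Subgroup.orderOf_coe, ← hzk, ← Subgroup.orderOf_coe z])
      have hzcore : (z : G) ∈ Cfsg.pCore q G := CfsgLib.Core.map_subtype_pCore_le F
        ⟨⟨z, hzF⟩, CfsgLib.Core.le_pCore S.isPGroup' ((S.is_maximal'
          (hz'.to_sup_of_normal_right S.isPGroup') le_sup_right).le
            (Subgroup.mem_sup_left (Subgroup.mem_zpowers _))), rfl⟩
      have hn' : ((Cfsg.pCore q G).subgroupOf C).Normal := inferInstance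
      exact ((CfsgLib.Core.isPGroup_pCore q G).comap_subtype.le_sylow_of_normal R) hzcore
    · refine Subgroup.centralizer_le_normalizer _ (Subgroup.mem_centralizer_iff.mpr fun x hx => ?_)
      obtain ⟨j, hj⟩ := IsPGroup.iff_orderOf.mp R.isPGroup' ⟨x, hx⟩
      rw [Subgroup.orderOf_mk] at hj
      have hzG : ∃ k, orderOf (z : G) = q ^ k := ⟨k, by rw [Subgroup.orderOf_coe, hzk]⟩
      have hxG : ∃ k, orderOf (x : G) = r ^ k := ⟨j, by rw [Subgroup.orderOf_coe, hj]⟩
      apply Subtype.ext
      have hzc : (z : G) ∈ F := hAF hzA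
      -- `z` lies in the `q`-core, which `x` centralises
      haveI := Fact.mk hq
      obtain ⟨S⟩ : Nonempty (Sylow q F) := inferInstance
      have hn : ∀ (r : ℕ) (_hr : Fact r.Prime) (P : Sylow r F), (P : Subgroup F).Normal :=
        ((Group.isNilpotent_of_finite_tfae (G := F)).out 0 3).mp (CfsgLib.Core.isNilpotent_fittingSubgroup G)
      haveI := hn q inferInstance S
      have hz' : IsPGroup q (Subgroup.zpowers (⟨z, hzc⟩ : F)) := IsPGroup.of_card (n := k)
        (by rw [Nat.card_zpowers, ← Subgroup.orderOf_coe, ← hzk, ← Subgroup.orderOf_coe z])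
      have hzcore : (z : G) ∈ Cfsg.pCore q G := CfsgLib.Core.map_subtype_pCore_le F
        ⟨⟨z, hzc⟩, CfsgLib.Core.le_pCore S.isPGroup' ((S.is_maximal'
          (hz'.to_sup_of_normal_right S.isPGroup') le_sup_right).le
            (Subgroup.mem_sup_left (Subgroup.mem_zpowers _))), rfl⟩
      exact (Subgroup.mem_centralizer_iff.mp (hcent r hr.out x x.2 hxG q hq hqr) _ hzcore).symm
  have hM : ((R : Subgroup C) ⊔ A').Normal := by
    rw [← Subgroup.normalizer_eq_top_iff]
    refine CfsgLib.Core.eq_top_of_forall_exists_sylow_le _ fun q hq _ => ?_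
    haveI := Fact.mk hq
    by_cases hqr : q = r
    · subst hqr
      exact ⟨R, le_sup_left.trans Subgroup.le_normalizer⟩
    obtain ⟨Q⟩ : Nonempty (Sylow q C) := inferInstance
    refine ⟨Q, fun y hy => ?_⟩
    have hy' : ∀ w : C, w ∈ (Q : Subgroup C) → ∀ v ∈ (R : Subgroup C) ⊔ A', w * v * w⁻¹ ∈ (R : Subgroup C) ⊔ A' := by
      intro w hw v hv
      rw [Subgroup.mem_sup_of_normal_right] at hv
      obtain ⟨x, hx, a, ha, rfl⟩ := hv
      obtain ⟨j, hj⟩ := IsPGroup.iff_orderOf.mp R.isPGroup' ⟨x, hx⟩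
      obtain ⟨i, hi⟩ := IsPGroup.iff_orderOf.mp Q.isPGroup' ⟨w, hw⟩
      rw [Subgroup.orderOf_mk] at hi hj
      have h1 : ⁅w, x⁆ ∈ A' := hcomm q r hq hr.out hqr w w.2 ⟨i, by rw [Subgroup.orderOf_coe, hi]⟩
        x x.2 ⟨j, by rw [Subgroup.orderOf_coe, hj]⟩
      have e : w * (x * a) * w⁻¹ = ⁅w, x⁆ * x * (w * a * w⁻¹) := by
        rw [commutatorElement_def]; group
      rw [e]
      exact mul_mem (mul_mem (Subgroup.mem_sup_right h1) (Subgroup.mem_sup_left hx))
        (Subgroup.mem_sup_right (Subgroup.Normal.conj_mem inferInstance a ha w))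
    rw [Subgroup.mem_normalizer_iff]
    intro v
    refine ⟨hy' y hy v, fun h => ?_⟩
    have h2 := hy' y⁻¹ (inv_mem hy) _ h
    simpa [mul_assoc] using h2
  set M := (R : Subgroup C) ⊔ A'
  haveI := hM
  rw [← Subgroup.normalizer_eq_top_iff, eq_top_iff, ← Sylow.normalizer_sup_eq_top' (N := M) R le_sup_left]
  exact sup_le le_rfl hRA

end Cfsg.Agent.S3785
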