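import Cfsg.Statements.S3786
import Mathlib
import Cfsg.Agent.Lib.Core.HHCritical.PLengthStep
import Cfsg.Agent.Lib.Core.HHCritical.PLengthExceptional

set_option autoImplicit false
open Cfsg

namespace Cfsg.Agent.S3786

open CfsgLib.Core CfsgLib.Core.HHCritical
open scoped commutatorElement Pointwise

/-- The Hall–Higman bound on p-length. Let p be an odd prime and G a finite p-soluble group whose Sylow p-subgroups have exponent dividing p^e. (a) If p is not of the form 2^k + 1, or if the Sylow 2-subgroups of G are abelian, then G has p-length at most e. (b) In every case G has p-length at most 2e. -/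
theorem result {G : Type*} [Group G] [Finite G] {p : ℕ} [Fact p.Prime] (hp : p ≠ 2) (hG : Cfsg.IsPSolvable p G) (e : ℕ) (hexp : ∀ (P : Sylow p G), ∀ x ∈ (P : Subgroup G), x ^ p ^ e = 1) : (((¬ ∃ k : ℕ, p = 2 ^ k + 1) ∨ ∀ S : Sylow 2 G, IsMulCommutative (S : Subgroup G)) → Cfsg.PLengthLE p e G) ∧ Cfsg.PLengthLE p (2 * e) G := by
  refine ⟨fun hab => ?_, ?_⟩
  · classical
    have main : ∀ k ≤ e, ∀ g : G, (∃ i, g ^ p ^ i = 1) →
        g ^ p ^ (e - k) ∈ (Cfsg.upperPSeries p G (2 * k + 1)).1 := by
      intro k
      induction k with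
      | zero =>
        intro _ g hg
        obtain ⟨i, hi⟩ := hg
        have hpg : IsPGroup p (Subgroup.zpowers g) := by
          obtain ⟨j, -, hj⟩ := (Nat.dvd_prime_pow Fact.out).mp (orderOf_dvd_of_pow_eq_one hi)
          exact IsPGroup.of_card (n := j) (by rw [Nat.card_zpowers, hj])
        obtain ⟨P, hP⟩ := hpg.exists_le_sylow
        rw [Nat.sub_zero, hexp P g (hP (Subgroup.mem_zpowers g))]
        exact one_mem _
      | succ k ih =>
        intro hk g hg
        have hIH := ih (by omega)
        set U := (Cfsg.upperPSeries p G (2 * k + 1)).1 with hU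
        have hs := QuotientGroup.mk'_surjective U
        have h1 := pLength_step (CfsgLib.PLocal.isPSolvable_quotient hG U) hp
          (CfsgLib.PLocal.pPrimeCore_quotient_upper_odd k)
          (hab.imp id fun hab W hW => by
            haveI := Fact.mk Nat.prime_two
            obtain ⟨S, hS⟩ := exists_sylow_cover hs hW
            haveI := hab S
            exact ⟨⟨fun u w => by
              obtain ⟨u', hu', hu''⟩ := hS u.2
              obtain ⟨w', hw', hw''⟩ := hS w.2
              apply Subtype.ext
              rw [Subgroup.coe_mul, Subgroup.coe_mul, ← hu'', ← hw'', ← map_mul, ← map_mul]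
              exact congrArg _ (congrArg Subtype.val
                ((hab S).is_comm.comm (⟨u', hu'⟩ : (S : Subgroup G)) ⟨w', hw'⟩))⟩⟩)
          (e - (k + 1))
          (fun y hy => by
            obtain ⟨i, hi⟩ := hy
            have hpg : IsPGroup p (Subgroup.zpowers y) := by
              obtain ⟨j, -, hj⟩ := (Nat.dvd_prime_pow Fact.out).mp (orderOf_dvd_of_pow_eq_one hi)
              exact IsPGroup.of_card (n := j) (by rw [Nat.card_zpowers, hj])
            obtain ⟨S, hS⟩ := exists_sylow_cover hs hpg
            obtain ⟨g', hg', rfl⟩ := hS (Subgroup.mem_zpowers y)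
            rw [← map_pow, show e - (k + 1) + 1 = e - k by omega]
            refine (QuotientGroup.eq_one_iff _).mpr (hIH g' ?_)
            obtain ⟨j, hj⟩ := S.2 ⟨g', hg'⟩
            exact ⟨j, by simpa using congrArg Subtype.val hj⟩)
          (QuotientGroup.mk' U g) (by obtain ⟨i, hi⟩ := hg; exact ⟨i, by rw [← map_pow, hi, map_one]⟩)
        refine CfsgLib.PLocal.upper_succ_ge (2 * k + 2) ?_
        rw [CfsgLib.PLocal.upper_even]
        show QuotientGroup.mk' U (g ^ p ^ (e - (k + 1))) ∈ Cfsg.pCore p (G ⧸ U)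
        rw [map_pow]; exact h1
    show (Cfsg.upperPSeries p G (2 * e + 1)).1 = ⊤
    set W := (Cfsg.upperPSeries p G (2 * e + 1)).1 with hW
    obtain ⟨P⟩ : Nonempty (Sylow p G) := inferInstance
    have hPW : (P : Subgroup G) ≤ W := fun g hg => by
      have := main e le_rfl g (by
        obtain ⟨j, hj⟩ := P.2 ⟨g, hg⟩
        exact ⟨j, by simpa using congrArg Subtype.val hj⟩)
      rwa [Nat.sub_self, pow_zero, pow_one] at this
    have hcop : (Nat.card (⊤ : Subgroup (G ⧸ W))).Coprime p := by
      rw [Subgroup.card_top, ← Subgroup.index_eq_card, Nat.coprime_comm,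
        (Fact.out : p.Prime).coprime_iff_not_dvd]
      exact fun h => P.not_dvd_index (h.trans (Subgroup.index_dvd_of_le hPW))
    have h2 := (le_pPrimeCore hcop).trans (CfsgLib.PLocal.pPrimeCore_quotient_upper_odd (G := G) (p := p) e).le
    rw [← QuotientGroup.ker_mk' W, MonoidHom.ker_eq_top_iff]
    ext x
    exact Subgroup.mem_bot.mp (h2 (Subgroup.mem_top _))
  · classical
    have hpel : ∀ {K : Type _} [Group K] [Finite K] (g : K), (∃ i, g ^ p ^ i = 1) → IsPGroup p (Subgroup.zpowers g) := by
      intro K _ _ g hg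
      obtain ⟨i, hi⟩ := hg
      obtain ⟨j, -, hj⟩ := (Nat.dvd_prime_pow Fact.out).mp (orderOf_dvd_of_pow_eq_one hi)
      exact IsPGroup.of_card (n := j) (by rw [Nat.card_zpowers, hj])
    have main : ∀ k ≤ e, ∀ g : G, (∃ i, g ^ p ^ i = 1) →
        g ^ p ^ (e - k) ∈ (Cfsg.upperPSeries p G (2 * (2 * k) + 1)).1 := by
      intro k
      induction k with
      | zero =>
        intro _ g hg
        obtain ⟨P, hP⟩ := (hpel g hg).exists_le_sylow
        rw [Nat.sub_zero, hexp P g (hP (Subgroup.mem_zpowers g))]
        exact one_mem _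
      | succ k ih =>
        intro hk g hg
        have hIH := ih (by omega)
        set e' := e - (k + 1) with he'
        -- exponents in the quotients
        have hexpq : ∀ (U : Subgroup G) [U.Normal],
            (Cfsg.upperPSeries p G (2 * (2 * k) + 1)).1 ≤ U →
            ∀ y : G ⧸ U, (∃ i, y ^ p ^ i = 1) → y ^ p ^ (e' + 1) = 1 := by
          intro U _ hU y hy
          obtain ⟨S, hS⟩ := exists_sylow_cover (QuotientGroup.mk'_surjective U) (hpel y hy)
          obtain ⟨g', hg', rfl⟩ := hS (Subgroup.mem_zpowers y)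
          rw [← map_pow, show e' + 1 = e - k by omega]
          refine (QuotientGroup.eq_one_iff _).mpr (hU (hIH g' ?_))
          obtain ⟨j, hj⟩ := S.2 ⟨g', hg'⟩
          exact ⟨j, by simpa using congrArg Subtype.val hj⟩
        set U1 := (Cfsg.upperPSeries p G (2 * (2 * k) + 1)).1 with hU1
        set U2 := (Cfsg.upperPSeries p G (2 * (2 * k + 1) + 1)).1 with hU2
        have hO1 : Cfsg.pPrimeCore p (G ⧸ U1) = ⊥ := by
          exact CfsgLib.PLocal.pPrimeCore_quotient_upper_odd (G := G) (p := p) (2 * k)
        have h42 : ∀ x : G, QuotientGroup.mk' U1 x ∈ Cfsg.pCore p (G ⧸ U1) → x ∈ U2 := by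
          intro x hx
          refine CfsgLib.PLocal.upper_succ_ge (2 * (2 * k) + 2) ?_
          rw [CfsgLib.PLocal.upper_even]
          exact hx
        have h12 : U1 ≤ U2 := fun x hx => h42 x (by
          rw [show QuotientGroup.mk' U1 x = 1 from (QuotientGroup.eq_one_iff x).2 hx]
          exact one_mem _)
        have hT : ∀ P : Subgroup (G ⧸ U2), IsPGroup p P → ∀ x ∈ P, ∀ y ∈ P,
            ⁅x ^ p ^ e', y ^ p ^ e'⁆ = 1 := by
          intro P hP x hx y hy
          obtain ⟨S, hS⟩ := exists_sylow_cover (QuotientGroup.mk'_surjective U2) hP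
          obtain ⟨x', hx', rfl⟩ := hS hx
          obtain ⟨y', hy', rfl⟩ := hS hy
          rw [← map_pow, ← map_pow, ← map_commutatorElement]
          refine (QuotientGroup.eq_one_iff _).2 (h42 _ ?_)
          rw [map_commutatorElement, map_pow, map_pow]
          exact CfsgLib.Core.HHTop.tops_commutator_mem_pCore hp
            (CfsgLib.PLocal.isPSolvable_quotient hG U1) hO1 (hexpq U1 le_rfl)
            (S.2.map (QuotientGroup.mk' U1)) (Subgroup.mem_map_of_mem _ hx') (Subgroup.mem_map_of_mem _ hy')
        have h1 := CfsgLib.Core.HHTop.pow_mem_pCore_of_tops_commute hp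
          (CfsgLib.PLocal.isPSolvable_quotient hG U2)
          (CfsgLib.PLocal.pPrimeCore_quotient_upper_odd (2 * k + 1))
          (hexpq U2 h12) hT (y := QuotientGroup.mk' U2 g)
          (by obtain ⟨i, hi⟩ := hg; exact ⟨i, by rw [← map_pow, hi, map_one]⟩)
        rw [show 2 * (2 * (k + 1)) + 1 = 2 * (2 * k + 1) + 2 + 1 by ring]
        refine CfsgLib.PLocal.upper_succ_ge _ ?_
        rw [CfsgLib.PLocal.upper_even]
        show QuotientGroup.mk' U2 (g ^ p ^ e') ∈ Cfsg.pCore p (G ⧸ U2)
        rw [map_pow]; exact h1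
    show (Cfsg.upperPSeries p G (2 * (2 * e) + 1)).1 = ⊤
    set W := (Cfsg.upperPSeries p G (2 * (2 * e) + 1)).1 with hW
    obtain ⟨P⟩ : Nonempty (Sylow p G) := inferInstance
    have hPW : (P : Subgroup G) ≤ W := fun g hg => by
      have := main e le_rfl g (by
        obtain ⟨j, hj⟩ := P.2 ⟨g, hg⟩
        exact ⟨j, by simpa using congrArg Subtype.val hj⟩)
      rw [← hW] at this
      rwa [Nat.sub_self, pow_zero, pow_one] at this
    have hcop : (Nat.card (⊤ : Subgroup (G ⧸ W))).Coprime p := by
      rw [Subgroup.card_top, ← Subgroup.index_eq_card, Nat.coprime_comm,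
        (Fact.out : p.Prime).coprime_iff_not_dvd]
      exact fun h => P.not_dvd_index (h.trans (Subgroup.index_dvd_of_le hPW))
    have h2 := (le_pPrimeCore hcop).trans (CfsgLib.PLocal.pPrimeCore_quotient_upper_odd (G := G) (p := p) (2 * e)).le
    rw [← QuotientGroup.ker_mk' W, MonoidHom.ker_eq_top_iff]
    ext x
    exact Subgroup.mem_bot.mp (h2 (Subgroup.mem_top _))


end Cfsg.Agent.S3786
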