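import Cfsg.Statements.S3787
import Mathlib
import Cfsg.Agent.Lib.Core.HHCritical.PLengthStep
import Cfsg.Agent.Lib.Fusion.Sections
-- import your own Cfsg.Agent.* helpers here

set_option autoImplicit false
open Cfsg

set_option linter.all false

namespace Cfsg.Agent.S3787

open CfsgLib.Core CfsgLib.Core.HHCritical
open scoped Pointwise

theorem card_sup_eq_mul {X : Type*} [Group X] [Finite X] {N H : Subgroup X} [N.Normal]
    (hd : N ⊓ H = ⊥) :
    Nat.card (H ⊔ N : Subgroup X) = Nat.card H * Nat.card N := by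
  have h1 : N.relIndex (H ⊔ N) = Nat.card H := by
    rw [Subgroup.relIndex_sup_right, ← Subgroup.inf_relIndex_right, hd,
      Subgroup.relIndex_bot_left]
  rw [← Subgroup.relIndex_bot_left (H ⊔ N),
    ← Subgroup.relIndex_mul_relIndex ⊥ N (H ⊔ N) bot_le le_sup_right, h1,
    Subgroup.relIndex_bot_left, mul_comm]

/-- The shape of the wreath product of two groups of order `p`. -/
def WreathShape (p : ℕ) (W : Type*) [Group W] : Prop :=
  ∃ (B : Subgroup W) (t : W), B.Normal ∧ IsMulCommutative B ∧ (∀ b ∈ B, b ^ p = 1) ∧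
    Nat.card B = p ^ p ∧ orderOf t = p ∧ t ∉ B ∧ Nat.card W = p ^ (p + 1) ∧
    Nat.card ↥(B ⊓ Subgroup.centralizer ({t} : Set W)) = p

/-- An element of order `p` modulo an elementary abelian normal subgroup whose norm there is not
trivial gives a section `C_p ≀ C_p`. -/
theorem wreath_section {X : Type*} [Group X] [Finite X] {p : ℕ} [hp : Fact p.Prime]
    (V : Subgroup X) [V.Normal] (hVc : ∀ v ∈ V, ∀ w ∈ V, v * w = w * v) (hVp : ∀ v ∈ V, v ^ p = 1)
    {a : X} (hap : a ^ p ∈ V) (haV : a ∉ V) (v₀ : V) (hne : ((v₀ : X) * a) ^ p ≠ a ^ p) :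
    ∃ (J : Subgroup X) (K : Subgroup J) (_ : K.Normal), IsPGroup p J ∧ WreathShape p (J ⧸ K) := by
  classical
  letI : CommGroup V :=
    { (inferInstance : Group V) with mul_comm := fun v w => Subtype.ext (hVc v v.2 w w.2) }
  let cj : V →* V := (MulAut.conjNormal a : MulAut V).toMonoidHom
  have hcj : ∀ w : V, (cj w : X) = a * w * a⁻¹ := fun w => MulAut.conjNormal_apply a w
  let d : V →* V := cj / MonoidHom.id V
  have hd : ∀ w : V, d w = cj w / w := fun w => rfl
  let T : AddMonoid.End (Additive V) := MonoidHom.toAdditive cj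
  let D : AddMonoid.End (Additive V) := T - 1
  have hT : ∀ w : V, T (Additive.ofMul w) = Additive.ofMul (cj w) := fun w => rfl
  have hD : ∀ (j : ℕ) (w : V), (D ^ j) (Additive.ofMul w) = Additive.ofMul ((⇑d)^[j] w) := by
    intro j w
    induction j with
    | zero => rfl
    | succ j ih =>
      rw [pow_succ']
      show D ((D ^ j) (Additive.ofMul w)) = _
      rw [ih, Function.iterate_succ_apply', hd, ofMul_div]
      rfl
  have hp0 : (p : AddMonoid.End (Additive V)) = 0 := DFunLike.ext _ _ fun q => by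
    rw [AddMonoid.End.natCast_apply]
    exact Additive.toMul.injective (Subtype.ext (by simpa using hVp _ (Additive.toMul q).2))
  haveI : Nontrivial V := by
    refine ⟨v₀, 1, fun h => hne ?_⟩
    rw [h, Subgroup.coe_one, one_mul]
  haveI : Nontrivial (AddMonoid.End (Additive V)) := by
    obtain ⟨w, hw⟩ := exists_ne (1 : V)
    exact ⟨1, 0, fun h => hw (Additive.ofMul.injective (DFunLike.congr_fun h (Additive.ofMul w)))⟩
  haveI : CharP (AddMonoid.End (Additive V)) p := (CharP.charP_iff_prime_eq_zero hp.out).mpr hp0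
  letI : Algebra (ZMod p) (AddMonoid.End (Additive V)) := ZMod.algebra _ p
  have hTp : T ^ p = 1 := DFunLike.ext _ _ fun q => by
    have hpow : ∀ (n : ℕ) (w : V), (((Additive.toMul ((T ^ n) (Additive.ofMul w))) : V) : X) =
        a ^ n * w * (a ^ n)⁻¹ := by
      intro n w
      induction n with
      | zero => simp
      | succ n ih =>
        rw [pow_succ']
        show (((Additive.toMul (T ((T ^ n) (Additive.ofMul w)))) : V) : X) = _
        rw [← ofMul_toMul ((T ^ n) (Additive.ofMul w)), hT, toMul_ofMul, hcj, ih, pow_succ']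
        simp only [mul_inv_rev, mul_assoc]
    refine Additive.toMul.injective (Subtype.ext ?_)
    rw [← ofMul_toMul q, hpow, hVc _ hap _ (Additive.toMul q).2, mul_inv_cancel_right]
    rfl
  have hDp : D ^ p = 0 := by
    show (T - 1) ^ p = 0
    have h := sub_pow_char_pow_of_commute p 1 (Commute.one_right T)
    rw [pow_one, one_pow] at h
    rw [h, hTp, sub_self]
  have hN : D ^ (p - 1) = ∑ i ∈ Finset.range p, T ^ i := by
    have h := congrArg (Polynomial.aeval T) (poly_sub_one_pow (K := ZMod p) p 1)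
    simp only [pow_one, map_pow, map_sub, Polynomial.aeval_X, map_one, map_sum] at h
    exact h
  have hS : ∀ (v : V) (k : ℕ), ((v : X) * a) ^ k =
      ((Additive.toMul ((∑ i ∈ Finset.range k, T ^ i) (Additive.ofMul v)) : V) : X) * a ^ k := by
    intro v k
    induction k with
    | zero => simp
    | succ k ih =>
      have hTk : ∀ n : ℕ, ((Additive.toMul ((T ^ n) (Additive.ofMul v)) : V) : X) =
          a ^ n * v * (a ^ n)⁻¹ := by
        intro n
        induction n with
        | zero => simp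
        | succ n ihn =>
          rw [pow_succ']
          show (((Additive.toMul (T ((T ^ n) (Additive.ofMul v)))) : V) : X) = _
          rw [← ofMul_toMul ((T ^ n) (Additive.ofMul v)), hT, toMul_ofMul, hcj, ihn, pow_succ']
          simp only [mul_inv_rev, mul_assoc]
      have hadd : ∀ f g : AddMonoid.End (Additive V), ∀ w, (f + g) w = f w + g w := fun _ _ _ => rfl
      rw [Finset.sum_range_succ, hadd, toMul_add, Subgroup.coe_mul, hTk, pow_succ, ih, pow_succ]
      group
  have hpowN : ∀ w : V, ((w : X) * a) ^ p = (((⇑d)^[p - 1] w : V) : X) * a ^ p := fun w => by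
    rw [hS, ← hN, hD, toMul_ofMul]
  set e : ℕ → V := fun j => (⇑d)^[j] v₀ with he
  have he_succ : ∀ j, e (j + 1) = d (e j) := fun j => Function.iterate_succ_apply' d j v₀
  have hne1 : e (p - 1) ≠ 1 := fun h => hne (by
    rw [hpowN]
    show ((e (p - 1) : V) : X) * a ^ p = _
    rw [h, Subgroup.coe_one, one_mul])
  have hep : ∀ j, p ≤ j → e j = 1 := by
    intro j hj
    obtain ⟨i, rfl⟩ := Nat.exists_eq_add_of_le hj
    refine Additive.ofMul.injective ?_
    show Additive.ofMul ((⇑d)^[p + i] v₀) = _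
    rw [← hD, pow_add, hDp, zero_mul]
    rfl
  let M : ℕ → Subgroup V := fun k => Subgroup.closure {w | ∃ j, k ≤ j ∧ e j = w}
  have hMe : ∀ k j, k ≤ j → e j ∈ M k := fun k j h => Subgroup.subset_closure ⟨j, h, rfl⟩
  have hMsucc : ∀ k, M k = Subgroup.zpowers (e k) ⊔ M (k + 1) := by
    intro k
    refine le_antisymm ((Subgroup.closure_le _).2 ?_) (sup_le ?_ ?_)
    · rintro _ ⟨j, hj, rfl⟩
      rcases hj.eq_or_lt with rfl | hj
      · exact Subgroup.mem_sup_left (Subgroup.mem_zpowers _)
      · exact Subgroup.mem_sup_right (hMe _ _ hj)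
    · exact Subgroup.zpowers_le.2 (hMe _ _ le_rfl)
    · exact Subgroup.closure_mono fun w ⟨j, hj, h⟩ => ⟨j, by omega, h⟩
  have hMtop : ∀ k, p ≤ k → M k = ⊥ := fun k hk => by
    rw [eq_bot_iff, Subgroup.closure_le]
    rintro _ ⟨j, hj, rfl⟩
    exact hep j (hk.trans hj)
  have hdM : ∀ k, ∀ w ∈ M k, d w ∈ M (k + 1) := by
    intro k w hw
    have : M k ≤ (M (k + 1)).comap d := by
      rw [Subgroup.closure_le]
      rintro _ ⟨j, hj, rfl⟩
      show d (e j) ∈ M (k + 1)
      rw [← he_succ]
      exact hMe _ _ (by omega)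
    exact this hw
  have hnotmem : ∀ k, k < p → e k ∉ M (k + 1) := by
    intro k hk hmem
    have hit : ∀ (n : ℕ), ∀ w ∈ M (k + 1), (⇑d)^[n] w ∈ M (k + 1 + n) := by
      intro n
      induction n with
      | zero => intro w hw; exact hw
      | succ n ih =>
        intro w hw
        rw [Function.iterate_succ_apply', ← add_assoc]
        exact hdM _ _ (ih w hw)
    have h2 := hit (p - 1 - k) _ hmem
    rw [hMtop _ (by omega), Subgroup.mem_bot, he, ← Function.iterate_add_apply,
      show p - 1 - k + k = p - 1 by omega] at h2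
    exact hne1 h2
  have hord : ∀ k, k < p → orderOf (e k) = p := fun k hk =>
    orderOf_eq_prime (Subtype.ext (by simpa using hVp _ (e k).2))
      fun h => hnotmem k hk (h ▸ one_mem _)
  have hdisj : ∀ k, k < p → M (k + 1) ⊓ Subgroup.zpowers (e k) = ⊥ := by
    intro k hk
    rw [eq_bot_iff]
    rintro w ⟨h1, h2⟩
    obtain ⟨i, rfl⟩ := Subgroup.mem_zpowers_iff.1 h2
    rw [Subgroup.mem_bot]
    by_contra hi
    refine hnotmem k hk ?_
    have hcop : Int.gcd i (p : ℤ) = 1 := by
      rw [Int.gcd_comm]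
      refine ((Nat.prime_iff_prime_int.1 hp.out).coprime_iff_not_dvd.2 fun hdvd => hi ?_) |> fun h =>
        Int.isCoprime_iff_gcd_eq_one.1 h
      rw [← orderOf_dvd_iff_zpow_eq_one, hord k hk]
      exact hdvd
    obtain ⟨x, y, hxy⟩ := Int.isCoprime_iff_gcd_eq_one.2 hcop
    have : e k = (e k ^ i) ^ x := by
      rw [← zpow_mul]
      conv_lhs => rw [← zpow_one (e k), ← hxy, zpow_add, mul_comm x i, zpow_mul (e k) y,
        zpow_natCast]
      rw [show ((e k) ^ y) ^ p = 1 from Subtype.ext (by simpa using hVp _ (e k ^ y).2), mul_one]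
    rw [this]
    exact Subgroup.zpow_mem _ h1 x
  have hcardM : ∀ i, i ≤ p → Nat.card (M (p - i)) = p ^ i := by
    intro i
    induction i with
    | zero => intro _; rw [Nat.sub_zero, hMtop p le_rfl, Subgroup.card_bot, pow_zero]
    | succ i ih =>
      intro hi
      have h1 : p - (i + 1) + 1 = p - i := by omega
      rw [hMsucc, card_sup_eq_mul (hdisj _ (by omega)),
        Nat.card_zpowers, hord _ (by omega), h1, ih (by omega), pow_succ']
  have hfix : ∀ k, k ≤ p - 1 → ∀ w ∈ M k, d w = 1 → w ∈ M (p - 1) := by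
    intro k hk
    induction hn : p - 1 - k generalizing k with
    | zero =>
      intro w hw _
      rwa [show p - 1 = k by omega]
    | succ n ih =>
      intro w hw hdw
      refine ih (k + 1) (by omega) (by omega) w ?_ hdw
      rw [hMsucc, Subgroup.mem_sup] at hw
      obtain ⟨_, hu, y, hy, rfl⟩ := hw
      obtain ⟨i, rfl⟩ := Subgroup.mem_zpowers_iff.1 hu
      rw [map_mul, map_zpow, ← he_succ, mul_eq_one_iff_eq_inv] at hdw
      have hmem : e (k + 1) ^ i ∈ M (k + 2) ⊓ Subgroup.zpowers (e (k + 1)) :=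
        Subgroup.mem_inf.2 ⟨hdw ▸ Subgroup.inv_mem _ (hdM _ _ hy),
          Subgroup.zpow_mem _ (Subgroup.mem_zpowers _) i⟩
      rw [hdisj (k + 1) (by omega), Subgroup.mem_bot, ← orderOf_dvd_iff_zpow_eq_one,
        hord (k + 1) (by omega), ← hord k (by omega), orderOf_dvd_iff_zpow_eq_one] at hmem
      rw [hmem, one_mul]
      exact hy
  -- down to `X`
  set MX : Subgroup X := (M 0).map V.subtype with hMX
  have hMXV : MX ≤ V := Subgroup.map_subtype_le _
  have hcd : ∀ w : V, a * w * a⁻¹ = (d w : X) * w := fun w => by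
    rw [← hcj, hd, ← Subgroup.coe_mul, div_mul_cancel]
  obtain ⟨w₀, hw₀⟩ : ∃ w₀ : V, Subgroup.zpowers (((w₀ : X) * a) ^ p) ⊓ MX = ⊥ := by
    by_cases hc : a ^ p ∈ MX
    · obtain ⟨c, hcM, hc'⟩ := hc
      have hdc : d c = 1 := Subtype.ext (by
        have h := hcd c
        rw [show (c : X) = a ^ p from hc', (Commute.self_pow a p).eq, mul_inv_cancel_right] at h
        exact mul_eq_right.1 h.symm)
      have hcz := hfix 0 (Nat.zero_le _) c hcM hdc
      rw [hMsucc, hMtop _ (by omega), sup_bot_eq] at hcz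
      obtain ⟨i, hi⟩ := Subgroup.mem_zpowers_iff.1 hcz
      refine ⟨v₀ ^ (-i), ?_⟩
      have hit : ∀ n : ℕ, (⇑d)^[n] (v₀ ^ (-i)) = ((⇑d)^[n] v₀) ^ (-i) := by
        intro n
        induction n with
        | zero => rfl
        | succ n ih =>
          rw [Function.iterate_succ_apply', Function.iterate_succ_apply', ih, map_zpow]
      rw [hpowN, hit, ← show (c : X) = a ^ p from hc', ← hi, ← Subgroup.coe_mul, ← zpow_add,
        neg_add_cancel, zpow_zero, Subgroup.coe_one, Subgroup.zpowers_one_eq_bot, bot_inf_eq]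
    · refine ⟨1, ?_⟩
      rw [Subgroup.coe_one, one_mul, eq_bot_iff]
      rintro x ⟨hx, hxM⟩
      obtain ⟨i, rfl⟩ := Subgroup.mem_zpowers_iff.1 hx
      rw [Subgroup.mem_bot]
      by_contra hi
      refine hc ?_
      have hpc : (a ^ p) ^ p = 1 := hVp _ hap
      have hcop : IsCoprime i (p : ℤ) :=
        (((Nat.prime_iff_prime_int.1 hp.out).coprime_iff_not_dvd).2 fun hdvd => hi (by
          obtain ⟨j, rfl⟩ := hdvd
          rw [zpow_mul, zpow_natCast, hpc, one_zpow])).symm
      obtain ⟨x, y, hxy⟩ := hcop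
      have : a ^ p = ((a ^ p) ^ i) ^ x := by
        rw [← zpow_mul]
        conv_lhs => rw [← zpow_one (a ^ p), ← hxy, zpow_add, mul_comm x i, mul_comm y (p : ℤ),
          zpow_mul (a ^ p) (p : ℤ), zpow_natCast, hpc, one_zpow, mul_one]
      rw [this]
      exact Subgroup.zpow_mem _ hxM x
  set a' : X := (w₀ : X) * a with ha'
  have ha'V : a' ∉ V := fun h => haV (by
    have := mul_mem (inv_mem w₀.2) h
    rwa [ha', inv_mul_cancel_left] at this)
  have ha'p : a' ^ p ∈ V := by
    rw [ha', hpowN]
    exact mul_mem (SetLike.coe_mem _) hap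
  have hconj : ∀ w : V, a' * w * a'⁻¹ = (d w : X) * w := fun w => by
    rw [← hcd, ha', mul_inv_rev, show (w₀ : X) * a * w * (a⁻¹ * (w₀ : X)⁻¹) =
      (w₀ : X) * (a * w * a⁻¹) * (w₀ : X)⁻¹ by simp only [mul_assoc],
      hVc _ w₀.2 _ ((inferInstance : V.Normal).conj_mem _ w.2 a), mul_inv_cancel_right]
  have hnormM : Subgroup.zpowers a' ≤ Subgroup.normalizer (MX : Set X) := by
    rw [Subgroup.zpowers_le, Subgroup.mem_normalizer_iff_map_conj_eq]
    refine Subgroup.eq_of_le_of_card_ge ?_
      (Subgroup.card_map_of_injective (f := (MulAut.conj a').toMonoidHom)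
        (MulAut.conj a').injective).ge
    rintro _ ⟨_, ⟨w, hw, rfl⟩, rfl⟩
    refine ⟨d w * w, mul_mem (?_ : d w ∈ M 0) hw, ?_⟩
    · have : M (0 + 1) ≤ M 0 := by rw [hMsucc 0]; exact le_sup_right
      exact this (hdM 0 w hw)
    · show ((d w : X) * w) = _
      rw [← hconj]; rfl
  set J : Subgroup X := Subgroup.zpowers a' ⊔ MX with hJ
  have hMJ : MX ≤ J := le_sup_right
  have haJ : a' ∈ J := Subgroup.mem_sup_left (Subgroup.mem_zpowers a')
  set K : Subgroup J := (Subgroup.zpowers (a' ^ p)).subgroupOf J with hK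
  have hKV : Subgroup.zpowers (a' ^ p) ≤ V := Subgroup.zpowers_le.2 ha'p
  have hKcen : J ≤ Subgroup.centralizer (Subgroup.zpowers (a' ^ p) : Set X) := by
    refine sup_le (Subgroup.zpowers_le.2 (Subgroup.mem_centralizer_iff.2 fun c hc => ?_)) ?_
    · obtain ⟨i, rfl⟩ := Subgroup.mem_zpowers_iff.1 hc
      exact ((Commute.pow_self a' p).zpow_left i).eq
    · exact fun w hw => Subgroup.mem_centralizer_iff.2 fun c hc => hVc c (hKV hc) w (hMXV hw)
  have hKn : K.Normal := ⟨fun c hc g => by
    rw [hK, Subgroup.mem_subgroupOf] at hc ⊢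
    rw [Subgroup.coe_mul, Subgroup.coe_mul, Subgroup.coe_inv,
      ← Subgroup.mem_centralizer_iff.1 (hKcen g.2) _ hc, mul_inv_cancel_right]
    exact hc⟩
  haveI := hKn
  refine ⟨J, K, hKn, ?_, ?_⟩
  · -- `J` is a `p`-group
    have hle : J ≤ (Subgroup.zpowers (QuotientGroup.mk' V a')).comap (QuotientGroup.mk' V) :=
      sup_le (Subgroup.zpowers_le.2 (Subgroup.mem_zpowers _)) fun w hw => by
        rw [Subgroup.mem_comap,
          show QuotientGroup.mk' V w = 1 from (QuotientGroup.eq_one_iff w).2 (hMXV hw)]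
        exact one_mem _
    refine IsPGroup.to_le (IsPGroup.comap_of_ker_isPGroup ?_ _ ?_) hle
    · refine IsPGroup.of_card (n := 1) ?_
      rw [Nat.card_zpowers, pow_one]
      refine orderOf_eq_prime ?_ fun h => ha'V ((QuotientGroup.eq_one_iff a').1 h)
      rw [← map_pow]; exact (QuotientGroup.eq_one_iff _).2 ha'p
    · rw [QuotientGroup.ker_mk']
      intro w
      exact ⟨1, Subtype.ext (by simpa using hVp _ w.2)⟩
  · set ι := QuotientGroup.mk' K with hι
    let j : MX →* J ⧸ K := ι.comp (Subgroup.inclusion hMJ)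
    have hjinj : Function.Injective j := by
      rw [injective_iff_map_eq_one]
      intro w hw
      have h1 : Subgroup.inclusion hMJ w ∈ K := (QuotientGroup.eq_one_iff _).1 hw
      rw [hK, Subgroup.mem_subgroupOf] at h1
      have h2 : (w : X) ∈ Subgroup.zpowers (a' ^ p) ⊓ MX := ⟨h1, w.2⟩
      rw [hw₀, Subgroup.mem_bot] at h2
      exact Subtype.ext h2
    set B : Subgroup (J ⧸ K) := j.range with hB
    set t : J ⧸ K := ι ⟨a', haJ⟩ with ht
    have hBcard : Nat.card B = p ^ p := by
      rw [hB, Nat.card_congr (MonoidHom.ofInjective hjinj).toEquiv.symm, hMX,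
        Subgroup.card_map_of_injective V.subtype_injective]
      have := hcardM p le_rfl
      rwa [Nat.sub_self] at this
    have hBn : B.Normal := by
      rw [show B = (MX.subgroupOf J).map ι by
        rw [hB]; exact (by
          ext x
          constructor
          · rintro ⟨w, rfl⟩; exact ⟨Subgroup.inclusion hMJ w, w.2, rfl⟩
          · rintro ⟨w, hw, rfl⟩; exact ⟨⟨w, hw⟩, rfl⟩)]
      refine Subgroup.Normal.map ?_ ι (QuotientGroup.mk'_surjective K)
      refine Subgroup.normal_subgroupOf_iff_le_normalizer hMJ |>.2 ?_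
      exact sup_le hnormM Subgroup.le_normalizer
    have hto : orderOf t = p := by
      refine orderOf_eq_prime ?_ fun h => ha'V ?_
      · rw [ht, ← map_pow]
        refine (QuotientGroup.eq_one_iff _).2 ?_
        rw [hK, Subgroup.mem_subgroupOf]
        exact Subgroup.mem_zpowers _
      · have h1 : (⟨a', haJ⟩ : J) ∈ K := (QuotientGroup.eq_one_iff _).1 h
        rw [hK, Subgroup.mem_subgroupOf] at h1
        exact hKV h1
    have htB : t ∉ B := by
      rintro ⟨w, hw⟩
      have h1 := QuotientGroup.eq.1 (show ((Subgroup.inclusion hMJ w : J) : J ⧸ K) =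
        ((⟨a', haJ⟩ : J) : J ⧸ K) from hw)
      rw [hK, Subgroup.mem_subgroupOf, Subgroup.coe_mul, Subgroup.coe_inv] at h1
      refine ha'V ?_
      have := mul_mem (hMXV w.2) (hKV h1)
      simpa using this
    refine ⟨B, t, hBn, ?_, ?_, hBcard, hto, htB, ?_, ?_⟩
    · refine ⟨⟨?_⟩⟩
      rintro ⟨_, w, rfl⟩ ⟨_, u, rfl⟩
      refine Subtype.ext ?_
      show j w * j u = j u * j w
      rw [← map_mul, ← map_mul]
      exact congrArg j (Subtype.ext (hVc _ (hMXV w.2) _ (hMXV u.2)))
    · rintro _ ⟨w, rfl⟩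
      rw [← map_pow, show w ^ p = 1 from Subtype.ext (by simpa using hVp _ (hMXV w.2)), map_one]
    · haveI := hBn
      have hdis : B ⊓ Subgroup.zpowers t = ⊥ := by
        rw [eq_bot_iff]
        rintro x ⟨h1, h2⟩
        rw [Subgroup.mem_bot]
        by_contra hx
        obtain ⟨i, rfl⟩ := Subgroup.mem_zpowers_iff.1 h2
        have hsub : Subgroup.zpowers t ≤ B := by
          have hle : Subgroup.zpowers (t ^ i) ≤ Subgroup.zpowers t :=
            Subgroup.zpowers_le.2 (Subgroup.zpow_mem _ (Subgroup.mem_zpowers t) i)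
          have hpt : Nat.card (Subgroup.zpowers t) = p := by rw [Nat.card_zpowers, hto]
          rw [← Subgroup.eq_of_le_of_card_ge hle (by
            rw [hpt, Nat.card_zpowers]
            rcases (Nat.dvd_prime hp.out).1 (hto ▸ orderOf_dvd_of_mem_zpowers h2) with h | h
            · exact absurd (orderOf_eq_one_iff.1 h) hx
            · exact h.ge)]
          exact Subgroup.zpowers_le.2 h1
        exact htB (hsub (Subgroup.mem_zpowers t))
      have htop : Subgroup.zpowers t ⊔ B = ⊤ := by
        rw [eq_top_iff]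
        intro x _
        obtain ⟨⟨g, hg⟩, rfl⟩ := QuotientGroup.mk'_surjective K x
        rw [hJ] at hg
        obtain ⟨u, hu, w, hw, huw⟩ := (mem_sup_iff_mul hnormM).1 hg
        obtain ⟨i, rfl⟩ := Subgroup.mem_zpowers_iff.1 hu
        have e1 : (⟨g, hg⟩ : J) = (⟨a', haJ⟩ : J) ^ i * Subgroup.inclusion hMJ ⟨w, hw⟩ :=
          Subtype.ext (by rw [Subgroup.coe_mul, SubgroupClass.coe_zpow]; exact huw)
        rw [show ι ⟨g, hg⟩ = t ^ i * j ⟨w, hw⟩ by rw [e1, map_mul, map_zpow]; rfl]
        exact mul_mem (Subgroup.mem_sup_left (Subgroup.zpow_mem _ (Subgroup.mem_zpowers t) i))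
          (Subgroup.mem_sup_right ⟨_, rfl⟩)
      have := card_sup_eq_mul hdis
      rw [htop, Subgroup.card_top, Nat.card_zpowers, hto, hBcard] at this
      rw [this, pow_succ']
    · -- the fixed points
      have hmem : ∀ x, x ∈ B ⊓ Subgroup.centralizer ({t} : Set (J ⧸ K)) ↔
          ∃ w : MX, (∃ u ∈ M (p - 1), ((u : V) : X) = w) ∧ j w = x := by
        intro x
        constructor
        · rintro ⟨⟨w, rfl⟩, hc⟩
          refine ⟨w, ?_, rfl⟩
          obtain ⟨u, hu, huw⟩ := w.2
          refine ⟨u, hfix 0 (Nat.zero_le _) u hu ?_, huw⟩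
          replace hc := Subgroup.mem_centralizer_singleton_iff.1 hc
          have h1 := QuotientGroup.eq.1 (show ((Subgroup.inclusion hMJ w * ⟨a', haJ⟩ : J) : J ⧸ K) =
            (((⟨a', haJ⟩ : J) * Subgroup.inclusion hMJ w : J) : J ⧸ K) from hc)
          rw [hK, Subgroup.mem_subgroupOf] at h1
          simp only [Subgroup.coe_mul, Subgroup.coe_inv, Subgroup.coe_inclusion, mul_inv_rev] at h1
          -- the commutator lies in the subgroup of the central element and in `MX`
          have e0 : (w : X) = (u : X) := huw.symm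
          rw [e0] at h1
          have e1 : a'⁻¹ * (u : X)⁻¹ * (a' * u) = a'⁻¹ * ((u : X)⁻¹ * ((d u : X) * u)) * a' := by
            rw [← hconj]; group
          rw [e1, hVc _ (d u).2 _ u.2, inv_mul_cancel_left] at h1
          have h3 : (d u : X) ∈ Subgroup.zpowers (a' ^ p) := by
            have h4 := Subgroup.mem_centralizer_iff.1 (hKcen haJ) _ h1
            have h5 : (d u : X) = a' * (a'⁻¹ * (d u : X) * a') * a'⁻¹ := by group
            rw [h5, ← h4, mul_inv_cancel_right]
            exact h1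
          have h6 : (d u : X) ∈ Subgroup.zpowers (a' ^ p) ⊓ MX := ⟨h3, d u, by
            have : M (0 + 1) ≤ M 0 := by rw [hMsucc 0]; exact le_sup_right
            exact this (hdM 0 u hu), rfl⟩
          rw [hw₀, Subgroup.mem_bot] at h6
          exact Subtype.ext h6
        · rintro ⟨w, ⟨u, hu, huw⟩, rfl⟩
          refine Subgroup.mem_inf.2 ⟨⟨w, rfl⟩, Subgroup.mem_centralizer_singleton_iff.2 ?_⟩
          have hdu : d u = 1 := by
            have := hdM _ _ hu
            rw [hMtop _ (by omega), Subgroup.mem_bot] at this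
            exact this
          have h7 : a' * u = (u : X) * a' := by
            have := hconj u
            rw [hdu, Subgroup.coe_one, one_mul, mul_inv_eq_iff_eq_mul] at this
            exact this
          show ι _ * ι _ = ι _ * ι _
          rw [← map_mul, ← map_mul]
          exact congrArg ι (Subtype.ext (by
            simp only [Subgroup.coe_mul, Subgroup.coe_inclusion]
            rw [← show ((u : V) : X) = w from huw, h7]))
      let φ : M (p - 1) →* J ⧸ K := j.comp
        { toFun := fun u => ⟨((u : V) : X), (u : V), (by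
            have h0 : ∀ n, M n ≤ M 0 := fun n => by
              induction n with
              | zero => exact le_rfl
              | succ n ih => exact le_trans (by rw [hMsucc n]; exact le_sup_right) ih
            exact h0 _ u.2), rfl⟩
          map_one' := rfl
          map_mul' := fun _ _ => rfl }
      have hφinj : Function.Injective φ := fun u u' h =>
        Subtype.ext (Subtype.ext (congrArg Subtype.val (hjinj h) : _))
      have hrange : φ.range = B ⊓ Subgroup.centralizer ({t} : Set (J ⧸ K)) := by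
        ext x
        rw [hmem]
        constructor
        · rintro ⟨u, rfl⟩
          exact ⟨_, ⟨u, u.2, rfl⟩, rfl⟩
        · rintro ⟨w, ⟨u, hu, huw⟩, rfl⟩
          exact ⟨⟨u, hu⟩, congrArg j (Subtype.ext huw)⟩
      rw [← hrange, Nat.card_congr (MonoidHom.ofInjective hφinj).toEquiv.symm]
      have := hcardM 1 hp.out.one_le
      rwa [pow_one] at this


set_option maxHeartbeats 1600000 in
/-- Let G be a finite p-soluble group, p an odd prime not of the form 2^k + 1, and suppose the wreath product C_p ≀ C_p (of order p^(p+1)) is not involved in a Sylow p-subgroup of G: no section of a Sylow p-subgroup is isomorphic to it. Then G has p-length at most 1. -/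
theorem result {G : Type*} [Group G] [Finite G] {p : ℕ} [Fact p.Prime] (hp2 : p ≠ 2) (hnf : (¬ ∃ k : ℕ, p = 2 ^ k + 1)) (hG : Cfsg.IsPSolvable p G) (P : Sylow p G) (hwr : ∀ (W : Type) [Group W] [Finite W], (∃ (B : Subgroup W) (t : W), B.Normal ∧ IsMulCommutative B ∧ (∀ b ∈ B, b ^ p = 1) ∧ Nat.card B = p ^ p ∧ orderOf t = p ∧ t ∉ B ∧ Nat.card W = p ^ (p + 1) ∧ Nat.card ↥(B ⊓ Subgroup.centralizer ({t} : Set W)) = p) → ¬ Cfsg.Involves W ↥(P : Subgroup G)) : Cfsg.PLengthLE p 1 G := by
  classical
  set U := (Cfsg.upperPSeries p G (2 * 0 + 1)).1 with hU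
  set H := G ⧸ U
  have hs := QuotientGroup.mk'_surjective U
  have hsolH : Cfsg.IsPSolvable p H := CfsgLib.PLocal.isPSolvable_quotient hG U
  have hOH : Cfsg.pPrimeCore p H = ⊥ := CfsgLib.PLocal.pPrimeCore_quotient_upper_odd 0
  obtain ⟨Φ, hΦn, V, hVn, hVR, hΦR, hVc, hVp, hCV, hOX⟩ :=
    CfsgLib.PGroups.frattini_module hsolH hOH
  set ψ := QuotientGroup.mk' Φ with hψ
  have hψs := QuotientGroup.mk'_surjective Φ
  set π := QuotientGroup.mk' V with hπ
  have hπs := QuotientGroup.mk'_surjective V
  have hsolX : Cfsg.IsPSolvable p ((H ⧸ Φ) ⧸ V) :=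
    CfsgLib.PLocal.isPSolvable_quotient (CfsgLib.PLocal.isPSolvable_quotient hsolH Φ) V
  -- there are no elements of order `p` above `O_p`
  have hno : ¬ p ∣ Nat.card ((H ⧸ Φ) ⧸ V) := by
    intro hdvd
    obtain ⟨b, hb⟩ := exists_prime_orderOf_dvd_card' p hdvd
    set Qb := Cfsg.pPrimeCore p ((H ⧸ Φ) ⧸ V) with hQb
    have hQc : (Nat.card Qb).Coprime p := coprime_card_pPrimeCore p _
    have hnc : b ∉ Subgroup.centralizer (Qb : Set ((H ⧸ Φ) ⧸ V)) := by
      intro hc
      have h1 := CfsgLib.PGroups.centralizer_pPrimeCore_le hsolX hOX hc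
      have h2 := Subgroup.orderOf_dvd_natCard Qb h1
      rw [hb] at h2
      exact (Fact.out : p.Prime).ne_one (Nat.eq_one_of_dvd_coprimes hQc h2 dvd_rfl)
    have hbN : Subgroup.zpowers b ≤ Subgroup.normalizer (Qb : Set ((H ⧸ Φ) ⧸ V)) :=
      Subgroup.le_normalizer_of_normal
    have hbc : (Nat.card (Subgroup.zpowers b)).Coprime (Nat.card Qb) := by
      rw [Nat.card_zpowers, hb]
      exact hQc.symm
    obtain ⟨q, hq, S, hSN, hSc⟩ : ∃ (q : ℕ) (_ : Fact q.Prime) (S : Sylow q Qb),
        Subgroup.zpowers b ≤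
          Subgroup.normalizer ((S : Subgroup Qb).map Qb.subtype : Set ((H ⧸ Φ) ⧸ V)) ∧
        b ∉ Subgroup.centralizer ((S : Subgroup Qb).map Qb.subtype : Set ((H ⧸ Φ) ⧸ V)) := by
      by_contra hcon
      push Not at hcon
      refine hnc ?_
      have htop : (Subgroup.centralizer ({b} : Set ((H ⧸ Φ) ⧸ V))).subgroupOf Qb = ⊤ := by
        refine Subgroup.eq_top_of_card_eq _
          (Nat.dvd_antisymm (Subgroup.card_subgroup_dvd_card _) ?_)
        refine (Nat.dvd_iff_prime_pow_dvd_dvd _ _).mpr fun q k hq hk => ?_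
        haveI := Fact.mk hq
        obtain ⟨S, hS⟩ := exists_invariant_sylow hbN hbc (Or.inl inferInstance) q
        have h1 := hcon q inferInstance S hS
        refine (S.pow_dvd_card_of_pow_dvd_card hk).trans (Subgroup.card_dvd_of_le fun s hs => ?_)
        rw [Subgroup.mem_subgroupOf, Subgroup.mem_centralizer_singleton_iff]
        exact Subgroup.mem_centralizer_iff.mp h1 _ (Subgroup.mem_map_of_mem _ hs)
      rw [Subgroup.mem_centralizer_iff]
      intro y hy
      have h1 : (⟨y, hy⟩ : Qb) ∈
          (Subgroup.centralizer ({b} : Set ((H ⧸ Φ) ⧸ V))).subgroupOf Qb := htop ▸ Subgroup.mem_top _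
      rw [Subgroup.mem_subgroupOf, Subgroup.mem_centralizer_singleton_iff] at h1
      exact h1
    haveI := hq
    set A := (S : Subgroup Qb).map Qb.subtype with hA
    have hAne : A ≠ ⊥ := fun h => hSc (by rw [h, Subgroup.mem_centralizer_iff]; simp)
    have hqp : q ≠ p := by
      rintro rfl
      obtain ⟨k, hk⟩ := IsPGroup.iff_card.mp (S.2.map Qb.subtype)
      rcases k with _ | k
      · exact hAne (Subgroup.eq_bot_of_card_eq A (by rw [hA, hk, pow_zero]))
      · have hAcard : (Nat.card A).Coprime q :=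
          hQc.coprime_dvd_left (Subgroup.card_dvd_of_le (Subgroup.map_subtype_le _))
        rw [hA, hk] at hAcard
        exact (Fact.out : q.Prime).ne_one
          (Nat.Coprime.eq_one_of_dvd hAcard.symm (dvd_pow_self q k.succ_ne_zero))
    obtain ⟨a, rfl⟩ := hπs b
    have hap : a ^ p ∈ V := by
      rw [← QuotientGroup.eq_one_iff (N := V)]
      show π (a ^ p) = 1
      rw [map_pow]
      exact orderOf_dvd_iff_pow_eq_one.1 hb.dvd
    have haV : a ∉ V := fun h => by
      rw [show π a = 1 from (QuotientGroup.eq_one_iff a).2 h, orderOf_one] at hb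
      exact (Fact.out : p.Prime).ne_one hb.symm
    obtain ⟨v, hv, hne⟩ := exists_mul_pow_ne' (m := 0) hp2 hqp.symm V hVc hVp hCV (a := a)
      (by simpa using hap) A (S.2.map _) (Or.inl hnf) (hSN (Subgroup.mem_zpowers _))
      (by simpa using hSc)
    obtain ⟨J, K, hKn, hJp, hW⟩ :=
      wreath_section V hVc hVp hap haV ⟨v, hv⟩ (by simpa using hne)
    -- move it into `P`
    obtain ⟨S', hS'⟩ := exists_sylow_cover (f := ψ.comp (QuotientGroup.mk' U)) (hψs.comp hs) hJp
    let f := ψ.comp (QuotientGroup.mk' U)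
    let A' : Subgroup G := (S' : Subgroup G) ⊓ J.comap f
    let toJ : A' →* J :=
      { toFun := fun g => ⟨f g, g.2.2⟩
        map_one' := Subtype.ext (map_one f)
        map_mul' := fun g h => Subtype.ext (map_mul f _ _) }
    have htoJ : Function.Surjective toJ := by
      rintro ⟨x, hx⟩
      obtain ⟨g, hg, hgx⟩ := hS' hx
      exact ⟨⟨g, hg, show f g ∈ J from hgx ▸ hx⟩, Subtype.ext hgx⟩
    obtain ⟨N, ⟨en⟩⟩ := Finite.exists_equiv_fin (J ⧸ K)
    let emb : (J ⧸ K) →* Equiv.Perm (Fin N) :=
      en.permCongrHom.toMonoidHom.comp (MulAction.toPermHom (J ⧸ K) (J ⧸ K))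
    have hemb : Function.Injective emb :=
      en.permCongrHom.injective.comp MulAction.toPerm_injective
    let me : J ⧸ K ≃* emb.range := MonoidHom.ofInjective hemb
    refine hwr emb.range ?_ (CfsgLib.Fusion.involves_of_surjective
      ((S'.equiv P).toMonoidHom.comp (Subgroup.inclusion (inf_le_left : A' ≤ (S' : Subgroup G))))
      ((S'.equiv P).injective.comp (Subgroup.inclusion_injective _))
      (me.toMonoidHom.comp ((QuotientGroup.mk' K).comp toJ))
      (me.surjective.comp ((QuotientGroup.mk'_surjective K).comp htoJ)))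
    obtain ⟨B, t, hBn, hBc, hBp, hBk, hto, htB, hWk, hfx⟩ := hW
    refine ⟨B.map me.toMonoidHom, me t, hBn.map _ me.surjective, ?_, ?_, ?_, ?_, ?_, ?_, ?_⟩
    · refine ⟨⟨?_⟩⟩
      rintro ⟨_, u, hu, rfl⟩ ⟨_, w, hw, rfl⟩
      refine Subtype.ext ?_
      show me u * me w = me w * me u
      rw [← map_mul, ← map_mul]
      exact congrArg me (congrArg Subtype.val (hBc.is_comm.comm (⟨u, hu⟩ : B) ⟨w, hw⟩))
    · rintro _ ⟨u, hu, rfl⟩
      show me u ^ p = 1
      rw [← map_pow, hBp u hu, map_one]
    · rw [Subgroup.card_map_of_injective (f := me.toMonoidHom) me.injective, hBk]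
    · exact (orderOf_injective me.toMonoidHom me.injective t).trans hto
    · rintro ⟨u, hu, h⟩
      exact htB (me.injective h ▸ hu)
    · rw [← Nat.card_congr me.toEquiv, hWk]
    · rw [show B.map me.toMonoidHom ⊓ Subgroup.centralizer ({me t} : Set emb.range) =
        (B ⊓ Subgroup.centralizer ({t} : Set (J ⧸ K))).map me.toMonoidHom from ?_,
        Subgroup.card_map_of_injective (f := me.toMonoidHom) me.injective, hfx]
      ext x
      obtain ⟨x, rfl⟩ := me.surjective x
      rw [Subgroup.mem_inf, Subgroup.mem_centralizer_singleton_iff,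
        show me x = me.toMonoidHom x from rfl,
        Subgroup.mem_map_iff_mem (f := me.toMonoidHom) me.injective,
        Subgroup.mem_map_iff_mem (f := me.toMonoidHom) me.injective, Subgroup.mem_inf,
        Subgroup.mem_centralizer_singleton_iff]
      refine and_congr_right fun _ => ⟨fun h => me.injective (by rwa [map_mul, map_mul]), fun h => ?_⟩
      show me x * me t = me t * me x
      rw [← map_mul, ← map_mul, h]
  -- so `G` has `p`-length one
  show (Cfsg.upperPSeries p G (2 * 1 + 1)).1 = ⊤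
  set W := (Cfsg.upperPSeries p G (2 * 1 + 1)).1 with hWdef
  have hPW : (P : Subgroup G) ≤ W := by
    intro g hg
    refine CfsgLib.PLocal.upper_succ_ge (2 * 0 + 2) ?_
    rw [CfsgLib.PLocal.upper_even]
    show QuotientGroup.mk' U g ∈ Cfsg.pCore p H
    refine hVR.le ?_
    show ψ (QuotientGroup.mk' U g) ∈ V
    rw [← QuotientGroup.eq_one_iff (N := V)]
    show π (ψ (QuotientGroup.mk' U g)) = 1
    obtain ⟨k, hk⟩ := P.2 ⟨g, hg⟩
    have hk' : g ^ p ^ k = 1 := congrArg Subtype.val hk
    rw [← orderOf_eq_one_iff]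
    obtain ⟨i, -, hi⟩ := (Nat.dvd_prime_pow (Fact.out : p.Prime)).1 (orderOf_dvd_of_pow_eq_one
      (show π (ψ (QuotientGroup.mk' U g)) ^ p ^ k = 1 by
        rw [← map_pow, ← map_pow, ← map_pow, hk', map_one, map_one, map_one]))
    rcases i with _ | i
    · rw [hi, pow_zero]
    · exact absurd ((dvd_pow_self p i.succ_ne_zero).trans (hi ▸ orderOf_dvd_natCard _)) hno
  have hcop : (Nat.card (⊤ : Subgroup (G ⧸ W))).Coprime p := by
    rw [Subgroup.card_top, ← Subgroup.index_eq_card, Nat.coprime_comm,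
      (Fact.out : p.Prime).coprime_iff_not_dvd]
    exact fun h => P.not_dvd_index (h.trans (Subgroup.index_dvd_of_le hPW))
  have h2 := (le_pPrimeCore hcop).trans
    (CfsgLib.PLocal.pPrimeCore_quotient_upper_odd (G := G) (p := p) 1).le
  rw [← QuotientGroup.ker_mk' W, MonoidHom.ker_eq_top_iff]
  ext x
  exact Subgroup.mem_bot.mp (h2 (Subgroup.mem_top _))

end Cfsg.Agent.S3787
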