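import Cfsg.Statements.S3788
import Mathlib
import Cfsg.Agent.Lib.PLocal.PSolvable
import Cfsg.Agent.Lib.Core.Hall
import Cfsg.Agent.Lib.Core.Coprime
import Cfsg.Agent.Lib.LocalEven.SFour
import Cfsg.Agent.Lib.PGroups.Basic

set_option autoImplicit false
open Cfsg

namespace Cfsg.Agent.S3788

set_option linter.style.haveILetI false
open scoped Pointwise commutatorElement
open CfsgLib.Core

/-- The dual of Lemma 1.2.3 of Hall and Higman. -/
theorem centralizer_pPrime_le {H : Type*} [Group H] [Finite H] {p : ℕ} [hp : Fact p.Prime]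
    (hsol : Cfsg.IsPSolvable p H) (hO : Cfsg.pCore p H = ⊥) :
    Subgroup.centralizer (Cfsg.pPrimeCore p H : Set H) ≤ Cfsg.pPrimeCore p H := by
  obtain ⟨n, T, h0, hn, hmono, hnorm, hfac⟩ := hsol
  set C := Subgroup.centralizer (Cfsg.pPrimeCore p H : Set H) with hC
  set Z := C ⊓ Cfsg.pPrimeCore p H with hZ
  have key : ∀ i : Fin (n + 1), T i ⊓ C ≤ Z := by
    intro i
    induction i using Fin.induction with
    | zero => rw [h0]; simp
    | succ i ih =>
      have := hnorm i.succ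
      have := hnorm i.castSucc
      haveI : C.Normal := Subgroup.normal_centralizer
      set M := (T i.succ ⊓ C) ⊔ Z with hM
      haveI : Z.Normal := Subgroup.normal_inf_normal C _
      haveI : (T i.succ ⊓ C).Normal := Subgroup.normal_inf_normal _ C
      haveI : M.Normal := Subgroup.sup_normal _ _
      have hMC : M ≤ C := sup_le inf_le_right inf_le_left
      have hdvd : Z.relIndex M ∣ (T i.castSucc).relIndex (T i.succ) := by
        rw [hM, Subgroup.relIndex_sup_right]
        refine (Subgroup.relIndex_dvd_of_le_left _ ih).trans ?_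
        have : (T i.castSucc ⊓ C).relIndex (T i.succ ⊓ C)
            = (T i.castSucc).relIndex (T i.succ ⊓ C) := by
          rw [← Subgroup.inf_relIndex_right (T i.castSucc), ← inf_assoc,
            inf_eq_left.2 (hmono (Fin.castSucc_le_succ i))]
        rw [this]
        exact CfsgLib.PLocal.relIndex_dvd_of_normal_le _ inf_le_left
      have hZc : (Nat.card Z).Coprime p :=
        (coprime_card_pPrimeCore p H).coprime_dvd_left (Subgroup.card_dvd_of_le inf_le_right)
      have hcard : Nat.card Z * Z.relIndex M = Nat.card M := by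
        rw [← Subgroup.relIndex_bot_left M, ← Subgroup.relIndex_mul_relIndex ⊥ Z M bot_le le_sup_right,
          Subgroup.relIndex_bot_left]
      suffices hMZ : M ≤ Z from le_sup_left.trans hMZ
      rcases CfsgLib.PLocal.factor_of_dvd hp.out hdvd (hfac i) with ⟨m, hm⟩ | hcop
      · -- `M` is a central product of `Z` with a normal Sylow subgroup, which is trivial
        obtain ⟨S⟩ : Nonempty (Sylow p M) := inferInstance
        have hS : (S : Subgroup M).Normal := by
          rw [← Subgroup.normalizer_eq_top_iff, eq_top_iff]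
          have hsup : Z.subgroupOf M ⊔ (S : Subgroup M) = ⊤ := by
            refine Subgroup.eq_top_of_card_eq _ (Nat.dvd_antisymm (Subgroup.card_subgroup_dvd_card _) ?_)
            rw [← hcard]
            refine Nat.Coprime.mul_dvd_of_dvd_of_dvd (hm ▸ hZc.pow_right m) ?_ ?_
            · rw [← Nat.card_congr (Subgroup.subgroupOfEquivOfLe (le_sup_right : Z ≤ M)).toEquiv]
              exact Subgroup.card_dvd_of_le le_sup_left
            · rw [hm]
              exact (S.pow_dvd_card_of_pow_dvd_card (by rw [← hcard, hm]; exact dvd_mul_left _ _)).trans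
                (Subgroup.card_dvd_of_le le_sup_right)
          rw [← hsup]
          refine sup_le ?_ Subgroup.le_normalizer
          refine le_trans ?_ (Subgroup.centralizer_le_normalizer _)
          intro z hz
          rw [Subgroup.mem_centralizer_iff]
          intro s _
          refine Subtype.ext ?_
          have hs : (s : H) ∈ C := hMC s.2
          exact (Subgroup.mem_centralizer_iff.mp hs _ hz.2).symm
        have hSb : (S : Subgroup M).map M.subtype = ⊥ :=
          eq_bot_iff.mpr (hO ▸ (Subgroup.map_mono (le_pCore S.2)).trans (map_subtype_pCore_le M))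
        have hS1 : p ^ m ∣ 1 := by
          rw [Subgroup.map_eq_bot_iff_of_injective _ M.subtype_injective] at hSb
          have h1 := S.pow_dvd_card_of_pow_dvd_card (n := m) (by rw [← hcard, hm]; exact dvd_mul_left _ _)
          rwa [hSb, Subgroup.card_bot] at h1
        rw [Nat.dvd_one.mp hS1] at hm
        exact Subgroup.relIndex_eq_one.mp hm
      · exact le_inf hMC (le_pPrimeCore (hcard ▸ hZc.mul_left hcop))
  have := key (Fin.last n)
  rw [hn, top_inf_eq] at this
  exact this.trans inf_le_right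

theorem mul_pow_twisted {H : Type*} [Group H] {a w c : H} (h : a * w = c * w * a) (hwc : Commute w c)
    (hac : Commute a c) : ∀ k : ℕ, (w * a) ^ k = w ^ k * c ^ k.choose 2 * a ^ k
  | 0 => by simp
  | k + 1 => by
    have h1 : ∀ j : ℕ, a ^ j * w = c ^ j * w * a ^ j := by
      intro j
      induction j with
      | zero => simp
      | succ j ih =>
        calc a ^ (j + 1) * w = a * (a ^ j * w) := by group
          _ = (a * c ^ j) * w * a ^ j := by rw [ih]; group
          _ = c ^ j * (a * w) * a ^ j := by rw [(hac.pow_right j).eq]; group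
          _ = c ^ (j + 1) * w * a ^ (j + 1) := by rw [h]; group
    rw [pow_succ (w * a), mul_pow_twisted h hwc hac k, Nat.choose_succ_succ, Nat.choose_one_right]
    calc w ^ k * c ^ k.choose 2 * a ^ k * (w * a) = w ^ k * c ^ k.choose 2 * (a ^ k * w) * a := by group
      _ = w ^ k * (c ^ (k + k.choose 2) * w) * a ^ (k + 1) := by rw [h1]; group
      _ = w ^ (k + 1) * c ^ (k + k.choose 2) * a ^ (k + 1) := by
        rw [← (hwc.pow_right _).eq]; group

/-- No element `a` of a `p`-soluble linear group has `[V, a] ≤ ⟨aᵖ⟩`. -/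
theorem linear_case {X : Type*} [Group X] [Finite X] {p : ℕ} [hp : Fact p.Prime]
    (hsol : Cfsg.IsPSolvable p X) (V : Subgroup X) [V.Normal]
    (hVc : ∀ v ∈ V, ∀ w ∈ V, v * w = w * v) (hVp : ∀ v ∈ V, v ^ p = 1)
    (hCV : Subgroup.centralizer (V : Set X) ≤ V) (hO : Cfsg.pCore p (X ⧸ V) = ⊥)
    {a : X} (haV : a ∉ V) (hap : a ^ p ∈ V)
    (hcomm : ∀ v ∈ V, a * v * a⁻¹ * v⁻¹ ∈ Subgroup.zpowers (a ^ p))
    (h4 : p ≠ 2 ∨ ¬ Cfsg.Involves (Equiv.Perm (Fin 4)) X) : False := by
  classical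
  set L := Subgroup.zpowers (a ^ p) with hL
  have hLV : L ≤ V := by rw [hL, Subgroup.zpowers_le]; exact hap
  have haL : ∀ l ∈ L, Commute a l := by
    intro l hl
    obtain ⟨i, rfl⟩ := Subgroup.mem_zpowers_iff.mp hl
    exact ((Commute.refl a).pow_right p).zpow_right i
  set π := QuotientGroup.mk' V with hπ
  have hsurj := QuotientGroup.mk'_surjective V
  set Qb := Cfsg.pPrimeCore p (X ⧸ V) with hQb
  have hQbc : (Nat.card Qb).Coprime p := coprime_card_pPrimeCore p _
  have hVpg : IsPGroup p V := fun v => ⟨1, Subtype.ext (by simpa using hVp v v.2)⟩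
  obtain ⟨e, he⟩ := IsPGroup.iff_card.mp hVpg
  set M := Qb.comap π with hM
  haveI : M.Normal := Subgroup.Normal.comap inferInstance π
  have hVM : V ≤ M := QuotientGroup.le_comap_mk' V _
  have hMcard : Nat.card M = Nat.card V * Nat.card Qb := card_comap_mk' V Qb
  have hcard : Nat.card (V.subgroupOf M) = Nat.card V :=
    Nat.card_congr (Subgroup.subgroupOfEquivOfLe hVM).toEquiv
  have hMidx : (V.subgroupOf M).index = Nat.card Qb := by
    apply Nat.eq_of_mul_eq_mul_left (Nat.card_pos (α := V))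
    rw [← hMcard, ← hcard, Subgroup.card_mul_index]
  obtain ⟨B, hB⟩ := Subgroup.exists_right_complement'_of_coprime (N := V.subgroupOf M) (by
    rw [hcard, hMidx, he]; exact (hQbc.pow_right e).symm)
  set Q := B.map M.subtype with hQ
  have hQM : Q ≤ M := Subgroup.map_subtype_le B
  have hQcard : Nat.card Q = Nat.card Qb := by
    rw [hQ, Nat.card_congr (B.equivMapOfInjective _ M.subtype_injective).symm.toEquiv,
      ← hB.symm.index_eq_card, hMidx]
  have hcop : (Nat.card Q).Coprime (Nat.card V) := by rw [hQcard, he]; exact hQbc.pow_right e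
  have hQV : Q ⊔ V = M := by
    refine Subgroup.eq_of_le_of_card_ge (sup_le hQM hVM) (le_of_eq ?_)
    rw [card_sup_of_coprime Q V (Subgroup.le_normalizer_of_normal) hcop, hMcard, hQcard, mul_comm]
  have hdisj : ∀ x, x ∈ Q → x ∈ V → x = 1 := fun x h1 h2 =>
    Subgroup.mem_bot.mp ((Subgroup.inf_eq_bot_of_coprime hcop) ▸ (⟨h1, h2⟩ : x ∈ Q ⊓ V))
  have hQord : ∀ z ∈ Q, (orderOf z).Coprime p := fun z hz =>
    (hQcard ▸ hQbc : (Nat.card Q).Coprime p).coprime_dvd_left (Subgroup.orderOf_dvd_natCard Q hz)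
  have hVn : ∀ (x : X), ∀ v ∈ V, x * v * x⁻¹ ∈ V := fun x v hv =>
    Subgroup.Normal.conj_mem inferInstance v hv x
  -- `n ∈ N(Q)` in the coset `V a`
  haveI : Group.IsSolvable V := by haveI := hVpg.isNilpotent; infer_instance
  obtain ⟨m, hm, hmQ⟩ := exists_conj_eq_of_coprime (N := V) (H := Q) (K := MulAut.conj a • Q)
    Subgroup.le_normalizer_of_normal
    (by rw [hQV]; exact le_trans (by gcongr) (le_of_eq (Subgroup.Normal.conj_smul_eq_self a M)))
    (card_conj_smul a Q) hcop (Or.inl inferInstance)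
  set n := m⁻¹ * a with hn
  have hnN : n ∈ Subgroup.normalizer (Q : Set X) := by
    rw [CfsgLib.Core.mem_normalizer_iff_conj_smul_eq, hn, map_mul, mul_smul, ← hmQ, map_inv,
      inv_smul_smul]
  have hnQ : ∀ z ∈ Q, n * z * n⁻¹ ∈ Q := fun z hz => (Subgroup.mem_normalizer_iff.mp hnN z).mp hz
  -- `n` acts on `V` as `a` does
  have hnact : ∀ v ∈ V, n * v * n⁻¹ = a * v * a⁻¹ := by
    intro v hv
    have h1 := hVc _ (V.inv_mem hm) _ (hVn a v hv)
    calc n * v * n⁻¹ = m⁻¹ * (a * v * a⁻¹) * m := by rw [hn]; group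
      _ = _ := by rw [h1]; group
  have hnv : ∀ v ∈ V, ∃ l ∈ L, n * v * n⁻¹ = v * l := by
    intro v hv
    refine ⟨_, hcomm v hv, ?_⟩
    rw [hnact v hv, hVc v hv _ (hLV (hcomm v hv))]; group
  have hnL : ∀ l ∈ L, n * l * n⁻¹ = l := fun l hl => by
    rw [hnact l (hLV hl), (haL l hl).eq, mul_inv_cancel_right]
  -- iterating an element that moves `v` into `v d`
  have hiter : ∀ z v d : X, z * v * z⁻¹ = v * d → z * d * z⁻¹ = d →
      ∀ k : ℕ, z ^ k * v * (z ^ k)⁻¹ = v * d ^ k := by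
    intro z v d h1 h2 k
    induction k with
    | zero => simp
    | succ k ih =>
      have h3 : z * d ^ k * z⁻¹ = d ^ k := by rw [← conj_pow, h2]
      calc z ^ (k + 1) * v * (z ^ (k + 1))⁻¹ = z * (z ^ k * v * (z ^ k)⁻¹) * z⁻¹ := by group
        _ = (z * v * z⁻¹) * (z * d ^ k * z⁻¹) := by rw [ih]; group
        _ = _ := by rw [h1, h3, pow_succ', mul_assoc]
  have hkill : ∀ z ∈ Q, ∀ v ∈ V, ∀ d ∈ V, z * v * z⁻¹ = v * d → z * d * z⁻¹ = d → d = 1 := by
    intro z hz v _ d hd h1 h2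
    have h3 := hiter z v d h1 h2 (orderOf z)
    rw [pow_orderOf_eq_one, one_mul, inv_one, mul_one] at h3
    have h4 := pow_gcd_eq_one.mpr (⟨left_eq_mul.mp h3, hVp d hd⟩ : d ^ orderOf z = 1 ∧ d ^ p = 1)
    rwa [(hQord z hz).gcd_eq_one, pow_one] at h4
  have hzero : ∀ z ∈ Q, (∀ v ∈ V, z * v * z⁻¹ = v) → z = 1 := fun z hz h =>
    hdisj z hz (hCV (Subgroup.mem_centralizer_iff.mpr fun v hv =>
      (mul_inv_eq_iff_eq_mul.mp (h v hv)).symm))
  -- `n` does not centralise `Q`
  have hnc : ∃ q ∈ Q, n * q * n⁻¹ * q⁻¹ ≠ 1 := by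
    by_contra hcon
    push Not at hcon
    have h1 : π n ∈ Subgroup.centralizer (Qb : Set (X ⧸ V)) := by
      rw [Subgroup.mem_centralizer_iff]
      intro y hy
      obtain ⟨x, rfl⟩ := hsurj y
      have hx : x ∈ Q ⊔ V := hQV.ge hy
      obtain ⟨q, hq, v, hv, rfl⟩ := Subgroup.mem_sup_of_normal_right.mp hx
      rw [map_mul, show π v = 1 from (QuotientGroup.eq_one_iff v).mpr hv, mul_one, ← map_mul, ← map_mul,
        mul_inv_eq_iff_eq_mul.mp (mul_inv_eq_one.mp (hcon q hq))]
    have h2 : π n ∈ Qb := centralizer_pPrime_le (CfsgLib.PLocal.isPSolvable_quotient hsol V) hO h1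
    have h3 : π n = π a := by
      rw [hn, map_mul, map_inv, show π m = 1 from (QuotientGroup.eq_one_iff m).mpr hm, inv_one, one_mul]
    have h5 : π n ^ p = 1 := by
      rw [h3, ← map_pow]; exact (QuotientGroup.eq_one_iff _).mpr hap
    have h6 := pow_gcd_eq_one.mpr (⟨orderOf_dvd_iff_pow_eq_one.mp (Subgroup.orderOf_dvd_natCard Qb h2), h5⟩ :
      π n ^ Nat.card Qb = 1 ∧ π n ^ p = 1)
    rw [hQbc.gcd_eq_one, pow_one, h3] at h6
    exact haV ((QuotientGroup.eq_one_iff a).mp h6)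
  obtain ⟨q, hq, hz1⟩ := hnc
  obtain ⟨z, hz⟩ : ∃ z, z = n * q * n⁻¹ * q⁻¹ := ⟨_, rfl⟩
  rw [← hz] at hz1
  have hzQ : z ∈ Q := hz ▸ Q.mul_mem (hnQ q hq) (Q.inv_mem hq)
  -- the displacement of `z`
  have hzv : ∀ v ∈ V, ∃ l₁ ∈ L, ∃ l₂ ∈ L, z * v * z⁻¹ = v * (n * (q * l₁ * q⁻¹) * n⁻¹) * l₂ := by
    intro v hv
    have hu : q⁻¹ * v * q ∈ V := by simpa using hVn q⁻¹ v hv
    obtain ⟨l, hl, hul⟩ := hnv _ hu
    have h1 : n⁻¹ * (q⁻¹ * v * q) * n = (q⁻¹ * v * q) * l⁻¹ := by
      calc n⁻¹ * (q⁻¹ * v * q) * n = n⁻¹ * ((q⁻¹ * v * q * l) * l⁻¹) * n := by group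
        _ = (q⁻¹ * v * q) * (n⁻¹ * l⁻¹ * n) := by rw [← hul]; group
        _ = _ := by
          nth_rewrite 1 [← hnL l⁻¹ (L.inv_mem hl)]
          group
    obtain ⟨l', hl', hvl⟩ := hnv v hv
    refine ⟨l⁻¹, L.inv_mem hl, l', hl', ?_⟩
    calc z * v * z⁻¹ = n * (q * (n⁻¹ * (q⁻¹ * v * q) * n) * q⁻¹) * n⁻¹ := by rw [hz]; group
      _ = (n * v * n⁻¹) * (n * (q * l⁻¹ * q⁻¹) * n⁻¹) := by rw [h1]; group
      _ = _ := by
        rw [hvl, mul_assoc v, mul_assoc v,
          hVc _ (hVn n _ (hVn q _ (hLV (L.inv_mem hl)))) _ (hLV hl')]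
  have hQfix : a ^ p ∈ Subgroup.centralizer (Q : Set X) → False := by
    intro hc
    have hLQ : ∀ x ∈ Q, ∀ l ∈ L, x * l * x⁻¹ = l := by
      intro x hx l hl
      have hle : L ≤ Subgroup.centralizer (Q : Set X) := Subgroup.zpowers_le.mpr hc
      rw [Subgroup.mem_centralizer_iff.mp (hle hl) x hx, mul_inv_cancel_right]
    refine hz1 (hzero z hzQ fun v hv => ?_)
    obtain ⟨l₁, h1, l₂, h2, he'⟩ := hzv v hv
    rw [hLQ q hq l₁ h1, hnL l₁ h1, mul_assoc v] at he'
    rw [hkill z hzQ v hv _ (hLV (L.mul_mem h1 h2)) he' (hLQ z hzQ _ (L.mul_mem h1 h2)), mul_one] at he'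
    exact he'
  -- `n ^ p`
  obtain ⟨c, hc⟩ : ∃ c, c = a * m⁻¹ * a⁻¹ * (m⁻¹)⁻¹ := ⟨_, rfl⟩
  have hcL : c ∈ L := hc ▸ hcomm _ (V.inv_mem hm)
  have hpow := mul_pow_twisted (a := a) (w := m⁻¹) (c := c) (by rw [hc]; group)
    (hVc _ (V.inv_mem hm) _ (hLV hcL)) (haL c hcL) p
  rw [← hn, hVp _ (V.inv_mem hm), one_mul] at hpow
  have hnp : n ^ p = a ^ p → False := by
    intro h
    refine hQfix (Subgroup.mem_centralizer_iff.mpr fun x hx => ?_)
    have h1 : a ^ p * x * (a ^ p)⁻¹ * x⁻¹ = 1 := by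
      refine hdisj _ ?_ ?_
      · refine Q.mul_mem ?_ (Q.inv_mem hx)
        rw [← h]
        exact (Subgroup.mem_normalizer_iff.mp ((Subgroup.normalizer (Q : Set X)).pow_mem hnN p) x).mp hx
      · have h2 := V.mul_mem hap (hVn x _ (V.inv_mem hap))
        simpa [mul_assoc] using h2
    exact (mul_inv_eq_iff_eq_mul.mp (mul_inv_eq_one.mp h1)).symm
  by_cases hp2 : p = 2
  swap
  · refine hnp ?_
    obtain ⟨k, hk⟩ := (hp.out.odd_of_ne_two hp2)
    have : p.choose 2 = p * k := by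
      rw [Nat.choose_two_right, hk, Nat.add_sub_cancel, show (2 * k + 1) * (2 * k) = 2 * ((2 * k + 1) * k) by ring,
        Nat.mul_div_cancel_left _ two_pos]
    rw [hpow, this, pow_mul, hVp c (hLV hcL), one_pow, one_mul]
  subst hp2
  rw [Nat.choose_self, pow_one] at hpow
  set l := a ^ 2 with hl
  have hlV : l ∈ V := hap
  have hll : l * l = 1 := by rw [← pow_two]; exact hVp l hlV
  have hL2 : ∀ x ∈ L, x = 1 ∨ x = l := by
    intro x hx
    obtain ⟨i, rfl⟩ := Subgroup.mem_zpowers_iff.mp hx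
    rcases Int.even_or_odd i with ⟨j, rfl⟩ | ⟨j, rfl⟩
    · left; rw [← two_mul, zpow_mul, zpow_two, hll, one_zpow]
    · right; rw [zpow_add, zpow_mul, zpow_two, hll, one_zpow, one_mul, zpow_one]
  have hn2 : n * n = 1 := by
    rcases hL2 c hcL with rfl | rfl
    · exact absurd (by rw [hpow, one_mul]) hnp
    · rw [← pow_two, hpow, hll]
  -- `l` and `l' = q l q⁻¹` span the displacements
  have hninv : n⁻¹ = n := inv_eq_of_mul_eq_one_right hn2
  obtain ⟨l', hl'⟩ : ∃ l', l' = q * l * q⁻¹ := ⟨_, rfl⟩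
  have hl'V : l' ∈ V := hl' ▸ hVn q l hlV
  have hl'2 : l' * l' = 1 := by rw [hl', show q * l * q⁻¹ * (q * l * q⁻¹) = q * (l * l) * q⁻¹ by group, hll]; group
  let U : Set X := {1, l, l', l * l'}
  have hUV : ∀ u ∈ U, u ∈ V := by
    rintro u (rfl | rfl | rfl | rfl)
    exacts [V.one_mem, hlV, hl'V, V.mul_mem hlV hl'V]
  have hUmul : ∀ u ∈ U, ∀ w ∈ U, u * w ∈ U := by
    have hc' : l' * l = l * l' := hVc _ hl'V _ hlV
    rintro u (rfl | rfl | rfl | rfl) w (rfl | rfl | rfl | rfl) <;>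
      simp only [U, Set.mem_insert_iff, Set.mem_singleton_iff, one_mul, mul_one, hll, hl'2, hc', eq_self_iff_true,
        true_or, or_true]
    · rw [← mul_assoc, hll, one_mul]; simp
    · rw [← mul_assoc, hc', mul_assoc, hl'2, mul_one]; simp
    · rw [mul_assoc, hc', ← mul_assoc, hll, one_mul]; simp
    · rw [mul_assoc, hl'2, mul_one]; simp
    · rw [mul_assoc l, ← mul_assoc l', hc', mul_assoc l, hl'2, mul_one, hll]; simp
  have hdU : ∀ v ∈ V, ∃ d ∈ U, z * v * z⁻¹ = v * d := by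
    intro v hv
    obtain ⟨l₁, h1, l₂, h2, he'⟩ := hzv v hv
    refine ⟨_, ?_, he'.trans (mul_assoc _ _ _)⟩
    have hb : l₂ ∈ U := by rcases hL2 l₂ h2 with rfl | rfl <;> simp [U]
    refine hUmul _ ?_ _ hb
    rcases hL2 l₁ h1 with rfl | rfl
    · simp [U]
    · rw [← hl']
      obtain ⟨l₃, h3, h3'⟩ := hnv l' hl'V
      rw [h3']
      refine hUmul _ (by simp [U]) _ ?_
      rcases hL2 l₃ h3 with rfl | rfl <;> simp [U]
  have hzU : ∀ u ∈ U, z * u * z⁻¹ ∈ U := by
    intro u hu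
    obtain ⟨d, hd, he'⟩ := hdU u (hUV u hu)
    rw [he']
    exact hUmul u hu d hd
  have hzodd : ¬ 2 ∣ orderOf z := fun h =>
    absurd (Nat.eq_one_of_dvd_coprimes (hQord z hzQ) h dvd_rfl) (by norm_num)
  have hz3U : ∀ u ∈ U, z ^ 3 * u * (z ^ 3)⁻¹ = u := by
    intro u hu
    rcases eq_or_ne u 1 with rfl | hu1
    · group
    let f : ℕ → X := fun i => z ^ i * u * (z ^ i)⁻¹
    have hfU : ∀ i, f i ∈ U := by
      intro i
      induction i with
      | zero => simpa [f] using hu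
      | succ i ih =>
        have : f (i + 1) = z * f i * z⁻¹ := by simp only [f]; group
        rw [this]; exact hzU _ ih
    have hfne : ∀ i, f i ≠ 1 := fun i h => hu1 (by
      have := congrArg (fun x => (z ^ i)⁻¹ * x * z ^ i) h
      simpa [f, mul_assoc] using this)
    have hf3 : ∀ i, f i ∈ ({l, l', l * l'} : Finset X) := fun i => by
      have := hfU i
      simp only [U, Set.mem_insert_iff, Set.mem_singleton_iff] at this
      simp only [Finset.mem_insert, Finset.mem_singleton]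
      exact this.resolve_left (hfne i)
    obtain ⟨i, hi, j, hj, hij, hfe⟩ := Finset.exists_ne_map_eq_of_card_lt_of_maps_to
      (s := Finset.range 4) (t := ({l, l', l * l'} : Finset X)) (f := f)
      (by rw [Finset.card_range]; exact Nat.lt_succ_of_le Finset.card_le_three) (fun i _ => hf3 i)
    rw [Finset.mem_range] at hi hj
    -- the stabiliser of `u` contains `z ^ 3`
    have hcm : ∀ i j, i < j → f i = f j → Commute (z ^ (j - i)) u := by
      intro i j hlt h
      have h1 : z ^ (j - i) * u * (z ^ (j - i))⁻¹ = u := by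
        have h2 := congrArg (fun x => (z ^ i)⁻¹ * x * z ^ i) h
        simp only [f] at h2
        rw [show z ^ j = z ^ i * z ^ (j - i) by rw [← pow_add]; congr 1; omega] at h2
        simp only [mul_inv_rev, mul_assoc, inv_mul_cancel_left, inv_mul_cancel, mul_one] at h2
        rw [mul_assoc]; exact h2.symm
      exact mul_inv_eq_iff_eq_mul.mp h1
    have h3 : Commute (z ^ 3) u := by
      obtain ⟨d, hd, hdc⟩ : ∃ d, (d = 1 ∨ d = 2 ∨ d = 3) ∧ Commute (z ^ d) u := by
        rcases lt_or_gt_of_ne hij with h | h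
        · exact ⟨j - i, by omega, hcm i j h hfe⟩
        · exact ⟨i - j, by omega, hcm j i h hfe.symm⟩
      rcases hd with rfl | rfl | rfl
      · rw [pow_one] at hdc; exact hdc.pow_left 3
      · obtain ⟨k, hk⟩ := Nat.odd_iff.mpr (Nat.two_dvd_ne_zero.mp hzodd)
        have : z = (z ^ 2) ^ (k + 1) := by
          rw [← pow_mul, show 2 * (k + 1) = orderOf z + 1 by omega, pow_succ, pow_orderOf_eq_one, one_mul]
        rw [this, ← pow_mul]
        rw [pow_mul]
        exact (hdc.pow_left (k + 1)).pow_left 3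
      · exact hdc
    rw [h3.eq, mul_inv_cancel_right]
  have hz3 : ∀ v ∈ V, z ^ 3 * v = v * z ^ 3 := by
    intro v hv
    obtain ⟨d, hd, he'⟩ := hdU v hv
    have h2 : z * (z * v * z⁻¹) * z⁻¹ = v * (d * (z * d * z⁻¹)) := by
      rw [show z * (z * v * z⁻¹) * z⁻¹ = z * (v * d) * z⁻¹ by rw [he'],
        show z * (v * d) * z⁻¹ = z * v * z⁻¹ * (z * d * z⁻¹) by group, he', mul_assoc]
    have h3 : z ^ 3 * v * (z ^ 3)⁻¹ = v * (d * (z * (d * (z * d * z⁻¹)) * z⁻¹)) := by
      calc z ^ 3 * v * (z ^ 3)⁻¹ = z * (z * (z * v * z⁻¹) * z⁻¹) * z⁻¹ := by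
            simp only [pow_succ, pow_zero, one_mul]; group
        _ = (z * v * z⁻¹) * (z * (d * (z * d * z⁻¹)) * z⁻¹) := by rw [h2]; group
        _ = _ := by rw [he', mul_assoc]
    have hw : d * (z * (d * (z * d * z⁻¹)) * z⁻¹) ∈ U := hUmul _ hd _ (hzU _ (hUmul _ hd _ (hzU _ hd)))
    have := hkill (z ^ 3) (Q.pow_mem hzQ 3) v hv _ (hUV _ hw) h3 (hz3U _ hw)
    rw [this, mul_one] at h3
    exact mul_inv_eq_iff_eq_mul.mp h3
  refine h4.resolve_left (by simp) (CfsgLib.LocalEven.involves_four_of_elementary V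
    (fun v hv => by rw [← pow_two]; exact hVp v hv) hVc
    (Subgroup.le_normalizer_of_normal (Subgroup.mem_top n))
    (Subgroup.le_normalizer_of_normal (Subgroup.mem_top z)) ⟨1, by rw [pow_one, pow_two, hn2]⟩ ?_ hz3 ?_)
  · rw [hz, hninv]; simp only [mul_inv_rev, hninv, inv_inv]
    calc n * (n * q * n * q⁻¹) * n = (n * n) * (q * n * q⁻¹ * n) := by group
      _ = _ := by rw [hn2, one_mul]; group
  · by_contra hcon
    push Not at hcon
    exact hz1 (hzero z hzQ fun v hv => by rw [hcon v hv, mul_inv_cancel_right])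

/-- Let G be a finite p-soluble group, P a Sylow p-subgroup of G and A a cyclic normal subgroup of P. If p is odd, or if no section of G is isomorphic to the symmetric group of degree 4, then A ≤ O_{p',p}(G). -/
theorem result {G : Type*} [Group G] [Finite G] {p : ℕ} [Fact p.Prime] (hG : Cfsg.IsPSolvable p G) (P : Sylow p G) (A : Subgroup G) (hAP : A ≤ (P : Subgroup G)) (hAn : (P : Subgroup G) ≤ Subgroup.normalizer (A : Set G)) (hA : IsCyclic A) (h : p ≠ 2 ∨ ¬ Cfsg.Involves (Equiv.Perm (Fin 4)) G) : A ≤ Cfsg.pPrimePCore p G := by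
  classical
  set K := Cfsg.pPrimeCore p G with hK
  set π := QuotientGroup.mk' K with hπ
  have hsurj := QuotientGroup.mk'_surjective K
  have hsolQ := CfsgLib.PLocal.isPSolvable_quotient hG K
  have hOQ : Cfsg.pPrimeCore p (G ⧸ K) = ⊥ := pPrimeCore_quotient_pPrimeCore p G
  set R := Cfsg.pCore p (G ⧸ K) with hR
  have hRp : IsPGroup p R := isPGroup_pCore p _
  have hCR := CfsgLib.PLocal.centralizer_pCore_le hsolQ hOQ
  suffices hAR : A.map π ≤ R from Subgroup.map_le_iff_le_comap.mp hAR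
  obtain ⟨g, hg⟩ := hA.exists_generator
  have hAz : A = Subgroup.zpowers (g : G) := by
    refine le_antisymm (fun x hx => ?_) (Subgroup.zpowers_le.mpr g.2)
    obtain ⟨k, hk⟩ := Subgroup.mem_zpowers_iff.mp (hg ⟨x, hx⟩)
    exact Subgroup.mem_zpowers_iff.mpr ⟨k, by simpa using congrArg Subtype.val hk⟩
  rw [hAz, MonoidHom.map_zpowers, Subgroup.zpowers_le]
  by_contra hgR
  set b := π (g : G) with hb
  -- `R` normalises `⟨b⟩`
  have hRP : R ≤ (P : Subgroup G).map π := pCore_le_sylow (P.mapSurjective hsurj)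
  have hRb : ∀ r ∈ R, ∃ t : ℤ, r * b * r⁻¹ = b ^ t := by
    intro r hr
    obtain ⟨x, hx, rfl⟩ := Subgroup.mem_map.mp (hRP hr)
    have h1 : x * g * x⁻¹ ∈ Subgroup.zpowers (g : G) :=
      hAz ▸ (Subgroup.mem_normalizer_iff.mp (hAn hx) g).mp g.2
    obtain ⟨t, ht⟩ := Subgroup.mem_zpowers_iff.mp h1
    exact ⟨t, by rw [hb, ← map_zpow, ht, map_mul, map_mul, map_inv]⟩
  have hexi : ∃ i, b ^ p ^ i ∈ R := by
    obtain ⟨i, hi⟩ := P.2 ⟨g, hAP g.2⟩
    refine ⟨i, ?_⟩
    have : (g : G) ^ p ^ i = 1 := by simpa using congrArg Subtype.val hi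
    rw [hb, ← map_pow, this, map_one]; exact one_mem _
  obtain ⟨i, hi⟩ : ∃ i, Nat.find hexi = i + 1 := by
    refine ⟨Nat.find hexi - 1, ?_⟩
    have : Nat.find hexi ≠ 0 := fun h0 => hgR (by
      have := Nat.find_spec hexi
      rwa [h0, pow_zero, pow_one] at this)
    omega
  set a := b ^ p ^ i with ha
  have haR : a ∉ R := Nat.find_min hexi (by omega)
  have hapR : a ^ p ∈ R := by
    rw [ha, ← pow_mul, ← pow_succ, ← hi]; exact Nat.find_spec hexi
  have hcommG : ∀ r ∈ R, a * r * a⁻¹ * r⁻¹ ∈ Subgroup.zpowers (a ^ p) := by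
    intro r hr
    obtain ⟨t, ht⟩ := hRb r hr
    have hra : r * a * r⁻¹ = a ^ t := by
      rw [ha, ← conj_pow, ht, ← zpow_natCast, ← zpow_mul, ← zpow_natCast, ← zpow_mul, mul_comm]
    have h1 : a * r * a⁻¹ * r⁻¹ ∈ R := R.mul_mem (Subgroup.Normal.conj_mem inferInstance r hr a) (R.inv_mem hr)
    have h2 : a * r * a⁻¹ * r⁻¹ = a ^ (1 - t) := by
      rw [zpow_sub, zpow_one, ← hra]; group
    rw [h2] at h1 ⊢
    rcases eq_or_ne ((1 - t) % (p : ℤ)) 0 with h0 | h0
    · obtain ⟨s, hs⟩ := Int.dvd_of_emod_eq_zero h0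
      rw [hs, zpow_mul, zpow_natCast]; exact Subgroup.zpow_mem _ (Subgroup.mem_zpowers _) _
    · exfalso
      refine haR ?_
      have hco : IsCoprime ((p : ℕ) : ℤ) (1 - t) :=
        (Nat.prime_iff_prime_int.mp Fact.out).coprime_iff_not_dvd.mpr fun hd => h0 (Int.emod_eq_zero_of_dvd hd)
      obtain ⟨u, v, huv⟩ := hco
      rw [← zpow_one a, ← huv, zpow_add, mul_comm u, mul_comm v, zpow_mul, zpow_mul, zpow_natCast]
      exact R.mul_mem (R.zpow_mem hapR _) (R.zpow_mem h1 _)
  -- pass to `R / Φ(R)`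
  set Φ := (frattini R).map R.subtype with hΦ
  have hΦR : Φ ≤ R := Subgroup.map_subtype_le _
  haveI : Φ.Normal := ConjAct.normal_of_characteristic_of_normal
  set ψ := QuotientGroup.mk' Φ with hψ
  have hψs := QuotientGroup.mk'_surjective Φ
  set V := R.map ψ with hV
  haveI : V.Normal := Subgroup.Normal.map inferInstance ψ hψs
  have hVR : V.comap ψ = R := Subgroup.comap_map_eq_self (by rw [QuotientGroup.ker_mk']; exact hΦR)
  have hmem : ∀ x, ψ x ∈ V → x ∈ R := fun x hx => hVR.le hx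
  refine linear_case (CfsgLib.PLocal.isPSolvable_quotient hsolQ Φ) V ?_ ?_ ?_ ?_
    (a := ψ a) (fun h => haR (hmem a h)) (by rw [← map_pow]; exact Subgroup.mem_map_of_mem ψ hapR) ?_ ?_
  · rintro _ ⟨x, hx, rfl⟩ _ ⟨y, hy, rfl⟩
    rw [← map_mul, ← map_mul]
    refine QuotientGroup.eq.mpr (Subgroup.mem_map.mpr ⟨⁅(⟨y, hy⟩ : R)⁻¹, (⟨x, hx⟩ : R)⁻¹⁆,
      CfsgLib.PGroups.commutator_le_frattini' hRp (Subgroup.commutator_mem_commutator (Subgroup.mem_top _) (Subgroup.mem_top _)), ?_⟩)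
    simp only [commutatorElement_def, Subgroup.coe_subtype, Subgroup.coe_mul, Subgroup.coe_inv]; group
  · rintro _ ⟨x, hx, rfl⟩
    rw [← map_pow]
    exact (QuotientGroup.eq_one_iff _).mpr
      (Subgroup.mem_map_of_mem R.subtype (CfsgLib.PGroups.pow_mem_frattini hRp (⟨x, hx⟩ : R)))
  · -- `C(R/Φ) = R/Φ`
    intro y hy
    obtain ⟨x, rfl⟩ := hψs y
    refine Subgroup.mem_map_of_mem ψ ?_
    set D := (Subgroup.centralizer (V : Set ((G ⧸ K) ⧸ Φ))).comap ψ with hD
    suffices hDp : IsPGroup p D by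
      haveI : D.Normal := Subgroup.Normal.comap Subgroup.normal_centralizer ψ
      exact le_pCore hDp hy
    intro d
    obtain ⟨k, m, hm, hord⟩ := Nat.exists_eq_pow_mul_and_not_dvd (orderOf_pos (d : G ⧸ K)).ne' p
      (Fact.out : p.Prime).ne_one
    refine ⟨k, ?_⟩
    set u := (d : G ⧸ K) ^ p ^ k with hu
    have hum : u ^ m = 1 := by rw [hu, ← pow_mul, ← hord, pow_orderOf_eq_one]
    have huc : (Nat.card (Subgroup.zpowers u)).Coprime p := by
      rw [Nat.card_zpowers]
      exact ((((Fact.out : p.Prime).coprime_iff_not_dvd).mpr hm).symm).coprime_dvd_left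
        (orderOf_dvd_of_pow_eq_one hum)
    have huR : Subgroup.zpowers u ≤ Subgroup.centralizer (R : Set (G ⧸ K)) := by
      obtain ⟨f, hf⟩ := IsPGroup.iff_card.mp (hRp.to_subgroup (frattini R))
      refine centralizes_of_centralizes_frattini_quotient Subgroup.le_normalizer_of_normal
        (hf ▸ huc.pow_right f) fun w hw r hr => ?_
      have hwD : w ∈ D := (Subgroup.zpowers_le.mpr (D.pow_mem d.2 _)) hw
      have hc : ψ r * ψ w = ψ w * ψ r := Subgroup.mem_centralizer_iff.mp hwD _ (Subgroup.mem_map_of_mem ψ hr)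
      rw [← hΦ]
      refine (QuotientGroup.eq_one_iff _).mp ?_
      show ψ (w * r * w⁻¹ * r⁻¹) = 1
      rw [map_mul, map_mul, map_mul, map_inv, map_inv, ← hc, mul_inv_cancel_right, mul_inv_cancel]
    have h1 : u ∈ R := hCR (huR (Subgroup.mem_zpowers u))
    obtain ⟨f, hf⟩ := hRp ⟨u, h1⟩
    have h2 : u ^ p ^ f = 1 := by simpa using congrArg Subtype.val hf
    have h3 := pow_gcd_eq_one.mpr (⟨h2, hum⟩ : u ^ p ^ f = 1 ∧ u ^ m = 1)
    rw [((((Fact.out : p.Prime).coprime_iff_not_dvd).mpr hm).pow_left f).gcd_eq_one, pow_one] at h3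
    exact Subtype.ext (by simpa [hu] using h3)
  · -- `O_p(X/V) = 1`
    set T := (Cfsg.pCore p (((G ⧸ K) ⧸ Φ) ⧸ V)).comap (QuotientGroup.mk' V) with hT
    haveI : T.Normal := Subgroup.Normal.comap inferInstance _
    haveI : (T.comap ψ).Normal := Subgroup.Normal.comap inferInstance _
    have hTp : IsPGroup p (T.comap ψ) :=
      ((isPGroup_pCore p _).comap_of_ker_isPGroup _
        (by rw [QuotientGroup.ker_mk']; exact hRp.map ψ)).comap_of_ker_isPGroup ψ
        (by rw [QuotientGroup.ker_mk']; exact hRp.to_le hΦR)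
    have hle : T ≤ V := fun y hy => by
      obtain ⟨x, rfl⟩ := hψs y
      exact Subgroup.mem_map_of_mem ψ (le_pCore hTp hy)
    rw [eq_bot_iff]
    intro y hy
    obtain ⟨x, rfl⟩ := QuotientGroup.mk'_surjective V y
    exact (QuotientGroup.eq_one_iff x).mpr (hle hy)
  · rintro _ ⟨r, hr, rfl⟩
    obtain ⟨k, hk⟩ := Subgroup.mem_zpowers_iff.mp (hcommG r hr)
    exact Subgroup.mem_zpowers_iff.mpr ⟨k, by rw [← map_pow, ← map_zpow, hk, map_mul, map_mul, map_mul, map_inv, map_inv]⟩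
  · exact h.imp id fun hno hinv => hno (CfsgLib.LocalEven.involves_of_section (MonoidHom.id G)
      Function.injective_id (ψ.comp π) (hψs.comp hsurj) hinv)

end Cfsg.Agent.S3788
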