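import Cfsg.Statements.S3789
import Mathlib
import Cfsg.Agent.Lib.Core.HHCritical.DerivedStep
import Cfsg.Agent.Lib.PLocal.PLength

set_option autoImplicit false
open Cfsg

namespace Cfsg.Agent.S3789

open scoped commutatorElement

/-- Let p be an odd prime and G a finite p-soluble group whose Sylow p-subgroups have derived length at most d. Then G has p-length at most d. -/
theorem result {G : Type*} [Group G] [Finite G] {p : ℕ} [Fact p.Prime] (hp : p ≠ 2) (hG : Cfsg.IsPSolvable p G) (d : ℕ) (hd : ∀ P : Sylow p G, derivedSeries ↥(P : Subgroup G) d = ⊥) : Cfsg.PLengthLE p d G := by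
  classical
  obtain ⟨P⟩ : Nonempty (Sylow p G) := inferInstance
  have main : ∀ k ≤ d,
      (derivedSeries ↥(P : Subgroup G) (d - k)).map (P : Subgroup G).subtype ≤
        (Cfsg.upperPSeries p G (2 * k + 1)).1 := by
    intro k
    induction k with
    | zero =>
      intro _
      rw [Nat.sub_zero, hd P, Subgroup.map_bot]
      exact bot_le
    | succ k ih =>
      intro hk
      have hIH := ih (by omega)
      set U := (Cfsg.upperPSeries p G (2 * k + 1)).1 with hU
      set π := QuotientGroup.mk' U with hπ
      have hs := QuotientGroup.mk'_surjective U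
      let D : ℕ → Subgroup (G ⧸ U) := fun j =>
        ((derivedSeries ↥(P : Subgroup G) j).map (P : Subgroup G).subtype).map π
      have hD : ∀ j, D (j + 1) = ⁅D j, D j⁆ := fun j => by
        simp only [D, derivedSeries_succ, Subgroup.map_commutator]
      set e := d - (k + 1) with he
      have hbot : D (e + 1) = ⊥ := by
        rw [show e + 1 = d - k by omega]
        exact (Subgroup.map_eq_bot_iff _).2 (by rw [QuotientGroup.ker_mk']; exact hIH)
      have hO := CfsgLib.PLocal.pPrimeCore_quotient_upper_odd (G := G) (p := p) k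
      have hsol := CfsgLib.PLocal.isPSolvable_quotient hG U
      have hOP : Cfsg.pCore p (G ⧸ U) ≤ (P : Subgroup G).map π :=
        (CfsgLib.Core.isPGroup_pCore p (G ⧸ U)).le_sylow_of_normal (P.mapSurjective hs)
      have hcomm : ∀ j, ∀ b ∈ D j, ∀ v ∈ Cfsg.pCore p (G ⧸ U), ⁅b, v⁆ ∈ D j := by
        intro j b hb v hv
        obtain ⟨_, ⟨b0, hb0, rfl⟩, rfl⟩ := hb
        obtain ⟨v0, hv0, rfl⟩ := hOP hv
        refine ⟨_, ⟨b0 * (⟨v0, hv0⟩ * b0⁻¹ * (⟨v0, hv0⟩ : (P : Subgroup G))⁻¹), mul_mem hb0
          ((derivedSeries_normal _ j).conj_mem _ (inv_mem hb0) _), rfl⟩, ?_⟩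
        simp only [commutatorElement_def, map_mul, map_inv, Subgroup.subtype_apply]
        group
      suffices h : D e ≤ Cfsg.pCore p (G ⧸ U) by
        refine le_trans ?_ (CfsgLib.PLocal.upper_succ_ge (2 * k + 2))
        rw [CfsgLib.PLocal.upper_even]
        exact Subgroup.map_le_iff_le_comap.1 h
      rcases hE : e with _ | i
      · -- an abelian Sylow image
        refine le_trans ?_ (CfsgLib.PLocal.centralizer_pCore_le hsol hO)
        intro b hb
        rw [Subgroup.mem_centralizer_iff]
        intro v hv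
        have h0 : D 0 = (P : Subgroup G).map π := by
          simp only [D, derivedSeries_zero, ← MonoidHom.range_eq_map, Subgroup.range_subtype]
        have hv' : v ∈ D 0 := h0.ge (hOP hv)
        have h1 : ⁅v, b⁆ ∈ D (0 + 1) := by
          rw [hD]; exact Subgroup.commutator_mem_commutator hv' hb
        rw [hE] at hbot
        rw [hbot, Subgroup.mem_bot, commutatorElement_eq_one_iff_mul_comm] at h1
        exact h1
      · rw [hE] at hbot
        have hDP : ∀ j, IsPGroup p (D j) := fun j =>
          ((P.2.to_subgroup (derivedSeries ↥(P : Subgroup G) j)).map _).map _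
        refine CfsgLib.Core.HHCritical.quadratic_derived_le_pCore hp hsol hO (B := D i) (hDP i) ?_ (hD i).le
          (hD i).ge ?_ ?_ (hcomm i) (hcomm (i + 1))
        · exact Subgroup.map_mono (Subgroup.map_mono (derivedSeries_antitone _ (Nat.le_succ i)))
        · rw [Subgroup.le_normalizer_iff]
          rintro _ ⟨_, ⟨b0, hb0, rfl⟩, rfl⟩ _ ⟨_, ⟨a0, ha0, rfl⟩, rfl⟩
          refine ⟨_, ⟨b0 * a0 * b0⁻¹, (derivedSeries_normal _ (i + 1)).conj_mem _ ha0 _, rfl⟩, ?_⟩
          simp only [map_mul, map_inv, Subgroup.subtype_apply]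
        · intro a ha a' ha'
          have h1 : ⁅a, a'⁆ ∈ D (i + 1 + 1) := by
            rw [hD (i + 1)]; exact Subgroup.commutator_mem_commutator ha ha'
          rw [hbot, Subgroup.mem_bot, commutatorElement_eq_one_iff_mul_comm] at h1
          exact h1
  show (Cfsg.upperPSeries p G (2 * d + 1)).1 = ⊤
  set W := (Cfsg.upperPSeries p G (2 * d + 1)).1 with hW
  have hPW : (P : Subgroup G) ≤ W := by
    have h := main d le_rfl
    rwa [Nat.sub_self, derivedSeries_zero, ← MonoidHom.range_eq_map, Subgroup.range_subtype] at h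
  have hcop : (Nat.card (⊤ : Subgroup (G ⧸ W))).Coprime p := by
    rw [Subgroup.card_top, ← Subgroup.index_eq_card, Nat.coprime_comm,
      (Fact.out : p.Prime).coprime_iff_not_dvd]
    exact fun h => P.not_dvd_index (h.trans (Subgroup.index_dvd_of_le hPW))
  have h2 := (CfsgLib.Core.le_pPrimeCore hcop).trans
    (CfsgLib.PLocal.pPrimeCore_quotient_upper_odd (G := G) (p := p) d).le
  rw [← QuotientGroup.ker_mk' W, MonoidHom.ker_eq_top_iff]
  ext x
  exact Subgroup.mem_bot.mp (h2 (Subgroup.mem_top _))

end Cfsg.Agent.S3789
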