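import Cfsg.Statements.S3790
import Mathlib
import Cfsg.Agent.Lib.PGroups.PSeries
import Cfsg.Agent.Lib.Core.SolvableStruct

set_option autoImplicit false
open Cfsg

namespace Cfsg.Agent.S3790

set_option linter.style.haveILetI false
open CfsgLib.Core CfsgLib.PGroups.PSeries
universe v

theorem mem_finset_inf {G ι : Type*} [Group G] {s : Finset ι} {f : ι → Subgroup G} {x : G} :
    x ∈ s.inf f ↔ ∀ i ∈ s, x ∈ f i :=
  ⟨fun h i hi => (Finset.inf_le hi : s.inf f ≤ f i) h, fun h => Subgroup.zpowers_le.mp (Finset.le_inf fun i hi => Subgroup.zpowers_le.mpr (h i hi))⟩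

theorem upper_zero (p : ℕ) (G : Type*) [Group G] : (Cfsg.upperPSeries p G 0).1 = ⊥ := rfl

theorem lift_pPrime {G : Type*} [Group G] [Finite G] {p : ℕ} [Fact p.Prime] (N : Subgroup G) [N.Normal]
    (hN : (Nat.card N).Coprime p) {k : ℕ} (h : Cfsg.PLengthLE p k (G ⧸ N)) : Cfsg.PLengthLE p k G := by
  obtain ⟨T, hT, htop⟩ := pLengthLE_iff_series.mp h
  set π := QuotientGroup.mk' N with hπ
  let S : ℕ → Subgroup G := fun j => if j = 0 then ⊥ else (T j).comap π
  have hS : ∀ j, S (j + 1) = (T (j + 1)).comap π := fun j => if_neg (Nat.succ_ne_zero j)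
  have hrel : ∀ j, (S (j + 1)).relIndex (S (j + 1 + 1)) = (T (j + 1)).relIndex (T (j + 1 + 1)) := fun j => by
    rw [hS, hS, Subgroup.relIndex_comap,
      Subgroup.map_comap_eq_self_of_surjective (QuotientGroup.mk'_surjective _)]
  refine pLengthLE_iff_series.mpr ⟨S, ⟨if_pos rfl, ?_, ?_, ?_, ?_⟩, by rw [hS, htop, Subgroup.comap_top]⟩
  · intro j
    simp only [S]
    split
    · infer_instance
    · exact (hT.normal _).comap _
  · intro j hj
    rcases j with _ | j
    · exact (if_pos rfl).trans_le bot_le
    · rw [hS, hS]; exact Subgroup.comap_mono (hT.mono _ hj)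
  · intro j hj he
    rcases j with _ | j
    · rw [show S 0 = ⊥ from if_pos rfl, Subgroup.relIndex_bot_left, hS 0]
      refine Nat.Coprime.coprime_dvd_left ?_ (hN.mul_left (hT.cop 0 hj he))
      rw [hT.zero, Subgroup.relIndex_bot_left]
      have h1 := Subgroup.card_mul_index (N.subgroupOf ((T (0 + 1)).comap π))
      have hle : N ≤ (T (0 + 1)).comap π := fun x hx => by
        rw [Subgroup.mem_comap, hπ, QuotientGroup.mk'_apply, (QuotientGroup.eq_one_iff x).mpr hx]
        exact one_mem _
      have h2 : (N.subgroupOf ((T (0 + 1)).comap π)).index = Nat.card (T (0 + 1)) := by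
        rw [← Subgroup.relIndex, ← CfsgLib.PGroups.PSeries.card_map_mk',
          Subgroup.map_comap_eq_self_of_surjective (QuotientGroup.mk'_surjective _)]
      rw [h2, Nat.card_congr (Subgroup.subgroupOfEquivOfLe hle).toEquiv] at h1
      exact h1.symm.dvd
    · rw [hrel]; exact hT.cop _ hj he
  · intro j hj ho
    rcases j with _ | j
    · exact absurd ho Nat.not_odd_zero
    · rw [hrel]; exact hT.pow _ hj ho

theorem upper_two_eq_pCore {G : Type*} [Group G] [Finite G] {p : ℕ} [Fact p.Prime]
    (hN : Cfsg.pPrimeCore p G = ⊥) : (Cfsg.upperPSeries p G 2).1 = Cfsg.pCore p G := by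
  have hU1 : (Cfsg.upperPSeries p G 1).1 = ⊥ := by
    rw [← le_bot_iff, ← hN]
    refine le_pPrimeCore ?_
    have h := (upper_isAlt (G := G) (p := p) 1).cop 0 one_pos Even.zero
    rwa [upper_zero, Subgroup.relIndex_bot_left] at h
  refine le_antisymm ?_ ?_
  · obtain ⟨m, hm⟩ := (upper_isAlt (G := G) (p := p) 2).pow 1 one_lt_two odd_one
    refine le_pCore (IsPGroup.of_card (n := m) ?_)
    rw [← hm, hU1, Subgroup.relIndex_bot_left]
  · have hT : IsAlt (G := G) p 2 (fun j => if j < 2 then (⊥ : Subgroup G) else Cfsg.pCore p G) := by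
      refine ⟨rfl, fun j => by split <;> infer_instance, fun j hj => ?_, fun j hj he => ?_, fun j hj ho => ?_⟩
      · rcases j with _ | _ | j <;> simp at hj ⊢
      · rcases j with _ | _ | j
        · simp
        · exact absurd he Nat.not_even_one
        · omega
      · rcases j with _ | _ | j
        · exact absurd ho Nat.not_odd_zero
        · obtain ⟨m, hm⟩ := IsPGroup.iff_card.mp (isPGroup_pCore p G)
          exact ⟨m, by simpa [Subgroup.relIndex_bot_left] using hm⟩
        · omega
    simpa using le_upper hT 2 le_rfl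

theorem main (n : ℕ) : ∀ (G : Type v) [Group G] [Finite G], Nat.card G = n → Group.IsSolvable G →
    ∀ (p : ℕ) [Fact p.Prime] (r : ℕ) (q : Fin r → ℕ), (∀ i, (q i).Prime) → (∀ i, q i ≠ p) →
    (∀ s : ℕ, s.Prime → s ∣ Nat.card G → s ≠ p → ∃ i, q i = s) → ∀ (l : Fin r → ℕ),
    (∀ i, Cfsg.PLengthLE (q i) (l i) G) →
    Cfsg.PLengthLE p (Finset.univ.prod fun i => 1 + l i) G := by
  induction n using Nat.strongRecOn with
  | ind n ih =>
    intro G _ _ hn hG p _ r q hq hne hcover l hl
    subst hn
    classical
    rcases subsingleton_or_nontrivial G with hs | hnt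
    · exact Subsingleton.elim _ _
    by_cases hN : Cfsg.pPrimeCore p G = ⊥
    swap
    · refine lift_pPrime _ (coprime_card_pPrimeCore p G) ?_
      exact ih _ (card_quotient_lt _ hN) _ rfl inferInstance p r q hq hne
        (fun s hs hsd => hcover s hs (hsd.trans (Subgroup.card_quotient_dvd_card _))) l fun j =>
          haveI := Fact.mk (hq j)
          pLengthLE_of_surjective _ (QuotientGroup.mk'_surjective _) (hl j)
    obtain ⟨k, hk⟩ : ∃ k, (Finset.univ.prod fun i => 1 + l i) = k + 1 :=
      Nat.exists_eq_succ_of_ne_zero (Finset.prod_ne_zero_iff.mpr fun i _ => by omega)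
    rw [hk]
    refine pLengthLE_shift ?_
    set R := (Cfsg.upperPSeries p G 2).1 with hR
    have hRc : R = Cfsg.pCore p G := upper_two_eq_pCore hN
    have hRne : R ≠ ⊥ := by
      intro h
      have h1 := centralizer_pCore_le_of_pPrimeCore_eq_bot (G := G) hN
      rw [← hRc, h, Subgroup.coe_bot] at h1
      have h5 : (⊤ : Subgroup G) ≤ ⊥ := fun x _ => h1 (Subgroup.mem_centralizer_iff.mpr (by simp))
      exact top_ne_bot (le_bot_iff.mp h5)
    have hHsol : Group.IsSolvable (G ⧸ R) := inferInstance
    have hcoreH : Cfsg.pCore p (G ⧸ R) = ⊥ := by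
      have : ∀ (X : Subgroup G) [X.Normal], X = Cfsg.pCore p G → Cfsg.pCore p (G ⧸ X) = ⊥ := by
        intro X _ hX; subst hX; exact pCore_quotient_pCore p G
      exact this R hRc
    have hlH : ∀ i, Cfsg.PLengthLE (q i) (l i) (G ⧸ R) := fun i =>
      haveI := Fact.mk (hq i)
      pLengthLE_of_surjective _ (QuotientGroup.mk'_surjective _) (hl i)
    have hcovH : ∀ s : ℕ, s.Prime → s ∣ Nat.card (G ⧸ R) → s ≠ p → ∃ i, q i = s :=
      fun s hs hsd => hcover s hs (hsd.trans (Subgroup.card_quotient_dvd_card _))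
    let M : Fin r → Subgroup (G ⧸ R) := fun i => (Cfsg.upperPSeries (q i) (G ⧸ R) 2).1
    haveI hMn : ∀ i, (M i).Normal := fun i => inferInstanceAs (Cfsg.upperPSeries (q i) (G ⧸ R) 2).1.Normal
    let K : Subgroup (G ⧸ R) := Finset.univ.inf fun i => (Cfsg.upperPSeries (q i) (G ⧸ R) 1).1
    haveI hKn : K.Normal := (relIndex_finset_inf_dvd _ _ (fun i => inferInstance) ⊤).2
    have hK : K = ⊥ := by
      rw [← le_bot_iff, ← hcoreH]
      refine le_pCore ?_
      refine IsPGroup.of_card (n := (Nat.card K).factorization p) ?_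
      refine Nat.eq_pow_of_factorization_eq_single (Finite.card_pos.ne') ?_
      ext s
      by_cases hsp : s = p
      · subst hsp; simp
      rw [Finsupp.single_eq_of_ne hsp]
      by_contra hne0
      have hs : s.Prime := Nat.prime_of_mem_primeFactors (Nat.support_factorization _ ▸ Finsupp.mem_support_iff.mpr hne0)
      have hsd : s ∣ Nat.card K := Nat.dvd_of_factorization_pos hne0
      obtain ⟨i, rfl⟩ := hcovH s hs (hsd.trans K.card_subgroup_dvd_card) hsp
      haveI := Fact.mk (hq i)
      have h2 := hsd.trans (Subgroup.card_dvd_of_le (Finset.inf_le (Finset.mem_univ i)))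
      have h3 := (upper_isAlt (G := G ⧸ R) (p := q i) 1).cop 0 one_pos Even.zero
      rw [upper_zero, Subgroup.relIndex_bot_left] at h3
      exact hs.ne_one (Nat.eq_one_of_dvd_coprimes h3 h2 dvd_rfl)
    set J : Subgroup (G ⧸ R) := Finset.univ.inf M with hJ
    haveI hJn : J.Normal := (relIndex_finset_inf_dvd _ _ hMn ⊤).2
    have hJp : (Nat.card J).Coprime p := by
      refine ((Nat.Prime.coprime_iff_not_dvd Fact.out).mpr fun hd => ?_).symm
      obtain ⟨x, hx⟩ := exists_prime_orderOf_dvd_card' (G := J) p hd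
      have hmem : (x : G ⧸ R) ∈ K := by
        refine mem_finset_inf.mpr fun i hi => ?_
        haveI := Fact.mk (hq i)
        have hxM : (x : G ⧸ R) ∈ M i := mem_finset_inf.mp x.2 i hi
        set U := (Cfsg.upperPSeries (q i) (G ⧸ R) 1).1 with hU
        obtain ⟨m, hm⟩ := (upper_isAlt (G := G ⧸ R) (p := q i) 2).pow 1 one_lt_two odd_one
        change U.relIndex (M i) = _ at hm
        rw [← QuotientGroup.eq_one_iff, ← orderOf_eq_one_iff]
        have h1 : orderOf (QuotientGroup.mk' U (x : G ⧸ R)) ∣ p := by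
          have := orderOf_map_dvd (QuotientGroup.mk' U) (x : G ⧸ R)
          rwa [Subgroup.orderOf_coe, hx] at this
        have h2 : orderOf (QuotientGroup.mk' U (x : G ⧸ R)) ∣ q i ^ m := by
          rw [← hm, ← CfsgLib.PGroups.PSeries.card_map_mk']
          exact Subgroup.orderOf_dvd_natCard _ ⟨_, hxM, rfl⟩
        have hp : p.Prime := Fact.out
        exact Nat.eq_one_of_dvd_coprimes (((Nat.coprime_primes hp (hq i)).mpr (hne i).symm).pow_right m) h1 h2
      rw [hK, Subgroup.mem_bot] at hmem
      rw [← Subgroup.orderOf_coe, hmem, orderOf_one] at hx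
      exact (Fact.out : p.Prime).ne_one hx.symm
    refine lift_pPrime J hJp ?_
    haveI : ∀ i, ((M i).map (QuotientGroup.mk' J)).Normal := fun i =>
      (hMn i).map _ (QuotientGroup.mk'_surjective _)
    refine pLengthLE_of_iInf (fun i => (M i).map (QuotientGroup.mk' J)) ?_ fun i => ?_
    · rw [eq_bot_iff]
      intro z hz
      obtain ⟨y, rfl⟩ := QuotientGroup.mk'_surjective J z
      rw [Subgroup.mem_bot, QuotientGroup.mk'_apply, QuotientGroup.eq_one_iff]
      refine mem_finset_inf.mpr fun i hi => ?_
      have h : QuotientGroup.mk' J y ∈ (M i).map (QuotientGroup.mk' J) :=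
        mem_finset_inf.mp hz i hi
      obtain ⟨w, hw, hwy⟩ := h
      rw [QuotientGroup.mk'_apply, QuotientGroup.mk'_apply, QuotientGroup.eq] at hwy
      have h' := mul_mem hw (mem_finset_inf.mp hwy i (Finset.mem_univ i))
      rwa [mul_inv_cancel_left] at h'
    · refine pLengthLE_of_surjective (QuotientGroup.map (M i) _ (QuotientGroup.mk' J) (Subgroup.le_comap_map _ _))
        ?_ ?_
      · intro z
        obtain ⟨y, rfl⟩ := QuotientGroup.mk'_surjective _ z
        obtain ⟨w, rfl⟩ := QuotientGroup.mk'_surjective J y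
        exact ⟨QuotientGroup.mk' (M i) w, rfl⟩
      haveI := Fact.mk (hq i)
      rcases Nat.eq_zero_or_pos (l i) with h0 | hpos
      · haveI : Subsingleton ((G ⧸ R) ⧸ M i) := by
          rw [QuotientGroup.subsingleton_iff]
          have := hlH i
          rw [h0] at this
          exact top_le_iff.mp (this.ge.trans (upper_mono (q i) (by omega)))
        exact Subsingleton.elim _ _
      set l' := Function.update l i (l i - 1) with hl'
      have hl'' : ∀ j, Cfsg.PLengthLE (q j) (l' j) ((G ⧸ R) ⧸ M i) := by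
        intro j
        haveI := Fact.mk (hq j)
        by_cases hji : j = i
        · subst hji
          rw [hl', Function.update_self]
          exact pLengthLE_unshift (by rw [Nat.sub_add_cancel hpos]; exact hlH j)
        · rw [hl', Function.update_of_ne hji]
          exact pLengthLE_of_surjective _ (QuotientGroup.mk'_surjective _) (hlH j)
      refine pLengthLE_mono ?_ (ih _ ((Nat.le_of_dvd Finite.card_pos (Subgroup.card_quotient_dvd_card _)).trans_lt
        (card_quotient_lt R hRne)) _ rfl inferInstance p r q hq hne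
        (fun s hs hsd => hcovH s hs (hsd.trans (Subgroup.card_quotient_dvd_card _))) l' hl'')
      have hsame : ∏ j ∈ Finset.univ.erase i, (1 + l' j) = ∏ j ∈ Finset.univ.erase i, (1 + l j) :=
        Finset.prod_congr rfl fun j hj => by rw [hl', Function.update_of_ne (Finset.ne_of_mem_erase hj)]
      rw [← Finset.mul_prod_erase _ _ (Finset.mem_univ i), hsame, hl', Function.update_self,
        show 1 + (l i - 1) = l i by omega]
      rw [← Finset.mul_prod_erase _ _ (Finset.mem_univ i)] at hk
      have hpos' : 0 < ∏ j ∈ Finset.univ.erase i, (1 + l j) := Finset.prod_pos fun j _ => by omega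
      rw [Nat.add_mul, one_mul] at hk
      omega

/-- Let G be a finite solvable group and p a prime. Suppose p₁, …, p_r are distinct primes, all different from p, that include every prime dividing the order of G other than p, and that G has p_i-length at most l_i for each i. Then G has p-length at most the product of the numbers 1 + l_i. -/
theorem result {G : Type*} [Group G] [Finite G] (hG : Group.IsSolvable G) (p : ℕ) [Fact p.Prime] (r : ℕ) (q : Fin r → ℕ) (hq : ∀ i, (q i).Prime ∧ q i ≠ p) (hinj : Function.Injective q) (hcover : ∀ s : ℕ, s.Prime → s ∣ Nat.card G → s ≠ p → ∃ i, q i = s) (l : Fin r → ℕ) (hl : ∀ i, Cfsg.PLengthLE (q i) (l i) G) : Cfsg.PLengthLE p (Finset.univ.prod fun i => 1 + l i) G := by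
  exact main _ G rfl hG p r q (fun i => (hq i).1) (fun i => (hq i).2) hcover l hl

end Cfsg.Agent.S3790
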