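import Cfsg.Statements.S3791
import Mathlib
import Cfsg.Agent.Lib.PGroups.PSeries
import Cfsg.Agent.Lib.Core.SolvableStruct

set_option autoImplicit false
open Cfsg

namespace Cfsg.Agent.S3791

set_option linter.style.haveILetI false
open CfsgLib.Core
universe v

theorem derivedSeries_add_le {G : Type*} [Group G] (R : Subgroup G) {a : ℕ} (ha : derivedSeries G a ≤ R) :
    ∀ b : ℕ, derivedSeries G (a + b) ≤ (derivedSeries R b).map R.subtype
  | 0 => by
    rw [derivedSeries_zero, ← MonoidHom.range_eq_map, Subgroup.range_subtype]; exact ha
  | b + 1 => by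
    rw [← Nat.add_assoc, derivedSeries_succ, derivedSeries_succ, Subgroup.map_commutator]
    exact Subgroup.commutator_mono (derivedSeries_add_le R ha b) (derivedSeries_add_le R ha b)

theorem main (n : ℕ) : ∀ (G : Type v) [Group G] [Finite G], Nat.card G = n → Group.IsSolvable G →
    ∀ (r : ℕ) (q : Fin r → ℕ), (∀ i, (q i).Prime) →
    (∀ s : ℕ, s.Prime → s ∣ Nat.card G → ∃ i, q i = s) → ∀ (d l : Fin r → ℕ),
    (∀ i, ∀ P : Subgroup G, IsPGroup (q i) P → derivedSeries ↥P (d i) = ⊥) →
    (∀ i, Cfsg.PLengthLE (q i) (l i) G) →
    derivedSeries G (Finset.univ.sum fun i => d i * l i) = ⊥ := by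
  induction n using Nat.strongRecOn with
  | ind n ih =>
    intro G _ _ hn hG r q hq hcover d l hd hl
    subst hn
    classical
    set D := Finset.univ.sum fun i => d i * l i with hD
    rcases subsingleton_or_nontrivial G with hs | hnt
    · exact Subsingleton.elim _ _
    have key : ∀ i, derivedSeries G D ≤ Cfsg.pPrimeCore (q i) G := by
      intro i
      haveI := Fact.mk (hq i)
      have hquot : ∀ (N : Subgroup G) [N.Normal], N ≠ ⊥ → ∀ l' : Fin r → ℕ,
          (∀ j, Cfsg.PLengthLE (q j) (l' j) (G ⧸ N)) →
          derivedSeries G (Finset.univ.sum fun j => d j * l' j) ≤ N := by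
        intro N _ hN l' hl'
        have h1 := ih _ (card_quotient_lt N hN) (G ⧸ N) rfl inferInstance r q hq
          (fun s hs hsd => hcover s hs (hsd.trans N.card_quotient_dvd_card)) d l'
          (fun j P hP => by
            haveI := Fact.mk (hq j)
            obtain ⟨T, hT⟩ := hP.exists_le_sylow
            obtain ⟨S, rfl⟩ := Sylow.mapSurjective_surjective (QuotientGroup.mk'_surjective N) (q j) T
            have h2 := hd j S S.2
            have h3 : derivedSeries ↥((S : Subgroup G).map (QuotientGroup.mk' N)) (d j) = ⊥ := by
              rw [← map_derivedSeries_eq (f := (QuotientGroup.mk' N).subgroupMap (S : Subgroup G))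
                ((QuotientGroup.mk' N).subgroupMap_surjective _), h2, Subgroup.map_bot]
            have hT' : P ≤ (S : Subgroup G).map (QuotientGroup.mk' N) := by
              rwa [Sylow.coe_mapSurjective] at hT
            have h4 := map_derivedSeries_le_derivedSeries (Subgroup.inclusion hT') (d j)
            rw [h3, le_bot_iff, Subgroup.map_eq_bot_iff_of_injective _ (Subgroup.inclusion_injective _)] at h4
            exact h4)
          hl'
        rw [← map_derivedSeries_eq (f := QuotientGroup.mk' N) (QuotientGroup.mk'_surjective N),
          Subgroup.map_eq_bot_iff, QuotientGroup.ker_mk'] at h1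
        exact h1
      by_cases hN : Cfsg.pPrimeCore (q i) G = ⊥
      swap
      · exact hquot _ hN l fun j =>
          haveI := Fact.mk (hq j)
          CfsgLib.PGroups.PSeries.pLengthLE_of_surjective _ (QuotientGroup.mk'_surjective _) (hl j)
      set R := (Cfsg.upperPSeries (q i) G 2).1 with hR
      have hU1 : (Cfsg.upperPSeries (q i) G 1).1 = ⊥ := by
        rw [← le_bot_iff, ← hN]
        refine le_pPrimeCore ?_
        have h := (CfsgLib.PGroups.PSeries.upper_isAlt (G := G) (p := q i) 1).cop 0 one_pos Even.zero
        rwa [show (Cfsg.upperPSeries (q i) G 0).1 = ⊥ from rfl, Subgroup.relIndex_bot_left] at h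
      have hRp : IsPGroup (q i) R := by
        obtain ⟨m, hm⟩ := (CfsgLib.PGroups.PSeries.upper_isAlt (G := G) (p := q i) 2).pow 1 one_lt_two odd_one
        refine IsPGroup.of_card (n := m) ?_
        rw [← hm, hU1, Subgroup.relIndex_bot_left]
      have hRne : R ≠ ⊥ := by
        intro h
        have hcore : Cfsg.pCore (q i) G = ⊥ := by
          rw [← le_bot_iff, ← h]
          have hT : CfsgLib.PGroups.PSeries.IsAlt (G := G) (q i) 2
              (fun j => if j < 2 then (⊥ : Subgroup G) else Cfsg.pCore (q i) G) := by
            refine ⟨rfl, fun j => by split <;> infer_instance, fun j hj => ?_, fun j hj he => ?_, fun j hj ho => ?_⟩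
            · rcases j with _ | _ | j <;> simp at hj ⊢
            · rcases j with _ | _ | j
              · simp
              · exact absurd he Nat.not_even_one
              · omega
            · rcases j with _ | _ | j
              · exact absurd ho Nat.not_odd_zero
              · obtain ⟨m, hm⟩ := IsPGroup.iff_card.mp (isPGroup_pCore (q i) G)
                exact ⟨m, by simpa [Subgroup.relIndex_bot_left] using hm⟩
              · omega
          have := CfsgLib.PGroups.PSeries.le_upper hT 2 le_rfl
          simpa using this
        have h1 := centralizer_pCore_le_of_pPrimeCore_eq_bot (G := G) hN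
        rw [hcore, Subgroup.coe_bot] at h1
        have h5 : (⊤ : Subgroup G) ≤ ⊥ := fun x _ => h1 (Subgroup.mem_centralizer_iff.mpr (by simp))
        exact top_ne_bot (le_bot_iff.mp h5)
      have hli : l i ≠ 0 := fun h0 => by
        have h1 : (Cfsg.upperPSeries (q i) G 1).1 = ⊤ := by
          have := hl i
          rw [h0] at this
          exact this
        exact top_ne_bot (h1.symm.trans hU1)
      set l' := Function.update l i (l i - 1) with hl'
      have hl'' : ∀ j, Cfsg.PLengthLE (q j) (l' j) (G ⧸ R) := by
        intro j
        haveI := Fact.mk (hq j)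
        by_cases hji : j = i
        · subst hji
          rw [hl', Function.update_self]
          exact CfsgLib.PGroups.PSeries.pLengthLE_unshift
            (by rw [Nat.sub_add_cancel (Nat.pos_of_ne_zero hli)]; exact hl j)
        · rw [hl', Function.update_of_ne hji]
          exact CfsgLib.PGroups.PSeries.pLengthLE_of_surjective _ (QuotientGroup.mk'_surjective _) (hl j)
      have h1 := hquot R hRne l' hl''
      have hsum : D = (Finset.univ.sum fun j => d j * l' j) + d i := by
        rw [hD, ← Finset.add_sum_erase _ _ (Finset.mem_univ i), ← Finset.add_sum_erase _ _ (Finset.mem_univ i),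
          show ∑ j ∈ Finset.univ.erase i, d j * l' j = ∑ j ∈ Finset.univ.erase i, d j * l j from
            Finset.sum_congr rfl fun j hj => by rw [hl', Function.update_of_ne (Finset.ne_of_mem_erase hj)],
          hl', Function.update_self]
        obtain ⟨t, ht⟩ := Nat.exists_eq_succ_of_ne_zero hli
        rw [ht, Nat.succ_sub_one, Nat.mul_succ]
        ring
      refine le_trans ?_ bot_le
      rw [hsum]
      refine (derivedSeries_add_le R h1 (d i)).trans ?_
      rw [hd i R hRp, Subgroup.map_bot]
    have hinf : (Finset.univ.inf fun i => Cfsg.pPrimeCore (q i) G) = ⊥ := by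
      set X := Finset.univ.inf fun i => Cfsg.pPrimeCore (q i) G with hX
      by_contra hne
      obtain ⟨s, hs, hsd⟩ := Nat.exists_prime_and_dvd (fun h => hne (Subgroup.card_eq_one.mp h) : Nat.card X ≠ 1)
      obtain ⟨i, rfl⟩ := hcover s hs (hsd.trans X.card_subgroup_dvd_card)
      have h2 := hsd.trans (Subgroup.card_dvd_of_le (Finset.inf_le (Finset.mem_univ i)))
      exact hs.ne_one (Nat.eq_one_of_dvd_coprimes (coprime_card_pPrimeCore (q i) G) h2 dvd_rfl)
    exact le_bot_iff.mp (hinf ▸ Finset.le_inf fun i _ => key i)

/-- The Hall–Higman bound on derived length: let G be a finite solvable group, let p₁, …, p_r be distinct primes that include every prime dividing the order of G, and suppose that for each i the Sylow p_i-subgroups of G have derived length at most d_i and G has p_i-length at most l_i. Then G has derived length at most Σ d_i l_i. -/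
theorem result {G : Type*} [Group G] [Finite G] (hG : Group.IsSolvable G) (r : ℕ) (q : Fin r → ℕ) (hq : ∀ i, (q i).Prime) (hinj : Function.Injective q) (hcover : ∀ s : ℕ, s.Prime → s ∣ Nat.card G → ∃ i, q i = s) (d l : Fin r → ℕ) (hd : ∀ i, ∀ P : Subgroup G, (haveI := Fact.mk (hq i); ∃ S : Sylow (q i) G, (S : Subgroup G) = P) → derivedSeries ↥P (d i) = ⊥) (hl : ∀ i, Cfsg.PLengthLE (q i) (l i) G) : derivedSeries G (Finset.univ.sum fun i => d i * l i) = ⊥ := by
  refine main _ G rfl hG r q hq hcover d l (fun i P hP => ?_) hl
  haveI := Fact.mk (hq i)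
  obtain ⟨S, hS⟩ := hP.exists_le_sylow
  have h := map_derivedSeries_le_derivedSeries (Subgroup.inclusion hS) (d i)
  rw [hd i S ⟨S, rfl⟩, le_bot_iff, Subgroup.map_eq_bot_iff_of_injective _ (Subgroup.inclusion_injective _)] at h
  exact h

end Cfsg.Agent.S3791
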