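import Cfsg.Statements.S3797
import Mathlib
import Cfsg.Agent.Lib.PGroups.OneClass.Length

set_option autoImplicit false
open Cfsg

namespace Cfsg.Agent.S3797

open CfsgLib.PGroups.OneClass in
/-- A chain `N ≤ N ⊔ S` with odd index on top gives 2-length one. -/
theorem pLengthLE_one {G : Type*} [Group G] [Finite G] (N : Subgroup G) [N.Normal]
    (hN : (Nat.card N).Coprime 2) (S : Subgroup G) (hS : IsPGroup 2 S) [hM : (S ⊔ N).Normal]
    (hodd : (S ⊔ N).index.Coprime 2) : Cfsg.PLengthLE 2 1 G := by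
  show (Cfsg.upperPSeries 2 G 3).1 = ⊤
  have e1 : N ≤ (Cfsg.upperPSeries 2 G 1).1 := by
    haveI := (Cfsg.upperPSeries 2 G 0).2
    show N ≤ (Cfsg.pPrimeCore 2 (G ⧸ (Cfsg.upperPSeries 2 G 0).1)).comap (QuotientGroup.mk' _)
    rw [← Subgroup.map_le_iff_le_comap]
    haveI : (N.map (QuotientGroup.mk' (Cfsg.upperPSeries 2 G 0).1)).Normal :=
      Subgroup.Normal.map inferInstance _ (QuotientGroup.mk'_surjective _)
    exact CfsgLib.Core.le_pPrimeCore (hN.coprime_dvd_left (Subgroup.card_map_dvd _ _))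
  have e2 : S ⊔ N ≤ (Cfsg.upperPSeries 2 G 2).1 := by
    haveI := (Cfsg.upperPSeries 2 G 1).2
    show S ⊔ N ≤ (Cfsg.pCore 2 (G ⧸ (Cfsg.upperPSeries 2 G 1).1)).comap (QuotientGroup.mk' _)
    rw [← Subgroup.map_le_iff_le_comap]
    haveI : ((S ⊔ N).map (QuotientGroup.mk' (Cfsg.upperPSeries 2 G 1).1)).Normal :=
      Subgroup.Normal.map inferInstance _ (QuotientGroup.mk'_surjective _)
    refine CfsgLib.Core.le_pCore ?_
    have h : N.map (QuotientGroup.mk' (Cfsg.upperPSeries 2 G 1).1) = ⊥ := by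
      rw [Subgroup.map_eq_bot_iff, QuotientGroup.ker_mk']
      exact e1
    rw [Subgroup.map_sup, h, sup_bot_eq]
    exact hS.map _
  haveI := (Cfsg.upperPSeries 2 G 2).2
  show (Cfsg.pPrimeCore 2 (G ⧸ (Cfsg.upperPSeries 2 G 2).1)).comap (QuotientGroup.mk' _) = ⊤
  have h : (⊤ : Subgroup (G ⧸ (Cfsg.upperPSeries 2 G 2).1)) ≤
      Cfsg.pPrimeCore 2 (G ⧸ (Cfsg.upperPSeries 2 G 2).1) := by
    refine CfsgLib.Core.le_pPrimeCore ?_
    rw [Subgroup.card_top, ← Subgroup.index_eq_card]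
    exact hodd.coprime_dvd_left (Subgroup.index_dvd_of_le e2)
  rw [top_unique h, Subgroup.comap_top]

/-- Let G be a finite solvable group of even order whose Sylow 2-subgroups contain more than one involution, and suppose all involutions of G are conjugate. Then G has 2-length at most 1, and a Sylow 2-subgroup S of G is either homocyclic (a direct product of cyclic groups of one common order) or a non-abelian 2-group with more than one involution admitting a solvable group of automorphisms transitive on its involutions. -/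
theorem result {G : Type*} [Group G] [Finite G] (hG : Group.IsSolvable G) (heven : Even (Nat.card G)) (S : Sylow 2 G) (htwo : ∃ x y : G, x ∈ (S : Subgroup G) ∧ y ∈ (S : Subgroup G) ∧ x ≠ y ∧ x ≠ 1 ∧ x ^ 2 = 1 ∧ y ≠ 1 ∧ y ^ 2 = 1) (hconj : ∀ x y : G, x ≠ 1 → x ^ 2 = 1 → y ≠ 1 → y ^ 2 = 1 → IsConj x y) : Cfsg.PLengthLE 2 1 G ∧ ((∃ m r : ℕ, Nonempty (↥(S : Subgroup G) ≃* (Fin r → Multiplicative (ZMod (2 ^ m))))) ∨ (¬ IsMulCommutative (S : Subgroup G) ∧ ∃ Y : Subgroup (MulAut ↥(S : Subgroup G)), Group.IsSolvable Y ∧ ∀ x y : ↥(S : Subgroup G), x ≠ 1 → x ^ 2 = 1 → y ≠ 1 → y ^ 2 = 1 → ∃ a ∈ Y, a x = y)) := by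
  classical
  haveI := hG
  haveI : Fact (Nat.Prime 2) := ⟨Nat.prime_two⟩
  set N := Cfsg.pPrimeCore 2 G with hN
  haveI : N.Normal := by rw [hN]; infer_instance
  have hNc : (Nat.card N).Coprime 2 := CfsgLib.Core.coprime_card_pPrimeCore 2 G
  have hNodd : Odd (Nat.card N) := Nat.odd_iff.mpr (by
    have h := (Nat.prime_two.coprime_iff_not_dvd.mp hNc.symm)
    omega)
  have hSN : ∀ x ∈ (S : Subgroup G), x ∈ N → x = 1 := by
    intro x hx hxN
    obtain ⟨a, ha⟩ := IsPGroup.iff_card.mp S.isPGroup'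
    have hc : (Nat.card (S : Subgroup G)).Coprime (Nat.card N) := by
      rw [ha]; exact hNc.symm.pow_left a
    exact Subgroup.mem_bot.mp ((Subgroup.inf_eq_bot_of_coprime hc).le ⟨hx, hxN⟩)
  obtain ⟨x₀, y₀, hx₀S, hy₀S, hxy, hx1, hx2, hy1, hy2⟩ := htwo
  let π := QuotientGroup.mk' N
  have hinj : ∀ x ∈ (S : Subgroup G), ∀ y ∈ (S : Subgroup G), π x = π y → x = y := by
    intro x hx y hy h
    exact inv_mul_eq_one.mp (hSN _ (mul_mem (inv_mem hx) hy) (QuotientGroup.eq.mp h))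
  have hlift : ∀ x : G ⧸ N, x ≠ 1 → x ^ 2 = 1 → ∃ a : G, a ≠ 1 ∧ a ^ 2 = 1 ∧ (a : G ⧸ N) = x := by
    intro x hx hx2
    obtain ⟨a, ha, hax⟩ := CfsgLib.PGroups.OneClass.exists_lift N hNodd hx2
    exact ⟨a, fun h => hx (by rw [← hax, h]; rfl), ha, hax⟩
  have hodd := CfsgLib.PGroups.OneClass.odd_index (G := G ⧸ N) inferInstance
    (CfsgLib.Core.pPrimeCore_quotient_pPrimeCore 2 G)
    (fun x y hx hx2 hy hy2 => by
      obtain ⟨a, ha1, ha2, rfl⟩ := hlift x hx hx2
      obtain ⟨b, hb1, hb2, rfl⟩ := hlift y hy hy2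
      exact π.map_isConj (hconj a b ha1 ha2 hb1 hb2))
    ⟨π x₀, π y₀, fun h => hxy (hinj _ hx₀S _ hy₀S h), fun h => hx1 (hinj _ hx₀S _ (one_mem _) (by rw [h, map_one])),
      by rw [← map_pow, hx2, map_one], fun h => hy1 (hinj _ hy₀S _ (one_mem _) (by rw [h, map_one])),
      by rw [← map_pow, hy2, map_one]⟩
  set Sb : Sylow 2 (G ⧸ N) := S.mapSurjective (f := π) (QuotientGroup.mk'_surjective N) with hSb
  set Qb := Cfsg.pCore 2 (G ⧸ N) with hQb
  have hQS : Qb = (Sb : Subgroup (G ⧸ N)) := by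
    let P := (CfsgLib.Core.isPGroup_pCore 2 (G ⧸ N)).toSylow (by
      rw [← hQb]; exact Nat.two_dvd_ne_zero.mpr (Nat.odd_iff.mp hodd))
    exact (P.is_maximal' Sb.isPGroup' (CfsgLib.Core.pCore_le_sylow Sb)).symm
  set M := (S : Subgroup G) ⊔ N with hMdef
  have hM : M = Qb.comap π := by
    rw [hQS, show (Sb : Subgroup (G ⧸ N)) = (S : Subgroup G).map π from rfl, Subgroup.comap_map_eq,
      QuotientGroup.ker_mk']
  haveI hMn : M.Normal := hM ▸ Subgroup.Normal.comap inferInstance _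
  have hMidx : M.index.Coprime 2 := by
    rw [hM, Subgroup.index_comap_of_surjective _ (QuotientGroup.mk'_surjective N)]
    exact hodd.coprime_two_right
  refine ⟨pLengthLE_one N hNc (S : Subgroup G) S.isPGroup' hMidx, ?_⟩
  -- the automorphisms
  let Φ := Subgroup.normalizerMonoidHom (S : Subgroup G)
  have hfrat : Subgroup.normalizer ((S : Subgroup G) : Set G) ⊔ N = ⊤ := by
    rw [eq_top_iff, ← Sylow.normalizer_sup_eq_top' (N := M) S le_sup_left]
    refine sup_le le_sup_left (sup_le (le_sup_of_le_left ?_) le_sup_right)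
    exact Subgroup.le_normalizer
  have htr : ∀ x y : (S : Subgroup G), x ≠ 1 → x ^ 2 = 1 → y ≠ 1 → y ^ 2 = 1 → ∃ a ∈ Φ.range, a x = y := by
    intro x y hx hx2 hy hy2
    obtain ⟨g, hg⟩ := isConj_iff.mp (hconj (x : G) y (fun h => hx (Subtype.ext h))
      (congrArg Subtype.val hx2) (fun h => hy (Subtype.ext h)) (congrArg Subtype.val hy2))
    obtain ⟨m, hm, k, hk, hgk⟩ := Subgroup.mem_sup_of_normal_right.mp (hfrat ▸ Subgroup.mem_top g :
      g ∈ Subgroup.normalizer ((S : Subgroup G) : Set G) ⊔ N)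
    refine ⟨Φ ⟨m, hm⟩, ⟨_, rfl⟩, Subtype.ext ?_⟩
    show m * (x : G) * m⁻¹ = y
    have hzS : m * (x : G) * m⁻¹ ∈ (S : Subgroup G) := (Subgroup.mem_normalizer_iff.mp hm x).mp x.2
    refine hinj _ hzS _ y.2 ?_
    have hπk : π k = 1 := (QuotientGroup.eq_one_iff _).mpr hk
    rw [← hg, ← hgk]
    simp [map_mul, map_inv, hπk]
  by_cases hab : IsMulCommutative (S : Subgroup G)
  · left
    haveI := hab
    open scoped IsMulCommutative in
    exact CfsgLib.PGroups.OneClass.homocyclic (S := (S : Subgroup G)) S.isPGroup'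
      fun x y hx hx2 hy hy2 => by
        obtain ⟨a, -, ha⟩ := htr x y hx hx2 hy hy2
        exact ⟨a, ha⟩
  · exact Or.inr ⟨hab, Φ.range, Group.isSolvable_of_surjective Φ.rangeRestrict_surjective, htr⟩

end Cfsg.Agent.S3797
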