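import Cfsg.Statements.S3798
import Mathlib
import Cfsg.Agent.Lib.PLocal.PLength
import Cfsg.Agent.Lib.PLocal.PSolvable
import Cfsg.Agent.Lib.Core.Hall
import Cfsg.Agent.Lib.OddLocal.Coprime

set_option autoImplicit false
open Cfsg

namespace Cfsg.Agent.S3798

set_option linter.style.haveILetI false
open scoped Pointwise
open CfsgLib.Core

/-- The case `O_{p'}(H) = 1`: every element of order `p` is central in `O_p(H)`, and `H / O_p(H)` has
order prime to `p`. -/
theorem core_case {H : Type*} [Group H] [Finite H] {p : ℕ} [hp : Fact p.Prime] (hp2 : p ≠ 2)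
    (hdvd : p ∣ Nat.card H) (hsol : Cfsg.IsPSolvable p H) (hO : Cfsg.pPrimeCore p H = ⊥)
    (htrans : ∀ U V : Subgroup H, Nat.card U = p → Nat.card V = p →
      ∃ a : MulAut H, U.map a.toMonoidHom = V) : ¬ p ∣ (Cfsg.pCore p H).index := by
  intro hidx
  set R := Cfsg.pCore p H with hR
  have hRp : IsPGroup p R := isPGroup_pCore p H
  have hCR := CfsgLib.PLocal.centralizer_pCore_le hsol hO
  have hRne : R ≠ ⊥ := by
    intro h
    rw [← hR, h, Subgroup.coe_bot] at hCR
    have h1 : (⊤ : Subgroup H) ≤ ⊥ := fun x _ => hCR (Subgroup.mem_centralizer_iff.mpr (by simp))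
    rw [← Subgroup.card_top, le_bot_iff.mp h1, Subgroup.card_bot] at hdvd
    exact hp.out.ne_one (Nat.dvd_one.mp hdvd)
  -- every element of order `p` lies in the centre of `R`
  haveI : Nontrivial R := (Subgroup.nontrivial_iff_ne_bot R).mpr hRne
  haveI := hRp.center_nontrivial
  obtain ⟨k, hk'⟩ := IsPGroup.iff_card.mp (hRp.to_subgroup (Subgroup.center R))
  have hk : k ≠ 0 := by
    intro hk0
    rw [hk0, pow_zero] at hk'
    have := Finite.one_lt_card (α := Subgroup.center R)
    omega
  obtain ⟨z, hz⟩ := exists_prime_orderOf_dvd_card' (G := Subgroup.center R) p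
    (hk' ▸ dvd_pow_self p hk)
  have hzH : orderOf ((z : R) : H) = p := by
    rw [Subgroup.orderOf_coe, Subgroup.orderOf_coe, hz]
  have hord : ∀ u : H, orderOf u = p → u ∈ R ∧ ∀ r ∈ R, r * u = u * r := by
    intro u hu
    obtain ⟨a, ha⟩ := htrans (Subgroup.zpowers ((z : R) : H)) (Subgroup.zpowers u)
      (by rw [Nat.card_zpowers, hzH]) (by rw [Nat.card_zpowers, hu])
    have hua : u ∈ (Subgroup.zpowers ((z : R) : H)).map a.toMonoidHom :=
      ha ▸ Subgroup.mem_zpowers u
    obtain ⟨w, hw, rfl⟩ := Subgroup.mem_map.mp hua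
    obtain ⟨i, rfl⟩ := Subgroup.mem_zpowers_iff.mp hw
    have hRa : R.map a.toMonoidHom = R := map_equiv_pCore a
    refine ⟨hRa.le (Subgroup.mem_map_of_mem _ (R.zpow_mem (z : R).2 i)), fun r hr => ?_⟩
    obtain ⟨s, hs, rfl⟩ := Subgroup.mem_map.mp (hRa.ge hr)
    show a.toMonoidHom s * _ = _ * a.toMonoidHom s
    rw [← map_mul, ← map_mul]
    congr 1
    exact (Commute.zpow_right
      (congrArg Subtype.val (Subgroup.mem_center_iff.mp z.2 ⟨s, hs⟩) : Commute s ((z : R) : H)) i).eq
  -- `M / R = O_{p'}(H / R)`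
  set π := QuotientGroup.mk' R with hπ
  have hsurj := QuotientGroup.mk'_surjective R
  set Qb := Cfsg.pPrimeCore p (H ⧸ R) with hQb
  have hQbc : (Nat.card Qb).Coprime p := coprime_card_pPrimeCore p _
  have hQbne : Qb ≠ ⊥ := by
    intro h
    have h1 := CfsgLib.PLocal.centralizer_pCore_le (CfsgLib.PLocal.isPSolvable_quotient hsol R) h
    rw [pCore_quotient_pCore, Subgroup.coe_bot] at h1
    have h2 : (⊤ : Subgroup (H ⧸ R)) ≤ ⊥ := fun x _ => h1 (Subgroup.mem_centralizer_iff.mpr (by simp))
    rw [Subgroup.index_eq_card, ← Subgroup.card_top, le_bot_iff.mp h2, Subgroup.card_bot] at hidx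
    exact hp.out.ne_one (Nat.dvd_one.mp hidx)
  set M := Qb.comap π with hM
  haveI : M.Normal := Subgroup.Normal.comap inferInstance π
  have hRM : R ≤ M := QuotientGroup.le_comap_mk' R _
  have hMcard : Nat.card M = Nat.card R * Nat.card Qb := card_comap_mk' R Qb
  obtain ⟨e, he⟩ := IsPGroup.iff_card.mp hRp
  -- a complement `Q` of `R` in `M`
  have hcard : Nat.card (R.subgroupOf M) = Nat.card R :=
    Nat.card_congr (Subgroup.subgroupOfEquivOfLe hRM).toEquiv
  have hMidx : (R.subgroupOf M).index = Nat.card Qb := by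
    apply Nat.eq_of_mul_eq_mul_left (Nat.card_pos (α := R))
    rw [← hMcard, ← hcard, Subgroup.card_mul_index]
  obtain ⟨B, hB⟩ := Subgroup.exists_right_complement'_of_coprime (N := R.subgroupOf M) (by
    rw [hcard, hMidx, he]; exact (hQbc.pow_right e).symm)
  set Q := B.map M.subtype with hQ
  have hQM : Q ≤ M := Subgroup.map_subtype_le B
  have hQcard : Nat.card Q = Nat.card Qb := by
    rw [hQ, Nat.card_congr (B.equivMapOfInjective _ M.subtype_injective).symm.toEquiv,
      ← hB.symm.index_eq_card, hMidx]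
  have hcop : (Nat.card Q).Coprime (Nat.card R) := by rw [hQcard, he]; exact hQbc.pow_right e
  have hQR : Q ⊔ R = M := by
    refine Subgroup.eq_of_le_of_card_ge (sup_le hQM hRM) (le_of_eq ?_)
    rw [card_sup_of_coprime Q R (Subgroup.le_normalizer_of_normal) hcop, hMcard, hQcard, mul_comm]
  -- `H = R N(Q)`, so some element of order `p` of `R` centralises `M`
  have hfrat : ∀ h : H, ∃ m ∈ R, m⁻¹ * h ∈ Subgroup.normalizer (Q : Set H) := by
    intro h
    haveI : Group.IsSolvable R := by haveI := hRp.isNilpotent; infer_instance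
    obtain ⟨m, hm, hmQ⟩ := exists_conj_eq_of_coprime (N := R) (H := Q) (K := MulAut.conj h • Q)
      Subgroup.le_normalizer_of_normal
      (by rw [hQR]; exact le_trans (by gcongr) (le_of_eq (Subgroup.Normal.conj_smul_eq_self h M)))
      (card_conj_smul h Q) hcop (Or.inl inferInstance)
    refine ⟨m, hm, ?_⟩
    rw [CfsgLib.Core.mem_normalizer_iff_conj_smul_eq, map_mul, mul_smul, ← hmQ, map_inv, inv_smul_smul]
  obtain ⟨y, hy, hyp⟩ : ∃ y ∈ Subgroup.normalizer (Q : Set H), orderOf y = p := by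
    set N := Subgroup.normalizer (Q : Set H)
    have htop : N.map π = ⊤ := by
      refine eq_top_iff.mpr fun x _ => ?_
      obtain ⟨h, rfl⟩ := hsurj x
      obtain ⟨m, hm, hmh⟩ := hfrat h
      refine Subgroup.mem_map.mpr ⟨_, hmh, ?_⟩
      rw [map_mul, map_inv, (QuotientGroup.eq_one_iff m).mpr hm |> fun e => (e : π m = 1), inv_one, one_mul]
    have hdN : p ∣ Nat.card N := by
      refine dvd_trans ?_ (N.card_map_dvd π)
      rw [htop, Subgroup.card_top, ← Subgroup.index_eq_card]; exact hidx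
    obtain ⟨y, hy⟩ := exists_prime_orderOf_dvd_card' (G := N) p hdN
    exact ⟨y, y.2, by rw [Subgroup.orderOf_coe, hy]⟩
  have hyQ : ∀ q ∈ Q, q * y = y * q := by
    intro q hq
    have h1 : y * q * y⁻¹ * q⁻¹ ∈ Q ⊓ R := by
      refine ⟨Q.mul_mem ((Subgroup.mem_normalizer_iff.mp hy q).mp hq) (Q.inv_mem hq), ?_⟩
      have h2 : q * y⁻¹ * q⁻¹ ∈ R :=
        Subgroup.Normal.conj_mem inferInstance _ (R.inv_mem (hord y hyp).1) q
      simpa [mul_assoc] using R.mul_mem (hord y hyp).1 h2
    rw [Subgroup.inf_eq_bot_of_coprime hcop, Subgroup.mem_bot] at h1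
    exact (mul_inv_eq_iff_eq_mul.mp (mul_inv_eq_one.mp h1)).symm
  have hyM : ∀ x ∈ M, x * y = y * x := by
    intro x hx
    rw [← hQR] at hx
    obtain ⟨q, hq, r, hr, rfl⟩ := Subgroup.mem_sup_of_normal_right.mp hx
    rw [mul_assoc, (hord y hyp).2 r hr, ← mul_assoc, hyQ q hq, mul_assoc]
  -- by transitivity `Q` fixes all elements of order `p`
  refine hQbne ?_
  rw [← Subgroup.card_eq_one, ← hQcard]
  have hQC : Q ≤ Subgroup.centralizer (R : Set H) := by
    intro q hq
    refine CfsgLib.OddLocal.centralizes_of_fixes_order_p hp2 (n := Nat.card Q)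
      (orderOf_dvd_iff_pow_eq_one.mp (Subgroup.orderOf_dvd_natCard Q hq)) (hQcard ▸ hQbc) hRp
      (Subgroup.le_normalizer_of_normal (Subgroup.mem_top q)) fun u _ hu => ?_
    obtain ⟨a, ha⟩ := htrans (Subgroup.zpowers y) (Subgroup.zpowers u)
      (by rw [Nat.card_zpowers, hyp]) (by rw [Nat.card_zpowers, hu])
    have hua : u ∈ (Subgroup.zpowers y).map a.toMonoidHom := ha ▸ Subgroup.mem_zpowers u
    obtain ⟨w, hw, rfl⟩ := Subgroup.mem_map.mp hua
    obtain ⟨i, rfl⟩ := Subgroup.mem_zpowers_iff.mp hw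
    have hMa : M ≤ M.map a.toMonoidHom := by
      have hle : M.map a.toMonoidHom ≤ M := by
        haveI : (M.map a.toMonoidHom).Normal := Subgroup.Normal.map inferInstance _ a.surjective
        have hn : ((M.map a.toMonoidHom).map π).Normal := Subgroup.Normal.map inferInstance _ hsurj
        rw [hM, ← Subgroup.map_le_iff_le_comap]
        refine le_pPrimeCore ?_
        have hRle : R ≤ M.map a.toMonoidHom := by
          exact le_trans (map_equiv_pCore a : R.map a.toMonoidHom = R).ge (Subgroup.map_mono hRM)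
        have h3 := card_comap_mk' R ((M.map a.toMonoidHom).map π)
        rw [Subgroup.comap_map_eq_self (by rw [QuotientGroup.ker_mk']; exact hRle)] at h3
        have h4 : Nat.card (M.map a.toMonoidHom) = Nat.card M :=
          Nat.card_congr (M.equivMapOfInjective _ a.injective).symm.toEquiv
        rw [h4, hMcard] at h3
        rw [← Nat.eq_of_mul_eq_mul_left Nat.card_pos h3]
        exact hQbc
      exact (Subgroup.eq_of_le_of_card_ge hle
        (Nat.card_congr (M.equivMapOfInjective _ a.injective).toEquiv).le).ge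
    obtain ⟨x, hx, hxq⟩ := Subgroup.mem_map.mp (hMa (hQM hq))
    show Commute q (a.toMonoidHom (y ^ i))
    rw [← hxq]
    exact ((show Commute x y from hyM x hx).zpow_right i).map a.toMonoidHom
  refine Nat.dvd_one.mp ?_
  rw [← hcop.gcd_eq_one]
  exact Nat.dvd_gcd dvd_rfl (Subgroup.card_dvd_of_le (hQC.trans hCR))

/-- The Gaschütz–Yen Theorem: let G be a finite p-soluble group, p an odd prime dividing its order, such that the automorphism group of G permutes the subgroups of G of order p transitively. Then G has p-length at most 1. -/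
theorem result {G : Type*} [Group G] [Finite G] {p : ℕ} [Fact p.Prime] (hp : p ≠ 2) (hdvd : p ∣ Nat.card G) (hG : Cfsg.IsPSolvable p G) (htrans : ∀ U V : Subgroup G, Nat.card U = p → Nat.card V = p → ∃ a : MulAut G, U.map a.toMonoidHom = V) : Cfsg.PLengthLE p 1 G := by
  set U1 := (Cfsg.upperPSeries p G (2 * 0 + 1)).1 with hU1
  have hU1eq : U1 = Cfsg.pPrimeCore p G := by
    rw [hU1, CfsgLib.PLocal.upper_odd]
    refine le_antisymm (le_pPrimeCore ?_) (Subgroup.map_le_iff_le_comap.mp
      (map_pPrimeCore_le _ (QuotientGroup.mk'_surjective _)))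
    rw [card_comap_mk']
    have h0 : (Cfsg.upperPSeries p G (2 * 0)).1 = ⊥ := rfl
    refine Nat.Coprime.mul_left ?_ (coprime_card_pPrimeCore p _)
    rw [h0, Subgroup.card_bot]; exact Nat.coprime_one_left p
  have hc : (Nat.card U1).Coprime p := hU1eq ▸ coprime_card_pPrimeCore p G
  have hO := CfsgLib.PLocal.pPrimeCore_quotient_upper_odd (G := G) (p := p) 0
  have hsurj := QuotientGroup.mk'_surjective U1
  have hdQ : p ∣ Nat.card (G ⧸ U1) := by
    rw [← Subgroup.index_eq_card]
    rw [← U1.card_mul_index] at hdvd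
    exact (hc.symm.dvd_mul_left).mp hdvd
  have htQ : ∀ U V : Subgroup (G ⧸ U1), Nat.card U = p → Nat.card V = p →
      ∃ a : MulAut (G ⧸ U1), U.map a.toMonoidHom = V := by
    have lift : ∀ U : Subgroup (G ⧸ U1), Nat.card U = p →
        ∃ W : Subgroup G, Nat.card W = p ∧ W.map (QuotientGroup.mk' U1) = U := by
      intro U hU
      obtain ⟨w, hw⟩ := exists_prime_orderOf_dvd_card' (G := U.comap (QuotientGroup.mk' U1)) p
        (by rw [card_comap_mk', hU]; exact dvd_mul_left _ _)
      have hwo : orderOf (w : G) = p := by rw [Subgroup.orderOf_coe, hw]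
      refine ⟨Subgroup.zpowers (w : G), by rw [Nat.card_zpowers, hwo], ?_⟩
      have hle : (Subgroup.zpowers (w : G)).map (QuotientGroup.mk' U1) ≤ U := by
        rw [Subgroup.map_le_iff_le_comap, Subgroup.zpowers_le]; exact w.2
      refine Subgroup.eq_of_le_of_card_ge hle ?_
      have hd := (Subgroup.zpowers (w : G)).card_map_dvd (QuotientGroup.mk' U1)
      rw [Nat.card_zpowers, hwo] at hd
      rcases (Nat.dvd_prime (Fact.out : p.Prime)).mp hd with h | h
      · exfalso
        have h1 : QuotientGroup.mk' U1 (w : G) = 1 := by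
          have := Subgroup.mem_map_of_mem (QuotientGroup.mk' U1) (Subgroup.mem_zpowers (w : G))
          rwa [Subgroup.eq_bot_of_card_eq _ h, Subgroup.mem_bot] at this
        have h2 := Subgroup.orderOf_dvd_natCard U1 ((QuotientGroup.eq_one_iff _).mp h1)
        rw [hwo] at h2
        exact (Fact.out : p.Prime).ne_one (Nat.eq_one_of_dvd_coprimes hc.symm dvd_rfl h2)
      · rw [h, hU]
    intro U V hU hV
    obtain ⟨U', hU', rfl⟩ := lift U hU
    obtain ⟨V', hV', rfl⟩ := lift V hV
    obtain ⟨a, rfl⟩ := htrans U' V' hU' hV'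
    refine ⟨QuotientGroup.congr U1 U1 a (by rw [hU1eq]; exact map_equiv_pPrimeCore a), ?_⟩
    rw [Subgroup.map_map, Subgroup.map_map]
    rfl
  have key := core_case hp hdQ (CfsgLib.PLocal.isPSolvable_quotient hG U1) hO htQ
  show (Cfsg.upperPSeries p G (2 * 1 + 1)).1 = ⊤
  rw [CfsgLib.PLocal.upper_odd]
  have hidx : (Cfsg.upperPSeries p G (2 * 1)).1.index = (Cfsg.pCore p (G ⧸ U1)).index := by
    show (Cfsg.upperPSeries p G (2 * 0 + 2)).1.index = _
    rw [CfsgLib.PLocal.upper_even, Subgroup.index_comap_of_surjective _ hsurj]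
  have hcop2 : (Nat.card (⊤ : Subgroup (G ⧸ (Cfsg.upperPSeries p G (2 * 1)).1))).Coprime p := by
    rw [Subgroup.card_top, ← Subgroup.index_eq_card, hidx]
    exact Nat.Coprime.symm (((Fact.out : p.Prime).coprime_iff_not_dvd).mpr key)
  rw [top_le_iff.mp (le_pPrimeCore hcop2), Subgroup.comap_top]

end Cfsg.Agent.S3798
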