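import Cfsg.Statements.S3799
import Mathlib
import Cfsg.Agent.Lib.PGroups.Extraspecial

set_option autoImplicit false
open Cfsg

namespace Cfsg.Agent.S3799

open CfsgLib.PGroups
open scoped commutatorElement

variable {p : ℕ} [Fact p.Prime] {n : ℕ}

/-- Shear matrices of the Heisenberg group. -/
def heis (x : (Fin n → ZMod p) × (Fin n → ZMod p) × ZMod p) :
    Matrix (Fin (n + 2)) (Fin (n + 2)) (ZMod p) :=
  Matrix.of (Fin.cons (Fin.cons 1 (Fin.snoc x.1 x.2.2))
    (Fin.snoc (fun i : Fin n => Fin.cons 0 (Fin.snoc (fun j : Fin n => if i = j then 1 else 0) (x.2.1 i)))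
      (Fin.cons 0 (Fin.snoc (fun _ : Fin n => (0 : ZMod p)) 1))))

theorem heis_mul (x y : (Fin n → ZMod p) × (Fin n → ZMod p) × ZMod p) :
    heis x * heis y = heis (x.1 + y.1, x.2.1 + y.2.1, x.2.2 + y.2.2 + ∑ i, x.1 i * y.2.1 i) := by
  ext i j
  rw [Matrix.mul_apply, Fin.sum_univ_succ]
  simp only [Fin.sum_univ_castSucc]
  rcases Fin.eq_zero_or_eq_succ i with rfl | ⟨i', rfl⟩ <;>
    rcases Fin.eq_zero_or_eq_succ j with rfl | ⟨j', rfl⟩
  · simp [heis]
  · induction j' using Fin.lastCases with
    | last => simp [heis]; ring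
    | cast j => simp [heis, add_comm]
  · induction i' using Fin.lastCases with
    | last => simp [heis]
    | cast i => simp [heis]
  · induction i' using Fin.lastCases with
    | last => induction j' using Fin.lastCases with
      | last => simp [heis]
      | cast j => simp [heis]
    | cast i => induction j' using Fin.lastCases with
      | last => simp [heis, add_comm]
      | cast j => simp [heis]

theorem heis_zero : heis (p := p) (n := n) (0, 0, 0) = 1 := by
  ext i j
  rcases Fin.eq_zero_or_eq_succ i with rfl | ⟨i', rfl⟩ <;>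
    rcases Fin.eq_zero_or_eq_succ j with rfl | ⟨j', rfl⟩
  · simp [heis]
  · induction j' using Fin.lastCases with
    | last => simp [heis, (Fin.succ_ne_zero _).symm]
    | cast j => simp [heis, (Fin.succ_ne_zero _).symm]
  · induction i' using Fin.lastCases with
    | last => simp [heis, Fin.succ_ne_zero]
    | cast i => simp [heis, Fin.succ_ne_zero]
  · induction i' using Fin.lastCases with
    | last => induction j' using Fin.lastCases with
      | last => simp [heis]
      | cast j => simp [heis, Matrix.one_apply, ← Fin.succ_last, Fin.succ_inj, (Fin.castSucc_lt_last j).ne']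
    | cast i => induction j' using Fin.lastCases with
      | last => simp [heis, Matrix.one_apply, (Fin.castSucc_lt_last i).ne]
      | cast j => simp [heis, Matrix.one_apply]

/-- As a unit. -/
def heisU (x : (Fin n → ZMod p) × (Fin n → ZMod p) × ZMod p) :
    Matrix.GeneralLinearGroup (Fin (n + 2)) (ZMod p) where
  val := heis x
  inv := heis (-x.1, -x.2.1, -x.2.2 + ∑ i, x.1 i * x.2.1 i)
  val_inv := by
    rw [heis_mul, ← heis_zero]; congr 1
    refine Prod.ext (by simp) (Prod.ext (by simp) ?_)
    simp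
  inv_val := by
    rw [heis_mul, ← heis_zero]; congr 1
    refine Prod.ext (by simp) (Prod.ext (by simp) ?_)
    simp

theorem heisU_mul (x y : (Fin n → ZMod p) × (Fin n → ZMod p) × ZMod p) :
    heisU x * heisU y = heisU (x.1 + y.1, x.2.1 + y.2.1, x.2.2 + y.2.2 + ∑ i, x.1 i * y.2.1 i) :=
  Units.ext (heis_mul x y)

theorem heisU_injective : Function.Injective (heisU (p := p) (n := n)) := by
  intro x y h
  have h0 : heis x = heis y := congrArg Units.val h
  have h' : ∀ i j, heis x i j = heis y i j := fun i j => by rw [h0]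
  refine Prod.ext (funext fun i => ?_) (Prod.ext (funext fun i => ?_) ?_)
  · simpa [heis] using h' 0 i.castSucc.succ
  · simpa [heis] using h' i.castSucc.succ (Fin.last n).succ
  · simpa [heis] using h' 0 (Fin.last n).succ

theorem heisU_one : heisU (p := p) (n := n) (0, 0, 0) = 1 := Units.ext heis_zero

theorem heisU_pow (x : (Fin n → ZMod p) × (Fin n → ZMod p) × ZMod p) (k : ℕ) :
    heisU x ^ k = heisU (k • x.1, k • x.2.1, k • x.2.2 + k.choose 2 • ∑ i, x.1 i * x.2.1 i) := by
  induction k with
  | zero => simp [heisU_one]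
  | succ k ih =>
    rw [pow_succ, ih, heisU_mul]
    congr 1
    refine Prod.ext (succ_nsmul _ _).symm (Prod.ext (succ_nsmul _ _).symm ?_)
    simp only [Nat.choose_succ_succ' k 1, Nat.choose_one_right, succ_nsmul, add_nsmul,
      Pi.smul_apply, smul_mul_assoc, Finset.smul_sum]
    rw [show (k.choose (1 + 1)) = k.choose 2 from rfl, Finset.sum_add_distrib]
    abel

theorem heisU_pow_p (hp : p ≠ 2) (x : (Fin n → ZMod p) × (Fin n → ZMod p) × ZMod p) :
    heisU x ^ p = 1 := by
  rw [heisU_pow, ← heisU_one]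
  congr 1
  have hc : (p.choose 2 : ZMod p) = 0 := by
    rw [ZMod.natCast_eq_zero_iff]
    have := (Fact.out : p.Prime).two_le
    exact (Fact.out : p.Prime).dvd_choose_self (by norm_num) (by omega)
  refine Prod.ext (by ext i; simp [nsmul_eq_mul]) (Prod.ext (by ext i; simp [nsmul_eq_mul]) ?_)
  simp [nsmul_eq_mul, hc]


/-- For every odd prime p and every n ≥ 1 there is an extraspecial p-group of order p^(1+2n) and exponent p; concretely, the general linear group of degree n + 2 over the field with p elements contains such a subgroup. -/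
theorem result (p : ℕ) [Fact p.Prime] (hp : p ≠ 2) (n : ℕ) (hn : 1 ≤ n) : ∃ E : Subgroup (Matrix.GeneralLinearGroup (Fin (n + 2)) (ZMod p)), Cfsg.IsExtraspecial p ↥E ∧ Nat.card E = p ^ (1 + 2 * n) ∧ ∀ x ∈ E, x ^ p = 1 := by
  classical
  let E : Subgroup (Matrix.GeneralLinearGroup (Fin (n + 2)) (ZMod p)) :=
    { carrier := Set.range heisU
      one_mem' := ⟨_, heisU_one⟩
      mul_mem' := by rintro _ _ ⟨x, rfl⟩ ⟨y, rfl⟩; exact ⟨_, (heisU_mul x y).symm⟩
      inv_mem' := by
        rintro _ ⟨x, rfl⟩
        exact ⟨(-x.1, -x.2.1, -x.2.2 + ∑ i, x.1 i * x.2.1 i), Units.ext rfl⟩ }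
  have hexp : ∀ x ∈ E, x ^ p = 1 := by rintro _ ⟨x, rfl⟩; exact heisU_pow_p hp x
  have hcard : Nat.card E = p ^ (1 + 2 * n) := by
    calc Nat.card E = Nat.card ((Fin n → ZMod p) × (Fin n → ZMod p) × ZMod p) :=
          (Nat.card_congr (Equiv.ofInjective heisU heisU_injective)).symm
      _ = _ := by
          rw [Nat.card_prod, Nat.card_prod, Nat.card_fun, Nat.card_zmod, Nat.card_eq_fintype_card, Fintype.card_fin]
          ring
  refine ⟨E, ?_, hcard, hexp⟩
  let el : (Fin n → ZMod p) × (Fin n → ZMod p) × ZMod p → E := fun x => ⟨heisU x, x, rfl⟩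
  have hel : Function.Surjective el := by rintro ⟨_, x, rfl⟩; exact ⟨x, rfl⟩
  have hinj : Function.Injective el := fun x y h => heisU_injective (congrArg Subtype.val h)
  have helmul : ∀ x y, el x * el y = el (x.1 + y.1, x.2.1 + y.2.1, x.2.2 + y.2.2 + ∑ i, x.1 i * y.2.1 i) :=
    fun x y => Subtype.ext (heisU_mul x y)
  have hcen : ∀ c : ZMod p, el (0, 0, c) ∈ Subgroup.center E := by
    intro c
    rw [Subgroup.mem_center_iff]
    intro g
    obtain ⟨y, rfl⟩ := hel g
    rw [helmul, helmul]
    congr 1
    simp [add_comm]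
  have hcen' : ∀ x, el x ∈ Subgroup.center E → x.1 = 0 ∧ x.2.1 = 0 := by
    intro x hx
    have h1 : ∀ y : (Fin n → ZMod p) × (Fin n → ZMod p) × ZMod p,
        ∑ i, x.1 i * y.2.1 i = ∑ i, y.1 i * x.2.1 i := by
      intro y
      have := Subgroup.mem_center_iff.mp hx (el y)
      rw [helmul, helmul] at this
      have h2 := congrArg (fun z => z.2.2) (hinj this)
      simp only [add_comm y.2.2 x.2.2] at h2
      exact (add_left_cancel h2).symm
    constructor <;> funext i
    · simpa [Pi.single_apply] using h1 (0, Pi.single i 1, 0)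
    · simpa [Pi.single_apply] using (h1 (Pi.single i 1, 0, 0)).symm
  have hZ : Nat.card (Subgroup.center E) = p := by
    have : Function.Bijective (fun c : ZMod p => (⟨el (0, 0, c), hcen c⟩ : Subgroup.center E)) := by
      refine ⟨fun a b h => congrArg (fun z => z.2.2) (hinj (congrArg Subtype.val h)), ?_⟩
      rintro ⟨g, hg⟩
      obtain ⟨x, rfl⟩ := hel g
      obtain ⟨ha, hb⟩ := hcen' x hg
      refine ⟨x.2.2, Subtype.ext (congrArg el ?_)⟩
      exact Prod.ext ha.symm (Prod.ext hb.symm rfl)
    rw [← Nat.card_eq_of_bijective _ this, Nat.card_zmod]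
  refine isExtraspecial_of (IsPGroup.of_card hcard) ?_ hZ ?_ ?_
  · intro hab
    have i0 : Fin n := ⟨0, hn⟩
    have h := congrArg (fun e : E => e) (hab.is_comm.comm (el (Pi.single i0 1, 0, 0)) (el (0, Pi.single i0 1, 0)))
    simp only [helmul] at h
    have h2 := congrArg (fun z => z.2.2) (hinj h)
    simp [Pi.single_apply] at h2
  · rw [commutator_eq_closure, Subgroup.closure_le]
    rintro _ ⟨a, b, rfl⟩
    obtain ⟨x, rfl⟩ := hel a
    obtain ⟨y, rfl⟩ := hel b
    have hc : el x * el y = el (0, 0, ∑ i, x.1 i * y.2.1 i - ∑ i, y.1 i * x.2.1 i) * (el y * el x) := by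
      rw [helmul, helmul, helmul]
      congr 1
      refine Prod.ext (by simp [add_comm]) (Prod.ext (by simp [add_comm]) ?_)
      simp; ring
    have : ⁅el x, el y⁆ = el (0, 0, ∑ i, x.1 i * y.2.1 i - ∑ i, y.1 i * x.2.1 i) := by
      rw [commutatorElement_def, hc]; group
    rw [this]; exact hcen _
  · intro x
    have : x ^ p = 1 := Subtype.ext (by simpa using hexp x x.2)
    rw [this]; exact one_mem _

end Cfsg.Agent.S3799
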