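import Cfsg.Statements.S3800
import Mathlib
import Cfsg.Agent.Lib.Core.Coprime
import Cfsg.Agent.Lib.Transfer.Conj

set_option autoImplicit false
open Cfsg

namespace Cfsg.Agent.S3800

open scoped Pointwise commutatorElement


/-- Let G be a finite group, N a normal subgroup of G whose order is prime to p, and P a p-subgroup of G. Then in G/N the normalizer of the image of P is the image of N_G(P), and the centralizer of the image of P is the image of C_G(P). -/
theorem result {G : Type*} [Group G] [Finite G] {p : ℕ} [Fact p.Prime] (N : Subgroup G) [N.Normal] (hN : (Nat.card N).Coprime p) (P : Subgroup G) (hP : IsPGroup p P) : Subgroup.normalizer ((P.map (QuotientGroup.mk' N)) : Set (G ⧸ N)) = (Subgroup.normalizer (P : Set G)).map (QuotientGroup.mk' N) ∧ Subgroup.centralizer ((P.map (QuotientGroup.mk' N)) : Set (G ⧸ N)) = (Subgroup.centralizer (P : Set G)).map (QuotientGroup.mk' N) := by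
  set f := QuotientGroup.mk' N with hf
  have hfs : Function.Surjective f := QuotientGroup.mk'_surjective N
  set U := P ⊔ N with hU
  have hUeq : (P.map f).comap f = U := by
    rw [Subgroup.comap_map_eq, hf, QuotientGroup.ker_mk']
  have hPN : P ≤ Subgroup.normalizer (N : Set G) := Subgroup.le_normalizer_of_normal
  have hdisj : N ⊓ P = ⊥ := by
    refine Subgroup.eq_bot_of_card_eq _ ?_
    have h1 := Subgroup.card_dvd_of_le (inf_le_left : N ⊓ P ≤ N)
    have h2 := Subgroup.card_dvd_of_le (inf_le_right : N ⊓ P ≤ P)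
    obtain ⟨k, hk⟩ := IsPGroup.iff_card.mp hP
    exact Nat.eq_one_of_dvd_coprimes (Nat.Coprime.pow_right k hN) h1 (hk ▸ h2)
  have hidx : ¬ p ∣ (P.subgroupOf U).index := by
    intro h
    change p ∣ P.relIndex (P ⊔ N) at h
    have h1 : P.relIndex (P ⊔ N) ∣ Nat.card N := by
      have h2 := Subgroup.relIndex_mul_relIndex ⊥ P (P ⊔ N) bot_le le_sup_left
      have h3 := Subgroup.relIndex_mul_relIndex ⊥ N (P ⊔ N) bot_le le_sup_right
      rw [Subgroup.relIndex_bot_left, Subgroup.relIndex_bot_left] at h2 h3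
      rw [Subgroup.relIndex_sup_right, ← Subgroup.inf_relIndex_right, hdisj,
        Subgroup.relIndex_bot_left, ← h2, mul_comm, mul_right_inj' Nat.card_pos.ne'] at h3
      rw [h3]
    exact (Fact.out : p.Prime).not_dvd_one (hN ▸ Nat.dvd_gcd (h.trans h1) dvd_rfl)
  have hPU : IsPGroup p (P.subgroupOf U) := hP.of_equiv (Subgroup.subgroupOfEquivOfLe le_sup_left).symm
  set PS : Sylow p U := hPU.toSylow hidx with hPS
  have hPSmap : (PS : Subgroup U).map U.subtype = P := by
    rw [hPS, IsPGroup.toSylow_coe, Subgroup.map_subgroupOf_eq_of_le le_sup_left]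
  have hnorm : ∀ y : G, f y ∈ Subgroup.normalizer ((P.map f) : Set (G ⧸ N)) →
      ∃ n ∈ N, n * y ∈ Subgroup.normalizer (P : Set G) := by
    intro y hy
    have hQU : P.map (MulAut.conj y).toMonoidHom ≤ U := by
      rintro _ ⟨x, hx, rfl⟩
      rw [← hUeq, Subgroup.mem_comap]
      simpa using (Subgroup.mem_normalizer_iff.mp hy (f x)).mp ⟨x, hx, rfl⟩
    obtain ⟨k, hk, hkP⟩ := CfsgLib.Core.exists_conj_of_card_eq PS hQU
      (by rw [hPSmap, CfsgLib.Transfer.card_map_conj])
    rw [hPSmap] at hkP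
    rw [hU, CfsgLib.Core.mem_sup_iff_mul' hPN] at hk
    obtain ⟨n, hn, a, ha, rfl⟩ := hk
    refine ⟨n⁻¹, inv_mem hn, ?_⟩
    rw [Subgroup.mem_normalizer_iff_map_conj_eq]
    have hfix : MulAut.conj a • P = P := Subgroup.conj_smul_eq_self_of_mem ha
    rw [map_mul, mul_smul, hfix] at hkP
    change MulAut.conj (n⁻¹ * y) • P = P
    rw [map_mul, mul_smul, show MulAut.conj y • P = P.map (MulAut.conj y).toMonoidHom from rfl,
      ← hkP, ← mul_smul, ← map_mul, inv_mul_cancel, map_one, one_smul]
  constructor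
  · apply le_antisymm
    · intro q hq
      obtain ⟨y, rfl⟩ := hfs q
      obtain ⟨n, hn, hny⟩ := hnorm y hq
      refine ⟨n * y, hny, ?_⟩
      rw [map_mul, hf, QuotientGroup.mk'_apply, (QuotientGroup.eq_one_iff n).mpr hn, one_mul]
    · exact Subgroup.le_normalizer_map f
  · apply le_antisymm
    · intro q hq
      obtain ⟨y, rfl⟩ := hfs q
      obtain ⟨n, hn, hny⟩ := hnorm y (Subgroup.centralizer_le_normalizer _ hq)
      refine ⟨n * y, Subgroup.mem_centralizer_iff.mpr fun x hx => ?_, ?_⟩
      · have h1 : ⁅n * y, x⁆ ∈ N := by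
          rw [← QuotientGroup.eq_one_iff, ← QuotientGroup.mk'_apply, map_commutatorElement,
            commutatorElement_eq_one_iff_mul_comm, map_mul, QuotientGroup.mk'_apply,
            (QuotientGroup.eq_one_iff n).mpr hn, one_mul]
          exact (Subgroup.mem_centralizer_iff.mp hq (f x) ⟨x, hx, rfl⟩).symm
        have h2 : ⁅n * y, x⁆ ∈ P := by
          rw [commutatorElement_def]
          exact mul_mem ((Subgroup.mem_normalizer_iff.mp hny x).mp hx) (inv_mem hx)
        have h3 : ⁅n * y, x⁆ ∈ (⊥ : Subgroup G) := hdisj ▸ ⟨h1, h2⟩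
        rw [Subgroup.mem_bot, commutatorElement_eq_one_iff_mul_comm] at h3
        exact h3.symm
      · rw [map_mul, hf, QuotientGroup.mk'_apply, (QuotientGroup.eq_one_iff n).mpr hn, one_mul]
    · rintro _ ⟨c, hc, rfl⟩
      rw [Subgroup.mem_centralizer_iff]
      rintro _ ⟨x, hx, rfl⟩
      rw [← map_mul, ← map_mul, Subgroup.mem_centralizer_iff.mp hc x hx]

end Cfsg.Agent.S3800
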