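import Cfsg.Statements.S3801
import Cfsg.Agent.Lib.Core.HHCritical.TwoTops.Main

set_option autoImplicit false
open Cfsg

namespace Cfsg.Agent.S3801

/-- Gross's bound on 2-length: if G is a finite solvable group whose Sylow 2-subgroups have exponent dividing 2^e with e ≥ 1, then G has 2-length at most 2e − 1. -/
theorem result {G : Type*} [Group G] [Finite G] (hG : Group.IsSolvable G) (e : ℕ) (he : 1 ≤ e) (hexp : ∀ (P : Sylow 2 G), ∀ x ∈ (P : Subgroup G), x ^ 2 ^ e = 1) : Cfsg.PLengthLE 2 (2 * e - 1) G := by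
  classical
  haveI := Fact.mk Nat.prime_two
  haveI := hG
  have hps : Cfsg.IsPSolvable 2 G := CfsgLib.Core.isPSolvable_of_isSolvable hG
  have hpel : ∀ {K : Type _} [Group K] [Finite K] (g : K), (∃ i, g ^ 2 ^ i = 1) → IsPGroup 2 (Subgroup.zpowers g) := by
    intro K _ _ g hg
    obtain ⟨i, hi⟩ := hg
    obtain ⟨j, -, hj⟩ := (Nat.dvd_prime_pow Nat.prime_two).mp (orderOf_dvd_of_pow_eq_one hi)
    exact IsPGroup.of_card (n := j) (by rw [Nat.card_zpowers, hj])
  have hexpq : ∀ (n i : ℕ), (∀ g : G, (∃ j, g ^ 2 ^ j = 1) → g ^ 2 ^ i ∈ (Cfsg.upperPSeries 2 G n).1) →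
      ∀ y : G ⧸ (Cfsg.upperPSeries 2 G n).1, (∃ j, y ^ 2 ^ j = 1) → y ^ 2 ^ i = 1 := by
    intro n i hn y hy
    obtain ⟨S, hS⟩ := CfsgLib.Core.HHCritical.exists_sylow_cover
      (QuotientGroup.mk'_surjective (Cfsg.upperPSeries 2 G n).1) (hpel y hy)
    obtain ⟨g', hg', rfl⟩ := hS (Subgroup.mem_zpowers y)
    rw [← map_pow]
    refine (QuotientGroup.eq_one_iff _).mpr (hn g' ?_)
    obtain ⟨j, hj⟩ := S.2 ⟨g', hg'⟩
    exact ⟨j, by simpa using congrArg Subtype.val hj⟩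
  have main : ∀ k, k + 1 ≤ e → ∀ g : G, (∃ i, g ^ 2 ^ i = 1) →
      g ^ 2 ^ (e - k) ∈ (Cfsg.upperPSeries 2 G (2 * (2 * k) + 1)).1 := by
    intro k
    induction k with
    | zero =>
      intro _ g hg
      obtain ⟨P, hP⟩ := (hpel g hg).exists_le_sylow
      rw [Nat.sub_zero, hexp P g (hP (Subgroup.mem_zpowers g))]
      exact one_mem _
    | succ k ih =>
      intro hk g hg
      set e' := e - (k + 1) with he'
      set U1 := (Cfsg.upperPSeries 2 G (2 * (2 * k) + 1)).1 with hU1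
      set U2 := (Cfsg.upperPSeries 2 G (2 * (2 * k) + 2)).1 with hU2
      set U3 := (Cfsg.upperPSeries 2 G (2 * (2 * k + 1) + 1)).1 with hU3
      set π := QuotientGroup.mk' U1 with hπ
      have h23 : U2 ≤ U3 := CfsgLib.PLocal.upper_succ_ge (2 * (2 * k) + 2)
      have h12 : U1 ≤ U2 := CfsgLib.PLocal.upper_succ_ge (2 * (2 * k) + 1)
      have h := CfsgLib.Core.HHTwo.top_mem (H := G ⧸ U1) inferInstance
        (CfsgLib.PLocal.pPrimeCore_quotient_upper_odd (2 * k)) (e := e')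
        (fun x hx => hexpq _ (e' + 1) (by
          rw [show e' + 1 = e - k by omega]; exact ih (by omega)) x hx)
        (y := π g) (by obtain ⟨i, hi⟩ := hg; exact ⟨i, by rw [← map_pow, hi, map_one]⟩)
      -- descend to the quotient by the next odd term
      let ψ0 : G ⧸ U1 →* G ⧸ U3 := QuotientGroup.lift U1 (QuotientGroup.mk' U3)
        (by rw [QuotientGroup.ker_mk']; exact h12.trans h23)
      have hψ0 : Cfsg.pCore 2 (G ⧸ U1) ≤ ψ0.ker := by
        intro x hx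
        obtain ⟨x', rfl⟩ := QuotientGroup.mk'_surjective U1 x
        refine (QuotientGroup.eq_one_iff _).2 (h23 ?_)
        rw [hU2, CfsgLib.PLocal.upper_even]
        exact hx
      let ψ1 := QuotientGroup.lift (Cfsg.pCore 2 (G ⧸ U1)) ψ0 hψ0
      have hψ1 : Function.Surjective ψ1 := by
        intro y
        obtain ⟨x', rfl⟩ := QuotientGroup.mk'_surjective U3 y
        exact ⟨QuotientGroup.mk' _ (π x'), rfl⟩
      have hψ1K : Cfsg.pPrimeCore 2 ((G ⧸ U1) ⧸ Cfsg.pCore 2 (G ⧸ U1)) ≤ ψ1.ker := by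
        rw [← Subgroup.map_eq_bot_iff]
        exact le_bot_iff.1 ((CfsgLib.Core.map_pPrimeCore_le ψ1 hψ1).trans
          (CfsgLib.PLocal.pPrimeCore_quotient_upper_odd (2 * k + 1)).le)
      let ψ2 := QuotientGroup.lift (Cfsg.pPrimeCore 2 ((G ⧸ U1) ⧸ Cfsg.pCore 2 (G ⧸ U1))) ψ1 hψ1K
      have hψ2 : Function.Surjective ψ2 := fun y => by
        obtain ⟨x, rfl⟩ := hψ1 y
        exact ⟨QuotientGroup.mk' _ x, rfl⟩
      have h' := CfsgLib.Core.map_pCore_le ψ2 hψ2 (Subgroup.mem_map_of_mem ψ2 h)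
      rw [show 2 * (2 * (k + 1)) + 1 = 2 * (2 * k + 1) + 2 + 1 by ring]
      refine CfsgLib.PLocal.upper_succ_ge _ ?_
      rw [CfsgLib.PLocal.upper_even]
      show QuotientGroup.mk' U3 (g ^ 2 ^ e') ∈ Cfsg.pCore 2 (G ⧸ U3)
      rw [map_pow]
      have e1 : ψ2 (QuotientGroup.mk' _ (QuotientGroup.mk' (Cfsg.pCore 2 (G ⧸ U1)) (π g) ^ 2 ^ e')) =
          QuotientGroup.mk' U3 g ^ 2 ^ e' := by
        rw [map_pow, map_pow]; rfl
      rwa [e1] at h'
  -- the last step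
  obtain ⟨f, rfl⟩ : ∃ f, e = f + 1 := ⟨e - 1, by omega⟩
  have hlast := main f le_rfl
  rw [Nat.add_sub_cancel_left] at hlast
  set U := (Cfsg.upperPSeries 2 G (2 * (2 * f) + 1)).1 with hU
  have hsq := hexpq _ 1 hlast
  set W := (Cfsg.upperPSeries 2 G (2 * (2 * f + 1) + 1)).1 with hW
  show (Cfsg.upperPSeries 2 G (2 * (2 * (f + 1) - 1) + 1)).1 = ⊤
  rw [show 2 * (f + 1) - 1 = 2 * f + 1 by omega, ← hW]
  obtain ⟨P⟩ : Nonempty (Sylow 2 G) := inferInstance
  have hPW : (P : Subgroup G) ≤ W := by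
    intro g hg
    refine CfsgLib.PLocal.upper_succ_ge (2 * (2 * f) + 2) ?_
    rw [CfsgLib.PLocal.upper_even]
    show QuotientGroup.mk' U g ∈ Cfsg.pCore 2 (G ⧸ U)
    refine CfsgLib.PLocal.centralizer_pCore_le (CfsgLib.PLocal.isPSolvable_quotient hps U)
      (CfsgLib.PLocal.pPrimeCore_quotient_upper_odd (2 * f)) ?_
    rw [Subgroup.mem_centralizer_iff]
    intro r hr
    set PU := P.mapSurjective (QuotientGroup.mk'_surjective U) with hPU
    have hrP : r ∈ (PU : Subgroup (G ⧸ U)) := CfsgLib.Core.pCore_le_sylow PU hr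
    have hgP : QuotientGroup.mk' U g ∈ (PU : Subgroup (G ⧸ U)) := Subgroup.mem_map_of_mem _ hg
    have h2 : ∀ x ∈ (PU : Subgroup (G ⧸ U)), x * x = 1 := fun x hx => by
      obtain ⟨j, hj⟩ := PU.2 ⟨x, hx⟩
      have := hsq x ⟨j, congrArg Subtype.val hj⟩
      rwa [pow_one, pow_two] at this
    have h1 := h2 _ (mul_mem hrP hgP)
    calc r * QuotientGroup.mk' U g
        = (r * r) * (QuotientGroup.mk' U g * r) * (QuotientGroup.mk' U g * QuotientGroup.mk' U g) := by
          rw [h2 r hrP, h2 _ hgP, one_mul, mul_one]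
          calc r * QuotientGroup.mk' U g = (r * QuotientGroup.mk' U g)⁻¹ :=
                eq_inv_of_mul_eq_one_left h1
            _ = QuotientGroup.mk' U g * r := by
                rw [mul_inv_rev, inv_eq_of_mul_eq_one_left (h2 _ hgP), inv_eq_of_mul_eq_one_left (h2 r hrP)]
      _ = QuotientGroup.mk' U g * r := by rw [h2 r hrP, h2 _ hgP, one_mul, mul_one]
  have hcop : (Nat.card (⊤ : Subgroup (G ⧸ W))).Coprime 2 := by
    rw [Subgroup.card_top, ← Subgroup.index_eq_card, Nat.coprime_comm, Nat.prime_two.coprime_iff_not_dvd]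
    exact fun h => P.not_dvd_index (h.trans (Subgroup.index_dvd_of_le hPW))
  have h2 := (CfsgLib.Core.le_pPrimeCore hcop).trans
    (CfsgLib.PLocal.pPrimeCore_quotient_upper_odd (G := G) (p := 2) (2 * f + 1)).le
  rw [← QuotientGroup.ker_mk' W, MonoidHom.ker_eq_top_iff]
  ext x
  exact Subgroup.mem_bot.mp (h2 (Subgroup.mem_top _))

end Cfsg.Agent.S3801
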