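import Cfsg.Statements.S3802
import Mathlib

set_option autoImplicit false
open Cfsg

namespace Cfsg.Agent.S3802

universe u

theorem aux (n : ℕ) : ∀ {G : Type u} [Group G] [Finite G], Nat.card G ≤ n →
    ∀ (M N : Subgroup G), IsCoatom M → N.IsSubnormal → N ≤ M →
      Subgroup.normalClosure (N : Set G) ≤ M := by
  induction n with
  | zero =>
    intro G _ _ h
    exact absurd h (Nat.not_le.mpr Nat.card_pos)
  | succ n ih =>
    intro G _ _ hcard M N hM hN hNM
    have hNtop : N ≠ ⊤ := fun h => hM.1 (top_le_iff.mp (h ▸ hNM))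
    obtain ⟨K, hKn, hNK, hKtop⟩ := hN.lt_normal.resolve_left hNtop
    haveI := hKn
    by_cases hKM : K ≤ M
    · exact (Subgroup.normalClosure_le_normal hNK).trans hKM
    have hKcard : Nat.card K ≤ n := by
      have h1 := Subgroup.card_le_card_group K
      have h2 : Nat.card K ≠ Nat.card G := fun h => hKtop.ne (Subgroup.eq_top_of_card_eq _ h)
      omega
    -- the closure of all `M`-conjugates of `normalClosure_K N`
    set L : Subgroup G := (Subgroup.normalClosure ((N.subgroupOf K : Subgroup K) : Set K)).map K.subtype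
      with hL
    have hlt : M.subgroupOf K ≠ ⊤ := fun h => hKM (Subgroup.subgroupOf_eq_top.mp h)
    obtain ⟨M', hM', hMM'⟩ := (eq_top_or_exists_le_coatom (M.subgroupOf K)).resolve_left hlt
    set J : Subgroup G := Subgroup.closure {y | ∃ m ∈ M, ∃ l ∈ L, y = m * l * m⁻¹} with hJ
    have hLK : L ≤ K := Subgroup.map_subtype_le _
    have hJK : J ≤ K := (Subgroup.closure_le _).mpr fun y ⟨m, _, l, hl, e⟩ =>
      e ▸ hKn.conj_mem l (hLK hl) m
    have hJM' : J ≤ M'.map K.subtype := by
      rw [hJ, Subgroup.closure_le]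
      rintro y ⟨m, hm, l, hl, rfl⟩
      set f : K →* K := ((MulAut.conjNormal (H := K) m)).toMonoidHom with hf
      have hf' : ∀ k : K, (f k : G) = m * k * m⁻¹ := fun k => MulAut.conjNormal_apply m k
      have hsub : ((N.subgroupOf K).map f).IsSubnormal :=
        (Subgroup.IsSubnormal.subgroupOf hN).map (MulAut.conjNormal (H := K) m).surjective
      have hle : (N.subgroupOf K).map f ≤ M' := by
        rintro _ ⟨k, hk, rfl⟩
        apply hMM'
        rw [Subgroup.mem_subgroupOf, hf']
        exact mul_mem (mul_mem hm (hNM hk)) (inv_mem hm)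
      have hcl := ih hKcard M' _ hM' hsub hle
      obtain ⟨l, hl', rfl⟩ := hl
      refine ⟨f l, hcl ?_, hf' l⟩
      have h2 : (Subgroup.normalClosure ((N.subgroupOf K : Subgroup K) : Set K)).map f
          ≤ Subgroup.normalClosure (((N.subgroupOf K).map f : Subgroup K) : Set K) := by
        rw [Subgroup.map_normalClosure _ f (MulAut.conjNormal (H := K) m).surjective]
        exact le_of_eq rfl
      exact h2 ⟨l, hl', rfl⟩
    have hNJ : N ≤ J := fun x hx => Subgroup.subset_closure
      ⟨1, one_mem M, x, ⟨⟨x, hNK hx⟩, Subgroup.subset_normalClosure hx, rfl⟩, by simp⟩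
    have hMJ : M ≤ Subgroup.normalizer (J : Set G) := by
      intro m hm
      rw [Subgroup.mem_normalizer_iff_map_conj_eq]
      apply Subgroup.eq_of_le_of_card_ge
      · rw [hJ, MonoidHom.map_closure, Subgroup.closure_le]
        rintro _ ⟨_, ⟨m', hm', l, hl, rfl⟩, rfl⟩
        exact Subgroup.subset_closure ⟨m * m', mul_mem hm hm', l, hl, by simp [mul_assoc]⟩
      · exact (Nat.card_congr (J.equivMapOfInjective _ (MulAut.conj m).injective).toEquiv).le
    have hKJ : K ≤ Subgroup.normalizer (J : Set G) := by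
      intro k hk
      rw [Subgroup.mem_normalizer_iff_map_conj_eq]
      apply Subgroup.eq_of_le_of_card_ge
      · rw [hJ, MonoidHom.map_closure, Subgroup.closure_le]
        rintro _ ⟨_, ⟨m', hm', _, ⟨l, hl, rfl⟩, rfl⟩, rfl⟩
        refine Subgroup.subset_closure ⟨m', hm', m'⁻¹ * k * m' * l * (m'⁻¹ * k * m')⁻¹,
          ⟨⟨m'⁻¹ * k * m', hKn.conj_mem' k hk m'⟩ * l * (⟨m'⁻¹ * k * m', hKn.conj_mem' k hk m'⟩)⁻¹,
            Subgroup.normalClosure_normal.conj_mem l hl _, by simp⟩, by simp [mul_assoc]⟩
      · exact (Nat.card_congr (J.equivMapOfInjective _ (MulAut.conj k).injective).toEquiv).le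
    have htop : M ⊔ K = ⊤ :=
      hM.2 _ (lt_of_le_of_ne le_sup_left (fun h => hKM (h ▸ le_sup_right)))
    haveI hJn : J.Normal := Subgroup.normalizer_eq_top_iff.mp
      (top_le_iff.mp (htop ▸ sup_le hMJ hKJ))
    refine (Subgroup.normalClosure_le_normal hNJ).trans ?_
    by_contra hJM
    have hJtop : M ⊔ J = ⊤ :=
      hM.2 _ (lt_of_le_of_ne le_sup_left (fun h => hJM (h ▸ le_sup_right)))
    have hKle : K ≤ M'.map K.subtype := by
      intro x hx
      have hxm : x ∈ M ⊔ J := hJtop ▸ Subgroup.mem_top x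
      rw [Subgroup.mem_sup_of_normal_right] at hxm
      obtain ⟨m, hm, j, hj, rfl⟩ := hxm
      have hmK : m ∈ K := by
        have := mul_mem hx (inv_mem (hJK hj))
        simpa using this
      exact mul_mem ⟨⟨m, hmK⟩, hMM' hm, rfl⟩ (hJM' hj)
    exact hM'.1 ((Subgroup.eq_top_iff' _).mpr fun k => by
      obtain ⟨k', hk', e⟩ := hKle k.2
      rwa [← Subtype.ext e])

/-- Let G be a finite group, M a maximal subgroup of G and N a subnormal subgroup of G contained in M. Then N is contained in every conjugate of M, that is, N lies in the core of M in G. -/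
theorem result {G : Type*} [Group G] [Finite G] (M N : Subgroup G) (hM : IsCoatom M) (hN : N.IsSubnormal) (hNM : N ≤ M) :
    N ≤ Subgroup.normalCore M := by
  exact Subgroup.subset_normalClosure.trans (Subgroup.normal_le_normalCore.mpr (aux _ le_rfl M N hM hN hNM))

end Cfsg.Agent.S3802
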