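import Cfsg.Statements.S3803
import Mathlib
import Cfsg.Agent.Lib.Transfer.SmallOrder
import Cfsg.Agent.Lib.Core.Coprime
import Cfsg.Agent.Lib.PGroups.Basic

set_option autoImplicit false
open Cfsg

namespace Cfsg.Agent.S3803

set_option linter.style.haveILetI false
open scoped commutatorElement

variable {X : Type*} [Group X] [Finite X]

/-- A cyclic `2`-subgroup normalized, or one whose maximal subgroups are all invariant, is centralized. -/
theorem fix_of_coatoms {K : Subgroup X} (hK : IsPGroup 2 K) {g : X} (hg : Odd (orderOf g))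
    (hgK : g ∈ Subgroup.normalizer (K : Set X))
    (hM : ∀ M : Subgroup K, IsCoatom M → g ∈ Subgroup.normalizer ((M.map K.subtype : Subgroup X) : Set X)) :
    ∀ k ∈ K, g * k = k * g := by
  haveI : Fact (Nat.Prime 2) := ⟨Nat.prime_two⟩
  have hcop : (Nat.card (Subgroup.zpowers g)).Coprime (Nat.card (frattini K)) := by
    obtain ⟨j, hj⟩ := IsPGroup.iff_card.mp (hK.to_subgroup (frattini K))
    rw [hj, Nat.card_zpowers]
    exact Nat.Coprime.pow_right j hg.coprime_two_right
  have h := CfsgLib.Core.centralizes_of_centralizes_frattini_quotient (A := Subgroup.zpowers g) (K := K)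
    (Subgroup.zpowers_le.mpr hgK) hcop fun a ha k hk => by
      have haK := (Subgroup.mem_normalizer_iff.mp (Subgroup.zpowers_le.mpr hgK ha) k).mp hk
      refine ⟨⟨a * k * a⁻¹ * k⁻¹, mul_mem haK (inv_mem hk)⟩, ?_, rfl⟩
      show _ ∈ frattini K
      rw [frattini, Order.radical]
      simp only [Subgroup.mem_iInf, Set.mem_setOf_eq]
      intro M hMc
      have hidx := CfsgLib.PGroups.index_of_isCoatom (p := 2) hK hMc
      have hconj : ∀ u : K, ∀ hu : a * (u : X) * a⁻¹ ∈ K, (⟨a * u * a⁻¹, hu⟩ ∈ M ↔ u ∈ M) := fun u hu => by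
        have := Subgroup.mem_normalizer_iff.mp (Subgroup.zpowers_le.mpr (hM M hMc) ha) (u : X)
        constructor
        · intro h
          obtain ⟨w, hw, hwe⟩ := this.mpr ⟨_, h, rfl⟩
          rwa [show u = w from Subtype.ext hwe.symm]
        · intro h
          obtain ⟨w, hw, hwe⟩ := this.mp ⟨_, h, rfl⟩
          rwa [show (⟨a * u * a⁻¹, hu⟩ : K) = w from Subtype.ext hwe.symm]
      rw [show (⟨a * k * a⁻¹ * k⁻¹, mul_mem haK (inv_mem hk)⟩ : K) = ⟨a * k * a⁻¹, haK⟩ * ⟨k, hk⟩⁻¹ from rfl,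
        Subgroup.mul_mem_iff_of_index_two hidx, inv_mem_iff]
      exact hconj ⟨k, hk⟩ haK
  exact fun k hk => (Subgroup.mem_centralizer_iff.mp (h (Subgroup.mem_zpowers g)) k hk).symm

theorem conj_map_mem {K : Subgroup X} {g : X} (h : ∀ k ∈ K, g * k * g⁻¹ ∈ K) :
    g ∈ Subgroup.normalizer (K : Set X) := by
  have heq : K.map (MulAut.conj g).toMonoidHom = K := by
    refine Subgroup.eq_of_le_of_card_ge ?_ (Subgroup.card_map_of_injective (MulAut.conj g).injective).ge
    rintro _ ⟨e, he, rfl⟩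
    exact h e he
  refine Subgroup.mem_normalizer_iff.mpr fun e => ⟨h e, fun he => ?_⟩
  have he' : g * e * g⁻¹ ∈ K.map (MulAut.conj g).toMonoidHom := by rwa [heq]
  obtain ⟨e', he'', hee⟩ := he'
  have : e' = e := (MulAut.conj g).injective hee
  exact this ▸ he''

theorem cyclic_fix {R : Subgroup X} (hR : IsPGroup 2 R) (hcyc : IsCyclic R) {g : X} (hg : Odd (orderOf g))
    (hgR : g ∈ Subgroup.normalizer (R : Set X)) : ∀ k ∈ R, g * k = k * g := by
  haveI : Fact (Nat.Prime 2) := ⟨Nat.prime_two⟩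
  refine fix_of_coatoms hR hg hgR fun M hM => conj_map_mem ?_
  rintro _ ⟨u, hu, rfl⟩
  have hidx := CfsgLib.PGroups.index_of_isCoatom (p := 2) hR hM
  have hgu : g * (u : X) * g⁻¹ ∈ R := (Subgroup.mem_normalizer_iff.mp hgR u).mp u.2
  refine ⟨⟨_, hgu⟩, ?_, rfl⟩
  by_contra hw
  obtain ⟨c, hc⟩ := hcyc.exists_generator
  have hcM : c ∉ M := fun h => hM.1 (eq_top_iff.mpr fun v _ => by
    obtain ⟨j, rfl⟩ := Subgroup.mem_zpowers_iff.mp (hc v)
    exact zpow_mem h j)
  -- elements outside the maximal subgroup generate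
  have hgen : Subgroup.zpowers (⟨_, hgu⟩ : R) = ⊤ := by
    by_contra hne
    obtain ⟨M', hM', hle⟩ := (eq_top_or_exists_le_coatom (Subgroup.zpowers (⟨_, hgu⟩ : R))).resolve_left hne
    refine hw ?_
    haveI : M'.Normal := CfsgLib.PGroups.normal_of_isCoatom' hR hM'
    have hidx' := CfsgLib.PGroups.index_of_isCoatom (p := 2) hR hM'
    have hMM : M' = M := by
      ext v
      obtain ⟨j, rfl⟩ := Subgroup.mem_zpowers_iff.mp (hc v)
      have hcM' : c ∉ M' := fun h => hM'.1 (eq_top_iff.mpr fun v _ => by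
        obtain ⟨i, rfl⟩ := Subgroup.mem_zpowers_iff.mp (hc v)
        exact zpow_mem h i)
      rcases Int.even_or_odd j with ⟨i, rfl⟩ | ⟨i, rfl⟩
      · have e : c ^ (i + i) = (c * c) ^ i := by rw [← two_mul, zpow_mul, zpow_two]
        exact iff_of_true (e ▸ zpow_mem (Subgroup.mul_self_mem_of_index_two hidx' c) i)
          (e ▸ zpow_mem (Subgroup.mul_self_mem_of_index_two hidx c) i)
      · have e : c ^ (2 * i + 1) = (c * c) ^ i * c := by rw [zpow_add, zpow_mul, zpow_two, zpow_one]
        refine iff_of_false (fun h => hcM' ?_) fun h => hcM ?_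
        · rw [e] at h
          exact (M'.mul_mem_cancel_left (zpow_mem (Subgroup.mul_self_mem_of_index_two hidx' c) i)).mp h
        · rw [e] at h
          exact (M.mul_mem_cancel_left (zpow_mem (Subgroup.mul_self_mem_of_index_two hidx c) i)).mp h
    exact hMM ▸ hle (Subgroup.mem_zpowers _)
  have hord : orderOf u = orderOf (⟨_, hgu⟩ : R) := by
    rw [Subgroup.orderOf_mk, ← Subgroup.orderOf_coe]
    exact (MulEquiv.orderOf_eq (MulAut.conj g) (u : X)).symm
  have hMlt := Nat.le_of_dvd Nat.card_pos (Subgroup.orderOf_dvd_natCard M hu)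
  rw [hord, ← Nat.card_zpowers, hgen, Subgroup.card_top] at hMlt
  have := M.index_mul_card
  rw [hidx] at this
  have : 0 < Nat.card M := Nat.card_pos
  omega

/-- Let P be a 2-subgroup and A a subgroup of odd order of a finite group, with A normalizing P. Let D ≤ P with 1 < |D| < |P|. If every subgroup of P of order |D|, and also every subgroup of P of order 4 in case |D| = 2, is normalized by A, then A centralizes P. -/
theorem result {X : Type*} [Group X] [Finite X] (P A D : Subgroup X) (hP : IsPGroup 2 P) (hA : Odd (Nat.card A))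
    (hAP : A ≤ Subgroup.normalizer (P : Set X)) (hDP : D ≤ P) (hD1 : 1 < Nat.card D) (hD2 : Nat.card D < Nat.card P)
    (hinv : ∀ E : Subgroup X, E ≤ P → (Nat.card E = Nat.card D ∨ (Nat.card D = 2 ∧ Nat.card E = 4)) → A ≤ Subgroup.normalizer (E : Set X)) :
    A ≤ Subgroup.centralizer (P : Set X) := by
  haveI : Fact (Nat.Prime 2) := ⟨Nat.prime_two⟩
  intro g hg
  have hgodd : Odd (orderOf g) := hA.of_dvd_nat (Subgroup.orderOf_dvd_natCard A hg)
  refine CfsgLib.Transfer.centralizes_of_small_descends (p := 2) hP (hAP hg) hgodd.coprime_two_right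
    (fun i => if i = 0 then {1} else Set.univ) 1 (by simp) (fun a _ _ => by simp) fun i a ha hsmall _ => ?_
  rcases Nat.eq_zero_or_pos i with rfl | hi
  swap
  · rw [if_neg hi.ne']; trivial
  rw [if_pos rfl, Set.mem_singleton_iff]
  suffices hga : g * a = a * g by rw [hga]; group
  have ha4 : a ^ 4 = 1 := by
    rcases hsmall with h | ⟨-, h⟩
    · rw [show 4 = 2 * 2 from rfl, pow_mul, h, one_pow]
    · exact h
  obtain ⟨k, hk⟩ := IsPGroup.iff_card.mp (hP.to_le hDP)
  obtain ⟨n, hn⟩ := IsPGroup.iff_card.mp hP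
  have hk0 : k ≠ 0 := fun h => by rw [hk, h, pow_zero] at hD1; exact lt_irrefl 1 hD1
  obtain ⟨j, hj⟩ : ∃ j, Nat.card (Subgroup.zpowers a) = 2 ^ j ∧ j ≤ 2 := by
    obtain ⟨j, hj2, hj⟩ := (Nat.dvd_prime_pow Nat.prime_two).mp (show orderOf a ∣ 2 ^ 2 from orderOf_dvd_of_pow_eq_one ha4)
    exact ⟨j, by rw [Nat.card_zpowers, hj], hj2⟩
  by_cases hjk : j ≤ k
  swap
  · -- `|D| = 2` and `a` has order 4
    have hjk' : j = 2 ∧ k = 1 := by omega
    have hle : Subgroup.zpowers a ≤ P := Subgroup.zpowers_le.mpr ha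
    have hinv' := hinv _ hle (Or.inr ⟨by rw [hk, hjk'.2, pow_one], by rw [hj.1, hjk'.1]; norm_num⟩) hg
    exact cyclic_fix (hP.to_le hle) inferInstance hgodd hinv' a (Subgroup.mem_zpowers a)
  have hkn : k < n := (Nat.pow_lt_pow_iff_right one_lt_two).mp (hk ▸ hn ▸ hD2)
  set aP : ↥P := ⟨a, ha⟩
  have hjP : Nat.card (Subgroup.zpowers aP) = 2 ^ j := by
    rw [Nat.card_zpowers, Subgroup.orderOf_mk, ← Nat.card_zpowers]; exact hj.1
  obtain ⟨R, hR, haR⟩ := Sylow.exists_subgroup_card_pow_prime_le 2 (G := P) (n := j) (m := k)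
    (hn ▸ pow_dvd_pow 2 hkn.le) _ hjP hjk
  obtain ⟨P0, hP0, hRP0⟩ := Sylow.exists_subgroup_card_pow_succ (G := P) (n := k)
    (hn ▸ pow_dvd_pow 2 hkn) hR
  set R' := R.map P.subtype
  set P0' := P0.map P.subtype
  have hR'le : R' ≤ P := Subgroup.map_subtype_le R
  have haR' : a ∈ R' := ⟨aP, haR (Subgroup.mem_zpowers aP), rfl⟩
  have hcardR' : Nat.card R' = Nat.card D := by rw [Subgroup.card_map_of_injective P.subtype_injective, hR, hk]
  have hgR := hinv R' hR'le (Or.inl hcardR') hg
  by_cases hcyc : IsCyclic R'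
  · exact cyclic_fix (hP.to_le hR'le) hcyc hgodd hgR a haR'
  have hP0'le : P0' ≤ P := Subgroup.map_subtype_le P0
  have hcard0 : Nat.card P0' = 2 * Nat.card D := by
    rw [Subgroup.card_map_of_injective P.subtype_injective, hP0, hk, pow_succ']
  have hp0 : IsPGroup 2 P0' := hP.to_le hP0'le
  have hMinv : ∀ M : Subgroup P0', IsCoatom M →
      g ∈ Subgroup.normalizer ((M.map P0'.subtype : Subgroup X) : Set X) := by
    intro M hM
    refine hinv _ ((Subgroup.map_subtype_le M).trans hP0'le) (Or.inl ?_) hg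
    have := M.index_mul_card
    rw [CfsgLib.PGroups.index_of_isCoatom (p := 2) hp0 hM, hcard0] at this
    rw [Subgroup.card_map_of_injective P0'.subtype_injective]
    omega
  have hR0 : R' ≤ P0' := Subgroup.map_mono hRP0
  -- a second maximal subgroup
  obtain ⟨M, hM, hMR⟩ : ∃ M : Subgroup P0', IsCoatom M ∧ M ≠ R'.subgroupOf P0' := by
    by_contra hcon
    push Not at hcon
    refine hcyc ?_
    have hidx : (frattini P0').index ≤ 2 := by
      have hle : R'.subgroupOf P0' ≤ frattini P0' := by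
        rw [frattini, Order.radical]
        exact le_iInf₂ fun M hM => (hcon M hM).ge
      refine (Nat.le_of_dvd (Nat.pos_of_ne_zero Subgroup.index_ne_zero_of_finite) (Subgroup.index_dvd_of_le hle)).trans ?_
      have h := (R'.subgroupOf P0').index_mul_card
      rw [Nat.card_congr (Subgroup.subgroupOfEquivOfLe hR0).toEquiv, hcardR', hcard0] at h
      exact (Nat.eq_of_mul_eq_mul_right Nat.card_pos h).le
    haveI := CfsgLib.PGroups.isCyclic_of_index_frattini_le hp0 hidx
    exact isCyclic_of_injective (Subgroup.inclusion hR0) (Subgroup.inclusion_injective hR0)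
  have hgen : R' ⊔ M.map P0'.subtype = P0' := by
    refine le_antisymm (sup_le hR0 (Subgroup.map_subtype_le M)) ?_
    have hlt : M < R'.subgroupOf P0' ⊔ M := by
      refine lt_of_le_of_ne le_sup_right fun h => hMR (Eq.symm ?_)
      refine Subgroup.eq_of_le_of_card_ge (h ▸ le_sup_left) ?_
      have h1 := M.index_mul_card
      rw [CfsgLib.PGroups.index_of_isCoatom (p := 2) hp0 hM, hcard0] at h1
      rw [Nat.card_congr (Subgroup.subgroupOfEquivOfLe hR0).toEquiv, hcardR']
      omega
    have h2 := congrArg (Subgroup.map P0'.subtype) (hM.2 _ hlt)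
    rw [Subgroup.map_sup, Subgroup.map_subgroupOf_eq_of_le hR0, ← MonoidHom.range_eq_map, Subgroup.range_subtype] at h2
    exact h2.ge
  have hgP0 : g ∈ Subgroup.normalizer (P0' : Set X) := by
    refine conj_map_mem fun u hu => ?_
    have hsub : R' ⊔ M.map P0'.subtype ≤ P0'.comap (MulAut.conj g).toMonoidHom := by
      refine sup_le (fun w hw => hR0 ((Subgroup.mem_normalizer_iff.mp hgR w).mp hw)) fun w hw => ?_
      exact Subgroup.map_subtype_le M ((Subgroup.mem_normalizer_iff.mp (hMinv M hM) w).mp hw)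
    exact hsub (hgen.symm ▸ hu)
  exact fix_of_coatoms hp0 hgodd hgP0 hMinv a (hR0 haR')

end Cfsg.Agent.S3803
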