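import Cfsg.Statements.S3804
import Mathlib

set_option autoImplicit false
open Cfsg

namespace Cfsg.Agent.S3804

theorem card_mul_relIndex' {G : Type*} [Group G] {H K : Subgroup G} (h : H ≤ K) :
    Nat.card H * H.relIndex K = Nat.card K := by
  rw [← Subgroup.relIndex_bot_left, ← Subgroup.relIndex_bot_left,
    Subgroup.relIndex_mul_relIndex _ _ _ bot_le h]

/-- `|A||B| ≤ |A ⊓ B||K|`, with equality only if `K = AB`. -/
theorem card_mul_le {G : Type*} [Group G] [Finite G] {A B K : Subgroup G} (hA : A ≤ K) (hB : B ≤ K) :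
    Nat.card A * Nat.card B ≤ Nat.card ↥(A ⊓ B) * Nat.card K ∧
      (Nat.card A * Nat.card B = Nat.card ↥(A ⊓ B) * Nat.card K →
        ∀ k ∈ K, ∃ a ∈ A, ∃ b ∈ B, k = a * b) := by
  let f := Subgroup.quotientSubgroupOfEmbeddingOfLE B hA
  have hle : B.relIndex A ≤ B.relIndex K := Nat.card_le_card_of_injective f f.injective
  have h1 : Nat.card ↥(A ⊓ B) * B.relIndex A = Nat.card A := by
    rw [← Subgroup.inf_relIndex_left, card_mul_relIndex' inf_le_left]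
  have h2 := card_mul_relIndex' hB
  constructor
  · rw [← h1, ← h2, mul_assoc, mul_comm (B.relIndex A)]
    exact Nat.mul_le_mul_left _ (Nat.mul_le_mul_left _ hle)
  · intro heq k hk
    rw [← h1, ← h2, mul_assoc, mul_comm (B.relIndex A)] at heq
    have he : B.relIndex A = B.relIndex K :=
      Nat.eq_of_mul_eq_mul_left Nat.card_pos (Nat.eq_of_mul_eq_mul_left Nat.card_pos heq)
    obtain ⟨q, hq⟩ := ((Nat.bijective_iff_injective_and_card f).mpr ⟨f.injective, he⟩).2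
      (QuotientGroup.mk (⟨k, hk⟩ : K))
    induction q using QuotientGroup.induction_on with
    | _ a =>
      rw [Subgroup.quotientSubgroupOfEmbeddingOfLE_apply_mk, QuotientGroup.eq,
        Subgroup.mem_subgroupOf] at hq
      exact ⟨a, a.2, _, hq, (mul_inv_cancel_left (a : G) k).symm⟩

theorem mul_equalities {p q r s : ℝ} (hp : 0 < p) (hr : 0 < r) (h1 : p ≤ q) (h2 : r ≤ s)
    (h3 : q * s ≤ p * r) : p = q ∧ r = s := by
  constructor
  · nlinarith [mul_le_mul_of_nonneg_left h2 (hp.le.trans h1)]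
  · nlinarith [mul_le_mul_of_nonneg_right h1 hr.le]


/-- Let G and H be subgroups of a finite group with G normalizing H, fix a real number α > 0, and for a subgroup A of G put m(A) = |A|^α · |C_H(A)|. Let A and B be nontrivial subgroups of G at which m attains its maximum over all nontrivial subgroups of G, and assume that A ∩ B ≠ 1 or that this maximum is at least |H|. Then AB = BA is a subgroup at which m is again maximal, C_H(A ∩ B) = C_H(A) C_H(B), and if A ∩ B ≠ 1 then m is maximal at A ∩ B as well. -/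
theorem result {X : Type*} [Group X] [Finite X] (G H : Subgroup X) (hGH : G ≤ Subgroup.normalizer (H : Set X)) (α : ℝ) (hα : 0 < α)
    (A B : Subgroup X) (hA : A ≤ G) (hB : B ≤ G) (hA1 : A ≠ ⊥) (hB1 : B ≠ ⊥)
    (hAmax : ∀ A' : Subgroup X, A' ≤ G → A' ≠ ⊥ → (fun A : Subgroup X => ((Nat.card A : ℝ) ^ α) * (Nat.card ↥(H ⊓ Subgroup.centralizer (A : Set X)) : ℝ)) A' ≤ (fun A : Subgroup X => ((Nat.card A : ℝ) ^ α) * (Nat.card ↥(H ⊓ Subgroup.centralizer (A : Set X)) : ℝ)) A)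
    (hBmax : ∀ A' : Subgroup X, A' ≤ G → A' ≠ ⊥ → (fun A : Subgroup X => ((Nat.card A : ℝ) ^ α) * (Nat.card ↥(H ⊓ Subgroup.centralizer (A : Set X)) : ℝ)) A' ≤ (fun A : Subgroup X => ((Nat.card A : ℝ) ^ α) * (Nat.card ↥(H ⊓ Subgroup.centralizer (A : Set X)) : ℝ)) B)
    (hcase : A ⊓ B ≠ ⊥ ∨ (Nat.card H : ℝ) ≤ (fun A : Subgroup X => ((Nat.card A : ℝ) ^ α) * (Nat.card ↥(H ⊓ Subgroup.centralizer (A : Set X)) : ℝ)) A) :
    (∀ a ∈ A, ∀ b ∈ B, ∃ b' ∈ B, ∃ a' ∈ A, a * b = b' * a') ∧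
    (∀ A' : Subgroup X, A' ≤ G → A' ≠ ⊥ → (fun A : Subgroup X => ((Nat.card A : ℝ) ^ α) * (Nat.card ↥(H ⊓ Subgroup.centralizer (A : Set X)) : ℝ)) A' ≤ (fun A : Subgroup X => ((Nat.card A : ℝ) ^ α) * (Nat.card ↥(H ⊓ Subgroup.centralizer (A : Set X)) : ℝ)) (A ⊔ B)) ∧
    (∀ h ∈ H ⊓ Subgroup.centralizer ((A ⊓ B : Subgroup X) : Set X), ∃ u ∈ H ⊓ Subgroup.centralizer (A : Set X), ∃ v ∈ H ⊓ Subgroup.centralizer (B : Set X), h = u * v) ∧
    (A ⊓ B ≠ ⊥ → ∀ A' : Subgroup X, A' ≤ G → A' ≠ ⊥ → (fun A : Subgroup X => ((Nat.card A : ℝ) ^ α) * (Nat.card ↥(H ⊓ Subgroup.centralizer (A : Set X)) : ℝ)) A' ≤ (fun A : Subgroup X => ((Nat.card A : ℝ) ^ α) * (Nat.card ↥(H ⊓ Subgroup.centralizer (A : Set X)) : ℝ)) (A ⊓ B)) := by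
  set m : Subgroup X → ℝ := fun A : Subgroup X =>
    ((Nat.card A : ℝ) ^ α) * (Nat.card ↥(H ⊓ Subgroup.centralizer (A : Set X)) : ℝ) with hm
  have hm' : ∀ A : Subgroup X, m A =
      ((Nat.card A : ℝ) ^ α) * (Nat.card ↥(H ⊓ Subgroup.centralizer (A : Set X)) : ℝ) := fun _ => rfl
  change ∀ A', A' ≤ G → A' ≠ ⊥ → m A' ≤ m A at hAmax
  change ∀ A', A' ≤ G → A' ≠ ⊥ → m A' ≤ m B at hBmax
  change A ⊓ B ≠ ⊥ ∨ (Nat.card H : ℝ) ≤ m A at hcase
  set C := fun A : Subgroup X => H ⊓ Subgroup.centralizer (A : Set X) with hC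
  have hpow : ∀ D : Subgroup X, (0:ℝ) < (Nat.card D : ℝ) ^ α := fun D =>
    Real.rpow_pos_of_pos (Nat.cast_pos.mpr Nat.card_pos) α
  have hpos : ∀ D : Subgroup X, (0:ℝ) < (Nat.card D : ℝ) := fun D => Nat.cast_pos.mpr Nat.card_pos
  have hmpos : ∀ D, 0 < m D := fun D => by rw [hm']; exact mul_pos (hpow D) (hpos _)
  have hJne : A ⊔ B ≠ ⊥ := fun h => hA1 (le_bot_iff.mp (h ▸ le_sup_left))
  have hMB : m A = m B := le_antisymm (hBmax A hA hA1) (hAmax B hB hB1)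
  have hJle : m (A ⊔ B) ≤ m A := hAmax _ (sup_le hA hB) hJne
  have hIle : m (A ⊓ B) ≤ m A := by
    rcases hcase with h | h
    · exact hAmax _ (inf_le_left.trans hA) h
    · by_cases hI : A ⊓ B = ⊥
      · rw [hI, hm', Subgroup.card_bot, Nat.cast_one, Real.one_rpow, one_mul]
        exact le_trans (Nat.cast_le.mpr (Subgroup.card_le_of_le inf_le_left)) h
      · exact hAmax _ (inf_le_left.trans hA) hI
  obtain ⟨hle1, heq1⟩ := card_mul_le (le_sup_left : A ≤ A ⊔ B) (le_sup_right : B ≤ A ⊔ B)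
  have hCinf : C A ⊓ C B = C (A ⊔ B) := by
    simp only [hC]
    rw [← inf_inf_distrib_left]
    congr 1
    apply le_antisymm
    · rw [Subgroup.le_centralizer_iff]
      exact sup_le (Subgroup.le_centralizer_iff.mp inf_le_left) (Subgroup.le_centralizer_iff.mp inf_le_right)
    · exact le_inf (Subgroup.centralizer_le (le_sup_left (a := A) (b := B)))
        (Subgroup.centralizer_le (le_sup_right (a := A) (b := B)))
  have hCA : C A ≤ C (A ⊓ B) :=
    inf_le_inf_left H (Subgroup.centralizer_le (inf_le_left (a := A) (b := B)))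
  have hCB : C B ≤ C (A ⊓ B) :=
    inf_le_inf_left H (Subgroup.centralizer_le (inf_le_right (a := A) (b := B)))
  obtain ⟨hle2, heq2⟩ := card_mul_le hCA hCB
  rw [hCinf] at hle2 heq2
  have e : ∀ a b c d : ℝ, (a * c) * (b * d) = (a * b) * (c * d) := fun a b c d => by ring
  have hprod : m (A ⊓ B) * m (A ⊔ B) ≤ m A * m B := by
    rw [← hMB]; exact mul_le_mul hIle hJle (hmpos _).le (hmpos _).le
  have hre : m A * m B = ((Nat.card A : ℝ) ^ α * (Nat.card B : ℝ) ^ α) *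
      ((Nat.card ↥(C A) : ℝ) * (Nat.card ↥(C B) : ℝ)) := by rw [hm', hm']; exact e _ _ _ _
  have hre2 : m (A ⊓ B) * m (A ⊔ B) =
      ((Nat.card ↥(A ⊓ B) : ℝ) ^ α * (Nat.card ↥(A ⊔ B) : ℝ) ^ α) *
      ((Nat.card ↥(C (A ⊓ B)) : ℝ) * (Nat.card ↥(C (A ⊔ B)) : ℝ)) := by rw [hm', hm']; exact e _ _ _ _
  have i1 : (Nat.card A : ℝ) ^ α * (Nat.card B : ℝ) ^ α ≤
      (Nat.card ↥(A ⊓ B) : ℝ) ^ α * (Nat.card ↥(A ⊔ B) : ℝ) ^ α := by
    rw [← Real.mul_rpow (hpos A).le (hpos B).le, ← Real.mul_rpow (hpos _).le (hpos _).le]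
    exact Real.rpow_le_rpow (by positivity) (by exact_mod_cast hle1) hα.le
  have i2 : (Nat.card ↥(C A) : ℝ) * (Nat.card ↥(C B) : ℝ) ≤
      (Nat.card ↥(C (A ⊓ B)) : ℝ) * (Nat.card ↥(C (A ⊔ B)) : ℝ) := by
    rw [mul_comm (Nat.card ↥(C (A ⊓ B)) : ℝ)]; exact_mod_cast hle2
  obtain ⟨e1, e2⟩ := mul_equalities (mul_pos (hpow A) (hpow B)) (mul_pos (hpos _) (hpos _)) i1 i2
    (by rw [← hre, ← hre2]; exact hprod)
  have heq : m (A ⊓ B) * m (A ⊔ B) = m A * m A := by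
    conv_rhs => arg 2; rw [hMB]
    rw [hre, hre2, e1, e2]
  have hJeq : m (A ⊔ B) = m A := by
    refine le_antisymm hJle ?_
    have h1 : m (A ⊓ B) * m (A ⊔ B) ≤ m A * m (A ⊔ B) := mul_le_mul_of_nonneg_right hIle (hmpos _).le
    exact le_of_mul_le_mul_left (heq ▸ h1) (hmpos A)
  have hIeq : m (A ⊓ B) = m A :=
    mul_right_cancel₀ (hmpos A).ne' (by rw [hJeq] at heq; exact heq)
  refine ⟨fun a ha b hb => ?_, ?_, fun h hh => ?_, fun hI A' h1 h2 => ?_⟩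
  · have e3 : Nat.card A * Nat.card B = Nat.card ↥(A ⊓ B) * Nat.card ↥(A ⊔ B) := by
      rw [← Real.mul_rpow (hpos A).le (hpos B).le, ← Real.mul_rpow (hpos _).le (hpos _).le,
        Real.rpow_left_inj (by positivity) (by positivity) hα.ne'] at e1
      exact_mod_cast e1
    obtain ⟨a', ha', b', hb', h⟩ := heq1 e3 (b⁻¹ * a⁻¹)
      (mul_mem (inv_mem (Subgroup.mem_sup_right hb)) (inv_mem (Subgroup.mem_sup_left ha)))
    refine ⟨b'⁻¹, inv_mem hb', a'⁻¹, inv_mem ha', ?_⟩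
    rw [← mul_inv_rev, ← h]; group
  · intro A' h1 h2
    rw [hJeq]; exact hAmax A' h1 h2
  · have e4 : Nat.card ↥(C A) * Nat.card ↥(C B) = Nat.card ↥(C (A ⊔ B)) * Nat.card ↥(C (A ⊓ B)) := by
      rw [mul_comm (Nat.card ↥(C (A ⊓ B)) : ℝ)] at e2
      exact_mod_cast e2
    exact heq2 e4 h hh
  · rw [hIeq]; exact hAmax A' h1 h2

end Cfsg.Agent.S3804
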