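import Cfsg.Statements.S3866
import Mathlib

set_option autoImplicit false
open Cfsg

namespace Cfsg.Agent.S3866

/-- Let A be a commutative normal subgroup of the finite group G with G generated by A and an element x. Then a ↦ x a x⁻¹ a⁻¹ is a surjective homomorphism from A onto the commutator subgroup of G whose kernel is the centralizer of x in A; in particular the commutator subgroup has order equal to the index in A of that centralizer. -/
theorem result {G : Type*} [Group G] [Finite G] (A : Subgroup G) [A.Normal] (hA : IsMulCommutative A) (x : G) (hgen : A ⊔ Subgroup.zpowers x = ⊤) : (∀ a ∈ A, x * a * x⁻¹ * a⁻¹ ∈ commutator G) ∧ (∀ c ∈ commutator G, ∃ a ∈ A, x * a * x⁻¹ * a⁻¹ = c) ∧ (∀ a ∈ A, ∀ b ∈ A, x * (a * b) * x⁻¹ * (a * b)⁻¹ = (x * a * x⁻¹ * a⁻¹) * (x * b * x⁻¹ * b⁻¹)) ∧ Nat.card (commutator G) * Nat.card ↥(A ⊓ Subgroup.centralizer ({x} : Set G)) = Nat.card A := by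
  set f : G → G := fun a => x * a * x⁻¹ * a⁻¹ with hf
  have hcomm : ∀ a ∈ A, ∀ b ∈ A, a * b = b * a := fun a ha b hb => by
    simpa using congrArg Subtype.val (hA.is_comm.comm (⟨a, ha⟩ : A) ⟨b, hb⟩)
  have hfA : ∀ a ∈ A, f a ∈ A := fun a ha =>
    mul_mem (Subgroup.Normal.conj_mem ‹A.Normal› a ha x) (inv_mem ha)
  have hmul : ∀ a ∈ A, ∀ b ∈ A, f (a * b) = f a * f b := by
    intro a ha b hb
    have h1 : f (a * b) = x * a * x⁻¹ * f b * a⁻¹ := by simp only [hf]; group
    rw [h1, mul_assoc (x * a * x⁻¹), hcomm _ (hfA b hb) _ (inv_mem ha), ← mul_assoc]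
  let φ : A →* G :=
    { toFun := fun a => f a
      map_one' := by simp [hf]
      map_mul' := fun a b => hmul a a.2 b b.2 }
  have h1 : ∀ a ∈ A, f a ∈ commutator G := fun a _ => by
    have := Subgroup.commutator_mem_commutator (Subgroup.mem_top x) (Subgroup.mem_top a)
    rw [commutator_def]; simpa [hf, commutatorElement_def] using this
  have hRA : φ.range ≤ A := by rintro _ ⟨a, rfl⟩; exact hfA a a.2
  have hx : ∀ r ∈ φ.range, x * r * x⁻¹ ∈ φ.range := by
    rintro _ ⟨a, rfl⟩
    refine ⟨⟨x * a * x⁻¹, Subgroup.Normal.conj_mem ‹A.Normal› a a.2 x⟩, ?_⟩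
    simp only [φ, hf, MonoidHom.coe_mk, OneHom.coe_mk]
    group
  haveI hRn : φ.range.Normal := by
    rw [← Subgroup.normalizer_eq_top_iff, eq_top_iff, ← hgen, sup_le_iff, Subgroup.zpowers_le]
    refine ⟨fun a ha => ?_, ?_⟩
    · rw [Subgroup.mem_normalizer_iff]
      intro r
      constructor
      · intro hr
        rw [hcomm a ha r (hRA hr), mul_inv_cancel_right]; exact hr
      · intro hr
        have hrA : r ∈ A := by
          have := mul_mem (mul_mem (inv_mem ha) (hRA hr)) ha
          simpa [mul_assoc] using this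
        rwa [hcomm a ha r hrA, mul_inv_cancel_right] at hr
    · rw [Subgroup.mem_normalizer_iff_map_conj_eq]
      apply Subgroup.eq_of_le_of_card_ge
      · rintro _ ⟨r, hr, rfl⟩
        exact hx r hr
      · exact (Nat.card_congr (φ.range.equivMapOfInjective _ (MulAut.conj x).injective).toEquiv).le
  have hle : commutator G ≤ φ.range := by
    apply Subgroup.Normal.quotient_commutative_iff_commutator_le.mp
    have hgen' : (A ⊔ Subgroup.zpowers x).map (QuotientGroup.mk' φ.range) = ⊤ := by
      rw [hgen]; exact Subgroup.map_top_of_surjective _ (QuotientGroup.mk'_surjective _)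
    have hS : IsMulCommutative (Subgroup.closure
        (QuotientGroup.mk' φ.range '' ((A : Set G) ∪ {x}))) := by
      refine Subgroup.isMulCommutative_closure ?_
      have key : ∀ a ∈ A, QuotientGroup.mk' φ.range x * QuotientGroup.mk' φ.range a =
          QuotientGroup.mk' φ.range a * QuotientGroup.mk' φ.range x := by
        intro a ha
        have : QuotientGroup.mk' φ.range (f a) = 1 :=
          (QuotientGroup.eq_one_iff _).mpr ⟨⟨a, ha⟩, rfl⟩
        simp only [hf, map_mul, map_inv] at this
        rwa [mul_inv_eq_one, mul_inv_eq_iff_eq_mul] at this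
      rintro _ ⟨u, hu, rfl⟩ _ ⟨v, hv, rfl⟩
      rcases hu with hu | rfl <;> rcases hv with hv | rfl
      · rw [← map_mul, ← map_mul, hcomm u hu v hv]
      · exact (key u hu).symm
      · exact key v hv
      · rfl
    rw [← MonoidHom.map_closure, Subgroup.closure_union, Subgroup.closure_eq,
      ← Subgroup.zpowers_eq_closure, hgen'] at hS
    exact isMulCommutative_iff.mpr fun a b => by
      simpa using congrArg Subtype.val
        (hS.is_comm.comm (⟨a, Subgroup.mem_top a⟩ : (⊤ : Subgroup (G ⧸ φ.range))) ⟨b, Subgroup.mem_top b⟩)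
  have hrange : φ.range = commutator G :=
    le_antisymm (by rintro _ ⟨a, rfl⟩; exact h1 a a.2) hle
  refine ⟨h1, fun c hc => ?_, hmul, ?_⟩
  · obtain ⟨a, rfl⟩ := hle hc
    exact ⟨a, a.2, rfl⟩
  · have hker : φ.ker = (A ⊓ Subgroup.centralizer ({x} : Set G)).subgroupOf A := by
      ext a
      simp only [MonoidHom.mem_ker, Subgroup.mem_subgroupOf, Subgroup.mem_inf, SetLike.coe_mem,
        true_and, Subgroup.mem_centralizer_singleton_iff, φ, MonoidHom.coe_mk, OneHom.coe_mk, hf]
      rw [mul_inv_eq_one, mul_inv_eq_iff_eq_mul]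
      exact eq_comm
    rw [← hrange, ← φ.ker.card_mul_index, Subgroup.index_ker, hker, mul_comm,
      Nat.card_congr (Subgroup.subgroupOfEquivOfLe
        (inf_le_left : A ⊓ Subgroup.centralizer ({x} : Set G) ≤ A)).toEquiv]

end Cfsg.Agent.S3866
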