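import Cfsg.Statements.S3807
import Mathlib
import Cfsg.Agent.S3866
import Cfsg.Agent.Lib.PGroups.ExtraspecialIndexP

set_option autoImplicit false
open Cfsg

namespace Cfsg.Agent.S3807

open CfsgLib.PGroups


/-- Let S be a non-abelian finite p-group with an abelian subgroup A of index p. Then [S : Z(S)] = p·#[S,S], and either [S,S] has order p, S/Z(S) is elementary abelian of order p², and S has exactly p + 1 abelian subgroups of index p; or [S,S] has order at least p² and A is the only abelian subgroup of index p in S. -/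
theorem result {S : Type*} [Group S] [Finite S] (p : ℕ) [Fact p.Prime] (hS : IsPGroup p S) (hna : ¬ IsMulCommutative S)
    (A : Subgroup S) (hA : IsMulCommutative ↥A) (hAi : A.index = p) :
    (Subgroup.center S).index = p * Nat.card (commutator S) ∧
      ((Nat.card (commutator S) = p ∧ Cfsg.IsElementaryAbelian p (⊤ : Subgroup (S ⧸ Subgroup.center S)) ∧
          Nat.card (S ⧸ Subgroup.center S) = p ^ 2 ∧
          Nat.card {B : Subgroup S // IsMulCommutative ↥B ∧ B.index = p} = p + 1) ∨
        (p ^ 2 ≤ Nat.card (commutator S) ∧ ∀ B : Subgroup S, IsMulCommutative ↥B → B.index = p → B = A)) := by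
  have hp := (Fact.out : p.Prime)
  haveI := normal_of_index_prime hS hAi
  set Z := Subgroup.center S with hZdef
  have hcommB : ∀ B : Subgroup S, IsMulCommutative ↥B → ∀ a ∈ B, ∀ b ∈ B, a * b = b * a :=
    fun B hB a ha b hb => by
      simpa using congrArg Subtype.val (hB.is_comm.comm (⟨a, ha⟩ : B) ⟨b, hb⟩)
  obtain ⟨x, hx⟩ : ∃ x : S, x ∉ A := by
    by_contra h
    push Not at h
    rw [(Subgroup.eq_top_iff' A).mpr h, Subgroup.index_top] at hAi
    exact hp.ne_one hAi.symm
  have hgen : A ⊔ Subgroup.zpowers x = ⊤ := by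
    refine Subgroup.eq_top_of_le_card _ ?_
    rw [← A.card_mul_index, hAi, mul_comm]
    exact mul_card_le_of_lt (hS.to_subgroup _) (lt_of_le_of_ne le_sup_left
      (fun h => hx (h ▸ Subgroup.mem_sup_right (Subgroup.mem_zpowers x))))
  have hcov : ∀ B : Subgroup S, IsMulCommutative ↥B → B.index = p → Z ≤ B := by
    intro B hB hBi z hz
    by_contra hzB
    refine hna ?_
    have htop : B ⊔ Subgroup.zpowers z = ⊤ := by
      refine Subgroup.eq_top_of_le_card _ ?_
      rw [← B.card_mul_index, hBi, mul_comm]
      exact mul_card_le_of_lt (hS.to_subgroup _) (lt_of_le_of_ne le_sup_left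
        (fun h => hzB (h ▸ Subgroup.mem_sup_right (Subgroup.mem_zpowers z))))
    rw [← Subgroup.center_eq_top_iff, eq_top_iff, ← htop, sup_le_iff, Subgroup.zpowers_le]
    refine ⟨?_, hz⟩
    rw [← Subgroup.centralizer_univ, ← Subgroup.coe_top, ← htop, Subgroup.le_centralizer_iff,
      sup_le_iff, Subgroup.zpowers_le]
    exact ⟨Subgroup.le_centralizer_iff_isMulCommutative.mpr hB, Subgroup.center_le_centralizer _ hz⟩
  have key := Cfsg.Agent.S3866.result A hA x hgen
  have hinf : A ⊓ Subgroup.centralizer ({x} : Set S) = Z := by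
    apply le_antisymm
    · rintro a ⟨ha, hax⟩
      rw [hZdef, Subgroup.mem_center_iff]
      intro g
      have hg : g ∈ A ⊔ Subgroup.zpowers x := hgen ▸ Subgroup.mem_top g
      rw [Subgroup.mem_sup_of_normal_left] at hg
      obtain ⟨u, hu, v, hv, rfl⟩ := hg
      obtain ⟨k, rfl⟩ := Subgroup.mem_zpowers_iff.mp hv
      have hax' : Commute a x := Subgroup.mem_centralizer_singleton_iff.mp hax
      exact ((Commute.mul_right (hcommB A hA a ha u hu : a * u = u * a) (hax'.zpow_right k)).eq).symm
    · exact le_inf (hcov A hA hAi) (Subgroup.center_le_centralizer _)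
  have hcard : Nat.card (commutator S) * Nat.card Z = Nat.card A := hinf ▸ key.2.2.2
  have hidx : Z.index = p * Nat.card (commutator S) := by
    have h1 := A.card_mul_index
    rw [hAi, ← hcard, ← Z.card_mul_index] at h1
    refine Nat.eq_of_mul_eq_mul_left (Nat.card_pos (α := Z)) ?_
    rw [← h1]; ring
  refine ⟨hidx, ?_⟩
  have hne : Nat.card (commutator S) ≠ 1 := fun h =>
    hna ((commutator_eq_bot_iff S).mp (Subgroup.card_eq_one.mp h))
  obtain ⟨i, hi⟩ := IsPGroup.iff_card.mp (hS.to_subgroup (commutator S))
  rcases i with _ | _ | i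
  · exact absurd (by simpa using hi) hne
  · left
    rw [zero_add, pow_one] at hi
    rw [hi, ← sq] at hidx
    have hq : Nat.card (S ⧸ Z) = p ^ 2 := by rw [← Subgroup.index_eq_card, hidx]
    haveI := IsPGroup.isMulCommutative_of_card_eq_prime_sq (G := S ⧸ Z) (p := p) hq
    have hexp : ∀ q : S ⧸ Z, q ^ p = 1 := by
      intro q
      by_contra hqp
      obtain ⟨j, hj, hj'⟩ := (Nat.dvd_prime_pow hp).mp (hq ▸ orderOf_dvd_natCard q)
      interval_cases j
      · exact hqp (orderOf_dvd_iff_pow_eq_one.mp (by simp [hj']))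
      · exact hqp (orderOf_dvd_iff_pow_eq_one.mp (by simp [hj']))
      · haveI : IsCyclic (S ⧸ Z) := isCyclic_of_orderOf_eq_card q (by rw [hj', hq])
        exact hna (isMulCommutative_of_cyclic_quotient (N := Z) le_rfl)
    refine ⟨hi, ⟨inferInstance, fun a _ => hexp a⟩, hq, ?_⟩
    rw [← card_subgroups_card_prime hq hexp]
    set f := QuotientGroup.mk' Z with hf
    have hfs : Function.Surjective f := QuotientGroup.mk'_surjective Z
    have hlift : ∀ H : Subgroup (S ⧸ Z), Nat.card H = p →
        IsMulCommutative ↥(H.comap f) ∧ (H.comap f).index = p := by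
      intro H hH
      refine ⟨?_, ?_⟩
      · haveI : IsCyclic H := isCyclic_of_prime_card hH
        exact MonoidHom.isMulCommutative_of_isCyclic_of_ker_le_center
          ((f.comp (H.comap f).subtype).codRestrict H (fun y => y.2)) (by
            intro y hy
            rw [MonoidHom.mem_ker] at hy
            have hy' : f (y : S) = 1 := congrArg Subtype.val hy
            replace hy' : (y : S) ∈ Z := (QuotientGroup.eq_one_iff _).mp hy'
            exact Subgroup.mem_center_iff.mpr fun g =>
              Subtype.ext (Subgroup.mem_center_iff.mp hy' g))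
      · rw [Subgroup.index_comap_of_surjective _ hfs]
        have := H.card_mul_index
        rw [hH, hq, sq] at this
        exact Nat.eq_of_mul_eq_mul_left hp.pos this
    refine Nat.card_congr
      { toFun := fun B => ⟨B.1.map f, ?_⟩
        invFun := fun H => ⟨H.1.comap f, hlift H.1 H.2⟩
        left_inv := fun B => Subtype.ext ?_
        right_inv := fun H => Subtype.ext (Subgroup.map_comap_eq_self_of_surjective hfs H.1) }
    · have h1 := (B.1.map f).card_mul_index
      rw [Subgroup.index_map_eq B.1 hfs (by rw [hf, QuotientGroup.ker_mk']; exact hcov _ B.2.1 B.2.2),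
        B.2.2, hq, sq] at h1
      exact Nat.eq_of_mul_eq_mul_right hp.pos h1
    · simp only
      rw [Subgroup.comap_map_eq, hf, QuotientGroup.ker_mk', sup_eq_left]
      exact hcov _ B.2.1 B.2.2
  · right
    refine ⟨hi ▸ Nat.pow_le_pow_right hp.pos (by omega), fun B hB hBi => ?_⟩
    by_contra hBA
    haveI := normal_of_index_prime hS hBi
    have hsup : B ⊔ A = ⊤ := by
      refine Subgroup.eq_top_of_le_card _ ?_
      rw [← B.card_mul_index, hBi, mul_comm]
      refine mul_card_le_of_lt (hS.to_subgroup _) (lt_of_le_of_ne le_sup_left fun h => hBA ?_)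
      have hle : A ≤ B := h ▸ le_sup_right
      refine (Subgroup.eq_of_le_of_card_ge hle ?_).symm
      have h1 := A.card_mul_index
      rw [hAi, ← B.card_mul_index, hBi] at h1
      exact (Nat.eq_of_mul_eq_mul_right hp.pos h1).ge
    have hcen : A ⊓ B ≤ Z := by
      rintro a ⟨haA, haB⟩
      rw [hZdef, Subgroup.mem_center_iff]
      intro g
      have hg : g ∈ B ⊔ A := hsup ▸ Subgroup.mem_top g
      rw [Subgroup.mem_sup_of_normal_left] at hg
      obtain ⟨u, hu, v, hv, rfl⟩ := hg
      exact (Commute.mul_right (hcommB B hB a haB u hu : a * u = u * a)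
        (hcommB A hA a haA v hv : a * v = v * a)).eq.symm
    have hle : (A ⊓ B).index ≤ p * p :=
      Subgroup.index_inf_le.trans (by rw [hAi, hBi])
    have h3 := Nat.le_of_dvd (Nat.pos_of_ne_zero Subgroup.index_ne_zero_of_finite)
      (Subgroup.index_dvd_of_le hcen)
    rw [hidx, hi] at h3
    have h4 := h3.trans hle
    rw [← sq, ← pow_succ'] at h4
    have := (Nat.pow_le_pow_iff_right hp.one_lt).mp h4
    omega

end Cfsg.Agent.S3807
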