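import Cfsg.Statements.S3811
import Mathlib
import Cfsg.Agent.Lib.PGroups.Basic
import Cfsg.Agent.Lib.PGroups.ClassTwo

set_option autoImplicit false
open Cfsg

namespace Cfsg.Agent.S3811

set_option linter.style.haveILetI false
set_option linter.unusedSectionVars false
open scoped commutatorElement Classical
universe v

section twoAbelian

variable {H : Type v} [Group H] [Finite H] {p : ℕ} [Fact p.Prime]

/-- Two distinct normal abelian subgroups of index `p`. -/
theorem two_abelian (A B : Subgroup H) [A.Normal] [B.Normal] (hA : A.index = p) (hB : B.index = p) (hne : A ≠ B)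
    (hAab : IsMulCommutative A) (hBab : IsMulCommutative B) :
    A ⊓ B ≤ Subgroup.center H ∧ (∀ x ∈ commutator H, x ^ p = 1) ∧ IsCyclic (commutator H) ∧
      {K : Subgroup H | A ⊓ B ≤ K ∧ K.index = p}.ncard ≤ p + 1 := by
  have hp : p.Prime := Fact.out
  have htop : A ⊔ B = ⊤ := by
    have h1 := Subgroup.index_dvd_of_le (le_sup_left : A ≤ A ⊔ B)
    rw [hA] at h1
    rcases (Nat.dvd_prime hp).mp h1 with h | h
    · exact Subgroup.index_eq_one.mp h
    · exfalso
      have hA' : A = A ⊔ B := by
        by_contra hlt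
        have := Subgroup.relIndex_mul_index (le_sup_left : A ≤ A ⊔ B)
        rw [hA, h, mul_eq_right₀ hp.ne_zero, Subgroup.relIndex_eq_one] at this
        exact hlt (le_antisymm le_sup_left this)
      have hBA : B ≤ A := hA' ▸ le_sup_right
      have := Subgroup.relIndex_mul_index hBA
      rw [hA, hB, mul_eq_right₀ hp.ne_zero, Subgroup.relIndex_eq_one] at this
      exact hne (le_antisymm this hBA)
  have hcommA : ∀ u ∈ A, ∀ v ∈ A, u * v = v * u := fun u hu v hv =>
    congrArg Subtype.val (hAab.is_comm.comm ⟨u, hu⟩ ⟨v, hv⟩)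
  have hcommB : ∀ u ∈ B, ∀ v ∈ B, u * v = v * u := fun u hu v hv =>
    congrArg Subtype.val (hBab.is_comm.comm ⟨u, hu⟩ ⟨v, hv⟩)
  have hcen : A ⊓ B ≤ Subgroup.center H := by
    intro y hy
    refine Subgroup.mem_center_iff.mpr fun g => ?_
    have hg : g ∈ A ⊔ B := htop ▸ Subgroup.mem_top g
    obtain ⟨u, hu, v, hv, rfl⟩ := Subgroup.mem_sup_of_normal_left.mp hg
    rw [mul_assoc, hcommB v hv y hy.2, ← mul_assoc, hcommA u hu y hy.1, mul_assoc]
  have hne' : ∀ (S T : Subgroup H), S.index = p → T.index = p → S ≠ T → ∃ a ∈ S, a ∉ T := by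
    intro S T hS hT hST
    by_contra hcon
    push Not at hcon
    have := Subgroup.relIndex_mul_index (show S ≤ T from hcon)
    rw [hS, hT, mul_eq_right₀ hp.ne_zero, Subgroup.relIndex_eq_one] at this
    exact hST (le_antisymm hcon this)
  obtain ⟨a, haA, haB⟩ := hne' A B hA hB hne
  obtain ⟨b, hbB, hbA⟩ := hne' B A hB hA (Ne.symm hne)
  have hpow : ∀ (S : Subgroup H) [S.Normal], S.index = p → ∀ h : H, h ^ p ∈ S := by
    intro S _ hS h
    rw [← QuotientGroup.eq_one_iff, QuotientGroup.mk_pow, ← hS, Subgroup.index_eq_card]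
    exact pow_card_eq_one'
  have hap : a ^ p ∈ A ⊓ B := ⟨pow_mem haA p, hpow B hB a⟩
  have hbp : b ^ p ∈ A ⊓ B := ⟨hpow A hA b, pow_mem hbB p⟩
  have hdecomp : ∀ (S : Subgroup H) [S.Normal], S.index = p → ∀ u, u ∉ S → ∀ h : H,
      ∃ i : ℕ, i < p ∧ h * (u ^ i)⁻¹ ∈ S := by
    intro S _ hS u hu h
    have hcard : Nat.card (H ⧸ S) = p := by rw [← Subgroup.index_eq_card]; exact hS
    have htop' : Subgroup.zpowers (u : H ⧸ S) = ⊤ :=
      zpowers_eq_top_of_prime_card hcard (fun h1 => hu ((QuotientGroup.eq_one_iff u).mp h1))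
    have hmem : (h : H ⧸ S) ∈ Subgroup.zpowers (u : H ⧸ S) := htop' ▸ Subgroup.mem_top _
    obtain ⟨n, hn⟩ := mem_powers_iff_mem_zpowers.mpr hmem
    refine ⟨n % p, Nat.mod_lt _ hp.pos, ?_⟩
    rw [← QuotientGroup.eq_one_iff, QuotientGroup.mk_mul, QuotientGroup.mk_inv, QuotientGroup.mk_pow,
      ← hcard, pow_mod_natCard, mul_inv_eq_one]
    exact hn.symm
  have hgen : ∀ h : H, ∃ y ∈ A ⊓ B, ∃ i j : ℕ, i < p ∧ j < p ∧ h = y * a ^ i * b ^ j := by
    intro h
    obtain ⟨j, hj, hj'⟩ := hdecomp A hA b hbA h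
    obtain ⟨i, hi, hi'⟩ := hdecomp B hB a haB (h * (b ^ j)⁻¹)
    exact ⟨h * (b ^ j)⁻¹ * (a ^ i)⁻¹, Subgroup.mem_inf.mpr ⟨mul_mem hj' (inv_mem (pow_mem haA i)), hi'⟩, i, j, hi, hj, by group⟩
  set c := ⁅a, b⁆ with hc
  have hcY : c ∈ A ⊓ B := by
    refine Subgroup.mem_inf.mpr ⟨?_, ?_⟩
    · rw [hc, commutatorElement_def, show a * b * a⁻¹ * b⁻¹ = a * (b * a⁻¹ * b⁻¹) by group]
      exact mul_mem haA (Subgroup.Normal.conj_mem inferInstance _ (inv_mem haA) b)
    · rw [hc, commutatorElement_def]
      exact mul_mem (Subgroup.Normal.conj_mem inferInstance _ hbB a) (inv_mem hbB)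
  have hcp : c ^ p = 1 := by
    rw [hc, ← CfsgLib.PGroups.comm_pow_left_of_central (hcen hcY), commutatorElement_eq_one_iff_commute]
    exact hcommB _ hap.2 b hbB
  set C := Subgroup.zpowers c with hC
  haveI : C.Normal := ⟨fun m hm g => by
    have hm' : m ∈ Subgroup.center H := (Subgroup.zpowers_le.mpr (hcen hcY)) hm
    rwa [Subgroup.mem_center_iff.mp hm' g, mul_inv_cancel_right]⟩
  have hquot : ∀ g h : H ⧸ C, g * h = h * g := by
    intro g h
    obtain ⟨g, rfl⟩ := QuotientGroup.mk_surjective g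
    obtain ⟨h, rfl⟩ := QuotientGroup.mk_surjective h
    have hab : Commute (a : H ⧸ C) (b : H ⧸ C) := by
      rw [← commutatorElement_eq_one_iff_commute, ← QuotientGroup.mk'_apply, ← QuotientGroup.mk'_apply,
        ← map_commutatorElement, QuotientGroup.mk'_apply, QuotientGroup.eq_one_iff]
      exact Subgroup.mem_zpowers c
    have hy : ∀ y ∈ A ⊓ B, ∀ k : H, Commute (y : H ⧸ C) (k : H ⧸ C) := fun y hy k => by
      show (y : H ⧸ C) * k = k * y
      rw [← QuotientGroup.mk_mul, ← QuotientGroup.mk_mul, Subgroup.mem_center_iff.mp (hcen hy) k]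
    obtain ⟨y, hy1, i, j, -, -, rfl⟩ := hgen g
    obtain ⟨y', hy2, i', j', -, -, rfl⟩ := hgen h
    show Commute _ _
    simp only [QuotientGroup.mk_mul, QuotientGroup.mk_pow]
    have h1 : ∀ i j, Commute ((a : H ⧸ C) ^ i) ((a : H ⧸ C) ^ j) := fun i j => Commute.pow_pow_self _ i j
    have h2 : ∀ i j, Commute ((b : H ⧸ C) ^ i) ((b : H ⧸ C) ^ j) := fun i j => Commute.pow_pow_self _ i j
    have h3 : ∀ i j, Commute ((a : H ⧸ C) ^ i) ((b : H ⧸ C) ^ j) := fun i j => hab.pow_pow i j
    have e1 : ∀ k, Commute ((a : H ⧸ C) ^ k) ((y' : H ⧸ C) * (a : H ⧸ C) ^ i' * (b : H ⧸ C) ^ j') := fun k =>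
      ((((hy y' hy2 a).symm.pow_left k).mul_right (h1 k i')).mul_right (h3 k j'))
    have e2 : ∀ k, Commute ((b : H ⧸ C) ^ k) ((y' : H ⧸ C) * (a : H ⧸ C) ^ i' * (b : H ⧸ C) ^ j') := fun k =>
      ((((hy y' hy2 b).symm.pow_left k).mul_right (h3 i' k).symm).mul_right (h2 k j'))
    have e3 : Commute (y : H ⧸ C) ((y' : H ⧸ C) * (a : H ⧸ C) ^ i' * (b : H ⧸ C) ^ j') :=
      ((hy y hy1 y').mul_right ((hy y hy1 a).pow_right i')).mul_right ((hy y hy1 b).pow_right j')
    exact (e3.mul_left (e1 i)).mul_left (e2 j)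
  have hder : commutator H ≤ C := Subgroup.Normal.quotient_commutative_iff_commutator_le.mp ⟨⟨hquot⟩⟩
  refine ⟨hcen, fun x hx => ?_, ?_, ?_⟩
  · obtain ⟨k, rfl⟩ := Subgroup.mem_zpowers_iff.mp (hder hx)
    rw [← zpow_natCast (c ^ k), ← zpow_mul, mul_comm, zpow_mul, zpow_natCast, hcp, one_zpow]
  · exact isCyclic_of_injective (Subgroup.inclusion hder) (Subgroup.inclusion_injective hder)
  have hsub : {K : Subgroup H | A ⊓ B ≤ K ∧ K.index = p} ⊆
      ↑(insert A ((Finset.range p).image fun i => (A ⊓ B) ⊔ Subgroup.zpowers (a ^ i * b))) := by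
    rintro K ⟨hYK, hK⟩
    rw [Finset.coe_insert, Finset.coe_image]
    by_cases hKA : K = A
    · exact Or.inl hKA
    refine Or.inr ?_
    obtain ⟨u, huK, huA⟩ := hne' K A hK hA hKA
    obtain ⟨k, -, hk⟩ := hdecomp A hA u huA b
    have hu' : u ^ k ∈ K := pow_mem huK k
    obtain ⟨i, hi, hi'⟩ := hdecomp B hB a haB (u ^ k * b⁻¹)
    refine ⟨i, Finset.mem_range.mpr hi, ?_⟩
    have hz : u ^ k * b⁻¹ * (a ^ i)⁻¹ ∈ A ⊓ B := by
      refine Subgroup.mem_inf.mpr ⟨mul_mem ?_ (inv_mem (pow_mem haA i)), hi'⟩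
      simpa using inv_mem hk
    have hwK : a ^ i * b ∈ K := by
      have hz' := inv_mem (hYK hz)
      have : a ^ i * b = (u ^ k * b⁻¹ * (a ^ i)⁻¹)⁻¹ * u ^ k := by
        have hcm := Subgroup.mem_center_iff.mp (hcen hz) (a ^ i * b)
        calc a ^ i * b = (u ^ k * b⁻¹ * (a ^ i)⁻¹)⁻¹ * ((u ^ k * b⁻¹ * (a ^ i)⁻¹) * (a ^ i * b)) := by group
          _ = (u ^ k * b⁻¹ * (a ^ i)⁻¹)⁻¹ * u ^ k := by group
      rw [this]
      exact mul_mem hz' hu'
    set K₀ := (A ⊓ B) ⊔ Subgroup.zpowers (a ^ i * b) with hK₀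
    have hle : K₀ ≤ K := sup_le hYK (Subgroup.zpowers_le.mpr hwK)
    refine Subgroup.eq_of_le_of_card_ge hle ?_
    -- `K₀` has index at most `p`
    have hsurj : Function.Surjective fun n : Fin p => ((a ^ (n : ℕ) : H) : H ⧸ K₀) := by
      intro q
      obtain ⟨h, rfl⟩ := QuotientGroup.mk_surjective q
      obtain ⟨y, hy, s, t, -, -, rfl⟩ := hgen h
      have hY : A ⊓ B ≤ K₀ := le_sup_left
      have hw : a ^ i * b ∈ K₀ := Subgroup.mem_sup_right (Subgroup.mem_zpowers _)
      -- modulo `K₀`, `b` is a power of `a`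
      refine ⟨⟨(s + (p - i) * t) % p, Nat.mod_lt _ hp.pos⟩, ?_⟩
      rw [QuotientGroup.eq]
      haveI hK0n : K₀.Normal := Subgroup.Normal.of_commutator_le H (hder.trans ((Subgroup.zpowers_le.mpr hcY).trans hY))
      have hquot' : ∀ g h : H ⧸ K₀, Commute g h := fun g h =>
        ((Subgroup.Normal.quotient_commutative_iff_commutator_le).mpr
          (hder.trans ((Subgroup.zpowers_le.mpr hcY).trans hY))).is_comm.comm g h
      rw [← QuotientGroup.eq]
      have hy0 : (y : H ⧸ K₀) = 1 := (QuotientGroup.eq_one_iff y).mpr (hY hy)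
      have hap0 : (a : H ⧸ K₀) ^ p = 1 := by
        rw [← QuotientGroup.mk_pow]; exact (QuotientGroup.eq_one_iff _).mpr (hY hap)
      have hb0 : (b : H ⧸ K₀) = (a : H ⧸ K₀) ^ (p - i) := by
        have hw0 : (a : H ⧸ K₀) ^ i * b = 1 := by
          rw [← QuotientGroup.mk_pow, ← QuotientGroup.mk_mul]; exact (QuotientGroup.eq_one_iff _).mpr hw
        calc (b : H ⧸ K₀) = (a : H ⧸ K₀) ^ (p - i) * ((a : H ⧸ K₀) ^ i * b) := by
              rw [← mul_assoc, ← pow_add, Nat.sub_add_cancel hi.le, hap0, one_mul]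
          _ = _ := by rw [hw0, mul_one]
      rw [QuotientGroup.mk_mul, QuotientGroup.mk_mul, QuotientGroup.mk_pow, QuotientGroup.mk_pow,
        QuotientGroup.mk_pow, hy0, one_mul, hb0, ← pow_mul, ← pow_add]
      generalize (s + (p - i) * t) = n
      conv_rhs => rw [← Nat.mod_add_div n p, pow_add, pow_mul, hap0, one_pow, mul_one]
    have h1 := Nat.card_le_card_of_surjective _ hsurj
    rw [Nat.card_fin, ← Subgroup.index_eq_card, ← hK] at h1
    have e0 := K₀.index_mul_card
    have e1 := K.index_mul_card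
    by_contra hlt
    push Not at hlt
    have hpos : 0 < K₀.index := Nat.pos_of_ne_zero Subgroup.index_ne_zero_of_finite
    nlinarith [Nat.mul_lt_mul_of_pos_left hlt hpos, Nat.mul_le_mul_right (Nat.card K) h1]
  refine (Set.ncard_le_ncard hsub (Finset.finite_toSet _)).trans ?_
  rw [Set.ncard_coe_finset]
  exact (Finset.card_insert_le _ _).trans (Nat.add_le_add_right (Finset.card_image_le.trans (Finset.card_range p).le) 1)

end twoAbelian

section main

variable {P : Type v} [Group P] [Finite P] {p : ℕ}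

theorem mem_norm {E : Subgroup P} {t : P} (h : ∀ e ∈ E, t * e * t⁻¹ ∈ E) :
    t ∈ Subgroup.normalizer (E : Set P) := by
  have heq : E.map (MulAut.conj t).toMonoidHom = E := by
    refine Subgroup.eq_of_le_of_card_ge ?_ (Subgroup.card_map_of_injective (MulAut.conj t).injective).ge
    rintro _ ⟨e, he, rfl⟩
    exact h e he
  refine Subgroup.mem_normalizer_iff.mpr fun e => ⟨h e, fun he => ?_⟩
  have he' : t * e * t⁻¹ ∈ E.map (MulAut.conj t).toMonoidHom := by rwa [heq]
  obtain ⟨e', he'', hee⟩ := he'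
  have : e' = e := (MulAut.conj t).injective hee
  exact this ▸ he''

theorem eq_of_relIndex_prime (hp : p.Prime) {A B C : Subgroup P} (hAB : A ≤ B) (hne : A ≠ B) (hBC : B ≤ C)
    (h : A.relIndex C = p) : B = C := by
  have hmul := Subgroup.relIndex_mul_relIndex A B C hAB hBC
  rw [h] at hmul
  rcases (Nat.dvd_prime hp).mp (Dvd.intro_left _ hmul) with h1 | h1
  · exact le_antisymm hBC (Subgroup.relIndex_eq_one.mp h1)
  · rw [h1, mul_eq_right₀ hp.ne_zero, Subgroup.relIndex_eq_one] at hmul
    exact absurd (le_antisymm hAB hmul) hne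

theorem normalizer_gt (hP : Group.IsNilpotent P) {K : Subgroup P} (hK : K ≠ ⊤) :
    K < Subgroup.normalizer (K : Set P) :=
  Group.normalizerCondition_of_isNilpotent K hK.lt_top

/-- Facts about `N = N(E)`. -/
theorem norm_facts [Fact p.Prime] (hP : IsPGroup p P) (E : Subgroup P) (hEab : IsMulCommutative E)
    (hC : Subgroup.centralizer (E : Set P) ≤ E) (hN : E.relIndex (Subgroup.normalizer (E : Set P)) = p)
    (hidx : p ^ 2 ≤ E.index) (N : Subgroup P) (hNdef : N = Subgroup.normalizer (E : Set P)) :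
    N ≠ ⊤ ∧ ⁅N, N⁆ ≤ E ∧ Nat.card (⁅N, N⁆ : Subgroup P) = p ∧ (∀ r ∈ ⁅N, N⁆, ∀ n ∈ N, r * n = n * r) ∧
      N.relIndex (Subgroup.normalizer (N : Set P)) = p := by
  have hp : p.Prime := Fact.out
  subst hNdef
  set N := Subgroup.normalizer (E : Set P) with hNdef
  have hEN : E ≤ N := Subgroup.le_normalizer
  have hNtop : N ≠ ⊤ := by
    intro h
    rw [h, Subgroup.relIndex_top_right] at hN
    have := hp.two_le
    rw [hN, pow_two] at hidx
    nlinarith
  have hnil : Group.IsNilpotent P := hP.isNilpotent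
  set A := E.subgroupOf N with hA
  have hAi : A.index = p := hN
  haveI hAn : A.Normal := Subgroup.normal_in_normalizer
  have hmapA : A.map N.subtype = E := Subgroup.map_subgroupOf_eq_of_le hEN
  have hAab : IsMulCommutative A := by
    refine ⟨⟨fun u v => Subtype.ext (Subtype.ext ?_)⟩⟩
    have h := congrArg (fun w : E => (w : P))
      (hEab.is_comm.comm ⟨_, Subgroup.mem_subgroupOf.mp u.2⟩ ⟨_, Subgroup.mem_subgroupOf.mp v.2⟩)
    exact h
  obtain ⟨g, hgM, hgN⟩ := SetLike.exists_of_lt (normalizer_gt hnil hNtop)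
  -- conjugates of `E` under `N(N)`, as subgroups of `N`
  have hconjN : ∀ h ∈ Subgroup.normalizer (N : Set P), E.map (MulAut.conj h).toMonoidHom ≤ N := by
    rintro h hh _ ⟨e, he, rfl⟩
    exact (Subgroup.mem_normalizer_iff.mp hh e).mp (hEN he)
  let φ : P → Subgroup N := fun h => (E.map (MulAut.conj h).toMonoidHom).subgroupOf N
  have hφi : ∀ h ∈ Subgroup.normalizer (N : Set P), (φ h).index = p := by
    intro h hh
    have e1 := (φ h).index_mul_card
    have e2 := A.index_mul_card
    rw [Nat.card_congr (Subgroup.subgroupOfEquivOfLe (hconjN h hh)).toEquiv,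
      Subgroup.card_map_of_injective (MulAut.conj h).injective] at e1
    rw [hAi, Nat.card_congr (Subgroup.subgroupOfEquivOfLe hEN).toEquiv, ← e1] at e2
    exact (Nat.eq_of_mul_eq_mul_right Nat.card_pos e2).symm
  set B := φ g with hB
  haveI hBn : B.Normal := by
    refine ⟨fun u hu w => ?_⟩
    obtain ⟨e, he, hue⟩ := Subgroup.mem_subgroupOf.mp hu
    have hw : g⁻¹ * (w : P) * g ∈ N := (Subgroup.mem_normalizer_iff''.mp hgM (w : P)).mp w.2
    refine Subgroup.mem_subgroupOf.mpr ⟨g⁻¹ * (w : P) * g * e * (g⁻¹ * (w : P) * g)⁻¹,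
      (Subgroup.mem_normalizer_iff.mp hw e).mp he, ?_⟩
    show g * (g⁻¹ * (w : P) * g * e * (g⁻¹ * (w : P) * g)⁻¹) * g⁻¹ = (w : P) * u * (w : P)⁻¹
    rw [← hue]
    show _ = (w : P) * (g * e * g⁻¹) * (w : P)⁻¹
    group
  have hBab : IsMulCommutative B := by
    refine ⟨⟨fun u v => Subtype.ext (Subtype.ext ?_)⟩⟩
    obtain ⟨e, he, hue⟩ := Subgroup.mem_subgroupOf.mp u.2
    obtain ⟨e', he', hve⟩ := Subgroup.mem_subgroupOf.mp v.2
    show ((u : N) : P) * ((v : N) : P) = ((v : N) : P) * ((u : N) : P)
    rw [← hue, ← hve, ← map_mul, ← map_mul]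
    exact congrArg _ (congrArg Subtype.val (hEab.is_comm.comm ⟨e, he⟩ ⟨e', he'⟩))
  have hAB : A ≠ B := by
    intro h
    refine hgN (mem_norm fun e he => ?_)
    have : (⟨g * e * g⁻¹, hconjN g hgM ⟨e, he, rfl⟩⟩ : N) ∈ B := Subgroup.mem_subgroupOf.mpr ⟨e, he, rfl⟩
    rw [← h] at this
    exact Subgroup.mem_subgroupOf.mp this
  obtain ⟨hcen, hexp, hcyc, hcount⟩ := two_abelian A B hAi (hφi g hgM) hAB hAab hBab
  have hder : (commutator N).map N.subtype = ⁅N, N⁆ := by
    rw [commutator_def, Subgroup.map_commutator, ← MonoidHom.range_eq_map, Subgroup.range_subtype]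
  have hq : ∀ (S : Subgroup N) [S.Normal], S.index = p → commutator N ≤ S := fun S _ hS => by
    haveI : IsCyclic (N ⧸ S) := isCyclic_of_prime_card (p := p) (by rw [← Subgroup.index_eq_card]; exact hS)
    exact Subgroup.Normal.quotient_commutative_iff_commutator_le.mp
      ⟨⟨fun u v => (IsCyclic.commGroup (α := N ⧸ S)).mul_comm u v⟩⟩
  have hAle : commutator N ≤ A ⊓ B := le_inf (hq A hAi) (hq B (hφi g hgM))
  refine ⟨hNtop, hder ▸ (Subgroup.map_mono (hAle.trans inf_le_left)).trans hmapA.le, ?_, ?_, ?_⟩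
  · rw [← hder, Subgroup.card_map_of_injective N.subtype_injective]
    have hne : commutator N ≠ ⊥ := by
      intro h
      have hNE : N ≤ E := fun n hn => hC (Subgroup.mem_centralizer_iff.mpr fun e he => by
        have hm : ⁅(⟨e, hEN he⟩ : N), ⟨n, hn⟩⁆ ∈ commutator N :=
          Subgroup.commutator_mem_commutator (Subgroup.mem_top _) (Subgroup.mem_top _)
        rw [h, Subgroup.mem_bot, commutatorElement_eq_one_iff_commute] at hm
        exact congrArg Subtype.val hm.eq)
      rw [Subgroup.relIndex_eq_one.mpr hNE] at hN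
      exact hp.ne_one hN.symm
    obtain ⟨z, hz⟩ := hcyc.exists_generator
    have hz1 : z ≠ 1 := fun h => hne (by
      rw [eq_bot_iff]
      intro w hw
      obtain ⟨k, hk⟩ := Subgroup.mem_zpowers_iff.mp (hz ⟨w, hw⟩)
      have := congrArg Subtype.val hk
      rw [h, one_zpow] at this
      exact Subgroup.mem_bot.mpr this.symm)
    rw [← orderOf_eq_card_of_forall_mem_zpowers hz]
    exact orderOf_eq_prime (Subtype.ext (hexp z z.2)) hz1
  · intro r hr n hn
    rw [← hder] at hr
    obtain ⟨r', hr', rfl⟩ := hr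
    exact (congrArg Subtype.val (Subgroup.mem_center_iff.mp (hcen (hAle hr')) ⟨n, hn⟩)).symm
  · -- the orbit of `E` under `N(N)`
    have hYc : A ⊓ B = Subgroup.center N := by
      refine le_antisymm hcen fun z hz => ?_
      have hzE : (z : P) ∈ E := hC (Subgroup.mem_centralizer_iff.mpr fun e he =>
        congrArg Subtype.val (Subgroup.mem_center_iff.mp hz ⟨e, hEN he⟩))
      refine ⟨Subgroup.mem_subgroupOf.mpr hzE, Subgroup.mem_subgroupOf.mpr ⟨g⁻¹ * (z : P) * g, ?_, ?_⟩⟩
      · refine hC (Subgroup.mem_centralizer_iff.mpr fun e he => ?_)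
        have h1 : g * e * g⁻¹ * (z : P) = (z : P) * (g * e * g⁻¹) :=
          congrArg Subtype.val (Subgroup.mem_center_iff.mp hz ⟨_, hconjN g hgM ⟨e, he, rfl⟩⟩)
        calc e * (g⁻¹ * (z : P) * g) = g⁻¹ * (g * e * g⁻¹ * (z : P)) * g := by group
          _ = g⁻¹ * ((z : P) * (g * e * g⁻¹)) * g := by rw [h1]
          _ = g⁻¹ * (z : P) * g * e := by group
      · show g * (g⁻¹ * (z : P) * g) * g⁻¹ = z
        group
    have hmem : ∀ h ∈ Subgroup.normalizer (N : Set P),
        φ h ∈ {K : Subgroup N | A ⊓ B ≤ K ∧ K.index = p} := by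
      intro h hh
      refine ⟨?_, hφi h hh⟩
      rw [hYc]
      intro z hz
      have hz' : h⁻¹ * (z : P) * h ∈ E := by
        refine hC (Subgroup.mem_centralizer_iff.mpr fun e he => ?_)
        have h1 : h * e * h⁻¹ * (z : P) = (z : P) * (h * e * h⁻¹) :=
          congrArg Subtype.val (Subgroup.mem_center_iff.mp hz ⟨_, hconjN h hh ⟨e, he, rfl⟩⟩)
        calc e * (h⁻¹ * (z : P) * h) = h⁻¹ * (h * e * h⁻¹ * (z : P)) * h := by group
          _ = h⁻¹ * ((z : P) * (h * e * h⁻¹)) * h := by rw [h1]
          _ = h⁻¹ * (z : P) * h * e := by group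
      exact Subgroup.mem_subgroupOf.mpr ⟨_, hz', by show h * (h⁻¹ * (z : P) * h) * h⁻¹ = z; group⟩
    set M := Subgroup.normalizer (N : Set P)
    have hinj : N.relIndex M ≤ p + 1 := by
      refine le_trans ?_ hcount
      rw [Subgroup.relIndex, Subgroup.index_eq_card, ← Nat.card_coe_set_eq]
      refine Nat.card_le_card_of_injective (fun q : (M ⧸ N.subgroupOf M) =>
        (⟨φ (q.out : M), hmem _ (q.out : M).2⟩ : {K : Subgroup N | A ⊓ B ≤ K ∧ K.index = p})) ?_
      intro q q' hqq
      have heq : φ (q.out : M) = φ (q'.out : M) := congrArg Subtype.val hqq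
      rw [← Quotient.out_eq' q, ← Quotient.out_eq' q']
      refine QuotientGroup.eq.mpr (Subgroup.mem_subgroupOf.mpr (mem_norm fun e he => ?_))
      have h1 : (⟨((q'.out : M) : P) * e * ((q'.out : M) : P)⁻¹, hconjN _ (q'.out : M).2 ⟨e, he, rfl⟩⟩ : N) ∈ φ (q'.out : M) :=
        Subgroup.mem_subgroupOf.mpr ⟨e, he, rfl⟩
      rw [← heq] at h1
      obtain ⟨e', he', hee⟩ := Subgroup.mem_subgroupOf.mp h1
      have : ((q.out : M) : P) * e' * ((q.out : M) : P)⁻¹ = ((q'.out : M) : P) * e * ((q'.out : M) : P)⁻¹ := hee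
      show ((q.out : M) : P)⁻¹ * (q'.out : M) * e * (((q.out : M) : P)⁻¹ * (q'.out : M))⁻¹ ∈ E
      have h2 : ((q.out : M) : P)⁻¹ * (q'.out : M) * e * (((q.out : M) : P)⁻¹ * (q'.out : M))⁻¹ = e' :=
        calc ((q.out : M) : P)⁻¹ * (q'.out : M) * e * (((q.out : M) : P)⁻¹ * (q'.out : M))⁻¹
            = ((q.out : M) : P)⁻¹ * (((q'.out : M) : P) * e * ((q'.out : M) : P)⁻¹) * (q.out : M) := by group
          _ = e' := by rw [← this]; group
      rw [h2]; exact he'
    obtain ⟨k, hk⟩ := (hP.to_subgroup M).index (N.subgroupOf M)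
    change N.relIndex M = p ^ k at hk
    rcases k with _ | _ | k
    · rw [pow_zero, Subgroup.relIndex_eq_one] at hk
      exact absurd (hk hgM) hgN
    · rw [hk]; exact pow_one p
    · exfalso
      have : p ^ 2 ≤ p ^ (k + 1 + 1) := Nat.pow_le_pow_right hp.pos (by omega)
      have := hp.two_le
      nlinarith

/-- The chain, the steps and the upper bound for the class. -/
theorem chain (n : ℕ) : ∀ (P : Type v) [Group P] [Finite P], Nat.card P = n → ∀ (p : ℕ) [Fact p.Prime],
    IsPGroup p P → ∀ E : Subgroup P, IsMulCommutative E → Subgroup.centralizer (E : Set P) ≤ E →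
    E.relIndex (Subgroup.normalizer (E : Set P)) = p → p ^ 2 ≤ E.index →
    (∀ K L : Subgroup P, E ≤ K → E ≤ L → K ≤ L ∨ L ≤ K) ∧
    (∀ K : Subgroup P, E ≤ K → K ≠ ⊤ → K.relIndex (Subgroup.normalizer (K : Set P)) = p) ∧
    (∀ (i : ℕ) (K : Subgroup P), E ≤ K → K ≠ ⊤ → K.index * p ^ i = E.index → K.lowerCentralSeries (i + 1) = ⊥) := by
  induction n using Nat.strongRecOn with
  | ind n ih =>
    intro P _ _ hn p _ hP E hEab hC hN hidx
    subst hn
    have hp : p.Prime := Fact.out
    have hnil : Group.IsNilpotent P := hP.isNilpotent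
    set N := Subgroup.normalizer (E : Set P) with hNdef
    obtain ⟨hNtop, hRE, hRcard, hRcen, hNstep⟩ := norm_facts hP E hEab hC hN hidx N hNdef
    set R := ⁅N, N⁆ with hR
    have hEN : E ≤ N := Subgroup.le_normalizer
    have hNidx : N.index * p = E.index := by
      rw [← Subgroup.relIndex_mul_index hEN, hN, mul_comm]
    -- `N` lies in everything above `E`
    have habove : ∀ K : Subgroup P, E ≤ K → K ≠ E → N ≤ K := by
      intro K hEK hne
      have hlt : E.subgroupOf K < Subgroup.normalizer ((E.subgroupOf K : Subgroup K) : Set K) := by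
        haveI : Group.IsNilpotent K := (hP.to_subgroup K).isNilpotent
        refine Group.normalizerCondition_of_isNilpotent _ (lt_top_iff_ne_top.mpr fun h => hne (le_antisymm ?_ hEK))
        exact Subgroup.subgroupOf_eq_top.mp h
      obtain ⟨k, hk, hkE⟩ := SetLike.exists_of_lt hlt
      have hkN : (k : P) ∈ N := mem_norm fun e he => by
        have := (Subgroup.mem_normalizer_iff.mp hk ⟨e, hEK he⟩).mp (Subgroup.mem_subgroupOf.mpr he)
        exact Subgroup.mem_subgroupOf.mp this
      have hEk : E ≠ E ⊔ Subgroup.zpowers (k : P) := fun h =>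
        hkE (Subgroup.mem_subgroupOf.mpr (h ▸ Subgroup.mem_sup_right (Subgroup.mem_zpowers _)))
      rw [← eq_of_relIndex_prime hp le_sup_left hEk (sup_le hEN (Subgroup.zpowers_le.mpr hkN)) hN]
      exact sup_le hEK (Subgroup.zpowers_le.mpr k.2)
    have hEstep : ∀ K : Subgroup P, K = E → K.relIndex (Subgroup.normalizer (K : Set P)) = p := fun K h => h ▸ hN
    have hElcs : E.lowerCentralSeries 1 = ⊥ := by
      rw [Subgroup.lowerCentralSeries_succ, Subgroup.lowerCentralSeries_zero, Subgroup.commutator_eq_bot_iff_le_centralizer]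
      exact fun u hu => Subgroup.mem_centralizer_iff.mpr fun w hw => congrArg Subtype.val (hEab.is_comm.comm ⟨w, hw⟩ ⟨u, hu⟩)
    have hEcase : ∀ (i : ℕ) (K : Subgroup P), K = E → K.index * p ^ i = E.index → K.lowerCentralSeries (i + 1) = ⊥ :=
      fun i K hKE _ => le_bot_iff.mp ((K.lowerCentralSeries_antitone (by omega : 1 ≤ i + 1)).trans (by rw [hKE, hElcs]))
    have hRlcs : N.lowerCentralSeries 2 = ⊥ := by
      rw [Subgroup.lowerCentralSeries_succ, Subgroup.lowerCentralSeries_succ, Subgroup.lowerCentralSeries_zero,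
        Subgroup.commutator_eq_bot_iff_le_centralizer]
      exact fun r hr => Subgroup.mem_centralizer_iff.mpr fun w hw => (hRcen r hr w hw).symm
    by_cases hsmall : N.index = p
    · -- `N` is maximal
      haveI : N.Normal := by
        have := eq_of_relIndex_prime hp (normalizer_gt hnil hNtop).le (normalizer_gt hnil hNtop).ne le_top
          (by rw [Subgroup.relIndex_top_right]; exact hsmall)
        exact Subgroup.normalizer_eq_top_iff.mp this
      have hcases : ∀ K : Subgroup P, E ≤ K → K = E ∨ K = N ∨ K = ⊤ := by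
        intro K hK
        by_cases h1 : K = E
        · exact Or.inl h1
        by_cases h2 : K = N
        · exact Or.inr (Or.inl h2)
        exact Or.inr (Or.inr (eq_of_relIndex_prime hp (habove K hK h1) (Ne.symm h2) le_top
          (by rw [Subgroup.relIndex_top_right]; exact hsmall)))
      refine ⟨fun K L hK hL => ?_, fun K hK hKt => ?_, fun i K hK hKt hi => ?_⟩
      · rcases hcases K hK with rfl | rfl | rfl
        · exact Or.inl hL
        · rcases hcases L hL with rfl | rfl | rfl
          · exact Or.inr hEN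
          · exact Or.inl le_rfl
          · exact Or.inl le_top
        · exact Or.inr le_top
      · rcases hcases K hK with h | rfl | h
        · exact hEstep K h
        · exact hNstep
        · exact absurd h hKt
      · rcases hcases K hK with h | rfl | h
        · exact hEcase i K h hi
        · have hi1 : i = 1 := by
            rw [← hNidx] at hi
            have h1 := Nat.eq_of_mul_eq_mul_left (Nat.pos_of_ne_zero Subgroup.index_ne_zero_of_finite) hi
            exact (Nat.pow_eq_self_iff hp.one_lt).mp h1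
          rw [hi1]; exact hRlcs
        · exact absurd h hKt
    have hNidx2 : p ^ 2 ≤ N.index := by
      obtain ⟨k, hk⟩ := hP.index N
      rw [hk] at hsmall ⊢
      rcases k with _ | _ | k
      · exact absurd (Subgroup.index_eq_one.mp (by simpa using hk)) hNtop
      · exact absurd (pow_one p) hsmall
      · exact Nat.pow_le_pow_right hp.pos (by omega)
    -- a central subgroup of order `p`
    haveI : Nontrivial P := by
      refine not_subsingleton_iff_nontrivial.mp fun h => hNtop ?_
      exact Subsingleton.elim _ _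
    haveI := hP.center_nontrivial
    obtain ⟨kz, hkz⟩ := IsPGroup.iff_card.mp (hP.to_subgroup (Subgroup.center P))
    have hkz0 : kz ≠ 0 := fun h => (Finite.one_lt_card (α := Subgroup.center P)).ne' (by rw [hkz, h, pow_zero])
    obtain ⟨z, hz⟩ := exists_prime_orderOf_dvd_card' (G := Subgroup.center P) p (hkz ▸ dvd_pow_self p hkz0)
    rw [← Subgroup.orderOf_coe] at hz
    set R₀ := Subgroup.zpowers (z : P) with hR₀
    have hR₀card : Nat.card R₀ = p := by rw [hR₀, Nat.card_zpowers, hz]
    haveI hR₀n : R₀.Normal := ⟨fun m hm g => by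
      have hm' : m ∈ Subgroup.center P := (Subgroup.zpowers_le.mpr z.2) hm
      rwa [Subgroup.mem_center_iff.mp hm' g, mul_inv_cancel_right]⟩
    have hR₀E : R₀ ≤ E := Subgroup.zpowers_le.mpr (hC (Subgroup.mem_centralizer_iff.mpr fun e _ =>
      Subgroup.mem_center_iff.mp z.2 e))
    have hlt : Nat.card (P ⧸ R₀) < Nat.card P := by
      have hpos : 0 < Nat.card (P ⧸ R₀) := Nat.card_pos
      rw [Subgroup.card_eq_card_quotient_mul_card_subgroup R₀, hR₀card]
      exact lt_mul_of_one_lt_right hpos hp.one_lt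
    set f := QuotientGroup.mk' R₀ with hf
    have hfsurj : Function.Surjective f := QuotientGroup.mk'_surjective R₀
    have hker : f.ker = R₀ := QuotientGroup.ker_mk' R₀
    have hnorm : ∀ K : Subgroup P, R₀ ≤ K →
        Subgroup.normalizer ((K.map f : Subgroup (P ⧸ R₀)) : Set (P ⧸ R₀)) =
          (Subgroup.normalizer (K : Set P)).map f := by
      intro K hK
      have hKc : (K.map f).comap f = K := Subgroup.comap_map_eq_self (by rw [hker]; exact hK)
      apply le_antisymm
      · intro w hw
        obtain ⟨w, rfl⟩ := hfsurj w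
        refine ⟨w, mem_norm fun e he => ?_, rfl⟩
        rw [← hKc, Subgroup.mem_comap, map_mul, map_mul, map_inv]
        exact (Subgroup.mem_normalizer_iff.mp hw (f e)).mp ⟨e, he, rfl⟩
      · rintro _ ⟨w, hw, rfl⟩
        refine mem_norm fun e he => ?_
        obtain ⟨e, he', rfl⟩ := he
        exact ⟨w * e * w⁻¹, (Subgroup.mem_normalizer_iff.mp hw e).mp he', by rw [map_mul, map_mul, map_inv]⟩
    have hidxmap : ∀ K : Subgroup P, R₀ ≤ K → (K.map f).index = K.index := fun K hK =>
      Subgroup.index_map_eq K hfsurj (by rw [hker]; exact hK)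
    have hrelmap : ∀ K L : Subgroup P, R₀ ≤ K → K ≤ L → (K.map f).relIndex (L.map f) = K.relIndex L := by
      intro K L hK hKL
      have h1 := Subgroup.relIndex_mul_index hKL
      have h2 := Subgroup.relIndex_mul_index (Subgroup.map_mono (f := f) hKL)
      rw [hidxmap K hK, hidxmap L (hK.trans hKL), ← h1] at h2
      exact Nat.eq_of_mul_eq_mul_right (Nat.pos_of_ne_zero Subgroup.index_ne_zero_of_finite) h2
    have hmapinj : ∀ K L : Subgroup P, R₀ ≤ L → K.map f ≤ L.map f → K ≤ L := fun K L hL h => by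
      have := Subgroup.map_le_iff_le_comap.mp h
      rwa [Subgroup.comap_map_eq_self (by rw [hker]; exact hL)] at this
    have hmaptop : ∀ K : Subgroup P, R₀ ≤ K → K ≠ ⊤ → K.map f ≠ ⊤ := fun K hK hne h =>
      hne (top_le_iff.mp (hmapinj ⊤ K hK (by rw [h]; exact le_top)))
    by_cases hReq : R₀ = R
    · -- pass to `N / R`, which is abelian
      have hR₀N : R₀ ≤ N := hR₀E.trans hEN
      have hNab : IsMulCommutative (N.map f) := by
        refine ⟨⟨?_⟩⟩
        rintro ⟨_, u, hu, rfl⟩ ⟨_, w, hw, rfl⟩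
        refine Subtype.ext ?_
        show f u * f w = f w * f u
        have : ⁅u, w⁆ ∈ R₀ := hReq ▸ Subgroup.commutator_mem_commutator hu hw
        rw [← hker, MonoidHom.mem_ker, map_commutatorElement, commutatorElement_eq_one_iff_commute] at this
        exact this
      have hC' : Subgroup.centralizer ((N.map f : Subgroup (P ⧸ R₀)) : Set (P ⧸ R₀)) ≤ N.map f := by
        intro w hw
        obtain ⟨w, rfl⟩ := hfsurj w
        refine ⟨w, mem_norm fun e he => ?_, rfl⟩
        have h1 := Subgroup.mem_centralizer_iff.mp hw (f e) ⟨e, hEN he, rfl⟩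
        have h2 : w * e * w⁻¹ * e⁻¹ ∈ R₀ := by
          rw [← hker, MonoidHom.mem_ker, map_mul, map_mul, map_mul, map_inv, map_inv, ← h1]; group
        have := mul_mem (hR₀E h2) he
        rwa [inv_mul_cancel_right] at this
      obtain ⟨hA, hB, hC3⟩ := ih _ hlt (P ⧸ R₀) rfl p (hP.to_quotient R₀) (N.map f) hNab hC'
        (by rw [hnorm N hR₀N, hrelmap N _ hR₀N Subgroup.le_normalizer]; exact hNstep)
        (by rw [hidxmap N hR₀N]; exact hNidx2)
      refine ⟨fun K L hK hL => ?_, fun K hK hKt => ?_, fun i K hK hKt hi => ?_⟩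
      · by_cases hKE : K = E
        · exact Or.inl (hKE ▸ hL)
        by_cases hLE : L = E
        · exact Or.inr (hLE ▸ hK)
        exact (hA _ _ (Subgroup.map_mono (habove K hK hKE)) (Subgroup.map_mono (habove L hL hLE))).imp
          (hmapinj K L (hR₀E.trans hL)) (hmapinj L K (hR₀E.trans hK))
      · by_cases hKE : K = E
        · exact hEstep K hKE
        have hK0 : R₀ ≤ K := hR₀E.trans hK
        have h := hB _ (Subgroup.map_mono (habove K hK hKE)) (hmaptop K hK0 hKt)
        rwa [hnorm K hK0, hrelmap K _ hK0 Subgroup.le_normalizer] at h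
      · by_cases hKE : K = E
        · exact hEcase i K hKE hi
        have hK0 : R₀ ≤ K := hR₀E.trans hK
        have hNK := habove K hK hKE
        obtain ⟨j, rfl⟩ : ∃ j, i = j + 1 := by
          refine ⟨i - 1, (Nat.succ_pred_eq_of_ne_zero fun h0 => ?_).symm⟩
          rw [h0, pow_zero, mul_one] at hi
          have := Subgroup.relIndex_mul_index hK
          rw [← hi, mul_eq_right₀ Subgroup.index_ne_zero_of_finite, Subgroup.relIndex_eq_one] at this
          exact hKE (le_antisymm this hK)
        have hj : (K.map f).index * p ^ j = (N.map f).index := by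
          rw [hidxmap K hK0, hidxmap N hR₀N]
          refine Nat.eq_of_mul_eq_mul_right hp.pos ?_
          rw [hNidx, ← hi, pow_succ, mul_assoc]
        have h := hC3 j _ (Subgroup.map_mono hNK) (hmaptop K hK0 hKt) hj
        rw [← Subgroup.map_lowerCentralSeries, Subgroup.map_eq_bot_iff, hker] at h
        show ⁅K.lowerCentralSeries (j + 1), K⁆ = ⊥
        refine le_bot_iff.mp ((Subgroup.commutator_mono h le_rfl).trans ?_)
        rw [le_bot_iff, Subgroup.commutator_eq_bot_iff_le_centralizer]
        exact fun r hr => Subgroup.mem_centralizer_iff.mpr fun w _ =>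
          Subgroup.mem_center_iff.mp ((Subgroup.zpowers_le.mpr z.2) hr) w
    · -- `R` meets `R₀` trivially
      have hdisj : ∀ w, w ∈ R → w ∈ R₀ → w = 1 := by
        intro w hw hw0
        by_contra hw1
        refine hReq ?_
        have h1 : Subgroup.zpowers w = R :=
          Subgroup.eq_of_le_of_card_ge (Subgroup.zpowers_le.mpr hw) (by
            rw [hRcard, Nat.card_zpowers]
            exact Nat.le_of_dvd (orderOf_pos w) (by
              have := Subgroup.orderOf_dvd_natCard R hw
              rw [hRcard] at this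
              rcases (Nat.dvd_prime hp).mp this with h | h
              · exact absurd (orderOf_eq_one_iff.mp h) hw1
              · rw [h]))
        have h2 : Subgroup.zpowers w = R₀ :=
          Subgroup.eq_of_le_of_card_ge (Subgroup.zpowers_le.mpr hw0) (by rw [h1, hRcard, hR₀card])
        exact h2.symm.trans h1
      have hC' : Subgroup.centralizer ((E.map f : Subgroup (P ⧸ R₀)) : Set (P ⧸ R₀)) ≤ E.map f := by
        intro w hw
        obtain ⟨w, rfl⟩ := hfsurj w
        have h2 : ∀ e ∈ E, ⁅w, e⁆ ∈ R₀ := fun e he => by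
          rw [← hker, MonoidHom.mem_ker, map_commutatorElement, commutatorElement_eq_one_iff_commute]
          exact (Subgroup.mem_centralizer_iff.mp hw (f e) ⟨e, he, rfl⟩).symm
        have hwN : w ∈ N := mem_norm fun e he => by
          have := mul_mem (hR₀E (h2 e he)) he
          rw [commutatorElement_def] at this
          rwa [inv_mul_cancel_right] at this
        refine ⟨w, hC (Subgroup.mem_centralizer_iff.mpr fun e he => ?_), rfl⟩
        exact (commutatorElement_eq_one_iff_commute.mp
          (hdisj _ (Subgroup.commutator_mem_commutator hwN (hEN he)) (h2 e he))).eq.symm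
      have hEab' : IsMulCommutative (E.map f) := by
        refine ⟨⟨?_⟩⟩
        rintro ⟨_, u, hu, rfl⟩ ⟨_, w, hw, rfl⟩
        refine Subtype.ext ?_
        show f u * f w = f w * f u
        rw [← map_mul, ← map_mul]
        exact congrArg f (congrArg Subtype.val (hEab.is_comm.comm ⟨u, hu⟩ ⟨w, hw⟩))
      obtain ⟨hA, hB, hC3⟩ := ih _ hlt (P ⧸ R₀) rfl p (hP.to_quotient R₀) (E.map f) hEab' hC'
        (by rw [hnorm E hR₀E, hrelmap E _ hR₀E hEN]; exact hN)
        (by rw [hidxmap E hR₀E]; exact hidx)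
      have hB' : ∀ K : Subgroup P, E ≤ K → K ≠ ⊤ → K.relIndex (Subgroup.normalizer (K : Set P)) = p := by
        intro K hK hKt
        have hK0 : R₀ ≤ K := hR₀E.trans hK
        have h := hB _ (Subgroup.map_mono hK) (hmaptop K hK0 hKt)
        rwa [hnorm K hK0, hrelmap K _ hK0 Subgroup.le_normalizer] at h
      refine ⟨fun K L hK hL => (hA _ _ (Subgroup.map_mono hK) (Subgroup.map_mono hL)).imp
          (hmapinj K L (hR₀E.trans hL)) (hmapinj L K (hR₀E.trans hK)), hB', fun i K hK hKt hi => ?_⟩
      by_cases hKE : K = E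
      · exact hEcase i K hKE hi
      have hK0 : R₀ ≤ K := hR₀E.trans hK
      have hNK := habove K hK hKE
      have h := hC3 i _ (Subgroup.map_mono hK) (hmaptop K hK0 hKt) (by rw [hidxmap K hK0, hidxmap E hR₀E]; exact hi)
      rw [← Subgroup.map_lowerCentralSeries, Subgroup.map_eq_bot_iff, hker] at h
      set T := K.lowerCentralSeries i with hT
      have hTK : T ≤ K := by
        have := K.lowerCentralSeries_antitone (Nat.zero_le i)
        rwa [Subgroup.lowerCentralSeries_zero] at this
      have hTR : ∀ t ∈ T, ∀ k ∈ K, ⁅t, k⁆ ∈ R₀ := fun t ht k hk =>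
        h (Subgroup.commutator_mem_commutator ht hk)
      have hTN : ∀ t ∈ T, ∀ w ∈ N, Commute t w := by
        intro t ht
        have htN : t ∈ N := mem_norm fun e he => by
          have := mul_mem (hR₀E (hTR t ht e (hK he))) he
          rw [commutatorElement_def] at this
          rwa [inv_mul_cancel_right] at this
        exact fun w hw => commutatorElement_eq_one_iff_commute.mp
          (hdisj _ (Subgroup.commutator_mem_commutator htN hw) (hTR t ht w (hNK hw)))
      set C := K ⊓ Subgroup.centralizer (T : Set P) with hCdef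
      have hCK : C = K := by
        by_contra hne
        have hEC : E ≤ C := le_inf hK fun e he =>
          Subgroup.mem_centralizer_iff.mpr fun t ht => (hTN t ht e (hEN he)).eq
        have hCt : C ≠ ⊤ := fun hh => hKt (top_le_iff.mp (hh ▸ inf_le_left))
        have hnC : Subgroup.normalizer (K : Set P) ≤ Subgroup.normalizer (C : Set P) := by
          intro w hw
          refine mem_norm fun c hc => ⟨(Subgroup.mem_normalizer_iff.mp hw c).mp hc.1, ?_⟩
          have hKw : K.map (MulAut.conj w⁻¹).toMonoidHom = K := by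
            refine Subgroup.eq_of_le_of_card_ge ?_ (Subgroup.card_map_of_injective (MulAut.conj w⁻¹).injective).ge
            rintro _ ⟨k, hk, rfl⟩
            exact (Subgroup.mem_normalizer_iff.mp (inv_mem hw) k).mp hk
          refine Subgroup.mem_centralizer_iff.mpr fun t ht => ?_
          have ht' : w⁻¹ * t * w ∈ T := by
            have hmm : w⁻¹ * t * w⁻¹⁻¹ ∈ T.map (MulAut.conj w⁻¹).toMonoidHom := ⟨t, ht, rfl⟩
            rw [inv_inv, hT, Subgroup.map_lowerCentralSeries, hKw] at hmm
            exact hmm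
          have h1 := Subgroup.mem_centralizer_iff.mp hc.2 _ ht'
          calc t * (w * c * w⁻¹) = w * (w⁻¹ * t * w * c) * w⁻¹ := by group
            _ = w * (c * (w⁻¹ * t * w)) * w⁻¹ := by rw [h1]
            _ = w * c * w⁻¹ * t := by group
        have hlt2 := normalizer_gt hnil hKt
        have h1 := eq_of_relIndex_prime hp (A := C) (B := K) (C := Subgroup.normalizer (C : Set P)) inf_le_left hne
          (hlt2.le.trans hnC) (hB' C hEC hCt)
        exact hlt2.not_ge (hnC.trans h1.ge)
      show ⁅T, K⁆ = ⊥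
      rw [Subgroup.commutator_eq_bot_iff_le_centralizer]
      intro t ht
      refine Subgroup.mem_centralizer_iff.mpr fun k hk => ?_
      have hkC : k ∈ C := hCK.symm ▸ (hk : k ∈ K)
      exact (Subgroup.mem_centralizer_iff.mp hkC.2 t ht).symm

/-- The lower bound for the class. -/
theorem le_class [Fact p.Prime] (hP : IsPGroup p P) (E : Subgroup P) (hC : Subgroup.centralizer (E : Set P) ≤ E)
    (hstep : ∀ K : Subgroup P, E ≤ K → K ≠ ⊤ → K.relIndex (Subgroup.normalizer (K : Set P)) = p)
    (K : Subgroup P) (hEK : E ≤ K) (c : ℕ) (hc : K.lowerCentralSeries c = ⊥) :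
    ∀ m, m ≤ c → E.index ≤ (E ⊔ K.lowerCentralSeries (c - m)).index * p ^ (m - 1) := by
  have hp : p.Prime := Fact.out
  have hSK : ∀ m, K.lowerCentralSeries m ≤ K := fun m => by
    have := K.lowerCentralSeries_antitone (Nat.zero_le m)
    rwa [Subgroup.lowerCentralSeries_zero] at this
  intro m
  induction m with
  | zero => intro _; rw [Nat.sub_zero, hc, sup_bot_eq]; simp
  | succ m ihm =>
    intro hm
    rcases m with _ | m
    · have hle : K.lowerCentralSeries (c - 1) ≤ E := by
        refine le_trans ?_ hC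
        intro t ht
        refine Subgroup.mem_centralizer_iff.mpr fun e he => ?_
        have hmem : ⁅t, e⁆ ∈ K.lowerCentralSeries (c - 1 + 1) := Subgroup.commutator_mem_commutator ht (hEK he)
        rw [Nat.sub_add_cancel (by omega : 1 ≤ c), hc, Subgroup.mem_bot, commutatorElement_eq_one_iff_commute] at hmem
        exact hmem.eq.symm
      rw [sup_eq_left.mpr hle]; simp
    · set S := E ⊔ K.lowerCentralSeries (c - (m + 1)) with hS
      set S' := E ⊔ K.lowerCentralSeries (c - (m + 1 + 1)) with hS'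
      have hle : S ≤ S' := sup_le_sup_left (K.lowerCentralSeries_antitone (by omega)) E
      have hnor : S' ≤ Subgroup.normalizer (S : Set P) := by
        refine sup_le (le_sup_left.trans Subgroup.le_normalizer) fun t ht => mem_norm fun s hs => ?_
        have htK : t ∈ K := hSK _ ht
        have hmul : ∀ u ∈ E ⊔ K.lowerCentralSeries (c - (m + 1)), t * u * t⁻¹ ∈ S := by
          intro u hu
          have hsub : S ≤ S.comap (MulAut.conj t).toMonoidHom := by
            refine sup_le (fun e he => ?_) fun w hw => ?_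
            · show t * e * t⁻¹ ∈ S
              have hmem : ⁅t, e⁆ ∈ K.lowerCentralSeries (c - (m + 1 + 1) + 1) :=
                Subgroup.commutator_mem_commutator ht (hEK he)
              rw [show c - (m + 1 + 1) + 1 = c - (m + 1) by omega] at hmem
              rw [CfsgLib.PGroups.comm_conj_left]
              exact mul_mem (Subgroup.mem_sup_right hmem) (Subgroup.mem_sup_left he)
            · show t * w * t⁻¹ ∈ S
              exact Subgroup.mem_sup_right
                ((Subgroup.mem_normalizer_iff.mp (K.self_le_normalizer_lowerCentralSeries _ htK) w).mp hw)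
          exact hsub hu
        exact hmul s hs
      have hih := ihm (by omega)
      simp only [Nat.add_sub_cancel] at hih ⊢
      have hstep' : S.index ≤ p * S'.index := by
        rw [← Subgroup.relIndex_mul_index hle]
        refine Nat.mul_le_mul_right _ ?_
        by_cases htop : S = ⊤
        · have : S.relIndex S' = 1 := by rw [htop, Subgroup.relIndex_top_left]
          rw [this]; exact hp.one_lt.le
        · rw [← hstep S le_sup_left htop]
          have h2 := Subgroup.relIndex_mul_relIndex S S' (Subgroup.normalizer (S : Set P)) hle hnor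
          exact Nat.le_of_dvd (by rw [hstep S le_sup_left htop]; exact hp.pos) (Dvd.intro _ h2)
      calc E.index ≤ S.index * p ^ m := hih
        _ ≤ p * S'.index * p ^ m := Nat.mul_le_mul_right _ hstep'
        _ = S'.index * p ^ (m + 1) := by ring

end main

/-- Let P be a finite p-group and E an abelian subgroup of P that contains its centralizer, has index p in its normalizer, and has index at least p² in P. Then the subgroups of P containing E are totally ordered by inclusion, each proper one has index p in its normalizer (so they form the normalizer tower of E, with all steps of index p), and the i-th member of the tower above E has nilpotency class i + 1 whenever it is a proper subgroup of P. -/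
theorem result {P : Type*} [Group P] [Finite P] (p : ℕ) [Fact p.Prime] (hP : IsPGroup p P)
    (E : Subgroup P) (hEab : IsMulCommutative ↥E) (hC : Subgroup.centralizer (E : Set P) ≤ E)
    (hN : (E.subgroupOf (Subgroup.normalizer (E : Set P))).index = p) (hidx : p ^ 2 ≤ E.index) :
    (∀ K L : Subgroup P, E ≤ K → E ≤ L → K ≤ L ∨ L ≤ K) ∧
      (∀ K : Subgroup P, E ≤ K → K ≠ ⊤ → (K.subgroupOf (Subgroup.normalizer (K : Set P))).index = p) ∧
      ∀ (i : ℕ) (K : Subgroup P) [Group.IsNilpotent ↥K], E ≤ K → K ≠ ⊤ → K.index * p ^ i = E.index →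
        Group.nilpotencyClass ↥K = i + 1 := by
  have hp : p.Prime := Fact.out
  have hN' : E.relIndex (Subgroup.normalizer (E : Set P)) = p := hN
  obtain ⟨hA, hB, hC3⟩ := chain _ P rfl p hP E hEab hC hN' hidx
  refine ⟨hA, hB, fun i K _ hK hKt hi => ?_⟩
  have hconv : ∀ m, Group.nilpotencyClass K ≤ m ↔ K.lowerCentralSeries m = ⊥ := fun m => by
    rw [← Subgroup.lowerCentralSeries_eq_bot_iff_nilpotencyClass_le, ← Subgroup.top_subtype_lowerCentralSeries K,
      Subgroup.map_eq_bot_iff_of_injective _ K.subtype_injective]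
  refine le_antisymm ((hconv _).mpr (hC3 i K hK hKt hi)) ?_
  by_contra hlt
  push Not at hlt
  have hcl : K.lowerCentralSeries i = ⊥ := (hconv i).mp (by omega)
  rcases Nat.eq_zero_or_pos i with rfl | hi0
  · rw [Subgroup.lowerCentralSeries_zero] at hcl
    have hE : E = ⊥ := le_bot_iff.mp (hcl ▸ hK)
    have hall : (⊤ : Subgroup P) ≤ E := le_trans (fun x _ => Subgroup.mem_centralizer_iff.mpr fun e he => by
      rw [hE] at he
      rw [Subgroup.mem_bot.mp he, one_mul, mul_one]) hC
    exact hKt (top_le_iff.mp (hall.trans hK))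
  · have h := le_class hP E hC hB K hK i hcl i le_rfl
    rw [Nat.sub_self, Subgroup.lowerCentralSeries_zero, sup_eq_right.mpr hK] at h
    rw [← hi] at h
    have h1 : p ^ i ≤ p ^ (i - 1) :=
      Nat.le_of_mul_le_mul_left h (Nat.pos_of_ne_zero Subgroup.index_ne_zero_of_finite)
    have h2 := (Nat.pow_le_pow_iff_right hp.one_lt).mp h1
    omega

end Cfsg.Agent.S3811
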