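import Cfsg.Statements.S3815
import Mathlib

set_option autoImplicit false
open Cfsg

namespace Cfsg.Agent.S3815

/-- Let G be a finite group, p a prime and d ∈ G an element of order prime to p. If dg has order prime to p for every element g ∈ G of order prime to p, then d ∈ O_{p'}(G). -/
theorem result {G : Type*} [Group G] [Finite G] {p : ℕ} [Fact p.Prime]
    (d : G) (hd : (orderOf d).Coprime p)
    (h : ∀ g : G, (orderOf g).Coprime p → (orderOf (d * g)).Coprime p) :
    d ∈ Cfsg.pPrimeCore p G := by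
  have hp := (Fact.out : p.Prime)
  let S : Set G := {e | (orderOf e).Coprime p ∧
    ∀ g : G, (orderOf g).Coprime p → (orderOf (e * g)).Coprime p}
  have hmul : ∀ e ∈ S, ∀ f ∈ S, e * f ∈ S := fun e he f hf =>
    ⟨he.2 f hf.1, fun g hg => by rw [mul_assoc]; exact he.2 _ (hf.2 g hg)⟩
  have h1 : (1 : G) ∈ S := ⟨by simp, fun g hg => by rwa [one_mul]⟩
  have hpow : ∀ e ∈ S, ∀ n : ℕ, e ^ n ∈ S := by
    intro e he n
    induction n with
    | zero => simpa using h1
    | succ n ih => rw [pow_succ]; exact hmul _ ih _ he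
  let M : Subgroup G :=
    { carrier := S
      one_mem' := h1
      mul_mem' := fun {a b} ha hb => hmul a ha b hb
      inv_mem' := fun {a} ha => by
        have h : a⁻¹ = a ^ (orderOf a - 1) := by
          apply inv_eq_of_mul_eq_one_right
          rw [← pow_succ', Nat.sub_add_cancel (orderOf_pos a), pow_orderOf_eq_one]
        rw [h]; exact hpow a ha _ }
  have hord : ∀ e x : G, orderOf (x * e * x⁻¹) = orderOf e := fun e x => by
    simpa using (MulEquiv.orderOf_eq (MulAut.conj x) e)
  have hMn : M.Normal := by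
    refine ⟨fun e he x => ⟨(hord e x).symm ▸ he.1, fun g hg => ?_⟩⟩
    rw [show x * e * x⁻¹ * g = x * (e * (x⁻¹ * g * x⁻¹⁻¹)) * x⁻¹ by group, hord]
    exact he.2 _ (by rw [hord]; exact hg)
  have hM : (Nat.card M).Coprime p := by
    rw [Nat.coprime_comm, hp.coprime_iff_not_dvd]
    intro hd
    obtain ⟨x, hx⟩ := exists_prime_orderOf_dvd_card' p hd
    have := x.2.1
    rw [Subgroup.orderOf_coe, hx, Nat.coprime_self] at this
    exact hp.ne_one this
  exact (le_sSup ⟨hMn, hM⟩ : M ≤ Cfsg.pPrimeCore p G) (show d ∈ S from ⟨hd, h⟩)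

end Cfsg.Agent.S3815
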