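import Cfsg.Statements.S3818
import Cfsg.Agent.Lib.Core.FixedHalf.Main

set_option autoImplicit false
open Cfsg

namespace Cfsg.Agent.S3818

/-- Let G be a finite solvable group and P a subgroup of G of prime order p > 3 whose conjugates generate G. Let V be a faithful irreducible representation of G over a field of positive characteristic, finite-dimensional. Then the subspace of V fixed by P has dimension less than half the dimension of V. -/
theorem result {G : Type*} [Group G] [Finite G] [Group.IsSolvable G]
    {p : ℕ} [Fact p.Prime] (hp : 3 < p) (P : Subgroup G) (hP : Nat.card P = p) (hgen : Subgroup.normalClosure (P : Set G) = ⊤)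
    {k : Type*} [Field k] (ℓ : ℕ) [Fact ℓ.Prime] [CharP k ℓ]
    {V : Type*} [AddCommGroup V] [Module k V] [FiniteDimensional k V]
    (ρ : Representation k G V) [ρ.IsIrreducible] (hfaith : Function.Injective ρ) :
    2 * Module.finrank k ↥(⨅ g : ↥P, LinearMap.ker (ρ (g : G) - LinearMap.id)) < Module.finrank k V := by
  classical
  have hpp := (Fact.out : p.Prime)
  haveI : Fact (Nat.card P).Prime := ⟨hP.symm ▸ hpp⟩
  obtain ⟨x, hxP, hx1⟩ := P.bot_or_exists_ne_one.resolve_left (fun h => by
    rw [h, Subgroup.card_bot] at hP; omega)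
  have hgenP : Subgroup.zpowers x = P := by
    refine le_antisymm (Subgroup.zpowers_le.2 hxP) fun y hy => ?_
    obtain ⟨n, hn⟩ := Subgroup.mem_zpowers_iff.1 (mem_zpowers_of_prime_card (G := P) hP
      (g := ⟨x, hxP⟩) (g' := ⟨y, hy⟩) (fun h => hx1 (congrArg Subtype.val h)))
    exact ⟨n, congrArg Subtype.val hn⟩
  have hxp : x ^ p = 1 := by
    have := pow_card_eq_one' (G := P) (x := ⟨x, hxP⟩)
    rw [hP] at this
    exact congrArg Subtype.val this
  have hnc : Subgroup.normalClosure ({x} : Set G) = ⊤ := by
    rw [eq_top_iff, ← hgen]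
    refine Subgroup.normalClosure_le_normal ?_
    rw [← hgenP, SetLike.coe_subset_coe, Subgroup.zpowers_le]
    exact Subgroup.subset_normalClosure rfl
  haveI : Nontrivial V := by
    by_contra h
    haveI := not_nontrivial_iff_subsingleton.1 h
    exact hx1 (hfaith (LinearMap.ext fun v => Subsingleton.elim _ _))
  have hirr : ∀ W : Submodule k V, (∀ g, ∀ w ∈ W, ρ g w ∈ W) → W = ⊥ ∨ W = ⊤ := by
    intro W hW
    rcases IsSimpleOrder.eq_bot_or_eq_top (⟨W, fun g v hv => hW g v hv⟩ : Subrepresentation ρ) with h | h
    · exact Or.inl (congrArg Subrepresentation.toSubmodule h)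
    · exact Or.inr (congrArg Subrepresentation.toSubmodule h)
  have h := CfsgLib.Core.FixedHalf.two_mul_fixed_lt (V := V) ρ hfaith hirr hpp (by
    rcases Nat.lt_or_ge p 5 with h | h
    · have h4 : p = 4 := by omega
      exact absurd hpp (by rw [h4]; norm_num)
    · exact h) hxp hx1 hnc
  refine lt_of_le_of_lt (Nat.mul_le_mul_left _ (Submodule.finrank_mono ?_)) h
  exact iInf_le (fun g : P => LinearMap.ker (ρ (g : G) - LinearMap.id)) ⟨x, hxP⟩

end Cfsg.Agent.S3818
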