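import Cfsg.Statements.S3820
import Mathlib
import Cfsg.Agent.Lib.Transfer.Conj

set_option autoImplicit false
open Cfsg

namespace Cfsg.Agent.S3820

/-- Call a subgroup H of G pronormal if H and gHg⁻¹ are conjugate inside ⟨H, gHg⁻¹⟩ for every g ∈ G. Let S ≤ H ≤ G be subgroups of a finite group with S pronormal in G (for instance S a Sylow subgroup). Then H is pronormal in G if and only if H and gHg⁻¹ are conjugate inside ⟨H, gHg⁻¹⟩ for every g ∈ N_G(S). In particular H is pronormal whenever N_G(S) ≤ H. -/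
theorem result {G : Type*} [Group G] [Finite G] (S H : Subgroup G) (hSH : S ≤ H)
    (hS : Cfsg.IsPronormal S) :
    Cfsg.IsPronormal H ↔
      ∀ g ∈ Subgroup.normalizer (S : Set G), ∃ w ∈ H ⊔ H.map (MulAut.conj g).toMonoidHom,
        H.map (MulAut.conj g).toMonoidHom = H.map (MulAut.conj w).toMonoidHom := by
  have hcomp : ∀ (K : Subgroup G) (a b : G), K.map (MulAut.conj (a * b)).toMonoidHom =
      (K.map (MulAut.conj b).toMonoidHom).map (MulAut.conj a).toMonoidHom := by
    intro K a b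
    rw [Subgroup.map_map]; congr 1; ext y; simp [mul_assoc]
  refine ⟨fun h g _ => h g, fun h g => ?_⟩
  obtain ⟨x, hx, he⟩ := hS g
  have hn : x⁻¹ * g ∈ Subgroup.normalizer (S : Set G) := by
    rw [← CfsgLib.Transfer.map_conj_eq_self_iff, hcomp, he, ← hcomp, inv_mul_cancel]
    ext y; simp
  obtain ⟨w, hw, hwe⟩ := h _ hn
  set J := H ⊔ H.map (MulAut.conj g).toMonoidHom with hJ
  have hxJ : x ∈ J := sup_le_sup hSH (Subgroup.map_mono hSH) hx
  have hwJ : w ∈ J := by
    refine (sup_le le_sup_left ?_ : H ⊔ H.map (MulAut.conj (x⁻¹ * g)).toMonoidHom ≤ J) hw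
    rintro _ ⟨y, hy, rfl⟩
    have hgy : g * y * g⁻¹ ∈ J :=
      hJ ▸ Subgroup.mem_sup_right ⟨y, hy, by simp⟩
    have := mul_mem (mul_mem (inv_mem hxJ) hgy) hxJ
    simpa [mul_assoc] using this
  refine ⟨x * w, mul_mem hxJ hwJ, ?_⟩
  rw [hcomp, ← hwe, ← hcomp, mul_inv_cancel_left]

end Cfsg.Agent.S3820
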