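import Cfsg.Statements.S3821
import Mathlib
import Cfsg.Agent.Lib.Transfer.Conj

set_option autoImplicit false
open Cfsg

namespace Cfsg.Agent.S3821

open scoped Pointwise


/-- Let A be a normal subgroup of the finite group G and H a subgroup of A. Then H is pronormal in G (H and gHg⁻¹ conjugate inside ⟨H, gHg⁻¹⟩ for every g ∈ G) if and only if H is pronormal in A and G = A · N_G(H). -/
theorem result {G : Type*} [Group G] [Finite G] (A H : Subgroup G) [A.Normal] (hHA : H ≤ A) :
    Cfsg.IsPronormal H ↔ (Cfsg.IsPronormal (H.subgroupOf A) ∧ A ⊔ Subgroup.normalizer (H : Set G) = ⊤) := by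
  have hinj := A.subtype_injective
  have hmapH : (H.subgroupOf A).map A.subtype = H := Subgroup.map_subgroupOf_eq_of_le hHA
  have hconj : ∀ a : A, ((H.subgroupOf A).map (MulAut.conj a).toMonoidHom).map A.subtype =
      H.map (MulAut.conj (a : G)).toMonoidHom := by
    intro a
    conv_rhs => rw [← hmapH]
    rw [Subgroup.map_map, Subgroup.map_map]
    congr 1
  have hcomp : ∀ (a b : G), H.map (MulAut.conj (a * b)).toMonoidHom =
      (H.map (MulAut.conj b).toMonoidHom).map (MulAut.conj a).toMonoidHom := by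
    intro a b
    rw [Subgroup.map_map]; congr 1; ext y; simp [mul_assoc]
  constructor
  · intro h
    refine ⟨fun a => ?_, top_le_iff.mp fun g _ => ?_⟩
    · obtain ⟨x, hx, he⟩ := h (a : G)
      have hsup : ((H.subgroupOf A ⊔ (H.subgroupOf A).map (MulAut.conj a).toMonoidHom)).map A.subtype
          = H ⊔ H.map (MulAut.conj (a : G)).toMonoidHom := by
        rw [Subgroup.map_sup, hmapH, hconj]
      rw [← hsup] at hx
      obtain ⟨x', hx', rfl⟩ := hx
      exact ⟨x', hx', Subgroup.map_injective hinj (by rw [hconj, hconj]; exact he)⟩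
    · obtain ⟨x, hx, he⟩ := h g
      have hxA : x ∈ A := by
        refine (sup_le hHA ?_) hx
        rintro _ ⟨y, hy, rfl⟩
        exact Subgroup.Normal.conj_mem inferInstance y (hHA hy) g
      have hn : x⁻¹ * g ∈ Subgroup.normalizer (H : Set G) := by
        rw [← CfsgLib.Transfer.map_conj_eq_self_iff, hcomp, he, ← hcomp, inv_mul_cancel]
        ext y; simp
      rw [show g = x * (x⁻¹ * g) by group]
      exact mul_mem (Subgroup.mem_sup_left hxA) (Subgroup.mem_sup_right hn)
  · rintro ⟨h, htop⟩ g
    have hg : g ∈ A ⊔ Subgroup.normalizer (H : Set G) := htop ▸ Subgroup.mem_top g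
    rw [Subgroup.mem_sup_of_normal_left] at hg
    obtain ⟨a, ha, n, hn, rfl⟩ := hg
    have hHn : H.map (MulAut.conj (a * n)).toMonoidHom = H.map (MulAut.conj a).toMonoidHom := by
      rw [hcomp, CfsgLib.Transfer.map_conj_eq_self_iff.mpr hn]
    obtain ⟨x, hx, he⟩ := h ⟨a, ha⟩
    refine ⟨x, ?_, ?_⟩
    · have := Subgroup.mem_map_of_mem A.subtype hx
      rwa [Subgroup.map_sup, hmapH, hconj, ← hHn] at this
    · rw [hHn]
      have := congrArg (Subgroup.map A.subtype) he
      rwa [hconj, hconj] at this

end Cfsg.Agent.S3821
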