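import Cfsg.Statements.S3822
import Cfsg.Agent.Lib.Core.FixedHalf.Generated

set_option autoImplicit false
open Cfsg

namespace Cfsg.Agent.S3822

/-- Let G be a finite group and P a subgroup of prime order p > 3. Consider the solvable subgroups A of G of the form A = ⟨P, aPa⁻¹⟩ for some a ∈ A, and let A be maximal under inclusion among them. Then for every nilpotent subgroup V of G normalized by A, the subgroup F(A)V generated by the Fitting subgroup of A and V is nilpotent. -/
theorem result {G : Type*} [Group G] [Finite G]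
    {p : ℕ} [Fact p.Prime] (hp : 3 < p) (P : Subgroup G) (hP : Nat.card P = p) (A : Subgroup G)
    (hA : Group.IsSolvable ↥A ∧ ∃ a ∈ A, A = P ⊔ P.map (MulAut.conj a).toMonoidHom)
    (hmax : ∀ B : Subgroup G, A ≤ B → Group.IsSolvable ↥B → (∃ b ∈ B, B = P ⊔ P.map (MulAut.conj b).toMonoidHom) → B = A)
    (V : Subgroup G) (hV : Group.IsNilpotent ↥V) (hAV : A ≤ Subgroup.normalizer (V : Set G)) :
    Group.IsNilpotent ↥((Cfsg.fittingSubgroup ↥A).map A.subtype ⊔ V) := by
  classical
  obtain ⟨hsol, a, ha, hAgen⟩ := hA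
  have hpp := (Fact.out : p.Prime)
  haveI : Fact (Nat.card P).Prime := ⟨hP.symm ▸ hpp⟩
  obtain ⟨x, hxP, hx1⟩ := P.bot_or_exists_ne_one.resolve_left (fun h => by
    rw [h, Subgroup.card_bot] at hP; omega)
  have hgenP : Subgroup.zpowers x = P := by
    refine le_antisymm (Subgroup.zpowers_le.2 hxP) fun y hy => ?_
    obtain ⟨n, hn⟩ := Subgroup.mem_zpowers_iff.1 (mem_zpowers_of_prime_card (G := P) hP
      (g := ⟨x, hxP⟩) (g' := ⟨y, hy⟩) (fun h => hx1 (congrArg Subtype.val h)))
    exact ⟨n, congrArg Subtype.val hn⟩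
  have hxp : x ^ p = 1 := by
    have := pow_card_eq_one' (G := P) (x := ⟨x, hxP⟩)
    rw [hP] at this
    exact congrArg Subtype.val this
  subst hgenP
  refine CfsgLib.Core.FixedHalf.isNilpotent_fitting_sup hpp ?_ hxp hsol ha hAgen hmax V hV hAV
  rcases Nat.lt_or_ge p 5 with h | h
  · have h4 : p = 4 := by omega
    exact absurd hpp (by rw [h4]; norm_num)
  · exact h

end Cfsg.Agent.S3822
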