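import Cfsg.Statements.S3824
import Mathlib
import Cfsg.Agent.Lib.Char.Burnside

set_option autoImplicit false
open Cfsg

namespace Cfsg.Agent.S3824

universe u

set_option linter.style.haveILetI false

theorem key {G : Type u} [Group G] [Finite G] (A : Subgroup G) (hA : IsMulCommutative A)
    (hidx : ∃ k : ℕ, A.index = 2 ^ k) : Group.IsSolvable G := by
  induction hn : Nat.card G using Nat.strong_induction_on generalizing G with
  | _ n ih =>
    subst hn
    obtain ⟨k, hk⟩ := hidx
    rcases subsingleton_or_nontrivial G with hs | hnt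
    · infer_instance
    by_cases hsimple : IsSimpleGroup G
    · by_cases hA1 : A = ⊥
      · rw [hA1, Subgroup.index_bot] at hk
        have := (IsPGroup.of_card (p := 2) (G := G) hk).isNilpotent
        infer_instance
      obtain ⟨⟨a, ha⟩, ha1⟩ := A.ne_bot_iff_exists_ne_one.mp hA1
      have hle : A ≤ Subgroup.centralizer ({a} : Set G) := fun b hb =>
        Subgroup.mem_centralizer_singleton_iff.mpr
          (congrArg Subtype.val (hA.is_comm.comm (⟨b, hb⟩ : A) ⟨a, ha⟩))
      obtain ⟨j, -, hj⟩ := (Nat.dvd_prime_pow Nat.prime_two).mp (hk ▸ Subgroup.index_dvd_of_le hle)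
      have hp := CfsgLib.Burnside.prime_card_of_prime_pow_class Nat.prime_two
        (fun h => ha1 (Subtype.ext h)) hj
      haveI := Fact.mk hp
      haveI := isCyclic_of_prime_card (α := G) rfl
      exact Group.isSolvable_of_comm fun a b => (IsCyclic.commGroup (α := G)).mul_comm a b
    · obtain ⟨N, hN, hNbot, hNtop⟩ : ∃ N : Subgroup G, N.Normal ∧ N ≠ ⊥ ∧ N ≠ ⊤ := by
        by_contra h
        push Not at h
        exact hsimple ⟨fun N hN => or_iff_not_imp_left.mpr (h N hN)⟩
      haveI := hN
      have e1 : A.relIndex N * (A ⊔ N).index = A.index := by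
        have h1 : (A ⊓ N).index = N.relIndex A * A.index := by
          rw [← Subgroup.inf_relIndex_left, Subgroup.relIndex_mul_index inf_le_left]
        have h2 : (A ⊓ N).index = A.relIndex N * N.index := by
          rw [← Subgroup.inf_relIndex_right, Subgroup.relIndex_mul_index inf_le_right]
        rw [← Subgroup.relIndex_mul_index (le_sup_right : N ≤ A ⊔ N), Subgroup.relIndex_sup_right,
          mul_left_comm, h1] at h2
        exact (Nat.eq_of_mul_eq_mul_left (Nat.pos_of_ne_zero Subgroup.index_ne_zero_of_finite) h2).symm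
      haveI hsN : Group.IsSolvable N := by
        refine ih _ ?_ (A.subgroupOf N) ?_ ?_ rfl
        · exact lt_of_le_of_ne (Subgroup.card_le_card_group N) fun h => hNtop (Subgroup.eq_top_of_card_eq _ h)
        · refine isMulCommutative_iff.mpr ?_
          rintro ⟨x, hx⟩ ⟨y, hy⟩
          exact Subtype.ext (Subtype.ext
            (congrArg Subtype.val (hA.is_comm.comm (⟨(x : G), hx⟩ : A) ⟨(y : G), hy⟩) :))
        · obtain ⟨j, -, hj⟩ := (Nat.dvd_prime_pow Nat.prime_two).mp
            (hk ▸ e1 ▸ dvd_mul_right _ _ : A.relIndex N ∣ 2 ^ k)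
          exact ⟨j, hj⟩
      haveI hsQ : Group.IsSolvable (G ⧸ N) := by
        refine ih _ ?_ (A.map (QuotientGroup.mk' N)) inferInstance ?_ rfl
        · rw [← Subgroup.index_eq_card, ← N.card_mul_index]
          exact lt_mul_of_one_lt_left (Nat.pos_of_ne_zero Subgroup.index_ne_zero_of_finite)
            (Subgroup.one_lt_card_iff_ne_bot N |>.mpr hNbot)
        · obtain ⟨j, -, hj⟩ := (Nat.dvd_prime_pow Nat.prime_two).mp
            (hk ▸ Subgroup.index_map_dvd A (QuotientGroup.mk'_surjective N))
          exact ⟨j, hj⟩
      exact Group.isSolvable_of_ker_le_range N.subtype (QuotientGroup.mk' N)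
        (by rw [QuotientGroup.ker_mk', N.range_subtype])

/-- Every finite group having an abelian subgroup whose index is a power of 2 is solvable. -/
theorem result {G : Type*} [Group G] [Finite G]
    (A : Subgroup G) (hA : IsMulCommutative A) (hidx : ∃ k : ℕ, A.index = 2 ^ k) : Group.IsSolvable G := by
  exact key A hA hidx

end Cfsg.Agent.S3824
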