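import Cfsg.Statements.S3825
import Mathlib

set_option autoImplicit false
open Cfsg

namespace Cfsg.Agent.S3825

open scoped commutatorElement

theorem card_le_sq {G : Type*} [Group G] [Finite G] (f : G →* G) (h : f.range ≤ f.ker) :
    Nat.card G ≤ Nat.card f.ker ^ 2 := by
  rw [← f.ker.card_mul_index, Subgroup.index_ker, sq]
  exact Nat.mul_le_mul_left _ (Subgroup.card_le_of_le h)

theorem comm_of_inverting {G : Type*} [Group G] [Finite G] (σ : G →* G) (h2 : ∀ g, σ (σ g) = g)
    (hfix : ∀ g, σ g = g → g = 1) : ∀ a b : G, a * b = b * a := by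
  have hinj : Function.Injective (fun g : G => g⁻¹ * σ g) := by
    intro a b hab
    have hab' : a⁻¹ * σ a = b⁻¹ * σ b := hab
    have h1 : σ (b * a⁻¹) = b * a⁻¹ := by
      rw [map_mul, map_inv]
      calc σ b * (σ a)⁻¹ = b * (b⁻¹ * σ b) * (σ a)⁻¹ := by group
        _ = b * (a⁻¹ * σ a) * (σ a)⁻¹ := by rw [hab']
        _ = b * a⁻¹ := by group
    exact (mul_inv_eq_one.mp (hfix _ h1)).symm
  have hinv : ∀ g, σ g = g⁻¹ := by
    intro g
    obtain ⟨x, rfl⟩ := (Finite.injective_iff_surjective.mp hinj) g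
    change σ (x⁻¹ * σ x) = (x⁻¹ * σ x)⁻¹
    rw [map_mul, map_inv, h2]; group
  intro a b
  have h := map_mul σ a b
  rw [hinv, hinv, hinv, ← mul_inv_rev, inv_inj] at h
  exact h

/-- Let U be a subgroup of a finite group H and w an involution of H normalizing U and commuting with exactly two elements of U, the identity and y. If V is a non-cyclic elementary abelian 2-subgroup of U containing y which is normal in U and invariant under w, then V is a Sylow 2-subgroup of U, V has order 4, and U/V is abelian. -/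
theorem result {H : Type*} [Group H] [Finite H] (U : Subgroup H) (w : H) (hw : orderOf w = 2)
    (hwU : w ∈ Subgroup.normalizer (U : Set H)) (y : H) (hy : y ≠ 1) (hyU : y ∈ U)
    (hfix : ∀ u ∈ U, w * u * w⁻¹ = u ↔ (u = 1 ∨ u = y))
    (V : Subgroup H) (hVU : V ≤ U) (hVn : (V.subgroupOf U).Normal) (hVw : ∀ v ∈ V, w * v * w⁻¹ ∈ V)
    (hVe : Cfsg.IsElementaryAbelian 2 V) (hVc : ¬ IsCyclic ↥V) (hyV : y ∈ V) :
    ¬ 2 ∣ V.relIndex U ∧ Nat.card ↥V = 4 ∧ ⁅U, U⁆ ≤ V := by
  have hw2 : w * w = 1 := by rw [← pow_two, ← hw]; exact pow_orderOf_eq_one w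
  have hwinv : w⁻¹ = w := inv_eq_of_mul_eq_one_right hw2
  have hww : ∀ x : H, w * (w * x * w⁻¹) * w⁻¹ = x := fun x => by
    rw [hwinv, show w * (w * x * w) * w = (w * w) * x * (w * w) by group, hw2, one_mul, mul_one]
  have hcard2 : ∀ (W : Subgroup H), W ≤ U → y ∈ W →
      Nat.card {v : W // w * (v : H) * w⁻¹ = v} = 2 := by
    intro W hWU hyW
    have : (Set.univ : Set {v : W // w * (v : H) * w⁻¹ = v}) =
        {⟨1, by simp⟩, ⟨⟨y, hyW⟩, (hfix y hyU).mpr (Or.inr rfl)⟩} := by
      ext ⟨v, hv⟩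
      simp only [Set.mem_univ, Set.mem_insert_iff, Set.mem_singleton_iff, true_iff, Subtype.mk.injEq]
      rcases (hfix v (hWU v.2)).mp hv with h | h
      · exact Or.inl (Subtype.ext h)
      · exact Or.inr (Subtype.ext h)
    rw [← Nat.card_univ, this, Nat.card_coe_set_eq, Set.ncard_pair]
    intro e
    exact hy (by simpa using (congrArg (fun z => ((z : {v : W // w * (v : H) * w⁻¹ = v}).1 : H)) e).symm)
  haveI := hVe.1
  have hcommV : ∀ a ∈ V, ∀ b ∈ V, a * b = b * a := fun a ha b hb => by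
    simpa using congrArg Subtype.val (hVe.1.is_comm.comm (⟨a, ha⟩ : V) ⟨b, hb⟩)
  have hVsq : ∀ a ∈ V, a * a = 1 := fun a ha => by rw [← pow_two]; exact hVe.2 a ha
  have hVinv : ∀ a ∈ V, a⁻¹ = a := fun a ha => inv_eq_of_mul_eq_one_right (hVsq a ha)
  have hfV : ∀ v ∈ V, w * v * w⁻¹ * v ∈ V := fun v hv => mul_mem (hVw v hv) hv
  let f : V →* V :=
    { toFun := fun v => ⟨w * v * w⁻¹ * v, hfV v v.2⟩
      map_one' := by ext; simp
      map_mul' := fun a b => by
        apply Subtype.ext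
        change w * ((a : H) * b) * w⁻¹ * (a * b) = w * a * w⁻¹ * a * (w * b * w⁻¹ * b)
        calc w * ((a : H) * b) * w⁻¹ * (a * b) = w * a * w⁻¹ * ((w * b * w⁻¹) * a) * b := by group
          _ = w * a * w⁻¹ * (a * (w * b * w⁻¹)) * b := by rw [hcommV _ (hVw b b.2) a a.2]
          _ = _ := by group }
  have hker : ∀ v : V, v ∈ f.ker ↔ w * (v : H) * w⁻¹ = v := by
    intro v
    rw [MonoidHom.mem_ker, Subtype.ext_iff]
    change w * (v : H) * w⁻¹ * v = 1 ↔ _
    rw [mul_eq_one_iff_eq_inv, hVinv v v.2]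
  have hkercard : Nat.card f.ker = 2 :=
    (Nat.card_congr (Equiv.subtypeEquivRight hker)).trans (hcard2 V hVU hyV)
  have hV4 : Nat.card V = 4 := by
    have hle : Nat.card V ≤ 4 := by
      refine le_trans (card_le_sq f ?_) (by rw [hkercard]; norm_num)
      rintro _ ⟨v, rfl⟩
      rw [hker]
      change w * (w * v * w⁻¹ * v) * w⁻¹ = w * v * w⁻¹ * v
      rw [show w * (w * (v : H) * w⁻¹ * v) * w⁻¹ =
        w * (w * v * w⁻¹) * w⁻¹ * (w * v * w⁻¹) by group, hww]
      exact hcommV _ v.2 _ (hVw v v.2)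
    obtain ⟨k, hk⟩ := IsPGroup.iff_card.mp (fun v : V => ⟨1, Subtype.ext (hVe.2 v v.2)⟩ : IsPGroup 2 V)
    have : k ≤ 2 := (Nat.pow_le_pow_iff_right (by norm_num : 1 < 2)).mp (hk ▸ hle)
    interval_cases k
    · exact absurd (by
        haveI : Subsingleton V := (Nat.card_eq_one_iff_unique.mp (by simpa using hk)).1
        exact isCyclic_of_subsingleton) hVc
    · exact absurd (isCyclic_of_prime_card (p := 2) (by simpa using hk)) hVc
    · simpa using hk
  -- the image of `f` is the fixed subgroup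
  have hfr : f.range = f.ker := by
    refine Subgroup.eq_of_le_of_card_ge ?_ ?_
    · rintro _ ⟨v, rfl⟩
      rw [hker]
      change w * (w * v * w⁻¹ * v) * w⁻¹ = w * v * w⁻¹ * v
      rw [show w * (w * (v : H) * w⁻¹ * v) * w⁻¹ =
        w * (w * v * w⁻¹) * w⁻¹ * (w * v * w⁻¹) by group, hww]
      exact hcommV _ v.2 _ (hVw v v.2)
    · rw [← Subgroup.index_ker]
      have := f.ker.card_mul_index
      rw [hV4, hkercard] at this
      omega
  haveI := hVn
  let σ : U →* U :=
    { toFun := fun u => ⟨w * u * w⁻¹, (Subgroup.mem_normalizer_iff.mp hwU u).mp u.2⟩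
      map_one' := by ext; simp
      map_mul' := fun a b => Subtype.ext (by
        change w * ((a : H) * b) * w⁻¹ = (w * a * w⁻¹) * (w * b * w⁻¹); group) }
  let σ' : U ⧸ V.subgroupOf U →* U ⧸ V.subgroupOf U :=
    QuotientGroup.map _ _ σ (fun x hx => hVw _ hx)
  have hσ2 : ∀ q, σ' (σ' q) = q := by
    intro q
    induction q using QuotientGroup.induction_on with
    | _ u =>
      change QuotientGroup.mk (σ (σ u)) = _
      exact congrArg _ (Subtype.ext (hww u))
  have hσfix : ∀ q, σ' q = q → q = 1 := by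
    intro q
    induction q using QuotientGroup.induction_on with
    | _ u =>
      intro h
      change QuotientGroup.mk (σ u) = QuotientGroup.mk u at h
      rw [QuotientGroup.eq] at h
      set v : H := (w * u * w⁻¹)⁻¹ * u with hv
      have hvV : v ∈ V := h
      have hwu : w * u * w⁻¹ = u * v := by
        rw [← hVinv v hvV, hv]; group
      have hvfix : w * v * w⁻¹ = v := by
        have h1 : (u : H) = u * v * (w * v * w⁻¹) := by
          conv_lhs => rw [← hww u, hwu]
          rw [show w * ((u : H) * v) * w⁻¹ = (w * u * w⁻¹) * (w * v * w⁻¹) by group, hwu]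
        rw [mul_assoc, eq_comm, mul_eq_left, mul_eq_one_iff_eq_inv'] at h1
        rw [h1, hVinv v hvV]
      have hmem : (⟨v, hvV⟩ : V) ∈ f.range := by rw [hfr, hker]; exact hvfix
      obtain ⟨a, ha⟩ := hmem
      have ha' : w * (a : H) * w⁻¹ * a = v := congrArg Subtype.val ha
      have hua : w * ((u : H) * a) * w⁻¹ = u * a := by
        calc w * ((u : H) * a) * w⁻¹ = (w * u * w⁻¹) * (w * a * w⁻¹ * a) * (a : H)⁻¹ := by group
          _ = u * v * v * (a : H)⁻¹ := by rw [hwu, ha']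
          _ = u * a := by rw [mul_assoc (u : H) v v, hVsq v hvV, mul_one, hVinv a a.2]
      have huV : (u : H) * a ∈ V := by
        rcases (hfix _ (mul_mem u.2 (hVU a.2))).mp hua with h | h <;> rw [h]
        · exact V.one_mem
        · exact hyV
      rw [QuotientGroup.eq_one_iff, Subgroup.mem_subgroupOf]
      have h3 := mul_mem huV (inv_mem a.2)
      rwa [mul_inv_cancel_right] at h3
  refine ⟨fun hdvd => ?_, hV4, ?_⟩
  · haveI := Fintype.ofFinite (U ⧸ V.subgroupOf U)
    let π : Equiv.Perm (U ⧸ V.subgroupOf U) := ⟨σ', σ', hσ2, hσ2⟩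
    obtain ⟨b, hb, hb1⟩ := Equiv.Perm.exists_fixed_point_of_prime' (p := 2) (n := 1) (σ := π)
      (by rw [← Nat.card_eq_fintype_card, ← Subgroup.index_eq_card]; exact hdvd)
      (by ext q; simp [pow_two, π, hσ2]) (a := 1) (map_one σ')
    exact hb1 (hσfix b hb)
  · rw [Subgroup.commutator_le]
    intro a ha b hb
    have h := comm_of_inverting σ' hσ2 hσfix (QuotientGroup.mk (⟨a, ha⟩ : U)) (QuotientGroup.mk ⟨b, hb⟩)
    rw [← QuotientGroup.mk_mul, ← QuotientGroup.mk_mul, QuotientGroup.eq] at h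
    -- conjugate the witness back
    have h2 := hVn.conj_mem _ h ((⟨b, hb⟩ : U) * ⟨a, ha⟩)
    have h3 : ((⟨b, hb⟩ : U) * ⟨a, ha⟩ * ((⟨a, ha⟩ * ⟨b, hb⟩ : U)⁻¹ * (⟨b, hb⟩ * ⟨a, ha⟩)) *
        ((⟨b, hb⟩ : U) * ⟨a, ha⟩)⁻¹ : U) ∈ V.subgroupOf U := h2
    rw [Subgroup.mem_subgroupOf] at h3
    have h4 := inv_mem h3
    simpa [commutatorElement_def, mul_assoc] using h4

end Cfsg.Agent.S3825
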