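import Cfsg.Statements.S3835
import Mathlib
import Cfsg.Agent.Lib.PLocal.SLTwo.Qd
import Cfsg.Agent.S3074

set_option autoImplicit false
open Cfsg

namespace Cfsg.Agent.S3835

open CfsgLib.PLocal.SLTwo in
/-- `Qd(p)` acts faithfully on `p ^ 2` points by even permutations. -/
theorem exists_hom {p : ℕ} [Fact p.Prime] (hp : p ≠ 2) :
    ∃ φ : ↥(Cfsg.qd p) →* Equiv.Perm (Fin 2 → ZMod p), Function.Injective φ ∧
      ∀ z, Equiv.Perm.sign (φ z) = 1 := by
  classical
  let act : S2 (ZMod p) → (Fin 2 → ZMod p) → (Fin 2 → ZMod p) → (Fin 2 → ZMod p) :=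
    fun x v w => Matrix.mulVec x.1 w + v
  let X : ↥(Cfsg.qd p) → S2 (ZMod p) := fun z => (aff_surjective z).choose
  let V : ↥(Cfsg.qd p) → (Fin 2 → ZMod p) := fun z => (aff_surjective z).choose_spec.choose
  have hXV : ∀ z, z = aff (X z) (V z) := fun z => (aff_surjective z).choose_spec.choose_spec
  have hmul : ∀ a b w, act (X (a * b)) (V (a * b)) w = act (X a) (V a) (act (X b) (V b) w) := by
    intro a b w
    have h : aff (X (a * b)) (V (a * b)) = aff (X a * X b) (V a + Matrix.mulVec (X a).1 (V b)) := by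
      rw [← hXV, ← aff_mul, ← hXV, ← hXV]
    obtain ⟨h1, h2⟩ := aff_injective h
    simp only [act]
    rw [h1, h2, Matrix.SpecialLinearGroup.coe_mul, Matrix.mulVec_add, Matrix.mulVec_mulVec]
    abel
  have hone : ∀ w, act (X 1) (V 1) w = w := by
    intro w
    obtain ⟨h1, h2⟩ := aff_injective (show aff (X 1) (V 1) = aff (1 : S2 (ZMod p)) 0 by
      rw [← hXV, aff_one])
    simp only [act]
    rw [h1, h2, Matrix.SpecialLinearGroup.coe_one, Matrix.one_mulVec, add_zero]
  let φ : ↥(Cfsg.qd p) →* Equiv.Perm (Fin 2 → ZMod p) := MonoidHom.mk'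
    (fun z => ⟨act (X z) (V z), act (X z⁻¹) (V z⁻¹),
      fun w => by rw [← hmul, inv_mul_cancel, hone], fun w => by rw [← hmul, mul_inv_cancel, hone]⟩)
    (fun a b => Equiv.ext fun w => hmul a b w)
  refine ⟨φ, ?_, ?_⟩
  · intro a b h
    rw [hXV a, hXV b]
    have hw : ∀ w, act (X a) (V a) w = act (X b) (V b) w := fun w => Equiv.congr_fun h w
    have hv : V a = V b := by simpa only [act, Matrix.mulVec_zero, zero_add] using hw 0
    have hx : ∀ w, Matrix.mulVec (X a).1 w = Matrix.mulVec (X b).1 w := fun w => by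
      simpa only [act, hv, add_left_inj] using hw w
    rw [hv, show X a = X b from Subtype.ext (Matrix.toLin'.injective (LinearMap.ext fun w => by
      simpa [Matrix.toLin'_apply] using hx w))]
  · intro z
    let s := Equiv.Perm.sign.comp φ
    have hkill : ∀ y, y ^ p = 1 → s y = 1 := by
      intro y hy
      rcases Int.units_eq_one_or (s y) with h | h
      · exact h
      · have h1 : s y ^ p = 1 := by rw [← map_pow, hy, map_one]
        rw [h, ((Fact.out : p.Prime).odd_of_ne_two hp).neg_one_pow] at h1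
        exact absurd h1 (by decide)
    have hp0 : (p : ZMod p) = 0 := ZMod.natCast_self p
    have haff : ∀ x, ∀ n : ℕ, (aff x 0 : ↥(Cfsg.qd p)) ^ n = aff (x ^ n) 0 := by
      intro x n
      induction n with
      | zero => simp [aff_one]
      | succ n ih => rw [pow_succ, ih, aff_mul, Matrix.mulVec_zero, add_zero, pow_succ]
    let ι : S2 (ZMod p) →* ↥(Cfsg.qd p) := MonoidHom.mk' (fun x => aff x 0) fun x y => by
      rw [aff_mul, Matrix.mulVec_zero, add_zero]
    have hS2 : s.comp ι = 1 := by
      apply MonoidHom.eq_of_eqOn_dense (closure_U_Lo p)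
      rintro y (rfl | rfl)
      · refine hkill _ ?_
        show (aff (U 1) 0 : ↥(Cfsg.qd p)) ^ p = 1
        have : ∀ n : ℕ, (U 1 : S2 (ZMod p)) ^ n = U (n : ZMod p) := by
          intro n
          induction n with
          | zero => simp [U_zero]
          | succ n ih => rw [pow_succ, ih, U_mul]; simp
        rw [haff, this, hp0, U_zero, aff_one]
      · refine hkill _ ?_
        show (aff (Lo 1) 0 : ↥(Cfsg.qd p)) ^ p = 1
        have : ∀ n : ℕ, (Lo 1 : S2 (ZMod p)) ^ n = Lo (n : ZMod p) := by
          intro n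
          induction n with
          | zero => simp [Lo_zero]
          | succ n ih => rw [pow_succ, ih, Lo_mul]; simp
        rw [haff, this, hp0, Lo_zero, aff_one]
    obtain ⟨x, v, rfl⟩ := aff_surjective z
    have hdec : aff x v = aff 1 v * aff x 0 := by simp [aff_mul]
    show s (aff x v) = 1
    rw [hdec, map_mul, show s (aff x 0) = 1 from DFunLike.congr_fun hS2 x, mul_one]
    refine hkill _ ?_
    have := translations_isPGroup (p := p) ⟨aff 1 v, v, rfl⟩
    have key : ∀ n : ℕ, (aff (1 : S2 (ZMod p)) v) ^ n = aff 1 (n • v) := by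
      intro n
      induction n with
      | zero => simp [aff_one]
      | succ n ih => rw [pow_succ, ih, aff_mul, succ_nsmul]; simp
    rw [key, show p • v = 0 by funext i; simp, aff_one]

/-- `p`-subgroups of a symmetric group of degree less than `p ^ 2` are abelian. -/
theorem comm_of_small {p : ℕ} [hp : Fact p.Prime] {n : ℕ} (hn : n < p ^ 2) {P : Type*} [Group P]
    [Finite P] (hP : IsPGroup p P) (f : P →* Equiv.Perm (Fin n)) (hf : Function.Injective f) :
    ∀ a b : P, a * b = b * a := by
  intro a b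
  letI : MulAction P (Fin n) := MulAction.compHom _ f
  suffices h : ∀ i, f (a * b) i = f (b * a) i from hf (Equiv.ext h)
  intro i
  set S := MulAction.stabilizer P i with hS
  obtain ⟨m, hm⟩ := hP.index S
  have hmn : S.index ≤ n := by
    rw [hS, MulAction.index_stabilizer]
    exact (Set.ncard_le_card _).trans (by simp)
  have hm1 : m ≤ 1 := by
    by_contra hh
    have := Nat.pow_le_pow_right hp.out.pos (show 2 ≤ m by omega)
    omega
  have hcom : (b * a)⁻¹ * (a * b) ∈ S := by
    interval_cases m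
    · have htop : S = ⊤ := Subgroup.index_eq_one.mp (by simpa using hm)
      rw [htop]; trivial
    · have hco : IsCoatom S := by
        refine ⟨fun e => ?_, fun T hT => ?_⟩
        · rw [e, Subgroup.index_top, pow_one] at hm; exact hp.out.ne_one hm.symm
        · rcases hp.out.eq_one_or_self_of_dvd _ (by simpa [hm] using Subgroup.index_dvd_of_le hT.le)
            with h | h
          · exact Subgroup.index_eq_one.mp h
          · exact absurd (Subgroup.index_strictAnti hT) (by rw [hm, h, pow_one]; exact lt_irrefl _)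
      haveI : S.Normal := CfsgLib.PGroups.normal_of_isCoatom' hP hco
      have hcard : Nat.card (P ⧸ S) = p := by rw [← Subgroup.index_eq_card, hm, pow_one]
      haveI : IsCyclic (P ⧸ S) := isCyclic_of_prime_card hcard
      letI := IsCyclic.commGroup (α := P ⧸ S)
      refine QuotientGroup.eq.mp ?_
      rw [QuotientGroup.mk_mul, QuotientGroup.mk_mul, mul_comm]
  have h2 : f ((b * a)⁻¹ * (a * b)) i = i := hcom
  calc f (a * b) i = f ((b * a) * ((b * a)⁻¹ * (a * b))) i := by rw [mul_inv_cancel_left]
    _ = f (b * a) (f ((b * a)⁻¹ * (a * b)) i) := by rw [map_mul]; rfl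
    _ = f (b * a) i := by rw [h2]

/-- Let p be an odd prime and n a natural number. The alternating group of degree n has a subgroup isomorphic to Qd(p) (the natural semidirect product of an elementary abelian group of order p² by SL₂(p)) if and only if n ≥ p²; and if n < p² then Qd(p) is not even involved in it. -/
theorem result {p : ℕ} [Fact p.Prime] (hp : p ≠ 2) (n : ℕ) : ((∃ H : Subgroup (alternatingGroup (Fin n)), Nonempty (↥H ≃* ↥(Cfsg.qd p))) ↔ p ^ 2 ≤ n) ∧ (n < p ^ 2 → ¬ Cfsg.Involves ↥(Cfsg.qd p) ↥(alternatingGroup (Fin n))) := by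
  classical
  have hno : n < p ^ 2 → ¬ Cfsg.Involves ↥(Cfsg.qd p) ↥(alternatingGroup (Fin n)) := by
    rintro hn ⟨K, R, hR, ⟨e⟩⟩
    let π : ↥K →* ↥(Cfsg.qd p) := e.toMonoidHom.comp (QuotientGroup.mk' (R.subgroupOf K))
    have hπ : Function.Surjective π := e.surjective.comp (QuotientGroup.mk'_surjective _)
    obtain ⟨P⟩ : Nonempty (Sylow p ↥K) := inferInstance
    let Q := P.mapSurjective hπ
    have hQ := (Cfsg.Agent.S3074.result p hp Q).1
    refine CfsgLib.PGroups.IsExtraspecial.not_comm hQ ⟨⟨?_⟩⟩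
    rintro ⟨x, hx⟩ ⟨y, hy⟩
    have hQm : (Q : Subgroup ↥(Cfsg.qd p)) = (P : Subgroup ↥K).map π := Sylow.coe_mapSurjective hπ P
    obtain ⟨a, ha, rfl⟩ := hQm.le hx
    obtain ⟨b, hb, rfl⟩ := hQm.le hy
    have hc := comm_of_small hn P.isPGroup'
      ((alternatingGroup (Fin n)).subtype.comp (K.subtype.comp (P : Subgroup ↥K).subtype))
      ((alternatingGroup (Fin n)).subtype_injective.comp
        (K.subtype_injective.comp (P : Subgroup ↥K).subtype_injective)) ⟨a, ha⟩ ⟨b, hb⟩
    apply Subtype.ext
    show π a * π b = π b * π a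
    rw [← map_mul, ← map_mul]
    exact congrArg π (congrArg Subtype.val hc)
  refine ⟨⟨fun ⟨H, ⟨e⟩⟩ => ?_, fun hn => ?_⟩, hno⟩
  · by_contra hn
    refine hno (by omega) ⟨H, ⊥, ?_, ⟨?_⟩⟩
    · rw [Subgroup.bot_subgroupOf]; exact inferInstance
    · exact ((QuotientGroup.quotientMulEquivOfEq (Subgroup.bot_subgroupOf H)).trans
        QuotientGroup.quotientBot).trans e
  · obtain ⟨φ, hφ, hs⟩ := exists_hom (p := p) hp
    have hcard : Fintype.card (Fin 2 → ZMod p) ≤ Fintype.card (Fin n) := by simpa using hn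
    obtain ⟨g⟩ := Function.Embedding.nonempty_of_card_le hcard
    let ψ : ↥(Cfsg.qd p) →* Equiv.Perm (Fin n) :=
      (Equiv.Perm.extendDomainHom (Equiv.ofInjective g g.injective)).comp φ
    have hψ : Function.Injective ψ :=
      (Equiv.Perm.extendDomainHom_injective _).comp hφ
    have hψs : ∀ z, ψ z ∈ alternatingGroup (Fin n) := fun z => by
      rw [Equiv.Perm.mem_alternatingGroup]
      show Equiv.Perm.sign ((φ z).extendDomain _) = 1
      rw [Equiv.Perm.sign_extendDomain, hs]
    let ψ' := ψ.codRestrict _ hψs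
    have hψ' : Function.Injective ψ' := fun a b h => hψ (congrArg Subtype.val h)
    exact ⟨ψ'.range, ⟨(MonoidHom.ofInjective hψ').symm⟩⟩

end Cfsg.Agent.S3835
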