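import Cfsg.Statements.S3836
import Mathlib
import Cfsg.Agent.Lib.Core.Cores

set_option autoImplicit false
open Cfsg

namespace Cfsg.Agent.S3836

/-- Let G be a finite group that is p-stable in the normalizer form: for every p-subgroup Q and every x ∈ N_G(Q) with [Q, x, x] = 1, the image of x in N_G(Q)/C_G(Q) lies in O_p(N_G(Q)/C_G(Q)). Then every subgroup of G is p-stable in the same sense. -/
theorem result {G : Type*} [Group G] [Finite G] {p : ℕ} [Fact p.Prime] (hst : Cfsg.IsNormalizerPStable p G) (H : Subgroup G) : Cfsg.IsNormalizerPStable p ↥H := by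
  intro P hP g hg hquad
  set Q := P.map H.subtype with hQ
  have hQp : IsPGroup p Q := hP.map _
  have hg' : (g : G) ∈ Subgroup.normalizer (Q : Set G) := Subgroup.le_normalizer_map _ ⟨g, hg, rfl⟩
  have hquad' : ⁅⁅Q, Subgroup.zpowers (g : G)⁆, Subgroup.zpowers (g : G)⁆ = ⊥ := by
    rw [hQ, ← Subgroup.subtype_apply g, ← MonoidHom.map_zpowers, ← Subgroup.map_commutator,
      ← Subgroup.map_commutator, hquad, Subgroup.map_bot]
  have hG := hst Q hQp (g : G) hg' hquad'
  let φ : ↥(Subgroup.normalizer (P : Set H)) →* ↥(Subgroup.normalizer (Q : Set G)) :=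
    (H.subtype.comp (Subgroup.normalizer (P : Set H)).subtype).codRestrict _
      (fun n => Subgroup.le_normalizer_map _ ⟨n, n.2, rfl⟩)
  set CQ := (Subgroup.centralizer (Q : Set G)).subgroupOf (Subgroup.normalizer (Q : Set G)) with hCQ
  set CP := (Subgroup.centralizer (P : Set H)).subgroupOf (Subgroup.normalizer (P : Set H)) with hCP
  have hcap : CQ.comap φ = CP := by
    ext n
    rw [Subgroup.mem_comap, hCQ, hCP, Subgroup.mem_subgroupOf, Subgroup.mem_subgroupOf,
      Subgroup.mem_centralizer_iff, Subgroup.mem_centralizer_iff]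
    refine ⟨fun h x hx => Subtype.ext (h _ ⟨x, hx, rfl⟩), fun h y hy => ?_⟩
    obtain ⟨x, hx, rfl⟩ := hy
    exact congrArg Subtype.val (h x hx)
  let ψ : ↥(Subgroup.normalizer (P : Set H)) ⧸ CP →* ↥(Subgroup.normalizer (Q : Set G)) ⧸ CQ :=
    QuotientGroup.map CP CQ φ hcap.ge
  have hψ : Function.Injective ψ := by
    rw [← MonoidHom.ker_eq_bot_iff, eq_bot_iff]
    intro x hx
    induction x using QuotientGroup.induction_on with
    | _ n =>
      rw [Subgroup.mem_bot, QuotientGroup.eq_one_iff, ← hcap, Subgroup.mem_comap,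
        ← QuotientGroup.eq_one_iff]
      exact hx
  exact CfsgLib.Core.le_pCore ((CfsgLib.Core.isPGroup_pCore p _).comap_of_injective ψ hψ) hG

end Cfsg.Agent.S3836
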