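import Cfsg.Statements.S3838
import Mathlib
import Cfsg.Agent.Lib.Transfer.Tate
import Cfsg.Agent.Lib.Transfer.Fusion
import Cfsg.Agent.Lib.PGroups.Basic
import Cfsg.Agent.Lib.HallGen.Basic

set_option autoImplicit false
open Cfsg

namespace Cfsg.Agent.S3838

open scoped commutatorElement

/-- Let G be a finite group with Sylow p-subgroup P such that N_G(P) has a normal p-complement. Then N_G(Q) has a normal p-complement for every subgroup Q with [P, P] ≤ Q ≤ Φ(P). -/
theorem result {G : Type*} [Group G] [Finite G] {p : ℕ} [Fact p.Prime] (P : Sylow p G) (hN : Cfsg.HasNormalPComplement p ↥(Subgroup.normalizer ((P : Subgroup G) : Set G))) (Q : Subgroup G) (h1 : (commutator ↥(P : Subgroup G)).map (P : Subgroup G).subtype ≤ Q) (h2 : Q ≤ (frattini ↥(P : Subgroup G)).map (P : Subgroup G).subtype) : Cfsg.HasNormalPComplement p ↥(Subgroup.normalizer (Q : Set G)) := by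
  set Ps : Subgroup G := (P : Subgroup G)
  have hQP : Q ≤ Ps := h2.trans (Subgroup.map_subtype_le _)
  have hPM : Ps ≤ Subgroup.normalizer (Q : Set G) := by
    intro g hg
    have hc : ∀ g ∈ Ps, ∀ x ∈ Q, g * x * g⁻¹ ∈ Q := by
      intro g hg x hx
      have h3 : g * x * g⁻¹ * x⁻¹ ∈ Q := h1 ⟨⁅(⟨g, hg⟩ : Ps), ⟨x, hQP hx⟩⁆,
        by rw [commutator_def]; exact Subgroup.commutator_mem_commutator trivial trivial, rfl⟩
      simpa using mul_mem h3 hx
    rw [Subgroup.mem_normalizer_iff]
    exact fun x => ⟨hc g hg x, fun hx => by simpa [mul_assoc] using hc g⁻¹ (inv_mem hg) _ hx⟩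
  set M : Subgroup G := Subgroup.normalizer (Q : Set G) with hM
  haveI : (Q.subgroupOf M).Normal := Subgroup.normal_subgroupOf_of_le_normalizer le_rfl
  let P' : Sylow p M := P.subtype hPM
  set Qm := Q.subgroupOf M with hQm
  let π := QuotientGroup.mk' Qm
  have hπ : Function.Surjective π := QuotientGroup.mk'_surjective _
  set Pb : Sylow p (↥M ⧸ Qm) := P'.mapSurjective hπ with hPb
  have hPbe : (Pb : Subgroup (↥M ⧸ Qm)) = (P' : Subgroup M).map π := Sylow.coe_mapSurjective hπ P'
  have hQP' : Qm ≤ (P' : Subgroup M) := fun x hx => hQP hx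
  have habel : ∀ x ∈ (Pb : Subgroup (↥M ⧸ Qm)), ∀ y ∈ (Pb : Subgroup (↥M ⧸ Qm)), x * y = y * x := by
    intro x hx y hy
    rw [hPbe] at hx hy
    obtain ⟨u, hu, rfl⟩ := hx
    obtain ⟨v, hv, rfl⟩ := hy
    rw [← commutatorElement_eq_one_iff_mul_comm, ← map_commutatorElement, QuotientGroup.mk'_apply,
      QuotientGroup.eq_one_iff]
    exact h1 ⟨⁅(⟨(u : G), hu⟩ : Ps), ⟨(v : G), hv⟩⁆,
      by rw [commutator_def]; exact Subgroup.commutator_mem_commutator trivial trivial, rfl⟩
  set NM := Subgroup.normalizer ((P' : Subgroup M) : Set M) with hNM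
  have hle : Subgroup.normalizer ((Pb : Subgroup (↥M ⧸ Qm)) : Set (↥M ⧸ Qm)) ≤
      Subgroup.centralizer ((Pb : Subgroup (↥M ⧸ Qm)) : Set (↥M ⧸ Qm)) := by
    -- the normaliser is the image of a `p`-nilpotent group
    set H := Subgroup.normalizer ((Pb : Subgroup (↥M ⧸ Qm)) : Set (↥M ⧸ Qm)) with hH
    have hNMn : Cfsg.HasNormalPComplement p NM := by
      refine CfsgLib.Transfer.hasNormalPComplement_of_injective
        ((M.subtype.comp NM.subtype).codRestrict _ fun x => ?_) (fun a b h => ?_) hN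
      · rw [Subgroup.mem_normalizer_iff]
        intro y
        by_cases hy : y ∈ M
        · exact Subgroup.mem_normalizer_iff.mp x.2 ⟨y, hy⟩
        · refine ⟨fun h => absurd (hPM h) hy, fun h => absurd ?_ hy⟩
          have h' := M.mul_mem (M.mul_mem (M.inv_mem (x : M).2) (hPM h)) (x : M).2
          simpa [mul_assoc] using h'
      · exact Subtype.ext (Subtype.ext (congrArg Subtype.val h :))
    have hHn : Cfsg.HasNormalPComplement p H := by
      refine CfsgLib.Transfer.hasNormalPComplement_of_surjective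
        ((π.comp NM.subtype).codRestrict H fun x => ?_) (fun y => ?_) hNMn
      · have h := Subgroup.le_normalizer_map (H := (P' : Subgroup M)) π ⟨x, x.2, rfl⟩
        rwa [← hPbe] at h
      · obtain ⟨m, hm⟩ := hπ y
        refine ⟨⟨m, ?_⟩, Subtype.ext hm⟩
        have hy : π m ∈ H := hm ▸ y.2
        have hcomap : (Pb : Subgroup (↥M ⧸ Qm)).comap π = (P' : Subgroup M) := by
          rw [hPbe, Subgroup.comap_map_eq, QuotientGroup.ker_mk']
          exact sup_eq_left.mpr hQP'
        rw [hNM, Subgroup.mem_normalizer_iff]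
        intro z
        rw [← hcomap, Subgroup.mem_comap, Subgroup.mem_comap, map_mul, map_mul, map_inv]
        exact Subgroup.mem_normalizer_iff.mp hy (π z)
    intro g hg
    refine CfsgLib.HallGen.mem_of_primePow_parts _ g fun y hy q k hq hyk => ?_
    have hyH : y ∈ H := Subgroup.zpowers_le.mpr hg hy
    by_cases hqp : q = p
    · subst hqp
      have hY : IsPGroup q (Subgroup.zpowers y) := IsPGroup.of_card (n := k) (by rw [Nat.card_zpowers, hyk])
      have hyP : y ∈ (Pb : Subgroup (↥M ⧸ Qm)) :=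
        (Pb.is_maximal' (Pb.isPGroup'.to_sup_of_normal_left' hY (Subgroup.zpowers_le.mpr hyH))
          le_sup_left).le (Subgroup.mem_sup_right (Subgroup.mem_zpowers y))
      exact Subgroup.mem_centralizer_iff.mpr fun x hx => habel x hx y hyP
    · have hc := CfsgLib.Transfer.mem_centralizer_of_hasNormalPComplement hHn
        (Q := (Pb : Subgroup (↥M ⧸ Qm)).subgroupOf H) (Pb.isPGroup'.comap_subtype) (g := ⟨y, hyH⟩)
        (by rw [Subgroup.mem_normalizer_iff]; exact fun z => Subgroup.mem_normalizer_iff.mp hyH (z : ↥M ⧸ Qm))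
        (by rw [← Subgroup.orderOf_coe, hyk]
            exact ((Nat.coprime_primes hq (Fact.out : p.Prime)).mpr hqp).pow_left k)
      exact Subgroup.mem_centralizer_iff.mpr fun x hx => congrArg Subtype.val
        (Subgroup.mem_centralizer_iff.mp hc ⟨x, Subgroup.le_normalizer hx⟩ hx)
  have hcompl := MonoidHom.ker_transferSylow_isComplement' Pb hle
  set Nb := (MonoidHom.transferSylow Pb hle).ker with hNb
  set Nm := Nb.comap π with hNmdef
  have hTate : Nm ⊓ (P' : Subgroup M) ≤ (frattini ↥(P' : Subgroup M)).map (P' : Subgroup M).subtype := by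
    rintro x ⟨hx1, hx2⟩
    have hxQ : x ∈ Qm := by
      rw [← QuotientGroup.eq_one_iff]
      exact Subgroup.mem_bot.mp (hcompl.disjoint.eq_bot ▸ ⟨hx1, hPbe ▸ ⟨x, hx2, rfl⟩⟩)
    obtain ⟨y, hy, hyx⟩ := h2 hxQ
    let f : Ps →* (P' : Subgroup M) :=
      { toFun := fun z => ⟨⟨z, hPM z.2⟩, z.2⟩
        map_one' := rfl
        map_mul' := fun _ _ => rfl }
    refine ⟨f y, ?_, Subtype.ext hyx⟩
    have hmap : (frattini Ps).map f ≤ frattini ↥(P' : Subgroup M) := by
      rw [CfsgLib.PGroups.frattini_eq_commutator_sup (P.isPGroup' : IsPGroup p Ps), Subgroup.map_sup,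
        MonoidHom.map_closure, sup_le_iff, Subgroup.closure_le, commutator_def,
        Subgroup.map_commutator]
      refine ⟨?_, ?_⟩
      · refine (Subgroup.commutator_mono le_top le_top).trans ?_
        rw [← commutator_def]
        exact CfsgLib.PGroups.commutator_le_frattini' P'.isPGroup'
      · rintro _ ⟨_, ⟨w, rfl⟩, rfl⟩
        rw [SetLike.mem_coe, map_pow]
        exact CfsgLib.PGroups.pow_mem_frattini P'.isPGroup' _
    exact hmap ⟨y, hy, rfl⟩
  haveI : Nm.Normal := inferInstance
  have hNm := CfsgLib.Transfer.hasNormalPComplement_of_inf_le_frattini P' Nm hTate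
  refine CfsgLib.Transfer.hasNormalPComplement_iff_exists.mpr
    ⟨(Cfsg.pResidual p Nm).map Nm.subtype, inferInstance, ?_, ?_⟩
  · rw [Nat.card_congr ((Cfsg.pResidual p Nm).equivMapOfInjective _ Nm.subtype_injective).symm.toEquiv]
    exact CfsgLib.Transfer.hasNormalPComplement_iff_coprime.mp hNm
  · obtain ⟨i, hi⟩ := IsPGroup.iff_card.mp (CfsgLib.Transfer.isPGroup_quotient_pResidual (p := p) (G := Nm))
    obtain ⟨j, hj⟩ := IsPGroup.iff_card.mp Pb.isPGroup'
    refine IsPGroup.of_card (n := i + j) ?_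
    rw [← Subgroup.index_eq_card, ← Subgroup.relIndex_mul_index (Subgroup.map_subtype_le _ :
      (Cfsg.pResidual p Nm).map Nm.subtype ≤ Nm), pow_add]
    congr 1
    · rw [← hi, ← Subgroup.index_eq_card, Subgroup.relIndex, Subgroup.subgroupOf,
        Subgroup.comap_map_eq_self_of_injective Nm.subtype_injective]
    · rw [hNmdef, Subgroup.index_comap_of_surjective _ hπ, hcompl.symm.index_eq_card, hj]

end Cfsg.Agent.S3838
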