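import Cfsg.Statements.S3839
import Mathlib
import Cfsg.Prelude.Def_TwoFusion
import Cfsg.Agent.Lib.Transfer.Fusion
import Cfsg.Agent.Lib.Transfer.Alperin
import Cfsg.Agent.Lib.Transfer.PResidual
import Cfsg.Agent.Lib.Transfer.Conj
import Cfsg.Agent.Lib.PGroups.Basic
import Cfsg.Agent.Lib.Core.Basic
import Cfsg.Agent.Lib.ClassSizes.Basic

set_option autoImplicit false
open Cfsg

namespace Cfsg.Agent.S3839

set_option linter.style.haveILetI false
open Subgroup CfsgLib.Transfer
open scoped Pointwise

variable {G : Type*} [Group G] [Finite G] {p : ℕ} [hp : Fact p.Prime]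

theorem mem_normalizer_of_fwd {H : Subgroup G} {g : G} (h : ∀ x ∈ H, g * x * g⁻¹ ∈ H) :
    g ∈ Subgroup.normalizer (H : Set G) := by
  rw [Subgroup.mem_normalizer_iff]
  refine fun x => ⟨h x, fun hx => ?_⟩
  obtain ⟨⟨c, hc⟩, hc'⟩ := Finite.surjective_of_injective
    (f := fun c : H => (⟨g * c * g⁻¹, h c c.2⟩ : H)) (fun a b hab => by
      simpa using congrArg Subtype.val hab) ⟨_, hx⟩
  have : c = x := by simpa using congrArg Subtype.val hc'
  exact this ▸ hc

/-- Transport a normal `p`-complement to a subgroup contained in another one. -/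
theorem hasNormalPComplement_of_le {H K : Subgroup G} (hle : H ≤ K)
    (h : Cfsg.HasNormalPComplement p K) : Cfsg.HasNormalPComplement p H :=
  hasNormalPComplement_of_injective (Subgroup.inclusion hle) (Subgroup.inclusion_injective hle) h

/-- The normalizer of a subgroup in a conjugate form. -/
theorem hasNormalPComplement_normalizer_conj {V : Subgroup G} (g : G)
    (h : Cfsg.HasNormalPComplement p
      ↥(Subgroup.normalizer (V.map (MulAut.conj g).toMonoidHom : Set G))) :
    Cfsg.HasNormalPComplement p ↥(Subgroup.normalizer (V : Set G)) := by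
  have hle := Subgroup.le_normalizer_map (H := V) (MulAut.conj g).toMonoidHom
  refine hasNormalPComplement_of_injective ((Subgroup.inclusion hle).comp
    ((Subgroup.normalizer (V : Set G)).equivMapOfInjective _ (MulAut.conj g).injective).toMonoidHom)
    ((Subgroup.inclusion_injective hle).comp (MulEquiv.injective _)) h

/-- An extension of a `p'`-group by a group with a normal `p`-complement. -/
theorem hasNormalPComplement_of_quotient (O : Subgroup G) [O.Normal] (hO : (Nat.card O).Coprime p)
    (h : Cfsg.HasNormalPComplement p (G ⧸ O)) : Cfsg.HasNormalPComplement p G := by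
  obtain ⟨N, hN, hNc, hNq⟩ := hasNormalPComplement_iff_exists.mp h
  refine hasNormalPComplement_iff_exists.mpr ⟨N.comap (QuotientGroup.mk' O), inferInstance, ?_, ?_⟩
  · rw [CfsgLib.Core.card_comap_mk']
    exact Nat.Coprime.mul_left (by first | exact hNc | exact hO) (by first | exact hO | exact hNc)
  · obtain ⟨n, hn⟩ := IsPGroup.iff_card.mp hNq
    refine IsPGroup.iff_card.mpr ⟨n, ?_⟩
    rw [← Subgroup.index_eq_card, Subgroup.index_comap_of_surjective _ (QuotientGroup.mk'_surjective O),
      Subgroup.index_eq_card, hn]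

/-- If `R ≤ S` is fully normalised, `C(R)` has a normal complement and some `U` normalised by
`N(R) ∩ N(S ∩ C(R))` has, then `N(R)` has one. -/
theorem hasNormalPComplement_normalizer_step (S : Sylow p G) {R U : Subgroup G}
    (hfull : ¬ p ∣ ((S : Subgroup G) ⊓ Subgroup.normalizer (R : Set G)).relIndex
      (Subgroup.normalizer (R : Set G)))
    (hC : Cfsg.HasNormalPComplement p ↥(Subgroup.centralizer (R : Set G)))
    (hU : Cfsg.HasNormalPComplement p ↥(Subgroup.normalizer (U : Set G)))
    (hnorm : Subgroup.normalizer (R : Set G) ⊓ Subgroup.normalizer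
      (((S : Subgroup G) ⊓ Subgroup.centralizer (R : Set G) : Subgroup G) : Set G) ≤
        Subgroup.normalizer (U : Set G)) :
    Cfsg.HasNormalPComplement p ↥(Subgroup.normalizer (R : Set G)) := by
  set L := Subgroup.normalizer (R : Set G) with hL
  set C := Subgroup.centralizer (R : Set G) with hCdef
  have hCL : C ≤ L := Subgroup.centralizer_le_normalizer _
  set C' := C.subgroupOf L with hC'
  haveI hC'n : C'.Normal := by
    rw [hC', hL, hCdef]
    rw [← Subgroup.normalizerMonoidHom_ker]
    infer_instance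
  have hC'c : Cfsg.HasNormalPComplement p ↥C' :=
    hasNormalPComplement_of_injective (Subgroup.subgroupOfEquivOfLe hCL).toMonoidHom
      (MulEquiv.injective _) hC
  let T : Sylow p ↥L := ((S.isPGroup'.to_le
    (inf_le_left : (S : Subgroup G) ⊓ L ≤ S)).comap_subtype (K := L)).toSylow hfull
  obtain ⟨P, hP⟩ : ∃ P : Sylow p ↥C', (P : Subgroup ↥C').map C'.subtype = (T : Subgroup ↥L) ⊓ C' := by
    have hd : ¬ p ∣ ((T : Subgroup ↥L).subgroupOf C').index := by
      intro h
      refine T.not_dvd_index (h.trans ?_)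
      show (T : Subgroup ↥L).relIndex C' ∣ _
      exact CfsgLib.ClassSizes.relIndex_dvd_index_of_normal_right C' (T : Subgroup ↥L)
    exact ⟨(T.isPGroup'.comap_subtype (K := C')).toSylow hd, Subgroup.subgroupOf_map_subtype _ _⟩
  set M := Subgroup.normalizer (((T : Subgroup ↥L) ⊓ C' : Subgroup ↥L) : Set ↥L) with hM
  have hMC : M ⊔ C' = ⊤ := by
    have := Sylow.normalizer_sup_eq_top P
    rwa [hP] at this
  have hMnil : Cfsg.HasNormalPComplement p ↥M := by
    have hle : M.map L.subtype ≤ Subgroup.normalizer (U : Set G) := by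
      refine le_trans (le_inf (Subgroup.map_subtype_le _) ?_) hnorm
      refine le_trans (Subgroup.le_normalizer_map L.subtype) (le_of_eq ?_)
      congr 2
      ext x
      constructor
      · rintro ⟨y, ⟨hy1, hy2⟩, rfl⟩
        exact ⟨(show (y : G) ∈ (S : Subgroup G) ⊓ L from hy1).1, hy2⟩
      · rintro ⟨hxS, hxC⟩
        exact ⟨⟨x, hCL hxC⟩, ⟨⟨hxS, hCL hxC⟩, hxC⟩, rfl⟩
    exact hasNormalPComplement_of_injective
      ((Subgroup.inclusion hle).comp (M.equivMapOfInjective _ L.subtype_injective).toMonoidHom)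
      ((Subgroup.inclusion_injective hle).comp (MulEquiv.injective _)) hU
  set O : Subgroup ↥L := (Cfsg.pResidual p ↥C').map C'.subtype with hO
  haveI : O.Normal := inferInstance
  refine hasNormalPComplement_of_quotient O ?_ ?_
  · rw [hO, Subgroup.card_map_of_injective C'.subtype_injective]
    exact hasNormalPComplement_iff_coprime.mp hC'c
  have hsurj : Function.Surjective ((QuotientGroup.mk' O).comp M.subtype) := by
    rintro ⟨y⟩
    have hC'le : C' ≤ M ⊔ O := by
      have h1 : C' = (Cfsg.pResidual p ↥C' ⊔ (P : Subgroup ↥C')).map C'.subtype := by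
        rw [pResidual_sup_sylow, ← MonoidHom.range_eq_map, Subgroup.range_subtype]
      rw [h1, Subgroup.map_sup, hP]
      exact sup_le le_sup_right (le_sup_of_le_left Subgroup.le_normalizer)
    have htop : M ⊔ O = ⊤ := top_le_iff.mp (hMC ▸ sup_le le_sup_left hC'le)
    obtain ⟨m, hm, o, ho, rfl⟩ := Subgroup.mem_sup_of_normal_right.mp (htop ▸ Subgroup.mem_top y)
    exact ⟨⟨m, hm⟩, (QuotientGroup.eq.mpr (by simpa using ho))⟩
  exact hasNormalPComplement_of_surjective _ hsurj hMnil

/-- The centric criterion, as a statement about every group of a given order. -/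
theorem criterion.{u} : ∀ (n : ℕ) (G : Type u) [Group G] [Finite G], Nat.card G = n →
    ∀ (S : Sylow p G) (D : Subgroup G), Cfsg.IsStronglyClosed D (S : Subgroup G) →
    (∀ U : Subgroup G, U ≤ D → D ⊓ Subgroup.centralizer (U : Set G) ≤ U →
      Cfsg.HasNormalPComplement p ↥(Subgroup.normalizer (U : Set G))) →
    Cfsg.HasNormalPComplement p G := by
  intro n
  induction n using Nat.strong_induction_on with
  | _ n ih =>
  intro G _ _ hn S D hD hyp
  subst hn
  have hDS := hD.1
  have hDconj : ∀ s ∈ (S : Subgroup G), ∀ d ∈ D, s * d * s⁻¹ ∈ D := fun s hs d hd =>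
    hD.2 d hd s ((S : Subgroup G).mul_mem ((S : Subgroup G).mul_mem hs (hDS hd))
      ((S : Subgroup G).inv_mem hs))
  by_cases hDbot : D = ⊥
  · have h := hyp ⊥ bot_le (by rw [hDbot, bot_inf_eq])
    rw [Subgroup.normalizer_eq_top_iff.mpr (inferInstance : (⊥ : Subgroup G).Normal)] at h
    exact hasNormalPComplement_of_surjective (Subgroup.topEquiv (G := G)).toMonoidHom
      (Subgroup.topEquiv (G := G)).surjective h
  by_cases hcentral : (S : Subgroup G) ⊓ Subgroup.center G ≠ ⊥
  · set Z := (S : Subgroup G) ⊓ Subgroup.center G with hZ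
    haveI : Z.Normal := ⟨fun a ha g => by
      rwa [Subgroup.mem_center_iff.mp ha.2 g, mul_inv_cancel_right]⟩
    set π := QuotientGroup.mk' Z with hπ
    have hcomapS : ∀ x : G, π x ∈ (S : Subgroup G).map π → x ∈ (S : Subgroup G) := by
      rintro x ⟨s, hs, hsx⟩
      obtain ⟨z, hz, rfl⟩ := (QuotientGroup.mk'_eq_mk' Z).mp hsx
      exact (S : Subgroup G).mul_mem hs hz.1
    have hlt : Nat.card (G ⧸ Z) < Nat.card G := CfsgLib.Core.card_quotient_lt Z hcentral
    have hq : Cfsg.HasNormalPComplement p (G ⧸ Z) := by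
      refine ih _ hlt (G ⧸ Z) rfl (S.mapSurjective (QuotientGroup.mk'_surjective Z)) (D.map π)
        ⟨?_, ?_⟩ ?_
      · rw [Sylow.coe_mapSurjective]; exact Subgroup.map_mono hDS
      · rintro _ ⟨d, hd, rfl⟩ g' hg'
        obtain ⟨g, rfl⟩ := QuotientGroup.mk'_surjective Z g'
        rw [Sylow.coe_mapSurjective, ← map_inv, ← map_mul, ← map_mul] at hg'
        exact ⟨_, hD.2 d hd g (hcomapS _ hg'), by simp [π]⟩
      · intro U' hU' hcen
        set U := U'.comap π ⊓ D with hU
        have hmap : U.map π = U' := by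
          refine le_antisymm (Subgroup.map_le_iff_le_comap.mpr inf_le_left) fun y hy => ?_
          obtain ⟨d, hd, rfl⟩ := hU' hy
          exact ⟨d, ⟨hy, hd⟩, rfl⟩
        have hUc : D ⊓ Subgroup.centralizer (U : Set G) ≤ U := by
          rintro d ⟨hd, hdc⟩
          refine ⟨hcen ⟨⟨d, hd, rfl⟩, ?_⟩, hd⟩
          rw [← hmap]
          show π d ∈ Subgroup.centralizer _
          rw [Subgroup.mem_centralizer_iff]
          rintro _ ⟨u, hu, rfl⟩
          rw [← map_mul, ← map_mul, Subgroup.mem_centralizer_iff.mp hdc u hu]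
        have hle : Subgroup.normalizer (U' : Set (G ⧸ Z)) ≤
            (Subgroup.normalizer (U : Set G)).map π := by
          intro g' hg'
          obtain ⟨g, rfl⟩ := QuotientGroup.mk'_surjective Z g'
          refine ⟨g, mem_normalizer_of_fwd fun u hu => ?_, rfl⟩
          have h1 : π (g * u * g⁻¹) ∈ U' := by
            rw [map_mul, map_mul, map_inv]
            exact (Subgroup.mem_normalizer_iff.mp hg' _).mp hu.1
          exact ⟨h1, hD.2 u hu.2 g (hcomapS _ (Subgroup.map_mono hDS (hU' h1)))⟩
        refine hasNormalPComplement_of_le hle ?_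
        exact hasNormalPComplement_of_surjective (π.subgroupMap (Subgroup.normalizer (U : Set G)))
          (π.subgroupMap_surjective _) (hyp U inf_le_right hUc)
    refine (hasNormalPComplement_iff_centralizes S).mpr fun Q hQ g hg hgc => ?_
    rw [Subgroup.mem_centralizer_iff]
    intro q hq'
    have hgc' : Nat.Coprime (orderOf (π g)) p := hgc.coprime_dvd_left (orderOf_map_dvd π g)
    have h1 := mem_centralizer_of_hasNormalPComplement hq ((S.isPGroup'.to_le hQ).map π)
      (Subgroup.le_normalizer_map π ⟨g, hg, rfl⟩) hgc'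
    have h2 : π (q⁻¹ * (g * q * g⁻¹)) = 1 := by
      have h3 := Subgroup.mem_centralizer_iff.mp h1 (π q) ⟨q, hq', rfl⟩
      rw [map_mul, map_mul, map_mul, map_inv, map_inv, ← h3, mul_inv_cancel_right, inv_mul_cancel]
    rw [hπ, QuotientGroup.mk'_apply, QuotientGroup.eq_one_iff] at h2
    set z := q⁻¹ * (g * q * g⁻¹) with hz
    have hconj : g * q * g⁻¹ = q * z := by rw [hz, mul_inv_cancel_left]
    have hzc : ∀ x : G, x * z = z * x := Subgroup.mem_center_iff.mp h2.2
    have hpow : ∀ k : ℕ, g ^ k * q * (g ^ k)⁻¹ = q * z ^ k := by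
      intro k
      induction k with
      | zero => simp
      | succ k ihk =>
        calc g ^ (k + 1) * q * (g ^ (k + 1))⁻¹ = g * (g ^ k * q * (g ^ k)⁻¹) * g⁻¹ := by
              rw [pow_succ']; group
          _ = g * (q * z ^ k) * g⁻¹ := by rw [ihk]
          _ = (g * q * g⁻¹) * (g * z ^ k * g⁻¹) := by group
          _ = q * z ^ (k + 1) := by
              rw [hconj, (Commute.pow_right (hzc g) k).eq, mul_inv_cancel_right, pow_succ',
                mul_assoc]
    have h4 := hpow (orderOf g)
    rw [pow_orderOf_eq_one, one_mul, inv_one, mul_one] at h4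
    have h5 : z = 1 := by
      obtain ⟨k, hk⟩ := (isPGroup_iff_orderOf_dvd_pow.mp S.isPGroup') ⟨z, h2.1⟩
      rw [← Subgroup.orderOf_coe] at hk
      exact orderOf_eq_one_iff.mp (Nat.eq_one_of_dvd_coprimes (hgc.pow_right k)
        (orderOf_dvd_of_pow_eq_one (mul_eq_left.mp h4.symm)) hk)
    rw [h5, mul_one] at hconj
    exact (mul_inv_eq_iff_eq_mul.mp hconj).symm
  rw [not_not] at hcentral
  -- centralizers of nontrivial subgroups of `S` inherit the hypothesis
  have hcentInd : ∀ R : Subgroup G, R ≤ (S : Subgroup G) → R ≠ ⊥ →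
      ¬ p ∣ ((S : Subgroup G) ⊓ Subgroup.normalizer (R : Set G)).relIndex
        (Subgroup.normalizer (R : Set G)) →
      (∀ V : Subgroup G, V ≤ D ⊓ Subgroup.centralizer (R : Set G) →
        D ⊓ Subgroup.centralizer (R : Set G) ⊓ Subgroup.centralizer (V : Set G) ≤ V →
        Cfsg.HasNormalPComplement p
          ↥(Subgroup.centralizer (R : Set G) ⊓ Subgroup.normalizer (V : Set G))) →
      Cfsg.HasNormalPComplement p ↥(Subgroup.centralizer (R : Set G)) := by
    intro R hRS hR hfull hV
    set C := Subgroup.centralizer (R : Set G) with hC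
    have hCtop : C ≠ ⊤ := by
      intro h
      refine hR (le_bot_iff.mp (hcentral ▸ le_inf hRS fun r hr => Subgroup.mem_center_iff.mpr fun g => ?_))
      exact (Subgroup.mem_centralizer_iff.mp (h ▸ Subgroup.mem_top g : g ∈ C) r hr).symm
    set L := Subgroup.normalizer (R : Set G) with hL
    have hCL : C ≤ L := Subgroup.centralizer_le_normalizer _
    haveI : (C.subgroupOf L).Normal := by
      rw [hC, hL, ← Subgroup.normalizerMonoidHom_ker]
      infer_instance
    have hd : ¬ p ∣ ((S : Subgroup G).subgroupOf C).index := by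
      intro h
      refine hfull (h.trans ?_)
      show (S : Subgroup G).relIndex C ∣ ((S : Subgroup G) ⊓ L).relIndex L
      have e1 : (((S : Subgroup G) ⊓ L).subgroupOf L).relIndex (C.subgroupOf L) =
          ((S : Subgroup G) ⊓ L).relIndex C := Subgroup.relIndex_subgroupOf hCL
      have e2 : (S : Subgroup G).relIndex C = ((S : Subgroup G) ⊓ L).relIndex C := by
        rw [← Subgroup.inf_relIndex_right, ← Subgroup.inf_relIndex_right ((S : Subgroup G) ⊓ L),
          inf_assoc, inf_eq_right.mpr hCL]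
      rw [e2, ← e1]
      exact CfsgLib.ClassSizes.relIndex_dvd_index_of_normal_right (C.subgroupOf L)
        (((S : Subgroup G) ⊓ L).subgroupOf L)
    refine ih (Nat.card C) (CfsgLib.Core.card_subgroup_lt C hCtop) ↥C rfl
      ((S.isPGroup'.comap_subtype (K := C)).toSylow hd) (D.subgroupOf C)
      ⟨fun x hx => hDS hx, fun x hx g hg => hD.2 _ hx (g : G) hg⟩ fun U hU hUc => ?_
    have hVle : U.map C.subtype ≤ D ⊓ C := by
      rintro _ ⟨u, hu, rfl⟩
      exact ⟨hU hu, u.2⟩
    have hVc : D ⊓ C ⊓ Subgroup.centralizer (U.map C.subtype : Set G) ≤ U.map C.subtype := by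
      rintro d ⟨⟨hd, hdC⟩, hdc⟩
      refine ⟨⟨d, hdC⟩, hUc ⟨hd, ?_⟩, rfl⟩
      show (⟨d, hdC⟩ : ↥C) ∈ Subgroup.centralizer _
      rw [Subgroup.mem_centralizer_iff]
      intro u hu
      exact Subtype.ext (Subgroup.mem_centralizer_iff.mp hdc u ⟨u, hu, rfl⟩)
    have hle : (Subgroup.normalizer (U : Set ↥C)).map C.subtype ≤
        C ⊓ Subgroup.normalizer (U.map C.subtype : Set G) :=
      le_inf (Subgroup.map_subtype_le _) (Subgroup.le_normalizer_map _)
    exact hasNormalPComplement_of_injective ((Subgroup.inclusion hle).comp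
      ((Subgroup.normalizer (U : Set ↥C)).equivMapOfInjective _ C.subtype_injective).toMonoidHom)
      ((Subgroup.inclusion_injective hle).comp (MulEquiv.injective _)) (hV _ hVle hVc)
  -- every nontrivial subgroup of `D`
  have hclaimFull : ∀ R : Subgroup G, R ≤ D → R ≠ ⊥ →
      ¬ p ∣ ((S : Subgroup G) ⊓ Subgroup.normalizer (R : Set G)).relIndex
        (Subgroup.normalizer (R : Set G)) →
      Cfsg.HasNormalPComplement p ↥(Subgroup.normalizer (R : Set G)) := by
    intro R hRD hR hfull
    set C := Subgroup.centralizer (R : Set G) with hC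
    refine hasNormalPComplement_normalizer_step S hfull (U := R ⊔ (D ⊓ C))
      (hcentInd R (hRD.trans hDS) hR hfull fun V hV hVc => ?_)
      (hyp _ (sup_le hRD inf_le_left) ?_) ?_
    · refine hasNormalPComplement_of_le ?_ (hyp (R ⊔ V) (sup_le hRD (hV.trans inf_le_left)) ?_)
      · exact le_trans (inf_le_inf_right _ (Subgroup.centralizer_le_normalizer _))
          (Subgroup.normalizer_inf_normalizer_le_normalizer_sup R V)
      · rintro d ⟨hd, hdc⟩
        refine Subgroup.mem_sup_right (hVc ⟨⟨hd, ?_⟩, ?_⟩)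
        · exact Subgroup.centralizer_le (SetLike.coe_subset_coe.mpr (le_sup_left : R ≤ R ⊔ V)) hdc
        · exact Subgroup.centralizer_le (SetLike.coe_subset_coe.mpr (le_sup_right : V ≤ R ⊔ V)) hdc
    · rintro d ⟨hd, hdc⟩
      exact Subgroup.mem_sup_right ⟨hd,
        Subgroup.centralizer_le (SetLike.coe_subset_coe.mpr (le_sup_left : R ≤ R ⊔ (D ⊓ C))) hdc⟩
    · refine le_trans (le_inf inf_le_left ?_)
        (Subgroup.normalizer_inf_normalizer_le_normalizer_sup R (D ⊓ C))
      rintro g ⟨-, hg⟩
      refine mem_normalizer_of_fwd fun x hx => ?_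
      have h1 := (Subgroup.mem_normalizer_iff.mp hg x).mp ⟨hDS hx.1, hx.2⟩
      exact ⟨hD.2 x hx.1 g h1.1, h1.2⟩
  have hclaim : ∀ V : Subgroup G, V ≤ D → V ≠ ⊥ →
      Cfsg.HasNormalPComplement p ↥(Subgroup.normalizer (V : Set G)) := by
    intro V hVD hV
    obtain ⟨T, hVT, hTN, hTp, hTi⟩ := exists_sylow_of_le (p := p)
      (Subgroup.le_normalizer : V ≤ Subgroup.normalizer (V : Set G))
      (S.isPGroup'.to_le (hVD.trans hDS))
    obtain ⟨Q, hQ⟩ := hTp.exists_le_sylow
    obtain ⟨g, hg⟩ := MulAction.exists_smul_eq G Q S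
    have hgQ : ∀ x ∈ (Q : Subgroup G), g * x * g⁻¹ ∈ (S : Subgroup G) := by
      intro x hx
      rw [← hg, Sylow.coe_subgroup_smul]
      exact ⟨x, hx, rfl⟩
    set c := (MulAut.conj g).toMonoidHom with hc
    refine hasNormalPComplement_normalizer_conj g (hclaimFull _ ?_ ?_ ?_)
    · rintro _ ⟨v, hv, rfl⟩
      exact hD.2 v (hVD hv) g (hgQ v (hQ (hVT hv)))
    · rwa [Ne, Subgroup.map_eq_bot_iff_of_injective _ (MulAut.conj g).injective]
    · intro hdvd
      have hle : T.map c ≤ (S : Subgroup G) ⊓ Subgroup.normalizer (V.map c : Set G) := by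
        refine le_inf ?_ ((Subgroup.map_mono hTN).trans (Subgroup.le_normalizer_map c))
        rintro _ ⟨t, ht, rfl⟩
        exact hgQ t (hQ ht)
      refine hTi (hdvd.trans ?_)
      have hNeq : Subgroup.normalizer (V.map c : Set G) =
          (Subgroup.normalizer (V : Set G)).map c :=
        (Subgroup.map_equiv_normalizer_eq V (MulAut.conj g)).symm
      have h1 := Subgroup.relIndex_dvd_of_le_left (Subgroup.normalizer (V.map c : Set G)) hle
      refine h1.trans (dvd_of_eq ?_)
      rw [hNeq, hc, Subgroup.relIndex_map_map_of_injective _ _ (MulAut.conj g).injective]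
  -- every tame intersection
  have hDZ : ∀ R : Subgroup G, R ≤ (S : Subgroup G) →
      D ⊓ Subgroup.centralizer (R : Set G) ≠ ⊥ := by
    intro R hRS h
    haveI : (D.subgroupOf (S : Subgroup G)).Normal :=
      ⟨fun d hd s => hDconj _ s.2 _ hd⟩
    refine CfsgLib.PGroups.inf_center_ne_bot S.isPGroup' (N := D.subgroupOf (S : Subgroup G)) ?_ ?_
    · intro h'
      rw [Subgroup.subgroupOf_eq_bot] at h'
      exact hDbot (le_bot_iff.mp (h'.le_bot.trans' (le_inf le_rfl hDS)))
    · rw [Subgroup.eq_bot_iff_forall]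
      rintro x ⟨hx1, hx2⟩
      have : (x : G) ∈ D ⊓ Subgroup.centralizer (R : Set G) := ⟨hx1,
        Subgroup.mem_centralizer_iff.mpr fun r hr =>
          congrArg Subtype.val (Subgroup.mem_center_iff.mp hx2 ⟨r, hRS hr⟩)⟩
      rw [h, Subgroup.mem_bot] at this
      exact Subtype.ext this
  have htame : ∀ R : Subgroup G, R ≤ (S : Subgroup G) → R ≠ ⊥ →
      ¬ p ∣ ((S : Subgroup G) ⊓ Subgroup.normalizer (R : Set G)).relIndex
        (Subgroup.normalizer (R : Set G)) →
      Cfsg.HasNormalPComplement p ↥(Subgroup.normalizer (R : Set G)) := by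
    intro R hRS hR hfull
    set C := Subgroup.centralizer (R : Set G) with hC
    by_cases hRD : R ⊓ D = ⊥
    · refine hasNormalPComplement_normalizer_step S hfull (U := D ⊓ C)
        (hcentInd R hRS hR hfull fun V hV hVc => ?_) (hclaim _ inf_le_left (hDZ R hRS)) ?_
      · refine hasNormalPComplement_of_le inf_le_right (hclaim V (hV.trans inf_le_left) ?_)
        rintro rfl
        refine hDZ R hRS (le_bot_iff.mp (le_trans (le_inf le_rfl ?_) hVc))
        intro x _
        rw [Subgroup.mem_centralizer_iff]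
        intro y hy
        rw [Subgroup.coe_bot, Set.mem_singleton_iff] at hy
        rw [hy, one_mul, mul_one]
      · rintro g ⟨-, hg⟩
        refine mem_normalizer_of_fwd fun x hx => ?_
        have h1 := (Subgroup.mem_normalizer_iff.mp hg x).mp ⟨hDS hx.1, hx.2⟩
        exact ⟨hD.2 x hx.1 g h1.1, h1.2⟩
    · refine hasNormalPComplement_of_le ?_ (hclaim _ inf_le_right hRD)
      intro g hg
      refine mem_normalizer_of_fwd fun x hx => ?_
      have h1 := (Subgroup.mem_normalizer_iff.mp hg x).mp hx.1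
      exact ⟨h1, hD.2 x hx.2 g (hRS h1)⟩
  -- fusion in `S` is induced by `S`
  have hfus : ∀ (A : Set G) (g : G), FusionPath S A g →
      ∃ s ∈ (S : Subgroup G), ∀ a ∈ A, g⁻¹ * a * g = s⁻¹ * a * s := by
    intro A g h
    induction h with
    | one A => exact ⟨1, (S : Subgroup G).one_mem, fun a _ => rfl⟩
    | step A Q x g ht hx hA _ ihg =>
      obtain ⟨s₂, hs₂, hs₂'⟩ := ihg
      set R := (S : Subgroup G) ⊓ (Q : Subgroup G) with hR
      obtain ⟨s₁, hs₁, hs₁'⟩ : ∃ s ∈ (S : Subgroup G), ∀ a ∈ R, x⁻¹ * a * x = s⁻¹ * a * s := by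
        by_cases hRbot : R = ⊥
        · refine ⟨1, (S : Subgroup G).one_mem, fun a ha => ?_⟩
          rw [hRbot, Subgroup.mem_bot] at ha
          simp [ha]
        set L := Subgroup.normalizer (R : Set G) with hL
        have hnil := htame R inf_le_left hRbot ht.1
        let T : Sylow p ↥L := ((S.isPGroup'.to_le
          (inf_le_left : (S : Subgroup G) ⊓ L ≤ S)).comap_subtype (K := L)).toSylow ht.1
        have htop := pResidual_sup_sylow T
        obtain ⟨o, ho, t, htT, hot⟩ :=
          Subgroup.mem_sup_of_normal_left.mp (htop ▸ Subgroup.mem_top (⟨x, hx⟩ : ↥L))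
        refine ⟨(t : G), htT.1, fun a ha => ?_⟩
        have haL : a ∈ L := Subgroup.le_normalizer ha
        haveI : (R.subgroupOf L).Normal := Subgroup.normal_in_normalizer
        have hdisj : Disjoint (Cfsg.pResidual p ↥L) (R.subgroupOf L) := by
          refine Subgroup.disjoint_of_coprime_natCard ?_
          obtain ⟨k, hk⟩ := IsPGroup.iff_card.mp
            ((S.isPGroup'.to_le (inf_le_left : R ≤ S)).comap_subtype (K := L))
          rw [Subgroup.subgroupOf]
          rw [hk]
          exact (hasNormalPComplement_iff_coprime.mp hnil).pow_right k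
        have hcomm : (o : G) * a = a * o := congrArg Subtype.val
          (Subgroup.commute_of_normal_of_disjoint _ _ inferInstance inferInstance hdisj o
            (⟨a, haL⟩ : ↥L) ho ha).eq
        have hx' : x = (o : G) * t := (congrArg Subtype.val hot).symm
        rw [hx', mul_inv_rev]
        calc (t : G)⁻¹ * (o : G)⁻¹ * a * (o * t) = (t : G)⁻¹ * ((o : G)⁻¹ * (a * o)) * t := by group
          _ = (t : G)⁻¹ * a * t := by rw [← hcomm]; group
      refine ⟨s₁ * s₂, (S : Subgroup G).mul_mem hs₁ hs₂, fun a ha => ?_⟩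
      have h1 := hs₂' (x⁻¹ * a * x) ⟨a, ha, rfl⟩
      calc (x * g)⁻¹ * a * (x * g) = g⁻¹ * (x⁻¹ * a * x) * g := by group
        _ = s₂⁻¹ * (x⁻¹ * a * x) * s₂ := h1
        _ = (s₁ * s₂)⁻¹ * a * (s₁ * s₂) := by rw [hs₁' a (hA ha)]; group
  refine (hasNormalPComplement_iff_centralizes S).mpr fun Q hQ g hg hgc => ?_
  have hgQ : ∀ q ∈ Q, g⁻¹ * q * g ∈ Q := fun q hq => by
    simpa using (Subgroup.mem_normalizer_iff.mp ((Subgroup.normalizer _).inv_mem hg) q).mp hq
  have hp' := exists_fusionPath S (A := (Q : Set G)) (g := g) (fun q hq => hQ hq)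
    (by rintro _ ⟨q, hq, rfl⟩; exact hQ (hgQ q hq))
  obtain ⟨s, hs, hsQ⟩ := hfus _ _ hp'
  have hpow : ∀ k : ℕ, ∀ q ∈ Q, (g ^ k)⁻¹ * q * g ^ k = (s ^ k)⁻¹ * q * s ^ k := by
    intro k
    induction k with
    | zero => simp
    | succ k ihk =>
      intro q hq
      calc (g ^ (k + 1))⁻¹ * q * g ^ (k + 1) = (g ^ k)⁻¹ * (g⁻¹ * q * g) * g ^ k := by
            rw [pow_succ']; group
        _ = (s ^ k)⁻¹ * (g⁻¹ * q * g) * s ^ k := ihk _ (hgQ q hq)
        _ = (s ^ (k + 1))⁻¹ * q * s ^ (k + 1) := by rw [hsQ q hq, pow_succ']; group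
  have hfix : ∀ q ∈ Q, s ^ orderOf g * q = q * s ^ orderOf g := by
    intro q hq
    have h := hpow (orderOf g) q hq
    rw [pow_orderOf_eq_one, inv_one, one_mul, mul_one] at h
    calc s ^ orderOf g * q = s ^ orderOf g * ((s ^ orderOf g)⁻¹ * q * s ^ orderOf g) := by rw [← h]
      _ = q * s ^ orderOf g := by group
  rw [Subgroup.mem_centralizer_iff]
  intro q hq
  have hcop : Nat.Coprime (orderOf g) (orderOf s) := by
    obtain ⟨k, hk⟩ := (isPGroup_iff_orderOf_dvd_pow.mp S.isPGroup') ⟨s, hs⟩
    rw [← Subgroup.orderOf_coe] at hk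
    exact (hgc.pow_right k).coprime_dvd_right hk
  obtain ⟨j, hj⟩ := exists_pow_eq_self_of_coprime (x := s) (n := orderOf g) hcop
  have hsq : Commute s q := by
    rw [← hj]
    exact Commute.pow_left (hfix q hq) j
  have h := hsQ q hq
  rw [mul_assoc s⁻¹, ← hsq.eq, inv_mul_cancel_left, mul_assoc, inv_mul_eq_iff_eq_mul] at h
  exact h

/-- A Frobenius normal p-complement criterion relative to a strongly closed subgroup. Let G be a finite group, S a Sylow p-subgroup and D a subgroup of S strongly closed in S with respect to G. Then G has a normal p-complement if and only if N_G(U) has a normal p-complement for every subgroup U of D with C_D(U) ≤ U. -/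
theorem result {G : Type*} [Group G] [Finite G] {p : ℕ} [Fact p.Prime] (S : Sylow p G) (D : Subgroup G) (hD : Cfsg.IsStronglyClosed D (S : Subgroup G)) : Cfsg.HasNormalPComplement p G ↔ ∀ U : Subgroup G, U ≤ D → D ⊓ Subgroup.centralizer (U : Set G) ≤ U → Cfsg.HasNormalPComplement p ↥(Subgroup.normalizer (U : Set G)) := by
  constructor
  · intro h U _ _
    exact CfsgLib.Transfer.hasNormalPComplement_subgroup h _
  · intro h
    exact criterion (Nat.card G) G rfl S D hD h

end Cfsg.Agent.S3839
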