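import Cfsg.Statements.S3857
import Mathlib
import Cfsg.Prelude.Def_OddOrderLocal
import Cfsg.Agent.Lib.Core.FPFComplement
import Cfsg.Agent.Lib.Core.SchurZassenhaus
import Cfsg.Agent.Lib.Core.MinNormal
import Cfsg.Agent.Lib.Components.Radicals
import Cfsg.Agent.Lib.Components.FStar
import Cfsg.Agent.Lib.HallGen.Basic

set_option autoImplicit false
open Cfsg

namespace Cfsg.Agent.S3857

set_option linter.style.haveILetI false

open Subgroup
open scoped commutatorElement

/-- no element of `X` of prime order in `σ` commutes with one of prime order outside `σ` -/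
def Sep {X : Type*} [Group X] (σ : Set ℕ) : Prop :=
  ∀ x y : X, (orderOf x).Prime → orderOf x ∈ σ → (orderOf y).Prime → orderOf y ∉ σ → ¬ Commute x y

theorem Sep.free {X : Type*} [Group X] [Finite X] {σ : Set ℕ} (h : Sep (X := X) σ)
    {x y : X} (hx : ∀ r : ℕ, r.Prime → r ∣ orderOf x → r ∈ σ)
    (hy : ∀ r : ℕ, r.Prime → r ∣ orderOf y → r ∉ σ) (hc : Commute x y) : x = 1 ∨ y = 1 := by
  by_contra hne
  push Not at hne
  obtain ⟨p, hp, hpd⟩ := Nat.exists_prime_and_dvd (n := orderOf x) fun e => hne.1 (orderOf_eq_one_iff.mp e)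
  obtain ⟨q, hq, hqd⟩ := Nat.exists_prime_and_dvd (n := orderOf y) fun e => hne.2 (orderOf_eq_one_iff.mp e)
  have h1 : orderOf (x ^ (orderOf x / p)) = p := orderOf_pow_orderOf_div (orderOf_pos x).ne' hpd
  have h2 : orderOf (y ^ (orderOf y / q)) = q := orderOf_pow_orderOf_div (orderOf_pos y).ne' hqd
  exact h _ _ (by rw [h1]; exact hp) (by rw [h1]; exact hx p hp hpd) (by rw [h2]; exact hq)
    (by rw [h2]; exact hy q hq hqd) (hc.pow_pow _ _)

/-- A semidirect decomposition with fixed-point-free complement is a Frobenius group. -/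
theorem frob {X : Type*} [Group X] [Finite X] (K C : Subgroup X) [K.Normal] (hd : K ⊓ C = ⊥)
    (hs : K ⊔ C = ⊤) (hK : K ≠ ⊥) (hC : C ≠ ⊥)
    (hf : ∀ c ∈ C, c ≠ 1 → ∀ k ∈ K, Commute c k → k = 1) :
    Cfsg.IsFrobeniusComplement C ∧ Cfsg.frobeniusKernel C = (K : Set X) := by
  have hCK : ∀ c ∈ C, c ∈ K → c = 1 := fun c hc hk => mem_bot.mp (hd ▸ ⟨hk, hc⟩)
  refine ⟨⟨hC, fun e => hK ?_, fun g hg => ?_⟩, ?_⟩
  · rw [e, inf_top_eq] at hd; exact hd
  · rw [eq_bot_iff]
    rintro x ⟨hx, hx'⟩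
    rw [mem_bot]
    obtain ⟨c, hc, rfl⟩ : ∃ c ∈ C, g * c * g⁻¹ = x := by
      obtain ⟨c, hc, he⟩ := hx'
      exact ⟨c, hc, he⟩
    obtain ⟨k, hk, c', hc', rfl⟩ := mem_sup_of_normal_left.mp (hs ▸ mem_top g)
    set c₁ := c' * c * c'⁻¹ with hc₁
    have hc₁C : c₁ ∈ C := C.mul_mem (C.mul_mem hc' hc) (C.inv_mem hc')
    have he : k * c' * c * (k * c')⁻¹ = k * c₁ * k⁻¹ := by rw [hc₁]; group
    rw [he] at hx ⊢
    by_contra hne
    have hc₁1 : c₁ ≠ 1 := fun e => hne (by rw [e, mul_one, mul_inv_cancel])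
    have hkc : Commute c₁ k := by
      have h1 : k * c₁ * k⁻¹ * c₁⁻¹ = 1 := hCK _ (C.mul_mem hx (C.inv_mem hc₁C)) (by
        rw [show k * c₁ * k⁻¹ * c₁⁻¹ = k * (c₁ * k⁻¹ * c₁⁻¹) by group]
        exact K.mul_mem hk ((inferInstance : K.Normal).conj_mem _ (K.inv_mem hk) c₁))
      exact (mul_inv_eq_iff_eq_mul.mp (mul_inv_eq_one.mp h1)).symm
    have hk1 := hf c₁ hc₁C hc₁1 k hk hkc
    exact hg (by rw [hk1, one_mul]; exact hc')
  · ext x
    constructor
    · rintro (rfl | hx)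
      · exact K.one_mem
      by_contra hxK
      obtain ⟨k, hk, c, hc, rfl⟩ := mem_sup_of_normal_left.mp (hs ▸ mem_top x)
      have hc1 : c ≠ 1 := fun e => hxK (by simpa [e] using hk)
      let f : K → K := fun u => ⟨(u : X) * (c * (u : X)⁻¹ * c⁻¹),
        K.mul_mem u.2 ((inferInstance : K.Normal).conj_mem _ (K.inv_mem u.2) c)⟩
      have hfi : Function.Injective f := by
        rintro ⟨a, ha⟩ ⟨b, hb⟩ e
        have e' : a * (c * a⁻¹ * c⁻¹) = b * (c * b⁻¹ * c⁻¹) := congrArg Subtype.val e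
        have hcm : Commute c (b⁻¹ * a) := by
          calc c * (b⁻¹ * a) = b⁻¹ * (b * (c * b⁻¹ * c⁻¹)) * c * a := by group
            _ = b⁻¹ * (a * (c * a⁻¹ * c⁻¹)) * c * a := by rw [e']
            _ = b⁻¹ * a * c := by group
        exact Subtype.ext (inv_mul_eq_one.mp (hf c hc hc1 _ (K.mul_mem (K.inv_mem hb) ha) hcm)).symm
      obtain ⟨⟨u, hu⟩, hfu⟩ := Finite.surjective_of_injective hfi ⟨k, hk⟩
      have e : u * (c * u⁻¹ * c⁻¹) = k := congrArg Subtype.val hfu
      refine hx u ⟨c, hc, ?_⟩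
      show u * c * u⁻¹ = k * c
      rw [← e]; group
    · intro hx
      by_cases hx1 : x = 1
      · exact Or.inl hx1
      refine Or.inr fun g => ?_
      rintro ⟨d, hdC, rfl⟩
      refine hx1 ?_
      have hdK : d ∈ K := by
        have := (inferInstance : K.Normal).conj_mem _ hx g⁻¹
        simpa [mul_assoc] using this
      simp [hCK d hdC hdK]

theorem orderOf_primes_mem {X : Type*} [Group X] [Finite X] {P : ℕ → Prop} {H : Subgroup X}
    (hH : ∀ r : ℕ, r.Prime → r ∣ Nat.card H → P r) {x : X} (hx : x ∈ H) :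
    ∀ r : ℕ, r.Prime → r ∣ orderOf x → P r := fun r hr hd =>
  hH r hr (hd.trans (Subgroup.orderOf_dvd_natCard H hx))

theorem main {G : Type*} [Group G] [Finite G] [Group.IsSolvable G] (σ : Set ℕ)
    (hb : ∃ b ∉ σ, b.Prime ∧ b ∣ Nat.card G) (hsep : Sep (X := G) σ) (hH : Cfsg.piCore σ G ≠ ⊥) :
    (∃ C : Subgroup G, Cfsg.IsFrobeniusComplement C) ∨
    (∃ (H K : Subgroup G) (_ : H.Normal), K.Normal ∧ H < K ∧
      (∃ C : Subgroup ↥K, Cfsg.IsFrobeniusComplement C ∧ Cfsg.frobeniusKernel C = (H.subgroupOf K : Set ↥K)) ∧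
      (∃ C : Subgroup (G ⧸ H), Cfsg.IsFrobeniusComplement C ∧ Cfsg.frobeniusKernel C = (K.map (QuotientGroup.mk' H) : Set (G ⧸ H)))) := by
  classical
  set H := Cfsg.piCore σ G with hHdef
  have hHσ : ∀ r : ℕ, r.Prime → r ∣ Nat.card H → r ∈ σ := CfsgLib.Components.piCore_isPiSubgroup σ
  set π := QuotientGroup.mk' H with hπ
  have hπs : Function.Surjective π := QuotientGroup.mk'_surjective H
  haveI : Nontrivial (G ⧸ H) := by
    rw [QuotientGroup.nontrivial_iff]
    intro e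
    obtain ⟨b, hbσ, hbp, hbd⟩ := hb
    exact hbσ (hHσ b hbp (by rw [e, Subgroup.card_top]; exact hbd))
  haveI : Group.IsSolvable (G ⧸ H) := inferInstance
  set F := Cfsg.fittingSubgroup (G ⧸ H) with hF
  haveI hFn : F.Normal := CfsgLib.Components.fitting_normal
  have hFnil : Group.IsNilpotent F := CfsgLib.Components.fitting_isNilpotent
  have hFne : F ≠ ⊥ := by
    obtain ⟨p, hp, hpc⟩ := CfsgLib.Core.exists_pCore_ne_bot (G := G ⧸ H)
    haveI := Fact.mk hp
    exact fun e => hpc (le_bot_iff.mp (e ▸ CfsgLib.Components.pCore_le_fitting p))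
  have hFτ : ∀ r : ℕ, r.Prime → r ∣ Nat.card F → r ∉ σ := by
    intro r hr hd hrσ
    haveI := Fact.mk hr
    obtain ⟨y, hy⟩ := exists_prime_orderOf_dvd_card' (G := F) r hd
    have hyP : (y : G ⧸ H) ∈ Cfsg.pCore r (G ⧸ H) :=
      CfsgLib.HallGen.mem_pCore_of_mem_nilpotent_normal hFn hFnil y.2 (k := 1)
        (by rw [Subgroup.orderOf_coe, hy, pow_one])
    set P := (Cfsg.pCore r (G ⧸ H)).comap π with hP
    haveI : (Cfsg.pCore r (G ⧸ H)).Normal := CfsgLib.Components.pCore_normal r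
    have hPσ : CfsgLib.Components.IsPiSubgroup σ P := by
      intro s hs hsd
      haveI := Fact.mk hs
      obtain ⟨⟨x, hx⟩, hxo⟩ := exists_prime_orderOf_dvd_card' (G := P) s hsd
      rw [Subgroup.orderOf_mk] at hxo
      by_cases hxH : x ∈ H
      · exact hHσ s hs (hxo ▸ Subgroup.orderOf_dvd_natCard H hxH)
      · have h1 : orderOf (π x) = s := orderOf_eq_prime (by rw [← map_pow, ← hxo, pow_orderOf_eq_one, map_one])
          (fun e => hxH ((QuotientGroup.eq_one_iff x).mp e))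
        obtain ⟨k, hk⟩ := (CfsgLib.Components.pCore_isPGroup (G := G ⧸ H) r) ⟨π x, hx⟩
        have h2 : π x ^ r ^ k = 1 := congrArg Subtype.val hk
        have := (Nat.prime_dvd_prime_iff_eq hs hr).mp (hs.dvd_of_dvd_pow (h1 ▸ orderOf_dvd_of_pow_eq_one h2))
        exact this ▸ hrσ
    have hle : P ≤ H := CfsgLib.Components.le_piCore (Subgroup.Normal.comap inferInstance π) hPσ
    obtain ⟨x, hx⟩ := hπs y
    have h1 : π x = 1 := (QuotientGroup.eq_one_iff x).mpr (hle (show π x ∈ Cfsg.pCore r (G ⧸ H) from hx ▸ hyP))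
    rw [h1] at hx
    rw [show y = 1 from Subtype.ext hx.symm, orderOf_one] at hy
    exact hr.ne_one hy.symm
  set K := F.comap π with hKdef
  haveI hKn : K.Normal := hFn.comap π
  have hHK : H ≤ K := fun x hx => by
    show π x ∈ F
    rw [show π x = 1 from (QuotientGroup.eq_one_iff x).mpr hx]
    exact F.one_mem
  have hKmap : K.map π = F := Subgroup.map_comap_eq_self_of_surjective hπs F
  set H₀ := H.subgroupOf K with hH₀
  have hH₀c : Nat.card H₀ = Nat.card H := Nat.card_congr (Subgroup.subgroupOfEquivOfLe hHK).toEquiv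
  have hH₀i : H₀.index = Nat.card F := by
    rw [Subgroup.index_eq_card,
      ← Nat.card_congr (QuotientGroup.quotientMulEquivOfEq (show (π.comp K.subtype).ker = H₀ by
        rw [hH₀, ← MonoidHom.comap_ker, QuotientGroup.ker_mk']; rfl)).toEquiv,
      Nat.card_congr (QuotientGroup.quotientKerEquivRange (π.comp K.subtype)).toEquiv,
      MonoidHom.range_comp, Subgroup.range_subtype, hKmap]
  have hco : (Nat.card H₀).Coprime H₀.index := by
    rw [hH₀c, hH₀i]
    exact Nat.coprime_of_dvd fun r hr h1 h2 => hFτ r hr h2 (hHσ r hr h1)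
  obtain ⟨T₀, hT₀⟩ := Subgroup.exists_right_complement'_of_coprime hco
  set T := T₀.map K.subtype with hT
  have hTK : T ≤ K := Subgroup.map_subtype_le T₀
  have hTcard : Nat.card T = Nat.card F := by
    have h1 := hT₀.card_mul
    rw [← Subgroup.card_mul_index H₀, hH₀i] at h1
    rw [hT, Subgroup.card_map_of_injective K.subtype_injective]
    exact Nat.eq_of_mul_eq_mul_left Nat.card_pos h1
  have hTτ : ∀ r : ℕ, r.Prime → r ∣ Nat.card T → r ∉ σ := fun r hr hd => hFτ r hr (hTcard ▸ hd)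
  have hTH : ∀ t ∈ T, t ∈ H → t = 1 := by
    intro t ht htH
    have h1 := orderOf_primes_mem hTτ ht
    by_contra hne
    obtain ⟨r, hr, hd⟩ := Nat.exists_prime_and_dvd (n := orderOf t) fun e => hne (orderOf_eq_one_iff.mp e)
    exact h1 r hr hd (orderOf_primes_mem hHσ htH r hr hd)
  have hTne : T ≠ ⊥ := fun e => hFne (Subgroup.eq_bot_of_card_eq _ (by rw [← hTcard, e, Subgroup.card_bot]))
  have hTH' : ∀ t ∈ T, t ≠ 1 → ∀ h ∈ H, Commute t h → h = 1 := fun t ht ht1 h hh hc =>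
    (hsep.free (orderOf_primes_mem hHσ hh) (orderOf_primes_mem hTτ ht) hc.symm).resolve_right ht1
  -- the Frobenius group `K`
  have hKfrob : ∃ C : Subgroup ↥K, Cfsg.IsFrobeniusComplement C ∧
      Cfsg.frobeniusKernel C = (H₀ : Set ↥K) := by
    refine ⟨T₀, frob H₀ T₀ (disjoint_iff.mp hT₀.disjoint) hT₀.sup_eq_top ?_ ?_ ?_⟩
    · intro e
      exact hH (Subgroup.eq_bot_of_card_eq _ (by rw [← hH₀c, e, Subgroup.card_bot]))
    · intro e; exact hTne (by rw [hT, e, Subgroup.map_bot])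
    · intro c hc hc1 k hk hck
      exact Subtype.ext (hTH' c ⟨c, hc, rfl⟩ (fun e => hc1 (Subtype.ext e)) k hk
        (congrArg Subtype.val hck.eq))
  -- the normalizer covers
  set N := Subgroup.normalizer (T : Set G) with hN
  have hcov : ∀ g : G, ∃ h ∈ H, ∃ n ∈ N, g = h * n := by
    intro g
    let T₁ : Subgroup K := (T.map (MulAut.conj g).toMonoidHom).subgroupOf K
    have hle : T.map (MulAut.conj g).toMonoidHom ≤ K := by
      rintro _ ⟨t, ht, rfl⟩; exact hKn.conj_mem t (hTK ht) g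
    have hT₁c : Nat.card T₁ = Nat.card F := by
      rw [Nat.card_congr (Subgroup.subgroupOfEquivOfLe hle).toEquiv,
        Subgroup.card_map_of_injective (MulAut.conj g).injective, hTcard]
    have hT₁ : Subgroup.IsComplement' H₀ T₁ := by
      refine Subgroup.isComplement'_of_coprime ?_ ?_
      · rw [hT₁c, ← hH₀i, H₀.card_mul_index]
      · rw [hT₁c, ← hH₀i]; exact hco
    have hsolv : Group.IsSolvable H₀ ∨ Group.IsSolvable (↥K ⧸ H₀) := Or.inl inferInstance
    obtain ⟨n₀, hn₀, heq⟩ := CfsgLib.Core.exists_conj_complement H₀ hco hsolv hT₀ hT₁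
    refine ⟨n₀, hn₀, (n₀ : G)⁻¹ * g, ?_, by group⟩
    have hsame : ∀ t, t ∈ T → ((n₀ : G)⁻¹ * g) * t * ((n₀ : G)⁻¹ * g)⁻¹ ∈ T := by
      intro t ht
      have hmem : (⟨g * t * g⁻¹, hKn.conj_mem t (hTK ht) g⟩ : K) ∈ T₁ := ⟨t, ht, rfl⟩
      rw [← heq] at hmem
      obtain ⟨s, hs, hse⟩ := hmem
      refine ⟨s, hs, ?_⟩
      have hse' : (n₀ : G) * s * (n₀ : G)⁻¹ = g * t * g⁻¹ := congrArg Subtype.val hse
      show (s : G) = _
      rw [mul_inv_rev, inv_inv, show (n₀ : G)⁻¹ * g * t * (g⁻¹ * n₀) = (n₀ : G)⁻¹ * (g * t * g⁻¹) * n₀ by group,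
        ← hse']
      group
    refine Subgroup.mem_normalizer_iff.mpr fun t => ⟨hsame t, fun h => ?_⟩
    set u := (n₀ : G)⁻¹ * g
    let f : T → T := fun x => ⟨u * x * u⁻¹, hsame x x.2⟩
    have hf : Function.Injective f := fun a b e => Subtype.ext (by
      have e' : u * (a : G) * u⁻¹ = u * b * u⁻¹ := congrArg Subtype.val e
      exact mul_left_cancel (mul_right_cancel e'))
    obtain ⟨⟨t', ht'⟩, he⟩ := Finite.surjective_of_injective hf ⟨_, h⟩
    have he' : u * t' * u⁻¹ = u * t * u⁻¹ := congrArg Subtype.val he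
    rwa [mul_left_cancel (mul_right_cancel he')] at ht'
  have hNH : ∀ n ∈ N, n ∈ H → n = 1 := by
    intro n hn hnH
    obtain ⟨⟨t, ht⟩, ht1⟩ := T.ne_bot_iff_exists_ne_one.mp hTne
    have h1 : n * t * n⁻¹ * t⁻¹ = 1 := hTH _
      (T.mul_mem ((Subgroup.mem_normalizer_iff.mp hn t).mp ht) (T.inv_mem ht)) (by
        rw [show n * t * n⁻¹ * t⁻¹ = n * (t * n⁻¹ * t⁻¹) by group]
        exact H.mul_mem hnH ((inferInstance : H.Normal).conj_mem _ (H.inv_mem hnH) t))
    exact hTH' t ht (fun e => ht1 (Subtype.ext e)) n hnH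
      (mul_inv_eq_iff_eq_mul.mp (mul_inv_eq_one.mp h1)).symm
  by_cases hσQ : ∀ r : ℕ, r.Prime → r ∣ Nat.card (G ⧸ H) → r ∉ σ
  · -- `G` is Frobenius
    have hNτ : ∀ n ∈ N, ∀ r : ℕ, r.Prime → r ∣ orderOf n → r ∉ σ := by
      intro n hn r hr hd
      refine hσQ r hr (hd.trans ?_)
      have : orderOf (π n) = orderOf n := by
        refine Nat.dvd_antisymm (orderOf_map_dvd π n) (orderOf_dvd_of_pow_eq_one (hNH _ (N.pow_mem hn _) ?_))
        rw [← QuotientGroup.eq_one_iff]
        show π (n ^ orderOf (π n)) = 1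
        rw [map_pow, pow_orderOf_eq_one]
      exact this ▸ orderOf_dvd_natCard (π n)
    refine Or.inl ⟨N, (frob H N ?_ ?_ hH ?_ ?_).1⟩
    · exact eq_bot_iff.mpr fun x hx => Subgroup.mem_bot.mpr (hNH x hx.2 hx.1)
    · rw [eq_top_iff]
      intro g _
      obtain ⟨h, hh, n, hn, rfl⟩ := hcov g
      exact mul_mem (Subgroup.mem_sup_left hh) (Subgroup.mem_sup_right hn)
    · intro e
      exact hTne (le_bot_iff.mp (e ▸ Subgroup.le_normalizer))
    · intro c hc hc1 k hk hck
      exact (hsep.free (orderOf_primes_mem hHσ hk) (hNτ c hc) hck.symm).resolve_right hc1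
  right
  push Not at hσQ
  obtain ⟨r, hr, hrd, hrσ⟩ := hσQ
  haveI := Fact.mk hr
  -- separation descends to the quotient
  let ψ : N →* G ⧸ H := π.comp N.subtype
  have hψi : Function.Injective ψ := by
    rw [injective_iff_map_eq_one]
    intro n hn
    exact Subtype.ext (hNH n n.2 ((QuotientGroup.eq_one_iff (n : G)).mp hn))
  have hψs : Function.Surjective ψ := by
    intro q
    obtain ⟨g, rfl⟩ := hπs q
    obtain ⟨h, hh, n, hn, rfl⟩ := hcov g
    refine ⟨⟨n, hn⟩, ?_⟩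
    show π n = π (h * n)
    rw [map_mul, show π h = 1 from (QuotientGroup.eq_one_iff h).mpr hh, one_mul]
  have hsepQ : Sep (X := G ⧸ H) σ := by
    intro x y hx hxσ hy hyσ hc
    obtain ⟨a, rfl⟩ := hψs x
    obtain ⟨b, rfl⟩ := hψs y
    rw [orderOf_injective ψ hψi, ← Subgroup.orderOf_coe] at hx hxσ hy hyσ
    refine hsep (a : G) b hx hxσ hy hyσ ?_
    exact congrArg Subtype.val (hψi (by rw [map_mul, map_mul]; exact hc) : a * b = b * a)
  obtain ⟨s, hs⟩ := exists_prime_orderOf_dvd_card' (G := G ⧸ H) r hrd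
  have hsσ : ∀ t : ℕ, t.Prime → t ∣ orderOf s → t ∈ σ := fun t ht hd => by
    rw [hs] at hd; exact (Nat.prime_dvd_prime_iff_eq ht hr).mp hd ▸ hrσ
  have hs1 : s ≠ 1 := fun e => hr.ne_one (by rw [← hs, e, orderOf_one])
  have hsF : ∀ f ∈ F, Commute s f → f = 1 := fun f hf hc =>
    (hsepQ.free hsσ (orderOf_primes_mem hFτ hf) hc).resolve_left hs1
  -- `F` is cyclic
  haveI hFc : IsCyclic F := by
    have hTH'' : ∀ t ∈ T, t ≠ 1 → H ⊓ Subgroup.centralizer {t} = ⊥ := fun t ht ht1 =>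
      eq_bot_iff.mpr fun h hh => Subgroup.mem_bot.mpr (hTH' t ht ht1 h hh.1
        (Subgroup.mem_centralizer_singleton_iff.mp hh.2).symm)
    have hTn : T ≤ Subgroup.normalizer (H : Set G) := by
      rw [Subgroup.normalizer_eq_top_iff.mpr (inferInstance : H.Normal)]; exact le_top
    have hodd : ¬ 2 ∣ Nat.card T := by
      intro h2
      obtain ⟨⟨z, hz, hz2, huniq, -⟩, -⟩ := CfsgLib.Core.FPF.exists_unique_involution hTn hTH'' hH h2
      have hzK : π z ∈ F := hTK hz
      obtain ⟨n, hn⟩ := hψs s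
      have hc : (n : G) * z * (n : G)⁻¹ = z := huniq _ ((Subgroup.mem_normalizer_iff.mp n.2 z).mp hz)
        (hz2 ▸ (MulAut.conj (n : G)).orderOf_eq z)
      have h1 : π z = 1 := hsF _ hzK (by
        rw [← hn]
        show π n * π z = π z * π n
        rw [← map_mul, ← map_mul, mul_inv_eq_iff_eq_mul.mp hc])
      rw [hTH z hz ((QuotientGroup.eq_one_iff z).mp h1), orderOf_one] at hz2
      omega
    haveI := CfsgLib.Core.FPF.isZGroup_of_odd hTn hTH'' hH hodd
    let e : T →* F := (π.comp T.subtype).codRestrict F fun t => hTK t.2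
    have he : Function.Bijective e := by
      refine ⟨fun a b h => Subtype.ext ?_, ?_⟩
      · have h' : π a = π b := congrArg Subtype.val h
        refine (inv_mul_eq_one.mp (hTH _ (T.mul_mem (T.inv_mem a.2) b.2) ?_))
        exact QuotientGroup.eq.mp h'
      · exact ((Nat.bijective_iff_injective_and_card e).mpr ⟨fun a b h => Subtype.ext (by
          have h' : π a = π b := congrArg Subtype.val h
          exact inv_mul_eq_one.mp (hTH _ (T.mul_mem (T.inv_mem a.2) b.2) (QuotientGroup.eq.mp h'))),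
          hTcard⟩).2
    haveI : Group.IsNilpotent T := Group.nilpotent_of_mulEquiv (MulEquiv.ofBijective e he).symm
    exact isCyclic_of_surjective e he.2
  -- the commutator subgroup lies in `F`
  have hQ' : commutator (G ⧸ H) ≤ F := by
    refine le_trans ?_ (CfsgLib.Components.centralizer_fitting_le_of_isSolvable (G := G ⧸ H))
    rw [_root_.commutator_def, Subgroup.commutator_le]
    intro a _ b _
    rw [Subgroup.mem_centralizer_iff]
    intro f hf
    have hpw : ∀ g : G ⧸ H, ∃ i : ℤ, ∀ f ∈ F, g * f * g⁻¹ = f ^ i := by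
      intro g
      let c : F →* F := MonoidHom.mk' (fun f => ⟨g * f * g⁻¹, hFn.conj_mem _ f.2 g⟩) fun x y =>
        Subtype.ext (by simp [mul_assoc])
      obtain ⟨i, hi⟩ := c.map_cyclic
      refine ⟨i, fun f hf => ?_⟩
      have h := congrArg Subtype.val (hi ⟨f, hf⟩)
      rw [Subgroup.coe_zpow] at h
      exact h
    obtain ⟨i, hi⟩ := hpw a
    obtain ⟨j, hj⟩ := hpw b
    set f' := a⁻¹ * (b⁻¹ * f * b) * a with hf'
    have hf'F : f' ∈ F := by
      have h1 := hFn.conj_mem _ hf b⁻¹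
      rw [inv_inv b] at h1
      have h2 := hFn.conj_mem _ h1 a⁻¹
      rw [inv_inv a] at h2
      exact h2
    have hab' : a * (b * f' * b⁻¹) * a⁻¹ = b * (a * f' * a⁻¹) * b⁻¹ := by
      rw [hj f' hf'F, hi f' hf'F, hi _ (F.zpow_mem hf'F j), hj _ (F.zpow_mem hf'F i)]
      exact (zpow_mul f' j i).symm.trans ((congrArg (f' ^ ·) (mul_comm j i)).trans (zpow_mul f' i j))
    have hr1 : b * (a * f' * a⁻¹) * b⁻¹ = f := by rw [hf']; group
    rw [hr1] at hab'
    calc f * ⁅a, b⁆ = a * (b * f' * b⁻¹) * a⁻¹ * (a * b * a⁻¹ * b⁻¹) := by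
          rw [hab', commutatorElement_def]
      _ = ⁅a, b⁆ * (b * (a * f' * a⁻¹) * b⁻¹) := by rw [commutatorElement_def]; group
      _ = ⁅a, b⁆ * f := by rw [hr1]
  -- the primes outside `σ` are used up in `F`
  have hidx : ∀ t : ℕ, t.Prime → t ∣ F.index → t ∈ σ := by
    intro t ht htd
    by_contra htσ
    haveI := Fact.mk ht
    obtain ⟨P⟩ : Nonempty (Sylow t (G ⧸ H)) := inferInstance
    have hPF : (P : Subgroup (G ⧸ H)) ≤ F := by
      intro y hy
      set M := F ⊔ Subgroup.zpowers y with hM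
      have hMn : M.Normal := Subgroup.Normal.of_commutator_le (G ⧸ H) (hQ'.trans le_sup_left)
      have hyτ : ∀ u : ℕ, u.Prime → u ∣ orderOf y → u ∉ σ := fun u hu hd => by
        obtain ⟨k, hk⟩ := P.isPGroup' ⟨y, hy⟩
        have h' : y ^ t ^ k = 1 := congrArg Subtype.val hk
        rw [(Nat.prime_dvd_prime_iff_eq hu ht).mp (hu.dvd_of_dvd_pow (hd.trans (orderOf_dvd_of_pow_eq_one h')))]
        exact htσ
      have hMτ : ∀ u : ℕ, u.Prime → u ∣ Nat.card M → u ∉ σ := by
        intro u hu hd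
        haveI := Fact.mk hu
        obtain ⟨⟨m, hm⟩, hmo⟩ := exists_prime_orderOf_dvd_card' (G := M) u hd
        rw [Subgroup.orderOf_mk] at hmo
        by_cases hmF : m ∈ F
        · exact hFτ u hu (hmo ▸ Subgroup.orderOf_dvd_natCard F hmF)
        · obtain ⟨f, hf, w, hw, rfl⟩ := Subgroup.mem_sup_of_normal_left.mp hm
          obtain ⟨i, rfl⟩ := Subgroup.mem_zpowers_iff.mp hw
          have h1 : orderOf ((f * y ^ i : G ⧸ H) : (G ⧸ H) ⧸ F) = u := orderOf_eq_prime
            (by rw [← QuotientGroup.mk_pow, ← hmo, pow_orderOf_eq_one]; rfl)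
            (fun e => hmF ((QuotientGroup.eq_one_iff _).mp e))
          have h2 : orderOf ((f * y ^ i : G ⧸ H) : (G ⧸ H) ⧸ F) ∣ orderOf y := by
            rw [QuotientGroup.mk_mul, (QuotientGroup.eq_one_iff f).mpr hf, one_mul]
            exact (orderOf_map_dvd (QuotientGroup.mk' F) (y ^ i)).trans
              (orderOf_dvd_of_pow_eq_one (by
                rw [← zpow_natCast, ← zpow_mul, mul_comm, zpow_mul, zpow_natCast, pow_orderOf_eq_one, one_zpow]))
          exact hyτ u hu (h1 ▸ h2)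
      have hmemF : ∀ u ∈ M, u⁻¹ * (s * u * s⁻¹) ∈ F := fun u _ => hQ' (by
        rw [show u⁻¹ * (s * u * s⁻¹) = ⁅u⁻¹, s⁆ by rw [commutatorElement_def]; group,
          _root_.commutator_def]
        exact Subgroup.commutator_mem_commutator (Subgroup.mem_top _) (Subgroup.mem_top _))
      let f : M → F := fun u => ⟨(u : G ⧸ H)⁻¹ * (s * u * s⁻¹), hmemF u u.2⟩
      have hfi : Function.Injective f := by
        rintro ⟨u, hu⟩ ⟨v, hv⟩ e
        have e' : u⁻¹ * (s * u * s⁻¹) = v⁻¹ * (s * v * s⁻¹) := congrArg Subtype.val e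
        have hc : Commute s (v * u⁻¹) := by
          calc s * (v * u⁻¹) = v * (v⁻¹ * (s * v * s⁻¹)) * (u⁻¹ * (s * u * s⁻¹))⁻¹ * u⁻¹ * s := by group
            _ = v * (u⁻¹ * (s * u * s⁻¹)) * (u⁻¹ * (s * u * s⁻¹))⁻¹ * u⁻¹ * s := by rw [e']
            _ = v * u⁻¹ * s := by group
        exact Subtype.ext (mul_inv_eq_one.mp ((hsepQ.free hsσ
          (orderOf_primes_mem hMτ (M.mul_mem hv (M.inv_mem hu))) hc).resolve_left hs1)).symm
      have hMF : F = M := Subgroup.eq_of_le_of_card_ge le_sup_left (Nat.card_le_card_of_injective f hfi)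
      rw [hMF]
      exact Subgroup.mem_sup_right (Subgroup.mem_zpowers y)
    exact P.not_dvd_index (htd.trans (Subgroup.index_dvd_of_le hPF))
  have hcoF : (Nat.card F).Coprime F.index :=
    Nat.coprime_of_dvd fun t ht h1 h2 => hFτ t ht h1 (hidx t ht h2)
  obtain ⟨R, hR⟩ := Subgroup.exists_right_complement'_of_coprime hcoF
  have hRc : Nat.card R = F.index := by
    have h1 := hR.card_mul
    rw [← Subgroup.card_mul_index F] at h1
    exact Nat.eq_of_mul_eq_mul_left Nat.card_pos h1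
  have hRne : R ≠ ⊥ := by
    intro e
    have h1 : F.index = 1 := by rw [← hRc, e, Subgroup.card_bot]
    have h2 : s ∈ F := (Subgroup.index_eq_one.mp h1) ▸ Subgroup.mem_top s
    exact hs1 (hsF s h2 (Commute.refl s))
  refine ⟨H, K, inferInstance, hKn, lt_of_le_of_ne hHK ?_, hKfrob, ⟨R, ?_⟩⟩
  · intro e
    refine hFne ?_
    rw [← hKmap, ← e, Subgroup.map_eq_bot_iff, QuotientGroup.ker_mk']
  · rw [hKmap]
    refine frob F R (disjoint_iff.mp hR.disjoint) hR.sup_eq_top hFne hRne fun c hc hc1 k hk hck => ?_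
    exact (hsepQ.free (orderOf_primes_mem (fun t ht hd => hidx t ht (hRc ▸ hd)) hc)
      (orderOf_primes_mem hFτ hk) hck).resolve_left hc1

/-- A finite solvable group whose prime graph (prime divisors of the order, two distinct primes joined when there is an element of order their product) is disconnected is a Frobenius group or a 2-Frobenius group (it has normal subgroups H < K with K a Frobenius group with kernel H and G/H a Frobenius group with kernel K/H). -/
theorem result {G : Type*} [Group G] [Finite G] (hsol : Group.IsSolvable G)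
    (hdisc : (∃ A : Set ℕ, (∃ a ∈ A, a.Prime ∧ a ∣ Nat.card G) ∧ (∃ b ∉ A, b.Prime ∧ b ∣ Nat.card G) ∧
      ∀ a ∈ A, ∀ b ∉ A, a.Prime → b.Prime → a ∣ Nat.card G → b ∣ Nat.card G → ¬ ∃ g : G, orderOf g = a * b)) :
    (∃ C : Subgroup G, Cfsg.IsFrobeniusComplement C) ∨
    (∃ (H K : Subgroup G) (_ : H.Normal), K.Normal ∧ H < K ∧
      (∃ C : Subgroup ↥K, Cfsg.IsFrobeniusComplement C ∧ Cfsg.frobeniusKernel C = (H.subgroupOf K : Set ↥K)) ∧
      (∃ C : Subgroup (G ⧸ H), Cfsg.IsFrobeniusComplement C ∧ Cfsg.frobeniusKernel C = (K.map (QuotientGroup.mk' H) : Set (G ⧸ H)))) := by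
  classical
  obtain ⟨A, ⟨a, haA, hap, had⟩, ⟨b, hbA, hbp, hbd⟩, hno⟩ := hdisc
  haveI := hsol
  haveI : Nontrivial G := Finite.one_lt_card_iff_nontrivial.mp
    (lt_of_lt_of_le hap.one_lt (Nat.le_of_dvd Nat.card_pos had))
  have hsep : Sep (X := G) A := by
    intro x y hx hxA hy hyA hc
    refine hno _ hxA _ hyA hx hy (orderOf_dvd_natCard x) (orderOf_dvd_natCard y) ⟨x * y, ?_⟩
    exact hc.orderOf_mul_eq_mul_orderOf_of_coprime ((Nat.coprime_primes hx hy).mpr fun e => hyA (e ▸ hxA))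
  have hsep' : Sep (X := G) Aᶜ := fun x y hx hxA hy hyA hc =>
    hsep y x hy (Set.notMem_compl_iff.mp hyA) hx hxA hc.symm
  obtain ⟨p, hp, hpc⟩ := CfsgLib.Core.exists_pCore_ne_bot (G := G)
  haveI := Fact.mk hp
  have hne : ∀ σ : Set ℕ, p ∈ σ → Cfsg.piCore σ G ≠ ⊥ := by
    intro σ hpσ e
    refine hpc (le_bot_iff.mp (e ▸ CfsgLib.Components.le_piCore (CfsgLib.Components.pCore_normal p) ?_))
    intro r hr hd
    obtain ⟨k, hk⟩ := IsPGroup.iff_card.mp (CfsgLib.Components.pCore_isPGroup (G := G) p)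
    rw [hk] at hd
    exact (Nat.prime_dvd_prime_iff_eq hr hp).mp (hr.dvd_of_dvd_pow hd) ▸ hpσ
  by_cases hpA : p ∈ A
  · exact main A ⟨b, hbA, hbp, hbd⟩ hsep (hne A hpA)
  · exact main Aᶜ ⟨a, fun h => h haA, hap, had⟩ hsep' (hne Aᶜ hpA)

end Cfsg.Agent.S3857
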