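import Cfsg.Statements.S3858
import Mathlib
import Cfsg.Agent.Lib.Transfer.Conj

set_option autoImplicit false
open Cfsg

namespace Cfsg.Agent.S3858

open scoped Pointwise

theorem conj_coatom {G : Type*} [Group G] {M : Subgroup G} (hM : IsCoatom M) (g : G) :
    IsCoatom (M.map (MulAut.conj g).toMonoidHom) :=
  ((MulAut.conj g).mapSubgroup.isCoatom_iff M).mpr hM

theorem map_conj_mul {G : Type*} [Group G] (M : Subgroup G) (g h : G) :
    M.map (MulAut.conj (g * h)).toMonoidHom =
      (M.map (MulAut.conj h).toMonoidHom).map (MulAut.conj g).toMonoidHom := by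
  rw [Subgroup.map_map]; congr 1; ext y; simp [mul_assoc]

theorem map_conj_one {G : Type*} [Group G] (M : Subgroup G) :
    M.map (MulAut.conj (1 : G)).toMonoidHom = M := by
  ext y; simp

theorem exists_conj_ge {G : Type*} [Group G] [Finite G] {r : ℕ} [Fact r.Prime] (R : Sylow r G)
    {M : Subgroup G} (hM : ¬ r ∣ M.index) :
    ∃ g : G, (R : Subgroup G) ≤ M.map (MulAut.conj g).toMonoidHom := by
  obtain ⟨Q⟩ : Nonempty (Sylow r M) := inferInstance
  obtain ⟨S, hS⟩ := (Q.isPGroup'.map M.subtype).exists_le_sylow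
  have hcard : Nat.card S ≤ Nat.card ((Q : Subgroup M).map M.subtype) := by
    rw [Subgroup.card_subtype, S.card_eq_multiplicity, Q.card_eq_multiplicity]
    refine Nat.pow_le_pow_right (Fact.out : r.Prime).pos (le_of_eq ?_)
    rw [← M.card_mul_index, Nat.factorization_mul Nat.card_pos.ne' Subgroup.index_ne_zero_of_finite]
    simp [Nat.factorization_eq_zero_of_not_dvd hM]
  have hSM : (S : Subgroup G) ≤ M :=
    (Subgroup.eq_of_le_of_card_ge hS hcard).ge.trans (Subgroup.map_subtype_le _)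
  obtain ⟨g, hg⟩ := MulAction.exists_smul_eq G S R
  refine ⟨g, ?_⟩
  rw [← hg]
  exact Subgroup.map_mono hSM

/-- Let G be a finite group with a normal non-abelian simple subgroup T whose centralizer is trivial (G almost simple with socle T), r a prime and R a Sylow r-subgroup of G meeting T nontrivially. Then R lies in exactly one maximal subgroup of G if and only if G has exactly one conjugacy class of maximal subgroups whose index is prime to r. -/
theorem result {G : Type*} [Group G] [Finite G] (T : Subgroup G) [T.Normal] (hT : IsSimpleGroup T) (hna : ¬ IsMulCommutative T)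
    (hC : Subgroup.centralizer (T : Set G) = ⊥) {r : ℕ} [Fact r.Prime] (R : Sylow r G) (hR0 : (R : Subgroup G) ⊓ T ≠ ⊥) :
    (∃! M : Subgroup G, IsCoatom M ∧ (R : Subgroup G) ≤ M) ↔
      ((∃ M : Subgroup G, IsCoatom M ∧ ¬ r ∣ M.index) ∧
        ∀ M₁ M₂ : Subgroup G, IsCoatom M₁ → ¬ r ∣ M₁.index → IsCoatom M₂ → ¬ r ∣ M₂.index → ∃ g : G, M₂ = M₁.map (MulAut.conj g).toMonoidHom) := by
  have hRM : ∀ M : Subgroup G, (R : Subgroup G) ≤ M → ¬ r ∣ M.index := fun M h hd =>
    R.not_dvd_index (hd.trans (Subgroup.index_dvd_of_le h))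
  constructor
  · rintro ⟨M, ⟨hM, hle⟩, huniq⟩
    refine ⟨⟨M, hM, hRM M hle⟩, fun M₁ M₂ h₁ i₁ h₂ i₂ => ?_⟩
    obtain ⟨g₁, hg₁⟩ := exists_conj_ge R i₁
    obtain ⟨g₂, hg₂⟩ := exists_conj_ge R i₂
    have e : M₂.map (MulAut.conj g₂).toMonoidHom = M₁.map (MulAut.conj g₁).toMonoidHom :=
      (huniq _ ⟨conj_coatom h₂ g₂, hg₂⟩).trans (huniq _ ⟨conj_coatom h₁ g₁, hg₁⟩).symm
    refine ⟨g₂⁻¹ * g₁, ?_⟩
    rw [map_conj_mul, ← e, ← map_conj_mul, inv_mul_cancel, map_conj_one]
  · rintro ⟨-, hconj⟩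
    have hN : Subgroup.normalizer ((R : Subgroup G) : Set G) ≠ ⊤ := by
      intro h
      haveI : (R : Subgroup G).Normal := Subgroup.normalizer_eq_top_iff.mp h
      haveI := hT
      rcases IsSimpleGroup.eq_bot_or_eq_top_of_normal ((R : Subgroup G).subgroupOf T)
        inferInstance with h1 | h1
      · rw [Subgroup.subgroupOf_eq_bot, disjoint_iff] at h1
        exact hR0 h1
      · refine hna ?_
        haveI : Group.IsNilpotent T :=
          (R.isPGroup'.to_le (Subgroup.subgroupOf_eq_top.mp h1)).isNilpotent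
        exact Group.IsNilpotent.nilpotencyClass_le_one_iff.mp
          Group.nilpotencyClass_le_one_of_isSimple_of_isNilpotent
    obtain ⟨M, hM, hNM⟩ := (eq_top_or_exists_le_coatom _).resolve_left hN
    have hRle : (R : Subgroup G) ≤ M := Subgroup.le_normalizer.trans hNM
    refine ⟨M, ⟨hM, hRle⟩, ?_⟩
    rintro M₂ ⟨hM₂, hle₂⟩
    obtain ⟨g, rfl⟩ := hconj M M₂ hM (hRM M hRle) hM₂ (hRM M₂ hle₂)
    -- `R` and `g⁻¹ R g` are both contained in `M`
    have hle' : ((g⁻¹ • R : Sylow r G) : Subgroup G) ≤ M := by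
      rintro _ ⟨x, hx, rfl⟩
      obtain ⟨y, hy, e⟩ := hle₂ hx
      have : (MulAut.conj g⁻¹) x = y := by
        simp only [MulEquiv.coe_toMonoidHom, MulAut.conj_apply] at e
        rw [MulAut.conj_apply, inv_inv, ← e]; group
      exact this ▸ hy
    obtain ⟨m, hm⟩ := MulAction.exists_smul_eq M ((g⁻¹ • R : Sylow r G).subtype hle') (R.subtype hRle)
    have hmg : (m : G) * g⁻¹ ∈ Subgroup.normalizer ((R : Subgroup G) : Set G) := by
      rw [Sylow.smul_subtype] at hm
      have h2 := Sylow.subtype_injective hm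
      rw [Sylow.coe_coe, ← Sylow.smul_eq_iff_mem_normalizer, mul_smul]
      exact h2
    have hgM : g ∈ M := by
      have h3 := mul_mem (inv_mem m.2) (hNM hmg)
      rw [inv_mul_cancel_left] at h3
      simpa using inv_mem h3
    exact CfsgLib.Transfer.map_conj_eq_self_iff.mpr (Subgroup.le_normalizer hgM)

end Cfsg.Agent.S3858
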