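import Cfsg.Statements.S3859
import Mathlib
import Cfsg.Agent.Lib.Transfer.Conj

set_option autoImplicit false
open Cfsg

namespace Cfsg.Agent.S3859

/-- Let G be a finite group with a normal non-abelian simple subgroup T whose centralizer is trivial (G almost simple with socle T), r a prime and R a Sylow r-subgroup of G meeting T nontrivially. If R lies in exactly one maximal subgroup of G, then G/T is an r-group. -/
theorem result {G : Type*} [Group G] [Finite G] (T : Subgroup G) [T.Normal] (hT : IsSimpleGroup T) (hna : ¬ IsMulCommutative T)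
    (hC : Subgroup.centralizer (T : Set G) = ⊥) {r : ℕ} [Fact r.Prime] (R : Sylow r G) (hR0 : (R : Subgroup G) ⊓ T ≠ ⊥)
    (huniq : ∃! M : Subgroup G, IsCoatom M ∧ (R : Subgroup G) ≤ M) : IsPGroup r (G ⧸ T) := by
  obtain ⟨M, ⟨hM, hRM⟩, huniq⟩ := huniq
  set D := (R : Subgroup G) ⊓ T with hD
  have hN : Subgroup.normalizer (D : Set G) ≠ ⊤ := by
    intro h
    haveI : D.Normal := Subgroup.normalizer_eq_top_iff.mp h
    haveI := hT
    rcases IsSimpleGroup.eq_bot_or_eq_top_of_normal (D.subgroupOf T) inferInstance with h1 | h1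
    · rw [Subgroup.subgroupOf_eq_bot, disjoint_iff] at h1
      exact hR0 (by rwa [inf_eq_left.mpr (inf_le_right : D ≤ T)] at h1)
    · refine hna ?_
      haveI : Group.IsNilpotent T :=
        (R.isPGroup'.to_le ((Subgroup.subgroupOf_eq_top.mp h1).trans inf_le_left)).isNilpotent
      exact Group.IsNilpotent.nilpotencyClass_le_one_iff.mp
        Group.nilpotencyClass_le_one_of_isSimple_of_isNilpotent
  have hRN : (R : Subgroup G) ≤ Subgroup.normalizer (D : Set G) :=
    (le_inf Subgroup.le_normalizer Subgroup.le_normalizer_of_normal).trans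
      (CfsgLib.Transfer.normalizer_le_normalizer_inf (H := (R : Subgroup G)) (K := T))
  have hNM : Subgroup.normalizer (D : Set G) ≤ M := by
    obtain ⟨M', hM', hle⟩ := (eq_top_or_exists_le_coatom _).resolve_left hN
    exact huniq M' ⟨hM', hRN.trans hle⟩ ▸ hle
  have hTR : T ⊔ (R : Subgroup G) = ⊤ := by
    by_contra hne
    obtain ⟨M', hM', hle⟩ := (eq_top_or_exists_le_coatom _).resolve_left hne
    have hMM : M' = M := huniq M' ⟨hM', le_sup_right.trans hle⟩
    subst hMM
    have hTM : T ≤ M' := le_sup_left.trans hle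
    refine hM'.1 (top_le_iff.mp ?_)
    obtain ⟨Q, hQ⟩ := (R.isPGroup'.to_le (inf_le_left : D ≤ R)).comap_subtype (K := T)
      |>.exists_le_sylow
    have hQD : (Q : Subgroup T).map T.subtype = D := by
      refine (Subgroup.eq_of_le_of_card_ge ?_ ?_).symm
      · exact fun x hx => ⟨⟨x, hx.2⟩, hQ (show (⟨x, hx.2⟩ : T) ∈ D.comap T.subtype from hx), rfl⟩
      · obtain ⟨S, hS⟩ := (Q.isPGroup'.map T.subtype).exists_le_sylow
        obtain ⟨g, rfl⟩ := MulAction.exists_smul_eq G R S
        refine le_trans (Subgroup.card_le_of_le (K := D.map (MulAut.conj g).toMonoidHom) ?_)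
          (CfsgLib.Transfer.card_map_conj g D).le
        rintro x hx
        have hxT : x ∈ T := Subgroup.map_subtype_le _ hx
        obtain ⟨y, hy, rfl⟩ := hS hx
        refine ⟨y, ⟨hy, ?_⟩, rfl⟩
        have := Subgroup.Normal.conj_mem' (inferInstance : T.Normal) _ hxT g
        simpa [mul_assoc] using this
    have := Q.normalizer_sup_eq_top
    rw [hQD] at this
    rw [← this]
    exact sup_le hNM hTM
  exact (R.isPGroup'.of_surjective
    ((QuotientGroup.mk' T).comp (R : Subgroup G).subtype) (by
      intro q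
      obtain ⟨g, rfl⟩ := QuotientGroup.mk'_surjective T q
      have hg : g ∈ T ⊔ (R : Subgroup G) := hTR ▸ Subgroup.mem_top g
      rw [Subgroup.mem_sup_of_normal_left] at hg
      obtain ⟨t, ht, x, hx, rfl⟩ := hg
      exact ⟨⟨x, hx⟩, by simp [(QuotientGroup.eq_one_iff t).mpr ht]⟩))

end Cfsg.Agent.S3859
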