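import Cfsg.Statements.S3863
import Mathlib

set_option autoImplicit false
open Cfsg

namespace Cfsg.Agent.S3863

theorem pow_conj_inv {G : Type*} [Group G] {g x : G} (hg : g * x * g⁻¹ = x⁻¹) :
    ∀ n : ℕ, g ^ n * x * (g ^ n)⁻¹ = if Even n then x else x⁻¹ := by
  intro n
  induction n with
  | zero => simp
  | succ n ih =>
    have : g ^ (n + 1) * x * (g ^ (n + 1))⁻¹ = g * (g ^ n * x * (g ^ n)⁻¹) * g⁻¹ := by
      rw [pow_succ']; group
    rw [this, ih]
    rcases Nat.even_or_odd n with h | h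
    · simp [h, Nat.even_add_one, hg]
    · have hi : g * x⁻¹ * g⁻¹ = x := by
        rw [← inv_inj]; simpa [mul_assoc] using hg
      simp [Nat.not_even_iff_odd.mpr h, Nat.even_add_one, hi]

/-- Let x be an element of the finite group G that is conjugate to its inverse. Then some 2-element conjugates x to its inverse; if the conjugacy class of x has odd size then x ^ 2 = 1; and x lies in, and is conjugate to its inverse inside, every normal subgroup of odd index. -/
theorem result {G : Type*} [Group G] [Finite G] (x : G) (hx : IsConj x x⁻¹) : (∃ t : G, (∃ j : ℕ, orderOf t = 2 ^ j) ∧ t * x * t⁻¹ = x⁻¹) ∧ (Odd (Subgroup.centralizer ({x} : Set G)).index → x ^ 2 = 1) ∧ ∀ (N : Subgroup G) [N.Normal], Odd N.index → ∃ hxN : x ∈ N, IsConj (⟨x, hxN⟩ : N) (⟨x, hxN⟩ : N)⁻¹ := by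
  obtain ⟨g, hg⟩ := isConj_iff.mp hx
  obtain ⟨j, m, hm, hord⟩ := Nat.exists_eq_pow_mul_and_not_dvd (orderOf_pos g).ne' 2 (by norm_num)
  have hmo : Odd m := Nat.odd_iff.mpr (by omega)
  have ht : g ^ m * x * (g ^ m)⁻¹ = x⁻¹ := by
    rw [pow_conj_inv hg, if_neg (Nat.not_even_iff_odd.mpr hmo)]
  have ht2 : ∃ i, orderOf (g ^ m) = 2 ^ i :=
    ⟨j, by rw [orderOf_pow, hord, Nat.gcd_eq_right (dvd_mul_left m _),
      Nat.mul_div_cancel _ (Nat.pos_of_ne_zero (by omega))]⟩
  refine ⟨⟨g ^ m, ht2, ht⟩, ?_, ?_⟩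
  · intro hodd
    let O := MulAction.orbit (ConjAct G) x
    have hinv : ∀ y ∈ O, y⁻¹ ∈ O := by
      rintro _ ⟨c, rfl⟩
      refine ⟨c * ConjAct.toConjAct g, ?_⟩
      simp only [ConjAct.smul_def, map_mul, ConjAct.ofConjAct_toConjAct]
      rw [show ∀ a : G, a * g * x * (a * g)⁻¹ = a * (g * x * g⁻¹) * a⁻¹ from fun a => by group, hg]
      group
    haveI : Fintype O := Fintype.ofFinite _
    let σ : Equiv.Perm O :=
      { toFun := fun y => ⟨(y : G)⁻¹, hinv y y.2⟩
        invFun := fun y => ⟨(y : G)⁻¹, hinv y y.2⟩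
        left_inv := fun y => by simp
        right_inv := fun y => by simp }
    have hcard : Fintype.card O = (Subgroup.centralizer ({x} : Set G)).index := by
      rw [← Nat.card_eq_fintype_card, Nat.card_coe_set_eq, ← MulAction.index_stabilizer,
        ConjAct.stabilizer_eq_centralizer]
      rfl
    obtain ⟨⟨y, hy⟩, hfy⟩ := Equiv.Perm.exists_fixed_point_of_prime (p := 2) (n := 1) (σ := σ)
      (by rw [hcard]; exact hodd.not_two_dvd_nat) (by ext y; simp [σ, pow_two])
    have hyy : y⁻¹ = y := congrArg Subtype.val hfy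
    obtain ⟨c, hc⟩ := hy
    simp only [ConjAct.smul_def] at hc
    have : x = (ConjAct.ofConjAct c)⁻¹ * y * ConjAct.ofConjAct c := by rw [← hc]; group
    rw [sq, mul_eq_one_iff_eq_inv, this]
    conv_rhs => rw [← hyy]
    group
  · intro N _ hN
    have h1 : ∀ z : G, (∃ i, orderOf z = 2 ^ i) → z ∈ N := by
      rintro z ⟨i, hi⟩
      rw [← QuotientGroup.eq_one_iff, ← orderOf_eq_one_iff]
      have hd : orderOf (z : G ⧸ N) ∣ 2 ^ i := hi ▸ orderOf_map_dvd (QuotientGroup.mk' N) z
      refine Nat.eq_one_of_dvd_coprimes ?_ hd (Subgroup.index_eq_card N ▸ orderOf_dvd_natCard _)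
      exact Nat.Coprime.pow_left _ (Nat.coprime_two_left.mpr hN)
    have htN : g ^ m ∈ N := h1 _ ht2
    have hxN : x ∈ N := by
      rw [← QuotientGroup.eq_one_iff, ← orderOf_eq_one_iff]
      have hx2 : (x : G ⧸ N) ^ 2 = 1 := by
        have := congrArg (QuotientGroup.mk' N) ht
        simp only [map_mul, map_inv, QuotientGroup.mk'_apply, (QuotientGroup.eq_one_iff _).mpr htN,
          one_mul, inv_one, mul_one] at this
        rw [sq]; exact mul_eq_one_iff_eq_inv.mpr this
      exact Nat.eq_one_of_dvd_coprimes (Nat.coprime_two_left.mpr hN)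
        (orderOf_dvd_of_pow_eq_one hx2) (Subgroup.index_eq_card N ▸ orderOf_dvd_natCard _)
    exact ⟨hxN, isConj_iff.mpr ⟨⟨g ^ m, htN⟩, Subtype.ext ht⟩⟩

end Cfsg.Agent.S3863
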