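import Cfsg.Statements.S3861
import Mathlib
import Cfsg.Agent.Lib.LocalEven.PClosed
import Cfsg.Agent.Lib.Core.Zipper
import Cfsg.Agent.Lib.Core.SchurZassenhaus
import Cfsg.Agent.S3863

set_option autoImplicit false
open Cfsg

namespace Cfsg.Agent.S3861

open scoped Pointwise
set_option linter.style.haveILetI false

theorem exists_pow_odd {G : Type*} [Group G] [Finite G] (u : G) :
    ∃ a : ℕ, Odd (orderOf (u ^ 2 ^ a)) := by
  obtain ⟨a, b, hb, hab⟩ := Nat.exists_eq_two_pow_mul_odd (orderOf_pos u).ne'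
  refine ⟨a, ?_⟩
  rw [orderOf_pow, hab, Nat.gcd_eq_right (dvd_mul_right _ _), Nat.mul_div_cancel_left _ (Nat.two_pow_pos a)]
  exact hb

theorem mem_pCore {G : Type*} [Group G] [Finite G]
    (h : ∀ x : G, x ≠ 1 → Odd (orderOf x) → ¬ IsConj x x⁻¹) {t : G} (ht : t * t = 1) :
    t ∈ Cfsg.pCore 2 G := by
  have hinv : t⁻¹ = t := inv_eq_of_mul_eq_one_right ht
  have hT2 : IsPGroup 2 (Subgroup.zpowers t) := by
    obtain ⟨i, -, hi⟩ := (Nat.dvd_prime_pow Nat.prime_two).mp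
      (orderOf_dvd_of_pow_eq_one (show t ^ 2 ^ 1 = 1 by rw [pow_one, sq, ht]))
    exact IsPGroup.of_card (n := i) (by rw [Nat.card_zpowers, hi])
  have hpair : ∀ g : G, IsPGroup 2
      (Subgroup.zpowers t ⊔ MulAut.conj g • Subgroup.zpowers t : Subgroup G) := by
    intro g
    set s := g * t * g⁻¹ with hs
    set u := t * s with hu
    have hs2 : s * s = 1 := by rw [hs]; simp [mul_assoc, ← mul_assoc t t, ht]
    have hsinv : s⁻¹ = s := inv_eq_of_mul_eq_one_right hs2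
    have htu : t * u * t⁻¹ = u⁻¹ := by
      rw [hu, mul_inv_rev, hsinv, hinv, ← mul_assoc t t s, ht, one_mul]
    obtain ⟨a, ha⟩ := exists_pow_odd u
    have hu1 : u ^ 2 ^ a = 1 := by
      by_contra hne
      refine h _ hne ha (isConj_iff.mpr ⟨t, ?_⟩)
      rw [← conj_pow, htu, inv_pow]
    have hU : IsPGroup 2 (Subgroup.zpowers u) := by
      obtain ⟨i, -, hi⟩ := (Nat.dvd_prime_pow Nat.prime_two).mp (orderOf_dvd_of_pow_eq_one hu1)
      exact IsPGroup.of_card (n := i) (by rw [Nat.card_zpowers, hi])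
    have hnorm : Subgroup.zpowers t ≤ Subgroup.normalizer ((Subgroup.zpowers u : Subgroup G) : Set G) := by
      rw [Subgroup.zpowers_le, Subgroup.mem_normalizer_iff]
      have hc : ∀ w, w ∈ Subgroup.zpowers u → t * w * t⁻¹ ∈ Subgroup.zpowers u := by
        rintro _ ⟨i, rfl⟩
        exact ⟨-i, by simp only; rw [← conj_zpow, htu, inv_zpow, zpow_neg]⟩
      intro w
      refine ⟨hc w, fun hw => ?_⟩
      have := hc _ hw
      simpa [hinv, mul_assoc, ht, ← mul_assoc t t] using this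
    refine (hT2.to_sup_of_normal_right' hU hnorm).to_le (sup_le le_sup_left fun w hw => ?_)
    obtain ⟨y, ⟨i, rfl⟩, rfl⟩ := hw
    have hsmem : s ∈ Subgroup.zpowers t ⊔ Subgroup.zpowers u := by
      have := mul_mem (inv_mem (Subgroup.mem_sup_left (Subgroup.mem_zpowers t) :
        t ∈ Subgroup.zpowers t ⊔ Subgroup.zpowers u)) (Subgroup.mem_sup_right (Subgroup.mem_zpowers u))
      rwa [hu, inv_mul_cancel_left] at this
    change MulAut.conj g (t ^ i) ∈ _
    rw [map_zpow, MulAut.conj_apply]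
    exact zpow_mem hsmem i
  have hF := (CfsgLib.Core.isSubnormal_of_nilpotent_join (A := Subgroup.zpowers t)
    fun g => (hpair g).isNilpotent).2 (Subgroup.mem_zpowers t)
  haveI : (Cfsg.fittingSubgroup G).Normal := inferInstance
  haveI := CfsgLib.Core.isNilpotent_fittingSubgroup G
  obtain ⟨S, hS⟩ := (hT2.comap_of_injective (Cfsg.fittingSubgroup G).subtype
    (Cfsg.fittingSubgroup G).subtype_injective).exists_le_sylow
  have hn : ∀ (r : ℕ) (_hr : Fact r.Prime) (P : Sylow r (Cfsg.fittingSubgroup G)),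
      (P : Subgroup ↥(Cfsg.fittingSubgroup G)).Normal :=
    ((Group.isNilpotent_of_finite_tfae (G := Cfsg.fittingSubgroup G)).out 0 3).mp (CfsgLib.Core.isNilpotent_fittingSubgroup G)
  haveI := hn 2 inferInstance S
  exact CfsgLib.Core.map_subtype_pCore_le _
    ⟨⟨t, hF⟩, CfsgLib.Core.le_pCore S.isPGroup' (hS (Subgroup.mem_comap.mpr (Subgroup.mem_zpowers t))), rfl⟩

theorem exists_real_lift {G : Type*} [Group G] [Finite G] (O : Subgroup G) [O.Normal]
    (hO : IsPGroup 2 O) {xb : G ⧸ O} (hx1 : xb ≠ 1) (hodd : Odd (orderOf xb))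
    (hreal : IsConj xb xb⁻¹) : ∃ x : G, x ≠ 1 ∧ Odd (orderOf x) ∧ IsConj x x⁻¹ := by
  obtain ⟨x0, rfl⟩ := QuotientGroup.mk_surjective xb
  obtain ⟨a, ha⟩ := exists_pow_odd x0
  set x := x0 ^ 2 ^ a with hx
  have hxb : (x : G ⧸ O) ≠ 1 := by
    rw [hx, QuotientGroup.mk_pow]
    intro h0
    exact hx1 (orderOf_eq_one_iff.mp (Nat.eq_one_of_dvd_coprimes
      ((Nat.coprime_two_right.mpr hodd).pow_right a) dvd_rfl (orderOf_dvd_of_pow_eq_one h0)))
  obtain ⟨cb, hcb⟩ := isConj_iff.mp hreal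
  obtain ⟨u, rfl⟩ := QuotientGroup.mk_surjective cb
  have hux : ((u * x * u⁻¹ : G) : G ⧸ O) = (x : G ⧸ O)⁻¹ := by
    rw [hx, ← conj_pow, QuotientGroup.mk_pow, QuotientGroup.mk_mul, QuotientGroup.mk_mul,
      QuotientGroup.mk_inv, hcb, inv_pow, QuotientGroup.mk_pow]
  have hcop : (Nat.card ↥(Subgroup.zpowers x)).Coprime (Nat.card O) := by
    obtain ⟨j, hj⟩ := IsPGroup.iff_card.mp hO
    rw [hj, Nat.card_zpowers]
    exact (Nat.coprime_two_right.mpr ha).pow_right j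
  have hdisj : ∀ {w : G}, w ∈ Subgroup.zpowers x → (w : G ⧸ O) = 1 → w = 1 := fun {w} hw hw' =>
    Subgroup.mem_bot.mp ((Subgroup.disjoint_of_coprime_natCard hcop).eq_bot ▸ ⟨hw, (QuotientGroup.eq_one_iff w).mp hw'⟩)
  obtain ⟨n, hn, hn'⟩ := CfsgLib.Core.exists_conj_eq_of_coprime (N := O) (H := Subgroup.zpowers x)
    (K := Subgroup.zpowers (u * x * u⁻¹)) (CfsgLib.Core.le_normalizer_of_normal _ O) (by
      rw [Subgroup.zpowers_le]
      have h1 : x * (u * x * u⁻¹) ∈ O := by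
        rw [← QuotientGroup.eq_one_iff, QuotientGroup.mk_mul, hux, mul_inv_cancel]
      have h2 := mul_mem (inv_mem (Subgroup.mem_sup_left (Subgroup.mem_zpowers x) :
        x ∈ Subgroup.zpowers x ⊔ O)) (Subgroup.mem_sup_right h1)
      rwa [inv_mul_cancel_left] at h2)
    (by rw [Nat.card_zpowers, Nat.card_zpowers, ← MulAut.conj_apply, MulEquiv.orderOf_eq]) hcop
    (Or.inl (by haveI := hO.isNilpotent; infer_instance))
  have hmem : n⁻¹ * (u * x * u⁻¹) * n ∈ Subgroup.zpowers x := by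
    have h1 : u * x * u⁻¹ ∈ MulAut.conj n • Subgroup.zpowers x := hn' ▸ Subgroup.mem_zpowers _
    obtain ⟨w, hw, hw'⟩ := h1
    rw [← hw']
    simpa [mul_assoc] using hw
  have hn1 : (n : G ⧸ O) = 1 := (QuotientGroup.eq_one_iff n).mpr hn
  have hkey : n⁻¹ * (u * x * u⁻¹) * n * x = 1 := by
    refine hdisj (mul_mem hmem (Subgroup.mem_zpowers x)) ?_
    rw [QuotientGroup.mk_mul, QuotientGroup.mk_mul, QuotientGroup.mk_mul, QuotientGroup.mk_inv, hn1,
      hux, inv_one, one_mul, mul_one, inv_mul_cancel]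
  refine ⟨x, fun h0 => hxb (by rw [h0]; rfl), ha, isConj_iff.mpr ⟨n⁻¹ * u, ?_⟩⟩
  rw [← eq_inv_of_mul_eq_one_left hkey]
  group

/-- A finite group G has no non-identity element of odd order that is conjugate to its inverse if and only if the Sylow 2-subgroups of G are normal. -/
theorem result {G : Type*} [Group G] [Finite G] (P : Sylow 2 G) : (∀ x : G, x ≠ 1 → Odd (orderOf x) → ¬ IsConj x x⁻¹) ↔ (P : Subgroup G).Normal := by
  constructor
  · intro h
    refine (CfsgLib.LocalEven.pClosed_iff_not_dvd.mpr fun hd => ?_) P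
    obtain ⟨tb, htb⟩ := exists_prime_orderOf_dvd_card' (G := G ⧸ Cfsg.pCore 2 G) 2
      (Subgroup.index_eq_card (Cfsg.pCore 2 G) ▸ hd)
    have h1 : tb ∈ Cfsg.pCore 2 (G ⧸ Cfsg.pCore 2 G) := mem_pCore (fun xb hx1 hodd hreal => by
      obtain ⟨x, h1, h2, h3⟩ := exists_real_lift _ (CfsgLib.Core.isPGroup_pCore 2 G) hx1 hodd hreal
      exact h x h1 h2 h3) (by rw [← sq]; exact orderOf_dvd_iff_pow_eq_one.mp htb.dvd)
    rw [CfsgLib.Core.pCore_quotient_pCore, Subgroup.mem_bot] at h1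
    rw [h1, orderOf_one] at htb
    exact absurd htb (by norm_num)
  · intro hP x hx1 hodd hreal
    obtain ⟨⟨t, ⟨j, hj⟩, ht⟩, -, -⟩ := Cfsg.Agent.S3863.result x hreal
    have hT : IsPGroup 2 (Subgroup.zpowers t) := IsPGroup.of_card (n := j) (by rw [Nat.card_zpowers, hj])
    have htP : t ∈ (P : Subgroup G) :=
      (P.is_maximal' (hT.to_sup_of_normal_right P.isPGroup') le_sup_right).le
        (Subgroup.mem_sup_left (Subgroup.mem_zpowers t))
    have h2 : x⁻¹ * x⁻¹ ∈ (P : Subgroup G) := by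
      have h3 := mul_mem htP (hP.conj_mem _ (inv_mem htP) x)
      have h4 : t * (x * t⁻¹ * x⁻¹) = x⁻¹ * x⁻¹ := by
        conv_rhs => arg 1; rw [← ht]
        group
      rwa [h4] at h3
    obtain ⟨i, hi⟩ := IsPGroup.iff_orderOf.mp P.isPGroup' ⟨_, h2⟩
    rw [Subgroup.orderOf_mk] at hi
    have h5 : orderOf (x⁻¹ * x⁻¹) = orderOf x := by
      rw [← sq, (Nat.Coprime.orderOf_pow (Nat.coprime_comm.mp (by rw [orderOf_inv]; exact Nat.coprime_two_left.mpr hodd))), orderOf_inv]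
    exact hx1 (orderOf_eq_one_iff.mp (Nat.eq_one_of_dvd_coprimes
      ((Nat.coprime_two_right.mpr hodd).pow_right i) dvd_rfl (by rw [← h5, hi])))

end Cfsg.Agent.S3861
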