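import Cfsg.Statements.S3862
import Mathlib
import Cfsg.Agent.Lib.Transfer.Fusion

set_option autoImplicit false
open Cfsg

namespace Cfsg.Agent.S3862

/-- If every 2-element of the finite group G that is conjugate to its inverse lies in the centre of G, then G has a normal 2-complement. -/
theorem result {G : Type*} [Group G] [Finite G] (h : ∀ x : G, (∃ j : ℕ, orderOf x = 2 ^ j) → IsConj x x⁻¹ → x ∈ Subgroup.center G) : Cfsg.HasNormalPComplement 2 G := by
  obtain ⟨P⟩ : Nonempty (Sylow 2 G) := inferInstance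
  refine CfsgLib.Transfer.hasNormalPComplement_of_centralizes P fun Q hQ g hg hcop => ?_
  suffices key : ∀ n, ∀ x ∈ Q, orderOf x = n → g * x * g⁻¹ = x from
    Subgroup.mem_centralizer_iff.mpr fun x hx => (mul_inv_eq_iff_eq_mul.mp (key _ x hx rfl)).symm
  intro n
  induction n using Nat.strong_induction_on with
  | _ n ih =>
    intro x hx hn
    by_cases hx1 : x = 1
    · simp [hx1]
    have h2 : ∀ w ∈ Q, ∃ j : ℕ, orderOf w = 2 ^ j := fun w hw => by
      obtain ⟨j, hj⟩ := IsPGroup.iff_orderOf.mp P.isPGroup' ⟨w, hQ hw⟩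
      exact ⟨j, by simpa [Subgroup.orderOf_mk] using hj⟩
    obtain ⟨j, hj⟩ := h2 x hx
    have hj1 : 0 < j := Nat.pos_of_ne_zero fun h0 => hx1 (orderOf_eq_one_iff.mp (by rw [hj, h0, pow_zero]))
    have hsq : orderOf (x ^ 2) < n := by
      rw [orderOf_pow, ← hn, hj, Nat.gcd_eq_right (dvd_pow_self 2 hj1.ne')]
      exact Nat.div_lt_self (Nat.two_pow_pos j) one_lt_two
    set c := g * x * g⁻¹ with hc
    have hcc : c * c = x * x := by
      have h3 := ih _ hsq (x ^ 2) (pow_mem hx 2) rfl
      rw [pow_two] at h3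
      rw [← h3, hc]; group
    set z := x⁻¹ * c with hz
    have hzQ : z ∈ Q := mul_mem (inv_mem hx) ((Subgroup.mem_normalizer_iff.mp hg x).mp hx)
    have hzreal : IsConj z z⁻¹ := by
      rw [isConj_iff]
      refine ⟨x⁻¹, ?_⟩
      calc x⁻¹ * z * x⁻¹⁻¹ = (x * x)⁻¹ * c * x := by rw [hz]; group
        _ = (c * c)⁻¹ * c * x := by rw [hcc]
        _ = z⁻¹ := by rw [hz]; group
    have hzc := Subgroup.mem_center_iff.mp (h z (h2 z hzQ) hzreal)
    have hiter : ∀ m : ℕ, g ^ m * x * (g ^ m)⁻¹ = x * z ^ m := by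
      intro m
      induction m with
      | zero => simp
      | succ m ihm =>
        calc g ^ (m + 1) * x * (g ^ (m + 1))⁻¹ = g * (g ^ m * x * (g ^ m)⁻¹) * g⁻¹ := by group
          _ = g * (x * z ^ m) * g⁻¹ := by rw [ihm]
          _ = c * (g * z ^ m * g⁻¹) := by rw [hc]; group
          _ = c * z ^ m := by
            rw [((Commute.pow_right (hzc g) m) : Commute g (z ^ m)).eq, mul_inv_cancel_right]
          _ = x * z ^ (m + 1) := by rw [pow_succ', ← mul_assoc x, hz, mul_inv_cancel_left]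
    have hz1 : z = 1 := by
      rw [← orderOf_eq_one_iff]
      have := hiter (orderOf g)
      rw [pow_orderOf_eq_one, one_mul, inv_one, mul_one, left_eq_mul] at this
      obtain ⟨i, hi⟩ := h2 z hzQ
      exact Nat.eq_one_of_dvd_coprimes (hcop.pow_right i) (orderOf_dvd_of_pow_eq_one this) (dvd_of_eq hi)
    exact (inv_mul_eq_one.mp hz1).symm

end Cfsg.Agent.S3862
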