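import Cfsg.Statements.S3867
import Mathlib
import Cfsg.Agent.Lib.Core.Coprime
import Cfsg.Agent.Lib.Transfer.Conj

set_option autoImplicit false
open Cfsg

namespace Cfsg.Agent.S3867

open scoped Pointwise commutatorElement

theorem card_sylow_quotient {G : Type*} [Group G] [Finite G] {p : ℕ} [Fact p.Prime] (P : Sylow p G)
    (K : Subgroup G) [K.Normal] :
    Nat.card (Sylow p (G ⧸ K)) = (Subgroup.normalizer ((P : Subgroup G) : Set G) ⊔ K).index := by
  set f := QuotientGroup.mk' K with hf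
  have hfs : Function.Surjective f := QuotientGroup.mk'_surjective K
  rw [(P.mapSurjective hfs).card_eq_index_normalizer, ← Subgroup.index_comap_of_surjective _ hfs]
  congr 1
  change (Subgroup.normalizer (((P : Subgroup G).map f : Subgroup (G ⧸ K)) : Set (G ⧸ K))).comap f = _
  apply le_antisymm
  · intro y hy
    set U := (P : Subgroup G) ⊔ K with hU
    have hPU : (P : Subgroup G) ≤ U := le_sup_left
    have hQU : (P : Subgroup G).map (MulAut.conj y).toMonoidHom ≤ U := by
      rintro _ ⟨x, hx, rfl⟩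
      have h : f (y * x * y⁻¹) ∈ (P : Subgroup G).map f := by
        simpa using (Subgroup.mem_normalizer_iff.mp hy (f x)).mp ⟨x, hx, rfl⟩
      have h2 : y * x * y⁻¹ ∈ ((P : Subgroup G).map f).comap f := h
      rw [Subgroup.comap_map_eq, hf, QuotientGroup.ker_mk'] at h2
      simpa using h2
    obtain ⟨k, hk, hkP⟩ := CfsgLib.Core.exists_conj_of_card_eq (P.subtype hPU) hQU
      (by rw [Sylow.coe_subtype, Subgroup.map_subgroupOf_eq_of_le hPU, CfsgLib.Transfer.card_map_conj])
    rw [Sylow.coe_subtype, Subgroup.map_subgroupOf_eq_of_le hPU] at hkP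
    have hn : k⁻¹ * y ∈ Subgroup.normalizer ((P : Subgroup G) : Set G) := by
      rw [Subgroup.mem_normalizer_iff_map_conj_eq]
      change MulAut.conj (k⁻¹ * y) • (P : Subgroup G) = _
      rw [map_mul, mul_smul, show MulAut.conj y • (P : Subgroup G) =
        (P : Subgroup G).map (MulAut.conj y).toMonoidHom from rfl, ← hkP, ← mul_smul, ← map_mul,
        inv_mul_cancel, map_one, one_smul]
    rw [show y = k * (k⁻¹ * y) by group]
    exact mul_mem (sup_le_sup Subgroup.le_normalizer le_rfl hk) (Subgroup.mem_sup_left hn)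
  · refine sup_le ?_ ?_
    · rw [← Subgroup.map_le_iff_le_comap]; exact Subgroup.le_normalizer_map f
    · intro y hy
      rw [Subgroup.mem_comap, hf, QuotientGroup.mk'_apply, (QuotientGroup.eq_one_iff y).mpr hy]
      exact one_mem _

theorem inf_le_normalizer {G : Type*} [Group G] [Finite G] {p : ℕ} [Fact p.Prime] (P : Sylow p G)
    (M N : Subgroup G) [hM : M.Normal] [hN : N.Normal] (hMN : M ⊓ N = ⊥) :
    M ⊓ (Subgroup.normalizer ((P : Subgroup G) : Set G) ⊔ N) ≤
      Subgroup.normalizer ((P : Subgroup G) : Set G) := by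
  have hc : ∀ a ∈ M, ∀ b ∈ N, a * b = b * a := fun a ha b hb =>
    Subgroup.commute_of_normal_of_disjoint M N hM hN (disjoint_iff.mpr hMN) a b ha hb
  -- the projection of `P ∩ MN` to `M`
  let Q : Subgroup G :=
    { carrier := {a | a ∈ M ∧ ∃ b ∈ N, a * b ∈ (P : Subgroup G)}
      one_mem' := ⟨one_mem _, 1, one_mem _, by simp⟩
      mul_mem' := by
        rintro a a' ⟨ha, b, hb, hab⟩ ⟨ha', b', hb', hab'⟩
        refine ⟨mul_mem ha ha', b * b', mul_mem hb hb', ?_⟩
        have : a * a' * (b * b') = a * b * (a' * b') := by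
          rw [mul_assoc a b, ← mul_assoc b a', ← hc a' ha' b hb]; group
        rw [this]; exact mul_mem hab hab'
      inv_mem' := by
        rintro a ⟨ha, b, hb, hab⟩
        refine ⟨inv_mem ha, b⁻¹, inv_mem hb, ?_⟩
        rw [show a⁻¹ * b⁻¹ = (b * a)⁻¹ by group, ← hc a ha b hb]
        exact inv_mem hab }
  have hQp : IsPGroup p Q := by
    rintro ⟨a, ha, b, hb, hab⟩
    obtain ⟨k, hk⟩ := P.isPGroup' ⟨a * b, hab⟩
    have h2 : (a * b) ^ p ^ k = 1 := by simpa using congrArg Subtype.val hk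
    rw [Commute.mul_pow (hc a ha b hb)] at h2
    have h3 : a ^ p ^ k ∈ M ⊓ N :=
      ⟨pow_mem ha _, eq_inv_of_mul_eq_one_left h2 ▸ N.inv_mem (pow_mem hb _)⟩
    rw [hMN, Subgroup.mem_bot] at h3
    exact ⟨k, Subtype.ext h3⟩
  have hnorm : (P : Subgroup G) ≤ Subgroup.normalizer (Q : Set G) := by
    have key : ∀ x ∈ (P : Subgroup G), ∀ a ∈ Q, x * a * x⁻¹ ∈ Q := by
      rintro x hx a ⟨ha, b, hb, hab⟩
      refine ⟨hM.conj_mem a ha x, x * b * x⁻¹, hN.conj_mem b hb x, ?_⟩
      rw [show x * a * x⁻¹ * (x * b * x⁻¹) = x * (a * b) * x⁻¹ by group]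
      exact mul_mem (mul_mem hx hab) ((P : Subgroup G).inv_mem hx)
    intro x hx
    rw [Subgroup.mem_normalizer_iff]
    intro a
    refine ⟨key x hx a, fun h => ?_⟩
    simpa [mul_assoc] using key x⁻¹ (inv_mem hx) _ h
  have hQP : Q ≤ P := by
    have h := IsPGroup.to_sup_of_normal_right' P.isPGroup' hQp hnorm
    rw [← P.is_maximal' h le_sup_left]
    exact le_sup_right
  rintro m ⟨hm, hmN⟩
  replace hm : m ∈ M := hm
  replace hmN : m ∈ Subgroup.normalizer ((P : Subgroup G) : Set G) ⊔ N := hmN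
  rw [Subgroup.mem_sup_of_normal_right] at hmN
  obtain ⟨h, hh, n, hn, rfl⟩ := hmN
  set m := h * n with hmdef
  have key : ∀ x ∈ (P : Subgroup G), m * x * m⁻¹ * x⁻¹ ∈ (P : Subgroup G) := by
    intro x hx
    apply hQP
    refine ⟨?_, n⁻¹ * x * n * x⁻¹, ?_, ?_⟩
    · rw [show m * x * m⁻¹ * x⁻¹ = m * (x * m⁻¹ * x⁻¹) by group]
      exact mul_mem hm (hM.conj_mem _ (inv_mem hm) x)
    · rw [show n⁻¹ * x * n * x⁻¹ = n⁻¹ * (x * n * x⁻¹) by group]
      exact mul_mem (inv_mem hn) (hN.conj_mem n hn x)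
    · have hk : n⁻¹ * x * n * x⁻¹ ∈ N := by
        rw [show n⁻¹ * x * n * x⁻¹ = n⁻¹ * (x * n * x⁻¹) by group]
        exact mul_mem (inv_mem hn) (hN.conj_mem n hn x)
      have e : m * x * m⁻¹ * x⁻¹ * (n⁻¹ * x * n * x⁻¹) = h * x * h⁻¹ * x⁻¹ := by
        have h1 : m * x * m⁻¹ * x⁻¹ ∈ M := by
          rw [show m * x * m⁻¹ * x⁻¹ = m * (x * m⁻¹ * x⁻¹) by group]
          exact mul_mem hm (hM.conj_mem _ (inv_mem hm) x)
        rw [hc _ h1 _ hk]
        have h2 : h = m * n⁻¹ := by rw [hmdef]; group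
        have h3 : h * x * h⁻¹ * x⁻¹ = m * (n⁻¹ * x * n * x⁻¹) * (x * m⁻¹ * x⁻¹) := by
          rw [h2]; group
        rw [h3, hc _ hm _ hk]
        group
      rw [e]
      exact mul_mem ((Subgroup.mem_normalizer_iff.mp hh x).mp hx) (inv_mem hx)
  rw [Subgroup.mem_normalizer_iff_map_conj_eq]
  apply Subgroup.eq_of_le_of_card_ge
  · rintro _ ⟨x, hx, rfl⟩
    simpa using mul_mem (key x hx) hx
  · exact (CfsgLib.Transfer.card_map_conj m (P : Subgroup G)).ge

/-- Let M and N be nontrivial normal subgroups of the finite group G with M ⊓ N trivial, and let p be a prime. Writing n(X) for the number of Sylow p-subgroups of a group X, one has n(G) · n(G/MN) = n(G/M) · n(G/N). -/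
theorem result {G : Type*} [Group G] [Finite G] (p : ℕ) [Fact p.Prime] (M N : Subgroup G) [M.Normal] [N.Normal] (hM : M ≠ ⊥) (hN : N ≠ ⊥) (hMN : M ⊓ N = ⊥) : Nat.card (Sylow p G) * Nat.card (Sylow p (G ⧸ (M ⊔ N))) = Nat.card (Sylow p (G ⧸ M)) * Nat.card (Sylow p (G ⧸ N)) := by
  obtain ⟨P⟩ : Nonempty (Sylow p G) := inferInstance
  rw [card_sylow_quotient P, card_sylow_quotient P, card_sylow_quotient P,
    P.card_eq_index_normalizer, ← Sylow.coe_coe]
  set H := Subgroup.normalizer ((P : Subgroup G) : Set G) with hH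
  have h1 : H.relIndex (H ⊔ M) = (H ⊔ N).relIndex (H ⊔ (M ⊔ N)) := by
    have e1 : H.relIndex (H ⊔ M) = (H ⊓ M).relIndex M := by
      rw [Subgroup.inf_relIndex_right]
      have a1 := Subgroup.relIndex_mul_relIndex ⊥ H (H ⊔ M) bot_le le_sup_left
      have a2 := Subgroup.relIndex_mul_relIndex ⊥ M (H ⊔ M) bot_le le_sup_right
      have a3 := Subgroup.relIndex_mul_relIndex ⊥ (H ⊓ M) M bot_le inf_le_right
      have a4 := Subgroup.relIndex_mul_relIndex ⊥ (M ⊓ H) H bot_le inf_le_right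
      simp only [Subgroup.relIndex_bot_left, Subgroup.inf_relIndex_right] at a1 a2 a3 a4
      rw [Subgroup.relIndex_sup_right] at a2
      rw [inf_comm] at a4
      have : Nat.card H * H.relIndex (H ⊔ M) = Nat.card H * H.relIndex M := by
        rw [a1, ← a2, ← a3, ← a4]; ring
      exact Nat.eq_of_mul_eq_mul_left Nat.card_pos this
    have e2 : (H ⊔ N).relIndex (H ⊔ (M ⊔ N)) = ((H ⊔ N) ⊓ M).relIndex M := by
      rw [Subgroup.inf_relIndex_right, show H ⊔ (M ⊔ N) = (H ⊔ N) ⊔ M by rw [sup_comm M N, sup_assoc]]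
      set K := H ⊔ N
      have a1 := Subgroup.relIndex_mul_relIndex ⊥ K (K ⊔ M) bot_le le_sup_left
      have a2 := Subgroup.relIndex_mul_relIndex ⊥ M (K ⊔ M) bot_le le_sup_right
      have a3 := Subgroup.relIndex_mul_relIndex ⊥ (K ⊓ M) M bot_le inf_le_right
      have a4 := Subgroup.relIndex_mul_relIndex ⊥ (M ⊓ K) K bot_le inf_le_right
      simp only [Subgroup.relIndex_bot_left, Subgroup.inf_relIndex_right] at a1 a2 a3 a4
      rw [Subgroup.relIndex_sup_right] at a2
      rw [inf_comm] at a4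
      have : Nat.card K * K.relIndex (K ⊔ M) = Nat.card K * K.relIndex M := by
        rw [a1, ← a2, ← a3, ← a4]; ring
      exact Nat.eq_of_mul_eq_mul_left Nat.card_pos this
    rw [e1, e2]
    congr 1
    apply le_antisymm
    · exact le_inf (inf_le_left.trans le_sup_left) inf_le_right
    · exact le_inf (inf_comm M (H ⊔ N) ▸ inf_le_normalizer P M N hMN) inf_le_right
  rw [← Subgroup.relIndex_mul_index (le_sup_left : H ≤ H ⊔ M),
    ← Subgroup.relIndex_mul_index (sup_le_sup_left le_sup_right H : H ⊔ N ≤ H ⊔ (M ⊔ N)), h1]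
  ring

end Cfsg.Agent.S3867
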