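import Cfsg.Statements.S3869
import Mathlib
import Cfsg.Agent.Lib.LocalEven.PClosed
import Cfsg.Agent.Lib.PGroups.IrredAction

set_option autoImplicit false
open Cfsg

namespace Cfsg.Agent.S3869

set_option linter.style.haveILetI false

theorem mem_normalizer_of_map {G : Type*} [Group G] [Finite G] {B : Subgroup G} {x : G}
    (h : ∀ b ∈ B, x * b * x⁻¹ ∈ B) : x ∈ Subgroup.normalizer (B : Set G) := by
  rw [Subgroup.mem_normalizer_iff]
  intro b
  refine ⟨h b, fun hb => ?_⟩
  obtain ⟨⟨c, hc⟩, hc'⟩ := Finite.surjective_of_injective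
    (f := fun c : B => (⟨x * c * x⁻¹, h c c.2⟩ : B)) (fun a b hab => by
      simpa using congrArg Subtype.val hab) ⟨_, hb⟩
  have : c = b := by simpa using congrArg Subtype.val hc'
  exact this ▸ hc

/-- Let p and q be distinct primes and G a finite non-abelian group with a normal elementary abelian q-subgroup A that is a minimal normal subgroup of G and has index p. Then A has order q^e with e the multiplicative order of q modulo p, and G is minimal non-p-closed: its Sylow p-subgroups are not normal, while in every proper subgroup and in every proper quotient of G the Sylow p-subgroups are normal. -/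
theorem result {G : Type*} [Group G] [Finite G] {p q : ℕ} [Fact p.Prime] (hq : q.Prime) (hpq : q ≠ p)
    (hna : ¬ IsMulCommutative G) (A : Subgroup G) [A.Normal] (hA : Cfsg.IsElementaryAbelian q A) (hidx : A.index = p)
    (hmin : ∀ B : Subgroup G, B.Normal → B ≤ A → B = ⊥ ∨ B = A) :
    Nat.card ↥A = q ^ orderOf (q : ZMod p) ∧ ¬ Cfsg.IsPClosed p G ∧ (∀ H : Subgroup G, H ≠ ⊤ → Cfsg.IsPClosed p ↥H) ∧
      ∀ (N : Subgroup G) [N.Normal], N ≠ ⊥ → Cfsg.IsPClosed p (G ⧸ N) := by
  haveI : Fact q.Prime := ⟨hq⟩
  have hp := (Fact.out : p.Prime)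
  have hAq : IsPGroup q A := fun a => ⟨1, by rw [pow_one]; exact Subtype.ext (hA.2 a a.2)⟩
  obtain ⟨k, hk⟩ := IsPGroup.iff_card.mp hAq
  have hndvd : ¬ p ∣ Nat.card A := by
    rw [hk]
    exact fun h => hpq ((Nat.prime_dvd_prime_iff_eq hp hq).mp (hp.dvd_of_dvd_pow h)).symm
  obtain ⟨x, hx⟩ := exists_prime_orderOf_dvd_card' (G := G) p (hidx ▸ A.index_dvd_card)
  have hxA : x ∉ A := fun h => hndvd (hx ▸ Subgroup.orderOf_coe (⟨x, h⟩ : A) ▸ orderOf_dvd_natCard _)
  have hgen : ∀ K : Subgroup G, A ≤ K → x ∈ K → K = ⊤ := by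
    intro K hAK hxK
    rcases (Nat.dvd_prime hp).mp (hidx ▸ Subgroup.index_dvd_of_le hAK) with h | h
    · exact Subgroup.index_eq_one.mp h
    · have h1 : A = K := by
        refine Subgroup.eq_of_le_of_card_ge hAK (le_of_eq ?_)
        exact Nat.eq_of_mul_eq_mul_right hp.pos
          (by rw [← h, K.card_mul_index, h, ← hidx, A.card_mul_index])
      exact absurd (h1 ▸ hxK) hxA
  have hcomm : ∀ {a b : G}, a ∈ A → b ∈ A → a * b = b * a := fun {a b} ha hb =>
    congrArg Subtype.val (hA.1.is_comm.comm ⟨a, ha⟩ ⟨b, hb⟩)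
  have hxnc : ¬ ∀ a ∈ A, x * a = a * x := by
    intro h
    refine hna (isMulCommutative_iff.mpr ?_)
    have h1 : Subgroup.centralizer (A : Set G) = ⊤ := hgen _
      (fun a ha => Subgroup.mem_centralizer_iff.mpr fun b hb => hcomm hb ha)
      (Subgroup.mem_centralizer_iff.mpr fun b hb => (h b hb).symm)
    have h2 : Subgroup.centralizer ({x} : Set G) = ⊤ := hgen _
      (fun a ha => Subgroup.mem_centralizer_singleton_iff.mpr (h a ha).symm)
      (Subgroup.mem_centralizer_singleton_iff.mpr rfl)
    have h3 : Subgroup.center G = ⊤ := hgen _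
      (fun a ha => Subgroup.mem_center_iff.mpr fun g =>
        ((Subgroup.mem_centralizer_iff.mp (h1 ▸ Subgroup.mem_top g : g ∈ Subgroup.centralizer (A : Set G))) a ha).symm)
      (Subgroup.mem_center_iff.mpr fun g => Subgroup.mem_centralizer_singleton_iff.mp
        (h2 ▸ Subgroup.mem_top g : g ∈ Subgroup.centralizer ({x} : Set G)))
    intro a b
    exact (Subgroup.mem_center_iff.mp (h3 ▸ Subgroup.mem_top b : b ∈ Subgroup.center G) a)
  haveI : Nontrivial A := by
    rw [A.nontrivial_iff_ne_bot]
    rintro rfl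
    exact hxnc fun a ha => by simp [Subgroup.mem_bot.mp ha]
  letI : CommGroup A := { (inferInstance : Group A) with mul_comm := hA.1.is_comm.comm }
  let T : AddMonoid.End (Additive A) := MonoidHom.toAdditive (MulAut.conjNormal x : MulAut A).toMonoidHom
  have hTpow : ∀ (j : ℕ) (v : Additive A),
      (((T ^ j) v).toMul : G) = x ^ j * (v.toMul : G) * (x ^ j)⁻¹ := by
    intro j
    induction j with
    | zero => intro v; simp
    | succ j ih =>
      intro v
      rw [pow_succ']
      change ((MulAut.conjNormal x ((T ^ j) v).toMul : A) : G) = _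
      rw [MulAut.conjNormal_apply, ih, pow_succ']
      group
  have hcard : Nat.card ↥A = q ^ orderOf (q : ZMod p) := by
    refine (Nat.card_congr Additive.ofMul).trans
      (CfsgLib.PGroups.IrredAction.card_eq_of_irreducible hq hpq (fun a => ?_) T ?_ ?_ ?_)
    · exact congrArg Additive.ofMul (Subtype.ext (hA.2 _ a.toMul.2) : a.toMul ^ q = 1)
    · ext v
      change (((T ^ p) v).toMul : G) = _
      rw [hTpow, ← hx, pow_orderOf_eq_one]
      simp
    · intro h
      refine hxnc fun a ha => ?_
      have h1 := hTpow 1 (Additive.ofMul ⟨a, ha⟩)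
      rw [pow_one, h, pow_one] at h1
      exact mul_inv_eq_iff_eq_mul.mp h1.symm
    · intro B hB
      let B' : Subgroup G := (AddSubgroup.toSubgroup' B).map A.subtype
      have hB'A : B' ≤ A := Subgroup.map_subtype_le _
      have hn : B'.Normal := by
        rw [← Subgroup.normalizer_eq_top_iff]
        refine hgen _ (fun a ha => mem_normalizer_of_map fun b hb => ?_) (mem_normalizer_of_map ?_)
        · rwa [hcomm ha (hB'A hb), mul_inv_cancel_right]
        · rintro _ ⟨b, hb, rfl⟩
          exact ⟨(T (Additive.ofMul b)).toMul, hB _ hb, MulAut.conjNormal_apply x b⟩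
      rcases hmin B' hn hB'A with h | h
      · left
        rw [AddSubgroup.eq_bot_iff_forall]
        intro v hv
        exact Additive.toMul.injective (Subtype.ext
          ((Subgroup.eq_bot_iff_forall _).mp h _ ⟨v.toMul, hv, rfl⟩))
      · right
        rw [eq_top_iff]
        intro v _
        obtain ⟨b, hb, hb'⟩ : (v.toMul : G) ∈ B' := by
          rw [h]
          exact v.toMul.2
        rw [show v = Additive.ofMul b from congrArg Additive.ofMul (Subtype.ext hb').symm]
        exact hb
  have hnc : ¬ Cfsg.IsPClosed p G := by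
    intro h
    obtain ⟨P, hP⟩ := (IsPGroup.of_card (n := 1) (p := p)
      (G := Subgroup.zpowers x) (by rw [Nat.card_zpowers, hx, pow_one])).exists_le_sylow
    haveI := h P
    exact hxnc fun a ha => Subgroup.commute_of_normal_of_disjoint (P : Subgroup G) A inferInstance
      inferInstance (IsPGroup.disjoint_of_ne p q (Ne.symm hpq) (P : Subgroup G) A P.isPGroup' hAq) x a (hP (Subgroup.mem_zpowers x)) ha
  refine ⟨hcard, hnc, fun H hH => ?_, fun N _ hN => ?_⟩
  · by_cases hHA : H ≤ A
    · intro S
      have hS : (S : Subgroup H) = ⊥ := by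
        obtain ⟨n, hn⟩ := IsPGroup.iff_card.mp S.isPGroup'
        apply Subgroup.eq_bot_of_card_eq
        rcases Nat.eq_zero_or_pos n with h0 | h0
        · rw [hn, h0, pow_zero]
        · exact absurd ((dvd_pow_self p h0.ne').trans (hn ▸ (Subgroup.card_subgroup_dvd_card _).trans
            (Subgroup.card_dvd_of_le hHA))) hndvd
      rw [hS]; infer_instance
    obtain ⟨y, hyH, hyA⟩ := SetLike.not_le_iff_exists.mp hHA
    have hnorm : (H ⊓ A).Normal := by
      rw [← Subgroup.normalizer_eq_top_iff]
      have hA' : A ≤ Subgroup.normalizer ((H ⊓ A : Subgroup G) : Set G) := fun a ha =>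
        mem_normalizer_of_map fun b hb => by rwa [hcomm ha hb.2, mul_inv_cancel_right]
      rcases (Nat.dvd_prime hp).mp (hidx ▸ Subgroup.index_dvd_of_le hA') with h | h
      · exact Subgroup.index_eq_one.mp h
      · exfalso
        refine hyA ?_
        have h1 : A = Subgroup.normalizer ((H ⊓ A : Subgroup G) : Set G) :=
          Subgroup.eq_of_le_of_card_ge hA' (le_of_eq (Nat.eq_of_mul_eq_mul_right hp.pos
            (by rw [← h, Subgroup.card_mul_index, h, ← hidx, A.card_mul_index])))
        rw [h1]
        exact mem_normalizer_of_map fun b hb => ⟨H.mul_mem (H.mul_mem hyH hb.1) (H.inv_mem hyH),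
          ‹A.Normal›.conj_mem b hb.2 y⟩
    rcases hmin _ hnorm inf_le_right with h | h
    · refine CfsgLib.LocalEven.pClosed_of_pgroup ?_
      have h1 : Nat.card H ∣ p := by
        rw [← hidx, ← Subgroup.relIndex_bot_left, ← h, Subgroup.inf_relIndex_left]
        exact Subgroup.relIndex_dvd_index_of_normal A H
      obtain ⟨i, -, hi⟩ := (Nat.dvd_prime_pow hp).mp ((pow_one p).symm ▸ h1)
      exact IsPGroup.of_card hi
    · have hAH : A ≤ H := h ▸ inf_le_left
      rcases (Nat.dvd_prime hp).mp (hidx ▸ Subgroup.index_dvd_of_le hAH) with h' | h'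
      · exact absurd (Subgroup.index_eq_one.mp h') hH
      · exfalso
        refine hyA ?_
        rwa [Subgroup.eq_of_le_of_card_ge hAH (le_of_eq (Nat.eq_of_mul_eq_mul_right hp.pos
            (by rw [← h', Subgroup.card_mul_index, h', ← hidx, A.card_mul_index])))]
  · rcases hmin (N ⊓ A) inferInstance inf_le_right with h | h
    · exfalso
      refine hnc (CfsgLib.LocalEven.pClosed_of_normal_sylow (P := ?_) ?_)
      · have h1 : Nat.card N ∣ p := by
          rw [← hidx, ← Subgroup.relIndex_bot_left, ← h, Subgroup.inf_relIndex_left]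
          exact Subgroup.relIndex_dvd_index_of_normal A N
        have h2 : Nat.card N = p := ((Nat.dvd_prime hp).mp h1).resolve_left
          fun h' => hN (Subgroup.eq_bot_of_card_eq _ h')
        refine (IsPGroup.of_card (n := 1) (p := p) (G := N) (by rw [h2, pow_one])).toSylow ?_
        intro hd
        refine hndvd ?_
        have h3 : N.index = Nat.card A := Nat.eq_of_mul_eq_mul_left hp.pos
          (by rw [← h2, N.card_mul_index, h2, ← hidx, mul_comm A.index, A.card_mul_index])
        exact h3 ▸ hd
      · assumption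
    · refine CfsgLib.LocalEven.pClosed_of_pgroup ?_
      have h1 : N.index ∣ p := hidx ▸ Subgroup.index_dvd_of_le (h ▸ inf_le_left)
      obtain ⟨i, -, hi⟩ := (Nat.dvd_prime_pow hp).mp ((pow_one p).symm ▸ h1)
      exact IsPGroup.of_card (n := i) hi

end Cfsg.Agent.S3869
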