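import Cfsg.Statements.S3868
import Mathlib
import Cfsg.Agent.Lib.LocalEven.PClosed
import Cfsg.Agent.Lib.Core.Coprime
import Cfsg.Agent.Lib.Core.MinNormal
import Cfsg.Agent.S3869

set_option autoImplicit false
open Cfsg

namespace Cfsg.Agent.S3868

set_option linter.style.haveILetI false

theorem commute_of_proper {G : Type*} [Group G] [Finite G] {p : ℕ} [Fact p.Prime]
    (hsub : ∀ H : Subgroup G, H ≠ ⊤ → Cfsg.IsPClosed p ↥H) {R Q : Subgroup G}
    (hR : ¬ p ∣ Nat.card R) (hQ : IsPGroup p Q) (hQR : Q ≤ Subgroup.normalizer (R : Set G))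
    (htop : R ⊔ Q ≠ ⊤) {a b : G} (ha : a ∈ Q) (hb : b ∈ R) : a * b = b * a := by
  haveI : (R.subgroupOf (R ⊔ Q)).Normal :=
    Subgroup.normal_subgroupOf_of_le_normalizer (sup_le Subgroup.le_normalizer hQR)
  have hcore : Q.subgroupOf (R ⊔ Q) ≤ Cfsg.pCore p ↥(R ⊔ Q) := by
    obtain ⟨S, hS⟩ := (IsPGroup.comap_subtype (K := R ⊔ Q) hQ).exists_le_sylow
    exact hS.trans (CfsgLib.LocalEven.pClosed_iff_le_pCore.mp (hsub _ htop) S)
  have hdisj : Disjoint (Cfsg.pCore p ↥(R ⊔ Q)) (R.subgroupOf (R ⊔ Q)) := by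
    rw [disjoint_iff]
    apply Subgroup.inf_eq_bot_of_coprime
    obtain ⟨j, hj⟩ := IsPGroup.iff_card.mp (CfsgLib.Core.isPGroup_pCore p ↥(R ⊔ Q))
    rw [hj, Nat.card_congr (Subgroup.subgroupOfEquivOfLe le_sup_left).toEquiv]
    exact (((Fact.out : p.Prime).coprime_iff_not_dvd).mpr hR).pow_left j
  exact congrArg Subtype.val (Subgroup.commute_of_normal_of_disjoint _ _ inferInstance inferInstance
    hdisj (⟨a, Subgroup.mem_sup_right ha⟩ : ↥(R ⊔ Q)) ⟨b, Subgroup.mem_sup_left hb⟩
    (hcore ha) hb).eq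

/-- Structure of the non-simple minimal non-p-closed groups. Call a finite group p-closed when its Sylow p-subgroups are normal, and minimal non-p-closed when it is not p-closed but every proper subgroup and every proper quotient is. If such a group G is not simple, then there is a prime q ≠ p such that G has order p · q^e, where e is the multiplicative order of q modulo p, and G has a normal subgroup A of order q^e that is elementary abelian and is a minimal normal subgroup of G (so G is the semidirect product of A by a group of order p acting irreducibly). -/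
theorem result {G : Type*} [Group G] [Finite G] {p : ℕ} [Fact p.Prime]
    (hnc : ¬ Cfsg.IsPClosed p G) (hsub : ∀ H : Subgroup G, H ≠ ⊤ → Cfsg.IsPClosed p ↥H)
    (hquo : ∀ (N : Subgroup G) [N.Normal], N ≠ ⊥ → Cfsg.IsPClosed p (G ⧸ N)) (hns : ¬ IsSimpleGroup G) :
    ∃ q : ℕ, q.Prime ∧ q ≠ p ∧ Nat.card G = p * q ^ orderOf (q : ZMod p) ∧
      ∃ A : Subgroup G, A.Normal ∧ Nat.card ↥A = q ^ orderOf (q : ZMod p) ∧ Cfsg.IsElementaryAbelian q A ∧
        ∀ B : Subgroup G, B.Normal → B ≤ A → B = ⊥ ∨ B = A := by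
  have hp := (Fact.out : p.Prime)
  haveI : Nontrivial G := by
    by_contra h
    haveI := not_nontrivial_iff_subsingleton.mp h
    exact hnc fun P => by rw [Subsingleton.elim (P : Subgroup G) ⊥]; infer_instance
  obtain ⟨N₀, hN₀, hN₀bot, hN₀top⟩ : ∃ N₀ : Subgroup G, N₀.Normal ∧ N₀ ≠ ⊥ ∧ N₀ ≠ ⊤ := by
    by_contra h
    push Not at h
    exact hns ⟨fun N hN => or_iff_not_imp_left.mpr (h N hN)⟩
  haveI := hN₀
  obtain ⟨N, hN, hNbot, hNle, hmin⟩ := CfsgLib.Core.exists_minimal_normal_le' N₀ hN₀bot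
  haveI := hN
  have hNtop : N ≠ ⊤ := fun h => hN₀top (top_le_iff.mp (h ▸ hNle))
  obtain ⟨P⟩ : Nonempty (Sylow p G) := inferInstance
  have hK : (N ⊔ (P : Subgroup G)).Normal := by
    have h1 := hquo N hNbot (P.mapSurjective (QuotientGroup.mk'_surjective N))
    rw [Sylow.coe_mapSurjective] at h1
    have h2 := h1.comap (QuotientGroup.mk' N)
    rwa [Subgroup.comap_map_eq, QuotientGroup.ker_mk', sup_comm] at h2
  have hKtop : N ⊔ (P : Subgroup G) = ⊤ := by
    by_contra h
    haveI := hK
    exact CfsgLib.LocalEven.not_pClosed_of_sylow_le hnc P _ le_sup_right (hsub _ h)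
  have hNp : ¬ p ∣ Nat.card N := by
    intro hd
    obtain ⟨S⟩ : Nonempty (Sylow p N) := inferInstance
    have hcore : (S : Subgroup N) ≤ Cfsg.pCore p N :=
      CfsgLib.LocalEven.pClosed_iff_le_pCore.mp (hsub N hNtop) S
    have hC : ((Cfsg.pCore p N).map N.subtype).Normal := CfsgLib.LocalEven.pCoreOf_normal N
    have hC1 : (Cfsg.pCore p N).map N.subtype = N := by
      refine (hmin _ hC (Subgroup.map_subtype_le _)).resolve_left fun h => ?_
      rw [Subgroup.map_eq_bot_iff_of_injective _ N.subtype_injective] at h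
      exact S.ne_bot_of_dvd_card hd (le_bot_iff.mp (h ▸ hcore))
    have hNpg : IsPGroup p N := hC1 ▸ (CfsgLib.Core.isPGroup_pCore p N).map N.subtype
    have hNP : N ≤ P := hNpg.le_sylow_of_normal P
    rw [sup_eq_right.mpr hNP] at hKtop
    refine hnc (CfsgLib.LocalEven.pClosed_of_normal_sylow (P := P) ?_)
    rw [hKtop]
    infer_instance
  have hPN : (P : Subgroup G) ≤ Subgroup.normalizer (N : Set G) :=
    CfsgLib.Core.le_normalizer_of_normal _ N
  have hcop : (Nat.card ↥(P : Subgroup G)).Coprime (Nat.card N) := by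
    obtain ⟨j, hj⟩ := IsPGroup.iff_card.mp P.isPGroup'
    rw [hj]
    exact ((hp.coprime_iff_not_dvd).mpr hNp).pow_left j
  have hcardG : Nat.card G = Nat.card ↥(P : Subgroup G) * Nat.card N := by
    rw [← CfsgLib.Core.card_sup_of_coprime _ _ hPN hcop, sup_comm, hKtop, Subgroup.card_top]
  -- the centralizer of `N` in `P` is trivial
  have hC0 : ∀ a ∈ (P : Subgroup G), (∀ b ∈ N, a * b = b * a) → a = 1 := by
    intro a ha hab
    set C := (P : Subgroup G) ⊓ Subgroup.centralizer (N : Set G) with hCdef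
    haveI : C.Normal := by
      rw [← Subgroup.normalizer_eq_top_iff, eq_top_iff, ← hKtop]
      refine sup_le (fun n hn => Subgroup.centralizer_le_normalizer _
        (Subgroup.mem_centralizer_iff.mpr fun c hc =>
          (Subgroup.mem_centralizer_iff.mp hc.2 n hn).symm)) ?_
      exact (le_inf Subgroup.le_normalizer (le_top.trans (le_of_eq
        (Subgroup.normalizer_eq_top_iff.mpr inferInstance).symm))).trans
        Subgroup.inf_normalizer_le_normalizer_inf
    by_contra ha1
    have hCbot : C ≠ ⊥ := fun h => ha1 (Subgroup.mem_bot.mp (h ▸ ⟨ha, Subgroup.mem_centralizer_iff.mpr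
      fun b hb => (hab b hb).symm⟩))
    exact hnc ((CfsgLib.LocalEven.pClosed_iff_of_surjective (QuotientGroup.mk' C)
      (QuotientGroup.mk'_surjective C) (by
        rw [QuotientGroup.ker_mk']; exact P.isPGroup'.to_le inf_le_left)).mp (hquo C hCbot))
  have hPbot : (P : Subgroup G) ≠ ⊥ := fun h => by rw [h, sup_bot_eq] at hKtop; exact hNtop hKtop
  have hPcard : Nat.card ↥(P : Subgroup G) = p := by
    obtain ⟨y, hy⟩ := exists_prime_orderOf_dvd_card' (G := ↥(P : Subgroup G)) p
      ((P.isPGroup'.card_eq_or_dvd).resolve_left fun h => hPbot (Subgroup.eq_bot_of_card_eq _ h))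
    have hy' : orderOf (y : G) = p := by rw [Subgroup.orderOf_coe, hy]
    have hQP : Subgroup.zpowers (y : G) ≤ P := Subgroup.zpowers_le.mpr y.2
    by_contra hne
    have hlt : Subgroup.zpowers (y : G) ≠ P := fun h => hne (by rw [← h, Nat.card_zpowers, hy'])
    refine hp.ne_one (hy'.symm.trans (orderOf_eq_one_iff.mpr (hC0 y y.2 fun b hb => ?_)))
    refine commute_of_proper hsub hNp (P.isPGroup'.to_le hQP) (hQP.trans hPN) (fun h => ?_)
      (Subgroup.mem_zpowers _) hb
    refine hlt (Subgroup.eq_of_le_of_card_ge hQP ?_)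
    have hc : (Nat.card ↥(Subgroup.zpowers (y : G))).Coprime (Nat.card N) :=
      hcop.coprime_dvd_left (Subgroup.card_dvd_of_le hQP)
    have h2 := CfsgLib.Core.card_sup_of_coprime _ _ (hQP.trans hPN) hc
    rw [sup_comm, h, Subgroup.card_top, hcardG] at h2
    exact (Nat.eq_of_mul_eq_mul_right Nat.card_pos h2).le
  -- `N` is a group of prime power order
  obtain ⟨r, hr, hNr⟩ : ∃ r : ℕ, r.Prime ∧ IsPGroup r N := by
    by_contra hcon
    push Not at hcon
    have hPsol : Group.IsSolvable ↥(P : Subgroup G) := by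
      haveI := P.isPGroup'.isNilpotent
      infer_instance
    obtain ⟨⟨y, hy⟩, hy1'⟩ := (P : Subgroup G).ne_bot_iff_exists_ne_one.mp hPbot
    have hy1 : y ≠ 1 := fun h => hy1' (Subtype.ext h)
    refine hy1 (hC0 y hy fun b hb => ?_)
    have key : N ⊓ Subgroup.centralizer ({y} : Set G) = N := by
      refine Subgroup.eq_of_le_of_card_ge inf_le_left (Nat.le_of_dvd Nat.card_pos ?_)
      rw [Nat.dvd_iff_prime_pow_dvd_dvd]
      intro r k hr hrk
      rcases Nat.eq_zero_or_pos k with rfl | hk
      · simp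
      haveI := Fact.mk hr
      obtain ⟨R, hR⟩ := CfsgLib.Core.exists_invariant_sylow hPN hcop (Or.inl hPsol) r
      refine dvd_trans ?_ (Subgroup.card_dvd_of_le (H := (R : Subgroup N).map N.subtype) ?_)
      · rw [Nat.card_congr ((R : Subgroup N).equivMapOfInjective _ N.subtype_injective).toEquiv.symm]
        exact R.pow_dvd_card_of_pow_dvd_card hrk
      refine le_inf (Subgroup.map_subtype_le _) fun b hb => ?_
      rw [Subgroup.mem_centralizer_singleton_iff]
      refine (commute_of_proper hsub (fun h => hNp (h.trans (Subgroup.card_dvd_of_le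
        (Subgroup.map_subtype_le _)))) P.isPGroup' hR (fun htop => hcon r hr ?_) hy hb).symm
      have hc2 : (Nat.card ↥(P : Subgroup G)).Coprime
          (Nat.card ↥((R : Subgroup N).map N.subtype)) :=
        hcop.coprime_dvd_right (Subgroup.card_dvd_of_le (Subgroup.map_subtype_le _))
      have h2 := CfsgLib.Core.card_sup_of_coprime _ _ hR hc2
      rw [sup_comm, htop, Subgroup.card_top, hcardG] at h2
      have h3 : (R : Subgroup N).map N.subtype = N := Subgroup.eq_of_le_of_card_ge
        (Subgroup.map_subtype_le _) (Nat.eq_of_mul_eq_mul_left Nat.card_pos h2).le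
      exact h3 ▸ R.isPGroup'.map N.subtype
    exact (Subgroup.mem_centralizer_singleton_iff.mp (key.ge hb).2).symm
  haveI := Fact.mk hr
  haveI := hNr.isNilpotent
  have hcomm := CfsgLib.Core.commutative_of_minimal_normal N inferInstance hNbot hmin
  obtain ⟨q, hq, hpow⟩ := CfsgLib.Core.exists_prime_pow_eq_one_of_minimal_normal N hcomm hNbot hmin
  have hqp : q ≠ p := by
    rintro rfl
    obtain ⟨a, ha⟩ := N.ne_bot_iff_exists_ne_one.mp hNbot
    have h1 : orderOf a = q := orderOf_eq_prime (Subtype.ext (hpow a a.2)) ha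
    exact hNp (h1 ▸ orderOf_dvd_natCard a)
  have hidx : N.index = p := by
    refine Nat.eq_of_mul_eq_mul_left (Nat.card_pos (α := N)) ?_
    rw [N.card_mul_index, hcardG, hPcard, mul_comm]
  have hna : ¬ IsMulCommutative G := fun h => hnc fun P => ⟨fun a ha g => by
    rwa [h.is_comm.comm g a, mul_inv_cancel_right]⟩
  obtain ⟨hc, -, -, -⟩ := Cfsg.Agent.S3869.result hq hqp hna N ⟨hcomm, hpow⟩ hidx hmin
  exact ⟨q, hq, hqp, by rw [hcardG, hPcard, hc], N, inferInstance, hc, ⟨hcomm, hpow⟩, hmin⟩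

end Cfsg.Agent.S3868
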