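import Cfsg.Statements.S3870
import Mathlib
import Cfsg.Prelude.Def_LocalStructure
import Cfsg.Agent.Lib.Transfer.Conj

set_option autoImplicit false
open Cfsg

namespace Cfsg.Agent.S3870

open scoped Pointwise


/-- Let G be a finite simple group whose Sylow p-subgroups are not normal but such that every proper subgroup of G has a normal Sylow p-subgroup. Then any two distinct Sylow p-subgroups of G intersect trivially, and for every Sylow p-subgroup P the normalizer of every non-identity subgroup of P lies in the normalizer of P. -/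
theorem result {G : Type*} [Group G] [Finite G] [IsSimpleGroup G] {p : ℕ} [Fact p.Prime]
    (hnc : ¬ Cfsg.IsPClosed p G) (hsub : ∀ H : Subgroup G, H ≠ ⊤ → Cfsg.IsPClosed p ↥H) :
    (∀ P Q : Sylow p G, P ≠ Q → (P : Subgroup G) ⊓ (Q : Subgroup G) = ⊥) ∧
      ∀ (P : Sylow p G) (R : Subgroup G), R ≤ P → R ≠ ⊥ →
        Subgroup.normalizer (R : Set G) ≤ Subgroup.normalizer ((P : Subgroup G) : Set G) := by
  have hnormN : ∀ R : Subgroup G, IsPGroup p R → R ≠ ⊥ → Subgroup.normalizer (R : Set G) ≠ ⊤ := by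
    intro R hR hne h
    haveI : R.Normal := Subgroup.normalizer_eq_top_iff.mp h
    rcases IsSimpleGroup.eq_bot_or_eq_top_of_normal R inferInstance with h1 | h1
    · exact hne h1
    · refine hnc fun P => ?_
      have : (P : Subgroup G) = ⊤ := top_le_iff.mp (h1 ▸ hR.le_sylow_of_normal P)
      rw [this]; infer_instance
  -- in a proper subgroup two `p`-subgroups generate a `p`-group
  have hgen : ∀ (K A B : Subgroup G), K ≠ ⊤ → A ≤ K → B ≤ K → IsPGroup p A → IsPGroup p B →
      ∃ S : Sylow p G, A ≤ S ∧ B ≤ S := by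
    intro K A B hK hAK hBK hA hB
    obtain ⟨T⟩ : Nonempty (Sylow p K) := inferInstance
    haveI := hsub K hK T
    obtain ⟨S, hS⟩ := (T.isPGroup'.map K.subtype).exists_le_sylow
    have hle : ∀ A' : Subgroup K, IsPGroup p A' → A' ≤ T := fun A' h =>
      (T.is_maximal' (h.to_sup_of_normal_right T.isPGroup') le_sup_right) ▸ le_sup_left
    have hA' : IsPGroup p (A.subgroupOf K) := hA.comap_subtype
    have hB' : IsPGroup p (B.subgroupOf K) := hB.comap_subtype
    exact ⟨S, fun x hx => hS ⟨⟨x, hAK hx⟩, hle _ hA' hx, rfl⟩,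
      fun x hx => hS ⟨⟨x, hBK hx⟩, hle _ hB' hx, rfl⟩⟩
  have hTI : ∀ P Q : Sylow p G, P ≠ Q → (P : Subgroup G) ⊓ (Q : Subgroup G) = ⊥ := by
    by_contra hcon
    push Not at hcon
    obtain ⟨P₀, Q₀, hne₀, h₀⟩ := hcon
    obtain ⟨⟨P, Q⟩, ⟨hPQ, hD⟩, hmax⟩ := (Set.toFinite
      {x : Sylow p G × Sylow p G | x.1 ≠ x.2 ∧ (x.1 : Subgroup G) ⊓ (x.2 : Subgroup G) ≠ ⊥}).exists_maximalFor
      (fun x => Nat.card ↥((x.1 : Subgroup G) ⊓ (x.2 : Subgroup G))) _ ⟨(P₀, Q₀), hne₀, h₀⟩
    set D := (P : Subgroup G) ⊓ (Q : Subgroup G) with hDdef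
    have hltP : D < P := lt_of_le_of_ne inf_le_left fun h => hPQ (Sylow.ext
      (P.is_maximal' Q.isPGroup' (h ▸ inf_le_right)).symm)
    have hltQ : D < Q := lt_of_le_of_ne inf_le_right fun h => hPQ (Sylow.ext
      (Q.is_maximal' P.isPGroup' (h ▸ inf_le_left)))
    obtain ⟨S, hSP, hSQ⟩ := hgen _ ((P : Subgroup G) ⊓ Subgroup.normalizer (D : Set G))
      ((Q : Subgroup G) ⊓ Subgroup.normalizer (D : Set G)) (hnormN D (P.isPGroup'.to_le inf_le_left) hD)
      inf_le_right inf_le_right (P.isPGroup'.to_le inf_le_left) (Q.isPGroup'.to_le inf_le_left)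
    have key : ∀ X : Sylow p G, D < X → (X : Subgroup G) ⊓ Subgroup.normalizer (D : Set G) ≤ S →
        S = X := by
      intro X hDX hXS
      by_contra hne
      have hlt := CfsgLib.Transfer.lt_inf_normalizer X.isPGroup' hDX
      have hlt2 : D < (X : Subgroup G) ⊓ (S : Subgroup G) :=
        lt_of_lt_of_le hlt (le_inf inf_le_left hXS)
      have h2 := CfsgLib.Transfer.card_lt_of_lt hlt2
      have := hmax (j := (X, S)) ⟨Ne.symm hne, fun h => not_lt_bot (h ▸ hlt2)⟩ h2.le
      exact absurd this (not_le.mpr h2)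
    exact hPQ ((key P hltP hSP).symm.trans (key Q hltQ hSQ))
  refine ⟨hTI, fun P R hRP hR g hg => ?_⟩
  rw [Sylow.coe_coe, ← Sylow.smul_eq_iff_mem_normalizer]
  by_contra hne
  refine hR (le_bot_iff.mp ?_)
  rw [← hTI (g • P) P hne]
  refine le_inf (fun x hx => ?_) hRP
  exact ⟨g⁻¹ * x * g, hRP ((Subgroup.mem_normalizer_iff''.mp hg x).mp hx), by simp [mul_assoc]⟩

end Cfsg.Agent.S3870
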