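import Cfsg.Statements.S3872
import Mathlib
import Cfsg.Agent.Lib.PGroups.Basic
import Cfsg.Agent.Lib.PGroups.PolyMap
import Cfsg.Agent.Lib.Core.Nilpotent

set_option autoImplicit false
open Cfsg

namespace Cfsg.Agent.S3872

set_option linter.style.haveILetI false
open Subgroup

/-- Say that a finite group is p-exponent closed when its elements of order dividing p form a subgroup. Let G be a finite p-group that is not p-exponent closed, but all of whose proper subgroups and proper quotients are. Then G is generated by two elements, has nilpotency class at least p, has exponent p², has cyclic center, and has order at least p^(p+1). -/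
theorem result {G : Type*} [Group G] [Finite G] {p : ℕ} [Fact p.Prime] (hG : IsPGroup p G)
    (hnc : ¬ (∃ H : Subgroup G, (H : Set G) = {g : G | g ^ p = 1})) (hsub : ∀ K : Subgroup G, K ≠ ⊤ → (∃ H : Subgroup ↥K, (H : Set ↥K) = {g : ↥K | g ^ p = 1}))
    (hquo : ∀ (N : Subgroup G) [N.Normal], N ≠ ⊥ → (∃ H : Subgroup (G ⧸ N), (H : Set (G ⧸ N)) = {g : (G ⧸ N) | g ^ p = 1})) :
    (∃ x y : G, Subgroup.closure ({x, y} : Set G) = ⊤) ∧ (⊤ : Subgroup G).lowerCentralSeries (p - 1) ≠ ⊥ ∧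
      Monoid.exponent G = p ^ 2 ∧ IsCyclic ↥(Subgroup.center G) ∧ p ^ (p + 1) ≤ Nat.card G := by
  have hp := (Fact.out : p.Prime)
  haveI := hG.isNilpotent
  obtain ⟨x, y, hx, hy, hxy⟩ : ∃ x y : G, x ^ p = 1 ∧ y ^ p = 1 ∧ (x * y) ^ p ≠ 1 := by
    by_contra h
    push Not at h
    exact hnc ⟨{ carrier := {g : G | g ^ p = 1}
                 one_mem' := one_pow p
                 mul_mem' := fun {a b} ha hb => h a b ha hb
                 inv_mem' := fun {a} (ha : a ^ p = 1) => by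
                   show a⁻¹ ^ p = 1
                   rw [inv_pow, ha, inv_one] }, rfl⟩
  have hclosed : ∀ K : Subgroup G, K ≠ ⊤ → ∀ a ∈ K, ∀ b ∈ K, a ^ p = 1 → b ^ p = 1 →
      (a * b) ^ p = 1 := by
    intro K hK a ha b hb ha' hb'
    obtain ⟨H, hH⟩ := hsub K hK
    have hmem : ∀ c : ↥K, (c : G) ^ p = 1 → c ∈ H := fun c hc => by
      show c ∈ (H : Set ↥K)
      rw [hH]; exact Subtype.ext hc
    have h1 : (⟨a, ha⟩ * ⟨b, hb⟩ : ↥K) ∈ {g : ↥K | g ^ p = 1} :=
      hH ▸ H.mul_mem (hmem ⟨a, ha⟩ ha') (hmem ⟨b, hb⟩ hb')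
    exact congrArg Subtype.val h1
  have hgen : Subgroup.closure ({x, y} : Set G) = ⊤ := by
    by_contra h
    exact hxy (hclosed _ h x (Subgroup.subset_closure (Set.mem_insert _ _)) y
      (Subgroup.subset_closure (Set.mem_insert_of_mem _ rfl)) hx hy)
  set M := Subgroup.normalClosure ({x} : Set G) with hM
  have hxM : x ∈ M := Subgroup.subset_normalClosure rfl
  have hMtop : M ≠ ⊤ := by
    intro h
    rcases eq_top_or_exists_le_coatom (Subgroup.zpowers x) with h1 | ⟨C, hC, hxC⟩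
    · refine hxy ?_
      obtain ⟨k, rfl⟩ : y ∈ Subgroup.zpowers x := h1 ▸ Subgroup.mem_top y
      rw [(Commute.self_zpow x k).mul_pow, hx, hy, one_mul]
    · haveI := CfsgLib.PGroups.normal_of_isCoatom' hG hC
      exact hC.1 (top_le_iff.mp (h ▸ Subgroup.normalClosure_le_normal
        (Set.singleton_subset_iff.mpr (hxC (Subgroup.mem_zpowers x)))))
  have hMexp : ∀ m ∈ M, m ^ p = 1 := by
    obtain ⟨H, hH⟩ := hsub M hMtop
    have hle : M ≤ H.map M.subtype := by
      conv_lhs => rw [hM, Subgroup.normalClosure]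
      rw [Subgroup.closure_le]
      intro c hc
      obtain ⟨a, ha, hac⟩ := Group.mem_conjugatesOfSet_iff.mp hc
      rw [Set.mem_singleton_iff] at ha
      subst ha
      obtain ⟨g, rfl⟩ := isConj_iff.mp hac
      refine ⟨⟨g * a * g⁻¹, Subgroup.normalClosure_normal.conj_mem _ hxM g⟩, ?_, rfl⟩
      show _ ∈ (H : Set ↥M)
      rw [hH]
      exact Subtype.ext (show (g * a * g⁻¹) ^ p = 1 by rw [conj_pow, hx, mul_one, mul_inv_cancel])
    intro m hm
    obtain ⟨c, hc, rfl⟩ := hle hm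
    exact congrArg Subtype.val (show c ∈ {g : ↥M | g ^ p = 1} from hH ▸ hc)
  have hclass : (⊤ : Subgroup G).lowerCentralSeries (p - 1) ≠ ⊥ := fun h =>
    hxy (by rw [CfsgLib.PGroups.mul_pow_prime_of_class_lt hp h M hMexp hxM y, hx, hy, one_mul])
  have hquoexp : ∀ (Z : Subgroup G) [Z.Normal], Z ≠ ⊥ → ∀ g : G, g ^ p ∈ Z := by
    intro Z _ hZ g
    obtain ⟨H, hH⟩ := hquo Z hZ
    have h1 : Subgroup.closure ({x, y} : Set G) ≤ H.comap (QuotientGroup.mk' Z) := by
      rw [Subgroup.closure_le]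
      rintro c (rfl | rfl)
      · show QuotientGroup.mk' Z c ∈ (H : Set (G ⧸ Z))
        rw [hH]
        show QuotientGroup.mk' Z c ^ p = 1
        rw [← map_pow, hx, map_one]
      · show QuotientGroup.mk' Z c ∈ (H : Set (G ⧸ Z))
        rw [hH]
        show QuotientGroup.mk' Z c ^ p = 1
        rw [← map_pow, hy, map_one]
    have h2 : QuotientGroup.mk' Z g ∈ {w : G ⧸ Z | w ^ p = 1} := hH ▸ h1 (hgen ▸ Subgroup.mem_top g)
    rw [← QuotientGroup.eq_one_iff, QuotientGroup.mk_pow]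
    exact h2
  have hsubcenter : ∀ c ∈ Subgroup.center G, orderOf c = p →
      (Subgroup.zpowers c).Normal ∧ Subgroup.zpowers c ≠ ⊥ := by
    intro c hc ho
    refine ⟨⟨fun a ha g => ?_⟩, fun h => ?_⟩
    · rwa [(Subgroup.mem_center_iff.mp ((Subgroup.zpowers_le.mpr hc) ha) g), mul_inv_cancel_right]
    · rw [Subgroup.zpowers_eq_bot] at h
      rw [h, orderOf_one] at ho
      exact hp.ne_one ho.symm
  haveI hnt : Nontrivial G := nontrivial_of_ne _ _ hxy
  obtain ⟨z, hz⟩ := exists_prime_orderOf_dvd_card' (G := ↥(Subgroup.center G)) p (by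
    haveI := hG.center_nontrivial
    exact ((hG.to_subgroup _).card_eq_or_dvd).resolve_left
      (Finite.one_lt_card (α := ↥(Subgroup.center G))).ne')
  have hzo : orderOf (z : G) = p := by rw [Subgroup.orderOf_coe, hz]
  obtain ⟨hzn, hzne⟩ := hsubcenter z z.2 hzo
  have hexp2 : ∀ g : G, g ^ p ^ 2 = 1 := by
    intro g
    haveI := hzn
    obtain ⟨k, hk⟩ := hquoexp _ hzne g
    rw [pow_two, pow_mul, ← hk, ← zpow_natCast, ← zpow_mul, mul_comm, zpow_mul, zpow_natCast,
      ← hzo, pow_orderOf_eq_one, one_zpow]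
  have hexp : Monoid.exponent G = p ^ 2 := by
    obtain ⟨j, hj, he⟩ := (Nat.dvd_prime_pow hp).mp (Monoid.exponent_dvd_of_forall_pow_eq_one hexp2)
    rcases Nat.lt_or_ge j 2 with h | h
    · refine absurd ?_ hxy
      refine orderOf_dvd_iff_pow_eq_one.mp ((Monoid.order_dvd_exponent (x * y)).trans ?_)
      rw [he]
      calc p ^ j ∣ p ^ 1 := pow_dvd_pow p (by omega)
        _ = p := pow_one p
    · rw [he, show j = 2 by omega]
  have hcyc : IsCyclic ↥(Subgroup.center G) := by
    by_contra hnc'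
    obtain ⟨r, hr, E, hEC, hEexp, hE⟩ :=
      CfsgLib.Core.exists_elementary_of_not_isCyclic (Subgroup.center G) hnc'
    have hlt : 1 < r ^ 2 := Nat.one_lt_pow two_ne_zero hr.one_lt
    haveI : Nontrivial ↥E := Finite.one_lt_card_iff_nontrivial.mp (by omega)
    obtain ⟨c, hc⟩ := exists_ne (1 : ↥E)
    have hc1 : (c : G) ≠ 1 := fun h => hc (Subtype.ext h)
    haveI := Fact.mk hr
    have hrp : r = p := by
      have h1 : orderOf (c : G) = r := orderOf_eq_prime (hEexp c c.2) hc1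
      obtain ⟨k, hk⟩ := (isPGroup_iff_orderOf_dvd_pow.mp hG) (c : G)
      rw [h1] at hk
      exact (Nat.prime_dvd_prime_iff_eq hr hp).mp (hr.dvd_of_dvd_pow hk)
    subst hrp
    obtain ⟨d, hd, hdc⟩ : ∃ d ∈ E, d ∉ Subgroup.zpowers (c : G) := by
      by_contra h
      push Not at h
      have h1 := (Subgroup.card_le_of_le h).trans' hE
      rw [Nat.card_zpowers, orderOf_eq_prime (hEexp c c.2) hc1] at h1
      have := hr.two_le
      nlinarith
    have hd1 : d ≠ 1 := fun h => hdc (h ▸ one_mem _)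
    have hco := orderOf_eq_prime (hEexp c c.2) hc1
    have hdo := orderOf_eq_prime (hEexp d hd) hd1
    obtain ⟨hcn, hcne⟩ := hsubcenter c (hEC c.2) hco
    obtain ⟨hdn, hdne⟩ := hsubcenter d (hEC hd) hdo
    have h1 : (x * y) ^ r ∈ Subgroup.zpowers (c : G) ⊓ Subgroup.zpowers d :=
      ⟨haveI := hcn; hquoexp _ hcne _, haveI := hdn; hquoexp _ hdne _⟩
    have h2 : Subgroup.zpowers (c : G) ⊓ Subgroup.zpowers d = ⊥ := by
      by_contra h3
      have hdvd := Subgroup.card_dvd_of_le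
        (inf_le_right : Subgroup.zpowers (c : G) ⊓ Subgroup.zpowers d ≤ _)
      rw [Nat.card_zpowers, hdo] at hdvd
      rcases (Nat.dvd_prime hr).mp hdvd with e | e
      · exact h3 (Subgroup.eq_bot_of_card_eq _ e)
      · have e2 : Subgroup.zpowers (c : G) ⊓ Subgroup.zpowers d = Subgroup.zpowers d :=
          Subgroup.eq_of_le_of_card_ge inf_le_right (by rw [e, Nat.card_zpowers, hdo])
        exact hdc ((e2.ge (Subgroup.mem_zpowers d)).1)
    rw [h2, Subgroup.mem_bot] at h1
    exact hxy h1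
  refine ⟨⟨x, y, hgen⟩, hclass, hexp, hcyc, ?_⟩
  obtain ⟨n, hn⟩ := IsPGroup.iff_card.mp hG
  rw [hn]
  refine Nat.pow_le_pow_right hp.pos ?_
  by_contra hlt
  refine hclass (Subgroup.lowerCentralSeries_eq_bot_iff_nilpotencyClass_le.mpr ?_)
  have h2 : 2 ≤ n := by
    by_contra h
    refine hxy ?_
    have h3 : (x * y) ^ p ^ n = 1 := by rw [← hn, pow_card_eq_one']
    obtain ⟨e, he⟩ : p ^ n ∣ p ^ 1 := pow_dvd_pow p (by omega)
    rw [← pow_one p, he, pow_mul, h3, one_pow]
  exact (CfsgLib.Core.nilpotencyClass_le_of_card_eq_pow hn h2).trans (by omega)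

end Cfsg.Agent.S3872
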