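import Cfsg.Statements.S3873
import Mathlib
import Cfsg.Agent.Lib.Core.MinNormal
import Cfsg.Agent.S3868

set_option autoImplicit false
open Cfsg

namespace Cfsg.Agent.S3873

set_option linter.style.haveILetI false

variable {G : Type*} [Group G] {p : ℕ}

theorem isPGroup_of_eq {H : Subgroup G} (h : (H : Set G) = {g : G | g ^ p = 1}) :
    IsPGroup p H := fun g => ⟨1, Subtype.ext (by
  have : (g : G) ∈ {g : G | g ^ p = 1} := h ▸ g.2
  simpa using this)⟩

theorem normal_of_eq {H : Subgroup G} (h : (H : Set G) = {g : G | g ^ p = 1}) : H.Normal := ⟨by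
  intro a ha g
  have ha' : a ^ p = 1 := by
    have : a ∈ {g : G | g ^ p = 1} := h ▸ ha
    exact this
  show g * a * g⁻¹ ∈ (H : Set G)
  rw [h]
  show (g * a * g⁻¹) ^ p = 1
  rw [conj_pow, ha', mul_one, mul_inv_cancel]⟩

/-- Say that a finite group is p-exponent closed when its elements of order dividing p form a subgroup. Let G be a finite group that is not p-exponent closed, but all of whose proper subgroups and proper quotients are, and suppose G is neither simple nor a p-group. Then there is a prime q ≠ p such that G has order p · q^e, where e is the multiplicative order of q modulo p, and G has a normal elementary abelian subgroup of order q^e that is a minimal normal subgroup of G. -/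
theorem result {G : Type*} [Group G] [Finite G] {p : ℕ} [Fact p.Prime]
    (hnc : ¬ (∃ H : Subgroup G, (H : Set G) = {g : G | g ^ p = 1})) (hsub : ∀ K : Subgroup G, K ≠ ⊤ → (∃ H : Subgroup ↥K, (H : Set ↥K) = {g : ↥K | g ^ p = 1}))
    (hquo : ∀ (N : Subgroup G) [N.Normal], N ≠ ⊥ → (∃ H : Subgroup (G ⧸ N), (H : Set (G ⧸ N)) = {g : (G ⧸ N) | g ^ p = 1}))
    (hns : ¬ IsSimpleGroup G) (hnp : ¬ IsPGroup p G) :
    ∃ q : ℕ, q.Prime ∧ q ≠ p ∧ Nat.card G = p * q ^ orderOf (q : ZMod p) ∧
      ∃ A : Subgroup G, A.Normal ∧ Nat.card ↥A = q ^ orderOf (q : ZMod p) ∧ Cfsg.IsElementaryAbelian q A ∧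
        ∀ B : Subgroup G, B.Normal → B ≤ A → B = ⊥ ∨ B = A := by
  have hp := (Fact.out : p.Prime)
  haveI : Nontrivial G := by
    by_contra h
    haveI := not_nontrivial_iff_subsingleton.mp h
    exact hnc ⟨⊤, by ext g; simp [Subsingleton.elim g 1]⟩
  set W := Subgroup.closure {g : G | g ^ p = 1} with hW
  have hWtop : W = ⊤ := by
    by_contra hne
    obtain ⟨H, hH⟩ := hsub W hne
    refine hnc ⟨H.map W.subtype, ?_⟩
    ext g
    refine ⟨?_, fun hg => ?_⟩
    · rintro ⟨w, hw, rfl⟩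
      have : w ∈ {g : ↥W | g ^ p = 1} := hH ▸ hw
      exact congrArg Subtype.val this
    · refine ⟨⟨g, Subgroup.subset_closure hg⟩, ?_, rfl⟩
      show (⟨g, _⟩ : ↥W) ∈ (H : Set ↥W)
      rw [hH]
      exact Subtype.ext hg
  have hquoP : ∀ (M : Subgroup G) [M.Normal], M ≠ ⊥ → ∀ g : G, g ^ p ∈ M := by
    intro M _ hM g
    obtain ⟨H, hH⟩ := hquo M hM
    have h1 : W ≤ H.comap (QuotientGroup.mk' M) := by
      rw [hW, Subgroup.closure_le]
      intro x hx
      show QuotientGroup.mk' M x ∈ (H : Set (G ⧸ M))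
      rw [hH]
      show QuotientGroup.mk' M x ^ p = 1
      rw [← map_pow, show x ^ p = 1 from hx, map_one]
    have h2 : QuotientGroup.mk' M g ∈ {y : G ⧸ M | y ^ p = 1} := hH ▸ h1 (hWtop ▸ Subgroup.mem_top g)
    rw [← QuotientGroup.eq_one_iff, QuotientGroup.mk_pow]
    exact h2
  obtain ⟨N₀, hN₀, hN₀bot, hN₀top⟩ : ∃ N₀ : Subgroup G, N₀.Normal ∧ N₀ ≠ ⊥ ∧ N₀ ≠ ⊤ := by
    by_contra h
    push Not at h
    exact hns ⟨fun N hN => or_iff_not_imp_left.mpr (h N hN)⟩
  haveI := hN₀
  obtain ⟨N, hN, hNbot, hNle, hmin⟩ := CfsgLib.Core.exists_minimal_normal_le' N₀ hN₀bot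
  haveI := hN
  have hNtop : N ≠ ⊤ := fun h => hN₀top (top_le_iff.mp (h ▸ hNle))
  have hNp : ¬ p ∣ Nat.card N := by
    intro hd
    obtain ⟨H, hH⟩ := hsub N hNtop
    haveI := normal_of_eq hH
    haveI : H.Characteristic := by
      rw [Subgroup.characteristic_iff_comap_eq]
      intro e
      ext x
      have hiff : ∀ y : ↥N, y ∈ H ↔ y ^ p = 1 := fun y => Set.ext_iff.mp hH y
      rw [Subgroup.mem_comap, hiff, hiff, ← map_pow]
      exact map_eq_one_iff _ e.injective
    obtain ⟨x, hx⟩ := exists_prime_orderOf_dvd_card' (G := N) p hd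
    have hxH : x ∈ H := by
      show x ∈ (H : Set ↥N)
      rw [hH]
      show x ^ p = 1
      rw [← hx, pow_orderOf_eq_one]
    have hHN : H.map N.subtype = N := by
      refine (hmin _ inferInstance (Subgroup.map_subtype_le _)).resolve_left fun h => ?_
      rw [Subgroup.map_eq_bot_iff_of_injective _ N.subtype_injective] at h
      rw [h, Subgroup.mem_bot] at hxH
      rw [hxH, orderOf_one] at hx
      exact hp.ne_one hx.symm
    have hNpg : IsPGroup p N := hHN ▸ (isPGroup_of_eq hH).map N.subtype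
    refine hnp fun g => ?_
    obtain ⟨k, hk⟩ := hNpg ⟨g ^ p, hquoP N hNbot g⟩
    refine ⟨k + 1, ?_⟩
    rw [pow_succ', pow_mul]
    exact congrArg Subtype.val hk
  -- every non-trivial normal subgroup contains `N`
  have huniq : ∀ M : Subgroup G, M.Normal → M ≠ ⊥ → N ≤ M := by
    intro M hM hMbot
    haveI := hM
    rcases hmin (N ⊓ M) inferInstance inf_le_left with h | h
    · exfalso
      refine hnp fun g => ⟨1, ?_⟩
      have : g ^ p ∈ N ⊓ M := ⟨hquoP N hNbot g, hquoP M hMbot g⟩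
      rw [h, Subgroup.mem_bot] at this
      rw [pow_one]; exact this
    · exact inf_eq_left.mp h
  obtain ⟨P⟩ : Nonempty (Sylow p G) := inferInstance
  have hcop : (Nat.card ↥(P : Subgroup G)).Coprime (Nat.card N) := by
    obtain ⟨j, hj⟩ := IsPGroup.iff_card.mp P.isPGroup'
    rw [hj]
    exact ((hp.coprime_iff_not_dvd).mpr hNp).pow_left j
  have hPexp : ∀ g ∈ (P : Subgroup G), g ^ p = 1 := by
    intro g hg
    have : g ^ p ∈ (P : Subgroup G) ⊓ N := ⟨(P : Subgroup G).pow_mem hg p, hquoP N hNbot g⟩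
    rwa [Subgroup.inf_eq_bot_of_coprime hcop, Subgroup.mem_bot] at this
  have hQp : IsPGroup p (G ⧸ N) := by
    rintro ⟨g⟩
    exact ⟨1, by
      rw [pow_one]
      exact (QuotientGroup.eq_one_iff (g ^ p)).mpr (hquoP N hNbot g)⟩
  have hPN : (P : Subgroup G) ⊔ N = ⊤ := by
    rw [← Subgroup.index_eq_one]
    refine Nat.eq_one_of_dvd_coprimes (a := (P : Subgroup G).index) (b := N.index) ?_
      (Subgroup.index_dvd_of_le le_sup_left) (Subgroup.index_dvd_of_le le_sup_right)
    obtain ⟨k, hk⟩ := IsPGroup.iff_card.mp hQp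
    rw [Subgroup.index_eq_card N, hk]
    exact ((hp.coprime_iff_not_dvd.mpr P.not_dvd_index).pow_left k).symm
  have hCP : ∀ a ∈ (P : Subgroup G), (∀ b ∈ N, a * b = b * a) → a = 1 := by
    intro a ha hab
    set C := (P : Subgroup G) ⊓ Subgroup.centralizer (N : Set G) with hC
    have hCn : C.Normal := by
      rw [← Subgroup.normalizer_eq_top_iff, eq_top_iff, ← hPN]
      refine sup_le ?_ (fun n hn => Subgroup.centralizer_le_normalizer _
        (Subgroup.mem_centralizer_iff.mpr fun c hc =>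
          (Subgroup.mem_centralizer_iff.mp hc.2 n hn).symm))
      exact (le_inf Subgroup.le_normalizer (le_top.trans (le_of_eq
        (Subgroup.normalizer_eq_top_iff.mpr inferInstance).symm))).trans
        Subgroup.inf_normalizer_le_normalizer_inf
    by_contra ha1
    have hCbot : C ≠ ⊥ := fun h => ha1 (Subgroup.mem_bot.mp (h ▸ ⟨ha,
      Subgroup.mem_centralizer_iff.mpr fun b hb => (hab b hb).symm⟩))
    exact hNbot (le_bot_iff.mp ((le_inf ((huniq C hCn hCbot).trans inf_le_left) le_rfl).trans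
      (Subgroup.inf_eq_bot_of_coprime hcop).le))
  have hPbot : (P : Subgroup G) ≠ ⊥ := fun h => hNtop (by rw [h, bot_sup_eq] at hPN; exact hPN)
  obtain ⟨⟨x, hxP⟩, hx1'⟩ := (P : Subgroup G).ne_bot_iff_exists_ne_one.mp hPbot
  have hx1 : x ≠ 1 := fun h => hx1' (Subtype.ext h)
  have hxo : orderOf x = p := orderOf_eq_prime (hPexp x hxP) hx1
  have hgen : Subgroup.zpowers x ⊔ N = ⊤ := by
    by_contra hne
    refine hx1 (hCP x hxP fun b hb => ?_)
    obtain ⟨H, hH⟩ := hsub _ hne
    haveI := normal_of_eq hH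
    haveI : (N.subgroupOf (Subgroup.zpowers x ⊔ N)).Normal := inferInstance
    have hxH : (⟨x, Subgroup.mem_sup_left (Subgroup.mem_zpowers x)⟩ :
        ↥(Subgroup.zpowers x ⊔ N)) ∈ H := by
      show _ ∈ (H : Set ↥(Subgroup.zpowers x ⊔ N))
      rw [hH]
      exact Subtype.ext (hPexp x hxP)
    have hdisj : Disjoint H (N.subgroupOf (Subgroup.zpowers x ⊔ N)) := by
      rw [disjoint_iff]
      apply Subgroup.inf_eq_bot_of_coprime
      obtain ⟨j, hj⟩ := IsPGroup.iff_card.mp (isPGroup_of_eq hH)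
      rw [hj, Nat.card_congr (Subgroup.subgroupOfEquivOfLe le_sup_right).toEquiv]
      exact ((hp.coprime_iff_not_dvd).mpr hNp).pow_left j
    exact congrArg Subtype.val (Subgroup.commute_of_normal_of_disjoint _ _ inferInstance inferInstance
      hdisj _ (⟨b, Subgroup.mem_sup_right hb⟩ : ↥(Subgroup.zpowers x ⊔ N)) hxH hb).eq
  have hcardG : Nat.card G = p * Nat.card N := by
    have h := CfsgLib.Core.card_sup_of_coprime (Subgroup.zpowers x) N
      (CfsgLib.Core.le_normalizer_of_normal _ N)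
      (hcop.coprime_dvd_left (Subgroup.card_dvd_of_le (Subgroup.zpowers_le.mpr hxP)))
    rwa [hgen, Subgroup.card_top, Nat.card_zpowers, hxo] at h
  have hPcard : ∀ (H : Subgroup G), IsPGroup p H → ∀ g ∈ H, g ^ p = 1 := by
    intro H hH g hg
    obtain ⟨k, hk⟩ := IsPGroup.iff_card.mp hH
    have h1 : Nat.card H ∣ p := by
      refine (Nat.Coprime.dvd_of_dvd_mul_right ?_ (hcardG ▸ H.card_subgroup_dvd_card))
      rw [hk]; exact ((hp.coprime_iff_not_dvd).mpr hNp).pow_left k
    obtain ⟨c, hc⟩ := h1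
    have h2 := congrArg Subtype.val (pow_card_eq_one' (x := (⟨g, hg⟩ : H)))
    simp only [SubgroupClass.coe_pow, OneMemClass.coe_one] at h2
    rw [hc, pow_mul, h2, one_pow]
  have hnc' : ¬ Cfsg.IsPClosed p G := by
    intro h
    refine hnc ⟨P, ?_⟩
    ext g
    refine ⟨fun hg => hPexp g hg, fun hg => ?_⟩
    haveI := h P
    have : IsPGroup p (Subgroup.zpowers g) := by
      rintro ⟨_, n, rfl⟩
      refine ⟨1, Subtype.ext ?_⟩
      show (g ^ n) ^ (p ^ 1) = 1
      rw [pow_one, ← zpow_natCast (g ^ n), ← zpow_mul, mul_comm, zpow_mul, zpow_natCast,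
        show g ^ p = 1 from hg, one_zpow]
    obtain ⟨Q, hQ⟩ := this.exists_le_sylow
    haveI := Sylow.unique_of_normal P (h P)
    rw [Subsingleton.elim Q P] at hQ
    exact hQ (Subgroup.mem_zpowers g)
  have hsub' : ∀ H : Subgroup G, H ≠ ⊤ → Cfsg.IsPClosed p ↥H := by
    intro H hH Q
    obtain ⟨S, hS⟩ := hsub H hH
    have hQS : (Q : Subgroup H) ≤ S := by
      intro g hg
      show g ∈ (S : Set ↥H)
      rw [hS]
      exact Subtype.ext (hPcard _ (Q.isPGroup'.map H.subtype) (g : G) ⟨g, hg, rfl⟩)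
    rw [← Q.3 (isPGroup_of_eq hS) hQS]
    exact normal_of_eq hS
  have hquo' : ∀ (M : Subgroup G) [M.Normal], M ≠ ⊥ → Cfsg.IsPClosed p (G ⧸ M) := by
    intro M hM hMbot Q
    have hMp : IsPGroup p (G ⧸ M) := by
      rintro ⟨g⟩
      exact ⟨1, by
        rw [pow_one]
        exact (QuotientGroup.eq_one_iff (g ^ p)).mpr (huniq M hM hMbot (hquoP N hNbot g))⟩
    rw [← Q.3 (hMp.to_subgroup ⊤) le_top]
    infer_instance
  exact Cfsg.Agent.S3868.result hnc' hsub' hquo' hns

end Cfsg.Agent.S3873
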