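import Cfsg.Statements.S3875
import Cfsg.Agent.Lib.HallGen.NonClosedLeast
import Cfsg.Agent.Lib.Classical.PSLTwoSimple

set_option autoImplicit false
open Cfsg

namespace Cfsg.Agent.S3875

theorem exists_affine (p : ℕ) [Fact p.Prime] (m : ℕ) (hm : IsPrimePow m) (hm1 : m % p = 1) :
    ∃ (H : Type) (_ : Group H) (_ : Finite H), Nat.card H = p * m ∧ ¬ Cfsg.IsPClosed p H := by
  have hp : p.Prime := Fact.out
  obtain ⟨r, b, hr, hb, rfl⟩ := (isPrimePow_nat_iff m).1 hm
  haveI := Fact.mk hr
  haveI : Finite (GaloisField r b) := Module.finite_of_finite (ZMod r)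
  have hcard : Nat.card (GaloisField r b) = r ^ b := GaloisField.card r b hb.ne'
  obtain ⟨u, hu⟩ : ∃ u : (GaloisField r b)ˣ, orderOf u = p := by
    refine exists_prime_orderOf_dvd_card' p ?_
    rw [Nat.card_units, hcard]
    exact (Nat.modEq_iff_dvd' (Nat.one_le_pow _ _ hr.pos)).1 (show 1 % p = r ^ b % p by rw [hm1, Nat.one_mod_eq_one.2 hp.ne_one])
  let C : Subgroup (GaloisField r b)ˣ := Subgroup.zpowers u
  let ψ : C →* MulAut (Multiplicative (GaloisField r b)) :=
    { toFun := fun c => AddEquiv.toMultiplicative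
        (DistribMulAction.toAddEquiv (GaloisField r b) (c : (GaloisField r b)ˣ))
      map_one' := by
        ext x
        show Multiplicative.ofAdd (((1 : C) : (GaloisField r b)ˣ) • Multiplicative.toAdd x) = x
        simp
      map_mul' := fun c d => by
        ext x
        show Multiplicative.ofAdd (((c * d : C) : (GaloisField r b)ˣ) • Multiplicative.toAdd x) = Multiplicative.ofAdd ((c : (GaloisField r b)ˣ) • ((d : (GaloisField r b)ˣ) • Multiplicative.toAdd x))
        rw [Subgroup.coe_mul, mul_smul] }
  let H := Multiplicative (GaloisField r b) ⋊[ψ] C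
  haveI : Finite H := Finite.of_equiv _ (SemidirectProduct.equivProd (φ := ψ)).symm
  have hH : Nat.card H = p * r ^ b := by
    rw [SemidirectProduct.card, Nat.card_zpowers, hu, mul_comm]
    show p * Nat.card (Multiplicative (GaloisField r b)) = _
    rw [Nat.card_congr Multiplicative.toAdd, hcard]
  refine ⟨H, inferInstance, inferInstance, hH, fun hc => ?_⟩
  let ir : C →* H := SemidirectProduct.inr
  have hR : IsPGroup p ir.range := by
    refine IsPGroup.of_card (n := 1) ?_
    rw [MonoidHom.range_eq_map, Subgroup.card_map_of_injective SemidirectProduct.inr_injective,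
      Subgroup.card_top, Nat.card_zpowers, hu, pow_one]
  have hRi : ¬ p ∣ ir.range.index := by
    have h1 := ir.range.card_mul_index
    rw [MonoidHom.range_eq_map, Subgroup.card_map_of_injective SemidirectProduct.inr_injective,
      Subgroup.card_top, Nat.card_zpowers, hu, hH] at h1
    rw [MonoidHom.range_eq_map, Nat.eq_of_mul_eq_mul_left hp.pos h1]
    intro hd
    have := (Nat.mod_eq_zero_of_dvd hd).symm.trans hm1
    omega
  have hn := hc (hR.toSylow hRi)
  rw [IsPGroup.toSylow_coe] at hn
  set v : H := SemidirectProduct.inl (Multiplicative.ofAdd (1 : GaloisField r b)) with hv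
  obtain ⟨c, hc'⟩ := hn.conj_mem (ir ⟨u, Subgroup.mem_zpowers u⟩) ⟨_, rfl⟩ v
  have h3 : (SemidirectProduct.inl (Multiplicative.ofAdd (1 : GaloisField r b)) *
      SemidirectProduct.inr (⟨u, Subgroup.mem_zpowers u⟩ : C) *
      (SemidirectProduct.inl (Multiplicative.ofAdd (1 : GaloisField r b)))⁻¹ :
        Multiplicative (GaloisField r b) ⋊[ψ] C).left =
      (SemidirectProduct.inr c : Multiplicative (GaloisField r b) ⋊[ψ] C).left :=
    congrArg SemidirectProduct.left hc'.symm
  simp only [SemidirectProduct.mul_left, SemidirectProduct.mul_right, SemidirectProduct.left_inr,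
    SemidirectProduct.left_inl, SemidirectProduct.right_inl, SemidirectProduct.right_inr,
    SemidirectProduct.inv_left, SemidirectProduct.inv_right, map_one, one_mul, mul_one, inv_one,
    MulAut.one_apply] at h3
  have h4 : (u : GaloisField r b) = 1 := by
    have h5 : (1 : GaloisField r b) + (u : GaloisField r b) * (-1) = 0 := congrArg Multiplicative.toAdd h3
    rw [mul_neg_one, add_neg_eq_zero] at h5
    exact h5.symm
  have : u = 1 := Units.ext h4
  rw [this, orderOf_one] at hu
  exact hp.one_lt.ne hu

theorem exists_psl (p : ℕ) [Fact p.Prime] (hp5 : 5 ≤ p) :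
    ∃ (H : Type) (_ : Group H) (_ : Finite H), Nat.card H = p * (p ^ 2 - 1) / 2 ∧ ¬ Cfsg.IsPClosed p H := by
  have hp : p.Prime := Fact.out
  haveI hs := CfsgLib.Classical.isSimpleGroup_PSL_two (F := ZMod p) (by rw [ZMod.card]; omega)
  refine ⟨Matrix.ProjectiveSpecialLinearGroup (Fin 2) (ZMod p), inferInstance, inferInstance, ?_, fun hc => ?_⟩
  · have h := CfsgLib.Classical.Two.card_PSL_two (F := ZMod p)
    rw [ZMod.card] at h
    have hodd : Even (p - 1) := Nat.Odd.sub_odd (hp.odd_of_ne_two (by omega)) odd_one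
    rw [Nat.gcd_eq_left hodd.two_dvd] at h
    omega
  · have h := CfsgLib.Classical.Two.card_PSL_two (F := ZMod p)
    rw [ZMod.card] at h
    obtain ⟨P⟩ : Nonempty (Sylow p (Matrix.ProjectiveSpecialLinearGroup (Fin 2) (ZMod p))) := inferInstance
    have hp2 : ¬ p ∣ Nat.gcd 2 (p - 1) := fun hd => by
      have := Nat.le_of_dvd two_pos (hd.trans (Nat.gcd_dvd_left _ _))
      omega
    have hd : p ∣ Nat.card (Matrix.ProjectiveSpecialLinearGroup (Fin 2) (ZMod p)) :=
      (hp.dvd_mul.1 (h ▸ dvd_mul_right p _)).resolve_left hp2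
    rcases (hc P).eq_bot_or_eq_top with hb | hb
    · exact P.ne_bot_of_dvd_card hd hb
    · obtain ⟨k, hk⟩ := IsPGroup.iff_card.1 P.2
      rw [hb, Subgroup.card_top] at hk
      rw [hk] at h
      have h2 : Nat.gcd 2 (p - 1) * p ^ k ∣ 2 * p ^ k := Nat.mul_dvd_mul_right (Nat.gcd_dvd_left _ _) _
      rw [h] at h2
      have h3 : (p ^ 2 - 1).Coprime (p ^ k) := by
        refine Nat.Coprime.pow_right k (Nat.Coprime.symm ((hp.coprime_iff_not_dvd).2 ?_))
        intro hd'
        have h4 : 1 ≤ p ^ 2 := Nat.one_le_pow _ _ hp.pos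
        have := (Nat.dvd_add_iff_right hd').2 (show p ∣ (p ^ 2 - 1) + 1 by rw [Nat.sub_add_cancel h4]; exact dvd_pow_self p two_ne_zero)
        exact hp.not_dvd_one this
      have h5 := h3.dvd_of_dvd_mul_right ((dvd_mul_left (p ^ 2 - 1) p).trans h2)
      have := Nat.le_of_dvd two_pos h5
      have : 25 ≤ p ^ 2 := by nlinarith
      omega


/-- Let p be an odd prime and let m be the least prime power congruent to 1 modulo p. Then the least order of a finite group whose Sylow p-subgroups are not normal is the smaller of p · m and p(p² − 1)/2: every finite group whose Sylow p-subgroups are not normal has at least that order, and some group of exactly that order has non-normal Sylow p-subgroups. -/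
theorem result (p : ℕ) [Fact p.Prime] (hp : p ≠ 2) (m : ℕ) (hm : IsPrimePow m) (hm1 : m % p = 1)
    (hleast : ∀ k : ℕ, IsPrimePow k → k % p = 1 → m ≤ k) :
    (∀ (H : Type) [Group H] [Finite H], ¬ Cfsg.IsPClosed p H → min (p * m) (p * (p ^ 2 - 1) / 2) ≤ Nat.card H) ∧
      ∃ (H : Type) (_ : Group H) (_ : Finite H), Nat.card H = min (p * m) (p * (p ^ 2 - 1) / 2) ∧ ¬ Cfsg.IsPClosed p H := by
  refine ⟨fun H _ _ hH => CfsgLib.HallGen.NonClosedLeast.lower hp hleast _ H rfl hH, ?_⟩
  have h2 := (Fact.out : p.Prime).two_le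
  rcases le_total (p * m) (p * (p ^ 2 - 1) / 2) with hle | hle
  · rw [min_eq_left hle]
    exact exists_affine p m hm hm1
  · rw [min_eq_right hle]
    rcases lt_or_ge p 5 with h5 | h5
    · have h3 : p = 3 := by
        have : p ≠ 4 := fun h => by subst h; exact (by norm_num : ¬ Nat.Prime 4) Fact.out
        omega
      subst h3
      have hm4 : m ≤ 4 := hleast 4 ((isPrimePow_nat_iff 4).2 ⟨2, 2, Nat.prime_two, by norm_num, by norm_num⟩) (by norm_num)
      have hm4' : 4 ≤ m := by
        have := hm.one_lt
        omega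
      obtain rfl : m = 4 := le_antisymm hm4 hm4'
      exact exists_affine 3 4 hm hm1
    · exact exists_psl p h5
end Cfsg.Agent.S3875
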