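import Cfsg.Statements.S3878
import Mathlib
import Cfsg.Prelude.Def_HallClasses

set_option autoImplicit false
open Cfsg

namespace Cfsg.Agent.S3878

open Equiv Equiv.Perm MulAction
set_option linter.style.haveILetI false

theorem dpi_epi {π : Set ℕ} {G : Type} [Group G] [Finite G] (h : Cfsg.IsDPiGroup π G) :
    Cfsg.IsEPiGroup π G := by
  have hmax : ∀ K : Subgroup G, Cfsg.IsPiSubgroup π K →
      ∃ M : Subgroup G, K ≤ M ∧ Maximal (Cfsg.IsPiSubgroup π) M := fun K hK =>
    Finite.exists_le_maximal hK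
  have hbot : Cfsg.IsPiSubgroup π (⊥ : Subgroup G) := fun s hs hd => by
    rw [Subgroup.card_bot] at hd; exact absurd (Nat.dvd_one.mp hd) hs.ne_one
  obtain ⟨H, -, hH⟩ := hmax ⊥ hbot
  refine ⟨H, hH.1, fun s hs hπ hd => ?_⟩
  haveI := Fact.mk hs
  obtain ⟨S⟩ : Nonempty (Sylow s G) := inferInstance
  obtain ⟨k, hk⟩ := IsPGroup.iff_card.mp S.isPGroup'
  have hS : Cfsg.IsPiSubgroup π (S : Subgroup G) := fun t ht htd => by
    rw [hk] at htd
    rw [(Nat.prime_dvd_prime_iff_eq ht hs).mp (ht.dvd_of_dvd_pow htd)]; exact hπ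
  obtain ⟨K, hSK, hK⟩ := hmax _ hS
  obtain ⟨g, hg⟩ := h H K hH hK
  have hcard : Nat.card K = Nat.card H := by
    rw [hg]; exact Nat.card_congr (H.equivMapOfInjective _ (MulAut.conj g).injective).toEquiv.symm
  refine S.not_dvd_index (hd.trans ?_)
  have h1 : K.index = H.index := by
    refine Nat.eq_of_mul_eq_mul_left (Nat.card_pos (α := H)) ?_
    rw [H.card_mul_index, ← hcard, K.card_mul_index]
  exact h1 ▸ Subgroup.index_dvd_of_le hSK

theorem exists_conj_mem {π : Set ℕ} {G : Type*} [Group G] [Finite G] {H : Subgroup G}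
    (hH : Cfsg.IsPiHall π H) {s : ℕ} (hs : s.Prime) (hπ : s ∈ π) {g : G} {k : ℕ}
    (hg : orderOf g = s ^ k) : ∃ h ∈ H, IsConj g h := by
  haveI := Fact.mk hs
  obtain ⟨P⟩ : Nonempty (Sylow s H) := inferInstance
  let P' : Sylow s G := (P.isPGroup'.map H.subtype).toSylow (by
    rw [Subgroup.index_map_subtype]
    exact fun hd => ((Nat.Prime.dvd_mul hs).mp hd).elim P.not_dvd_index (hH.2 s hs hπ))
  have hz : IsPGroup s (Subgroup.zpowers g) := IsPGroup.of_card (n := k) (by rw [Nat.card_zpowers, hg])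
  obtain ⟨S, hS⟩ := hz.exists_le_sylow
  obtain ⟨c, hc⟩ := MulAction.exists_smul_eq G S P'
  refine ⟨c * g * c⁻¹, ?_, isConj_iff.mpr ⟨c, rfl⟩⟩
  have h1 : c * g * c⁻¹ ∈ ((c • S : Sylow s G) : Subgroup G) :=
    ⟨g, hS (Subgroup.mem_zpowers g), rfl⟩
  rw [hc] at h1
  exact (Subgroup.map_subtype_le (P : Subgroup H)) h1

/-- Case of a prime outside `π` below a member of `π`. -/
theorem no_hall_perm {π : Set ℕ} {p q r : ℕ} (hp : p.Prime) (hq : q.Prime) (hr : r.Prime)
    (hpπ : p ∈ π) (hqπ : q ∈ π) (hrπ : r ∉ π) (hpq : p < q) (hrq : r < q) (h2 : p = 2 ∨ r = 2) :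
    ¬ Cfsg.IsEPiGroup π (Equiv.Perm (Fin q)) := by
  rintro ⟨H, hH⟩
  haveI := Fact.mk hq
  have hcardG : Nat.card (Equiv.Perm (Fin q)) = q.factorial := by
    rw [Nat.card_perm, Nat.card_eq_fintype_card, Fintype.card_fin]
  have hrH : ¬ r ∣ Nat.card H := fun h => hrπ (hH.1 r hr h)
  -- a `q`-cycle in `H`
  obtain ⟨σ₀, hσ₀⟩ := exists_prime_orderOf_dvd_card' (G := Equiv.Perm (Fin q)) q
    (hcardG ▸ Nat.dvd_factorial hq.pos le_rfl)
  obtain ⟨σ, hσH, hσc⟩ := exists_conj_mem hH hq hqπ (k := 1) (by rw [hσ₀, pow_one])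
  have hσo : orderOf σ = q := by
    obtain ⟨c, rfl⟩ := isConj_iff.mp hσc
    rw [← MulAut.conj_apply, MulEquiv.orderOf_eq, hσ₀]
  have hσcyc : σ.IsCycle := Equiv.Perm.isCycle_of_prime_order'' (by rwa [Fintype.card_fin])
    (by rw [hσo, Fintype.card_fin])
  have hσs : σ.support = Finset.univ :=
    Finset.eq_univ_of_card _ (by rw [← hσcyc.orderOf, hσo, Fintype.card_fin])
  -- a `p`-cycle in `H`
  obtain ⟨τ₀, hτ₀⟩ := (Equiv.Perm.exists_with_cycleType_iff (Fin q) (m := {p})).mpr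
    ⟨by simpa using hpq.le, by simpa using hp.two_le⟩
  obtain ⟨τ, hτH, hτc⟩ := exists_conj_mem hH hp hpπ (g := τ₀) (k := 1)
    (by rw [← Equiv.Perm.lcm_cycleType, hτ₀, pow_one, Multiset.lcm_singleton, normalize_eq])
  have hτt : τ.cycleType = {p} := by
    rw [← Equiv.Perm.isConj_iff_cycleType_eq.mp hτc, hτ₀]
  have hτcyc : τ.IsCycle := Equiv.Perm.card_cycleType_eq_one.mp (by rw [hτt, Multiset.card_singleton])
  have hτcard : τ.support.card = p := by rw [← Equiv.Perm.sum_cycleType, hτt, Multiset.sum_singleton]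
  rcases h2 with rfl | rfl
  · have htop : H = ⊤ := by
      rw [eq_top_iff, ← Equiv.Perm.closure_prime_cycle_swap (by rwa [Fintype.card_fin]) hσcyc hσs
        (Equiv.Perm.card_support_eq_two.mp hτcard), Subgroup.closure_le]
      simp [Set.insert_subset_iff, hσH, hτH]
    exact hrH (by rw [htop, Subgroup.card_top, hcardG]; exact Nat.dvd_factorial hr.pos hrq.le)
  · haveI : IsPretransitive H (Fin q) := by
      refine ⟨fun a b => ?_⟩
      obtain ⟨i, hi⟩ := hσcyc.exists_zpow_eq (Equiv.Perm.mem_support.mp (hσs ▸ Finset.mem_univ a))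
        (Equiv.Perm.mem_support.mp (hσs ▸ Finset.mem_univ b))
      exact ⟨⟨σ ^ i, H.zpow_mem hσH i⟩, hi⟩
    have hprim : IsPreprimitive H (Fin q) :=
      IsPreprimitive.of_prime_card (by rwa [Nat.card_eq_fintype_card, Fintype.card_fin])
    have hp3 : 3 ≤ p := by
      rcases hp.two_le.lt_or_eq with h | h
      · omega
      · exact absurd (h ▸ hpπ) hrπ
    have hs : ((τ.support : Set (Fin q))ᶜ).ncard = q - p - 1 + 1 := by
      rw [Set.ncard_compl, Set.ncard_coe_finset, hτcard, Nat.card_eq_fintype_card, Fintype.card_fin]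
      omega
    have h2t := hprim.is_two_pretransitive hs (by rw [Nat.card_eq_fintype_card, Fintype.card_fin]; omega)
      (Equiv.Perm.isPretransitive_of_isCycle_mem hτcyc hτH)
    rw [is_two_pretransitive_iff] at h2t
    let a : Fin q := ⟨0, hq.pos⟩
    let b : Fin q := ⟨1, hq.one_lt⟩
    have hab : a ≠ b := by simp [a, b, Fin.ext_iff]
    obtain ⟨g, hga, hgb⟩ := h2t hab hab.symm
    refine hrH (dvd_trans ?_ (orderOf_dvd_natCard g))
    rcases Nat.even_or_odd (orderOf g) with he | ho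
    · exact even_iff_two_dvd.mp he
    · exfalso
      have key : ∀ j : ℕ, g ^ (2 * j) • a = a := by
        intro j
        induction j with
        | zero => simp
        | succ j ih =>
          rw [Nat.mul_succ, pow_add, mul_smul, pow_two, mul_smul, hga, hgb, ih]
      obtain ⟨j, hj⟩ := ho
      have h1 : g ^ orderOf g • a = a := by rw [pow_orderOf_eq_one, one_smul]
      rw [hj, pow_succ', mul_smul, key, hga] at h1
      exact hab h1.symm

/-- Case of `π` equal to the primes below `r`. -/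
theorem no_hall_perm_succ {π : Set ℕ} {r : ℕ} (hr : r.Prime) (h5 : 5 ≤ r) (hrπ : r ∉ π)
    (hlow : ∀ s : ℕ, s.Prime → s < r → s ∈ π) : ¬ Cfsg.IsEPiGroup π (Equiv.Perm (Fin (r + 1))) := by
  rintro ⟨H, hH⟩
  have hcardG : Nat.card (Equiv.Perm (Fin (r + 1))) = (r + 1).factorial := by
    rw [Nat.card_perm, Nat.card_eq_fintype_card, Fintype.card_fin]
  have hrH : ¬ r ∣ Nat.card H := fun h => hrπ (hH.1 r hr h)
  have hne2 : ¬ (r + 1).Prime := fun h => by
    have h1 := h.odd_of_ne_two (by omega)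
    have h2 := hr.odd_of_ne_two (by omega)
    obtain ⟨a, ha⟩ := h1
    obtain ⟨b, hb⟩ := h2
    omega
  have hidx : ∀ s : ℕ, s.Prime → s ∣ H.index → s = r := by
    intro s hs hd
    have hle : s ≤ r + 1 := (Nat.Prime.dvd_factorial hs).mp (hcardG ▸ hd.trans H.index_dvd_card)
    have : s ≠ r + 1 := fun h => hne2 (h ▸ hs)
    by_contra hne
    exact hH.2 s hs (hlow s hs (by omega)) hd
  have hrN : ¬ r ∣ (r - 1).factorial := fun h => by have := (Nat.Prime.dvd_factorial hr).mp h; omega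
  have hfac : (r + 1).factorial = r * ((r + 1) * (r - 1).factorial) := by
    rw [Nat.factorial_succ, ← Nat.mul_factorial_pred hr.ne_zero]; ring
  have hir : H.index = r := by
    obtain ⟨m, hm⟩ : r ∣ H.index := by
      refine ((Nat.Prime.dvd_mul (m := Nat.card H) (n := H.index) hr).mp ?_).resolve_left hrH
      rw [H.card_mul_index, hcardG, hfac]
      exact dvd_mul_right _ _
    have hm1 : m = 1 := by
      by_contra hne
      obtain ⟨s, hs, hsd⟩ := Nat.exists_prime_and_dvd hne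
      have := hidx s hs (hm ▸ hsd.mul_left r)
      subst this
      have h1 : s * s ∣ (s + 1).factorial := hcardG ▸ (hm ▸ mul_dvd_mul_left s hsd).trans H.index_dvd_card
      rw [hfac, Nat.mul_dvd_mul_iff_left hs.pos] at h1
      rcases (Nat.Prime.dvd_mul hs).mp h1 with h | h
      · have := (Nat.dvd_add_right (dvd_refl s)).mp h
        exact hs.ne_one (Nat.dvd_one.mp this)
      · exact hrN h
    rw [hm, hm1, mul_one]
  let K : Subgroup (Equiv.Perm (Fin (r + 1))) :=
    (MulAction.toPermHom (Equiv.Perm (Fin (r + 1))) (Equiv.Perm (Fin (r + 1)) ⧸ H)).ker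
  haveI : K.Normal := MonoidHom.normal_ker _
  by_cases hK : K = ⊥
  · have hle := Nat.card_le_card_of_injective _ ((MonoidHom.ker_eq_bot_iff _).mp hK)
    rw [hcardG, Nat.card_perm, ← Subgroup.index_eq_card, hir, Nat.factorial_succ] at hle
    nlinarith [r.factorial_pos]
  · have hA := Equiv.Perm.alternatingGroup_le_of_normal (by rw [Nat.card_eq_fintype_card, Fintype.card_fin]; omega)
      (K.nontrivial_iff_ne_bot.mpr hK)
    have hKH : K ≤ H := by
      intro x hx
      have h1 := Equiv.Perm.ext_iff.mp (show MulAction.toPermHom _ _ x = 1 from hx)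
        ((1 : Equiv.Perm (Fin (r + 1))) : Equiv.Perm (Fin (r + 1)) ⧸ H)
      rw [MulAction.toPermHom_apply, MulAction.toPerm_apply, Equiv.Perm.one_apply,
        MulAction.Quotient.smul_coe, smul_eq_mul, mul_one, QuotientGroup.eq, mul_one] at h1
      exact inv_mem_iff.mp h1
    refine hrH (dvd_trans ?_ (Subgroup.card_dvd_of_le (hA.trans hKH)))
    haveI : Nontrivial (Fin (r + 1)) := Fintype.one_lt_card_iff_nontrivial.mp (by rw [Fintype.card_fin]; omega)
    rw [nat_card_alternatingGroup, Nat.card_eq_fintype_card, Fintype.card_fin]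
    have h2 : r ∣ (r + 1).factorial := Nat.dvd_factorial hr.pos (by omega)
    have h3 : 2 ∣ (r + 1).factorial := Nat.dvd_factorial (by omega) (by omega)
    rw [← Nat.div_mul_cancel h3] at h2
    exact ((Nat.coprime_primes hr Nat.prime_two).mpr (by omega)).dvd_of_dvd_mul_right h2

theorem trivial_of {π : Set ℕ}
    (h : (∀ G : Type, ∀ [Group G] [Finite G], Cfsg.IsEPiGroup π G)) :
    (∀ p q : ℕ, p.Prime → q.Prime → p ∈ π → q ∈ π → p = q) ∨ ∀ p : ℕ, p.Prime → p ∈ π := by
  classical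
  by_contra hcon
  push Not at hcon
  obtain ⟨⟨p, q, hp, hq, hpπ, hqπ, hne⟩, hex⟩ := hcon
  have hex' : ∃ r : ℕ, r.Prime ∧ r ∉ π := hex
  obtain ⟨hr, hrπ⟩ := Nat.find_spec hex'
  have hlow : ∀ s : ℕ, s.Prime → s < Nat.find hex' → s ∈ π := fun s hs hlt => by
    by_contra hsπ
    exact Nat.find_min hex' hlt ⟨hs, hsπ⟩
  generalize Nat.find hex' = r at hr hrπ hlow
  by_cases hbig : ∃ s : ℕ, s.Prime ∧ s ∈ π ∧ r < s
  · by_cases h2 : 2 ∈ π
    · obtain ⟨s, hs, hsπ, hrs⟩ := hbig
      exact no_hall_perm Nat.prime_two hs hr h2 hsπ hrπ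
        (lt_of_le_of_lt hr.two_le hrs) hrs (Or.inl rfl) (h _)
    · have hr2 : r = 2 := by
        by_contra hr2
        exact h2 (hlow 2 Nat.prime_two (lt_of_le_of_ne hr.two_le (Ne.symm hr2)))
      subst hr2
      rcases Nat.lt_or_gt_of_ne hne with hlt | hlt
      · exact no_hall_perm hp hq Nat.prime_two hpπ hqπ h2 hlt
          (lt_of_le_of_lt hp.two_le hlt) (Or.inr rfl) (h _)
      · exact no_hall_perm hq hp Nat.prime_two hqπ hpπ h2 hlt
          (lt_of_le_of_lt hq.two_le hlt) (Or.inr rfl) (h _)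
  · push Not at hbig
    have hp' : p < r := lt_of_le_of_ne (hbig p hp hpπ) fun e => hrπ (e ▸ hpπ)
    have hq' : q < r := lt_of_le_of_ne (hbig q hq hqπ) fun e => hrπ (e ▸ hqπ)
    have h5 : 5 ≤ r := by
      by_contra hlt
      have h1 := hp.two_le
      have h2' := hq.two_le
      interval_cases r <;> first | omega | exact absurd hr (by decide)
    exact no_hall_perm_succ hr h5 hrπ hlow (h _)

theorem epi_of_trivial {π : Set ℕ}
    (h : (∀ p q : ℕ, p.Prime → q.Prime → p ∈ π → q ∈ π → p = q) ∨ ∀ p : ℕ, p.Prime → p ∈ π)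
    (G : Type) [Group G] [Finite G] : Cfsg.IsDPiGroup π G := by
  intro H K hH hK
  rcases h with h | h
  · by_cases hp : ∃ p : ℕ, p.Prime ∧ p ∈ π
    · obtain ⟨p, hp, hpπ⟩ := hp
      haveI := Fact.mk hp
      have key : ∀ M : Subgroup G, Maximal (Cfsg.IsPiSubgroup π) M → ∃ P : Sylow p G, (P : Subgroup G) = M := by
        intro M hM
        have hMp : IsPGroup p M := IsPGroup.iff_card.mpr ⟨(Nat.card M).primeFactorsList.length,
          Nat.eq_prime_pow_of_unique_prime_dvd Nat.card_pos.ne'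
            (fun hd hdd => h _ p hd hp (hM.1 _ hd hdd) hpπ)⟩
        obtain ⟨P, hP⟩ := hMp.exists_le_sylow
        refine ⟨P, le_antisymm (hM.2 (fun s hs hd => ?_) hP) hP⟩
        obtain ⟨k, hk⟩ := IsPGroup.iff_card.mp P.isPGroup'
        rw [hk] at hd
        exact (Nat.prime_dvd_prime_iff_eq hs hp).mp (hs.dvd_of_dvd_pow hd) ▸ hpπ
      obtain ⟨P, rfl⟩ := key H hH
      obtain ⟨Q, rfl⟩ := key K hK
      obtain ⟨g, hg⟩ := MulAction.exists_smul_eq G P Q
      exact ⟨g, by rw [← hg]; rfl⟩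
    · push Not at hp
      have key : ∀ M : Subgroup G, Cfsg.IsPiSubgroup π M → M = ⊥ := fun M hM => by
        apply Subgroup.eq_bot_of_card_eq
        by_contra hne
        obtain ⟨s, hs, hsd⟩ := Nat.exists_prime_and_dvd hne
        exact hp s hs (hM s hs hsd)
      exact ⟨1, by rw [key H hH.1, key K hK.1, Subgroup.map_bot]⟩
  · have key : ∀ M : Subgroup G, Maximal (Cfsg.IsPiSubgroup π) M → M = ⊤ := fun M hM =>
      le_antisymm le_top (hM.2 (fun s hs _ => h s hs) le_top)
    refine ⟨1, ?_⟩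
    rw [key H hH, key K hK, Subgroup.map_top_of_surjective _ (MulAut.conj (1 : G)).surjective]

/-- For a set of primes π the following are equivalent: every finite group has a Hall π-subgroup; in every finite group the maximal π-subgroups are pairwise conjugate; π contains at most one prime or contains every prime. -/
theorem result (π : Set ℕ) :
    ((∀ (G : Type) [Group G] [Finite G], Cfsg.IsEPiGroup π G) ↔
      ((∀ p q : ℕ, p.Prime → q.Prime → p ∈ π → q ∈ π → p = q) ∨ ∀ p : ℕ, p.Prime → p ∈ π)) ∧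
    ((∀ (G : Type) [Group G] [Finite G], Cfsg.IsDPiGroup π G) ↔
      ((∀ p q : ℕ, p.Prime → q.Prime → p ∈ π → q ∈ π → p = q) ∨ ∀ p : ℕ, p.Prime → p ∈ π)) := by
  exact ⟨⟨trivial_of, fun h G _ _ => dpi_epi (epi_of_trivial h G)⟩,
    ⟨fun h => trivial_of (fun G _ _ => dpi_epi (h G)), fun h G _ _ => epi_of_trivial h G⟩⟩

end Cfsg.Agent.S3878
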