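import Cfsg.Statements.S3882
import Mathlib
import Cfsg.Agent.Lib.PGroups.Metacyclic

set_option autoImplicit false
open Cfsg

namespace Cfsg.Agent.S3882

open CfsgLib.PGroups CfsgLib.PGroups.Symplectic

/-- Let p be an odd prime and G a finite metacyclic p-group (G has a cyclic normal subgroup with cyclic quotient). Suppose |G'| = p^n and 0 ≤ s ≤ n. Then an element g lies in the subgroup generated by the p^s-th powers if and only if its conjugacy class has at most p^(n−s) elements; in particular the subgroup generated by the p^n-th powers is the center of G. -/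
theorem result {G : Type*} [Group G] [Finite G] {p : ℕ} [Fact p.Prime] (hp : p ≠ 2) (hG : IsPGroup p G) (hmc : Cfsg.IsMetacyclic G) (n : ℕ) (hGn : Nat.card ↥(commutator G) = p ^ n) (s : ℕ) (hs : s ≤ n) (g : G) :
    (g ∈ Subgroup.closure {x : G | ∃ y : G, y ^ p ^ s = x} ↔ (Subgroup.centralizer ({g} : Set G)).index ≤ p ^ (n - s)) ∧
      Subgroup.closure {x : G | ∃ y : G, y ^ p ^ n = x} = Subgroup.center G := by
  obtain ⟨D⟩ := CfsgLib.PGroups.Metacyclic.exists_data hp hG hmc
  obtain rfl := D.n_unique hGn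
  refine ⟨?_, D.center_eq_closure_pow⟩
  rw [D.closure_pow_eq hs, D.mem_preimage, D.index_centralizer]
  obtain ⟨k, -, hk⟩ := (Nat.dvd_prime_pow (Fact.out : p.Prime)).mp (addOrderOf_dvd (D.φ g))
  have h1 : s = D.n - (D.n - s) := by omega
  conv_lhs => rw [h1, ← nsmul_eq_zero_iff (Nat.sub_le _ _), ← addOrderOf_dvd_iff_nsmul_eq_zero, hk]
  rw [hk, Nat.pow_dvd_pow_iff_le_right (Fact.out : p.Prime).one_lt,
    Nat.pow_le_pow_iff_right (Fact.out : p.Prime).one_lt]

end Cfsg.Agent.S3882
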