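import Cfsg.Statements.S3883
import Mathlib
import Cfsg.Agent.Lib.PGroups.Metacyclic

set_option autoImplicit false
open Cfsg

namespace Cfsg.Agent.S3883

open CfsgLib.PGroups CfsgLib.PGroups.Symplectic
open scoped commutatorElement

/-- Let p be an odd prime and G a finite metacyclic p-group (G has a cyclic normal subgroup with cyclic quotient). Suppose G is non-abelian. Then an element g of G lies outside the Frattini subgroup if and only if its centralizer C_G(g) is abelian. -/
theorem result {G : Type*} [Group G] [Finite G] {p : ℕ} [Fact p.Prime] (hp : p ≠ 2) (hG : IsPGroup p G) (hmc : Cfsg.IsMetacyclic G) (hna : ¬ IsMulCommutative G) (g : G) :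
    g ∉ frattini G ↔ IsMulCommutative ↥(Subgroup.centralizer ({g} : Set G)) := by
  obtain ⟨D⟩ := CfsgLib.PGroups.Metacyclic.exists_data hp hG hmc
  have hP := (Fact.out : p.Prime)
  have hn : 1 ≤ D.n := by
    by_contra h
    refine hna (isMulCommutative_iff.mpr fun x y => ?_)
    have hc := D.card_commutator
    rw [show D.n = 0 by omega, pow_zero] at hc
    have hmem : ⁅x, y⁆ ∈ commutator G := by
      rw [commutator_def]
      exact Subgroup.commutator_mem_commutator (Subgroup.mem_top x) (Subgroup.mem_top y)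
    rw [Subgroup.eq_bot_of_card_eq _ hc, Subgroup.mem_bot] at hmem
    have : ⁅x, y⁆ = 1 := hmem
    exact commutatorElement_eq_one_iff_mul_comm.mp this
  have hΦ : frattini G = D.preimage (box 1 1) := by
    rw [← D.closure_pow_eq hn, pow_one, frattini_eq_commutator_sup hG]
    refine sup_eq_right.mpr ?_
    rw [D.commutator_eq, Subgroup.zpowers_le]
    obtain ⟨e, he⟩ := D.hd
    exact Subgroup.subset_closure ⟨D.a ^ e, by simp [he, ← pow_mul, mul_comm]⟩
  obtain ⟨k, hk, hk2⟩ := (Nat.dvd_prime_pow hP).mp (addOrderOf_dvd (D.φ g))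
  have h1 : 1 = D.n - (D.n - 1) := by omega
  rw [hΦ, D.mem_preimage, h1, ← nsmul_eq_zero_iff (Nat.sub_le _ _),
    ← addOrderOf_dvd_iff_nsmul_eq_zero, hk2, Nat.pow_dvd_pow_iff_le_right hP.one_lt,
    D.isMulCommutative_iff, D.centralizer_singleton_eq, D.image_preimage, le_perp_iff_card_le]
  have h2 := card_perp_zmultiples (D.φ g)
  rw [hk2] at h2
  constructor
  · intro h
    obtain rfl : k = D.n := by omega
    exact (Nat.eq_of_mul_eq_mul_right (pow_pos hP.pos _) h2).le
  · intro h hle
    have h3 : p ^ k < p ^ D.n := Nat.pow_lt_pow_right hP.one_lt (by omega)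
    have := Nat.mul_lt_mul_of_le_of_lt h h3 (pow_pos hP.pos _)
    omega

end Cfsg.Agent.S3883
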