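import Cfsg.Statements.S3886
import Mathlib
import Cfsg.Agent.Lib.PGroups.Metacyclic
import Cfsg.Agent.Lib.LocalEvenB.CentrallyLarge

set_option autoImplicit false
open Cfsg

namespace Cfsg.Agent.S3886

open CfsgLib.PGroups CfsgLib.PGroups.Symplectic

/-- Let p be an odd prime and G a finite metacyclic p-group (G has a cyclic normal subgroup with cyclic quotient). Then the largest value of |R| · |Z(R)| over subgroups R of G is |G : G'|², and the subgroups attaining it (the centrally large subgroups) are exactly the non-abelian subgroups together with the maximal abelian subgroups of G. -/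
theorem result {G : Type*} [Group G] [Finite G] {p : ℕ} [Fact p.Prime] (hp : p ≠ 2) (hG : IsPGroup p G) (hmc : Cfsg.IsMetacyclic G) : Cfsg.maxCentralProduct G = (commutator G).index ^ 2 ∧
    ∀ R : Subgroup G, Cfsg.IsCentrallyLarge R ↔ (¬ IsMulCommutative ↥R ∨ Maximal (fun K : Subgroup G => IsMulCommutative ↥K) R) := by
  obtain ⟨D⟩ := CfsgLib.PGroups.Metacyclic.exists_data hp hG hmc
  refine ⟨?_, fun R => ?_⟩
  · rw [CfsgLib.LocalEvenB.maxCentralProduct_eq, D.maxCentralizerProduct_eq, D.commutator_index]
    ring
  · rw [CfsgLib.LocalEvenB.isCentrallyLarge_iff, D.isCentralizerLarge_iff]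
    constructor
    · rintro ⟨hZ, hC⟩
      refine or_iff_not_imp_left.mpr fun hc => (D.maximal_iff R).mpr ?_
      rw [not_not, ← Subgroup.le_centralizer_iff_isMulCommutative] at hc
      have heq := le_antisymm hC hc
      rw [D.centralizer_eq] at heq
      have hU : perp (D.image R) = D.image R := by
        conv_rhs => rw [← heq, D.image_preimage]
      have h := (perp_facts (D.image R)).2.1
      rw [hU] at h
      rw [D.card_of_center_le hZ, D.commutator_index, Nat.mul_self_inj.mp h]
    · rintro (h | ⟨hR, hmax⟩)
      · exact ⟨(D.of_not_comm h).1, (D.of_not_comm h).2.1⟩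
      · have hK : IsMulCommutative ↥(R ⊔ Subgroup.center G) := by
          rw [D.isMulCommutative_iff]
          have h1 : D.image (R ⊔ Subgroup.center G) ≤ D.image R := fun v hv => by
            have := D.image_mono (sup_le (D.le_preimage_image R) (D.center_le_preimage _)) hv
            rwa [D.image_preimage] at this
          intro v hv w hw
          exact (D.isMulCommutative_iff R).mp hR (h1 hv) w (h1 hw)
        have hZ : Subgroup.center G ≤ R := le_sup_right.trans (hmax hK le_sup_left)
        refine ⟨hZ, ?_⟩
        have hmax2 := (D.maximal_iff R).mp ⟨hR, hmax⟩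
        have hcomm : R ≤ Subgroup.centralizer (R : Set G) :=
          Subgroup.le_centralizer_iff_isMulCommutative.mpr hR
        refine (Subgroup.eq_of_le_of_card_ge hcomm ?_).ge
        have h2 := (D.centralizerProduct_le R).2.mpr hZ
        rw [hmax2, D.commutator_index] at h2 ⊢
        refine le_of_eq (Nat.eq_of_mul_eq_mul_left (Nat.mul_pos (pow_pos (Fact.out : p.Prime).pos _)
          (Nat.card_pos (α := Subgroup.center G))) (h2.trans ?_))
        ring

end Cfsg.Agent.S3886
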