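import Cfsg.Statements.S3892
import Mathlib

set_option autoImplicit false
open Cfsg

namespace Cfsg.Agent.S3892

set_option linter.style.haveILetI false
set_option linter.unusedSectionVars false

open Subgroup

scoped instance decMemAlt {n : ℕ} (g : Equiv.Perm (Fin n)) : Decidable (g ∈ alternatingGroup (Fin n)) :=
  decidable_of_iff (Equiv.Perm.sign g = 1) Equiv.Perm.mem_alternatingGroup.symm

theorem no_cover {G : Type*} [Group G] [Finite G] {q : ℕ} [Fact q.Prime] (hq2 : ¬ q ^ 2 ∣ Nat.card G)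
    (x y : G) (hx : orderOf x = q) (hy : orderOf y = q) (hne : x * y ≠ y * x) (K : Subgroup G) (hK : K ≠ ⊤)
    (hxK : centralizer ({x} : Set G) ≤ K) (hyK : centralizer ({y} : Set G) ≤ K) :
    ¬ ∃ 𝓐 : Finset (Subgroup G), ((∀ A ∈ 𝓐, A ≠ ⊤) ∧ (∀ g : G, ∃ A ∈ 𝓐, g ∈ A)) ∧
      (∀ 𝓑 : Finset (Subgroup G), (∀ A ∈ 𝓑, A ≠ ⊤) ∧ (∀ g : G, ∃ A ∈ 𝓑, g ∈ A) → 𝓐.card ≤ 𝓑.card) ∧
      (∀ A ∈ 𝓐, Group.IsNilpotent ↥A) := by
  rintro ⟨𝓐, ⟨hprop, hcov⟩, hmin, hnil⟩
  classical
  -- a nilpotent subgroup containing an element of order `q` centralizes it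
  have key : ∀ H : Subgroup G, Group.IsNilpotent H → ∀ z ∈ H, orderOf z = q → H ≤ centralizer ({z} : Set G) := by
    intro H hH z hz ho
    haveI := hH
    obtain ⟨P, hP⟩ := (IsPGroup.of_card (n := 1) (show Nat.card (zpowers (⟨z, hz⟩ : H)) = q ^ 1 by
      rw [Nat.card_zpowers, Subgroup.orderOf_mk, ho, pow_one])).exists_le_sylow
    have hzP : (⟨z, hz⟩ : H) ∈ (P : Subgroup H) := hP (mem_zpowers _)
    have hPq : Nat.card (P : Subgroup H) = q := by
      obtain ⟨k, hk⟩ := IsPGroup.iff_card.mp P.isPGroup'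
      have h1 : q ^ k ∣ Nat.card G := hk ▸ (Subgroup.card_subgroup_dvd_card _).trans (Subgroup.card_subgroup_dvd_card H)
      have hk1 : k = 1 := by
        rcases Nat.lt_or_ge k 1 with h | h
        · exfalso
          obtain rfl : k = 0 := by omega
          rw [pow_zero, Subgroup.card_eq_one] at hk
          rw [hk, mem_bot] at hzP
          have := congrArg orderOf hzP
          rw [Subgroup.orderOf_mk, ho, orderOf_one] at this
          exact (Fact.out : q.Prime).ne_one this
        · by_contra h2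
          exact hq2 ((pow_dvd_pow q (by omega)).trans h1)
      rw [hk, hk1, pow_one]
    -- the kernel of the action is everything
    have hcen : (P : Subgroup H) ≤ center H := by
      haveI : Nontrivial H := ⟨⟨⟨z, hz⟩, 1, fun h => by
        have := congrArg orderOf h
        rw [Subgroup.orderOf_mk, ho, orderOf_one] at this
        exact (Fact.out : q.Prime).ne_one this⟩⟩
      intro u hu
      refine mem_center_iff.mpr fun h => ?_
      obtain ⟨e⟩ := ((Group.isNilpotent_of_finite_tfae (G := H)).out 0 4).mp hH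
      refine e.symm.injective ?_
      rw [map_mul, map_mul]
      funext r R
      show e.symm h r R * e.symm u r R = e.symm u r R * e.symm h r R
      rcases eq_or_ne (r : ℕ) q with hr | hr
      · haveI : Fact (Nat.Prime (r : ℕ)) := ⟨Nat.prime_of_mem_primeFactors r.2⟩
        obtain ⟨k, hk⟩ := IsPGroup.iff_card.mp R.isPGroup'
        have hk1 : k ≤ 1 := by
          by_contra h2
          refine hq2 ((pow_dvd_pow q (show 2 ≤ k by omega)).trans ?_)
          rw [← hr, ← hk]
          exact (Subgroup.card_subgroup_dvd_card _).trans (Subgroup.card_subgroup_dvd_card H)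
        haveI : IsCyclic (R : Subgroup H) := by
          rcases Nat.le_one_iff_eq_zero_or_eq_one.mp hk1 with rfl | rfl
          · haveI : Subsingleton (R : Subgroup H) := by
              rw [← Finite.card_le_one_iff_subsingleton, hk, pow_zero]
            infer_instance
          · exact isCyclic_of_prime_card (by rw [hk, pow_one])
        exact (IsCyclic.commGroup (α := (R : Subgroup H))).mul_comm _ _
      · haveI : Fact (Nat.Prime (r : ℕ)) := ⟨Nat.prime_of_mem_primeFactors r.2⟩
        have hu1 : e.symm u r R = 1 := by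
          obtain ⟨k, hk⟩ := IsPGroup.iff_orderOf.mp R.isPGroup' (e.symm u r R)
          let f : H →* (R : Subgroup H) := ((Pi.evalMonoidHom _ R).comp (Pi.evalMonoidHom _ r)).comp e.symm.toMonoidHom
          have hd : orderOf (e.symm u r R) ∣ q := by
            refine (orderOf_map_dvd f u).trans ?_
            rw [← hPq]
            exact (P : Subgroup H).orderOf_dvd_natCard hu
          rw [← orderOf_eq_one_iff, hk]
          exact Nat.eq_one_of_dvd_coprimes
            (Nat.Coprime.pow_left k ((Nat.coprime_primes (Nat.prime_of_mem_primeFactors r.2) Fact.out).mpr hr))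
            dvd_rfl (hk ▸ hd)
        rw [hu1, mul_one, one_mul]
    intro h hh
    exact mem_centralizer_singleton_iff.mpr (congrArg Subtype.val (mem_center_iff.mp (hcen hzP) ⟨h, hh⟩))
  obtain ⟨A, hA, hxA⟩ := hcov x
  obtain ⟨B, hB, hyB⟩ := hcov y
  have hAB : A ≠ B := fun h => hne
    ((mem_centralizer_singleton_iff.mp (key A (hnil A hA) x hxA hx (h ▸ hyB))).symm)
  have hcard := hmin (insert K ((𝓐.erase A).erase B)) ⟨?_, ?_⟩
  · have h1 := (Finset.card_insert_le K ((𝓐.erase A).erase B))
    have h2 : ((𝓐.erase A).erase B).card + 2 = 𝓐.card := by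
      rw [Finset.card_erase_of_mem (Finset.mem_erase.mpr ⟨hAB.symm, hB⟩), Finset.card_erase_of_mem hA]
      have : 2 ≤ 𝓐.card := Finset.one_lt_card.mpr ⟨A, hA, B, hB, hAB⟩
      omega
    omega
  · intro C hC
    rcases Finset.mem_insert.mp hC with rfl | h
    · exact hK
    · exact hprop C (Finset.mem_of_mem_erase (Finset.mem_of_mem_erase h))
  · intro g
    obtain ⟨C, hC, hgC⟩ := hcov g
    by_cases hCA : C = A
    · exact ⟨K, Finset.mem_insert_self _ _, hxK (key A (hnil A hA) x hxA hx (hCA ▸ hgC))⟩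
    by_cases hCB : C = B
    · exact ⟨K, Finset.mem_insert_self _ _, hyK (key B (hnil B hB) y hyB hy (hCB ▸ hgC))⟩
    exact ⟨C, Finset.mem_insert_of_mem (Finset.mem_erase.mpr ⟨hCB, Finset.mem_erase.mpr ⟨hCA, hC⟩⟩), hgC⟩

theorem sq_not_dvd_factorial {q : ℕ} (hq : q.Prime) : ∀ n, n < 2 * q → ¬ q ^ 2 ∣ n.factorial := by
  intro n
  induction n with
  | zero => intro _ h; rw [Nat.factorial_zero, Nat.dvd_one] at h; exact absurd h (Nat.one_lt_pow two_ne_zero hq.one_lt).ne'
  | succ n ih =>
    intro hn h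
    rw [Nat.factorial_succ] at h
    rcases eq_or_ne (n + 1) q with he | he
    · rw [he, pow_two] at h
      have := (Nat.Prime.dvd_factorial hq).mp (Nat.dvd_of_mul_dvd_mul_left hq.pos h)
      omega
    · refine ih (by omega) (Nat.Coprime.dvd_of_dvd_mul_left (Nat.Coprime.pow_left 2 ?_) h)
      refine hq.coprime_iff_not_dvd.mpr fun hd => ?_
      obtain ⟨c, hc⟩ := hd
      rcases c with _ | _ | c
      · omega
      · exact he (by simpa using hc)
      · nlinarith

theorem card_factorial (n : ℕ) : Nat.card (Equiv.Perm (Fin n)) = n.factorial := by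
  rw [Nat.card_eq_fintype_card, Fintype.card_perm, Fintype.card_fin]

theorem not_sq_alt {n q : ℕ} (h : ¬ q ^ 2 ∣ n.factorial) : ¬ q ^ 2 ∣ Nat.card (alternatingGroup (Fin n)) := fun hd =>
  h (card_factorial n ▸ hd.trans (Subgroup.card_subgroup_dvd_card _))

/-- The subgroup stabilising the first `q` points. -/
def firstStab (n q : ℕ) : Subgroup (Equiv.Perm (Fin n)) where
  carrier := {g | ∀ i : Fin n, (g i : ℕ) < q ↔ (i : ℕ) < q}
  one_mem' := fun i => Iff.rfl
  mul_mem' := fun {a b} ha hb i => (ha (b i)).trans (hb i)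
  inv_mem' := fun {a} ha i => by
    have := ha (a⁻¹ i)
    simpa using this.symm

theorem setup (n : ℕ) (hn : 6 ≤ n) : ∃ (q : ℕ) (x y : Equiv.Perm (Fin n)), q.Prime ∧ ¬ q ^ 2 ∣ n.factorial ∧
    orderOf x = q ∧ orderOf y = q ∧ x * y ≠ y * x ∧ x ∈ alternatingGroup (Fin n) ∧ y ∈ alternatingGroup (Fin n) ∧
    centralizer ({x} : Set (Equiv.Perm (Fin n))) ≤ firstStab n q ∧
    centralizer ({y} : Set (Equiv.Perm (Fin n))) ≤ firstStab n q ∧
    ∃ w ∈ alternatingGroup (Fin n), w ∉ firstStab n q := by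
  obtain ⟨q, hq, hlt, hle⟩ := Nat.exists_prime_lt_and_le_two_mul (n / 2) (by omega)
  have hqn : q < n := by
    rcases Nat.lt_or_ge q n with h | h
    · exact h
    · exfalso
      have h2 : q = 2 * (n / 2) := by omega
      have := (Nat.prime_dvd_prime_iff_eq Nat.prime_two hq).mp (h2 ▸ dvd_mul_right 2 _)
      omega
  have hq5 : 5 ≤ q := by
    have h4 : q ≠ 4 := fun h => by rw [h] at hq; norm_num at hq
    omega
  obtain ⟨k, rfl⟩ : ∃ k, q = k + 5 := ⟨q - 5, by omega⟩
  set e : Fin (k + 5) ↪ Fin n := Fin.castLEEmb hqn.le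
  set σ := Equiv.Perm.viaEmbeddingHom e
  set r := finRotate (k + 5)
  set t : Equiv.Perm (Fin (k + 5)) := Equiv.swap 0 1
  have hinj : Function.Injective σ := Equiv.Perm.viaEmbeddingHom_injective e
  have hro : orderOf r = k + 5 := by
    rw [(isCycle_finRotate (n := k + 3)).orderOf, support_finRotate]
    simp
  have hroy : orderOf (t * r * t⁻¹) = k + 5 := by
    rw [show t * r * t⁻¹ = MulAut.conj t r from rfl, MulEquiv.orderOf_eq, hro]
  have hfix : ∀ (s : Equiv.Perm (Fin (k + 5))) (i : Fin n), k + 5 ≤ (i : ℕ) → σ s i = i := by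
    intro s i hi
    show Equiv.Perm.viaEmbedding s e i = i
    refine Equiv.Perm.viaEmbedding_apply_of_notMem _ _ _ ?_
    rintro ⟨j, rfl⟩
    have := j.2
    simp [e] at hi
    omega
  have happ : ∀ (s : Equiv.Perm (Fin (k + 5))) (j : Fin (k + 5)), σ s (e j) = e (s j) := fun s j =>
    Equiv.Perm.viaEmbedding_apply s e j
  have hcent : ∀ s : Equiv.Perm (Fin (k + 5)), (∀ j, s j ≠ j) →
      centralizer ({σ s} : Set (Equiv.Perm (Fin n))) ≤ firstStab n (k + 5) := by
    intro s hs
    have hiff : ∀ i : Fin n, σ s i ≠ i ↔ (i : ℕ) < k + 5 := by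
      intro i
      constructor
      · intro h
        by_contra h'
        exact h (hfix s i (by omega))
      · intro h h'
        have hi : e ⟨i, h⟩ = i := Fin.ext rfl
        rw [← hi, happ] at h'
        exact hs _ (e.injective h')
    intro g hg i
    rw [← hiff, ← hiff, not_iff_not]
    have hc := mem_centralizer_singleton_iff.mp hg
    have : σ s (g i) = g (σ s i) := by
      rw [← Equiv.Perm.mul_apply, ← hc, Equiv.Perm.mul_apply]
    rw [this]
    exact g.injective.eq_iff
  have heven : ∀ s : Equiv.Perm (Fin (k + 5)), orderOf s = k + 5 → σ s ∈ alternatingGroup (Fin n) := by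
    intro s hs
    rw [Equiv.Perm.mem_alternatingGroup]
    have hodd : Odd (k + 5) := hq.odd_of_ne_two (by omega)
    have h := congrArg Equiv.Perm.sign (show σ s ^ (k + 5) = 1 by
      have h1 := pow_orderOf_eq_one s; rw [hs] at h1; rw [← map_pow, h1, map_one])
    rw [map_pow, map_one] at h
    rcases Int.units_eq_one_or (Equiv.Perm.sign (σ s)) with h' | h'
    · exact h'
    · rw [h', hodd.neg_one_pow] at h; exact absurd h (by decide)
  have hr : ∀ j, r j ≠ j := by
    intro j h
    have := Equiv.Perm.mem_support.mp (show j ∈ r.support by rw [support_finRotate]; exact Finset.mem_univ j)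
    exact this h
  refine ⟨k + 5, σ r, σ (t * r * t⁻¹), hq, sq_not_dvd_factorial hq n (by omega), ?_, ?_, ?_,
    heven r hro, heven _ hroy, hcent r hr, hcent _ ?_, ?_⟩
  · rw [orderOf_injective σ hinj, hro]
  · rw [orderOf_injective σ hinj, hroy]
  · rw [← map_mul, ← map_mul]
    intro h
    have h' := congrArg (fun u : Equiv.Perm (Fin (k + 5)) => u 0) (hinj h)
    simp only [Equiv.Perm.mul_apply, r, t, finRotate_apply, Equiv.swap_inv] at h'
    simp [Equiv.swap_apply_def, Fin.ext_iff, Fin.val_add, Nat.mod_eq_of_lt (show 2 < k + 5 by omega), Nat.mod_eq_of_lt (show 1 < k + 5 by omega), Nat.mod_eq_of_lt (show 3 < k + 5 by omega)] at h'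
  · intro j h
    refine hr (t⁻¹ j) (t.injective ?_)
    simpa using h
  · refine ⟨Equiv.swap (⟨0, by omega⟩ : Fin n) ⟨n - 1, by omega⟩ * Equiv.swap (⟨1, by omega⟩ : Fin n) ⟨2, by omega⟩, ?_, ?_⟩
    · rw [Equiv.Perm.mem_alternatingGroup, map_mul, Equiv.Perm.sign_swap (by simp [Fin.ext_iff]; omega),
        Equiv.Perm.sign_swap (by simp [Fin.ext_iff])]
      decide
    · intro h
      have := (h ⟨0, by omega⟩).mpr (by show 0 < k + 5; omega)
      rw [Equiv.Perm.mul_apply, Equiv.swap_apply_of_ne_of_ne (a := (⟨1, by omega⟩ : Fin n)) (by simp [Fin.ext_iff]) (by simp [Fin.ext_iff]),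
        Equiv.swap_apply_left] at this
      simp at this
      omega

/-- A cover of a group is a finite set of proper subgroups whose union is the whole group; it is minimal when no cover has fewer members, and nilpotent when all its members are nilpotent. The alternating groups of degree at least 5 and the symmetric groups of degree at least 4 have no nilpotent minimal cover. -/
theorem result (n : ℕ) :
    (5 ≤ n → ¬ ∃ 𝓐 : Finset (Subgroup ↥(alternatingGroup (Fin n))), ((∀ A ∈ 𝓐, A ≠ ⊤) ∧ (∀ g : ↥(alternatingGroup (Fin n)), ∃ A ∈ 𝓐, g ∈ A)) ∧ (∀ 𝓑 : Finset (Subgroup ↥(alternatingGroup (Fin n))), (∀ A ∈ 𝓑, A ≠ ⊤) ∧ (∀ g : ↥(alternatingGroup (Fin n)), ∃ A ∈ 𝓑, g ∈ A) → 𝓐.card ≤ 𝓑.card) ∧ (∀ A ∈ 𝓐, Group.IsNilpotent ↥A)) ∧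
    (4 ≤ n → ¬ ∃ 𝓐 : Finset (Subgroup (Equiv.Perm (Fin n))), ((∀ A ∈ 𝓐, A ≠ ⊤) ∧ (∀ g : (Equiv.Perm (Fin n)), ∃ A ∈ 𝓐, g ∈ A)) ∧ (∀ 𝓑 : Finset (Subgroup (Equiv.Perm (Fin n))), (∀ A ∈ 𝓑, A ≠ ⊤) ∧ (∀ g : (Equiv.Perm (Fin n)), ∃ A ∈ 𝓑, g ∈ A) → 𝓐.card ≤ 𝓑.card) ∧ (∀ A ∈ 𝓐, Group.IsNilpotent ↥A)) := by
  constructor
  · intro hn
    rcases eq_or_lt_of_le hn with rfl | hn6
    · haveI : Fact (Nat.Prime 3) := ⟨Nat.prime_three⟩
      let x : alternatingGroup (Fin 5) := ⟨Equiv.swap 0 1 * Equiv.swap 1 2, by decide⟩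
      let y : alternatingGroup (Fin 5) := ⟨Equiv.swap 0 1 * Equiv.swap 1 3, by decide⟩
      let K : Subgroup (alternatingGroup (Fin 5)) := MulAction.stabilizer (alternatingGroup (Fin 5)) (4 : Fin 5)
      refine no_cover (q := 3) (not_sq_alt (by decide)) x y (orderOf_eq_prime (by decide) (by decide))
        (orderOf_eq_prime (by decide) (by decide)) (by decide) K ?_ ?_ ?_
      · intro h
        have h' : (⟨Equiv.swap 4 1 * Equiv.swap 1 2, by decide⟩ : alternatingGroup (Fin 5)) • (4 : Fin 5) = 4 :=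
          MulAction.mem_stabilizer_iff.mp (h ▸ Subgroup.mem_top _ : _ ∈ K)
        revert h'; decide
      · intro g hg
        have hall : ∀ g : alternatingGroup (Fin 5), g * x = x * g → g • (4 : Fin 5) = 4 := by decide
        exact MulAction.mem_stabilizer_iff.mpr (hall g (Subgroup.mem_centralizer_singleton_iff.mp hg))
      · intro g hg
        have hall : ∀ g : alternatingGroup (Fin 5), g * y = y * g → g • (4 : Fin 5) = 4 := by decide
        exact MulAction.mem_stabilizer_iff.mpr (hall g (Subgroup.mem_centralizer_singleton_iff.mp hg))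
    · obtain ⟨q, x, y, hq, hq2, hx, hy, hne, hxA, hyA, hxK, hyK, w, hwA, hwK⟩ := setup n hn6
      haveI := Fact.mk hq
      refine no_cover (not_sq_alt hq2) ⟨x, hxA⟩ ⟨y, hyA⟩ (by rw [Subgroup.orderOf_mk, hx])
        (by rw [Subgroup.orderOf_mk, hy]) (fun h => hne (congrArg Subtype.val h))
        ((firstStab n q).subgroupOf (alternatingGroup (Fin n))) (fun h => hwK ?_) ?_ ?_
      · exact Subgroup.mem_subgroupOf.mp (h ▸ Subgroup.mem_top (⟨w, hwA⟩ : alternatingGroup (Fin n)))
      · exact fun g hg => Subgroup.mem_subgroupOf.mpr (hxK (Subgroup.mem_centralizer_singleton_iff.mpr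
          (congrArg Subtype.val (Subgroup.mem_centralizer_singleton_iff.mp hg))))
      · exact fun g hg => Subgroup.mem_subgroupOf.mpr (hyK (Subgroup.mem_centralizer_singleton_iff.mpr
          (congrArg Subtype.val (Subgroup.mem_centralizer_singleton_iff.mp hg))))
  · intro hn
    rcases (show n = 4 ∨ n = 5 ∨ 6 ≤ n by omega) with rfl | rfl | hn6
    · haveI : Fact (Nat.Prime 3) := ⟨Nat.prime_three⟩
      refine no_cover (q := 3) (by rw [card_factorial]; decide) (Equiv.swap 0 1 * Equiv.swap 1 2)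
        (Equiv.swap 0 1 * Equiv.swap 1 3) (orderOf_eq_prime (by decide) (by decide))
        (orderOf_eq_prime (by decide) (by decide)) (by decide) (alternatingGroup (Fin 4)) ?_ ?_ ?_
      · intro h
        have h' : Equiv.swap (0 : Fin 4) 1 ∈ alternatingGroup (Fin 4) := h ▸ Subgroup.mem_top _
        revert h'; decide
      · intro g hg
        have hall : ∀ g : Equiv.Perm (Fin 4), g * (Equiv.swap 0 1 * Equiv.swap 1 2) =
            Equiv.swap 0 1 * Equiv.swap 1 2 * g → g ∈ alternatingGroup (Fin 4) := by decide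
        exact hall g (Subgroup.mem_centralizer_singleton_iff.mp hg)
      · intro g hg
        have hall : ∀ g : Equiv.Perm (Fin 4), g * (Equiv.swap 0 1 * Equiv.swap 1 3) =
            Equiv.swap 0 1 * Equiv.swap 1 3 * g → g ∈ alternatingGroup (Fin 4) := by decide
        exact hall g (Subgroup.mem_centralizer_singleton_iff.mp hg)
    · haveI : Fact (Nat.Prime 5) := ⟨by norm_num⟩
      refine no_cover (q := 5) (by rw [card_factorial]; decide) (finRotate 5)
        (Equiv.swap 0 1 * finRotate 5 * Equiv.swap 0 1) (orderOf_eq_prime (by decide) (by decide))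
        (orderOf_eq_prime (by decide) (by decide)) (by decide) (alternatingGroup (Fin 5)) ?_ ?_ ?_
      · intro h
        have h' : Equiv.swap (0 : Fin 5) 1 ∈ alternatingGroup (Fin 5) := h ▸ Subgroup.mem_top _
        revert h'; decide
      · intro g hg
        have hall : ∀ g : Equiv.Perm (Fin 5), g * finRotate 5 = finRotate 5 * g →
            g ∈ alternatingGroup (Fin 5) := by decide +kernel
        exact hall g (Subgroup.mem_centralizer_singleton_iff.mp hg)
      · intro g hg
        have hall : ∀ g : Equiv.Perm (Fin 5), g * (Equiv.swap 0 1 * finRotate 5 * Equiv.swap 0 1) =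
            Equiv.swap 0 1 * finRotate 5 * Equiv.swap 0 1 * g → g ∈ alternatingGroup (Fin 5) := by decide +kernel
        exact hall g (Subgroup.mem_centralizer_singleton_iff.mp hg)
    · obtain ⟨q, x, y, hq, hq2, hx, hy, hne, -, -, hxK, hyK, w, hwA, hwK⟩ := setup n hn6
      haveI := Fact.mk hq
      exact no_cover (by rwa [card_factorial]) x y hx hy hne (firstStab n q)
        (fun h => hwK (h ▸ Subgroup.mem_top w)) hxK hyK

end Cfsg.Agent.S3892
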