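import Cfsg.Statements.S3893
import Mathlib
import Cfsg.Agent.Lib.LocalEven.SuzukiPpd
import Cfsg.Agent.Lib.PGroups.NilCoverReplace

set_option autoImplicit false
open Cfsg

namespace Cfsg.Agent.S3893

set_option linter.all false
open Cfsg.Lie CfsgLib.Recog.SuzukiFix CfsgLib.LocalEven.SzPpd
open scoped Matrix

section Aux
variable {F : Type*} [Field F] [CharP F 2] {e : ℕ} (φ : F →+* F) (hφ : ∀ x, φ x = x ^ e)
  (hφ2 : ∀ x, φ (φ x) = x ^ 2)
include hφ hφ2

/-- A nontrivial diagonal element has four distinct entries. -/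
theorem diag_distinct {g : GL (Fin 4) F} (hg : g ∈ Sz F e)
    (hd : ∀ i j, i ≠ j → (g : Matrix (Fin 4) (Fin 4) F) i j = 0) (h1 : g ≠ 1) :
    ∀ i j, i ≠ j → (g : Matrix (Fin 4) (Fin 4) F) i i ≠ (g : Matrix (Fin 4) (Fin 4) F) j j := by
  obtain ⟨hs, hstar⟩ := sz_star4 φ hφ hg
  obtain ⟨M, hM⟩ : ∃ M : Matrix (Fin 4) (Fin 4) F, M = (g : Matrix (Fin 4) (Fin 4) F) := ⟨_, rfl⟩
  rw [← hM] at hs hstar hd ⊢
  have z01 := hd 0 1 (by decide); have z02 := hd 0 2 (by decide); have z03 := hd 0 3 (by decide)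
  have z10 := hd 1 0 (by decide); have z12 := hd 1 2 (by decide); have z13 := hd 1 3 (by decide)
  have z20 := hd 2 0 (by decide); have z21 := hd 2 1 (by decide); have z23 := hd 2 3 (by decide)
  have z30 := hd 3 0 (by decide); have z31 := hd 3 1 (by decide); have z32 := hd 3 2 (by decide)
  have c03 := hs.col 0 3
  have c12 := hs.col 1 2
  simp [z01, z02, z03, z10, z12, z13, z20, z21, z23, z30, z31, z32, Fin.rev] at c03 c12
  have e00 := congrFun (congrFun hstar 0) 0
  have e11 := congrFun (congrFun hstar 1) 1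
  simp [star4, pairOf, z01, z02, z03, z10, z12, z13, z20, z21, z23, z30, z31, z32] at e00 e11
  have key : ∀ x : F, φ x = 1 → x = 1 := fun x hx => φ.injective (by rw [hx, map_one])
  have sq : ∀ x : F, x ^ 2 = 1 → x = 1 := fun x hx => by
    have : (x - 1) ^ 2 = 0 := by rw [sub_pow_char, one_pow, hx, sub_self]
    exact sub_eq_zero.mp (pow_eq_zero_iff two_ne_zero |>.mp this)
  have all1 : M 0 0 = 1 → False := fun h0 => by
    rw [h0, one_mul] at c03
    rw [h0, one_mul, map_one] at e00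
    rw [e00, one_mul] at c12
    refine h1 (Units.ext ?_)
    rw [← hM, Units.val_one]
    ext i j
    fin_cases i <;> fin_cases j <;> simp [h0, c03, e00, c12, z01, z02, z03, z10, z12, z13, z20, z21, z23, z30, z31, z32]
  have n0 : M 0 0 ≠ 0 := fun h => by simp [h] at c03
  have n1 : M 1 1 ≠ 0 := fun h => by simp [h] at c12
  have h01 : M 0 0 ≠ M 1 1 := fun h => by
    rw [← h, ← pow_two] at e00
    have h4 := hφ2 (M 0 0)
    rw [← e00, map_pow, ← e00, ← pow_mul] at h4
    have : M 0 0 ^ 2 = 1 := by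
      apply mul_left_cancel₀ (pow_ne_zero 2 n0)
      rw [mul_one, ← pow_add]
      exact h4
    exact all1 (sq _ this)
  have h02 : M 0 0 ≠ M 2 2 := fun h => by
    rw [← h] at c12
    exact all1 (key _ (by rw [← e00, mul_comm]; exact c12))
  have h03 : M 0 0 ≠ M 3 3 := fun h => by
    rw [← h, ← pow_two] at c03
    exact all1 (sq _ c03)
  have h12 : M 1 1 ≠ M 2 2 := fun h => by
    rw [← h, ← pow_two] at c12
    have h11 := sq _ c12
    rw [← h, h11, mul_one, map_one] at e11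
    exact all1 e11
  have h13 : M 1 1 ≠ M 3 3 := fun h => by
    rw [← h] at c03
    exact all1 (key _ (e00.symm.trans c03))
  have h23 : M 2 2 ≠ M 3 3 := fun h => by
    rw [h] at c12
    exact h01 (mul_right_cancel₀ (b := M 3 3) (fun h' => by simp [h'] at c03) (c03.trans c12.symm))
  intro i j hij
  fin_cases i <;> fin_cases j <;> first
    | exact absurd rfl hij
    | exact h01 | exact h01.symm | exact h02 | exact h02.symm | exact h03 | exact h03.symm
    | exact h12 | exact h12.symm | exact h13 | exact h13.symm | exact h23 | exact h23.symm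

/-- Upper triangular elements. -/
def borel : Subgroup (Sz F e) where
  carrier := {g | Matrix.BlockTriangular ((g : GL (Fin 4) F) : Matrix (Fin 4) (Fin 4) F) id}
  one_mem' := Matrix.blockTriangular_one
  mul_mem' := fun {g h} hg hh => by
    show Matrix.BlockTriangular ((((g * h : Sz F e) : GL (Fin 4) F)) : Matrix (Fin 4) (Fin 4) F) id
    rw [Subgroup.coe_mul, Units.val_mul]
    exact hg.mul hh
  inv_mem' := fun {g} hg => by
    show Matrix.BlockTriangular ((((g⁻¹ : Sz F e) : GL (Fin 4) F)) : Matrix (Fin 4) (Fin 4) F) id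
    rw [Subgroup.coe_inv, Matrix.coe_units_inv]
    haveI : Invertible ((g : GL (Fin 4) F) : Matrix (Fin 4) (Fin 4) F) :=
      Units.invertible (g : GL (Fin 4) F)
    exact Matrix.blockTriangular_inv_of_blockTriangular hg

omit hφ2 in
theorem commute_diag {d g : Sz F e}
    (hd : ∀ i j, i ≠ j → ((d : GL (Fin 4) F) : Matrix (Fin 4) (Fin 4) F) i j = 0)
    (hne : ∀ i j, i ≠ j → ((d : GL (Fin 4) F) : Matrix (Fin 4) (Fin 4) F) i i ≠
      ((d : GL (Fin 4) F) : Matrix (Fin 4) (Fin 4) F) j j) (h : Commute g d) :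
    ∀ i j, i ≠ j → ((g : GL (Fin 4) F) : Matrix (Fin 4) (Fin 4) F) i j = 0 := by
  intro i j hij
  have h' := congrArg (fun x : Sz F e => ((x : GL (Fin 4) F) : Matrix (Fin 4) (Fin 4) F) i j) h.eq
  simp only [Subgroup.coe_mul, Units.val_mul, Matrix.mul_apply] at h'
  rw [Finset.sum_eq_single j, Finset.sum_eq_single i] at h'
  · by_contra h0
    apply hne i j hij
    rw [mul_comm] at h'
    exact (mul_right_cancel₀ h0 h').symm
  · intro b _ hb; rw [hd i b hb.symm, zero_mul]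
  · simp
  · intro b _ hb; rw [hd b j hb, mul_zero]
  · simp

/-- A nilpotent subgroup containing a nontrivial diagonal element is diagonal. -/
theorem diag_of_nilpotent {d : Sz F e} (hd1 : d ≠ 1)
    (hd : ∀ i j, i ≠ j → ((d : GL (Fin 4) F) : Matrix (Fin 4) (Fin 4) F) i j = 0)
    {N : Subgroup (Sz F e)} (hN : Group.IsNilpotent N) (hdN : d ∈ N) :
    ∀ g ∈ N, ∀ i j, i ≠ j → ((g : GL (Fin 4) F) : Matrix (Fin 4) (Fin 4) F) i j = 0 := by
  haveI := hN
  haveI : Nontrivial N := ⟨⟨⟨d, hdN⟩, 1, fun h => hd1 (congrArg Subtype.val h)⟩⟩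
  haveI : Nontrivial (Subgroup.center N) :=
    (Subgroup.nontrivial_iff_ne_bot _).mpr (Group.IsNilpotent.center_ne_bot N)
  obtain ⟨z, hz⟩ := exists_ne (1 : Subgroup.center N)
  have hdd := diag_distinct φ hφ hφ2 d.2 hd fun h => hd1 (Subtype.ext h)
  have hzc : ∀ g : N, Commute ((z : N) : Sz F e) g := fun g =>
    congrArg Subtype.val (Subgroup.mem_center_iff.mp z.2 g).symm
  have hzd := commute_diag φ hφ hd hdd (hzc ⟨d, hdN⟩)
  have hz1 : ((z : N) : Sz F e) ≠ 1 := fun h => hz (Subtype.ext (Subtype.ext h))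
  have hzz := diag_distinct φ hφ hφ2 (((z : N) : Sz F e)).2 hzd fun h => hz1 (Subtype.ext h)
  exact fun g hg => commute_diag φ hφ hzd hzz (hzc ⟨g, hg⟩).symm

omit φ hφ hφ2 in
theorem core_no_cover [Fintype F] {m : ℕ} (hm : 1 ≤ m) (hF : Fintype.card F = 2 ^ (2 * m + 1)) :
    CfsgLib.PGroups.CoverReplace.NoNilMinCover (Sz F (2 ^ (m + 1))) := by
  classical
  set e := 2 ^ (m + 1) with he
  have he0 : e ≠ 0 := (Nat.two_pow_pos _).ne'
  let φ := iterateFrobenius F 2 (m + 1)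
  have hφ : ∀ x, φ x = x ^ e := fun x => iterateFrobenius_def 2 (m + 1) x
  have hee : ∀ x : F, (x ^ e) ^ e = x ^ 2 := fun x => by
    rw [← pow_mul, show e * e = Fintype.card F * 2 by rw [hF, he]; ring, pow_mul, FiniteField.pow_card]
  have hφ2 : ∀ x, φ (φ x) = x ^ 2 := fun x => by rw [hφ, hφ, hee]
  obtain ⟨t, ht⟩ : ∃ t : Fˣ, t ≠ 1 := by
    have : 2 ≤ Fintype.card F - 1 := by
      have h8 : 2 ^ 3 ≤ 2 ^ (2 * m + 1) := Nat.pow_le_pow_right two_pos (by omega)
      omega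
    haveI : Nontrivial Fˣ := Fintype.one_lt_card_iff_nontrivial.mp (by rw [Fintype.card_units]; omega)
    exact exists_ne 1
  set d : Sz F e := ⟨CfsgLib.Known.SuzukiLaw.torus (e - 1) t, CfsgLib.Known.SuzukiLaw.torus_mem hF t⟩
  have hd : ∀ i j, i ≠ j → ((d : GL (Fin 4) F) : Matrix (Fin 4) (Fin 4) F) i j = 0 := fun i j hij =>
    Matrix.diagonal_apply_ne _ hij
  have hd1 : d ≠ 1 := by
    intro h
    have h00 := congrArg (fun x : Sz F e => ((x : GL (Fin 4) F) : Matrix (Fin 4) (Fin 4) F) 0 0) h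
    simp [d, CfsgLib.Known.SuzukiLaw.torus, CfsgLib.Known.SuzukiLaw.wt] at h00
    exact ht h00
  have hdd := diag_distinct φ hφ hφ2 d.2 hd fun h => hd1 (Subtype.ext h)
  set u : Sz F e := ⟨upG e 1, upG_mem he0 hee 1⟩
  have huB : u ∈ borel := fun i j hij => by
    show upB e (1 : F) i j = 0
    fin_cases i <;> fin_cases j <;> simp [upB] at hij ⊢
  refine CfsgLib.PGroups.CoverReplace.no_nilpotent_minimal_cover (borel) ?_ d (u * d * u⁻¹)
    (fun N hN hx hy => ?_) fun N hN hxy g hg => Or.inl ?_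
  · intro h
    have hr : (⟨revG F, revG_mem he0⟩ : Sz F e) ∈ borel := h ▸ Subgroup.mem_top _
    have := hr (show (id (0 : Fin 4)) < id 3 by decide)
    simp [revG, revM] at this
  · have h02 := diag_of_nilpotent φ hφ hφ2 hd1 hd hN hx _ hy 0 2 (by decide)
    have huinv : u⁻¹ = u := inv_eq_of_mul_eq_one_right (Subtype.ext (Units.ext (upB_mul_self e 1)))
    rw [huinv] at h02
    simp only [Subgroup.coe_mul, Units.val_mul, Matrix.mul_apply, Fin.sum_univ_four] at h02
    simp [u, upG, upB, hd 0 1 (by decide), hd 0 2 (by decide), hd 0 3 (by decide), hd 1 0 (by decide),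
      hd 1 2 (by decide), hd 1 3 (by decide), hd 2 0 (by decide), hd 2 1 (by decide), hd 2 3 (by decide),
      hd 3 0 (by decide), hd 3 1 (by decide), hd 3 2 (by decide)] at h02
    exact hdd 0 2 (by decide) (CharTwo.add_eq_zero.mp h02)
  · have diagB : ∀ x : Sz F e, (∀ i j, i ≠ j → ((x : GL (Fin 4) F) : Matrix (Fin 4) (Fin 4) F) i j = 0) →
        x ∈ borel := fun x hx i j hij => hx i j (ne_of_gt hij)
    rcases hxy with hx | hy
    · exact diagB g (diag_of_nilpotent φ hφ hφ2 hd1 hd hN hx g hg)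
    · haveI := hN
      have h := diagB _ (diag_of_nilpotent φ hφ hφ2 hd1 hd (N := N.map (MulAut.conj u⁻¹).toMonoidHom)
        (Group.nilpotent_of_surjective _ (MonoidHom.subgroupMap_surjective _ N))
        ⟨_, hy, by simp [mul_assoc]⟩ _ ⟨g, hg, rfl⟩)
      have h2 := mul_mem (mul_mem huB h) (inv_mem huB)
      simpa [mul_assoc] using h2

end Aux

/-- A cover of a group is a finite set of proper subgroups whose union is the whole group; it is minimal when no cover has fewer members, and nilpotent when all its members are nilpotent. The Suzuki groups Sz(q), q = 2^(2m+1) with m ≥ 1, have no nilpotent minimal cover. -/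
theorem result {F : Type*} [Field F] [Fintype F] (m : ℕ) (hm : 1 ≤ m) (hF : Fintype.card F = 2 ^ (2 * m + 1)) :
    ¬ ∃ 𝓐 : Finset (Subgroup ↥(Cfsg.Lie.Sz F (2 ^ (m + 1)))), ((∀ A ∈ 𝓐, A ≠ ⊤) ∧ (∀ g : ↥(Cfsg.Lie.Sz F (2 ^ (m + 1))), ∃ A ∈ 𝓐, g ∈ A)) ∧ (∀ 𝓑 : Finset (Subgroup ↥(Cfsg.Lie.Sz F (2 ^ (m + 1)))), (∀ A ∈ 𝓑, A ≠ ⊤) ∧ (∀ g : ↥(Cfsg.Lie.Sz F (2 ^ (m + 1))), ∃ A ∈ 𝓑, g ∈ A) → 𝓐.card ≤ 𝓑.card) ∧ (∀ A ∈ 𝓐, Group.IsNilpotent ↥A) := by
  obtain ⟨p, hp⟩ := CharP.exists F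
  haveI := Fact.mk (CharP.char_is_prime F p)
  have h2 : p = 2 := by
    obtain ⟨k, hk, hcard⟩ := FiniteField.card F p
    exact (Nat.prime_dvd_prime_iff_eq hk Nat.prime_two).mp (hk.dvd_of_dvd_pow
      (show p ∣ 2 ^ (2 * m + 1) from hF ▸ hcard ▸ dvd_pow_self p (PNat.ne_zero k)))
  subst h2
  exact core_no_cover hm hF

end Cfsg.Agent.S3893
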