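import Cfsg.Statements.S3894
import Mathlib
import Cfsg.Agent.Lib.PGroups.PGLCoverCases
import Cfsg.Agent.Lib.Classical.SmallIsoSix
import Cfsg.Agent.S3892

set_option autoImplicit false
open Cfsg

namespace Cfsg.Agent.S3894

open CfsgLib.PGroups

/-- The image of SL in PGL is PSL. -/
noncomputable def slImageEquiv (n : ℕ) (F : Type*) [Field F] :
    Matrix.ProjectiveSpecialLinearGroup (Fin n) F ≃* PGLCover.slImage n F :=
  let ψ : Matrix.SpecialLinearGroup (Fin n) F →* PGLCover.PG n F :=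
    (QuotientGroup.mk' (Subgroup.center (GL (Fin n) F))).comp Matrix.SpecialLinearGroup.toGL
  have hker : Subgroup.center (Matrix.SpecialLinearGroup (Fin n) F) = ψ.ker := by
    ext g
    rw [MonoidHom.mem_ker, MonoidHom.comp_apply,
      show (QuotientGroup.mk' (Subgroup.center (GL (Fin n) F))) (Matrix.SpecialLinearGroup.toGL g) =
        PGLCover.pr (Matrix.SpecialLinearGroup.toGL g) from rfl,
      PGLCover.pr_eq_one_iff, Matrix.SpecialLinearGroup.mem_center_iff]
    constructor
    · rintro ⟨r, -, hr⟩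
      exact ⟨r, hr.symm⟩
    · rintro ⟨c, hc⟩
      refine ⟨c, ?_, hc.symm⟩
      have h := congrArg Matrix.det hc
      rw [Matrix.scalar_apply, Matrix.det_diagonal, Finset.prod_const, Finset.card_univ] at h
      rw [← h]
      exact g.2
  ((QuotientGroup.quotientMulEquivOfEq hker).trans (QuotientGroup.quotientKerEquivRange ψ)).trans
    (MulEquiv.subgroupCongr (MonoidHom.map_range _ _).symm)

/-- A cover of a group is a finite set of proper subgroups whose union is the whole group; it is minimal when no cover has fewer members, and nilpotent when all its members are nilpotent. Let F be a finite field with q elements and n ≥ 3, or n = 2 and q ≥ 4. Then no subgroup of PGL_n(F) = GL_n(F)/Z(GL_n(F)) containing the image of SL_n(F) has a nilpotent minimal cover. -/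
theorem result {F : Type*} [Field F] [Fintype F] (n : ℕ) (hn : 3 ≤ n ∨ (n = 2 ∧ 4 ≤ Fintype.card F))
    (G : Subgroup (GL (Fin n) F ⧸ Subgroup.center (GL (Fin n) F)))
    (hG : ((Matrix.SpecialLinearGroup.toGL : Matrix.SpecialLinearGroup (Fin n) F →* GL (Fin n) F).range).map
      (QuotientGroup.mk' (Subgroup.center (GL (Fin n) F))) ≤ G) :
    ¬ ∃ 𝓐 : Finset (Subgroup ↥G), ((∀ A ∈ 𝓐, A ≠ ⊤) ∧ (∀ g : ↥G, ∃ A ∈ 𝓐, g ∈ A)) ∧ (∀ 𝓑 : Finset (Subgroup ↥G), (∀ A ∈ 𝓑, A ≠ ⊤) ∧ (∀ g : ↥G, ∃ A ∈ 𝓑, g ∈ A) → 𝓐.card ≤ 𝓑.card) ∧ (∀ A ∈ 𝓐, Group.IsNilpotent ↥A) := by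
  classical
  obtain ⟨p, hp⟩ := CharP.exists F
  haveI := Fact.mk (CharP.char_is_prime F p)
  show CoverReplace.NoNilMinCover ↥G
  rcases hn with h3 | ⟨rfl, h4⟩
  · exact PGLCover.no_cover_of_three (p := p) h3 G hG
  by_cases h5 : Fintype.card F = 5
  · by_cases hne : G = PGLCover.slImage 2 F
    · obtain ⟨e⟩ := CfsgLib.Classical.nonempty_psl_five_equiv_alt (F := F) h5
      exact CoverReplace.of_mulEquiv ((MulEquiv.subgroupCongr hne).trans ((slImageEquiv 2 F).symm.trans e))
        ((Cfsg.Agent.S3892.result 5).1 le_rfl)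
    · exact PGLCover.no_cover_of_not_slImage (p := p) le_rfl G hG hne
  · exact PGLCover.no_cover_two h4 h5 G hG

end Cfsg.Agent.S3894
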