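import Cfsg.Statements.S3895
import Mathlib
import Cfsg.Agent.S0079
import Cfsg.Agent.Lib.Transfer.Fusion
import Cfsg.Agent.Lib.Transfer.PResidual
import Cfsg.Agent.Lib.Orders.OrderConjugate
import Cfsg.Agent.Lib.PGroups.Basic
import Cfsg.Agent.Lib.PGroups.ClassTwo

set_option autoImplicit false
open Cfsg

namespace Cfsg.Agent.S3895

set_option linter.style.haveILetI false
open scoped commutatorElement Classical

section twoGroup

universe v

theorem class_le_two {Q : Type v} [Group Q] [Finite Q] {x : Q}
    (h : (Subgroup.centralizer ({x} : Set Q)).index ≤ 2) :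
    x ∈ Subgroup.centralizer (commutator Q : Set Q) := by
  have hle : commutator Q ≤ Subgroup.centralizer ({x} : Set Q) := by
    set C := Subgroup.centralizer ({x} : Set Q) with hC
    rcases (show C.index = 1 ∨ C.index = 2 by
      have := Subgroup.index_ne_zero_of_finite (H := C); omega) with h1 | h1
    · rw [Subgroup.index_eq_one.mp h1]; exact le_top
    · haveI := Subgroup.normal_of_index_eq_two h1
      haveI : Fact (Nat.Prime 2) := ⟨Nat.prime_two⟩
      haveI : IsCyclic (Q ⧸ C) := isCyclic_of_prime_card (p := 2) h1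
      refine (Subgroup.Normal.quotient_commutative_iff_commutator_le).mp ?_
      exact ⟨⟨fun a b => (IsCyclic.commGroup (α := Q ⧸ C)).mul_comm a b⟩⟩
  exact Subgroup.mem_centralizer_iff.mpr fun c hc => Subgroup.mem_centralizer_singleton_iff.mp (hle hc)

theorem four_mul_center_le {Q : Type v} [Group Q] [Finite Q] (hQ : IsPGroup 2 Q) (hna : ¬ IsMulCommutative Q) :
    4 * Nat.card (Subgroup.center Q) ≤ Nat.card Q := by
  haveI : Fact (Nat.Prime 2) := ⟨Nat.prime_two⟩
  rw [← Subgroup.index_mul_card (Subgroup.center Q)]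
  refine Nat.mul_le_mul_right _ ?_
  obtain ⟨m, hm⟩ := hQ.index (Subgroup.center Q)
  rw [hm]
  rcases m with _ | _ | m
  · exact absurd (show IsMulCommutative Q from ⟨⟨fun a b =>
      (Subgroup.mem_center_iff.mp ((Subgroup.index_eq_one.mp (by simpa using hm) : Subgroup.center Q = ⊤) ▸
        Subgroup.mem_top b) a)⟩⟩) hna
  · haveI : IsCyclic (Q ⧸ Subgroup.center Q) := isCyclic_of_prime_card (p := 2) (by simpa [Subgroup.index] using hm)
    exact absurd (CfsgLib.PGroups.isMulCommutative_of_cyclic_quotient (N := Subgroup.center Q) le_rfl) hna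
  · exact (show 4 = 2 ^ 2 by norm_num).trans_le (Nat.pow_le_pow_right two_pos (by omega))

/-- A 2-group with derived subgroup of order at least 4 has at most half as many classes as elements. -/
theorem two_mul_classes_le (n : ℕ) : ∀ (Q : Type v) [Group Q] [Finite Q], Nat.card Q = n → IsPGroup 2 Q →
    4 ≤ Nat.card (commutator Q) → 2 * Nat.card (ConjClasses Q) ≤ Nat.card Q := by
  induction n using Nat.strongRecOn with
  | ind n ih =>
    intro Q _ _ hn hQ h4
    subst hn
    haveI : Fact (Nat.Prime 2) := ⟨Nat.prime_two⟩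
    have hna : ¬ IsMulCommutative Q := fun h => by
      have hbot : commutator Q = ⊥ := by
        rw [commutator_def, Subgroup.commutator_eq_bot_iff_le_centralizer]
        exact fun a _ => Subgroup.mem_centralizer_iff.mpr fun b _ => h.is_comm.comm b a
      rw [hbot, Subgroup.card_bot] at h4
      omega
    obtain ⟨k, hk⟩ := IsPGroup.iff_card.mp (hQ.to_subgroup (commutator Q))
    rcases Nat.lt_or_ge 4 (Nat.card (commutator Q)) with h8 | h8
    · have hne : commutator Q ⊓ Subgroup.center Q ≠ ⊥ := CfsgLib.PGroups.inf_center_ne_bot hQ (fun h => by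
        rw [h, Subgroup.card_bot] at h4; omega)
      obtain ⟨j, hj⟩ := IsPGroup.iff_card.mp (hQ.to_subgroup (commutator Q ⊓ Subgroup.center Q))
      have hj0 : j ≠ 0 := fun h => hne (Subgroup.card_eq_one.mp (by rw [hj, h, pow_zero]))
      obtain ⟨z, hz⟩ := exists_prime_orderOf_dvd_card' (G := ↥(commutator Q ⊓ Subgroup.center Q)) 2
        (hj ▸ dvd_pow_self 2 hj0)
      set N := Subgroup.zpowers (z : Q) with hN
      haveI : N.Normal := ⟨fun m hm g => by
        have hm' : m ∈ Subgroup.center Q := (Subgroup.zpowers_le.mpr z.2.2) hm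
        rwa [Subgroup.mem_center_iff.mp hm' g, mul_inv_cancel_right]⟩
      have hNcard : Nat.card N = 2 := by rw [hN, Nat.card_zpowers, Subgroup.orderOf_coe, hz]
      have hQcard : Nat.card Q = 2 * Nat.card (Q ⧸ N) := by
        rw [Subgroup.card_eq_card_quotient_mul_card_subgroup N, hNcard, mul_comm]
      have hder : 4 ≤ Nat.card (commutator (Q ⧸ N)) := by
        have hmap : commutator (Q ⧸ N) = (commutator Q).map (QuotientGroup.mk' N) := by
          rw [commutator_def, commutator_def, Subgroup.map_commutator,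
            Subgroup.map_top_of_surjective _ (QuotientGroup.mk'_surjective N)]
        have h1 := Subgroup.relIndex_ker (QuotientGroup.mk' N) (K := commutator Q)
        rw [QuotientGroup.ker_mk', ← hmap] at h1
        rw [← h1]
        have hle : N ≤ commutator Q := Subgroup.zpowers_le.mpr z.2.1
        have h2 := Subgroup.index_mul_card (N.subgroupOf (commutator Q))
        rw [Nat.card_congr (Subgroup.subgroupOfEquivOfLe hle).toEquiv, hNcard] at h2
        change N.relIndex (commutator Q) * 2 = _ at h2
        rw [hk] at h2 h8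
        have hk3 : 3 ≤ k := by
          by_contra h
          have : 2 ^ k ≤ 2 ^ 2 := Nat.pow_le_pow_right two_pos (by omega)
          omega
        have : 2 ^ 3 ≤ 2 ^ k := Nat.pow_le_pow_right two_pos hk3
        omega
      have hih := ih _ (by have : 0 < Nat.card (Q ⧸ N) := Nat.card_pos; omega) (Q ⧸ N) rfl (hQ.to_quotient N) hder
      have hsurj : Function.Surjective (fun w : ConjClasses (Q ⧸ N) × N =>
          ConjClasses.mk ((Quotient.out w.1).out * (w.2 : Q))) := by
        intro C
        obtain ⟨x, rfl⟩ := ConjClasses.mk_surjective C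
        set D := ConjClasses.mk (x : Q ⧸ N)
        have hD : IsConj (x : Q ⧸ N) (Quotient.out D) :=
          (ConjClasses.mk_eq_mk_iff_isConj).mp (Quotient.out_eq D).symm
        obtain ⟨g, hg⟩ := isConj_iff.mp hD
        obtain ⟨g, rfl⟩ := QuotientGroup.mk_surjective g
        have hmem : (Quotient.out D).out⁻¹ * (g * x * g⁻¹) ∈ N := by
          rw [← QuotientGroup.eq]
          exact (Quotient.out_eq' (Quotient.out D)).trans (by rw [← hg]; rfl)
        refine ⟨(D, ⟨_, hmem⟩), ?_⟩
        show ConjClasses.mk ((Quotient.out D).out * ((Quotient.out D).out⁻¹ * (g * x * g⁻¹))) = _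
        rw [mul_inv_cancel_left, ConjClasses.mk_eq_mk_iff_isConj]
        exact (isConj_iff.mpr ⟨g, rfl⟩).symm
      have hle := Nat.card_le_card_of_surjective _ hsurj
      rw [Nat.card_prod, hNcard] at hle
      omega
    haveI := Fintype.ofFinite Q
    haveI := Fintype.ofFinite (ConjClasses Q)
    set f : Q → ℕ := fun x => (Subgroup.centralizer ({x} : Set Q)).index with hf
    set Z := Finset.univ.filter fun x : Q => f x = 1
    set S := Finset.univ.filter fun x : Q => f x ≤ 2
    have hpow : ∀ x, f x = 1 ∨ f x = 2 ∨ 4 ≤ f x := by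
      intro x
      obtain ⟨m, hm⟩ := hQ.index (Subgroup.centralizer ({x} : Set Q))
      rcases m with _ | _ | m
      · exact Or.inl hm
      · exact Or.inr (Or.inl hm)
      · exact Or.inr (Or.inr ((show 4 = 2 ^ 2 by norm_num).trans_le
          ((Nat.pow_le_pow_right two_pos (by omega)).trans hm.ge)))
    have hcount : 4 * Nat.card (ConjClasses Q) ≤ Nat.card Q + S.card + 2 * Z.card := by
      have hfib : ∀ C : ConjClasses Q,
          4 ≤ ∑ x ∈ Finset.univ.filter (fun x => ConjClasses.mk x = C),
            (1 + (if f x ≤ 2 then 1 else 0) + 2 * if f x = 1 then 1 else 0) := by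
        intro C
        obtain ⟨y, rfl⟩ := ConjClasses.mk_surjective C
        have hconst : ∀ x ∈ Finset.univ.filter (fun x => ConjClasses.mk x = ConjClasses.mk y), f x = f y := by
          intro x hx
          show _ = _
          rw [hf]
          dsimp only
          rw [← CfsgLib.Orders.card_carrier_eq_index, ← CfsgLib.Orders.card_carrier_eq_index,
            (Finset.mem_filter.mp hx).2]
        rw [Finset.sum_congr rfl fun x hx => by rw [hconst x hx], Finset.sum_const, smul_eq_mul]
        have hcard : (Finset.univ.filter fun x => ConjClasses.mk x = ConjClasses.mk y).card = f y := by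
          rw [hf]
          dsimp only
          rw [← CfsgLib.Orders.card_carrier_eq_index, ConjClasses.carrier_eq_preimage_mk, Nat.card_eq_fintype_card,
            Fintype.card_ofFinset]
          exact congrArg Finset.card (by ext a; simp)
        rw [hcard]
        rcases hpow y with h | h | h
        · simp [h]
        · simp [h]
        · exact h.trans (Nat.le_mul_of_pos_right _ (by omega))
      have h := Finset.sum_le_sum (s := (Finset.univ : Finset (ConjClasses Q))) fun C _ => hfib C
      rw [Finset.sum_const, Finset.card_univ, smul_eq_mul,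
        Finset.sum_fiberwise Finset.univ ConjClasses.mk] at h
      simp only [Finset.sum_add_distrib, Finset.sum_const, Finset.card_univ, smul_eq_mul, mul_one,
        ← Finset.mul_sum, Finset.sum_boole, Nat.cast_id] at h
      rw [Nat.card_eq_fintype_card, Nat.card_eq_fintype_card, mul_comm]
      exact h
    have hZ : Z.card = Nat.card (Subgroup.center Q) := by
      rw [Nat.card_eq_fintype_card, ← Fintype.card_coe]
      refine Fintype.card_congr (Equiv.subtypeEquivRight fun x => ?_)
      simp only [Z, Finset.mem_filter, Finset.mem_univ, true_and, hf, Subgroup.index_eq_one,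
        Subgroup.eq_top_iff', Subgroup.mem_centralizer_singleton_iff, Subgroup.mem_center_iff]
    have hcen := four_mul_center_le hQ hna
    have hidx : ∀ H : Subgroup Q, H ≠ ⊤ → 2 * Nat.card H ≤ Nat.card Q := fun H hH => by
      rw [← Subgroup.index_mul_card H]
      refine Nat.mul_le_mul_right _ ?_
      have h1 := Subgroup.index_ne_zero_of_finite (H := H)
      have h2 := mt Subgroup.index_eq_one.mp hH
      omega
    by_cases hP : Subgroup.centralizer (commutator Q : Set Q) = ⊤
    swap
    · have hS : S.card ≤ Nat.card (Subgroup.centralizer (commutator Q : Set Q)) := by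
        rw [Nat.card_eq_fintype_card, ← Fintype.card_coe]
        exact Fintype.card_le_of_injective (fun x => ⟨x.1, class_le_two (Finset.mem_filter.mp x.2).2⟩)
          fun a b hab => Subtype.ext (Subtype.mk.injEq _ _ _ _ ▸ hab)
      have := hidx _ hP
      omega
    have hcentral : commutator Q ≤ Subgroup.center Q := fun c hc => Subgroup.mem_center_iff.mpr fun g =>
      (Subgroup.mem_centralizer_iff.mp (show g ∈ Subgroup.centralizer (commutator Q : Set Q) from hP ▸ Subgroup.mem_top g) c hc).symm
    -- elements with a class of size two, sorted by their commutator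
    set R := fun c : Q => Finset.univ.filter fun x : Q => f x ≠ 1 ∧ ∀ y, ⁅x, y⁆ ∈ Subgroup.zpowers c
    set E := Finset.univ.filter fun c : Q => c ∈ commutator Q ∧ c ≠ 1 ∧ c * c = 1 with hE
    have hS : S ⊆ Z ∪ E.biUnion R := by
      intro x hx
      have hx2 : f x ≤ 2 := (Finset.mem_filter.mp hx).2
      by_cases hx1 : f x = 1
      · exact Finset.mem_union_left _ (Finset.mem_filter.mpr ⟨Finset.mem_univ _, hx1⟩)
      have hx2' : (Subgroup.centralizer ({x} : Set Q)).index = 2 := by
        have h1 := Subgroup.index_ne_zero_of_finite (H := Subgroup.centralizer ({x} : Set Q))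
        change (Subgroup.centralizer ({x} : Set Q)).index ≤ 2 at hx2
        change ¬ (Subgroup.centralizer ({x} : Set Q)).index = 1 at hx1
        omega
      obtain ⟨y₀, hy₀⟩ := SetLike.exists_not_mem_of_ne_top (Subgroup.centralizer ({x} : Set Q))
        (fun h => hx1 (Subgroup.index_eq_one.mpr h))
      have he : ∀ y, y ∉ Subgroup.centralizer ({x} : Set Q) → ⁅x, y⁆ = ⁅x, y₀⁆ := by
        intro y hy
        have hm : y * y₀⁻¹ ∈ Subgroup.centralizer ({x} : Set Q) := by
          rw [Subgroup.mul_mem_iff_of_index_two hx2', inv_mem_iff]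
          exact iff_of_false hy hy₀
        have hy' : y = y * y₀⁻¹ * y₀ := by group
        have h1 : x * (y * y₀⁻¹) = y * y₀⁻¹ * x := (Subgroup.mem_centralizer_singleton_iff.mp hm).symm
        have hc2 := Subgroup.mem_center_iff.mp (hcentral (Subgroup.commutator_mem_commutator
          (Subgroup.mem_top x) (Subgroup.mem_top y₀))) (y * y₀⁻¹)
        rw [commutatorElement_def] at hc2
        rw [hy', commutatorElement_def, commutatorElement_def]
        set w := y * y₀⁻¹
        calc x * (w * y₀) * x⁻¹ * (w * y₀)⁻¹ = (x * w) * y₀ * x⁻¹ * y₀⁻¹ * w⁻¹ := by group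
          _ = w * (x * y₀ * x⁻¹ * y₀⁻¹) * w⁻¹ := by rw [h1]; group
          _ = x * y₀ * x⁻¹ * y₀⁻¹ := by rw [hc2, mul_inv_cancel_right]
      have hk := hcentral (Subgroup.commutator_mem_commutator (Subgroup.mem_top x) (Subgroup.mem_top y₀))
      have hsq : ⁅x, y₀⁆ * ⁅x, y₀⁆ = 1 := by
        have h1 := he y₀⁻¹ (fun h => hy₀ (inv_mem_iff.mp h))
        rw [CfsgLib.PGroups.comm_inv_right_of_central hk] at h1
        exact inv_eq_iff_mul_eq_one.mp h1
      refine Finset.mem_union_right _ (Finset.mem_biUnion.mpr ⟨⁅x, y₀⁆, ?_,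
        Finset.mem_filter.mpr ⟨Finset.mem_univ _, hx1, fun y => ?_⟩⟩)
      · exact Finset.mem_filter.mpr ⟨Finset.mem_univ _,
          Subgroup.commutator_mem_commutator (Subgroup.mem_top _) (Subgroup.mem_top _),
          fun h => hy₀ (Subgroup.mem_centralizer_singleton_iff.mpr
            (commutatorElement_eq_one_iff_commute.mp h).eq.symm), hsq⟩
      by_cases hy : y ∈ Subgroup.centralizer ({x} : Set Q)
      · rw [commutatorElement_eq_one_iff_commute.mpr (Subgroup.mem_centralizer_singleton_iff.mp hy).symm]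
        exact one_mem _
      · rw [he y hy]
        exact Subgroup.mem_zpowers _
    have h4' : Nat.card (commutator Q) = 4 := le_antisymm h8 h4
    have hR : ∀ c ∈ E, 4 * ((R c).card + Z.card) ≤ Nat.card Q := by
      intro c hc
      obtain ⟨-, hcm', hc1, hc2⟩ := Finset.mem_filter.mp hc
      set N := Subgroup.zpowers c with hN
      haveI : N.Normal := ⟨fun m hm g => by
        have hm' : m ∈ Subgroup.center Q := (Subgroup.zpowers_le.mpr (hcentral hcm')) hm
        rwa [Subgroup.mem_center_iff.mp hm' g, mul_inv_cancel_right]⟩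
      have hNne : ¬ IsMulCommutative (Q ⧸ N) := by
        intro h
        have hle : commutator Q ≤ N := (Subgroup.Normal.quotient_commutative_iff_commutator_le).mp h
        have hc := Subgroup.card_le_of_le hle
        rw [hN, Nat.card_zpowers, orderOf_eq_prime (p := 2) (by rw [pow_two, hc2]) hc1] at hc
        omega
      have h1 := four_mul_center_le (hQ.to_quotient N) hNne
      set A := (Subgroup.center (Q ⧸ N)).comap (QuotientGroup.mk' N) with hA
      have hAcard : 4 * Nat.card A ≤ Nat.card Q := by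
        have h2 := Subgroup.index_mul_card A
        rw [Subgroup.index_comap_of_surjective _ (QuotientGroup.mk'_surjective N)] at h2
        have h3 := Subgroup.index_mul_card (Subgroup.center (Q ⧸ N))
        have hpos : 0 < Nat.card (Subgroup.center (Q ⧸ N)) := Nat.card_pos
        have h4i : 4 ≤ (Subgroup.center (Q ⧸ N)).index := Nat.le_of_mul_le_mul_right (h3.symm ▸ h1) hpos
        rw [← h2]
        exact Nat.mul_le_mul_right _ h4i
      refine le_trans (Nat.mul_le_mul_left 4 ?_) hAcard
      have hdisj : Disjoint (R c) Z := Finset.disjoint_left.mpr fun a ha hb =>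
        (Finset.mem_filter.mp ha).2.1 (Finset.mem_filter.mp hb).2
      have hsub : ∀ x ∈ R c ∪ Z, x ∈ A := by
        intro x hx
        rw [hA, Subgroup.mem_comap, Subgroup.mem_center_iff]
        intro g
        obtain ⟨g, rfl⟩ := QuotientGroup.mk'_surjective N g
        symm
        show Commute _ _
        rw [← commutatorElement_eq_one_iff_commute, ← map_commutatorElement, QuotientGroup.mk'_apply,
          QuotientGroup.eq_one_iff]
        rcases Finset.mem_union.mp hx with hx | hx
        · exact (Finset.mem_filter.mp hx).2.2 g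
        · have h := Subgroup.index_eq_one.mp (Finset.mem_filter.mp hx).2
          rw [commutatorElement_eq_one_iff_commute.mpr
            (Subgroup.mem_centralizer_singleton_iff.mp (h ▸ Subgroup.mem_top g)).symm]
          exact one_mem _
      rw [← Finset.card_union_of_disjoint hdisj, ← Fintype.card_coe, Nat.card_eq_fintype_card]
      exact Fintype.card_le_of_injective (fun x => ⟨x.1, hsub x.1 x.2⟩)
        fun a b hab => Subtype.ext (congrArg (fun y : A => (y : Q)) hab)
    have hEcard : E.card ≤ 3 := by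
      have h : E ⊆ (Finset.univ.filter fun c => c ∈ commutator Q).erase 1 := fun c hc =>
        Finset.mem_erase.mpr ⟨(Finset.mem_filter.mp hc).2.2.1, Finset.mem_filter.mpr ⟨Finset.mem_univ _, (Finset.mem_filter.mp hc).2.1⟩⟩
      refine (Finset.card_le_card h).trans ?_
      rw [Finset.card_erase_of_mem (by simp), ← Fintype.card_subtype, ← Nat.card_eq_fintype_card]
      change Nat.card (commutator Q) - 1 ≤ 3
      omega
    have hsum : 4 * ((∑ c ∈ E, (R c).card) + E.card * Z.card) ≤ E.card * Nat.card Q := by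
      have h := Finset.sum_le_sum hR
      rw [← Finset.mul_sum, Finset.sum_add_distrib, Finset.sum_const, Finset.sum_const, smul_eq_mul,
        smul_eq_mul] at h
      exact h
    have hScard : S.card ≤ Z.card + ∑ c ∈ E, (R c).card :=
      (Finset.card_le_card hS).trans ((Finset.card_union_le _ _).trans
        (Nat.add_le_add_left Finset.card_biUnion_le _))
    rcases (show E.card = 0 ∨ E.card = 1 ∨ E.card = 2 ∨ E.card = 3 by omega) with h | h | h | h <;>
      rw [h] at hsum <;> omega

end twoGroup

section fusion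

variable {G : Type*} [Group G] [Finite G]

theorem two_mem_of_normalizer (P : Sylow 2 G) {n : G} (hn : n ∈ Subgroup.normalizer ((P : Subgroup G) : Set G))
    (hfix : ∀ g ∈ Subgroup.normalizer ((P : Subgroup G) : Set G), (orderOf g).Coprime 2 →
      ∀ x ∈ (P : Subgroup G), g * x * g⁻¹ = x) :
    ∃ s ∈ (P : Subgroup G), ∀ x ∈ (P : Subgroup G), n * x * n⁻¹ = s * x * s⁻¹ := by
  obtain ⟨k, m, hm, hkm⟩ := Nat.exists_eq_two_pow_mul_odd (orderOf_pos n).ne'
  have hmc : Nat.Coprime m (2 ^ k) := Nat.Coprime.pow_right k hm.coprime_two_right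
  obtain ⟨a, b, hab⟩ := (Nat.isCoprime_iff_coprime.mpr hmc : IsCoprime (m : ℤ) ((2 ^ k : ℕ) : ℤ))
  set s := n ^ (a * (m : ℤ)) with hs
  set t := n ^ (b * ((2 ^ k : ℕ) : ℤ)) with ht
  have hst : n = s * t := by rw [hs, ht, ← zpow_add, hab, zpow_one]
  have hsP : s ∈ (P : Subgroup G) := by
    have h1 : IsPGroup 2 (Subgroup.zpowers s) := by
      refine IsPGroup.of_card (n := (orderOf s).factorization 2) ?_
      rw [Nat.card_zpowers]
      have hd : orderOf s ∣ 2 ^ k := by
        refine orderOf_dvd_of_pow_eq_one ?_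
        rw [hs, ← zpow_natCast, ← zpow_mul, show a * (m : ℤ) * ((2 ^ k : ℕ) : ℤ) = ((orderOf n : ℕ) : ℤ) * a by
          rw [hkm]; push_cast; ring, zpow_mul, zpow_natCast, pow_orderOf_eq_one, one_zpow]
      obtain ⟨j, -, hj⟩ := (Nat.dvd_prime_pow Nat.prime_two).mp hd
      rw [hj, Nat.Prime.factorization_pow Nat.prime_two, Finsupp.single_eq_same]
    have hle : Subgroup.zpowers s ≤ Subgroup.normalizer ((P : Subgroup G) : Set G) :=
      Subgroup.zpowers_le.mpr (zpow_mem hn _)
    have h2 : IsPGroup 2 ↥(Subgroup.zpowers s ⊔ (P : Subgroup G)) := h1.to_sup_of_normal_right' P.isPGroup' hle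
    rw [← P.is_maximal' h2 le_sup_right]
    exact Subgroup.mem_sup_left (Subgroup.mem_zpowers s)
  have htfix : ∀ x ∈ (P : Subgroup G), t * x * t⁻¹ = x := by
    refine hfix t (zpow_mem hn _) ?_
    have hd : orderOf t ∣ m := by
      refine orderOf_dvd_of_pow_eq_one ?_
      rw [ht, ← zpow_natCast, ← zpow_mul, show b * ((2 ^ k : ℕ) : ℤ) * (m : ℤ) = ((orderOf n : ℕ) : ℤ) * b by
        rw [hkm]; push_cast; ring, zpow_mul, zpow_natCast, pow_orderOf_eq_one, one_zpow]
    exact hm.coprime_two_right.coprime_dvd_left hd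
  refine ⟨s, hsP, fun x hx => ?_⟩
  calc n * x * n⁻¹ = s * (t * x * t⁻¹) * s⁻¹ := by rw [hst]; group
    _ = s * x * s⁻¹ := by rw [htfix x hx]

/-- If `c` is not fused inside `P` to anything else, fusion in its centraliser. -/
theorem fix_single (P : Sylow 2 G) {c : G} (hc : c ∈ (P : Subgroup G))
    (hone : ∀ g : G, g * c * g⁻¹ ∈ (P : Subgroup G) → g * c * g⁻¹ = c) {x g : G}
    (hx : x ∈ (P : Subgroup G)) (hy : g * x * g⁻¹ ∈ (P : Subgroup G)) :
    ∃ k : G, k * c * k⁻¹ = c ∧ k * x * k⁻¹ = g * x * g⁻¹ := by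
  have hcen : ∀ u ∈ (P : Subgroup G), u * c = c * u := fun u hu => by
    have := hone u (mul_mem (mul_mem hu hc) (inv_mem hu))
    rwa [mul_inv_eq_iff_eq_mul] at this
  set y := g * x * g⁻¹ with hy'
  set C := Subgroup.centralizer ({y} : Set G)
  have hcC : c ∈ C := Subgroup.mem_centralizer_singleton_iff.mpr (hcen y hy).symm
  have hgC : g * c * g⁻¹ ∈ C := by
    refine Subgroup.mem_centralizer_singleton_iff.mpr ?_
    calc g * c * g⁻¹ * y = g * (c * x) * g⁻¹ := by rw [hy']; group
      _ = g * (x * c) * g⁻¹ := by rw [hcen x hx]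
      _ = y * (g * c * g⁻¹) := by rw [hy']; group
  have hp : ∀ (e : G) (he : e ∈ C), IsPGroup 2 (Subgroup.zpowers (⟨e, he⟩ : C)) ↔
      ∃ k, orderOf e = 2 ^ k := fun e he => by
    rw [IsPGroup.iff_card, Nat.card_zpowers, ← Subgroup.orderOf_coe]
  obtain ⟨k₀, hk₀⟩ := IsPGroup.iff_orderOf.mp P.isPGroup' ⟨c, hc⟩
  rw [Subgroup.orderOf_mk] at hk₀
  obtain ⟨R, hR⟩ := ((hp c hcC).mpr ⟨k₀, hk₀⟩).exists_le_sylow
  obtain ⟨R₂, hR₂⟩ := ((hp _ hgC).mpr ⟨k₀, by
    rw [← hk₀]; exact (MulEquiv.orderOf_eq (MulAut.conj g) c)⟩).exists_le_sylow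
  obtain ⟨h, hh⟩ := MulAction.exists_smul_eq C R₂ R
  have hgR : h * ⟨g * c * g⁻¹, hgC⟩ * h⁻¹ ∈ (R : Subgroup C) := by
    rw [← hh]
    exact ⟨_, hR₂ (Subgroup.mem_zpowers _), rfl⟩
  obtain ⟨R₀, hR₀⟩ := ((R.isPGroup').map C.subtype).exists_le_sylow
  obtain ⟨t, ht⟩ := MulAction.exists_smul_eq G R₀ P
  have hmem : ∀ e : C, e ∈ (R : Subgroup C) → t * (e : G) * t⁻¹ ∈ (P : Subgroup G) := fun e he => by
    rw [← ht]
    exact ⟨_, hR₀ ⟨e, he, rfl⟩, rfl⟩
  have h1 := hone t (hmem ⟨c, hcC⟩ (hR (Subgroup.mem_zpowers _)))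
  have h2 : t * ((h : G) * (g * c * g⁻¹) * (h : G)⁻¹) * t⁻¹ ∈ (P : Subgroup G) := hmem _ hgR
  have e2 : t * ((h : G) * (g * c * g⁻¹) * (h : G)⁻¹) * t⁻¹ = (t * h * g) * c * (t * h * g)⁻¹ := by group
  rw [e2] at h2
  have h3 := hone _ h2
  rw [← e2] at h3
  refine ⟨(h : G) * g, ?_, ?_⟩
  · calc (h : G) * g * c * ((h : G) * g)⁻¹
        = t⁻¹ * (t * ((h : G) * (g * c * g⁻¹) * (h : G)⁻¹) * t⁻¹) * t := by group
      _ = t⁻¹ * (t * c * t⁻¹) * t := by rw [h3, h1]
      _ = c := by group
  · have hh' := Subgroup.mem_centralizer_singleton_iff.mp h.2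
    calc (h : G) * g * x * ((h : G) * g)⁻¹ = (h : G) * y * (h : G)⁻¹ := by rw [hy']; group
      _ = y := by rw [hh', mul_inv_cancel_right]

/-- Burnside for single central elements. -/
theorem central_fused (P : Sylow 2 G)
    (hinner : ∀ n ∈ Subgroup.normalizer ((P : Subgroup G) : Set G),
      ∃ s ∈ (P : Subgroup G), ∀ x ∈ (P : Subgroup G), n * x * n⁻¹ = s * x * s⁻¹)
    {x g : G} (hx : x ∈ (P : Subgroup G)) (hxc : ∀ u ∈ (P : Subgroup G), u * x * u⁻¹ = x)
    (hyc : ∀ u ∈ (P : Subgroup G), u * (g * x * g⁻¹) * u⁻¹ = g * x * g⁻¹) : g * x * g⁻¹ = x := by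
  obtain ⟨n, hn, hnX⟩ := CfsgLib.Transfer.exists_normalizer_conj_of_normal_subsets P (X := {x})
    (Y := {g * x * g⁻¹}) (fun u hu a ha => by rw [ha]; exact hxc u hu)
    (fun u hu a ha => by rw [ha]; exact hyc u hu) (g := g) (Set.image_singleton ..)
  rw [Set.image_singleton, Set.singleton_eq_singleton_iff] at hnX
  obtain ⟨s, hs, hns⟩ := hinner n hn
  rw [← hnX, hns x hx, hxc s hs]

theorem card_image_fibres {α β : Type*} [DecidableEq β] (f : α → β) (s : Finset α) (k : ℕ)
    (h : ∀ a ∈ s, k ≤ (s.filter fun b => f b = f a).card) : k * (s.image f).card ≤ s.card := by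
  rw [Finset.card_eq_sum_card_image f s, mul_comm, ← smul_eq_mul, ← Finset.sum_const]
  refine Finset.sum_le_sum fun b hb => ?_
  obtain ⟨a, ha, rfl⟩ := Finset.mem_image.mp hb
  exact h a ha

set_option linter.unusedSectionVars false in
theorem main_bound (P : Sylow 2 G) (hno : ¬ Cfsg.HasNormalPComplement 2 G) :
    2 * (Set.range fun x : (P : Subgroup G) => ConjClasses.mk (x : G)).ncard ≤ Nat.card (P : Subgroup G) := by
  haveI : Fact (Nat.Prime 2) := ⟨Nat.prime_two⟩
  haveI := Fintype.ofFinite (P : Subgroup G)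
  set m : ↥(P : Subgroup G) → ConjClasses G := fun x => ConjClasses.mk (x : G) with hm
  have hr : (Set.range m).ncard = (Finset.univ.image m).card := by
    rw [← Set.ncard_coe_finset, Finset.coe_image, Finset.coe_univ, Set.image_univ]
  have hP2 : IsPGroup 2 (P : Subgroup G) := P.isPGroup'
  rcases Nat.lt_or_ge (Nat.card (commutator (P : Subgroup G))) 4 with hsmall | h4
  swap
  · refine le_trans (Nat.mul_le_mul_left 2 ?_) (two_mul_classes_le _ _ rfl hP2 h4)
    rw [← Nat.card_coe_set_eq]
    refine Nat.card_le_card_of_surjective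
      (fun C : ConjClasses (P : Subgroup G) => (⟨m C.out, ⟨_, rfl⟩⟩ : Set.range m)) ?_
    rintro ⟨_, x, rfl⟩
    refine ⟨ConjClasses.mk x, Subtype.ext (ConjClasses.mk_eq_mk_iff_isConj.mpr ?_)⟩
    have h : IsConj (Quotient.out (ConjClasses.mk x)) x :=
      ConjClasses.mk_eq_mk_iff_isConj.mp (Quotient.out_eq (ConjClasses.mk x))
    exact (P : Subgroup G).subtype.map_isConj h
  rw [hr]
  have hcard : Nat.card (P : Subgroup G) = (Finset.univ : Finset (P : Subgroup G)).card := by
    rw [Nat.card_eq_fintype_card, Finset.card_univ]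
  by_cases hfix : ∀ g ∈ Subgroup.normalizer ((P : Subgroup G) : Set G), (orderOf g).Coprime 2 →
      ∀ x ∈ (P : Subgroup G), g * x * g⁻¹ = x
  swap
  · push Not at hfix
    obtain ⟨g, hg, hgo, x₀, hx₀, hgx₀⟩ := hfix
    let a : ↥(P : Subgroup G) → ↥(P : Subgroup G) := fun x => ⟨g * x * g⁻¹, (Subgroup.mem_normalizer_iff.mp hg x).mp x.2⟩
    let C : Subgroup (P : Subgroup G) := (Subgroup.centralizer {g}).subgroupOf (P : Subgroup G)
    have hC : ∀ x : (P : Subgroup G), x ∈ C ↔ a x = x := fun x => by
      simp only [C, a, Subgroup.mem_subgroupOf, Subgroup.mem_centralizer_singleton_iff, Subtype.ext_iff,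
        mul_inv_eq_iff_eq_mul]
      exact eq_comm
    have hC4 : 4 * Nat.card C ≤ Nat.card (P : Subgroup G) := by
      rw [← Subgroup.index_mul_card C]
      refine Nat.mul_le_mul_right _ ?_
      obtain ⟨j, hj⟩ := hP2.index C
      rcases j with _ | _ | j
      · exact absurd (congrArg Subtype.val ((hC ⟨x₀, hx₀⟩).mp
          ((Subgroup.index_eq_one.mp (by simpa using hj) : C = ⊤) ▸ Subgroup.mem_top _))) hgx₀
      · rw [pow_one] at hj
        have hx0C : (⟨x₀, hx₀⟩ : (P : Subgroup G)) ∉ C := fun h => hgx₀ (congrArg Subtype.val ((hC _).mp h))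
        have hyC : a ⟨x₀, hx₀⟩ ∉ C := fun h => hx0C (by
          rw [hC] at h ⊢
          exact Subtype.ext (mul_left_cancel (mul_right_cancel (congrArg Subtype.val h))))
        have hc : a ⟨x₀, hx₀⟩ * (⟨x₀, hx₀⟩ : (P : Subgroup G))⁻¹ ∈ C := by
          rw [Subgroup.mul_mem_iff_of_index_two hj, inv_mem_iff]; exact iff_of_false hyC hx0C
        set c := g * x₀ * g⁻¹ * x₀⁻¹ with hcdef
        have hgc : g * c = c * g := (Subgroup.mem_centralizer_singleton_iff.mp (hc : c ∈ Subgroup.centralizer {g})).symm
        have hiter : ∀ n : ℕ, g ^ n * x₀ * (g ^ n)⁻¹ = c ^ n * x₀ := by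
          intro n
          induction n with
          | zero => simp
          | succ n ihn =>
            have hcn : Commute g (c ^ n) := (show Commute g c from hgc).pow_right n
            calc g ^ (n + 1) * x₀ * (g ^ (n + 1))⁻¹ = g * (g ^ n * x₀ * (g ^ n)⁻¹) * g⁻¹ := by group
              _ = g * c ^ n * x₀ * g⁻¹ := by rw [ihn]; group
              _ = c ^ n * (g * x₀ * g⁻¹) := by rw [hcn.eq]; group
              _ = c ^ (n + 1) * x₀ := by rw [pow_succ, hcdef]; group
        have h1 := hiter (orderOf g)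
        rw [pow_orderOf_eq_one, one_mul, inv_one, mul_one, eq_comm, mul_eq_right, ← orderOf_dvd_iff_pow_eq_one] at h1
        obtain ⟨i, hi⟩ := IsPGroup.iff_orderOf.mp hP2 ⟨c, mul_mem ((Subgroup.mem_normalizer_iff.mp hg x₀).mp hx₀) (inv_mem hx₀)⟩
        rw [Subgroup.orderOf_mk] at hi
        have hc1 : c = 1 := orderOf_eq_one_iff.mp
          (Nat.eq_one_of_dvd_coprimes (hgo.pow_right i) h1 hi.dvd)
        exact absurd (mul_inv_eq_one.mp hc1) hgx₀
      · exact (show 4 = 2 ^ 2 by norm_num).trans_le ((Nat.pow_le_pow_right two_pos (by omega)).trans hj.ge)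
    have hsplit := Finset.card_filter_add_card_filter_not (s := (Finset.univ : Finset (P : Subgroup G))) (fun x => x ∈ C)
    have himg : (Finset.univ.image m).card ≤ ((Finset.univ.filter fun x => x ∈ C).image m).card +
        ((Finset.univ.filter fun x => x ∉ C).image m).card := by
      refine le_trans (Finset.card_le_card ?_) (Finset.card_union_le _ _)
      rw [← Finset.image_union, Finset.filter_union_filter_not_eq]
    have h3 : 3 * ((Finset.univ.filter fun x => x ∉ C).image m).card ≤ (Finset.univ.filter fun x => x ∉ C).card := by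
      refine card_image_fibres m _ 3 fun x hx => ?_
      have hxC := (Finset.mem_filter.mp hx).2
      have hma : ∀ y, m (a y) = m y := fun y =>
        (ConjClasses.mk_eq_mk_iff_isConj.mpr (isConj_iff.mpr ⟨g, rfl⟩)).symm
      have hainj : Function.Injective a := fun u v h =>
        Subtype.ext (mul_left_cancel (mul_right_cancel (congrArg Subtype.val h)))
      have haC : ∀ y, y ∉ C → a y ∉ C := fun y hy h => hy ((hC y).mpr (hainj ((hC _).mp h)))
      have hne2 : a (a x) ≠ x := fun h => hxC (Subgroup.mem_subgroupOf.mpr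
        (Subgroup.mem_centralizer_singleton_iff.mpr (by
          have h' : g * (g * x * g⁻¹) * g⁻¹ = x := congrArg Subtype.val h
          have h2 : Commute (g ^ 2) (x : G) := by
            show g ^ 2 * x = x * g ^ 2
            calc g ^ 2 * x = g * (g * x * g⁻¹) * g⁻¹ * g ^ 2 := by rw [pow_two]; group
              _ = x * g ^ 2 := by rw [h']
          obtain ⟨e, he⟩ : ∃ e, g = (g ^ 2) ^ e := by
            obtain ⟨e, he⟩ := Nat.exists_eq_add_of_le (show 1 ≤ orderOf g from orderOf_pos g)
            obtain ⟨d, hd⟩ : Odd (orderOf g) := (Nat.coprime_two_right.mp hgo)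
            exact ⟨d + 1, by rw [← pow_mul, show 2 * (d + 1) = orderOf g + 1 by omega, pow_succ, pow_orderOf_eq_one, one_mul]⟩
          rw [he]
          exact (h2.pow_left e).eq.symm)))
      have hsub : ({x, a x, a (a x)} : Finset (P : Subgroup G)) ⊆
          (Finset.univ.filter fun y => y ∉ C).filter (fun y => m y = m x) := by
        intro y hy
        simp only [Finset.mem_insert, Finset.mem_singleton] at hy
        simp only [Finset.mem_filter, Finset.mem_univ, true_and]
        rcases hy with rfl | rfl | rfl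
        · exact ⟨hxC, rfl⟩
        · exact ⟨haC _ hxC, hma _⟩
        · exact ⟨haC _ (haC _ hxC), (hma _).trans (hma _)⟩
      refine le_trans ?_ (Finset.card_le_card hsub)
      have hne1 : a x ≠ x := fun h => hxC ((hC x).mpr h)
      rw [Finset.card_insert_of_notMem, Finset.card_insert_of_notMem, Finset.card_singleton]
      · exact fun h => hne1 (hainj (Finset.mem_singleton.mp h)).symm
      · simp only [Finset.mem_insert, Finset.mem_singleton, not_or]
        exact ⟨Ne.symm hne1, Ne.symm hne2⟩
    have hCc : (Finset.univ.filter fun x => x ∈ C).card = Nat.card C := by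
      rw [Nat.card_eq_fintype_card, Fintype.card_subtype]
    have h5 := Finset.card_image_le (s := Finset.univ.filter fun x => x ∈ C) (f := m)
    omega
  -- now the normaliser induces inner automorphisms only
  have hinner := fun (n : G) (hn : n ∈ Subgroup.normalizer ((P : Subgroup G) : Set G)) => two_mem_of_normalizer P hn hfix
  have hfusion : ¬ ∀ x ∈ (P : Subgroup G), ∀ y ∈ (P : Subgroup G), (∃ g : G, g * x * g⁻¹ = y) →
      ∃ h ∈ (P : Subgroup G), h * x * h⁻¹ = y := fun h =>
    hno ((CfsgLib.Transfer.exists_complement_iff P).mp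
      ((Cfsg.Agent.S0079.result (P : Subgroup G) (IsPGroup.isNilpotent hP2)
        (by
          obtain ⟨k, hk⟩ := IsPGroup.iff_card.mp hP2
          rw [hk]
          exact Nat.Coprime.pow_left k ((Nat.Prime.coprime_iff_not_dvd Nat.prime_two).mpr (Sylow.not_dvd_index P)))).mpr h))
  have hcmem : ∀ u v : (P : Subgroup G), ⁅u, v⁆ ∈ commutator (P : Subgroup G) := fun u v =>
    Subgroup.commutator_mem_commutator (Subgroup.mem_top u) (Subgroup.mem_top v)
  have hder : Nat.card (commutator (P : Subgroup G)) = 2 := by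
    obtain ⟨k, hk⟩ := IsPGroup.iff_card.mp (hP2.to_subgroup (commutator (P : Subgroup G)))
    rcases k with _ | _ | k
    · exfalso
      rw [pow_zero, Subgroup.card_eq_one] at hk
      refine hfusion fun x hx y hy ⟨g, hg⟩ => ⟨1, one_mem _, ?_⟩
      have hab : ∀ u ∈ (P : Subgroup G), ∀ w ∈ (P : Subgroup G), u * w * u⁻¹ = w := by
        intro u hu w hw
        have := hcmem ⟨u, hu⟩ ⟨w, hw⟩
        rw [hk, Subgroup.mem_bot, commutatorElement_eq_one_iff_commute] at this
        rw [mul_inv_eq_iff_eq_mul]
        exact congrArg Subtype.val this.eq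
      rw [one_mul, inv_one, mul_one, ← hg]
      exact (central_fused P hinner hx (fun u hu => hab u hu x hx) (fun u hu => hab u hu _ (hg ▸ hy))).symm
    · exact hk
    · exfalso
      have : 2 ^ 2 ≤ 2 ^ (k + 1 + 1) := Nat.pow_le_pow_right two_pos (by omega)
      omega
  obtain ⟨z, hz⟩ := exists_prime_orderOf_dvd_card' (G := ↥(commutator (P : Subgroup G))) 2 (by rw [hder])
  rw [← Subgroup.orderOf_coe] at hz
  have hz2 : ∀ w ∈ commutator (P : Subgroup G), w = 1 ∨ w = (z : (P : Subgroup G)) := by
    intro w hw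
    by_contra hcon
    push Not at hcon
    have h : ({1, (z : (P : Subgroup G)), w} : Finset (P : Subgroup G)) ⊆
        Finset.univ.filter (fun u => u ∈ commutator (P : Subgroup G)) := by
      intro u hu
      simp only [Finset.mem_insert, Finset.mem_singleton] at hu
      rcases hu with rfl | rfl | rfl <;> simp [hw, z.2]
    have h' := Finset.card_le_card h
    rw [← Fintype.card_subtype, ← Nat.card_eq_fintype_card] at h'
    change _ ≤ Nat.card (commutator (P : Subgroup G)) at h'
    have hz1 : (1 : (P : Subgroup G)) ≠ z := fun he => by rw [← he, orderOf_one] at hz; omega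
    rw [hder, Finset.card_insert_of_notMem (by simp [hz1, Ne.symm hcon.1]),
      Finset.card_pair (Ne.symm hcon.2)] at h'
    omega
  have hzc : ∀ u : (P : Subgroup G), u * z * u⁻¹ = z := fun u => by
    rcases hz2 _ (Subgroup.Normal.conj_mem inferInstance _ z.2 u) with h | h
    · exact absurd ((mul_inv_eq_iff_eq_mul.trans (by rw [one_mul, mul_eq_left])).mp h)
        (fun he => by rw [he, orderOf_one] at hz; omega)
    · exact h
  have hzZ : (z : (P : Subgroup G)) ∈ Subgroup.center (P : Subgroup G) :=
    Subgroup.mem_center_iff.mpr fun u => mul_inv_eq_iff_eq_mul.mp (hzc u)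
  set Zf := Finset.univ.filter fun x : (P : Subgroup G) => x ∈ Subgroup.center (P : Subgroup G) with hZf
  have hzP : ((z : (P : Subgroup G)) : G) ∈ (P : Subgroup G) := z.1.2
  let One : ↥(P : Subgroup G) → Prop := fun c => ∀ g : G, g * c * g⁻¹ ∈ (P : Subgroup G) → g * c * g⁻¹ = (c : G)
  have hznot : ¬ One (z : (P : Subgroup G)) := by
    intro hone
    refine hfusion fun x hx y hy ⟨g, hg⟩ => ?_
    subst hg
    obtain ⟨k, hkz, hkx⟩ := fix_single P hzP hone hx hy
    rw [← hkx] at hy ⊢
    have hX : ∀ w ∈ (P : Subgroup G), ∀ u ∈ (P : Subgroup G), ∀ b ∈ ({w, w * (z : (P : Subgroup G))} : Set G),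
        u * b * u⁻¹ ∈ ({w, w * (z : (P : Subgroup G))} : Set G) := by
      intro w hw u hu b hb
      have hsw : u * w * u⁻¹ = w ∨ u * w * u⁻¹ = w * (z : (P : Subgroup G)) := by
        rcases hz2 _ (hcmem (⟨w, hw⟩ : (P : Subgroup G))⁻¹ ⟨u, hu⟩) with h | h
        · left
          have h' : w⁻¹ * u * w⁻¹⁻¹ * u⁻¹ = 1 := congrArg Subtype.val h
          rw [inv_inv] at h'
          calc u * w * u⁻¹ = w * (w⁻¹ * u * w * u⁻¹) := by group
            _ = w := by rw [h', mul_one]
        · right
          have h' : w⁻¹ * u * w⁻¹⁻¹ * u⁻¹ = ((z : (P : Subgroup G)) : G) := congrArg Subtype.val h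
          rw [inv_inv] at h'
          rw [← h']; group
      have huz : u * (z : (P : Subgroup G)) * u⁻¹ = ((z : (P : Subgroup G)) : G) := congrArg Subtype.val (hzc ⟨u, hu⟩)
      rcases hb with rfl | rfl
      · rcases hsw with h | h <;> simp [h]
      · rw [show u * (w * ((z : (P : Subgroup G)) : G)) * u⁻¹ = (u * w * u⁻¹) * (u * (z : (P : Subgroup G)) * u⁻¹) by group, huz]
        rcases hsw with h | h
        · simp [h]
        · left
          rw [h, mul_assoc]
          have : ((z : (P : Subgroup G)) : G) * (z : (P : Subgroup G)) = 1 := by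
            have h2 := congrArg Subtype.val (pow_orderOf_eq_one (z : (P : Subgroup G)))
            rw [hz] at h2
            simpa [pow_two] using h2
          rw [this, mul_one]
    obtain ⟨n, hn, hnX⟩ := CfsgLib.Transfer.exists_normalizer_conj_of_normal_subsets P
      (X := {x, x * (z : (P : Subgroup G))}) (Y := {k * x * k⁻¹, k * x * k⁻¹ * (z : (P : Subgroup G))})
      (hX x hx) (hX _ hy) (g := k) (by
        rw [Set.image_pair]
        congr 2
        calc k * (x * ((z : (P : Subgroup G)) : G)) * k⁻¹ = k * x * k⁻¹ * (k * (z : (P : Subgroup G)) * k⁻¹) := by group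
          _ = _ := by rw [hkz])
    obtain ⟨s, hs, hns⟩ := hinner n hn
    have hmem : k * x * k⁻¹ ∈ (fun a => n * a * n⁻¹) '' ({x, x * (z : (P : Subgroup G))} : Set G) :=
      hnX ▸ Set.mem_insert _ _
    rw [Set.image_pair, hns x hx, hns _ (mul_mem hx hzP)] at hmem
    rcases hmem with h | h
    · exact ⟨s, hs, h.symm⟩
    · by_cases hxc : ∀ u ∈ (P : Subgroup G), u * x * u⁻¹ = x
      · refine ⟨1, one_mem _, ?_⟩
        rw [one_mul, inv_one, mul_one]
        refine (central_fused P hinner hx hxc fun u hu => ?_).symm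
        have hzs : ∀ v ∈ (P : Subgroup G), v * ((z : (P : Subgroup G)) : G) * v⁻¹ = ((z : (P : Subgroup G)) : G) :=
          fun v hv => congrArg Subtype.val (hzc ⟨v, hv⟩)
        rw [Set.mem_singleton_iff.mp h,
          show s * (x * ((z : (P : Subgroup G)) : G)) * s⁻¹ = (s * x * s⁻¹) * (s * (z : (P : Subgroup G)) * s⁻¹) by group,
          hxc s hs, hzs s hs,
          show u * (x * ((z : (P : Subgroup G)) : G)) * u⁻¹ = (u * x * u⁻¹) * (u * (z : (P : Subgroup G)) * u⁻¹) by group,
          hxc u hu, hzs u hu]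
      · push Not at hxc
        obtain ⟨u, hu, hux⟩ := hxc
        refine ⟨s * u, mul_mem hs hu, ?_⟩
        have h2 := hX x hx u hu x (Set.mem_insert _ _)
        rcases h2 with h2 | h2
        · exact absurd h2 hux
        · rw [Set.mem_singleton_iff.mp h, ← Set.mem_singleton_iff.mp h2]; group
  set S := Zf.filter fun c => One c
  have h2S : 2 * S.card ≤ Zf.card := by
    have hdisj : Disjoint S (S.image fun c => c * (z : (P : Subgroup G))) := by
      refine Finset.disjoint_left.mpr fun c hc hc' => ?_
      obtain ⟨d, hd, rfl⟩ := Finset.mem_image.mp hc'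
      have h1 : One d := (Finset.mem_filter.mp hd).2
      have h2 : One (d * (z : (P : Subgroup G))) := (Finset.mem_filter.mp hc).2
      refine hznot fun g hg => ?_
      obtain ⟨k, hkd, hkz⟩ := fix_single P d.2 h1 hzP hg
      have he : k * ((d * (z : (P : Subgroup G)) : (P : Subgroup G)) : G) * k⁻¹ =
          (d : G) * (g * (z : (P : Subgroup G)) * g⁻¹) := by
        rw [← hkz, Subgroup.coe_mul]
        conv_rhs => rw [← hkd]
        group
      have h3 := h2 k (he ▸ mul_mem d.2 hg)
      rw [he, Subgroup.coe_mul] at h3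
      exact mul_left_cancel h3
    have h := Finset.card_le_card (Finset.union_subset (show S ⊆ Zf from fun c hc => (Finset.mem_filter.mp hc).1) (show (S.image fun c => c * (z : (P : Subgroup G))) ⊆ Zf from
      fun c hc => by
        obtain ⟨d, hd, rfl⟩ := Finset.mem_image.mp hc
        exact Finset.mem_filter.mpr ⟨Finset.mem_univ _,
          mul_mem (Finset.mem_filter.mp (Finset.mem_filter.mp hd).1).2 hzZ⟩))
    rw [Finset.card_union_of_disjoint hdisj, Finset.card_image_of_injective _ (mul_left_injective _)] at h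
    omega
  set W := Finset.univ.filter fun x : (P : Subgroup G) => x ∉ Subgroup.center (P : Subgroup G)
  have hcover : Finset.univ.image m ⊆ W.image m ∪ S.image m := by
    intro C hC
    obtain ⟨x, -, rfl⟩ := Finset.mem_image.mp hC
    by_cases hxZ : x ∈ Subgroup.center (P : Subgroup G)
    swap
    · exact Finset.mem_union_left _ (Finset.mem_image_of_mem m (Finset.mem_filter.mpr ⟨Finset.mem_univ _, hxZ⟩))
    by_cases hone : One x
    · exact Finset.mem_union_right _ (Finset.mem_image_of_mem m (Finset.mem_filter.mpr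
        ⟨Finset.mem_filter.mpr ⟨Finset.mem_univ _, hxZ⟩, hone⟩))
    simp only [One, not_forall] at hone
    obtain ⟨g, hg, hne⟩ := hone
    refine Finset.mem_union_left _ (Finset.mem_image.mpr ⟨⟨g * x * g⁻¹, hg⟩, Finset.mem_filter.mpr
      ⟨Finset.mem_univ _, fun hyc => hne ?_⟩, (ConjClasses.mk_eq_mk_iff_isConj.mpr (isConj_iff.mpr ⟨g, rfl⟩)).symm⟩)
    refine central_fused P hinner x.2 (fun u hu => ?_) (fun u hu => ?_)
    · rw [mul_inv_eq_iff_eq_mul]
      exact congrArg Subtype.val (Subgroup.mem_center_iff.mp hxZ ⟨u, hu⟩)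
    · rw [mul_inv_eq_iff_eq_mul]
      exact congrArg Subtype.val (Subgroup.mem_center_iff.mp hyc ⟨u, hu⟩)
  have hW : 2 * (W.image m).card ≤ W.card := by
    refine card_image_fibres m W 2 fun x hx => ?_
    have hxc := (Finset.mem_filter.mp hx).2
    rw [Subgroup.mem_center_iff, not_forall] at hxc
    obtain ⟨u, hu⟩ := hxc
    have hne : u * x * u⁻¹ ≠ x := fun h => hu (mul_inv_eq_iff_eq_mul.mp h)
    have hsub : ({x, u * x * u⁻¹} : Finset (P : Subgroup G)) ⊆ W.filter (fun y => m y = m x) := by
      intro y hy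
      simp only [Finset.mem_insert, Finset.mem_singleton] at hy
      rcases hy with rfl | rfl
      · exact Finset.mem_filter.mpr ⟨hx, rfl⟩
      · refine Finset.mem_filter.mpr ⟨Finset.mem_filter.mpr ⟨Finset.mem_univ _, fun h => ?_⟩,
          (ConjClasses.mk_eq_mk_iff_isConj.mpr (isConj_iff.mpr ⟨(u : G), by simp⟩)).symm⟩
        refine (Finset.mem_filter.mp hx).2 ?_
        have := Subgroup.Normal.conj_mem inferInstance _ h u⁻¹
        simpa [mul_assoc] using this
    exact (Finset.card_pair (Ne.symm hne)).ge.trans (Finset.card_le_card hsub)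
  have hsplit := Finset.card_filter_add_card_filter_not (s := (Finset.univ : Finset (P : Subgroup G)))
    (fun x => x ∈ Subgroup.center (P : Subgroup G))
  have h6 := (Finset.card_le_card hcover).trans (Finset.card_union_le _ _)
  have h7 := Finset.card_image_le (s := S) (f := m)
  change Zf.card + W.card = _ at hsplit
  omega

end fusion

/-- Let G be a finite group with Sylow 2-subgroup P, and write k₂(G) for the number of conjugacy classes of G consisting of 2-elements (elements of 2-power order, the identity included). Then k₂(G) > |P|/2 if and only if G has a normal 2-complement and P has more than |P|/2 conjugacy classes. -/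
theorem result {G : Type*} [Group G] [Finite G] (P : Sylow 2 G) :
    Nat.card ↥(P : Subgroup G) < 2 * Nat.card {c : ConjClasses G // ∀ x ∈ c.carrier, ∃ k : ℕ, orderOf x = 2 ^ k} ↔
      Cfsg.HasNormalPComplement 2 G ∧ Nat.card ↥(P : Subgroup G) < 2 * Nat.card (ConjClasses ↥(P : Subgroup G)) := by
  classical
  haveI : Fact (Nat.Prime 2) := ⟨Nat.prime_two⟩
  set m : ↥(P : Subgroup G) → ConjClasses G := fun x => ConjClasses.mk (x : G) with hm
  have hk : Nat.card {c : ConjClasses G // ∀ x ∈ c.carrier, ∃ k : ℕ, orderOf x = 2 ^ k} = (Set.range m).ncard := by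
    rw [← Nat.card_coe_set_eq]
    refine Nat.card_congr (Equiv.subtypeEquivRight fun c => ?_)
    constructor
    · intro h
      obtain ⟨x, rfl⟩ := ConjClasses.mk_surjective c
      obtain ⟨k, hk⟩ := h x ConjClasses.mem_carrier_mk
      have hp : IsPGroup 2 (Subgroup.zpowers x) := IsPGroup.of_card (n := k) (by rw [Nat.card_zpowers, hk])
      obtain ⟨R, hR⟩ := hp.exists_le_sylow
      obtain ⟨g, hg⟩ := MulAction.exists_smul_eq G R P
      refine ⟨⟨g * x * g⁻¹, ?_⟩, ?_⟩
      · rw [← hg]; exact ⟨x, hR (Subgroup.mem_zpowers x), rfl⟩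
      · exact ConjClasses.mk_eq_mk_iff_isConj.mpr (isConj_iff.mpr ⟨g, rfl⟩).symm
    · rintro ⟨y, rfl⟩ x hx
      obtain ⟨g, rfl⟩ := isConj_iff.mp
        (ConjClasses.mk_eq_mk_iff_isConj.mp (ConjClasses.mem_carrier_iff_mk_eq.mp hx).symm)
      obtain ⟨k, hk⟩ := IsPGroup.iff_orderOf.mp P.isPGroup' y
      exact ⟨k, by rw [← hk, ← Subgroup.orderOf_coe]; exact (MulEquiv.orderOf_eq (MulAut.conj g) (y : G))⟩
  rw [hk]
  have hbij : Cfsg.HasNormalPComplement 2 G → (Set.range m).ncard = Nat.card (ConjClasses (P : Subgroup G)) := by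
    intro hc
    have hf := (Cfsg.Agent.S0079.result (P : Subgroup G) (IsPGroup.isNilpotent P.isPGroup') (by
      obtain ⟨k, hk⟩ := IsPGroup.iff_card.mp P.isPGroup'
      rw [hk]
      exact Nat.Coprime.pow_left k ((Nat.Prime.coprime_iff_not_dvd Nat.prime_two).mpr (Sylow.not_dvd_index P)))).mp
      ((CfsgLib.Transfer.exists_complement_iff P).mpr hc)
    rw [← Nat.card_coe_set_eq]
    refine (Nat.card_congr (Equiv.ofBijective (fun C : ConjClasses (P : Subgroup G) =>
      (⟨m C.out, ⟨_, rfl⟩⟩ : Set.range m)) ⟨?_, ?_⟩)).symm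
    · intro C D h
      obtain ⟨g, hg⟩ := isConj_iff.mp (ConjClasses.mk_eq_mk_iff_isConj.mp (congrArg Subtype.val h))
      obtain ⟨u, hu, hux⟩ := hf _ C.out.2 _ D.out.2 ⟨g, hg⟩
      have hC : ConjClasses.mk C.out = C := Quotient.out_eq C
      have hD : ConjClasses.mk D.out = D := Quotient.out_eq D
      rw [← hC, ← hD, ConjClasses.mk_eq_mk_iff_isConj]
      exact isConj_iff.mpr ⟨⟨u, hu⟩, Subtype.ext hux⟩
    · rintro ⟨_, x, rfl⟩
      refine ⟨ConjClasses.mk x, Subtype.ext (ConjClasses.mk_eq_mk_iff_isConj.mpr ?_)⟩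
      have h : IsConj (Quotient.out (ConjClasses.mk x)) x :=
        ConjClasses.mk_eq_mk_iff_isConj.mp (Quotient.out_eq (ConjClasses.mk x))
      exact (P : Subgroup G).subtype.map_isConj h
  constructor
  · intro h
    have hc : Cfsg.HasNormalPComplement 2 G := by
      by_contra hno
      have h' : 2 * (Set.range m).ncard ≤ Nat.card (P : Subgroup G) := main_bound P hno
      omega
    exact ⟨hc, hbij hc ▸ h⟩
  · rintro ⟨hc, h⟩
    rwa [hbij hc]

end Cfsg.Agent.S3895
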