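import Cfsg.Statements.S3897
import Cfsg.Agent.Lib.ClassCount.ManyPiClasses

set_option autoImplicit false
open Cfsg

namespace Cfsg.Agent.S3897

open CfsgLib.ManyPiClasses

/-- Let p be an odd prime and G a finite group with Sylow p-subgroup P, and write k_p(G) for the number of conjugacy classes of G consisting of p-elements (elements of p-power order, the identity included). Then k_p(G) > (p + 1)|P|/(2p) if and only if G has a normal p-complement and P is abelian. -/
theorem result {G : Type*} [Group G] [Finite G] {p : ℕ} [Fact p.Prime] (hp : p ≠ 2) (P : Sylow p G) :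
    (p + 1) * Nat.card ↥(P : Subgroup G) < 2 * p * Nat.card {c : ConjClasses G // ∀ x ∈ c.carrier, ∃ k : ℕ, orderOf x = p ^ k} ↔
      Cfsg.HasNormalPComplement p G ∧ IsMulCommutative ↥(P : Subgroup G) := by
  constructor
  · intro hk
    obtain ⟨hab, N, hN, hc⟩ := of_many_classes P hk
    exact ⟨⟨P, N, hN, hc⟩, hab⟩
  · rintro ⟨⟨P', N, hN, hc⟩, hab⟩
    have hcard : Nat.card N * Nat.card (P : Subgroup G) = Nat.card G := by
      rw [← hc.card_mul, Nat.card_congr (Sylow.equiv P P').toEquiv]
    have hpN : ¬ p ∣ Nat.card N := by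
      have h := P.not_dvd_index
      rwa [show (P : Subgroup G).index = Nat.card N by
        refine Nat.eq_of_mul_eq_mul_right (Nat.card_pos (α := (P : Subgroup G))) ?_
        rw [hcard, Subgroup.index_mul_card]] at h
    have hcop : (Nat.card N).Coprime (Nat.card (P : Subgroup G)) := by
      obtain ⟨k, hk⟩ := IsPGroup.iff_card.mp P.isPGroup'
      rw [hk]
      exact (((Fact.out : p.Prime).coprime_iff_not_dvd.mpr hpN).symm).pow_right k
    have hc' : N.IsComplement' (P : Subgroup G) :=
      Subgroup.isComplement'_of_coprime hcard hcop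
    have hle := card_le_classes P hN hc'.disjoint.eq_bot hc'.sup_eq_top
    have hp1 : 1 < p := (Fact.out : p.Prime).one_lt
    have hpos := Nat.card_pos (α := (P : Subgroup G))
    exact lt_of_lt_of_le (Nat.mul_lt_mul_of_pos_right (by omega) hpos) (Nat.mul_le_mul_left (2 * p) hle)

end Cfsg.Agent.S3897
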