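import Cfsg.Statements.S3898
import Mathlib
import Cfsg.Agent.Lib.Transfer.PResidual
import Cfsg.Agent.Lib.Orders.OrderConjugate
import Cfsg.Agent.Lib.PGroups.Basic
import Cfsg.Agent.S3895

set_option autoImplicit false
open Cfsg

namespace Cfsg.Agent.S3898

set_option linter.style.haveILetI false
open scoped Classical

universe v

/-- Number of classes of elements whose order only involves primes in `τ`. -/
noncomputable def kPi (τ : Finset ℕ) (G : Type v) [Group G] : ℕ :=
  Nat.card {c : ConjClasses G // ∀ x ∈ c.carrier, ∀ r : ℕ, r.Prime → r ∣ orderOf x → r ∈ τ}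

theorem class_prop {G : Type v} [Group G] {τ : Finset ℕ} {x : G}
    (h : ∀ r : ℕ, r.Prime → r ∣ orderOf x → r ∈ τ) :
    ∀ y ∈ (ConjClasses.mk x).carrier, ∀ r : ℕ, r.Prime → r ∣ orderOf y → r ∈ τ := by
  intro y hy
  obtain ⟨g, rfl⟩ := isConj_iff.mp
    (ConjClasses.mk_eq_mk_iff_isConj.mp (ConjClasses.mem_carrier_iff_mk_eq.mp hy).symm)
  intro r hr hrd
  exact h r hr (by rwa [show orderOf (g * x * g⁻¹) = orderOf x from MulEquiv.orderOf_eq (MulAut.conj g) x] at hrd)

theorem split {G : Type v} [Group G] [Finite G] (p : ℕ) (hp : p.Prime) (x : G) :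
    ∃ a b : G, x = a * b ∧ Commute a b ∧ (∀ r, r.Prime → r ∣ orderOf a → r = p ∧ r ∣ orderOf x) ∧
      ∀ r, r.Prime → r ∣ orderOf b → r ≠ p ∧ r ∣ orderOf x := by
  set v := (orderOf x).factorization p
  set m := orderOf x / p ^ v with hm
  have hn : p ^ v * m = orderOf x := Nat.ordProj_mul_ordCompl_eq_self _ p
  have hmc : Nat.Coprime m (p ^ v) := (Nat.coprime_ordCompl hp (orderOf_pos x).ne').symm.pow_right v
  obtain ⟨u, w, huw⟩ := (Nat.isCoprime_iff_coprime.mpr hmc : IsCoprime (m : ℤ) ((p ^ v : ℕ) : ℤ))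
  have hd1 : ∀ (c : ℤ) (d e : ℕ), e * d = orderOf x → orderOf (x ^ (c * (d : ℤ))) ∣ e := by
    intro c d e he
    refine orderOf_dvd_of_pow_eq_one ?_
    rw [← zpow_natCast, ← zpow_mul, show c * (d : ℤ) * (e : ℤ) = ((orderOf x : ℕ) : ℤ) * c by
      rw [← he]; push_cast; ring, zpow_mul, zpow_natCast, pow_orderOf_eq_one, one_zpow]
  refine ⟨x ^ (u * (m : ℤ)), x ^ (w * ((p ^ v : ℕ) : ℤ)), by rw [← zpow_add, huw, zpow_one],
    (Commute.refl x).zpow_zpow _ _, fun r hr hrd => ?_, fun r hr hrd => ?_⟩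
  · have h1 := hrd.trans (hd1 u m (p ^ v) hn)
    exact ⟨(Nat.prime_dvd_prime_iff_eq hr hp).mp (hr.dvd_of_dvd_pow h1), h1.trans (hn ▸ dvd_mul_right _ _)⟩
  · have h1 := hrd.trans (hd1 w (p ^ v) m (by rw [mul_comm]; exact hn))
    refine ⟨fun he => ?_, h1.trans (hn ▸ dvd_mul_left _ _)⟩
    subst he
    exact (Nat.coprime_ordCompl hp (orderOf_pos x).ne').eq_one_of_dvd h1 |> hr.ne_one

theorem kPi_le_mul {G : Type v} [Group G] [Finite G] (π σ τ : Finset ℕ) (B : ℕ)
    (hdec : ∀ x : G, (∀ r : ℕ, r.Prime → r ∣ orderOf x → r ∈ π) → ∃ a b : G, x = a * b ∧ Commute a b ∧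
      (∀ r : ℕ, r.Prime → r ∣ orderOf a → r ∈ σ) ∧ ∀ r : ℕ, r.Prime → r ∣ orderOf b → r ∈ τ)
    (hB : ∀ a : G, kPi τ ↥(Subgroup.centralizer ({a} : Set G)) ≤ B) : kPi π G ≤ kPi σ G * B := by
  set S := {c : ConjClasses G // ∀ x ∈ c.carrier, ∀ r : ℕ, r.Prime → r ∣ orderOf x → r ∈ σ}
  haveI := Fintype.ofFinite S
  let T : S → Type v := fun c => {d : ConjClasses ↥(Subgroup.centralizer ({c.1.out} : Set G)) //
    ∀ x ∈ d.carrier, ∀ r : ℕ, r.Prime → r ∣ orderOf x → r ∈ τ}
  let f : (Σ c : S, T c) → ConjClasses G := fun w => ConjClasses.mk (w.1.1.out * (w.2.1.out : G))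
  have hsub : ∀ D : {c : ConjClasses G // ∀ x ∈ c.carrier, ∀ r : ℕ, r.Prime → r ∣ orderOf x → r ∈ π},
      ∃ w, f w = D.1 := by
    rintro ⟨C, hC⟩
    obtain ⟨x, rfl⟩ := ConjClasses.mk_surjective C
    obtain ⟨a, b, rfl, hab, ha, hb⟩ := hdec x (hC x ConjClasses.mem_carrier_mk)
    let c : S := ⟨ConjClasses.mk a, class_prop ha⟩
    have hconj : IsConj a c.1.out :=
      (ConjClasses.mk_eq_mk_iff_isConj.mp (Quotient.out_eq c.1).symm : IsConj a (Quotient.out c.1))
    obtain ⟨g, hg⟩ := isConj_iff.mp hconj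
    have hbm : g * b * g⁻¹ ∈ Subgroup.centralizer ({c.1.out} : Set G) := by
      rw [Subgroup.mem_centralizer_singleton_iff, ← hg]
      calc g * b * g⁻¹ * (g * a * g⁻¹) = g * (b * a) * g⁻¹ := by group
        _ = g * (a * b) * g⁻¹ := by rw [hab.eq]
        _ = g * a * g⁻¹ * (g * b * g⁻¹) := by group
    have hb' : ∀ r : ℕ, r.Prime → r ∣ orderOf (⟨_, hbm⟩ : Subgroup.centralizer ({c.1.out} : Set G)) → r ∈ τ := by
      intro r hr hrd
      rw [Subgroup.orderOf_mk, show orderOf (g * b * g⁻¹) = orderOf b from MulEquiv.orderOf_eq (MulAut.conj g) b] at hrd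
      exact hb r hr hrd
    refine ⟨⟨c, ⟨ConjClasses.mk ⟨_, hbm⟩, class_prop hb'⟩⟩, ?_⟩
    set d : ConjClasses ↥(Subgroup.centralizer ({c.1.out} : Set G)) := ConjClasses.mk ⟨_, hbm⟩ with hd
    have hdc : IsConj d.out ⟨_, hbm⟩ := ConjClasses.mk_eq_mk_iff_isConj.mp (Quotient.out_eq d)
    obtain ⟨k, hk⟩ := isConj_iff.mp hdc
    show ConjClasses.mk (c.1.out * (d.out : G)) = ConjClasses.mk (a * b)
    rw [ConjClasses.mk_eq_mk_iff_isConj]
    refine isConj_iff.mpr ⟨g⁻¹ * k, ?_⟩
    have hk' : (k : G) * d.out * (k : G)⁻¹ = g * b * g⁻¹ := congrArg Subtype.val hk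
    have hkc : (k : G) * c.1.out = c.1.out * k := (Subgroup.mem_centralizer_singleton_iff.mp k.2)
    calc g⁻¹ * k * (c.1.out * (d.out : G)) * (g⁻¹ * k)⁻¹
        = g⁻¹ * ((k : G) * c.1.out) * (d.out : G) * (k : G)⁻¹ * g := by group
      _ = g⁻¹ * c.1.out * ((k : G) * d.out * (k : G)⁻¹) * g := by rw [hkc]; group
      _ = g⁻¹ * (g * a * g⁻¹) * (g * b * g⁻¹) * g := by rw [hk', hg]
      _ = a * b := by group
  choose w hw using hsub
  have hwinj : Function.Injective w := fun D E h => Subtype.ext (by rw [← hw D, ← hw E, h])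
  refine (Nat.card_le_card_of_injective w hwinj).trans ?_
  rw [Nat.card_sigma]
  refine (Finset.sum_le_sum fun c _ => hB c.1.out).trans ?_
  rw [Finset.sum_const, Finset.card_univ, smul_eq_mul, ← Nat.card_eq_fintype_card]
  exact le_rfl

theorem kPi_single_le {G : Type v} [Group G] [Finite G] (p : ℕ) [Fact p.Prime] (P : Sylow p G) :
    kPi {p} G ≤ (Set.range fun x : (P : Subgroup G) => ConjClasses.mk (x : G)).ncard := by
  rw [← Nat.card_coe_set_eq]
  have hsub : ∀ D : {c : ConjClasses G // ∀ x ∈ c.carrier, ∀ r : ℕ, r.Prime → r ∣ orderOf x → r ∈ ({p} : Finset ℕ)},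
      D.1 ∈ Set.range fun x : (P : Subgroup G) => ConjClasses.mk (x : G) := by
    rintro ⟨c, hc⟩
    obtain ⟨x, rfl⟩ := ConjClasses.mk_surjective c
    have hx := hc x ConjClasses.mem_carrier_mk
    have hp : IsPGroup p (Subgroup.zpowers x) := by
      refine IsPGroup.of_card (n := (orderOf x).factorization p) ?_
      rw [Nat.card_zpowers]
      refine Nat.eq_pow_of_factorization_eq_single (orderOf_pos x).ne' ?_
      ext s
      by_cases hsp : s = p
      · subst hsp; simp
      rw [Finsupp.single_eq_of_ne hsp]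
      by_contra hne
      exact hsp (Finset.mem_singleton.mp (hx s
        (Nat.prime_of_mem_primeFactors (Nat.support_factorization _ ▸ Finsupp.mem_support_iff.mpr hne))
        (Nat.dvd_of_factorization_pos hne)))
    obtain ⟨R, hR⟩ := hp.exists_le_sylow
    obtain ⟨g, hg⟩ := MulAction.exists_smul_eq G R P
    refine ⟨⟨g * x * g⁻¹, ?_⟩, ?_⟩
    · rw [← hg]; exact ⟨x, hR (Subgroup.mem_zpowers x), rfl⟩
    · exact (ConjClasses.mk_eq_mk_iff_isConj.mpr (isConj_iff.mpr ⟨g, rfl⟩)).symm
  exact Nat.card_le_card_of_injective (fun D => (⟨D.1, hsub D⟩ : Set.range fun x : (P : Subgroup G) => ConjClasses.mk (x : G)))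
    fun D E h => Subtype.ext (congrArg Subtype.val h :)

theorem range_le_card {G : Type v} [Group G] [Finite G] (P : Subgroup G) :
    (Set.range fun x : P => ConjClasses.mk (x : G)).ncard ≤ Nat.card P := by
  rw [← Nat.card_coe_set_eq]
  exact Nat.card_le_card_of_surjective _ Set.rangeFactorization_surjective

theorem kPi_le (τ : Finset ℕ) : (∀ r ∈ τ, r.Prime) → ∀ (G : Type v) [Group G] [Finite G] (n : ℕ), n ≠ 0 →
    Nat.card G ∣ n → kPi τ G ≤ τ.prod fun r => r ^ n.factorization r := by
  induction τ using Finset.induction_on with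
  | empty =>
    intro _ G _ _ n _ _
    rw [Finset.prod_empty]
    refine Finite.card_le_one_iff_subsingleton.mpr ⟨fun C D => Subtype.ext ?_⟩
    obtain ⟨C, hC⟩ := C
    obtain ⟨D, hD⟩ := D
    obtain ⟨x, rfl⟩ := ConjClasses.mk_surjective C
    obtain ⟨y, rfl⟩ := ConjClasses.mk_surjective D
    have hone : ∀ z : G, (∀ r : ℕ, r.Prime → r ∣ orderOf z → r ∈ (∅ : Finset ℕ)) → z = 1 := fun z hz => by
      by_contra hne
      obtain ⟨r, hr, hrd⟩ := Nat.exists_prime_and_dvd (fun h => hne (orderOf_eq_one_iff.mp h))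
      exact Finset.notMem_empty r (hz r hr hrd)
    show ConjClasses.mk x = ConjClasses.mk y
    rw [hone x (hC x ConjClasses.mem_carrier_mk), hone y (hD y ConjClasses.mem_carrier_mk)]
  | insert p τ hpτ ih =>
    intro hprime G _ _ n hn hdvd
    haveI := Fact.mk (hprime p (Finset.mem_insert_self p τ))
    rw [Finset.prod_insert hpτ]
    refine (kPi_le_mul (insert p τ) {p} τ _ (fun x hx => ?_) (fun a => ih (fun r hr => hprime r (Finset.mem_insert_of_mem hr)) _ n hn
      ((Subgroup.card_subgroup_dvd_card _).trans hdvd))).trans (Nat.mul_le_mul_right _ ?_)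
    · obtain ⟨a, b, he, hab, ha, hb⟩ := split p Fact.out x
      exact ⟨a, b, he, hab, fun r hr hrd => Finset.mem_singleton.mpr (ha r hr hrd).1,
        fun r hr hrd => (Finset.mem_insert.mp (hx r hr (hb r hr hrd).2)).resolve_left (hb r hr hrd).1⟩
    · obtain ⟨P⟩ : Nonempty (Sylow p G) := inferInstance
      refine (kPi_single_le p P).trans ((range_le_card _).trans ?_)
      rw [Sylow.card_eq_multiplicity]
      exact Nat.pow_le_pow_right (Fact.out : p.Prime).pos
        ((Nat.factorization_le_iff_dvd Nat.card_pos.ne' hn).mpr hdvd p)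

/-- Odd order: many classes of `p`-elements force an abelian Sylow subgroup and a normal complement. -/
theorem odd_step {N : Type v} [Group N] [Finite N] (hN : Odd (Nat.card N)) (p : ℕ) [hp : Fact p.Prime]
    (P : Sylow p N) (hk : Nat.card (P : Subgroup N) < 2 * (Set.range fun x : (P : Subgroup N) => ConjClasses.mk (x : N)).ncard) :
    IsMulCommutative (P : Subgroup N) ∧ Cfsg.HasNormalPComplement p N := by
  haveI := Fintype.ofFinite (P : Subgroup N)
  set m : ↥(P : Subgroup N) → ConjClasses N := fun x => ConjClasses.mk (x : N) with hm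
  have hr : (Set.range m).ncard = (Finset.univ.image m).card := by
    rw [← Set.ncard_coe_finset, Finset.coe_image, Finset.coe_univ, Set.image_univ]
  rw [hr] at hk
  have hP : IsPGroup p (P : Subgroup N) := P.isPGroup'
  have hcardP : Nat.card (P : Subgroup N) = (Finset.univ : Finset (P : Subgroup N)).card := by
    rw [Nat.card_eq_fintype_card, Finset.card_univ]
  by_cases hP1 : Nat.card (P : Subgroup N) = 1
  · haveI : Subsingleton (P : Subgroup N) := Finite.card_le_one_iff_subsingleton.mp hP1.le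
    refine ⟨⟨⟨fun a b => Subsingleton.elim _ _⟩⟩, P, ⊤, inferInstance, ?_⟩
    rw [Subgroup.card_eq_one.mp hP1]
    exact Subgroup.isComplement'_top_bot
  have hpP : p ∣ Nat.card (P : Subgroup N) := hP.card_eq_or_dvd.resolve_left hP1
  have hp3 : 3 ≤ p := by
    have h2 := hp.out.two_le
    have hodd : Odd p := hN.of_dvd_nat (hpP.trans (Subgroup.card_subgroup_dvd_card _))
    rcases eq_or_lt_of_le h2 with h | h
    · subst h; exact absurd hodd (by decide)
    · omega
  have key : ∀ (C : Subgroup (P : Subgroup N)) (r : ℕ),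
      (∀ x, x ∉ C → r ≤ ((Finset.univ.filter fun y => y ∉ C).filter fun y => m y = m x).card) →
      r * (Finset.univ.image m).card ≤ r * Nat.card C + (Nat.card (P : Subgroup N) - Nat.card C) := by
    intro C r hfib
    have hCc : (Finset.univ.filter fun x => x ∈ C).card = Nat.card C := by
      rw [Nat.card_eq_fintype_card, Fintype.card_subtype]
    have hsplit := Finset.card_filter_add_card_filter_not (s := (Finset.univ : Finset (P : Subgroup N))) (fun x => x ∈ C)
    have himg : (Finset.univ.image m).card ≤ ((Finset.univ.filter fun x => x ∈ C).image m).card +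
        ((Finset.univ.filter fun x => x ∉ C).image m).card := by
      refine le_trans (Finset.card_le_card ?_) (Finset.card_union_le _ _)
      rw [← Finset.image_union, Finset.filter_union_filter_not_eq]
    have h1 := Cfsg.Agent.S3895.card_image_fibres m (Finset.univ.filter fun x => x ∉ C) r
      fun x hx => hfib x (Finset.mem_filter.mp hx).2
    have h2 := Nat.mul_le_mul_left r (Finset.card_image_le (s := Finset.univ.filter fun x => x ∈ C) (f := m))
    have h3 := Nat.mul_le_mul_left r himg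
    rw [Nat.mul_add] at h3
    rw [hCc] at h2 hsplit
    omega
  have hab : IsMulCommutative (P : Subgroup N) := by
    by_contra hna
    set Z := Subgroup.center (P : Subgroup N)
    have hZ : 9 * Nat.card Z ≤ Nat.card (P : Subgroup N) := by
      rw [← Subgroup.index_mul_card Z]
      refine Nat.mul_le_mul_right _ ?_
      obtain ⟨j, hj⟩ := hP.index Z
      rcases j with _ | _ | j
      · have htop : Subgroup.center (P : Subgroup N) = ⊤ := Subgroup.index_eq_one.mp (by simpa using hj)
        exact absurd (show IsMulCommutative (P : Subgroup N) from ⟨⟨fun a b =>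
          Subgroup.mem_center_iff.mp (htop ▸ Subgroup.mem_top b) a⟩⟩) hna
      · haveI : IsCyclic ((P : Subgroup N) ⧸ Z) := isCyclic_of_prime_card (p := p) (by simpa [Subgroup.index] using hj)
        exact absurd (CfsgLib.PGroups.isMulCommutative_of_cyclic_quotient (N := Z) le_rfl) hna
      · exact ((show 9 = 3 ^ 2 by norm_num).trans_le (Nat.pow_le_pow_left hp3 2)).trans
          ((Nat.pow_le_pow_right hp.out.pos (by omega)).trans hj.ge)
    have h := key Z 3 fun x hx => by
      have hsub : (Finset.univ.filter fun y => ConjClasses.mk y = ConjClasses.mk x) ⊆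
          (Finset.univ.filter fun y => y ∉ Z).filter fun y => m y = m x := by
        intro y hy
        have hy' : ConjClasses.mk y = ConjClasses.mk x := (Finset.mem_filter.mp hy).2
        refine Finset.mem_filter.mpr ⟨Finset.mem_filter.mpr ⟨Finset.mem_univ _, fun hyZ => hx ?_⟩, ?_⟩
        · obtain ⟨u, rfl⟩ := isConj_iff.mp (ConjClasses.mk_eq_mk_iff_isConj.mp hy')
          exact Subgroup.Normal.conj_mem inferInstance _ hyZ u
        · exact ConjClasses.mk_eq_mk_iff_isConj.mpr
            ((P : Subgroup N).subtype.map_isConj (ConjClasses.mk_eq_mk_iff_isConj.mp hy'))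
      refine le_trans ?_ ((Finset.card_le_card hsub).trans_eq (by congr 1; ext y; simp))
      have hcard : (Finset.univ.filter fun y => ConjClasses.mk y = ConjClasses.mk x).card =
          (Subgroup.centralizer ({x} : Set (P : Subgroup N))).index := by
        rw [← CfsgLib.Orders.card_carrier_eq_index, ConjClasses.carrier_eq_preimage_mk, Nat.card_eq_fintype_card,
          Fintype.card_ofFinset]
        exact congrArg Finset.card (by ext a; simp)
      rw [hcard]
      obtain ⟨j, hj⟩ := hP.index (Subgroup.centralizer ({x} : Set (P : Subgroup N)))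
      rw [hj]
      refine hp3.trans (Nat.le_self_pow (fun h0 => hx ?_) p)
      rw [h0, pow_zero, Subgroup.index_eq_one] at hj
      exact Subgroup.mem_center_iff.mpr fun u => Subgroup.mem_centralizer_singleton_iff.mp (hj ▸ Subgroup.mem_top u)
    omega
  refine ⟨hab, ?_⟩
  by_cases hcen : Subgroup.normalizer ((P : Subgroup N) : Set N) ≤ Subgroup.centralizer ((P : Subgroup N) : Set N)
  · exact ⟨P, _, inferInstance, MonoidHom.ker_transferSylow_isComplement' P hcen⟩
  exfalso
  -- the p-part centralises P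
  obtain ⟨g, hg, hgo, x₀, hx₀, hgx₀⟩ : ∃ g ∈ Subgroup.normalizer ((P : Subgroup N) : Set N),
      (orderOf g).Coprime p ∧ ∃ x₀ ∈ (P : Subgroup N), g * x₀ * g⁻¹ ≠ x₀ := by
    by_contra hcon
    push Not at hcon
    have hK : Subgroup.normalizer ((P : Subgroup N) : Set N) ≤ Subgroup.centralizer ((P : Subgroup N) : Set N) := by
      intro n hn
      obtain ⟨k, l, hl, hkl⟩ := Nat.exists_eq_pow_mul_and_not_dvd (orderOf_pos n).ne' p hp.out.ne_one
      have hlc : Nat.Coprime l (p ^ k) := (Nat.Coprime.pow_left k (hp.out.coprime_iff_not_dvd.mpr hl)).symm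
      obtain ⟨u, w, huw⟩ := (Nat.isCoprime_iff_coprime.mpr hlc : IsCoprime (l : ℤ) ((p ^ k : ℕ) : ℤ))
      have hd1 : ∀ (c : ℤ) (d e : ℕ), e * d = orderOf n → orderOf (n ^ (c * (d : ℤ))) ∣ e := by
        intro c d e he
        refine orderOf_dvd_of_pow_eq_one ?_
        rw [← zpow_natCast, ← zpow_mul, show c * (d : ℤ) * (e : ℤ) = ((orderOf n : ℕ) : ℤ) * c by
          rw [← he]; push_cast; ring, zpow_mul, zpow_natCast, pow_orderOf_eq_one, one_zpow]
      rw [show n = n ^ (u * (l : ℤ)) * n ^ (w * ((p ^ k : ℕ) : ℤ)) by rw [← zpow_add, huw, zpow_one]]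
      refine mul_mem ?_ (Subgroup.mem_centralizer_iff.mpr fun x hx =>
        (mul_inv_eq_iff_eq_mul.mp (hcon _ (zpow_mem hn _) (Nat.Coprime.coprime_dvd_left
          (hd1 w (p ^ k) l (by rw [mul_comm]; exact hkl.symm)) ((hp.out.coprime_iff_not_dvd.mpr hl).symm)) x hx)).symm)
      have hq : IsPGroup p (Subgroup.zpowers (n ^ (u * (l : ℤ)))) := by
        obtain ⟨j, -, hj⟩ := (Nat.dvd_prime_pow hp.out).mp (hd1 u l (p ^ k) hkl.symm)
        exact IsPGroup.of_card (n := j) (by rw [Nat.card_zpowers, hj])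
      have h2 := hq.to_sup_of_normal_right' hP (Subgroup.zpowers_le.mpr (zpow_mem hn _))
      have hmem : n ^ (u * (l : ℤ)) ∈ (P : Subgroup N) := by
        rw [← P.is_maximal' h2 le_sup_right]
        exact Subgroup.mem_sup_left (Subgroup.mem_zpowers _)
      exact Subgroup.mem_centralizer_iff.mpr fun x hx =>
        congrArg Subtype.val (hab.is_comm.comm ⟨x, hx⟩ ⟨_, hmem⟩)
    exact hcen hK
  let a : ↥(P : Subgroup N) → ↥(P : Subgroup N) := fun x =>
    ⟨g * x * g⁻¹, (Subgroup.mem_normalizer_iff.mp hg x).mp x.2⟩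
  let C : Subgroup (P : Subgroup N) := (Subgroup.centralizer {g}).subgroupOf (P : Subgroup N)
  have hC : ∀ x : (P : Subgroup N), x ∈ C ↔ a x = x := fun x => by
    simp only [C, a, Subgroup.mem_subgroupOf, Subgroup.mem_centralizer_singleton_iff, Subtype.ext_iff,
      mul_inv_eq_iff_eq_mul]
    exact eq_comm
  have hCp : p * Nat.card C ≤ Nat.card (P : Subgroup N) := by
    rw [← Subgroup.index_mul_card C]
    refine Nat.mul_le_mul_right _ ?_
    obtain ⟨j, hj⟩ := hP.index C
    rw [hj]
    refine Nat.le_self_pow (fun h0 => hgx₀ ?_) p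
    rw [h0, pow_zero, Subgroup.index_eq_one] at hj
    exact congrArg Subtype.val ((hC ⟨x₀, hx₀⟩).mp (hj ▸ Subgroup.mem_top _))
  have hiter : ∀ (i : ℕ) (x : (P : Subgroup N)), ((a^[i] x : (P : Subgroup N)) : N) = g ^ i * x * (g ^ i)⁻¹ := by
    intro i
    induction i with
    | zero => intro x; simp
    | succ i ih =>
      intro x
      rw [Function.iterate_succ_apply']
      show g * ((a^[i] x : (P : Subgroup N)) : N) * g⁻¹ = _
      rw [ih x]; group
  have hper : ∀ x, x ∉ C → ∃ r, r ∣ orderOf g ∧ 1 < r ∧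
      r ≤ ((Finset.univ.filter fun y => y ∉ C).filter fun y => m y = m x).card := by
    intro x hx
    have hperiodic : Function.IsPeriodicPt a (orderOf g) x := Subtype.ext (by
      rw [hiter, pow_orderOf_eq_one, one_mul, inv_one, mul_one])
    refine ⟨Function.minimalPeriod a x, hperiodic.minimalPeriod_dvd, ?_, ?_⟩
    · have h0 := hperiodic.minimalPeriod_pos (orderOf_pos g)
      have h1 : Function.minimalPeriod a x ≠ 1 := fun h =>
        hx ((hC x).mpr (Function.minimalPeriod_eq_one_iff_isFixedPt.mp h))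
      omega
    · have hmem : ∀ i, a^[i] x ∈ (Finset.univ.filter fun y => y ∉ C).filter (fun y => m y = m x) := by
        intro i
        refine Finset.mem_filter.mpr ⟨Finset.mem_filter.mpr ⟨Finset.mem_univ _, fun h => hx ?_⟩,
          ConjClasses.mk_eq_mk_iff_isConj.mpr (isConj_iff.mpr ⟨g ^ i, (hiter i x).symm⟩).symm⟩
        rw [hC] at h ⊢
        have hainj : Function.Injective a := fun u v h =>
          Subtype.ext (mul_left_cancel (mul_right_cancel (congrArg Subtype.val h)))
        refine (hainj.iterate i) ?_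
        rw [← Function.iterate_succ_apply, Function.iterate_succ_apply']
        exact h
      calc Function.minimalPeriod a x = ((Finset.range (Function.minimalPeriod a x)).image fun i => a^[i] x).card := by
            rw [Finset.card_image_of_injOn, Finset.card_range]
            intro i hi j hj hij
            exact Function.iterate_injOn_Iio_minimalPeriod
              (Set.mem_Iio.mpr (Finset.mem_range.mp hi)) (Set.mem_Iio.mpr (Finset.mem_range.mp hj)) hij
        _ ≤ _ := Finset.card_le_card fun y hy => by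
            obtain ⟨i, -, rfl⟩ := Finset.mem_image.mp hy
            exact hmem i
  have hgodd : Odd (orderOf g) := hN.of_dvd_nat (orderOf_dvd_natCard g)
  by_cases hp5 : 5 ≤ p
  · have h := key C 3 fun x hx => by
      obtain ⟨r, hrd, hr1, hr⟩ := hper x hx
      obtain ⟨d, rfl⟩ := hgodd.of_dvd_nat hrd
      omega
    have : 5 * Nat.card C ≤ Nat.card (P : Subgroup N) := le_trans (Nat.mul_le_mul_right _ hp5) hCp
    omega
  · have hp_eq : p = 3 := by
      rcases (show p = 3 ∨ p = 4 by omega) with h | h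
      · exact h
      · exact absurd hp.out (by rw [h]; norm_num)
    have h := key C 5 fun x hx => by
      obtain ⟨r, hrd, hr1, hr⟩ := hper x hx
      obtain ⟨d, rfl⟩ := hgodd.of_dvd_nat hrd
      rcases Nat.lt_or_ge 1 d with hd | hd
      · omega
      · exfalso
        have hd1 : d = 1 := by omega
        subst hd1
        have := hgo.coprime_dvd_left hrd
        rw [hp_eq] at this
        exact absurd this (by decide)
    have h9 : 3 * Nat.card C ≤ Nat.card (P : Subgroup N) := le_trans (Nat.mul_le_mul_right _ hp_eq.ge) hCp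
    omega

/-- Let π be a finite set of primes containing 2 and G a finite group. Write k_π(G) for the number of conjugacy classes of G consisting of π-elements (elements all of whose order's prime divisors lie in π) and |G|_π for the π-part of the order of G. If k_π(G) > |G|_π/2, then G has a normal π-complement (a normal subgroup of order prime to π whose index is a π-number) and an abelian Hall subgroup for the set of odd primes in π. -/
theorem result {G : Type*} [Group G] [Finite G] (π : Finset ℕ) (hπ : ∀ r ∈ π, r.Prime) (h2 : 2 ∈ π)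
    (hk : π.prod (fun r => r ^ (Nat.card G).factorization r) < 2 * Nat.card {c : ConjClasses G // ∀ x ∈ c.carrier, ∀ r : ℕ, r.Prime → r ∣ orderOf x → r ∈ π}) :
    (∃ N : Subgroup G, N.Normal ∧ (∀ r : ℕ, r.Prime → r ∣ Nat.card ↥N → r ∉ π) ∧ ∀ r : ℕ, r.Prime → r ∣ N.index → r ∈ π) ∧ ∃ H : Subgroup G, Cfsg.IsPiHall ((↑π : Set ℕ) \ {2}) H ∧ IsMulCommutative ↥H := by
  classical
  haveI : Fact (Nat.Prime 2) := ⟨Nat.prime_two⟩
  set σ := π.erase 2 with hσ
  have hσp : ∀ r ∈ σ, r.Prime := fun r hr => hπ r (Finset.mem_of_mem_erase hr)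
  have hn0 : Nat.card G ≠ 0 := Nat.card_pos.ne'
  set M := σ.prod fun r => r ^ (Nat.card G).factorization r with hM
  obtain ⟨P2⟩ : Nonempty (Sylow 2 G) := inferInstance
  have hprod : π.prod (fun r => r ^ (Nat.card G).factorization r) = Nat.card (P2 : Subgroup G) * M := by
    rw [hM, hσ, ← Finset.mul_prod_erase _ _ h2, Sylow.card_eq_multiplicity]
  rw [hprod] at hk
  change _ < 2 * kPi π G at hk
  have h2σ : ∀ x : G, (∀ r : ℕ, r.Prime → r ∣ orderOf x → r ∈ π) →
      ∀ b : G, (∀ r, r.Prime → r ∣ orderOf b → r ≠ 2 ∧ r ∣ orderOf x) → ∀ r : ℕ, r.Prime → r ∣ orderOf b → r ∈ σ :=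
    fun x hx b hb r hr hrd => Finset.mem_erase.mpr ⟨(hb r hr hrd).1, hx r hr (hb r hr hrd).2⟩
  -- 2 first
  have hcomp : Cfsg.HasNormalPComplement 2 G := by
    by_contra hno
    have h1 : kPi π G ≤ kPi {2} G * M := by
      refine kPi_le_mul π {2} σ M (fun x hx => ?_) (fun a => kPi_le σ hσp _ _ hn0 (Subgroup.card_subgroup_dvd_card _))
      obtain ⟨a, b, he, hab, ha, hb⟩ := split 2 Nat.prime_two x
      exact ⟨a, b, he, hab, fun r hr hrd => Finset.mem_singleton.mpr (ha r hr hrd).1, h2σ x hx b hb⟩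
    have h4 := Cfsg.Agent.S3895.main_bound P2 hno
    have h5 := Nat.mul_le_mul_left 2 (kPi_single_le 2 P2)
    have h6 : 2 * (kPi {2} G * M) ≤ Nat.card (P2 : Subgroup G) * M := by
      rw [← mul_assoc]; exact Nat.mul_le_mul_right _ (h5.trans h4)
    omega
  set N := Cfsg.pResidual 2 G with hNdef
  have hNcop : (Nat.card N).Coprime 2 := CfsgLib.Transfer.hasNormalPComplement_iff_coprime.mp hcomp
  have hNodd : Odd (Nat.card N) := Nat.coprime_two_right.mp hNcop
  obtain ⟨e, he⟩ : ∃ e, N.index = 2 ^ e := by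
    obtain ⟨e, he⟩ := IsPGroup.iff_card.mp (CfsgLib.Transfer.isPGroup_quotient_pResidual (p := 2) (G := G))
    exact ⟨e, by rw [Subgroup.index_eq_card, he]⟩
  have hfac : ∀ r ∈ σ, (Nat.card G).factorization r = (Nat.card N).factorization r := by
    intro r hr
    rw [← N.index_mul_card, he, Nat.factorization_mul (by positivity) Nat.card_pos.ne',
      Nat.Prime.factorization_pow Nat.prime_two, Finsupp.add_apply,
      Finsupp.single_eq_of_ne (Finset.ne_of_mem_erase hr), zero_add]
  have hMN : M = σ.prod fun r => r ^ (Nat.card N).factorization r := by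
    rw [hM]; exact Finset.prod_congr rfl fun r hr => by rw [hfac r hr]
  -- odd primes first
  have hkN : M < 2 * kPi σ N := by
    have h1 : kPi π G ≤ kPi σ G * Nat.card (P2 : Subgroup G) := by
      refine kPi_le_mul π σ {2} _ (fun x hx => ?_) (fun a => ?_)
      · obtain ⟨a, b, he, hab, ha, hb⟩ := split 2 Nat.prime_two x
        exact ⟨b, a, he.trans hab.eq, hab.symm, h2σ x hx b hb,
          fun r hr hrd => Finset.mem_singleton.mpr (ha r hr hrd).1⟩
      · refine (kPi_le {2} (fun r hr => by rw [Finset.mem_singleton.mp hr]; exact Nat.prime_two) _ _ hn0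
          (Subgroup.card_subgroup_dvd_card _)).trans ?_
        rw [Finset.prod_singleton, Sylow.card_eq_multiplicity]
    have h2' : kPi σ G ≤ kPi σ N := by
      have hin : ∀ x : G, (∀ r : ℕ, r.Prime → r ∣ orderOf x → r ∈ σ) → x ∈ N := fun x hx =>
        CfsgLib.Transfer.mem_pResidual_of_coprime (Nat.Coprime.symm ((Nat.prime_two.coprime_iff_not_dvd).mpr
          fun hd => Finset.ne_of_mem_erase (hx 2 Nat.prime_two hd) rfl))
      refine Nat.card_le_card_of_injective (fun D => ⟨ConjClasses.mk (⟨D.1.out, hin _ (D.2 _ (by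
        rw [ConjClasses.mem_carrier_iff_mk_eq]; exact Quotient.out_eq D.1))⟩ : N), class_prop (fun r hr hrd => D.2 _ (by
        rw [ConjClasses.mem_carrier_iff_mk_eq]; exact Quotient.out_eq D.1) r hr (by rwa [Subgroup.orderOf_mk] at hrd))⟩) ?_
      intro D E h
      have h' : IsConj (⟨D.1.out, _⟩ : N) ⟨E.1.out, _⟩ := ConjClasses.mk_eq_mk_iff_isConj.mp (congrArg Subtype.val h)
      have h'' : ConjClasses.mk D.1.out = ConjClasses.mk E.1.out :=
        ConjClasses.mk_eq_mk_iff_isConj.mpr (N.subtype.map_isConj h')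
      have e1 : ConjClasses.mk D.1.out = D.1 := Quotient.out_eq D.1
      have e2 : ConjClasses.mk E.1.out = E.1 := Quotient.out_eq E.1
      exact Subtype.ext (e1.symm.trans (h''.trans e2))
    have h3 : Nat.card (P2 : Subgroup G) * M < Nat.card (P2 : Subgroup G) * (2 * kPi σ N) :=
      calc Nat.card (P2 : Subgroup G) * M < 2 * kPi π G := hk
        _ ≤ 2 * (kPi σ N * Nat.card (P2 : Subgroup G)) :=
          Nat.mul_le_mul_left 2 (h1.trans (Nat.mul_le_mul_right _ h2'))
        _ = Nat.card (P2 : Subgroup G) * (2 * kPi σ N) := by ring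
    exact Nat.lt_of_mul_lt_mul_left h3
  have hstep : ∀ p ∈ σ, ∀ [Fact p.Prime], ∃ P : Sylow p N,
      IsMulCommutative (P : Subgroup N) ∧ Cfsg.HasNormalPComplement p N := by
    intro p hp _
    obtain ⟨P⟩ : Nonempty (Sylow p N) := inferInstance
    refine ⟨P, odd_step hNodd p P ?_⟩
    have h1 : kPi σ N ≤ kPi {p} N * (σ.erase p).prod fun r => r ^ (Nat.card N).factorization r := by
      refine kPi_le_mul σ {p} (σ.erase p) _ (fun x hx => ?_) (fun a => kPi_le (σ.erase p) (fun r hr => hσp r (Finset.mem_of_mem_erase hr))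
        _ _ Nat.card_pos.ne' (Subgroup.card_subgroup_dvd_card _))
      obtain ⟨a, b, he, hab, ha, hb⟩ := split p Fact.out x
      exact ⟨a, b, he, hab, fun r hr hrd => Finset.mem_singleton.mpr (ha r hr hrd).1,
        fun r hr hrd => Finset.mem_erase.mpr ⟨(hb r hr hrd).1, hx r hr (hb r hr hrd).2⟩⟩
    rw [hMN, ← Finset.mul_prod_erase _ _ hp, ← Sylow.card_eq_multiplicity P] at hkN
    refine Nat.lt_of_mul_lt_mul_right (lt_of_lt_of_le hkN ?_)
    rw [mul_assoc]
    exact Nat.mul_le_mul_left 2 (h1.trans (Nat.mul_le_mul_right _ (kPi_single_le p P)))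
  let K : Subgroup N := σ.inf fun p => Cfsg.pResidual p N
  have hKmem : ∀ x : N, x ∈ K ↔ ∀ p ∈ σ, (orderOf x).Coprime p := by
    intro x
    have hinf : x ∈ K ↔ ∀ p ∈ σ, x ∈ Cfsg.pResidual p N :=
      ⟨fun h p hp => (Finset.inf_le hp : K ≤ Cfsg.pResidual p N) h,
        fun h => Subgroup.zpowers_le.mp (Finset.le_inf fun p hp => Subgroup.zpowers_le.mpr (h p hp))⟩
    rw [hinf]
    refine forall₂_congr fun p hp => ?_
    haveI := Fact.mk (hσp p hp)
    obtain ⟨P, -, hc⟩ := hstep p hp
    exact CfsgLib.Transfer.mem_pResidual_iff_coprime hc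
  haveI hKn : K.Normal := ⟨fun x hx g => (hKmem _).mpr fun p hp => by
    rw [show orderOf (g * x * g⁻¹) = orderOf x from MulEquiv.orderOf_eq (MulAut.conj g) x]
    exact (hKmem x).mp hx p hp⟩
  have hKcard : ∀ r : ℕ, r.Prime → r ∣ Nat.card K → r ∉ σ := by
    intro r hr hrd hrσ
    haveI := Fact.mk hr
    obtain ⟨x, hx⟩ := exists_prime_orderOf_dvd_card' (G := K) r hrd
    have := (hKmem x).mp x.2 r hrσ
    rw [Subgroup.orderOf_coe, hx, Nat.coprime_self] at this
    exact hr.ne_one this
  have hcomm : commutator N ≤ K := by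
    refine Finset.le_inf fun p hp => ?_
    haveI := Fact.mk (hσp p hp)
    obtain ⟨P, hab, -⟩ := hstep p hp
    refine (Subgroup.Normal.quotient_commutative_iff_commutator_le).mp ?_
    have hsurj : Function.Surjective ((QuotientGroup.mk' (Cfsg.pResidual p N)).comp (P : Subgroup N).subtype) := by
      intro y
      obtain ⟨y, rfl⟩ := QuotientGroup.mk'_surjective _ y
      obtain ⟨s, hs, k, hk', rfl⟩ := CfsgLib.Transfer.exists_mul_mem_pResidual P y
      exact ⟨⟨s, hs⟩, by simp [(QuotientGroup.eq_one_iff k).mpr hk']⟩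
    exact ⟨⟨fun u v => by
      obtain ⟨u, rfl⟩ := hsurj u
      obtain ⟨v, rfl⟩ := hsurj v
      rw [← map_mul, ← map_mul, hab.is_comm.comm]⟩⟩
  have hKidx : ∀ r : ℕ, r.Prime → r ∣ K.index → r ∈ σ := by
    intro r hr hrd
    by_contra hrσ
    haveI := Fact.mk hr
    obtain ⟨y, hy⟩ := exists_prime_orderOf_dvd_card' (G := N ⧸ K) r (by rwa [← Subgroup.index_eq_card])
    obtain ⟨y, rfl⟩ := QuotientGroup.mk_surjective y
    obtain ⟨a, b, hab, -, ha, hb⟩ := split r hr y
    have haK : a ∈ K := (hKmem a).mpr fun p hp => by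
      rw [Nat.coprime_comm, (hσp p hp).coprime_iff_not_dvd]
      intro hd
      have : p = r := (ha p (hσp p hp) hd).1
      exact hrσ (this ▸ hp)
    have h1 : orderOf (y : N ⧸ K) ∣ orderOf b := by
      rw [hab, QuotientGroup.mk_mul, (QuotientGroup.eq_one_iff a).mpr haK, one_mul]
      exact orderOf_map_dvd (QuotientGroup.mk' K) b
    exact (hb r hr (hy ▸ h1)).1 rfl
  set KG := K.map N.subtype
  haveI hNn : N.Normal := inferInstance
  refine ⟨⟨KG, ⟨?_⟩, fun r hr hrd => ?_, fun r hr hrd => ?_⟩, ?_⟩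
  · rintro _ ⟨x, hx, rfl⟩ g
    refine ⟨⟨g * x * g⁻¹, hNn.conj_mem _ x.2 g⟩, (hKmem _).mpr fun p hp => ?_, rfl⟩
    rw [Subgroup.orderOf_mk, show orderOf (g * (x : G) * g⁻¹) = orderOf (x : G) from
      MulEquiv.orderOf_eq (MulAut.conj g) (x : G), Subgroup.orderOf_coe]
    exact (hKmem x).mp hx p hp
  · rw [Subgroup.card_map_of_injective N.subtype_injective] at hrd
    intro hrπ
    by_cases hr2 : r = 2
    · subst hr2
      exact Nat.prime_two.ne_one (hNcop.coprime_dvd_left (hrd.trans K.card_subgroup_dvd_card) |>.eq_one_of_dvd dvd_rfl)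
    · exact hKcard r hr hrd (Finset.mem_erase.mpr ⟨hr2, hrπ⟩)
  · rw [Subgroup.index_map_subtype] at hrd
    rcases (Nat.Prime.dvd_mul hr).mp hrd with h | h
    · exact Finset.mem_of_mem_erase (hKidx r hr h)
    · rw [he] at h
      rw [(Nat.prime_dvd_prime_iff_eq hr Nat.prime_two).mp (hr.dvd_of_dvd_pow h)]
      exact h2
  have hcop : Nat.Coprime (Nat.card K) K.index := Nat.coprime_of_dvd fun r hr h1 h3 => hKcard r hr h1 (hKidx r hr h3)
  obtain ⟨H, hH⟩ := Subgroup.exists_right_complement'_of_coprime hcop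
  refine ⟨H.map N.subtype, ⟨fun r hr hrd => ?_, fun r hr hrπ hrd => ?_⟩, ?_⟩
  · rw [Subgroup.card_map_of_injective N.subtype_injective, ← hH.symm.index_eq_card] at hrd
    have hrσ := hKidx r hr hrd
    exact ⟨Finset.mem_of_mem_erase hrσ, Finset.ne_of_mem_erase hrσ⟩
  · rw [Subgroup.index_map_subtype, hH.index_eq_card] at hrd
    rcases (Nat.Prime.dvd_mul hr).mp hrd with h | h
    · exact hKcard r hr h (Finset.mem_erase.mpr ⟨hrπ.2, hrπ.1⟩)
    · rw [he] at h
      exact hrπ.2 ((Nat.prime_dvd_prime_iff_eq hr Nat.prime_two).mp (hr.dvd_of_dvd_pow h))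
  · refine ⟨⟨?_⟩⟩
    rintro ⟨_, u, hu, rfl⟩ ⟨_, w, hw, rfl⟩
    refine Subtype.ext ?_
    show N.subtype u * N.subtype w = N.subtype w * N.subtype u
    rw [← map_mul, ← map_mul]
    refine congrArg N.subtype ?_
    have hq : ((u * w : N) : N ⧸ K) = ((w * u : N) : N ⧸ K) :=
      ((Subgroup.Normal.quotient_commutative_iff_commutator_le).mpr hcomm).is_comm.comm (u : N ⧸ K) (w : N ⧸ K)
    have hu' : u ∈ H := hu
    have hw' : w ∈ H := hw
    have hmem : (u * w)⁻¹ * (w * u) ∈ K ⊓ H :=
      Subgroup.mem_inf.mpr ⟨QuotientGroup.eq.mp hq, H.mul_mem (H.inv_mem (H.mul_mem hu' hw')) (H.mul_mem hw' hu')⟩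
    rw [hH.disjoint.eq_bot, Subgroup.mem_bot, inv_mul_eq_one] at hmem
    exact hmem

end Cfsg.Agent.S3898
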