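import Cfsg.Statements.S3899
import Cfsg.Agent.Lib.ClassCount.ManyPiClasses

set_option autoImplicit false
open Cfsg

namespace Cfsg.Agent.S3899

open CfsgLib.ManyPiClasses Subgroup
open scoped commutatorElement

universe u

private theorem sylow_facts {G : Type u} [Group G] [Finite G] {π : Finset ℕ} (hπ : ∀ r ∈ π, r.Prime)
    {p : ℕ} (hp : p ∈ π) (hmin : ∀ r ∈ π, p ≤ r)
    (hk : (p + 1) * piPart π G < 2 * p * Nat.card (PiClasses π G)) {r : ℕ} (hr : r ∈ π) :
    ∃ N : Subgroup G, N.Normal ∧ commutator G ≤ N ∧ ¬ r ∣ Nat.card N ∧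
      ∀ q : ℕ, q.Prime → q ∣ N.index → q = r := by
  classical
  haveI := Fact.mk (hπ r hr)
  obtain ⟨P⟩ : Nonempty (Sylow r G) := inferInstance
  have hstep : Nat.card (PiClasses π G) ≤ Nat.card (PClasses r G) * piPart (π.erase r) G := by
    conv_lhs => rw [show π = insert r (π.erase r) from (Finset.insert_erase hr).symm]
    refine card_piClasses_insert_le G (hπ r hr) _ _ fun H => ?_
    refine (card_piClasses_le _ (fun q hq => hπ q (Finset.mem_of_mem_erase hq)) H).trans
      (Finset.prod_le_prod' fun q hq => Nat.pow_le_pow_right (hπ q (Finset.mem_of_mem_erase hq)).pos ?_)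
    exact (Nat.factorization_le_iff_dvd Nat.card_pos.ne' Nat.card_pos.ne').mpr
      H.card_subgroup_dvd_card q
  have hpart : piPart π G = Nat.card (P : Subgroup G) * piPart (π.erase r) G := by
    rw [P.card_eq_multiplicity]
    exact (Finset.mul_prod_erase π _ hr).symm
  have hpp := (hπ p hp).pos
  have hr' : (r + 1) * Nat.card (P : Subgroup G) < 2 * r * Nat.card (PClasses r G) := by
    by_contra hle
    push Not at hle
    rw [hpart] at hk
    have h1 := Nat.mul_le_mul_left (2 * p) hstep
    generalize piPart (π.erase r) G = B at *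
    generalize Nat.card (PClasses r G) = k at *
    generalize Nat.card (PiClasses π G) = K at *
    generalize Nat.card (P : Subgroup G) = m at *
    have h2 : (p + 1) * m < 2 * p * k := by
      by_contra h
      push Not at h
      have := Nat.mul_le_mul_right B h
      nlinarith
    have h3 : (r + 1) * p ≤ (p + 1) * r := by
      have := hmin r hr
      nlinarith
    nlinarith [Nat.mul_le_mul_right m h3, Nat.mul_le_mul_left p hle]
  obtain ⟨hab, N, hN, hc⟩ := of_many_classes P hr'
  have hidx : N.index = Nat.card (P : Subgroup G) := hc.symm.index_eq_card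
  refine ⟨N, hN, ?_, ?_, fun q hq hqd => ?_⟩
  · exact Subgroup.Normal.commutator_le_of_self_sup_commutative_eq_top (H := (P : Subgroup G))
      hc.sup_eq_top hab
  · rw [← hc.index_eq_card]
    exact P.not_dvd_index
  · obtain ⟨n, hn⟩ := IsPGroup.iff_card.mp P.isPGroup'
    rw [hidx, hn] at hqd
    exact (Nat.prime_dvd_prime_iff_eq hq (hπ r hr)).mp (hq.dvd_of_dvd_pow hqd)

/-- Let π be a finite non-empty set of odd primes with smallest member p and G a finite group. Write k_π(G) for the number of conjugacy classes of G consisting of π-elements (elements all of whose order's prime divisors lie in π) and |G|_π for the π-part of the order of G. If k_π(G) > (p + 1)|G|_π/(2p), then G has a normal π-complement (a normal subgroup of order prime to π whose index is a π-number) and an abelian Hall π-subgroup. -/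
theorem result {G : Type*} [Group G] [Finite G] (π : Finset ℕ) (hπ : ∀ r ∈ π, r.Prime) (h2 : 2 ∉ π) (p : ℕ) (hp : p ∈ π)
    (hmin : ∀ r ∈ π, p ≤ r) (hk : (p + 1) * π.prod (fun r => r ^ (Nat.card G).factorization r) < 2 * p * Nat.card {c : ConjClasses G // ∀ x ∈ c.carrier, ∀ r : ℕ, r.Prime → r ∣ orderOf x → r ∈ π}) :
    (∃ N : Subgroup G, N.Normal ∧ (∀ r : ℕ, r.Prime → r ∣ Nat.card ↥N → r ∉ π) ∧ ∀ r : ℕ, r.Prime → r ∣ N.index → r ∈ π) ∧ ∃ H : Subgroup G, Cfsg.IsPiHall (↑π : Set ℕ) H ∧ IsMulCommutative ↥H := by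
  classical
  have hk' : (p + 1) * piPart π G < 2 * p * Nat.card (PiClasses π G) := hk
  have key : ∀ t : Finset ℕ, t ⊆ π → ∃ N : Subgroup G, N.Normal ∧ commutator G ≤ N ∧
      (∀ r ∈ t, ¬ r ∣ Nat.card N) ∧ ∀ q : ℕ, q.Prime → q ∣ N.index → q ∈ t := by
    intro t
    induction t using Finset.induction_on with
    | empty =>
      exact fun _ => ⟨⊤, inferInstance, le_top, by simp, fun q hq hd => absurd
        (Subgroup.index_top (G := G) ▸ hd) hq.not_dvd_one⟩
    | insert r t hrt ih =>
      intro hsub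
      obtain ⟨A, hA, hAc, hAr, hAi⟩ := sylow_facts hπ hp hmin hk' (hsub (Finset.mem_insert_self r t))
      obtain ⟨B, hB, hBc, hBr, hBi⟩ := ih ((Finset.subset_insert r t).trans hsub)
      haveI := hA
      haveI := hB
      refine ⟨A ⊓ B, inferInstance, le_inf hAc hBc, fun q hq => ?_, fun q hq hqd => ?_⟩
      · rcases Finset.mem_insert.mp hq with rfl | hq
        · exact fun h => hAr (h.trans (Subgroup.card_dvd_of_le inf_le_left))
        · exact fun h => hBr q hq (h.trans (Subgroup.card_dvd_of_le inf_le_right))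
      · have hd : (A ⊓ B).index ∣ A.index * B.index := by
          rw [← Subgroup.relIndex_mul_index (inf_le_left : A ⊓ B ≤ A), Subgroup.inf_relIndex_left, mul_comm]
          exact Nat.mul_dvd_mul_left _ (Subgroup.relIndex_dvd_index_of_normal B A)
        rcases hq.dvd_mul.mp (hqd.trans hd) with h | h
        · rw [hAi q hq h]; exact Finset.mem_insert_self _ _
        · exact Finset.mem_insert_of_mem (hBi q hq h)
  obtain ⟨N, hN, hNc, hNr, hNi⟩ := key π Finset.Subset.rfl
  haveI := hN
  refine ⟨⟨N, hN, fun r hr hrd hrπ => hNr r hrπ hrd, hNi⟩, ?_⟩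
  have hcop : (Nat.card N).Coprime N.index := by
    refine Nat.coprime_of_dvd fun q hq h1 h2 => hNr q (hNi q hq h2) h1
  obtain ⟨H, hH⟩ := Subgroup.exists_right_complement'_of_coprime hcop
  refine ⟨H, ⟨fun q hq hqd => Finset.mem_coe.mpr (hNi q hq ?_), fun q hq hqπ hqd => hNr q hqπ ?_⟩, ?_⟩
  · rwa [hH.symm.index_eq_card]
  · rwa [hH.index_eq_card] at hqd
  · refine ⟨⟨fun a b => Subtype.ext ?_⟩⟩
    have h1 : ⁅(a : G), (b : G)⁆ ∈ N ⊓ H := Subgroup.mem_inf.mpr ⟨hNc (by
      rw [_root_.commutator_def]
      exact Subgroup.commutator_mem_commutator (Subgroup.mem_top _) (Subgroup.mem_top _)), by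
      rw [commutatorElement_def]
      exact mul_mem (mul_mem (mul_mem a.2 b.2) (inv_mem a.2)) (inv_mem b.2)⟩
    rw [hH.disjoint.eq_bot, Subgroup.mem_bot, commutatorElement_eq_one_iff_mul_comm] at h1
    exact h1

end Cfsg.Agent.S3899
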