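import Cfsg.Statements.S3904
import Mathlib
import Cfsg.Agent.Lib.PGroups.MaxCentralizerStructure

set_option autoImplicit false
open Cfsg

namespace Cfsg.Agent.S3904

open Subgroup in
theorem minimalNonabelian {Q : Type*} [Group Q] [Finite Q] {p q : ℕ} (hp : p.Prime) (hq : q.Prime)
    (hpq : p ≠ q) (K : Subgroup Q) [K.Normal] (hKne : K ≠ ⊥)
    (hKel : Cfsg.IsElementaryAbelian p K) (hKi : K.index = q)
    (hf : ∀ z, z ∉ K → ∀ k ∈ K, Commute z k → k = 1)
    (hmin : ∀ D : Subgroup Q, D.Normal → D ≤ K → D = ⊥ ∨ D = K) :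
    ¬ IsMulCommutative Q ∧ (∀ H : Subgroup Q, H ≠ ⊤ → IsMulCommutative ↥H) ∧
      ∃ p q a : ℕ, p.Prime ∧ q.Prime ∧ p ≠ q ∧ Nat.card Q = p ^ a * q ∧
        ∀ P : Subgroup Q, Nat.card ↥P = p ^ a → P.Normal := by
  haveI := Fact.mk hp
  haveI := Fact.mk hq
  have hcardq : Nat.card (Q ⧸ K) = q := by rw [← hKi]; rfl
  have hcyc : IsCyclic (Q ⧸ K) := isCyclic_of_prime_card hcardq
  letI := hcyc.commGroup
  have hKc : ∀ a ∈ K, ∀ b ∈ K, a * b = b * a := fun a ha b hb =>
    congrArg Subtype.val (hKel.1.is_comm.comm (⟨a, ha⟩ : K) ⟨b, hb⟩)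
  obtain ⟨z₀, hz₀⟩ : ∃ z, z ∉ K := by
    by_contra hc
    push Not at hc
    exact hq.ne_one (hKi ▸ Subgroup.index_eq_one.mpr (eq_top_iff.mpr fun z _ => hc z))
  refine ⟨fun hc => ?_, fun H hH => ?_, ?_⟩
  · obtain ⟨⟨k, hk⟩, hk1⟩ := K.ne_bot_iff_exists_ne_one.mp hKne
    exact hk1 (Subtype.ext (hf z₀ hz₀ k hk (hc.is_comm.comm z₀ k)))
  · by_cases hHK : H ≤ K
    · exact ⟨⟨fun a b => Subtype.ext (hKc a (hHK a.2) b (hHK b.2))⟩⟩
    have hsup : K ⊔ H = ⊤ := by
      have hlt : K < K ⊔ H := lt_of_le_of_ne le_sup_left fun e => hHK (e ▸ le_sup_right)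
      rcases hq.eq_one_or_self_of_dvd _ (hKi ▸ Subgroup.index_dvd_of_le hlt.le) with h1 | h1
      · exact Subgroup.index_eq_one.mp h1
      · exact absurd (Subgroup.index_strictAnti hlt) (by rw [hKi, h1]; exact lt_irrefl _)
    have hDn : (H ⊓ K).Normal := by
      refine ⟨fun d hd g => ?_⟩
      obtain ⟨a, ha, c, hc, rfl⟩ := mem_sup_of_normal_left.mp (hsup ▸ mem_top g)
      have h1 : c * d * c⁻¹ ∈ H ⊓ K :=
        ⟨H.mul_mem (H.mul_mem hc hd.1) (H.inv_mem hc), (inferInstance : K.Normal).conj_mem _ hd.2 c⟩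
      rw [mul_inv_rev, show a * c * d * (c⁻¹ * a⁻¹) = a * (c * d * c⁻¹) * a⁻¹ by group,
        hKc a ha _ h1.2, mul_inv_cancel_right]
      exact h1
    rcases hmin _ hDn inf_le_right with h1 | h1
    · refine ⟨⟨fun a b => Subtype.ext ?_⟩⟩
      show (a : Q) * b = b * a
      have hm : ((b : Q) * a)⁻¹ * (a * b) ∈ H ⊓ K := by
        refine ⟨H.mul_mem (H.inv_mem (H.mul_mem b.2 a.2)) (H.mul_mem a.2 b.2),
          QuotientGroup.eq.mp ?_⟩
        rw [QuotientGroup.mk_mul, QuotientGroup.mk_mul, mul_comm]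
      rw [h1, mem_bot] at hm
      exact (inv_mul_eq_one.mp hm).symm
    · exfalso
      refine hH ?_
      exact (sup_eq_right.mpr (inf_eq_right.mp h1)).symm.trans hsup
  · obtain ⟨a, ha⟩ := IsPGroup.iff_card.mp
      (show IsPGroup p K from fun k => ⟨1, Subtype.ext (by simpa using hKel.2 _ k.2)⟩)
    refine ⟨p, q, a, hp, hq, hpq, by rw [← ha, ← hKi, K.card_mul_index], fun P hP => ?_⟩
    have hle : P ≤ K := by
      intro x hx
      rw [← QuotientGroup.eq_one_iff, ← orderOf_eq_one_iff]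
      refine Nat.eq_one_of_dvd_coprimes (((Nat.coprime_primes hp hq).mpr hpq).pow_left a) ?_ ?_
      · refine orderOf_dvd_of_pow_eq_one ?_
        have h1 : x ^ p ^ a = 1 := by
          have := congrArg Subtype.val (pow_card_eq_one' (x := (⟨x, hx⟩ : P)))
          simpa [hP] using this
        rw [← QuotientGroup.mk_pow, h1]
        rfl
      · exact hcardq ▸ orderOf_dvd_natCard _
    exact (Subgroup.eq_of_le_of_card_ge hle (le_of_eq (ha.trans hP.symm))).symm ▸ inferInstance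

/-- Let G be a non-abelian finite group in which the centralizer of every non-central element is a maximal subgroup. Then G/Z(G) is either an elementary abelian p-group for some prime p, or a minimal non-abelian group (non-abelian with all proper subgroups abelian) of order p^a · q for distinct primes p, q with a normal Sylow p-subgroup. -/
theorem result {G : Type*} [Group G] [Finite G] (hna : ¬ IsMulCommutative G)
    (h : ∀ x : G, x ∉ Subgroup.center G → IsCoatom (Subgroup.centralizer ({x} : Set G))) :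
    (∃ p : ℕ, p.Prime ∧ Cfsg.IsElementaryAbelian p (⊤ : Subgroup (G ⧸ Subgroup.center G))) ∨
    (¬ IsMulCommutative (G ⧸ Subgroup.center G) ∧ (∀ H : Subgroup (G ⧸ Subgroup.center G), H ≠ ⊤ → IsMulCommutative ↥H) ∧
      ∃ p q a : ℕ, p.Prime ∧ q.Prime ∧ p ≠ q ∧ Nat.card (G ⧸ Subgroup.center G) = p ^ a * q ∧
        ∀ P : Subgroup (G ⧸ Subgroup.center G), Nat.card ↥P = p ^ a → P.Normal) := by
  have hMC : CfsgLib.PGroups.MaxCent.MaxCent (⊤ : Subgroup G) := fun x hx =>
    h x fun hc => hx.2 (Subgroup.mem_centralizer_iff.mpr fun g _ => Subgroup.mem_center_iff.mp hc g)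
  have hmap : (Subgroup.center (⊤ : Subgroup G)).map
      ((Subgroup.topEquiv : (⊤ : Subgroup G) ≃* G) : (⊤ : Subgroup G) →* G) = Subgroup.center G := by
    ext g
    simp [Subgroup.mem_map, Subgroup.mem_center_iff]
  set e := QuotientGroup.congr _ _ (Subgroup.topEquiv : (⊤ : Subgroup G) ≃* G) hmap with he
  by_cases hnil : Group.IsNilpotent (⊤ : Subgroup G)
  · obtain ⟨p, hp, hab, hexp⟩ := CfsgLib.PGroups.MaxCent.elementary_of_nilpotent hMC hnil
    refine Or.inl ⟨p, hp, ⟨⟨fun a b => Subtype.ext ?_⟩⟩, fun a _ => ?_⟩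
    · apply e.symm.injective
      show e.symm ((a : G ⧸ Subgroup.center G) * b) = e.symm ((b : G ⧸ Subgroup.center G) * a)
      rw [map_mul, map_mul]
      exact congrArg Subtype.val (hab.is_comm.comm ⟨e.symm a, Subgroup.mem_top _⟩ ⟨e.symm b, Subgroup.mem_top _⟩)
    · apply e.symm.injective
      rw [map_pow, map_one]
      exact hexp _ (Subgroup.mem_top _)
  · obtain ⟨p, q, hp, hq, hpq, K, hKn, hKne, hKel, hKi, hf, hmin⟩ :=
      CfsgLib.PGroups.MaxCent.structure_of_not_nilpotent hMC hnil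
    haveI : (K.map e.toMonoidHom).Normal := hKn.map _ e.surjective
    refine Or.inr (minimalNonabelian hp hq hpq (K.map e.toMonoidHom) ?_ ⟨⟨⟨?_⟩⟩, ?_⟩ ?_ ?_ ?_)
    · exact (Subgroup.map_eq_bot_iff_of_injective (f := e.toMonoidHom) K e.injective).not.mpr hKne
    · rintro ⟨_, a, ha, rfl⟩ ⟨_, b, hb, rfl⟩
      apply Subtype.ext
      show e a * e b = e b * e a
      rw [← map_mul, ← map_mul]
      exact congrArg (fun t => e (Subtype.val t)) (hKel.1.is_comm.comm (⟨a, ha⟩ : K) ⟨b, hb⟩)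
    · rintro _ ⟨a, ha, rfl⟩
      rw [← map_pow, hKel.2 a ha, map_one]
    · rw [← hKi]; exact Subgroup.index_map_equiv K e
    · rintro z hz _ ⟨k, hk, rfl⟩ hcm
      obtain ⟨z', rfl⟩ := e.surjective z
      have := hf z' (fun hh => hz ⟨z', hh, rfl⟩) k hk (e.injective (by simpa using hcm.eq))
      rw [this, map_one]
    · intro D hD hDK
      have h1 : D.comap e.toMonoidHom ≤ K := fun x hx => by
        obtain ⟨k, hk, hkx⟩ := hDK hx
        exact e.injective hkx ▸ hk
      rcases hmin rfl _ (hD.comap _) h1 with h2 | h2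
      · left; rw [← Subgroup.map_comap_eq_self_of_surjective (f := e.toMonoidHom) e.surjective D, h2, Subgroup.map_bot]
      · right; rw [← Subgroup.map_comap_eq_self_of_surjective (f := e.toMonoidHom) e.surjective D, h2]

end Cfsg.Agent.S3904
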