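import Cfsg.Statements.S3905
import Mathlib
import Cfsg.Agent.Lib.PGroups.MaxCentralizerStructure

set_option autoImplicit false
open Cfsg

namespace Cfsg.Agent.S3905

open Subgroup in
theorem frobenius {Q : Type*} [Group Q] [Finite Q] {q : ℕ} (hq : q.Prime) (K : Subgroup Q)
    [K.Normal] (hKne : K ≠ ⊥) (hKi : K.index = q)
    (hf : ∀ z, z ∉ K → ∀ k ∈ K, Commute z k → k = 1) :
    ∃ C : Subgroup Q, Cfsg.IsFrobeniusComplement C ∧ (Nat.card C).Prime ∧
      (K : Set Q) = Cfsg.frobeniusKernel C := by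
  haveI := Fact.mk hq
  obtain ⟨z₀, hz₀⟩ : ∃ z, z ∉ K := by
    by_contra hc
    push Not at hc
    exact hq.ne_one (hKi ▸ Subgroup.index_eq_one.mpr (eq_top_iff.mpr fun z _ => hc z))
  have hord : ∀ z, z ∉ K → orderOf z = q := fun z hz => orderOf_eq_prime
    (hf z hz _ (hKi ▸ K.pow_index_mem z) (Commute.self_pow z q)) fun e => hz (e ▸ K.one_mem)
  set C := zpowers z₀ with hC
  have hCc : Nat.card C = q := by rw [hC, Nat.card_zpowers, hord z₀ hz₀]
  have hCK : ∀ c ∈ C, c ∈ K → c = 1 := by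
    intro c hc hcK
    by_contra hne
    have hle : zpowers c = C := Subgroup.eq_of_le_of_card_ge (zpowers_le.mpr hc) (by
      rw [hCc, Nat.card_zpowers]
      obtain ⟨i, rfl⟩ := mem_zpowers_iff.mp hc
      have hd : orderOf (z₀ ^ i) ∣ q := orderOf_dvd_of_pow_eq_one (by
        rw [← zpow_natCast, ← zpow_mul, mul_comm, zpow_mul, zpow_natCast, ← hord z₀ hz₀,
          pow_orderOf_eq_one, one_zpow])
      rcases hq.eq_one_or_self_of_dvd _ hd with h1 | h1
      · exact absurd (orderOf_eq_one_iff.mp h1) hne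
      · exact h1.ge)
    exact hz₀ (zpowers_le.mpr hcK (hle ▸ mem_zpowers z₀))
  have hcyc : IsCyclic (Q ⧸ K) := isCyclic_of_prime_card (p := q) (by rw [← hKi]; rfl)
  letI := hcyc.commGroup
  have hdec : ∀ g : Q, ∃ i : ℤ, (z₀ ^ i)⁻¹ * g ∈ K := by
    intro g
    have hne : (z₀ : Q ⧸ K) ≠ 1 := fun e => hz₀ ((QuotientGroup.eq_one_iff z₀).mp e)
    have hgen := zpowers_eq_top_of_prime_card (by rw [← hKi]; rfl : Nat.card (Q ⧸ K) = q) hne
    obtain ⟨i, hi⟩ := mem_zpowers_iff.mp (hgen ▸ mem_top (g : Q ⧸ K))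
    exact ⟨i, QuotientGroup.eq.mp (by rw [QuotientGroup.mk_zpow, hi])⟩
  refine ⟨C, ⟨?_, ?_, ?_⟩, hCc ▸ hq, ?_⟩
  · intro e
    rw [e, Subgroup.card_bot] at hCc
    exact hq.ne_one hCc.symm
  · intro e
    obtain ⟨⟨k, hk⟩, hk1⟩ := K.ne_bot_iff_exists_ne_one.mp hKne
    exact hk1 (Subtype.ext (hCK k (e ▸ mem_top k) hk))
  · intro g hg
    rw [eq_bot_iff]
    rintro c ⟨hc, hc'⟩
    rw [mem_bot]
    by_contra hne
    obtain ⟨d, hd, rfl⟩ : ∃ d ∈ C, g * d * g⁻¹ = c := by
      obtain ⟨d, hd, he⟩ := hc'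
      exact ⟨d, hd, he⟩
    have hdK : d ∉ K := fun h => hne (by rw [hCK d hd h, mul_one, mul_inv_cancel])
    have h1 : g * d * g⁻¹ * d⁻¹ = 1 := by
      refine hCK _ (C.mul_mem hc (C.inv_mem hd)) ((QuotientGroup.eq_one_iff _).mp ?_)
      simp only [QuotientGroup.mk_mul, QuotientGroup.mk_inv]
      rw [mul_comm (g : Q ⧸ K) d, mul_assoc (d : Q ⧸ K), mul_inv_cancel, mul_one, mul_inv_cancel]
    have hgd : Commute g d := mul_inv_eq_iff_eq_mul.mp (mul_inv_eq_one.mp h1)
    obtain ⟨i, hi⟩ := hdec g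
    have hcz : Commute d (z₀ ^ i) := by
      obtain ⟨j, rfl⟩ := mem_zpowers_iff.mp hd
      exact Commute.zpow_zpow_self z₀ j i
    have hk1 := hf d hdK _ hi (hcz.inv_right.mul_right hgd.symm)
    exact hg (mem_zpowers_iff.mpr ⟨i, inv_mul_eq_one.mp hk1⟩)
  · ext x
    constructor
    · intro hx
      by_cases hx1 : x = 1
      · exact Or.inl hx1
      refine Or.inr fun g => ?_
      rintro ⟨d, hd, rfl⟩
      refine hx1 ?_
      have hdK : d ∈ K := by
        have := (inferInstance : K.Normal).conj_mem _ hx g⁻¹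
        simpa [mul_assoc] using this
      simp [hCK d hd hdK]
    · rintro (rfl | hx)
      · exact K.one_mem
      by_contra hxK
      obtain ⟨i, hi⟩ := hdec x
      have hz : z₀ ^ i ∉ K := fun e => hxK (by simpa using K.mul_mem e hi)
      set z := z₀ ^ i with hzdef
      let f : K → K := fun k => ⟨z⁻¹ * k * z * (k : Q)⁻¹,
        K.mul_mem (by simpa using (inferInstance : K.Normal).conj_mem _ k.2 z⁻¹) (K.inv_mem k.2)⟩
      have hfi : Function.Injective f := by
        rintro ⟨a, ha⟩ ⟨b, hb⟩ e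
        have e' : z⁻¹ * a * z * a⁻¹ = z⁻¹ * b * z * b⁻¹ := congrArg Subtype.val e
        have hcm : Commute z (b⁻¹ * a) := by
          calc z * (b⁻¹ * a) = b⁻¹ * z * (z⁻¹ * b * z * b⁻¹) * a := by group
            _ = b⁻¹ * z * (z⁻¹ * a * z * a⁻¹) * a := by rw [e']
            _ = b⁻¹ * a * z := by group
        exact Subtype.ext (inv_mul_eq_one.mp (hf z hz _ (K.mul_mem (K.inv_mem hb) ha) hcm)).symm
      obtain ⟨⟨k, hk⟩, hfk⟩ := Finite.surjective_of_injective hfi ⟨z⁻¹ * x, hi⟩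
      have e : z⁻¹ * k * z * k⁻¹ = z⁻¹ * x := congrArg Subtype.val hfk
      refine hx k ⟨z, mem_zpowers_iff.mpr ⟨i, rfl⟩, ?_⟩
      show k * z * k⁻¹ = x
      calc k * z * k⁻¹ = z * (z⁻¹ * k * z * k⁻¹) := by group
        _ = x := by rw [e, mul_inv_cancel_left]

/-- Let N be a normal subgroup of the finite group G such that for every element x of N outside the center of N the centralizer C_G(x) is a maximal subgroup of G. Then N/Z(N) is either an elementary abelian p-group for some prime p, or a Frobenius group whose kernel is an elementary abelian normal subgroup and whose complement has prime order. -/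
theorem result {G : Type*} [Group G] [Finite G] (N : Subgroup G) [N.Normal]
    (h : ∀ x : G, x ∈ N → x ∉ Subgroup.centralizer (N : Set G) → IsCoatom (Subgroup.centralizer ({x} : Set G))) :
    (∃ p : ℕ, p.Prime ∧ Cfsg.IsElementaryAbelian p (⊤ : Subgroup (↥N ⧸ Subgroup.center ↥N))) ∨
    (∃ (Q K : Subgroup (↥N ⧸ Subgroup.center ↥N)) (p : ℕ), p.Prime ∧ Cfsg.IsFrobeniusComplement Q ∧ (Nat.card ↥Q).Prime ∧
      K.Normal ∧ (K : Set (↥N ⧸ Subgroup.center ↥N)) = Cfsg.frobeniusKernel Q ∧ Cfsg.IsElementaryAbelian p K) := by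
  by_cases hnil : Group.IsNilpotent N
  · exact Or.inl (CfsgLib.PGroups.MaxCent.elementary_of_nilpotent (fun x hx => h x hx.1 hx.2) hnil)
  · obtain ⟨p, q, hp, hq, -, K, hKn, hKne, hKel, hKi, hf, -⟩ :=
      CfsgLib.PGroups.MaxCent.structure_of_not_nilpotent (fun x hx => h x hx.1 hx.2) hnil
    obtain ⟨C, hC, hCp, hCk⟩ := @frobenius _ _ _ q hq K hKn hKne hKi hf
    exact Or.inr ⟨C, K, p, hp, hC, hCp, hKn, hCk, hKel⟩

end Cfsg.Agent.S3905
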