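import Cfsg.Statements.S3908
import Cfsg.Agent.Lib.Orders.ConjugateSubgroups

set_option autoImplicit false
open Cfsg
open scoped Pointwise commutatorElement

namespace Cfsg.Agent.S3908

/-- Let G be a finite group in which any two abelian subgroups of the same order are conjugate. Then a Sylow 2-subgroup of G is cyclic, elementary abelian or generalized quaternion, and for an odd prime p a Sylow p-subgroup of G is cyclic or has exponent dividing p. -/
theorem result {G : Type*} [Group G] [Finite G] (hB : ∀ A B : Subgroup G, IsMulCommutative ↥A → IsMulCommutative ↥B → Nat.card ↥A = Nat.card ↥B → ∃ g : G, B = A.map (MulAut.conj g).toMonoidHom) :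
    (∀ P : Sylow 2 G, IsCyclic ↥(P : Subgroup G) ∨ Cfsg.IsElementaryAbelian 2 (P : Subgroup G) ∨ ∃ k : ℕ, Nonempty (↥(P : Subgroup G) ≃* QuaternionGroup (2 ^ k))) ∧
    ∀ (p : ℕ) [Fact p.Prime], p ≠ 2 → ∀ P : Sylow p G, IsCyclic ↥(P : Subgroup G) ∨ ∀ x ∈ (P : Subgroup G), x ^ p = 1 := by
  classical
  have hBG := hB
  have hpow : ∀ (p : ℕ) (P : Sylow p G) (A B : Subgroup ↥(P : Subgroup G)), IsMulCommutative A →
      IsMulCommutative B → Nat.card A = p ^ 2 → Nat.card B = p ^ 2 → (∀ a ∈ A, a ^ p = 1) →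
      ∀ b ∈ B, b ^ p = 1 := by
    intro p P A B hA hB h1 h2 hexp b hb
    haveI := hA; haveI := hB
    obtain ⟨g, hg⟩ := hBG (A.map (P : Subgroup G).subtype) (B.map (P : Subgroup G).subtype)
      (Subgroup.map_isMulCommutative _ _) (Subgroup.map_isMulCommutative _ _)
      (by rw [Subgroup.card_map_of_injective (Subgroup.subtype_injective _),
        Subgroup.card_map_of_injective (Subgroup.subtype_injective _), h1, h2])
    have h3 : (b : G) ∈ (A.map (P : Subgroup G).subtype).map (MulAut.conj g).toMonoidHom :=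
      hg ▸ Subgroup.mem_map_of_mem _ hb
    obtain ⟨_, ⟨a, ha, rfl⟩, hab⟩ := h3
    refine Subtype.ext ?_
    rw [Subgroup.coe_pow, ← hab, ← map_pow, ← map_pow, hexp a ha, map_one, map_one]
    rfl
  refine ⟨fun P => ?_, fun p _ hp P => ?_⟩
  · rcases CfsgLib.Orders.ConjSub.pow_eq_one_or_unique P.isPGroup' (hpow 2 P) with hexp | huniq
    · refine Or.inr (Or.inl ⟨⟨⟨fun u v => ?_⟩⟩, fun a ha => congrArg Subtype.val (hexp ⟨a, ha⟩)⟩)
      have h2 : ∀ w : ↥(P : Subgroup G), w⁻¹ = w := fun w =>
        inv_eq_of_mul_eq_one_right (by rw [← sq, hexp w])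
      rw [← h2 (u * v), mul_inv_rev, h2, h2]
    · rcases CfsgLib.Core.UniqueOrderP.isCyclic_or_quaternion_of_unique P.isPGroup' huniq with h | ⟨-, h⟩
      · exact Or.inl h
      · exact Or.inr (Or.inr h)
  · rcases CfsgLib.Orders.ConjSub.pow_eq_one_or_unique P.isPGroup' (hpow p P) with hexp | huniq
    · exact Or.inr fun x hx => congrArg Subtype.val (hexp ⟨x, hx⟩)
    · rcases CfsgLib.Core.UniqueOrderP.isCyclic_or_quaternion_of_unique P.isPGroup' huniq with h | ⟨h, -⟩
      · exact Or.inl h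
      · exact absurd h hp

end Cfsg.Agent.S3908
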