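import Cfsg.Statements.S3910
import Cfsg.Agent.Lib.Orders.Parts
import Cfsg.Agent.Lib.Orders.DirectFactor
import Cfsg.Agent.Lib.PGroups.Basic

set_option autoImplicit false
open Cfsg
open scoped Pointwise

namespace Cfsg.Agent.S3910

/-- A finite nilpotent group in which any two abelian subgroups of the same order are conjugate is cyclic. -/
theorem result {G : Type*} [Group G] [Finite G] (hB : ∀ A B : Subgroup G, IsMulCommutative ↥A → IsMulCommutative ↥B → Nat.card ↥A = Nat.card ↥B → ∃ g : G, B = A.map (MulAut.conj g).toMonoidHom) (hnil : Group.IsNilpotent G) : IsCyclic G := by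
  have hnil' := hnil
  have hnormal : ∀ (p : ℕ) [Fact p.Prime] (P : Sylow p G), (P : Subgroup G).Normal := fun p hp P =>
    ((Group.isNilpotent_of_finite_tfae (G := G)).out 0 3 rfl rfl).1 hnil p hp P
  -- each prime has an element whose normal closure contains all elements of that prime power order
  have hx : ∀ p : Nat.Primes, ∃ x : G, (∃ a, orderOf x = (p : ℕ) ^ a) ∧
      ∀ y : G, (∃ b, orderOf y = (p : ℕ) ^ b) → y ∈ Subgroup.normalClosure ({x} : Set G) := by
    rintro ⟨p, hp⟩
    have := Fact.mk hp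
    obtain ⟨x, ⟨a, ha⟩, hmax⟩ := Set.exists_max_image {x : G | ∃ a, orderOf x = p ^ a} orderOf
      (Set.toFinite _) ⟨1, 0, by simp⟩
    refine ⟨x, ⟨a, ha⟩, fun y ⟨b, hb⟩ => ?_⟩
    have hba : b ≤ a := (Nat.pow_le_pow_iff_right hp.one_lt).1 (ha ▸ hb ▸ hmax y ⟨b, hb⟩)
    have hz : orderOf (x ^ p ^ (a - b)) = p ^ b := by
      rw [orderOf_pow_of_dvd (pow_ne_zero _ hp.ne_zero) (ha ▸ pow_dvd_pow p (Nat.sub_le a b)), ha,
        Nat.pow_div (Nat.sub_le a b) hp.pos, Nat.sub_sub_self hba]
    obtain ⟨g, hg⟩ := hB (Subgroup.zpowers (x ^ p ^ (a - b))) (Subgroup.zpowers y) inferInstance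
      inferInstance (by rw [Nat.card_zpowers, Nat.card_zpowers, hz, hb])
    obtain ⟨w, hw, hwy⟩ := hg.le (Subgroup.mem_zpowers y)
    rw [← hwy]
    refine (Subgroup.normalClosure_normal).conj_mem w ?_ g
    exact Subgroup.zpowers_le.2 (Subgroup.pow_mem (Subgroup.normalClosure ({x} : Set G))
      (Subgroup.subset_normalClosure (Set.mem_singleton x)) (p ^ (a - b))) hw
  choose x hxa hxy using hx
  let C := Subgroup.closure (Set.range x)
  have hCc : ∀ a ∈ Set.range x, ∀ b ∈ Set.range x, a * b = b * a := by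
    rintro _ ⟨p, rfl⟩ _ ⟨q, rfl⟩
    by_cases hpq : p = q
    · rw [hpq]
    · have := Fact.mk p.2
      have := Fact.mk q.2
      obtain ⟨P⟩ : Nonempty (Sylow p G) := inferInstance
      obtain ⟨Q⟩ : Nonempty (Sylow q G) := inferInstance
      have := hnormal p P
      have := hnormal q Q
      obtain ⟨a, ha⟩ := hxa p
      obtain ⟨b, hb⟩ := hxa q
      exact Subgroup.commute_of_normal_of_disjoint (P : Subgroup G) (Q : Subgroup G) ‹_› ‹_›
        (IsPGroup.disjoint_of_ne _ _ (fun h => hpq (Subtype.ext h)) _ _ P.isPGroup' Q.isPGroup') _ _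
        (CfsgLib.Orders.mem_of_pelement P ha) (CfsgLib.Orders.mem_of_pelement Q hb)
  have htop : C = ⊤ := by
    by_contra hne
    obtain ⟨M, hM, hCM⟩ := (eq_top_or_exists_le_coatom C).resolve_left hne
    have : M.Normal := CfsgLib.PGroups.normal_of_isCoatom hM
    refine hM.1 (eq_top_iff.2 fun y _ => CfsgLib.HallGen.mem_of_primePow_parts M y
      fun z _ p k hp hz => ?_)
    exact Subgroup.normalClosure_le_normal (Set.singleton_subset_iff.2
      (hCM (Subgroup.subset_closure ⟨⟨p, hp⟩, rfl⟩))) (hxy ⟨p, hp⟩ z ⟨k, hz⟩)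
  have hcomm : ∀ a b : G, a * b = b * a := fun a b => by
    have hc := Subgroup.isMulCommutative_closure hCc
    exact congrArg Subtype.val (hc.is_comm.comm ⟨a, show a ∈ C by rw [htop]; trivial⟩
      ⟨b, show b ∈ C by rw [htop]; trivial⟩)
  letI : CommGroup G := { (inferInstance : Group G) with mul_comm := hcomm }
  obtain ⟨w, hw⟩ : ∃ w : G, orderOf w = Monoid.exponent G :=
    Monoid.exists_orderOf_eq_exponent Monoid.ExponentExists.of_finite
  refine ⟨w, fun y => ?_⟩
  have hd : orderOf y ∣ orderOf w := hw ▸ Monoid.order_dvd_exponent y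
  obtain ⟨g, hg⟩ := hB (Subgroup.zpowers (w ^ (orderOf w / orderOf y))) (Subgroup.zpowers y)
    inferInstance inferInstance (by
      rw [Nat.card_zpowers, Nat.card_zpowers, orderOf_pow_of_dvd
        (Nat.div_pos (Nat.le_of_dvd (orderOf_pos w) hd) (orderOf_pos y)).ne'
        (Nat.div_dvd_of_dvd hd), Nat.div_div_self hd (orderOf_pos w).ne'])
  obtain ⟨u, hu, huy⟩ := hg.le (Subgroup.mem_zpowers y)
  have : y = u := by rw [← huy]; show g * u * g⁻¹ = u; rw [hcomm g u, mul_inv_cancel_right]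
  rw [this]
  exact Subgroup.mem_zpowers_iff.1 (Subgroup.zpowers_le.2 (pow_mem (Subgroup.mem_zpowers w) _) hu)

end Cfsg.Agent.S3910
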