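import Cfsg.Statements.S3913
import Cfsg.Agent.S3912
import Cfsg.Agent.Lib.Core.ConjAbelian
import Cfsg.Agent.Lib.Orders.ConjugateAll
import Cfsg.Agent.Lib.Components.FStar

set_option autoImplicit false
open Cfsg

set_option linter.all false

namespace Cfsg.Agent.S3913

open Subgroup CfsgLib.Core CfsgLib.Core.ConjAbelian Cfsg.Agent.S3912
open CfsgLib.Orders.ConjAll (conj_of_quotient card_map_mk_of_le card_map_mk_of_coprime)
open scoped commutatorElement

universe u

theorem quaternion_unique {Q : Type*} [Group Q] (e : Q ≃* QuaternionGroup 2) (H K : Subgroup Q)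
    (hH : Nat.card H = 2) (hK : Nat.card K = 2) : H = K := by
  have key : ∀ H : Subgroup Q, Nat.card H = 2 → H = zpowers (e.symm (QuaternionGroup.a 2)) := by
    intro H hH
    haveI : Finite H := Nat.finite_of_card_ne_zero (by omega)
    obtain ⟨⟨x, hx⟩, hxo⟩ := exists_prime_orderOf_dvd_card' (G := H) 2 (hH ▸ dvd_rfl)
    rw [Subgroup.orderOf_mk] at hxo
    have hz : x = e.symm (QuaternionGroup.a 2) := by
      rcases quaternion_facts.2.1 (e x) (by rw [← map_pow, orderOf_dvd_iff_pow_eq_one.1 hxo.dvd, map_one])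
        with h | h
      · rw [MulEquiv.map_eq_one_iff] at h
        rw [h, orderOf_one] at hxo
        exact absurd hxo (by norm_num)
      · rw [← h, e.symm_apply_apply]
    rw [← hz]
    exact (Subgroup.eq_of_le_of_card_ge (zpowers_le.2 hx) (by rw [Nat.card_zpowers, hxo, hH])).symm
  rw [key H hH, key K hK]

theorem card_quaternion {Q : Type*} [Group Q] (e : Q ≃* QuaternionGroup 2) : Nat.card Q = 2 ^ 3 := by
  rw [Nat.card_congr e.toEquiv, Nat.card_eq_fintype_card, QuaternionGroup.card]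
  rfl

/-- A proper subgroup of the quaternion group is cyclic. -/
theorem isCyclic_of_ne_top {Q : Type*} [Group Q] [Finite Q] (e : Q ≃* QuaternionGroup 2) {B : Subgroup Q}
    (hB : B ≠ ⊤) : IsCyclic B := by
  obtain ⟨k, hk, hkc⟩ := (Nat.dvd_prime_pow Nat.prime_two).1 (card_quaternion e ▸ B.card_subgroup_dvd_card)
  haveI : Fact (Nat.Prime 2) := ⟨Nat.prime_two⟩
  have hk3 : k ≠ 3 := fun h => hB (Subgroup.eq_top_of_card_eq B (by rw [hkc, h, card_quaternion e]))
  by_cases hk2 : k = 2
  · haveI := IsPGroup.isMulCommutative_of_card_eq_prime_sq (p := 2) (hk2 ▸ hkc)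
    exact UniqueOrderP.isCyclic_of_unique (IsPGroup.of_card (card_quaternion e)) (quaternion_unique e) B
  · rcases (show k = 0 ∨ k = 1 by omega) with rfl | rfl
    · haveI : Subsingleton ↥B := (Nat.card_eq_one_iff_unique.1 (by rw [hkc, pow_zero])).1
      exact isCyclic_of_subsingleton
    · exact isCyclic_of_prime_card (p := 2) (by rw [hkc, pow_one])

theorem card_inf_eq_gcd {G : Type*} [Group G] [Finite G] (E : Subgroup G) [E.Normal]
    (hE : (Nat.card E).Coprime E.index) (X : Subgroup G) :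
    Nat.card ↥(X ⊓ E) = (Nat.card X).gcd (Nat.card E) ∧
      Nat.card X = Nat.card ↥(X ⊓ E) * E.relIndex X ∧ (E.relIndex X).Coprime (Nat.card E) := by
  have h1 := ((X ⊓ E).subgroupOf X).card_mul_index
  rw [Nat.card_congr (subgroupOfEquivOfLe inf_le_left).toEquiv,
    ← Subgroup.relIndex, inf_comm, inf_relIndex_right, inf_comm] at h1
  have hcop : (E.relIndex X).Coprime (Nat.card E) :=
    (hE.symm.coprime_dvd_left (relIndex_dvd_index_of_normal E X))
  refine ⟨?_, h1.symm, hcop⟩
  rw [← h1, Nat.Coprime.gcd_mul_right_cancel _ hcop,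
    Nat.gcd_eq_left (Subgroup.card_dvd_of_le inf_le_right)]

theorem step {G : Type u} [Group G] [Finite G] (hsol : Group.IsSolvable G) (hB : ConjAb G)
    (H K : Subgroup G) (hcard : Nat.card H = Nat.card K)
    (hno : ∀ V : Subgroup G, V.Normal → V ≠ ⊥ → ¬ (V ≤ H ∧ V ≤ K) ∧ ¬ (Nat.card H).Coprime (Nat.card V)) :
    ∃ g : G, K = H.map (MulAut.conj g).toMonoidHom := by
  classical
  haveI := hsol
  -- structure of the cores
  have hcore : ∀ (q : ℕ) [Fact q.Prime], Cfsg.pCore q G ≠ ⊥ →
      q ∣ Nat.card H ∧ (∀ x ∈ Cfsg.pCore q G, x ^ q = 1) ∧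
      (∀ x ∈ Cfsg.pCore q G, ∀ y ∈ Cfsg.pCore q G, x * y = y * x) ∧
      ∃ Q : Sylow q G, (Q : Subgroup G) = Cfsg.pCore q G := by
    intro q hq h0
    have hd : q ∣ Nat.card H := by
      by_contra hd
      obtain ⟨i, hi⟩ := IsPGroup.iff_card.1 (isPGroup_pCore q G)
      exact (hno _ (normal_pCore q G) h0).2 (hi ▸ ((hq.out.coprime_iff_not_dvd.2 hd).symm.pow_right i))
    haveI := normal_pCore q G
    obtain ⟨V, hVn, hV0, hVle, hmin⟩ := exists_minimal_normal_le' (Cfsg.pCore q G) h0
    haveI := hVn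
    obtain ⟨r, hr, hVr, -, hVe⟩ := isPGroup_of_minimal_normal V inferInstance hV0 hmin
    have hVq : IsPGroup q V := (isPGroup_pCore q G).to_le hVle
    obtain rfl : r = q := by
      by_contra h
      haveI := Fact.mk hr
      exact hV0 (disjoint_self.1 (IsPGroup.disjoint_of_ne r q h V V hVr hVq))
    have huniq : ¬ ∀ P : Sylow r G, ∀ A B : Subgroup ↥(P : Subgroup G),
        Nat.card A = r → Nat.card B = r → A = B := fun hu =>
      (hno V hVn hV0).1 ⟨CfsgLib.Orders.ConjAll.le_of_unique V hVr hVe hV0 hu hd,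
        CfsgLib.Orders.ConjAll.le_of_unique V hVr hVe hV0 hu (hcard ▸ hd)⟩
    push Not at huniq
    obtain ⟨P, A, B, hA, hB', hAB⟩ := huniq
    rcases sylow_types hB P with h | ⟨hexp, hc⟩ | ⟨h2, ⟨e⟩⟩
    · exact absurd (CfsgLib.Orders.ConjAll.unique_of_cyclic P h A B hA hB') hAB
    · obtain ⟨m, hm, hmo⟩ := exists_orderOf_prime (isPGroup_pCore r G) h0
      have hP : (P : Subgroup G) = Cfsg.pCore r G := le_antisymm (le_of_exp hB hexp hm hmo) (pCore_le_sylow P)
      exact ⟨hd, hP ▸ hexp, hP ▸ hc, P, hP⟩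
    · subst h2
      exact absurd (quaternion_unique e A B hA hB') hAB
  set E := Cfsg.fittingSubgroup G with hE
  haveI : E.Normal := normal_fittingSubgroup G
  have hEsup : E = ⨆ p : Nat.Primes, Cfsg.pCore (p : ℕ) G := fittingSubgroup_eq_iSup_pCore
  have hCEle : ∀ x : G, (∀ (q : ℕ) [Fact q.Prime], ∀ v ∈ Cfsg.pCore q G, x * v = v * x) → x ∈ centralizer (E : Set G) := by
    intro x hx
    have hle : E ≤ centralizer ({x} : Set G) := by
      rw [hEsup]
      refine iSup_le fun q => ?_
      haveI := Fact.mk q.2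
      exact fun v hv => mem_centralizer_singleton_iff.2 (hx q v hv).symm
    exact mem_centralizer_iff.2 fun v hv => mem_centralizer_singleton_iff.1 (hle hv)
  have hFit : centralizer (E : Set G) ≤ E := CfsgLib.Components.centralizer_fitting_le_of_isSolvable
  have hEc : ∀ x ∈ E, ∀ y ∈ E, x * y = y * x := by
    have h1 : E ≤ centralizer (E : Set G) := by
      conv_lhs => rw [hEsup]
      refine iSup_le fun t => fun x hx => hCEle x fun q hq v hv => ?_
      haveI := Fact.mk t.2
      by_cases htq : (t : ℕ) = q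
      · by_cases h0 : Cfsg.pCore q G = ⊥
        · rw [Subgroup.mem_bot.1 (h0.le hv), mul_one, one_mul]
        · exact (hcore q h0).2.2.1 x (htq ▸ hx) v hv
      · exact commute_pCore_pCore t.2 hq.out htq x hx v hv
    exact fun x hx y hy => (mem_centralizer_iff.1 (h1 hx) y hy).symm
  have hdvdE : ∀ (s : ℕ) [Fact s.Prime], s ∣ Nat.card E → Cfsg.pCore s G ≠ ⊥ := by
    intro s hs hd h0
    obtain ⟨⟨x, hx⟩, hxo⟩ := exists_prime_orderOf_dvd_card' (G := E) s hd
    rw [Subgroup.orderOf_mk] at hxo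
    have := mem_pCore_of_mem_fitting (p := s) hx ⟨1, by rw [pow_one]; exact orderOf_dvd_iff_pow_eq_one.1 hxo.dvd⟩
    rw [h0, Subgroup.mem_bot] at this
    rw [this, orderOf_one] at hxo
    exact hs.out.ne_one hxo.symm
  have hEcop : (Nat.card E).Coprime E.index := by
    refine Nat.coprime_of_dvd fun s hs h1 h2 => ?_
    haveI := Fact.mk hs
    obtain ⟨-, -, -, Q, hQ⟩ := hcore s (hdvdE s h1)
    exact Q.not_dvd_index (h2.trans (index_dvd_of_le (hQ ▸ pCore_le_fittingSubgroup s)))
  -- one conjugation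
  have hab : ∀ X : Subgroup G, IsMulCommutative ↥(X ⊓ E) := fun X =>
    ⟨⟨fun a b => Subtype.ext (hEc a a.2.2 b b.2.2)⟩⟩
  obtain ⟨g, hg⟩ := hB (H ⊓ E) (K ⊓ E) (hab H) (hab K)
    (by rw [(card_inf_eq_gcd E hEcop H).1, (card_inf_eq_gcd E hEcop K).1, hcard])
  set H' := H.map (MulAut.conj g).toMonoidHom with hH'
  have hH'c : Nat.card H' = Nat.card K := by rw [hH', card_map_of_injective (MulAut.conj g).injective, hcard]
  have hEg : E.map (MulAut.conj g).toMonoidHom = E := by
    refine eq_of_le_of_card_ge ?_ (card_map_of_injective (MulAut.conj g).injective).ge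
    rintro _ ⟨y, hy, rfl⟩
    exact (inferInstance : E.Normal).conj_mem y hy g
  have hW : H' ⊓ E = K ⊓ E := by
    rw [hg, hH', Subgroup.map_inf _ _ _ (MulAut.conj g).injective, hEg]
  set W := K ⊓ E with hWdef
  set N := normalizer (W : Set G) with hN
  have hXN : ∀ X : Subgroup G, X ⊓ E = W → X ≤ N := by
    intro X hX x hx
    rw [hN, mem_normalizer_iff]
    intro y
    rw [← hX]
    refine ⟨fun hy => ⟨X.mul_mem (X.mul_mem hx hy.1) (X.inv_mem hx), (inferInstance : E.Normal).conj_mem y hy.2 x⟩, fun hy => ?_⟩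
    have h1 := X.mul_mem (X.mul_mem (X.inv_mem hx) hy.1) hx
    have h2 := (inferInstance : E.Normal).conj_mem' _ hy.2 x
    simpa [mul_assoc] using And.intro h1 h2
  have hEN : E ≤ N := by
    rw [hN, le_normalizer_iff]
    intro a ha z hz
    rw [hEc a ha z hz.2, mul_inv_cancel_right]
    exact hz
  -- every prime of the Fitting subgroup meets `W` properly
  have hWq : ∀ (q : ℕ) [Fact q.Prime], Cfsg.pCore q G ≠ ⊥ →
      W ⊓ Cfsg.pCore q G ≠ ⊥ ∧ ¬ Cfsg.pCore q G ≤ W := by
    intro q hq h0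
    refine ⟨fun hbot => ?_, fun hle => ?_⟩
    · have hqW : q ∣ Nat.card W := by
        rw [hWdef, (card_inf_eq_gcd E hEcop K).1]
        refine Nat.dvd_gcd (hcard ▸ (hcore q h0).1) ?_
        obtain ⟨m, hm, hmo⟩ := exists_orderOf_prime (isPGroup_pCore q G) h0
        exact hmo ▸ Subgroup.orderOf_dvd_natCard E (pCore_le_fittingSubgroup q hm)
      obtain ⟨⟨x, hx⟩, hxo⟩ := exists_prime_orderOf_dvd_card' (G := W) q hqW
      rw [Subgroup.orderOf_mk] at hxo
      have h1 : x ∈ W ⊓ Cfsg.pCore q G := Subgroup.mem_inf.2 ⟨hx,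
        mem_pCore_of_mem_fitting hx.2 ⟨1, by rw [pow_one]; exact orderOf_dvd_iff_pow_eq_one.1 hxo.dvd⟩⟩
      rw [hbot, Subgroup.mem_bot] at h1
      rw [h1, orderOf_one] at hxo
      exact hq.out.ne_one hxo.symm
    · refine (hno _ (normal_pCore q G) h0).1 ⟨fun v hv => ?_, hle.trans inf_le_left⟩
      have h1 : g * v * g⁻¹ ∈ H' := (hW.ge (hle ((normal_pCore q G).conj_mem v hv g))).1
      obtain ⟨u, hu, hue⟩ := h1
      change g * u * g⁻¹ = g * v * g⁻¹ at hue
      rw [← mul_left_cancel (mul_right_cancel hue)]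
      exact hu
  -- Sylow subgroups outside the Fitting subgroup
  set π := QuotientGroup.mk' E with hπ
  have hsur : Function.Surjective π := QuotientGroup.mk'_surjective E
  have hBq : ConjAb (G ⧸ E) := conjAb_quotient _ G rfl hsol hB E
  haveI : Group.IsSolvable (G ⧸ E) := Group.isSolvable_of_surjective hsur
  have hinj : ∀ (s : ℕ) [Fact s.Prime], ¬ s ∣ Nat.card E → ∀ S : Sylow s G,
      ∀ x ∈ (S : Subgroup G), π x = 1 → x = 1 := by
    intro s hs hsE S x hx hx1
    obtain ⟨n, hn⟩ := IsPGroup.iff_card.1 S.2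
    have hd : (S : Subgroup G) ⊓ E = ⊥ :=
      inf_eq_bot_of_coprime (hn ▸ ((hs.out.coprime_iff_not_dvd.2 hsE).pow_left n))
    exact Subgroup.mem_bot.1 (hd.le ⟨hx, (QuotientGroup.eq_one_iff _).1 hx1⟩)
  have hnoq : ∀ (t : ℕ) [Fact t.Prime] (T : Sylow t (G ⧸ E)), (T : Subgroup (G ⧸ E)).Normal →
      (∀ x ∈ (T : Subgroup (G ⧸ E)), x ^ t = 1) →
      (∀ x ∈ (T : Subgroup (G ⧸ E)), ∀ y ∈ (T : Subgroup (G ⧸ E)), x * y = y * x) →
      IsCyclic ↥(T : Subgroup (G ⧸ E)) := by
    intro t ht T hTn hTe hTc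
    by_cases htE : t ∣ Nat.card E
    · have htidx : ¬ t ∣ Nat.card (G ⧸ E) := fun h =>
        Nat.not_coprime_of_dvd_of_dvd ht.out.one_lt htE h hEcop
      obtain ⟨n, hn⟩ := IsPGroup.iff_card.1 T.2
      rcases n with _ | n
      · haveI : Subsingleton ↥(T : Subgroup (G ⧸ E)) := (Nat.card_eq_one_iff_unique.1 (by rw [hn, pow_zero])).1
        exact isCyclic_of_subsingleton
      · exact absurd ((dvd_pow_self t n.succ_ne_zero).trans (hn ▸ (T : Subgroup (G ⧸ E)).card_subgroup_dvd_card)) htidx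
    obtain ⟨S, rfl⟩ := Sylow.mapSurjective_surjective hsur t T
    refine by_contra fun hnc => ?_
    have hmem : ∀ x ∈ (S : Subgroup G), π x ∈ ((S.mapSurjective hsur : Sylow t (G ⧸ E)) : Subgroup (G ⧸ E)) :=
      fun x hx => mem_map_of_mem π hx
    have hSe : ∀ x ∈ (S : Subgroup G), x ^ t = 1 := fun x hx =>
      hinj t htE S _ (pow_mem hx t) (by rw [map_pow]; exact hTe _ (hmem x hx))
    have hSc : ∀ x ∈ (S : Subgroup G), ∀ y ∈ (S : Subgroup G), x * y = y * x := fun x hx y hy => by
      rw [← commutatorElement_eq_one_iff_mul_comm]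
      refine hinj t htE S _ ?_ ?_
      · rw [commutatorElement_def]
        exact mul_mem (mul_mem (mul_mem hx hy) (inv_mem hx)) (inv_mem hy)
      · rw [map_commutatorElement, commutatorElement_eq_one_iff_mul_comm]
        exact hTc _ (hmem x hx) _ (hmem y hy)
    have hSnc : ¬ IsCyclic ↥(S : Subgroup G) := fun h => hnc (by
      haveI := h
      exact isCyclic_of_surjective (π.subgroupMap (S : Subgroup G)) (π.subgroupMap_surjective _))
    have hnorm : ∀ a : G, ∀ x ∈ (S : Subgroup G), a * x * a⁻¹ ∈ (S : Subgroup G) ⊔ E := by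
      intro a x hx
      have h1 : π (a * x * a⁻¹) ∈ ((S : Subgroup G).map π) := by
        rw [map_mul, map_mul, map_inv]
        exact hTn.conj_mem _ (hmem x hx) (π a)
      have h2 := Subgroup.mem_comap.2 h1
      rwa [comap_map_eq, QuotientGroup.ker_mk'] at h2
    have hSC : (S : Subgroup G) ≤ centralizer (E : Set G) := by
      intro x hx
      refine hCEle x fun q hq v hv => ?_
      by_cases h0 : Cfsg.pCore q G = ⊥
      · rw [Subgroup.mem_bot.1 (h0.le hv), mul_one, one_mul]
      haveI := normal_pCore q G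
      have hqt : t ≠ q := by
        rintro rfl
        obtain ⟨m, hm, hmo⟩ := exists_orderOf_prime (isPGroup_pCore t G) h0
        exact htE (hmo ▸ Subgroup.orderOf_dvd_natCard E (pCore_le_fittingSubgroup t hm))
      have h := centralizes hB (t := t) (q := q) hqt (pCore_le_fittingSubgroup q) hEc
        ((ht.out.coprime_iff_not_dvd.2 htE).symm) hSe hSc hSnc (hcore q h0).2.1 hnorm hx
      exact ((mem_centralizer_iff.1 h) v hv).symm
    refine hSnc ?_
    haveI : Subsingleton ↥(S : Subgroup G) := ⟨fun u v => Subtype.ext <| by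
      rw [hinj t htE S u u.2 ((QuotientGroup.eq_one_iff _).2 (hFit (hSC u.2))),
        hinj t htE S v v.2 ((QuotientGroup.eq_one_iff _).2 (hFit (hSC v.2)))]⟩
    exact isCyclic_of_subsingleton
  have hcyc : ∀ (s : ℕ) [Fact s.Prime], ¬ s ∣ Nat.card E → ∀ R : Sylow s N, IsCyclic ↥(R : Subgroup N) := by
    intro s hs hsE R
    obtain ⟨S, hRS⟩ := (R.isPGroup'.map N.subtype).exists_le_sylow
    suffices h : IsCyclic ↥((R : Subgroup N).map N.subtype) by
      haveI := h
      exact isCyclic_of_injective ((R : Subgroup N).equivMapOfInjective N.subtype N.subtype_injective).toMonoidHom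
        ((R : Subgroup N).equivMapOfInjective N.subtype N.subtype_injective).injective
    set R' := (R : Subgroup N).map N.subtype
    have hres : Function.Injective (π.subgroupMap (S : Subgroup G)) := by
      rw [← MonoidHom.ker_eq_bot_iff, Subgroup.eq_bot_iff_forall]
      intro x hx
      exact Subtype.ext (hinj s hsE S x x.2 (congrArg Subtype.val (MonoidHom.mem_ker.1 hx)))
    rcases sylow_cyclic_or_normal hBq hnoq (S.mapSurjective hsur) with h | ⟨hn, h2, ⟨e0⟩⟩
    · haveI : IsCyclic ↥((S : Subgroup G).map π) := h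
      haveI : IsCyclic ↥(S : Subgroup G) := isCyclic_of_injective (π.subgroupMap (S : Subgroup G)) hres
      exact isCyclic_of_injective (inclusion hRS) (inclusion_injective hRS)
    subst h2
    let e : ↥(S : Subgroup G) ≃* QuaternionGroup 2 :=
      (MulEquiv.ofBijective (π.subgroupMap (S : Subgroup G)) ⟨hres, π.subgroupMap_surjective _⟩).trans e0
    by_cases htop : R'.subgroupOf (S : Subgroup G) = ⊤
    swap
    · haveI := isCyclic_of_ne_top e htop
      exact isCyclic_of_injective (subgroupOfEquivOfLe hRS).symm.toMonoidHom (subgroupOfEquivOfLe hRS).symm.injective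
    exfalso
    have hSN : (S : Subgroup G) ≤ N := by
      intro x hx
      exact map_subtype_le _ ((subgroupOf_eq_top.1 htop) hx)
    have hSEN : ∀ a : G, ∀ x ∈ (S : Subgroup G), a * x * a⁻¹ ∈ N := by
      intro a x hx
      have h1 : π (a * x * a⁻¹) ∈ ((S : Subgroup G).map π) := by
        rw [map_mul, map_mul, map_inv]
        exact hn.conj_mem _ (mem_map_of_mem π hx) (π a)
      have h2 := Subgroup.mem_comap.2 h1
      rw [comap_map_eq, QuotientGroup.ker_mk'] at h2
      exact sup_le hSN hEN h2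
    have hcomm : ∀ x ∈ (S : Subgroup G), ∀ y ∈ (S : Subgroup G), ⁅x, y⁆ ∈ centralizer (E : Set G) := by
      intro x hx y hy
      refine hCEle _ fun q hq v hv => ?_
      by_cases h0 : Cfsg.pCore q G = ⊥
      · rw [Subgroup.mem_bot.1 (h0.le hv), mul_one, one_mul]
      obtain ⟨-, hVe, hVc, -⟩ := hcore q h0
      obtain ⟨hW0, hWV⟩ := hWq q h0
      set V := Cfsg.pCore q G with hV
      obtain ⟨d, hd⟩ := IsPGroup.iff_card.1 (isPGroup_pCore q G)
      obtain ⟨m, hm⟩ := IsPGroup.iff_card.1 ((isPGroup_pCore q G).to_le (inf_le_right : W ⊓ V ≤ V))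
      have hm1 : 1 ≤ m := by
        by_contra h
        exact hW0 (Subgroup.eq_bot_of_card_eq _ (by rw [hm, show m = 0 by omega, pow_zero]))
      have hmd : m < d := by
        by_contra h
        refine hWV ((Subgroup.eq_of_le_of_card_ge (inf_le_right : W ⊓ V ≤ V) ?_).ge.trans inf_le_left)
        rw [hm, hd]
        exact Nat.pow_le_pow_right hq.out.pos (not_lt.1 h)
      have hfix : ∀ z ∈ (S : Subgroup G), ∀ U : Subgroup G, U ≤ V → Nat.card U = q ^ m →
          ∀ w ∈ U, z * w * z⁻¹ ∈ U := by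
        intro z hz U hU hUc w hw
        obtain ⟨a, ha⟩ := hB (W ⊓ V) U ⟨⟨fun b c => Subtype.ext (hVc b b.2.2 c c.2.2)⟩⟩
          ⟨⟨fun b c => Subtype.ext (hVc b (hU b.2) c (hU c.2))⟩⟩ (hm.trans hUc.symm)
        obtain ⟨w', hw', hw'e⟩ := ha.le hw
        change a * w' * a⁻¹ = w at hw'e
        have hzN : a⁻¹ * z * a ∈ N := by simpa using hSEN a⁻¹ z hz
        have h1 : (a⁻¹ * z * a) * w' * (a⁻¹ * z * a)⁻¹ ∈ W ⊓ V := Subgroup.mem_inf.2
          ⟨(mem_normalizer_iff.1 hzN w').1 hw'.1, (normal_pCore q G).conj_mem w' hw'.2 _⟩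
        refine ha.ge ⟨_, h1, ?_⟩
        show a * ((a⁻¹ * z * a) * w' * (a⁻¹ * z * a)⁻¹) * a⁻¹ = z * w * z⁻¹
        rw [← hw'e]; group
      exact commutator_centralizes hVe hVc hd hm1 hmd
        (fun v hv => (normal_pCore q G).conj_mem v hv x) (fun v hv => (normal_pCore q G).conj_mem v hv y)
        (hfix x hx) (hfix y hy) v hv
    have hSab : ∀ x y : ↥(S : Subgroup G), x * y = y * x := fun x y => Subtype.ext (by
      show (x : G) * y = y * x
      rw [← commutatorElement_eq_one_iff_mul_comm]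
      refine hinj 2 hsE S _ ?_ ((QuotientGroup.eq_one_iff _).2 (hFit (hcomm x x.2 y y.2)))
      rw [commutatorElement_def]
      exact mul_mem (mul_mem (mul_mem x.2 y.2) (inv_mem x.2)) (inv_mem y.2))
    have := congrArg e (hSab (e.symm (QuaternionGroup.a 1)) (e.symm (QuaternionGroup.xa 0)))
    rw [map_mul, map_mul, MulEquiv.apply_symm_apply, MulEquiv.apply_symm_apply] at this
    exact absurd this (by decide)
  -- inside the normalizer
  haveI : (W.subgroupOf N).Normal := normal_subgroupOf_of_le_normalizer le_rfl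
  have hWN : W ≤ N := inf_le_right.trans hEN
  set A' := H'.subgroupOf N
  set B' := K.subgroupOf N
  have hWA : W.subgroupOf N ≤ A' := fun x hx => (hW.ge (hx : (x : G) ∈ W)).1
  have hWB : W.subgroupOf N ≤ B' := fun x hx => hx.1
  have hA'c : Nat.card A' = Nat.card K :=
    (Nat.card_congr (subgroupOfEquivOfLe (hXN H' hW)).toEquiv).trans hH'c
  have hB'c : Nat.card B' = Nat.card K := Nat.card_congr (subgroupOfEquivOfLe (hXN K rfl)).toEquiv
  have hWc : Nat.card (W.subgroupOf N) = Nat.card W := Nat.card_congr (subgroupOfEquivOfLe hWN).toEquiv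
  have hqcard : Nat.card (A'.map (QuotientGroup.mk' (W.subgroupOf N))) =
      Nat.card (B'.map (QuotientGroup.mk' (W.subgroupOf N))) := by
    refine Nat.eq_of_mul_eq_mul_right (Nat.card_pos (α := W.subgroupOf N)) ?_
    rw [card_map_mk_of_le hWA, card_map_mk_of_le hWB, hA'c, hB'c]
  have himg : Nat.card (A'.map (QuotientGroup.mk' (W.subgroupOf N))) = E.relIndex K := by
    refine Nat.eq_of_mul_eq_mul_right (Nat.card_pos (α := W.subgroupOf N)) ?_
    rw [card_map_mk_of_le hWA, hA'c, hWc, mul_comm]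
    exact (card_inf_eq_gcd E hEcop K).2.1
  haveI : Group.IsSolvable (↥N ⧸ W.subgroupOf N) :=
    Group.isSolvable_of_surjective (QuotientGroup.mk'_surjective (W.subgroupOf N))
  obtain ⟨n', hn'⟩ := conj_of_quotient (W.subgroupOf N) inferInstance (hA'c.trans hB'c.symm) (Or.inl ⟨hWA, hWB⟩)
    (CfsgLib.Orders.ConjAll.conj_of_cyclic _ _ hqcard fun s hs hsd => by
      have hsE : ¬ s ∣ Nat.card E := fun h => Nat.not_coprime_of_dvd_of_dvd hs.out.one_lt (himg ▸ hsd) h
        (card_inf_eq_gcd E hEcop K).2.2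
      exact CfsgLib.Orders.ConjAll.isCyclic_sylow_quotient _ (hcyc s hsE))
  refine ⟨(n' : G) * g, ?_⟩
  have h1 := congrArg (Subgroup.map N.subtype) hn'
  rw [map_subgroupOf_eq_of_le (hXN K rfl), Subgroup.map_map] at h1
  rw [h1, show N.subtype.comp (MulAut.conj n').toMonoidHom = (MulAut.conj (n' : G)).toMonoidHom.comp N.subtype
    from by ext x; simp, ← Subgroup.map_map, map_subgroupOf_eq_of_le (hXN H' hW), hH', Subgroup.map_map]
  congr 1
  ext x; simp [mul_assoc]

theorem key : ∀ (n : ℕ) (G : Type u) [Group G] [Finite G], Nat.card G = n → Group.IsSolvable G → ConjAb G →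
    ∀ H K : Subgroup G, Nat.card H = Nat.card K → ∃ g : G, K = H.map (MulAut.conj g).toMonoidHom := by
  intro n
  induction n using Nat.strong_induction_on with
  | _ n ih =>
  intro G _ _ hn hsol hB H K hcard
  classical
  haveI := hsol
  by_cases hex : ∃ V : Subgroup G, V.Normal ∧ V ≠ ⊥ ∧ ((V ≤ H ∧ V ≤ K) ∨ (Nat.card H).Coprime (Nat.card V))
  · obtain ⟨V, hVn, hV0, hcase⟩ := hex
    haveI := hVn
    refine conj_of_quotient V inferInstance hcard hcase ?_
    refine ih _ (hn ▸ CfsgLib.Components.card_quotient_lt hV0) (G ⧸ V) rfl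
      (Group.isSolvable_of_surjective (QuotientGroup.mk'_surjective V)) (conjAb_quotient _ G rfl hsol hB V) _ _ ?_
    rcases hcase with ⟨h1, h2⟩ | h
    · refine Nat.eq_of_mul_eq_mul_right (Nat.card_pos (α := V)) ?_
      rw [card_map_mk_of_le h1, card_map_mk_of_le h2, hcard]
    · rw [card_map_mk_of_coprime h, card_map_mk_of_coprime (hcard ▸ h), hcard]
  · exact step hsol hB H K hcard fun V hV hV0 =>
      ⟨fun h => hex ⟨V, hV, hV0, Or.inl h⟩, fun h => hex ⟨V, hV, hV0, Or.inr h⟩⟩

/-- If G is a finite solvable group in which any two abelian subgroups of the same order are conjugate, then any two subgroups of G of the same order are conjugate. -/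
theorem result {G : Type*} [Group G] [Finite G] (hB : ∀ A B : Subgroup G, IsMulCommutative ↥A → IsMulCommutative ↥B → Nat.card ↥A = Nat.card ↥B → ∃ g : G, B = A.map (MulAut.conj g).toMonoidHom) (hsol : Group.IsSolvable G) (A B : Subgroup G)
    (h : Nat.card ↥A = Nat.card ↥B) : ∃ g : G, B = A.map (MulAut.conj g).toMonoidHom :=
  key _ G rfl hsol hB A B h

end Cfsg.Agent.S3913
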