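import Cfsg.Statements.S3915
import Cfsg.Agent.Lib.Components.Component
import Cfsg.Agent.S0205

set_option autoImplicit false
open Cfsg

namespace Cfsg.Agent.S3915

open Subgroup

/-- A component has a 2-element that does not centralise it. -/
theorem exists_two_element {G : Type*} [Group G] [Finite G] {K : Subgroup G} (hK : Cfsg.IsComponent K) :
    ∃ x ∈ K, (∃ j : ℕ, orderOf x = 2 ^ j) ∧ x ∉ centralizer (K : Set G) := by
  by_contra hno
  push Not at hno
  have : Fact (Nat.Prime 2) := ⟨Nat.prime_two⟩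
  obtain ⟨P⟩ : Nonempty (Sylow 2 ↥K) := inferInstance
  have hP : (P : Subgroup ↥K) ≤ center ↥K := by
    intro p hp
    obtain ⟨j, hj⟩ := IsPGroup.iff_orderOf.1 P.isPGroup' ⟨p, hp⟩
    rw [← Subgroup.orderOf_coe, ← Subgroup.orderOf_coe] at hj
    exact mem_center_iff.2 fun k => Subtype.ext
      (mem_centralizer_iff.1 (hno _ p.2 ⟨j, hj⟩) k k.2)
  have hodd : Odd (Nat.card (↥K ⧸ center ↥K)) := by
    refine (Nat.odd_iff.2 (Nat.two_dvd_ne_zero.1 P.not_dvd_index) : Odd (P : Subgroup ↥K).index).of_dvd_nat ?_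
    rw [← index_eq_card]
    exact index_dvd_of_le hP
  have := Cfsg.Agent.S0205.result hodd
  have := hK.2.2
  refine CfsgLib.Components.IsQuasisimple.not_isMulCommutative hK.2 ?_
  have hc : IsMulCommutative (↥K ⧸ center ↥K) := ⟨⟨IsSimpleGroup.comm_iff_isSolvable.2 inferInstance⟩⟩
  have hle : commutator ↥K ≤ center ↥K :=
    Subgroup.Normal.quotient_commutative_iff_commutator_le.1 hc
  have := hK.2.1
  rw [Group.IsPerfect.commutator_eq_top] at hle
  exact ⟨⟨fun a b => (mem_center_iff.1 (hle (mem_top b)) a)⟩⟩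

/-- Only one component. -/
theorem component_unique {G : Type*} [Group G] [Finite G]
    (hP : ∀ (p : ℕ), p.Prime → ∀ A B : Subgroup G, IsCyclic ↥A → IsCyclic ↥B → IsPGroup p ↥A →
      Nat.card ↥A = Nat.card ↥B → ∃ g : G, B = A.map (MulAut.conj g).toMonoidHom)
    {K L : Subgroup G} (hK : Cfsg.IsComponent K) (hL : Cfsg.IsComponent L) : K = L := by
  by_contra hne
  obtain ⟨x, hxK, ⟨i, hi⟩, hx⟩ := exists_two_element hK
  obtain ⟨y, hyL, ⟨j, hj⟩, hy⟩ := exists_two_element hL
  wlog hij : j ≤ i generalizing K L x y i j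
  · exact this hL hK (Ne.symm hne) y hyL hy j hj x hxK hx i hi (le_of_not_ge hij)
  have comm : ∀ {A B : Subgroup G}, Cfsg.IsComponent A → Cfsg.IsComponent B → A ≠ B →
      ∀ a ∈ A, a ∈ centralizer (B : Set G) := fun hA hB hAB a ha =>
    commutator_eq_bot_iff_le_centralizer.1 (CfsgLib.Components.components_commute hA hB hAB) ha
  have hxy : Commute x y := (mem_centralizer_iff.1 (comm hK hL hne x hxK) y hyL).symm
  set w := x * y with hwdef
  have hw : w ^ 2 ^ i = 1 := by
    rw [hwdef, hxy.mul_pow]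
    nth_rw 1 [← hi]
    rw [pow_orderOf_eq_one, one_mul]
    exact orderOf_dvd_iff_pow_eq_one.1 (hj ▸ pow_dvd_pow 2 hij)
  obtain ⟨d, hdi, hd⟩ := (Nat.dvd_prime_pow Nat.prime_two).1 (orderOf_dvd_of_pow_eq_one hw)
  have hz : orderOf (x ^ 2 ^ (i - d)) = 2 ^ d := by
    rw [orderOf_pow' x (pow_ne_zero _ (by norm_num)), hi,
      Nat.gcd_eq_right (pow_dvd_pow 2 (Nat.sub_le i d)), Nat.pow_div (Nat.sub_le i d) (by norm_num),
      Nat.sub_sub_self hdi]
  obtain ⟨g, hg⟩ := hP 2 Nat.prime_two (zpowers (x ^ 2 ^ (i - d))) (zpowers w) inferInstance inferInstance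
    (IsPGroup.of_card (n := d) (by rw [Nat.card_zpowers, hz])) (by rw [Nat.card_zpowers, Nat.card_zpowers, hz, hd])
  have hwK : w ∈ K.map (MulAut.conj g).toMonoidHom := by
    have h : zpowers w ≤ K.map (MulAut.conj g).toMonoidHom := by
      rw [hg]
      exact map_mono (zpowers_le.2 (K.pow_mem hxK _))
    exact h (mem_zpowers w)
  have hK' := CfsgLib.Components.isComponent_conj hK g
  by_cases hKK : K.map (MulAut.conj g).toMonoidHom = K
  · -- then `w` centralises `L`
    refine hy ?_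
    rw [show y = x⁻¹ * w by rw [hwdef, inv_mul_cancel_left]]
    exact mul_mem (inv_mem (comm hK hL hne x hxK)) (comm hK' hL (hKK.trans_ne hne) w hwK)
  · refine hx ?_
    rw [show x = w * y⁻¹ by rw [hwdef, mul_inv_cancel_right]]
    exact mul_mem (comm hK' hK hKK w hwK) (inv_mem (comm hL hK (Ne.symm hne) y hyL))

/-- Let G be a finite group in which, for every prime p, any two cyclic p-subgroups of the same order are conjugate. If the layer E(G), the subgroup generated by the components of G, is non-trivial, then E(G)/Z(E(G)) is a non-abelian simple group. -/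
theorem result {G : Type*} [Group G] [Finite G] (hP : ∀ (p : ℕ), p.Prime → ∀ A B : Subgroup G, IsCyclic ↥A → IsCyclic ↥B → IsPGroup p ↥A → Nat.card ↥A = Nat.card ↥B → ∃ g : G, B = A.map (MulAut.conj g).toMonoidHom) (hE : Cfsg.layer G ≠ ⊥) :
    IsSimpleGroup (↥(Cfsg.layer G) ⧸ Subgroup.center ↥(Cfsg.layer G)) ∧ ¬ IsMulCommutative (↥(Cfsg.layer G) ⧸ Subgroup.center ↥(Cfsg.layer G)) := by
  obtain ⟨K, hK⟩ : ∃ K : Subgroup G, Cfsg.IsComponent K := by
    by_contra h
    push Not at h
    exact hE (CfsgLib.Components.layer_eq_bot_iff.2 h)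
  have hEK : Cfsg.layer G = K := le_antisymm
    (CfsgLib.Components.layer_le_iff.2 fun L hL => (component_unique hP hL hK).le)
    (CfsgLib.Components.le_layer hK)
  rw [hEK]
  refine ⟨hK.2.2, fun hc => CfsgLib.Components.IsQuasisimple.not_isMulCommutative hK.2 ?_⟩
  have := hK.2.1
  have hle : commutator ↥K ≤ center ↥K :=
    Subgroup.Normal.quotient_commutative_iff_commutator_le.1 hc
  rw [Group.IsPerfect.commutator_eq_top] at hle
  exact ⟨⟨fun a b => (mem_center_iff.1 (hle (mem_top b)) a)⟩⟩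

end Cfsg.Agent.S3915
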