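import Cfsg.Statements.S3917
import Cfsg.Agent.Lib.Orders.DirectFactor

set_option autoImplicit false
open Cfsg

namespace Cfsg.Agent.S3917

/-- Say that a group has self-centralizing non-cyclic subgroups when every non-cyclic subgroup H satisfies C_G(H) ≤ H. A finite abelian group with self-centralizing non-cyclic subgroups is cyclic or elementary abelian of order p² for a prime p. -/
theorem result {G : Type*} [CommGroup G] [Finite G] (hX : (∀ H : Subgroup G, ¬ IsCyclic ↥H → Subgroup.centralizer (H : Set G) ≤ H)) :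
    IsCyclic G ∨ ∃ p : ℕ, p.Prime ∧ Nat.card G = p ^ 2 ∧ Monoid.exponent G = p := by
  by_cases hcyc : IsCyclic G
  · exact Or.inl hcyc
  refine Or.inr ?_
  obtain ⟨p, hp, H, hH, hHe⟩ := CfsgLib.Orders.exists_pp_of_not_isCyclic hcyc
  have := Fact.mk hp
  have hnc : ¬ IsCyclic H := fun h => by
    have h1 := h.exponent_eq_card
    rw [hH] at h1
    have h2 : Monoid.exponent H ∣ p := Monoid.exponent_dvd_of_forall_pow_eq_one hHe
    rw [h1] at h2
    have := Nat.le_of_dvd hp.pos h2
    have := hp.two_le
    nlinarith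
  have htop : H = ⊤ := by
    rw [eq_top_iff]
    intro x _
    exact hX H hnc (Subgroup.mem_centralizer_iff.2 fun h _ => mul_comm h x)
  subst htop
  rw [Subgroup.card_top] at hH
  refine ⟨p, hp, hH, ?_⟩
  rcases (Nat.dvd_prime hp).1 (Monoid.exponent_dvd_of_forall_pow_eq_one fun x : G =>
    congrArg Subtype.val (hHe ⟨x, trivial⟩)) with h | h
  · exfalso
    have : Subsingleton G := Monoid.exp_eq_one_iff.1 h
    exact hcyc isCyclic_of_subsingleton
  · exact h

end Cfsg.Agent.S3917
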