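import Cfsg.Statements.S3918
import Cfsg.Agent.Lib.Transfer.RankTwo
import Cfsg.Agent.Lib.OddLocal.Puig
import Cfsg.Agent.Lib.PGroups.MaxAbelian
import Cfsg.Agent.Lib.Orders.Elementary

set_option autoImplicit false
open Cfsg
open scoped Pointwise commutatorElement

namespace Cfsg.Agent.S3918

/-- Say that a group has self-centralizing non-cyclic subgroups when every non-cyclic subgroup H satisfies C_G(H) ≤ H. For an odd prime p, a finite non-abelian p-group has self-centralizing non-cyclic subgroups if and only if it has order p³. -/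
theorem result {G : Type*} [Group G] [Finite G] {p : ℕ} [Fact p.Prime] (hp : p ≠ 2) (hG : IsPGroup p G) (hna : ¬ IsMulCommutative G) :
    (∀ H : Subgroup G, ¬ IsCyclic ↥H → Subgroup.centralizer (H : Set G) ≤ H) ↔ Nat.card G = p ^ 3 := by
  have hp' : p.Prime := Fact.out
  have : Nontrivial G := not_subsingleton_iff_nontrivial.1 fun h =>
    hna ⟨⟨fun a b => Subsingleton.elim _ _⟩⟩
  obtain ⟨m, hm⟩ := IsPGroup.iff_card.1 hG
  have hnc : ¬ IsCyclic G := fun h => hna h.isMulCommutative
  have hm3 : 3 ≤ m := by
    by_contra hlt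
    push Not at hlt
    have : m = 1 ∨ m = 2 := by
      rcases Nat.eq_zero_or_pos m with rfl | h
      · exact absurd (hm.trans (pow_zero p)) Finite.one_lt_card.ne'
      · omega
    rcases this with rfl | rfl
    · exact hnc (isCyclic_of_prime_card (hm.trans (pow_one p)))
    · exact hna (IsPGroup.isMulCommutative_of_card_eq_prime_sq hm)
  constructor
  · intro h
    obtain ⟨E, hEn, hE, hEc⟩ := CfsgLib.Transfer.exists_normal_elementary_card_sq hp hG hnc
    have hEnc : ¬ IsCyclic E := fun hc => by
      classical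
      have := Fintype.ofFinite E
      have h2 := @IsCyclic.card_pow_eq_one_le E _ _ _ hc p hp'.pos
      rw [Finset.filter_true_of_mem (fun (a : E) _ => Subtype.ext (hE.2 a a.2)), Finset.card_univ,
        ← Nat.card_eq_fintype_card, hEc] at h2
      nlinarith [hp'.two_le]
    have hC : Subgroup.centralizer (E : Set G) ≤ E := h E hEnc
    have hEne : E ≠ ⊥ := by
      rintro rfl
      rw [Subgroup.card_bot] at hEc
      exact (Nat.one_lt_pow two_ne_zero hp'.one_lt).ne hEc
    obtain ⟨z, hzE, hz1, hzC⟩ := CfsgLib.OddLocal.exists_ne_one_mem_center hG (N := E) hEne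
    set Z := Subgroup.zpowers z
    have hZC : Z ≤ Subgroup.center G := Subgroup.zpowers_le.2 hzC
    have hZn : Z.Normal := ⟨fun n hn g => by
      rw [Subgroup.mem_center_iff.1 (hZC hn) g, mul_inv_cancel_right]; exact hn⟩
    have hZE : Z ≤ E := Subgroup.zpowers_le.2 hzE
    have hzo : orderOf z = p := orderOf_eq_prime (hE.2 z hzE) hz1
    have hlt : Z < E := lt_of_le_of_ne hZE fun he => by
      rw [← he, Nat.card_zpowers, hzo, sq] at hEc
      nlinarith [hp'.two_le]
    obtain ⟨e, heE, heZ⟩ := SetLike.exists_of_lt hlt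
    let π := QuotientGroup.mk' Z
    have hmapn : (E.map π).Normal := hEn.map π (QuotientGroup.mk'_surjective Z)
    have hmap : Nat.card (E.map π) = p := by
      have h1 : Nat.card (E.map π) * Nat.card Z = Nat.card E := by
        rw [CfsgLib.Core.card_map_mk', ← Nat.card_congr (Subgroup.subgroupOfEquivOfLe hZE).toEquiv]
        exact (mul_comm _ _).trans (Z.subgroupOf E).card_mul_index
      rw [hEc, Nat.card_zpowers, hzo, sq] at h1
      exact Nat.eq_of_mul_eq_mul_right hp'.pos h1
    have hcen := CfsgLib.PGroups.le_center_of_card_prime (hG.to_quotient Z) hmap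
      (Subgroup.mem_map_of_mem π heE)
    have hCe : Subgroup.centralizer ({e} : Set G) ≤ E := by
      refine le_trans (fun y hy => ?_) hC
      rw [Subgroup.mem_centralizer_iff]
      have hEe : E ≤ Subgroup.closure ({z, e} : Set G) := by
        set W := Subgroup.closure ({z, e} : Set G)
        have hWE : W ≤ E := by
          rw [Subgroup.closure_le]
          exact Set.insert_subset hzE (Set.singleton_subset_iff.2 heE)
        obtain ⟨i, hi, hi'⟩ := (Nat.dvd_prime_pow hp').1 (hEc ▸ Subgroup.card_dvd_of_le hWE)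
        have hlt' : Z < W := lt_of_le_of_ne
          (Subgroup.zpowers_le.2 (Subgroup.subset_closure (Set.mem_insert z _)))
          fun he => heZ (he.symm ▸ Subgroup.subset_closure (Set.mem_insert_of_mem z rfl))
        refine (Subgroup.eq_of_le_of_card_ge hWE ?_).ge
        by_contra hbig
        push Not at hbig
        rw [hEc, hi'] at hbig
        have hi1 : i < 2 := (Nat.pow_lt_pow_iff_right hp'.one_lt).1 hbig
        have hcard : Nat.card W ≤ Nat.card Z := by
          rw [Nat.card_zpowers, hzo, hi']
          exact (Nat.pow_le_pow_right hp'.pos (show i ≤ 1 by omega)).trans_eq (pow_one p)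
        exact hlt'.ne (Subgroup.eq_of_le_of_card_ge hlt'.le hcard)
      intro w hw
      have hcl : Subgroup.closure ({z, e} : Set G) ≤ Subgroup.centralizer ({y} : Set G) := by
        rw [Subgroup.closure_le]
        rintro a (rfl | rfl)
        · exact Subgroup.mem_centralizer_singleton_iff.2 (Subgroup.mem_center_iff.1 hzC y).symm
        · exact Subgroup.mem_centralizer_singleton_iff.2 (Subgroup.mem_centralizer_singleton_iff.1 hy).symm
      exact Subgroup.mem_centralizer_singleton_iff.1 (hcl (hEe hw))
    have hidx : (Subgroup.centralizer ({e} : Set G)).index ≤ p := by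
      rw [← CfsgLib.Orders.card_isConj]
      refine le_trans ?_ (hzo.le.trans' (Nat.card_zpowers z).le)
      refine Nat.card_le_card_of_injective (fun a => (⟨e⁻¹ * a.1, ?_⟩ : Z)) fun a b hab => ?_
      · obtain ⟨g, hg⟩ := isConj_iff.1 a.2
        rw [← QuotientGroup.eq_one_iff, ← hg]
        show π (e⁻¹ * (g * e * g⁻¹)) = 1
        rw [map_mul, map_mul, map_mul, map_inv, map_inv, Subgroup.mem_center_iff.1 hcen (π g)]
        group
      · exact Subtype.ext (mul_left_cancel (congrArg Subtype.val hab))
    have h1 := Subgroup.card_mul_index (Subgroup.centralizer ({e} : Set G))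
    have h2 : Nat.card (Subgroup.centralizer ({e} : Set G)) ≤ p ^ 2 :=
      hEc ▸ Nat.le_of_dvd Nat.card_pos (Subgroup.card_dvd_of_le hCe)
    have h3 : p ^ m ≤ p ^ 3 := by
      rw [← hm, ← h1, pow_succ p 2]
      exact Nat.mul_le_mul h2 hidx
    have h4 := (Nat.pow_le_pow_iff_right hp'.one_lt).1 h3
    rw [hm, show m = 3 by omega]
  · intro hc H hH
    obtain ⟨i, hi, hi'⟩ := (Nat.dvd_prime_pow hp').1 (hc ▸ Subgroup.card_subgroup_dvd_card H)
    have h2 : 2 ≤ i := by
      by_contra hlt
      push Not at hlt
      have hcase : i = 0 ∨ i = 1 := by omega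
      rcases hcase with rfl | rfl
      · exact hH (by rw [pow_zero, Subgroup.card_eq_one] at hi'; rw [hi']; infer_instance)
      · exact hH (isCyclic_of_prime_card (hi'.trans (pow_one p)))
    intro y hy
    by_contra hyH
    have hi3 : i = 2 := by
      by_contra hne
      exact hyH ((Subgroup.eq_top_of_card_eq H (by rw [hi', hc, show i = 3 by omega])).symm ▸ Subgroup.mem_top y)
    subst hi3
    have hHab : IsMulCommutative H := IsPGroup.isMulCommutative_of_card_eq_prime_sq hi'
    set W := Subgroup.centralizer (H : Set G)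
    have hHW : H ≤ W := fun a ha => Subgroup.mem_centralizer_iff.2 fun b hb =>
      congrArg Subtype.val (hHab.is_comm.comm ⟨b, hb⟩ ⟨a, ha⟩)
    have hWtop : W = ⊤ := by
      obtain ⟨j, hj, hj'⟩ := (Nat.dvd_prime_pow hp').1 (hc ▸ Subgroup.card_subgroup_dvd_card W)
      have hlt : Nat.card H < Nat.card W := Nat.lt_of_le_of_ne
        (Nat.le_of_dvd Nat.card_pos (Subgroup.card_dvd_of_le hHW))
        fun he => hyH ((Subgroup.eq_of_le_of_card_ge hHW he.ge).symm ▸ hy)
      rw [hi', hj'] at hlt
      have := (Nat.pow_lt_pow_iff_right hp'.one_lt).1 hlt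
      exact Subgroup.eq_top_of_card_eq W (by rw [hj', hc, show j = 3 by omega])
    have hHZ : H ≤ Subgroup.center G := fun a ha => Subgroup.mem_center_iff.2 fun g =>
      (Subgroup.mem_centralizer_iff.1 (hWtop.symm ▸ Subgroup.mem_top g : g ∈ W) a ha).symm
    apply hna
    have hq : IsCyclic (G ⧸ Subgroup.center G) := by
      have h1 := Subgroup.card_eq_card_quotient_mul_card_subgroup (Subgroup.center G)
      have h2' : p ^ 2 ∣ Nat.card (Subgroup.center G) := hi' ▸ Subgroup.card_dvd_of_le hHZ
      obtain ⟨k, hk, hk'⟩ := (Nat.dvd_prime_pow hp').1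
        (hc ▸ Subgroup.card_quotient_dvd_card (Subgroup.center G))
      obtain ⟨c, hc'⟩ := h2'
      rw [hc, hk', hc', ← mul_assoc, ← pow_add] at h1
      have : k + 2 ≤ 3 := (Nat.pow_le_pow_iff_right hp'.one_lt).1
        (Nat.le_of_dvd (pow_pos hp'.pos 3) ⟨c, h1⟩)
      have hcase : k = 0 ∨ k = 1 := by omega
      rcases hcase with rfl | rfl
      · rw [pow_zero] at hk'
        have : Subsingleton (G ⧸ Subgroup.center G) := (Nat.card_eq_one_iff_unique.1 hk').1
        infer_instance
      · exact isCyclic_of_prime_card (hk'.trans (pow_one p))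
    exact ⟨⟨commutative_of_cyclic_center_quotient (QuotientGroup.mk' (Subgroup.center G))
      (by rw [QuotientGroup.ker_mk'])⟩⟩

end Cfsg.Agent.S3918
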