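import Cfsg.Statements.S3920
import Cfsg.Agent.Lib.Orders.DihedralSubgroups

set_option autoImplicit false
open Cfsg
open scoped Pointwise commutatorElement

namespace Cfsg.Agent.S3920

/-- Say that a group has self-centralizing non-cyclic subgroups when every non-cyclic subgroup H satisfies C_G(H) ≤ H. For n ≥ 3, the dihedral group of order 2n has self-centralizing non-cyclic subgroups if and only if n is odd or a power of 2. -/
theorem result (n : ℕ) (hn : 3 ≤ n) : (∀ H : Subgroup (DihedralGroup n), ¬ IsCyclic ↥H → Subgroup.centralizer (H : Set (DihedralGroup n)) ≤ H) ↔ (Odd n ∨ ∃ k : ℕ, n = 2 ^ k) := by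
  haveI : NeZero n := ⟨by omega⟩
  constructor
  · intro h
    by_contra hc
    push Not at hc
    obtain ⟨hno, hpow⟩ := hc
    rw [Nat.not_odd_iff_even] at hno
    obtain ⟨k, m, hm, hn'⟩ := Nat.exists_eq_two_pow_mul_odd (show n ≠ 0 by omega)
    have hm3 : 3 ≤ m := by
      by_contra hlt
      obtain ⟨t, rfl⟩ := hm
      obtain rfl : t = 0 := by omega
      exact hpow k (by simpa using hn')
    obtain ⟨s, hs⟩ := hno
    let A : AddSubgroup (ZMod n) := (AddMonoidHom.mulRight (m : ZMod n)).ker
    have hd : ((2 ^ k : ℕ) : ZMod n) ∈ A := by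
      show ((2 ^ k : ℕ) : ZMod n) * (m : ZMod n) = 0
      rw [← Nat.cast_mul, ← hn', ZMod.natCast_self]
    have hd2 : ((2 ^ k : ℕ) : ZMod n) + ((2 ^ k : ℕ) : ZMod n) ≠ 0 := fun he => by
      rw [← Nat.cast_add, ZMod.natCast_eq_zero_iff] at he
      have h1 : 0 < 2 ^ k := Nat.two_pow_pos k
      have h2 := Nat.le_of_dvd (by omega) he
      rw [hn'] at h2
      nlinarith
    let H := CfsgLib.Orders.dihedralSub A
    have hcomm : ¬ IsCyclic H := fun hcyc => by
      have h1 := hcyc.isMulCommutative.is_comm.comm ⟨DihedralGroup.r _, hd⟩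
        ⟨DihedralGroup.sr 0, CfsgLib.Orders.sr_mem_dihedralSub.2 A.zero_mem⟩
      exact hd2 (CfsgLib.Orders.commute_r_sr_iff.1 (congrArg Subtype.val h1))
    have hss : (s : ZMod n) + (s : ZMod n) = 0 := by rw [← Nat.cast_add, ← hs, ZMod.natCast_self]
    have hmem : DihedralGroup.r (s : ZMod n) ∈ Subgroup.centralizer (H : Set (DihedralGroup n)) := by
      rw [Subgroup.mem_centralizer_iff]
      rintro (j | j) -
      · exact CfsgLib.Orders.commute_r_r j _
      · exact (CfsgLib.Orders.commute_r_sr_iff.2 hss).symm
    have h1 : (s : ZMod n) * (m : ZMod n) = 0 := h H hcomm hmem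
    rw [← Nat.cast_mul, ZMod.natCast_eq_zero_iff] at h1
    obtain ⟨t, rfl⟩ := hm
    have h2 : n ∣ s * (2 * t) := ⟨t, by rw [hs]; ring⟩
    have h3 : n ∣ s := by
      have := Nat.dvd_sub h1 h2
      rwa [← Nat.mul_sub, show 2 * t + 1 - 2 * t = 1 by omega, mul_one] at this
    have := Nat.le_of_dvd (by omega) h3
    omega
  · intro hn2 H hH g hg
    obtain ⟨⟨i, hi⟩, d, hd, hdH⟩ := CfsgLib.Orders.exists_sr_r_mem hH
    rw [Subgroup.mem_centralizer_iff] at hg
    -- rotations of order two lie in `H`
    have hinv : ∀ e : ZMod n, e + e = 0 → DihedralGroup.r e ∈ H := by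
      intro e he
      rcases hn2 with hodd | ⟨k, hk⟩
      · rw [CfsgLib.Orders.eq_zero_of_add_self hodd he, DihedralGroup.r_zero]; exact one_mem H
      · by_cases he0 : e = 0
        · rw [he0, DihedralGroup.r_zero]; exact one_mem H
        -- the cyclic group generated by `r d` has even order
        obtain ⟨v, -, hv⟩ := (Nat.dvd_prime_pow Nat.prime_two).1
          (show orderOf (DihedralGroup.r d) ∣ 2 ^ k by
            have h0 := orderOf_dvd_of_mem_zpowers (show DihedralGroup.r d ∈
              Subgroup.zpowers (DihedralGroup.r 1 : DihedralGroup n) from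
              ⟨d.val, by simp [DihedralGroup.r_one_zpow]⟩)
            rw [DihedralGroup.orderOf_r_one] at h0
            exact h0.trans (dvd_of_eq hk))
        have hv0 : v ≠ 0 := fun h0 => hd (by
          rw [h0, pow_zero, orderOf_eq_one_iff, DihedralGroup.one_def] at hv
          exact DihedralGroup.r.inj hv)
        have horde : orderOf (DihedralGroup.r e) = 2 := orderOf_eq_prime
          (by rw [sq, DihedralGroup.r_mul_r, he, DihedralGroup.r_zero])
          (fun h0 => he0 (DihedralGroup.r.inj (h0.trans DihedralGroup.one_def)))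
        have hordw : orderOf (DihedralGroup.r d ^ 2 ^ (v - 1)) = 2 := by
          rw [orderOf_pow_of_dvd (pow_ne_zero _ two_ne_zero) (hv ▸ pow_dvd_pow 2 (Nat.sub_le v 1)), hv,
            Nat.pow_div (Nat.sub_le v 1) two_pos, Nat.sub_sub_self (Nat.one_le_iff_ne_zero.2 hv0), pow_one]
        rw [DihedralGroup.r_pow] at hordw
        set e' := d * ((2 ^ (v - 1) : ℕ) : ZMod n)
        have he' : e' + e' = 0 := by
          have := pow_orderOf_eq_one (DihedralGroup.r e')
          rw [hordw, sq, DihedralGroup.r_mul_r, ← DihedralGroup.r_zero] at this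
          exact DihedralGroup.r.inj this
        have he'0 : e' ≠ 0 := fun h0 => by
          rw [h0, DihedralGroup.r_zero, orderOf_one] at hordw
          exact absurd hordw (by norm_num)
        have key : ∀ x : ZMod n, x + x = 0 → x ≠ 0 → 2 * x.val = n := fun x hx hx0 => by
          have h1 : ((2 * x.val : ℕ) : ZMod n) = 0 := by
            rw [Nat.cast_mul, ZMod.natCast_zmod_val, Nat.cast_two, two_mul, hx]
          rw [ZMod.natCast_eq_zero_iff] at h1
          obtain ⟨t, ht⟩ := h1
          have h2 := ZMod.val_lt x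
          have h3 : x.val ≠ 0 := fun h0 => hx0 ((ZMod.val_eq_zero x).1 h0)
          have : t = 1 := by
            rcases Nat.lt_trichotomy t 1 with h4 | h4 | h4
            · obtain rfl : t = 0 := by omega
              omega
            · exact h4
            · have := Nat.mul_le_mul_left n (show 2 ≤ t by omega)
              omega
          rw [ht, this, mul_one]
        have hee : e = e' := ZMod.val_injective n (by
          have := key e he he0; have := key e' he' he'0; omega)
        rw [hee, ← DihedralGroup.r_pow]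
        exact pow_mem hdH _
    rcases g with j | j
    · exact hinv j (CfsgLib.Orders.commute_r_sr_iff.1 (hg _ hi).symm)
    · have h1 := mul_mem hi (hinv _ (CfsgLib.Orders.commute_sr_sr_iff.1 (hg _ hi)))
      rwa [DihedralGroup.sr_mul_r, add_sub_cancel] at h1

end Cfsg.Agent.S3920
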