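import Cfsg.Statements.S3921
import Cfsg.Agent.Lib.PLocal.SelfCentNoncyclic.Forward
import Cfsg.Agent.Lib.PLocal.SelfCentNoncyclic.Converse
import Cfsg.Agent.Lib.Classical.Dickson.MinimalSimple

set_option autoImplicit false
open Cfsg

namespace Cfsg.Agent.S3921

/-- Say that a group has self-centralizing non-cyclic subgroups when every non-cyclic subgroup H satisfies C_G(H) ≤ H. A non-abelian finite simple group has self-centralizing non-cyclic subgroups if and only if it is isomorphic to PSL₂(q) with q = 4, q = 9, or q a prime of the form 2^k + 1 or 2^k − 1. -/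
theorem result {G : Type*} [Group G] [Finite G] [IsSimpleGroup G] (hna : ¬ IsMulCommutative G) :
    (∀ H : Subgroup G, ¬ IsCyclic ↥H → Subgroup.centralizer (H : Set G) ≤ H) ↔ ∃ (F : Type) (_ : Field F) (_ : Fintype F),
      (Fintype.card F = 4 ∨ Fintype.card F = 9 ∨ ((Fintype.card F).Prime ∧ ∃ k : ℕ, Fintype.card F = 2 ^ k + 1 ∨ Fintype.card F = 2 ^ k - 1)) ∧
      Nonempty (G ≃* Matrix.ProjectiveSpecialLinearGroup (Fin 2) F) := by
  open CfsgLib.PLocal.SelfCentNoncyclic in
  constructor
  · intro hP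
    obtain ⟨F, iF, iFt, hodd, h5, ⟨e⟩, hcent⟩ := exists_psl (G := G) hP hna
    refine ⟨F, iF, iFt, ?_, ⟨e⟩⟩
    obtain ⟨p, hp⟩ := CharP.exists F
    haveI : Fact p.Prime := ⟨CharP.char_is_prime F p⟩
    obtain ⟨f, hf, hqf⟩ := CfsgLib.Classical.Dickson.exists_char_pow (F := F) p
    have hpp := (Fact.out : p.Prime)
    have hp2 : p ≠ 2 := by
      rintro rfl
      rw [hqf] at hodd
      exact hodd.not_two_dvd_nat (dvd_pow_self 2 (by omega))
    set q := Fintype.card F with hq
    have hq2 : q % 2 = 1 := Nat.odd_iff.1 hodd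
    have hgcd : Nat.gcd 2 (q - 1) = 2 := Nat.gcd_eq_left (by omega)
    have hrange := CfsgLib.Recog.PSLTwoOrders.range_orderOf (F := F) p (by rw [← hq]; omega)
    rw [← hq, hgcd] at hrange
    -- a torus order that is even is a power of two
    have key : ∀ T : ℕ, (T = (q - 1) / 2 ∨ T = (q + 1) / 2) → 2 ∣ T → 0 < T →
        ∀ r, r.Prime → r ∣ T → r = 2 := by
      intro T hT h2 hpos r hr hrT
      by_contra hne
      have hdvd : 2 * r ∣ T :=
        Nat.Coprime.mul_dvd_of_dvd_of_dvd ((Nat.coprime_primes Nat.prime_two hr).2 (Ne.symm hne)) h2 hrT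
      obtain ⟨g, hg⟩ : 2 * r ∈ Set.range (orderOf : Matrix.ProjectiveSpecialLinearGroup (Fin 2) F → ℕ) := by
        rw [hrange]
        rcases hT with rfl | rfl
        · exact Or.inr (Or.inl hdvd)
        · exact Or.inr (Or.inr hdvd)
      have hg' : orderOf (e.symm g) = 2 * r := by rw [e.symm.orderOf_eq, hg]
      have hz : orderOf (e.symm g ^ r) = 2 := by
        rw [orderOf_pow_of_dvd hr.ne_zero (hg' ▸ dvd_mul_left r 2), hg', Nat.mul_div_cancel _ hr.pos]
      have hx : orderOf (e.symm g ^ 2) = r := by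
        rw [orderOf_pow_of_dvd two_ne_zero (hg' ▸ dvd_mul_right 2 r), hg', Nat.mul_div_cancel_left _ two_pos]
      have h1 := hcent _ (e.symm g ^ 2) hz ((Commute.refl (e.symm g)).pow_pow 2 r).eq
        (by rw [hx]; exact hr.odd_of_ne_two hne)
      rw [h1, orderOf_one] at hx
      exact hr.ne_one hx.symm
    have pow2 : ∀ T : ℕ, (T = (q - 1) / 2 ∨ T = (q + 1) / 2) → 2 ∣ T → 0 < T → ∃ k, T = 2 ^ k :=
      fun T hT h2 hpos => ⟨_, Nat.eq_prime_pow_of_unique_prime_dvd hpos.ne' fun {r} hr hrT => key T hT h2 hpos r hr hrT⟩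
    obtain ⟨k, hk⟩ : ∃ k, p ^ f = 2 ^ k + 1 ∨ p ^ f + 1 = 2 ^ k := by
      rw [← hqf]
      by_cases h : 2 ∣ (q - 1) / 2
      · obtain ⟨k, hk⟩ := pow2 _ (Or.inl rfl) h (by omega)
        exact ⟨k + 1, Or.inl (by rw [pow_succ, ← hk]; omega)⟩
      · obtain ⟨k, hk⟩ := pow2 _ (Or.inr rfl) (by omega) (by omega)
        exact ⟨k + 1, Or.inr (by rw [pow_succ, ← hk]; omega)⟩
    rcases prime_pow_near_two_pow hpp hp2 hf hk with h9 | rfl
    · exact Or.inr (Or.inl (hqf.trans h9))
    · rw [pow_one] at hqf hk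
      refine Or.inr (Or.inr ⟨hqf ▸ hpp, k, ?_⟩)
      rw [hqf]
      omega
  · rintro ⟨F, iF, iFt, hcase, ⟨e⟩⟩
    refine scn_of_equiv e ?_
    rcases hcase with h4 | h9 | ⟨hqp, k, hk⟩
    · exact scn_psl_four h4
    · haveI : Fact (Nat.Prime 3) := ⟨Nat.prime_three⟩
      haveI : CharP F 3 := charP_of_card_eq_prime_pow (f := 2) (by rw [h9]; norm_num)
      exact scn_psl_odd (F := F) 3 (j := 2) (by omega) (by omega) (Or.inr (by rw [h9]; norm_num))
        (Or.inl (by rw [h9]; norm_num))
    · haveI : Fact (Fintype.card F).Prime := ⟨hqp⟩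
      haveI : CharP F (Fintype.card F) := charP_of_card_eq_prime_pow (f := 1) (by rw [pow_one])
      have h4 : 4 ≤ Fintype.card F := by
        by_contra hlt
        have h1 : 1 < Fintype.card F := hqp.one_lt
        haveI : IsSimpleGroup (Matrix.ProjectiveSpecialLinearGroup (Fin 2) F) :=
          IsSimpleGroup.isSimpleGroup_of_surjective e.toMonoidHom e.surjective
        have hc := CfsgLib.Classical.Dickson.gcd_mul_card_psl (F := F) rfl
        rcases (show Fintype.card F = 2 ∨ Fintype.card F = 3 by omega) with h | h <;> rw [h] at hc <;> norm_num at hc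
        · exact CfsgLib.PLocal.SelfCentNoncyclic.not_simple_six
            (Matrix.ProjectiveSpecialLinearGroup (Fin 2) F) (by omega)
        · refine CfsgLib.PGroups.BSW.card_ne_twelve (G := Matrix.ProjectiveSpecialLinearGroup (Fin 2) F) ?_
          omega
      have hodd : Fintype.card F % 2 = 1 :=
        Nat.odd_iff.1 (hqp.odd_of_ne_two (by omega))
      rcases k with _ | k
      · exfalso; rw [pow_zero] at hk; omega
      refine scn_psl_odd (F := F) (Fintype.card F) (j := k) (by omega) hodd (Or.inl rfl) ?_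
      rw [pow_succ] at hk
      rcases hk with hk | hk
      · exact Or.inl (by omega)
      · exact Or.inr (by omega)

end Cfsg.Agent.S3921
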