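import Cfsg.Statements.S3939
import Cfsg.Agent.Lib.Orders.Parts
import Cfsg.Agent.Lib.OddLocal.FittingHall
import Cfsg.Agent.Lib.PGroups.Basic
import Cfsg.Agent.Lib.Orders.Real

set_option autoImplicit false
open Cfsg
open scoped Pointwise commutatorElement

namespace Cfsg.Agent.S3939

/-- In a finite group G the set of elements g such that the subgroup generated by g and x is nilpotent for every x ∈ G is exactly the hypercenter of G (the last term of the upper central series). -/
theorem result {G : Type*} [Group G] [Finite G] (g : G) :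
    (∀ x : G, Group.IsNilpotent ↥(Subgroup.closure ({x, g} : Set G))) ↔ g ∈ ⨆ n : ℕ, Subgroup.upperCentralSeries G n := by
  classical
  -- the upper central series is stationary from some step on
  obtain ⟨n, hn⟩ : ∃ n, ∀ m, n ≤ m → Subgroup.upperCentralSeries G m = Subgroup.upperCentralSeries G n := by
    obtain ⟨n, hn⟩ := WellFoundedGT.monotone_chain_condition
      ⟨Subgroup.upperCentralSeries G, Subgroup.upperCentralSeries_mono (G := G)⟩
    exact ⟨n, fun m hm => (hn m hm).symm⟩
  set Z := Subgroup.upperCentralSeries G n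
  have hZ : (⨆ m : ℕ, Subgroup.upperCentralSeries G m) = Z := by
    refine le_antisymm (iSup_le fun m => ?_) (le_iSup (Subgroup.upperCentralSeries G) n)
    rcases le_total n m with hm | hm
    · exact (hn m hm).le
    · exact Subgroup.upperCentralSeries_mono G hm
  have hstab : ∀ w : G, (∀ y : G, ⁅w, y⁆ ∈ Z) → w ∈ Z := fun w hw =>
    (hn (n + 1) n.le_succ).le (Subgroup.mem_upperCentralSeries_succ_iff.2 hw)
  rw [hZ]
  constructor
  · intro hg
    refine CfsgLib.HallGen.mem_of_primePow_parts Z g fun u hu p k hp huk => ?_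
    have := Fact.mk hp
    have hnil : ∀ x : G, Group.IsNilpotent ↥(Subgroup.closure ({x, g} : Set G)) := hg
    let O := Subgroup.closure {z : G | (orderOf z).Coprime p}
    have hOn : O.Normal := ⟨fun z hz a => by
      have h1 := Subgroup.mem_map_of_mem (MulAut.conj a).toMonoidHom hz
      rw [MonoidHom.map_closure] at h1
      refine Subgroup.closure_mono ?_ h1
      rintro _ ⟨y, hy, rfl⟩
      show (orderOf ((MulAut.conj a).toMonoidHom y)).Coprime p
      rw [orderOf_injective _ (MulAut.conj a).injective]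
      exact hy⟩
    have huO : u ∈ Subgroup.centralizer (O : Set G) := by
      rw [Subgroup.centralizer_closure, Subgroup.mem_centralizer_iff]
      intro z hz
      have hcop : (orderOf z).Coprime (orderOf u) := huk ▸ Nat.Coprime.pow_right k hz
      have hz' : z ∈ Subgroup.closure ({z, g} : Set G) := Subgroup.subset_closure (Set.mem_insert z _)
      have hg' : g ∈ Subgroup.closure ({z, g} : Set G) :=
        Subgroup.subset_closure (Set.mem_insert_of_mem z (Set.mem_singleton g))
      have hu' : u ∈ Subgroup.closure ({z, g} : Set G) := Subgroup.zpowers_le.2 hg' hu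
      exact CfsgLib.OddLocal.commute_of_mem_nilpotent (hnil z) hz' hu' hcop
    obtain ⟨P, hP⟩ := (CfsgLib.HallGen.isPGroup_zpowers huk).exists_le_sylow
    have hOP : O ⊔ (P : Subgroup G) = ⊤ := by
      refine CfsgLib.Core.eq_top_of_forall_exists_sylow_le _ fun q hq _ => ?_
      have := Fact.mk hq
      by_cases hqp : q = p
      · subst hqp; exact ⟨P, le_sup_right⟩
      · obtain ⟨Q⟩ : Nonempty (Sylow q G) := inferInstance
        refine ⟨Q, fun z hz => Subgroup.mem_sup_left (Subgroup.subset_closure ?_)⟩
        obtain ⟨l, hl⟩ := IsPGroup.iff_orderOf.1 Q.isPGroup' ⟨z, hz⟩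
        rw [Subgroup.orderOf_mk] at hl
        show (orderOf z).Coprime p
        rw [hl]
        exact Nat.Coprime.pow_left l ((Nat.coprime_primes hq hp).2 hqp)
    -- the normal closure of `u` lies in `P` and is centralized by `O`
    let N := Subgroup.normalClosure ({u} : Set G)
    have hNO : N ≤ Subgroup.centralizer (O : Set G) :=
      Subgroup.normalClosure_le_normal (Set.singleton_subset_iff.2 huO)
    have hNP : N ≤ (P : Subgroup G) := by
      refine Subgroup.closure_le _ |>.2 ?_
      intro w hw
      obtain ⟨a, rfl, haw⟩ := Group.mem_conjugatesOfSet_iff.1 hw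
      obtain ⟨b, rfl⟩ := isConj_iff.1 haw
      have hb : b ∈ O ⊔ (P : Subgroup G) := hOP ▸ Subgroup.mem_top b
      rw [sup_comm, ← SetLike.mem_coe, Subgroup.mul_normal] at hb
      obtain ⟨r, hr, o, ho, rfl⟩ := Set.mem_mul.1 hb
      have hou : o * a = a * o := Subgroup.mem_centralizer_iff.1 huO o ho
      rw [show r * o * a * (r * o)⁻¹ = r * (o * a) * o⁻¹ * r⁻¹ by group, hou,
        show r * (a * o) * o⁻¹ * r⁻¹ = r * a * r⁻¹ by group]
      exact mul_mem (mul_mem hr (hP (Subgroup.mem_zpowers a))) (inv_mem hr)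
    suffices hNZ : N ≤ Z from hNZ (Subgroup.subset_normalClosure rfl)
    by_contra hNZ
    let π := QuotientGroup.mk' Z
    let Pb := (P : Subgroup G).map π
    let Nb := (N.map π).subgroupOf Pb
    have hPb : IsPGroup p Pb := P.isPGroup'.map π
    have hNn : (N.map π).Normal := Subgroup.normalClosure_normal.map π (QuotientGroup.mk'_surjective Z)
    have hNne : Nb ≠ ⊥ := fun hbot => hNZ fun w hw => by
      have hm : (⟨π w, Subgroup.mem_map_of_mem π (hNP hw)⟩ : Pb) ∈ Nb := Subgroup.mem_map_of_mem π hw
      rw [hbot, Subgroup.mem_bot] at hm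
      exact (QuotientGroup.eq_one_iff w).1 (congrArg Subtype.val hm)
    obtain ⟨⟨⟨c0, hc0⟩, hcN, hcC⟩, hc1⟩ : ∃ c : ↥(Nb ⊓ Subgroup.center Pb), c ≠ 1 := by
      have := CfsgLib.PGroups.inf_center_ne_bot hPb hNne
      rw [← Subgroup.nontrivial_iff_ne_bot] at this
      exact exists_ne 1
    obtain ⟨w, hw, hwc⟩ := hcN
    have hwc' : π w = c0 := hwc
    subst hwc'
    apply hc1
    refine Subtype.ext (Subtype.ext ((QuotientGroup.eq_one_iff w).2 (hstab w fun y => ?_)))
    rw [← QuotientGroup.eq_one_iff]
    show π ⁅w, y⁆ = 1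
    rw [map_commutatorElement, commutatorElement_eq_one_iff_mul_comm]
    have hy : y ∈ O ⊔ (P : Subgroup G) := hOP ▸ Subgroup.mem_top y
    rw [sup_comm, ← SetLike.mem_coe, Subgroup.mul_normal] at hy
    obtain ⟨r, hr, o, ho, rfl⟩ := Set.mem_mul.1 hy
    have h1 : Commute (π w) (π o) := (Commute.map
      ((Subgroup.mem_centralizer_iff.1 (hNO hw) o ho).symm : Commute w o) π)
    have h2 : Commute (π w) (π r) :=
      (congrArg Subtype.val (Subgroup.mem_center_iff.1 hcC ⟨π r, Subgroup.mem_map_of_mem π hr⟩)).symm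
    rw [map_mul]
    exact h2.mul_right h1
  · intro hg x
    set H := Subgroup.closure ({x, g} : Set G)
    have hsub : ∀ (m : ℕ) (h : H), (h : G) ∈ Subgroup.upperCentralSeries G m →
        h ∈ Subgroup.upperCentralSeries H m := by
      intro m
      induction m with
      | zero => intro h hh; exact Subgroup.mem_bot.2 (Subtype.ext (Subgroup.mem_bot.1 hh))
      | succ m ih =>
        intro h hh
        exact Subgroup.mem_upperCentralSeries_succ_iff.2 fun y =>
          ih _ (Subgroup.mem_upperCentralSeries_succ_iff.1 hh y)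
    let π := QuotientGroup.mk' (Subgroup.upperCentralSeries H n)
    have hx : x ∈ H := Subgroup.subset_closure (Set.mem_insert _ _)
    have hgen : ∀ h (hh : h ∈ H), π ⟨h, hh⟩ ∈ Subgroup.zpowers (π ⟨x, hx⟩) := by
      intro h hh
      induction hh using Subgroup.closure_induction with
      | mem h hh =>
        rcases hh with rfl | rfl
        · exact Subgroup.mem_zpowers _
        · rw [show π ⟨h, _⟩ = 1 from (QuotientGroup.eq_one_iff _).2 (hsub n _ hg)]
          exact one_mem _
      | one => exact (map_one π).symm ▸ one_mem _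
      | mul a b ha hb iha ihb =>
        rw [show (⟨a * b, mul_mem ha hb⟩ : H) = ⟨a, ha⟩ * ⟨b, hb⟩ from rfl, map_mul]
        exact mul_mem iha ihb
      | inv a ha iha =>
        rw [show (⟨a⁻¹, inv_mem ha⟩ : H) = ⟨a, ha⟩⁻¹ from rfl, map_inv]
        exact inv_mem iha
    refine ⟨⟨n + 1, eq_top_iff.2 fun a _ => Subgroup.mem_upperCentralSeries_succ_iff.2 fun b => ?_⟩⟩
    rw [← QuotientGroup.eq_one_iff]
    show π ⁅a, b⁆ = 1
    obtain ⟨i, hi⟩ := Subgroup.mem_zpowers_iff.1 (hgen a a.2)
    obtain ⟨j, hj⟩ := Subgroup.mem_zpowers_iff.1 (hgen b b.2)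
    rw [map_commutatorElement, commutatorElement_eq_one_iff_mul_comm, ← hi, ← hj]
    exact ((Commute.refl _).zpow_zpow i j)

end Cfsg.Agent.S3939
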