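import Cfsg.Statements.S3941
import Cfsg.Agent.Lib.Orders.Parts

set_option autoImplicit false
open Cfsg
open scoped Pointwise commutatorElement

namespace Cfsg.Agent.S3941

/-- Let n ≥ 5 and p an odd prime with p ≤ n, and suppose that every proper subgroup of the alternating group of degree n whose order is divisible by p has a normal Sylow p-subgroup. Then n = p. -/
theorem result (n p : ℕ) (hn : 5 ≤ n) [Fact p.Prime] (hp : p ≠ 2) (hpn : p ≤ n)
    (h : ∀ H : Subgroup ↥(alternatingGroup (Fin n)), H ≠ ⊤ → p ∣ Nat.card ↥H → Cfsg.IsPClosed p ↥H) : n = p := by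
  have hp' : p.Prime := Fact.out
  have hp3 : 3 ≤ p := by have := hp'.two_le; omega
  by_contra hne
  have hlt : p < n := lt_of_le_of_ne hpn (Ne.symm hne)
  haveI : NeZero n := ⟨by omega⟩
  let L : Fin n := ⟨n - 1, by omega⟩
  let pt : ℕ → Fin n := fun i => if h : i < n then ⟨i, h⟩ else 0
  have hpt : ∀ i, i < n → (pt i : ℕ) = i := fun i hi => by simp only [pt, dif_pos hi]
  have hne' : ∀ i j, i < n → j < n → i ≠ j → pt i ≠ pt j := fun i j hi hj hij he =>
    hij (by rw [← hpt i hi, ← hpt j hj, he])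
  have hL : ∀ i, i < n - 1 → pt i ≠ L := fun i hi he => by
    have := congrArg Fin.val he
    rw [hpt i (by omega)] at this
    exact absurd this (by simp only [L]; omega)
  let H : Subgroup ↥(alternatingGroup (Fin n)) :=
    (MulAction.stabilizer (Equiv.Perm (Fin n)) L).subgroupOf (alternatingGroup (Fin n))
  have three : ∀ a b c, a < n → b < n → c < n → a ≠ b → a ≠ c → b ≠ c →
      Equiv.Perm.IsThreeCycle (Equiv.swap (pt a) (pt b) * Equiv.swap (pt a) (pt c)) :=
    fun a b c ha hb hc h1 h2 h3 => Equiv.Perm.isThreeCycle_swap_mul_swap_same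
      (hne' a b ha hb h1) (hne' a c ha hc h2) (hne' b c hb hc h3)
  have fixL : ∀ a b c, a < n - 1 → b < n - 1 → c < n - 1 →
      (Equiv.swap (pt a) (pt b) * Equiv.swap (pt a) (pt c)) L = L := fun a b c ha hb hc => by
    rw [Equiv.Perm.mul_apply, Equiv.swap_apply_of_ne_of_ne (hL a ha).symm (hL c hc).symm,
      Equiv.swap_apply_of_ne_of_ne (hL a ha).symm (hL b hb).symm]
  have htop : H ≠ ⊤ := fun ht => by
    have hm : (⟨_, (three (n - 1) 0 1 (by omega) (by omega) (by omega) (by omega) (by omega)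
        (by omega)).mem_alternatingGroup⟩ : ↥(alternatingGroup (Fin n))) ∈ H := ht ▸ Subgroup.mem_top _
    have h1 : (Equiv.swap (pt (n - 1)) (pt 0) * Equiv.swap (pt (n - 1)) (pt 1)) L = L :=
      Subgroup.mem_subgroupOf.1 hm
    have hLp : L = pt (n - 1) := Fin.ext (hpt _ (by omega)).symm
    rw [hLp, Equiv.Perm.mul_apply, Equiv.swap_apply_left,
      Equiv.swap_apply_of_ne_of_ne (hne' 1 _ (by omega) (by omega) (by omega))
        (hne' 1 0 (by omega) (by omega) (by omega))] at h1
    exact hne' 1 (n - 1) (by omega) (by omega) (by omega) h1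
  -- a `p`-cycle on the first `p` points
  let P0 : Fin n := ⟨p - 1, by omega⟩
  let c := Fin.cycleRange P0
  have hc0 : P0 ≠ 0 := fun he => by
    have := congrArg Fin.val he
    simp only [P0, Fin.val_zero] at this
    omega
  have hcmem : c ∈ alternatingGroup (Fin n) := by
    rw [Equiv.Perm.mem_alternatingGroup, Fin.sign_cycleRange]
    exact Even.neg_one_pow (Nat.Odd.sub_odd (hp'.odd_of_ne_two hp) odd_one)
  have hcL : c L = L := Fin.cycleRange_of_gt (show P0 < L from (show p - 1 < n - 1 by omega))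
  have hcord : orderOf c = p := by
    rw [← Equiv.Perm.lcm_cycleType, Fin.cycleType_cycleRange hc0, Multiset.lcm_singleton]
    simp only [P0, normalize_eq]
    omega
  let cc : ↥(alternatingGroup (Fin n)) := ⟨c, hcmem⟩
  have hccH : cc ∈ H := Subgroup.mem_subgroupOf.2 hcL
  have hordc : orderOf (⟨cc, hccH⟩ : H) = p := by
    rw [Subgroup.orderOf_mk, Subgroup.orderOf_mk, hcord]
  have hclosed := h H htop (hordc ▸ orderOf_dvd_natCard _)
  obtain ⟨P⟩ : Nonempty (Sylow p H) := inferInstance
  have hPn := hclosed P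
  have hpelt : ∀ (g : Equiv.Perm (Fin n)) (hg : g ∈ alternatingGroup (Fin n)) (hgL : g L = L),
      orderOf g = p → (⟨⟨g, hg⟩, Subgroup.mem_subgroupOf.2 hgL⟩ : H) ∈ (P : Subgroup H) := by
    intro g hg hgL ho
    obtain ⟨R, hR⟩ := (IsPGroup.of_card (n := 1) (by
      rw [Nat.card_zpowers, pow_one, Subgroup.orderOf_mk, Subgroup.orderOf_mk, ho]) :
      IsPGroup p (Subgroup.zpowers (⟨⟨g, hg⟩, Subgroup.mem_subgroupOf.2 hgL⟩ : H))).exists_le_sylow
    let := Sylow.unique_of_normal P hPn
    rw [Subsingleton.elim P R]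
    exact hR (Subgroup.mem_zpowers _)
  -- an element of `P` whose order is not a power of `p`
  obtain ⟨g, q, hq, hqp, hgq, hgP⟩ : ∃ g : H, ∃ q : ℕ, q.Prime ∧ q ≠ p ∧
      orderOf (((g : ↥(alternatingGroup (Fin n))) : Equiv.Perm (Fin n))) = q ∧ g ∈ (P : Subgroup H) := by
    by_cases h3 : p = 3
    · subst h3
      have hs := three 1 0 2 (by omega) (by omega) (by omega) (by omega) (by omega) (by omega)
      have ht := three 2 1 3 (by omega) (by omega) (by omega) (by omega) (by omega) (by omega)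
      refine ⟨_, 2, Nat.prime_two, by omega, ?_, mul_mem
        (hpelt _ hs.mem_alternatingGroup (fixL 1 0 2 (by omega) (by omega) (by omega)) hs.orderOf)
        (hpelt _ ht.mem_alternatingGroup (fixL 2 1 3 (by omega) (by omega) (by omega)) ht.orderOf)⟩
      show orderOf (Equiv.swap (pt 1) (pt 0) * Equiv.swap (pt 1) (pt 2) *
        (Equiv.swap (pt 2) (pt 1) * Equiv.swap (pt 2) (pt 3))) = 2
      rw [Equiv.swap_comm (pt 2) (pt 1), ← mul_assoc, mul_assoc (Equiv.swap (pt 1) (pt 0)),
        Equiv.swap_mul_self, mul_one]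
      refine orderOf_eq_prime ?_ ?_
      · have hd : Commute (Equiv.swap (pt 1) (pt 0)) (Equiv.swap (pt 2) (pt 3)) :=
          Equiv.Perm.Disjoint.commute fun x => by
            by_cases h1 : x = pt 1
            · subst h1
              exact Or.inr (Equiv.swap_apply_of_ne_of_ne (hne' 1 2 (by omega) (by omega) (by omega))
                (hne' 1 3 (by omega) (by omega) (by omega)))
            by_cases h0 : x = pt 0
            · subst h0
              exact Or.inr (Equiv.swap_apply_of_ne_of_ne (hne' 0 2 (by omega) (by omega) (by omega))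
                (hne' 0 3 (by omega) (by omega) (by omega)))
            exact Or.inl (Equiv.swap_apply_of_ne_of_ne h1 h0)
        rw [hd.mul_pow, sq, sq, Equiv.swap_mul_self, Equiv.swap_mul_self, mul_one]
      · intro he
        have h1 := congrArg (fun f : Equiv.Perm (Fin n) => f (pt 1)) he
        simp only [Equiv.Perm.mul_apply, Equiv.Perm.one_apply] at h1
        rw [Equiv.swap_apply_of_ne_of_ne (hne' 1 2 (by omega) (by omega) (by omega))
          (hne' 1 3 (by omega) (by omega) (by omega)), Equiv.swap_apply_left] at h1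
        exact hne' 0 1 (by omega) (by omega) (by omega) h1
    · have h5 : 5 ≤ p := by
        have : p ≠ 4 := fun h4 => by rw [h4] at hp'; exact absurd hp' (by decide)
        omega
      have hs := three 1 0 2 (by omega) (by omega) (by omega) (by omega) (by omega) (by omega)
      obtain ⟨t, ht⟩ : ∃ t : H, ((t : ↥(alternatingGroup (Fin n))) : Equiv.Perm (Fin n)) =
          Equiv.swap (pt 1) (pt 0) * Equiv.swap (pt 1) (pt 2) :=
        ⟨⟨⟨_, hs.mem_alternatingGroup⟩,
          Subgroup.mem_subgroupOf.2 (fixL 1 0 2 (by omega) (by omega) (by omega))⟩, rfl⟩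
      obtain ⟨cH, hcHv, hcP⟩ : ∃ cH : H, ((cH : ↥(alternatingGroup (Fin n))) : Equiv.Perm (Fin n)) = c ∧
          cH ∈ (P : Subgroup H) := ⟨_, rfl, hpelt c hcmem hcL hcord⟩
      refine ⟨t * cH * t⁻¹ * cH⁻¹, 3, Nat.prime_three, Ne.symm h3, ?_,
        mul_mem (hPn.conj_mem cH hcP t) (inv_mem hcP)⟩
      simp only [Subgroup.coe_mul, Subgroup.coe_inv, ht, hcHv]
      have hc : ∀ i, i < p - 1 → c (pt i) = pt (i + 1) := fun i hi => Fin.ext (by
        rw [Fin.coe_cycleRange_of_lt (show pt i < P0 from Fin.lt_def.2 (by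
          rw [hpt i (by omega)]; exact hi)), hpt i (by omega), hpt (i + 1) (by omega)])
      have e1 : c * (Equiv.swap (pt 1) (pt 0) * Equiv.swap (pt 1) (pt 2))⁻¹ * c⁻¹ =
          Equiv.swap (pt 2) (pt 3) * Equiv.swap (pt 2) (pt 1) := by
        rw [mul_inv_rev, Equiv.swap_inv, Equiv.swap_inv,
          show Equiv.swap (pt 2) (pt 3) = Equiv.swap (c (pt 1)) (c (pt 2)) by
            rw [hc 1 (by omega), hc 2 (by omega)],
          show Equiv.swap (pt 2) (pt 1) = Equiv.swap (c (pt 1)) (c (pt 0)) by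
            rw [hc 1 (by omega), hc 0 (by omega)],
          Equiv.swap_apply_apply, Equiv.swap_apply_apply]
        group
      have e2 : Equiv.swap (pt 1) (pt 2) * Equiv.swap (pt 2) (pt 3) * Equiv.swap (pt 2) (pt 1) =
          Equiv.swap (pt 1) (pt 3) := by
        have h := Equiv.swap_apply_apply (Equiv.swap (pt 1) (pt 2)) (pt 2) (pt 3)
        rw [Equiv.swap_apply_right, Equiv.swap_apply_of_ne_of_ne
          (hne' 3 1 (by omega) (by omega) (by omega)) (hne' 3 2 (by omega) (by omega) (by omega)),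
          Equiv.swap_inv] at h
        rw [Equiv.swap_comm (pt 2) (pt 1)]
        exact h.symm
      have e3 : Equiv.swap (pt 1) (pt 0) * Equiv.swap (pt 1) (pt 2) * c *
          (Equiv.swap (pt 1) (pt 0) * Equiv.swap (pt 1) (pt 2))⁻¹ * c⁻¹ =
          Equiv.swap (pt 1) (pt 0) * Equiv.swap (pt 1) (pt 3) := by
        calc _ = Equiv.swap (pt 1) (pt 0) * Equiv.swap (pt 1) (pt 2) *
              (c * (Equiv.swap (pt 1) (pt 0) * Equiv.swap (pt 1) (pt 2))⁻¹ * c⁻¹) := by group
          _ = _ := by rw [e1, mul_assoc, ← mul_assoc (Equiv.swap (pt 1) (pt 2)), e2]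
      rw [e3]
      exact (three 1 0 3 (by omega) (by omega) (by omega) (by omega) (by omega) (by omega)).orderOf
  obtain ⟨k, hk⟩ := IsPGroup.iff_orderOf.1 P.isPGroup' ⟨g, hgP⟩
  rw [Subgroup.orderOf_mk, ← Subgroup.orderOf_coe, ← Subgroup.orderOf_coe, hgq] at hk
  exact hqp ((Nat.prime_dvd_prime_iff_eq hq hp').1 (hq.dvd_of_dvd_pow (dvd_of_eq hk)))

end Cfsg.Agent.S3941
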