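import Cfsg.Statements.S3949
import Cfsg.Agent.Lib.Orders.DirectFactor

set_option autoImplicit false
open Cfsg

namespace Cfsg.Agent.S3949

/-- Let G be a finite group and α an automorphism of G of order 2 such that the elements g·α(g)⁻¹ generate G. Let j be a positive integer such that 2^j divides the order of no element inverted by α. Then the set of values of the j-th iterate of the map c ↦ c·α(c)⁻¹ is exactly the set of elements of odd order inverted by α. -/
theorem result {G : Type*} [Group G] [Finite G] (α : MulAut G) (hα : orderOf α = 2) (hG : Subgroup.closure (Set.range (fun c : G => c * (α c)⁻¹)) = ⊤)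
    (j : ℕ) (hj : ∀ g : G, α g = g⁻¹ → ¬ 2 ^ j ∣ orderOf g) :
    Set.range ((fun c : G => c * (α c)⁻¹)^[j]) = {g : G | Odd (orderOf g) ∧ α g = g⁻¹} := by
  have hinv : ∀ c : G, α (c * (α c)⁻¹) = (c * (α c)⁻¹)⁻¹ := fun c => by
    have h2 : α (α c) = c := by
      rw [← MulAut.mul_apply, ← sq, ← hα, pow_orderOf_eq_one, MulAut.one_apply]
    rw [map_mul, map_inv, h2, mul_inv_rev, inv_inv]
  have hit : ∀ (i : ℕ) (g : G), α g = g⁻¹ → (fun c : G => c * (α c)⁻¹)^[i] g = g ^ 2 ^ i := by
    intro i
    induction i with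
    | zero => intro g _; simp
    | succ i ih =>
      intro g hg
      rw [Function.iterate_succ_apply, hg, inv_inv, ih _ (by rw [map_mul, hg, mul_inv_rev]),
        ← sq, ← pow_mul, ← pow_succ']
  ext x
  constructor
  · rintro ⟨c, rfl⟩
    match j, hj with
    | 0, hj => exact absurd (one_dvd _) (hj 1 (by simp))
    | i + 1, hj =>
      rw [Function.iterate_succ_apply, hit i _ (hinv c)]
      set h := c * (α c)⁻¹ with hh
      refine ⟨?_, by rw [map_pow, hinv c, inv_pow]⟩
      have hd := hj h (hinv c)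
      obtain ⟨a, m, hm, hn⟩ := Nat.exists_eq_two_pow_mul_odd (orderOf_pos h).ne'
      have ha : a ≤ i := by
        by_contra hcon
        exact hd (hn ▸ dvd_mul_of_dvd_left (pow_dvd_pow 2 (by omega)) m)
      refine hm.of_dvd_nat (orderOf_dvd_of_pow_eq_one ?_)
      rw [← pow_mul, ← orderOf_dvd_iff_pow_eq_one, hn]
      exact mul_dvd_mul_right (pow_dvd_pow 2 ha) m
  · rintro ⟨hodd, hx⟩
    obtain ⟨h, hh, hpow⟩ : ∃ h, α h = h⁻¹ ∧ h ^ 2 ^ j = x := by
      obtain ⟨k, hk⟩ := exists_pow_eq_self_of_coprime (x := x)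
        (((Nat.coprime_two_left.2 hodd).pow_left j))
      exact ⟨x ^ k, by rw [map_pow, hx, inv_pow], by rw [← pow_mul, mul_comm, pow_mul]; exact hk⟩
    exact ⟨h, by rw [hit j h hh, hpow]⟩

end Cfsg.Agent.S3949
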