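import Cfsg.Statements.S3958
import Cfsg.Agent.Lib.Schur.Perfect

set_option autoImplicit false
universe u v
open Cfsg

namespace Cfsg.Agent.S3958

/-- Let `σ : Γ →* Q` be a finite stem extension of the finite group `Q` with `Γ` of trivial Schur multiplier. Then `σ` is a Schur covering group of `Q`: for every finite stem extension `τ : Δ →* Q` with `Δ` in the same universe as `Q`, the kernel of `τ` is a homomorphic image of the kernel of `σ`. -/
theorem result {Q : Type u} [Group Q] [Finite Q] {Γ : Type v} [Group Γ] [Finite Γ] (σ : Γ →* Q) (hσ : Cfsg.IsStemExtension σ) (hΓ : Cfsg.HasCyclicSchurMultiplier Γ 1) (Δ : Type u) [Group Δ] [Finite Δ] (τ : Δ →* Q) (hτ : Cfsg.IsStemExtension τ) : ∃ π : σ.ker →* τ.ker, Function.Surjective π := by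
  rw [CfsgLib.Schur.hasCyclicSchurMultiplier_one_iff] at hΓ
  obtain ⟨ψ, hψ⟩ := CfsgLib.Schur.exists_lift σ hσ.1 hσ.2.1
  have hψs := CfsgLib.Schur.lift_surjective hψ hσ.2.1 hσ.2.2
  have hψk : ψ.ker ≤ (CfsgLib.Schur.proj Q).ker := fun x hx => by
    rw [MonoidHom.mem_ker, ← hψ, MonoidHom.comp_apply, MonoidHom.mem_ker.1 hx, map_one]
  have hψc : ψ.ker ≤ Subgroup.center (CfsgLib.Schur.Ext Q) :=
    hψk.trans (CfsgLib.Schur.ker_proj_le_center Q)
  have hinj : Function.Injective (CfsgLib.Schur.multMap hψ) := by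
    rw [injective_iff_map_eq_one]
    intro m hm
    obtain ⟨η, hη⟩ := CfsgLib.Schur.exists_lift ψ hψs hψc
    obtain ⟨c, hc, hcm'⟩ := (CfsgLib.Schur.commutator_eq_map_of_range_sup η ψ.ker hψc
      (CfsgLib.Schur.range_sup_ker_eq_top hη)).le m.2.2
    have hcM : c ∈ CfsgLib.Schur.mult Γ := ⟨by
      show CfsgLib.Schur.proj Γ c = 1
      rw [← hη, MonoidHom.comp_apply, hcm']
      exact congrArg Subtype.val hm, hc⟩
    rw [hΓ, Subgroup.mem_bot] at hcM
    rw [hcM, map_one] at hcm'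
    exact Subtype.ext hcm'.symm
  obtain ⟨π, hπ⟩ := CfsgLib.Schur.exists_mult_surj_ker τ hτ
  let e : CfsgLib.Schur.mult Q ≃* σ.ker := MulEquiv.ofBijective _
    ⟨hinj, CfsgLib.Schur.multMap_surjective hψ hσ.2.1 hσ.2.2⟩
  exact ⟨π.comp e.symm.toMonoidHom, hπ.comp e.symm.surjective⟩

end Cfsg.Agent.S3958
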