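import Cfsg.Statements.S3961
import Cfsg.Agent.Lib.Schur.Perfect

set_option autoImplicit false
universe u v
open Cfsg

namespace Cfsg.Agent.S3961

/-- Let `π : G →* Q` be a surjective homomorphism with central kernel from a finite perfect group `G` (a perfect cover of `Q`). Then `π` is universal, in the sense that every surjective homomorphism `ξ : X →* Q` with central kernel from a group `X` in the universe of `G` admits a homomorphism `η : G →* X` with `ξ ∘ η = π`, if and only if `G` has trivial Schur multiplier. -/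
theorem result {G : Type u} {Q : Type v} [Group G] [Group Q] [Finite G] (hG : Group.IsPerfect G) (π : G →* Q) (hπ : Function.Surjective π) (hker : π.ker ≤ Subgroup.center G) : (∀ (X : Type u) [Group X] (ξ : X →* Q), Function.Surjective ξ → ξ.ker ≤ Subgroup.center X → ∃ η : G →* X, ξ.comp η = π) ↔ Cfsg.HasCyclicSchurMultiplier G 1 := by
  have hG' : commutator G = ⊤ := hG.commutator_eq_top
  rw [CfsgLib.Schur.hasCyclicSchurMultiplier_one_iff]
  constructor
  · intro hu
    obtain ⟨C⟩ := CfsgLib.Schur.exists_compl (Q := G)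
    have hC := C.isStem
    have hΓ : commutator C.Cover = ⊤ :=
      CfsgLib.Schur.commutator_eq_top_of_central hG' C.coverMap hC.1 hC.2.2
    have hck : (π.comp C.coverMap).ker ≤ Subgroup.center C.Cover := by
      intro x hx
      have hx' : C.coverMap x ∈ Subgroup.center G := hker hx
      rw [← CfsgLib.Schur.map_center_of_perfect hΓ C.coverMap hC.1 hC.2.1] at hx'
      obtain ⟨z, hz, e⟩ := hx'
      have : x = z * (z⁻¹ * x) := by group
      rw [this]
      exact mul_mem hz (hC.2.1 (by rw [MonoidHom.mem_ker, map_mul, map_inv, e, inv_mul_cancel]))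
    obtain ⟨η, hη⟩ := hu C.Cover (π.comp C.coverMap) (hπ.comp hC.1) hck
    have hid : C.coverMap.comp η = MonoidHom.id G :=
      CfsgLib.Schur.hom_ext_of_perfect hG' π hker (by rw [← MonoidHom.comp_assoc, hη]; rfl)
    have hsup : η.range ⊔ C.coverMap.ker = ⊤ := by
      rw [eq_top_iff]
      intro x _
      have : x = η (C.coverMap x) * ((η (C.coverMap x))⁻¹ * x) := by group
      rw [this]
      refine Subgroup.mul_mem_sup ⟨_, rfl⟩ ?_
      rw [MonoidHom.mem_ker, map_mul, map_inv, ← MonoidHom.comp_apply, hid, MonoidHom.id_apply,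
        inv_mul_cancel]
    have htop := CfsgLib.Schur.map_eq_top_of_sup hC.2.1 hsup hΓ
    rw [Subgroup.eq_bot_iff_forall]
    intro m hm
    obtain ⟨g, hg⟩ := (htop.ge (Subgroup.mem_top _) : (C.kerEquiv ⟨m, hm⟩ : C.Cover) ∈ η.range)
    have h2 : C.coverMap (η g) = 1 := by rw [hg]; exact Subtype.prop (C.kerEquiv ⟨m, hm⟩)
    rw [← MonoidHom.comp_apply, hid, MonoidHom.id_apply] at h2
    rw [h2, map_one] at hg
    exact congrArg Subtype.val ((map_eq_one_iff C.kerEquiv C.kerEquiv.injective).1
      (Subtype.ext hg.symm))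
  · intro hM X _ ξ hξ hc
    let P : Subgroup (G × X) := (π.comp (MonoidHom.fst G X)).eqLocus (ξ.comp (MonoidHom.snd G X))
    let p : P →* G := (MonoidHom.fst G X).comp P.subtype
    have hp : Function.Surjective p := fun g => by
      obtain ⟨x, hx⟩ := hξ (π g)
      exact ⟨⟨(g, x), hx.symm⟩, rfl⟩
    have hpc : p.ker ≤ Subgroup.center P := fun a ha => by
      rw [Subgroup.mem_center_iff]
      intro b
      have ha1 : (a : G × X).1 = 1 := ha
      have hp2 : π (a : G × X).1 = ξ (a : G × X).2 := a.2
      rw [ha1, map_one] at hp2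
      refine Subtype.ext (Prod.ext ?_ ?_)
      · show (b : G × X).1 * (a : G × X).1 = (a : G × X).1 * (b : G × X).1
        rw [ha1, mul_one, one_mul]
      · exact Subgroup.mem_center_iff.1 (hc hp2.symm) _
    obtain ⟨φ, hφ⟩ := CfsgLib.Schur.exists_lift p hp hpc
    have hi : Function.Injective (CfsgLib.Schur.uceProj G) := by
      rw [injective_iff_map_eq_one]
      intro x hx
      have : (x : CfsgLib.Schur.Ext G) ∈ CfsgLib.Schur.mult G := ⟨hx, x.2⟩
      rw [hM, Subgroup.mem_bot] at this
      exact Subtype.ext this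
    let e := MulEquiv.ofBijective _ ⟨hi, CfsgLib.Schur.uceProj_surjective hG'⟩
    refine ⟨((MonoidHom.snd G X).comp P.subtype).comp (φ.comp
      ((commutator (CfsgLib.Schur.Ext G)).subtype.comp e.symm.toMonoidHom)), MonoidHom.ext fun g => ?_⟩
    have h2 : π ((φ (e.symm g : CfsgLib.Schur.Ext G) : P) : G × X).1 =
        ξ ((φ (e.symm g : CfsgLib.Schur.Ext G) : P) : G × X).2 := (φ (e.symm g : CfsgLib.Schur.Ext G)).2
    have h3 : p (φ (e.symm g : CfsgLib.Schur.Ext G)) = g := by
      rw [← MonoidHom.comp_apply, hφ]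
      exact e.apply_symm_apply g
    exact h2.symm.trans (congrArg π h3)

end Cfsg.Agent.S3961
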