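import Cfsg.Statements.S3963
import Cfsg.Agent.Lib.Schur.Dihedral

set_option autoImplicit false
open Cfsg

namespace Cfsg.Agent.S3963

/-- For every `n ≥ 1` the dicyclic (generalized quaternion) group of order `4 n` has trivial Schur multiplier. -/
theorem result (n : ℕ) [NeZero n] : Cfsg.HasCyclicSchurMultiplier (QuaternionGroup n) 1 := by
  refine CfsgLib.Schur.hasCyclicSchurMultiplier_one_of_forall fun Γ _ _ σ hσ => ?_
  obtain ⟨c, hle, hc⟩ := CfsgLib.Schur.ker_le_of_dihedral_type hσ
    (CfsgLib.Schur.quaternion_gen n) (CfsgLib.Schur.quaternion_rel n) n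
    (CfsgLib.Schur.quaternion_central hσ) n (CfsgLib.Schur.quaternion_dvd n)
  rw [hc] at hle
  simpa using hle

end Cfsg.Agent.S3963
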