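import Cfsg.Statements.S3964
import Cfsg.Agent.Lib.Schur.Dihedral

set_option autoImplicit false
open Cfsg

namespace Cfsg.Agent.S3964

/-- For odd `n` the dihedral group of order `2 n` has trivial Schur multiplier. -/
theorem result (n : ℕ) (hn : Odd n) : Cfsg.HasCyclicSchurMultiplier (DihedralGroup n) 1 := by
  haveI : NeZero n := ⟨fun h => by simp [h] at hn⟩
  refine CfsgLib.Schur.hasCyclicSchurMultiplier_one_of_forall fun Γ _ _ σ hσ => ?_
  obtain ⟨c, hle, hc⟩ := CfsgLib.Schur.ker_le_of_dihedral_type hσ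
    (CfsgLib.Schur.dihedral_gen n) (CfsgLib.Schur.dihedral_rel n) n
    (CfsgLib.Schur.dihedral_central hσ) n (CfsgLib.Schur.dihedral_dvd n n fun k hk =>
      (IsCoprime.dvd_of_dvd_mul_left (by
        rw [Int.isCoprime_iff_gcd_eq_one]
        simpa [Int.gcd] using (Nat.coprime_two_right.2 hn)) hk))
  rw [hc] at hle
  simpa using hle

end Cfsg.Agent.S3964
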