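import Cfsg.Statements.S3965
import Cfsg.Agent.Lib.Schur.Dihedral

set_option autoImplicit false
open Cfsg

namespace Cfsg.Agent.S3965

/-- For even `n ≥ 2` the dihedral group of order `2 n` has Schur multiplier cyclic of order `2`. -/
theorem result (n : ℕ) [NeZero n] (hn : Even n) : Cfsg.HasCyclicSchurMultiplier (DihedralGroup n) 2 := by
  haveI : Fact (Nat.Prime 2) := ⟨Nat.prime_two⟩
  have h2 : Nat.card (Multiplicative (ZMod 2)) = 2 := by simp
  refine CfsgLib.Schur.hasSchurMultiplier_of_witness (CfsgLib.Schur.quaternionToDihedral n)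
    (CfsgLib.Schur.quaternionToDihedral_isStem n hn)
    (mulEquivOfPrimeCardEq (CfsgLib.Schur.card_ker_quaternionToDihedral n) h2)
    fun Γ _ _ σ hσ => ?_
  obtain ⟨m, rfl⟩ := hn
  obtain ⟨c, hle, hc⟩ := CfsgLib.Schur.ker_le_of_dihedral_type hσ
    (CfsgLib.Schur.dihedral_gen _) (CfsgLib.Schur.dihedral_rel _) _
    (CfsgLib.Schur.dihedral_central hσ) m (CfsgLib.Schur.dihedral_dvd _ m fun k hk => by
      rw [show ((m + m : ℕ) : ℤ) = 2 * m by push_cast; ring] at hk
      exact Int.dvd_of_mul_dvd_mul_left two_ne_zero hk)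
  rw [h2]
  calc Nat.card σ.ker ≤ Nat.card (Subgroup.zpowers (c ^ m)) := Subgroup.card_le_of_le hle
    _ = orderOf (c ^ m) := Nat.card_zpowers _
    _ ≤ 2 := orderOf_le_of_pow_eq_one two_pos (by rw [← pow_mul, mul_two]; exact hc)

end Cfsg.Agent.S3965
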