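import Cfsg.Statements.S3968
import Cfsg.Agent.Lib.CharDegree.Basic
import Cfsg.Agent.Lib.Char.DegreeCenter

set_option autoImplicit false
open Cfsg
open scoped Pointwise commutatorElement

namespace Cfsg.Agent.S3968

/-- Let `p` be a prime and `G` a finite group with a faithful irreducible complex character of degree `p` (so `G` is an irreducible linear group in `p` variables). If `p ^ 2` divides the order of `G`, then the centre of `G` is nontrivial. -/
theorem result {G : Type*} [Group G] [Finite G] (p : ℕ) (hp : p.Prime) (χ : Cfsg.IrrCharacter G) (hdeg : χ.1 1 = p) (hfaith : ∀ g : G, χ.1 g = χ.1 1 → g = 1) (hdiv : p ^ 2 ∣ Nat.card G) : Subgroup.center G ≠ ⊥ := by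
  classical
  intro hZ
  haveI := Fact.mk hp
  haveI := Fintype.ofFinite G
  have hd : Cfsg.charDegree (χ : G → ℂ) = p := CfsgLib.CharDegree.charDegree_eq_of_apply_one hdeg
  have hker := CfsgLib.CharDegree.kerSubgroup_eq_bot_iff.2 hfaith
  obtain ⟨P⟩ : Nonempty (Sylow p G) := inferInstance
  have hPc := P.card_eq_multiplicity
  have h2 : p ^ 2 ≤ Nat.card P :=
    Nat.le_of_dvd Nat.card_pos (by rw [hPc]; exact pow_dvd_pow p ((hp.pow_dvd_iff_le_factorization Nat.card_pos.ne').1 hdiv))
  have hzero : ∀ x ∈ (P : Subgroup G), x ≠ 1 → IsMulCommutative P → (χ : G → ℂ) x = 0 := by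
    intro x hx hx1 hP
    have hle : (P : Subgroup G) ≤ Subgroup.centralizer ({x} : Set G) := fun y hy => by
      rw [Subgroup.mem_centralizer_singleton_iff]
      exact congrArg Subtype.val (hP.is_comm.comm ⟨y, hy⟩ ⟨x, hx⟩)
    have hcop : Nat.Coprime p (Subgroup.centralizer ({x} : Set G)).index :=
      (hp.coprime_iff_not_dvd).2 fun h => P.not_dvd_index (h.trans (Subgroup.index_dvd_of_le hle))
    rcases CfsgLib.CharDegree.eq_zero_or_norm_eq χ x (by rw [hd]; exact hcop) with h | h
    · exact h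
    · exact absurd ((Subgroup.eq_bot_iff_forall _).1 hZ x (CfsgLib.CharDegree.mem_center_of_norm_eq χ hker h)) hx1
  obtain ⟨n, ρ, hρ, hχ, hn⟩ := CfsgLib.CharDegree.exists_rep χ
  haveI := hρ
  by_cases hP : IsMulCommutative P
  · -- the restriction would be a multiple of the regular character
    have h1 : Nat.card P ∣ p := by
      letI := Fintype.ofFinite P
      obtain ⟨k, hk⟩ := CfsgLib.Char.IsChar.classInner_eq_natCast
        (CfsgLib.Char.IsChar.restrict (P : Subgroup G) (CfsgLib.Char.IsIrr.isCharacter χ.2))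
        (CfsgLib.Char.isCharacter_one (G := P))
      have hs : ∑ g : P, (χ : G → ℂ) g * (starRingEnd ℂ) 1 = (p : ℂ) := by
        rw [Finset.sum_eq_single (1 : ((P : Subgroup G) : Type _))]
        · rw [Subgroup.coe_one, hdeg, map_one, mul_one]
        · intro g _ hg
          rw [hzero g g.2 (fun h => hg (Subtype.ext h)) hP, zero_mul]
        · simp
      rw [Cfsg.classInner, hs, inv_mul_eq_iff_eq_mul₀ (Nat.cast_ne_zero.2 Nat.card_pos.ne')] at hk
      exact ⟨k, Nat.cast_injective (R := ℂ) (by push_cast; exact hk)⟩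
    have h3 := (Nat.le_of_dvd hp.pos h1).trans_lt (lt_of_lt_of_le (by nlinarith [hp.two_le]) h2)
    exact lt_irrefl _ h3
  · -- a nonabelian Sylow subgroup acts irreducibly
    letI := Fintype.ofFinite P
    letI := Fintype.ofFinite (Cfsg.IrrCharacter P)
    obtain ⟨m, hm⟩ := CfsgLib.Char.IsChar.exists_sum
      (CfsgLib.Char.IsChar.restrict (P : Subgroup G) (CfsgLib.Char.IsIrr.isCharacter χ.2))
    have hval : ∀ g : P, (χ : G → ℂ) g = ∑ ψ : Cfsg.IrrCharacter P, (m ψ : ℂ) * (ψ : P → ℂ) g := fun g => by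
      have := congrFun hm g
      simpa [Finset.sum_apply] using this
    have hdeg' : p = ∑ ψ : Cfsg.IrrCharacter P, m ψ * Cfsg.charDegree (ψ : P → ℂ) := by
      have h := hval 1
      rw [Subgroup.coe_one, hdeg] at h
      have h' : (p : ℂ) = ((∑ ψ : Cfsg.IrrCharacter P, m ψ * Cfsg.charDegree (ψ : P → ℂ) : ℕ) : ℂ) := by
        rw [h]; push_cast
        exact Finset.sum_congr rfl fun ψ _ => by rw [CfsgLib.CharDegree.cast_irrDegree]
      exact Nat.cast_injective h'
    by_cases hlin : ∀ ψ : Cfsg.IrrCharacter P, m ψ ≠ 0 → Cfsg.charDegree (ψ : P → ℂ) = 1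
    · apply hP
      refine ⟨⟨fun a b => ?_⟩⟩
      rw [← commutatorElement_eq_one_iff_mul_comm]
      refine Subtype.ext (hfaith _ ?_)
      have hmem : ⁅a, b⁆ ∈ commutator P :=
        Subgroup.commutator_mem_commutator (Subgroup.mem_top a) (Subgroup.mem_top b)
      have h1 : (χ : G → ℂ) 1 = (χ : G → ℂ) ((1 : P) : G) := by rw [Subgroup.coe_one]
      rw [h1, hval, hval]
      refine Finset.sum_congr rfl fun ψ _ => ?_
      rcases eq_or_ne (m ψ) 0 with h | h
      · simp [h]
      · rw [(CfsgLib.CharDegree.charDegree_eq_one_iff_commutator ψ).1 (hlin ψ h) _ hmem]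
    · push Not at hlin
      obtain ⟨ψ, hm0, hψ⟩ := hlin
      obtain ⟨k, hk⟩ := IsPGroup.iff_card.1 P.isPGroup'
      obtain ⟨j, -, hj⟩ := (Nat.dvd_prime_pow hp).1 (hk ▸ CfsgLib.CharDegree.charDegree_dvd_card ψ)
      have hj0 : 1 ≤ j := Nat.one_le_iff_ne_zero.2 fun h => hψ (by rw [hj, h, pow_zero])
      have hge : p ≤ Cfsg.charDegree (ψ : P → ℂ) := by rw [hj]; exact Nat.le_self_pow (by omega) p
      have hsplit := Finset.add_sum_erase Finset.univ
        (fun φ : Cfsg.IrrCharacter P => m φ * Cfsg.charDegree (φ : P → ℂ)) (Finset.mem_univ ψ)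
      rw [← hdeg'] at hsplit
      have hmul : Cfsg.charDegree (ψ : P → ℂ) ≤ m ψ * Cfsg.charDegree (ψ : P → ℂ) :=
        Nat.le_mul_of_pos_left _ (Nat.pos_of_ne_zero hm0)
      have hm1 : m ψ = 1 := by
        have h2 : 0 < Cfsg.charDegree (ψ : P → ℂ) := CfsgLib.CharDegree.charDegree_pos ψ
        by_contra h
        have h3 : 2 * Cfsg.charDegree (ψ : P → ℂ) ≤ m ψ * Cfsg.charDegree (ψ : P → ℂ) :=
          Nat.mul_le_mul_right _ (by omega)
        omega
      have hrest : ∀ φ : Cfsg.IrrCharacter P, φ ≠ ψ → m φ = 0 := by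
        intro φ hφ
        have hz : ∑ φ ∈ Finset.univ.erase ψ, m φ * Cfsg.charDegree (φ : P → ℂ) = 0 := by omega
        have := Finset.sum_eq_zero_iff.1 hz φ (Finset.mem_erase.2 ⟨hφ, Finset.mem_univ _⟩)
        exact (Nat.mul_eq_zero.1 this).resolve_right (CfsgLib.CharDegree.charDegree_pos φ).ne'
      have hres : ∀ g : P, (χ : G → ℂ) g = (ψ : P → ℂ) g := fun g => by
        rw [hval, Finset.sum_eq_single ψ (fun φ _ h => by rw [hrest φ h]; simp) (by simp), hm1]; simp
      haveI : Nontrivial P := by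
        rw [← Finite.one_lt_card_iff_nontrivial]
        exact lt_of_lt_of_le (Nat.one_lt_pow two_ne_zero hp.one_lt) h2
      haveI := P.isPGroup'.center_nontrivial
      obtain ⟨⟨z, hz⟩, hz1⟩ := exists_ne (1 : Subgroup.center P)
      obtain ⟨k', σ, hσ, hσχ, hσn⟩ := CfsgLib.CharDegree.exists_rep ψ
      haveI := hσ
      obtain ⟨c, hc⟩ := CfsgLib.CharIntegral.exists_scalar_of_mem_center σ hz
      have hcn : ‖c‖ = 1 := by
        obtain ⟨e, he0, he⟩ : ∃ e, 0 < e ∧ z ^ e = 1 := ⟨orderOf z, orderOf_pos z, pow_orderOf_eq_one z⟩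
        have h4 : σ (z ^ e) = c ^ e • LinearMap.id := by
          rw [map_pow, hc]
          exact (smul_pow c LinearMap.id e).trans (by rw [show (LinearMap.id : Module.End ℂ (Fin k' → ℂ)) ^ e = LinearMap.id from one_pow e])
        rw [he, map_one] at h4
        have h5 := congrArg (LinearMap.trace ℂ (Fin k' → ℂ)) h4
        rw [map_smul, LinearMap.trace_id, LinearMap.trace_one, smul_eq_mul] at h5
        have hne : (Module.finrank ℂ (Fin k' → ℂ) : ℂ) ≠ 0 := Nat.cast_ne_zero.2
          (CfsgLib.Char.finrank_pos_of_irreducible σ).ne'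
        exact Complex.norm_eq_one_of_pow_eq_one (mul_right_cancel₀ hne (by rw [one_mul]; exact h5.symm)) he0.ne'
      have hnorm : ‖(χ : G → ℂ) (z : G)‖ = Cfsg.charDegree (χ : G → ℂ) := by
        rw [hres, ← hσχ, Representation.character, hc, map_smul, LinearMap.trace_id, smul_eq_mul, norm_mul, hcn,
          one_mul, Complex.norm_natCast, Module.finrank_fin_fun, hσn, hd]
        norm_cast
        rw [hm1, one_mul] at hsplit
        have : ∑ φ ∈ Finset.univ.erase ψ, m φ * Cfsg.charDegree (φ : P → ℂ) = 0 :=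
          Finset.sum_eq_zero fun φ hφ => by rw [hrest φ (Finset.ne_of_mem_erase hφ), zero_mul]
        omega
      exact hz1 (Subtype.ext (Subtype.ext
        ((Subgroup.eq_bot_iff_forall _).1 hZ _ (CfsgLib.CharDegree.mem_center_of_norm_eq χ hker hnorm))))

end Cfsg.Agent.S3968
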