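import Cfsg.Statements.S3971
import Cfsg.Agent.Lib.HallGen.Basic
import Cfsg.Agent.Lib.Transfer.Fusion
import Cfsg.Agent.Lib.Core.Nilpotent
import Cfsg.Agent.Lib.ClassSizes.BurnsideAut

set_option autoImplicit false
open Cfsg
open scoped Pointwise commutatorElement

namespace Cfsg.Agent.S3971

/-- Let `G` be a finite group of order `2 ^ a * n` with `n` odd and not divisible by `3`, and suppose `G` has an element of order `2 ^ (a - 1)` (so a Sylow `2`-subgroup has a cyclic subgroup of index at most `2`). Then `G` has a normal subgroup of order `n`. -/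
theorem result {G : Type*} [Group G] [Finite G] (a n : ℕ) (hG : Nat.card G = 2 ^ a * n) (hn : Odd n) (h3 : ¬ 3 ∣ n) (hx : ∃ x : G, orderOf x = 2 ^ (a - 1)) : ∃ N : Subgroup G, N.Normal ∧ Nat.card N = n := by
  classical
  haveI : Fact (Nat.Prime 2) := ⟨Nat.prime_two⟩
  obtain ⟨x, hx⟩ := hx
  have hxp : IsPGroup 2 (Subgroup.zpowers x) := CfsgLib.HallGen.isPGroup_zpowers hx
  obtain ⟨P, hP⟩ := hxp.exists_le_sylow
  have hPc : Nat.card P = 2 ^ a := by
    obtain ⟨k, hk⟩ := P.isPGroup'.exists_card_eq
    have e := (P : Subgroup G).card_mul_index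
    rw [hk, hG] at e
    have h1 : 2 ^ a ∣ 2 ^ k :=
      ((Nat.prime_two.coprime_iff_not_dvd.2 P.not_dvd_index).pow_left a).dvd_of_dvd_mul_right ⟨n, e⟩
    have h2 : 2 ^ k ∣ 2 ^ a :=
      ((Nat.prime_two.coprime_iff_not_dvd.2 hn.not_two_dvd_nat).pow_left k).dvd_of_dvd_mul_right
        ⟨(P : Subgroup G).index, e.symm⟩
    rw [hk, Nat.dvd_antisymm h2 h1]
  have hidx : (P : Subgroup G).index = n := by
    have e := (P : Subgroup G).card_mul_index
    rw [hPc, hG] at e
    exact Nat.eq_of_mul_eq_mul_left (pow_pos two_pos a) e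
  have hrel : (Subgroup.zpowers x).relIndex (P : Subgroup G) ≤ 2 := by
    have e : Nat.card (Subgroup.zpowers x) * (Subgroup.zpowers x).relIndex (P : Subgroup G) = 2 ^ a := by
      rw [← hPc, ← Subgroup.relIndex_bot_left, Subgroup.relIndex_mul_relIndex _ _ _ bot_le hP,
        Subgroup.relIndex_bot_left]
    rw [Nat.card_zpowers, hx] at e
    have h2 : 2 ^ (a - 1) * (Subgroup.zpowers x).relIndex (P : Subgroup G) ≤ 2 ^ (a - 1) * 2 := by
      rw [e, ← pow_succ]; exact Nat.pow_le_pow_right two_pos (by omega)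
    exact Nat.le_of_mul_le_mul_left h2 (pow_pos two_pos _)
  have hcompl : Cfsg.HasNormalPComplement 2 G := by
    refine CfsgLib.Transfer.hasNormalPComplement_of_centralizes P fun Q hQ g hg hgo => ?_
    let C := (Subgroup.zpowers x).subgroupOf Q
    have hCc : IsCyclic C := by
      refine isCyclic_of_injective ((Q.subtype.comp C.subtype).codRestrict (Subgroup.zpowers x) fun c => c.2)
        fun c d h => Subtype.ext (Subtype.ext (congrArg (Subtype.val : _ → G) h :))
    have hCi : C.index ≤ 2 :=
      (Subgroup.relIndex_le_of_le_right hQ (fun h0 => by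
        have := Subgroup.index_ne_zero_of_finite (H := (Subgroup.zpowers x).subgroupOf (P : Subgroup G))
        exact this h0)).trans hrel
    obtain ⟨c, hc⟩ := hCc.exists_generator
    have hQp : IsPGroup 2 Q := P.isPGroup'.to_le hQ
    obtain ⟨T, hT, hTc⟩ : ∃ T : Finset Q, T.card ≤ 2 ∧ Subgroup.closure (T : Set Q) = ⊤ := by
      have hCle : ∀ {S : Set Q}, (c : Q) ∈ S → C ≤ Subgroup.closure S := fun {S} hS y hy => by
        obtain ⟨m, hm⟩ := Subgroup.mem_zpowers_iff.1 (hc ⟨y, hy⟩)
        rw [show y = (c : Q) ^ m from (congrArg Subtype.val hm).symm]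
        exact zpow_mem (Subgroup.subset_closure hS) m
      by_cases hCt : C = ⊤
      · exact ⟨{(c : Q)}, by simp, eq_top_iff.2 (hCt ▸ hCle (by simp))⟩
      · obtain ⟨q, hq⟩ : ∃ q : Q, q ∉ C := by
          by_contra h; push Not at h; exact hCt ((Subgroup.eq_top_iff' C).2 h)
        refine ⟨{(c : Q), q}, Finset.card_le_two, ?_⟩
        have hle : C ≤ Subgroup.closure (({(c : Q), q} : Finset Q) : Set Q) := hCle (by simp)
        refine Subgroup.index_eq_one.1 ?_
        have hd := Subgroup.index_dvd_of_le hle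
        have hne : C.index ≠ 0 := Subgroup.index_ne_zero_of_finite
        have hC1 : C.index ≠ 1 := fun h => hCt (Subgroup.index_eq_one.1 h)
        have h2 : C.index = 2 := by omega
        rw [h2] at hd
        rcases (Nat.dvd_prime Nat.prime_two).1 hd with h | h
        · exact h
        · exfalso
          have heq : C = Subgroup.closure (({(c : Q), q} : Finset Q) : Set Q) := by
            refine Subgroup.eq_of_le_of_card_ge hle (le_of_eq ?_)
            have e1 := C.card_mul_index
            have e2 := (Subgroup.closure (({(c : Q), q} : Finset Q) : Set Q)).card_mul_index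
            rw [h2] at e1; rw [h] at e2; omega
          exact hq (heq ▸ Subgroup.subset_closure (by simp))
    obtain ⟨m, hm⟩ := IsPGroup.iff_card.1 hQp
    obtain ⟨r, -, hr⟩ := (Nat.dvd_prime_pow Nat.prime_two).1 (hm ▸ (frattini Q).index_dvd_card)
    have hr2 : r ≤ 2 := ((CfsgLib.Core.burnside_basis hQp hr).2 T hTc).trans hT
    have hd := CfsgLib.ClassSizes.card_aut_dvd hm hr
    have hd2 : Nat.card (MulAut Q) ∣ 2 ^ (r * (m - r) + 1) * 3 := by
      refine hd.trans ?_
      rw [pow_succ, mul_assoc]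
      refine Nat.mul_dvd_mul_left _ ?_
      interval_cases r <;> decide
    let f := Q.normalizerMonoidHom
    have h1 : orderOf (f ⟨g, hg⟩) ∣ orderOf g :=
      (orderOf_map_dvd f ⟨g, hg⟩).trans (Subgroup.orderOf_mk g hg).dvd
    have hgn : orderOf g ∣ n :=
      (hgo.pow_right a).dvd_of_dvd_mul_left (hG ▸ orderOf_dvd_natCard g)
    have hgc : (orderOf g).Coprime (2 ^ (r * (m - r) + 1) * 3) :=
      (hgo.pow_right _).mul_right
        (Nat.Coprime.coprime_dvd_left hgn ((Nat.prime_three.coprime_iff_not_dvd.2 h3).symm))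
    have hker : (⟨g, hg⟩ : Subgroup.normalizer (Q : Set G)) ∈ f.ker :=
      orderOf_eq_one_iff.1 (Nat.eq_one_of_dvd_coprimes hgc h1 ((orderOf_dvd_natCard _).trans hd2))
    rw [Subgroup.normalizerMonoidHom_ker] at hker
    exact hker
  obtain ⟨R, N, hN, hNR⟩ := hcompl
  refine ⟨N, hN, ?_⟩
  rw [← hNR.index_eq_card, ← hidx, Subgroup.index, Subgroup.index]
  have e1 := (R : Subgroup G).card_mul_index
  have e2 := (P : Subgroup G).card_mul_index
  rw [Subgroup.index] at e1 e2
  rw [R.card_eq_multiplicity] at e1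
  rw [P.card_eq_multiplicity] at e2
  exact Nat.eq_of_mul_eq_mul_left (pow_pos two_pos _) (e1.trans e2.symm)

end Cfsg.Agent.S3971
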