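import Cfsg.Statements.S3972
import Cfsg.Agent.Lib.Perm.CyclicRegularAction

set_option autoImplicit false
open Cfsg
open scoped Pointwise commutatorElement

namespace Cfsg.Agent.S3972

/-- Let `p` be a prime, `m ≥ 2`, and `G` a transitive but not doubly transitive permutation group on `p ^ m` points containing a permutation of order `p ^ m` (necessarily a full cycle). Then `G` is imprimitive, and the normal closure in `G` of the `p ^ (m - 1)`-th power of that permutation is an intransitive normal subgroup. -/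
theorem result {Ω : Type*} [Fintype Ω] [DecidableEq Ω] (p m : ℕ) (hp : p.Prime) (hm : 2 ≤ m) (hΩ : Fintype.card Ω = p ^ m) (G : Subgroup (Equiv.Perm Ω)) (htr : MulAction.IsPretransitive G Ω) (h2 : ¬ MulAction.IsMultiplyPretransitive G Ω 2) (g : G) (hg : orderOf g = p ^ m) : ¬ MulAction.IsPreprimitive G Ω ∧ ¬ MulAction.IsPretransitive (Subgroup.normalClosure ({g ^ (p ^ (m - 1))} : Set G)) Ω := by
  classical
  haveI : NeZero (p ^ m) := ⟨pow_ne_zero _ hp.ne_zero⟩
  set z := g ^ p ^ (m - 1) with hzdef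
  have hz1 : z ≠ 1 := pow_ne_one_of_lt_orderOf (pow_ne_zero _ hp.ne_zero)
    (hg ▸ Nat.pow_lt_pow_right hp.one_lt (by omega))
  obtain ⟨a, ha⟩ : ∃ a : Ω, z • a ≠ a := by
    by_contra h
    push Not at h
    exact hz1 (Subtype.ext (Equiv.ext fun x => h x))
  have hgN : g ^ p ^ m = 1 := hg ▸ pow_orderOf_eq_one g
  have key : ∀ d : ℕ, d < p ^ m → d ≠ 0 → g ^ d • a ≠ a := by
    intro d hd hd0 hfix
    -- the stabiliser contains `z`
    have hmem : g ^ d ∈ MulAction.stabilizer G a := hfix
    obtain ⟨j, hj, hgcd⟩ := (Nat.dvd_prime_pow hp).1 (Nat.gcd_dvd_right d (p ^ m))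
    have hj' : j ≤ m - 1 := by
      by_contra h
      have h1 := Nat.gcd_dvd_left d (p ^ m)
      rw [hgcd, show j = m by omega] at h1
      have := Nat.le_of_dvd (Nat.pos_of_ne_zero hd0) h1
      omega
    refine ha ?_
    have h2 : g ^ (Nat.gcd d (p ^ m)) ∈ MulAction.stabilizer G a := by
      have h3 := Nat.gcd_eq_gcd_ab d (p ^ m)
      rw [← zpow_natCast, h3, zpow_add, zpow_mul, zpow_mul, zpow_natCast, zpow_natCast, hgN, one_zpow, mul_one]
      exact zpow_mem hmem _
    have h4 := pow_mem h2 (p ^ (m - 1 - j))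
    rw [← pow_mul, hgcd, ← pow_add, show j + (m - 1 - j) = m - 1 by omega] at h4
    exact h4
  have hinj : ∀ i < p ^ m, ∀ j < p ^ m, g ^ i • a = g ^ j • a → i = j := by
    intro i hi j hj h
    wlog hij : i ≤ j generalizing i j
    · exact (this j hj i hi h.symm (le_of_not_ge hij)).symm
    by_contra hne
    refine key (j - i) (by omega) (by omega) ?_
    rw [show j = i + (j - i) by omega, pow_add, mul_smul] at h
    exact ((MulAction.injective (g ^ i)) h).symm
  have hcardΩ : Nat.card Ω = p ^ m := by rw [Nat.card_eq_fintype_card, hΩ]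
  have hlt : p < p ^ m := by
    calc p = p ^ 1 := (pow_one p).symm
      _ < p ^ m := Nat.pow_lt_pow_right hp.one_lt (by omega)
  rcases CfsgLib.Perm.CyclicRegular.two_pretransitive_or_invariant g hcardΩ hgN a hinj hp
    (dvd_pow_self p (by omega)) hlt with h | ⟨e, he, D, hD1, hD2, hD⟩
  · exact absurd h h2
  refine ⟨CfsgLib.Perm.CyclicRegular.not_isPreprimitive_of_invariant e hD1 hD2 hD,
    CfsgLib.Perm.CyclicRegular.not_pretransitive_normalClosure e hD2 hD _ fun x => ?_⟩
  obtain ⟨k, rfl⟩ := e.surjective x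
  rw [he, Equiv.symm_apply_apply, Equiv.symm_apply_apply, add_sub_cancel_left]
  exact CfsgLib.Perm.CyclicRegular.natCast_mem_of_ne_bot hp (by omega) rfl hD1

end Cfsg.Agent.S3972
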