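import Cfsg.Statements.S3977
import Cfsg.Agent.Lib.Orders.SubgroupCount

set_option autoImplicit false
open Cfsg
open scoped Pointwise commutatorElement

namespace Cfsg.Agent.S3977

/-- Let `p` be a prime and `G` a group of order `p ^ m` which has exactly one subgroup of order `p ^ s`, where `1 ≤ s < m`, and where `s ≥ 2` if `p = 2`. Then `G` is cyclic. (For `p = 2` and `s = 1` the generalized quaternion groups also occur; that case is the classical criterion for a unique involution.) -/
theorem result {G : Type*} [Group G] [Finite G] (p m s : ℕ) (hp : p.Prime) (hG : Nat.card G = p ^ m) (hs : 1 ≤ s) (hsm : s < m) (h2 : p ≠ 2 ∨ 2 ≤ s) (huniq : ∀ H K : Subgroup G, Nat.card H = p ^ s → Nat.card K = p ^ s → H = K) : IsCyclic G := by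
  have := Fact.mk hp
  obtain ⟨H, hH⟩ := Sylow.exists_subgroup_card_pow_prime (G := G) p (n := s) (hG ▸ pow_dvd_pow p hsm.le)
  have hGp : IsPGroup p G := IsPGroup.of_card hG
  -- every element of order at most `p ^ s` lies in `H`
  have hsmall : ∀ x : G, orderOf x ∣ p ^ s → x ∈ H := by
    intro x hx
    obtain ⟨i, hi, hi'⟩ := (Nat.dvd_prime_pow hp).1 hx
    obtain ⟨K, hK, hle⟩ := Sylow.exists_subgroup_card_pow_prime_le p (m := s) (hG ▸ pow_dvd_pow p hsm.le)
      (Subgroup.zpowers x) ((Nat.card_zpowers x).trans hi') hi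
    exact huniq K H hK hH ▸ hle (Subgroup.mem_zpowers x)
  have hcyc : IsCyclic H := by
    by_contra hnc
    have hall : ∀ x : G, x ∈ H := fun x => by
      obtain ⟨i, hi, hi'⟩ := (Nat.dvd_prime_pow hp).1 (hG ▸ orderOf_dvd_natCard x)
      rcases le_or_gt i s with his | his
      · exact hsmall x (hi' ▸ pow_dvd_pow p his)
      · refine absurd ?_ hnc
        have ho : orderOf (x ^ p ^ (i - s)) = p ^ s := by
          rw [orderOf_pow' x (pow_ne_zero _ hp.ne_zero), hi',
            Nat.gcd_eq_right (pow_dvd_pow p (Nat.sub_le _ _)), Nat.pow_div (Nat.sub_le _ _) hp.pos,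
            Nat.sub_sub_self his.le]
        rw [← huniq _ H ((Nat.card_zpowers _).trans ho) hH]
        infer_instance
    have h1 := (Subgroup.eq_top_iff' H).2 hall
    rw [h1, Subgroup.card_top, hG] at hH
    exact hsm.ne (Nat.pow_right_injective hp.two_le hH).symm
  have hu : ∀ A B : Subgroup G, Nat.card A = p → Nat.card B = p → A = B := by
    intro A B hA hB
    have hle : ∀ A : Subgroup G, Nat.card A = p → A ≤ H := fun A hA x hx =>
      hsmall x (((Subgroup.orderOf_dvd_natCard A hx).trans (dvd_of_eq hA)).trans (dvd_pow_self p (by omega)))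
    classical
    have := Fintype.ofFinite H
    have h := @IsCyclic.card_pow_eq_one_le H _ _ _ hcyc p hp.pos
    refine Subgroup.eq_of_le_of_card_ge ?_ (le_of_eq (hB.trans hA.symm))
    intro x hx
    by_contra hxB
    have hsub : ∀ C : Subgroup G, Nat.card C = p → ∀ y ∈ C, y ^ p = 1 := fun C hC y hy =>
      orderOf_dvd_iff_pow_eq_one.1 (hC ▸ Subgroup.orderOf_dvd_natCard C hy)
    have := Fintype.ofFinite G
    have hlt : p < (Finset.univ.filter fun a : H => a ^ p = 1).card := by
      have hcardB : (Finset.univ.filter fun a : H => (a : G) ∈ B).card = p := by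
        rw [← Fintype.card_subtype, ← Nat.card_eq_fintype_card, ← hB]
        exact Nat.card_congr ⟨fun a => ⟨a.1, a.2⟩, fun b => ⟨⟨b.1, hle B hB b.2⟩, b.2⟩,
          fun a => rfl, fun b => rfl⟩
      calc p = (Finset.univ.filter fun a : H => (a : G) ∈ B).card := hcardB.symm
        _ < _ := Finset.card_lt_card ⟨fun a ha => by
            simp only [Finset.mem_filter, Finset.mem_univ, true_and] at ha ⊢
            exact Subtype.ext (hsub B hB _ ha), fun hsub' => hxB (by
            have := hsub' (show (⟨x, hle A hA hx⟩ : H) ∈ Finset.univ.filter fun a : H => a ^ p = 1 by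
              simp only [Finset.mem_filter, Finset.mem_univ, true_and]
              exact Subtype.ext (hsub A hA x hx))
            simpa using this)⟩
    exact absurd h (not_le.2 hlt)
  rcases CfsgLib.Core.UniqueOrderP.isCyclic_or_quaternion_of_unique hGp hu with h | ⟨rfl, k, ⟨e⟩⟩
  · exact h
  have hs2 : 2 ≤ s := h2.resolve_left (fun h => h rfl)
  haveI : NeZero (2 ^ k) := ⟨pow_ne_zero _ two_ne_zero⟩
  have hxa : ∀ i, e.symm (QuaternionGroup.xa i) ∈ H := fun i => hsmall _ (by
    rw [MulEquiv.orderOf_eq, QuaternionGroup.orderOf_xa]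
    exact pow_dvd_pow 2 hs2)
  have hcomm : Commute (e.symm (QuaternionGroup.xa 0)) (e.symm (QuaternionGroup.xa 1)) :=
    congrArg Subtype.val ((hcyc.isMulCommutative).is_comm.comm ⟨_, hxa 0⟩ ⟨_, hxa 1⟩)
  have h3 := (hcomm.map e.toMonoidHom).eq
  simp only [MulEquiv.coe_toMonoidHom, MulEquiv.apply_symm_apply, QuaternionGroup.xa_mul_xa,
    QuaternionGroup.a.injEq] at h3
  rcases Nat.eq_zero_or_pos k with rfl | hk
  · have : IsCyclic (QuaternionGroup (2 ^ 0)) := QuaternionGroup.quaternionGroup_one_isCyclic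
    exact isCyclic_of_surjective e.symm.toMonoidHom e.symm.surjective
  · exfalso
    have h4 : ((2 : ℕ) : ZMod (2 * 2 ^ k)) = 0 := by push_cast; linear_combination h3
    have h5 := Nat.le_of_dvd two_pos ((ZMod.natCast_eq_zero_iff _ _).1 h4)
    have : 2 ≤ 2 ^ k := le_self_pow₀ one_le_two hk.ne'
    omega

end Cfsg.Agent.S3977
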