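import Cfsg.Statements.S3978
import Cfsg.Agent.Lib.Schur.Projective

set_option autoImplicit false
open Cfsg

namespace Cfsg.Agent.S3978

/-- A finite group `Q` has trivial Schur multiplier if and only if, for every `n`, every homomorphism from `Q` to the projective general linear group (the quotient of `GL n ℂ` by its centre) lifts to a homomorphism into `GL n ℂ`. -/
theorem result {Q : Type*} [Group Q] [Finite Q] : Cfsg.HasCyclicSchurMultiplier Q 1 ↔ ∀ (n : ℕ) (γ : Q →* (GL (Fin n) ℂ ⧸ Subgroup.center (GL (Fin n) ℂ))), ∃ ρ : Q →* GL (Fin n) ℂ, (QuotientGroup.mk' (Subgroup.center (GL (Fin n) ℂ))).comp ρ = γ := by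
  rw [CfsgLib.Schur.hasCyclicSchurMultiplier_one_iff]
  have hid : (MonoidHom.id Q).comp (CfsgLib.Schur.proj Q) = CfsgLib.Schur.proj Q := rfl
  constructor
  · intro hM n γ
    obtain ⟨ρ, hρ⟩ := CfsgLib.Schur.exists_lift_proj (MonoidHom.id Q) (CfsgLib.Schur.proj Q) hid
      (CfsgLib.Schur.proj_surjective Q) hM n γ
    exact ⟨ρ, hρ⟩
  · intro h
    have hi := CfsgLib.Schur.multMap_injective_of_lift (MonoidHom.id Q)
      (fun n γ => by obtain ⟨ρ, hρ⟩ := h n γ; exact ⟨ρ, hρ⟩) (CfsgLib.Schur.proj Q) hid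
    rw [Subgroup.eq_bot_iff_forall]
    intro x hx
    exact congrArg Subtype.val ((injective_iff_map_eq_one _).1 hi ⟨x, hx⟩ (Subtype.ext hx.1))

end Cfsg.Agent.S3978
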