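import Cfsg.Statements.S3981
import Cfsg.Agent.Lib.HallGen.Basic

set_option autoImplicit false
open Cfsg
open scoped Pointwise commutatorElement

namespace Cfsg.Agent.S3981

/-- Let p be an odd prime, Q a p-subgroup of the finite group G and y an involution normalizing Q. Then Q is maximal among the p-subgroups of G normalized by y if and only if the image of y in N_G(Q) ⧸ Q neither inverts nor centralizes any element of order p there; the latter is phrased inside N_G(Q): for every x in N_G(Q) outside Q with x ^ p ∈ Q, neither y x y⁻¹ x nor y x y⁻¹ x⁻¹ lies in Q. -/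
theorem result {G : Type*} [Group G] [Finite G] (p : ℕ) [Fact p.Prime] (hp2 : p ≠ 2) (Q : Subgroup G) (hQ : IsPGroup p ↥Q) (y : G) (hy : orderOf y = 2) (hyQ : y ∈ Subgroup.normalizer (Q : Set G)) : (∀ R : Subgroup G, IsPGroup p ↥R → Q ≤ R → y ∈ Subgroup.normalizer (R : Set G) → R = Q) ↔ ∀ x : G, x ∈ Subgroup.normalizer (Q : Set G) → x ∉ Q → x ^ p ∈ Q → (y * x * y⁻¹ * x ∉ Q ∧ y * x * y⁻¹ * x⁻¹ ∉ Q) := by
  have hyy : y * y = 1 := by rw [← sq, ← hy, pow_orderOf_eq_one]
  have hmem : ∀ {R : Subgroup G}, (∀ r ∈ R, y * r * y⁻¹ ∈ R) → y ∈ Subgroup.normalizer (R : Set G) := by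
    intro R h
    rw [Subgroup.mem_normalizer_iff]
    refine fun r => ⟨fun hr => h r hr, fun hr => ?_⟩
    have h2 := h _ hr
    rwa [show y * (y * r * y⁻¹) * y⁻¹ = (y * y) * r * (y * y)⁻¹ by group, hyy, one_mul, inv_one, mul_one] at h2
  constructor
  · intro hmax x hx hxQ hxp
    have key : y * x * y⁻¹ ∈ Q ⊔ Subgroup.zpowers x → False := by
      intro hyx
      have hxP : IsPGroup p (Subgroup.zpowers x) := by
        obtain ⟨k, hk⟩ := hQ ⟨x ^ p, hxp⟩
        have h1 : x ^ p ^ (k + 1) = 1 := by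
          rw [pow_succ', pow_mul]; exact congrArg Subtype.val hk
        obtain ⟨j, -, hj⟩ := (Nat.dvd_prime_pow Fact.out).1 (orderOf_dvd_of_pow_eq_one h1)
        exact CfsgLib.HallGen.isPGroup_zpowers hj
      have hR : IsPGroup p ↥(Q ⊔ Subgroup.zpowers x) :=
        hQ.to_sup_of_normal_left' hxP (Subgroup.zpowers_le.2 hx)
      have hyR : y ∈ Subgroup.normalizer ((Q ⊔ Subgroup.zpowers x : Subgroup G) : Set G) := by
        refine hmem fun r hr => ?_
        have hle : Q ⊔ Subgroup.zpowers x ≤ (Q ⊔ Subgroup.zpowers x).comap (MulAut.conj y).toMonoidHom :=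
          sup_le (fun q hq => Subgroup.mem_sup_left ((Subgroup.mem_normalizer_iff.1 hyQ q).1 hq))
            (Subgroup.zpowers_le.2 hyx)
        exact hle hr
      have := hmax _ hR le_sup_left hyR
      exact hxQ (this ▸ Subgroup.mem_sup_right (Subgroup.mem_zpowers x))
    constructor <;> intro h <;> apply key
    · have h2 := mul_mem (Subgroup.mem_sup_left h : _ ∈ Q ⊔ Subgroup.zpowers x)
        (inv_mem (Subgroup.mem_sup_right (Subgroup.mem_zpowers x)))
      rwa [mul_inv_cancel_right] at h2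
    · have h2 := mul_mem (Subgroup.mem_sup_left h : _ ∈ Q ⊔ Subgroup.zpowers x)
        (Subgroup.mem_sup_right (Subgroup.mem_zpowers x))
      rwa [inv_mul_cancel_right] at h2
  · intro h R hR hQR hyR
    by_contra hne
    set Nq := Subgroup.normalizer (Q : Set G) with hNq
    let Q' := Q.subgroupOf Nq
    have hQ'n : Q'.Normal := Subgroup.normal_in_normalizer
    let π : Nq →* Nq ⧸ Q' := QuotientGroup.mk' Q'
    let Rb : Subgroup (Nq ⧸ Q') := (R.subgroupOf Nq).map π
    have hRbp : IsPGroup p Rb :=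
      ((hR.comap_of_injective Nq.subtype Nq.subtype_injective).map π : IsPGroup p Rb)
    have hRb1 : Rb ≠ ⊥ := by
      intro hb
      have := hR.isNilpotent
      have hlt : Q.subgroupOf R < ⊤ := by
        rw [lt_top_iff_ne_top, Ne, Subgroup.subgroupOf_eq_top]
        exact fun h' => hne (le_antisymm h' hQR)
      obtain ⟨g, hg, hgQ⟩ := SetLike.exists_of_lt (Group.normalizerCondition_of_isNilpotent _ hlt)
      rw [← Subgroup.subgroupOf_normalizer_eq hQR] at hg
      have hπ : π ⟨g, hg⟩ ∈ Rb := ⟨⟨g, hg⟩, g.2, rfl⟩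
      rw [hb, Subgroup.mem_bot] at hπ
      exact hgQ ((QuotientGroup.eq_one_iff _).1 hπ :)
    haveI : Nontrivial Rb := (Subgroup.nontrivial_iff_ne_bot Rb).2 hRb1
    haveI := hRbp.center_nontrivial
    obtain ⟨z, hz⟩ := exists_prime_orderOf_dvd_card' (G := Subgroup.center Rb) p (by
      rcases (hRbp.to_subgroup (Subgroup.center Rb)).card_eq_or_dvd with h1 | h1
      · exact absurd (Subgroup.card_eq_one.1 h1) ((Subgroup.nontrivial_iff_ne_bot _).1 inferInstance)
      · exact h1)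
    set yb := π ⟨y, hyQ⟩ with hyb
    have hy2 : yb * yb = 1 := by
      rw [hyb, ← map_mul, show (⟨y, hyQ⟩ : Nq) * ⟨y, hyQ⟩ = 1 from Subtype.ext hyy, map_one]
    set zz : Nq ⧸ Q' := ((z : Rb) : Nq ⧸ Q') with hzz
    have hz1 : zz ≠ 1 := fun h1 => by
      have : z = 1 := Subtype.ext (Subtype.ext h1)
      rw [this, orderOf_one] at hz
      exact (Fact.out : p.Prime).ne_one hz.symm
    have hzp : zz ^ p = 1 := by
      have h1 : z ^ p = 1 := by rw [← hz, pow_orderOf_eq_one]
      exact congrArg (fun w : Subgroup.center Rb => ((w : Rb) : Nq ⧸ Q')) h1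
    set z' := yb * zz * yb⁻¹ with hz'
    have hz'R : z' ∈ Rb := by
      obtain ⟨r, hr, hrz⟩ := (z : Rb).2
      refine ⟨⟨y, hyQ⟩ * r * ⟨y, hyQ⟩⁻¹, ?_, by rw [map_mul, map_mul, map_inv, hrz]⟩
      exact (Subgroup.mem_normalizer_iff.1 hyR _).1 hr
    have hcomm : Commute z' zz :=
      congrArg Subtype.val (Subgroup.mem_center_iff.1 z.2 ⟨z', hz'R⟩)
    have fin : ∀ w : Nq ⧸ Q', w ≠ 1 → w ^ p = 1 → (yb * w * yb⁻¹ * w = 1 ∨ yb * w * yb⁻¹ * w⁻¹ = 1) → False := by
      intro w hw1 hwp hcase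
      induction w using QuotientGroup.induction_on with
      | H x =>
        have hx := h x x.2 (fun hm => hw1 ((QuotientGroup.eq_one_iff x).2 hm))
          ((QuotientGroup.eq_one_iff (N := Q') (x ^ p)).1 (by rw [QuotientGroup.mk_pow]; exact hwp) :)
        rcases hcase with hc | hc
        · exact hx.1 ((QuotientGroup.eq_one_iff (N := Q') ((⟨y, hyQ⟩ : Nq) * x * (⟨y, hyQ⟩ : Nq)⁻¹ * x)).1 (by simpa [hyb, π] using hc) :)
        · exact hx.2 ((QuotientGroup.eq_one_iff (N := Q') ((⟨y, hyQ⟩ : Nq) * x * (⟨y, hyQ⟩ : Nq)⁻¹ * x⁻¹)).1 (by simpa [hyb, π] using hc) :)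
    by_cases hw : z' * zz = 1
    · exact fin zz hz1 hzp (Or.inl hw)
    · refine fin (z' * zz) hw ?_ (Or.inr ?_)
      · rw [hcomm.mul_pow, hzp, mul_one, hz', conj_pow, hzp, mul_one, mul_inv_cancel]
      · have e : yb * z' * yb⁻¹ = zz := by
          rw [hz', show yb * (yb * zz * yb⁻¹) * yb⁻¹ = (yb * yb) * zz * (yb * yb)⁻¹ by group, hy2, one_mul,
            inv_one, mul_one]
        rw [show yb * (z' * zz) * yb⁻¹ = (yb * z' * yb⁻¹) * (yb * zz * yb⁻¹) by group, e, ← hz', hcomm.eq,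
          mul_inv_cancel]

end Cfsg.Agent.S3981
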