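import Cfsg.Statements.S3982
import Cfsg.Agent.Lib.Core.Coprime
import Cfsg.Agent.Lib.Core.SchurZassenhaus
import Mathlib.GroupTheory.FixedPointFree

set_option autoImplicit false
open Cfsg
open scoped Pointwise commutatorElement

namespace Cfsg.Agent.S3982

/-- Let p be an odd prime and G a finite group of even order divisible by p in which the centralizer of every non-identity p-element has odd order. If some nontrivial p-subgroup of G has a normalizer of even order, then the normalizer of every Sylow p-subgroup of G has even order. -/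
theorem result {G : Type*} [Group G] [Finite G] (p : ℕ) [Fact p.Prime] (hp2 : p ≠ 2) (hpG : p ∣ Nat.card G) (h2G : 2 ∣ Nat.card G) (hC : ∀ g : G, g ≠ 1 → (∃ k : ℕ, orderOf g = p ^ k) → Odd (Nat.card ↥(Subgroup.centralizer ({g} : Set G)))) (Q : Subgroup G) (hQ : IsPGroup p ↥Q) (hQ1 : Q ≠ ⊥) (hev : Even (Nat.card ↥(Subgroup.normalizer (Q : Set G)))) (P : Sylow p G) : Even (Nat.card ↥(Subgroup.normalizer ((P : Subgroup G) : Set G))) := by
  haveI : Fact (Nat.Prime 2) := ⟨Nat.prime_two⟩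
  obtain ⟨t', ht'⟩ := exists_prime_orderOf_dvd_card' (G := Subgroup.normalizer (Q : Set G)) 2 hev.two_dvd
  set t : G := (t' : G) with htdef
  have ht : orderOf t = 2 := by rw [htdef, Subgroup.orderOf_coe, ht']
  have htt : t * t = 1 := by rw [← sq, ← ht, pow_orderOf_eq_one]
  obtain ⟨R, ⟨hQR, hRp, htR⟩, hmax⟩ := WellFounded.has_min (wellFounded_gt (α := Subgroup G))
    {R : Subgroup G | Q ≤ R ∧ IsPGroup p R ∧ t ∈ Subgroup.normalizer (R : Set G)} ⟨Q, le_rfl, hQ, t'.2⟩
  have hpel : ∀ {g : G}, g ∈ R → ∃ k : ℕ, orderOf g = p ^ k := fun {g} hg => by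
    obtain ⟨k, hk⟩ := IsPGroup.iff_orderOf.1 hRp ⟨g, hg⟩
    exact ⟨k, by rwa [Subgroup.orderOf_mk] at hk⟩
  have hnoc : ∀ g : G, g ≠ 1 → (∃ k : ℕ, orderOf g = p ^ k) → ¬ Commute g t := by
    intro g hg hk hc
    have h1 := orderOf_dvd_natCard (⟨t, Subgroup.mem_centralizer_singleton_iff.2 hc.symm.eq⟩ :
      Subgroup.centralizer ({g} : Set G))
    rw [Subgroup.orderOf_mk, ht] at h1
    exact Nat.not_even_iff_odd.2 (hC g hg hk) (even_iff_two_dvd.2 h1)
  obtain ⟨r₀, hr₀, hr₀1⟩ : ∃ r ∈ R, r ≠ (1 : G) := by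
    obtain ⟨⟨r, hr⟩, hr1⟩ := Subgroup.ne_bot_iff_exists_ne_one.1 hQ1
    exact ⟨r, hQR hr, fun h => hr1 (Subtype.ext h)⟩
  set C := Subgroup.centralizer (R : Set G) with hCdef
  have hCodd : Odd (Nat.card C) :=
    (hC r₀ hr₀1 (hpel hr₀)).of_dvd_nat (Subgroup.card_dvd_of_le fun c hc =>
      Subgroup.mem_centralizer_singleton_iff.2 (Subgroup.mem_centralizer_iff.1 hc r₀ hr₀).symm)
  have hinv : ∀ r ∈ R, t * r * t⁻¹ = r⁻¹ := by
    let φ : R →* R :=
      { toFun := fun r => ⟨t * r * t⁻¹, (Subgroup.mem_normalizer_iff.1 htR _).1 r.2⟩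
        map_one' := Subtype.ext (by simp)
        map_mul' := fun a b => Subtype.ext (by simp [mul_assoc]) }
    have hfp : MonoidHom.FixedPointFree φ := fun r hr => by
      by_contra hr1
      refine hnoc r (fun h => hr1 (Subtype.ext h)) (hpel r.2) ?_
      exact (mul_inv_eq_iff_eq_mul.1 (congrArg Subtype.val hr)).symm
    have hiv : Function.Involutive φ := fun r => Subtype.ext (by
      show t * (t * (r : G) * t⁻¹) * t⁻¹ = r
      rw [show t * (t * (r : G) * t⁻¹) * t⁻¹ = (t * t) * r * (t * t)⁻¹ by group, htt, one_mul, inv_one, mul_one])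
    intro r hr
    exact congrArg Subtype.val (congrFun (hfp.coe_eq_inv_of_involutive hiv) ⟨r, hr⟩)
  have hRC : R ≤ C := by
    intro a ha
    rw [hCdef, Subgroup.mem_centralizer_iff]
    intro b hb
    have h1 := hinv _ (mul_mem ha hb)
    rw [show t * (a * b) * t⁻¹ = (t * a * t⁻¹) * (t * b * t⁻¹) by group, hinv a ha, hinv b hb, mul_inv_rev] at h1
    have h2 := congrArg (·⁻¹) h1
    simp only [mul_inv_rev, inv_inv] at h2
    exact h2
  have hNC : Subgroup.normalizer (R : Set G) ≤ Subgroup.normalizer (C : Set G) := by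
    intro n hn
    rw [Subgroup.mem_normalizer_iff]
    have key : ∀ n ∈ Subgroup.normalizer (R : Set G), ∀ x ∈ C, n * x * n⁻¹ ∈ C := fun n hn x hx => by
      rw [hCdef, Subgroup.mem_centralizer_iff]
      intro r hr
      have e : n⁻¹ * r * n ∈ R := by simpa using (Subgroup.mem_normalizer_iff.1 (inv_mem hn) r).1 hr
      have h1 := Subgroup.mem_centralizer_iff.1 hx _ e
      calc r * (n * x * n⁻¹) = n * ((n⁻¹ * r * n) * x) * n⁻¹ := by group
        _ = n * x * n⁻¹ * r := by rw [h1]; group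
    refine fun x => ⟨key n hn x, fun hx => ?_⟩
    have h1 := key n⁻¹ (inv_mem hn) _ hx
    rwa [show n⁻¹ * (n * x * n⁻¹) * n⁻¹⁻¹ = x by group] at h1
  -- `p`-elements of `N(R)` centralise `R`
  have hpC : ∀ g ∈ Subgroup.normalizer (R : Set G), (∃ k : ℕ, orderOf g = p ^ k) → g ∈ C := by
    intro g hg hgk
    set T := Subgroup.zpowers t with hT
    have hTN : T ≤ Subgroup.normalizer (C : Set G) :=
      Subgroup.zpowers_le.2 (hNC htR) 
    have hmem : g * t * g⁻¹ * t⁻¹ ∈ C := by
      rw [hCdef, Subgroup.mem_centralizer_iff]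
      intro r hr
      have e1 : t⁻¹ * r * t = r⁻¹ := by
        have h := hinv r hr
        rw [inv_eq_of_mul_eq_one_left htt] at h ⊢
        exact h
      have e2 : g⁻¹ * r * g ∈ R := by
        have := (Subgroup.mem_normalizer_iff.1 (inv_mem hg) r).1 hr
        simpa using this
      have e3 : (g * t * g⁻¹ * t⁻¹) * r * (g * t * g⁻¹ * t⁻¹)⁻¹ = r := by
        calc (g * t * g⁻¹ * t⁻¹) * r * (g * t * g⁻¹ * t⁻¹)⁻¹
            = g * (t * (g⁻¹ * (t⁻¹ * r * t) * g) * t⁻¹) * g⁻¹ := by group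
          _ = g * (t * (g⁻¹ * r * g)⁻¹ * t⁻¹) * g⁻¹ := by rw [e1]; group
          _ = g * (g⁻¹ * r * g) * g⁻¹ := by rw [hinv _ (inv_mem e2), inv_inv]
          _ = r := by group
      exact (mul_inv_eq_iff_eq_mul.1 e3).symm
    have hcop : (Nat.card T).Coprime (Nat.card C) := by
      rw [hT, Nat.card_zpowers, ht]
      exact (Nat.prime_two.coprime_iff_not_dvd).2 hCodd.not_two_dvd_nat
    obtain ⟨c, hc, hcT⟩ := CfsgLib.Core.exists_conj_eq_of_coprime (N := C) (H := T)
      (K := Subgroup.zpowers (g * t * g⁻¹)) hTN (Subgroup.zpowers_le.2 (by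
        rw [show g * t * g⁻¹ = (g * t * g⁻¹ * t⁻¹) * t by group]
        exact mul_mem (Subgroup.mem_sup_right hmem) (Subgroup.mem_sup_left (Subgroup.mem_zpowers t))))
      (by rw [hT, Nat.card_zpowers, Nat.card_zpowers,
        show orderOf (g * t * g⁻¹) = orderOf t from orderOf_injective (MulAut.conj g).toMonoidHom (MulAut.conj g).injective t])
      hcop (Or.inr (Group.isSolvable_of_comm fun a b => mul_comm' a b))
    have hct : c * t * c⁻¹ = g * t * g⁻¹ := by
      have h1 : c * t * c⁻¹ ∈ Subgroup.zpowers (g * t * g⁻¹) := hcT ▸ ⟨t, Subgroup.mem_zpowers t, rfl⟩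
      obtain ⟨n, hn⟩ := Subgroup.mem_zpowers_iff.1 h1
      rw [← zpow_mod_orderOf, show orderOf (g * t * g⁻¹) = orderOf t from
        orderOf_injective (MulAut.conj g).toMonoidHom (MulAut.conj g).injective t, ht] at hn
      rcases Int.emod_two_eq_zero_or_one n with h | h <;> rw [show ((2 : ℕ) : ℤ) = 2 from rfl, h] at hn
      · exfalso
        rw [zpow_zero] at hn
        rw [conj_eq_one_iff.1 hn.symm, orderOf_one] at ht
        omega
      · rw [zpow_one] at hn; exact hn.symm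
    set m := c⁻¹ * g with hm
    have hmt : Commute m t := by
      show c⁻¹ * g * t = t * (c⁻¹ * g)
      calc c⁻¹ * g * t = c⁻¹ * (g * t * g⁻¹) * g := by group
        _ = t * (c⁻¹ * g) := by rw [← hct]; group
    have hnp : ¬ p ∣ orderOf m := fun hd => by
      obtain ⟨a, ha⟩ := hd
      have hm0 := orderOf_pos m
      have ha0 : a ≠ 0 := fun h0 => by rw [h0, mul_zero] at ha; omega
      have ho : orderOf (m ^ a) = p := by
        rw [orderOf_pow' _ ha0, ha, Nat.gcd_eq_right (dvd_mul_left a p), Nat.mul_div_cancel _ (Nat.pos_of_ne_zero ha0)]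
      exact hnoc (m ^ a) (fun h1 => (Fact.out : p.Prime).ne_one (by rw [← ho, h1, orderOf_one]))
        ⟨1, by rw [ho, pow_one]⟩ (hmt.pow_left a)
    -- compare in `N(C) / C`
    let NC := Subgroup.normalizer (C : Set G)
    let C' := C.subgroupOf NC
    have hC'n : C'.Normal := Subgroup.normal_in_normalizer
    have hgN : g ∈ NC := hNC hg
    have hcN : c ∈ NC := Subgroup.le_normalizer hc
    let π : NC →* NC ⧸ C' := QuotientGroup.mk' C'
    have e : π ⟨g, hgN⟩ = π ⟨m, mul_mem (inv_mem hcN) hgN⟩ := by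
      rw [show (⟨m, mul_mem (inv_mem hcN) hgN⟩ : NC) = ⟨c, hcN⟩⁻¹ * ⟨g, hgN⟩ from rfl, map_mul, map_inv,
        show π ⟨c, hcN⟩ = 1 from (QuotientGroup.eq_one_iff _).2 hc, inv_one, one_mul]
    obtain ⟨k, hk⟩ := hgk
    have h1 : orderOf (π ⟨g, hgN⟩) ∣ p ^ k :=
      hk ▸ (orderOf_map_dvd π _).trans (Subgroup.orderOf_mk g hgN).dvd
    have h2 : orderOf (π ⟨g, hgN⟩) ∣ orderOf m :=
      e ▸ (orderOf_map_dvd π _).trans (Subgroup.orderOf_mk m _).dvd
    have h3 := Nat.eq_one_of_dvd_coprimes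
      (((Fact.out : p.Prime).coprime_iff_not_dvd.2 hnp).pow_left k) h1 h2
    exact ((QuotientGroup.eq_one_iff _).1 (orderOf_eq_one_iff.1 h3) :)
  -- a `t`-invariant Sylow subgroup of `C` above `R`
  obtain ⟨S, hRS, htS⟩ := CfsgLib.Core.exists_invariant_sylow_ge (A := Subgroup.zpowers t) (K := C)
    (p := p) (Subgroup.zpowers_le.2 (hNC htR))
    (by rw [Nat.card_zpowers, ht]; exact (Nat.prime_two.coprime_iff_not_dvd).2 hCodd.not_two_dvd_nat)
    (Or.inl (Group.isSolvable_of_comm fun a b => mul_comm' a b)) hRC hRp (Subgroup.zpowers_le.2 htR)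
  have hSR : (S : Subgroup C).map C.subtype = R := by
    by_contra hne
    exact hmax _ ⟨hQR.trans hRS, S.isPGroup'.map _, htS (Subgroup.mem_zpowers t)⟩
      (lt_of_le_of_ne hRS (Ne.symm hne))
  -- hence `R` is Sylow
  obtain ⟨P', hP'⟩ := hRp.exists_le_sylow
  have hPR : (P' : Subgroup G) = R := by
    by_contra hne
    haveI := P'.isPGroup'.isNilpotent
    have hlt : R.subgroupOf (P' : Subgroup G) < ⊤ := by
      rw [lt_top_iff_ne_top, Ne, Subgroup.subgroupOf_eq_top]
      exact fun h => hne (le_antisymm h hP')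
    obtain ⟨g, hg, hgR⟩ := SetLike.exists_of_lt (Group.normalizerCondition_of_isNilpotent _ hlt)
    rw [← Subgroup.subgroupOf_normalizer_eq hP'] at hg
    obtain ⟨k, hk⟩ := IsPGroup.iff_orderOf.1 P'.isPGroup' g
    have hgC := hpC g hg ⟨k, by rw [Subgroup.orderOf_coe, hk]⟩
    have hUp : IsPGroup p ↥(R.subgroupOf C ⊔ Subgroup.zpowers (⟨g, hgC⟩ : C)) := by
      refine IsPGroup.of_injective ?_ (Subgroup.inclusion (show R.subgroupOf C ⊔ Subgroup.zpowers (⟨g, hgC⟩ : C) ≤
        ((P' : Subgroup G).subgroupOf C) from sup_le (fun x hx => hP' hx) (Subgroup.zpowers_le.2 g.2)))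
        (Subgroup.inclusion_injective _)
      exact P'.isPGroup'.comap_of_injective C.subtype C.subtype_injective
    have hSeq : (S : Subgroup C) = R.subgroupOf C := by
      apply Subgroup.map_injective C.subtype_injective
      rw [hSR, Subgroup.map_subgroupOf_eq_of_le hRC]
    have := S.is_maximal' hUp (hSeq ▸ le_sup_left)
    apply hgR
    have h2 : (⟨g, hgC⟩ : C) ∈ R.subgroupOf C := by
      rw [← hSeq, ← this]; exact Subgroup.mem_sup_right (Subgroup.mem_zpowers _)
    exact h2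
  obtain ⟨x, hx⟩ := MulAction.exists_smul_eq G P' P
  rw [← hx]
  show Even (Nat.card (Subgroup.normalizer ((MulAut.conj x • (P' : Subgroup G) : Subgroup G) : Set G)))
  have hxt : x * t * x⁻¹ ∈ Subgroup.normalizer ((MulAut.conj x • (P' : Subgroup G) : Subgroup G) : Set G) := by
    rw [hPR, Subgroup.mem_normalizer_iff]
    intro z
    rw [Subgroup.mem_pointwise_smul_iff_inv_smul_mem, Subgroup.mem_pointwise_smul_iff_inv_smul_mem]
    simp only [← map_inv, MulAut.smul_def, MulAut.conj_apply, inv_inv]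
    rw [show x⁻¹ * (x * t * x⁻¹ * z * (x * t * x⁻¹)⁻¹) * x = t * (x⁻¹ * z * x) * t⁻¹ by group]
    exact Subgroup.mem_normalizer_iff.1 htR _
  rw [even_iff_two_dvd, ← ht, show orderOf t = orderOf (x * t * x⁻¹) from
    (orderOf_injective (MulAut.conj x).toMonoidHom (MulAut.conj x).injective t).symm]
  exact (Subgroup.orderOf_mk _ hxt).symm.dvd.trans (orderOf_dvd_natCard _)

end Cfsg.Agent.S3982
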