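import Cfsg.Statements.S3983
import Cfsg.Agent.Lib.Orders.DirectFactor

set_option autoImplicit false
open scoped Pointwise
open Cfsg

namespace Cfsg.Agent.S3983

/-- Let P be a Sylow p-subgroup of the finite group G that meets each conjugate g P g⁻¹ with g outside N_G(P) trivially, and let U be a subgroup of G of order divisible by p. Then a Sylow p-subgroup Q of U has the same property inside U: Q meets each conjugate u Q u⁻¹ with u ∈ U outside N_U(Q) trivially. -/
theorem result {G : Type*} [Group G] [Finite G] (p : ℕ) [Fact p.Prime] (P : Sylow p G) (hTI : ∀ g : G, g ∉ Subgroup.normalizer ((P : Subgroup G) : Set G) → (P : Subgroup G) ⊓ (MulAut.conj g • (P : Subgroup G)) = ⊥) (U : Subgroup G) (hU : p ∣ Nat.card ↥U) (Q : Sylow p ↥U) : ∀ u : ↥U, u ∉ Subgroup.normalizer ((Q : Subgroup ↥U) : Set ↥U) → (Q : Subgroup ↥U) ⊓ (MulAut.conj u • (Q : Subgroup ↥U)) = ⊥ := by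
  intro u hu
  rw [Subgroup.eq_bot_iff_forall]
  rintro x ⟨hx, hx'⟩
  by_contra hne
  apply hu
  obtain ⟨R, hR⟩ := (Q.isPGroup'.map U.subtype).exists_le_sylow
  have hQR : (Q : Subgroup U) = (R : Subgroup G).subgroupOf U :=
    (Q.is_maximal' (R.isPGroup'.comap_of_injective U.subtype U.subtype_injective)
      (fun y hy => Subgroup.mem_subgroupOf.2 (hR ⟨y, hy, rfl⟩))).symm
  obtain ⟨y, hy, hyx⟩ := Subgroup.mem_smul_pointwise_iff_exists _ _ _ |>.1 hx'
  have hyx' : u * y * u⁻¹ = x := hyx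
  have huR : (u : G) ∈ Subgroup.normalizer ((R : Subgroup G) : Set G) := by
    refine CfsgLib.Orders.mem_normalizer_of_ti P hTI R (hR ⟨y, hy, rfl⟩) ?_ ?_
    · show (u : G) * y * (u : G)⁻¹ ∈ _
      have : ((u * y * u⁻¹ : U) : G) ∈ (R : Subgroup G) := by rw [hyx']; exact hR ⟨x, hx, rfl⟩
      exact this
    · intro h1
      apply hne
      have : y = 1 := Subtype.ext h1
      rw [← hyx', this, mul_one, mul_inv_cancel]
  rw [Subgroup.mem_normalizer_iff] at huR ⊢
  intro z
  rw [hQR, Subgroup.mem_subgroupOf, Subgroup.mem_subgroupOf]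
  exact huR z

end Cfsg.Agent.S3983
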