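import Cfsg.Statements.S3984
import Cfsg.Agent.Lib.Orders.DirectFactor

set_option autoImplicit false
open scoped Pointwise
open Cfsg

namespace Cfsg.Agent.S3984

/-- Let P be a Sylow p-subgroup of the finite group G that meets each conjugate g P g⁻¹ with g outside N_G(P) trivially, and let N be a normal subgroup of G of order prime to p. Then every Sylow p-subgroup Q of G ⧸ N meets each conjugate x Q x⁻¹ with x outside its normalizer trivially. -/
theorem result {G : Type*} [Group G] [Finite G] (p : ℕ) [Fact p.Prime] (P : Sylow p G) (hTI : ∀ g : G, g ∉ Subgroup.normalizer ((P : Subgroup G) : Set G) → (P : Subgroup G) ⊓ (MulAut.conj g • (P : Subgroup G)) = ⊥) (N : Subgroup G) [N.Normal] (hN : (Nat.card ↥N).Coprime p) (Q : Sylow p (G ⧸ N)) : ∀ x : G ⧸ N, x ∉ Subgroup.normalizer ((Q : Subgroup (G ⧸ N)) : Set (G ⧸ N)) → (Q : Subgroup (G ⧸ N)) ⊓ (MulAut.conj x • (Q : Subgroup (G ⧸ N))) = ⊥ := by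
  intro x hx
  rw [Subgroup.eq_bot_iff_forall]
  rintro s ⟨hs, hs'⟩
  by_contra hne
  apply hx
  obtain ⟨R, rfl⟩ := CfsgLib.Orders.exists_sylow_map_eq N Q
  obtain ⟨g, rfl⟩ := QuotientGroup.mk'_surjective N x
  obtain ⟨y, hy, hys⟩ := Subgroup.mem_smul_pointwise_iff_exists _ _ _ |>.1 hs'
  obtain ⟨r, hr, rfl⟩ := hy
  obtain ⟨r', hr', rfl⟩ := hs
  have hys' : QuotientGroup.mk' N (g * r * g⁻¹) = QuotientGroup.mk' N r' := by
    rw [map_mul, map_mul, map_inv]; exact hys
  obtain ⟨n, hn, hmem⟩ := CfsgLib.Orders.exists_conj_mem_sylow (N := N) R (t := g * r * g⁻¹)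
    ((R.isPGroup'.map (MulAut.conj g).toMonoidHom).to_le (by
      rw [Subgroup.zpowers_le]; exact ⟨r, hr, rfl⟩)) (by
      have : g * r * g⁻¹ = r' * (r'⁻¹ * (g * r * g⁻¹)) := by group
      rw [this]
      refine Subgroup.mul_mem_sup hr' ((QuotientGroup.eq_one_iff _).1 ?_)
      show QuotientGroup.mk' N (r'⁻¹ * (g * r * g⁻¹)) = 1
      rw [map_mul, map_inv, hys', inv_mul_cancel])
  have hr1 : r ≠ 1 := fun h => hne (by
    rw [← hys', h, mul_one, mul_inv_cancel, map_one])
  have hng := CfsgLib.Orders.mem_normalizer_of_ti P hTI R (g := n * g) hr (by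
    rwa [show n * g * r * (n * g)⁻¹ = n * (g * r * g⁻¹) * n⁻¹ by group]) hr1
  have hmap := (Subgroup.mem_map_of_mem (QuotientGroup.mk' N) hng)
  rw [show QuotientGroup.mk' N (n * g) = QuotientGroup.mk' N g by
    rw [map_mul, show QuotientGroup.mk' N n = 1 from (QuotientGroup.eq_one_iff _).2 hn, one_mul]] at hmap
  exact Subgroup.le_normalizer_map _ hmap

end Cfsg.Agent.S3984
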