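import Cfsg.Statements.S3985
import Cfsg.Agent.Lib.Orders.Parts
import Cfsg.Agent.Lib.Orders.DirectFactor
import Cfsg.Agent.Lib.PGroups.Basic

set_option autoImplicit false
open scoped Pointwise
open Cfsg
open scoped Pointwise

namespace Cfsg.Agent.S3985

/-- Let P be a cyclic Sylow p-subgroup of the finite group G. Then P meets each conjugate g P g⁻¹ with g outside N_G(P) trivially if and only if P is weakly self-centralizing: C_G(x) = C_G(P) for every non-identity x ∈ P. -/
theorem result {G : Type*} [Group G] [Finite G] (p : ℕ) [Fact p.Prime] (P : Sylow p G) (hcyc : IsCyclic ↥(P : Subgroup G)) : (∀ g : G, g ∉ Subgroup.normalizer ((P : Subgroup G) : Set G) → (P : Subgroup G) ⊓ (MulAut.conj g • (P : Subgroup G)) = ⊥) ↔ ∀ x : G, x ∈ (P : Subgroup G) → x ≠ 1 → Subgroup.centralizer ({x} : Set G) = Subgroup.centralizer ((P : Subgroup G) : Set G) := by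
  have hp : p.Prime := Fact.out
  constructor
  · intro hTI x hx hx1
    refine le_antisymm (fun g hg => ?_) (Subgroup.centralizer_le (Set.singleton_subset_iff.2 hx))
    rw [Subgroup.mem_centralizer_singleton_iff] at hg
    have hgn : g ∈ Subgroup.normalizer ((P : Subgroup G) : Set G) :=
      CfsgLib.Orders.mem_normalizer_of_ti P hTI P hx (by rwa [hg, mul_inv_cancel_right]) hx1
    obtain ⟨⟨y, hy⟩, hygen⟩ := hcyc.exists_generator
    have hgen : ∀ w ∈ (P : Subgroup G), ∃ i : ℤ, y ^ i = w := fun w hw => by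
      obtain ⟨i, hi⟩ := Subgroup.mem_zpowers_iff.1 (hygen ⟨w, hw⟩)
      exact ⟨i, congrArg Subtype.val hi⟩
    obtain ⟨u, v, hu, hv, rfl, -, ⟨b, hb⟩, hvp⟩ := CfsgLib.Orders.exists_split hp g
    have hu' := Subgroup.zpowers_le.2 hgn hu
    have hv' := Subgroup.zpowers_le.2 hgn hv
    have huP : u ∈ (P : Subgroup G) := by
      have hH : IsPGroup p (Subgroup.zpowers u ⊔ (P : Subgroup G) : Subgroup G) :=
        IsPGroup.to_sup_of_normal_right' (CfsgLib.HallGen.isPGroup_zpowers hb) P.isPGroup'
          (Subgroup.zpowers_le.2 hu')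
      rw [← P.is_maximal' hH le_sup_right]
      exact Subgroup.mem_sup_left (Subgroup.mem_zpowers u)
    obtain ⟨e, he⟩ := IsPGroup.iff_orderOf.1 P.isPGroup' ⟨y, hy⟩
    rw [Subgroup.orderOf_mk] at he
    obtain ⟨k, hk⟩ := hgen _ ((Subgroup.mem_normalizer_iff.1 hv' y).1 hy)
    obtain ⟨j, hj⟩ := hgen x hx
    have hvx : v * x * v⁻¹ = x := by
      have hux : u * x = x * u := by
        obtain ⟨i, hi⟩ := hgen u huP
        rw [← hi, ← hj, ← zpow_add, ← zpow_add, add_comm]
      have h1 : u * (v * x) = u * (x * v) := by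
        calc u * (v * x) = u * v * x := (mul_assoc u v x).symm
          _ = x * (u * v) := hg
          _ = x * u * v := (mul_assoc x u v).symm
          _ = u * x * v := by rw [hux]
          _ = u * (x * v) := mul_assoc u x v
      rw [mul_left_cancel h1, mul_inv_cancel_right]
    have hk1 : (p : ℤ) ∣ k - 1 := by
      have h1 : y ^ (j * (k - 1)) = 1 := by
        rw [mul_sub, mul_one, zpow_sub, mul_comm j, zpow_mul, hk, conj_zpow, hj, hvx, mul_inv_cancel]
      have h2 := orderOf_dvd_iff_zpow_eq_one.2 h1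
      rw [he, Nat.cast_pow] at h2
      have hpe : Prime (p : ℤ) := Nat.prime_iff_prime_int.1 hp
      by_contra hc
      refine hx1 ?_
      rw [← hj, ← orderOf_dvd_iff_zpow_eq_one, he, Nat.cast_pow]
      exact hpe.pow_dvd_of_dvd_mul_right e hc h2
    have hvy : Commute v y := CfsgLib.Orders.commute_of_pow_commute (hvp.pow_right e)
      (CfsgLib.Orders.commute_pow_of_conj_eq_zpow (he ▸ pow_orderOf_eq_one y) hk.symm hk1)
    rw [Subgroup.mem_centralizer_iff]
    intro w hw
    obtain ⟨i, rfl⟩ := hgen w hw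
    obtain ⟨l, rfl⟩ := hgen u huP
    exact (((Commute.refl y).zpow_zpow i l).mul_right (hvy.symm.zpow_left i))
  · intro h g hg
    rw [Subgroup.eq_bot_iff_forall]
    rintro x ⟨hx, hx'⟩
    by_contra hx1
    obtain ⟨y, hy, hyx⟩ := (Subgroup.mem_smul_pointwise_iff_exists _ _ _).1 hx'
    have hyx' : g * y * g⁻¹ = x := hyx
    apply hg
    have hsub : ∀ w ∈ (P : Subgroup G), g * w * g⁻¹ ∈ Subgroup.centralizer ((P : Subgroup G) : Set G) := by
      intro w hw
      rw [← h x hx hx1, Subgroup.mem_centralizer_singleton_iff, ← hyx']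
      obtain ⟨⟨z, hz⟩, hzgen⟩ := hcyc.exists_generator
      have hcomm : w * y = y * w := by
        obtain ⟨i, hi⟩ := Subgroup.mem_zpowers_iff.1 (hzgen ⟨w, hw⟩)
        obtain ⟨l, hl⟩ := Subgroup.mem_zpowers_iff.1 (hzgen ⟨y, hy⟩)
        have hi' := congrArg Subtype.val hi
        have hl' := congrArg Subtype.val hl
        simp only [Subgroup.coe_zpow] at hi' hl'
        rw [← hi', ← hl', ← zpow_add, ← zpow_add, add_comm]
      calc g * w * g⁻¹ * (g * y * g⁻¹) = g * (w * y) * g⁻¹ := by group
        _ = _ := by rw [hcomm]; group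
    have hle : (P : Subgroup G).map (MulAut.conj g).toMonoidHom ≤ (P : Subgroup G) := by
      have hH : IsPGroup p ((P : Subgroup G).map (MulAut.conj g).toMonoidHom ⊔ (P : Subgroup G) : Subgroup G) :=
        IsPGroup.to_sup_of_normal_right' (P.isPGroup'.map _) P.isPGroup' (by
          rintro _ ⟨w, hw, rfl⟩
          exact Subgroup.centralizer_le_normalizer _ (hsub w hw))
      exact le_sup_left.trans (P.is_maximal' hH le_sup_right).le
    rw [CfsgLib.Core.mem_normalizer_iff_conj_smul_eq, CfsgLib.Core.conj_smul_eq_map]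
    exact Subgroup.eq_of_le_of_card_ge hle (le_of_eq (Nat.card_congr
      ((P : Subgroup G).equivMapOfInjective (MulAut.conj g).toMonoidHom (MulAut.conj g).injective).toEquiv))

end Cfsg.Agent.S3985
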