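import Cfsg.Statements.S3997
import Cfsg.Agent.Lib.Orders.DirectFactor

set_option autoImplicit false
open Cfsg
open scoped Pointwise

namespace Cfsg.Agent.S3997

/-- Let G and H be finite groups with the same order type: for every m they have the same number of elements of order m. If G is nilpotent then so is H. -/
theorem result {G H : Type*} [Group G] [Finite G] [Group H] [Finite H] (hT : (∀ m : ℕ, Nat.card {g : G // orderOf g = m} = Nat.card {h : H // orderOf h = m})) (hG : Group.IsNilpotent G) :
    Group.IsNilpotent H := by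
  let e : G ≃ H := Equiv.ofFiberEquiv (f := (orderOf : G → ℕ)) (g := (orderOf : H → ℕ))
    fun m => Classical.choice (Finite.card_eq.1 (hT m))
  have he : ∀ x, orderOf (e x) = orderOf x := Equiv.ofFiberEquiv_map _
  refine ((Group.isNilpotent_of_finite_tfae (G := H)).out 0 3 rfl rfl).2 ?_
  intro p hp P
  obtain ⟨Q⟩ : Nonempty (Sylow p G) := inferInstance
  have hQ : (Q : Subgroup G).Normal :=
    ((Group.isNilpotent_of_finite_tfae (G := G)).out 0 3 rfl rfl).1 hG p hp Q
  have hset : ∀ {y : H} {a : ℕ}, orderOf y = p ^ a → y ∈ (P : Subgroup H) := by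
    have hsub : ((P : Subgroup H) : Set H) ⊆ e '' ((Q : Subgroup G) : Set G) := by
      intro y hy
      obtain ⟨a, ha⟩ := IsPGroup.iff_orderOf.1 P.isPGroup' ⟨y, hy⟩
      rw [Subgroup.orderOf_mk] at ha
      exact ⟨e.symm y, CfsgLib.Orders.mem_of_pelement Q (by rw [← he, e.apply_symm_apply, ha]),
        e.apply_symm_apply y⟩
    have heq : ((P : Subgroup H) : Set H) = e '' ((Q : Subgroup G) : Set G) := by
      refine Set.eq_of_subset_of_ncard_le hsub ?_ (Set.toFinite _)
      rw [Set.ncard_image_of_injective _ e.injective, ← Nat.card_coe_set_eq, ← Nat.card_coe_set_eq]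
      show Nat.card ↥(Q : Subgroup G) ≤ Nat.card ↥(P : Subgroup H)
      rw [Q.card_eq_multiplicity, P.card_eq_multiplicity, Nat.card_congr e]
    intro y a ha
    show y ∈ ((P : Subgroup H) : Set H)
    rw [heq]
    exact ⟨e.symm y, CfsgLib.Orders.mem_of_pelement Q (by rw [← he, e.apply_symm_apply, ha]),
      e.apply_symm_apply y⟩
  refine ⟨fun n hn g => ?_⟩
  obtain ⟨a, ha⟩ := IsPGroup.iff_orderOf.1 P.isPGroup' ⟨n, hn⟩
  rw [Subgroup.orderOf_mk] at ha
  refine hset (a := a) ?_
  rw [← ha]
  exact orderOf_injective (MulAut.conj g).toMonoidHom (MulAut.conj g).injective n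

end Cfsg.Agent.S3997
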