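import Cfsg.Statements.S3999
import Cfsg.Agent.Lib.Orders.ComplementSolvable
import Cfsg.Agent.Lib.OddLocal.CNSolvable

set_option autoImplicit false
open Cfsg
open scoped Pointwise commutatorElement

namespace Cfsg.Agent.S3999

/-- Let F be a finite Frobenius group (it has a Frobenius complement) and G a finite group with the same order type as F (for every m the same number of elements of order m). Then G is a Frobenius group; moreover G is solvable if and only if F is. -/
theorem result {F G : Type*} [Group F] [Finite F] [Group G] [Finite G] (hF : (∃ C : Subgroup F, Cfsg.IsFrobeniusComplement C)) (hT : (∀ m : ℕ, Nat.card {g : F // orderOf g = m} = Nat.card {h : G // orderOf h = m})) :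
    (∃ C : Subgroup G, Cfsg.IsFrobeniusComplement C) ∧ (Group.IsSolvable G ↔ Group.IsSolvable F) := by
  classical
  -- an order preserving bijection
  let e : F ≃ G := Equiv.ofFiberEquiv (f := (orderOf : F → ℕ)) (g := (orderOf : G → ℕ))
    fun m => (Finite.card_eq.1 (hT m)).some
  have he : ∀ x, orderOf (e x) = orderOf x := fun x => Equiv.ofFiberEquiv_map _ x
  have hcount : ∀ P : ℕ → Prop, Nat.card {x : F // P (orderOf x)} = Nat.card {y : G // P (orderOf y)} :=
    fun P => Nat.card_congr (e.subtypeEquiv fun x => by rw [he])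
  have hcardGF : Nat.card F = Nat.card G := Nat.card_congr e
  obtain ⟨C, hC⟩ := hF
  obtain ⟨N, hN, hn, hc, hne, hfpf⟩ := CfsgLib.Core.FrobeniusConj.exists_kernel hC
  obtain ⟨-, -, -, hnil, -, hout⟩ := CfsgLib.Orders.TwoFrobenius.frobenius_data C N hC hN.symm
  haveI := hn
  haveI := hnil
  have hAK : C ≤ Subgroup.normalizer (N : Set F) := by rw [Subgroup.normalizer_eq_top_iff.2 hn]; exact le_top
  have hco : (Nat.card N).Coprime (Nat.card C) := (CfsgLib.Core.FPF.coprime_card hAK hfpf).symm
  set n := Nat.card N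
  have hnc : n * Nat.card C = Nat.card F := hc.card_mul
  have hmemN : ∀ x : F, (orderOf x).Coprime (Nat.card C) → x ∈ N := by
    intro x hx
    rw [← QuotientGroup.eq_one_iff, ← orderOf_eq_one_iff]
    refine Nat.eq_one_of_dvd_coprimes hx (orderOf_map_dvd (QuotientGroup.mk' N) x) ?_
    refine (orderOf_dvd_natCard _).trans (dvd_of_eq ?_)
    rw [← Subgroup.index_eq_card]
    exact Nat.eq_of_mul_eq_mul_left (Nat.card_pos (α := N)) (N.card_mul_index.trans hnc.symm)
  -- normal subgroups of G of every Hall order dividing n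
  have hbuild : ∀ d : ℕ, d ∣ n → d.Coprime (n / d) → ∃ K : Subgroup G, K.Normal ∧ Nat.card K = d := by
    intro d
    induction d using Nat.recOnPosPrimePosCoprime with
    | zero => intro h; exact absurd (Nat.eq_zero_of_zero_dvd h) Nat.card_pos.ne'
    | one => exact fun _ _ => ⟨⊥, inferInstance, Subgroup.card_bot⟩
    | prime_pow r k hr hk =>
      intro hd hcop
      haveI := Fact.mk hr
      have hfN : n.factorization r = k := by
        obtain ⟨q, hq⟩ := hd
        have hq0 : q ≠ 0 := fun h => Nat.card_pos.ne' (hq.trans (by rw [h, mul_zero]))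
        rw [hq, Nat.mul_div_cancel_left q (pow_pos hr.pos k)] at hcop
        have hrq : ¬ r ∣ q := (Nat.Prime.coprime_iff_not_dvd hr).1 ((Nat.coprime_pow_left_iff hk _ _).1 hcop)
        rw [hq, Nat.factorization_mul (pow_ne_zero _ hr.ne_zero) hq0, hr.factorization_pow, Finsupp.add_apply,
          Finsupp.single_eq_same, Nat.factorization_eq_zero_of_not_dvd hrq, add_zero]
      have hrc : ¬ r ∣ Nat.card C := fun h => hr.ne_one (Nat.eq_one_of_dvd_coprimes hco
        ((dvd_pow_self r hk.ne').trans hd) h)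
      have hfF : (Nat.card F).factorization r = k := by
        rw [← hnc, Nat.factorization_mul Nat.card_pos.ne' Nat.card_pos.ne', Finsupp.add_apply, hfN,
          Nat.factorization_eq_zero_of_not_dvd hrc, add_zero]
      obtain ⟨R⟩ := (inferInstance : Nonempty (Sylow r N))
      haveI hRn : (R : Subgroup N).Normal := inferInstance
      haveI := Sylow.unique_of_normal R hRn
      have hF1 : Nat.card {x : F // orderOf x ∣ r ^ k} ≤ r ^ k := by
        have hR : Nat.card (R : Subgroup N) = r ^ k := by rw [R.card_eq_multiplicity]; exact congrArg _ hfN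
        refine le_of_le_of_eq ?_ hR
        have hin : ∀ x : {x : F // orderOf x ∣ r ^ k}, ∃ y : (R : Subgroup N), ((y : N) : F) = x.1 := by
          rintro ⟨x, hx⟩
          have hxN : x ∈ N := hmemN x (Nat.Coprime.coprime_dvd_left hx (((Nat.Prime.coprime_iff_not_dvd hr).2 hrc).pow_left k))
          obtain ⟨i, -, hi⟩ := (Nat.dvd_prime_pow hr).1 hx
          obtain ⟨Q, hQ⟩ := (show IsPGroup r (Subgroup.zpowers (⟨x, hxN⟩ : N)) from
            IsPGroup.of_card (n := i) (by rw [Nat.card_zpowers, Subgroup.orderOf_mk, hi])).exists_le_sylow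
          exact ⟨⟨⟨x, hxN⟩, Subsingleton.elim Q R ▸ hQ (Subgroup.mem_zpowers _)⟩, rfl⟩
        choose f hf using hin
        exact Nat.card_le_card_of_injective f fun a b hab => Subtype.ext (by rw [← hf a, ← hf b, hab])
      rw [hcount (fun o => o ∣ r ^ k)] at hF1
      obtain ⟨Q⟩ := (inferInstance : Nonempty (Sylow r G))
      have hQc : Nat.card (Q : Subgroup G) = r ^ k := by rw [Q.card_eq_multiplicity, ← hcardGF, hfF]
      have hall : ∀ y : G, orderOf y ∣ r ^ k → y ∈ (Q : Subgroup G) := by
        intro y hy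
        have hsub : ∀ z : (Q : Subgroup G), orderOf (z : G) ∣ r ^ k := fun z => hQc ▸ (Q : Subgroup G).orderOf_dvd_natCard z.2
        have hinj : Function.Injective (fun z : (Q : Subgroup G) => (⟨z, hsub z⟩ : {y : G // orderOf y ∣ r ^ k})) :=
          fun a b h => Subtype.ext (congrArg Subtype.val h :)
        obtain ⟨z, hz⟩ := ((Nat.bijective_iff_injective_and_card _).2 ⟨hinj, le_antisymm
          (Nat.card_le_card_of_injective _ hinj) (hQc.symm ▸ hF1)⟩).2 ⟨y, hy⟩
        have hzy : (z : G) = y := congrArg Subtype.val hz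
        rw [← hzy]; exact z.2
      refine ⟨Q, ⟨fun q hq g => hall _ ?_⟩, hQc⟩
      exact (MulAut.conj g).orderOf_eq q ▸ hQc ▸ (Q : Subgroup G).orderOf_dvd_natCard hq
    | coprime a b ha hb hab iha ihb =>
      intro hd hcop
      obtain ⟨q, hq⟩ := hd
      rw [hq, Nat.mul_div_cancel_left q (by positivity)] at hcop
      obtain ⟨A, hA, hAc⟩ := iha ⟨b * q, by rw [hq]; ring⟩ (by
        rw [hq, mul_assoc, Nat.mul_div_cancel_left _ (by omega)]
        exact Nat.Coprime.mul_right hab (Nat.Coprime.coprime_dvd_left (dvd_mul_right a b) hcop))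
      obtain ⟨B, hB, hBc⟩ := ihb ⟨a * q, by rw [hq]; ring⟩ (by
        rw [hq, mul_comm a b, mul_assoc, Nat.mul_div_cancel_left _ (by omega)]
        exact Nat.Coprime.mul_right hab.symm (Nat.Coprime.coprime_dvd_left (dvd_mul_left b a) hcop))
      haveI := hA; haveI := hB
      refine ⟨A ⊔ B, inferInstance, ?_⟩
      rw [CfsgLib.Core.card_sup_of_disjoint A B (by rw [Subgroup.normalizer_eq_top_iff.2 hB]; exact le_top)
        (disjoint_iff.1 (Subgroup.disjoint_of_coprime_natCard (by rw [hAc, hBc]; exact hab))), hAc, hBc]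
  obtain ⟨K, hK, hKc⟩ := hbuild n dvd_rfl (by rw [Nat.div_self Nat.card_pos]; exact Nat.coprime_one_right n)
  haveI := hK
  have hKi : K.index = Nat.card C := by
    have h1 := K.card_mul_index
    rw [hKc, ← hcardGF, ← hnc] at h1
    exact Nat.eq_of_mul_eq_mul_left Nat.card_pos h1
  obtain ⟨C', hC'⟩ := Subgroup.exists_right_complement'_of_coprime (N := K) (by rw [hKc, hKi]; exact hco)
  have hC'c : Nat.card C' = Nat.card C := by
    have h1 := hC'.card_mul
    rw [hKc, ← hcardGF, ← hnc] at h1
    exact Nat.eq_of_mul_eq_mul_left Nat.card_pos h1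
  have hfree : ∀ c ∈ C', c ≠ 1 → K ⊓ Subgroup.centralizer ({c} : Set G) = ⊥ := by
    intro c hc hc1
    rw [eq_bot_iff]
    rintro k ⟨hk, hkc⟩
    rw [Subgroup.mem_bot]
    by_contra hk1
    have hcomm : Commute c k := (Subgroup.mem_centralizer_singleton_iff.1 hkc).symm
    have hoc : orderOf c ∣ Nat.card C := hC'c ▸ C'.orderOf_dvd_natCard hc
    have hok : orderOf k ∣ n := hKc ▸ K.orderOf_dvd_natCard hk
    have hcp : (orderOf c).Coprime (orderOf k) := (hco.symm.coprime_dvd_left hoc).coprime_dvd_right hok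
    set x := e.symm (c * k)
    have hox : orderOf x = orderOf c * orderOf k := by
      rw [← he x, Equiv.apply_symm_apply, hcomm.orderOf_mul_eq_mul_orderOf_of_coprime hcp]
    have hk' : orderOf (x ^ orderOf c) = orderOf k := by
      rw [orderOf_pow, hox, Nat.gcd_eq_right (dvd_mul_right _ _), Nat.mul_div_cancel_left _ (orderOf_pos c)]
    have hc' : orderOf (x ^ orderOf k) = orderOf c := by
      rw [orderOf_pow, hox, Nat.gcd_eq_right (dvd_mul_left _ _), Nat.mul_div_cancel _ (orderOf_pos k)]
    have h1 : x ^ orderOf c ∈ N := hmemN _ (by rw [hk']; exact Nat.Coprime.coprime_dvd_left hok hco)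
    have h2 : x ^ orderOf k ∉ N := fun h => hc1 (orderOf_eq_one_iff.1
      (Nat.eq_one_of_dvd_coprimes hco (hc' ▸ N.orderOf_dvd_natCard h) hoc))
    have h3 := hout _ h2 _ h1 ((Commute.refl x).pow_pow _ _).eq
    exact hk1 (orderOf_eq_one_iff.1 (by rw [← hk', h3, orderOf_one]))
  have hC'b : C' ≠ ⊥ := fun h => by
    rw [h, Subgroup.card_bot] at hC'c
    exact hC.1 (Subgroup.card_eq_one.1 hC'c.symm)
  have hC't : C' ≠ ⊤ := fun h => by
    rw [h, Subgroup.card_top, ← hcardGF, ← hnc] at hC'c
    have h1 : n = 1 := Nat.eq_of_mul_eq_mul_right Nat.card_pos (hC'c.trans (one_mul _).symm)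
    exact hne (Subgroup.card_eq_one.1 h1)
  have hCG : Cfsg.IsFrobeniusComplement C' :=
    CfsgLib.OddLocal.CN.isFrobeniusComplement_of_fpf hC' hC'b hC't hfree
  refine ⟨⟨C', hCG⟩, ?_⟩
  rw [CfsgLib.Orders.ComplementSolvable.isSolvable_frobenius_iff hCG,
    CfsgLib.Orders.ComplementSolvable.isSolvable_frobenius_iff hC]
  have hidx : C'.index = C.index := by
    have h1 := C'.card_mul_index
    have h2 := C.card_mul_index
    rw [hC'c, ← hcardGF, ← h2] at h1
    exact Nat.eq_of_mul_eq_mul_left Nat.card_pos h1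
  rw [hidx]
  refine forall_congr' fun p => forall_congr' fun _ => forall_congr' fun _ => forall_congr' fun _ => ?_
  rw [hT p]

end Cfsg.Agent.S3999
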