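import Cfsg.Statements.S4009
import Cfsg.Agent.Lib.PGroups.DerivedOrder

set_option autoImplicit false
open Cfsg
open scoped Pointwise commutatorElement

namespace Cfsg.Agent.S4009

/-- Let P be a finite p-group of order p^n whose derived length is exactly k + 1 (the k-th derived subgroup is nontrivial and the (k+1)-st is trivial). Then n ≥ 2^k + 2k − 2. -/
theorem result {P : Type*} [Group P] [Finite P] (p : ℕ) [Fact p.Prime] (n k : ℕ) (hcard : Nat.card P = p ^ n) (hk : derivedSeries P k ≠ ⊥) (hk' : derivedSeries P (k + 1) = ⊥) : 2 ^ k + 2 * k ≤ n + 2 := by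
  have hP : IsPGroup p P := IsPGroup.of_card hcard
  have h := CfsgLib.PGroups.DerivedOrder.mann_bound hP k ⊤ 0 (by rw [Subgroup.lowerCentralSeries_zero])
    (by rw [CfsgLib.PGroups.DerivedOrder.der_top]; exact hk)
  rw [Subgroup.card_top, hcard, ← pow_add] at h
  have := (Nat.pow_le_pow_iff_right (Fact.out : p.Prime).one_lt).1 h
  omega

end Cfsg.Agent.S4009
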