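import Cfsg.Statements.S4013
import Cfsg.Agent.Lib.Orders.DirectFactor

set_option autoImplicit false
open Cfsg

namespace Cfsg.Agent.S4013

/-- Let G be a finite p-group (p prime) and N < M normal subgroups of G such that for some g ∈ M ∖ N the conjugacy class of g is exactly M ∖ N. Then p = 2 and N has index 2 in M. -/
theorem result {G : Type*} [Group G] [Finite G] (p : ℕ) [Fact p.Prime] (hG : IsPGroup p G) (N M : Subgroup G) [N.Normal] [M.Normal] (hNM : N < M) (g : G) (hgM : g ∈ M) (hgN : g ∉ N) (hcl : {h : G | IsConj g h} = (M : Set G) \ (N : Set G)) : p = 2 ∧ N.relIndex M = 2 := by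
  obtain ⟨a, ha⟩ := hG.index (Subgroup.centralizer ({g} : Set G))
  have hcard : Nat.card ↥M - Nat.card ↥N = p ^ a := by
    have h1 : Nat.card {h : G // IsConj g h} = p ^ a := by
      rw [← ha]; exact CfsgLib.Orders.card_isConj g
    rw [← h1]
    show _ = Nat.card ↥{h : G | IsConj g h}
    rw [hcl, Nat.card_coe_set_eq, Set.ncard_sdiff (SetLike.coe_subset_coe.2 hNM.le)]
    rfl
  obtain ⟨b, hb⟩ := hG.to_subgroup M |>.exists_card_eq
  obtain ⟨c, hc⟩ := hG.to_subgroup N |>.exists_card_eq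
  have hlt : c < b := by
    have := Set.ncard_lt_ncard (SetLike.coe_ssubset_coe.2 hNM) (Set.toFinite _)
    rw [← Nat.card_coe_set_eq, ← Nat.card_coe_set_eq] at this
    change Nat.card ↥N < Nat.card ↥M at this
    rw [hb, hc] at this
    exact (Nat.pow_lt_pow_iff_right (Fact.out : p.Prime).one_lt).1 this
  have hp := (Fact.out : p.Prime)
  rw [hb, hc] at hcard
  obtain ⟨d, rfl⟩ : ∃ d, b = c + (d + 1) := ⟨b - c - 1, by omega⟩
  have hmul : p ^ c * (p ^ (d + 1) - 1) = p ^ a := by rw [Nat.mul_sub, ← pow_add, mul_one]; exact hcard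
  obtain ⟨i, -, hi⟩ := (Nat.dvd_prime_pow hp).1 (Dvd.intro_left _ hmul)
  have hi0 : i = 0 := by
    by_contra h0
    have h1 : p ∣ p ^ (d + 1) - 1 := hi ▸ dvd_pow_self p h0
    have h2 : p ∣ p ^ (d + 1) := dvd_pow_self p (by omega)
    have := Nat.dvd_sub h2 h1
    rw [Nat.sub_sub_self (Nat.one_le_pow _ _ hp.pos)] at this
    exact hp.not_dvd_one this
  rw [hi0, pow_zero] at hi
  have h3 : p ^ (d + 1) = 2 := by
    have := Nat.one_le_pow (d + 1) p hp.pos; omega
  have h4 : p = 2 := ((Nat.prime_dvd_prime_iff_eq hp Nat.prime_two).1 (h3 ▸ dvd_pow_self p (by omega)))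
  refine ⟨h4, ?_⟩
  have hidx := Subgroup.relIndex_mul_relIndex ⊥ N M bot_le hNM.le
  rw [Subgroup.relIndex_bot_left, Subgroup.relIndex_bot_left, hb, hc, pow_add] at hidx
  exact (Nat.eq_of_mul_eq_mul_left (pow_pos hp.pos c) hidx).trans h3

end Cfsg.Agent.S4013
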