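import Cfsg.Statements.S4017
import Cfsg.Agent.Lib.Orders.TwoPrimeMain

set_option autoImplicit false
open Cfsg
open scoped Pointwise commutatorElement

namespace Cfsg.Agent.S4017

/-- Let G be a finite group and let p and q be distinct primes dividing the order of G, with p odd. Suppose that p divides the order of every proper subgroup of G that is neither a q-group nor of order prime to q. Let q^a be the q-part of the order of G. If p > q^a − 1, or if p = q^a − 1 and the Sylow p-subgroups of G are abelian, then p and q are the only primes dividing the order of G. -/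
theorem result {G : Type*} [Group G] [Finite G]
    {p q : ℕ} (hp : p.Prime) (hq : q.Prime) (hpq : p ≠ q) (hp2 : p ≠ 2)
    (hpG : p ∣ Nat.card G) (hqG : q ∣ Nat.card G)
    (hmix : ∀ H : Subgroup G, H ≠ ⊤ → ¬ IsPGroup q H → q ∣ Nat.card H → p ∣ Nat.card H)
    (hlarge : q ^ (Nat.card G).factorization q - 1 < p ∨
      (p = q ^ (Nat.card G).factorization q - 1 ∧ ∀ P : Sylow p G, IsMulCommutative P)) :
    ∀ r : ℕ, r.Prime → r ∣ Nat.card G → r = p ∨ r = q := by
  haveI := Fact.mk hp
  haveI := Fact.mk hq
  have hmix' : CfsgLib.Orders.Mixed.Mixed p q G := by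
    intro H hqH hpH
    by_contra hH
    exact hpH (hmix H (fun e => hpH (by rw [e, Subgroup.card_top]; exact hpG)) hH hqH)
  intro r hr hrG
  rcases hlarge with h | ⟨h, hab⟩
  · exact CfsgLib.Orders.Mixed.two_primes_of_small hmix' hpq hqG
      (by have := pow_pos hq.pos ((Nat.card G).factorization q); omega) hr hrG
  · by_contra hcon
    push Not at hcon
    have hb : q ^ (Nat.card G).factorization q = p + 1 := by
      have := hp.two_le; omega
    obtain ⟨Q⟩ : Nonempty (Sylow q G) := inferInstance
    obtain ⟨hq2, -⟩ := CfsgLib.Orders.Mixed.exists_transitive hmix' hpq hp2 hqG hb Q hr hrG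
      hcon.1 hcon.2
    subst hq2
    exact (CfsgLib.Orders.Mixed.two_primes_of_equal hp2 _ G rfl hmix' hqG hb hab r hr hrG).elim
      hcon.1 hcon.2

end Cfsg.Agent.S4017
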