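import Cfsg.Statements.S4018
import Mathlib

set_option autoImplicit false
set_option linter.all false
open Cfsg
open scoped Pointwise

namespace Cfsg.Agent.S4018

theorem trace_contra {I : Type*} [Finite I] (i0 : I) (R : I → I → Prop) (d : ℕ) (hd : 3 ≤ d)
    (hsym : ∀ i j, R i j → R j i) (hirr : ∀ i, ¬ R i i)
    (hdeg : ∀ i, Nat.card {j // R i j} = d)
    (huniq : ∀ i j, i ≠ j → ∃! k, R i k ∧ R k j) : False := by
  classical
  haveI := Fintype.ofFinite I
  haveI : Fact (d - 1).minFac.Prime := ⟨Nat.minFac_prime (by omega)⟩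
  set p := (d - 1).minFac
  have hd1 : (d : ZMod p) = 1 := by
    have h : ((d - 1 : ℕ) : ZMod p) = 0 := (ZMod.natCast_eq_zero_iff _ _).2 (Nat.minFac_dvd _)
    rw [show d = (d - 1) + 1 by omega, Nat.cast_add, h, zero_add, Nat.cast_one]
  let A : Matrix I I (ZMod p) := Matrix.of fun i j => if R i j then 1 else 0
  let J : Matrix I I (ZMod p) := Matrix.of fun _ _ => 1
  have hrow : ∀ i, ∑ k, A i k = 1 := fun i => by
    simp only [A, Matrix.of_apply, Finset.sum_boole]
    rw [← Fintype.card_subtype, ← Nat.card_eq_fintype_card, hdeg i, hd1]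
  have hAA : A * A = J := by
    ext i j
    rw [Matrix.mul_apply]
    by_cases hij : i = j
    · subst hij
      refine (Finset.sum_congr rfl fun k _ => ?_).trans (hrow i)
      by_cases h : R i k
      · simp [A, h, hsym _ _ h]
      · simp [A, h]
    · obtain ⟨k, ⟨h1, h2⟩, hu⟩ := huniq i j hij
      rw [Finset.sum_eq_single k]
      · simp [A, J, h1, h2]
      · intro l _ hl
        by_cases h1' : R i l
        · by_cases h2' : R l j
          · exact absurd (hu l ⟨h1', h2'⟩) hl
          · simp [A, h2']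
        · simp [A, h1']
      · simp
  have hAJ : A * J = J := by
    ext i j
    rw [Matrix.mul_apply]
    exact (Finset.sum_congr rfl fun k _ => by simp [J]).trans (hrow i)
  have hpow : ∀ m, A ^ (m + 2) = J := by
    intro m
    induction m with
    | zero => rw [pow_two, hAA]
    | succ m ih => rw [pow_succ', ih, hAJ]
  have hJJ : J * J = J := by
    calc J * J = A * A * J := by rw [hAA]
      _ = J := by rw [Matrix.mul_assoc, hAJ, hAJ]
  have hn : (Fintype.card I : ZMod p) = 1 := by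
    have := congrFun (congrFun hJJ i0) i0
    simpa [Matrix.mul_apply, J] using this
  have hp2 := (Fact.out : p.Prime).two_le
  have ht := ZMod.trace_pow_card A
  have htA : Matrix.trace A = 0 := by simp [Matrix.trace, A, hirr]
  have hJ : A ^ p = J := by
    obtain ⟨m, hm⟩ : ∃ m, p = m + 2 := ⟨p - 2, by omega⟩
    rw [show A ^ p = A ^ (m + 2) by rw [← hm], hpow]
  rw [hJ, htA, zero_pow (by omega)] at ht
  simp [Matrix.trace, J] at ht
  rw [hn] at ht
  exact one_ne_zero ht

theorem mem_normalizer_of_conj {G : Type*} [Group G] [Finite G] (K : Subgroup G) (g : G)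
    (h : ∀ a ∈ K, g * a * g⁻¹ ∈ K) : g ∈ Subgroup.normalizer (K : Set G) := by
  refine Subgroup.mem_normalizer_iff.2 fun a => ⟨h a, fun ha => ?_⟩
  have hinj : Function.Injective (fun x : K => (⟨g * x * g⁻¹, h x x.2⟩ : K)) := fun x y hxy =>
    Subtype.ext (mul_left_cancel (mul_right_cancel (congrArg Subtype.val hxy)))
  obtain ⟨b, hb⟩ := (Finite.injective_iff_surjective.1 hinj) ⟨_, ha⟩
  have : (b : G) = a := mul_left_cancel (mul_right_cancel (congrArg Subtype.val hb))
  exact this ▸ b.2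

theorem mul_self_eq_one_iff_inv {G : Type*} [Group G] {a : G} (h : a * a = 1) : a⁻¹ = a :=
  inv_eq_of_mul_eq_one_right h

/-- Let G be a finite group with an abelian Sylow 3-subgroup P such that the normalizer of P has order 4·#P, the centralizer C of P has order 2·#P, C meets each of its conjugates by elements outside its normalizer trivially, and every proper subgroup of G of even order has order dividing 4·#P. Then G is not simple. -/
theorem result {G : Type*} [Group G] [Finite G]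
    (P : Sylow 3 G) (hab : IsMulCommutative P)
    (hN : Nat.card (Subgroup.normalizer ((P : Subgroup G) : Set G)) = 4 * Nat.card P)
    (hC : Nat.card (Subgroup.centralizer (P : Set G)) = 2 * Nat.card P)
    (hTI : Cfsg.IsTISubset (Subgroup.centralizer (P : Set G) : Set G))
    (heven : ∀ H : Subgroup G, H ≠ ⊤ → 2 ∣ Nat.card H → Nat.card H ∣ 4 * Nat.card P) :
    ¬ IsSimpleGroup G := by
  classical
  intro hs
  set h := Nat.card P with hh
  set C := Subgroup.centralizer (P : Set G) with hCdef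
  set N := Subgroup.normalizer ((P : Subgroup G) : Set G) with hNdef
  haveI : Fact (Nat.Prime 2) := ⟨Nat.prime_two⟩
  haveI : Fact (Nat.Prime 3) := ⟨Nat.prime_three⟩
  obtain ⟨a, ha⟩ := IsPGroup.iff_card.1 P.2
  have hodd : Odd h := by rw [hh]; exact ha ▸ (show Odd (3 : ℕ) by decide).pow
  have hPC : (P : Subgroup G) ≤ C := Subgroup.le_centralizer_iff_isMulCommutative.2 hab
  have hCN : C ≤ N := fun c hc => mem_normalizer_of_conj _ c fun x hx => by
    rw [← Subgroup.mem_centralizer_iff.1 hc x hx, mul_inv_cancel_right]; exact hx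
  have hPN : (P : Subgroup G) ≤ N := hPC.trans hCN
  have hnormP : ∀ n ∈ N, ∀ y ∈ (P : Subgroup G), n * y * n⁻¹ ∈ (P : Subgroup G) := fun n hn y hy =>
    (Subgroup.mem_normalizer_iff.1 hn y).1 hy
  haveI hPsN : ((P : Subgroup G).subgroupOf N).Normal := Subgroup.normal_in_normalizer
  have hi4 : ((P : Subgroup G).subgroupOf N).index = 4 := by
    have h1 := ((P : Subgroup G).subgroupOf N).card_mul_index
    rw [Nat.card_congr (Subgroup.subgroupOfEquivOfLe hPN).toEquiv, hN] at h1
    exact Nat.eq_of_mul_eq_mul_left Nat.card_pos (h1.trans (Nat.mul_comm 4 h))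
  have hQ : ∀ w ∈ N, w ^ h = 1 → w ∈ (P : Subgroup G) := by
    intro w hw hwh
    have h4 : w ^ 4 ∈ (P : Subgroup G) := by
      have := ((P : Subgroup G).subgroupOf N).pow_index_mem (⟨w, hw⟩ : N)
      rw [hi4] at this
      exact this
    obtain ⟨j, hj⟩ := hodd
    have hm : w = w ^ (1 + h * (if h % 4 = 1 then 3 else 1)) := by
      rw [pow_add, pow_one, pow_mul, hwh, one_pow, mul_one]
    obtain ⟨q, hq⟩ : 4 ∣ 1 + h * (if h % 4 = 1 then 3 else 1) := by split_ifs <;> omega
    rw [hm, hq, pow_mul]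
    exact pow_mem h4 q
  have hpowP : ∀ y ∈ (P : Subgroup G), y ^ h = 1 := fun y hy =>
    congrArg Subtype.val (pow_card_eq_one' (x := (⟨y, hy⟩ : (P : Subgroup G))))
  have hqC : ∀ y ∈ (P : Subgroup G), y * y = 1 → y = 1 := by
    intro y hy hyy
    obtain ⟨j, hj⟩ := hodd
    have := hpowP y hy
    rwa [hj, pow_succ, pow_mul, pow_two, hyy, one_pow, one_mul] at this
  -- the centre is trivial
  have hCne : C ≠ ⊤ := fun hC' => by
    have hN' : N = ⊤ := eq_top_iff.2 (hC' ▸ hCN)
    rw [hC'] at hC; rw [hN'] at hN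
    have := Nat.card_pos (α := P)
    omega
  have hcen : ∀ x : G, (∀ g, g * x = x * g) → x = 1 := by
    intro x hx
    rcases (inferInstance : (Subgroup.center G).Normal).eq_bot_or_eq_top with hb | hb
    · exact (Subgroup.eq_bot_iff_forall _).1 hb x (Subgroup.mem_center_iff.2 hx)
    · exact absurd (eq_top_iff.2 fun c _ => Subgroup.mem_centralizer_iff.2 fun y _ =>
        (Subgroup.mem_center_iff.1 (show c ∈ Subgroup.center G from hb ▸ Subgroup.mem_top c) y)) hCne
  have hNne : N ≠ ⊤ := fun hN' => by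
    rcases (Subgroup.normalizer_eq_top_iff.1 hN').eq_bot_or_eq_top with hb | hb
    · exact hCne (eq_top_iff.2 fun c _ => Subgroup.mem_centralizer_iff.2 fun y hy => by
        rw [(Subgroup.eq_bot_iff_forall _).1 hb y hy, one_mul, mul_one])
    · exact hCne (eq_top_iff.2 (hb ▸ hPC))
  -- the involution of C
  obtain ⟨⟨t, htC⟩, ht2⟩ := exists_prime_orderOf_dvd_card' (G := C) 2 (by rw [hC]; exact dvd_mul_right 2 h)
  rw [Subgroup.orderOf_mk] at ht2
  have htt : t * t = 1 := by rw [← pow_two, ← ht2, pow_orderOf_eq_one]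
  have ht1 : t ≠ 1 := fun h' => by rw [h', orderOf_one] at ht2; omega
  have htP : t ∉ (P : Subgroup G) := fun h' => ht1 (hqC t h' htt)
  have hi2 : ((P : Subgroup G).subgroupOf C).index = 2 := by
    have h1 := ((P : Subgroup G).subgroupOf C).card_mul_index
    rw [Nat.card_congr (Subgroup.subgroupOfEquivOfLe hPC).toEquiv, hC] at h1
    exact Nat.eq_of_mul_eq_mul_left Nat.card_pos (h1.trans (Nat.mul_comm 2 h))
  have hCcases : ∀ c ∈ C, c ∈ (P : Subgroup G) ∨ t * c ∈ (P : Subgroup G) := by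
    intro c hc
    by_cases hcP : c ∈ (P : Subgroup G)
    · exact Or.inl hcP
    · refine Or.inr ?_
      have := (Subgroup.mul_mem_iff_of_index_two hi2 (a := ⟨t, htC⟩) (b := ⟨c, hc⟩)).2
        (by simp only [Subgroup.mem_subgroupOf]; exact iff_of_false htP hcP)
      exact this
  have hcomP : ∀ c ∈ C, ∀ y ∈ (P : Subgroup G), c * y = y * c := fun c hc y hy =>
    (Subgroup.mem_centralizer_iff.1 hc y hy).symm
  have htc : ∀ c ∈ C, t * c = c * t := by
    intro c hc
    rcases hCcases c hc with hc' | hc'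
    · exact hcomP t htC c hc'
    · have h1 := hcomP t htC _ hc'
      rw [← mul_assoc, htt, one_mul] at h1
      calc t * c = t * (t * c * t) := by rw [← h1]
        _ = c * t := by rw [← mul_assoc, ← mul_assoc, htt, one_mul]
  have huniqC : ∀ c ∈ C, c * c = 1 → c = 1 ∨ c = t := by
    intro c hc hcc
    rcases hCcases c hc with hc' | hc'
    · exact Or.inl (hqC c hc' hcc)
    · refine Or.inr ?_
      have h1 : t * c = 1 := hqC _ hc' (by
        calc t * c * (t * c) = t * (c * t) * c := by group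
          _ = t * t * (c * c) := by rw [← htc c hc]; group
          _ = 1 := by rw [htt, hcc, one_mul])
      exact (eq_inv_of_mul_eq_one_right h1).trans (mul_self_eq_one_iff_inv htt)
  have hsqC : ∀ c ∈ C, c * c ∈ (P : Subgroup G) := by
    intro c hc
    exact Subgroup.mul_self_mem_of_index_two hi2 (⟨c, hc⟩ : C)
  have hCnorm : ∀ n ∈ N, ∀ c ∈ C, n * c * n⁻¹ ∈ C := by
    intro n hn c hc
    refine Subgroup.mem_centralizer_iff.2 fun y hy => ?_
    have hy' : n⁻¹ * y * n ∈ (P : Subgroup G) := by simpa using hnormP n⁻¹ (inv_mem hn) y hy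
    have h1 := hcomP c hc _ hy'
    calc y * (n * c * n⁻¹) = n * (n⁻¹ * y * n * c) * n⁻¹ := by group
      _ = n * (c * (n⁻¹ * y * n)) * n⁻¹ := by rw [h1]
      _ = n * c * n⁻¹ * y := by group
  have hCt : ∀ g : G, g * t = t * g ↔ g ∈ N := by
    have h1 : N ≤ Subgroup.centralizer {t} := fun n hn => Subgroup.mem_centralizer_singleton_iff.2 (by
      rcases huniqC _ (hCnorm n hn t htC) (by
        calc n * t * n⁻¹ * (n * t * n⁻¹) = n * (t * t) * n⁻¹ := by group
          _ = 1 := by rw [htt, mul_one, mul_inv_cancel]) with h' | h'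
      · exact absurd (conj_eq_one_iff.1 h') ht1
      · exact mul_inv_eq_iff_eq_mul.1 h')
    have hne : Subgroup.centralizer {t} ≠ (⊤ : Subgroup G) := fun h' => ht1 (hcen t fun g => by
      exact Subgroup.mem_centralizer_singleton_iff.1 (show g ∈ Subgroup.centralizer {t} from h' ▸ Subgroup.mem_top g))
    have h2 : 2 ∣ Nat.card (Subgroup.centralizer {t} : Subgroup G) :=
      ((dvd_mul_right 2 h).trans hC.symm.dvd).trans (Subgroup.card_dvd_of_le (hCN.trans h1))
    have h3 : N = Subgroup.centralizer {t} :=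
      Subgroup.eq_of_le_of_card_ge h1 (hN ▸ Nat.le_of_dvd (by have := Nat.card_pos (α := P); omega) (heven _ hne h2))
    intro g
    rw [h3, Subgroup.mem_centralizer_singleton_iff]
  -- Lemma A
  have lemA : ∀ H : Subgroup G, H ≠ ⊤ → C ≤ H → H ≤ N := by
    intro H hH hCH k hk
    have h2 : 2 ∣ Nat.card H := ((dvd_mul_right 2 h).trans hC.symm.dvd).trans (Subgroup.card_dvd_of_le hCH)
    have h4 := heven H hH h2
    have h5 := (C.subgroupOf H).card_mul_index
    rw [Nat.card_congr (Subgroup.subgroupOfEquivOfLe hCH).toEquiv, hC] at h5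
    rw [← h5, show 4 * h = 2 * h * 2 by ring] at h4
    have h6 : (C.subgroupOf H).index ∣ 2 := Nat.dvd_of_mul_dvd_mul_left (by have := Nat.card_pos (α := P); omega) h4
    have hn : (C.subgroupOf H).Normal := by
      rcases (Nat.dvd_prime Nat.prime_two).1 h6 with h7 | h7
      · rw [Subgroup.index_eq_one] at h7; rw [h7]; infer_instance
      · exact Subgroup.normal_of_index_eq_two h7
    refine mem_normalizer_of_conj _ k fun y hy => hQ _ (hCN ?_) ?_
    · exact hn.conj_mem ⟨y, hCH (hPC hy)⟩ (hPC hy) ⟨k, hk⟩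
    · rw [conj_pow, hpowP y hy, mul_one, mul_inv_cancel]
  -- Lemma Y
  have lemY : ∀ y ∈ (P : Subgroup G), y ≠ 1 → ∀ g : G, g⁻¹ * y * g ∈ N → g ∈ N := by
    intro y hy hy1 g hg
    have hy' : g⁻¹ * y * g ∈ (P : Subgroup G) := hQ _ hg (by
      have : g⁻¹ * y * g = g⁻¹ * y * g⁻¹⁻¹ := by group
      rw [this, conj_pow, hpowP y hy, mul_one, mul_inv_cancel])
    have hle : Subgroup.centralizer {g⁻¹ * y * g} ≤ N := by
      refine lemA _ (fun h' => hy1 ?_) fun c hc => Subgroup.mem_centralizer_singleton_iff.2 (hcomP c hc _ hy')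
      have := hcen (g⁻¹ * y * g) fun k => Subgroup.mem_centralizer_singleton_iff.1
        (show k ∈ Subgroup.centralizer {g⁻¹ * y * g} from h' ▸ Subgroup.mem_top k)
      calc y = g * (g⁻¹ * y * g) * g⁻¹ := by group
        _ = 1 := by rw [this, mul_one, mul_inv_cancel]
    have h1 : g⁻¹ ∈ N := mem_normalizer_of_conj _ _ fun b hb => by
      rw [inv_inv]
      refine hQ _ (hle (Subgroup.mem_centralizer_singleton_iff.2 ?_)) ?_
      · calc g⁻¹ * b * g * (g⁻¹ * y * g) = g⁻¹ * (b * y) * g := by group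
          _ = g⁻¹ * (y * b) * g := by rw [hcomP b (hPC hb) y hy]
          _ = g⁻¹ * y * g * (g⁻¹ * b * g) := by group
      · have : g⁻¹ * b * g = g⁻¹ * b * g⁻¹⁻¹ := by group
        rw [this, conj_pow, hpowP b hb, mul_one, mul_inv_cancel]
    simpa using inv_mem h1
  -- the Sylow 2-subgroup
  have h3G : 3 ∣ Nat.card G := by
    refine dvd_trans ?_ (Subgroup.card_subgroup_dvd_card (P : Subgroup G))
    rw [ha]
    refine dvd_pow_self 3 fun ha0 => ?_
    rw [ha0, pow_zero, Subgroup.card_eq_one] at ha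
    exact hCne (eq_top_iff.2 fun c _ => Subgroup.mem_centralizer_iff.2 fun y hy => by
      rw [(Subgroup.eq_bot_iff_forall _).1 ha y hy, one_mul, mul_one])
  obtain ⟨S, hS⟩ := IsPGroup.exists_le_sylow (show IsPGroup 2 (Subgroup.zpowers t) from
    IsPGroup.of_card (n := 1) (by rw [Nat.card_zpowers, ht2, pow_one]))
  have htS : t ∈ (S : Subgroup G) := hS (Subgroup.mem_zpowers t)
  have hSne : (S : Subgroup G) ≠ ⊤ := fun h' => by
    obtain ⟨m, hm⟩ := IsPGroup.iff_card.1 S.2
    rw [h', Subgroup.card_top] at hm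
    rw [hm] at h3G
    exact absurd (Nat.prime_three.dvd_of_dvd_pow h3G) (by norm_num)
  have hScard : Nat.card (S : Subgroup G) = 4 := by
    obtain ⟨m, hm⟩ := IsPGroup.iff_card.1 S.2
    have h4S : 2 ^ 2 ∣ Nat.card (S : Subgroup G) := S.pow_dvd_card_of_pow_dvd_card (by
      refine dvd_trans ?_ (Subgroup.card_subgroup_dvd_card N)
      rw [hN]; exact dvd_mul_right 4 h)
    have h5 := heven _ hSne (dvd_trans (dvd_pow_self 2 two_ne_zero) h4S)
    rw [hm] at h5 h4S ⊢
    have h6 : 2 ^ m ∣ 4 := (Nat.Coprime.dvd_of_dvd_mul_right (Nat.Coprime.pow_left m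
      (Nat.coprime_two_left.2 hodd)) h5)
    exact Nat.dvd_antisymm h6 h4S
  have hnb : ¬ Subgroup.normalizer ((S : Subgroup G) : Set G) ≤ Subgroup.centralizer ((S : Subgroup G) : Set G) := by
    intro hle
    have hK := MonoidHom.ker_transferSylow_isComplement' S hle
    rcases (inferInstance : (MonoidHom.transferSylow S hle).ker.Normal).eq_bot_or_eq_top with hb | hb
    · exact hSne (by simpa [hb] using hK)
    · rw [hb, Subgroup.isComplement'_top_left] at hK
      rw [hK, Subgroup.card_bot] at hScard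
      omega
  haveI hScomm : IsMulCommutative (S : Subgroup G) :=
    IsPGroup.isMulCommutative_of_card_eq_prime_sq (p := 2) hScard
  have hSS : ∀ x ∈ (S : Subgroup G), ∀ y ∈ (S : Subgroup G), x * y = y * x := fun x hx y hy =>
    congrArg Subtype.val (mul_comm' (⟨x, hx⟩ : (S : Subgroup G)) ⟨y, hy⟩)
  have hSN : (S : Subgroup G) ≤ N := fun x hx => (hCt x).1 (hSS x hx t htS)
  have hS2 : ∀ x ∈ (S : Subgroup G), x * x = 1 := by
    intro x hx
    by_contra hne
    have hord : orderOf (⟨x, hx⟩ : (S : Subgroup G)) = 2 ^ 2 := by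
      refine orderOf_eq_prime_pow (fun h' => hne ?_) ?_
      · simpa [pow_two] using congrArg Subtype.val h'
      · rw [show (2 : ℕ) ^ (1 + 1) = 4 from rfl, ← hScard]; exact pow_card_eq_one'
    haveI hcyc : IsCyclic (S : Subgroup G) := isCyclic_of_orderOf_eq_card _ (hord.trans hScard.symm)
    refine hnb (IsCyclic.normalizer_le_centralizer ?_ hcyc)
    refine (Nat.minFac_eq_two_iff _).2 (dvd_trans ?_ (Subgroup.card_subgroup_dvd_card C))
    rw [hC]; exact dvd_mul_right 2 h
  have hSC : ∀ x ∈ (S : Subgroup G), x ≠ 1 → x ≠ t → x ∉ C := fun x hx h1 h2 hxC =>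
    (huniqC x hxC (hS2 x hx)).elim h1 h2
  have hi2N : (C.subgroupOf N).index = 2 := by
    have h1 := (C.subgroupOf N).card_mul_index
    rw [Nat.card_congr (Subgroup.subgroupOfEquivOfLe hCN).toEquiv, hN, hC] at h1
    exact Nat.eq_of_mul_eq_mul_left (by have := Nat.card_pos (α := P); omega) (h1.trans (by ring : 4 * h = 2 * h * 2))
  have hNC : ∀ x ∈ N, ∀ y ∈ N, x ∉ C → y ∉ C → x * y ∈ C := by
    intro x hx y hy hxC hyC
    exact (Subgroup.mul_mem_iff_of_index_two hi2N (a := ⟨x, hx⟩) (b := ⟨y, hy⟩)).2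
      (by simp only [Subgroup.mem_subgroupOf]; exact iff_of_false hxC hyC)
  -- fusion
  have hfixS : ∀ g ∈ N, g ∈ Subgroup.normalizer ((S : Subgroup G) : Set G) →
      ∀ x ∈ (S : Subgroup G), g * x * g⁻¹ = x := by
    intro g hgN hgS x hx
    by_cases hx1 : x = 1
    · rw [hx1, mul_one, mul_inv_cancel]
    by_cases hxt : x = t
    · rw [hxt, (hCt g).2 hgN, mul_inv_cancel_right]
    have hxC := hSC x hx hx1 hxt
    have hxi := mul_self_eq_one_iff_inv (hS2 x hx)
    have key : ∀ c ∈ C, c ∈ Subgroup.normalizer ((S : Subgroup G) : Set G) → c * x * c⁻¹ = x := by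
      intro c hc hcS
      have hmem : c * x * c⁻¹ * x⁻¹ ∈ (P : Subgroup G) := by
        have hy : ∀ y ∈ (P : Subgroup G), y * x * y⁻¹ * x⁻¹ ∈ (P : Subgroup G) := fun y hy => by
          rw [show y * x * y⁻¹ * x⁻¹ = y * (x * y⁻¹ * x⁻¹) by group]
          exact mul_mem hy (hnormP x (hSN hx) _ (inv_mem hy))
        rcases hCcases c hc with hc' | hc'
        · exact hy c hc'
        · have h1 := hy _ hc'
          have hxt' : t * x = x * t := hSS t htS x hx
          have hcx : c * x * c⁻¹ ∈ (S : Subgroup G) := (Subgroup.mem_normalizer_iff.1 hcS x).1 hx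
          rwa [show t * c * x * (t * c)⁻¹ = t * (c * x * c⁻¹) * t⁻¹ by group, hSS t htS _ hcx,
            mul_inv_cancel_right] at h1
      have hmem2 : c * x * c⁻¹ * x⁻¹ ∈ (S : Subgroup G) :=
        mul_mem ((Subgroup.mem_normalizer_iff.1 hcS x).1 hx) (inv_mem hx)
      exact mul_inv_eq_one.1 (hqC _ hmem (hS2 _ hmem2))
    by_cases hgC : g ∈ C
    · exact key g hgC hgS
    have h1 := key (x * g) (hNC x (hSN hx) g hgN hxC hgC) (mul_mem (Subgroup.le_normalizer hx) hgS)
    calc g * x * g⁻¹ = x⁻¹ * (x * g * x * (x * g)⁻¹) * x := by group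
      _ = x := by rw [h1, inv_mul_cancel, one_mul]
  obtain ⟨g, hgS, hgC⟩ := SetLike.not_le_iff_exists.1 hnb
  have hgN : g ∉ N := fun h' => hgC (Subgroup.mem_centralizer_iff.2 fun x hx => by
    exact (mul_inv_eq_iff_eq_mul.1 (hfixS g h' hgS x hx)).symm)
  set x1 := g * t * g⁻¹ with hx1def
  set x2 := g * x1 * g⁻¹ with hx2def
  have hx1S : x1 ∈ (S : Subgroup G) := (Subgroup.mem_normalizer_iff.1 hgS t).1 htS
  have hx2S : x2 ∈ (S : Subgroup G) := (Subgroup.mem_normalizer_iff.1 hgS x1).1 hx1S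
  have hx1t : x1 ≠ t := fun h' => hgN ((hCt g).1 (mul_inv_eq_iff_eq_mul.1 h'))
  have hx11 : x1 ≠ 1 := fun h' => ht1 (conj_eq_one_iff.1 h')
  have hx21 : x2 ≠ 1 := fun h' => hx11 (conj_eq_one_iff.1 h')
  have hx2x1 : x2 ≠ x1 := fun h' => hx1t (mul_left_cancel (mul_right_cancel h'))
  have hx2t : x2 ≠ t := by
    intro h'
    have hgg : g * g ∈ N := (hCt _).1 (mul_inv_eq_iff_eq_mul.1 (by
      calc g * g * t * (g * g)⁻¹ = x2 := by rw [hx2def, hx1def]; group
        _ = t := h'))
    obtain ⟨e, m, hm, hem⟩ := Nat.exists_eq_two_pow_mul_odd (orderOf_pos g).ne'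
    have hg2 : IsPGroup 2 (Subgroup.zpowers (g ^ m)) := by
      obtain ⟨k, -, hk⟩ := (Nat.dvd_prime_pow Nat.prime_two).1 (orderOf_dvd_of_pow_eq_one
        (show (g ^ m) ^ (2 ^ e) = 1 by rw [← pow_mul, Nat.mul_comm, ← hem, pow_orderOf_eq_one]))
      exact IsPGroup.of_card (n := k) (by rw [Nat.card_zpowers, hk])
    have hsup := S.is_maximal' (IsPGroup.to_sup_of_normal_right' hg2 S.2
      (Subgroup.zpowers_le.2 (pow_mem hgS m))) le_sup_right
    have hgm : g ^ m ∈ (S : Subgroup G) := hsup ▸ Subgroup.mem_sup_left (Subgroup.mem_zpowers _)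
    obtain ⟨j, rfl⟩ := hm
    have hj : (g * g) ^ j * x1 = x1 * (g * g) ^ j :=
      mul_inv_eq_iff_eq_mul.1 (hfixS _ (pow_mem hgg j) (pow_mem (mul_mem hgS hgS) j) x1 hx1S)
    rw [pow_succ, pow_mul, pow_two] at hgm
    apply hx1t
    have h1 := hSS _ hgm t htS
    calc x1 = (g * g) ^ j * x1 * ((g * g) ^ j)⁻¹ := by rw [hj, mul_inv_cancel_right]
      _ = (g * g) ^ j * g * t * ((g * g) ^ j * g)⁻¹ := by rw [hx1def]; group
      _ = t := by rw [h1, mul_inv_cancel_right]
  have hSset : ((S : Subgroup G) : Set G) = {1, t, x1, x2} := by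
    refine (Set.eq_of_subset_of_ncard_le ?_ ?_).symm
    · simp only [Set.insert_subset_iff, Set.singleton_subset_iff, SetLike.mem_coe]
      exact ⟨one_mem _, htS, hx1S, hx2S⟩
    · rw [← Nat.card_coe_set_eq]
      refine le_of_eq (hScard.trans ?_)
      rw [Set.ncard_insert_of_notMem (by simp [Ne.symm ht1, Ne.symm hx11, Ne.symm hx21]),
        Set.ncard_insert_of_notMem (by simp [Ne.symm hx1t, Ne.symm hx2t]), Set.ncard_pair (Ne.symm hx2x1)]
  have hconj : ∀ s : G, s ≠ 1 → s * s = 1 → ∃ k : G, k * t * k⁻¹ = s := by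
    intro s hs1 hss
    obtain ⟨Q, hQle⟩ := IsPGroup.exists_le_sylow (show IsPGroup 2 (Subgroup.zpowers s) from
      IsPGroup.of_card (n := 1) (by rw [Nat.card_zpowers, pow_one, orderOf_eq_prime (by rw [pow_two]; exact hss) hs1]))
    obtain ⟨k, hk⟩ := MulAction.exists_smul_eq G S Q
    have hsQ : s ∈ ((k • S : Sylow 2 G) : Subgroup G) := hk ▸ hQle (Subgroup.mem_zpowers s)
    rw [Sylow.coe_subgroup_smul, Subgroup.mem_pointwise_smul_iff_inv_smul_mem] at hsQ
    have hmem : k⁻¹ * s * k ∈ ((S : Subgroup G) : Set G) := by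
      simp [MulAut.conj_apply] at hsQ
      exact hsQ
    have hsk : k⁻¹ * s * k ≠ 1 := fun h' => hs1 (by
      calc s = k * (k⁻¹ * s * k) * k⁻¹ := by group
        _ = 1 := by rw [h', mul_one, mul_inv_cancel])
    rw [hSset] at hmem
    rcases hmem with h' | h' | h' | h'
    · exact absurd h' hsk
    · exact ⟨k, by rw [← h']; group⟩
    · exact ⟨k * g, by rw [hx1def] at h'; rw [show k * g * t * (k * g)⁻¹ = k * (g * t * g⁻¹) * k⁻¹ by group, ← h']; group⟩
    · refine ⟨k * g * g, ?_⟩
      rw [Set.mem_singleton_iff, hx2def, hx1def] at h'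
      rw [show k * g * g * t * (k * g * g)⁻¹ = k * (g * (g * t * g⁻¹) * g⁻¹) * k⁻¹ by group, ← h']; group
  -- an involution outside C inverts C
  have hinvP : ∀ u ∈ N, u ∉ C → u * u = 1 → ∀ y ∈ (P : Subgroup G), u * y * u = y⁻¹ := by
    intro u huN huC huu y hy
    have hui := mul_self_eq_one_iff_inv huu
    have hfix : ∀ z ∈ (P : Subgroup G), u * z * u⁻¹ = z → z = 1 := by
      intro z hz hzu
      by_contra hz1
      obtain ⟨k, hk⟩ := hconj u (fun h' => huC (h' ▸ one_mem _)) huu
      have hkN : k ∈ N := lemY z hz hz1 k ((hCt _).1 (by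
        have h1 : z * u = u * z := (mul_inv_eq_iff_eq_mul.1 hzu).symm
        calc k⁻¹ * z * k * t = k⁻¹ * (z * (k * t * k⁻¹)) * k := by group
          _ = k⁻¹ * (k * t * k⁻¹ * z) * k := by rw [hk, h1]
          _ = t * (k⁻¹ * z * k) := by group))
      rw [(hCt k).2 hkN, mul_inv_cancel_right] at hk
      exact huC (hk ▸ htC)
    have hy' : u * y * u⁻¹ ∈ (P : Subgroup G) := hnormP u huN y hy
    have h1 := hfix (y * (u * y * u⁻¹)) (mul_mem hy hy') (by
      calc u * (y * (u * y * u⁻¹)) * u⁻¹ = (u * y * u⁻¹) * ((u * u) * y * (u * u)⁻¹) := by group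
        _ = (u * y * u⁻¹) * y := by rw [huu, one_mul, inv_one, mul_one]
        _ = y * (u * y * u⁻¹) := hcomP _ (hPC hy') y hy)
    rw [hui] at h1
    exact eq_inv_of_mul_eq_one_right h1
  obtain ⟨u0, hu0S, hu0C⟩ : ∃ u ∈ (S : Subgroup G), u ∉ C := ⟨x1, hx1S, hSC x1 hx1S hx11 hx1t⟩
  have hout : ∀ z ∈ N, z ∉ C → z * z = 1 := by
    intro z hz hzC
    have huu := hS2 u0 hu0S
    have hc := hNC u0 (hSN hu0S) z hz hu0C hzC
    have hinv : u0 * (u0 * z) * u0 = (u0 * z)⁻¹ := by
      rcases hCcases _ hc with hc' | hc'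
      · exact hinvP u0 (hSN hu0S) hu0C huu _ hc'
      · have h1 := hinvP u0 (hSN hu0S) hu0C huu _ hc'
        have hut : u0 * t = t * u0 := (hCt u0).2 (hSN hu0S)
        rw [show u0 * (t * (u0 * z)) * u0 = u0 * t * (u0 * z) * u0 by group, hut,
          mul_inv_rev, mul_self_eq_one_iff_inv htt] at h1
        rw [show t * u0 * (u0 * z) * u0 = t * (u0 * (u0 * z) * u0) by group] at h1
        have hti : t * (u0 * z)⁻¹ = (u0 * z)⁻¹ * t := htc _ (inv_mem hc)
        rw [← hti] at h1
        exact mul_left_cancel h1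
    calc z * z = (u0 * u0) * z * ((u0 * u0) * z) := by rw [huu, one_mul]
      _ = u0 * (u0 * z) * u0 * (u0 * z) := by group
      _ = 1 := by rw [hinv, inv_mul_cancel]
  -- the graph
  have hnbr : ∀ z : G, ((z ≠ 1 ∧ z * z = 1) ∧ z ≠ t ∧ z * t = t * z) ↔ z ∈ (N : Set G) \ (C : Set G) := by
    intro z
    constructor
    · rintro ⟨⟨h1, h2⟩, h3, h4⟩
      exact ⟨(hCt z).1 h4, fun hz => (huniqC z hz h2).elim h1 h3⟩
    · rintro ⟨h1, h2⟩
      exact ⟨⟨fun h' => h2 (h' ▸ one_mem C), hout z h1 h2⟩, fun h' => h2 (h' ▸ htC), (hCt z).2 h1⟩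
  let R : {s : G // s ≠ 1 ∧ s * s = 1} → {s : G // s ≠ 1 ∧ s * s = 1} → Prop := fun a b => a ≠ b ∧ Commute a.1 b.1
  refine trace_contra (⟨t, ht1, htt⟩ : {s : G // s ≠ 1 ∧ s * s = 1}) R (2 * h) ?_
    (fun a b hab' => ⟨hab'.1.symm, hab'.2.symm⟩) (fun a ha' => ha'.1 rfl) ?_ ?_
  · have h3 : 3 ≤ h := by
      have := Nat.card_pos (α := P)
      rcases Nat.lt_or_ge h 3 with h' | h'
      · exfalso
        obtain ⟨j, hj⟩ := hodd
        have h1 : h = 1 := by omega
        exact hCne (eq_top_iff.2 fun c _ => Subgroup.mem_centralizer_iff.2 fun y hy => by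
          rw [(Subgroup.eq_bot_iff_forall _).1 (Subgroup.card_eq_one.1 h1) y hy, one_mul, mul_one])
      · exact h'
    omega
  · rintro ⟨s, hs1, hs2⟩
    obtain ⟨k, hk⟩ := hconj s hs1 hs2
    have hcard : Nat.card ((N : Set G) \ (C : Set G) : Set G) = 2 * h := by
      rw [Nat.card_coe_set_eq, Set.ncard_diff hCN]
      rw [← Nat.card_coe_set_eq, ← Nat.card_coe_set_eq]
      simp only [SetLike.coe_sort_coe, hN, hC]
      omega
    rw [← hcard]
    have hcj : ∀ z : G, (MulAut.conj k⁻¹) z = k⁻¹ * z * k := fun z => by simp [MulAut.conj_apply]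
    refine Nat.card_congr ((Equiv.subtypeSubtypeEquivSubtypeExists _ _).trans ((MulAut.conj k⁻¹).toEquiv.subtypeEquiv fun z => ?_))
    show (∃ hz : z ≠ 1 ∧ z * z = 1, R ⟨s, hs1, hs2⟩ ⟨z, hz⟩) ↔ (MulAut.conj k⁻¹) z ∈ (N : Set G) \ (C : Set G)
    rw [← hnbr]
    have hts : (MulAut.conj k⁻¹) s = t := by rw [hcj, ← hk]; group
    have he := (MulAut.conj k⁻¹).injective
    simp only [← hts, ← map_mul, ne_eq, map_eq_one_iff _ he, he.eq_iff]
    simp only [R, exists_prop, Ne, Subtype.mk.injEq, Commute, SemiconjBy]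
    constructor
    · rintro ⟨hz, h1, h2⟩; exact ⟨hz, Ne.symm h1, h2.symm⟩
    · rintro ⟨hz, h1, h2⟩; exact ⟨hz, Ne.symm h1, h2.symm⟩
  · -- exactly one common neighbour
    rintro ⟨a, ha1, ha2⟩ ⟨b, hb1, hb2⟩ hne
    have hab' : a ≠ b := fun h' => hne (Subtype.ext h')
    have hai := mul_self_eq_one_iff_inv ha2
    have hbi := mul_self_eq_one_iff_inv hb2
    by_cases hc : a * b = b * a
    · have hp1 : a * b ≠ 1 := fun h' => hab' ((eq_inv_of_mul_eq_one_left h').trans hbi)
      have hp2 : a * b * (a * b) = 1 := by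
        calc a * b * (a * b) = a * b * (b * a) := by rw [hc]
          _ = 1 := by rw [← mul_assoc, mul_assoc a b b, hb2, mul_one, ha2]
      refine ⟨⟨a * b, hp1, hp2⟩, ⟨⟨fun h' => hb1 ?_, ?_⟩, ⟨fun h' => ha1 ?_, ?_⟩⟩, ?_⟩
      · have h'' : a = a * b := congrArg Subtype.val h'
        exact (mul_left_cancel (a := a) (by rw [mul_one]; exact h''.symm))
      · show a * (a * b) = a * b * a
        rw [mul_assoc, hc]
      · have h'' : a * b = b := congrArg Subtype.val h'
        exact mul_right_cancel (b := b) (by rw [one_mul]; exact h'')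
      · show a * b * b = b * (a * b)
        rw [← mul_assoc b, ← hc]
      · rintro ⟨z, hz1, hz2⟩ ⟨⟨hza, hzac⟩, ⟨hzb, hzbc⟩⟩
        apply Subtype.ext
        show z = a * b
        obtain ⟨k, hk⟩ := hconj a ha1 ha2
        have tr : ∀ w : G, w ≠ 1 → w * w = 1 → w ≠ a → w * a = a * w →
            k⁻¹ * w * k ∈ (N : Set G) \ (C : Set G) := by
          intro w h1 h2 h3 h4
          have hcj : ∀ z : G, (MulAut.conj k⁻¹) z = k⁻¹ * z * k := fun z => by simp [MulAut.conj_apply]
          have hta : (MulAut.conj k⁻¹) a = t := by rw [hcj, ← hk]; group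
          rw [← hcj, ← hnbr, ← hta, ← map_mul, ← map_mul, ← map_mul]
          have he := (MulAut.conj k⁻¹).injective
          exact ⟨⟨fun h' => h1 ((map_eq_one_iff _ he).1 h'), by rw [h2, map_one]⟩, fun h' => h3 (he h'), by rw [h4]⟩
        obtain ⟨hz', hzC⟩ := tr z hz1 hz2 (fun h' => hza (Subtype.ext h'.symm)) hzac.symm
        obtain ⟨hb', hbC⟩ := tr b hb1 hb2 hab'.symm hc.symm
        have hzb' : z * b = b * z := hzbc
        rcases huniqC _ (hNC _ hz' _ hb' hzC hbC) (by
          calc k⁻¹ * z * k * (k⁻¹ * b * k) * (k⁻¹ * z * k * (k⁻¹ * b * k)) = k⁻¹ * (z * b * (z * b)) * k := by group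
            _ = k⁻¹ * (z * b * (b * z)) * k := by rw [hzb']
            _ = k⁻¹ * (z * (b * b) * z) * k := by group
            _ = 1 := by rw [hb2, mul_one, hz2, mul_one, inv_mul_cancel]) with h' | h'
        · refine absurd (Subtype.ext ?_) hzb
          have : z * b = 1 := by
            calc z * b = k * (k⁻¹ * z * k * (k⁻¹ * b * k)) * k⁻¹ := by group
              _ = 1 := by rw [h', mul_one, mul_inv_cancel]
          exact (eq_inv_of_mul_eq_one_left this).trans hbi
        · calc z = k * (k⁻¹ * z * k * (k⁻¹ * b * k)) * k⁻¹ * b⁻¹ := by group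
            _ = a * b := by rw [h', hk, hbi]
    · set x := a * b with hxdef
      have hxx : x * x ≠ 1 := fun h' => hc (by
        calc a * b = (a * b)⁻¹ := eq_inv_of_mul_eq_one_left h'
          _ = b * a := by rw [mul_inv_rev, hai, hbi])
      have hx1 : x ≠ 1 := fun h' => hxx (by rw [h', one_mul])
      have hax : a * x * a⁻¹ = x⁻¹ := by rw [hxdef, mul_inv_rev, hai, hbi, ← mul_assoc, ha2, one_mul]
      have hbx : b * x * b⁻¹ = x⁻¹ := by
        rw [hxdef, mul_inv_rev, hai, hbi]
        calc b * (a * b) * b = b * a * (b * b) := by group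
          _ = b * a := by rw [hb2, mul_one]
      have hxa : ∀ z : G, z * x = x * z → z ≠ a ∧ z ≠ b := by
        intro z hz
        constructor
        · rintro rfl
          apply hxx
          rw [hz, mul_inv_cancel_right] at hax
          calc x * x = x⁻¹ * x := by rw [← hax]
            _ = 1 := inv_mul_cancel x
        · rintro rfl
          apply hxx
          rw [hz, mul_inv_cancel_right] at hbx
          calc x * x = x⁻¹ * x := by rw [← hbx]
            _ = 1 := inv_mul_cancel x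
      obtain ⟨z, hz1, hz2, hza, hzb, hzx⟩ : ∃ z : G, z ≠ 1 ∧ z * z = 1 ∧ z * a = a * z ∧ z * b = b * z ∧ z * x = x * z := by
        rcases Nat.even_or_odd (orderOf x) with he | ho
        · obtain ⟨m, hm⟩ := he
          have hpos := orderOf_pos x
          have hzz : x ^ m * x ^ m = 1 := by rw [← pow_add, ← hm, pow_orderOf_eq_one]
          have hinv := mul_self_eq_one_iff_inv hzz
          refine ⟨x ^ m, fun h' => ?_, hzz, ?_, ?_, ((Commute.refl x).pow_left m).eq⟩
          · have := Nat.le_of_dvd (by omega) (orderOf_dvd_of_pow_eq_one h')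
            omega
          · refine (mul_inv_eq_iff_eq_mul.1 ?_).symm
            rw [← conj_pow, hax, inv_pow, hinv]
          · refine (mul_inv_eq_iff_eq_mul.1 ?_).symm
            rw [← conj_pow, hbx, inv_pow, hinv]
        · have hmemN : ∀ w : G, ∀ c : G, w * c * w⁻¹ = c⁻¹ → w ∈ Subgroup.normalizer ((Subgroup.zpowers c : Subgroup G) : Set G) := by
            intro w c hw
            refine mem_normalizer_of_conj _ w fun d hd => ?_
            obtain ⟨i, rfl⟩ := Subgroup.mem_zpowers_iff.1 hd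
            rw [← conj_zpow, hw]
            exact zpow_mem (inv_mem (Subgroup.mem_zpowers c)) i
          have hMne : ∀ c : G, c ≠ 1 → Subgroup.normalizer ((Subgroup.zpowers c : Subgroup G) : Set G) ≠ ⊤ := by
            intro c hc1 htop
            rcases (Subgroup.normalizer_eq_top_iff.1 htop).eq_bot_or_eq_top with hb | hb
            · exact hc1 ((Subgroup.eq_bot_iff_forall _).1 hb c (Subgroup.mem_zpowers c))
            · refine hc1 (hcen c fun d => ?_)
              obtain ⟨i, rfl⟩ := Subgroup.mem_zpowers_iff.1 (show d ∈ Subgroup.zpowers c from hb ▸ Subgroup.mem_top d)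
              exact ((Commute.refl c).zpow_left i).eq
          set M := Subgroup.normalizer ((Subgroup.zpowers x : Subgroup G) : Set G)
          have h2M : 2 ∣ Nat.card M :=
            (orderOf_eq_prime (by rw [pow_two]; exact ha2) ha1 : orderOf a = 2) ▸ M.orderOf_dvd_natCard (hmemN a x hax)
          have h4 := (M.orderOf_dvd_natCard (Subgroup.le_normalizer (Subgroup.mem_zpowers x))).trans (heven M (hMne x hx1) h2M)
          have hdiv : orderOf x ∣ h := Nat.Coprime.dvd_of_dvd_mul_left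
            (show (orderOf x).Coprime (2 ^ 2) from (Nat.coprime_two_right.2 ho).pow_right 2) h4
          rw [hh, ha] at hdiv
          obtain ⟨i, -, hi⟩ := (Nat.dvd_prime_pow Nat.prime_three).1 hdiv
          obtain ⟨Q, hQle⟩ := IsPGroup.exists_le_sylow (show IsPGroup 3 (Subgroup.zpowers x) from
            IsPGroup.of_card (n := i) (by rw [Nat.card_zpowers, hi]))
          obtain ⟨k, hk⟩ := MulAction.exists_smul_eq G P Q
          have hxQ : x ∈ ((k • P : Sylow 3 G) : Subgroup G) := hk ▸ hQle (Subgroup.mem_zpowers x)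
          rw [Sylow.coe_subgroup_smul, Subgroup.mem_pointwise_smul_iff_inv_smul_mem] at hxQ
          have hxP : k⁻¹ * x * k ∈ (P : Subgroup G) := by simpa [MulAut.conj_apply] using hxQ
          have hxk : k⁻¹ * x * k ≠ 1 := fun h' => hx1 (by
            calc x = k * (k⁻¹ * x * k) * k⁻¹ := by group
              _ = 1 := by rw [h', mul_one, mul_inv_cancel])
          have hle : Subgroup.normalizer ((Subgroup.zpowers (k⁻¹ * x * k) : Subgroup G) : Set G) ≤ N := by
            refine lemA _ (hMne _ hxk) fun c hc => mem_normalizer_of_conj _ c fun d hd => ?_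
            obtain ⟨i, rfl⟩ := Subgroup.mem_zpowers_iff.1 hd
            rw [← conj_zpow, hcomP c hc _ hxP, mul_inv_cancel_right]
            exact zpow_mem (Subgroup.mem_zpowers _) i
          have hcom : ∀ w : G, w * x * w⁻¹ = x⁻¹ → k * t * k⁻¹ * w = w * (k * t * k⁻¹) := by
            intro w hw
            have h1 := (hCt (k⁻¹ * w * k)).2 (hle (hmemN _ _ (by
              calc k⁻¹ * w * k * (k⁻¹ * x * k) * (k⁻¹ * w * k)⁻¹ = k⁻¹ * (w * x * w⁻¹) * k := by group
                _ = (k⁻¹ * x * k)⁻¹ := by rw [hw]; group)))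
            calc k * t * k⁻¹ * w = k * (t * (k⁻¹ * w * k)) * k⁻¹ := by group
              _ = k * (k⁻¹ * w * k * t) * k⁻¹ := by rw [h1]
              _ = w * (k * t * k⁻¹) := by group
          refine ⟨k * t * k⁻¹, fun h' => ht1 (conj_eq_one_iff.1 h'), ?_, hcom a hax, hcom b hbx, ?_⟩
          · calc k * t * k⁻¹ * (k * t * k⁻¹) = k * (t * t) * k⁻¹ := by group
              _ = 1 := by rw [htt, mul_one, mul_inv_cancel]
          · calc k * t * k⁻¹ * x = k * (t * (k⁻¹ * x * k)) * k⁻¹ := by group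
              _ = k * (k⁻¹ * x * k * t) * k⁻¹ := by rw [hcomP t htC _ hxP]
              _ = x * (k * t * k⁻¹) := by group
      refine ⟨⟨z, hz1, hz2⟩, ⟨⟨fun h' => (hxa z hzx).1 (congrArg Subtype.val h').symm, hza.symm⟩,
        ⟨fun h' => (hxa z hzx).2 (congrArg Subtype.val h'), hzb⟩⟩, ?_⟩
      rintro ⟨w, hw1, hw2⟩ ⟨⟨-, hwa⟩, ⟨-, hwb⟩⟩
      apply Subtype.ext
      show w = z
      obtain ⟨k, hk⟩ := hconj z hz1 hz2
      obtain ⟨l, hl⟩ := hconj w hw1 hw2
      have hwx : w * x = x * w := (Commute.mul_right hwa.symm hwb).eq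
      have hN' : ∀ m v : G, m * t * m⁻¹ = v → v * x = x * v → m⁻¹ * x * m ∈ N := by
        intro m v hm hv
        refine (hCt _).1 ?_
        calc m⁻¹ * x * m * t = m⁻¹ * (x * (m * t * m⁻¹)) * m := by group
          _ = m⁻¹ * (m * t * m⁻¹ * x) * m := by rw [hm, hv]
          _ = t * (m⁻¹ * x * m) := by group
      have hx' := hN' k z hk hzx
      have hx'' := hN' l w hl hwx
      have hxne : k⁻¹ * x * k * (k⁻¹ * x * k) ≠ 1 := fun h' => hxx (by
        calc x * x = k * (k⁻¹ * x * k * (k⁻¹ * x * k)) * k⁻¹ := by group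
          _ = 1 := by rw [h', mul_one, mul_inv_cancel])
      have hxC : k⁻¹ * x * k ∈ C := by_contra fun h' => hxne (hout _ hx' h')
      have hkl := lemY _ (hsqC _ hxC) hxne (k⁻¹ * l) (by
        rw [show (k⁻¹ * l)⁻¹ * (k⁻¹ * x * k * (k⁻¹ * x * k)) * (k⁻¹ * l) = (l⁻¹ * x * l) * (l⁻¹ * x * l) by group]
        exact mul_mem hx'' hx'')
      have h1 := (hCt _).2 hkl
      calc w = k * (k⁻¹ * l * t) * l⁻¹ := by rw [← hl]; group
        _ = k * (t * (k⁻¹ * l)) * l⁻¹ := by rw [h1]
        _ = z := by rw [← hk]; group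

end Cfsg.Agent.S4018
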