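import Cfsg.Statements.S4023
import Cfsg.Agent.Lib.Orders.ConjugateSubgroups

set_option autoImplicit false
open Cfsg
open scoped Pointwise commutatorElement

namespace Cfsg.Agent.S4023

/-- Let p be a prime and G a finite group in which any two p-subgroups of the same order are conjugate, with Sylow p-subgroup P. Then P is cyclic, or elementary abelian, or p = 2 and P is a quaternion group of order 8, or p is odd and P is non-abelian of order p³ and exponent p. -/
theorem result {G : Type*} [Group G] [Finite G]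
    {p : ℕ} [Fact p.Prime] (hC : ∀ H K : Subgroup G, IsPGroup p H → IsPGroup p K → Nat.card H = Nat.card K →
      ∃ g : G, K = H.map (MulAut.conj g).toMonoidHom) (P : Sylow p G) :
    IsCyclic P ∨ Cfsg.IsElementaryAbelian p (P : Subgroup G) ∨
      (p = 2 ∧ Nonempty ((P : Subgroup G) ≃* QuaternionGroup 2)) ∨
      (p ≠ 2 ∧ ¬ IsMulCommutative P ∧ Nat.card P = p ^ 3 ∧ Monoid.exponent P = p) := by
  classical
  have hP := P.isPGroup'
  have hiso : ∀ A B : Subgroup ↥(P : Subgroup G), Nat.card A = Nat.card B → Nonempty (A ≃* B) := by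
    intro A B h
    obtain ⟨g, hg⟩ := hC (A.map (P : Subgroup G).subtype) (B.map (P : Subgroup G).subtype) (P.isPGroup'.to_subgroup A |>.map _)
      (P.isPGroup'.to_subgroup B |>.map _)
      (by rw [Subgroup.card_map_of_injective (Subgroup.subtype_injective _),
        Subgroup.card_map_of_injective (Subgroup.subtype_injective _), h])
    exact ⟨(A.equivMapOfInjective _ (Subgroup.subtype_injective _)).trans
      (((A.map (P : Subgroup G).subtype).equivMapOfInjective _ (MulAut.conj g).injective).trans
        ((MulEquiv.subgroupCongr hg.symm).trans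
          (B.equivMapOfInjective _ (Subgroup.subtype_injective _)).symm))⟩
  have hpow : ∀ A B : Subgroup ↥(P : Subgroup G), IsMulCommutative A → IsMulCommutative B →
      Nat.card A = p ^ 2 → Nat.card B = p ^ 2 → (∀ a ∈ A, a ^ p = 1) → ∀ b ∈ B, b ^ p = 1 := by
    intro A B _ _ hA hB hexp b hb
    obtain ⟨e⟩ := hiso B A (hB.trans hA.symm)
    have h1 : (e ⟨b, hb⟩) ^ p = 1 := Subtype.ext (hexp _ (e ⟨b, hb⟩).2)
    rw [← map_pow, MulEquiv.map_eq_one_iff] at h1
    exact congrArg Subtype.val h1
  rcases CfsgLib.Orders.ConjSub.pow_eq_one_or_unique hP hpow with hexp | huniq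
  · by_cases hab : IsMulCommutative ↥(P : Subgroup G)
    · exact Or.inr (Or.inl ⟨hab, fun a ha => congrArg Subtype.val (hexp ⟨a, ha⟩)⟩)
    · have hp2 : p ≠ 2 := by
        rintro rfl
        refine hab ⟨⟨fun u v => ?_⟩⟩
        have h1 := hexp (u * v)
        have h2 : ∀ w : ↥(P : Subgroup G), w⁻¹ = w := fun w =>
          inv_eq_of_mul_eq_one_right (by rw [← sq, hexp w])
        rw [← h2 (u * v), mul_inv_rev, h2, h2]
      have hcube := CfsgLib.Orders.ConjSub.card_le_cube hP hexp hab (fun A B hA h1 h2 => by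
        obtain ⟨e⟩ := hiso A B (h1.trans h2.symm)
        refine ⟨⟨fun u v => e.symm.injective ?_⟩⟩
        rw [map_mul, map_mul]
        exact hA.1.1 _ _)
      refine Or.inr (Or.inr (Or.inr ⟨hp2, hab, hcube, ?_⟩))
      rcases (Nat.dvd_prime (Fact.out : p.Prime)).1 (Monoid.exponent_dvd_of_forall_pow_eq_one hexp) with h | h
      · exfalso
        refine hab ⟨⟨fun u v => ?_⟩⟩
        haveI := Monoid.exp_eq_one_iff.1 h
        exact Subsingleton.elim _ _
      · exact h
  · rcases CfsgLib.Core.UniqueOrderP.isCyclic_or_quaternion_of_unique hP huniq with h | ⟨rfl, k, ⟨e⟩⟩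
    · exact Or.inl h
    · rcases (show k = 0 ∨ k = 1 ∨ 2 ≤ k by omega) with rfl | rfl | hk
      · left
        haveI : IsCyclic (QuaternionGroup (2 ^ 0)) := by
          refine isCyclic_of_orderOf_eq_card (QuaternionGroup.xa 0) ?_
          rw [QuaternionGroup.orderOf_xa, Nat.card_eq_fintype_card, QuaternionGroup.card]; norm_num
        exact isCyclic_of_surjective e.symm.toMonoidHom e.symm.surjective
      · exact Or.inr (Or.inr (Or.inl ⟨rfl, ⟨e.trans (by rw [pow_one])⟩⟩))
      · exfalso
        obtain ⟨A, B, hA, hB, hAc, hBc⟩ := CfsgLib.Orders.ConjSub.exists_not_isCyclic_of_quaternion hk e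
        obtain ⟨e'⟩ := hiso A B (hA.trans hB.symm)
        exact hBc (isCyclic_of_surjective e'.toMonoidHom e'.surjective)

end Cfsg.Agent.S4023
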