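import Cfsg.Statements.S4020
import Cfsg.Agent.S4023
import Cfsg.Agent.S0201
import Cfsg.Agent.Lib.Core.Cores
import Cfsg.Agent.Lib.PGroups.Extraspecial
import Mathlib.GroupTheory.Transfer

set_option autoImplicit false
set_option linter.all false
open Cfsg
open scoped commutatorElement

namespace Cfsg.Agent.S4020

/-- In a nonabelian subgroup of order `p ^ 3` the commutators are central, and they are powers
of any nontrivial central element. -/
theorem cube_facts {G : Type*} [Group G] [Finite G] {p : ℕ} [Fact p.Prime] (H : Subgroup G)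
    (hna : ¬ IsMulCommutative H) (hcard : Nat.card H = p ^ 3) :
    (∀ a ∈ H, ∀ b ∈ H, ∀ h ∈ H, Commute (a * b * a⁻¹ * b⁻¹) h) ∧
    (∀ c ∈ H, c ≠ 1 → (∀ h ∈ H, Commute c h) →
      ∀ d ∈ H, (∀ h ∈ H, Commute d h) → ∃ k : ℕ, c ^ k = d) := by
  have hE := CfsgLib.PGroups.isExtraspecial_of_card_cube hna hcard
  refine ⟨fun a ha b hb h hh => ?_, fun c hc hc1 hcc d hd hdc => ?_⟩
  · have h1 := Subgroup.mem_center_iff.1
      (CfsgLib.PGroups.IsExtraspecial.comm_mem hE ⟨a, ha⟩ ⟨b, hb⟩) ⟨h, hh⟩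
    exact (congrArg Subtype.val h1).symm
  · have hmem : ∀ e : G, ∀ he : e ∈ H, (∀ h ∈ H, Commute e h) →
        (⟨e, he⟩ : H) ∈ Subgroup.center H := fun e he hec =>
      Subgroup.mem_center_iff.2 fun g => Subtype.ext (hec g g.2).eq.symm
    obtain ⟨k, hk⟩ := Submonoid.mem_powers_iff _ _ |>.1
      (mem_powers_of_prime_card (G := Subgroup.center H) hE.2
        (g := ⟨⟨c, hc⟩, hmem c hc hcc⟩) (g' := ⟨⟨d, hd⟩, hmem d hd hdc⟩)
        (fun h => hc1 (by simpa [Subtype.ext_iff] using h)))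
    exact ⟨k, by simpa [Subtype.ext_iff] using hk⟩

/-- If `v` inverts `x` then every odd power of `v` inverts `x`. -/
theorem odd_pow_inverts {G : Type*} [Group G] {v x : G} (h : v * x * v⁻¹ = x⁻¹) :
    ∀ j : ℕ, v ^ (2 * j + 1) * x * (v ^ (2 * j + 1))⁻¹ = x⁻¹
  | 0 => by simpa using h
  | j + 1 => by
    have h' : v * x⁻¹ * v⁻¹ = x := by
      rw [show v * x⁻¹ * v⁻¹ = (v * x * v⁻¹)⁻¹ by group, h, inv_inv]
    have ih := odd_pow_inverts h j
    rw [show 2 * (j + 1) + 1 = (2 * j + 1) + 1 + 1 by ring, pow_succ', pow_succ']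
    calc v * (v * v ^ (2 * j + 1)) * x * (v * (v * v ^ (2 * j + 1)))⁻¹
        = v * (v * (v ^ (2 * j + 1) * x * (v ^ (2 * j + 1))⁻¹) * v⁻¹) * v⁻¹ := by group
      _ = x⁻¹ := by rw [ih, h', h]

theorem quat_eight : ∀ a b : QuaternionGroup 2, b * b = 1 → b ≠ 1 → a * a = 1 ∨ a * a = b := by
  decide

/-- An element inverted by the square of a 2-element has its square in the odd core, if a Sylow
2-subgroup containing that element is cyclic, elementary abelian or quaternion of order 8. -/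
theorem sq_mem_core {G : Type*} [Group G] [Finite G] (S : Sylow 2 G) {s x : G}
    (hs : s ∈ (S : Subgroup G)) (hinv : s * s * x * (s * s)⁻¹ = x⁻¹)
    (hS : IsCyclic S ∨ IsElementaryAbelian 2 (S : Subgroup G) ∨
      Nonempty ((S : Subgroup G) ≃* QuaternionGroup 2)) :
    x * x ∈ pPrimeCore 2 G := by
  haveI : Fact (Nat.Prime 2) := ⟨Nat.prime_two⟩
  by_cases hss : s * s = 1
  · rw [hss, one_mul, inv_one, mul_one] at hinv
    rw [show x * x = x * x⁻¹ by rw [← hinv], mul_inv_cancel]; exact one_mem _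
  rcases hS with hc | he | hq
  · have h2 : 2 ∣ Nat.card G := by
      have h1 : (⟨s, hs⟩ : (S : Subgroup G)) ≠ 1 := by
        intro h
        have : s = 1 := congrArg Subtype.val h
        exact hss (by rw [this, mul_one])
      obtain ⟨n, hn⟩ := IsPGroup.iff_orderOf.1 S.isPGroup' ⟨s, hs⟩
      rcases n with _ | n
      · exact absurd (orderOf_eq_one_iff.1 (by simpa using hn)) h1
      · refine (dvd_pow_self 2 n.succ_ne_zero).trans ?_
        rw [← hn, ← Subgroup.orderOf_coe]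
        exact orderOf_dvd_natCard _
    have hmin : (Nat.card G).minFac = 2 := (Nat.minFac_eq_two_iff _).2 h2
    set f := MonoidHom.transferSylow S (hc.normalizer_le_centralizer hmin) with hf
    have hker : f.ker ≤ pPrimeCore 2 G :=
      CfsgLib.Core.le_pPrimeCore (Nat.Coprime.symm ((Nat.prime_two.coprime_iff_not_dvd).2
        (MonoidHom.not_dvd_card_ker_transferSylow S _)))
    refine hker (MonoidHom.mem_ker.2 ?_)
    haveI : IsMulCommutative (S : Subgroup G) := inferInstance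
    have h1 := congrArg f hinv
    rw [map_mul, map_mul, map_inv, map_inv, IsMulCommutative.is_comm.comm (f (s * s)) (f x),
      mul_inv_cancel_right] at h1
    rw [map_mul, mul_eq_one_iff_eq_inv]; exact h1
  · exact absurd (by simpa [sq] using he.2 s hs) hss
  · obtain ⟨e⟩ := hq
    set O := pPrimeCore 2 G with hO
    set π := QuotientGroup.mk' O with hπ
    let T : Sylow 2 (G ⧸ O) := S.mapSurjective (QuotientGroup.mk'_surjective O)
    have hdisj : ∀ a ∈ (S : Subgroup G), π a = 1 → a = 1 := by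
      intro a ha h
      rw [hπ, QuotientGroup.mk'_apply, QuotientGroup.eq_one_iff] at h
      obtain ⟨n, hn⟩ := IsPGroup.iff_card.1 S.isPGroup'
      have hb := Subgroup.inf_eq_bot_of_coprime (H := (S : Subgroup G)) (K := O)
        (hn ▸ ((CfsgLib.Core.coprime_card_pPrimeCore 2 G).pow_right n).symm)
      exact Subgroup.mem_bot.1 (hb ▸ ⟨ha, h⟩)
    have hTeq : (T : Subgroup (G ⧸ O)) = (S : Subgroup G).map π := rfl
    let eT : (T : Subgroup (G ⧸ O)) ≃* QuaternionGroup (2 ^ (0 + 1)) :=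
      (MulEquiv.ofBijective (π.subgroupMap (S : Subgroup G))
        ⟨(injective_iff_map_eq_one _).2 fun a ha =>
            Subtype.ext (hdisj a a.2 (congrArg Subtype.val ha)),
          π.subgroupMap_surjective _⟩).symm.trans e
    have hcc := Cfsg.Agent.S0201.result T 0 eT (fun N hN hodd => by
      haveI := hN
      rw [eq_bot_iff, ← CfsgLib.Core.pPrimeCore_quotient_pPrimeCore 2 G]
      exact CfsgLib.Core.le_pPrimeCore (Nat.Coprime.symm ((Nat.prime_two.coprime_iff_not_dvd).2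
        (fun h => (Nat.not_even_iff_odd.2 hodd) (even_iff_two_dvd.2 h)))))
    haveI : Nontrivial (Subgroup.center (G ⧸ O)) :=
      Finite.one_lt_card_iff_nontrivial.1 (by rw [hcc]; norm_num)
    obtain ⟨⟨c, hc⟩, hc1⟩ := exists_ne (1 : Subgroup.center (G ⧸ O))
    have hcT : c ∈ (T : Subgroup (G ⧸ O)) :=
      (IsPGroup.of_card (n := 1) (by rw [hcc, pow_one])).le_sylow_of_normal T hc
    have hcne : c ≠ 1 := fun h => hc1 (Subtype.ext h)
    have hcsq : c * c = 1 := by
      have := pow_card_eq_one' (x := (⟨c, hc⟩ : Subgroup.center (G ⧸ O)))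
      rw [hcc, sq] at this
      exact congrArg Subtype.val this
    have hsT : π s ∈ (T : Subgroup (G ⧸ O)) := hTeq ▸ Subgroup.mem_map_of_mem _ hs
    have hcomm : π (s * s) ∈ Subgroup.center (G ⧸ O) := by
      rcases quat_eight (eT ⟨π s, hsT⟩) (eT ⟨c, hcT⟩)
        (by rw [← map_mul, ← map_one eT]; exact congrArg eT (Subtype.ext hcsq))
        (fun h => hcne (congrArg Subtype.val (eT.map_eq_one_iff.1 h))) with h | h
      · rw [← map_mul, eT.map_eq_one_iff] at h
        rw [map_mul, show π s * π s = 1 from congrArg Subtype.val h]; exact one_mem _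
      · rw [← map_mul] at h
        rw [map_mul, show π s * π s = c from congrArg Subtype.val (eT.injective h)]; exact hc
    have h1 := congrArg π hinv
    rw [map_mul, map_mul π (s * s), map_inv, map_inv,
      ← Subgroup.mem_center_iff.1 hcomm (π x), mul_inv_cancel_right] at h1
    rw [← QuotientGroup.ker_mk' O, MonoidHom.mem_ker, map_mul]
    exact mul_eq_one_iff_eq_inv.2 h1

/-- The nonabelian case of order `p ^ 3` and exponent `p` does not occur. -/
theorem no_cube {G : Type*} [Group G] [Finite G]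
    (hD : ∀ p : ℕ, p.Prime → ∀ H K : Subgroup G, IsPGroup p H → IsPGroup p K →
      Nat.card H = Nat.card K → ∃ g : G, K = H.map (MulAut.conj g).toMonoidHom)
    {p : ℕ} [hp : Fact p.Prime] (P : Sylow p G) (hp2 : p ≠ 2) (hna : ¬ IsMulCommutative P)
    (hcard : Nat.card P = p ^ 3) (hexp : Monoid.exponent P = p) : False := by
  classical
  haveI : Fact (Nat.Prime 2) := ⟨Nat.prime_two⟩
  have hpP : ∀ a ∈ (P : Subgroup G), a ^ p = 1 := fun a ha => by
    have := Monoid.pow_exponent_eq_one (⟨a, ha⟩ : (P : Subgroup G))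
    rw [hexp] at this
    exact congrArg Subtype.val this
  have hpg : ∀ a : G, a ^ p = 1 → IsPGroup p (Subgroup.zpowers a) := fun a ha => by
    obtain ⟨i, -, hi⟩ := (Nat.dvd_prime_pow hp.out (m := 1) (i := orderOf a)).1
      (by rw [pow_one]; exact orderOf_dvd_of_pow_eq_one ha)
    exact IsPGroup.of_card (n := i) (by rw [Nat.card_zpowers, hi])
  have hconj1 : ∀ a b : G, orderOf a = p → orderOf b = p →
      ∃ g : G, ∃ k : ℤ, g * a * g⁻¹ = b ^ k ∧ ∃ j : ℤ, g * a ^ j * g⁻¹ = b := by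
    intro a b ha hb
    obtain ⟨g, hg⟩ := hD p hp.out _ _ (hpg a (ha ▸ pow_orderOf_eq_one a))
      (hpg b (hb ▸ pow_orderOf_eq_one b)) (by rw [Nat.card_zpowers, Nat.card_zpowers, ha, hb])
    have h1 : g * a * g⁻¹ ∈ Subgroup.zpowers b :=
      hg ▸ Subgroup.mem_map_of_mem _ (Subgroup.mem_zpowers a)
    have h2 : b ∈ (Subgroup.zpowers a).map (MulAut.conj g).toMonoidHom :=
      hg ▸ Subgroup.mem_zpowers b
    obtain ⟨k, hk⟩ := Subgroup.mem_zpowers_iff.1 h1
    obtain ⟨_, hy, hyb⟩ := h2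
    obtain ⟨j, rfl⟩ := Subgroup.mem_zpowers_iff.1 hy
    exact ⟨g, k, hk.symm, j, hyb⟩
  obtain ⟨hPc, hPp⟩ := cube_facts (P : Subgroup G) hna hcard
  have hne : ∃ x ∈ (P : Subgroup G), ∃ u ∈ (P : Subgroup G), ¬ Commute x u := by
    by_contra hcon
    push Not at hcon
    exact hna ⟨⟨fun a b => Subtype.ext (hcon a a.2 b b.2).eq⟩⟩
  obtain ⟨x, hx, u, hu, hxu⟩ := hne
  set z := u * x * u⁻¹ * x⁻¹ with hzdef
  have hzP : z ∈ (P : Subgroup G) :=
    mul_mem (mul_mem (mul_mem hu hx) (inv_mem hu)) (inv_mem hx)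
  have hzc : ∀ h ∈ (P : Subgroup G), Commute z h := hPc u hu x hx
  have hz1 : z ≠ 1 := fun h => hxu (commutatorElement_eq_one_iff_commute.1 h).symm
  have hx1 : x ≠ 1 := by rintro rfl; exact hxu (Commute.one_left u)
  have hxo : orderOf x = p := orderOf_eq_prime (hpP x hx) hx1
  have hzo : orderOf z = p := orderOf_eq_prime (hpP z hzP) hz1
  have hxne : x ≠ x⁻¹ := fun h => hp2 (by
    have h2 : x ^ 2 = 1 := by rw [sq]; exact mul_eq_one_iff_eq_inv.2 h
    rcases (Nat.dvd_prime Nat.prime_two).1 (hxo ▸ orderOf_dvd_of_pow_eq_one h2) with h' | h'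
    · exact absurd h' hp.out.ne_one
    · exact h')
  -- a conjugate of `P` with central element `x`
  obtain ⟨g, k, -, j, hj⟩ := hconj1 z x hzo hxo
  set P' := (P : Subgroup G).map (MulAut.conj g).toMonoidHom with hP'
  have hP'x : P' ≤ Subgroup.centralizer {x} := by
    rintro _ ⟨h, hh, rfl⟩
    rw [Subgroup.mem_centralizer_singleton_iff, ← hj]
    have := ((hzc h hh).zpow_left j).eq
    simp only [MulEquiv.coe_toMonoidHom, MulAut.conj_apply]
    calc g * h * g⁻¹ * (g * z ^ j * g⁻¹) = g * (h * z ^ j) * g⁻¹ := by group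
      _ = g * (z ^ j * h) * g⁻¹ := by rw [this]
      _ = g * z ^ j * g⁻¹ * (g * h * g⁻¹) := by group
  have hP'card : Nat.card P' = p ^ 3 := by
    rw [hP', Subgroup.card_map_of_injective (MulAut.conj g).injective]; exact hcard
  set C := Subgroup.centralizer ({x} : Set G) with hC
  set V := (Subgroup.closure ({x, z} : Set G)) with hV
  have hVP : V ≤ (P : Subgroup G) := (Subgroup.closure_le _).2 (by
    rintro a (rfl | rfl)
    · exact hx
    · exact hzP)
  have hVC : V ≤ C := (Subgroup.closure_le _).2 (by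
    rintro a (rfl | rfl)
    · exact Subgroup.mem_centralizer_singleton_iff.2 rfl
    · exact Subgroup.mem_centralizer_singleton_iff.2 (hzc x hx).eq)
  obtain ⟨Q, hQ⟩ := (show IsPGroup p (V.subgroupOf C) from
    IsPGroup.comap_of_injective (P.isPGroup'.to_le hVP) C.subtype C.subtype_injective).exists_le_sylow
  set H := (Q : Subgroup C).map C.subtype with hH
  have hHcard : Nat.card H = p ^ 3 := by
    have hle : P'.subgroupOf C |> IsPGroup p := by
      exact IsPGroup.comap_of_injective (IsPGroup.of_card hP'card) C.subtype C.subtype_injective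
    obtain ⟨R, hR⟩ := hle.exists_le_sylow
    have h1 : p ^ 3 ≤ Nat.card H := by
      rw [hH, Subgroup.card_map_of_injective C.subtype_injective]
      have h3 : p ^ 3 ≤ Nat.card (R : Subgroup C) := by
        rw [← hP'card, ← Nat.card_congr (Subgroup.subgroupOfEquivOfLe hP'x).toEquiv]
        exact Subgroup.card_le_of_le hR
      rwa [Sylow.card_eq_multiplicity R, ← Sylow.card_eq_multiplicity Q] at h3
    obtain ⟨S, hS⟩ := (Q.isPGroup'.map C.subtype).exists_le_sylow
    have h2 : Nat.card H ≤ p ^ 3 := by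
      refine (Subgroup.card_le_of_le hS).trans ?_
      rw [Sylow.card_eq_multiplicity S, ← Sylow.card_eq_multiplicity P]
      exact hcard.le
    exact le_antisymm h2 h1
  have hVH : V ≤ H := fun a ha => ⟨⟨a, hVC ha⟩, hQ (show a ∈ V from ha), rfl⟩
  have hxH : x ∈ H := hVH (Subgroup.subset_closure (by simp))
  have hzH : z ∈ H := hVH (Subgroup.subset_closure (by simp))
  have hHx : ∀ h ∈ H, Commute x h := by
    rintro _ ⟨a, -, rfl⟩
    exact (Subgroup.mem_centralizer_singleton_iff.1 a.2).symm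
  obtain ⟨g₁, hg₁⟩ := hD p hp.out _ _ P.isPGroup' (IsPGroup.of_card hHcard)
    (hcard.trans hHcard.symm)
  have hHna : ¬ IsMulCommutative H := by
    intro hab
    refine hna ⟨⟨fun a b => ?_⟩⟩
    have hm : ∀ c : (P : Subgroup G), g₁ * c * g₁⁻¹ ∈ H := fun c =>
      hg₁ ▸ Subgroup.mem_map_of_mem _ c.2
    have := congrArg Subtype.val (hab.1.1 ⟨_, hm a⟩ ⟨_, hm b⟩)
    refine Subtype.ext ?_
    have h' : g₁ * ((a : G) * b) * g₁⁻¹ = g₁ * ((b : G) * a) * g₁⁻¹ := by
      calc g₁ * ((a : G) * b) * g₁⁻¹ = g₁ * a * g₁⁻¹ * (g₁ * b * g₁⁻¹) := by group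
        _ = g₁ * b * g₁⁻¹ * (g₁ * a * g₁⁻¹) := this
        _ = g₁ * ((b : G) * a) * g₁⁻¹ := by group
    exact mul_left_cancel (mul_right_cancel h')
  have hHp : ∀ h ∈ H, h ^ p = 1 := by
    intro h hh
    rw [hg₁] at hh
    obtain ⟨a, ha, rfl⟩ := hh
    rw [← map_pow, hpP a ha, map_one]
  obtain ⟨hHc, hHg⟩ := cube_facts H hHna hHcard
  have hl₀ : ∃ l ∈ H, ¬ Commute z l := by
    by_contra hcon
    push Not at hcon
    obtain ⟨k, hk⟩ := hHg z hzH hz1 hcon x hxH hHx
    exact hxu (hk ▸ (hzc u hu).pow_left k)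
  obtain ⟨l₀, hl₀, hlz⟩ := hl₀
  set c := l₀ * z * l₀⁻¹ * z⁻¹ with hcdef
  have hcH : c ∈ H := mul_mem (mul_mem (mul_mem hl₀ hzH) (inv_mem hl₀)) (inv_mem hzH)
  have hc1 : c ≠ 1 := fun h => hlz (commutatorElement_eq_one_iff_commute.1 h).symm
  obtain ⟨k, hk⟩ := hHg c hcH hc1 (hHc l₀ hl₀ z hzH) x⁻¹ (inv_mem hxH)
    (fun h hh => (hHx h hh).inv_left)
  set l := l₀ ^ k with hldef
  have hlH : l ∈ H := pow_mem hl₀ k
  have hlz' : l * z * l⁻¹ = x⁻¹ * z := by
    rw [hldef, ← hk]
    clear_value c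
    clear hldef hk l hlH
    induction k with
    | zero => simp
    | succ n ih =>
      have hcl : l₀ * c ^ n * l₀⁻¹ = c ^ n := by
        have hcl₁ : Commute c l₀ := by rw [hcdef]; exact hHc l₀ hl₀ z hzH l₀ hl₀
        rw [← (hcl₁.pow_left n).eq, mul_inv_cancel_right]
      calc l₀ ^ (n + 1) * z * (l₀ ^ (n + 1))⁻¹
          = l₀ * (l₀ ^ n * z * (l₀ ^ n)⁻¹) * l₀⁻¹ := by rw [pow_succ']; group
        _ = l₀ * c ^ n * l₀⁻¹ * (l₀ * z * l₀⁻¹) := by rw [ih]; group
        _ = c ^ n * (c * z) := by rw [hcl, hcdef]; group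
        _ = c ^ (n + 1) * z := by rw [pow_succ]; group
  have hlx : l * x * l⁻¹ = x := by rw [← (hHx l hlH).eq, mul_inv_cancel_right]
  have hux : u * x * u⁻¹ = z * x := by rw [hzdef]; group
  have huz : u * z * u⁻¹ = z := by rw [← (hzc u hu).eq, mul_inv_cancel_right]
  set w := u * l * u with hwdef
  have hwx : w * x * w⁻¹ = z := by
    calc w * x * w⁻¹ = u * (l * (u * x * u⁻¹) * l⁻¹) * u⁻¹ := by rw [hwdef]; group
      _ = u * ((l * z * l⁻¹) * (l * x * l⁻¹)) * u⁻¹ := by rw [hux]; group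
      _ = u * (x⁻¹ * (z * x)) * u⁻¹ := by rw [hlz', hlx]; group
      _ = u * z * u⁻¹ := by rw [(hzc x hx).eq, inv_mul_cancel_left]
      _ = z := huz
  have hwz : w * z * w⁻¹ = x⁻¹ := by
    calc w * z * w⁻¹ = u * (l * (u * z * u⁻¹) * l⁻¹) * u⁻¹ := by rw [hwdef]; group
      _ = u * (x⁻¹ * z) * u⁻¹ := by rw [huz, hlz']
      _ = (u * x * u⁻¹)⁻¹ * (u * z * u⁻¹) := by group
      _ = x⁻¹ := by rw [hux, huz]; group
  obtain ⟨a, m, hm, hwo⟩ := Nat.exists_eq_two_pow_mul_odd (orderOf_pos w).ne'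
  obtain ⟨i, rfl⟩ := hm
  have hv : w * w * x * (w * w)⁻¹ = x⁻¹ := by
    calc w * w * x * (w * w)⁻¹ = w * (w * x * w⁻¹) * w⁻¹ := by group
      _ = x⁻¹ := by rw [hwx, hwz]
  set s := w ^ (2 * i + 1) with hsdef
  have hs2 : s * s * x * (s * s)⁻¹ = x⁻¹ := by
    rw [hsdef, ← (Commute.refl w).mul_pow]
    exact odd_pow_inverts hv i
  have hspg : IsPGroup 2 (Subgroup.zpowers s) := by
    obtain ⟨n, -, hn⟩ := (Nat.dvd_prime_pow Nat.prime_two (m := a) (i := orderOf s)).1
      (orderOf_dvd_of_pow_eq_one (x := s)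
        (by rw [hsdef, ← pow_mul, mul_comm, ← hwo, pow_orderOf_eq_one]))
    exact IsPGroup.of_card (n := n) (by rw [Nat.card_zpowers, hn])
  obtain ⟨S, hS⟩ := hspg.exists_le_sylow
  have hxx : x * x ∈ pPrimeCore 2 G := by
    refine sq_mem_core S (hS (Subgroup.mem_zpowers s)) hs2 ?_
    rcases Cfsg.Agent.S4023.result (hD 2 Nat.prime_two) S with h | h | ⟨-, h⟩ | ⟨h, -⟩
    · exact Or.inl h
    · exact Or.inr (Or.inl h)
    · exact Or.inr (Or.inr h)
    · exact absurd rfl h
  have hxO : x ∈ pPrimeCore 2 G := by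
    obtain ⟨q, hq⟩ := hp.out.odd_of_ne_two hp2
    have : x = (x * x) ^ (q + 1) := by
      rw [← sq, ← pow_mul, show 2 * (q + 1) = p + 1 by omega, pow_succ, hpP x hx, one_mul]
    rw [this]; exact pow_mem hxx _
  have hall : ∀ b : G, b ^ p = 1 → b ∈ pPrimeCore 2 G := by
    intro b hb
    by_cases hb1 : b = 1
    · rw [hb1]; exact one_mem _
    obtain ⟨g, k, hk, -⟩ := hconj1 b x (orderOf_eq_prime hb hb1) hxo
    have := (CfsgLib.Core.normal_pPrimeCore 2 G).conj_mem _ (zpow_mem hxO k) g⁻¹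
    rw [← hk] at this
    simpa [mul_assoc] using this
  have hwO : w ∈ pPrimeCore 2 G :=
    mul_mem (mul_mem (hall u (hpP u hu)) (hall l (hHp l hlH))) (hall u (hpP u hu))
  have hodd : (orderOf w).Coprime 2 := by
    refine (CfsgLib.Core.coprime_card_pPrimeCore 2 G).coprime_dvd_left ?_
    rw [← Nat.card_zpowers]
    exact Subgroup.card_dvd_of_le (by simpa using hwO)
  rcases a with _ | a
  · have hs1 : s = 1 := by
      rw [hsdef, show 2 * i + 1 = orderOf w by rw [hwo]; simp, pow_orderOf_eq_one]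
    rw [hs1] at hs2
    simp at hs2
    exact hxne hs2
  · refine Nat.prime_two.one_lt.ne' ((Nat.coprime_comm.1 hodd).eq_one_of_dvd ?_)
    rw [hwo]
    exact (dvd_pow_self 2 a.succ_ne_zero).mul_right _

/-- Let G be a finite group in which, for every prime p, any two p-subgroups of the same order are conjugate. Then every Sylow subgroup of G is cyclic, elementary abelian, or a quaternion group of order 8. -/
theorem result {G : Type*} [Group G] [Finite G]
    (hD : ∀ p : ℕ, p.Prime → ∀ H K : Subgroup G, IsPGroup p H → IsPGroup p K → Nat.card H = Nat.card K →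
      ∃ g : G, K = H.map (MulAut.conj g).toMonoidHom) {p : ℕ} [Fact p.Prime] (P : Sylow p G) :
    IsCyclic P ∨ Cfsg.IsElementaryAbelian p (P : Subgroup G) ∨ Nonempty ((P : Subgroup G) ≃* QuaternionGroup 2) := by
  rcases Cfsg.Agent.S4023.result (hD p Fact.out) P with h | h | ⟨-, h⟩ | ⟨h1, h2, h3, h4⟩
  · exact Or.inl h
  · exact Or.inr (Or.inl h)
  · exact Or.inr (Or.inr h)
  · exact (no_cube hD P h1 h2 h3 h4).elim

end Cfsg.Agent.S4020
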