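import Cfsg.Statements.S4024
import Cfsg.Agent.Lib.Orders.ConjugateAll
import Cfsg.Agent.Lib.PLocal.PSolvable
import Cfsg.Agent.Lib.PLocal.PConstrained
import Cfsg.Agent.Lib.Components.Char

set_option autoImplicit false
open Cfsg
open scoped Pointwise commutatorElement

namespace Cfsg.Agent.S4024

/-- Let p be an odd prime and G a finite group in which any two p-subgroups of the same order are conjugate, with Sylow p-subgroup P. If H is a normal p-solvable subgroup of G whose order is divisible by p, then P is abelian, and either P ≤ H or P is cyclic. -/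
theorem result {G : Type*} [Group G] [Finite G]
    {p : ℕ} [Fact p.Prime] (hp : p ≠ 2) (hC : ∀ H K : Subgroup G, IsPGroup p H → IsPGroup p K → Nat.card H = Nat.card K →
      ∃ g : G, K = H.map (MulAut.conj g).toMonoidHom) (P : Sylow p G)
    (H : Subgroup G) [H.Normal] (hsolv : Cfsg.IsPSolvable p H) (hdiv : p ∣ Nat.card H) :
    IsMulCommutative P ∧ ((P : Subgroup G) ≤ H ∨ IsCyclic P) := by
  classical
  have hpp : p.Prime := Fact.out
  have hz : ∀ x : G, orderOf x = p → IsPGroup p (Subgroup.zpowers x) := fun x hx =>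
    IsPGroup.of_card (n := 1) (by rw [Nat.card_zpowers, hx, pow_one])
  have hconj : ∀ x y : G, orderOf x = p → orderOf y = p → ∃ g : G, ∃ i : ℤ, g * x ^ i * g⁻¹ = y := by
    intro x y hx hy
    obtain ⟨g, hg⟩ := hC _ _ (hz x hx) (hz y hy) (by rw [Nat.card_zpowers, Nat.card_zpowers, hx, hy])
    obtain ⟨w, hw, hwy⟩ : y ∈ (Subgroup.zpowers x).map (MulAut.conj g).toMonoidHom :=
      hg ▸ Subgroup.mem_zpowers y
    obtain ⟨i, rfl⟩ := Subgroup.mem_zpowers_iff.1 hw
    exact ⟨g, i, hwy⟩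
  have hpow : ∀ A B : Subgroup ↥(P : Subgroup G), IsMulCommutative A → IsMulCommutative B →
      Nat.card A = p ^ 2 → Nat.card B = p ^ 2 → (∀ a ∈ A, a ^ p = 1) → ∀ b ∈ B, b ^ p = 1 := by
    intro A B _ _ h1 h2 he b hb
    obtain ⟨g, hg⟩ := hC (A.map (P : Subgroup G).subtype) (B.map (P : Subgroup G).subtype)
      ((P.isPGroup'.to_subgroup A).map _) ((P.isPGroup'.to_subgroup B).map _)
      (by rw [Subgroup.card_map_of_injective (Subgroup.subtype_injective _),
        Subgroup.card_map_of_injective (Subgroup.subtype_injective _), h1, h2])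
    obtain ⟨_, ⟨a, ha, rfl⟩, hab⟩ : (b : G) ∈ (A.map (P : Subgroup G).subtype).map (MulAut.conj g).toMonoidHom :=
      hg ▸ Subgroup.mem_map_of_mem _ hb
    refine Subtype.ext ?_
    rw [Subgroup.coe_pow, ← hab, ← map_pow, ← map_pow, he a ha, map_one, map_one]
    rfl
  rcases CfsgLib.Orders.ConjSub.pow_eq_one_or_unique P.isPGroup' hpow with hexp | huniq
  swap
  · rcases CfsgLib.Core.UniqueOrderP.isCyclic_or_quaternion_of_unique P.isPGroup' huniq with h | ⟨h, -⟩
    · haveI := h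
      exact ⟨⟨⟨fun u v => IsCyclic.commGroup.mul_comm u v⟩⟩, Or.inr h⟩
    · exact absurd h hp
  obtain ⟨⟨z, hzH⟩, hzo⟩ := exists_prime_orderOf_dvd_card' p hdiv
  rw [Subgroup.orderOf_mk] at hzo
  have hPH : (P : Subgroup G) ≤ H := by
    intro x hx
    by_cases hx1 : x = 1
    · exact hx1 ▸ one_mem _
    obtain ⟨g, i, hgi⟩ := hconj z x hzo (orderOf_eq_prime (congrArg Subtype.val (hexp ⟨x, hx⟩)) hx1)
    exact hgi ▸ Subgroup.Normal.conj_mem inferInstance _ (H.zpow_mem hzH i) g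
  refine ⟨?_, Or.inl hPH⟩
  obtain ⟨K, ⟨hKn, hKH, hKc⟩, hKmax⟩ := Set.Finite.exists_maximal
    (s := {K : Subgroup G | K.Normal ∧ K ≤ H ∧ (Nat.card K).Coprime p}) (Set.toFinite _)
    ⟨⊥, inferInstance, bot_le, by simp⟩
  haveI := hKn
  set π := QuotientGroup.mk' K with hπ
  have hsur : Function.Surjective π := QuotientGroup.mk'_surjective K
  set H' := H.map π with hH'
  haveI hH'n : H'.Normal := Subgroup.Normal.map inferInstance π hsur
  have hps : Cfsg.IsPSolvable p H' :=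
    CfsgLib.PLocal.isPSolvable_of_surjective (π.subgroupMap H) (π.subgroupMap_surjective H) hsolv
  have hO : Cfsg.pPrimeCore p ↥H' = ⊥ := by
    haveI := CfsgLib.Components.pPrimeCore_characteristic (G := ↥H') p
    set R := (Cfsg.pPrimeCore p ↥H').map H'.subtype
    haveI hRn : R.Normal := inferInstanceAs ((Cfsg.pPrimeCore p ↥H').map H'.subtype).Normal
    have hRc : (Nat.card R).Coprime p := by
      rw [Subgroup.card_map_of_injective H'.subtype_injective]
      exact CfsgLib.Components.pPrimeCore_coprime p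
    have hKle : K ≤ R.comap π := QuotientGroup.le_comap_mk' K R
    have hle : R.comap π ≤ H := by
      intro x hx
      obtain ⟨y, -, hy⟩ := hx
      obtain ⟨h, hh, hhy⟩ := y.2
      have h1 : h⁻¹ * x ∈ K := (QuotientGroup.eq).1 (hhy.trans hy)
      simpa using H.mul_mem hh (hKH h1)
    have hc : (Nat.card ↥(R.comap π)).Coprime p := by
      rw [← CfsgLib.Orders.ConjAll.card_map_mk_of_le hKle, Subgroup.map_comap_eq_self_of_surjective hsur]
      exact hRc.mul_left hKc
    have h2 := hKmax ⟨inferInstance, hle, hc⟩ hKle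
    refine (Subgroup.map_eq_bot_iff_of_injective _ H'.subtype_injective).1 ((Subgroup.eq_bot_iff_forall _).2 fun r hr => ?_)
    obtain ⟨x, rfl⟩ := hsur r
    exact (QuotientGroup.eq_one_iff x).2 (h2 hr)
  have hzK : z ∉ K := fun h => by
    have h1 := K.orderOf_dvd_natCard h
    rw [hzo] at h1
    exact hpp.coprime_iff_not_dvd.1 hKc.symm h1
  haveI : Nontrivial ↥H' := ⟨⟨⟨π z, Subgroup.mem_map_of_mem _ hzH⟩, 1, fun h =>
    hzK ((QuotientGroup.eq_one_iff z).1 (congrArg Subtype.val h))⟩⟩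
  have hcore : Cfsg.pCore p ↥H' ≠ ⊥ := by
    intro h
    have h1 := CfsgLib.PLocal.centralizer_pCore_le hps hO
    rw [h] at h1
    obtain ⟨a, ha⟩ := exists_ne (1 : ↥H')
    exact ha (Subgroup.mem_bot.1 (h1 (Subgroup.mem_centralizer_iff.2 fun b hb => by
      rw [Subgroup.mem_bot.1 hb, one_mul, mul_one])))
  haveI := CfsgLib.Components.pCore_characteristic (G := ↥H') p
  set V := (Cfsg.pCore p ↥H').map H'.subtype
  haveI hVn : V.Normal := inferInstanceAs ((Cfsg.pCore p ↥H').map H'.subtype).Normal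
  have hVp : IsPGroup p V := (CfsgLib.Components.pCore_isPGroup p).map _
  set Z := (Subgroup.center V).map V.subtype
  haveI hZn : Z.Normal := inferInstanceAs ((Subgroup.center V).map V.subtype).Normal
  haveI : Nontrivial V := (Subgroup.nontrivial_iff_ne_bot V).2 fun h =>
    hcore ((Subgroup.map_eq_bot_iff_of_injective _ H'.subtype_injective).1 h)
  haveI : Nontrivial (Subgroup.center V) := hVp.center_nontrivial
  obtain ⟨i, hi⟩ := IsPGroup.iff_card.1 (hVp.to_subgroup (Subgroup.center V))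
  have hpZ : p ∣ Nat.card (Subgroup.center V) := by
    rcases i with _ | i
    · exact absurd hi (by rw [pow_zero]; exact Finite.one_lt_card.ne')
    · exact hi ▸ dvd_pow_self p (Nat.succ_ne_zero i)
  obtain ⟨w, hwo⟩ := exists_prime_orderOf_dvd_card' p hpZ
  rw [← Subgroup.orderOf_coe, ← Subgroup.orderOf_coe] at hwo
  obtain ⟨w₀, hw₀⟩ := hsur ((w : V) : G ⧸ K)
  -- a lift of order `p`
  have hpo : p ∣ orderOf w₀ := by
    have h := orderOf_map_dvd π w₀
    rwa [hw₀, hwo] at h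
  obtain ⟨e, he1, he2⟩ := Nat.exists_eq_pow_mul_and_not_dvd (orderOf_pos w₀).ne' p hpp.ne_one
  set w₁ := w₀ ^ he1 with hw₁
  have hw₁o : orderOf w₁ = p ^ e := by
    obtain ⟨he3, he4⟩ := he2
    rw [hw₁, orderOf_pow_of_dvd (fun h => he3 (by rw [h]; exact dvd_zero p)) (he4 ▸ dvd_mul_left _ _), he4,
      Nat.mul_div_cancel _ (Nat.pos_of_ne_zero fun h => he3 (by rw [h]; exact dvd_zero p))]
  have hw₁Z : π w₁ ∈ Z := by
    rw [hw₁, map_pow, hw₀]
    exact Z.pow_mem ⟨(w : V), w.2, rfl⟩ _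
  have hw₁p : w₁ ^ p = 1 := by
    have h1 : w₁ ^ p ∈ K := (QuotientGroup.eq_one_iff _).1 (by
      show π (w₁ ^ p) = 1
      rw [hw₁, map_pow, map_pow, hw₀, ← pow_mul, mul_comm, pow_mul, ← hwo, pow_orderOf_eq_one, one_pow])
    have h2 := K.orderOf_dvd_natCard h1
    have h3 : orderOf (w₁ ^ p) ∣ p ^ e := hw₁o ▸ orderOf_pow_dvd p
    exact orderOf_eq_one_iff.1 (Nat.eq_one_of_dvd_coprimes (hKc.pow_right e) h2 h3)
  have hw₁ne : w₁ ≠ 1 := by
    intro h
    have h1 : ((w : V) : G ⧸ K) ^ he1 = 1 := by rw [← hw₀, ← map_pow, ← hw₁, h, map_one]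
    exact he2.1 (hwo ▸ orderOf_dvd_of_pow_eq_one h1)
  have hw₁ord : orderOf w₁ = p := orderOf_eq_prime hw₁p hw₁ne
  have hPZ : ∀ x ∈ (P : Subgroup G), π x ∈ Z := by
    intro x hx
    by_cases hx1 : x = 1
    · rw [hx1, map_one]; exact one_mem _
    obtain ⟨g, j, hgj⟩ := hconj w₁ x hw₁ord (orderOf_eq_prime (congrArg Subtype.val (hexp ⟨x, hx⟩)) hx1)
    rw [← hgj, map_mul, map_mul, map_inv, map_zpow]
    exact hZn.conj_mem _ (Z.zpow_mem hw₁Z j) _
  refine ⟨⟨fun u v => ?_⟩⟩
  obtain ⟨a, ha, hau⟩ := hPZ u u.2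
  obtain ⟨b, hb, hbv⟩ := hPZ v v.2
  have hab : a * b = b * a := (Subgroup.mem_center_iff.1 hb a)
  have h1 : π (u * v * (v * u : ↥(P : Subgroup G))⁻¹ : ↥(P : Subgroup G)) = 1 := by
    push_cast
    rw [map_mul, map_mul, map_inv, map_mul, ← hau, ← hbv, ← map_mul, ← map_mul, ← map_inv, ← map_mul,
      hab, mul_inv_cancel, map_one]
  have h2 := (QuotientGroup.eq_one_iff _).1 h1
  have h3 : (((u * v * (v * u)⁻¹ : ↥(P : Subgroup G))) : G) = 1 := by
    have hord := K.orderOf_dvd_natCard h2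
    obtain ⟨n, hn⟩ := IsPGroup.iff_orderOf.1 P.isPGroup' (u * v * (v * u)⁻¹)
    rw [← Subgroup.orderOf_coe] at hn
    exact orderOf_eq_one_iff.1 (Nat.eq_one_of_dvd_coprimes (hKc.pow_right n) hord (hn ▸ dvd_rfl))
  exact mul_inv_eq_one.1 (Subtype.ext h3)

end Cfsg.Agent.S4024
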