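import Cfsg.Statements.S4027
import Cfsg.Agent.Lib.Orders.NoInversion

set_option autoImplicit false
open Cfsg
open scoped Pointwise commutatorElement

namespace Cfsg.Agent.S4027

/-- Let G be a finite group in which every element x of odd order satisfies N_G(⟨x⟩) = C_G(x). Then the Sylow 2-subgroups of G are normal. -/
theorem result {G : Type*} [Group G] [Finite G]
    (hirr : ∀ x : G, (∀ r : ℕ, r.Prime → r ∣ orderOf x → r ≠ 2) →
      Subgroup.normalizer ((Subgroup.zpowers x : Subgroup G) : Set G) ≤ Subgroup.centralizer {x}) (P : Sylow 2 G) :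
    (P : Subgroup G).Normal := by
  refine CfsgLib.Orders.normal_sylow_two_of_noInversion (fun x g hx hg => ?_) P
  have hN : g ∈ Subgroup.normalizer ((Subgroup.zpowers x : Subgroup G) : Set G) := by
    rw [CfsgLib.Core.mem_normalizer_iff_conj_smul_eq, CfsgLib.Core.conj_smul_eq_map,
      MonoidHom.map_zpowers]
    simp only [MulEquiv.coe_toMonoidHom, MulAut.conj_apply, hg, Subgroup.zpowers_inv]
  have h1 := hirr x (fun r hr hdvd h2 => by
    subst h2
    exact (Nat.not_even_iff_odd.2 hx) (even_iff_two_dvd.2 hdvd)) hN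
  have h2 : x⁻¹ = x := by
    have h3 : x * g = g * x := Subgroup.mem_centralizer_singleton_iff.1 h1 |>.symm
    rw [← hg, ← h3, mul_inv_cancel_right]
  have h4 : orderOf x ∣ 2 := orderOf_dvd_of_pow_eq_one (by rw [sq]; nth_rewrite 1 [← h2]; exact inv_mul_cancel x)
  rcases (Nat.dvd_prime Nat.prime_two).1 h4 with h | h
  · exact orderOf_eq_one_iff.1 h
  · exact absurd hx (h ▸ by decide)

end Cfsg.Agent.S4027
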