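import Cfsg.Statements.S4028
import Cfsg.Agent.Lib.Orders.Parts
import Cfsg.Agent.Lib.Orders.DirectFactor
import Cfsg.Agent.Lib.PGroups.Basic

set_option autoImplicit false
open Cfsg
open scoped Pointwise

namespace Cfsg.Agent.S4028

/-- Let G be a finite group with Sylow 2-subgroup P. Then N_G(⟨x⟩) = C_G(x) holds for every 2-element x of G if and only if N_P(⟨y⟩) = C_P(y) holds for every y ∈ P (computed inside P). -/
theorem result {G : Type*} [Group G] [Finite G] (P : Sylow 2 G) :
    (∀ x : G, (∀ r : ℕ, r.Prime → r ∣ orderOf x → r = 2) →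
      Subgroup.normalizer ((Subgroup.zpowers x : Subgroup G) : Set G) ≤ Subgroup.centralizer {x}) ↔
    (∀ y : ↥(P : Subgroup G), Subgroup.normalizer ((Subgroup.zpowers y : Subgroup ↥(P : Subgroup G)) : Set ↥(P : Subgroup G)) ≤
        Subgroup.centralizer {y}) := by
  constructor
  · intro h y g hg
    have hy : ∀ r : ℕ, r.Prime → r ∣ orderOf (y : G) → r = 2 := by
      intro r hr hd
      obtain ⟨k, hk⟩ := IsPGroup.iff_orderOf.1 P.isPGroup' y
      rw [Subgroup.orderOf_coe, hk] at hd
      exact (Nat.prime_dvd_prime_iff_eq hr Nat.prime_two).1 (hr.dvd_of_dvd_pow hd)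
    have hmap : (g : G) ∈ Subgroup.normalizer ((Subgroup.zpowers (y : G) : Subgroup G) : Set G) := by
      have := Subgroup.le_normalizer_map (P : Subgroup G).subtype (Subgroup.mem_map_of_mem _ hg)
      rwa [MonoidHom.map_zpowers] at this
    exact Subgroup.mem_centralizer_singleton_iff.2 (Subtype.ext
      (Subgroup.mem_centralizer_singleton_iff.1 (h y hy hmap)))
  · intro h x hx g hg
    rw [Subgroup.mem_centralizer_singleton_iff]
    obtain ⟨a, ha⟩ : ∃ a, orderOf x = 2 ^ a := ⟨_, Nat.eq_prime_pow_of_unique_prime_dvd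
      (orderOf_pos x).ne' fun {r} hr hd => hx r hr hd⟩
    obtain ⟨u, v, hu, hv, rfl, -, ⟨b, hb⟩, hv2⟩ := CfsgLib.Orders.exists_split Nat.prime_two g
    have hu' := Subgroup.zpowers_le.2 hg hu
    have hv' := Subgroup.zpowers_le.2 hg hv
    refine Commute.mul_left ?_ ?_
    · have hH : IsPGroup 2 (Subgroup.zpowers u ⊔ Subgroup.zpowers x : Subgroup G) :=
        IsPGroup.to_sup_of_normal_right' (CfsgLib.HallGen.isPGroup_zpowers hb)
          (CfsgLib.HallGen.isPGroup_zpowers ha) (Subgroup.zpowers_le.2 hu')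
      obtain ⟨S, hS⟩ := hH.exists_le_sylow
      obtain ⟨c, hc⟩ := MulAction.exists_smul_eq G S P
      have hmem : ∀ z ∈ (S : Subgroup G), c * z * c⁻¹ ∈ (P : Subgroup G) := fun z hz => by
        rw [← hc, Sylow.coe_subgroup_smul]
        exact Subgroup.smul_mem_pointwise_smul _ (MulAut.conj c) _ hz
      have hxS := hmem x (hS (Subgroup.mem_sup_right (Subgroup.mem_zpowers x)))
      have huS := hmem u (hS (Subgroup.mem_sup_left (Subgroup.mem_zpowers u)))
      have hn : (⟨_, huS⟩ : (P : Subgroup G)) ∈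
          Subgroup.normalizer ((Subgroup.zpowers (⟨_, hxS⟩ : (P : Subgroup G)) : Subgroup _) : Set _) := by
        rw [Subgroup.mem_normalizer_iff]
        intro z
        obtain ⟨z, hz⟩ := z
        have key : ∀ w (hw : w ∈ (P : Subgroup G)),
            (⟨w, hw⟩ : (P : Subgroup G)) ∈ Subgroup.zpowers ⟨_, hxS⟩ ↔ c⁻¹ * w * c ∈ Subgroup.zpowers x := by
          intro w hw
          rw [Subgroup.mem_zpowers_iff, Subgroup.mem_zpowers_iff]
          refine exists_congr fun i => ⟨fun hi => ?_, fun hi => Subtype.ext ?_⟩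
          · have := congrArg Subtype.val hi
            simp only [Subgroup.coe_zpow, conj_zpow] at this
            rw [← this]; group
          · simp only [Subgroup.coe_zpow, conj_zpow]
            rw [hi]; group
        rw [key, show ((⟨_, huS⟩ : (P : Subgroup G)) * ⟨z, hz⟩ * ⟨_, huS⟩⁻¹) =
          ⟨c * u * c⁻¹ * z * (c * u * c⁻¹)⁻¹, mul_mem (mul_mem huS hz) (inv_mem huS)⟩ from rfl, key,
          Subgroup.mem_normalizer_iff.1 hu' (c⁻¹ * z * c)]
        rw [show c⁻¹ * (c * u * c⁻¹ * z * (c * u * c⁻¹)⁻¹) * c = u * (c⁻¹ * z * c) * u⁻¹ by group]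
      have h1 := congrArg Subtype.val (Subgroup.mem_centralizer_singleton_iff.1 (h ⟨_, hxS⟩ hn))
      have h2 : c * u * c⁻¹ * (c * x * c⁻¹) = c * x * c⁻¹ * (c * u * c⁻¹) := h1
      calc u * x = c⁻¹ * (c * u * c⁻¹ * (c * x * c⁻¹)) * c := by group
        _ = x * u := by rw [h2]; group
    · by_cases hx1 : x = 1
      · rw [hx1]; exact Commute.one_right v
      obtain ⟨k, hk⟩ := Subgroup.mem_zpowers_iff.1
        ((Subgroup.mem_normalizer_iff.1 hv' x).1 (Subgroup.mem_zpowers x))
      have hk2 : ((2 : ℕ) : ℤ) ∣ k - 1 := by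
        by_contra hodd
        have he : (2 : ℤ) ∣ k := by push_cast at hodd; omega
        obtain ⟨j, rfl⟩ := he
        have ha0 : a ≠ 0 := fun h0 => hx1 (orderOf_eq_one_iff.1 (by rw [ha, h0, pow_zero]))
        have h1 : (v * x * v⁻¹) ^ (2 ^ (a - 1)) = 1 := by
          have h2 : (x ^ (2 : ℤ)) ^ (2 ^ (a - 1)) = 1 := by
            rw [zpow_two, ← sq, ← pow_mul, ← pow_succ', Nat.sub_add_cancel (by omega), ← ha,
              pow_orderOf_eq_one]
          rw [← hk, ← zpow_natCast, ← zpow_mul, mul_assoc, mul_comm j, ← mul_assoc, zpow_mul, zpow_mul,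
            zpow_natCast, h2, one_zpow]
        rw [conj_pow, conj_eq_one_iff] at h1
        have := orderOf_dvd_of_pow_eq_one h1
        rw [ha, Nat.pow_dvd_pow_iff_le_right Nat.one_lt_two] at this
        omega
      exact CfsgLib.Orders.commute_of_pow_commute (hv2.pow_right a)
        (CfsgLib.Orders.commute_pow_of_conj_eq_zpow (ha ▸ pow_orderOf_eq_one x) hk.symm hk2)

end Cfsg.Agent.S4028
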