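import Cfsg.Statements.S4029
import Cfsg.Agent.Lib.Components.RealFreeTwoGroup

set_option autoImplicit false
open Cfsg

namespace Cfsg.Agent.S4029

/-- Let P be a finite 2-group in which N_P(⟨y⟩) = C_P(y) for every y ∈ P. If s is the number of conjugacy classes of involutions of P, then #(P/Φ(P)) ≤ s + 1; in particular the subgroup generated by the involutions of P has order at least #(P/Φ(P)). -/
theorem result {P : Type*} [Group P] [Finite P] (hP : IsPGroup 2 P)
    (hirr : ∀ y : P, Subgroup.normalizer ((Subgroup.zpowers y : Subgroup P) : Set P) ≤ Subgroup.centralizer {y}) :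
    Nat.card (P ⧸ frattini P) ≤ Nat.card {c : ConjClasses P // ∃ y : P, ConjClasses.mk y = c ∧ orderOf y = 2} + 1 ∧
    Nat.card (P ⧸ frattini P) ≤ Nat.card (Subgroup.closure {y : P | orderOf y = 2}) := by
  have h := CfsgLib.RealFree.frattini_index_le hP hirr
  refine ⟨h.trans ?_, h.trans ?_⟩
  · classical
    let e : {c : ConjClasses P // ∃ y : P, ConjClasses.mk y = c ∧ y * y = 1} →
        Option {c : ConjClasses P // ∃ y : P, ConjClasses.mk y = c ∧ orderOf y = 2} := fun c =>
      if h : ∃ y : P, ConjClasses.mk y = c.1 ∧ orderOf y = 2 then some ⟨c.1, h⟩ else none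
    have hkey : ∀ c : {c : ConjClasses P // ∃ y : P, ConjClasses.mk y = c ∧ y * y = 1},
        (¬ ∃ y : P, ConjClasses.mk y = c.1 ∧ orderOf y = 2) → c.1 = ConjClasses.mk 1 := by
      rintro ⟨c, y, hy, hy2⟩ hc
      by_contra hne
      refine hc ⟨y, hy, orderOf_eq_prime (by rw [pow_two, hy2]) ?_⟩
      rintro rfl
      exact hne hy.symm
    have he : Function.Injective e := by
      intro a b hab
      by_cases ha : ∃ y : P, ConjClasses.mk y = a.1 ∧ orderOf y = 2 <;>
        by_cases hb : ∃ y : P, ConjClasses.mk y = b.1 ∧ orderOf y = 2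
      · simp only [e, dif_pos ha, dif_pos hb, Option.some.injEq] at hab
        exact Subtype.ext (congrArg Subtype.val hab :)
      · simp only [e, dif_pos ha, dif_neg hb, reduceCtorEq] at hab
      · simp only [e, dif_neg ha, dif_pos hb, reduceCtorEq] at hab
      · exact Subtype.ext ((hkey a ha).trans (hkey b hb).symm)
    exact (Nat.card_le_card_of_injective e he).trans (le_of_eq Finite.card_option)
  · have hmem : ∀ c : {c : ConjClasses P // ∃ y : P, ConjClasses.mk y = c ∧ y * y = 1},
        c.2.choose ∈ Subgroup.closure {y : P | orderOf y = 2} := by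
      intro c
      by_cases h1 : c.2.choose = 1
      · rw [h1]; exact one_mem _
      · exact Subgroup.subset_closure (orderOf_eq_prime (by rw [pow_two, c.2.choose_spec.2]) h1)
    refine Nat.card_le_card_of_injective
      (fun c => (⟨c.2.choose, hmem c⟩ : Subgroup.closure {y : P | orderOf y = 2})) ?_
    intro a b hab
    have := congrArg (fun x : Subgroup.closure {y : P | orderOf y = 2} => ConjClasses.mk (x : P)) hab
    simp only [a.2.choose_spec.1, b.2.choose_spec.1] at this
    exact Subtype.ext this

end Cfsg.Agent.S4029
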