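import Cfsg.Statements.S4032
import Cfsg.Agent.Lib.Orders.Parts
import Cfsg.Agent.Lib.Orders.DirectFactor
import Cfsg.Agent.Lib.PGroups.Basic

set_option autoImplicit false
open Cfsg
open scoped Pointwise

namespace Cfsg.Agent.S4032

/-- Let π be a set of primes and G a finite group in which N_G(⟨x⟩) = C_G(x) for every π-element x. If N is a normal subgroup of G whose order is divisible by no prime of π, then G/N has the same property: N_{G/N}(⟨y⟩) = C_{G/N}(y) for every π-element y of G/N. -/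
theorem result {G : Type*} [Group G] [Finite G] (π : Set ℕ)
    (hirr : ∀ x : G, (∀ r : ℕ, r.Prime → r ∣ orderOf x → r ∈ π) →
      Subgroup.normalizer ((Subgroup.zpowers x : Subgroup G) : Set G) ≤ Subgroup.centralizer {x})
    (N : Subgroup G) [N.Normal] (hN : ∀ r : ℕ, r.Prime → r ∣ Nat.card N → r ∉ π) :
    ∀ y : G ⧸ N, (∀ r : ℕ, r.Prime → r ∣ orderOf y → r ∈ π) →
      Subgroup.normalizer ((Subgroup.zpowers y : Subgroup (G ⧸ N)) : Set (G ⧸ N)) ≤ Subgroup.centralizer {y} := by
  intro y hy gb hgb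
  obtain ⟨g, rfl⟩ := QuotientGroup.mk'_surjective N gb
  obtain ⟨x0, rfl⟩ := QuotientGroup.mk'_surjective N y
  set π' := QuotientGroup.mk' N
  let d := orderOf (π' x0)
  have hdN : (Nat.card N).Coprime d := Nat.coprime_of_dvd fun r hr h1 h2 => hN r hr h1 (hy r hr h2)
  -- kill the part of `x0` lying in `N`
  have hxN : x0 ^ (d * Nat.card N) = 1 := by
    have h1 : x0 ^ d ∈ N := by
      rw [← QuotientGroup.eq_one_iff]
      show π' (x0 ^ d) = 1
      rw [map_pow, pow_orderOf_eq_one]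
    rw [pow_mul]
    exact orderOf_dvd_iff_pow_eq_one.1 (Subgroup.orderOf_dvd_natCard _ h1)
  obtain ⟨e, he⟩ := exists_pow_eq_self_of_coprime (x := π' x0) hdN
  let x := (x0 ^ Nat.card N) ^ e
  have hπ : π' x = π' x0 := by rw [map_pow, map_pow, he]
  have hxd : x ^ d = 1 := by
    rw [← pow_mul, mul_comm e, pow_mul, ← pow_mul x0, mul_comm (Nat.card N), hxN, one_pow]
  have hxo : orderOf x ∣ d := orderOf_dvd_of_pow_eq_one hxd
  have hxo' : orderOf x = d := Nat.dvd_antisymm hxo (by
    show orderOf (π' x0) ∣ _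
    rw [← hπ]; exact orderOf_map_dvd π' x)
  have hxπ : ∀ r : ℕ, r.Prime → r ∣ orderOf x → r ∈ π := fun r hr hd => hy r hr (hd.trans hxo)
  have hcop : (Nat.card ↥(Subgroup.zpowers x)).Coprime (Nat.card N) := by
    rw [Nat.card_zpowers, hxo']; exact hdN.symm
  obtain ⟨n, hn, hnK⟩ := CfsgLib.Core.exists_conj_eq_of_coprime
    (H := Subgroup.zpowers x) (K := Subgroup.zpowers (g * x * g⁻¹)) (N := N)
    (CfsgLib.Core.le_normalizer_of_normal _ _) (by
      rw [Subgroup.zpowers_le]
      obtain ⟨i, hi⟩ := Subgroup.mem_zpowers_iff.1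
        ((Subgroup.mem_normalizer_iff.1 hgb (π' x0)).1 (Subgroup.mem_zpowers _))
      rw [show g * x * g⁻¹ = x ^ i * ((x ^ i)⁻¹ * (g * x * g⁻¹)) by group]
      refine Subgroup.mul_mem_sup (zpow_mem (Subgroup.mem_zpowers x) i) ?_
      rw [← QuotientGroup.eq_one_iff]
      show π' ((x ^ i)⁻¹ * (g * x * g⁻¹)) = 1
      simp only [map_mul, map_inv, map_zpow, hπ, hi]
      group)
    (by
      rw [Nat.card_zpowers, Nat.card_zpowers]
      exact orderOf_injective (MulAut.conj g).toMonoidHom (MulAut.conj g).injective x)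
    hcop (Or.inr inferInstance)
  have hmem : n⁻¹ * g ∈ Subgroup.normalizer ((Subgroup.zpowers x : Subgroup G) : Set G) := by
    have h2 : MulAut.conj g • Subgroup.zpowers x = Subgroup.zpowers (g * x * g⁻¹) := by
      rw [CfsgLib.Core.conj_smul_eq_map, MonoidHom.map_zpowers]; rfl
    rw [CfsgLib.Core.mem_normalizer_iff_conj_smul_eq, ← CfsgLib.Core.conj_smul_conj_smul, h2, ← hnK,
      CfsgLib.Core.conj_smul_conj_smul, inv_mul_cancel, CfsgLib.Core.conj_one_smul]
  have hc := Subgroup.mem_centralizer_singleton_iff.1 (hirr x hxπ hmem)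
  have hgn : π' (n⁻¹ * g) = π' g := by
    rw [map_mul, map_inv, show π' n = 1 from (QuotientGroup.eq_one_iff _).2 hn, inv_one, one_mul]
  have := congrArg π' hc
  rw [map_mul π' (n⁻¹ * g) x, map_mul π' x (n⁻¹ * g), hgn, hπ] at this
  exact Subgroup.mem_centralizer_singleton_iff.2 this

end Cfsg.Agent.S4032
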