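import Cfsg.Statements.S4036
import Cfsg.Agent.Lib.Orders.Parts
import Cfsg.Agent.Lib.Orders.DirectFactor
import Cfsg.Agent.Lib.PGroups.Basic
import Cfsg.Agent.Lib.PGroups.ClassTwo

set_option autoImplicit false
open Cfsg
open scoped Pointwise commutatorElement

namespace Cfsg.Agent.S4036

/-- Let P be a finite abelian p-group and K a group of automorphisms of P (a subgroup of Aut P) whose order is divisible by p. If all non-identity elements of K have the same fixed-point subgroup on P, then K has no non-trivial normal subgroup of order prime to p. -/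
theorem result {P : Type*} [CommGroup P] [Finite P] {p : ℕ}
    [Fact p.Prime] (hP : IsPGroup p P) (K : Subgroup (MulAut P)) (hK : p ∣ Nat.card K)
    (hfix : ∀ x y : MulAut P, x ∈ K → y ∈ K → x ≠ 1 → y ≠ 1 → ∀ v : P, x v = v ↔ y v = v) :
    ∀ N : Subgroup ↥K, N.Normal → ¬ p ∣ Nat.card N → N = ⊥ := by
  intro N hN hNp
  have hp : p.Prime := Fact.out
  obtain ⟨x, hx⟩ := exists_prime_orderOf_dvd_card' (G := K) p hK
  have hx1 : (x : MulAut P) ≠ 1 := fun h => by
    have : x = 1 := Subtype.ext h
    rw [this, orderOf_one] at hx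
    exact hp.ne_one hx.symm
  haveI := Fintype.ofFinite N
  let ν : P →* P :=
    { toFun := fun v => ∏ n : N, ((n : K) : MulAut P) v
      map_one' := by simp
      map_mul' := fun a b => by simp [Finset.prod_mul_distrib] }
  have hνx : ∀ (y : K) (v : P), ν ((y : MulAut P) v) = (y : MulAut P) (ν v) := by
    intro y v
    show (∏ n : N, ((n : K) : MulAut P) ((y : MulAut P) v)) = (y : MulAut P) (∏ n : N, ((n : K) : MulAut P) v)
    rw [map_prod]
    have := hN
    refine Fintype.prod_equiv (MulAut.conjNormal (H := N) y⁻¹).toEquiv _ _ fun n => ?_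
    show ((n : K) : MulAut P) ((y : MulAut P) v) =
      (y : MulAut P) ((((MulAut.conjNormal (H := N) y⁻¹ n : N) : K) : MulAut P) v)
    rw [MulAut.conjNormal_apply]
    simp [MulAut.mul_apply]
  -- `x` acts on the kernel of `ν`
  let f : Equiv.Perm ν.ker :=
    { toFun := fun v => ⟨(x : MulAut P) v, by rw [MonoidHom.mem_ker, hνx, v.2, map_one]⟩
      invFun := fun v => ⟨((x⁻¹ : K) : MulAut P) v, by rw [MonoidHom.mem_ker, hνx, v.2, map_one]⟩
      left_inv := fun v => Subtype.ext (show ((x⁻¹ : K) : MulAut P) ((x : MulAut P) v) = v by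
        rw [← MulAut.mul_apply, ← Subgroup.coe_mul, inv_mul_cancel]; rfl)
      right_inv := fun v => Subtype.ext (show (x : MulAut P) (((x⁻¹ : K) : MulAut P) v) = v by
        rw [← MulAut.mul_apply, ← Subgroup.coe_mul, mul_inv_cancel]; rfl) }
  have hker : ν.ker = ⊥ := by
    by_contra hne
    have hdvd : p ∣ Nat.card ν.ker := by
      rcases (hP.to_subgroup ν.ker).card_eq_or_dvd with h | h
      · exact absurd (Subgroup.card_eq_one.1 h) hne
      · exact h
    have hfp : IsPGroup p (Subgroup.zpowers f) := by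
      have hfp' : f ^ p = 1 := by
        have key : ∀ (i : ℕ) (v : ν.ker), ((f ^ i) v : P) = ((x ^ i : K) : MulAut P) v := by
          intro i
          induction i with
          | zero => intro v; simp
          | succ i ih =>
            intro v
            rw [pow_succ, Equiv.Perm.mul_apply, ih, pow_succ]
            rfl
        ext v
        rw [key, ← hx, pow_orderOf_eq_one]
        rfl
      obtain ⟨j, -, hj⟩ := (Nat.dvd_prime_pow hp).1 (orderOf_dvd_of_pow_eq_one (by rwa [pow_one] : f ^ p ^ 1 = 1))
      exact IsPGroup.of_card (n := j) (by rw [Nat.card_zpowers, hj])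
    have hmod := hfp.card_modEq_card_fixedPoints ν.ker
    have hone : (1 : ν.ker) ∈ MulAction.fixedPoints (Subgroup.zpowers f) ν.ker := by
      rintro ⟨g, hg⟩
      obtain ⟨i, rfl⟩ := Subgroup.mem_zpowers_iff.1 hg
      show (f ^ i) 1 = 1
      exact Equiv.Perm.zpow_apply_eq_self_of_apply_eq_self (Subtype.ext (map_one (x : MulAut P)) : f 1 = 1) i
    have hfix1 : MulAction.fixedPoints (Subgroup.zpowers f) ν.ker = {1} := by
      refine Set.eq_singleton_iff_unique_mem.2 ⟨hone, fun v hv => ?_⟩
      have hxv : (x : MulAut P) v = v := congrArg Subtype.val (hv ⟨f, Subgroup.mem_zpowers f⟩)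
      have hall : ∀ n : N, ((n : K) : MulAut P) v = v := fun n => by
        by_cases hn : ((n : K) : MulAut P) = 1
        · rw [hn]; rfl
        · exact (hfix _ _ x.2 (n : K).2 hx1 hn _).1 hxv
      have h1 : (v : P) ^ Nat.card N = 1 := by
        calc (v : P) ^ Nat.card N = ν v := by
              show _ = ∏ n : N, ((n : K) : MulAut P) v
              simp only [hall, Finset.prod_const, Finset.card_univ, Nat.card_eq_fintype_card]
          _ = 1 := v.2
      obtain ⟨a, ha⟩ := IsPGroup.iff_orderOf.1 hP (v : P)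
      have h2 := orderOf_dvd_of_pow_eq_one h1
      rw [ha] at h2
      rcases Nat.eq_zero_or_pos a with rfl | hapos
      · exact Subtype.ext (orderOf_eq_one_iff.1 (by rw [ha, pow_zero]))
      · exact absurd ((dvd_pow_self p hapos.ne').trans h2) hNp
    rw [hfix1, Nat.card_coe_set_eq ({1} : Set ν.ker), Set.ncard_singleton] at hmod
    exact hp.not_dvd_one ((Nat.modEq_zero_iff_dvd).1 (hmod.symm.trans (Nat.modEq_zero_iff_dvd.2 hdvd)))
  rw [Subgroup.eq_bot_iff_forall]
  intro n hn
  refine Subtype.ext (MulEquiv.ext fun v => ?_)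
  have h1 : ν ((n : MulAut P) v) = ν v := by
    show (∏ m : N, ((m : K) : MulAut P) ((n : MulAut P) v)) = ∏ m : N, ((m : K) : MulAut P) v
    exact Fintype.prod_equiv (Equiv.mulRight ⟨n, hn⟩) _ _ fun m => rfl
  have h2 := (MonoidHom.ker_eq_bot_iff ν).1 hker h1
  simpa using h2

end Cfsg.Agent.S4036
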