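import Cfsg.Statements.S4039
import Cfsg.Agent.Lib.Orders.NilpotentMaximal

set_option autoImplicit false
open Cfsg
open scoped Pointwise commutatorElement

namespace Cfsg.Agent.S4039

/-- A finite group possessing a maximal subgroup that is nilpotent of class at most 2 is solvable. -/
theorem result {G : Type*} [Group G] [Finite G]
    (M : Subgroup G) (hmax : IsCoatom M) (hnil : Group.IsNilpotent M) (hcl : Group.nilpotencyClass ↥M ≤ 2) :
    Group.IsSolvable G := by
  refine CfsgLib.Orders.isSolvable_of_nilpotent_maximal M hmax hnil (Or.inr fun a ha b hb c hc => ?_)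
  have h2 : (⊤ : Subgroup M).lowerCentralSeries 2 = ⊥ :=
    lowerCentralSeries_eq_bot_iff_nilpotencyClass_le.2 hcl
  have hmem : ⁅⁅(⟨a, ha⟩ : M), (⟨b, hb⟩ : M)⁆, (⟨c, hc⟩ : M)⁆ ∈ (⊤ : Subgroup M).lowerCentralSeries 2 := by
    rw [Subgroup.lowerCentralSeries_succ, Subgroup.lowerCentralSeries_succ]
    exact Subgroup.commutator_mem_commutator
      (Subgroup.commutator_mem_commutator (Subgroup.mem_top _) (Subgroup.mem_top _)) (Subgroup.mem_top _)
  rw [h2, Subgroup.mem_bot] at hmem
  exact congrArg Subtype.val hmem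

end Cfsg.Agent.S4039
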