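import Cfsg.Statements.S4043
import Cfsg.Agent.Lib.Core.SchurZassenhaus
import Cfsg.Agent.Lib.PGroups.Basic

set_option autoImplicit false
open Cfsg
open scoped Pointwise commutatorElement

namespace Cfsg.Agent.S4043

/-- Let G be a finite group that is the semidirect product of a normal p-subgroup N by a subgroup A, and also of N by a subgroup A₁, where p is a prime and A and A₁ both have normal p-complements. If C_N(A) = C_N(A₁) = 1, then A₁ is conjugate to A by an element of N. -/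
theorem result {G : Type*} [Group G] [Finite G] {p : ℕ}
    [Fact p.Prime] (N : Subgroup G) [N.Normal] (hN : IsPGroup p N) (A A₁ : Subgroup G)
    (hA : A.IsComplement' N) (hA₁ : A₁.IsComplement' N)
    (hAp : Cfsg.HasNormalPComplement p A) (hA₁p : Cfsg.HasNormalPComplement p A₁)
    (hC : ∀ n : G, n ∈ N → (∀ a : G, a ∈ A → a * n * a⁻¹ = n) → n = 1)
    (hC₁ : ∀ n : G, n ∈ N → (∀ a : G, a ∈ A₁ → a * n * a⁻¹ = n) → n = 1) :
    ∃ n : G, n ∈ N ∧ A₁ = A.map (MulAut.conj n).toMonoidHom := by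
  obtain ⟨P, Q, hQn, hQP⟩ := hAp
  obtain ⟨P₁, Q₁, hQ₁n, hQ₁P⟩ := hA₁p
  set Q0 := Q.map A.subtype with hQ0
  set Q0' := Q₁.map A₁.subtype with hQ0'
  have hQ0c : Nat.card Q0 = Nat.card Q := Subgroup.card_map_of_injective A.subtype_injective
  have hQ0c' : Nat.card Q0' = Nat.card Q₁ := Subgroup.card_map_of_injective A₁.subtype_injective
  have hcop : ∀ {B : Subgroup G} (R : Sylow p B) (T : Subgroup B), T.IsComplement' (R : Subgroup B) →
      (Nat.card T).Coprime p := fun {B} R T h => by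
    rw [← h.index_eq_card]
    exact ((Fact.out : p.Prime).coprime_iff_not_dvd.2 R.not_dvd_index).symm
  have hcopN : ∀ {k : ℕ}, k.Coprime p → k.Coprime (Nat.card N) := fun {k} hk => by
    obtain ⟨j, hj⟩ := IsPGroup.iff_card.1 hN
    rw [hj]; exact hk.pow_right j
  have hAA : Nat.card A₁ = Nat.card A := by
    rw [← hA₁.index_eq_card, ← hA.index_eq_card]
  -- elements of order prime to `p` lie in `Q0 ⊔ N`
  have hle : Q0' ≤ Q0 ⊔ N := by
    rintro _ ⟨x, hx, rfl⟩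
    obtain ⟨⟨a, n⟩, han⟩ := hA.2 (A₁.subtype x)
    obtain ⟨j, hj⟩ := P.isPGroup'.exists_card_eq
    have hidx : Q.index = p ^ j := by rw [hQP.symm.index_eq_card, hj]
    have h1 : ((a : G)) ^ p ^ j ∈ Q0 := by
      refine ⟨a ^ p ^ j, ?_, rfl⟩
      rw [← hidx]; exact Q.pow_index_mem a
    let π : G →* G ⧸ N := QuotientGroup.mk' N
    have h2 : π (A₁.subtype x) = π a := by
      rw [← han]; show π ((a : G) * (n : G)) = _
      rw [map_mul, show π (n : G) = 1 from (QuotientGroup.eq_one_iff _).2 n.2, mul_one]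
    have hxo : (orderOf x).Coprime (p ^ j) := by
      refine (Nat.Coprime.coprime_dvd_left ?_ (hcop P₁ Q₁ hQ₁P)).pow_right j
      exact Subgroup.orderOf_dvd_natCard Q₁ hx
    obtain ⟨m, hm⟩ := exists_pow_eq_self_of_coprime (x := x) hxo.symm
    have h3 : A₁.subtype x ^ p ^ j ∈ Q0 ⊔ N := by
      have h4 : π (A₁.subtype x ^ p ^ j) = π ((a : G) ^ p ^ j) := by rw [map_pow, map_pow, h2]
      obtain ⟨n', hn', e⟩ : ∃ n' ∈ N, (a : G) ^ p ^ j * n' = A₁.subtype x ^ p ^ j :=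
        ⟨((a : G) ^ p ^ j)⁻¹ * A₁.subtype x ^ p ^ j, QuotientGroup.eq.1 h4.symm, by group⟩
      rw [← e]; exact Subgroup.mul_mem_sup h1 hn'
    rw [← hm, map_pow, map_pow]
    exact pow_mem h3 m
  have hcards : Nat.card Q0' = Nat.card Q0 := by
    obtain ⟨j, hj⟩ := P.isPGroup'.exists_card_eq
    obtain ⟨j₁, hj₁⟩ := P₁.isPGroup'.exists_card_eq
    have e := hQP.card_mul
    have e₁ := hQ₁P.card_mul
    rw [hQ0c, hQ0c']
    rw [hj] at e; rw [hj₁, hAA, ← e] at e₁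
    refine Nat.dvd_antisymm ?_ ?_
    · exact ((hcop P₁ Q₁ hQ₁P).pow_right j).dvd_of_dvd_mul_right ⟨p ^ j₁, e₁.symm⟩
    · exact ((hcop P Q hQP).pow_right j₁).dvd_of_dvd_mul_right ⟨p ^ j, e₁⟩
  have hNsol : Group.IsSolvable N := by
    have := hN.isNilpotent
    infer_instance
  obtain ⟨n, hn, hnQ⟩ := CfsgLib.Core.exists_conj_eq_of_coprime (N := N) (H := Q0) (K := Q0')
    (by rw [Subgroup.normalizer_eq_top N]; exact le_top) hle hcards
    (hcopN (hQ0c ▸ hcop P Q hQP)) (Or.inl hNsol)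
  -- `N` meets the centraliser of `Q0'` trivially
  have hnorm : ∀ b ∈ A₁, ∀ q ∈ Q0', b * q * b⁻¹ ∈ Q0' := by
    rintro b hb _ ⟨q, hq, rfl⟩
    exact ⟨_, hQ₁n.conj_mem q hq ⟨b, hb⟩, rfl⟩
  let D := N ⊓ Subgroup.centralizer (Q0' : Set G)
  have hD : D = ⊥ := by
    by_contra hne
    let R := (P₁ : Subgroup A₁).map A₁.subtype
    have hR : IsPGroup p R := P₁.isPGroup'.map _
    have hDp : IsPGroup p D := hN.to_le inf_le_left
    have hDn : ∀ b ∈ A₁, ∀ d ∈ D, b * d * b⁻¹ ∈ D := by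
      intro b hb d hd
      refine ⟨(inferInstance : N.Normal).conj_mem _ hd.1 b, Subgroup.mem_centralizer_iff.2 fun q hq => ?_⟩
      have h1 := Subgroup.mem_centralizer_iff.1 hd.2 _ (hnorm b⁻¹ (inv_mem hb) q hq)
      calc q * (b * d * b⁻¹) = b * ((b⁻¹ * q * b⁻¹⁻¹) * d) * b⁻¹ := by group
        _ = b * (d * (b⁻¹ * q * b⁻¹⁻¹)) * b⁻¹ := by rw [h1]
        _ = b * d * b⁻¹ * q := by group
    have hRA : R ≤ A₁ := Subgroup.map_subtype_le _
    have hRD : R ≤ Subgroup.normalizer (D : Set G) := fun r hr => by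
      rw [Subgroup.mem_normalizer_iff]
      refine fun d => ⟨hDn r (hRA hr) d, fun h => ?_⟩
      have h1 := hDn r⁻¹ (inv_mem (hRA hr)) _ h
      rwa [show r⁻¹ * (r * d * r⁻¹) * r⁻¹⁻¹ = d by group] at h1
    let K := R ⊔ D
    have hK : IsPGroup p K := hR.to_sup_of_normal_right' hDp hRD
    have hDK : (D.subgroupOf K).Normal :=
      Subgroup.normal_subgroupOf_of_le_normalizer (sup_le hRD Subgroup.le_normalizer)
    have hDne : D.subgroupOf K ≠ ⊥ := by
      rw [Ne, Subgroup.subgroupOf_eq_bot, disjoint_iff, inf_eq_left.2 le_sup_right]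
      exact hne
    obtain ⟨⟨d, hdD, hdc⟩, hd1⟩ := (Subgroup.ne_bot_iff_exists_ne_one).1
      (CfsgLib.PGroups.inf_center_ne_bot hK hDne)
    refine hd1 (Subtype.ext (Subtype.ext (hC₁ _ (Subgroup.mem_subgroupOf.1 hdD).1 fun b hb => ?_)))
    have hmem : (⟨b, hb⟩ : A₁) ∈ Subgroup.comap A₁.subtype (Subgroup.centralizer {(d : G)}) := by
      have htop : Q₁ ⊔ (P₁ : Subgroup A₁) = ⊤ := hQ₁P.sup_eq_top
      refine (show Q₁ ⊔ (P₁ : Subgroup A₁) ≤ _ from sup_le ?_ ?_) (htop ▸ Subgroup.mem_top _)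
      · intro q hq
        exact Subgroup.mem_centralizer_singleton_iff.2
          (Subgroup.mem_centralizer_iff.1 (Subgroup.mem_subgroupOf.1 hdD).2 _ ⟨q, hq, rfl⟩)
      · intro r hr
        exact Subgroup.mem_centralizer_singleton_iff.2 (congrArg Subtype.val
          (Subgroup.mem_center_iff.1 hdc ⟨(r : G), Subgroup.mem_sup_left ⟨r, hr, rfl⟩⟩))
    have h := Subgroup.mem_centralizer_singleton_iff.1 hmem
    show b * (d : G) * b⁻¹ = d
    rw [show b * (d : G) = (d : G) * b from h, mul_inv_cancel_right]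
  refine ⟨n, hn, (Subgroup.eq_of_le_of_card_ge ?_ ?_).symm⟩
  · rintro _ ⟨a, ha, rfl⟩
    obtain ⟨⟨a₁, m⟩, ham⟩ := hA₁.2 ((MulAut.conj n).toMonoidHom a)
    have hx : ∀ q ∈ Q0', (MulAut.conj n a) * q * (MulAut.conj n a)⁻¹ ∈ Q0' := by
      intro q hq
      rw [← hnQ] at hq ⊢
      obtain ⟨q0, hq0, rfl⟩ := hq
      obtain ⟨q1, hq1, rfl⟩ := hq0
      refine ⟨a * (q1 : G) * a⁻¹, ⟨_, hQn.conj_mem q1 hq1 ⟨a, ha⟩, rfl⟩, ?_⟩
      show MulAut.conj n (a * q1 * a⁻¹) = MulAut.conj n a * MulAut.conj n q1 * (MulAut.conj n a)⁻¹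
      simp only [map_mul, map_inv]
    have ham' : (MulAut.conj n a) = (a₁ : G) * (m : G) := ham.symm
    have hm : (m : G) = 1 := by
      rw [← Subgroup.mem_bot, ← hD]
      refine ⟨m.2, Subgroup.mem_centralizer_iff.2 fun q hq => ?_⟩
      have h1 : (m : G) * q * (m : G)⁻¹ ∈ Q0' := by
        have h2 := hnorm _ (inv_mem a₁.2) _ (hx q hq)
        rwa [ham', show (a₁ : G)⁻¹ * ((a₁ : G) * m * q * ((a₁ : G) * m)⁻¹) * ((a₁ : G)⁻¹)⁻¹ = (m : G) * q * (m : G)⁻¹ by group] at h2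
      have h3 : (m : G) * q * (m : G)⁻¹ * q⁻¹ ∈ N := by
        have := mul_mem m.2 ((inferInstance : N.Normal).conj_mem _ (inv_mem m.2) q)
        convert this using 1
        group
      have h4 : (m : G) * q * (m : G)⁻¹ * q⁻¹ ∈ A₁ :=
        Subgroup.map_subtype_le _ (mul_mem h1 (inv_mem hq))
      have h5 : (m : G) * q * (m : G)⁻¹ * q⁻¹ = 1 :=
        Subgroup.mem_bot.1 (hA₁.disjoint.le_bot ⟨h4, h3⟩)
      exact (mul_inv_eq_iff_eq_mul.1 (mul_inv_eq_one.1 h5)).symm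
    show MulAut.conj n a ∈ A₁
    rw [ham', hm, mul_one]
    exact a₁.2
  · rw [hAA, Subgroup.card_map_of_injective (MulAut.conj n).injective]

end Cfsg.Agent.S4043
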