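import Cfsg.Statements.S4049
import Cfsg.Agent.Lib.Orders.NoInversion

set_option autoImplicit false
open Cfsg
open scoped Pointwise commutatorElement

namespace Cfsg.Agent.S4049

/-- Let G be a finite group such that N_G(H)/C_G(H) has odd order for every nontrivial subgroup H of odd order. Then the Sylow 2-subgroups of G are normal. -/
theorem result {G : Type*} [Group G] [Finite G]
    (hhom : ∀ H : Subgroup G, H ≠ ⊥ → ¬ 2 ∣ Nat.card ↥H →
        ¬ 2 ∣ (Subgroup.centralizer (H : Set G)).relIndex (Subgroup.normalizer (H : Set G))) (P : Sylow 2 G) :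
    (P : Subgroup G).Normal := by
  refine CfsgLib.Orders.normal_sylow_two_of_noInversion (fun x g hx hg => ?_) P
  by_contra hx1
  set H := Subgroup.zpowers x
  set N := Subgroup.normalizer (H : Set G)
  set C := Subgroup.centralizer (H : Set G)
  have hN : g ∈ N := by
    rw [CfsgLib.Core.mem_normalizer_iff_conj_smul_eq, CfsgLib.Core.conj_smul_eq_map,
      MonoidHom.map_zpowers]
    simp only [MulEquiv.coe_toMonoidHom, MulAut.conj_apply, hg, Subgroup.zpowers_inv, H]
  have hodd : Odd (C.relIndex N) := Nat.not_even_iff_odd.1 fun he =>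
    hhom H (by simpa [H] using hx1)
      (by rw [Nat.card_zpowers]; exact fun hd => Nat.not_even_iff_odd.2 hx (even_iff_two_dvd.2 hd))
      (even_iff_two_dvd.1 he)
  have hCn : (C.subgroupOf N).Normal := by
    refine ⟨fun c hc n => ?_⟩
    rw [Subgroup.mem_subgroupOf] at hc ⊢
    rw [Subgroup.mem_centralizer_iff] at hc ⊢
    intro h hh
    have h1 := hc _ ((Subgroup.mem_normalizer_iff''.1 n.2 h).1 hh)
    simp only [Subgroup.coe_mul, InvMemClass.coe_inv]
    calc h * ((n : G) * c * (n : G)⁻¹) = (n : G) * (((n : G)⁻¹ * h * n) * c) * (n : G)⁻¹ := by group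
      _ = (n : G) * c * (n : G)⁻¹ * h := by rw [h1]; group
  have h2 : g ^ 2 ∈ C := by
    refine Subgroup.centralizer_le (s := (H : Set G)) (t := (H : Set G)) subset_rfl ?_
    rw [Subgroup.mem_centralizer_iff]
    intro h hh
    obtain ⟨i, rfl⟩ := Subgroup.mem_zpowers_iff.1 hh
    have hc : Commute x (g ^ 2) := by
      show x * g ^ 2 = g ^ 2 * x
      have h5 : g * x⁻¹ * g⁻¹ = x := by
        have := congrArg (·⁻¹) hg
        simpa [mul_assoc] using this
      calc x * g ^ 2 = g * (g * x * g⁻¹) * g⁻¹ * g ^ 2 := by rw [hg, h5]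
        _ = g ^ 2 * x := by rw [sq]; group
    exact hc.zpow_left i
  have h3 : g ^ C.relIndex N ∈ C := by
    have := Subgroup.pow_index_mem (C.subgroupOf N) ⟨g, hN⟩
    simpa [Subgroup.mem_subgroupOf, Subgroup.relIndex] using this
  obtain ⟨k, hk⟩ := hodd
  have h4 : g ∈ C := by
    rw [hk, pow_succ, pow_mul] at h3
    exact (Subgroup.mul_mem_cancel_left _ (pow_mem h2 k)).1 h3
  have h5 : x * g = g * x := Subgroup.mem_centralizer_iff.1 h4 x (Subgroup.mem_zpowers x)
  have h6 : x⁻¹ = x := by rw [← hg, ← h5, mul_inv_cancel_right]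
  have h7 : orderOf x ∣ 2 := orderOf_dvd_of_pow_eq_one (by rw [sq]; nth_rewrite 1 [← h6]; exact inv_mul_cancel x)
  rcases (Nat.dvd_prime Nat.prime_two).1 h7 with h | h
  · exact hx1 (orderOf_eq_one_iff.1 h)
  · exact absurd hx (h ▸ by decide)

end Cfsg.Agent.S4049
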