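import Cfsg.Statements.S4056
import Cfsg.Agent.Lib.Orders.Parts
import Cfsg.Agent.Lib.Orders.DirectFactor
import Cfsg.Agent.Lib.PGroups.Basic
import Cfsg.Agent.Lib.PGroups.ClassTwo

set_option autoImplicit false
open Cfsg
open scoped Pointwise commutatorElement

namespace Cfsg.Agent.S4056

/-- In a finite 2-group of nilpotency class at most 2 and exponent dividing 4, the Frattini subgroup lies in the centre and is elementary abelian. -/
theorem result {P : Type*} [Group P] [Finite P] (hP : IsPGroup 2 P)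
    (hcl : Group.nilpotencyClass P ≤ 2) (hexp : Monoid.exponent P ∣ 4) :
    frattini P ≤ Subgroup.center P ∧ Cfsg.IsElementaryAbelian 2 (frattini P) := by
  haveI : Fact (Nat.Prime 2) := ⟨Nat.prime_two⟩
  haveI : Group.IsNilpotent P := hP.isNilpotent
  have h4 : ∀ x : P, x ^ 4 = 1 := fun x =>
    orderOf_dvd_iff_pow_eq_one.1 ((Monoid.order_dvd_exponent x).trans hexp)
  have hcen : commutator P ≤ Subgroup.center P := by
    have h2 : Subgroup.upperCentralSeries P 2 = ⊤ :=
      Subgroup.upperCentralSeries_eq_top_iff_nilpotencyClass_le.2 hcl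
    rw [commutator_def, Subgroup.commutator_le]
    intro x _ y _
    have h3 : x ∈ Subgroup.upperCentralSeries P 2 := h2 ▸ Subgroup.mem_top x
    have h5 := Subgroup.mem_upperCentralSeries_succ_iff.1 h3 y
    rwa [Subgroup.upperCentralSeries_one] at h5
  have hc2 : ∀ x y : P, ⁅y, x⁆ ^ 2 = 1 := fun x y => by
    have hz : ⁅y, x⁆ ∈ Subgroup.center P :=
      hcen (Subgroup.commutator_mem_commutator (Subgroup.mem_top _) (Subgroup.mem_top _))
    have h6 := CfsgLib.PGroups.mul_pow_of_central hz 4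
    rw [h4, h4, h4] at h6
    norm_num at h6
    calc ⁅y, x⁆ ^ 2 = ⁅y, x⁆ ^ 2 * ⁅y, x⁆ ^ 4 := by rw [h4, mul_one]
      _ = 1 := by rw [← pow_add]; exact h6.symm
  let T : Subgroup P :=
    { carrier := {z | z ∈ Subgroup.center P ∧ z ^ 2 = 1}
      one_mem' := ⟨one_mem _, one_pow 2⟩
      mul_mem' := fun {a b} ha hb => ⟨mul_mem ha.1 hb.1, by
        rw [(show Commute a b from Subgroup.mem_center_iff.1 hb.1 a).mul_pow, ha.2, hb.2, one_mul]⟩
      inv_mem' := fun {a} ha => ⟨inv_mem ha.1, by rw [inv_pow, ha.2, inv_one]⟩ }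
  have hTn : T.Normal := ⟨fun z hz g => by
    rw [Subgroup.mem_center_iff.1 hz.1 g, mul_inv_cancel_right]; exact hz⟩
  have hle : frattini P ≤ T := by
    refine CfsgLib.PGroups.frattini_le_of_elementary (p := 2) ?_ ?_
    · rw [commutator_def, Subgroup.commutator_le]
      exact fun x _ y _ => ⟨hcen (Subgroup.commutator_mem_commutator (Subgroup.mem_top _)
        (Subgroup.mem_top _)), hc2 y x⟩
    · intro x
      refine ⟨Subgroup.mem_center_iff.2 fun y => ?_, by rw [← pow_mul]; exact h4 x⟩
      have h7 : ⁅x ^ 2, y⁆ = 1 := by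
        rw [CfsgLib.PGroups.comm_pow_left_of_central
          (hcen (Subgroup.commutator_mem_commutator (Subgroup.mem_top _) (Subgroup.mem_top _)))]
        exact hc2 y x
      exact (commutatorElement_eq_one_iff_mul_comm.1 h7).symm
  exact ⟨hle.trans fun z hz => hz.1, ⟨⟨fun a b => Subtype.ext (Subgroup.mem_center_iff.1 (hle b.2).1 a.1)⟩⟩,
    fun a ha => (hle ha).2⟩

end Cfsg.Agent.S4056
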