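import Cfsg.Statements.S4057
import Cfsg.Agent.Lib.PGroups.UnipotentRank

set_option autoImplicit false
open Cfsg
open scoped Pointwise commutatorElement

namespace Cfsg.Agent.S4057

/-- Let p be an odd prime and P a finite p-group in which every normal abelian subgroup can be generated by k elements. Then every subgroup of P can be generated by at most ⌊k(k+4)/4⌋ elements. -/
theorem result {P : Type*} [Group P] [Finite P] {p : ℕ} [Fact p.Prime]
    (hp : p ≠ 2) (hP : IsPGroup p P) (k : ℕ)
    (hab : ∀ A : Subgroup P, A.Normal → IsMulCommutative A → ∃ S : Finset P, S.card ≤ k ∧ Subgroup.closure (S : Set P) = A) :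
    ∀ H : Subgroup P, ∃ S : Finset P, S.card ≤ k * (k + 4) / 4 ∧ Subgroup.closure (S : Set P) = H := by
  classical
  have hodd : Odd p := (Fact.out : p.Prime).odd_of_ne_two hp
  obtain ⟨A, hAn, hAc, hAe, hAC⟩ := CfsgLib.PGroups.PCentral.exists_normal_elementary hodd hP
  haveI := hAn; haveI := hAc
  obtain ⟨r, φ, hcard, hu, hker⟩ := CfsgLib.PGroups.UnipotentRank.exists_rep hP A hAe
  have hrk : r ≤ k := by
    obtain ⟨S, hS, hcl⟩ := hab A hAn hAc
    letI : CommGroup A := { (inferInstance : Group A) with mul_comm := fun x y => mul_comm' x y }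
    have hsm : ∀ x : Additive A, p • x = 0 := fun x => Additive.toMul.injective (Subtype.ext (by
      show ((Additive.toMul x : A) : P) ^ p = 1
      exact hAe _ (Additive.toMul x).2))
    haveI : Module (ZMod p) (Additive A) := AddCommGroup.zmodModule hsm
    have hmem : ∀ s : S, (s : P) ∈ A := fun s => hcl.le (Subgroup.subset_closure s.2)
    set ψ : (S → ZMod p) →ₗ[ZMod p] Additive A :=
      Fintype.linearCombination (ZMod p) (fun i => Additive.ofMul (⟨i.1, hmem i⟩ : A))
    have hsurj : Function.Surjective ψ := by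
      let R : Subgroup P :=
        { carrier := {x | ∃ v, ((Additive.toMul (ψ v) : A) : P) = x}
          one_mem' := ⟨0, by simp⟩
          mul_mem' := by rintro _ _ ⟨v, rfl⟩ ⟨w, rfl⟩; exact ⟨v + w, by simp⟩
          inv_mem' := by rintro _ ⟨v, rfl⟩; exact ⟨-v, by simp⟩ }
      intro x
      have hx : ((Additive.toMul x : A) : P) ∈ R := (hcl ▸ (Subgroup.closure_le R).2 fun s hs =>
        ⟨Pi.single ⟨s, hs⟩ 1, by simp [ψ, Fintype.linearCombination_apply_single]⟩ : A ≤ R) (Additive.toMul x).2
      obtain ⟨v, hv⟩ := hx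
      exact ⟨v, Additive.toMul.injective (Subtype.ext hv)⟩
    have h1 := Nat.card_le_card_of_surjective _ hsurj
    have h2 : Nat.card (S → ZMod p) = p ^ S.card := by simp [Nat.card_zmod]
    change Nat.card A ≤ _ at h1
    rw [hcard, h2] at h1
    exact ((Nat.pow_le_pow_iff_right (Fact.out : p.Prime).one_lt).1 h1).trans hS
  intro H
  obtain ⟨S₁, hS₁H, hS₁card, hS₁⟩ := CfsgLib.PGroups.UnipotentRank.exists_generators_mod hu H
  set X := H ⊓ Subgroup.centralizer (A : Set P)
  have hcen : ∀ x : X, x ^ p = 1 → x ∈ Subgroup.center X := fun x hx => Subgroup.mem_center_iff.2 fun y =>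
    Subtype.ext ((Subgroup.mem_centralizer_iff.1 y.2.2 x (hAC x x.2.2 (congrArg Subtype.val hx))).symm)
  obtain ⟨S₂, hS₂, hS₂card⟩ := CfsgLib.PGroups.PCentral.exists_generators hodd X (hP.to_subgroup X) hcen
  have hS₂r : S₂.card ≤ r := by
    refine (Nat.pow_le_pow_iff_right (Fact.out : p.Prime).one_lt).1 (hS₂card.trans ?_)
    rw [← hcard]
    refine Nat.card_le_card_of_injective
      (fun x => (⟨x.1.1, hAC _ x.1.2.2 (congrArg Subtype.val x.2)⟩ : A)) fun x y h => ?_
    exact Subtype.ext (Subtype.ext (congrArg (fun t : A => (t : P)) h))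
  refine ⟨S₁ ∪ S₂.image X.subtype, ?_, le_antisymm ?_ ?_⟩
  · refine (Finset.card_union_le _ _).trans ((Nat.le_div_iff_mul_le (by norm_num)).2 ?_)
    have h3 : (S₂.image X.subtype).card ≤ r := Finset.card_image_le.trans hS₂r
    have h4 : r * r ≤ k * k := Nat.mul_le_mul hrk hrk
    ring_nf at *
    omega
  · rw [Subgroup.closure_le, Finset.coe_union, Finset.coe_image, Set.union_subset_iff]
    refine ⟨hS₁H, ?_⟩
    rintro _ ⟨x, -, rfl⟩
    exact x.2.1
  · intro h hh
    obtain ⟨s, hs, hse⟩ := hS₁ h hh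
    have hsH : s ∈ H := (Subgroup.closure_le H).2 hS₁H hs
    have hX : s⁻¹ * h ∈ X := ⟨H.mul_mem (H.inv_mem hsH) hh, hker _ hse⟩
    have h2 : X ≤ Subgroup.closure ((S₁ ∪ S₂.image X.subtype : Finset P) : Set P) := by
      calc X = (⊤ : Subgroup X).map X.subtype := by rw [← MonoidHom.range_eq_map, X.range_subtype]
        _ = Subgroup.closure (X.subtype '' (S₂ : Set X)) := by rw [← hS₂, MonoidHom.map_closure]
        _ ≤ _ := Subgroup.closure_mono (by simp)
    have h1 : s ∈ Subgroup.closure ((S₁ ∪ S₂.image X.subtype : Finset P) : Set P) :=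
      Subgroup.closure_mono (by simp) hs
    simpa using mul_mem h1 (h2 hX)

end Cfsg.Agent.S4057
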