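import Cfsg.Statements.S4059
import Cfsg.Agent.Lib.Orders.Parts
import Cfsg.Agent.Lib.Orders.DirectFactor
import Cfsg.Agent.Lib.PGroups.Basic
import Cfsg.Agent.Lib.PGroups.ClassTwo

set_option autoImplicit false
open Cfsg
open scoped Pointwise commutatorElement

namespace Cfsg.Agent.S4059

/-- Let G be a finite group in which every element is conjugate to its inverse. Then: every non-identity element commuting with all elements of some Sylow 2-subgroup is an involution; the centre of G is an elementary abelian 2-group; the commutator quotient G/G' is an elementary abelian 2-group; and G is generated by its 2-elements. -/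
theorem result {G : Type*} [Group G] [Finite G] (hamb : ∀ x : G, IsConj x x⁻¹) :
    (∀ (S : Sylow 2 G) (x : G), x ∈ Subgroup.centralizer ((S : Subgroup G) : Set G) → x ≠ 1 → orderOf x = 2) ∧
    (∀ z : G, z ∈ Subgroup.center G → z ^ 2 = 1) ∧
    (∀ x : G, x ^ 2 ∈ commutator G) ∧
    Subgroup.closure {x : G | ∃ k : ℕ, orderOf x = 2 ^ k} = ⊤ := by
  haveI : Fact (Nat.Prime 2) := ⟨Nat.prime_two⟩
  have hgen : ∀ x : G, ∃ g, (∃ k, orderOf g = 2 ^ k) ∧ g * x * g⁻¹ = x⁻¹ := fun x => by
    obtain ⟨g, hg⟩ := isConj_iff.1 (hamb x)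
    obtain ⟨u, v, -, hv, rfl, huv, hu2, hvo⟩ := CfsgLib.Orders.exists_split Nat.prime_two g
    refine ⟨u, hu2, ?_⟩
    have hg2 : Commute ((u * v) ^ 2) x := by
      have h2 : (u * v) * (u * v) * x * ((u * v) * (u * v))⁻¹ = x := by
        calc (u * v) * (u * v) * x * ((u * v) * (u * v))⁻¹
            = (u * v) * ((u * v) * x * (u * v)⁻¹) * (u * v)⁻¹ := by group
          _ = (u * v) * x⁻¹ * (u * v)⁻¹ := by rw [hg]
          _ = ((u * v) * x * (u * v)⁻¹)⁻¹ := by group
          _ = x := by rw [hg, inv_inv]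
      rw [sq]
      exact mul_inv_eq_iff_eq_mul.1 h2
    have hv2 : Commute v x := by
      obtain ⟨i, hi⟩ := Subgroup.mem_zpowers_iff.1 hv
      have h3 : Commute (v ^ 2) x := by
        rw [← hi, ← zpow_natCast, ← zpow_mul, mul_comm, zpow_mul, zpow_natCast]
        exact hg2.zpow_left i
      exact CfsgLib.Orders.commute_of_pow_commute hvo h3
    calc u * x * u⁻¹ = u * (v * x * v⁻¹) * u⁻¹ := by rw [hv2.eq, mul_inv_cancel_right]
      _ = u * v * x * (u * v)⁻¹ := by group
      _ = x⁻¹ := hg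
  refine ⟨fun S x hx hx1 => ?_, fun z hz => ?_, fun x => ?_, ?_⟩
  · -- the centralizer of a Sylow subgroup
    obtain ⟨g, hg⟩ := isConj_iff.1 (hamb x)
    let C := Subgroup.centralizer ({x} : Set G)
    have hSC : (S : Subgroup G) ≤ C := fun s hs =>
      Subgroup.mem_centralizer_singleton_iff.2 (Subgroup.mem_centralizer_iff.1 hx s hs)
    have hSgC : ((g • S : Sylow 2 G) : Subgroup G) ≤ C := by
      rw [Sylow.coe_subgroup_smul]
      intro t ht
      obtain ⟨s, hs, rfl⟩ := (Subgroup.mem_smul_pointwise_iff_exists _ _ _).1 ht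
      rw [Subgroup.mem_centralizer_singleton_iff]
      show g * s * g⁻¹ * x = x * (g * s * g⁻¹)
      have hs' : Commute s x := Subgroup.mem_centralizer_singleton_iff.1 (hSC hs)
      have h1 : x = g * x⁻¹ * g⁻¹ := by
        calc x = (g * x * g⁻¹)⁻¹ := by rw [hg, inv_inv]
          _ = _ := by group
      calc g * s * g⁻¹ * x = g * s * g⁻¹ * (g * x⁻¹ * g⁻¹) := by rw [← h1]
        _ = g * (s * x⁻¹) * g⁻¹ := by group
        _ = g * (x⁻¹ * s) * g⁻¹ := by rw [hs'.inv_right.eq]
        _ = (g * x⁻¹ * g⁻¹) * (g * s * g⁻¹) := by group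
        _ = _ := by rw [← h1]
    obtain ⟨c, hc⟩ := MulAction.exists_smul_eq ↥C ((g • S).subtype hSgC) (S.subtype hSC)
    have hn : ((c : G) * g) ∈ Subgroup.normalizer ((S : Subgroup G) : Set G) := by
      refine Sylow.smul_eq_iff_mem_normalizer.1 ?_
      rw [mul_smul]
      have h1 := congrArg (fun T : Sylow 2 C => (T : Subgroup C).map C.subtype) hc
      apply Sylow.ext
      simp only [Sylow.coe_subgroup_smul, Sylow.coe_subtype] at h1 ⊢
      rw [Subgroup.subgroupOf_map_subtype, inf_of_le_left hSC] at h1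
      refine Eq.trans ?_ h1
      ext t
      constructor
      · intro ht
        obtain ⟨w, hw, rfl⟩ := (Subgroup.mem_smul_pointwise_iff_exists _ _ _).1 ht
        have hwC : w ∈ C := hSgC (by rw [Sylow.coe_subgroup_smul]; exact hw)
        exact ⟨c * ⟨w, hwC⟩ * c⁻¹, Subgroup.smul_mem_pointwise_smul (⟨w, hwC⟩ : C) (MulAut.conj c) _
          (Subgroup.mem_subgroupOf.2 hw), rfl⟩
      · rintro ⟨w, hw, rfl⟩
        obtain ⟨w', hw', rfl⟩ := (Subgroup.mem_smul_pointwise_iff_exists _ _ _).1 hw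
        exact Subgroup.smul_mem_pointwise_smul (w' : G) (MulAut.conj (c : G)) _
          (Subgroup.mem_subgroupOf.1 hw')
    set n := (c : G) * g
    have hnx : n * x * n⁻¹ = x⁻¹ := by
      have hc' : Commute (c : G) x := Subgroup.mem_centralizer_singleton_iff.1 c.2
      calc n * x * n⁻¹ = c * (g * x * g⁻¹) * (c : G)⁻¹ := by simp only [n]; group
        _ = x⁻¹ := by rw [hg, hc'.inv_right.eq, mul_inv_cancel_right]
    obtain ⟨u, v, hu, hv, huv', huv, ⟨b, hb⟩, hvo⟩ := CfsgLib.Orders.exists_split Nat.prime_two n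
    have huS : u ∈ (S : Subgroup G) := by
      have hH : IsPGroup 2 (Subgroup.zpowers u ⊔ (S : Subgroup G) : Subgroup G) :=
        IsPGroup.to_sup_of_normal_right' (CfsgLib.HallGen.isPGroup_zpowers hb) S.isPGroup'
          (Subgroup.zpowers_le.2 (Subgroup.zpowers_le.2 hn hu))
      rw [← S.is_maximal' hH le_sup_right]
      exact Subgroup.mem_sup_left (Subgroup.mem_zpowers u)
    have hux : Commute u x := Subgroup.mem_centralizer_singleton_iff.1 (hSC huS)
    have hvx : v * x * v⁻¹ = x⁻¹ := by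
      rw [← hnx, huv', huv.eq]
      calc v * x * v⁻¹ = v * (u * x * u⁻¹) * v⁻¹ := by rw [hux.eq, mul_inv_cancel_right]
        _ = v * u * x * (v * u)⁻¹ := by group
    have hv2 : Commute (v ^ 2) x := by
      have : v * v * x * (v * v)⁻¹ = x := by
        calc v * v * x * (v * v)⁻¹ = v * (v * x * v⁻¹) * v⁻¹ := by group
          _ = v * x⁻¹ * v⁻¹ := by rw [hvx]
          _ = (v * x * v⁻¹)⁻¹ := by group
          _ = x := by rw [hvx, inv_inv]
      rw [sq]
      exact mul_inv_eq_iff_eq_mul.1 this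
    have hvc := CfsgLib.Orders.commute_of_pow_commute hvo hv2
    rw [hvc.eq, mul_inv_cancel_right] at hvx
    exact orderOf_eq_prime (by rw [sq]; nth_rewrite 1 [hvx]; exact inv_mul_cancel x) hx1
  · obtain ⟨g, hg⟩ := isConj_iff.1 (hamb z)
    rw [Subgroup.mem_center_iff.1 hz g, mul_inv_cancel_right] at hg
    rw [sq]; nth_rewrite 1 [hg]; exact inv_mul_cancel z
  · obtain ⟨g, -, hg⟩ := hgen x
    have : x ^ 2 = ⁅x, g⁆ := by
      rw [commutatorElement_def, show x * g * x⁻¹ * g⁻¹ = x * (g * x * g⁻¹)⁻¹ by group, hg, inv_inv, sq]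
    rw [this]
    exact Subgroup.commutator_mem_commutator (Subgroup.mem_top _) (Subgroup.mem_top _)
  · set N := Subgroup.closure {x : G | ∃ k : ℕ, orderOf x = 2 ^ k}
    have hNn : N.Normal := ⟨fun n hn g => by
      have h1 : (MulAut.conj g).toMonoidHom n ∈ N.map (MulAut.conj g).toMonoidHom :=
        Subgroup.mem_map_of_mem _ hn
      rw [MonoidHom.map_closure] at h1
      refine Subgroup.closure_mono ?_ h1
      rintro _ ⟨y, ⟨k, hk⟩, rfl⟩
      exact ⟨k, by rw [← hk]; exact orderOf_injective _ (MulAut.conj g).injective y⟩⟩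
    rw [eq_top_iff]
    intro y _
    obtain ⟨u, v, -, -, rfl, -, hu, hv⟩ := CfsgLib.Orders.exists_split Nat.prime_two y
    refine mul_mem (Subgroup.subset_closure hu) ?_
    obtain ⟨g, hg2, hg⟩ := hgen v
    obtain ⟨j, hj⟩ := exists_pow_eq_self_of_coprime (x := v) (n := 2) hv.symm
    rw [← hj]
    refine pow_mem ?_ j
    have : v ^ 2 = v * g * v⁻¹ * g⁻¹ := by
      rw [show v * g * v⁻¹ * g⁻¹ = v * (g * v * g⁻¹)⁻¹ by group, hg, inv_inv, sq]
    rw [this]
    exact mul_mem (hNn.conj_mem g (Subgroup.subset_closure hg2) v) (inv_mem (Subgroup.subset_closure hg2))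

end Cfsg.Agent.S4059
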