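import Cfsg.Statements.S4060
import Cfsg.Agent.Lib.Orders.Parts
import Cfsg.Agent.Lib.OddLocal.FittingHall
import Cfsg.Agent.Lib.PGroups.Basic
import Cfsg.Agent.Lib.Orders.Real

set_option autoImplicit false
open Cfsg
open scoped Pointwise commutatorElement

namespace Cfsg.Agent.S4060

/-- Let G be a finite solvable group with Sylow 2-subgroup S, and let x ≠ 1 be an element of odd order normalizing S. Then x is not conjugate to its inverse in G. -/
theorem result {G : Type*} [Group G] [Finite G] [Group.IsSolvable G]
    (S : Sylow 2 G) (x : G) (hx : x ≠ 1) (hodd : Odd (orderOf x))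
    (hnorm : x ∈ Subgroup.normalizer ((S : Subgroup G) : Set G)) : ¬ IsConj x x⁻¹ := by
  haveI : Fact (Nat.Prime 2) := ⟨Nat.prime_two⟩
  exact CfsgLib.Orders.not_isConj_inv_of_normalizes_sylow_two (Nat.card G) (G := G) rfl S x hx hodd hnorm

end Cfsg.Agent.S4060
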