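import Cfsg.Statements.S4065
import Mathlib

set_option autoImplicit false
open Cfsg
open scoped Pointwise commutatorElement

namespace Cfsg.Agent.S4065

/-- Let F be a finite field with 2ⁿ elements, n ≥ 2. In PSL₂(F) the centralizer of every element meets each of its conjugates by elements outside its normalizer trivially. -/
theorem result (n : ℕ) (hn : 2 ≤ n)
    (x : Matrix.ProjectiveSpecialLinearGroup (Fin 2) (GaloisField 2 n)) :
    Cfsg.IsTISubset (Subgroup.centralizer ({x} : Set (Matrix.ProjectiveSpecialLinearGroup (Fin 2) (GaloisField 2 n))) :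
      Set (Matrix.ProjectiveSpecialLinearGroup (Fin 2) (GaloisField 2 n))) := by
  haveI : Fact (Nat.Prime 2) := ⟨Nat.prime_two⟩
  let F := GaloisField 2 n
  let S := Matrix.SpecialLinearGroup (Fin 2) F
  have hcen : ∀ A : S, A ∈ Subgroup.center S → A = 1 := by
    intro A hA
    obtain ⟨r, hr, hA'⟩ := Matrix.SpecialLinearGroup.mem_center_iff.1 hA
    rw [Fintype.card_fin] at hr
    have h1 : (r - 1) * (r - 1) = 0 := by
      have h2 : (2 : F) = 0 := CharTwo.two_eq_zero
      linear_combination hr - (r - 1) * h2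
    have h3 : r = 1 := sub_eq_zero.1 (mul_self_eq_zero.1 h1)
    apply Subtype.ext
    rw [← hA', h3, map_one]; rfl
  -- commutation is transitive on nontrivial elements
  have hCT : ∀ X A B : S, X ≠ 1 → A * X = X * A → B * X = X * B → A * B = B * A := by
    intro X A B hX hA hB
    have hX' : X.1 0 1 ≠ 0 ∨ X.1 1 0 ≠ 0 ∨ X.1 0 0 - X.1 1 1 ≠ 0 := by
      by_contra h
      push Not at h
      obtain ⟨h1, h2, h3⟩ := h
      refine hX (hcen X (Subgroup.mem_center_iff.2 fun Y => Subtype.ext ?_))
      rw [sub_eq_zero] at h3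
      show Y.1 * X.1 = X.1 * Y.1
      ext i j
      fin_cases i <;> fin_cases j <;> simp [Matrix.mul_apply, Fin.sum_univ_two, h1, h2, h3] <;> ring
    have e : ∀ C : S, C * X = X * C →
        C.1 0 1 * X.1 1 0 = X.1 0 1 * C.1 1 0 ∧
        C.1 0 1 * (X.1 0 0 - X.1 1 1) = X.1 0 1 * (C.1 0 0 - C.1 1 1) ∧
        C.1 1 0 * (X.1 0 0 - X.1 1 1) = X.1 1 0 * (C.1 0 0 - C.1 1 1) := by
      intro C hC
      have h : C.1 * X.1 = X.1 * C.1 := congrArg Subtype.val hC
      have h00 := congrFun (congrFun h 0) 0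
      have h01 := congrFun (congrFun h 0) 1
      have h10 := congrFun (congrFun h 1) 0
      simp only [Matrix.mul_apply, Fin.sum_univ_two] at h00 h01 h10
      exact ⟨by linear_combination h00, by linear_combination -h01, by linear_combination h10⟩
    obtain ⟨a1, a2, a3⟩ := e A hA
    obtain ⟨b1, b2, b3⟩ := e B hB
    have f1 : A.1 0 1 * B.1 1 0 = B.1 0 1 * A.1 1 0 := by
      rcases hX' with h | h | h <;> apply mul_left_cancel₀ h
      · linear_combination -A.1 0 1 * b1 + B.1 0 1 * a1
      · linear_combination B.1 1 0 * a1 - A.1 1 0 * b1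
      · linear_combination A.1 0 1 * b3 + (B.1 0 0 - B.1 1 1) * a1 - A.1 1 0 * b2
    have f2 : A.1 0 1 * (B.1 0 0 - B.1 1 1) = B.1 0 1 * (A.1 0 0 - A.1 1 1) := by
      rcases hX' with h | h | h <;> apply mul_left_cancel₀ h
      · linear_combination -A.1 0 1 * b2 + B.1 0 1 * a2
      · linear_combination (B.1 0 0 - B.1 1 1) * a1 - A.1 1 0 * b2 + B.1 0 1 * a3
      · linear_combination (B.1 0 0 - B.1 1 1) * a2 - (A.1 0 0 - A.1 1 1) * b2
    have f3 : A.1 1 0 * (B.1 0 0 - B.1 1 1) = B.1 1 0 * (A.1 0 0 - A.1 1 1) := by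
      rcases hX' with h | h | h <;> apply mul_left_cancel₀ h
      · linear_combination -(B.1 0 0 - B.1 1 1) * a1 - A.1 0 1 * b3 + B.1 1 0 * a2
      · linear_combination -A.1 1 0 * b3 + B.1 1 0 * a3
      · linear_combination (B.1 0 0 - B.1 1 1) * a3 - (A.1 0 0 - A.1 1 1) * b3
    apply Subtype.ext
    show A.1 * B.1 = B.1 * A.1
    ext i j
    fin_cases i <;> fin_cases j <;> simp only [Matrix.mul_apply, Fin.sum_univ_two, Fin.zero_eta, Fin.mk_one]
    · linear_combination f1
    · linear_combination -f2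
    · linear_combination f3
    · linear_combination -f1
  -- descend to the projective group
  let π : S →* Matrix.ProjectiveSpecialLinearGroup (Fin 2) F := QuotientGroup.mk' (Subgroup.center S)
  have hπi : Function.Injective π := (injective_iff_map_eq_one π).2 fun A hA =>
    hcen A ((QuotientGroup.eq_one_iff A).1 hA)
  have hπs : Function.Surjective π := QuotientGroup.mk'_surjective _
  have hCT' : ∀ u a b : Matrix.ProjectiveSpecialLinearGroup (Fin 2) F, u ≠ 1 →
      a * u = u * a → b * u = u * b → a * b = b * a := by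
    intro u a b hu ha hb
    obtain ⟨X, rfl⟩ := hπs u
    obtain ⟨A, rfl⟩ := hπs a
    obtain ⟨B, rfl⟩ := hπs b
    rw [← map_mul, ← map_mul] at ha hb ⊢
    exact congrArg π (hCT X A B (fun h => hu (by rw [h, map_one])) (hπi ha) (hπi hb))
  intro g hg z hz hgz
  by_contra hz1
  apply hg
  rw [SetLike.mem_coe, Subgroup.mem_centralizer_singleton_iff] at hz hgz
  by_cases hx : x = 1
  · subst hx
    rw [Subgroup.mem_normalizer_iff]
    intro h
    simp [Subgroup.mem_centralizer_singleton_iff]
  have hgz1 : g * z * g⁻¹ ≠ 1 := fun h => hz1 (conj_eq_one_iff.1 h)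
  rw [Subgroup.mem_normalizer_iff]
  intro h
  rw [Subgroup.mem_centralizer_singleton_iff, Subgroup.mem_centralizer_singleton_iff]
  constructor
  · intro hh
    have h1 : h * z = z * h := hCT' x h z hx hh hz
    have h2 : (g * h * g⁻¹) * (g * z * g⁻¹) = (g * z * g⁻¹) * (g * h * g⁻¹) := by
      calc (g * h * g⁻¹) * (g * z * g⁻¹) = g * (h * z) * g⁻¹ := by group
        _ = _ := by rw [h1]; group
    exact hCT' _ _ _ hgz1 h2 hgz.symm
  · intro hh
    have h1 := hCT' x _ _ hx hh hgz
    have h2 : h * z = z * h := by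
      have h3 := congrArg (fun w => g⁻¹ * w * g) h1
      calc h * z = g⁻¹ * ((g * h * g⁻¹) * (g * z * g⁻¹)) * g := by group
        _ = g⁻¹ * ((g * z * g⁻¹) * (g * h * g⁻¹)) * g := h3
        _ = z * h := by group
    exact hCT' _ _ _ hz1 h2 hz.symm

end Cfsg.Agent.S4065
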