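import Cfsg.Statements.S4066
import Cfsg.Agent.Lib.Orders.Parts
import Cfsg.Agent.Lib.Orders.DirectFactor
import Cfsg.Agent.Lib.PGroups.Basic
import Cfsg.Agent.Lib.PGroups.ClassTwo

set_option autoImplicit false
open Cfsg
open scoped Pointwise commutatorElement

namespace Cfsg.Agent.S4066

/-- Let G be a finite group in which the centralizer of every element meets each of its conjugates by elements outside its normalizer trivially. Then any two distinct Sylow p-subgroups of G, for any prime p, intersect trivially. -/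
theorem result {G : Type*} [Group G] [Finite G] (hTI : ∀ x : G, Cfsg.IsTISubset (Subgroup.centralizer ({x} : Set G) : Set G))
    {p : ℕ} [Fact p.Prime] (P Q : Sylow p G) (hPQ : P ≠ Q) : (P : Subgroup G) ⊓ (Q : Subgroup G) = ⊥ := by
  have hp : p.Prime := Fact.out
  rw [Subgroup.eq_bot_iff_forall]
  rintro x ⟨hxP, hxQ⟩
  by_contra hx
  apply hPQ
  -- centres of the two Sylow subgroups
  have hnorm : ∀ {a b g : G}, a ≠ 1 → a * b = b * a → g * a * g⁻¹ * b = b * (g * a * g⁻¹) →
      g ∈ Subgroup.normalizer ((Subgroup.centralizer ({b} : Set G) : Subgroup G) : Set G) := by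
    intro a b g ha h1 h2
    by_contra hg
    exact ha (hTI b g hg a (Subgroup.mem_centralizer_singleton_iff.2 h1)
      (Subgroup.mem_centralizer_singleton_iff.2 h2))
  have hcenter : ∀ R : Sylow p G, x ∈ (R : Subgroup G) →
      ∃ z : G, z ≠ 1 ∧ x * z = z * x ∧ (R : Subgroup G) ≤ Subgroup.centralizer ({z} : Set G) := by
    intro R hxR
    have : Nontrivial (R : Subgroup G) := ⟨⟨x, hxR⟩, 1, fun h => hx (congrArg Subtype.val h)⟩
    have := R.isPGroup'.center_nontrivial
    obtain ⟨⟨z, hz⟩, hz1⟩ := exists_ne (1 : Subgroup.center (R : Subgroup G))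
    rw [Subgroup.mem_center_iff] at hz
    refine ⟨z, fun h => hz1 (Subtype.ext (Subtype.ext h)), congrArg Subtype.val (hz ⟨x, hxR⟩), ?_⟩
    intro r hr
    exact Subgroup.mem_centralizer_singleton_iff.2 (congrArg Subtype.val (hz ⟨r, hr⟩))
  obtain ⟨z, hz1, hxz, hPz⟩ := hcenter P hxP
  obtain ⟨w, hw1, hxw, hQw⟩ := hcenter Q hxQ
  set H := Subgroup.centralizer ({z} : Set G)
  have hHnorm : H ≤ Subgroup.normalizer ((Subgroup.centralizer ({x} : Set G) : Subgroup G) : Set G) := by
    intro g hg
    rw [Subgroup.mem_centralizer_singleton_iff] at hg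
    refine hnorm hz1 hxz.symm ?_
    rw [hg, mul_inv_cancel_right, hxz]
  have hNH : Subgroup.normalizer ((Subgroup.centralizer ({x} : Set G) : Subgroup G) : Set G) ≤
      Subgroup.normalizer (H : Set G) := by
    intro g hg
    refine hnorm hx hxz ?_
    have hz' : g⁻¹ * z * g ∈ Subgroup.centralizer ({x} : Set G) :=
      (Subgroup.mem_normalizer_iff''.1 hg z).1 (Subgroup.mem_centralizer_singleton_iff.2 hxz.symm)
    rw [Subgroup.mem_centralizer_singleton_iff] at hz'
    calc g * x * g⁻¹ * z = g * (x * (g⁻¹ * z * g)) * g⁻¹ := by group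
      _ = g * (g⁻¹ * z * g * x) * g⁻¹ := by rw [hz']
      _ = _ := by group
  have hQN : (Q : Subgroup G) ≤ Subgroup.normalizer (H : Set G) := fun g hg => by
    refine hNH (hnorm hw1 hxw.symm ?_)
    rw [Subgroup.mem_centralizer_singleton_iff.1 (hQw hg), mul_inv_cancel_right, hxw]
  -- `Q` lies in `H`, which is normal in its normalizer and contains a Sylow subgroup
  set M := Subgroup.normalizer (H : Set G)
  have hPM : (P : Subgroup G) ≤ M := hPz.trans Subgroup.le_normalizer
  have hQH : (Q : Subgroup G) ≤ H := by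
    obtain ⟨c, hc⟩ := MulAction.exists_smul_eq ↥M (P.subtype hPM) (Q.subtype hQN)
    intro q hq
    have hq' : (⟨q, hQN hq⟩ : M) ∈ (Q.subtype hQN : Subgroup M) := hq
    rw [← hc, Sylow.coe_subgroup_smul] at hq'
    obtain ⟨r, hr, hrq⟩ := (Subgroup.mem_smul_pointwise_iff_exists _ _ _).1 hq'
    have : (c : G) * r * (c : G)⁻¹ = q := congrArg Subtype.val hrq
    rw [← this]
    exact (Subgroup.mem_normalizer_iff.1 c.2 _).1 (hPz hr)
  -- every `p`-element of `P` commutes with its conjugates under `H`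
  let Pset : Set G := {y | ∃ h ∈ H, ∃ a ∈ (P : Subgroup G), y = h * a * h⁻¹}
  have hzH : ∀ a ∈ (P : Subgroup G), a * z = z * a := fun a ha =>
    Subgroup.mem_centralizer_singleton_iff.1 (hPz ha)
  have hcomm : ∀ a ∈ (P : Subgroup G), ∀ h ∈ H, a * (h * a * h⁻¹) = h * a * h⁻¹ * a := by
    intro a ha h hh
    by_cases ha1 : a = 1
    · subst ha1; group
    have hh' := Subgroup.mem_centralizer_singleton_iff.1 hh
    have hn : h ∈ Subgroup.normalizer ((Subgroup.centralizer ({a} : Set G) : Subgroup G) : Set G) := by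
      refine hnorm hz1 (hzH a ha).symm ?_
      rw [hh', mul_inv_cancel_right, hzH a ha]
    exact (Subgroup.mem_centralizer_singleton_iff.1
      ((Subgroup.mem_normalizer_iff.1 hn a).1 (Subgroup.mem_centralizer_singleton_iff.2 rfl))).symm
  have key : ∀ a ∈ (P : Subgroup G), a ∈ (Q : Subgroup G) := by
    intro a ha
    let S : Set G := {y | ∃ h ∈ H, y = h * a * h⁻¹}
    have hS : ∀ y ∈ S, ∀ y' ∈ S, y * y' = y' * y := by
      rintro _ ⟨h, hh, rfl⟩ _ ⟨k, hk, rfl⟩
      have := hcomm a ha (h⁻¹ * k) (mul_mem (inv_mem hh) hk)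
      calc h * a * h⁻¹ * (k * a * k⁻¹) = h * (a * (h⁻¹ * k * a * (h⁻¹ * k)⁻¹)) * h⁻¹ := by group
        _ = _ := by rw [this]; group
    have hab := Subgroup.isMulCommutative_closure hS
    have hA : IsPGroup p (Subgroup.closure S) := by
      rintro ⟨y, hy⟩
      induction hy using Subgroup.closure_induction with
      | mem y hy =>
        obtain ⟨h, hh, rfl⟩ := hy
        obtain ⟨k, hk⟩ := P.isPGroup' ⟨a, ha⟩
        refine ⟨k, Subtype.ext ?_⟩
        show (h * a * h⁻¹) ^ p ^ k = 1
        rw [conj_pow, show a ^ p ^ k = 1 from congrArg Subtype.val hk]; group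
      | one => exact ⟨0, Subtype.ext (one_pow _)⟩
      | mul y y' hy hy' ih ih' =>
        obtain ⟨k, hk⟩ := ih
        obtain ⟨l, hl⟩ := ih'
        refine ⟨k + l, ?_⟩
        rw [show (⟨y * y', mul_mem hy hy'⟩ : Subgroup.closure S) = ⟨y, hy⟩ * ⟨y', hy'⟩ from rfl,
          Commute.mul_pow (hab.is_comm.comm _ _), pow_add, pow_mul, hk, one_pow, mul_comm (p ^ k),
          pow_mul, hl, one_pow, one_mul]
      | inv y hy ih =>
        obtain ⟨k, hk⟩ := ih
        refine ⟨k, ?_⟩
        rw [show (⟨y⁻¹, inv_mem hy⟩ : Subgroup.closure S) = ⟨y, hy⟩⁻¹ from rfl, inv_pow, hk, inv_one]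
    have hQn : (Q : Subgroup G) ≤ Subgroup.normalizer ((Subgroup.closure S : Subgroup G) : Set G) := by
      have hle : ∀ g ∈ H, ∀ y ∈ Subgroup.closure S, g * y * g⁻¹ ∈ Subgroup.closure S := by
        intro g hg y hy
        induction hy using Subgroup.closure_induction with
        | mem y hy =>
          obtain ⟨h, hh, rfl⟩ := hy
          exact Subgroup.subset_closure ⟨g * h, mul_mem hg hh, by group⟩
        | one => simp
        | mul y y' _ _ ih ih' =>
          rw [show g * (y * y') * g⁻¹ = g * y * g⁻¹ * (g * y' * g⁻¹) by group]; exact mul_mem ih ih'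
        | inv y _ ih => rw [show g * y⁻¹ * g⁻¹ = (g * y * g⁻¹)⁻¹ by group]; exact inv_mem ih
      intro q hq
      rw [Subgroup.mem_normalizer_iff]
      intro y
      refine ⟨hle q (hQH hq) y, fun hy => ?_⟩
      have := hle q⁻¹ (inv_mem (hQH hq)) _ hy
      simpa [mul_assoc] using this
    have hsup := IsPGroup.to_sup_of_normal_right' Q.isPGroup' hA hQn
    rw [← Q.is_maximal' hsup le_sup_left]
    exact Subgroup.mem_sup_right (Subgroup.subset_closure ⟨1, one_mem _, by group⟩)
  exact Sylow.ext ((P.is_maximal' Q.isPGroup' key).symm)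

end Cfsg.Agent.S4066
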