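import Cfsg.Statements.S4070
import Mathlib
import Cfsg.Agent.Lib.RegOrbit.SmallDerived.Final

set_option autoImplicit false
open Cfsg

namespace Cfsg.Agent.S4070

/-- Let G be a finite solvable group acting faithfully by additive automorphisms on a finite vector space V over the field with p elements, completely reducibly (every G-invariant subspace has a G-invariant complement). Then some vector v ∈ V has stabilizer C_G(v) of derived length at most 9; and if both #G and p are odd, some vector has abelian stabilizer. -/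
theorem result {G V : Type*} [Group G] [Finite G] [Group.IsSolvable G]
    {p : ℕ} [Fact p.Prime] [AddCommGroup V] [Module (ZMod p) V] [Finite V] [DistribMulAction G V] [FaithfulSMul G V]
    (hcr : ∀ W : Submodule (ZMod p) V, (∀ (g : G) (w : V), w ∈ W → g • w ∈ W) →
      ∃ W' : Submodule (ZMod p) V, (∀ (g : G) (w : V), w ∈ W' → g • w ∈ W') ∧ IsCompl W W') :
    (∃ v : V, derivedSeries ↥(MulAction.stabilizer G v) 9 = ⊥) ∧
    (Odd (Nat.card G) → p ≠ 2 → ∃ v : V, IsMulCommutative ↥(MulAction.stabilizer G v)) := by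
  haveI : Module.Finite (ZMod p) V := Module.Finite.of_finite
  have hc : CfsgLib.RegOrbit.CompRed G V := by
    intro U hU
    obtain ⟨W, hW, hUW⟩ := hcr (AddSubgroup.toZModSubmodule p U) (fun g w hw => hU g w hw)
    refine ⟨W.toAddSubgroup, fun a w hw => hW a w hw, ?_, ?_⟩
    · refine (AddSubgroup.eq_bot_iff_forall _).2 fun x hx => ?_
      have h := hUW.disjoint.le_bot ⟨hx.1, hx.2⟩
      simpa using h
    · refine eq_top_iff.2 fun x _ => ?_
      obtain ⟨u, hu, w, hw, rfl⟩ := Submodule.mem_sup.1 (hUW.sup_eq_top ▸ Submodule.mem_top (x := x))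
      exact AddSubgroup.add_mem _ (AddSubgroup.mem_sup_left hu) (AddSubgroup.mem_sup_right hw)
  refine ⟨?_, fun hG hp => ?_⟩
  · obtain ⟨v, hv⟩ := CfsgLib.RegOrbit.exists_DL_nine hc
    exact ⟨v, CfsgLib.RegOrbit.derivedSeries_eq_bot hv⟩
  · have hV : Odd (Nat.card V) := by
      rw [Module.natCard_eq_pow_finrank (K := ZMod p), Nat.card_zmod]
      exact ((Fact.out : p.Prime).odd_of_ne_two hp).pow
    obtain ⟨v, hv⟩ := CfsgLib.RegOrbit.exists_DL_one hc hG hV
    refine ⟨v, ⟨⟨fun a b => ?_⟩⟩⟩
    have h := CfsgLib.RegOrbit.derivedSeries_eq_bot hv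
    rw [derivedSeries_one, commutator_eq_bot_iff_center_eq_top] at h
    have hb : b ∈ Subgroup.center (MulAction.stabilizer G v) := h ▸ Subgroup.mem_top b
    exact Subgroup.mem_center_iff.1 hb a

end Cfsg.Agent.S4070
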