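import Cfsg.Statements.S5748
import Cfsg.Agent.Lib.PLocal.CAGroup.Classify
import Cfsg.Agent.Lib.PLocal.CAGroup.SLTwo
import Cfsg.Agent.Lib.Char.CATheorem

set_option autoImplicit false
open Cfsg
open scoped commutatorElement

namespace Cfsg.Agent.S5748

/-- A finite non-abelian simple group in which commuting is a transitive relation on the non-identity elements (equivalently, every non-identity element has abelian centraliser) is isomorphic to PSL₂ over a field with 2^f elements for some f ≥ 2; conversely these groups have that property. -/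
theorem result {G : Type*} [Group G] [Finite G] [IsSimpleGroup G] (hG : ¬ IsMulCommutative G) :
    (∀ a b c : G, a ≠ 1 → b ≠ 1 → c ≠ 1 → Commute a b → Commute b c → Commute a c) ↔
    ∃ (F : Type) (_ : Field F) (_ : Fintype F) (f : ℕ), 2 ≤ f ∧ Fintype.card F = 2 ^ f ∧ Nonempty (G ≃* Matrix.ProjectiveSpecialLinearGroup (Fin 2) F) := by
  constructor
  · intro h
    have hCA : CfsgLib.PLocal.CAGroup.AbCent G := fun x hx a ha b hb => by
      by_cases ha1 : a = 1
      · rw [ha1, one_mul, mul_one]
      by_cases hb1 : b = 1
      · rw [hb1, one_mul, mul_one]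
      exact h a x b ha1 hx hb1 (Subgroup.mem_centralizer_singleton_iff.1 ha)
        (Subgroup.mem_centralizer_singleton_iff.1 hb).symm
    by_cases heven : 2 ∣ Nat.card G
    · obtain ⟨F, i1, i2, f, hf, hF, hiso⟩ := CfsgLib.PLocal.CAGroup.iso_psl hCA hG heven
      exact ⟨F, i1, i2, f, hf, hF, hiso⟩
    · exfalso
      have := Fintype.ofFinite G
      have hperf : commutator G = ⊤ := by
        rcases (inferInstance : (commutator G).Normal).eq_bot_or_eq_top with e | e
        · refine absurd ⟨⟨fun x y => ?_⟩⟩ hG
          have hxy : ⁅x, y⁆ ∈ commutator G :=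
            Subgroup.commutator_mem_commutator (Subgroup.mem_top x) (Subgroup.mem_top y)
          rw [e, Subgroup.mem_bot, commutatorElement_eq_one_iff_mul_comm] at hxy
          exact hxy
        · exact e
      have := CfsgLib.CA.subsingleton_of_perfect hperf
        (Nat.not_even_iff_odd.1 fun e => heven (even_iff_two_dvd.1 e)) hCA
      exact hG ⟨⟨fun x y => Subsingleton.elim _ _⟩⟩
  · rintro ⟨F, _, _, f, hf, hF, ⟨e⟩⟩ a b c ha hb hc hab hbc
    have : CharP F 2 := by
      refine ringChar.of_eq ?_
      rw [FiniteField.even_card_iff_char_two, hF, Nat.pow_mod, Nat.mod_self, zero_pow (by omega), Nat.zero_mod]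
    exact e.injective (by
      rw [map_mul, map_mul]
      exact CfsgLib.PLocal.CAGroup.psl_two_commute (b := e b) (fun hh => hb (e.injective (by rw [hh, map_one])))
        (by rw [← map_mul, ← map_mul, hab.eq]) (by rw [← map_mul, ← map_mul, hbc.eq]))

end Cfsg.Agent.S5748
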