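import Cfsg.Statements.S4073
import Cfsg.Agent.Lib.PLocal.SelfNormPSL
import Cfsg.Agent.Lib.PLocal.SelfNormBorel
import Cfsg.Agent.Lib.Perm.ElemCentRecog
import Cfsg.Agent.S5748

set_option autoImplicit false
open Cfsg

namespace Cfsg.Agent.S4073

/-- Let G be a finite non-abelian simple group. Every non-abelian subgroup of G is self-normalizing if and only if G is isomorphic to PSL₂(2ⁿ) for some n ≥ 2 with 2ⁿ − 1 prime (this includes the alternating group of degree 5 as PSL₂(4)). -/
theorem result {G : Type*} [Group G] [Finite G] [IsSimpleGroup G]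
    (hna : ¬ IsMulCommutative G) :
    (∀ H : Subgroup G, ¬ IsMulCommutative H → Subgroup.normalizer (H : Set G) = H) ↔
    ∃ n : ℕ, 2 ≤ n ∧ (2 ^ n - 1).Prime ∧ Nonempty (G ≃* Matrix.ProjectiveSpecialLinearGroup (Fin 2) (GaloisField 2 n)) := by
  constructor
  · intro SN
    haveI : Fact (Nat.Prime 2) := ⟨Nat.prime_two⟩
    have SN' : CfsgLib.PLocal.SelfNormNonabelian.SelfNorm G := SN
    obtain ⟨F, iF, iFt, f, hf, hF, ⟨e⟩⟩ := (Cfsg.Agent.S5748.result hna).1 fun a b c ha hb hc hab hbc =>
      CfsgLib.PLocal.SelfNormNonabelian.comm_iff.1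
        (CfsgLib.PLocal.SelfNormNonabelian.centralizer_comm SN' hna hb)
        a (Subgroup.mem_centralizer_singleton_iff.2 hab.eq) c
        (Subgroup.mem_centralizer_singleton_iff.2 hbc.symm.eq)
    haveI : CharP F 2 := by
      refine ringChar.of_eq ?_
      rw [FiniteField.even_card_iff_char_two, hF, Nat.pow_mod, Nat.mod_self, zero_pow (by omega), Nat.zero_mod]
    obtain ⟨s⟩ := CfsgLib.Recog.AffineTwo.psl_equiv_sl F
    let E : Matrix.SpecialLinearGroup (Fin 2) F ≃* G := (e.trans s).symm
    have h4 : 4 ≤ Fintype.card F := by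
      rw [hF]; exact le_trans (by norm_num) (Nat.pow_le_pow_right two_pos hf)
    have hprime := CfsgLib.PLocal.SelfNormNonabelian.prime_of_selfNorm (F := F) h4
      (by rw [hF, Nat.pow_mod, Nat.mod_self, zero_pow (by omega), Nat.zero_mod]) (fun H hH => by
        have h1 : ¬ IsMulCommutative (H.map E.toMonoidHom) := by
          intro hc
          exact hH ⟨⟨fun x y => (H.equivMapOfInjective E.toMonoidHom E.injective).injective
            (by rw [map_mul, map_mul]; exact hc.is_comm.comm _ _)⟩⟩
        have h2 := SN' _ h1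
        have h3 : Subgroup.map E.toMonoidHom (Subgroup.normalizer (H : Set (Matrix.SpecialLinearGroup (Fin 2) F))) =
            Subgroup.map E.toMonoidHom H := by
          rw [← h2]; exact Subgroup.map_equiv_normalizer_eq H E
        exact Subgroup.map_injective E.injective h3)
    refine ⟨f, hf, hF ▸ hprime, ?_⟩
    let _ : Fintype (GaloisField 2 f) := Fintype.ofFinite _
    obtain ⟨c⟩ := CfsgLib.Perm.nonempty_psl_congr (FiniteField.ringEquivOfCardEq (K := F) (K' := GaloisField 2 f)
      (by rw [hF, ← Nat.card_eq_fintype_card, GaloisField.card 2 f (by omega)]))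
    exact ⟨e.trans c⟩
  · rintro ⟨n, hn, hr, ⟨e⟩⟩
    haveI : Fact (Nat.Prime 2) := ⟨Nat.prime_two⟩
    let _ : Fintype (GaloisField 2 n) := Fintype.ofFinite _
    exact CfsgLib.PLocal.SelfNormNonabelian.selfNorm_of_iso hn
      (by rw [← Nat.card_eq_fintype_card, GaloisField.card 2 n (by omega)]) hr e

end Cfsg.Agent.S4073
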