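import Cfsg.Statements.S4074
import Cfsg.Agent.Lib.Orders.DihedralSubgroups

set_option autoImplicit false
open Cfsg
open scoped Pointwise commutatorElement

namespace Cfsg.Agent.S4074

/-- For n > 2, every non-abelian subgroup of the dihedral group of order 2n is self-normalizing if and only if n = 4 or n is odd. -/
theorem result (n : ℕ) (hn : 2 < n) :
    (∀ H : Subgroup (DihedralGroup n), ¬ IsMulCommutative H → Subgroup.normalizer (H : Set (DihedralGroup n)) = H) ↔
    (n = 4 ∨ Odd n) := by
  constructor
  · intro h
    by_contra hc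
    push Not at hc
    obtain ⟨h4, hno⟩ := hc
    rw [Nat.not_odd_iff_even] at hno
    obtain ⟨m, rfl⟩ := hno
    -- the index two subgroup `{r j, sr j : j even}`
    let f : ZMod (m + m) →+* ZMod 2 := ZMod.castHom ⟨m, (two_mul m).symm⟩ (ZMod 2)
    let H := CfsgLib.Orders.dihedralSub f.toAddMonoidHom.ker
    have h2 : (2 : ZMod (m + m)) ∈ f.toAddMonoidHom.ker :=
      AddMonoidHom.mem_ker.2 ((map_ofNat f 2).trans (by decide))
    have hna : ¬ IsMulCommutative H := fun hcom => by
      have h3 := congrArg Subtype.val (hcom.is_comm.comm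
        ⟨DihedralGroup.r 2, h2⟩ ⟨DihedralGroup.sr 0, CfsgLib.Orders.sr_mem_dihedralSub.2 (zero_mem _)⟩)
      have h5 : (2 : ZMod (m + m)) + 2 = 0 := CfsgLib.Orders.commute_r_sr_iff.1 h3
      have h6 : ((4 : ℕ) : ZMod (m + m)) = 0 := by push_cast; linear_combination h5
      rw [ZMod.natCast_eq_zero_iff] at h6
      have := Nat.le_of_dvd (by norm_num) h6
      rcases (show m + m = 3 ∨ m + m = 4 by omega) with h7 | h7 <;> omega
    have hH := h H hna
    have h1 : DihedralGroup.r (1 : ZMod (m + m)) ∈ Subgroup.normalizer (H : Set (DihedralGroup (m + m))) := by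
      rw [Subgroup.mem_normalizer_iff]
      rintro (j | j)
      · rw [DihedralGroup.inv_r, DihedralGroup.r_mul_r, DihedralGroup.r_mul_r,
          show (1 : ZMod (m + m)) + j + -1 = j by ring]
      · rw [DihedralGroup.inv_r, DihedralGroup.r_mul_sr, DihedralGroup.sr_mul_r]
        simp only [CfsgLib.Orders.sr_mem_dihedralSub, H, AddMonoidHom.mem_ker, RingHom.toAddMonoidHom_eq_coe,
          AddMonoidHom.coe_coe, map_add, map_sub, map_neg, map_one]
        generalize f j = w
        revert w
        decide
    rw [hH] at h1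
    have h8 : f 1 = 0 := h1
    rw [map_one] at h8
    exact absurd h8 (by decide)
  · intro hn4 H hH
    obtain ⟨⟨i, hi⟩, d, hd, hdH⟩ := CfsgLib.Orders.exists_of_noncomm hH
    refine le_antisymm ?_ Subgroup.le_normalizer
    rcases hn4 with rfl | hodd
    · -- the only non-abelian subgroup is the whole group
      have hr : ∀ j : ZMod 4, DihedralGroup.r j ∈ H := by
        intro j
        have key : ∀ x : ZMod 4, x + x ≠ 0 → x * x = 1 := by decide
        have hdd : d * d = 1 ∧ True := ⟨key d hd, trivial⟩
        obtain ⟨k, hk⟩ := ZMod.intCast_surjective (d * j)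
        have := CfsgLib.Orders.r_mem_of_mem hdH k
        rwa [hk, ← mul_assoc, hdd.1, one_mul] at this
      rintro (j | j) _
      · exact hr j
      · have := mul_mem hi (hr (j - i))
        rwa [DihedralGroup.sr_mul_r, add_sub_cancel] at this
    · have hrot : ∀ j, DihedralGroup.r j ∈ Subgroup.normalizer (H : Set (DihedralGroup n)) →
          DihedralGroup.r j ∈ H := fun j hj => by
        have h1 := mul_mem ((Subgroup.mem_normalizer_iff.1 hj _).1 hi) hi
        rw [DihedralGroup.inv_r, DihedralGroup.r_mul_sr, DihedralGroup.sr_mul_r, DihedralGroup.sr_mul_sr,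
          show i - (i - j + -j) = j + j by ring] at h1
        obtain ⟨k, hk⟩ := ZMod.intCast_surjective ((2 : ZMod n)⁻¹)
        have h2 := CfsgLib.Orders.r_mem_of_mem h1 k
        have hinv : (2 : ZMod n) * (2 : ZMod n)⁻¹ = 1 := by
          have := ZMod.coe_mul_inv_eq_one 2 (Nat.coprime_two_left.2 hodd)
          push_cast at this
          exact this
        rwa [hk, ← two_mul, mul_comm 2 j, mul_assoc, hinv, mul_one] at h2
      rintro (j | j) hg
      · exact hrot j hg
      · have h1 := hrot _ (DihedralGroup.sr_mul_sr i j ▸ mul_mem (Subgroup.le_normalizer hi) hg)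
        have h2 := mul_mem hi h1
        rwa [DihedralGroup.sr_mul_r, add_sub_cancel] at h2

end Cfsg.Agent.S4074
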