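import Cfsg.Statements.S4075
import Cfsg.Agent.Lib.Orders.Parts
import Cfsg.Agent.Lib.Orders.DirectFactor
import Cfsg.Agent.Lib.PGroups.Basic
import Cfsg.Agent.Lib.PGroups.ClassTwo

set_option autoImplicit false
open Cfsg
open scoped Pointwise commutatorElement

namespace Cfsg.Agent.S4075

/-- Let G be a finite nilpotent group. Every non-abelian subgroup of G is self-normalizing if and only if G is abelian or G is a minimal non-abelian p-group for some prime p (non-abelian of prime-power order with every proper subgroup abelian). -/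
theorem result {G : Type*} [Group G] [Finite G]
    [Group.IsNilpotent G] :
    (∀ H : Subgroup G, ¬ IsMulCommutative H → Subgroup.normalizer (H : Set G) = H) ↔
    (IsMulCommutative G ∨ (IsPrimePow (Nat.card G) ∧ ¬ IsMulCommutative G ∧ ∀ H : Subgroup G, H ≠ ⊤ → IsMulCommutative H)) := by
  constructor
  · intro h
    have hmin : ∀ H : Subgroup G, H ≠ ⊤ → IsMulCommutative H := fun H hH => by
      by_contra hna
      exact (Group.normalizerCondition_of_isNilpotent H (lt_top_iff_ne_top.2 hH)).ne (h H hna).symm
    by_cases hc : IsMulCommutative G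
    · exact Or.inl hc
    refine Or.inr ⟨?_, hc, hmin⟩
    by_contra hpp
    apply hc
    have hnormal : ∀ (p : ℕ) [Fact p.Prime] (P : Sylow p G), (P : Subgroup G).Normal := fun p hp P =>
      ((Group.isNilpotent_of_finite_tfae (G := G)).out 0 3 rfl rfl).1 ‹_› p hp P
    have hcent : ∀ x : G, (∃ p k : ℕ, p.Prime ∧ orderOf x = p ^ k) → x ∈ Subgroup.center G := by
      rintro x ⟨p, k, hp, hxk⟩
      have := Fact.mk hp
      rw [Subgroup.mem_center_iff]
      intro y
      refine (Subgroup.mem_centralizer_singleton_iff.1 (CfsgLib.HallGen.mem_of_primePow_parts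
        (Subgroup.centralizer ({x} : Set G)) y fun z _ q l hq hzl => ?_))
      have := Fact.mk hq
      rw [Subgroup.mem_centralizer_singleton_iff]
      obtain ⟨P⟩ : Nonempty (Sylow p G) := inferInstance
      have := hnormal p P
      have hxP := CfsgLib.Orders.mem_of_pelement P hxk
      by_cases hqp : q = p
      · subst hqp
        have hPne : (P : Subgroup G) ≠ ⊤ := fun htop => hpp (by
          obtain ⟨n, hn⟩ := P.isPGroup'.exists_card_eq
          rw [htop, Subgroup.card_top] at hn
          have : Nontrivial G := by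
            by_contra hnt
            rw [not_nontrivial_iff_subsingleton] at hnt
            exact hc ⟨⟨fun a b => Subsingleton.elim _ _⟩⟩
          refine ⟨q, n, hq.prime, Nat.pos_of_ne_zero fun h0 => ?_, hn.symm⟩
          rw [h0, pow_zero] at hn
          exact absurd hn (Finite.one_lt_card (α := G)).ne')
        exact congrArg Subtype.val ((hmin _ hPne).is_comm.comm
          ⟨z, CfsgLib.Orders.mem_of_pelement P hzl⟩ ⟨x, hxP⟩)
      · obtain ⟨Q⟩ : Nonempty (Sylow q G) := inferInstance
        have := hnormal q Q
        exact Subgroup.commute_of_normal_of_disjoint (Q : Subgroup G) (P : Subgroup G) ‹_› ‹_›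
          (IsPGroup.disjoint_of_ne _ _ hqp _ _ Q.isPGroup' P.isPGroup') _ _
          (CfsgLib.Orders.mem_of_pelement Q hzl) hxP
    have htop : ∀ y, y ∈ Subgroup.center G := fun y => CfsgLib.HallGen.mem_of_primePow_parts
      _ y fun z _ q l hq hzl => hcent z ⟨q, l, hq, hzl⟩
    exact ⟨⟨fun a b => Subgroup.mem_center_iff.1 (htop b) a⟩⟩
  · rintro (hc | ⟨-, -, hmin⟩) H hH
    · exact absurd ⟨⟨fun a b => Subtype.ext (hc.is_comm.comm (a : G) b)⟩⟩ hH
    · have : H = ⊤ := by
        by_contra hne
        exact hH (hmin H hne)
      rw [this]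
      exact top_le_iff.1 Subgroup.le_normalizer

end Cfsg.Agent.S4075
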