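import Cfsg.Statements.S4079
import Cfsg.Agent.Lib.ClassSizes.MetacyclicAut
import Cfsg.Agent.Lib.PGroups.Basic
-- import your own Cfsg.Agent.* helpers here

set_option autoImplicit false
open Cfsg

namespace Cfsg.Agent.S4079

open Subgroup CfsgLib.ClassSizes.MetacyclicAut

universe u

theorem le_of_normal {G : Type u} [Group G] [Finite G] {p : ℕ} [hp : Fact p.Prime] (hG : IsPGroup p G)
    (h1 : Nat.card (center G) = p) (h2 : Nat.card (center (G ⧸ center G)) = p)
    (A K : Subgroup G) [A.Normal] [K.Normal] (hA : Nat.card A = p ^ 2) (hK : p < Nat.card K) : A ≤ K := by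
  set Z2 := (center (G ⧸ center G)).comap (QuotientGroup.mk' (center G)) with hZ2
  have hZ2c : Nat.card Z2 = p ^ 2 := by
    have h := Z2.card_mul_index
    rw [hZ2, Subgroup.index_comap_of_surjective _ (QuotientGroup.mk'_surjective _),
      ← (center G).card_mul_index, h1, Subgroup.index_eq_card (center G),
      ← (center (G ⧸ center G)).card_mul_index, h2, ← mul_assoc, ← pow_two] at h
    exact Nat.eq_of_mul_eq_mul_right (Nat.pos_of_ne_zero (center (G ⧸ center G)).index_ne_zero_of_finite) h
  have key : ∀ (N : Subgroup G) [N.Normal], p < Nat.card N → Z2 ≤ N := by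
    intro N _ hN
    have hN1 : N ≠ ⊥ := by rintro rfl; rw [Subgroup.card_bot] at hN; linarith [hp.out.two_le]
    have hZN : center G ≤ N := by
      have hne := CfsgLib.PGroups.inf_center_ne_bot hG hN1
      rcases (Nat.dvd_prime hp.out).1 (h1 ▸ Subgroup.card_dvd_of_le (inf_le_right (a := N) (b := center G))) with h | h
      · exact absurd (Subgroup.eq_bot_of_card_eq _ h) hne
      · have := Subgroup.eq_of_le_of_card_ge (inf_le_right (a := N) (b := center G)) (by rw [h, h1])
        exact this ▸ inf_le_left
    haveI : (N.map (QuotientGroup.mk' (center G))).Normal :=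
      Subgroup.Normal.map inferInstance _ (QuotientGroup.mk'_surjective _)
    have hb : N.map (QuotientGroup.mk' (center G)) ≠ ⊥ := fun h => by
      rw [Subgroup.map_eq_bot_iff, QuotientGroup.ker_mk'] at h
      have := Nat.le_of_dvd Nat.card_pos (Subgroup.card_dvd_of_le h)
      omega
    have hne := CfsgLib.PGroups.inf_center_ne_bot (hG.to_quotient (center G)) hb
    have hc : center (G ⧸ center G) ≤ N.map (QuotientGroup.mk' (center G)) := by
      rcases (Nat.dvd_prime hp.out).1 (h2 ▸ Subgroup.card_dvd_of_le
        (inf_le_right (a := N.map (QuotientGroup.mk' (center G))) (b := center (G ⧸ center G)))) with h | h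
      · exact absurd (Subgroup.eq_bot_of_card_eq _ h) hne
      · have := Subgroup.eq_of_le_of_card_ge
          (inf_le_right (a := N.map (QuotientGroup.mk' (center G))) (b := center (G ⧸ center G))) (by rw [h, h2])
        exact this ▸ inf_le_left
    calc Z2 ≤ (N.map (QuotientGroup.mk' (center G))).comap (QuotientGroup.mk' (center G)) := Subgroup.comap_mono hc
      _ = N := by rw [Subgroup.comap_map_eq, QuotientGroup.ker_mk', sup_eq_left.2 hZN]
  have hZA : Z2 = A := Subgroup.eq_of_le_of_card_ge
    (key A (by rw [hA, pow_two]; exact lt_mul_self hp.out.one_lt)) (by rw [hA, hZ2c])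
  exact hZA ▸ key K hK

theorem main {L : Type u} [Group L] [Finite L] {p : ℕ} [hp : Fact p.Prime] (hp2 : p ≠ 2) (hL : IsPGroup p L)
    (hmc : Cfsg.IsMetacyclic L) (hnc : ∀ C : Subgroup L, IsCyclic C → C.index ≠ p)
    (a : MulAut L) (ha : orderOf a = p) (m : ℕ) (hm : Nat.card L = p ^ m) :
    (∃ x : L, orderOf x = p ∧ a x ≠ x) ↔
    (p = 3 ∧ Group.nilpotencyClass (SemidirectProduct L ↥(Subgroup.zpowers a) (Subgroup.zpowers a).subtype) = m) := by
  have hp' := hp.out
  have hap : a ^ p = 1 := orderOf_dvd_iff_pow_eq_one.1 ha.dvd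
  haveI : Nontrivial L := by
    by_contra h
    rw [not_nontrivial_iff_subsingleton] at h
    have : a = 1 := MulEquiv.ext fun x => Subsingleton.elim _ _
    rw [this, orderOf_one] at ha
    exact hp'.ne_one ha.symm
  obtain ⟨E, Q, S⟩ := exists_str hp2 hL hmc hnc
  have hm4 : 4 ≤ m := by
    have h := Subgroup.card_le_card_group Q
    rw [S.cardQ, hm] at h
    exact (Nat.pow_le_pow_iff_right hp'.one_lt).1 h
  haveI : E.Normal := ⟨fun e he g => by rw [S.memE] at he ⊢; rw [conj_pow, he, mul_one, mul_inv_cancel]⟩
  set G := SemidirectProduct L ↥(Subgroup.zpowers a) (Subgroup.zpowers a).subtype with hGdef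
  have : Finite G := Finite.of_equiv _ SemidirectProduct.equivProd.symm
  have hG : Nat.card G = p ^ (m + 1) := by
    rw [SemidirectProduct.card, hm, Nat.card_zpowers, ha, pow_succ]
  let ga : Subgroup.zpowers a := ⟨a, mem_zpowers a⟩
  have hact : ∀ (r : Subgroup.zpowers a) (x : L), a x = x → (r : MulAut L) x = x := by
    intro r x hx
    obtain ⟨k, hk⟩ := (mem_powers_iff_mem_zpowers.mpr r.2 : (r : MulAut L) ∈ Submonoid.powers a)
    rw [← show a ^ k = (r : MulAut L) from hk]
    clear hk
    induction k with
    | zero => rw [pow_zero, MulAut.one_apply]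
    | succ k ih => rw [pow_succ, MulAut.mul_apply, hx, ih]
  have hcomm : ∀ r r' : Subgroup.zpowers a, r * r' = r' * r := fun r r' => by
    haveI := (inferInstance : IsCyclic (Subgroup.zpowers a))
    exact Subtype.ext (by
      obtain ⟨i, hi⟩ := r.2
      obtain ⟨j, hj⟩ := r'.2
      rw [Subgroup.coe_mul, Subgroup.coe_mul, ← hi, ← hj]
      exact (zpow_add a i j).symm.trans ((congrArg (a ^ ·) (add_comm i j)).trans (zpow_add a j i)))
  constructor
  · rintro ⟨e, heo, hmov⟩
    have he : e ∈ E := (S.memE e).2 (orderOf_dvd_iff_pow_eq_one.1 heo.dvd)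
    have hp3 := S.eq_three hp2 a hap he hmov
    refine ⟨hp3, ?_⟩
    -- fixed points
    let F : Subgroup L :=
      { carrier := {v | a v = v}
        one_mem' := map_one a
        mul_mem' := fun {u v} (hu : a u = u) (hv : a v = v) => show a (u * v) = u * v by rw [map_mul, hu, hv]
        inv_mem' := fun {u} (hu : a u = u) => show a u⁻¹ = u⁻¹ by rw [map_inv, hu] }
    have hFE : F ≤ E := by
      intro y hy
      obtain ⟨s, hs⟩ := IsPGroup.iff_orderOf.mp hL y
      rcases Nat.lt_or_ge s 2 with h | h
      · rw [S.memE, ← orderOf_dvd_iff_pow_eq_one, hs]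
        conv_rhs => rw [← pow_one p]
        exact pow_dvd_pow p (by omega)
      · exfalso
        have h1 := S.no_fixed_nine hp3 a hap he hmov (y := y ^ p ^ (s - 2)) (by rw [map_pow, show a y = y from hy])
          (by rw [← pow_mul, ← pow_add, Nat.sub_add_cancel h, ← hs, pow_orderOf_eq_one])
        rw [← pow_mul, ← pow_succ, ← orderOf_dvd_iff_pow_eq_one, hs, Nat.pow_dvd_pow_iff_le_right hp'.one_lt] at h1
        omega
    have hFc : Nat.card F = p := by
      obtain ⟨i, hi, hFi⟩ := (Nat.dvd_prime_pow hp').1 (S.cardE ▸ Subgroup.card_dvd_of_le hFE : Nat.card F ∣ p ^ 2)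
      rcases (by omega : i = 0 ∨ i = 1 ∨ i = 2) with rfl | rfl | rfl
      · exfalso
        rw [pow_zero] at hFi
        have h1 : dlt a e ∈ F := by
          have := S.dlt_dlt a hap he
          rw [dlt, inv_mul_eq_one] at this
          exact this.symm
        rw [Subgroup.eq_bot_of_card_eq _ hFi, Subgroup.mem_bot, dlt, inv_mul_eq_one] at h1
        exact hmov h1.symm
      · rw [hFi, pow_one]
      · exfalso
        have : F = E := Subgroup.eq_of_le_of_card_ge hFE (by rw [hFi, S.cardE])
        exact hmov (show e ∈ F from this ▸ he)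
    let A : Subgroup G := Subgroup.centralizer ({SemidirectProduct.inr ga} : Set G)
    have hA : ∀ g : G, g ∈ A ↔ g.left ∈ F := by
      intro g
      rw [Subgroup.mem_centralizer_singleton_iff, SemidirectProduct.ext_iff]
      change (g.left * (g.right : MulAut L) 1 = 1 * a g.left ∧ g.right * ga = ga * g.right) ↔ a g.left = g.left
      rw [map_one, mul_one, one_mul]
      constructor
      · intro h; exact h.1.symm
      · intro h; exact ⟨(show a g.left = g.left from h).symm, hcomm _ _⟩
    have hAc : Nat.card A = p ^ 2 := by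
      rw [pow_two]
      conv_rhs => rw [← hFc]; arg 2; rw [hFc, ← ha, ← Nat.card_zpowers]
      rw [← Nat.card_prod]
      exact Nat.card_congr
        { toFun := fun g => (⟨g.1.left, (hA _).1 g.2⟩, g.1.right)
          invFun := fun q => ⟨⟨q.1.1, q.2⟩, (hA _).2 q.1.2⟩
          left_inv := fun g => rfl
          right_inv := fun q => rfl }
    have hAA : Subgroup.centralizer (A : Set G) = A := by
      refine le_antisymm ?_ ?_
      · intro g hg
        rw [Subgroup.mem_centralizer_singleton_iff]
        exact (Subgroup.mem_centralizer_iff.1 hg _ ((hA _).2 (by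
          rw [SemidirectProduct.left_inr]; exact F.one_mem))).symm
      · intro g hg
        rw [Subgroup.mem_centralizer_iff]
        intro v hv
        have h1 : a g.left = g.left := (hA g).1 hg
        have h2 : a v.left = v.left := (hA v).1 hv
        refine SemidirectProduct.ext ?_ (hcomm _ _)
        rw [SemidirectProduct.mul_left, SemidirectProduct.mul_left, Subgroup.coe_subtype, hact _ _ h1, hact _ _ h2]
        exact (S.comm _ (hFE h2) _ (S.le (hFE h1))).eq
    exact (CfsgLib.Transfer.class_eq_of_self_centralizing (m + 1) G hG A hAc hAA).trans (by omega)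
  · rintro ⟨hp3, hcl⟩
    by_contra h
    push Not at h
    have hfix : ∀ e ∈ E, a e = e := by
      intro e he
      rcases eq_or_ne e 1 with rfl | h1
      · exact map_one a
      · exact h e (orderOf_eq_prime ((S.memE e).1 he) h1)
    obtain ⟨hZ, hq, hqc⟩ := CfsgLib.Transfer.card_center_of_class (p := p) (n := m + 1)
      (by omega) hG (hcl.trans (by omega))
    obtain ⟨hZ2, -, -⟩ := CfsgLib.Transfer.card_center_of_class (p := p) (n := m)
      (G := G ⧸ center G) (by omega) (hqc.trans (by congr 1)) (hq.trans (by omega))
    have hnorm : ∀ (K : Subgroup L) [K.Characteristic],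
        (K.map (SemidirectProduct.inl : L →* G)).Normal := by
      intro K _
      refine ⟨?_⟩
      rintro _ ⟨k, hk, rfl⟩ g
      refine ⟨g.left * (g.right : MulAut L) k * g.left⁻¹, ?_, ?_⟩
      · have h1 : (g.right : MulAut L) k ∈ K := by
          have := Subgroup.characteristic_iff_comap_eq.1 ‹K.Characteristic› (g.right : MulAut L)
          rw [← this] at hk
          exact hk
        exact Subgroup.Normal.conj_mem inferInstance _ h1 _
      · ext <;> simp [mul_assoc]
    have hEch : E.Characteristic := Subgroup.characteristic_iff_comap_eq.2 fun φ => by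
      ext x
      rw [Subgroup.mem_comap, S.memE, S.memE, MulEquiv.coe_toMonoidHom, ← map_pow, MulEquiv.map_eq_one_iff]
    have hGp : IsPGroup p G := IsPGroup.of_card hG
    have hcardmap : ∀ K : Subgroup L, Nat.card (K.map (SemidirectProduct.inl : L →* G)) = Nat.card K := fun K =>
      (Nat.card_congr (Subgroup.equivMapOfInjective K _ SemidirectProduct.inl_injective).toEquiv).symm
    have hkey : ∀ (K : Subgroup L) [K.Characteristic], p < Nat.card K → E ≤ K := by
      intro K _ hK
      haveI := hnorm E
      haveI := hnorm K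
      have := le_of_normal hGp hZ hZ2 (E.map (SemidirectProduct.inl : L →* G))
        (K.map (SemidirectProduct.inl : L →* G)) (by rw [hcardmap, S.cardE]) (by rw [hcardmap]; exact hK)
      exact (Subgroup.map_le_map_iff_of_injective SemidirectProduct.inl_injective).1 this
    have hpsq : p < p ^ 2 := by rw [pow_two]; exact lt_mul_self hp'.one_lt
    obtain ⟨D⟩ := CfsgLib.PGroups.Metacyclic.exists_data hp2 hL hmc
    have hn : D.n ≤ 1 := by
      have h1 := D.card_commutator
      have h2 : Nat.card (commutator L) ≤ p := by
        by_contra hlt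
        push Not at hlt
        have hle := hkey (commutator L) hlt
        rw [D.commutator_eq] at hle
        obtain ⟨e, heE, he1⟩ := exists_prime_order_of_ne_bot hL (A := E) (p := p) (by
          intro hb
          have := S.cardE
          rw [hb, Subgroup.card_bot] at this
          linarith [hp'.two_le])
        have hsub : E ≤ zpowers e := by
          intro v hv
          obtain ⟨k, hk⟩ := mem_zpowers_of_cyclic (L := zpowers (D.a ^ D.d)) (x := ⟨e, hle heE⟩) (y := ⟨v, hle hv⟩)
            (p := p) (by rw [← Subgroup.orderOf_coe]; exact he1) (Subtype.ext ((S.memE v).1 hv))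
          exact ⟨k, congrArg Subtype.val hk⟩
        have h3 := Nat.le_of_dvd Nat.card_pos (Subgroup.card_dvd_of_le hsub)
        rw [S.cardE, Nat.card_zpowers, he1] at h3
        omega
      rw [h1] at h2
      by_contra hc
      have := Nat.pow_lt_pow_right hp'.one_lt (show 1 < D.n by omega)
      rw [pow_one] at this
      omega
    rcases le_or_gt (Nat.card (center L)) p with hZL | hZL
    · have h1 := D.card_eq
      rw [hm, ← pow_add] at h1
      have h2 : p ^ 4 ≤ p ^ 2 * p := by
        calc p ^ 4 ≤ p ^ m := Nat.pow_le_pow_right hp'.pos hm4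
          _ = p ^ (D.n + D.n) * Nat.card (center L) := h1
          _ ≤ p ^ 2 * p := Nat.mul_le_mul (Nat.pow_le_pow_right hp'.pos (by omega)) hZL
      rw [← pow_succ, Nat.pow_le_pow_iff_right hp'.one_lt] at h2
      omega
    · have hle := hkey (center L) hZL
      have h1 : E.map (SemidirectProduct.inl : L →* G) ≤ center G := by
        rintro _ ⟨e, he, rfl⟩
        rw [Subgroup.mem_center_iff]
        intro g
        refine SemidirectProduct.ext ?_ (by simp)
        simp only [SemidirectProduct.mul_left, SemidirectProduct.left_inl, SemidirectProduct.right_inl,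
          Subgroup.coe_subtype, hact _ e (hfix e he), map_one, MulAut.one_apply]
        exact Subgroup.mem_center_iff.1 (hle he) g.left
      have h2 := Nat.le_of_dvd Nat.card_pos (Subgroup.card_dvd_of_le h1)
      rw [hcardmap, S.cardE, hZ] at h2
      omega


/-- Let p be an odd prime and L a finite metacyclic p-group with no cyclic subgroup of index p, and let a be an automorphism of L of order p. Then a moves some element of order p of L if and only if p = 3 and the semidirect product L ⋊ ⟨a⟩ (of order 3·#L) has maximal class, i.e. nilpotency class m where #L = 3^m. -/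
theorem result {L : Type*} [Group L] [Finite L] {p : ℕ} [Fact p.Prime]
    (hp : p ≠ 2) (hL : IsPGroup p L) (hmc : Cfsg.IsMetacyclic L) (hnc : ∀ C : Subgroup L, IsCyclic C → C.index ≠ p)
    (a : MulAut L) (ha : orderOf a = p) (m : ℕ) (hm : Nat.card L = p ^ m) :
    (∃ x : L, orderOf x = p ∧ a x ≠ x) ↔
    (p = 3 ∧ Group.nilpotencyClass (SemidirectProduct L ↥(Subgroup.zpowers a) (Subgroup.zpowers a).subtype) = m) :=
  main hp hL hmc hnc a ha m hm

end Cfsg.Agent.S4079
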