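import Cfsg.Statements.S4080
import Mathlib

set_option autoImplicit false
open Cfsg

namespace Cfsg.Agent.S4080

open Matrix in
theorem key {p : ℕ} [Fact p.Prime] (hp : 3 < p) (A : Matrix (Fin 2) (Fin 2) (ZMod (p ^ 2)))
    (hA : A ^ p = 1) : (p : ZMod (p ^ 2)) • (A - 1) = 0 := by
  set B := A - 1 with hB
  have hA' : (B + 1) ^ p = 1 := by rw [hB, sub_add_cancel, hA]
  let c : ZMod (p ^ 2) →+* ZMod p := ZMod.castHom (dvd_pow_self p two_ne_zero) _
  set Bb := c.mapMatrix B with hBb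
  have hnil : Bb ^ p = 0 := by
    have h := congrArg c.mapMatrix hA'
    rw [map_pow, map_add, map_one, add_pow_char_of_commute p (Commute.one_right _), one_pow] at h
    simpa [hBb] using h
  have htr : Bb 0 0 + Bb 1 1 = 0 := by
    have := Matrix.isNilpotent_trace_of_isNilpotent ⟨p, hnil⟩
    simpa [Matrix.trace_fin_two] using this.eq_zero
  have hdet : Bb 0 0 * Bb 1 1 - Bb 0 1 * Bb 1 0 = 0 := by
    have h := congrArg Matrix.det hnil
    rw [Matrix.det_pow, Matrix.det_zero] at h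
    rw [← Matrix.det_fin_two]
    exact (pow_eq_zero_iff (Fact.out : p.Prime).ne_zero).1 h
  have hsq : Bb * Bb = 0 := by
    ext i j
    fin_cases i <;> fin_cases j <;> simp [Matrix.mul_apply, Fin.sum_univ_two]
    · linear_combination (Bb 0 0) * htr - hdet
    · linear_combination (Bb 0 1) * htr
    · linear_combination (Bb 1 0) * htr
    · linear_combination (Bb 1 1) * htr - hdet
  have hC : ∀ x : ZMod (p ^ 2), c x = 0 → ∃ y, x = p * y := by
    intro x hx
    obtain ⟨n, rfl⟩ := ZMod.natCast_zmod_surjective x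
    rw [map_natCast, ZMod.natCast_eq_zero_iff] at hx
    obtain ⟨m, rfl⟩ := hx
    exact ⟨m, by push_cast; rfl⟩
  choose C hC' using fun i j => hC ((B * B) i j) (by
    have : c.mapMatrix (B * B) = 0 := by rw [map_mul, ← hBb, hsq]
    simpa using congrFun (congrFun this i) j)
  have hB2 : B * B = (p : ZMod (p ^ 2)) • Matrix.of C := by
    ext i j; simp [hC' i j]
  have hpp : (p : ZMod (p ^ 2)) * p = 0 := by rw [← Nat.cast_mul, ← pow_two, ZMod.natCast_self]
  have hhigh : ∀ k, 2 ≤ k → (p : ZMod (p ^ 2)) • B ^ k = 0 := by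
    intro k hk
    obtain ⟨m, rfl⟩ := Nat.exists_eq_add_of_le hk
    rw [pow_add, show B ^ 2 = B * B from pow_two B, hB2, Matrix.smul_mul, smul_smul, hpp, zero_smul]
  have hBp : B ^ p = 0 := by
    have : B ^ 4 = 0 := by rw [show B ^ 4 = (B * B) * (B * B) by noncomm_ring, hB2, Matrix.smul_mul, Matrix.mul_smul, smul_smul, hpp, zero_smul]
    exact pow_eq_zero_of_le hp this
  rw [Commute.add_pow (Commute.one_right B)] at hA'
  rw [Finset.sum_eq_add_of_mem 0 1 (by simp) (by simp; omega) zero_ne_one] at hA'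
  · simp only [one_pow, mul_one, pow_zero, Nat.choose_zero_right, Nat.cast_one, pow_one, Nat.choose_one_right] at hA'
    rw [show (p : ZMod (p ^ 2)) • B = B * (p : Matrix (Fin 2) (Fin 2) (ZMod (p ^ 2))) by
      rw [← Nat.cast_comm, Nat.cast_smul_eq_nsmul, nsmul_eq_mul]]
    simpa using hA'
  · rintro k hk ⟨h0, h1⟩
    rw [Finset.mem_range] at hk
    rcases eq_or_lt_of_le (Nat.le_of_lt_succ hk) with rfl | hlt
    · simp [hBp]
    · obtain ⟨m, hm⟩ := (Fact.out : p.Prime).dvd_choose_self h0 hlt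
      rw [one_pow, mul_one, hm, Nat.cast_mul, ← mul_assoc, ← Nat.cast_comm p (B ^ k), ← nsmul_eq_mul p (B ^ k),
        ← Nat.cast_smul_eq_nsmul (ZMod (p ^ 2)), hhigh k (by omega), zero_mul]

/-- Let p > 3 be a prime and L the direct product of two cyclic groups of order p². Every automorphism of L of order p fixes every element of order p of L. -/
theorem result {p : ℕ} [Fact p.Prime] (hp : 3 < p)
    (a : MulAut (Multiplicative (ZMod (p ^ 2) × ZMod (p ^ 2)))) (ha : orderOf a = p)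
    (x : Multiplicative (ZMod (p ^ 2) × ZMod (p ^ 2))) (hx : orderOf x = p) : a x = x := by
  let φ : MulAut (Multiplicative (ZMod (p ^ 2) × ZMod (p ^ 2))) →* Module.End (ZMod (p ^ 2)) (ZMod (p ^ 2) × ZMod (p ^ 2)) :=
    { toFun := fun f => AddMonoidHom.toZModLinearMap (p ^ 2)
        { toFun := fun v : (ZMod (p ^ 2) × ZMod (p ^ 2)) => Multiplicative.toAdd (f (Multiplicative.ofAdd v))
          map_zero' := by simp
          map_add' := fun u v => by simp [ofAdd_add] }
      map_one' := rfl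
      map_mul' := fun _ _ => rfl }
  let b := Module.Basis.finTwoProd (ZMod (p ^ 2))
  set A := LinearMap.toMatrixAlgEquiv b (φ a) with hAdef
  have hA : A ^ p = 1 := by
    rw [hAdef, ← map_pow, ← map_pow, orderOf_dvd_iff_pow_eq_one.1 ha.dvd, map_one, map_one]
  have h := key hp A hA
  have h' : (p : ZMod (p ^ 2)) • (φ a - 1) = 0 := by
    apply (LinearMap.toMatrixAlgEquiv b).injective
    rw [map_smul, map_sub, map_one, map_zero]
    exact h
  set v : (ZMod (p ^ 2) × ZMod (p ^ 2)) := Multiplicative.toAdd x with hv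
  have hpv : (p : ℕ) • v = 0 := by
    rw [hv, ← toAdd_pow, orderOf_dvd_iff_pow_eq_one.1 hx.dvd, toAdd_one]
  have hdiv : ∀ t : ZMod (p ^ 2), p • t = 0 → ∃ w, t = p • w := by
    intro t ht
    obtain ⟨n, rfl⟩ := ZMod.natCast_zmod_surjective t
    rw [nsmul_eq_mul, ← Nat.cast_mul, ZMod.natCast_eq_zero_iff, pow_two] at ht
    obtain ⟨m, rfl⟩ := Nat.dvd_of_mul_dvd_mul_left (Fact.out : p.Prime).pos ht
    exact ⟨m, by rw [nsmul_eq_mul, Nat.cast_mul]⟩
  obtain ⟨w1, hw1⟩ := hdiv v.1 (congrArg Prod.fst hpv)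
  obtain ⟨w2, hw2⟩ := hdiv v.2 (congrArg Prod.snd hpv)
  have hvw : v = (p : ZMod (p ^ 2)) • ((w1, w2) : (ZMod (p ^ 2) × ZMod (p ^ 2))) := by
    rw [Nat.cast_smul_eq_nsmul]; exact Prod.ext hw1 hw2
  have : φ a v = v := by
    rw [← sub_eq_zero, hvw, map_smul, ← smul_sub]
    exact LinearMap.congr_fun h' (w1, w2)
  exact congrArg Multiplicative.ofAdd this

end Cfsg.Agent.S4080
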