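import Cfsg.Statements.S4081
import Cfsg.Agent.Lib.ClassSizes.PrimeLinear
import Cfsg.Agent.Lib.Char.Burnside

set_option autoImplicit false
open Cfsg

namespace Cfsg.Agent.S4081

open CfsgLib.ClassSizes
open scoped IsMulCommutative

variable {G : Type*} [Group G]


/-- Conjugation on a normal abelian subgroup of exponent `p`, as linear maps. -/
noncomputable def rho (p : ℕ) (D : Subgroup G) [D.Normal] [IsMulCommutative D]
    [Module (ZMod p) (Additive D)] : G →* Module.End (ZMod p) (Additive D) where
  toFun g := AddMonoidHom.toZModLinearMap p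
    (MonoidHom.toAdditive (MulAut.conjNormal g : MulAut D).toMonoidHom)
  map_one' := by ext v; simp
  map_mul' g h := by ext v; simp

theorem rho_apply {p : ℕ} (D : Subgroup G) [D.Normal] [IsMulCommutative D]
    [Module (ZMod p) (Additive D)] (g : G) (v : Additive D) :
    ((Additive.toMul (rho p D g v) : D) : G) = g * ((Additive.toMul v : D) : G) * g⁻¹ := by
  simp [rho]

theorem rho_of_mem {p : ℕ} (D : Subgroup G) [D.Normal] [hc : IsMulCommutative D]
    [Module (ZMod p) (Additive D)] {d : G} (hd : d ∈ D) : rho p D d = 1 := by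
  refine LinearMap.ext fun v => Additive.toMul.injective (Subtype.ext ?_)
  rw [rho_apply, Module.End.one_apply, mul_inv_eq_iff_eq_mul]
  exact congrArg Subtype.val (hc.is_comm.comm ⟨d, hd⟩ (Additive.toMul v))

theorem exists_complement_decomp [Finite G] {D : Subgroup G} [D.Normal] {x : G}
    (hc : D.IsComplement' (Subgroup.zpowers x)) (g : G) : ∃ d ∈ D, ∃ i : ℕ, g = d * x ^ i := by
  obtain ⟨d, hd, y, hy, h⟩ := (Set.eq_univ_iff_forall.1 hc.mul_eq) g
  obtain ⟨i, rfl⟩ := mem_powers_iff_mem_zpowers.2 hy
  exact ⟨d, hd, i, h.symm⟩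

/-- The forward direction, `p` being the prime of a characteristic abelian subgroup. -/
theorem forward [Finite G] (p q a b : ℕ) [Fact p.Prime] [Fact q.Prime] (hpq : p ≠ q)
    (hq : ∃ g : G, orderOf g = q) (hcard : Nat.card G = p ^ a * q ^ b)
    (hord : ∀ g : G, orderOf g = 1 ∨ orderOf g = p ∨ orderOf g = q)
    (htr : ∀ g h : G, orderOf g = orderOf h → ∃ σ : MulAut G, σ g = h)
    (D : Subgroup G) [D.Characteristic] [hDab : IsMulCommutative D] (d₀ : G) (hd₀ : d₀ ∈ D) (hd₀p : orderOf d₀ = p) :
    ∃ (p q n : ℕ) (_ : Fact p.Prime) (_ : Fact q.Prime), p ≠ q ∧ 1 ≤ n ∧ Nat.card G = p ^ n * q ∧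
      (∀ P : Sylow p G, (P : Subgroup G).Normal ∧ Cfsg.IsElementaryAbelian p (P : Subgroup G)) ∧
      orderOf (p : ZMod q) = q - 1 ∧
      ∀ x y : G, orderOf x = q → orderOf y = p → x * y * x⁻¹ ≠ y := by
  have hpp := (Fact.out : p.Prime)
  have hqp := (Fact.out : q.Prime)
  have hpqco : Nat.Coprime p q := (Nat.coprime_primes hpp hqp).2 hpq
  have hnocomm : ∀ u v : G, orderOf u = p → orderOf v = q → ¬ Commute u v := by
    intro u v hu hv hc
    have h := hc.orderOf_mul_eq_mul_orderOf_of_coprime (by rw [hu, hv]; exact hpqco)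
    rw [hu, hv] at h
    rcases hord (u * v) with h' | h' | h' <;> rw [h] at h'
    · exact hpp.ne_one (Nat.eq_one_of_mul_eq_one_right h')
    · exact hqp.ne_one ((Nat.mul_eq_left hpp.ne_zero).1 h')
    · exact hpp.ne_one ((Nat.mul_eq_right hqp.ne_zero).1 h')
  have hmemD : ∀ g : G, g ∈ D ↔ g = 1 ∨ orderOf g = p := by
    intro g
    constructor
    · intro hg
      rcases hord g with h | h | h
      · exact Or.inl (orderOf_eq_one_iff.1 h)
      · exact Or.inr h
      · exact absurd (congrArg Subtype.val (hDab.is_comm.comm ⟨d₀, hd₀⟩ ⟨g, hg⟩)) (hnocomm d₀ g hd₀p h)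
    · rintro (rfl | h)
      · exact one_mem _
      · obtain ⟨σ, rfl⟩ := htr d₀ g (by rw [hd₀p, h])
        have := (Subgroup.characteristic_iff_comap_eq.1 ‹D.Characteristic›) σ
        rw [← this] at hd₀
        exact hd₀
  have hexp : ∀ d : D, d ^ p = 1 := by
    intro d
    rcases (hmemD d).1 d.2 with h | h
    · exact Subtype.ext (by simp [h])
    · exact Subtype.ext (by rw [SubmonoidClass.coe_pow]; exact h ▸ pow_orderOf_eq_one (d : G))
  have hDp : IsPGroup p D := fun d => ⟨1, by rw [pow_one]; exact hexp d⟩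
  have hP : ∀ P : Sylow p G, (P : Subgroup G) = D := by
    intro P
    refine le_antisymm (fun g hg => (hmemD g).2 ?_) (hDp.le_sylow_of_normal P)
    obtain ⟨k, hk⟩ := IsPGroup.iff_orderOf.1 P.isPGroup' ⟨g, hg⟩
    rw [Subgroup.orderOf_mk] at hk
    rcases hord g with h | h | h
    · exact Or.inl (orderOf_eq_one_iff.1 h)
    · exact Or.inr h
    · rw [h] at hk
      obtain ⟨i, -, hi⟩ := (Nat.dvd_prime_pow hpp).1 (dvd_refl (p ^ k))
      rcases Nat.eq_zero_or_pos k with rfl | hkp
      · exact absurd hk hqp.ne_one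
      · exact absurd ((Nat.prime_dvd_prime_iff_eq hpp hqp).1 (hk ▸ dvd_pow_self p hkp.ne')) hpq
  let _ : Module (ZMod p) (Additive D) := AddCommGroup.zmodModule (n := p) fun v => Additive.toMul.injective (hexp (Additive.toMul v))
  have hVnt : Nontrivial (Additive D) :=
    ⟨Additive.ofMul ⟨d₀, hd₀⟩, 0, fun h => by
      have : d₀ = 1 := congrArg Subtype.val (Additive.ofMul.injective h)
      rw [this, orderOf_one] at hd₀p; exact hpp.ne_one hd₀p.symm⟩
  have hfpf : ∀ c : G, orderOf c = q → ∀ v : Additive D, rho p D c v = v → v = 0 := by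
    intro c hc v hv
    have h := congrArg (fun w : Additive D => ((Additive.toMul w : D) : G)) hv
    simp only [rho_apply, mul_inv_eq_iff_eq_mul] at h
    rcases (hmemD _).1 (Additive.toMul v).2 with h' | h'
    · exact Additive.toMul.injective (Subtype.ext h')
    · exact absurd h.symm (hnocomm _ c h' hc)
  -- the Sylow q-subgroups have order q
  obtain ⟨Q⟩ := (inferInstance : Nonempty (Sylow q G))
  have hQcard : Nat.card (Q : Subgroup G) = q ^ b := by
    rw [Q.card_eq_multiplicity, hcard, Nat.factorization_mul (pow_ne_zero _ hpp.ne_zero) (pow_ne_zero _ hqp.ne_zero)]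
    simp [hpp.factorization, hqp.factorization, hpq]
  have hQord : ∀ c ∈ (Q : Subgroup G), c ≠ 1 → orderOf c = q := by
    intro c hc hc1
    obtain ⟨k, hk⟩ := IsPGroup.iff_orderOf.1 Q.isPGroup' ⟨c, hc⟩
    rw [Subgroup.orderOf_mk] at hk
    rcases hord c with h | h | h
    · exact absurd (orderOf_eq_one_iff.1 h) hc1
    · rw [h] at hk
      rcases Nat.eq_zero_or_pos k with rfl | hkp
      · exact absurd hk hpp.ne_one
      · exact absurd ((Nat.prime_dvd_prime_iff_eq hqp hpp).1 (hk ▸ dvd_pow_self q hkp.ne')) (Ne.symm hpq)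
    · exact h
  obtain ⟨g₀, hg₀⟩ := hq
  have hb : b = 1 := by
    have hb0 : b ≠ 0 := by
      rintro rfl
      have h := hg₀ ▸ orderOf_dvd_natCard g₀
      rw [hcard, pow_zero, mul_one] at h
      exact hpq ((Nat.prime_dvd_prime_iff_eq hqp hpp).1 (hqp.dvd_of_dvd_pow h)).symm
    by_contra hb1
    have : Nontrivial (Q : Subgroup G) := by
      rw [← Finite.one_lt_card_iff_nontrivial, hQcard]; exact Nat.one_lt_pow hb0 hqp.one_lt
    have := Q.isPGroup'.center_nontrivial
    obtain ⟨⟨⟨z, hzQ⟩, hzc⟩, hz1⟩ := exists_ne (1 : Subgroup.center (Q : Subgroup G))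
    have hz1' : z ≠ 1 := fun e => hz1 (Subtype.ext (Subtype.ext e))
    have hzo := hQord z hzQ hz1'
    obtain ⟨y, hyQ, hyz⟩ : ∃ y ∈ (Q : Subgroup G), y ∉ Subgroup.zpowers z := by
      by_contra! h
      have := Subgroup.card_le_of_le h
      rw [hQcard, Nat.card_zpowers, hzo] at this
      exact absurd this (not_le.2 ((pow_one q).symm.trans_lt (Nat.pow_lt_pow_right hqp.one_lt (by omega))))
    have hzy : Commute z y := by
      exact (congrArg Subtype.val (Subgroup.mem_center_iff.1 hzc ⟨y, hyQ⟩)).symm
    have hyo := hQord y hyQ fun e => hyz (e ▸ one_mem _)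
    set A : G →* Module.End (ZMod p) (Additive D) := rho p D
    have hsum : ∀ c : G, orderOf c = q → ∑ i ∈ Finset.range q, A (c ^ i) = 0 := by
      intro c hc
      have := PrimeLinear.sum_pow_eq_zero (q := q) (A c) (by rw [← map_pow, ← hc, pow_orderOf_eq_one, map_one]) (hfpf c hc)
      rw [Polynomial.cyclotomic_prime, map_sum] at this
      simpa [map_pow] using this
    have h1 : ∑ j ∈ Finset.range q, ∑ i ∈ Finset.range q, A ((z ^ j * y) ^ i) = 0 := by
      refine Finset.sum_eq_zero fun j _ => hsum _ (hQord _ (mul_mem (pow_mem hzQ j) hyQ) fun e => hyz ?_)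
      rw [← inv_eq_of_mul_eq_one_right e]
      exact inv_mem (Subgroup.pow_mem _ (Subgroup.mem_zpowers z) j)
    rw [Finset.sum_comm, Finset.sum_eq_single_of_mem 0 (Finset.mem_range.2 hqp.pos)] at h1
    · simp only [pow_zero, map_one, Finset.sum_const, Finset.card_range] at h1
      obtain ⟨v, hv⟩ := exists_ne (0 : Additive D)
      apply hv
      have h2 : q • v = 0 := by simpa using LinearMap.congr_fun h1 v
      have h3 : p • v = 0 := Additive.toMul.injective (hexp (Additive.toMul v))
      have := gcd_nsmul_eq_zero.2 ⟨h3, h2⟩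
      rwa [hpqco, one_nsmul] at this
    · intro i hi hi0
      have hzi : orderOf (z ^ i) = q := by
        refine hQord _ (pow_mem hzQ i) fun e => ?_
        have := orderOf_dvd_of_pow_eq_one e
        rw [hzo] at this
        have := Nat.le_of_dvd (Nat.pos_of_ne_zero hi0) this
        rw [Finset.mem_range] at hi
        omega
      have : ∀ j, A ((z ^ j * y) ^ i) = A ((z ^ i) ^ j) * A (y ^ i) := fun j => by
        rw [(hzy.pow_left j).mul_pow, map_mul, ← pow_mul, ← pow_mul, mul_comm]
      simp_rw [this]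
      rw [← Finset.sum_mul, hsum _ hzi, zero_mul]
  subst hb
  rw [pow_one] at hcard hQcard
  obtain ⟨x, hx⟩ : ∃ x : G, orderOf x = q := ⟨g₀, hg₀⟩
  have ha : 1 ≤ a := by
    by_contra h
    have h0 : a = 0 := by omega
    rw [h0, pow_zero, one_mul] at hcard
    have := hd₀p ▸ orderOf_dvd_natCard d₀
    rw [hcard] at this
    exact hpq ((Nat.prime_dvd_prime_iff_eq hpp hqp).1 this)
  have hc : D.IsComplement' (Subgroup.zpowers x) := by
    obtain ⟨P⟩ := (inferInstance : Nonempty (Sylow p G))
    have hDcard : Nat.card D = p ^ a := by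
      rw [← hP P, P.card_eq_multiplicity, hcard, Nat.factorization_mul (pow_ne_zero _ hpp.ne_zero) hqp.ne_zero]
      simp [hpp.factorization, hqp.factorization, Ne.symm hpq]
    refine Subgroup.isComplement'_of_coprime ?_ ?_
    · rw [hDcard, Nat.card_zpowers, hx, hcard]
    · rw [hDcard, Nat.card_zpowers, hx]; exact Nat.Coprime.pow_left _ hpqco
  refine ⟨p, q, a, ‹_›, ‹_›, hpq, ha, hcard, fun P => ?_, ?_, fun u v hu hv h => ?_⟩
  · rw [hP P]
    exact ⟨inferInstance, hDab, fun d hd => by simpa using congrArg Subtype.val (hexp ⟨d, hd⟩)⟩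
  · let lin : MulAut G → (Additive D →ₗ[ZMod p] Additive D) := fun σ => AddMonoidHom.toZModLinearMap p
      (MonoidHom.toAdditive ((σ.toMonoidHom.comp D.subtype).codRestrict D fun d => by
        have := (Subgroup.characteristic_iff_comap_eq.1 ‹D.Characteristic›) σ
        exact (SetLike.ext_iff.1 this (d : G)).2 d.2))
    have hlin : ∀ σ v, ((Additive.toMul (lin σ v) : D) : G) = σ ((Additive.toMul v : D) : G) := fun _ _ => rfl
    have hlinT : ∀ (σ : MulAut G) (w : Additive D), lin σ (rho p D x w) = rho p D (σ x) (lin σ w) := by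
      intro σ w
      apply Additive.toMul.injective
      apply Subtype.ext
      rw [hlin, rho_apply, rho_apply, hlin, map_mul, map_mul, map_inv]
    have hTq : (rho p D x) ^ q = 1 := by rw [← map_pow, ← hx, pow_orderOf_eq_one, map_one]
    refine PrimeLinear.orderOf_eq_sub_one hpq (rho p D x) hTq (hfpf x hx) ?_ ?_
    · intro v u hv hu
      have ho : ∀ w : Additive D, w ≠ 0 → orderOf ((Additive.toMul w : D) : G) = p := fun w hw =>
        ((hmemD _).1 (Additive.toMul w).2).resolve_left fun h => hw (Additive.toMul.injective (Subtype.ext h))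
      obtain ⟨σ, hσ⟩ := htr _ _ ((ho v hv).trans (ho u hu).symm)
      obtain ⟨d, hd, i, hi⟩ := exists_complement_decomp hc (σ x)
      have hσi : rho p D (σ x) = (rho p D x) ^ i := by rw [hi, map_mul, rho_of_mem D hd, one_mul, map_pow]
      refine ⟨i, lin σ, ?_, Additive.toMul.injective (Subtype.ext (by rw [hlin]; exact hσ)), fun w => by rw [hlinT, hσi]⟩
      rintro ⟨k, rfl⟩
      rw [pow_mul, ← hx, pow_orderOf_eq_one, one_pow, mul_one] at hi
      have hσo : orderOf (σ x) = q := by rw [MulEquiv.orderOf_eq, hx]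
      rcases (hmemD _).1 hd with h | h
      · rw [hi, h, orderOf_one] at hσo; exact hqp.ne_one hσo.symm
      · rw [hi, h] at hσo; exact hpq hσo
    · intro i hi
      have hxi : orderOf (x ^ i) = q := by
        rw [Nat.Coprime.orderOf_pow, hx]
        rw [hx]; exact (hqp.coprime_iff_not_dvd).2 hi
      obtain ⟨σ, hσ⟩ := htr x (x ^ i) (by rw [hx, hxi])
      have hinj : Function.Injective (lin σ) := by
        intro v w h
        exact Additive.toMul.injective (Subtype.ext (σ.injective (by rw [← hlin, ← hlin, h])))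
      refine ⟨LinearEquiv.ofBijective (lin σ) ⟨hinj, Finite.injective_iff_surjective.1 hinj⟩, fun w => ?_⟩
      show lin σ (rho p D x w) = _
      rw [hlinT, hσ, map_pow]
      rfl
  · exact hnocomm v u hv hu ((mul_inv_eq_iff_eq_mul.1 h).symm)

/-- Automorphisms extending a map of `D` and sending `x` to `g`. -/
theorem exists_aut [Finite G] {D : Subgroup G} [D.Normal] {x g : G}
    (hc : D.IsComplement' (Subgroup.zpowers x)) (hc' : D.IsComplement' (Subgroup.zpowers g))
    (hog : orderOf g ∣ orderOf x)
    (S : D →* D) (hS : Function.Injective S)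
    (hcomp : ∀ d : D, (S (MulAut.conjNormal x d) : G) = g * (S d : G) * g⁻¹) :
    ∃ σ : MulAut G, σ x = g ∧ ∀ d : D, σ (d : G) = (S d : G) := by
  let K := Subgroup.zpowers x
  have hgen : ∀ k : K, k ∈ Subgroup.zpowers (⟨x, Subgroup.mem_zpowers x⟩ : K) := by
    rintro ⟨k, j, rfl⟩
    exact ⟨j, Subtype.ext (by simp)⟩
  let fg : K →* G := monoidHomOfForallMemZpowers hgen (g' := g) (by rwa [Subgroup.orderOf_mk])
  have hfg : fg ⟨x, Subgroup.mem_zpowers x⟩ = g := monoidHomOfForallMemZpowers_apply_gen _ _
  have hcn : ∀ (k : K) (d : D), (S (MulAut.conjNormal (k : G) d) : G) = fg k * (S d : G) * (fg k)⁻¹ := by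
    intro k
    obtain ⟨j, hj⟩ := mem_powers_iff_mem_zpowers.2 (hgen k)
    simp only at hj
    rw [← hj, map_pow, hfg, SubmonoidClass.coe_pow]
    clear hj
    induction j with
    | zero => intro d; simp
    | succ j ih =>
      intro d
      have e : (MulAut.conjNormal (x ^ (j + 1)) d : D) = MulAut.conjNormal (x ^ j) (MulAut.conjNormal x d) := by
        rw [pow_succ, map_mul, MulAut.mul_apply]
      rw [e, ih, hcomp, pow_succ]
      group
  let e := SemidirectProduct.mulEquivSubgroup hc
  let F : (D ⋊[(D.normalizerMonoidHom).comp (Subgroup.inclusion (D.normalizer_eq_top ▸ le_top))] K) →* G :=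
    SemidirectProduct.lift (D.subtype.comp S) fg (by
      intro k
      ext d
      refine Eq.trans ?_ (hcn k d)
      show (S _ : G) = (S _ : G)
      congr 2)
  let f : G →* G := F.comp e.symm.toMonoidHom
  have hfD : ∀ d : D, f (d : G) = (S d : G) := by
    intro d
    have he : e.symm (d : G) = SemidirectProduct.inl d := by
      rw [MulEquiv.symm_apply_eq]; simp [e, SemidirectProduct.monoidHomSubgroup]
    show F (e.symm (d : G)) = _
    rw [he]; simp [F]
  have hfx : f x = g := by
    have he : e.symm x = SemidirectProduct.inr ⟨x, Subgroup.mem_zpowers x⟩ := by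
      rw [MulEquiv.symm_apply_eq]; simp [e, SemidirectProduct.monoidHomSubgroup]
    show F (e.symm x) = _
    rw [he]; simp [F, hfg]
  have hsur : Function.Surjective f := by
    rw [← MonoidHom.range_eq_top, eq_top_iff]
    rintro w -
    obtain ⟨d, hd, i, rfl⟩ := exists_complement_decomp hc' w
    obtain ⟨d', hd'⟩ := Finite.injective_iff_surjective.1 hS ⟨d, hd⟩
    refine mul_mem (MonoidHom.mem_range.2 ⟨(d' : G), ?_⟩) (pow_mem (MonoidHom.mem_range.2 ⟨x, hfx⟩) i)
    rw [hfD, hd']
  exact ⟨MulEquiv.ofBijective f ⟨Finite.injective_iff_surjective.2 hsur, hsur⟩, hfx, hfD⟩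

/-- The converse direction. -/
theorem backward [Finite G] (p q n : ℕ) [Fact p.Prime] [Fact q.Prime] (hpq : p ≠ q) (hn : 1 ≤ n)
    (hcard : Nat.card G = p ^ n * q)
    (hP : ∀ P : Sylow p G, (P : Subgroup G).Normal ∧ Cfsg.IsElementaryAbelian p (P : Subgroup G))
    (hord : orderOf (p : ZMod q) = q - 1)
    (hfp : ∀ x y : G, orderOf x = q → orderOf y = p → x * y * x⁻¹ ≠ y) :
    (∀ g : G, orderOf g = 1 ∨ orderOf g = p ∨ orderOf g = q) ∧
      ∀ g h : G, orderOf g = orderOf h → ∃ σ : MulAut G, σ g = h := by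
  have hpp := (Fact.out : p.Prime)
  have hqp := (Fact.out : q.Prime)
  have hpqco : Nat.Coprime p q := (Nat.coprime_primes hpp hqp).2 hpq
  obtain ⟨P⟩ := (inferInstance : Nonempty (Sylow p G))
  obtain ⟨hPn, hPab, hPexp⟩ := hP P
  set D := (P : Subgroup G)
  have hDcard : Nat.card D = p ^ n := by
    rw [P.card_eq_multiplicity, hcard, Nat.factorization_mul (pow_ne_zero _ hpp.ne_zero) hqp.ne_zero]
    simp [hpp.factorization, hqp.factorization, Ne.symm hpq]
  obtain ⟨x, hx⟩ := exists_prime_orderOf_dvd_card' (G := G) q (by rw [hcard]; exact Dvd.intro_left _ rfl)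
  have hpord : ∀ g, orderOf g = p → g ∈ D := by
    intro g hg
    obtain ⟨R, hR⟩ := (IsPGroup.of_card (n := 1) (by rw [Nat.card_zpowers, pow_one]; exact hg) : IsPGroup p (Subgroup.zpowers g)).exists_le_sylow
    have hsub : Subsingleton (Sylow p G) := @Unique.instSubsingleton _ (Sylow.unique_of_normal P hPn)
    rw [Subsingleton.elim R P] at hR
    exact hR (Subgroup.mem_zpowers g)
  have hexp : ∀ d : D, d ^ p = 1 := fun d => Subtype.ext (by simpa using hPexp d d.2)
  have hDord : ∀ d ∈ D, d ≠ 1 → orderOf d = p := fun d hd hd1 => orderOf_eq_prime (hPexp d hd) hd1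
  have hout : ∀ g, g ∉ D → orderOf g = q := by
    intro g hg
    have hdvd : orderOf g ∣ p ^ n * q := hcard ▸ orderOf_dvd_natCard g
    have hgq : g ^ q ∈ D := by
      have hidx : D.index = q := by
        have h := D.card_mul_index
        rw [hDcard, hcard] at h
        exact Nat.eq_of_mul_eq_mul_left (pow_pos hpp.pos n) h
      rw [← QuotientGroup.eq_one_iff, QuotientGroup.mk_pow, ← hidx]
      exact pow_card_eq_one'
    rcases eq_or_ne (g ^ q) 1 with h1 | h1
    · exact orderOf_eq_prime h1 fun e => hg (e ▸ one_mem _)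
    exfalso
    have hgp : orderOf (g ^ q) = p := hDord _ hgq h1
    have hw : orderOf (g ^ p) ∣ q := by
      rw [orderOf_dvd_iff_pow_eq_one, ← pow_mul, mul_comm, pow_mul]
      exact hPexp _ hgq
    rcases (Nat.dvd_prime hqp).1 hw with h | h
    · apply hg
      rw [orderOf_eq_one_iff] at h
      obtain ⟨a, ha⟩ := Nat.exists_mul_mod_eq_one_of_coprime hpqco.symm hpp.one_lt
      have : g = (g ^ q) ^ a := by rw [← pow_mul, pow_eq_pow_mod _ h, ha.2, pow_one]
      rw [this]; exact pow_mem hgq a
    · exact hfp (g ^ p) (g ^ q) h hgp (by rw [((Commute.refl g).pow_pow p q).eq]; group)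
  refine ⟨fun g => ?_, ?_⟩
  · by_cases hg : g ∈ D
    · rcases eq_or_ne g 1 with rfl | h
      · exact Or.inl orderOf_one
      · exact Or.inr (Or.inl (hDord g hg h))
    · exact Or.inr (Or.inr (hout g hg))
  let _ : Module (ZMod p) (Additive D) := AddCommGroup.zmodModule (n := p) fun v => Additive.toMul.injective (hexp (Additive.toMul v))
  have hfix : ∀ v : Additive D, rho p D x v = v → v = 0 := by
    intro v hv
    by_contra h
    have h' := congrArg (fun w : Additive D => ((Additive.toMul w : D) : G)) hv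
    simp only [rho_apply] at h'
    exact hfp x _ hx (hDord _ (Additive.toMul v).2 fun e => h (Additive.toMul.injective (Subtype.ext e))) h'
  obtain ⟨htrans, hpows⟩ := PrimeLinear.exists_symmetry hpq hord (rho p D x)
    (by rw [← map_pow, ← hx, pow_orderOf_eq_one, map_one]) hfix
  have hcompl : ∀ g, orderOf g = q → D.IsComplement' (Subgroup.zpowers g) := fun g hg =>
    Subgroup.isComplement'_of_coprime (by rw [hDcard, Nat.card_zpowers, hg, hcard])
      (by rw [hDcard, Nat.card_zpowers, hg]; exact Nat.Coprime.pow_left _ hpqco)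
  have mk : ∀ (g : G) (S : Additive D ≃+ Additive D), orderOf g = q →
      (∀ w, S (rho p D x w) = rho p D g (S w)) →
      ∃ σ : MulAut G, σ x = g ∧ ∀ v : Additive D, σ ((Additive.toMul v : D) : G) = ((Additive.toMul (S v) : D) : G) := by
    intro g S hg hS
    obtain ⟨σ, h1, h2⟩ := exists_aut (hcompl x hx) (hcompl g hg) (by rw [hx, hg])
      (MonoidHom.toAdditive.symm S.toAddMonoidHom)
      (fun a b h => Additive.ofMul.injective (S.injective (Additive.toMul.injective h)))
      (fun d => by
        have := congrArg (fun w : Additive D => ((Additive.toMul w : D) : G)) (hS (Additive.ofMul d))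
        simp only [rho_apply] at this
        exact this)
    exact ⟨σ, h1, fun v => h2 (Additive.toMul v)⟩
  have horbq : ∀ g, orderOf g = q → ∃ σ : MulAut G, σ x = g := by
    intro g hg
    obtain ⟨d, hd, i, rfl⟩ := exists_complement_decomp (hcompl x hx) g
    have hi : ¬ q ∣ i := by
      rintro ⟨k, rfl⟩
      rw [pow_mul, ← hx, pow_orderOf_eq_one, one_pow, mul_one] at hg
      rcases eq_or_ne d 1 with h | h
      · rw [h, orderOf_one] at hg; exact hqp.ne_one (hg.trans hx).symm
      · rw [hDord d hd h] at hg; exact hpq (hg.trans hx)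
    obtain ⟨S, hS⟩ := hpows i hi
    obtain ⟨σ, h1, -⟩ := mk (d * x ^ i) S hg (fun w => by rw [hS, map_mul, rho_of_mem D hd, one_mul, map_pow])
    exact ⟨σ, h1⟩
  intro g h hgh
  by_cases hg : g ∈ D
  · rcases eq_or_ne g 1 with rfl | hg1
    · rw [orderOf_one, eq_comm, orderOf_eq_one_iff] at hgh
      exact ⟨1, by rw [hgh]; rfl⟩
    have hho : orderOf h = p := by rw [← hgh]; exact hDord g hg hg1
    obtain ⟨S, hS1, hS2⟩ := htrans (Additive.ofMul ⟨g, hg⟩) (Additive.ofMul ⟨h, hpord h hho⟩)
      (fun e => hg1 (congrArg Subtype.val (Additive.ofMul.injective e)))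
      (fun e => hpp.ne_one (by rw [← hho, show h = 1 from congrArg Subtype.val (Additive.ofMul.injective e), orderOf_one]))
    obtain ⟨σ, -, h2⟩ := mk x S hx hS2
    refine ⟨σ, ?_⟩
    have := h2 (Additive.ofMul ⟨g, hg⟩)
    rw [hS1] at this
    exact this
  · obtain ⟨σ, rfl⟩ := horbq g (hout g hg)
    obtain ⟨τ, rfl⟩ := horbq h (hgh ▸ hout _ hg)
    exact ⟨τ * σ⁻¹, by simp⟩

/-- Let G be a finite group whose order is not a prime power. Then the automorphism group of G has exactly three orbits on G if and only if there are distinct primes p, q with #G = pⁿ·q (n ≥ 1) such that G has a normal elementary abelian Sylow p-subgroup P, p is a primitive root modulo q (the multiplicative order of p mod q is q − 1), and every element of order q of G acts on P without non-identity fixed points. -/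
theorem result {G : Type*} [Group G] [Finite G] (hnpp : ¬ IsPrimePow (Nat.card G)) (hnt : Nat.card G ≠ 1) :
    Nat.card (MulAction.orbitRel.Quotient (MulAut G) G) = 3 ↔
    ∃ (p q n : ℕ) (_ : Fact p.Prime) (_ : Fact q.Prime), p ≠ q ∧ 1 ≤ n ∧ Nat.card G = p ^ n * q ∧
      (∀ P : Sylow p G, (P : Subgroup G).Normal ∧ Cfsg.IsElementaryAbelian p (P : Subgroup G)) ∧
      orderOf (p : ZMod q) = q - 1 ∧
      ∀ x y : G, orderOf x = q → orderOf y = p → x * y * x⁻¹ ≠ y := by
  classical
  let ord : MulAction.orbitRel.Quotient (MulAut G) G → ℕ := Quotient.lift orderOf (by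
    intro a b hab
    obtain ⟨σ, hσ⟩ := MulAction.orbitRel_apply.1 hab
    have hσ' : σ b = a := hσ
    rw [← hσ', MulEquiv.orderOf_eq])
  have hordmk : ∀ g : G, ord (Quotient.mk _ g) = orderOf g := fun _ => rfl
  constructor
  · intro h3
    have hpf : 1 < (Nat.card G).primeFactors.card := by
      by_contra! h
      rcases Nat.le_one_iff_eq_zero_or_eq_one.1 h with h | h
      · rw [Finset.card_eq_zero, Nat.primeFactors_eq_empty] at h
        rcases h with h | h
        · exact Nat.card_pos.ne' h
        · exact hnt h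
      · exact hnpp (isPrimePow_iff_card_primeFactors_eq_one.2 h)
    obtain ⟨p, hp, q, hq, hpq⟩ := Finset.one_lt_card.1 hpf
    rw [Nat.mem_primeFactors] at hp hq
    have := Fact.mk hp.1
    have := Fact.mk hq.1
    obtain ⟨u, hu⟩ := exists_prime_orderOf_dvd_card' (G := G) p hp.2.1
    obtain ⟨v, hv⟩ := exists_prime_orderOf_dvd_card' (G := G) q hq.2.1
    have := Fintype.ofFinite (MulAction.orbitRel.Quotient (MulAut G) G)
    have hc3 : (Finset.univ.image ord).card ≤ 3 := by
      refine Finset.card_image_le.trans ?_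
      rw [Finset.card_univ, ← Nat.card_eq_fintype_card, h3]
    have hsub : ({1, p, q} : Finset ℕ) ⊆ Finset.univ.image ord := by
      intro n hn
      simp only [Finset.mem_insert, Finset.mem_singleton] at hn
      rcases hn with rfl | rfl | rfl
      · exact Finset.mem_image.2 ⟨Quotient.mk _ 1, Finset.mem_univ _, (hordmk 1).trans orderOf_one⟩
      · exact Finset.mem_image.2 ⟨Quotient.mk _ u, Finset.mem_univ _, (hordmk u).trans hu⟩
      · exact Finset.mem_image.2 ⟨Quotient.mk _ v, Finset.mem_univ _, (hordmk v).trans hv⟩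
    have hcard3 : ({1, p, q} : Finset ℕ).card = 3 := by
      rw [Finset.card_eq_three]
      exact ⟨1, p, q, hp.1.ne_one.symm, hq.1.ne_one.symm, hpq, rfl⟩
    have heq := Finset.eq_of_subset_of_card_le hsub (by rw [hcard3]; exact hc3)
    have hord : ∀ g : G, orderOf g = 1 ∨ orderOf g = p ∨ orderOf g = q := by
      intro g
      have : orderOf g ∈ Finset.univ.image ord := Finset.mem_image.2 ⟨Quotient.mk _ g, Finset.mem_univ _, hordmk g⟩
      rw [← heq] at this
      simpa using this
    have htr : ∀ g h : G, orderOf g = orderOf h → ∃ σ : MulAut G, σ g = h := by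
      intro g h hgh
      have hinj : Set.InjOn ord (Finset.univ : Finset (MulAction.orbitRel.Quotient (MulAut G) G)) := by
        apply Finset.injOn_of_card_image_eq
        rw [← heq, hcard3, Finset.card_univ, ← Nat.card_eq_fintype_card, h3]
      have := hinj (Finset.mem_univ (Quotient.mk _ h)) (Finset.mem_univ (Quotient.mk _ g)) (by rw [hordmk, hordmk, hgh])
      obtain ⟨σ, hσ⟩ := MulAction.orbitRel_apply.1 (Quotient.exact this)
      exact ⟨σ, hσ⟩
    obtain ⟨a, m, hm, hcard⟩ := Nat.exists_eq_pow_mul_and_not_dvd Nat.card_pos.ne' p hp.1.ne_one (n := Nat.card G)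
    have hm0 : m ≠ 0 := by rintro rfl; simp at hm
    have hmq : m = q ^ m.primeFactorsList.length := by
      refine Nat.eq_prime_pow_of_unique_prime_dvd hm0 fun {d} hd hdm => ?_
      have := Fact.mk hd
      obtain ⟨w, hw⟩ := exists_prime_orderOf_dvd_card' (G := G) d (hdm.trans (hcard ▸ Dvd.intro_left _ rfl))
      rcases hord w with h | h | h <;> rw [hw] at h
      · exact absurd h hd.ne_one
      · exact absurd (h ▸ hdm) hm
      · exact h
    set b := m.primeFactorsList.length
    rw [hmq] at hcard
    have hsol := CfsgLib.Burnside.isSolvable_of_card_eq hp.1 hq.1 hcard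
    -- the last non-trivial term of the derived series
    obtain ⟨k, hk⟩ := hsol.solvable
    have hex : ∃ k, derivedSeries G k = ⊥ := ⟨k, hk⟩
    have hk0 : Nat.find hex ≠ 0 := by
      intro h
      have := Nat.find_spec hex
      rw [h, derivedSeries_zero] at this
      have h1 : Nat.card G = 1 := by rw [← Subgroup.card_top, this, Subgroup.card_bot]
      exact hnt h1
    obtain ⟨j, hj⟩ := Nat.exists_eq_succ_of_ne_zero hk0
    set D := derivedSeries G j
    have hDne : D ≠ ⊥ := Nat.find_min hex (by omega)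
    have hDD : ⁅D, D⁆ = ⊥ := by
      have := Nat.find_spec hex
      rwa [hj, derivedSeries_succ] at this
    have : IsMulCommutative D := ⟨⟨fun a b => Subtype.ext
      (commutatorElement_eq_one_iff_mul_comm.1 (Subgroup.mem_bot.1 (hDD ▸ Subgroup.commutator_mem_commutator a.2 b.2)))⟩⟩
    have : D.Characteristic := derivedSeries_characteristic G j
    obtain ⟨⟨d, hd⟩, hd1⟩ := Subgroup.ne_bot_iff_exists_ne_one.1 hDne
    rcases hord d with h | h | h
    · exact absurd (Subtype.ext (orderOf_eq_one_iff.1 h)) hd1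
    · exact forward p q a b hpq ⟨v, hv⟩ hcard hord htr D d hd h
    · exact forward q p b a (Ne.symm hpq) ⟨u, hu⟩ (by rw [hcard, mul_comm])
        (fun g => by rcases hord g with h | h | h <;> simp [h]) htr D d hd h
  · rintro ⟨p, q, n, _, _, hpq, hn, hcard, hP, hordp, hfp⟩
    obtain ⟨hord, htr⟩ := backward p q n hpq hn hcard hP hordp hfp
    obtain ⟨u, hu⟩ := exists_prime_orderOf_dvd_card' (G := G) p (by rw [hcard]; exact (dvd_pow_self p (by omega)).trans (Dvd.intro _ rfl))
    obtain ⟨v, hv⟩ := exists_prime_orderOf_dvd_card' (G := G) q (by rw [hcard]; exact Dvd.intro_left _ rfl)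
    have e : Nat.card (MulAction.orbitRel.Quotient (MulAut G) G) = Nat.card ({1, p, q} : Finset ℕ) := by
      refine Nat.card_eq_of_bijective (fun z => ⟨ord z, ?_⟩) ⟨?_, ?_⟩
      · induction z using Quotient.inductionOn with
        | _ g => rw [hordmk]; simpa using hord g
      · intro a b
        induction a using Quotient.inductionOn with
        | _ g =>
        induction b using Quotient.inductionOn with
        | _ h =>
        intro hgh
        have : orderOf g = orderOf h := congrArg Subtype.val hgh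
        obtain ⟨σ, hσ⟩ := htr h g this.symm
        exact Quotient.sound (MulAction.orbitRel_apply.2 ⟨σ, hσ⟩)
      · rintro ⟨m, hm⟩
        simp only [Finset.mem_insert, Finset.mem_singleton] at hm
        rcases hm with rfl | rfl | rfl
        · exact ⟨Quotient.mk _ 1, Subtype.ext orderOf_one⟩
        · exact ⟨Quotient.mk _ u, Subtype.ext hu⟩
        · exact ⟨Quotient.mk _ v, Subtype.ext hv⟩
    rw [e, Nat.card_eq_fintype_card, Fintype.card_coe, Finset.card_eq_three]
    exact ⟨1, p, q, (Fact.out : p.Prime).ne_one.symm, (Fact.out : q.Prime).ne_one.symm, hpq, rfl⟩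

end Cfsg.Agent.S4081
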