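import Cfsg.Statements.S4082
import Cfsg.Agent.Lib.ClassSizes.CyclicSylow
import Cfsg.Agent.Lib.TwoGroups.Recognition
import Cfsg.Agent.Lib.ClassSizes.Kulakoff

set_option autoImplicit false
open Cfsg

namespace Cfsg.Agent.S4082

open Subgroup CfsgLib.ClassSizes.CyclicSylow
open scoped Pointwise commutatorElement

variable {G : Type*} [Group G] [Finite G] {p : ℕ} [Fact p.Prime]

/-- The subgroup condition of the statement. -/
def Restricted (p : ℕ) [Fact p.Prime] (G : Type*) [Group G] : Prop :=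
  ∀ H : Subgroup G, (∀ S : Sylow p ↥H, (S : Subgroup ↥H).Normal) →
    (∀ (S : Sylow p ↥H) [(S : Subgroup ↥H).Normal], IsCyclic (↥H ⧸ (S : Subgroup ↥H))) →
    IsCyclic H ∨ (∃ n : ℕ, Nonempty (H ≃* DihedralGroup (p ^ n)))

theorem Restricted.apply (h : Restricted p G) {H A : Subgroup G} (hAH : A ≤ H) (hA : IsPGroup p A)
    (hn : H ≤ normalizer (A : Set G)) (hi : ¬ p ∣ A.relIndex H) {v : G} (hgen : H = A ⊔ zpowers v) :
    IsCyclic H ∨ (∃ n : ℕ, Nonempty (H ≃* DihedralGroup (p ^ n))) := by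
  haveI hN : (A.subgroupOf H).Normal := (normal_subgroupOf_iff_le_normalizer hAH).2 hn
  have heq : ∀ S : Sylow p ↥H, (S : Subgroup ↥H) = A.subgroupOf H := fun S =>
    sylow_eq_of_normal _ (hA.of_equiv (subgroupOfEquivOfLe hAH).symm) hi S
  refine h H (fun S => by rw [heq S]; exact hN) fun S inst => ?_
  have hv : v ∈ H := hgen ▸ mem_sup_right (mem_zpowers v)
  let π : ↥(zpowers v) →* ↥H ⧸ (S : Subgroup ↥H) :=
    (QuotientGroup.mk' (S : Subgroup ↥H)).comp (Subgroup.inclusion (zpowers_le.2 hv))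
  refine isCyclic_of_surjective π fun q => ?_
  obtain ⟨g, rfl⟩ := QuotientGroup.mk_surjective q
  have hg : (g : G) ∈ A ⊔ zpowers v := hgen ▸ g.2
  rw [← SetLike.mem_coe, coe_mul_of_right_le_normalizer_left A (zpowers v)
    (zpowers_le.2 (hn hv))] at hg
  obtain ⟨a, ha, w, hw, haw⟩ := Set.mem_mul.1 hg
  refine ⟨⟨w, hw⟩, ?_⟩
  show QuotientGroup.mk (⟨w, _⟩ : H) = QuotientGroup.mk g
  rw [QuotientGroup.eq, heq S, mem_subgroupOf]
  show w⁻¹ * (g : G) ∈ A
  rw [← haw, ← mul_assoc]
  have hwn : w⁻¹ ∈ normalizer (A : Set G) := inv_mem (zpowers_le.2 (hn hv) hw)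
  exact (mem_normalizer_iff.1 hwn a).1 ha |> fun h2 => by simpa [mul_assoc] using h2

theorem not_dihedral_of_odd (hp : p ≠ 2) {H : Type*} [Group H] (hH : IsPGroup p H) (n : ℕ) :
    ¬ Nonempty (H ≃* DihedralGroup (p ^ n)) := by
  rintro ⟨e⟩
  obtain ⟨k, hk⟩ := IsPGroup.iff_orderOf.1 hH (e.symm (DihedralGroup.sr 0))
  rw [MulEquiv.orderOf_eq, DihedralGroup.orderOf_sr] at hk
  exact hp ((Nat.prime_dvd_prime_iff_eq (Fact.out : p.Prime) Nat.prime_two).1 (by
    rw [hk]
    refine dvd_pow_self p fun h0 => ?_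
    rw [h0] at hk
    norm_num at hk))

theorem Restricted.isCyclic (h : Restricted p G) (hp : p ≠ 2) {A : Subgroup G} (hA : IsPGroup p A) : IsCyclic A := by
  refine (h.apply le_rfl hA le_normalizer ?_ (v := 1) ?_).resolve_right fun ⟨n, hn⟩ => not_dihedral_of_odd hp hA n hn
  · rw [relIndex_self]; exact (Fact.out : p.Prime).not_dvd_one
  · rw [zpowers_one_eq_bot, sup_bot_eq]

/-- Split off the `p`-part of an element. -/
theorem exists_parts (x : G) : ∃ u v : G, u * v = x ∧ u ∈ zpowers x ∧ v ∈ zpowers x ∧ IsPGroup p (zpowers u) ∧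
    (orderOf v).Coprime p := by
  have hp : p.Prime := Fact.out
  obtain ⟨k, m, hm, hkm⟩ := Nat.exists_eq_pow_mul_and_not_dvd (orderOf_pos x).ne' p hp.ne_one
  have hcop : Nat.Coprime (p ^ k) m := (hp.coprime_iff_not_dvd.2 hm).pow_left k
  obtain ⟨a, b, hab⟩ : ∃ a b : ℤ, (p ^ k : ℕ) * a + (m : ℤ) * b = 1 :=
    ⟨_, _, by rw [← Nat.gcd_eq_gcd_ab, hcop, Nat.cast_one]⟩
  refine ⟨x ^ ((m : ℤ) * b), x ^ ((p ^ k : ℕ) * a : ℤ), ?_, zpow_mem (mem_zpowers x) _, zpow_mem (mem_zpowers x) _,
    ?_, ?_⟩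
  · rw [← zpow_add, add_comm, hab, zpow_one]
  · rintro ⟨g, hg⟩
    refine ⟨k, Subtype.ext ?_⟩
    obtain ⟨j, rfl⟩ := mem_zpowers_iff.1 hg
    show ((x ^ ((m : ℤ) * b)) ^ j) ^ p ^ k = 1
    rw [← zpow_natCast, ← zpow_mul, ← zpow_mul, ← orderOf_dvd_iff_zpow_eq_one, hkm]
    exact ⟨b * j, by push_cast; ring⟩
  · refine Nat.Coprime.coprime_dvd_left (orderOf_dvd_of_pow_eq_one (n := m) ?_) ((hp.coprime_iff_not_dvd.2 hm).symm)
    rw [← zpow_natCast, ← zpow_mul, ← orderOf_dvd_iff_zpow_eq_one, hkm]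
    exact ⟨a, by push_cast; ring⟩

/-- Transport a subgroup of order `p` into a Sylow subgroup. -/
theorem exists_conj_le (P : Sylow p G) {A : Subgroup G} (hA : IsPGroup p A) :
    ∃ g : G, A.map (MulAut.conj g).toMonoidHom ≤ P := by
  obtain ⟨S, hS⟩ := hA.exists_le_sylow
  obtain ⟨g, rfl⟩ := MulAction.exists_smul_eq G S P
  refine ⟨g, ?_⟩
  rintro _ ⟨a, ha, rfl⟩
  exact Subgroup.smul_mem_pointwise_smul a (MulAut.conj g) _ (hS ha)

theorem eq_of_card_eq {S A B : Subgroup G} [IsCyclic S] (hA : A ≤ S) (hB : B ≤ S)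
    (h : Nat.card A = Nat.card B) : A = B := by
  have h2 := CfsgLib.ClassSizes.Kulakoff.eq_of_card_eq_of_isCyclic (H := A.subgroupOf S) (K := B.subgroupOf S) (by
    rw [Nat.card_congr (subgroupOfEquivOfLe hA).toEquiv, Nat.card_congr (subgroupOfEquivOfLe hB).toEquiv, h])
  rw [← map_subgroupOf_eq_of_le hA, h2, map_subgroupOf_eq_of_le hB]

/-- Both conditions on the subgroups of order `p`, for every conjugate. -/
def Inverts (p : ℕ) (G : Type*) [Group G] : Prop :=
  ∀ Q : Subgroup G, Nat.card Q = p → ∀ x : G, x ∈ normalizer (Q : Set G) → x ∉ centralizer (Q : Set G) →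
    orderOf x = 2 ∧ ∀ c : G, c ∈ centralizer (Q : Set G) → x * c * x⁻¹ = c⁻¹

theorem forward (hp : p ≠ 2) (h : Restricted p G) (P : Sylow p G) :
    IsCyclic P ∧
      (normalizer ((P : Subgroup G) : Set G) = centralizer ((P : Subgroup G) : Set G) ∨
       ((centralizer ((P : Subgroup G) : Set G)).relIndex (normalizer ((P : Subgroup G) : Set G)) = 2 ∧
        ∀ Q : Subgroup G, Q ≤ P → Nat.card Q = p →
          IsMulCommutative ↥(centralizer (Q : Set G)) ∧
          ∀ x : G, x ∈ normalizer (Q : Set G) → x ∉ centralizer (Q : Set G) →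
            orderOf x = 2 ∧ ∀ c : G, c ∈ centralizer (Q : Set G) → x * c * x⁻¹ = c⁻¹)) := by
  haveI hPc : IsCyclic (P : Subgroup G) := h.isCyclic hp P.isPGroup'
  refine ⟨hPc, ?_⟩
  -- every element moving a subgroup of order `p` that it normalizes is an involution
  have hinv : ∀ Q : Subgroup G, Nat.card Q = p → ∀ x : G, x ∈ normalizer (Q : Set G) → x ∉ centralizer (Q : Set G) →
      orderOf x = 2 := by
    intro Q hQ x hxN hxC
    obtain ⟨u, v, huv, hu, hv, hup, hvc⟩ := exists_parts (p := p) x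
    have huN : u ∈ normalizer (Q : Set G) := zpowers_le.2 hxN hu
    have hvN : v ∈ normalizer (Q : Set G) := zpowers_le.2 hxN hv
    set A := Q ⊔ zpowers u with hAdef
    have hA : IsPGroup p A := IsPGroup.to_sup_of_normal_left' (IsPGroup.of_card (n := 1) (by rw [hQ, pow_one])) hup
      (zpowers_le.2 huN)
    haveI : IsCyclic A := h.isCyclic hp hA
    have huv' : Commute u v := by
      obtain ⟨i, rfl⟩ := mem_zpowers_iff.1 hu
      obtain ⟨j, rfl⟩ := mem_zpowers_iff.1 hv
      exact ((Commute.refl x).zpow_right j).zpow_left i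
    have hvA : v ∈ normalizer (A : Set G) := by
      have hle : A.map (MulAut.conj v).toMonoidHom ≤ A := by
        rw [hAdef, Subgroup.map_sup, MonoidHom.map_zpowers]
        refine sup_le_sup (map_le_iff_le_comap.2 fun q hq => (mem_normalizer_iff.1 hvN q).1 hq) (zpowers_le.2 ?_)
        show v * u * v⁻¹ ∈ zpowers u
        rw [← huv'.eq, mul_inv_cancel_right]
        exact mem_zpowers u
      have heq := eq_of_le_of_card_ge hle (card_map_of_injective (MulAut.conj v).injective).ge
      rw [mem_normalizer_iff]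
      intro a
      constructor
      · exact fun ha => hle (mem_map_of_mem _ ha)
      · intro ha
        rw [← heq] at ha
        obtain ⟨b, hb, hbe⟩ := ha
        rwa [(MulAut.conj v).injective hbe] at hb
    set H := A ⊔ zpowers v
    have hAH : A ≤ H := le_sup_left
    have hn : H ≤ normalizer (A : Set G) := sup_le le_normalizer (zpowers_le.2 hvA)
    have hi : ¬ p ∣ A.relIndex H := by
      intro hd
      have h1 : A.relIndex H ∣ Nat.card (zpowers v) := by
        haveI : (A.subgroupOf (normalizer (A : Set G))).Normal := normal_subgroupOf_iff_le_normalizer le_normalizer |>.2 le_rfl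
        rw [show A.relIndex H = A.relIndex (zpowers v) from ?_]
        · exact relIndex_dvd_card A _
        have := relIndex_sup_right ((zpowers v).subgroupOf (normalizer (A : Set G))) (A.subgroupOf (normalizer (A : Set G)))
        rw [← subgroupOf_sup (zpowers_le.2 hvA) le_normalizer, relIndex_subgroupOf (sup_le (zpowers_le.2 hvA) le_normalizer),
          relIndex_subgroupOf (zpowers_le.2 hvA), sup_comm] at this
        exact this
      rw [Nat.card_zpowers] at h1
      exact (Fact.out : p.Prime).one_lt.ne' (Nat.eq_one_of_dvd_coprimes hvc (hd.trans h1) dvd_rfl)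
    have hxH : x ∈ H := huv ▸ mul_mem (mem_sup_left (mem_sup_right (mem_zpowers u))) (mem_sup_right (mem_zpowers v))
    have hQH : Q ≤ H := le_sup_left.trans le_sup_left
    rcases h.apply hAH hA hn hi rfl with hc | ⟨n, ⟨e⟩⟩
    · refine absurd (mem_centralizer_iff.2 fun q hq => ?_) hxC
      exact congrArg Subtype.val ((IsCyclic.commGroup (α := H)).mul_comm (⟨q, hQH hq⟩ : H) ⟨x, hxH⟩)
    · rw [← orderOf_mk x hxH, ← MulEquiv.orderOf_eq e]
      rcases hr : e ⟨x, hxH⟩ with i | i
      · exfalso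
        refine hxC (mem_centralizer_iff.2 fun q hq => ?_)
        have hqx : Commute (e ⟨q, hQH hq⟩) (e ⟨x, hxH⟩) := by
          rcases hq' : e ⟨q, hQH hq⟩ with j | j
          · rw [hr]
            exact congrArg DihedralGroup.r (add_comm j i)
          · exfalso
            have h1 : (⟨q, hQH hq⟩ : H) ^ p = 1 := Subtype.ext (by
              have h2 : (⟨q, hq⟩ : Q) ^ Nat.card Q = 1 := pow_card_eq_one'
              rw [hQ] at h2
              simpa using congrArg Subtype.val h2)
            have h2 := orderOf_dvd_of_pow_eq_one h1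
            rw [← MulEquiv.orderOf_eq e, hq', DihedralGroup.orderOf_sr] at h2
            exact hp ((Nat.prime_dvd_prime_iff_eq Nat.prime_two (Fact.out : p.Prime)).1 h2).symm
        exact congrArg Subtype.val (e.injective (by rw [map_mul, map_mul]; exact hqx.eq) :
          (⟨q, hQH hq⟩ : H) * ⟨x, hxH⟩ = ⟨x, hxH⟩ * ⟨q, hQH hq⟩)
      · exact DihedralGroup.orderOf_sr i
  have hfull : ∀ Q : Subgroup G, Nat.card Q = p → ∀ x : G, x ∈ normalizer (Q : Set G) → x ∉ centralizer (Q : Set G) →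
      ∀ c : G, c ∈ centralizer (Q : Set G) → x * c * x⁻¹ = c⁻¹ := by
    intro Q hQ x hxN hxC c hc
    have h1 := hinv Q hQ (x * c) (mul_mem hxN (centralizer_le_normalizer _ hc))
      (fun h' => hxC ((mul_mem_cancel_right hc).1 h'))
    have h2 := hinv Q hQ x hxN hxC
    have h3 : (x * c) ^ 2 = 1 := h1 ▸ pow_orderOf_eq_one _
    have h4 : x⁻¹ = x := inv_eq_of_mul_eq_one_right (by rw [← pow_two, ← h2, pow_orderOf_eq_one])
    rw [h4]
    refine eq_inv_of_mul_eq_one_left ?_
    rw [← h3, pow_two]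
    group
  by_cases hNC : normalizer ((P : Subgroup G) : Set G) = centralizer ((P : Subgroup G) : Set G)
  · exact Or.inl hNC
  right
  -- elements of `N(P)` outside `C(P)`
  have hkey : ∀ x ∈ normalizer ((P : Subgroup G) : Set G), x ∉ centralizer ((P : Subgroup G) : Set G) →
      ∀ Q : Subgroup G, Q ≤ P → Nat.card Q = p → x ∈ normalizer (Q : Set G) ∧ x ∉ centralizer (Q : Set G) := by
    intro x hxN hxC Q hQP hQ
    have hxQ : x ∈ normalizer (Q : Set G) := by
      have heq : Q.map (MulAut.conj x).toMonoidHom = Q := by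
        refine eq_of_card_eq (S := (P : Subgroup G)) ?_ hQP (card_map_of_injective (MulAut.conj x).injective)
        rintro _ ⟨q, hq, rfl⟩
        exact (mem_normalizer_iff.1 hxN q).1 (hQP hq)
      rw [mem_normalizer_iff]
      intro a
      constructor
      · exact fun ha => heq.le (mem_map_of_mem _ ha)
      · intro ha
        rw [← heq] at ha
        obtain ⟨b, hb, hbe⟩ := ha
        rwa [(MulAut.conj x).injective hbe] at hb
    refine ⟨hxQ, fun hxCQ => hxC ?_⟩
    obtain ⟨u, v, huv, hu, hv, hup, hvc⟩ := exists_parts (p := p) x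
    have huP : u ∈ (P : Subgroup G) := by
      have h1 : IsPGroup p ((P : Subgroup G) ⊔ zpowers u : Subgroup G) :=
        IsPGroup.to_sup_of_normal_left' P.isPGroup' hup (zpowers_le.2 (zpowers_le.2 hxN hu))
      exact (P.is_maximal' h1 le_sup_left).le (mem_sup_right (mem_zpowers u))
    have hvP : ∀ s ∈ (P : Subgroup G), Commute v s := by
      refine commute_of_fix P.isPGroup' (zpowers_le.2 hxN hv) hvc fun w hw hwo => ?_
      have hwQ : w ∈ Q := by
        rw [← eq_of_card_eq (S := (P : Subgroup G)) (zpowers_le.2 hw) hQP (by rw [Nat.card_zpowers, hwo, hQ])]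
        exact mem_zpowers w
      exact (mem_centralizer_iff.1 (zpowers_le.2 hxCQ hv) w hwQ).symm
    refine mem_centralizer_iff.2 fun s hs => ?_
    have h1 : Commute s u := congrArg Subtype.val
      ((IsCyclic.commGroup (α := (P : Subgroup G))).mul_comm ⟨s, hs⟩ ⟨u, huP⟩)
    rw [← huv]
    exact (h1.mul_right (hvP s hs).symm).eq
  obtain ⟨x₀, hx₀N, hx₀C⟩ : ∃ x ∈ normalizer ((P : Subgroup G) : Set G), x ∉ centralizer ((P : Subgroup G) : Set G) := by
    by_contra hno
    push Not at hno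
    exact hNC (le_antisymm hno (centralizer_le_normalizer _))
  have hPne : p ∣ Nat.card (P : Subgroup G) := by
    obtain ⟨k, hk⟩ := P.isPGroup'.exists_card_eq
    rw [hk]
    refine dvd_pow_self p fun h0 => hx₀C ?_
    rw [h0, pow_zero, card_eq_one] at hk
    refine mem_centralizer_iff.2 fun s hs => ?_
    rw [hk, SetLike.mem_coe, mem_bot] at hs
    rw [hs, one_mul, mul_one]
  obtain ⟨⟨q, hq⟩, hqo⟩ := exists_prime_orderOf_dvd_card' p hPne
  rw [Subgroup.orderOf_mk] at hqo
  have hQ0 : Nat.card (zpowers q) = p := by rw [Nat.card_zpowers, hqo]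
  have hinvP : ∀ x ∈ normalizer ((P : Subgroup G) : Set G), x ∉ centralizer ((P : Subgroup G) : Set G) →
      ∀ s ∈ (P : Subgroup G), x * s * x⁻¹ = s⁻¹ := by
    intro x hxN hxC s hs
    obtain ⟨h1, h2⟩ := hkey x hxN hxC (zpowers q) (zpowers_le.2 hq) hQ0
    exact hfull _ hQ0 x h1 h2 s (mem_centralizer_iff.2 fun t ht => congrArg Subtype.val
      ((IsCyclic.commGroup (α := (P : Subgroup G))).mul_comm ⟨t, zpowers_le.2 hq ht⟩ ⟨s, hs⟩))
  refine ⟨index_eq_two_iff.2 ⟨⟨x₀, hx₀N⟩, fun y => ?_⟩, fun Q hQP hQ => ⟨⟨⟨fun a b => ?_⟩⟩,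
    fun x hxN hxC => ⟨hinv Q hQ x hxN hxC, hfull Q hQ x hxN hxC⟩⟩⟩
  · by_cases hy : (y : G) ∈ centralizer ((P : Subgroup G) : Set G)
    · exact Or.inr ⟨hy, fun h' => hx₀C ((mul_mem_cancel_left hy).1 h')⟩
    · refine Or.inl ⟨mem_centralizer_iff.2 fun s hs => ?_, hy⟩
      have h1 : (y : G) * x₀ * s * ((y : G) * x₀)⁻¹ = s := by
        rw [show (y : G) * x₀ * s * ((y : G) * x₀)⁻¹ = y * (x₀ * s * x₀⁻¹) * (y : G)⁻¹ by group,
          hinvP x₀ hx₀N hx₀C s hs, hinvP y y.2 hy _ (inv_mem hs), inv_inv]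
      exact (mul_inv_eq_iff_eq_mul.1 h1).symm
  · obtain ⟨h1, h2⟩ := hkey x₀ hx₀N hx₀C Q hQP hQ
    have hab := hfull Q hQ x₀ h1 h2 _ (mul_mem a.2 b.2)
    rw [show x₀ * ((a : G) * b) * x₀⁻¹ = (x₀ * a * x₀⁻¹) * (x₀ * b * x₀⁻¹) by group, hfull Q hQ x₀ h1 h2 _ a.2,
      hfull Q hQ x₀ h1 h2 _ b.2, ← mul_inv_rev, inv_inj] at hab
    exact Subtype.ext hab.symm

theorem backward (hp : p ≠ 2) (P : Sylow p G) [hPc : IsCyclic (P : Subgroup G)]
    (hcase : normalizer ((P : Subgroup G) : Set G) = centralizer ((P : Subgroup G) : Set G) ∨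
      (∀ Q : Subgroup G, Q ≤ P → Nat.card Q = p → IsMulCommutative ↥(centralizer (Q : Set G)) ∧
          ∀ x : G, x ∈ normalizer (Q : Set G) → x ∉ centralizer (Q : Set G) →
            orderOf x = 2 ∧ ∀ c : G, c ∈ centralizer (Q : Set G) → x * c * x⁻¹ = c⁻¹)) : Restricted p G := by
  intro H hSn hSq
  obtain ⟨S⟩ : Nonempty (Sylow p H) := inferInstance
  haveI := hSn S
  haveI := hSq S
  set A := (S : Subgroup H).map H.subtype
  have hA : IsPGroup p A := S.isPGroup'.map _
  obtain ⟨g, hg⟩ := exists_conj_le P hA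
  haveI hSc : IsCyclic (S : Subgroup H) := by
    refine isCyclic_of_injective (G' := (P : Subgroup G))
      (((MulAut.conj g).toMonoidHom.comp (H.subtype.comp (S : Subgroup H).subtype)).codRestrict (P : Subgroup G)
        fun s => hg (mem_map_of_mem _ (mem_map_of_mem _ s.2))) fun s t hst => ?_
    exact Subtype.ext (Subtype.ext ((MulAut.conj g).injective (congrArg Subtype.val hst)))
  by_cases hcen : (S : Subgroup H) ≤ center H
  · exact Or.inl (isCyclic_of_central S hcen)
  -- an element of order prime to `p` moving `S`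
  obtain ⟨v, hvc, hvS⟩ : ∃ v : H, (orderOf v).Coprime p ∧ ∃ s ∈ (S : Subgroup H), ¬ Commute v s := by
    by_contra hno
    push Not at hno
    refine hcen fun s hs => mem_center_iff.2 fun x => ?_
    obtain ⟨u, v, huv, -, -, hup, hvc⟩ := exists_parts (p := p) x
    have huS : u ∈ (S : Subgroup H) := by
      have h1 : IsPGroup p ((S : Subgroup H) ⊔ zpowers u : Subgroup H) :=
        IsPGroup.to_sup_of_normal_left S.isPGroup' hup
      exact (S.is_maximal' h1 le_sup_left).le (mem_sup_right (mem_zpowers u))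
    have h1 : Commute s u := congrArg Subtype.val
      ((IsCyclic.commGroup (α := (S : Subgroup H))).mul_comm ⟨s, hs⟩ ⟨u, huS⟩)
    rw [← huv]
    exact (h1.mul_right (hno v hvc s hs).symm).eq.symm
  obtain ⟨s₀, hs₀, hvs⟩ := hvS
  rcases hcase with hNC | hcase
  · exfalso
    set K := (MonoidHom.transferSylow P hNC.le).ker
    have hK : K.Normal := inferInstance
    have hb : ⁅(v : G), (s₀ : G)⁆ = 1 := by
      have h1 : ⁅(v : G), (s₀ : G)⁆ ∈ K := by
        rw [MonoidHom.mem_ker, map_commutatorElement, commutatorElement_eq_one_iff_mul_comm]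
        exact Subtype.ext (congrArg Subtype.val
          ((IsCyclic.commGroup (α := (P : Subgroup G))).mul_comm _ _))
      have h2 : ⁅(v : G), (s₀ : G)⁆ ∈ A := by
        rw [commutatorElement_def]
        refine mul_mem (mem_map_of_mem H.subtype ((hSn S).conj_mem s₀ hs₀ v)) ?_
        exact mem_map_of_mem H.subtype (inv_mem hs₀)
      have hd : Disjoint K A := MonoidHom.ker_transferSylow_disjoint P hNC.le A hA
      exact mem_bot.1 (hd.le_bot ⟨h1, h2⟩)
    exact hvs (Subtype.ext (commutatorElement_eq_one_iff_mul_comm.1 hb) : (v : H) * s₀ = s₀ * v)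
  right
  have hp' : p.Prime := Fact.out
  -- the subgroup of order `p` of `S`
  obtain ⟨n, hn⟩ := S.isPGroup'.exists_card_eq
  have hn0 : n ≠ 0 := fun h0 => by
    rw [h0, pow_zero, card_eq_one] at hn
    rw [hn, mem_bot] at hs₀
    exact hvs (hs₀ ▸ Commute.one_right v)
  obtain ⟨⟨q, hqS⟩, hqo⟩ := exists_prime_orderOf_dvd_card' p (show p ∣ Nat.card (S : Subgroup H) from hn ▸ dvd_pow_self p hn0)
  rw [Subgroup.orderOf_mk] at hqo
  have hQn : ∀ h : H, h * q * h⁻¹ ∈ zpowers q := fun h => by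
    rw [← eq_of_card_eq (S := (S : Subgroup H)) (A := zpowers (h * q * h⁻¹)) (B := zpowers q)
      (zpowers_le.2 ((hSn S).conj_mem q hqS h)) (zpowers_le.2 hqS)
      (by rw [Nat.card_zpowers, Nat.card_zpowers, show h * q * h⁻¹ = MulAut.conj h q from rfl, MulEquiv.orderOf_eq])]
    exact mem_zpowers _
  have hvq : ¬ Commute v q := fun hc => hvs (commute_of_fix S.isPGroup'
    (normalizer_eq_top_iff.2 (hSn S) ▸ mem_top v) hvc (fun w hw hwo => by
      have hwq : w ∈ zpowers q := by
        rw [← eq_of_card_eq (S := (S : Subgroup H)) (A := zpowers w) (B := zpowers q) (zpowers_le.2 hw)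
          (zpowers_le.2 hqS) (by rw [Nat.card_zpowers, Nat.card_zpowers, hwo, hqo])]
        exact mem_zpowers w
      obtain ⟨i, rfl⟩ := mem_zpowers_iff.1 hwq
      exact hc.zpow_right i) s₀ hs₀)
  -- the facts transported from `P`
  set c := MulAut.conj g
  have hQP : zpowers (c q) ≤ (P : Subgroup G) :=
    zpowers_le.2 (hg (mem_map_of_mem _ (mem_map_of_mem H.subtype hqS)))
  obtain ⟨hcomm, hinv⟩ := hcase (zpowers (c q)) hQP (by
    rw [Nat.card_zpowers, MulEquiv.orderOf_eq, orderOf_coe, hqo])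
  have hmemC : ∀ h : H, c h ∈ centralizer ((zpowers (c q) : Subgroup G) : Set G) ↔ Commute h q := by
    intro h
    rw [mem_centralizer_iff]
    refine ⟨fun h1 => ?_, fun h1 t ht => ?_⟩
    · have h3 := h1 _ (mem_zpowers (c q))
      rw [← map_mul, ← map_mul, c.injective.eq_iff] at h3
      exact Subtype.ext h3.symm
    · obtain ⟨i, rfl⟩ := mem_zpowers_iff.1 ht
      rw [← map_zpow, ← map_mul, ← map_mul, ← Subgroup.coe_zpow, ← Subgroup.coe_mul, ← Subgroup.coe_mul,
        (h1.zpow_right i).eq]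
  have hmemN : ∀ h : H, c h ∈ normalizer ((zpowers (c q) : Subgroup G) : Set G) := by
    intro h
    have hfw : ∀ h : H, ∀ t ∈ zpowers (c q), c h * t * (c h)⁻¹ ∈ zpowers (c q) := by
      intro h t ht
      obtain ⟨i, rfl⟩ := mem_zpowers_iff.1 ht
      obtain ⟨j, hj⟩ := mem_zpowers_iff.1 (hQn h)
      refine mem_zpowers_iff.2 ⟨j * i, ?_⟩
      rw [zpow_mul, ← map_zpow, ← Subgroup.coe_zpow, hj]
      simp [conj_zpow]
    rw [mem_normalizer_iff]
    refine fun t => ⟨fun ht => hfw h t ht, fun ht => ?_⟩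
    have := hfw h⁻¹ _ ht
    simpa [mul_assoc] using this
  have hC : ∀ a b : H, Commute a q → Commute b q → Commute a b := fun a b ha hb => by
    have h1 := congrArg Subtype.val (hcomm.is_comm.comm ⟨_, (hmemC a).2 ha⟩ ⟨_, (hmemC b).2 hb⟩)
    simp only [MulMemClass.mk_mul_mk, ← map_mul, c.injective.eq_iff] at h1
    exact Subtype.ext h1
  have hI : ∀ a b : H, ¬ Commute a q → Commute b q → orderOf a = 2 ∧ a * b * a⁻¹ = b⁻¹ := by
    intro a b ha hb
    obtain ⟨h1, h2⟩ := hinv (c a) (hmemN a) fun h' => ha ((hmemC a).1 h')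
    rw [MulEquiv.orderOf_eq, orderOf_coe] at h1
    refine ⟨h1, ?_⟩
    have h3 := h2 (c b) ((hmemC b).2 hb)
    rw [← map_inv, ← map_mul, ← map_inv, ← map_mul, c.injective.eq_iff] at h3
    exact Subtype.ext h3
  obtain ⟨hv2, -⟩ := hI v 1 hvq (Commute.one_left q)
  -- the centralizer of `q` in `H` is `S`
  have hSC : ∀ b : H, Commute b q → b ∈ (S : Subgroup H) := by
    intro b hb
    have h1 := (hI v b hvq hb).2
    have hb2 : b ^ 2 ∈ (S : Subgroup H) := by
      have h2 : (QuotientGroup.mk (v * b * v⁻¹) : H ⧸ (S : Subgroup H)) = QuotientGroup.mk b := by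
        rw [QuotientGroup.mk_mul, QuotientGroup.mk_mul, QuotientGroup.mk_inv]
        have := (IsCyclic.commGroup (α := H ⧸ (S : Subgroup H))).mul_comm (QuotientGroup.mk v) (QuotientGroup.mk b)
        rw [this, mul_inv_cancel_right]
      rw [h1, QuotientGroup.eq, inv_inv, ← pow_two] at h2
      exact h2
    by_contra hbS
    -- two distinct involutions in the cyclic quotient
    have hvS' : v ∉ (S : Subgroup H) := fun h' => hvq (congrArg Subtype.val
      ((IsCyclic.commGroup (α := (S : Subgroup H))).mul_comm ⟨v, h'⟩ ⟨q, hqS⟩))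
    have horder : ∀ y : H, y ∉ (S : Subgroup H) → y ^ 2 ∈ (S : Subgroup H) →
        Nat.card (zpowers (QuotientGroup.mk y : H ⧸ (S : Subgroup H))) = 2 := fun y hy hy2 => by
      rw [Nat.card_zpowers]
      exact orderOf_eq_prime (by rw [← QuotientGroup.mk_pow]; exact (QuotientGroup.eq_one_iff _).2 hy2)
        (fun h' => hy ((QuotientGroup.eq_one_iff y).1 h'))
    have h3 := CfsgLib.ClassSizes.Kulakoff.eq_of_card_eq_of_isCyclic ((horder b hbS hb2).trans
      (horder v hvS' (by rw [← hv2, pow_orderOf_eq_one]; exact one_mem _)).symm)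
    have h4 : (QuotientGroup.mk v : H ⧸ (S : Subgroup H)) ∈ zpowers (QuotientGroup.mk b : H ⧸ (S : Subgroup H)) :=
      h3 ▸ mem_zpowers _
    obtain ⟨i, hi⟩ := mem_zpowers_iff.1 h4
    rw [← QuotientGroup.mk_zpow, QuotientGroup.eq] at hi
    have h5 : Commute ((b ^ i)⁻¹ * v) q := congrArg Subtype.val
      ((IsCyclic.commGroup (α := (S : Subgroup H))).mul_comm ⟨_, hi⟩ ⟨q, hqS⟩)
    have h6 := ((hb.zpow_left i).mul_left h5)
    rw [mul_inv_cancel_left] at h6
    exact hvq h6
  have hqx : ∀ b : H, b ∈ (S : Subgroup H) → Commute b q := fun b hb => congrArg Subtype.val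
    ((IsCyclic.commGroup (α := (S : Subgroup H))).mul_comm ⟨b, hb⟩ ⟨q, hqS⟩)
  have hidx : (S : Subgroup H).index = 2 := by
    refine index_eq_two_iff.2 ⟨v, fun y => ?_⟩
    by_cases hy : Commute y q
    · refine Or.inr ⟨hSC y hy, fun h' => hvq ?_⟩
      exact hqx v ((mul_mem_cancel_left (hSC y hy)).1 h')
    · refine Or.inl ⟨hSC _ ?_, fun h' => hy (hqx y h')⟩
      have e1 := (hI y q hy (Commute.refl q)).2
      have e2 := (hI v q hvq (Commute.refl q)).2
      have e3 : y * v * q * (y * v)⁻¹ = q := by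
        rw [show y * v * q * (y * v)⁻¹ = y * (v * q * v⁻¹) * y⁻¹ by group, e2,
          show y * q⁻¹ * y⁻¹ = (y * q * y⁻¹)⁻¹ by group, e1, inv_inv]
      exact mul_inv_eq_iff_eq_mul.1 e3
  obtain ⟨x, hx⟩ := (Subgroup.isCyclic_iff_exists_zpowers_eq_top (S : Subgroup H)).1 hSc
  have hxo : orderOf x = p ^ n := by rw [← Nat.card_zpowers, hx, hn]
  haveI : NeZero (p ^ n) := ⟨(pow_pos hp'.pos n).ne'⟩
  refine ⟨n, CfsgLib.TwoGroups.nonempty_mulEquiv_dihedralGroup hxo (b := v)
    (by rw [← pow_two, ← hv2, pow_orderOf_eq_one]) (fun h' => hvq (hqx v (hx ▸ h')))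
    ((hI v x hvq (hqx x (hx ▸ mem_zpowers x))).2) ?_⟩
  rw [← card_mul_index (S : Subgroup H), hidx, hn, mul_comm]

/-- Let p be an odd prime and G a finite group with Sylow p-subgroup P. Say that G has restricted p-by-cyclic subgroups when every subgroup H of G whose Sylow p-subgroup is normal in H with cyclic quotient is itself cyclic or dihedral of order 2pⁿ for some n. Then G has restricted p-by-cyclic subgroups if and only if P is cyclic and one of the following holds: (1) N_G(P) = C_G(P); or (2) N_G(P)/C_G(P) has order 2 and, for the subgroup Q of order p of P, the centralizer C_G(Q) is abelian and every element of N_G(Q) outside C_G(Q) is an involution inverting every element of C_G(Q). -/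
theorem result {G : Type*} [Group G] [Finite G] {p : ℕ}
    [Fact p.Prime] (hp : p ≠ 2) (P : Sylow p G) :
    (∀ H : Subgroup G, (∀ S : Sylow p ↥H, (S : Subgroup ↥H).Normal) →
        (∀ (S : Sylow p ↥H) [(S : Subgroup ↥H).Normal], IsCyclic (↥H ⧸ (S : Subgroup ↥H))) →
        IsCyclic H ∨ (∃ n : ℕ, Nonempty (H ≃* DihedralGroup (p ^ n)))) ↔
    (IsCyclic P ∧
      (Subgroup.normalizer ((P : Subgroup G) : Set G) = Subgroup.centralizer ((P : Subgroup G) : Set G) ∨
       ((Subgroup.centralizer ((P : Subgroup G) : Set G)).relIndex (Subgroup.normalizer ((P : Subgroup G) : Set G)) = 2 ∧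
        ∀ Q : Subgroup G, Q ≤ P → Nat.card Q = p →
          IsMulCommutative ↥(Subgroup.centralizer (Q : Set G)) ∧
          ∀ x : G, x ∈ Subgroup.normalizer (Q : Set G) → x ∉ Subgroup.centralizer (Q : Set G) →
            orderOf x = 2 ∧ ∀ c : G, c ∈ Subgroup.centralizer (Q : Set G) → x * c * x⁻¹ = c⁻¹))) := by
  refine ⟨fun h => forward hp h P, fun ⟨hc, h⟩ => ?_⟩
  haveI := hc
  exact backward hp P (h.imp id fun h' => h'.2)

end Cfsg.Agent.S4082
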