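import Cfsg.Statements.S4083
import Cfsg.Agent.S4082
import Cfsg.Agent.Lib.TwoGroups.Recognition

set_option autoImplicit false
open Cfsg

namespace Cfsg.Agent.S4083

open Subgroup CfsgLib.ClassSizes.CyclicSylow
open scoped Pointwise

variable {G : Type*} [Group G] [Finite G]

theorem dihedral_comm {n : ℕ} {A : Type*} [Group A] (hA : ∀ a b : A, a * b = b * a)
    (e : A ≃* DihedralGroup (2 ^ n)) : n ≤ 1 := by
  have h := congrArg e (hA (e.symm (DihedralGroup.r 1)) (e.symm (DihedralGroup.sr 0)))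
  rw [map_mul, map_mul, e.apply_symm_apply, e.apply_symm_apply, DihedralGroup.r_mul_sr, DihedralGroup.sr_mul_r,
    DihedralGroup.sr.injEq] at h
  have h2 : ((2 : ℕ) : ZMod (2 ^ n)) = 0 := by
    push_cast
    linear_combination -h
  rw [ZMod.natCast_eq_zero_iff] at h2
  have h3 : (2 : ℕ) ^ n ≤ 2 ^ 1 := Nat.le_of_dvd two_pos h2
  exact (Nat.pow_le_pow_iff_right (by norm_num)).1 h3

theorem not_comm_four : ¬ ∀ a b : alternatingGroup (Fin 4), a * b = b * a := by
  intro h
  have h1 := congrArg (fun t : alternatingGroup (Fin 4) => (t : Equiv.Perm (Fin 4)) 0)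
    (h ⟨Equiv.swap 0 1 * Equiv.swap 1 2, by rw [Equiv.Perm.mem_alternatingGroup]; decide⟩
      ⟨Equiv.swap 0 1 * Equiv.swap 1 3, by rw [Equiv.Perm.mem_alternatingGroup]; decide⟩)
  revert h1
  decide

theorem card_four_alt : Nat.card (alternatingGroup (Fin 4)) = 12 := by
  have := two_mul_nat_card_alternatingGroup (α := Fin 4)
  rw [Nat.card_perm, Nat.card_fin, show Nat.factorial 4 = 24 from rfl] at this
  omega

theorem not_cyclic_of_four {K B : Subgroup G} (hK : Nat.card K = 4) (hexp : ∀ k ∈ K, k ^ 2 = 1) (hKB : K ≤ B) :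
    ¬ IsCyclic B := by
  intro hB
  obtain ⟨a, b, ha, hb, hab⟩ : ∃ a b : G, (a ∈ K ∧ a ≠ 1) ∧ (b ∈ K ∧ b ≠ 1) ∧ a ≠ b := by
    obtain ⟨⟨a, ha⟩, ha1⟩ := ne_bot_iff_exists_ne_one.1 (show K ≠ ⊥ from fun h => by rw [h, card_bot] at hK; norm_num at hK)
    have ha1' : a ≠ 1 := fun h => ha1 (Subtype.ext h)
    by_contra hno
    push Not at hno
    have hle : K ≤ zpowers a := fun b hb => by
      by_cases hb1 : b = 1
      · rw [hb1]; exact one_mem _
      · rw [hno a b ⟨ha, ha1'⟩ ⟨hb, hb1⟩]; exact mem_zpowers b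
    have := card_le_of_le hle
    rw [hK, Nat.card_zpowers, orderOf_eq_prime (hexp a ha) ha1'] at this
    omega
  have h1 : zpowers a = zpowers b := Cfsg.Agent.S4082.eq_of_card_eq (S := B) (zpowers_le.2 (hKB ha.1))
    (zpowers_le.2 (hKB hb.1)) (by
      rw [Nat.card_zpowers, Nat.card_zpowers, orderOf_eq_prime (hexp a ha.1) ha.2, orderOf_eq_prime (hexp b hb.1) hb.2])
  obtain ⟨i, hi⟩ := (mem_powers_iff_mem_zpowers).2 (h1 ▸ mem_zpowers b : b ∈ zpowers a)
  simp only at hi
  rw [← pow_mod_orderOf, orderOf_eq_prime (hexp a ha.1) ha.2] at hi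
  rcases Nat.mod_two_eq_zero_or_one i with h | h <;> rw [h] at hi
  · exact hb.2 (by rw [← hi, pow_zero])
  · exact hab (by rw [← hi, pow_one])

/-- A non-cyclic subgroup of a dihedral `2`-group is generated in the dihedral way and contains a four-group. -/
theorem shape {S : Type*} [Group S] [Finite S] {n : ℕ} (φ : S →* DihedralGroup (2 ^ n)) (hφ : Function.Injective φ)
    (hS : ¬ IsCyclic S) : ∃ a b : S, 2 ≤ orderOf a ∧ b * b = 1 ∧ b ∉ zpowers a ∧ b * a * b⁻¹ = a⁻¹ ∧
      Nat.card S = 2 * orderOf a ∧ (∀ y : S, y ∉ zpowers a → y * y = 1) ∧ ∃ k, orderOf a = 2 ^ k := by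
  haveI : NeZero (2 ^ n) := ⟨pow_ne_zero _ two_ne_zero⟩
  let R : Subgroup S := (zpowers (DihedralGroup.r (1 : ZMod (2 ^ n)))).comap φ
  have hRmem : ∀ y, y ∈ R ↔ ∃ i, φ y = DihedralGroup.r i := by
    intro y
    rw [Subgroup.mem_comap, mem_zpowers_iff]
    constructor
    · rintro ⟨k, hk⟩
      exact ⟨_, by rw [← hk, DihedralGroup.r_one_zpow]⟩
    · rintro ⟨i, hi⟩
      obtain ⟨k, rfl⟩ := ZMod.intCast_surjective i
      exact ⟨k, by rw [hi, DihedralGroup.r_one_zpow]⟩
  haveI : IsCyclic R := isCyclic_of_injective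
    ((φ.comp R.subtype).codRestrict (zpowers (DihedralGroup.r (1 : ZMod (2 ^ n)))) fun y => y.2)
    fun x y h => Subtype.ext (hφ (congrArg Subtype.val h))
  obtain ⟨a, ha⟩ := (Subgroup.isCyclic_iff_exists_zpowers_eq_top R).1 inferInstance
  obtain ⟨b, hb⟩ : ∃ b, b ∉ R := by
    by_contra hno
    push Not at hno
    exact hS ⟨⟨a, fun y => mem_zpowers_iff.1 (ha.ge (hno y))⟩⟩
  have hrefl : ∀ y, y ∉ R → ∃ i, φ y = DihedralGroup.sr i := by
    intro y hy
    rcases h : φ y with i | i
    · exact absurd ((hRmem y).2 ⟨i, h⟩) hy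
    · exact ⟨i, rfl⟩
  have hsq : ∀ y, y ∉ R → y * y = 1 := fun y hy => by
    obtain ⟨i, hi⟩ := hrefl y hy
    exact hφ (by rw [map_mul, hi, DihedralGroup.sr_mul_self, map_one])
  obtain ⟨i, hi⟩ := hrefl b hb
  have hbinv : b⁻¹ = b := inv_eq_of_mul_eq_one_right (hsq b hb)
  obtain ⟨j, hj⟩ := (hRmem a).1 (ha.le (mem_zpowers a))
  have hidx : R.index = 2 := by
    refine index_eq_two_iff.2 ⟨b, fun y => ?_⟩
    by_cases hy : y ∈ R
    · exact Or.inr ⟨hy, fun h => hb ((mul_mem_cancel_left hy).1 h)⟩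
    · obtain ⟨k, hk⟩ := hrefl y hy
      exact Or.inl ⟨(hRmem _).2 ⟨i - k, by rw [map_mul, hk, hi, DihedralGroup.sr_mul_sr]⟩, hy⟩
  have hcard : Nat.card S = 2 * orderOf a := by
    rw [← card_mul_index R, hidx, ← ha, Nat.card_zpowers, mul_comm]
  refine ⟨a, b, ?_, hsq b hb, fun h => hb (ha.le h), ?_, hcard, fun y hy => hsq y fun h => hy (ha.ge h), ?_⟩
  · by_contra hlt
    have := orderOf_pos a
    exact hS (isCyclic_of_prime_card (p := 2) (by rw [hcard]; omega))
  · refine hφ ?_
    rw [hbinv, map_mul, map_mul, map_inv, hi, hj, DihedralGroup.sr_mul_r, DihedralGroup.sr_mul_sr,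
      DihedralGroup.inv_r]
    congr 1
    ring
  · obtain ⟨k, -, hk⟩ := (Nat.dvd_prime_pow Nat.prime_two).1
      (orderOf_dvd_of_pow_eq_one (show a ^ 2 ^ n = 1 from hφ (by
        rw [map_pow, hj, DihedralGroup.r_pow, map_one, DihedralGroup.one_def]
        congr 1
        rw [ZMod.natCast_self, mul_zero])))
    exact ⟨k, hk⟩

theorem forward (P : Sylow 2 G) (h : ∀ H : Subgroup G, (∀ S : Sylow 2 ↥H, (S : Subgroup ↥H).Normal) →
      (∀ (S : Sylow 2 ↥H) [(S : Subgroup ↥H).Normal], IsCyclic (↥H ⧸ (S : Subgroup ↥H))) →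
      IsCyclic H ∨ (∃ n : ℕ, Nonempty (H ≃* DihedralGroup (2 ^ n))) ∨ Nonempty (H ≃* alternatingGroup (Fin 4))) :
    IsCyclic P ∨ ((∃ n : ℕ, 1 ≤ n ∧ Nonempty ((P : Subgroup G) ≃* DihedralGroup (2 ^ n))) ∧
        ∀ K : Subgroup G, K ≤ P → Nat.card K = 4 → (∀ k ∈ K, k ^ 2 = 1) → Subgroup.centralizer (K : Set G) = K) := by
  have happly : ∀ (A : Subgroup G) (v : G), IsPGroup 2 A → (∀ a ∈ A, v * a = a * v) → (orderOf v).Coprime 2 →
      IsCyclic (A ⊔ zpowers v : Subgroup G) ∨ (∃ n : ℕ, Nonempty ((A ⊔ zpowers v : Subgroup G) ≃* DihedralGroup (2 ^ n))) ∨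
        Nonempty ((A ⊔ zpowers v : Subgroup G) ≃* alternatingGroup (Fin 4)) := by
    intro A v hA hv hvc
    set H := A ⊔ zpowers v
    have hAH : A ≤ H := le_sup_left
    have hvN : v ∈ normalizer (A : Set G) := centralizer_le_normalizer _ (mem_centralizer_iff.2 fun a ha => (hv a ha).symm)
    have hn : H ≤ normalizer (A : Set G) := sup_le le_normalizer (zpowers_le.2 hvN)
    have hNA : (A.subgroupOf H).Normal := (normal_subgroupOf_iff_le_normalizer hAH).2 hn
    have hvH : v ∈ H := mem_sup_right (mem_zpowers v)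
    have hsurj : ∀ g : H, ∃ w ∈ zpowers v, w⁻¹ * (g : G) ∈ A := by
      intro g
      have hg : (g : G) ∈ A ⊔ zpowers v := g.2
      rw [← SetLike.mem_coe, coe_mul_of_right_le_normalizer_left A (zpowers v) (zpowers_le.2 hvN)] at hg
      obtain ⟨a, ha, w, hw, haw⟩ := Set.mem_mul.1 hg
      refine ⟨w, hw, ?_⟩
      obtain ⟨i, rfl⟩ := mem_zpowers_iff.1 hw
      have hc : Commute a (v ^ i) := (Commute.symm (hv a ha)).zpow_right i
      rw [← haw, hc.eq, inv_mul_cancel_left]
      exact ha
    haveI := hNA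
    have hidx : ¬ 2 ∣ A.relIndex H := by
      intro hd
      let π : ↥(zpowers v) →* ↥H ⧸ A.subgroupOf H :=
        (QuotientGroup.mk' (A.subgroupOf H)).comp (Subgroup.inclusion (zpowers_le.2 hvH))
      have hπ : Function.Surjective π := fun q => by
        obtain ⟨g, rfl⟩ := QuotientGroup.mk_surjective q
        obtain ⟨w, hw, hwA⟩ := hsurj g
        exact ⟨⟨w, hw⟩, QuotientGroup.eq.2 hwA⟩
      have h1 : A.relIndex H ∣ orderOf v := by
        rw [← Nat.card_zpowers, relIndex, index_eq_card]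
        exact card_dvd_of_surjective π hπ
      exact (by norm_num : ¬ (2 = 1)) (Nat.eq_one_of_dvd_coprimes hvc (hd.trans h1) dvd_rfl)
    have heq : ∀ S : Sylow 2 ↥H, (S : Subgroup ↥H) = A.subgroupOf H := fun S =>
      sylow_eq_of_normal _ (hA.of_equiv (subgroupOfEquivOfLe hAH).symm) hidx S
    refine h H (fun S => by rw [heq S]; exact hNA) fun S inst => ?_
    refine isCyclic_of_surjective ((QuotientGroup.mk' (S : Subgroup ↥H)).comp (Subgroup.inclusion (zpowers_le.2 hvH)))
      fun q => ?_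
    obtain ⟨g, rfl⟩ := QuotientGroup.mk_surjective q
    obtain ⟨w, hw, hwA⟩ := hsurj g
    exact ⟨⟨w, hw⟩, QuotientGroup.eq.2 (by rw [heq S]; exact hwA)⟩
  have happly' : ∀ A : Subgroup G, IsPGroup 2 A →
      IsCyclic A ∨ (∃ n : ℕ, Nonempty (A ≃* DihedralGroup (2 ^ n))) := by
    intro A hA
    have h1 := happly A 1 hA (fun a _ => by rw [one_mul, mul_one]) (by rw [orderOf_one]; exact Nat.coprime_one_left 2)
    rw [zpowers_one_eq_bot, sup_bot_eq] at h1
    rcases h1 with h1 | h1 | h1
    · exact Or.inl h1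
    · exact Or.inr h1
    · obtain ⟨e⟩ := h1
      obtain ⟨k, hk⟩ := hA.exists_card_eq
      rw [Nat.card_congr e.toEquiv, card_four_alt] at hk
      have : 3 ∣ 2 ^ k := hk ▸ by norm_num
      exact absurd (Nat.prime_three.dvd_of_dvd_pow this) (by norm_num)
  rcases happly' _ P.isPGroup' with hc | ⟨n, e⟩
  · exact Or.inl hc
  by_cases hc : IsCyclic P
  · exact Or.inl hc
  refine Or.inr ⟨⟨n, Nat.pos_of_ne_zero fun h0 => hc ?_, e⟩, fun K hKP hK hexp => ?_⟩
  · obtain ⟨e⟩ := e
    exact isCyclic_of_prime_card (p := 2) (by rw [Nat.card_congr e.toEquiv, DihedralGroup.nat_card, h0, pow_zero, mul_one])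
  have hKcomm : ∀ a ∈ K, ∀ b ∈ K, a * b = b * a := by
    intro a ha b hb
    have h1 : (a * b) ^ 2 = 1 := hexp _ (mul_mem ha hb)
    have ha' : a⁻¹ = a := inv_eq_of_mul_eq_one_right (by rw [← pow_two]; exact hexp a ha)
    have hb' : b⁻¹ = b := inv_eq_of_mul_eq_one_right (by rw [← pow_two]; exact hexp b hb)
    rw [pow_two] at h1
    calc a * b = (a * b)⁻¹ := (inv_eq_of_mul_eq_one_right h1).symm
      _ = b * a := by rw [mul_inv_rev, ha', hb']
  refine le_antisymm (fun c hc => ?_) fun k hk => mem_centralizer_iff.2 fun k' hk' => hKcomm k' hk' k hk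
  obtain ⟨u, v, huv, hu, hv, hup, hvc⟩ := Cfsg.Agent.S4082.exists_parts (p := 2) c
  have hcent : ∀ y ∈ zpowers c, ∀ k ∈ K, y * k = k * y := fun y hy k hk =>
    (mem_centralizer_iff.1 (zpowers_le.2 hc hy) k hk).symm
  have huK : u ∈ K := by
    set A := K ⊔ zpowers u
    have hA : IsPGroup 2 A := IsPGroup.to_sup_of_normal_left' (IsPGroup.of_card (n := 2) hK) hup
      (zpowers_le.2 (centralizer_le_normalizer _ (mem_centralizer_iff.2 fun k hk => (hcent u hu k hk).symm)))
    have hcomm : A ≤ centralizer (A : Set G) := by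
      have h1 : ∀ k ∈ K, k ∈ centralizer (A : Set G) := by
        intro k hk
        rw [centralizer_eq_iInf] at *
        simp only [mem_iInf, SetLike.mem_coe, mem_centralizer_singleton_iff]
        intro y hy
        have hle : A ≤ centralizer ({k} : Set G) := sup_le
          (fun a ha => mem_centralizer_singleton_iff.2 (hKcomm a ha k hk))
          (zpowers_le.2 (mem_centralizer_singleton_iff.2 (hcent u hu k hk)))
        exact (mem_centralizer_singleton_iff.1 (hle hy)).symm
      refine sup_le h1 (zpowers_le.2 (mem_centralizer_iff.2 fun y hy => ?_))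
      have hle : A ≤ centralizer ({u} : Set G) := sup_le
        (fun a ha => mem_centralizer_singleton_iff.2 (hcent u hu a ha).symm)
        (zpowers_le.2 (mem_centralizer_singleton_iff.2 rfl))
      exact mem_centralizer_singleton_iff.1 (hle hy)
    rcases happly' A hA with hA' | ⟨m, ⟨e⟩⟩
    · exact absurd hA' (not_cyclic_of_four hK hexp le_sup_left)
    · have hm := dihedral_comm (fun a b => Subtype.ext (mem_centralizer_iff.1 (hcomm b.2) a a.2)) e
      have hcard : Nat.card A ≤ 4 := by
        rw [Nat.card_congr e.toEquiv, DihedralGroup.nat_card]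
        have : 2 ^ m ≤ 2 ^ 1 := Nat.pow_le_pow_right two_pos hm
        omega
      exact (eq_of_le_of_card_ge (le_sup_left : K ≤ A) (hcard.trans hK.ge)).ge (mem_sup_right (mem_zpowers u))
  have hv1 : v = 1 := by
    rcases happly K v (IsPGroup.of_card (n := 2) hK) (fun k hk => hcent v hv k hk) hvc with hA' | ⟨m, ⟨e⟩⟩ | hA'
    · exact absurd hA' (not_cyclic_of_four hK hexp le_sup_left)
    · have h1 : orderOf v ∣ 2 ^ (m + 1) := by
        rw [pow_succ', ← DihedralGroup.nat_card, ← Nat.card_congr e.toEquiv, ← Nat.card_zpowers]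
        exact card_dvd_of_le le_sup_right
      exact orderOf_eq_one_iff.1 (Nat.eq_one_of_dvd_coprimes (hvc.pow_right (m + 1)) dvd_rfl h1)
    · obtain ⟨e⟩ := hA'
      refine absurd (fun a b => e.symm.injective ?_) not_comm_four
      rw [map_mul, map_mul]
      have hle : (K ⊔ zpowers v : Subgroup G) ≤ centralizer ((K ⊔ zpowers v : Subgroup G) : Set G) := by
        refine sup_le (fun k hk => mem_centralizer_iff.2 fun y hy => ?_) (zpowers_le.2 (mem_centralizer_iff.2 fun y hy => ?_))
        · have h2 : (K ⊔ zpowers v : Subgroup G) ≤ centralizer ({k} : Set G) := sup_le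
            (fun a ha => mem_centralizer_singleton_iff.2 (hKcomm a ha k hk))
            (zpowers_le.2 (mem_centralizer_singleton_iff.2 (hcent v hv k hk)))
          exact mem_centralizer_singleton_iff.1 (h2 hy)
        · have h2 : (K ⊔ zpowers v : Subgroup G) ≤ centralizer ({v} : Set G) := sup_le
            (fun a ha => mem_centralizer_singleton_iff.2 (hcent v hv a ha).symm)
            (zpowers_le.2 (mem_centralizer_singleton_iff.2 rfl))
          exact mem_centralizer_singleton_iff.1 (h2 hy)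
      exact Subtype.ext (mem_centralizer_iff.1 (hle (e.symm b).2) (e.symm a) (e.symm a).2)
  rw [← huv, hv1, mul_one]
  exact huK

theorem backward (P : Sylow 2 G) (hcase : IsCyclic P ∨
      ((∃ n : ℕ, 1 ≤ n ∧ Nonempty ((P : Subgroup G) ≃* DihedralGroup (2 ^ n))) ∧
        ∀ K : Subgroup G, K ≤ P → Nat.card K = 4 → (∀ k ∈ K, k ^ 2 = 1) → Subgroup.centralizer (K : Set G) = K))
    (H : Subgroup G) (hSn : ∀ S : Sylow 2 ↥H, (S : Subgroup ↥H).Normal)
    (hSq : ∀ (S : Sylow 2 ↥H) [(S : Subgroup ↥H).Normal], IsCyclic (↥H ⧸ (S : Subgroup ↥H))) :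
    IsCyclic H ∨ (∃ n : ℕ, Nonempty (H ≃* DihedralGroup (2 ^ n))) ∨ Nonempty (H ≃* alternatingGroup (Fin 4)) := by
  obtain ⟨S⟩ : Nonempty (Sylow 2 H) := inferInstance
  haveI := hSn S
  haveI := hSq S
  obtain ⟨g, hg⟩ := Cfsg.Agent.S4082.exists_conj_le P (S.isPGroup'.map H.subtype)
  let f : (S : Subgroup H) →* (P : Subgroup G) :=
    ((MulAut.conj g).toMonoidHom.comp (H.subtype.comp (S : Subgroup H).subtype)).codRestrict (P : Subgroup G)
      fun s => hg (mem_map_of_mem _ (mem_map_of_mem _ s.2))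
  have hf : Function.Injective f := fun s t hst =>
    Subtype.ext (Subtype.ext ((MulAut.conj g).injective (congrArg Subtype.val hst)))
  -- elements of odd order centralizing a cyclic Sylow subgroup
  by_cases hSc : IsCyclic (S : Subgroup H)
  · left
    refine isCyclic_of_central S fun s hs => mem_center_iff.2 fun x => ?_
    obtain ⟨u, v, huv, -, -, hup, hvc⟩ := Cfsg.Agent.S4082.exists_parts (p := 2) x
    have huS : u ∈ (S : Subgroup H) := (S.is_maximal' (IsPGroup.to_sup_of_normal_left S.isPGroup' hup)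
      le_sup_left).le (mem_sup_right (mem_zpowers u))
    have h1 : Commute s u := congrArg Subtype.val
      ((IsCyclic.commGroup (α := (S : Subgroup H))).mul_comm ⟨s, hs⟩ ⟨u, huS⟩)
    have h2 : Commute v s := commute_of_fix S.isPGroup' (normalizer_eq_top_iff.2 (hSn S) ▸ mem_top v) hvc
      (fun w hw hwo => by
        have hwo' : orderOf (v * w * v⁻¹) = 2 := by
          rw [show v * w * v⁻¹ = MulAut.conj v w from rfl, MulEquiv.orderOf_eq, hwo]
        have h3 : zpowers (v * w * v⁻¹) = zpowers w := Cfsg.Agent.S4082.eq_of_card_eq (S := (S : Subgroup H))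
          (zpowers_le.2 ((hSn S).conj_mem w hw v)) (zpowers_le.2 hw) (by rw [Nat.card_zpowers, Nat.card_zpowers, hwo', hwo])
        obtain ⟨i, hi⟩ := (mem_powers_iff_mem_zpowers).2 (h3 ▸ mem_zpowers (v * w * v⁻¹) : v * w * v⁻¹ ∈ zpowers w)
        simp only at hi
        rw [← pow_mod_orderOf, hwo] at hi
        rcases Nat.mod_two_eq_zero_or_one i with h | h <;> rw [h] at hi
        · rw [pow_zero] at hi
          rw [← hi, orderOf_one] at hwo'
          norm_num at hwo'
        · rw [pow_one] at hi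
          exact mul_inv_eq_iff_eq_mul.1 hi.symm) s hs
    rw [← huv]
    exact (h1.mul_right h2.symm).eq.symm
  rcases hcase with hP | ⟨⟨n, -, ⟨e⟩⟩, hK⟩
  · haveI := hP
    exact absurd (isCyclic_of_injective f hf) hSc
  right
  obtain ⟨a, b, ha2, hbb, hba, hconj, hcard, hout, k, hk⟩ :=
    shape (e.toMonoidHom.comp f) (e.injective.comp hf) hSc
  haveI : NeZero (orderOf a) := ⟨(orderOf_pos a).ne'⟩
  have hbinv : b⁻¹ = b := inv_eq_of_mul_eq_one_right hbb
  -- a four-group
  set z := a ^ (orderOf a / 2) with hz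
  have hzo : orderOf z = 2 := by
    rw [hz, orderOf_pow_orderOf_div (orderOf_pos a).ne']
    rw [hk]
    refine dvd_pow_self 2 fun h0 => ?_
    rw [hk, h0, pow_zero] at ha2
    omega
  have hzz₀ : z ^ 2 = 1 := orderOf_dvd_iff_pow_eq_one.1 hzo.dvd
  have hzb : Commute z b := by
    have h1 : b * z * b⁻¹ = z⁻¹ := by rw [hz, ← conj_pow, hconj, inv_pow]
    rw [inv_eq_of_mul_eq_one_right (show z * z = 1 by rw [← pow_two, hzz₀])] at h1
    exact (mul_inv_eq_iff_eq_mul.1 h1).symm
  have hzne : z ≠ 1 := fun h => by rw [h, orderOf_one] at hzo; omega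
  let K₀ : Subgroup (S : Subgroup H) :=
    { carrier := {1, z, b, z * b}
      one_mem' := by simp
      mul_mem' := by
        have hzz : z * z = 1 := by rw [← pow_two, hzz₀]
        have e1 : ∀ x, z * (z * x) = x := fun x => by rw [← mul_assoc, hzz, one_mul]
        have e2 : ∀ x, b * (z * x) = z * (b * x) := fun x => by rw [← mul_assoc, ← hzb.eq, mul_assoc]
        rintro x y (rfl | rfl | rfl | rfl) (rfl | rfl | rfl | rfl) <;>
          simp [hzz, hbb, e1, e2, ← hzb.eq, mul_assoc]
      inv_mem' := by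
        have hzi : z⁻¹ = z := inv_eq_of_mul_eq_one_right (by rw [← pow_two, hzz₀])
        rintro x (rfl | rfl | rfl | rfl) <;> simp [hzi, hbinv, ← hzb.eq] }
  have hb1 : b ≠ 1 := fun h => hba (h ▸ one_mem _)
  have hzmem : z ∈ zpowers a := pow_mem (mem_zpowers a) _
  have hK₀card : Nat.card K₀ = 4 := by
    show Nat.card ({1, z, b, z * b} : Set (S : Subgroup H)) = 4
    rw [Nat.card_coe_set_eq, Set.ncard_insert_of_notMem, Set.ncard_insert_of_notMem, Set.ncard_pair]
    · intro h
      exact hzne (mul_eq_right.1 h.symm)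
    · simp only [Set.mem_insert_iff, Set.mem_singleton_iff, not_or]
      exact ⟨fun h => hba (h ▸ hzmem), fun h => hb1 (left_eq_mul.1 h)⟩
    · simp only [Set.mem_insert_iff, Set.mem_singleton_iff, not_or]
      refine ⟨fun h => hzne h.symm, fun h => hb1 h.symm, fun h => hba ?_⟩
      rw [eq_inv_of_mul_eq_one_right h.symm]
      exact inv_mem hzmem
  have hK₀exp : ∀ x ∈ K₀, x ^ 2 = 1 := by
    have hzz : z ^ 2 = 1 := hzz₀
    rintro x (rfl | rfl | rfl | rfl)
    · exact one_pow 2
    · exact hzz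
    · rw [pow_two, hbb]
    · rw [hzb.mul_pow, hzz, pow_two, hbb, mul_one]
  -- its centralizer in `H`
  have hcent : ∀ y : H, (∀ x ∈ K₀, y * x = x * y) → ∃ x ∈ K₀, (x : H) = y := by
    intro y hy
    set K := K₀.map ((MulAut.conj g).toMonoidHom.comp (H.subtype.comp (S : Subgroup H).subtype))
    have hinj : Function.Injective ((MulAut.conj g).toMonoidHom.comp (H.subtype.comp (S : Subgroup H).subtype)) :=
      (MulAut.conj g).injective.comp (H.subtype_injective.comp (S : Subgroup H).subtype_injective)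
    have hKeq := hK K (by rintro _ ⟨x, -, rfl⟩; exact (f x).2) (by rw [card_map_of_injective hinj, hK₀card]) (by
      rintro _ ⟨x, hx, rfl⟩
      rw [← map_pow, hK₀exp x hx, map_one])
    have hmem : MulAut.conj g (y : G) ∈ centralizer (K : Set G) := by
      refine mem_centralizer_iff.2 ?_
      rintro _ ⟨x, hx, rfl⟩
      show MulAut.conj g ((x : H) : G) * MulAut.conj g (y : G) = MulAut.conj g (y : G) * MulAut.conj g ((x : H) : G)
      rw [← map_mul, ← map_mul, ← Subgroup.coe_mul, ← Subgroup.coe_mul, hy x hx]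
    rw [hKeq] at hmem
    obtain ⟨x, hx, hxy⟩ := hmem
    exact ⟨x, hx, Subtype.ext ((MulAut.conj g).injective hxy)⟩
  have hdih : Nonempty ((S : Subgroup H) ≃* DihedralGroup (2 ^ k)) := by
    haveI : NeZero (2 ^ k) := ⟨pow_ne_zero _ two_ne_zero⟩
    exact CfsgLib.TwoGroups.nonempty_mulEquiv_dihedralGroup hk hbb hba hconj (by rw [hcard, hk])
  by_cases htop : (S : Subgroup H) = ⊤
  · obtain ⟨e'⟩ := hdih
    exact Or.inl ⟨k, ⟨((MulEquiv.subgroupCongr htop).trans Subgroup.topEquiv).symm.trans e'⟩⟩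
  obtain ⟨v, hvc, hvS⟩ : ∃ v : H, (orderOf v).Coprime 2 ∧ v ∉ (S : Subgroup H) := by
    by_contra hno
    push Not at hno
    refine htop (eq_top_iff.2 fun x _ => ?_)
    obtain ⟨u, v, huv, -, -, hup, hvc⟩ := Cfsg.Agent.S4082.exists_parts (p := 2) x
    rw [← huv]
    exact mul_mem ((S.is_maximal' (IsPGroup.to_sup_of_normal_left S.isPGroup' hup)
      le_sup_left).le (mem_sup_right (mem_zpowers u))) (hno v hvc)
  have hnofix : ∀ w : H, w ∉ (S : Subgroup H) → ∃ x ∈ K₀, ¬ Commute w (x : H) := by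
    intro w hw
    by_contra hno
    push Not at hno
    obtain ⟨x, -, hxw⟩ := hcent w fun x hx => (hno x hx).eq
    exact hw (hxw ▸ x.2)
  by_cases ha4 : orderOf a = 2
  swap
  · exfalso
    -- a dihedral group of order at least eight has no automorphism of odd order
    have haH : orderOf (a : H) = orderOf a := orderOf_coe a
    have hva : Commute v (a : H) := by
      obtain ⟨j, hj⟩ := Nat.exists_eq_succ_of_ne_zero (show k ≠ 0 from fun h0 => by rw [hk, h0, pow_zero] at ha2; omega)
      subst hj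
      have hmem : v * (a : H) * v⁻¹ ∈ zpowers (a : H) := by
        have h1 : (⟨_, (hSn S).conj_mem (a : H) a.2 v⟩ : (S : Subgroup H)) ∈ zpowers a := by
          by_contra h'
          have h2 := congrArg Subtype.val (hout _ h')
          rw [Subgroup.coe_mul, ← pow_two, Subgroup.coe_one] at h2
          have h3 := orderOf_dvd_of_pow_eq_one h2
          rw [show orderOf (v * (a : H) * v⁻¹) = orderOf (MulAut.conj v (a : H)) from rfl, MulEquiv.orderOf_eq, haH] at h3
          exact ha4 ((Nat.dvd_prime Nat.prime_two).1 h3 |>.resolve_left (by omega))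
        obtain ⟨i, hi⟩ := mem_zpowers_iff.1 h1
        exact mem_zpowers_iff.2 ⟨i, by simpa using congrArg Subtype.val hi⟩
      refine commute_of_fix_omega (haH.trans hk) hmem hvc ?_
      -- the involution of `⟨a⟩`
      set w := (a : H) ^ 2 ^ j
      have hwo : orderOf w = 2 := by
        rw [orderOf_pow, haH.trans hk, Nat.gcd_eq_right (pow_dvd_pow 2 j.le_succ), pow_succ,
          Nat.mul_div_cancel_left _ (pow_pos two_pos j)]
      have h4 : v * w * v⁻¹ ∈ zpowers (a : H) := by
        rw [← conj_pow]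
        exact pow_mem hmem _
      have h5 : zpowers (v * w * v⁻¹) = zpowers w := Cfsg.Agent.S4082.eq_of_card_eq (S := zpowers (a : H))
        (zpowers_le.2 h4) (zpowers_le.2 (pow_mem (mem_zpowers _) _)) (by
          rw [Nat.card_zpowers, Nat.card_zpowers, show v * w * v⁻¹ = MulAut.conj v w from rfl, MulEquiv.orderOf_eq])
      obtain ⟨i, hi⟩ := (mem_powers_iff_mem_zpowers).2 (h5 ▸ mem_zpowers (v * w * v⁻¹) : v * w * v⁻¹ ∈ zpowers w)
      simp only at hi
      rw [← pow_mod_orderOf, hwo] at hi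
      rcases Nat.mod_two_eq_zero_or_one i with h | h <;> rw [h] at hi
      · rw [pow_zero, eq_comm, conj_eq_one_iff] at hi
        rw [hi, orderOf_one] at hwo
        omega
      · rw [pow_one] at hi
        exact mul_inv_eq_iff_eq_mul.1 hi.symm
    have hvb : Commute v (b : H) := by
      have hidx2 : (zpowers a).index = 2 := by
        have h1 := card_mul_index (zpowers a)
        rw [Nat.card_zpowers, hcard, mul_comm 2] at h1
        exact Nat.eq_of_mul_eq_mul_left (orderOf_pos a) h1
      have hvb' : (⟨_, (hSn S).conj_mem (b : H) b.2 v⟩ : (S : Subgroup H)) ∉ zpowers a := by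
        intro h'
        obtain ⟨i, hi⟩ := mem_zpowers_iff.1 h'
        have h2 : (a : H) ^ i = v * (b : H) * v⁻¹ := by simpa using congrArg Subtype.val hi
        have h3 : v * (b : H) * v⁻¹ = v * (a : H) ^ i * v⁻¹ := by
          rw [← h2, (hva.zpow_right i).eq, mul_inv_cancel_right]
        have h4 : b = a ^ i := Subtype.ext (by simpa using h3)
        exact hba (h4 ▸ zpow_mem (mem_zpowers a) i)
      obtain ⟨i, hi⟩ := (mem_powers_iff_mem_zpowers).2
        ((mul_mem_iff_of_index_two hidx2).2 (iff_of_false hba hvb') :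
          b * (⟨_, (hSn S).conj_mem (b : H) b.2 v⟩ : (S : Subgroup H)) ∈ zpowers a)
      have h1 : v * (b : H) * v⁻¹ = (b : H) * (a : H) ^ i := by
        have h2 := congrArg Subtype.val hi
        simp only [Subgroup.coe_mul, SubmonoidClass.coe_pow] at h2
        rw [h2, ← mul_assoc, ← Subgroup.coe_mul, hbb, Subgroup.coe_one, one_mul]
      have hiter : ∀ j : ℕ, v ^ j * (b : H) * (v ^ j)⁻¹ = (b : H) * (a : H) ^ (i * j) := by
        intro j
        induction j with
        | zero => simp
        | succ j ih =>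
          rw [pow_succ' v, show v * v ^ j * (b : H) * (v * v ^ j)⁻¹ = v * (v ^ j * (b : H) * (v ^ j)⁻¹) * v⁻¹ by group,
            ih, show v * ((b : H) * (a : H) ^ (i * j)) * v⁻¹ = (v * (b : H) * v⁻¹) * (v * (a : H) ^ (i * j) * v⁻¹) by group,
            h1, (hva.pow_right _).eq, mul_inv_cancel_right, mul_assoc, ← pow_add, mul_add, mul_one, add_comm]
      have h3 := hiter (orderOf v)
      rw [pow_orderOf_eq_one, one_mul, inv_one, mul_one, eq_comm, mul_eq_left, ← orderOf_dvd_iff_pow_eq_one, haH, hk] at h3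
      have h4 : (a : H) ^ i = 1 := by
        rw [← orderOf_dvd_iff_pow_eq_one, haH, hk]
        exact (hvc.symm.pow_left k).dvd_of_dvd_mul_right h3
      rw [h4, mul_one] at h1
      exact mul_inv_eq_iff_eq_mul.1 h1
    obtain ⟨x, hx, hnx⟩ := hnofix v hvS
    refine hnx ?_
    have hvz : Commute v (z : H) := by simpa [hz] using hva.pow_right (orderOf a / 2)
    rcases hx with rfl | rfl | rfl | rfl
    · exact Commute.one_right v
    · exact hvz
    · exact hvb
    · exact hvz.mul_right hvb
  right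
  have hScard : Nat.card (S : Subgroup H) = 4 := by rw [hcard, ha4]
  have hK₀top : K₀ = ⊤ := eq_top_of_card_eq _ (by rw [hK₀card, hScard])
  -- the action on the involutions
  let X := {x : (S : Subgroup H) // x ≠ 1}
  let ρ : H →* Equiv.Perm X :=
    { toFun := fun y =>
        { toFun := fun x => ⟨MulAut.conjNormal y x.1, fun h => x.2 ((MulAut.conjNormal y).injective (h.trans (map_one _).symm))⟩
          invFun := fun x => ⟨(MulAut.conjNormal y).symm x.1, fun h => x.2 ((MulAut.conjNormal y).symm.injective (h.trans (map_one _).symm))⟩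
          left_inv := fun x => Subtype.ext ((MulAut.conjNormal y).symm_apply_apply _)
          right_inv := fun x => Subtype.ext ((MulAut.conjNormal y).apply_symm_apply _) }
      map_one' := by ext x; simp
      map_mul' := fun y y' => by ext x; simp }
  have hker : ρ.ker ≤ (S : Subgroup H) := by
    intro y hy
    by_contra hyS
    obtain ⟨x, -, hnx⟩ := hnofix y hyS
    by_cases hx1 : x = 1
    · exact hnx (by rw [hx1]; exact Commute.one_right y)
    have h1 := congrArg (fun t : X => ((t.1 : (S : Subgroup H)) : H)) (Equiv.congr_fun (MonoidHom.mem_ker.1 hy) ⟨x, hx1⟩)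
    exact hnx (mul_inv_eq_iff_eq_mul.1 (by simpa [ρ] using h1))
  have h6 : (S : Subgroup H).index ∣ 6 := by
    refine (index_dvd_of_le hker).trans ?_
    rw [index_ker]
    refine (card_subgroup_dvd_card _).trans ?_
    haveI := Classical.decEq X
    rw [Nat.card_perm]
    have : Nat.card X = 3 := by
      haveI := Fintype.ofFinite (S : Subgroup H)
      classical
      rw [Nat.card_eq_fintype_card, Fintype.card_subtype_compl, Fintype.card_subtype_eq, ← Nat.card_eq_fintype_card, hScard]
    rw [this]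
    rfl
  have hidx : (S : Subgroup H).index = 3 := by
    have h2 : ¬ 2 ∣ (S : Subgroup H).index := S.not_dvd_index
    have h3 : (S : Subgroup H).index ≠ 1 := fun h => htop (index_eq_one.1 h)
    have h4 := Nat.le_of_dvd (by norm_num) h6
    interval_cases h5 : (S : Subgroup H).index <;> omega
  have hH12 : Nat.card H = 12 := by rw [← card_mul_index (S : Subgroup H), hScard, hidx]
  obtain ⟨t, ht⟩ := exists_prime_orderOf_dvd_card' 3 (show 3 ∣ Nat.card H from hH12 ▸ by norm_num)
  haveI : Fact (Nat.Prime 3) := ⟨Nat.prime_three⟩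
  have htS : t ∉ (S : Subgroup H) := fun h => by
    have := orderOf_dvd_natCard (⟨t, h⟩ : (S : Subgroup H))
    rw [Subgroup.orderOf_mk, ht, hScard] at this
    norm_num at this
  have hcore : (zpowers t).normalCore = ⊥ := by
    by_contra hne
    have heq : (zpowers t).normalCore = zpowers t := by
      refine eq_of_le_of_card_ge (normalCore_le _) ?_
      have h1 := card_dvd_of_le (normalCore_le (zpowers t))
      rw [Nat.card_zpowers, ht] at h1
      rcases (Nat.dvd_prime Nat.prime_three).1 h1 with h1 | h1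
      · exact absurd (card_eq_one.1 h1) hne
      · rw [Nat.card_zpowers, ht, h1]
    haveI hN : (zpowers t).Normal := heq ▸ normalCore_normal _
    obtain ⟨x, -, hnx⟩ := hnofix t htS
    have hd : Disjoint (zpowers t) (S : Subgroup H) := disjoint_iff.2 (inf_eq_bot_of_coprime (by
      rw [Nat.card_zpowers, ht, hScard]; norm_num))
    exact hnx (commute_of_normal_of_disjoint _ _ hN (hSn S) hd t x (mem_zpowers t) x.2)
  have hQ4 : Nat.card (H ⧸ zpowers t) = 4 := by
    have h1 := card_mul_index (zpowers t)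
    rw [Nat.card_zpowers, ht, hH12, index_eq_card] at h1
    omega
  let e₄ : (H ⧸ zpowers t) ≃ Fin 4 := Finite.equivFinOfCardEq hQ4
  let φ : H →* Equiv.Perm (Fin 4) := e₄.permCongrHom.toMonoidHom.comp (MulAction.toPermHom H (H ⧸ zpowers t))
  have hφ : Function.Injective φ := by
    refine e₄.permCongrHom.injective.comp ?_
    rw [← MonoidHom.ker_eq_bot_iff, ← normalCore_eq_ker, hcore]
  have hrange : φ.range = alternatingGroup (Fin 4) := by
    refine Equiv.Perm.eq_alternatingGroup_of_index_eq_two ?_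
    have h1 := card_mul_index φ.range
    rw [Nat.card_congr (MonoidHom.ofInjective hφ).symm.toEquiv, hH12, Nat.card_perm, Nat.card_fin,
      show Nat.factorial 4 = 24 from rfl] at h1
    omega
  exact ⟨(MonoidHom.ofInjective hφ).trans (MulEquiv.subgroupCongr hrange)⟩

/-- Let G be a finite group with Sylow 2-subgroup P. Every subgroup H of G whose Sylow 2-subgroup is normal in H with cyclic quotient is cyclic, dihedral of 2-power order, or isomorphic to the alternating group of degree 4, if and only if either P is cyclic, or P is dihedral (of order at least 4) and every elementary abelian subgroup K of order 4 of P satisfies C_G(K) = K. -/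
theorem result {G : Type*} [Group G] [Finite G] (P : Sylow 2 G) :
    (∀ H : Subgroup G, (∀ S : Sylow 2 ↥H, (S : Subgroup ↥H).Normal) →
        (∀ (S : Sylow 2 ↥H) [(S : Subgroup ↥H).Normal], IsCyclic (↥H ⧸ (S : Subgroup ↥H))) →
        IsCyclic H ∨ (∃ n : ℕ, Nonempty (H ≃* DihedralGroup (2 ^ n))) ∨ Nonempty (H ≃* alternatingGroup (Fin 4))) ↔
    (IsCyclic P ∨
      ((∃ n : ℕ, 1 ≤ n ∧ Nonempty ((P : Subgroup G) ≃* DihedralGroup (2 ^ n))) ∧
        ∀ K : Subgroup G, K ≤ P → Nat.card K = 4 → (∀ k ∈ K, k ^ 2 = 1) → Subgroup.centralizer (K : Set G) = K)) := by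
  exact ⟨fun h => forward P h, fun hc H h1 h2 => backward P hc H h1 h2⟩

end Cfsg.Agent.S4083
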