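import Cfsg.Statements.S4084
import Mathlib


set_option autoImplicit false
open Cfsg

namespace Cfsg.Agent.S4084

theorem aux (K : Type*) [Group K] [Finite K] {p q : ℕ} (hp : p.Prime) (hq : q.Prime) (hpq : p ≠ q) :
    (∃ g : K, orderOf g = p * q) ↔
      ∃ S : Set K, (∀ a ∈ S, ∀ b ∈ S, Commute a b) ∧
        (∀ c : K, (∀ a ∈ S, Commute c a) → c ∈ S) ∧ p ∣ Nat.card S ∧ q ∣ Nat.card S := by
  let mk : ∀ S : Set K, (∀ a ∈ S, ∀ b ∈ S, Commute a b) → (∀ c : K, (∀ a ∈ S, Commute c a) → c ∈ S) → Subgroup K :=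
    fun S hS hmax =>
      { carrier := S
        one_mem' := hmax 1 fun a _ => Commute.one_left a
        mul_mem' := fun {a b} ha hb => hmax _ fun c hc => (hS a ha c hc).mul_left (hS b hb c hc)
        inv_mem' := fun {a} ha => hmax _ fun c hc => (hS a ha c hc).inv_left }
  constructor
  · rintro ⟨g, hg⟩
    obtain ⟨S, hgS, hSmax⟩ := (Set.toFinite {S : Set K | g ∈ S ∧ ∀ a ∈ S, ∀ b ∈ S, Commute a b}).exists_maximal
      ⟨{g}, Set.mem_singleton g, by rintro a rfl b rfl; exact Commute.refl _⟩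
    obtain ⟨hg1, hS⟩ := hgS
    have hmax : ∀ c : K, (∀ a ∈ S, Commute c a) → c ∈ S := by
      intro c hc
      have hins : insert c S ∈ {S : Set K | g ∈ S ∧ ∀ a ∈ S, ∀ b ∈ S, Commute a b} := by
        refine ⟨Set.mem_insert_of_mem _ hg1, ?_⟩
        rintro a (rfl | ha) b (rfl | hb)
        · exact Commute.refl _
        · exact hc b hb
        · exact (hc a ha).symm
        · exact hS a ha b hb
      exact hSmax hins (Set.subset_insert c S) (Set.mem_insert c S)
    have hd : orderOf g ∣ Nat.card S := by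
      have h : orderOf (⟨g, hg1⟩ : mk S hS hmax) ∣ Nat.card (mk S hS hmax) := orderOf_dvd_natCard _
      rw [← Subgroup.orderOf_coe] at h
      exact h
    rw [hg] at hd
    exact ⟨S, hS, hmax, (Dvd.intro q rfl).trans hd, (Dvd.intro_left p rfl).trans hd⟩
  · rintro ⟨S, hS, hmax, hpS, hqS⟩
    have := Fact.mk hp
    have := Fact.mk hq
    obtain ⟨x, hx⟩ := exists_prime_orderOf_dvd_card' (G := mk S hS hmax) p hpS
    obtain ⟨y, hy⟩ := exists_prime_orderOf_dvd_card' (G := mk S hS hmax) q hqS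
    have hcop : (orderOf x).Coprime (orderOf y) := by
      rw [hx, hy]; exact (Nat.coprime_primes hp hq).2 hpq
    have hc : Commute x y := Subtype.ext (hS x.1 x.2 y.1 y.2)
    refine ⟨((x * y : mk S hS hmax) : K), ?_⟩
    rw [Subgroup.orderOf_coe, hc.orderOf_mul_eq_mul_orderOf_of_coprime hcop, hx, hy]

theorem transfer {G H : Type*} (e : G ≃ H) [Group G] [Group H] [Finite G] [Finite H]
    (he : ∀ x y : G, Commute x y ↔ Commute (e x) (e y)) {p q : ℕ}
    (h : ∃ S : Set G, (∀ a ∈ S, ∀ b ∈ S, Commute a b) ∧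
        (∀ c : G, (∀ a ∈ S, Commute c a) → c ∈ S) ∧ p ∣ Nat.card S ∧ q ∣ Nat.card S) :
    ∃ S : Set H, (∀ a ∈ S, ∀ b ∈ S, Commute a b) ∧
        (∀ c : H, (∀ a ∈ S, Commute c a) → c ∈ S) ∧ p ∣ Nat.card S ∧ q ∣ Nat.card S := by
  obtain ⟨S, hS, hmax, hpS, hqS⟩ := h
  refine ⟨e '' S, ?_, ?_, ?_, ?_⟩
  · rintro _ ⟨a, ha, rfl⟩ _ ⟨b, hb, rfl⟩; exact (he a b).1 (hS a ha b hb)
  · intro c hc
    refine ⟨e.symm c, hmax _ fun a ha => ?_, e.apply_symm_apply c⟩
    rw [he, e.apply_symm_apply]; exact hc _ ⟨a, ha, rfl⟩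
  · rwa [Nat.card_image_of_injective e.injective]
  · rwa [Nat.card_image_of_injective e.injective]

/-- Let G and H be finite groups whose commuting graphs are isomorphic: there is a bijection e : G → H with x, y commuting exactly when e(x), e(y) commute. Then G and H have the same prime graph: for distinct primes p, q, G has an element of order pq if and only if H does (and #G = #H, so the prime divisors agree). -/
theorem result {G H : Type*} [Group G] [Finite G] [Group H] [Finite H] (e : G ≃ H)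
    (he : ∀ x y : G, Commute x y ↔ Commute (e x) (e y))
    {p q : ℕ} (hp : p.Prime) (hq : q.Prime) (hpq : p ≠ q) :
    (∃ g : G, orderOf g = p * q) ↔ (∃ h : H, orderOf h = p * q) := by
  rw [aux G hp hq hpq, aux H hp hq hpq]
  exact ⟨transfer e he, transfer e.symm fun x y => by rw [he, e.apply_symm_apply, e.apply_symm_apply]⟩

end Cfsg.Agent.S4084
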