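import Cfsg.Statements.S4086
import Mathlib


set_option autoImplicit false
open Cfsg

namespace Cfsg.Agent.S4086

/-- For a finite group G the following are equivalent: every non-identity element has prime-power order; whenever two elements generate a cyclic subgroup, one of them is a power of the other (the enhanced power graph of G coincides with its power graph). -/
theorem result {G : Type*} [Group G] [Finite G] :
    (∀ g : G, g ≠ 1 → IsPrimePow (orderOf g)) ↔
    (∀ x y : G, IsCyclic ↥(Subgroup.closure ({x, y} : Set G)) → (x ∈ Subgroup.zpowers y ∨ y ∈ Subgroup.zpowers x)) := by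
  constructor
  · intro h x y hc
    obtain ⟨g, hg⟩ := (Subgroup.isCyclic_iff_exists_zpowers_eq_top _).1 hc
    have hx : x ∈ Subgroup.zpowers g := hg ▸ Subgroup.subset_closure (by simp)
    have hy : y ∈ Subgroup.zpowers g := hg ▸ Subgroup.subset_closure (by simp)
    rcases eq_or_ne g 1 with rfl | hg1
    · left; simp at hx; simp [hx]
    obtain ⟨p, k, hp, hk, hord⟩ := (isPrimePow_nat_iff _).1 (h g hg1)
    have gen : ∀ z ∈ Subgroup.zpowers g, ∃ i, Subgroup.zpowers z = Subgroup.zpowers (g ^ p ^ i) := by
      intro z hz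
      obtain ⟨n, rfl⟩ := mem_powers_iff_mem_zpowers.2 hz
      obtain ⟨i, hik, hi⟩ := (Nat.dvd_prime_pow hp).1 (Nat.gcd_dvd_left (p ^ k) n)
      refine ⟨i, ?_⟩
      apply le_antisymm <;> rw [Subgroup.zpowers_le]
      · obtain ⟨c, hc⟩ : p ^ i ∣ n := hi ▸ Nat.gcd_dvd_right (p ^ k) n
        simp only [hc, pow_mul]
        exact Subgroup.pow_mem _ (Subgroup.mem_zpowers _) _
      · have hb := Nat.gcd_eq_gcd_ab (p ^ k) n
        rw [hi] at hb
        have : g ^ ((p ^ i : ℕ) : ℤ) = (g ^ n) ^ (Nat.gcdB (p ^ k) n) := by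
          rw [hb, zpow_add, zpow_mul, zpow_natCast, hord, pow_orderOf_eq_one, one_zpow, one_mul,
            zpow_mul, zpow_natCast]
        rw [zpow_natCast] at this
        rw [this]
        exact Subgroup.zpow_mem _ (Subgroup.mem_zpowers _) _
    obtain ⟨i, hi⟩ := gen x hx
    obtain ⟨j, hj⟩ := gen y hy
    have mono : ∀ a b, a ≤ b → Subgroup.zpowers (g ^ p ^ b) ≤ Subgroup.zpowers (g ^ p ^ a) := by
      intro a b hab
      obtain ⟨c, rfl⟩ := Nat.exists_eq_add_of_le hab
      rw [Subgroup.zpowers_le, pow_add, pow_mul]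
      exact Subgroup.pow_mem _ (Subgroup.mem_zpowers _) _
    rcases le_total i j with hij | hij
    · right
      rw [← Subgroup.zpowers_le, hi, hj]; exact mono i j hij
    · left
      rw [← Subgroup.zpowers_le, hi, hj]; exact mono j i hij
  · intro h g hg
    have ho : orderOf g ≠ 1 := by simpa [orderOf_eq_one_iff] using hg
    obtain ⟨p, hp, hpd⟩ := Nat.exists_prime_and_dvd ho
    rw [isPrimePow_iff_unique_prime_dvd]
    refine ⟨p, ⟨hp, hpd⟩, ?_⟩
    rintro q ⟨hq, hqd⟩
    by_contra hne
    set x := g ^ (orderOf g / p) with hx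
    set y := g ^ (orderOf g / q) with hy
    have hxo : orderOf x = p := orderOf_pow_orderOf_div (orderOf_pos g).ne' hpd
    have hyo : orderOf y = q := orderOf_pow_orderOf_div (orderOf_pos g).ne' hqd
    have hle : Subgroup.closure ({x, y} : Set G) ≤ Subgroup.zpowers g := by
      rw [Subgroup.closure_le]
      rintro z (rfl | rfl) <;> exact Subgroup.pow_mem _ (Subgroup.mem_zpowers _) _
    have hcy : IsCyclic ↥(Subgroup.closure ({x, y} : Set G)) :=
      isCyclic_of_injective (Subgroup.inclusion hle) (Subgroup.inclusion_injective hle)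
    rcases h x y hcy with h1 | h1
    · have h2 := orderOf_dvd_of_mem_zpowers h1
      rw [hxo, hyo] at h2
      exact hne ((Nat.prime_dvd_prime_iff_eq hp hq).1 h2).symm
    · have h2 := orderOf_dvd_of_mem_zpowers h1
      rw [hxo, hyo] at h2
      exact hne ((Nat.prime_dvd_prime_iff_eq hq hp).1 h2)

end Cfsg.Agent.S4086
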