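import Cfsg.Statements.S4088
import Cfsg.Agent.Lib.ClassSizes.Subnormalizer

set_option autoImplicit false
open Cfsg

namespace Cfsg.Agent.S4088

open Subgroup in
theorem card_eq_mul.{u, v} {α : Type u} {β : Type v} [Finite α] [Finite β] (f : α → β) (c : ℕ)
    (h : ∀ b, Nat.card {a // f a = b} = c) : Nat.card α = Nat.card β * c := by
  haveI := Fintype.ofFinite β
  rw [Nat.card_congr (Equiv.sigmaFiberEquiv f).symm, Nat.card_sigma]
  simp [h, Nat.card_eq_fintype_card]

open Subgroup CfsgLib.Transfer in
theorem double_count.{u} {G : Type u} [Group G] [Finite G] {p : ℕ} [Fact p.Prime] (H : Subgroup G)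
    (P : Sylow p G) :
    Nat.card {Q : Sylow p G // H ≤ (Q : Subgroup G)} * Nat.card (Subgroup.normalizer ((P : Subgroup G) : Set G)) =
    Nat.card {K : Subgroup G // K ≤ (P : Subgroup G) ∧ ∃ g : G, K = H.map (MulAut.conj g).toMonoidHom} *
      Nat.card (Subgroup.normalizer (H : Set G)) := by
  let T := {g : G // H.map (MulAut.conj g).toMonoidHom ≤ (P : Subgroup G)}
  have h1 : Nat.card T = Nat.card {K : Subgroup G // K ≤ (P : Subgroup G) ∧ ∃ g : G, K = H.map (MulAut.conj g).toMonoidHom} *
      Nat.card (Subgroup.normalizer (H : Set G)) := by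
    refine card_eq_mul (fun g : T => ⟨H.map (MulAut.conj g.1).toMonoidHom, g.2, g.1, rfl⟩) _ ?_
    rintro ⟨K, hKP, g₀, rfl⟩
    refine Nat.card_congr
      { toFun := fun a => ⟨g₀⁻¹ * a.1.1, map_conj_eq_self_iff.1 ?_⟩
        invFun := fun n => ⟨⟨g₀ * n.1, ?_⟩, Subtype.ext ?_⟩
        left_inv := fun a => Subtype.ext (Subtype.ext (mul_inv_cancel_left _ _))
        right_inv := fun n => Subtype.ext (inv_mul_cancel_left _ _) }
    · have h2 : H.map (MulAut.conj a.1.1).toMonoidHom = H.map (MulAut.conj g₀).toMonoidHom :=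
        congrArg Subtype.val a.2
      ext x
      rw [mem_map_conj]
      constructor
      · intro hx
        have h3 : a.1.1 * ((g₀⁻¹ * a.1.1)⁻¹ * x * (g₀⁻¹ * a.1.1)) * a.1.1⁻¹ ∈ H.map (MulAut.conj a.1.1).toMonoidHom :=
          conj_mem_map_conj hx
        rw [h2, mem_map_conj] at h3
        convert h3 using 1
        group
      · intro hx
        have h3 : g₀ * x * g₀⁻¹ ∈ H.map (MulAut.conj g₀).toMonoidHom := conj_mem_map_conj hx
        rw [← h2, mem_map_conj] at h3
        convert h3 using 1
        group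
    · intro x hx
      refine hKP (mem_map_conj.2 ?_)
      rw [mem_map_conj] at hx
      have h3 := (mem_normalizer_iff.1 n.2 ((g₀ * n.1)⁻¹ * x * (g₀ * n.1))).1 hx
      convert h3 using 1
      group
    · ext x
      rw [mem_map_conj, mem_map_conj]
      refine (mem_normalizer_iff.1 n.2 _).trans (Iff.of_eq (congrArg (· ∈ H) ?_))
      group
  have h2 : Nat.card T = Nat.card {Q : Sylow p G // H ≤ (Q : Subgroup G)} *
      Nat.card (Subgroup.normalizer ((P : Subgroup G) : Set G)) := by
    refine card_eq_mul (fun g : T => ⟨g.1⁻¹ • P, fun x hx => mem_inv_smul_sylow.2 (g.2 (conj_mem_map_conj hx))⟩) _ ?_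
    rintro ⟨Q, hQ⟩
    obtain ⟨g₀, hg₀⟩ := MulAction.exists_smul_eq G Q P
    refine Nat.card_congr
      { toFun := fun a => ⟨a.1.1 * g₀⁻¹, Sylow.smul_eq_iff_mem_normalizer.1 ?_⟩
        invFun := fun n => ⟨⟨n.1 * g₀, ?_⟩, Subtype.ext ?_⟩
        left_inv := fun a => Subtype.ext (Subtype.ext (inv_mul_cancel_right _ _))
        right_inv := fun n => Subtype.ext (mul_inv_cancel_right _ _) }
    · have h3 : a.1.1⁻¹ • P = Q := congrArg Subtype.val a.2
      have h5 : g₀⁻¹ • P = Q := by rw [← hg₀, inv_smul_smul]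
      rw [mul_smul, h5]
      exact (inv_smul_eq_iff.1 h3).symm
    · intro x hx
      rw [mem_map_conj] at hx
      have h4 : (n.1 * g₀) • Q = P := by
        rw [mul_smul, hg₀, Sylow.smul_eq_iff_mem_normalizer.2 n.2]
      rw [← h4, mem_sylow_smul]
      exact hQ hx
    · show (n.1 * g₀)⁻¹ • P = Q
      rw [inv_smul_eq_iff, mul_smul, hg₀, Sylow.smul_eq_iff_mem_normalizer.2 n.2]
  rw [← h2, h1]

/-- Let G be a finite group, p a prime dividing the order of G, H a p-subgroup of G and P a Sylow p-subgroup of G. Call the subnormalizer of H the set of elements g of G such that H is subnormal in the subgroup generated by H and g. Then the number of elements of the subnormalizer of H equals the number of Sylow p-subgroups of G containing H times the order of N_G(P), and also equals the number of conjugates of H contained in P times the order of N_G(H). -/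
theorem result {G : Type*} [Group G] [Finite G] (p : ℕ) [Fact p.Prime]
    (hp : p ∣ Nat.card G) (H : Subgroup G) (hH : IsPGroup p H) (P : Sylow p G) :
    Nat.card {g : G // ((H).subgroupOf (H ⊔ Subgroup.zpowers g)).IsSubnormal} =
        Nat.card {Q : Sylow p G // H ≤ (Q : Subgroup G)} * Nat.card (Subgroup.normalizer ((P : Subgroup G) : Set G)) ∧
    Nat.card {g : G // ((H).subgroupOf (H ⊔ Subgroup.zpowers g)).IsSubnormal} =
        Nat.card {K : Subgroup G // K ≤ (P : Subgroup G) ∧ ∃ g : G, K = H.map (MulAut.conj g).toMonoidHom} *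
          Nat.card (Subgroup.normalizer (H : Set G)) := by
  have h := CfsgLib.ClassSizes.Subnormalizer.card_snz hH P
  have h' : Nat.card {g : G // ((H).subgroupOf (H ⊔ Subgroup.zpowers g)).IsSubnormal} =
      Nat.card (CfsgLib.ClassSizes.Subnormalizer.Snz p H) :=
    Nat.card_congr (Equiv.subtypeEquivRight fun g =>
      CfsgLib.ClassSizes.Subnormalizer.isSubnormal_iff_mem_snz hH g)
  rw [h', h]
  exact ⟨rfl, double_count H P⟩

end Cfsg.Agent.S4088
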