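import Cfsg.Statements.S4089
import Cfsg.Agent.Lib.ClassSizes.Subnormalizer

set_option autoImplicit false
open Cfsg

namespace Cfsg.Agent.S4089

/-- Let G be a finite group, p a prime and H a p-subgroup of G. Then the set of elements g of G such that H is subnormal in the subgroup generated by H and g is the union of the normalizers N_G(R) over the subgroups R of G containing H with R = O_p(N_G(R)); and this set does not change when H is replaced by the intersection of all Sylow p-subgroups of G containing H. -/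
theorem result {G : Type*} [Group G] [Finite G] (p : ℕ) [Fact p.Prime]
    (H : Subgroup G) (hH : IsPGroup p H) :
    {g : G | ((H).subgroupOf (H ⊔ Subgroup.zpowers g)).IsSubnormal} =
      {g : G | ∃ R : Subgroup G, H ≤ R ∧ (Cfsg.pCore p (Subgroup.normalizer (R : Set G))).map (Subgroup.normalizer (R : Set G)).subtype = R ∧ g ∈ Subgroup.normalizer (R : Set G)} ∧
    ∀ g : G, (((H).subgroupOf (H ⊔ Subgroup.zpowers g)).IsSubnormal ↔
      (((sInf {K : Subgroup G | ∃ Q : Sylow p G, H ≤ (Q : Subgroup G) ∧ K = (Q : Subgroup G)})).subgroupOf ((sInf {K : Subgroup G | ∃ Q : Sylow p G, H ≤ (Q : Subgroup G) ∧ K = (Q : Subgroup G)}) ⊔ Subgroup.zpowers g)).IsSubnormal) := by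
  open CfsgLib.ClassSizes.Subnormalizer in
  refine ⟨?_, fun g => ?_⟩
  · ext g
    simp only [Set.mem_setOf_eq, isSubnormal_iff_mem_snz hH]
    refine ⟨exists_radical, ?_⟩
    rintro ⟨R, hHR, hR, hg⟩
    exact ⟨R, hR ▸ (CfsgLib.Core.isPGroup_pCore p _).map _, hHR, hg⟩
  · obtain ⟨Q₀, hQ₀⟩ := hH.exists_le_sylow
    set X := sInf {K : Subgroup G | ∃ Q : Sylow p G, H ≤ (Q : Subgroup G) ∧ K = (Q : Subgroup G)}
    have hHX : H ≤ X := le_sInf (by rintro _ ⟨Q, hQ, rfl⟩; exact hQ)
    have hXp : IsPGroup p X := Q₀.2.to_le (sInf_le ⟨Q₀, hQ₀, rfl⟩)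
    rw [CfsgLib.ClassSizes.Subnormalizer.isSubnormal_iff_mem_snz hH, CfsgLib.ClassSizes.Subnormalizer.isSubnormal_iff_mem_snz hXp]
    constructor
    · intro h
      obtain ⟨R, hHR, hR, hg⟩ := CfsgLib.ClassSizes.Subnormalizer.exists_radical h
      exact ⟨R, hR ▸ (CfsgLib.Core.isPGroup_pCore p _).map _,
        CfsgLib.ClassSizes.Subnormalizer.sInf_sylow_le hHR hR, hg⟩
    · rintro ⟨M, hM, hXM, hg⟩
      exact ⟨M, hM, hHX.trans hXM, hg⟩

end Cfsg.Agent.S4089
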