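import Cfsg.Statements.S4090
import Cfsg.Agent.Lib.ClassSizes.Subnormalizer

set_option autoImplicit false
open scoped BigOperators
open Cfsg

namespace Cfsg.Agent.S4090

open Finset in
theorem telescope : ∀ (n : ℕ) (a : Fin (n + 1) → ℕ) (c d : Fin n → ℕ),
    (∀ i, a i.castSucc * d i = a i.succ * c i) → a 0 * ∏ i, d i = a (Fin.last n) * ∏ i, c i := by
  intro n
  induction n with
  | zero => intro a c d _; simp
  | succ n ih =>
    intro a c d h
    have h1 := ih (fun i => a i.succ) (fun i => c i.succ) (fun i => d i.succ) fun i => by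
      exact h i.succ
    have h0 := h 0
    simp only [Fin.castSucc_zero] at h0
    rw [Fin.prod_univ_succ, Fin.prod_univ_succ, ← mul_assoc, h0]
    calc a (Fin.succ 0) * c 0 * ∏ i : Fin n, d i.succ
        = c 0 * (a (Fin.succ 0) * ∏ i : Fin n, d i.succ) := by ring
      _ = c 0 * (a (Fin.succ (Fin.last n)) * ∏ i : Fin n, c i.succ) := by rw [h1]
      _ = a (Fin.last (n + 1)) * (c 0 * ∏ i : Fin n, c i.succ) := by rw [Fin.succ_last]; ring

open CfsgLib.ClassSizes.Subnormalizer in
theorem step.{u} {G : Type u} [Group G] [Finite G] {p : ℕ} [Fact p.Prime] {H : Subgroup G} (hH : IsPGroup p H)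
    (A B : Subgroup G) [A.Normal] [B.Normal] (hAB : A ≤ B) :
    ((A.relIndex B).Coprime p →
      Nat.card (SnzMod p A H) * A.relIndex B = Nat.card (SnzMod p B H) *
        (Nat.card {u : G // u ∈ B ∧ ∀ h ∈ H, h * u * h⁻¹ * u⁻¹ ∈ A} / Nat.card A)) ∧
    ((∃ m, A.relIndex B = p ^ m) → Nat.card (SnzMod p A H) = Nat.card (SnzMod p B H)) := by
  set π := QuotientGroup.mk' A with hπ
  haveI : (B.map π).Normal := Subgroup.Normal.map inferInstance _ (QuotientGroup.mk'_surjective A)
  have hHp : IsPGroup p (H.map π) := hH.map _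
  have hB : Nat.card (B.map π) = A.relIndex B := by
    have h1 := Subgroup.relIndex_ker π (K := B)
    rw [QuotientGroup.ker_mk'] at h1
    exact h1.symm
  have hA : A.map π = ⊥ := by rw [Subgroup.map_eq_bot_iff, QuotientGroup.ker_mk']
  have e1 : Nat.card (SnzMod p A H) = Nat.card A * Nat.card (Snz p (H.map π)) := by
    rw [← preimage_snzMod p A A H le_rfl, card_preimage_mk, hA, snzMod_bot]
  have e2 : Nat.card (SnzMod p B H) = Nat.card A * Nat.card (SnzMod p (B.map π) (H.map π)) := by
    rw [← preimage_snzMod p A B H hAB, card_preimage_mk]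
  refine ⟨fun hc => ?_, fun hm => ?_⟩
  · have e3 : Nat.card {u : G // u ∈ B ∧ ∀ h ∈ H, h * u * h⁻¹ * u⁻¹ ∈ A} =
        Nat.card A * Nat.card (B.map π ⊓ Subgroup.centralizer ((H.map π : Subgroup (G ⧸ A)) : Set (G ⧸ A)) : Subgroup (G ⧸ A)) := by
      refine Eq.trans ?_ (card_preimage_mk A _)
      refine Nat.card_congr (Equiv.subtypeEquivRight fun u => ?_)
      simp only [Set.mem_preimage, SetLike.mem_coe, Subgroup.mem_inf, Subgroup.mem_centralizer_iff]
      refine and_congr ⟨fun hu => Subgroup.mem_map_of_mem _ hu, fun hu => ?_⟩ ⟨fun h => ?_, fun h x hx => ?_⟩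
      · have h1 : u ∈ (B.map π).comap π := hu
        rwa [Subgroup.comap_map_eq, QuotientGroup.ker_mk', sup_eq_left.2 hAB] at h1
      · rintro _ ⟨x, hx, rfl⟩
        have h1 : π (x * u * x⁻¹ * u⁻¹) = 1 := (QuotientGroup.eq_one_iff _).2 (h x hx)
        rw [map_mul, map_mul, map_mul, map_inv, map_inv, mul_inv_eq_one, mul_inv_eq_iff_eq_mul] at h1
        exact h1
      · refine (QuotientGroup.eq_one_iff _).1 ?_
        show π (x * u * x⁻¹ * u⁻¹) = 1
        rw [map_mul, map_mul, map_mul, map_inv, map_inv, h _ (Subgroup.mem_map_of_mem π hx), hπ]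
        group
    rw [e3, Nat.mul_div_cancel_left _ Nat.card_pos, e1, e2, mul_assoc, mul_assoc, ← hB,
      card_snz_mul_card _ _ (hB ▸ hc) hHp]
  · obtain ⟨m, hm⟩ := hm
    rw [e1, e2, snzMod_eq_of_pGroup (IsPGroup.of_card (hB.trans hm)) hHp]

/-- Let G be a finite p-solvable group, H a p-subgroup of G and P a Sylow p-subgroup, and fix a chain of normal subgroups 1 = M₀ ≤ M₁ ≤ ⋯ ≤ Mₙ = G of G each of whose factors is a p-group or a p'-group. Then the number of elements g of G such that H is subnormal in the subgroup generated by H and g equals the order of P times the product, over the factors Mᵢ₊₁/Mᵢ of order prime to p, of the order of the centralizer of H in Mᵢ₊₁/Mᵢ (counted as the number of u ∈ Mᵢ₊₁ with [h, u] ∈ Mᵢ for all h ∈ H, divided by the order of Mᵢ). -/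
theorem result {G : Type*} [Group G] [Finite G] (p : ℕ) [Fact p.Prime]
    (hG : Cfsg.IsPSolvable p G) (H : Subgroup G) (hH : IsPGroup p H) (P : Sylow p G)
    (n : ℕ) (M : Fin (n + 1) → Subgroup G) (h0 : M 0 = ⊥) (hn : M (Fin.last n) = ⊤) (hmono : Monotone M)
    (hnormal : ∀ i, (M i).Normal)
    (hfac : ∀ i : Fin n, (∃ m : ℕ, (M i.castSucc).relIndex (M i.succ) = p ^ m) ∨ ((M i.castSucc).relIndex (M i.succ)).Coprime p) :
    Nat.card {g : G // ((H).subgroupOf (H ⊔ Subgroup.zpowers g)).IsSubnormal} =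
      Nat.card (P : Subgroup G) *
        ∏ i : Fin n, (if ((M i.castSucc).relIndex (M i.succ)).Coprime p then
          Nat.card {u : G // u ∈ M i.succ ∧ ∀ h ∈ H, h * u * h⁻¹ * u⁻¹ ∈ M i.castSucc} / Nat.card (M i.castSucc)
          else 1) := by
  classical
  have hp : p.Prime := Fact.out
  open CfsgLib.ClassSizes.Subnormalizer in
  set a : Fin (n + 1) → ℕ := fun i => Nat.card (SnzMod p (M i) H) with ha
  set cop : Fin n → Prop := fun i => ((M i.castSucc).relIndex (M i.succ)).Coprime p
  set c : Fin n → ℕ := fun i => if cop i then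
    Nat.card {u : G // u ∈ M i.succ ∧ ∀ h ∈ H, h * u * h⁻¹ * u⁻¹ ∈ M i.castSucc} / Nat.card (M i.castSucc) else 1
  set d : Fin n → ℕ := fun i => if cop i then (M i.castSucc).relIndex (M i.succ) else 1
  set e : Fin n → ℕ := fun i => if cop i then 1 else (M i.castSucc).relIndex (M i.succ)
  have hstep : ∀ i, a i.castSucc * d i = a i.succ * c i := by
    intro i
    haveI := hnormal i.castSucc
    haveI := hnormal i.succ
    have h1 := step (p := p) hH (M i.castSucc) (M i.succ) (hmono i.castSucc_le_succ)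
    by_cases hc : cop i
    · simp only [d, c, if_pos hc]
      exact h1.1 hc
    · simp only [d, c, if_neg hc, mul_one]
      exact h1.2 ((hfac i).resolve_right hc)
  have htop : a (Fin.last n) = Nat.card G := by
    refine Nat.card_congr (Equiv.subtypeUnivEquiv fun g => ?_)
    refine ⟨⊤, le_top, le_top, ?_, 0, ?_⟩
    · rw [Subgroup.normalizer_eq_top_iff.2 inferInstance]; trivial
    · rw [hn, Subgroup.relIndex_self, pow_zero]
  have hbot : a 0 = Nat.card {g : G // ((H).subgroupOf (H ⊔ Subgroup.zpowers g)).IsSubnormal} := by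
    simp only [ha, h0, CfsgLib.ClassSizes.Subnormalizer.snzMod_bot]
    exact Nat.card_congr (Equiv.subtypeEquivRight fun g =>
      (CfsgLib.ClassSizes.Subnormalizer.isSubnormal_iff_mem_snz hH g).symm)
  have htel := telescope n a c d hstep
  rw [htop, hbot] at htel
  have hG0 : Nat.card G = ∏ i : Fin n, (M i.castSucc).relIndex (M i.succ) := by
    have h1 := telescope n (fun i => Nat.card (M i)) (fun _ => 1) (fun i : Fin n => (M i.castSucc).relIndex (M i.succ)) fun i => by
      rw [mul_one, ← Subgroup.relIndex_bot_left, ← Subgroup.relIndex_bot_left]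
      exact Subgroup.relIndex_mul_relIndex _ _ _ bot_le (hmono i.castSucc_le_succ)
    simpa [h0, hn] using h1.symm
  have hed : Nat.card G = (∏ i, e i) * ∏ i, d i := by
    rw [hG0, ← Finset.prod_mul_distrib]
    refine Finset.prod_congr rfl fun i _ => ?_
    by_cases hc : cop i <;> simp [d, e, hc]
  have hdc : (∏ i, d i).Coprime p := Nat.Coprime.prod_left fun i _ => by
    by_cases hc : cop i
    · simp only [d, if_pos hc]; exact hc
    · simp [d, hc]
  obtain ⟨k, hk⟩ : ∃ k, ∏ i, e i = p ^ k := by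
    refine Finset.prod_induction e (fun x => ∃ k, x = p ^ k) ?_ ⟨0, (pow_zero p).symm⟩ fun i _ => ?_
    · rintro x y ⟨s, rfl⟩ ⟨t, rfl⟩
      exact ⟨s + t, (pow_add p s t).symm⟩
    · by_cases hc : cop i
      · exact ⟨0, by simp [e, hc]⟩
      · simp only [e, if_neg hc]; exact (hfac i).resolve_right hc
  have hd0 : 0 < ∏ i, d i := by
    refine Nat.pos_of_ne_zero fun h => ?_
    rw [h, mul_zero] at hed
    exact (Nat.card_pos (α := G)).ne' hed
  have hP : Nat.card (P : Subgroup G) = p ^ k := by
    rw [P.card_eq_multiplicity]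
    congr 1
    rw [hed, hk, Nat.factorization_mul (pow_ne_zero _ hp.ne_zero) hd0.ne', hp.factorization_pow,
      Finsupp.add_apply, Finsupp.single_eq_same,
      Nat.factorization_eq_zero_of_not_dvd (hp.coprime_iff_not_dvd.1 hdc.symm), add_zero]
  rw [hed, hk, ← hP] at htel
  refine Nat.eq_of_mul_eq_mul_right hd0 (htel.trans ?_)
  ring

end Cfsg.Agent.S4090
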