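import Cfsg.Statements.S4091
import Cfsg.Agent.S4090
import Cfsg.Agent.Lib.ClassSizes.FixedPointProduct

set_option autoImplicit false
open Cfsg

namespace Cfsg.Agent.S4091

open CfsgLib.ClassSizes CfsgLib.ClassSizes.FixedPointProduct in
theorem card_fix_quot.{u} {G : Type u} [Group G] [Finite G] (A B H : Subgroup G) [A.Normal] (hAB : A ≤ B) :
    Nat.card {u : G // u ∈ B ∧ ∀ h ∈ H, h * u * h⁻¹ * u⁻¹ ∈ A} / Nat.card A =
      Nat.card (FixedPointProduct.Fix (B.map (QuotientGroup.mk' A)) (H.map (QuotientGroup.mk' A))) := by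
  set π := QuotientGroup.mk' A with hπ
  have e3 : Nat.card {u : G // u ∈ B ∧ ∀ h ∈ H, h * u * h⁻¹ * u⁻¹ ∈ A} =
      Nat.card A * Nat.card (FixedPointProduct.Fix (B.map π) (H.map π)) := by
    refine Eq.trans ?_ (Subnormalizer.card_preimage_mk A _)
    refine Nat.card_congr (Equiv.subtypeEquivRight fun u => ?_)
    simp only [Set.mem_preimage, SetLike.mem_coe, FixedPointProduct.Fix, Subgroup.mem_inf, Subgroup.mem_centralizer_iff]
    refine and_congr ⟨fun hu => Subgroup.mem_map_of_mem _ hu, fun hu => ?_⟩ ⟨fun h => ?_, fun h x hx => ?_⟩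
    · have h1 : u ∈ (B.map π).comap π := hu
      rwa [Subgroup.comap_map_eq, QuotientGroup.ker_mk', sup_eq_left.2 hAB] at h1
    · rintro _ ⟨x, hx, rfl⟩
      have h1 : π (x * u * x⁻¹ * u⁻¹) = 1 := (QuotientGroup.eq_one_iff _).2 (h x hx)
      rw [map_mul, map_mul, map_mul, map_inv, map_inv, mul_inv_eq_one, mul_inv_eq_iff_eq_mul] at h1
      exact h1
    · refine (QuotientGroup.eq_one_iff _).1 ?_
      show π (x * u * x⁻¹ * u⁻¹) = 1
      rw [map_mul, map_mul, map_mul, map_inv, map_inv, h _ (Subgroup.mem_map_of_mem π hx), hπ]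
      group
  rw [e3, Nat.mul_div_cancel_left _ Nat.card_pos]

open CfsgLib.ClassSizes CfsgLib.ClassSizes.FixedPointProduct in
theorem exists_fun.{u} {G : Type u} [Group G] [Finite G] (p : ℕ) [Fact p.Prime]
    (hG : Cfsg.IsPSolvable p G) (P : Sylow p G) [Fintype (P : Subgroup G)] :
    ∃ C : Subgroup G → ℕ,
      (∀ H : Subgroup G, IsPGroup p H → Nat.card {Q : Sylow p G // H ≤ (Q : Subgroup G)} * C P = C H) ∧
      C ⊥ ≠ 0 ∧
      (∏ x : (P : Subgroup G), C (Subgroup.zpowers (x : G))) ^ p ≤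
        C ⊥ ^ Nat.card (P : Subgroup G) * C P ^ (Nat.card (P : Subgroup G) * (p - 1)) := by
  classical
  have hG' := hG
  obtain ⟨n, M, h0, hn, hmono, hnormal, hfac⟩ := hG
  set c : Subgroup G → Fin n → ℕ := fun H i => if ((M i.castSucc).relIndex (M i.succ)).Coprime p then
    Nat.card {u : G // u ∈ M i.succ ∧ ∀ h ∈ H, h * u * h⁻¹ * u⁻¹ ∈ M i.castSucc} / Nat.card (M i.castSucc)
    else 1 with hc
  set N := Subgroup.normalizer ((P : Subgroup G) : Set G)
  have hcount : ∀ H : Subgroup G, IsPGroup p H →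
      Nat.card {Q : Sylow p G // H ≤ (Q : Subgroup G)} * Nat.card N = Nat.card (P : Subgroup G) * ∏ i, c H i := by
    intro H hH
    have h1 := Cfsg.Agent.S4090.result p hG' H hH P n M h0 hn hmono hnormal hfac
    rw [← Subnormalizer.card_snz hH P, ← Nat.card_congr (Equiv.subtypeEquivRight fun g =>
      Subnormalizer.isSubnormal_iff_mem_snz hH g)]
    exact h1
  have hNP : Nat.card N = Nat.card (P : Subgroup G) * ∏ i, c P i := by
    have h1 := hcount P P.2
    haveI : Subsingleton {Q : Sylow p G // (P : Subgroup G) ≤ (Q : Subgroup G)} :=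
      ⟨fun a b => Subtype.ext (Sylow.ext ((P.3 a.1.2 a.2).trans (P.3 b.1.2 b.2).symm))⟩
    haveI : Nonempty {Q : Sylow p G // (P : Subgroup G) ≤ (Q : Subgroup G)} := ⟨⟨P, le_rfl⟩⟩
    rwa [Nat.card_eq_one_iff_unique.2 ⟨inferInstance, inferInstance⟩, one_mul] at h1
  refine ⟨fun H => ∏ i, c H i, fun H hH => ?_, ?_, ?_⟩
  · have h1 := hcount H hH
    rw [hNP, mul_left_comm] at h1
    exact Nat.eq_of_mul_eq_mul_left Nat.card_pos h1
  · intro h
    change ∏ i, c ⊥ i = 0 at h
    have h1 := hcount ⊥ IsPGroup.of_bot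
    rw [h, mul_zero, mul_eq_zero] at h1
    rcases h1 with h1 | h1
    · haveI : Nonempty {Q : Sylow p G // (⊥ : Subgroup G) ≤ (Q : Subgroup G)} := ⟨⟨P, bot_le⟩⟩
      exact Nat.card_pos.ne' h1
    · exact Nat.card_pos.ne' h1
  · simp only []
    rw [Finset.prod_comm, ← Finset.prod_pow, ← Finset.prod_pow, ← Finset.prod_pow, ← Finset.prod_mul_distrib]
    refine Finset.prod_le_prod' fun i _ => ?_
    haveI := hnormal i.castSucc
    haveI := hnormal i.succ
    by_cases hcop : ((M i.castSucc).relIndex (M i.succ)).Coprime p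
    swap
    · simp [hc, hcop]
    simp only [hc, if_pos hcop, card_fix_quot _ _ _ (hmono i.castSucc_le_succ)]
    set π := QuotientGroup.mk' (M i.castSucc)
    set K := (M i.succ).map π
    haveI : K.Normal := Subgroup.Normal.map inferInstance _ (QuotientGroup.mk'_surjective _)
    have hK : (Nat.card K).Coprime p := by
      have h1 := Subgroup.relIndex_ker π (K := M i.succ)
      rw [QuotientGroup.ker_mk'] at h1
      rw [← h1]
      exact hcop
    have h := ineq (p := p) P.2 (π.comp (P : Subgroup G).subtype) K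
      (by rw [Subgroup.normalizer_eq_top_iff.2 inferInstance]; exact le_top) hK
    unfold Ineq at h
    have hr : (π.comp (P : Subgroup G).subtype).range = (P : Subgroup G).map π := by
      rw [MonoidHom.range_comp, Subgroup.range_subtype]
    have hz : ∀ x : (P : Subgroup G), Subgroup.zpowers (π.comp (P : Subgroup G).subtype x) =
        (Subgroup.zpowers (x : G)).map π := fun x => (MonoidHom.map_zpowers π _).symm
    have hbot : FixedPointProduct.Fix K ((⊥ : Subgroup G).map π) = K := inf_eq_left.2 fun k _ => by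
      rw [Subgroup.map_bot, Subgroup.mem_centralizer_iff]
      intro a ha
      rw [Subgroup.mem_bot.1 ha, one_mul, mul_one]
    rw [hbot]
    simp_rw [hz, hr] at h
    exact h

/-- Let G be a finite p-solvable group, P a Sylow p-subgroup of G, u the number of p-elements of G (elements of p-power order, the identity included) and n the number of Sylow p-subgroups of G. Then u/#P ≥ n^((p−1)/p), stated as u^p ≥ #P^p · n^(p−1). -/
theorem result {G : Type*} [Group G] [Finite G] (p : ℕ) [Fact p.Prime]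
    (hG : Cfsg.IsPSolvable p G) (P : Sylow p G) :
    Nat.card (P : Subgroup G) ^ p * Nat.card (Sylow p G) ^ (p - 1) ≤ Nat.card {g : G // ∃ k : ℕ, orderOf g = p ^ k} ^ p := by
  classical
  haveI := Fintype.ofFinite G
  haveI := Fintype.ofFinite (Sylow p G)
  have hp : p.Prime := Fact.out
  obtain ⟨C, hC, hC0, hineq⟩ := exists_fun p hG P
  let l : G → ℕ := fun g => Nat.card {Q : Sylow p G // g ∈ (Q : Subgroup G)}
  have hzp : ∀ g : G, (∃ k, orderOf g = p ^ k) → IsPGroup p (Subgroup.zpowers g) := by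
    rintro g ⟨k, hk⟩
    exact IsPGroup.of_card (n := k) (by rw [Nat.card_zpowers, hk])
  have hmemP : ∀ (Q : Sylow p G), ∀ g ∈ (Q : Subgroup G), ∃ k, orderOf g = p ^ k := fun Q g hg => by
    obtain ⟨k, hk⟩ := IsPGroup.iff_orderOf.1 Q.2 ⟨g, hg⟩
    exact ⟨k, by rwa [Subgroup.orderOf_mk] at hk⟩
  have hl : ∀ g : G, l g = Nat.card {Q : Sylow p G // Subgroup.zpowers g ≤ (Q : Subgroup G)} := fun g =>
    Nat.card_congr (Equiv.subtypeEquivRight fun Q => Subgroup.zpowers_le.symm)
  have hlpos : ∀ g : G, (∃ k, orderOf g = p ^ k) → l g ≠ 0 := by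
    intro g hg
    obtain ⟨Q, hQ⟩ := (hzp g hg).exists_le_sylow
    haveI : Nonempty {Q : Sylow p G // g ∈ (Q : Subgroup G)} := ⟨⟨Q, hQ (Subgroup.mem_zpowers g)⟩⟩
    exact Nat.card_pos.ne'
  set N := Nat.card (Sylow p G) with hN
  set k := Nat.card (P : Subgroup G) with hk
  set u := Nat.card {g : G // ∃ k : ℕ, orderOf g = p ^ k} with hu
  have hCbot : N * C P = C ⊥ := by
    rw [← hC ⊥ IsPGroup.of_bot, hN, Nat.card_congr (Equiv.subtypeUnivEquiv fun Q : Sylow p G => bot_le)]
  have hCP : 0 < C P := Nat.pos_of_ne_zero fun h => hC0 (by rw [← hCbot, h, mul_zero])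
  have hlam : (∏ x : (P : Subgroup G), l x) ^ p ≤ N ^ k := by
    refine Nat.le_of_mul_le_mul_right ?_ (pow_pos hCP (k * p))
    have h1 : ∀ x : (P : Subgroup G), l x * C P = C (Subgroup.zpowers (x : G)) := fun x => by
      rw [hl]
      exact hC _ (hzp _ (hmemP P _ x.2))
    have h2 : ∏ x : (P : Subgroup G), C (Subgroup.zpowers (x : G)) = (∏ x : (P : Subgroup G), l x) * C P ^ k := by
      rw [← Finset.prod_congr rfl fun x _ => h1 x, Finset.prod_mul_distrib, Finset.prod_const,
        Finset.card_univ, ← Nat.card_eq_fintype_card]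
    calc (∏ x : (P : Subgroup G), l x) ^ p * C P ^ (k * p)
        = ((∏ x : (P : Subgroup G), l x) * C P ^ k) ^ p := by rw [mul_pow, ← pow_mul]
      _ ≤ C ⊥ ^ k * C P ^ (k * (p - 1)) := h2 ▸ hineq
      _ = N ^ k * C P ^ (k * p) := by
          rw [← hCbot, mul_pow, mul_assoc, ← pow_add]
          rw [show k + k * (p - 1) = k * p by
            obtain ⟨q, rfl⟩ : ∃ q, p = q + 1 := ⟨p - 1, by have := hp.pos; omega⟩
            simp only [Nat.add_sub_cancel]; ring]
  -- double counting
  have hsum : (u : ℝ) = ∑ x : (P : Subgroup G), (N : ℝ) / l x := by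
    have h1 : (u : ℝ) = ∑ g : G, ∑ Q : Sylow p G, if g ∈ (Q : Subgroup G) then (1 : ℝ) / l g else 0 := by
      rw [hu, Nat.card_eq_fintype_card, Fintype.card_subtype, Finset.card_eq_sum_ones, Nat.cast_sum,
        Finset.sum_filter]
      refine Finset.sum_congr rfl fun g _ => ?_
      rw [← Finset.sum_filter, Finset.sum_const, nsmul_eq_mul]
      have h3 : (Finset.univ.filter fun Q : Sylow p G => g ∈ (Q : Subgroup G)).card = l g := by
        simp only [l]
        rw [Nat.card_eq_fintype_card, Fintype.card_subtype]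
      rw [h3]
      by_cases hg : ∃ k, orderOf g = p ^ k
      · rw [if_pos hg, Nat.cast_one, mul_one_div_cancel (Nat.cast_ne_zero.2 (hlpos g hg))]
      · rw [if_neg hg]
        haveI : IsEmpty {Q : Sylow p G // g ∈ (Q : Subgroup G)} := ⟨fun Q => hg (hmemP _ g Q.2)⟩
        simp [l]
    rw [h1, Finset.sum_comm]
    have h2 : ∀ Q : Sylow p G, (∑ g : G, if g ∈ (Q : Subgroup G) then (1 : ℝ) / l g else 0) =
        ∑ x : (P : Subgroup G), (1 : ℝ) / l x := by
      intro Q
      obtain ⟨a, rfl⟩ := MulAction.exists_smul_eq G P Q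
      have hmem : ∀ g, g ∈ ((a • P : Sylow p G) : Subgroup G) ↔ a⁻¹ * g * a ∈ (P : Subgroup G) := fun g =>
        CfsgLib.Transfer.mem_sylow_smul
      rw [← Equiv.sum_comp (MulAut.conj a).toEquiv]
      have hlc : ∀ g, l (a * g * a⁻¹) = l g := fun g => by
        refine Nat.card_congr (Equiv.subtypeEquiv (MulAction.toPerm a⁻¹) fun Q => ?_)
        show _ ↔ g ∈ ((a⁻¹ • Q : Sylow p G) : Subgroup G)
        rw [CfsgLib.Transfer.mem_inv_smul_sylow]
      have h4 : ∀ g, (if (MulAut.conj a).toEquiv g ∈ ((a • P : Sylow p G) : Subgroup G) then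
          (1 : ℝ) / l ((MulAut.conj a).toEquiv g) else 0) = if g ∈ (P : Subgroup G) then (1 : ℝ) / l g else 0 := by
        intro g
        show (if a * g * a⁻¹ ∈ _ then (1 : ℝ) / l (a * g * a⁻¹) else 0) = _
        rw [hlc]
        refine if_congr ?_ rfl rfl
        rw [hmem]
        exact Iff.of_eq (congrArg (· ∈ (P : Subgroup G)) (by group))
      simp_rw [h4]
      rw [← Finset.sum_filter]
      exact Finset.sum_subtype _ (fun g => by simp) _
    simp_rw [h2]
    rw [Finset.sum_const, Finset.card_univ, ← Nat.card_eq_fintype_card, nsmul_eq_mul, Finset.mul_sum]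
    exact Finset.sum_congr rfl fun x _ => mul_one_div _ _
  -- arithmetic and geometric means
  have hk0 : (0 : ℝ) < k := Nat.cast_pos.2 Nat.card_pos
  have hl0 : ∀ x : (P : Subgroup G), (0 : ℝ) < l x := fun x =>
    Nat.cast_pos.2 (Nat.pos_of_ne_zero (hlpos _ (hmemP P _ x.2)))
  have hcard : (Finset.univ : Finset (P : Subgroup G)).card = k := by
    rw [Finset.card_univ, ← Nat.card_eq_fintype_card]
  have hz0 : ∀ x : (P : Subgroup G), (0 : ℝ) ≤ (N : ℝ) / l x := fun x => by positivity
  have hgm : ∏ x : (P : Subgroup G), (N : ℝ) / l x ≤ ((u : ℝ) / k) ^ k := by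
    have h := Real.geom_mean_le_arith_mean (s := Finset.univ) (w := fun _ : (P : Subgroup G) => (1 : ℝ))
      (z := fun x => (N : ℝ) / l x) (fun _ _ => zero_le_one) (by simp [hcard, hk0]) (fun x _ => hz0 x)
    simp only [Real.rpow_one, one_mul, Finset.sum_const, hcard, nsmul_eq_mul, mul_one] at h
    rw [← hsum] at h
    have h' := pow_le_pow_left₀ (Real.rpow_nonneg (Finset.prod_nonneg fun x _ => hz0 x) _) h k
    rwa [Real.rpow_inv_natCast_pow (Finset.prod_nonneg fun x _ => hz0 x) Nat.card_pos.ne'] at h'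
  have hkey : ((N : ℝ) ^ (p - 1)) ^ k ≤ (((u : ℝ) / k) ^ p) ^ k := by
    rw [Finset.prod_div_distrib, Finset.prod_const, hcard] at hgm
    have h' := pow_le_pow_left₀ (by positivity) hgm p
    rw [div_pow, ← pow_mul, ← pow_mul] at h'
    rw [← pow_mul, ← pow_mul, mul_comm p k]
    refine le_trans ?_ h'
    have hL : (∏ x : (P : Subgroup G), (l x : ℝ)) ^ p ≤ (N : ℝ) ^ k := by exact_mod_cast hlam
    rw [le_div_iff₀ (pow_pos (Finset.prod_pos fun x _ => hl0 x) p)]
    calc (N : ℝ) ^ ((p - 1) * k) * (∏ x : (P : Subgroup G), (l x : ℝ)) ^ p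
        ≤ (N : ℝ) ^ ((p - 1) * k) * (N : ℝ) ^ k := mul_le_mul_of_nonneg_left hL (by positivity)
      _ = (N : ℝ) ^ (k * p) := by
          rw [← pow_add]
          congr 1
          obtain ⟨q, rfl⟩ : ∃ q, p = q + 1 := ⟨p - 1, by have := hp.pos; omega⟩
          simp only [Nat.add_sub_cancel]; ring
  have hfin := le_of_pow_le_pow_left₀ Nat.card_pos.ne' (by positivity) hkey
  rw [div_pow, le_div_iff₀ (pow_pos hk0 p), mul_comm] at hfin
  exact_mod_cast hfin

end Cfsg.Agent.S4091
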