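import Cfsg.Statements.S4092


set_option autoImplicit false
open Cfsg

namespace Cfsg.Agent.S4092

/-- Let G be a finite group, p a prime and P a Sylow p-subgroup of G that is not normal in G. Then G has at least p·#P elements of p-power order (the identity included). -/
theorem result {G : Type*} [Group G] [Finite G] (p : ℕ) [Fact p.Prime]
    (P : Sylow p G) (hP : ¬ (P : Subgroup G).Normal) :
    p * Nat.card (P : Subgroup G) ≤ Nat.card {g : G // ∃ k : ℕ, orderOf g = p ^ k} := by
  classical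
  have := Fintype.ofFinite G
  set q := Nat.card (P : Subgroup G) with hq
  have hcard : ∀ R : Sylow p G, Nat.card (R : Subgroup G) = q := fun R => by
    rw [hq, R.card_eq_multiplicity, P.card_eq_multiplicity]
  have hne : ∃ R : Sylow p G, R ≠ P := by
    by_contra! h
    have : Subsingleton (Sylow p G) := ⟨fun a b => by rw [h a, h b]⟩
    exact hP (Sylow.normal_of_subsingleton P)
  obtain ⟨R₀, hR₀⟩ := hne
  have hfin : Finite {a : Sylow p G × Sylow p G // a.1 ≠ a.2} := inferInstance
  have : Nonempty {a : Sylow p G × Sylow p G // a.1 ≠ a.2} := ⟨⟨(R₀, P), hR₀⟩⟩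
  obtain ⟨⟨⟨R, S⟩, hRS⟩, hmax⟩ := Finite.exists_max (fun a : {a : Sylow p G × Sylow p G // a.1 ≠ a.2} =>
    Nat.card ↥((a.1.1 : Subgroup G) ⊓ (a.1.2 : Subgroup G)))
  set D := (R : Subgroup G) ⊓ (S : Subgroup G) with hD
  -- two different Sylow subgroups containing D meet exactly in D
  have hmeet : ∀ U V : Sylow p G, U ≠ V → D ≤ (U : Subgroup G) ⊓ (V : Subgroup G) → D = (U : Subgroup G) ⊓ (V : Subgroup G) :=
    fun U V h hle => Subgroup.eq_of_le_of_card_ge hle (hmax ⟨(U, V), h⟩)
  have hlt : ∀ U V : Sylow p G, U ≠ V → (U : Subgroup G) ⊓ (V : Subgroup G) < (U : Subgroup G) := by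
    intro U V h
    refine lt_of_le_of_ne inf_le_left fun he => h ?_
    refine Sylow.ext (Subgroup.eq_of_le_of_card_ge (he ▸ inf_le_right) ?_)
    rw [hcard, hcard]
  set M := Subgroup.normalizer (D : Set G) with hM
  have hgrow : ∀ U : Sylow p G, D < (U : Subgroup G) → D < M ⊓ (U : Subgroup G) := by
    intro U hU
    refine lt_of_le_of_ne (le_inf Subgroup.le_normalizer hU.le) fun he => ?_
    have hnil : Group.IsNilpotent (U : Subgroup G) := U.isPGroup'.isNilpotent
    have hD' : D.subgroupOf (U : Subgroup G) < ⊤ := by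
      rw [lt_top_iff_ne_top, Ne, Subgroup.subgroupOf_eq_top]
      exact not_le_of_gt hU
    have hgt := Group.normalizerCondition_of_isNilpotent (D.subgroupOf (U : Subgroup G)) hD'
    apply not_le_of_gt hgt
    rw [← Subgroup.subgroupOf_normalizer_eq hU.le]
    intro z hz
    rw [Subgroup.mem_subgroupOf] at hz ⊢
    rw [he]; exact ⟨hz, z.2⟩
  have hsub : ¬ Subsingleton (Sylow p M) := by
    intro hss
    obtain ⟨T⟩ := (inferInstance : Nonempty (Sylow p M))
    obtain ⟨U, hU⟩ := (T.isPGroup'.map M.subtype).exists_le_sylow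
    have hin : ∀ V : Sylow p G, D < (V : Subgroup G) → V = U := by
      intro V hV
      by_contra hne
      have h1 : M ⊓ (V : Subgroup G) ≤ (U : Subgroup G) := by
        intro z hz
        obtain ⟨T', hT'⟩ := (V.isPGroup'.comap_subtype (K := M)).exists_le_sylow
        rw [Subsingleton.elim T' T] at hT'
        exact hU ⟨⟨z, hz.1⟩, hT' hz.2, rfl⟩
      have hDU : D ≤ (U : Subgroup G) := (le_inf Subgroup.le_normalizer hV.le).trans h1
      exact absurd (hmeet V U hne (le_inf hV.le hDU))
        (lt_of_lt_of_le (hgrow V hV) (le_inf inf_le_right h1)).ne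
    exact hRS ((hin R (hlt R S hRS)).trans (hin S (hD ▸ inf_comm (S : Subgroup G) (R : Subgroup G) ▸ hlt S R (Ne.symm hRS))).symm)
  have hcount : p + 1 ≤ Nat.card (Sylow p M) := by
    have h1 := card_sylow_modEq_one p M
    have h2 : 1 < Nat.card (Sylow p M) := by
      rw [Finite.one_lt_card_iff_nontrivial]; exact not_subsingleton_iff_nontrivial.1 hsub
    have h3 := (Nat.modEq_iff_dvd' h2.le).1 h1.symm
    have := Nat.le_of_dvd (Nat.sub_pos_of_lt h2) h3
    omega
  choose U hU using fun T : Sylow p M => (T.isPGroup'.map M.subtype).exists_le_sylow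
  have hDM : D ≤ M := Subgroup.le_normalizer
  have hDT : ∀ T : Sylow p M, D ≤ (U T : Subgroup G) := by
    intro T z hz
    have hDn : (D.subgroupOf M).Normal := Subgroup.normal_in_normalizer
    have hDp : IsPGroup p (D.subgroupOf M) := (R.isPGroup'.to_le inf_le_left).comap_subtype
    have h := hDp.le_sylow_of_normal T
    exact hU T ⟨⟨z, hDM hz⟩, h hz, rfl⟩
  have hUinj : Function.Injective U := by
    intro T T' h
    have hT : (U T : Subgroup G).subgroupOf M = (T : Subgroup M) :=
      T.3 (U T).isPGroup'.comap_subtype fun z hz => hU T ⟨z, hz, rfl⟩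
    have hT' : (U T' : Subgroup G).subgroupOf M = (T' : Subgroup M) :=
      T'.3 (U T').isPGroup'.comap_subtype fun z hz => hU T' ⟨z, hz, rfl⟩
    exact Sylow.ext (by rw [← hT, ← hT', h])
  let f : D ⊕ (Σ T : Sylow p M, {u : (U T : Subgroup G) // (u : G) ∉ D}) → {g : G // ∃ k : ℕ, orderOf g = p ^ k} :=
    Sum.elim
      (fun d => ⟨d, by
        obtain ⟨k, hk⟩ := IsPGroup.iff_orderOf.1 (R.isPGroup'.to_le inf_le_left) d
        exact ⟨k, by rw [← hk, Subgroup.orderOf_coe]⟩⟩)
      (fun a => ⟨a.2.1.1, by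
        obtain ⟨k, hk⟩ := IsPGroup.iff_orderOf.1 (U a.1).isPGroup' a.2.1
        exact ⟨k, by rw [← hk, Subgroup.orderOf_coe]⟩⟩)
  have hinj : Function.Injective f := by
    rintro (d | ⟨T, ⟨u, hu⟩, hun⟩) (d' | ⟨T', ⟨u', hu'⟩, hun'⟩) h
    · exact congrArg Sum.inl (Subtype.ext (congrArg (fun z : {g : G // ∃ k : ℕ, orderOf g = p ^ k} => z.1) h : (d : G) = d'))
    · exact absurd ((congrArg Subtype.val h : (d : G) = u') ▸ d.2) hun'
    · exact absurd ((congrArg Subtype.val h : u = (d' : G)) ▸ d'.2) hun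
    · obtain rfl : u = u' := congrArg Subtype.val h
      by_cases hTT : T = T'
      · subst hTT; rfl
      · exact absurd ((hmeet _ _ (fun e => hTT (hUinj e)) (le_inf (hDT T) (hDT T'))).symm ▸ (⟨hu, hu'⟩ : u ∈ (U T : Subgroup G) ⊓ (U T' : Subgroup G))) hun
  have hle := Nat.card_le_card_of_injective f hinj
  have := Fintype.ofFinite (Sylow p M)
  have hfib : ∀ T : Sylow p M, Nat.card {u : (U T : Subgroup G) // (u : G) ∉ D} = q - Nat.card D := by
    intro T
    have e : Nat.card {u : (U T : Subgroup G) // (u : G) ∈ D} = Nat.card D := Nat.card_congr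
      { toFun := fun u => ⟨u.1.1, u.2⟩
        invFun := fun d => ⟨⟨d.1, hDT T d.2⟩, d.2⟩
        left_inv := fun _ => rfl
        right_inv := fun _ => rfl }
    rw [← hcard (U T), ← Nat.card_congr (Equiv.sumCompl fun u : (U T : Subgroup G) => (u : G) ∈ D), Nat.card_sum, e]
    omega
  rw [Nat.card_sum, Nat.card_sigma, Finset.sum_congr rfl (fun T _ => hfib T), Finset.sum_const,
    Finset.card_univ, smul_eq_mul, ← Nat.card_eq_fintype_card] at hle
  have hDq : p * Nat.card D ≤ q := by
    have hlt' : Nat.card D < q := by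
      rw [← hcard R]
      exact Nat.lt_of_le_of_ne (Subgroup.card_le_of_le inf_le_left) fun he =>
        (hlt R S hRS).ne (Subgroup.eq_of_le_of_card_ge inf_le_left he.ge)
    obtain ⟨n, hn⟩ := IsPGroup.iff_card.1 P.isPGroup'
    obtain ⟨m, hm⟩ := IsPGroup.iff_card.1 (R.isPGroup'.to_le (inf_le_left : D ≤ _))
    rw [hm] at hlt'
    rw [hn] at hq
    rw [hm, hq, ← pow_succ']
    rw [hq] at hlt'
    exact Nat.pow_le_pow_right (Fact.out : p.Prime).pos ((Nat.pow_lt_pow_iff_right (Fact.out : p.Prime).one_lt).1 hlt')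
  have h5 : (p + 1) * (q - Nat.card D) ≤ Nat.card (Sylow p M) * (q - Nat.card D) := Nat.mul_le_mul_right _ hcount
  have h6 : Nat.card D ≤ q := hcard R ▸ Subgroup.card_le_of_le inf_le_left
  obtain ⟨e, he⟩ := Nat.exists_eq_add_of_le h6
  rw [he, Nat.add_sub_cancel_left] at h5 hle
  rw [he] at hDq ⊢
  linarith [h5, hle, hDq, (show (p + 1) * e = p * e + e by ring), (show p * (Nat.card D + e) = p * Nat.card D + p * e by ring)]

end Cfsg.Agent.S4092
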