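import Cfsg.Statements.S4093
import Cfsg.Agent.Lib.ClassSizes.Counting

set_option autoImplicit false
open scoped BigOperators
open Cfsg

namespace Cfsg.Agent.S4093

/-- Let G be a finite group with a normal subgroup N complementing a Sylow p-subgroup P (a normal p-complement). Then the number of elements of G of p-power order equals the sum over x ∈ P of the index of C_N(x) in N. -/
theorem result {G : Type*} [Group G] [Finite G] (p : ℕ) [Fact p.Prime]
    (P : Sylow p G) (N : Subgroup G) [N.Normal] (hNP : N.IsComplement' (P : Subgroup G)) :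
    Nat.card {g : G // ∃ k : ℕ, orderOf g = p ^ k} =
      ∑ᶠ x : (P : Subgroup G), Nat.card N / Nat.card ↥(N ⊓ Subgroup.centralizer ({(x : G)} : Set G)) := by
  classical
  have := Fintype.ofFinite (P : Subgroup G)
  rw [finsum_eq_sum_of_fintype]
  have hpN : ¬ p ∣ Nat.card N := by
    rw [← hNP.index_eq_card]; exact P.not_dvd_index
  have horb : ∀ x : (P : Subgroup G), Nat.card N / Nat.card ↥(N ⊓ Subgroup.centralizer ({(x : G)} : Set G)) =
      Nat.card (Set.range fun n : N => (n : G) * x * (n : G)⁻¹) := by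
    intro x
    set K := (Subgroup.centralizer ({(x : G)} : Set G)).subgroupOf N
    have hK : Nat.card K = Nat.card ↥(N ⊓ Subgroup.centralizer ({(x : G)} : Set G)) := Nat.card_congr
      { toFun := fun z => ⟨z.1.1, z.1.2, z.2⟩
        invFun := fun z => ⟨⟨z.1, z.2.1⟩, z.2.2⟩
        left_inv := fun _ => rfl
        right_inv := fun _ => rfl }
    rw [← hK, Subgroup.card_eq_card_quotient_mul_card_subgroup K, Nat.mul_div_cancel _ Nat.card_pos]
    have hiff : ∀ a b : N, (a : G)⁻¹ * b ∈ Subgroup.centralizer ({(x : G)} : Set G) ↔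
        (a : G) * x * (a : G)⁻¹ = b * x * (b : G)⁻¹ := by
      intro a b
      rw [Subgroup.mem_centralizer_singleton_iff]
      constructor
      · intro h
        calc (a : G) * x * (a : G)⁻¹ = a * (x * ((a : G)⁻¹ * b)) * (b : G)⁻¹ := by group
          _ = _ := by rw [← h]; group
      · intro h
        calc (a : G)⁻¹ * b * x = (a : G)⁻¹ * (b * x * (b : G)⁻¹) * b := by group
          _ = _ := by rw [← h]; group
    refine Nat.card_eq_of_bijective (Quotient.lift (fun n : N => (⟨_, n, rfl⟩ : Set.range fun n : N => (n : G) * x * (n : G)⁻¹))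
      fun a b h => Subtype.ext ((hiff a b).1 (QuotientGroup.leftRel_apply.1 h : a⁻¹ * b ∈ K))) ⟨?_, ?_⟩
    · intro a b
      induction a using Quotient.inductionOn with
      | _ a =>
      induction b using Quotient.inductionOn with
      | _ b => exact fun h => Quotient.sound (QuotientGroup.leftRel_apply.2 ((hiff a b).2 (congrArg Subtype.val h)))
    · rintro ⟨_, n, rfl⟩; exact ⟨Quotient.mk _ n, rfl⟩
  simp_rw [horb]
  rw [← Nat.card_sigma]
  symm
  refine Nat.card_eq_of_bijective (fun a => ⟨a.2.1, ?_⟩) ⟨?_, ?_⟩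
  · obtain ⟨⟨y, hy⟩, w, n, rfl⟩ := a
    obtain ⟨k, hk⟩ := IsPGroup.iff_orderOf.1 P.isPGroup' ⟨y, hy⟩
    refine ⟨k, ?_⟩
    rw [← hk, Subgroup.orderOf_mk]
    exact orderOf_injective (MulAut.conj (n : G)).toMonoidHom (MulEquiv.injective _) y
  · rintro ⟨x, w, n, rfl⟩ ⟨x', w', n', rfl⟩ h
    have h1 : (n : G) * x * (n : G)⁻¹ = n' * x' * (n' : G)⁻¹ := congrArg Subtype.val h
    have h2 : ((x : G) : G ⧸ N) = ((x' : G) : G ⧸ N) := by
      have := congrArg (QuotientGroup.mk' N) h1
      simpa [(QuotientGroup.eq_one_iff _).2 n.2, (QuotientGroup.eq_one_iff _).2 n'.2] using this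
    rw [QuotientGroup.eq] at h2
    have h3 := Subgroup.disjoint_def.1 hNP.disjoint h2 (mul_mem (inv_mem x.2) x'.2)
    rw [inv_mul_eq_one] at h3
    obtain rfl : x = x' := Subtype.ext h3
    simp only [h1]
  · rintro ⟨g, k, hk⟩
    obtain ⟨n₀, hn₀, y, hy, rfl⟩ : ∃ n₀ ∈ N, ∃ y ∈ (P : Subgroup G), g = n₀ * y := by
      obtain ⟨n₀, hn₀, y, hy, h⟩ := (Set.eq_univ_iff_forall.1 hNP.mul_eq) g
      exact ⟨n₀, hn₀, y, hy, h.symm⟩
    set D := N ⊔ Subgroup.zpowers y with hD
    have hyD : Subgroup.zpowers y ≤ D := le_sup_right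
    have hrel : ¬ p ∣ (Subgroup.zpowers y).relIndex D := by
      intro h
      apply hpN
      have h1 : (N ⊓ Subgroup.zpowers y).relIndex N * N.relIndex D = (N ⊓ Subgroup.zpowers y).relIndex D :=
        Subgroup.relIndex_mul_relIndex _ _ _ inf_le_left le_sup_left
      have h2 : (N ⊓ Subgroup.zpowers y).relIndex (Subgroup.zpowers y) * (Subgroup.zpowers y).relIndex D = (N ⊓ Subgroup.zpowers y).relIndex D :=
        Subgroup.relIndex_mul_relIndex _ _ _ inf_le_right le_sup_right
      rw [Subgroup.inf_relIndex_left, Subgroup.relIndex_sup_left, ← h2, Subgroup.inf_relIndex_right, mul_comm] at h1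
      rw [← Nat.eq_of_mul_eq_mul_left (Nat.pos_of_ne_zero Subgroup.index_ne_zero_of_finite) h1] at h
      exact h.trans (Subgroup.index_dvd_card _)
    let T : Sylow p D := ((P.isPGroup'.to_le (Subgroup.zpowers_le.2 hy)).comap_subtype).toSylow (p := p) hrel
    have hgD : n₀ * y ∈ D := mul_mem (Subgroup.mem_sup_left hn₀) (Subgroup.mem_sup_right (Subgroup.mem_zpowers y))
    have hgp : IsPGroup p (Subgroup.zpowers (⟨n₀ * y, hgD⟩ : D)) := by
      refine IsPGroup.of_card (n := k) ?_
      rw [Nat.card_zpowers, Subgroup.orderOf_mk, hk]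
    obtain ⟨R, hR⟩ := hgp.exists_le_sylow
    obtain ⟨⟨d, hd⟩, rfl⟩ := MulAction.exists_smul_eq D T R
    have hmem := hR (Subgroup.mem_zpowers _)
    rw [Sylow.smul_def, Sylow.pointwise_smul_def, Subgroup.mem_pointwise_smul_iff_inv_smul_mem,
      ← map_inv, MulAut.smul_def, MulAut.conj_apply, inv_inv] at hmem
    have hmem' : d⁻¹ * (n₀ * y) * d ∈ Subgroup.zpowers y := by simpa [T, Subgroup.mem_subgroupOf] using hmem
    obtain ⟨j, hj⟩ := hmem'
    obtain ⟨m, hm, z, hz, rfl⟩ := Subgroup.mem_sup_of_normal_left.1 hd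
    obtain ⟨i, rfl⟩ := hz
    simp only at hj
    have hconj : n₀ * y = m * y ^ j * m⁻¹ := by
      calc n₀ * y = (m * y ^ i) * ((m * y ^ i)⁻¹ * (n₀ * y) * (m * y ^ i)) * (m * y ^ i)⁻¹ := by group
        _ = (m * y ^ i) * y ^ j * (m * y ^ i)⁻¹ := by rw [← hj]
        _ = _ := by group
    have hq : ((y : G) : G ⧸ N) = ((y ^ j : G) : G ⧸ N) := by
      have := congrArg (QuotientGroup.mk' N) hconj
      simpa [(QuotientGroup.eq_one_iff _).2 hn₀, (QuotientGroup.eq_one_iff _).2 hm] using this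
    rw [QuotientGroup.eq] at hq
    have h4 := Subgroup.disjoint_def.1 hNP.disjoint hq (mul_mem (inv_mem hy) (Subgroup.zpow_mem _ hy _))
    rw [inv_mul_eq_one] at h4
    rw [← h4] at hconj
    exact ⟨⟨⟨y, hy⟩, ⟨_, ⟨m, hm⟩, rfl⟩⟩, Subtype.ext hconj.symm⟩

end Cfsg.Agent.S4093
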