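import Cfsg.Statements.S4097
import Cfsg.Agent.Lib.Core.FrobeniusConj
import Cfsg.Agent.Lib.Components.Subnormal

set_option autoImplicit false
set_option linter.all false
open Cfsg

namespace Cfsg.Agent.S4097

open Subgroup
open scoped Pointwise

theorem central_aux.{u} (n : ℕ) : ∀ {G : Type u} [Group G] [Finite G] (A : Subgroup G),
    Nat.card G = n → Group.IsSolvable A →
    (∀ S : Subgroup G, A ≤ S → Group.IsSolvable S → ∀ a ∈ A, ∀ s ∈ S, a * s = s * a) →
    A ≤ Subgroup.center G := by
  induction n using Nat.strong_induction_on with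
  | _ n ih =>
  intro G _ _ A hn hA hc
  set C := centralizer (A : Set G) with hCdef
  have hAC : A ≤ C := fun a ha => mem_centralizer_iff.mpr fun b hb => hc A le_rfl hA b hb a ha
  by_cases hC : C = ⊤
  · intro a ha
    exact mem_center_iff.mpr fun g =>
      (mem_centralizer_iff.mp (hC.ge (mem_top g)) a ha).symm
  exfalso
  have hmax : ∀ H : Subgroup G, A ≤ H → H ≠ ⊤ → H ≤ C := by
    intro H hAH hH
    have hlt : Nat.card H < n := by
      rw [← hn]
      exact lt_of_le_of_ne (Subgroup.card_le_card_group H) fun h => hH (eq_top_of_card_eq H h)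
    have hsol : Group.IsSolvable (A.subgroupOf H) :=
      solvable_of_solvable_injective
        (f := (subgroupOfEquivOfLe hAH).toMonoidHom) (subgroupOfEquivOfLe hAH).injective
    have h1 := ih _ hlt (A.subgroupOf H) rfl hsol (by
      intro S hS hSs a ha s hs
      have hle : A ≤ S.map H.subtype := fun x hx => ⟨⟨x, hAH hx⟩, hS hx, rfl⟩
      have hSs' : Group.IsSolvable (S.map H.subtype) :=
        solvable_of_surjective (S.equivMapOfInjective _ H.subtype_injective).surjective
          (f := (S.equivMapOfInjective _ H.subtype_injective).toMonoidHom)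
      exact Subtype.ext (hc _ hle hSs' a ha s ⟨s, hs, rfl⟩))
    intro h hh
    refine mem_centralizer_iff.mpr fun a ha => ?_
    exact congrArg Subtype.val
      (mem_center_iff.mp (h1 (show (⟨a, hAH ha⟩ : H) ∈ A.subgroupOf H from ha)) ⟨h, hh⟩).symm
  -- the normal closure is everything
  have hK : normalClosure (A : Set G) = ⊤ := by
    by_contra hK
    set K := normalClosure (A : Set G) with hKdef
    have hAK : A ≤ K := subset_normalClosure
    have hKC := hmax K hAK hK
    have hKn : K.Normal := normalClosure_normal
    haveI : IsMulCommutative K := by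
      rw [← le_centralizer_iff_isMulCommutative]
      refine normalClosure_le_normal ?_
      intro a ha
      exact mem_centralizer_iff.mpr fun k hk => (mem_centralizer_iff.mp (hKC hk) a ha).symm
    haveI : Group.IsSolvable K := Group.isSolvable_of_comm (fun a b => mul_comm' a b)
    refine hC (eq_top_iff.mpr fun g _ => ?_)
    have hS : Group.IsSolvable (K ⊔ zpowers g : Subgroup G) :=
      CfsgLib.Components.isSolvable_sup le_normalizer_of_normal inferInstance
        (Group.isSolvable_of_comm (fun a b => mul_comm' a b))
    exact mem_centralizer_iff.mpr fun a ha =>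
      hc _ (hAK.trans le_sup_left) hS a ha g (le_sup_right (a := K) (mem_zpowers g))
  have hZC : center G ≤ C := fun z hz =>
    mem_centralizer_iff.mpr fun a _ => mem_center_iff.mp hz a
  have htop : ∀ N : Subgroup G, N.Normal → A ≤ N → N = ⊤ := fun N hN h =>
    eq_top_iff.mpr (hK ▸ normalClosure_le_normal h)
  -- conjugates of `C` meet it in the centre
  have hTI : ∀ g : G, g ∉ C → C ⊓ MulAut.conj g • C ≤ center G := by
    intro g hg
    set B := MulAut.conj g • A with hB
    have hgen : A ⊔ B = ⊤ := by
      by_contra hne
      have hBC : B ≤ C := le_sup_right.trans (hmax _ le_sup_left hne)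
      have hAgC : A ≤ MulAut.conj g • C := by
        intro a ha
        rw [mem_pointwise_smul_iff_inv_smul_mem]
        refine mem_centralizer_iff.mpr fun b hb => ?_
        have h2 := mem_centralizer_iff.mp (hBC (smul_mem_pointwise_smul b (MulAut.conj g) A hb)) a ha
        simp only [MulAut.smul_def, MulAut.conj_apply] at h2
        simp only [← map_inv, MulAut.smul_def, MulAut.conj_apply, inv_inv]
        have h3 := congrArg (fun y => g⁻¹ * y * g) h2
        simp [mul_assoc] at h3
        simpa [mul_assoc] using h3.symm
      have hne' : MulAut.conj g • C ≠ ⊤ := by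
        intro h
        apply hC
        refine eq_top_of_card_eq C ?_
        rw [← card_top (G := G), ← h]
        exact Nat.card_congr (C.equivSMul (MulAut.conj g)).toEquiv
      have heq : MulAut.conj g • C = C :=
        eq_of_le_of_card_ge (hmax _ hAgC hne')
          (Nat.card_congr (C.equivSMul (MulAut.conj g)).toEquiv).le
      have hgN : g ∈ normalizer (C : Set G) := by
        refine mem_normalizer_iff.mpr fun x => ?_
        constructor
        · intro hx
          rw [← heq]
          exact smul_mem_pointwise_smul x (MulAut.conj g) C hx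
        · intro hx
          rw [← heq, mem_pointwise_smul_iff_inv_smul_mem] at hx
          simpa [← map_inv, mul_assoc] using hx
      have hNne : normalizer (C : Set G) ≠ ⊤ := fun h => by
        haveI : C.Normal := normalizer_eq_top_iff.mp h
        exact hC (htop C inferInstance hAC)
      exact hg (hmax _ (hAC.trans le_normalizer) hNne hgN)
    rintro x ⟨hxC, hxg⟩
    refine mem_center_iff.mpr fun y => ?_
    have hle : A ⊔ B ≤ centralizer {x} := by
      refine sup_le (fun a ha => mem_centralizer_singleton_iff.mpr
        (mem_centralizer_iff.mp hxC a ha)) ?_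
      intro b hb
      rw [hB, mem_pointwise_smul_iff_inv_smul_mem] at hb
      have hxg' := mem_pointwise_smul_iff_inv_smul_mem.mp hxg
      have h2 := mem_centralizer_iff.mp hxg' _ hb
      rw [MulAut.smul_def, MulAut.smul_def, ← map_mul, ← map_mul] at h2
      exact mem_centralizer_singleton_iff.mpr ((MulEquiv.injective _) h2)
    exact mem_centralizer_singleton_iff.mp (hle (hgen ▸ mem_top y))
  -- the quotient is a Frobenius group
  set π := QuotientGroup.mk' (center G) with hπ
  have hker : π.ker = center G := QuotientGroup.ker_mk' _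
  have hπs : Function.Surjective π := QuotientGroup.mk'_surjective _
  have hcomapC : (C.map π).comap π = C := comap_map_eq_self (hker.trans_le hZC)
  have hfc : Cfsg.IsFrobeniusComplement (C.map π) := by
    refine ⟨?_, ?_, ?_⟩
    · rw [Ne, Subgroup.map_eq_bot_iff, hker]
      intro h
      exact hC (eq_top_iff.mpr fun g _ => mem_centralizer_iff.mpr fun a ha =>
        (mem_center_iff.mp (h (hAC ha)) g).symm)
    · intro h
      exact hC (by rw [← hcomapC, h, comap_top])
    · intro q hq
      obtain ⟨g, rfl⟩ := hπs q
      have hg : g ∉ C := fun h => hq (mem_map_of_mem π h)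
      rw [eq_bot_iff]
      rintro x ⟨hx, hxg⟩
      obtain ⟨y, rfl⟩ := hπs x
      have hy : y ∈ C := hcomapC ▸ (hx : y ∈ (C.map π).comap π)
      have hyg : y ∈ MulAut.conj g • C := by
        rw [mem_pointwise_smul_iff_inv_smul_mem, ← hcomapC, mem_comap]
        have h4 := mem_pointwise_smul_iff_inv_smul_mem.mp hxg
        simpa [← map_inv] using h4
      exact mem_bot.mpr ((QuotientGroup.eq_one_iff y).mpr (hTI g hg ⟨hy, hyg⟩))
  obtain ⟨N, -, hNn, hNc, hNb, hNfpf⟩ := CfsgLib.Core.FrobeniusConj.exists_kernel hfc
  haveI := hNn
  have hAπ : A.map π ≤ C.map π := map_mono hAC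
  have hAs : Group.IsSolvable (A.map π) :=
    solvable_of_surjective (f := π.subgroupMap A) (MonoidHom.subgroupMap_surjective π A)
  obtain ⟨V, hVN, hVb, hVc, hAV⟩ := CfsgLib.Core.FPF.exists_abelian
    (A := A.map π) (K := N) le_normalizer_of_normal
    (CfsgLib.Core.FPF.fpf_mono hNfpf hAπ le_rfl) hNb hAs
  set W := V.comap π with hW
  have hWs : Group.IsSolvable W := by
    haveI : Group.IsSolvable V := Group.isSolvable_of_comm (fun a b => mul_comm' a b)
    haveI : Group.IsSolvable (center G) :=
      Group.isSolvable_of_comm (fun a b => mul_comm' a b)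
    refine solvable_of_ker_le_range
      (inclusion (show center G ≤ W from fun z hz => by
        rw [hW, mem_comap, show π z = 1 from (QuotientGroup.eq_one_iff z).mpr hz]
        exact one_mem V)) (π.subgroupComap V) ?_
    rintro ⟨w, hw⟩ hwk
    rw [MonoidHom.mem_ker, Subtype.ext_iff] at hwk
    exact ⟨⟨w, (QuotientGroup.eq_one_iff w).mp hwk⟩, rfl⟩
  have hAW : A ≤ normalizer (W : Set G) := by
    intro a ha
    have h5 := mem_normalizer_iff.mp (hAV (mem_map_of_mem π ha))
    refine mem_normalizer_iff.mpr fun x => ?_
    simpa [hW] using h5 (π x)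
  have hWA : Group.IsSolvable (W ⊔ A : Subgroup G) :=
    CfsgLib.Components.isSolvable_sup hAW hWs hA
  have hWC : W ≤ C := fun w hw => mem_centralizer_iff.mpr fun a ha =>
    hc _ le_sup_right hWA a ha w (le_sup_left (b := A) hw)
  apply hVb
  rw [eq_bot_iff]
  refine le_trans (le_inf hVN ?_) hNc.disjoint.le_bot
  intro v hv
  obtain ⟨y, rfl⟩ := hπs v
  exact mem_map_of_mem π (hWC hv)

/-- Let A be a solvable subgroup of a finite group G such that A lies in the centre of every solvable subgroup of G containing A. Then A lies in the centre of G. -/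
theorem result {G : Type*} [Group G] [Finite G]
    (A : Subgroup G) (hA : Group.IsSolvable A)
    (hc : ∀ S : Subgroup G, A ≤ S → Group.IsSolvable S → ∀ a ∈ A, ∀ s ∈ S, a * s = s * a) : A ≤ Subgroup.center G :=
  central_aux _ A rfl hA hc

end Cfsg.Agent.S4097
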