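import Cfsg.Statements.S4106


set_option autoImplicit false
open Cfsg

namespace Cfsg.Agent.S4106

theorem repsBound.{u} (s : Finset ℕ) : ∀ (G : Type u) [Group G] [Finite G], (∀ p ∈ s, p.Prime) →
    ∃ R : Finset G, R.card ≤ ∏ p ∈ s, p ^ (Nat.card G).factorization p ∧
      ∀ z : G, (∀ q : ℕ, q.Prime → q ∣ orderOf z → q ∈ s) → ∃ g : G, g * z * g⁻¹ ∈ R := by
  classical
  induction s using Finset.induction_on with
  | empty =>
    intro G _ _ _
    refine ⟨{1}, by simp, fun z hz => ⟨1, ?_⟩⟩
    have h1 : orderOf z = 1 := by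
      by_contra h
      obtain ⟨q, hq, hqd⟩ := Nat.exists_prime_and_dvd h
      exact absurd (hz q hq hqd) (Finset.notMem_empty q)
    simp [orderOf_eq_one_iff.1 h1]
  | insert p s hps ih =>
    intro G _ _ hs
    have hp := hs p (Finset.mem_insert_self p s)
    haveI := Fact.mk hp
    haveI := Fintype.ofFinite G
    obtain ⟨P⟩ : Nonempty (Sylow p G) := inferInstance
    have h := fun x : G => ih (Subgroup.centralizer ({x} : Set G)) (fun q hq => hs q (Finset.mem_insert_of_mem hq))
    choose R hR hRz using h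
    let Pf : Finset G := Finset.univ.filter (· ∈ (P : Subgroup G))
    refine ⟨Pf.biUnion fun x => (R x).image fun w : Subgroup.centralizer ({x} : Set G) => x * (w : G), ?_, fun z hz => ?_⟩
    · rw [Finset.prod_insert hps, ← P.card_eq_multiplicity]
      have hP : Pf.card = Nat.card (P : Subgroup G) := by
        simp [Pf, Nat.card_eq_fintype_card, Fintype.card_subtype]
      rw [← hP]
      refine Finset.card_biUnion_le_card_mul _ _ _ fun x _ => Finset.card_image_le.trans ((hR x).trans ?_)
      refine Finset.prod_le_prod' fun q hq => Nat.pow_le_pow_right (hs q (Finset.mem_insert_of_mem hq)).pos ?_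
      exact (Nat.factorization_le_iff_dvd Nat.card_pos.ne' Nat.card_pos.ne').2
        (Subgroup.card_subgroup_dvd_card _) q
    · obtain ⟨k, v, hv, hkv⟩ := Nat.exists_eq_pow_mul_and_not_dvd (orderOf_pos z).ne' p hp.one_lt.ne'
      obtain ⟨i, j, hij⟩ := Nat.Coprime.isCoprime (((hp.coprime_iff_not_dvd).2 hv).pow_left k)
      set a := (z ^ v) ^ j with ha
      set b := (z ^ p ^ k) ^ i with hb
      have hab : a * b = z := by
        rw [ha, hb, ← zpow_natCast, ← zpow_natCast z (p ^ k), ← zpow_mul, ← zpow_mul, ← zpow_add,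
          mul_comm (v : ℤ), mul_comm ((p ^ k : ℕ) : ℤ), add_comm, hij, zpow_one]
      have hapow : a ^ p ^ k = 1 := by
        rw [ha, ← zpow_natCast ((z ^ v) ^ j), ← zpow_mul, mul_comm, zpow_mul, zpow_natCast, ← pow_mul,
          mul_comm, ← hkv, pow_orderOf_eq_one, one_zpow]
      have hbpow : b ^ v = 1 := by
        rw [hb, ← zpow_natCast ((z ^ p ^ k) ^ i), ← zpow_mul, mul_comm, zpow_mul, zpow_natCast, ← pow_mul,
          ← hkv, pow_orderOf_eq_one, one_zpow]
      have hcomm : Commute a b := (((Commute.refl z).pow_left _).pow_right _).zpow_zpow j i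
      have hpg : IsPGroup p (Subgroup.zpowers a) := by
        rintro ⟨w, hw⟩
        obtain ⟨l, rfl⟩ := Subgroup.mem_zpowers_iff.1 hw
        refine ⟨k, Subtype.ext ?_⟩
        show (a ^ l) ^ p ^ k = 1
        rw [← zpow_natCast, ← zpow_mul, mul_comm, zpow_mul, zpow_natCast, hapow, one_zpow]
      obtain ⟨Q, hQ⟩ := hpg.exists_le_sylow
      obtain ⟨g, hg⟩ := MulAction.exists_smul_eq G Q P
      have hga : g * a * g⁻¹ ∈ (P : Subgroup G) := by
        rw [← hg, Sylow.coe_subgroup_smul]
        exact ⟨a, hQ (Subgroup.mem_zpowers a), by simp⟩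
      have hgb : g * b * g⁻¹ ∈ Subgroup.centralizer ({g * a * g⁻¹} : Set G) := by
        rw [Subgroup.mem_centralizer_singleton_iff]
        calc g * b * g⁻¹ * (g * a * g⁻¹) = g * (b * a) * g⁻¹ := by group
          _ = g * (a * b) * g⁻¹ := by rw [hcomm.eq]
          _ = g * a * g⁻¹ * (g * b * g⁻¹) := by group
      obtain ⟨c, hc⟩ := hRz (g * a * g⁻¹) ⟨_, hgb⟩ (fun q hq hqd => by
        rw [← Subgroup.orderOf_coe] at hqd
        simp only [← MulAut.conj_apply, MulEquiv.orderOf_eq] at hqd
        have hqv : q ∣ v := hqd.trans (orderOf_dvd_of_pow_eq_one hbpow)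
        have hqs := hz q hq (hkv ▸ Dvd.dvd.mul_left hqv _)
        rcases Finset.mem_insert.1 hqs with rfl | h
        · exact absurd hqv hv
        · exact h)
      refine ⟨c.1 * g, Finset.mem_biUnion.2 ⟨g * a * g⁻¹, by simp [Pf, hga],
        Finset.mem_image.2 ⟨_, hc, ?_⟩⟩⟩
      have hcc := Subgroup.mem_centralizer_singleton_iff.1 c.2
      show g * a * g⁻¹ * ((c : G) * (g * b * g⁻¹) * (c : G)⁻¹) = _
      rw [← hab]
      calc g * a * g⁻¹ * ((c : G) * (g * b * g⁻¹) * (c : G)⁻¹)
          = (g * a * g⁻¹ * c) * (g * b * g⁻¹) * (c : G)⁻¹ := by group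
        _ = (c * (g * a * g⁻¹)) * (g * b * g⁻¹) * (c : G)⁻¹ := by rw [← hcc]
        _ = c * g * (a * b) * ((c : G) * g)⁻¹ := by group

/-- Let G be a finite group, π a set of primes and m the π-part of the order of G. Then the number of conjugacy classes of G consisting of π-elements (elements whose order is divisible only by primes in π) is at most m. -/
theorem result {G : Type*} [Group G] [Finite G]
    (π : Set ℕ) (hπ : ∀ q ∈ π, q.Prime)
    (m : ℕ) (hm : m ∣ Nat.card G) (hmπ : ∀ q : ℕ, q.Prime → q ∣ m → q ∈ π)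
    (hm' : ∀ q ∈ π, ¬ q ∣ Nat.card G / m) :
    Nat.card {C : ConjClasses G // ∀ q : ℕ, q.Prime → (∃ g : G, ConjClasses.mk g = C ∧ q ∣ orderOf g) → q ∈ π} ≤ m := by
  classical
  let s : Finset ℕ := (Nat.card G).primeFactors.filter (fun q => q ∈ π)
  obtain ⟨R, hR, hRz⟩ := repsBound s G fun q hq => Nat.prime_of_mem_primeFactors (Finset.mem_filter.1 hq).1
  have hprod : ∏ q ∈ s, q ^ (Nat.card G).factorization q ≤ m := by
    refine Nat.le_of_dvd (Nat.pos_of_dvd_of_pos hm Nat.card_pos) ?_
    have hone : ∀ q ∈ s, q ^ (Nat.card G).factorization q ∣ m := fun q hq => by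
      rw [Finset.mem_filter] at hq
      have hqp := Nat.prime_of_mem_primeFactors hq.1
      have hd : q ^ (Nat.card G).factorization q ∣ m * (Nat.card G / m) := by
        rw [Nat.mul_div_cancel' hm]
        exact Nat.ordProj_dvd _ _
      exact ((hqp.coprime_iff_not_dvd.2 (hm' q hq.2)).pow_left _).dvd_of_dvd_mul_right hd
    have hall : ∀ t : Finset ℕ, t ⊆ s → ∏ q ∈ t, q ^ (Nat.card G).factorization q ∣ m := by
      intro t
      induction t using Finset.induction_on with
      | empty => exact fun _ => by simp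
      | insert q t hqt ih =>
        intro hts
        rw [Finset.insert_subset_iff] at hts
        rw [Finset.prod_insert hqt]
        refine Nat.Coprime.mul_dvd_of_dvd_of_dvd (Nat.Coprime.prod_right fun r hr => ?_) (hone q hts.1) (ih hts.2)
        refine Nat.Coprime.pow _ _ ((Nat.coprime_primes ?_ ?_).2 fun h => hqt (h ▸ hr))
        · exact Nat.prime_of_mem_primeFactors (Finset.mem_filter.1 hts.1).1
        · exact Nat.prime_of_mem_primeFactors (Finset.mem_filter.1 (hts.2 hr)).1
    exact hall s subset_rfl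
  refine le_trans ?_ (hR.trans hprod)
  rw [← Fintype.card_coe, ← Nat.card_eq_fintype_card]
  let S := {C : ConjClasses G // ∀ q : ℕ, q.Prime → (∃ g : G, ConjClasses.mk g = C ∧ q ∣ orderOf g) → q ∈ π}
  have hrep : ∀ C : S, ∃ r : R, ConjClasses.mk (r : G) = C.1 := by
    rintro ⟨C, hC⟩
    obtain ⟨z, rfl⟩ := ConjClasses.mk_surjective C
    obtain ⟨g, hg⟩ := hRz z fun q hq hqd => Finset.mem_filter.2
      ⟨(Nat.mem_primeFactors).2 ⟨hq, hqd.trans (orderOf_dvd_natCard z), Nat.card_pos.ne'⟩, hC q hq ⟨z, rfl, hqd⟩⟩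
    exact ⟨⟨_, hg⟩, (ConjClasses.mk_eq_mk_iff_isConj.2 (isConj_iff.2 ⟨g, rfl⟩)).symm⟩
  choose f hf using hrep
  exact Nat.card_le_card_of_injective f fun C D h => Subtype.ext (by rw [← hf C, ← hf D, h])

end Cfsg.Agent.S4106
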