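import Cfsg.Statements.S4107
import Cfsg.Agent.Lib.Core.Cores
import Cfsg.Agent.Lib.Core.Coprime

set_option autoImplicit false
open Cfsg

namespace Cfsg.Agent.S4107

open Subgroup

/-- An element of `N` commuting with `x` outside has order dividing that of `x`. -/
theorem orderOf_dvd_of_commute {G : Type*} [Group G] {N : Subgroup G}
    (heq : ∀ x : G, x ∉ N → ∀ n ∈ N, orderOf (x * n) = orderOf x) {x n : G} (hx : x ∉ N) (hn : n ∈ N)
    (hc : Commute x n) : orderOf n ∣ orderOf x := by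
  refine orderOf_dvd_of_pow_eq_one ?_
  have h1 := hc.mul_pow (orderOf x)
  rw [pow_orderOf_eq_one, one_mul] at h1
  rw [← h1, ← heq x hx n hn, pow_orderOf_eq_one]

/-- If `O_p(G)` is not inside `N` then `N` is a `p`-group. -/
theorem isPGroup_of_not_le {G : Type*} [Group G] [Finite G] {N : Subgroup G} [N.Normal]
    (heq : ∀ x : G, x ∉ N → ∀ n ∈ N, orderOf (x * n) = orderOf x) {p : ℕ} [Fact p.Prime]
    (h : ¬ Cfsg.pCore p G ≤ N) : IsPGroup p N := by
  have hP := CfsgLib.Core.isPGroup_pCore p G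
  obtain ⟨x, hxP, hxN⟩ := SetLike.not_le_iff_exists.1 h
  rw [IsPGroup.iff_card]
  refine ⟨(Nat.card N).primeFactorsList.length, Nat.eq_prime_pow_of_unique_prime_dvd Nat.card_pos.ne' fun {r} hr hrd => ?_⟩
  by_contra hrp
  haveI := Fact.mk hr
  obtain ⟨n, hn⟩ := exists_prime_orderOf_dvd_card' (G := N) r hrd
  rw [← Subgroup.orderOf_coe] at hn
  haveI : (Cfsg.pCore p G).Normal := inferInstance
  have hD : IsPGroup p (N ⊓ Cfsg.pCore p G : Subgroup G) := hP.to_le inf_le_right
  obtain ⟨a, ha⟩ := hD.exists_card_eq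
  have hcop : (Nat.card (zpowers (n : G))).Coprime (Nat.card (N ⊓ Cfsg.pCore p G : Subgroup G)) := by
    rw [Nat.card_zpowers, hn, ha]
    exact (Nat.coprime_primes hr Fact.out).2 hrp |>.pow_right a
  obtain ⟨d, hd, hc⟩ := CfsgLib.Core.exists_centralizing_in_coset (A := zpowers (n : G))
    (N := N ⊓ Cfsg.pCore p G) (k := x) (CfsgLib.Core.le_normalizer_of_normal _ _) hcop
    (Or.inr (by haveI := hD.isNilpotent; infer_instance))
    (fun b hb => by
      have hbN : b ∈ N := zpowers_le.2 n.2 hb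
      refine mem_inf.2 ⟨?_, mul_mem (inv_mem hxP) (Normal.conj_mem inferInstance _ hxP b)⟩
      rw [← mul_assoc, ← mul_assoc]
      exact mul_mem (Normal.conj_mem' inferInstance _ hbN x) (inv_mem hbN))
  have hxd : x * d ∉ N := fun h' => hxN (by simpa using mul_mem h' (inv_mem hd.1))
  have h1 := orderOf_dvd_of_commute heq hxd n.2
    ((mem_centralizer_iff.1 hc (n : G) (mem_zpowers _)).symm)
  obtain ⟨b, hb⟩ := IsPGroup.iff_orderOf.1 hP ⟨x * d, mul_mem hxP hd.2⟩
  rw [Subgroup.orderOf_mk] at hb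
  rw [hn, hb] at h1
  exact hrp ((Nat.prime_dvd_prime_iff_eq hr Fact.out).1 (hr.dvd_of_dvd_pow h1))

/-- Let G be a finite group and N a proper non-trivial normal subgroup such that for every x outside N all elements of the coset xN have the same order as x. Then N ≤ F(G) or F(G) ≤ N, where F(G) is the Fitting subgroup; and if N is properly contained in F(G) then F(G) has prime-power order. -/
theorem result {G : Type*} [Group G] [Finite G] (N : Subgroup G) [N.Normal] (hN1 : N ≠ ⊥) (hN2 : N ≠ ⊤)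
    (heq : ∀ x : G, x ∉ N → ∀ n ∈ N, orderOf (x * n) = orderOf x) :
    (N ≤ Cfsg.fittingSubgroup G ∨ Cfsg.fittingSubgroup G ≤ N) ∧
    (N < Cfsg.fittingSubgroup G → IsPrimePow (Nat.card (Cfsg.fittingSubgroup G))) := by
  by_cases hFN : Cfsg.fittingSubgroup G ≤ N
  · exact ⟨Or.inr hFN, fun h => absurd hFN h.not_ge⟩
  obtain ⟨p, hp, hpN⟩ : ∃ p : ℕ, p.Prime ∧ ¬ Cfsg.pCore p G ≤ N := by
    by_contra hcon
    push Not at hcon
    apply hFN
    rw [CfsgLib.Core.fittingSubgroup_eq_finset_sup]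
    exact Finset.sup_le fun p hp => hcon p (Nat.prime_of_mem_primeFactors hp)
  haveI := Fact.mk hp
  have hN := isPGroup_of_not_le heq hpN
  have hNP : N ≤ Cfsg.pCore p G := CfsgLib.Core.le_pCore hN
  refine ⟨Or.inl (hNP.trans (CfsgLib.Core.pCore_le_fittingSubgroup p)), fun hlt => ?_⟩
  have hF : Cfsg.fittingSubgroup G = Cfsg.pCore p G := by
    refine le_antisymm ?_ (CfsgLib.Core.pCore_le_fittingSubgroup p)
    rw [CfsgLib.Core.fittingSubgroup_eq_finset_sup]
    refine Finset.sup_le fun r hr => ?_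
    have hr' := Nat.prime_of_mem_primeFactors hr
    haveI := Fact.mk hr'
    by_cases hrN : Cfsg.pCore r G ≤ N
    · exact hrN.trans hNP
    · have hN' := isPGroup_of_not_le heq hrN
      by_cases hrp : r = p
      · rw [hrp]
      · exact absurd (disjoint_self.1 (IsPGroup.disjoint_of_ne p r (Ne.symm hrp) N N hN hN')) hN1
  obtain ⟨a, ha⟩ := (CfsgLib.Core.isPGroup_pCore p G).exists_card_eq
  rw [hF, ha]
  refine hp.prime.isPrimePow.pow ?_
  rintro rfl
  rw [pow_zero, card_eq_one, ← hF] at ha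
  rw [ha] at hlt
  exact not_lt_bot hlt

end Cfsg.Agent.S4107
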