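import Cfsg.Statements.S4108
import Cfsg.Agent.Lib.ClassSizes.Counting

set_option autoImplicit false
open Cfsg

namespace Cfsg.Agent.S4108

/-- Let G be a finite group, p a prime and N a proper non-trivial normal p-subgroup such that for every x outside N all elements of the coset xN have the same order as x. Then every non-trivial subgroup H of G of order prime to p acts fixed-point-freely on N: NH is a Frobenius group with complement H and kernel N. -/
theorem result {G : Type*} [Group G] [Finite G] (N : Subgroup G) [N.Normal] (hN1 : N ≠ ⊥) (hN2 : N ≠ ⊤)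
    (heq : ∀ x : G, x ∉ N → ∀ n ∈ N, orderOf (x * n) = orderOf x)
    (p : ℕ) [Fact p.Prime] (hNp : IsPGroup p N) :
    ∀ H : Subgroup G, H ≠ ⊥ → (Nat.card H).Coprime p →
      Cfsg.IsFrobeniusComplement (H.subgroupOf (N ⊔ H)) ∧ Cfsg.frobeniusKernel (H.subgroupOf (N ⊔ H)) = (N.subgroupOf (N ⊔ H) : Set ↥(N ⊔ H)) := by
  intro H hH hcop
  classical
  set J := N ⊔ H with hJ
  set H' := H.subgroupOf J with hH'
  have hHJ : H ≤ J := le_sup_right
  have hNJ : N ≤ J := le_sup_left
  obtain ⟨m, hm⟩ := IsPGroup.iff_card.1 hNp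
  have hdis : ∀ x, x ∈ N → x ∈ H → x = 1 := by
    have h : N ⊓ H = ⊥ := Subgroup.inf_eq_bot_of_coprime (by rw [hm]; exact Nat.Coprime.pow_left _ hcop.symm)
    intro x h1 h2
    exact Subgroup.mem_bot.1 (h ▸ (⟨h1, h2⟩ : x ∈ N ⊓ H))
  have hfpf : ∀ h ∈ H, h ≠ 1 → ∀ n ∈ N, h * n = n * h → n = 1 := by
    intro h hh h1 n hn hc
    have hN : h ∉ N := fun hN => h1 (hdis h hN hh)
    have ho := heq h hN n hn
    have hco : (orderOf h).Coprime (orderOf n) := by
      have hd : orderOf h ∣ Nat.card H := by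
        have := orderOf_dvd_natCard (⟨h, hh⟩ : H); rwa [Subgroup.orderOf_mk] at this
      refine Nat.Coprime.coprime_dvd_left hd ?_
      obtain ⟨k, hk⟩ := IsPGroup.iff_orderOf.1 hNp ⟨n, hn⟩
      rw [Subgroup.orderOf_mk] at hk
      rw [hk]; exact Nat.Coprime.pow_right _ hcop
    rw [Commute.orderOf_mul_eq_mul_orderOf_of_coprime hc hco] at ho
    exact orderOf_eq_one_iff.1 ((Nat.mul_eq_left (orderOf_pos h).ne').1 ho)
  have hmemH' : ∀ x : J, x ∈ H' ↔ (x : G) ∈ H := fun x => Subgroup.mem_subgroupOf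
  have hdec : ∀ x : J, ∃ n ∈ N, ∃ h ∈ H, (x : G) = n * h := fun x => by
    obtain ⟨n, hn, h, hh, he⟩ := Subgroup.mem_sup_of_normal_left.1 x.2
    exact ⟨n, hn, h, hh, he.symm⟩
  refine ⟨⟨?_, ?_, ?_⟩, ?_⟩
  · intro hb
    obtain ⟨⟨h, hh⟩, h1'⟩ := Subgroup.ne_bot_iff_exists_ne_one.1 hH
    have h1 : h ≠ 1 := fun e => h1' (Subtype.ext e)
    have : (⟨h, hHJ hh⟩ : J) ∈ H' := (hmemH' _).2 hh
    rw [hb, Subgroup.mem_bot] at this
    exact h1 (congrArg Subtype.val this)
  · intro ht
    obtain ⟨⟨n, hn⟩, h1⟩ := Subgroup.ne_bot_iff_exists_ne_one.1 hN1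
    have : (⟨n, hNJ hn⟩ : J) ∈ H' := ht ▸ Subgroup.mem_top _
    exact h1 (Subtype.ext (hdis n hn ((hmemH' _).1 this)))
  · intro g hg
    rw [eq_bot_iff]
    intro x hx
    obtain ⟨n, hn, h, hh, hge⟩ := hdec g
    have hxH : (x : G) ∈ H := (hmemH' x).1 hx.1
    have hcj := Subgroup.mem_pointwise_smul_iff_inv_smul_mem.1 hx.2
    rw [← map_inv, MulAut.smul_def, MulAut.conj_apply, inv_inv, hmemH'] at hcj
    simp only [Subgroup.coe_mul, InvMemClass.coe_inv, hge] at hcj
    have h2 : n⁻¹ * (x : G) * n ∈ H := by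
      have := mul_mem (mul_mem hh hcj) (inv_mem hh)
      convert this using 1; group
    have h3 : (x : G)⁻¹ * (n⁻¹ * (x : G) * n) = 1 := by
      refine hdis _ ?_ (mul_mem (inv_mem hxH) h2)
      have := mul_mem (‹N.Normal›.conj_mem _ (inv_mem hn) (x : G)⁻¹) hn
      convert this using 1; group
    rw [Subgroup.mem_bot]
    by_contra hx1
    have hn1 : n = 1 := hfpf x hxH (fun e => hx1 (Subtype.ext e)) n hn (by
      calc (x : G) * n = n * (x * ((x : G)⁻¹ * (n⁻¹ * x * n))) := by group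
        _ = n * x := by rw [h3, mul_one])
    exact hg ((hmemH' g).2 (by rw [hge, hn1, one_mul]; exact hh))
  · ext x
    constructor
    · rintro (rfl | hx)
      · exact one_mem _
      obtain ⟨n, hn, h, hh, hxe⟩ := hdec x
      rcases eq_or_ne h 1 with rfl | h1
      · show (x : G) ∈ N
        rw [hxe, mul_one]; exact hn
      exfalso
      let f : N → N := fun m => ⟨(m : G) * (h * (m : G)⁻¹ * h⁻¹),
        mul_mem m.2 (‹N.Normal›.conj_mem _ (inv_mem m.2) h)⟩
      have hf : Function.Injective f := by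
        intro a b hab
        have hab' : (a : G) * (h * (a : G)⁻¹ * h⁻¹) = b * (h * (b : G)⁻¹ * h⁻¹) := congrArg Subtype.val hab
        have := hfpf h hh h1 ((a : G)⁻¹ * b) (mul_mem (inv_mem a.2) b.2) (by
          calc h * ((a : G)⁻¹ * b) = (a : G)⁻¹ * (a * (h * (a : G)⁻¹ * h⁻¹)) * h * b := by group
            _ = (a : G)⁻¹ * (b * (h * (b : G)⁻¹ * h⁻¹)) * h * b := by rw [hab']
            _ = _ := by group)
        exact Subtype.ext (inv_mul_eq_one.1 this)
      obtain ⟨m', hm'⟩ := (Finite.injective_iff_surjective.1 hf) ⟨n, hn⟩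
      apply hx ⟨(m' : G), hNJ m'.2⟩
      rw [Subgroup.mem_pointwise_smul_iff_inv_smul_mem, ← map_inv, MulAut.smul_def, MulAut.conj_apply, inv_inv, hmemH']
      simp only [Subgroup.coe_mul, InvMemClass.coe_inv, hxe]
      have hm'' : (m' : G) * (h * (m' : G)⁻¹ * h⁻¹) = n := congrArg Subtype.val hm'
      rw [← hm'']
      convert hh using 1; group
    · intro (hx : (x : G) ∈ N)
      by_cases hx1 : x = 1
      · exact Or.inl hx1
      refine Or.inr fun g hg => hx1 ?_
      rw [Subgroup.mem_pointwise_smul_iff_inv_smul_mem, ← map_inv, MulAut.smul_def, MulAut.conj_apply, inv_inv, hmemH'] at hg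
      simp only [Subgroup.coe_mul, InvMemClass.coe_inv] at hg
      have h := hdis _ (by simpa using ‹N.Normal›.conj_mem _ hx (g : G)⁻¹) hg
      have e : (g : G) * ((g : G)⁻¹ * x * g) * (g : G)⁻¹ = x := by group
      rw [h, mul_one, mul_inv_cancel] at e
      exact Subtype.ext e.symm

end Cfsg.Agent.S4108
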