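import Cfsg.Statements.S4112
import Cfsg.Agent.Lib.ClassSizes.Counting

set_option autoImplicit false
open Cfsg

namespace Cfsg.Agent.S4112

/-- A supplement of a normal subgroup `N`, minimal among supplements, has every prime divisor dividing the index of `N`. -/
theorem prime_dvd_of_minimal {G : Type*} [Group G] [Finite G] {N H : Subgroup G} [N.Normal]
    (hH : H ⊔ N = ⊤) (hmin : ∀ K : Subgroup G, K ≤ H → K ⊔ N = ⊤ → K = H)
    {r : ℕ} (hr : r.Prime) (hrH : r ∣ Nat.card H) : r ∣ N.index := by
  have := Fact.mk hr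
  by_contra hn
  obtain ⟨R⟩ := (inferInstance : Nonempty (Sylow r H))
  set NH := N.subgroupOf H
  have hidx : NH.index = N.index := by
    show N.relIndex H = N.index
    rw [← Subgroup.relIndex_sup_right (H := H) (K := N), hH, Subgroup.relIndex_top_right]
  have hRN : (R : Subgroup H) ≤ NH := by
    intro x hx
    rw [← QuotientGroup.eq_one_iff, ← orderOf_eq_one_iff]
    obtain ⟨k, hk⟩ := IsPGroup.iff_orderOf.1 R.isPGroup' ⟨x, hx⟩
    rw [Subgroup.orderOf_mk] at hk
    refine Nat.eq_one_of_dvd_coprimes (Nat.Coprime.pow_left k ((hr.coprime_iff_not_dvd).2 hn))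
      (hk ▸ orderOf_map_dvd (QuotientGroup.mk' NH) x) (hidx ▸ orderOf_dvd_natCard _)
  have hfr : Subgroup.normalizer ((R : Subgroup H) : Set H) ⊔ NH = ⊤ := Sylow.normalizer_sup_eq_top' R hRN
  have hsupl : ∀ K : Subgroup H, K ⊔ NH = ⊤ → K = ⊤ := by
    intro K hK
    have h1 : K.map H.subtype ⊔ N = ⊤ := by
      rw [eq_top_iff, ← hH]
      refine sup_le ?_ le_sup_right
      intro x hx
      have hxm : (⟨x, hx⟩ : H) ∈ K ⊔ NH := hK ▸ Subgroup.mem_top _
      obtain ⟨a, ha, b, hb, hab⟩ := Subgroup.mem_sup_of_normal_right.1 hxm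
      rw [show x = (a : G) * b from (congrArg Subtype.val hab).symm]
      exact mul_mem (Subgroup.mem_sup_left ⟨a, ha, rfl⟩) (Subgroup.mem_sup_right hb)
    have h2 := hmin _ (Subgroup.map_subtype_le K) h1
    apply Subgroup.map_injective (Subgroup.subtype_injective H)
    rw [h2, ← MonoidHom.range_eq_map, Subgroup.range_subtype]
  have hRn : (R : Subgroup H).Normal := Subgroup.normalizer_eq_top_iff.1 (hsupl _ hfr)
  obtain ⟨K, hK⟩ := Subgroup.exists_left_complement'_of_coprime R.card_coprime_index
  have hKt : K = ⊤ := hsupl K (eq_top_iff.2 (hK.sup_eq_top ▸ sup_le_sup_left hRN K))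
  rw [hKt, Subgroup.isComplement'_top_left] at hK
  have h1 := R.dvd_card_of_dvd_card hrH
  rw [hK, Subgroup.card_bot] at h1
  exact hr.not_dvd_one h1

/-- Let G be a finite group and M ≤ N non-trivial proper normal subgroups such that for every g outside N the conjugacy class of g is a union of cosets of M (equivalently gm is conjugate to g for every m ∈ M). Then (1) and (2) below are equivalent, and they imply (3): (1) every g outside N acts fixed-point-freely on M, that is C_G(x) ≤ N for every x ∈ M, x ≠ 1; (2) the index of N in G is coprime to the order of M; (3) there is a subgroup H of G with HN = G and H ∩ M = 1. -/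
theorem result {G : Type*} [Group G] [Finite G] (N M : Subgroup G) [N.Normal] [M.Normal] (hMN : M ≤ N) (hM1 : M ≠ ⊥) (hN2 : N ≠ ⊤)
    (hcam : ∀ g : G, g ∉ N → ∀ m ∈ M, ∃ x : G, x * g * x⁻¹ = g * m) :
    ((∀ x ∈ M, x ≠ 1 → Subgroup.centralizer ({x} : Set G) ≤ N) ↔ N.index.Coprime (Nat.card M)) ∧
    ((∀ x ∈ M, x ≠ 1 → Subgroup.centralizer ({x} : Set G) ≤ N) → ∃ H : Subgroup G, H ⊔ N = ⊤ ∧ H ⊓ M = ⊥) := by
  classical
  have forward : (∀ x ∈ M, x ≠ 1 → Subgroup.centralizer ({x} : Set G) ≤ N) → N.index.Coprime (Nat.card M) := by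
    intro h
    refine Nat.coprime_of_dvd' fun r hr h1 h2 => ?_
    exfalso
    have := Fact.mk hr
    obtain ⟨R⟩ := (inferInstance : Nonempty (Sylow r G))
    set MR := M.subgroupOf (R : Subgroup G)
    have hne : MR ≠ ⊥ := by
      intro hb
      have hcard := CfsgLib.ClassSizes.card_map_sylow_mul R M
      obtain ⟨⟨m₀, hm₀⟩, hmo⟩ := exists_prime_orderOf_dvd_card' (G := M) r h2
      rw [Subgroup.orderOf_mk] at hmo
      obtain ⟨S, hS⟩ := (IsPGroup.of_card (n := 1) (by rw [Nat.card_zpowers, pow_one]; exact hmo) : IsPGroup r (Subgroup.zpowers m₀)).exists_le_sylow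
      obtain ⟨g, rfl⟩ := MulAction.exists_smul_eq G R S
      have hm := hS (Subgroup.mem_zpowers m₀)
      rw [Sylow.smul_def, Sylow.pointwise_smul_def, Subgroup.mem_pointwise_smul_iff_inv_smul_mem, ← map_inv, MulAut.smul_def, MulAut.conj_apply, inv_inv] at hm
      have h0 : (⟨_, hm⟩ : (R : Subgroup G)) ∈ MR := Subgroup.mem_subgroupOf.2 (by simpa using ‹M.Normal›.conj_mem _ hm₀ g⁻¹)
      rw [hb, Subgroup.mem_bot] at h0
      have h1' : g⁻¹ * m₀ * g = 1 := congrArg Subtype.val h0
      have : m₀ = 1 := by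
        have e : g * (g⁻¹ * m₀ * g) * g⁻¹ = m₀ := by group
        rw [h1', mul_one, mul_inv_cancel] at e; exact e.symm
      rw [this, orderOf_one] at hmo
      exact hr.ne_one hmo.symm
    -- a central element of R inside M
    obtain ⟨z, hz, hz1⟩ : ∃ z : (R : Subgroup G), (z ∈ MR ∧ z ∈ Subgroup.center (R : Subgroup G)) ∧ z ≠ 1 := by
      have hp : IsPGroup r (ConjAct (R : Subgroup G)) := R.isPGroup'.of_equiv ConjAct.toConjAct
      have hdvd : r ∣ Nat.card MR := ((R.isPGroup'.to_subgroup MR).card_eq_or_dvd).resolve_left fun e => hne (Subgroup.card_eq_one.1 e)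
      obtain ⟨z, hz, hzne⟩ := hp.exists_fixed_point_of_prime_dvd_card_of_fixed_point MR hdvd
        (a := (1 : MR)) (by intro g; ext; simp [ConjAct.smul_def])
      refine ⟨z, ⟨z.2, Subgroup.mem_center_iff.2 fun w => ?_⟩, fun e => hzne (Subtype.ext e.symm)⟩
      have := congrArg Subtype.val (hz (ConjAct.toConjAct w))
      change w * (z : (R : Subgroup G)) * w⁻¹ = z at this
      rwa [mul_inv_eq_iff_eq_mul] at this
    have hzM : (z : G) ∈ M := hz.1
    have hle : (R : Subgroup G) ≤ N := by
      refine le_trans ?_ (h z hzM fun e => hz1 (Subtype.ext e))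
      intro w hw
      rw [Subgroup.mem_centralizer_singleton_iff]
      exact congrArg Subtype.val (Subgroup.mem_center_iff.1 hz.2 ⟨w, hw⟩)
    exact R.not_dvd_index (h1.trans (Subgroup.index_dvd_of_le hle))
  have backward : N.index.Coprime (Nat.card M) → ∀ x ∈ M, x ≠ 1 → Subgroup.centralizer ({x} : Set G) ≤ N := by
    intro hc x hx hx1 g hg
    by_contra hgN
    -- a power of g outside N of order coprime to the order of x
    set s := orderOf x with hs
    have hsM : s ∣ Nat.card M := by
      have := orderOf_dvd_natCard (⟨x, hx⟩ : M); rwa [Subgroup.orderOf_mk] at this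
    have hcs : N.index.Coprime s := hc.coprime_dvd_right hsM
    set k := s ^ (orderOf g)
    set g' := g ^ k with hg'
    have hg'N : g' ∉ N := by
      intro hin
      apply hgN
      rw [← QuotientGroup.eq_one_iff, ← orderOf_eq_one_iff]
      refine Nat.eq_one_of_dvd_coprimes (Nat.Coprime.pow_right (orderOf g) hcs) (orderOf_dvd_natCard _) ?_
      rw [orderOf_dvd_iff_pow_eq_one, ← QuotientGroup.mk_pow]
      exact (QuotientGroup.eq_one_iff _).2 hin
    have hco : (orderOf g').Coprime s := by
      refine Nat.coprime_of_dvd' fun r hr h1 h2 => ?_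
      exfalso
      -- r divides k to a power above its multiplicity in the order of g
      have hrk : r ^ orderOf g ∣ k := pow_dvd_pow_of_dvd h2 _
      have hd : orderOf g' = orderOf g / Nat.gcd (orderOf g) k := orderOf_pow g
      rw [hd] at h1
      have hgc : r * Nat.gcd (orderOf g) k ∣ orderOf g := by
        rw [mul_comm]; exact Nat.mul_dvd_of_dvd_div (Nat.gcd_dvd_left _ _) h1
      have : ∀ i, i ≤ orderOf g → r ^ i ∣ orderOf g := by
        intro i hi
        induction i with
        | zero => simp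
        | succ i ih =>
          have := Nat.dvd_gcd (ih (by omega)) ((pow_dvd_pow r (by omega : i ≤ orderOf g)).trans hrk)
          rw [pow_succ']
          exact (Nat.mul_dvd_mul_left r this).trans hgc
      exact absurd (Nat.le_of_dvd (orderOf_pos g) (this _ le_rfl)) (not_le.2 (Nat.lt_pow_self hr.one_lt))
    have hcomm : Commute g' x := (Commute.pow_left (Subgroup.mem_centralizer_singleton_iff.1 hg : Commute g x) k)
    obtain ⟨y, hy⟩ := hcam g' hg'N x hx
    have ho : orderOf (g' * x) = orderOf g' := by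
      rw [← hy]; exact orderOf_injective (MulAut.conj y).toMonoidHom (MulEquiv.injective _) _
    rw [hcomm.orderOf_mul_eq_mul_orderOf_of_coprime hco] at ho
    exact hx1 (orderOf_eq_one_iff.1 ((Nat.mul_eq_left (orderOf_pos g').ne').1 ho))
  refine ⟨⟨forward, backward⟩, fun h => ?_⟩
  obtain ⟨H, hH, hmin⟩ := (Set.toFinite {H : Subgroup G | H ⊔ N = ⊤}).exists_minimal ⟨⊤, by simp⟩
  refine ⟨H, hH, ?_⟩
  rw [← Subgroup.card_eq_one]
  by_contra hne
  obtain ⟨r, hr, hrd⟩ := Nat.exists_prime_and_dvd hne
  have h1 := prime_dvd_of_minimal hH (fun K hK hK' => le_antisymm hK (hmin hK' hK)) hr (hrd.trans (Subgroup.card_dvd_of_le inf_le_left))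
  exact Nat.Prime.not_dvd_one hr ((forward h) ▸ Nat.dvd_gcd h1 (hrd.trans (Subgroup.card_dvd_of_le inf_le_right)))

end Cfsg.Agent.S4112
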