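import Cfsg.Statements.S4113


set_option autoImplicit false
open Cfsg

namespace Cfsg.Agent.S4113

/-- Let G be a finite group, M ≤ N non-trivial proper normal subgroups, and H a subgroup with HM = G and H ∩ M = 1. Then every element of G outside N acts fixed-point-freely on M (C_G(x) ≤ N for every x ∈ M, x ≠ 1) if and only if H ∩ gHg⁻¹ ≤ H ∩ N for every g outside H, with H proper and non-trivial and H ∩ N proper in H. -/
theorem result {G : Type*} [Group G] [Finite G] (N M : Subgroup G) [N.Normal] [M.Normal] (hMN : M ≤ N) (hM1 : M ≠ ⊥) (hN2 : N ≠ ⊤)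
    (H : Subgroup G) (hHM : H ⊔ M = ⊤) (hHM' : H ⊓ M = ⊥) :
    (∀ x ∈ M, x ≠ 1 → Subgroup.centralizer ({x} : Set G) ≤ N) ↔
      (H ≠ ⊥ ∧ H ≠ ⊤ ∧ H ⊓ N < H ∧ ∀ g : G, g ∉ H → H ⊓ H.map (MulAut.conj g).toMonoidHom ≤ N) := by
  have hdis : ∀ x, x ∈ H → x ∈ M → x = 1 := fun x h1 h2 => Subgroup.mem_bot.1 (hHM' ▸ (⟨h1, h2⟩ : x ∈ H ⊓ M))
  have hdec : ∀ g : G, ∃ m ∈ M, ∃ h ∈ H, g = m * h := fun g => by
    obtain ⟨m, hm, h, hh, e⟩ := Subgroup.mem_sup_of_normal_left.1 (show g ∈ M ⊔ H by rw [sup_comm, hHM]; exact Subgroup.mem_top g)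
    exact ⟨m, hm, h, hh, e.symm⟩
  constructor
  · intro hfr
    refine ⟨?_, ?_, ?_, fun g hg h hh => ?_⟩
    · rintro rfl
      rw [bot_sup_eq] at hHM
      exact hN2 (eq_top_iff.2 (hHM ▸ hMN))
    · rintro rfl
      exact hM1 (by simpa using hHM')
    · refine lt_of_le_of_ne inf_le_left fun e => hN2 ?_
      rw [eq_top_iff, ← hHM]
      exact sup_le (e ▸ inf_le_right) hMN
    · obtain ⟨m, hm, u, hu, rfl⟩ := hdec g
      obtain ⟨h', hh', he⟩ := hh.2
      have he' : m * u * h' * (m * u)⁻¹ = h := he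
      have hk : u * h' * u⁻¹ ∈ H := mul_mem (mul_mem hu hh') (inv_mem hu)
      have h1 : (u * h' * u⁻¹)⁻¹ * h = 1 := by
        refine hdis _ (mul_mem (inv_mem hk) hh.1) ?_
        rw [← he']
        have := mul_mem (‹M.Normal›.conj_mem m hm (u * h' * u⁻¹)⁻¹) (inv_mem hm)
        convert this using 1; group
      rw [inv_mul_eq_one] at h1
      have hm1 : m ≠ 1 := by rintro rfl; exact hg (by simpa using hu)
      refine hfr m hm hm1 ?_
      rw [Subgroup.mem_centralizer_singleton_iff]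
      calc h * m = (m * u * h' * (m * u)⁻¹) * m := by rw [he']
        _ = m * (u * h' * u⁻¹) := by group
        _ = m * h := by rw [h1]
  · rintro ⟨-, -, -, hti⟩ x hx hx1 g hg
    by_contra hgN
    obtain ⟨m, hm, h, hh, rfl⟩ := hdec g
    have hhN : h ∉ N := fun e => hgN (mul_mem (hMN hm) e)
    have hcent : ∀ y ∈ M, h * y = y * h → y = 1 := by
      intro y hy hc
      by_contra hy1
      refine hhN (hti y (fun hyH => hy1 (hdis y hyH hy)) ⟨hh, h, hh, ?_⟩)
      show y * h * y⁻¹ = h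
      rw [← hc]; group
    let f : M → M := fun a => ⟨(a : G) * (h * (a : G)⁻¹ * h⁻¹), mul_mem a.2 (‹M.Normal›.conj_mem _ (inv_mem a.2) h)⟩
    have hf : Function.Injective f := by
      intro a b hab
      have hab' : (a : G) * (h * (a : G)⁻¹ * h⁻¹) = b * (h * (b : G)⁻¹ * h⁻¹) := congrArg Subtype.val hab
      exact Subtype.ext (inv_mul_eq_one.1 (hcent _ (mul_mem (inv_mem a.2) b.2) (by
        calc h * ((a : G)⁻¹ * b) = (a : G)⁻¹ * (a * (h * (a : G)⁻¹ * h⁻¹)) * h * b := by group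
          _ = (a : G)⁻¹ * (b * (h * (b : G)⁻¹ * h⁻¹)) * h * b := by rw [hab']
          _ = _ := by group)))
    obtain ⟨a, ha⟩ := Finite.injective_iff_surjective.1 hf ⟨m, hm⟩
    have ha' : (a : G) * (h * (a : G)⁻¹ * h⁻¹) = m := congrArg Subtype.val ha
    rw [← ha', Subgroup.mem_centralizer_singleton_iff] at hg
    have h1 := hcent ((a : G)⁻¹ * x * a) (by simpa using ‹M.Normal›.conj_mem x hx (a : G)⁻¹) (by
      calc h * ((a : G)⁻¹ * x * a) = (a : G)⁻¹ * ((a : G) * (h * (a : G)⁻¹ * h⁻¹) * h * x) * a := by group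
        _ = (a : G)⁻¹ * (x * ((a : G) * (h * (a : G)⁻¹ * h⁻¹) * h)) * a := by rw [hg]
        _ = _ := by group)
    apply hx1
    calc x = (a : G) * ((a : G)⁻¹ * x * a) * (a : G)⁻¹ := by group
      _ = 1 := by rw [h1]; group

end Cfsg.Agent.S4113
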