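import Cfsg.Statements.S4115
import Cfsg.Agent.S0877
import Cfsg.Agent.Lib.Core.FrobeniusConj
import Cfsg.Agent.Lib.Core.Coprime
import Cfsg.Agent.Lib.Transfer.Conj

set_option autoImplicit false
universe u
open Cfsg

namespace Cfsg.Agent.S4115

open scoped Pointwise
open Subgroup

section

variable {G : Type*} [Group G] [Finite G] {H : Subgroup G} (hTI : Cfsg.IsTISubset (H : Set G))
  (hHall : (Nat.card H).Coprime (H.subgroupOf (Subgroup.normalizer (H : Set G))).index)

include hTI in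
theorem mem_norm {g x : G} (hx : x ∈ H) (hx1 : x ≠ 1) (hgx : g * x * g⁻¹ ∈ H) :
    g ∈ Subgroup.normalizer (H : Set G) := by
  by_contra hg
  exact hx1 (hTI g hg x hx hgx)

include hTI in
theorem centralizer_le_norm {g x : G} (hx : x ∈ H) (hx1 : x ≠ 1) (hgx : g * x = x * g) :
    g ∈ Subgroup.normalizer (H : Set G) :=
  mem_norm hTI hx hx1 (by rw [hgx, mul_inv_cancel_right]; exact hx)

include hHall in
theorem mem_of_orderOf_dvd {g : G} (hg : g ∈ Subgroup.normalizer (H : Set G)) (ho : orderOf g ∣ Nat.card H) :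
    g ∈ H := by
  set N := Subgroup.normalizer (H : Set G)
  haveI : (H.subgroupOf N).Normal := normal_subgroupOf_of_le_normalizer le_rfl
  have h1 : orderOf (QuotientGroup.mk' (H.subgroupOf N) ⟨g, hg⟩) ∣ Nat.card H :=
    (orderOf_map_dvd _ _).trans (by rwa [Subgroup.orderOf_mk])
  have h2 : orderOf (QuotientGroup.mk' (H.subgroupOf N) ⟨g, hg⟩) ∣ (H.subgroupOf N).index := by
    rw [index_eq_card]; exact orderOf_dvd_natCard _
  exact mem_subgroupOf.1 ((QuotientGroup.eq_one_iff (⟨g, hg⟩ : N)).1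
    (orderOf_eq_one_iff.1 (Nat.eq_one_of_dvd_coprimes hHall h1 h2)))

include hTI hHall in
theorem hall_G : (Nat.card H).Coprime H.index := by
  refine Nat.coprime_of_dvd fun p hp hpH hpi => ?_
  haveI := Fact.mk hp
  set N := Subgroup.normalizer (H : Set G)
  obtain ⟨P, -, hPH, hPp, hPi⟩ := CfsgLib.Transfer.exists_sylow_of_le (p := p) (bot_le : (⊥ : Subgroup G) ≤ H)
    IsPGroup.of_bot
  have hPne : P ≠ ⊥ := by
    rintro rfl
    rw [relIndex_bot_left] at hPi
    exact hPi hpH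
  have hN : ¬ p ∣ P.relIndex N := by
    rw [← relIndex_mul_relIndex P H N hPH le_normalizer, hp.dvd_mul]
    rintro (h | h)
    · exact hPi h
    · exact hp.one_lt.ne' (Nat.eq_one_of_dvd_coprimes hHall hpH h)
  obtain ⟨S, hS⟩ := hPp.exists_le_sylow
  have hSP : (S : Subgroup G) = P := by
    by_contra hne
    have hlt : P < (S : Subgroup G) := lt_of_le_of_ne hS (Ne.symm hne)
    set R := (S : Subgroup G) ⊓ Subgroup.normalizer (P : Set G)
    have hR := CfsgLib.Transfer.lt_inf_normalizer S.2 hlt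
    obtain ⟨a, ha, ha1⟩ := (Subgroup.ne_bot_iff_exists_ne_one.1 hPne |> fun ⟨a, h⟩ => (⟨a.1, a.2, fun e => h (Subtype.ext e)⟩ : ∃ a, a ∈ P ∧ a ≠ 1))
    have hRN : R ≤ N := fun g hg => mem_norm hTI (hPH ha) ha1 (hPH ((mem_normalizer_iff.1 hg.2 a).1 ha))
    obtain ⟨n, -, hn⟩ := CfsgLib.Transfer.exists_conj_le hPp hN hRN (S.2.to_le inf_le_left)
    have h2 : Nat.card R ≤ Nat.card P := by
      refine Nat.card_le_card_of_injective (fun r => (⟨n⁻¹ * r.1 * n, hn r r.2⟩ : P)) fun r s h => Subtype.ext ?_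
      simpa using congrArg Subtype.val h
    exact absurd h2 (not_le_of_gt (CfsgLib.Transfer.card_lt_of_lt hR))
  exact S.not_dvd_index (hSP ▸ hpi.trans (index_dvd_of_le hPH))

theorem commute_complement {K : Subgroup (Subgroup.normalizer (H : Set G))} (hK : K.Normal)
    (hc : K.IsComplement' (H.subgroupOf (Subgroup.normalizer (H : Set G))))
    {k : Subgroup.normalizer (H : Set G)} (hk : k ∈ K) {x : G} (hx : x ∈ H) : (k : G) * x = x * (k : G) := by
  haveI : (H.subgroupOf (Subgroup.normalizer (H : Set G))).Normal := normal_subgroupOf_of_le_normalizer le_rfl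
  have := Subgroup.commute_of_normal_of_disjoint K (H.subgroupOf _) hK inferInstance hc.disjoint k
    ⟨x, le_normalizer hx⟩ hk hx
  exact congrArg Subtype.val this.eq

include hTI hHall in
theorem exists_complement {K : Subgroup (Subgroup.normalizer (H : Set G))} (hK : K.Normal)
    (hc : K.IsComplement' (H.subgroupOf (Subgroup.normalizer (H : Set G)))) :
    ∃ N : Subgroup G, N.Normal ∧ N.IsComplement' H := by
  have hfus : ∀ x ∈ H, ∀ y ∈ H, IsConj x y → ∃ h ∈ H, h * x * h⁻¹ = y := by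
    intro x hx y hy hxy
    rw [isConj_iff] at hxy
    obtain ⟨g, rfl⟩ := hxy
    by_cases hx1 : x = 1
    · exact ⟨1, one_mem _, by simp [hx1]⟩
    have hg := mem_norm hTI hx hx1 hy
    obtain ⟨⟨k, h⟩, hkh, -⟩ := hc.existsUnique ⟨g, hg⟩
    simp only at hkh
    refine ⟨((h : Subgroup.normalizer (H : Set G)) : G), h.2, ?_⟩
    have hg' : g = ((k : Subgroup.normalizer (H : Set G)) : G) * (h : Subgroup.normalizer (H : Set G)) :=
      (congrArg Subtype.val hkh).symm
    have h2 := commute_complement hK hc k.2 (mul_mem (mul_mem h.2 hx) (inv_mem h.2) :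
      ((h : Subgroup.normalizer (H : Set G)) : G) * x * ((h : Subgroup.normalizer (H : Set G)) : G)⁻¹ ∈ H)
    rw [hg', mul_inv_rev]
    rw [mul_assoc ((k : Subgroup.normalizer (H : Set G)) : G), mul_assoc ((k : Subgroup.normalizer (H : Set G)) : G)]
    have h3 := congrArg (· * ((k : Subgroup.normalizer (H : Set G)) : G)⁻¹) h2
    simp only [mul_inv_cancel_right] at h3
    rw [← h3]
    group
  have helem : ∀ (E : Subgroup G) (p : ℕ), p.Prime → Cfsg.IsElementary p E → Nat.card E ∣ Nat.card H →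
      ∃ g : G, E.map (MulAut.conj g).toMonoidHom ≤ H := by
    intro E p hp hE hdvd
    haveI := Fact.mk hp
    by_cases hbot : E = ⊥
    · refine ⟨1, ?_⟩
      rw [hbot, Subgroup.map_bot]
      exact bot_le
    obtain ⟨x, hxc, hxo, k, hk⟩ := hE
    have hz : ∃ z : E, z ∈ center E ∧ z ≠ 1 := by
      by_cases hx1 : x = 1
      · subst hx1
        have hEp : IsPGroup p E := IsPGroup.of_card (n := k) (by
          rw [← hk, zpowers_one_eq_bot, index_bot])
        haveI : Nontrivial E := (nontrivial_iff_ne_bot E).2 hbot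
        haveI := hEp.center_nontrivial
        obtain ⟨z, hz⟩ := exists_ne (1 : center E)
        exact ⟨z, z.2, fun h => hz (Subtype.ext h)⟩
      · exact ⟨x, hxc, hx1⟩
    obtain ⟨z, hzc, hz1⟩ := hz
    obtain ⟨q, hq, hqd⟩ := Nat.exists_prime_and_dvd (mt orderOf_eq_one_iff.1 hz1)
    haveI := Fact.mk hq
    set y : E := z ^ (orderOf z / q)
    have hy : orderOf y = q := orderOf_pow_orderOf_div (orderOf_pos z).ne' hqd
    have hyc : y ∈ center E := pow_mem hzc _
    have hqH : q ∣ Nat.card H := hy ▸ (orderOf_dvd_natCard y).trans hdvd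
    obtain ⟨P, -, hPH, hPp, hPi⟩ := CfsgLib.Transfer.exists_sylow_of_le (p := q) (bot_le : (⊥ : Subgroup G) ≤ H)
      IsPGroup.of_bot
    have hPG : ¬ q ∣ P.relIndex ⊤ := by
      rw [← relIndex_mul_relIndex P H ⊤ hPH le_top, relIndex_top_right, hq.dvd_mul]
      rintro (h | h)
      · exact hPi h
      · exact hq.one_lt.ne' (Nat.eq_one_of_dvd_coprimes (hall_G hTI hHall) hqH h)
    obtain ⟨n, -, hn⟩ := CfsgLib.Transfer.exists_conj_le hPp hPG (le_top : zpowers (y : G) ≤ ⊤)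
      (IsPGroup.of_card (n := 1) (by rw [Nat.card_zpowers, Subgroup.orderOf_coe, hy, pow_one]))
    refine ⟨n⁻¹, ?_⟩
    rintro _ ⟨e, he, rfl⟩
    show n⁻¹ * e * n⁻¹⁻¹ ∈ H
    have hym : n⁻¹ * (y : G) * n ∈ H := hPH (hn _ (mem_zpowers _))
    have hy1 : n⁻¹ * (y : G) * n ≠ 1 := fun h => by
      have h' : (y : G) = 1 := by
        calc (y : G) = n * (n⁻¹ * (y : G) * n) * n⁻¹ := by group
          _ = 1 := by rw [h]; group
      rw [show y = 1 from Subtype.ext h', orderOf_one] at hy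
      exact hq.one_lt.ne hy
    have hec : (e : G) * (y : G) = (y : G) * e := congrArg Subtype.val (mem_center_iff.1 hyc ⟨e, he⟩)
    have hmem := centralizer_le_norm hTI hym hy1 (g := n⁻¹ * e * n⁻¹⁻¹) (by
      rw [inv_inv]
      calc n⁻¹ * e * n * (n⁻¹ * (y : G) * n) = n⁻¹ * (e * (y : G)) * n := by group
        _ = _ := by rw [hec]; group)
    refine mem_of_orderOf_dvd hHall hmem ?_
    refine dvd_trans ?_ hdvd
    rw [show orderOf (n⁻¹ * e * n⁻¹⁻¹) = orderOf e from (MulAut.conj n⁻¹).orderOf_eq e,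
      ← Subgroup.orderOf_mk e he]
    exact orderOf_dvd_natCard _
  obtain ⟨L, hL, hsup, hinf⟩ := Cfsg.Agent.S0877.result H (hall_G hTI hHall) hfus helem
  refine ⟨L, hL, ?_⟩
  haveI := hL
  refine isComplement'_of_disjoint_and_mul_eq_univ (disjoint_iff.2 hinf) ?_
  rw [← normal_mul, hsup, coe_top]

include hTI hHall in
/-- The acting group `H` fixes a Sylow subgroup of the normal complement. -/
theorem exists_invariant (N : Subgroup G) [N.Normal] (hc : N.IsComplement' H) (hH : H ≠ ⊥) (p : ℕ)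
    [Fact p.Prime] : ∃ Q : Sylow p N, H ≤ Subgroup.normalizer ((Q : Subgroup N).map N.subtype : Set G) := by
  have hcop : (Nat.card N).Coprime (Nat.card H) := by
    rw [← hc.index_eq_card]
    exact (hall_G hTI hHall).symm
  have hcz : ∀ h ∈ H, (Nat.card (zpowers h)).Coprime (Nat.card N) := fun h hh =>
    (hcop.symm).coprime_dvd_left (card_dvd_of_le (zpowers_le.2 hh))
  have hN : ∀ A : Subgroup G, A ≤ Subgroup.normalizer (N : Set G) := fun A => by
    rw [normalizer_eq_top_iff.2 inferInstance]; exact le_top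
  haveI : ∀ h : G, IsMulCommutative (zpowers h) := fun h => inferInstance
  have hsol : ∀ h : G, Group.IsSolvable (zpowers h) := fun h => by
    haveI : Group.IsNilpotent (zpowers h) := by open scoped IsMulCommutative in infer_instance
    infer_instance
  let M : Sylow p N → Subgroup H := fun Q => (Subgroup.normalizer ((Q : Subgroup N).map N.subtype : Set G)).subgroupOf H
  -- any two invariant Sylow subgroups of a nontrivial element have the same stabilizer
  have hconst : ∀ (Q Q' : Sylow p N) (h : H), h ≠ 1 → h ∈ M Q → h ∈ M Q' → M Q = M Q' := by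
    intro Q Q' h h1 hQ hQ'
    obtain ⟨c, hcc, rfl⟩ := CfsgLib.Core.invariant_sylow_conj (hN _) (hcz h h.2) (Or.inl (hsol h)) Q Q'
      (zpowers_le.2 hQ) (zpowers_le.2 hQ')
    have hh1 : (h : G) ≠ 1 := fun e => h1 (Subtype.ext e)
    have hcN : (c : G) ∈ Subgroup.normalizer (H : Set G) :=
      centralizer_le_norm hTI h.2 hh1 ((mem_centralizer_iff.1 hcc _ (mem_zpowers _)).symm)
    have hcomm : ∀ x ∈ H, (c : G) * x = x * c := by
      intro x hx
      have h2 : (c : G) * x * (c : G)⁻¹ * x⁻¹ ∈ N ⊓ H := mem_inf.2 ⟨by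
        rw [mul_assoc (c : G), mul_assoc (c : G)]
        exact mul_mem c.2 (Normal.conj_mem inferInstance _ (inv_mem c.2) x),
        mul_mem ((mem_normalizer_iff.1 hcN x).1 hx) (inv_mem hx)⟩
      rw [hc.disjoint.eq_bot, mem_bot, mul_inv_eq_one, mul_inv_eq_iff_eq_mul] at h2
      exact h2
    ext x
    simp only [M, mem_subgroupOf]
    rw [← CfsgLib.Core.sylow_map_conj_smul, ← CfsgLib.Transfer.map_conj_eq_self_iff,
      ← CfsgLib.Transfer.map_conj_eq_self_iff]
    set X := (Q : Subgroup N).map N.subtype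
    have e : (MulAut.conj (c : G) • X).map (MulAut.conj (x : G)).toMonoidHom =
        MulAut.conj (c : G) • X.map (MulAut.conj (x : G)).toMonoidHom := by
      show MulAut.conj (x : G) • MulAut.conj (c : G) • X = MulAut.conj (c : G) • MulAut.conj (x : G) • X
      rw [← mul_smul, ← mul_smul, ← map_mul, ← map_mul, hcomm x x.2]
    rw [e, smul_left_cancel_iff]
  have hex : ∀ h : H, ∃ Q, h ∈ M Q := by
    intro h
    obtain ⟨Q, hQ⟩ := CfsgLib.Core.exists_invariant_sylow (hN _) (hcz h h.2) (Or.inl (hsol h)) p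
    exact ⟨Q, hQ (mem_zpowers _)⟩
  by_contra hcon
  push Not at hcon
  have hproper : ∀ Q, M Q ≠ ⊤ := fun Q h => hcon Q fun x hx =>
    (h ▸ mem_top (⟨x, hx⟩ : H) : (⟨x, hx⟩ : H) ∈ M Q)
  have hFC : ∀ Q, M Q ≠ ⊥ → Cfsg.IsFrobeniusComplement (M Q) := by
    intro Q hne
    refine ⟨hne, hproper Q, fun g hg => ?_⟩
    rw [eq_bot_iff]
    rintro x ⟨hx, hxg⟩
    rw [mem_bot]
    by_contra hx1
    -- the conjugate is the stabilizer of the translated Sylow subgroup
    obtain ⟨y, hy, rfl⟩ := hxg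
    obtain ⟨Q', hQ'⟩ : ∃ Q' : Sylow p N, (Q' : Subgroup N).map N.subtype = MulAut.conj (g : G) • (Q : Subgroup N).map N.subtype := by
      refine ⟨(MulAut.conjNormal (g : G) : MulAut N) • Q, ?_⟩
      ext z
      rw [Subgroup.mem_map, mem_pointwise_smul_iff_inv_smul_mem]
      constructor
      · rintro ⟨w, hw, rfl⟩
        change w ∈ MulAut.conjNormal (g : G) • (Q : Subgroup N) at hw
        obtain ⟨v, hv, rfl⟩ := hw
        refine ⟨v, hv, ?_⟩
        simp [MulAut.conjNormal_apply, mul_assoc]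
      · rintro ⟨v, hv, hvz⟩
        refine ⟨MulAut.conjNormal (g : G) v, ?_, ?_⟩
        · show _ ∈ MulAut.conjNormal (g : G) • (Q : Subgroup N)
          exact ⟨v, hv, rfl⟩
        · have h3 : (v : G) = (g : G)⁻¹ * z * (g : G) := by simpa [mul_assoc] using hvz
          show ((MulAut.conjNormal (g : G) v : N) : G) = z
          rw [MulAut.conjNormal_apply, h3]
          group
    have hgyM : ∀ w ∈ M Q, g * w * g⁻¹ ∈ M Q' := by
      intro w hw
      simp only [M, mem_subgroupOf]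
      rw [← CfsgLib.Transfer.map_conj_eq_self_iff, hQ']
      show MulAut.conj ((g * w * g⁻¹ : H) : G) • MulAut.conj (g : G) • (Q : Subgroup N).map N.subtype = MulAut.conj (g : G) • (Q : Subgroup N).map N.subtype
      rw [← mul_smul, ← map_mul, show ((g * w * g⁻¹ : H) : G) * (g : G) = (g : G) * (w : G) by simp,
        map_mul, mul_smul]
      congr 1
      exact CfsgLib.Transfer.map_conj_eq_self_iff.2 hw
    have hEq : M Q = M Q' := hconst Q Q' _ hx1 hx (hgyM y hy)
    -- so `Q'` is a conjugate of `Q` by an element centralizing `H`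
    set x₀ : H := g * y * g⁻¹ with hx₀
    have hxz : (x₀ : H) ∈ M Q := hx
    obtain ⟨c, hcc, hcQ⟩ := CfsgLib.Core.invariant_sylow_conj (hN _) (hcz (x₀ : G) x₀.2) (Or.inl (hsol _)) Q Q'
      (zpowers_le.2 hxz) (zpowers_le.2 (hgyM y hy))
    have hh1 : (x₀ : G) ≠ 1 := fun e => hx1 (Subtype.ext e)
    have hcN : (c : G) ∈ Subgroup.normalizer (H : Set G) :=
      centralizer_le_norm hTI x₀.2 hh1 ((mem_centralizer_iff.1 hcc _ (mem_zpowers _)).symm)
    have hcomm : Commute (c : G) (g : G) := by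
      have h2 : (c : G) * g * (c : G)⁻¹ * (g : G)⁻¹ ∈ N ⊓ H := mem_inf.2 ⟨by
        rw [mul_assoc (c : G), mul_assoc (c : G)]
        exact mul_mem c.2 (Normal.conj_mem inferInstance _ (inv_mem c.2) _),
        mul_mem ((mem_normalizer_iff.1 hcN _).1 g.2) (inv_mem g.2)⟩
      rw [hc.disjoint.eq_bot, mem_bot, mul_inv_eq_one, mul_inv_eq_iff_eq_mul] at h2
      exact h2
    set X := (Q : Subgroup N).map N.subtype
    have hnorm : (c : G)⁻¹ * g ∈ Subgroup.normalizer (X : Set G) := by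
      rw [← CfsgLib.Transfer.map_conj_eq_self_iff]
      show MulAut.conj ((c : G)⁻¹ * g) • X = X
      have h3 : MulAut.conj (c : G) • X = MulAut.conj (g : G) • X := by
        rw [CfsgLib.Core.sylow_map_conj_smul, hcQ, hQ']
      rw [map_mul, mul_smul, ← h3, ← mul_smul, ← map_mul, inv_mul_cancel, map_one, one_smul]
    apply hg
    show (g : G) ∈ Subgroup.normalizer (X : Set G)
    have hco : (orderOf ((c : G)⁻¹)).Coprime (orderOf (g : G)) := by
      refine Nat.Coprime.coprime_dvd_left ?_ (hcop.coprime_dvd_right ?_)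
      · rw [← Subgroup.orderOf_mk ((c : G)⁻¹) (inv_mem c.2)]; exact orderOf_dvd_natCard _
      · rw [Subgroup.orderOf_coe]; exact orderOf_dvd_natCard _
    obtain ⟨s, t, hst⟩ := hco.isCoprime
    have h4 := zpow_mem hnorm ((orderOf ((c : G)⁻¹) : ℤ) * s)
    rw [hcomm.inv_left.mul_zpow, zpow_mul, zpow_natCast, pow_orderOf_eq_one, one_zpow, one_mul] at h4
    have h5 : (g : G) ^ ((orderOf ((c : G)⁻¹) : ℤ) * s) = g := by
      rw [show (orderOf ((c : G)⁻¹) : ℤ) * s = 1 + (orderOf (g : G) : ℤ) * (-t) by linarith, zpow_add, zpow_one,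
        zpow_mul, zpow_natCast, pow_orderOf_eq_one, one_zpow, mul_one]
    rwa [h5] at h4
  haveI : Nontrivial H := (nontrivial_iff_ne_bot H).2 hH
  obtain ⟨h₀, hh₀⟩ := exists_ne (1 : H)
  obtain ⟨Q₀, hQ₀⟩ := hex h₀
  have hne₀ : M Q₀ ≠ ⊥ := fun h => hh₀ (by rwa [h, mem_bot] at hQ₀)
  have hF₀ := hFC Q₀ hne₀
  have hker : Cfsg.frobeniusKernel (M Q₀) = {1} := by
    refine Set.eq_singleton_iff_unique_mem.2 ⟨Or.inl rfl, fun x hx => ?_⟩
    by_contra hx1
    obtain ⟨Q, hQ⟩ := hex x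
    obtain ⟨a, ha⟩ := CfsgLib.Core.FrobeniusConj.exists_conj_smul_eq (hFC Q fun h => hx1 (by rwa [h, mem_bot] at hQ)) hF₀
    exact (hx.resolve_left hx1) a (ha ▸ hQ)
  haveI := Fintype.ofFinite H
  have hidx := CfsgLib.Frobenius.card_frobeniusKernel hF₀
  rw [hker, Nat.card_unique] at hidx
  exact hproper Q₀ (index_eq_one.1 hidx.symm)

end

open Subgroup in
theorem exists_frob.{w} {G : Type w} [Group G] [Finite G] {H : Subgroup G} (hTI : Cfsg.IsTISubset (H : Set G))
    (hHall : (Nat.card H).Coprime (H.subgroupOf (Subgroup.normalizer (H : Set G))).index) (hn : ¬ H.Normal)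
    (N : Subgroup G) [N.Normal] (hc : N.IsComplement' H) :
    ∃ (F : Type w) (_ : Group F) (_ : Finite F) (C : Subgroup F), Cfsg.IsFrobeniusComplement C ∧ Nonempty (H ≃* C) := by
  have hHne : H ≠ ⊥ := fun h => hn (h ▸ inferInstance)
  have hcop : (Nat.card N).Coprime (Nat.card H) := by
    rw [← hc.index_eq_card]
    exact (hall_G hTI hHall).symm
  set NH := Subgroup.normalizer (H : Set G) with hNH
  obtain ⟨p, hp, Q, hQH, hQN⟩ : ∃ (p : ℕ) (_ : p.Prime) (Q : Sylow p N),
      H ≤ Subgroup.normalizer ((Q : Subgroup N).map N.subtype : Set G) ∧ ¬ (Q : Subgroup N).map N.subtype ≤ NH := by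
    by_contra hcon
    push Not at hcon
    have hd : Nat.card N ∣ Nat.card (N ⊓ NH : Subgroup G) := by
      refine (Nat.factorization_prime_le_iff_dvd Nat.card_pos.ne' Nat.card_pos.ne').1 fun p hp => ?_
      haveI := Fact.mk hp
      obtain ⟨Q, hQ⟩ := exists_invariant hTI hHall N hc hHne p
      refine (hp.pow_dvd_iff_le_factorization Nat.card_pos.ne').1 ?_
      rw [← Q.card_eq_multiplicity, ← card_map_of_injective N.subtype_injective]
      exact card_dvd_of_le (le_inf (map_subtype_le _) (hcon p hp Q hQ))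
    have hle : N ≤ NH := (eq_of_le_of_card_ge inf_le_left (Nat.le_of_dvd Nat.card_pos hd)).ge.trans inf_le_right
    apply hn
    rw [← Subgroup.normalizer_eq_top_iff]
    exact top_le_iff.1 (hc.sup_eq_top.ge.trans (sup_le hle le_normalizer))
  haveI := Fact.mk hp
  set Qs := (Q : Subgroup N).map N.subtype
  set Q₀ := Qs ⊓ NH with hQ₀
  set Q₁ := Qs ⊓ Subgroup.normalizer (Q₀ : Set G) with hQ₁
  have hQsN : Qs ≤ N := map_subtype_le _
  have hQsp : IsPGroup p Qs := Q.2.map _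
  have hlt : Q₀ < Q₁ := CfsgLib.Transfer.lt_inf_normalizer hQsp (lt_of_le_of_ne inf_le_left fun h => hQN (inf_eq_left.1 h))
  have hHQ₀ : H ≤ Subgroup.normalizer (Q₀ : Set G) := fun x hx =>
    CfsgLib.Transfer.normalizer_le_normalizer_inf ⟨hQH hx, le_normalizer (le_normalizer hx)⟩
  have hHQ₁ : H ≤ Subgroup.normalizer (Q₁ : Set G) := fun x hx =>
    CfsgLib.Transfer.normalizer_le_normalizer_inf ⟨hQH hx, le_normalizer (hHQ₀ hx)⟩
  set W := H ⊔ Q₁ with hW
  have hWN : W ≤ Subgroup.normalizer (Q₀ : Set G) := sup_le hHQ₀ inf_le_right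
  haveI : (Q₀.subgroupOf W).Normal := normal_subgroupOf_of_le_normalizer hWN
  set π := QuotientGroup.mk' (Q₀.subgroupOf W)
  set C := (H.subgroupOf W).map π with hC
  have hd : ∀ x, x ∈ N → x ∈ H → x = 1 := fun x hx hxH => mem_bot.1 (hc.disjoint.le_bot ⟨hx, hxH⟩)
  have hQ₀N : Q₀ ≤ N := inf_le_left.trans hQsN
  refine ⟨W ⧸ Q₀.subgroupOf W, inferInstance, inferInstance, C, ⟨?_, ?_, ?_⟩, ?_⟩
  · intro h
    rw [hC, Subgroup.map_eq_bot_iff, QuotientGroup.ker_mk'] at h
    refine hHne ((eq_bot_iff_forall _).2 fun x hx => hd x (hQ₀N ?_) hx)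
    exact h (show (⟨x, mem_sup_left hx⟩ : W) ∈ H.subgroupOf W from hx)
  · intro h
    refine hlt.not_ge fun x hx => ?_
    obtain ⟨⟨y, hyW⟩, hy, hyx⟩ := (h ▸ mem_top _ : π ⟨x, mem_sup_right hx⟩ ∈ C)
    have h1 : y⁻¹ * x ∈ Q₀ := (QuotientGroup.eq (s := Q₀.subgroupOf W)).1 hyx
    have h2 : y ∈ N := by
      have := mul_mem (hQsN hx.1) (inv_mem (hQ₀N h1))
      simpa using this
    have hy1 := hd y h2 hy
    simpa [hy1] using h1
  · intro g hg
    rw [eq_bot_iff]
    intro z hz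
    obtain ⟨⟨g, hgW⟩, rfl⟩ := QuotientGroup.mk'_surjective _ g
    obtain ⟨⟨⟨h₂, hh₂W⟩, hh₂, rfl⟩, hz2⟩ := hz
    have hz2' := (Subgroup.mem_pointwise_smul_iff_inv_smul_mem).1 hz2
    obtain ⟨⟨h₁, hh₁W⟩, hh₁, he⟩ := hz2'
    change h₁ ∈ H at hh₁
    change h₂ ∈ H at hh₂
    have he' : π (⟨g, hgW⟩ * ⟨h₁, hh₁W⟩ * ⟨g, hgW⟩⁻¹) = π ⟨h₂, hh₂W⟩ := by
      rw [map_mul, map_mul, map_inv, he, MulAut.smul_def, ← map_inv MulAut.conj, MulAut.conj_apply, inv_inv]
      show π ⟨g, hgW⟩ * ((π ⟨g, hgW⟩)⁻¹ * π ⟨h₂, hh₂W⟩ * π ⟨g, hgW⟩) * (π ⟨g, hgW⟩)⁻¹ = π ⟨h₂, hh₂W⟩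
      group
    obtain ⟨q, hq, h, hh, hgq⟩ := (CfsgLib.Core.mem_sup_iff_mul' hHQ₁).1 (show g ∈ H ⊔ Q₁ from hgW)
    have hqQ₀ : q ∉ Q₀ := fun hq' => hg ⟨⟨h, mem_sup_left hh⟩, hh, QuotientGroup.eq.2 (by
      show h⁻¹ * g ∈ Q₀
      rw [hgq, ← mul_assoc]
      exact (mem_normalizer_iff''.1 (hHQ₀ hh) q).1 hq')⟩
    set h₃ := h * h₁ * h⁻¹ with hh₃
    have hh₃H : h₃ ∈ H := mul_mem (mul_mem hh hh₁) (inv_mem hh)
    have hqW : q ∈ W := mem_sup_right hq
    have hh₃W : h₃ ∈ W := mem_sup_left hh₃H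
    have h4 : π (⟨q, hqW⟩ * ⟨h₃, hh₃W⟩ * ⟨q, hqW⟩⁻¹) = π ⟨h₂, hh₂W⟩ := by
      rw [← he']
      congr 1
      refine Subtype.ext ?_
      show q * h₃ * q⁻¹ = g * h₁ * g⁻¹
      rw [hgq, hh₃]
      group
    have h5 : (q * h₃ * q⁻¹)⁻¹ * h₂ ∈ Q₀ := (QuotientGroup.eq (s := Q₀.subgroupOf W)).1 h4
    have hqN : q ∈ N := hQsN hq.1
    have h23 : h₃⁻¹ * h₂ = 1 := by
      refine hd _ ?_ (mul_mem (inv_mem hh₃H) hh₂)
      have h6 : h₃⁻¹ * h₂ = (h₃⁻¹ * q * h₃) * (q⁻¹ * ((q * h₃⁻¹ * q⁻¹) * h₂)) := by group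
      rw [h6]
      refine mul_mem ?_ (mul_mem (inv_mem hqN) ?_)
      · have := Subgroup.Normal.conj_mem (inferInstance : N.Normal) _ hqN h₃⁻¹
        simpa using this
      · have := hQ₀N h5
        simpa [mul_assoc] using this
    rw [inv_mul_eq_one] at h23
    rw [mem_bot]
    by_cases h31 : h₃ = 1
    · have : (⟨h₂, hh₂W⟩ : W) = 1 := Subtype.ext (h23 ▸ h31)
      rw [this, map_one]
    exfalso
    have hcm : Commute (π ⟨q, hqW⟩) (π ⟨h₃, hh₃W⟩) := by
      rw [map_mul, map_mul, map_inv, mul_inv_eq_iff_eq_mul] at h4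
      show π ⟨q, hqW⟩ * π ⟨h₃, hh₃W⟩ = π ⟨h₃, hh₃W⟩ * π ⟨q, hqW⟩
      rw [h4]
      subst h23
      rfl
    obtain ⟨n, hn, hqn⟩ := CfsgLib.Core.exists_centralizing_in_coset (A := zpowers h₃) (N := Q₀) (k := q)
      (zpowers_le.2 (hHQ₀ hh₃H))
      ((hcop.symm.coprime_dvd_left (card_dvd_of_le (zpowers_le.2 hh₃H))).coprime_dvd_right (card_dvd_of_le hQ₀N))
      (Or.inr (by haveI := (hQsp.to_le (inf_le_left : Q₀ ≤ Qs)).isNilpotent; infer_instance))
      (fun a ha => by
        obtain ⟨i, rfl⟩ := mem_zpowers_iff.1 ha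
        have h7 : π ((⟨h₃, hh₃W⟩ : W) ^ i * ⟨q, hqW⟩ * ((⟨h₃, hh₃W⟩ : W) ^ i)⁻¹) = π ⟨q, hqW⟩ := by
          rw [map_mul, map_mul, map_inv, map_zpow, ← (hcm.zpow_right i).eq, mul_inv_cancel_right]
        have h8 := (QuotientGroup.eq (s := Q₀.subgroupOf W)).1 h7.symm
        simpa [Subgroup.mem_subgroupOf] using h8)
    have hmem : q * n ∈ NH := centralizer_le_norm hTI hh₃H h31 ((mem_centralizer_iff.1 hqn _ (mem_zpowers _)).symm)
    have hqNH : q ∈ NH := by
      have := mul_mem hmem (inv_mem hn.2)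
      rwa [mul_inv_cancel_right] at this
    exact hqQ₀ ⟨hq.1, hqNH⟩
  · refine ⟨MulEquiv.ofBijective ((π.comp (inclusion (le_sup_left : H ≤ W))).codRestrict C
      fun x => mem_map_of_mem π (show inclusion (le_sup_left : H ≤ W) x ∈ H.subgroupOf W from x.2)) ⟨?_, ?_⟩⟩
    · refine (injective_iff_map_eq_one _).2 fun x hx => ?_
      have h1 : π (inclusion (le_sup_left : H ≤ W) x) = 1 := congrArg Subtype.val hx
      exact Subtype.ext (hd x (hQ₀N ((QuotientGroup.eq_one_iff (N := Q₀.subgroupOf W) (inclusion (le_sup_left : H ≤ W) x)).1 h1)) x.2)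
    · rintro ⟨_, x, hx, rfl⟩
      exact ⟨⟨x, hx⟩, rfl⟩


/-- Let G be a finite group and H a subgroup that meets each of its conjugates by elements outside N_G(H) trivially and whose order is coprime to its index in N_G(H). Then H has a normal complement in N_G(H) if and only if H has a normal complement in G. Moreover, if H is not normal in G and has a normal complement in N_G(H), then H is isomorphic to a Frobenius complement of some finite Frobenius group. -/
theorem result {G : Type u} [Group G] [Finite G] (H : Subgroup G)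
    (hTI : Cfsg.IsTISubset (H : Set G)) (hHall : (Nat.card H).Coprime (H.subgroupOf (Subgroup.normalizer (H : Set G))).index) :
    ((∃ K : Subgroup (Subgroup.normalizer (H : Set G)), K.Normal ∧ K.IsComplement' (H.subgroupOf (Subgroup.normalizer (H : Set G)))) ↔
      (∃ N : Subgroup G, N.Normal ∧ N.IsComplement' H)) ∧
    (¬ H.Normal → (∃ K : Subgroup (Subgroup.normalizer (H : Set G)), K.Normal ∧ K.IsComplement' (H.subgroupOf (Subgroup.normalizer (H : Set G)))) →
      ∃ (F : Type u) (_ : Group F) (_ : Finite F) (C : Subgroup F), Cfsg.IsFrobeniusComplement C ∧ Nonempty (H ≃* C)) := by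
  refine ⟨⟨fun ⟨K, hK, hc⟩ => exists_complement hTI hHall hK hc, ?_⟩, fun hn ⟨K, hK, hc⟩ => ?_⟩
  · rintro ⟨N, hN, hc⟩
    set NH := Subgroup.normalizer (H : Set G)
    refine ⟨N.subgroupOf NH, inferInstance, ?_⟩
    refine Subgroup.isComplement'_of_disjoint_and_mul_eq_univ ?_ ?_
    · rw [disjoint_iff, eq_bot_iff]
      rintro x ⟨hx, hxH⟩
      rw [Subgroup.mem_bot]
      exact Subtype.ext (Subgroup.mem_bot.1 (hc.disjoint.le_bot ⟨hx, hxH⟩))
    · refine Set.eq_univ_of_forall fun g => ?_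
      obtain ⟨⟨n, h⟩, hnh, -⟩ := hc.existsUnique (g : G)
      simp only at hnh
      have hh : (h : G) ∈ NH := Subgroup.le_normalizer h.2
      refine ⟨⟨n, ?_⟩, ?_, ⟨h, hh⟩, h.2, Subtype.ext hnh⟩
      · rw [show (n : G) = (g : G) * (h : G)⁻¹ by rw [← hnh, mul_inv_cancel_right]]
        exact mul_mem g.2 (inv_mem hh)
      · exact n.2
  · obtain ⟨N, hN, hNc⟩ := exists_complement hTI hHall hK hc
    haveI := hN
    exact exists_frob hTI hHall hn N hNc

end Cfsg.Agent.S4115
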