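import Cfsg.Statements.S4116
import Mathlib

set_option autoImplicit false
open Cfsg

namespace Cfsg.Agent.S4116

variable {G : Type*} [Group G]

theorem mem_cj (H : Subgroup G) (g x : G) :
    x ∈ H.map (MulAut.conj g).toMonoidHom ↔ g⁻¹ * x * g ∈ H := by
  constructor
  · rintro ⟨h, hh, rfl⟩
    simpa [mul_assoc] using hh
  · intro h; exact ⟨_, h, by simp [mul_assoc]⟩

/-- Let G be a finite group with a subgroup H whose order is coprime to its index (a Hall subgroup) and which meets each of its conjugates by elements outside N_G(H) trivially. Then every subgroup of G whose order is divisible only by primes dividing the order of H lies in a conjugate of H. -/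
theorem result {G : Type*} [Group G] [Finite G] (H : Subgroup G)
    (hHall : (Nat.card H).Coprime H.index) (hTI : Cfsg.IsTISubset (H : Set G))
    (K : Subgroup G) (hK : ∀ q : ℕ, q.Prime → q ∣ Nat.card K → q ∣ Nat.card H) :
    ∃ g : G, K ≤ H.map (MulAut.conj g).toMonoidHom := by
  classical
  rcases eq_or_ne K ⊥ with rfl | hK1
  · exact ⟨1, bot_le⟩
  -- a π-element normalizing H lies in H
  have hnorm : ∀ y : G, y ∈ Subgroup.normalizer (H : Set G) → orderOf y ∣ Nat.card K → y ∈ H := by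
    intro y hy hyd
    set NH := Subgroup.normalizer (H : Set G)
    have : (H.subgroupOf NH).Normal := Subgroup.normal_in_normalizer
    have h1 : orderOf (QuotientGroup.mk' (H.subgroupOf NH) ⟨y, hy⟩) ∣ orderOf y := by
      have := orderOf_map_dvd (QuotientGroup.mk' (H.subgroupOf NH)) ⟨y, hy⟩
      rwa [Subgroup.orderOf_mk] at this
    have h2 : orderOf (QuotientGroup.mk' (H.subgroupOf NH) ⟨y, hy⟩) ∣ H.index :=
      (orderOf_dvd_natCard _).trans (Subgroup.relIndex_dvd_index_of_le Subgroup.le_normalizer)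
    have h3 : orderOf (QuotientGroup.mk' (H.subgroupOf NH) ⟨y, hy⟩) = 1 := by
      by_contra h
      obtain ⟨r, hr, hrd⟩ := Nat.exists_prime_and_dvd h
      exact hr.not_dvd_one (hHall ▸ Nat.dvd_gcd (hK r hr (hrd.trans (h1.trans hyd))) (hrd.trans h2))
    rw [orderOf_eq_one_iff] at h3
    exact Subgroup.mem_subgroupOf.1 ((QuotientGroup.eq_one_iff _).1 h3)
  -- TI in conjugate form
  have hTI' : ∀ g₁ g₂ x : G, x ≠ 1 → g₁⁻¹ * x * g₁ ∈ H → g₂⁻¹ * x * g₂ ∈ H → g₁⁻¹ * g₂ ∈ Subgroup.normalizer (H : Set G) := by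
    intro g₁ g₂ x hx1 h1 h2
    by_contra h
    refine hx1 ?_
    have := hTI _ h (g₂⁻¹ * x * g₂) h2 (by
      rw [SetLike.mem_coe]; convert h1 using 1; group)
    calc x = g₂ * (g₂⁻¹ * x * g₂) * g₂⁻¹ := by group
      _ = 1 := by rw [this]; group
  let L : G → Subgroup K := fun g => (H.map (MulAut.conj g).toMonoidHom).subgroupOf K
  have hLmem : ∀ g (x : K), x ∈ L g ↔ g⁻¹ * (x : G) * g ∈ H := fun g x => by
    simp only [L, Subgroup.mem_subgroupOf, mem_cj]
  have hself : ∀ g (k x : K), x ≠ 1 → x ∈ L g → k * x * k⁻¹ ∈ L g → k ∈ L g := by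
    intro g k x hx1 hx hkx
    rw [hLmem] at hx hkx ⊢
    simp only [Subgroup.coe_mul, InvMemClass.coe_inv] at hkx
    have h := hTI' g ((k : G)⁻¹ * g) (x : G) (fun e => hx1 (Subtype.ext e)) hx (by convert hkx using 1; group)
    have h' : g⁻¹ * (k : G)⁻¹ * g ∈ H := by
      refine hnorm _ (by convert h using 1; group) ?_
      have e : orderOf (g⁻¹ * (k : G)⁻¹ * g) = orderOf (k : G) := by
        rw [← orderOf_inv (k : G)]
        have := orderOf_injective (MulAut.conj g⁻¹).toMonoidHom (MulEquiv.injective _) (k : G)⁻¹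
        simpa using this
      rw [e, Subgroup.orderOf_coe]; exact orderOf_dvd_natCard k
    have := inv_mem h'
    convert this using 1; group
  have hdisj : ∀ g₁ g₂ (x : K), x ≠ 1 → x ∈ L g₁ → x ∈ L g₂ → L g₁ = L g₂ := by
    intro g₁ g₂ x hx1 h1 h2
    rw [hLmem] at h1 h2
    have h := hTI' g₁ g₂ (x : G) (fun e => hx1 (Subtype.ext e)) h1 h2
    ext y
    rw [hLmem, hLmem, Subgroup.mem_normalizer_iff.1 h (g₂⁻¹ * (y : G) * g₂),
      show g₁⁻¹ * g₂ * (g₂⁻¹ * (y : G) * g₂) * (g₁⁻¹ * g₂)⁻¹ = g₁⁻¹ * (y : G) * g₁ by group]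
  -- every prime element lies in a conjugate of H
  have hcov : ∀ q, q.Prime → q ∣ Nat.card K → ∃ g, ∃ x : K, x ≠ 1 ∧ x ∈ L g ∧ orderOf x = q := by
    intro q hq hqK
    have := Fact.mk hq
    obtain ⟨x, hx⟩ := exists_prime_orderOf_dvd_card' (G := K) q hqK
    have hnd : ¬ q ∣ H.index := fun h => hq.not_dvd_one (hHall ▸ Nat.dvd_gcd (hK q hq hqK) h)
    obtain ⟨S⟩ := (inferInstance : Nonempty (Sylow q H))
    let SG : Sylow q G := (S.isPGroup'.map H.subtype).toSylow (by
      rw [Subgroup.index_map_subtype]; exact fun h => (hq.dvd_mul.1 h).elim S.not_dvd_index hnd)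
    obtain ⟨R, hR⟩ := (IsPGroup.of_card (n := 1) (by rw [Nat.card_zpowers, pow_one, Subgroup.orderOf_coe, hx]) : IsPGroup q (Subgroup.zpowers (x : G))).exists_le_sylow
    obtain ⟨g, rfl⟩ := MulAction.exists_smul_eq G SG R
    have hmem := hR (Subgroup.mem_zpowers _)
    rw [Sylow.smul_def, Sylow.pointwise_smul_def, Subgroup.mem_pointwise_smul_iff_inv_smul_mem, ← map_inv, MulAut.smul_def, MulAut.conj_apply, inv_inv] at hmem
    exact ⟨g, x, fun e => by rw [e, orderOf_one] at hx; exact hq.ne_one hx.symm,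
      (hLmem g x).2 (Subgroup.map_subtype_le _ hmem), hx⟩
  -- each L g ≠ ⊥ contains a full Sylow subgroup for each of its primes
  have hfull : ∀ g q, q.Prime → q ∣ Nat.card (L g) → ¬ q ∣ (L g).index := by
    intro g q hq hqL
    have := Fact.mk hq
    obtain ⟨x, hx⟩ := exists_prime_orderOf_dvd_card' (G := L g) q hqL
    obtain ⟨Q, hQ⟩ := (IsPGroup.of_card (n := 1) (by rw [Nat.card_zpowers, pow_one, Subgroup.orderOf_coe, hx]) : IsPGroup q (Subgroup.zpowers (x : K))).exists_le_sylow
    have hxQ : (x : K) ∈ (Q : Subgroup K) := hQ (Subgroup.mem_zpowers _)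
    have hQL : (Q : Subgroup K) ≤ L g := by
      set D := (L g).subgroupOf (Q : Subgroup K)
      have hnil : Group.IsNilpotent (Q : Subgroup K) := Q.isPGroup'.isNilpotent
      by_contra hne
      have hlt : D < ⊤ := by rwa [lt_top_iff_ne_top, Ne, Subgroup.subgroupOf_eq_top]
      obtain ⟨k, hk, hkD⟩ := SetLike.exists_of_lt (Group.normalizerCondition_of_isNilpotent D hlt)
      apply hkD
      have h1 := (Subgroup.mem_normalizer_iff.1 hk ⟨_, hxQ⟩).1 x.2
      exact hself g (k : K) (x : K) (fun e => by rw [← Subgroup.orderOf_coe, e, orderOf_one] at hx; exact hq.ne_one hx.symm) x.2 h1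
    intro h
    exact Q.not_dvd_index (h.trans (Subgroup.index_dvd_of_le hQL))
  obtain ⟨q₀, hq₀, hq₀d⟩ := Nat.exists_prime_and_dvd (fun e => hK1 (Subgroup.card_eq_one.1 e))
  obtain ⟨g₀, x₀, hx₀, hx₀L, -⟩ := hcov q₀ hq₀ hq₀d
  -- counting: all nontrivial L g are conjugate to L g₀
  have hconj : ∀ g (x : K), x ≠ 1 → x ∈ L g → ∃ k : K, Nat.card (L g) = Nat.card (L g₀) ∧ k * x * k⁻¹ ∈ L g₀ := by
    intro g₁ x hx1 hx
    by_contra! hno
    let E : G → Type _ := fun g => (K ⧸ L g) × {y : L g // y ≠ 1}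
    let f : E g₀ ⊕ E g₁ → {y : K // y ≠ 1} :=
      Sum.elim (fun a => ⟨a.1.out * a.2.1 * a.1.out⁻¹, fun e => a.2.2 (Subtype.ext (by simpa using e))⟩)
        (fun a => ⟨a.1.out * a.2.1 * a.1.out⁻¹, fun e => a.2.2 (Subtype.ext (by simpa using e))⟩)
    have hone : ∀ g (a b : E g), a.1.out * (a.2.1 : K) * a.1.out⁻¹ = b.1.out * (b.2.1 : K) * b.1.out⁻¹ → a = b := by
      intro g a b h
      have hk : b.1.out⁻¹ * a.1.out ∈ L g := by
        refine hself g _ (a.2.1 : K) (fun e => a.2.2 (Subtype.ext e)) a.2.1.2 ?_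
        have e : b.1.out⁻¹ * a.1.out * (a.2.1 : K) * (b.1.out⁻¹ * a.1.out)⁻¹ = (b.2.1 : K) := by
          calc _ = b.1.out⁻¹ * (a.1.out * (a.2.1 : K) * a.1.out⁻¹) * b.1.out := by group
            _ = _ := by rw [h]; group
        rw [e]; exact b.2.1.2
      have h1 : a.1 = b.1 := by
        rw [← a.1.out_eq, ← b.1.out_eq]
        exact (QuotientGroup.eq.2 hk).symm
      rw [h1] at h
      exact Prod.ext h1 (Subtype.ext (Subtype.ext (by simpa using h)))
    have hcross : ∀ (a : E g₀) (b : E g₁), a.1.out * (a.2.1 : K) * a.1.out⁻¹ ≠ b.1.out * (b.2.1 : K) * b.1.out⁻¹ := by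
      intro a b h
      set k := a.1.out⁻¹ * b.1.out
      have hy : k * (b.2.1 : K) * k⁻¹ ∈ L g₀ := by
        have e : k * (b.2.1 : K) * k⁻¹ = (a.2.1 : K) := by
          calc _ = a.1.out⁻¹ * (b.1.out * (b.2.1 : K) * b.1.out⁻¹) * a.1.out := by simp only [k]; group
            _ = _ := by rw [← h]; group
        rw [e]; exact a.2.1.2
      -- then L g₁ is conjugate to L g₀ by k
      have hmap : ∀ z : K, z ∈ L ((k : G) * g₁) ↔ k⁻¹ * z * k ∈ L g₁ := fun z => by
        rw [hLmem, hLmem]; simp only [Subgroup.coe_mul, InvMemClass.coe_inv]; group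
      have heq : L ((k : G) * g₁) = L g₀ := hdisj _ _ (k * (b.2.1 : K) * k⁻¹)
        (fun e => b.2.2 (Subtype.ext (by simpa using e))) ((hmap _).2 (by simpa [mul_assoc] using b.2.1.2)) hy
      refine hno k ?_ (heq ▸ (hmap _).2 (by simpa [mul_assoc] using hx))
      rw [← heq]
      exact Nat.card_congr
        { toFun := fun z => ⟨k * z * k⁻¹, (hmap _).2 (by simpa [mul_assoc] using z.2)⟩
          invFun := fun z => ⟨k⁻¹ * z * k, (hmap _).1 z.2⟩
          left_inv := fun z => by ext1; simp [mul_assoc]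
          right_inv := fun z => by ext1; simp [mul_assoc] }
    have hf : Function.Injective f := by
      rintro (a | a) (b | b) h
      · exact congrArg Sum.inl (hone _ a b (congrArg (fun z : {y : K // y ≠ 1} => z.1) h))
      · exact absurd (congrArg (fun z : {y : K // y ≠ 1} => z.1) h) (hcross a b)
      · exact absurd (congrArg (fun z : {y : K // y ≠ 1} => z.1) h).symm (hcross b a)
      · exact congrArg Sum.inr (hone _ a b (congrArg (fun z : {y : K // y ≠ 1} => z.1) h))
    have hc := Nat.card_le_card_of_injective f hf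
    have hsub : ∀ (T : Type _) [Finite T] (t : T), Nat.card {y : T // y ≠ t} + 1 = Nat.card T := by
      intro T _ t
      rw [← Nat.card_congr (Equiv.sumCompl fun y : T => y ≠ t), Nat.card_sum]
      congr 1
      have : Unique {y : T // ¬ y ≠ t} := ⟨⟨⟨t, by simp⟩⟩, fun y => Subtype.ext (by simpa using y.2)⟩
      rw [Nat.card_unique]
    have hbig : ∀ g (y : K), y ≠ 1 → y ∈ L g → Nat.card K ≤ 2 * Nat.card (E g) := by
      intro g y hy1 hy
      have h2 : 2 ≤ Nat.card (L g) := by
        have : Nontrivial (L g) := ⟨⟨y, hy⟩, 1, fun e => hy1 (congrArg Subtype.val e)⟩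
        exact Finite.one_lt_card
      have h3 := hsub (L g) 1
      rw [Nat.card_prod, Subgroup.card_eq_card_quotient_mul_card_subgroup (L g)]
      rw [mul_left_comm]
      exact Nat.mul_le_mul_left _ (by omega)
    have h4 := hsub K 1
    rw [Nat.card_sum] at hc
    have := hbig g₀ x₀ hx₀ hx₀L
    have := hbig g₁ x hx1 hx
    omega
  refine ⟨g₀, ?_⟩
  have htop : Nat.card (L g₀) = Nat.card K := by
    refine Nat.eq_of_factorization_eq Nat.card_pos.ne' Nat.card_pos.ne' fun q => ?_
    by_cases hq : q.Prime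
    swap
    · simp [Nat.factorization_eq_zero_of_not_prime _ hq]
    by_cases hqK : q ∣ Nat.card K
    swap
    · rw [Nat.factorization_eq_zero_of_not_dvd hqK,
        Nat.factorization_eq_zero_of_not_dvd fun h => hqK (h.trans (L g₀).card_subgroup_dvd_card)]
    obtain ⟨g, x, hx1, hx, hxo⟩ := hcov q hq hqK
    obtain ⟨k, hcardeq, -⟩ := hconj g x hx1 hx
    have hqL : q ∣ Nat.card (L g₀) := by
      rw [← hcardeq, ← hxo]
      have := orderOf_dvd_natCard (⟨x, hx⟩ : L g)
      rwa [Subgroup.orderOf_mk] at this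
    rw [← (L g₀).card_mul_index, Nat.factorization_mul Nat.card_pos.ne' Subgroup.index_ne_zero_of_finite,
      Finsupp.add_apply, Nat.factorization_eq_zero_of_not_dvd (hfull g₀ q hq hqL), add_zero]
  exact Subgroup.subgroupOf_eq_top.1 (Subgroup.eq_top_of_card_eq _ htop)

end Cfsg.Agent.S4116
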