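import Cfsg.Statements.S4117


set_option autoImplicit false
open Cfsg

namespace Cfsg.Agent.S4117

open Subgroup in
theorem normal_of_le_cyclic.{w} {G : Type w} [Group G] {K Z : Subgroup G} [K.Normal] [IsCyclic K] (hZ : Z ≤ K) :
    Z.Normal := by
  obtain ⟨⟨b, hb⟩, hgen⟩ := ‹IsCyclic K›.exists_zpow_surjective
  refine ⟨fun z hz g => ?_⟩
  obtain ⟨i, hi⟩ := hgen ⟨z, hZ hz⟩
  have hi' : b ^ i = z := congrArg Subtype.val hi
  obtain ⟨k, hk⟩ := hgen ⟨_, Normal.conj_mem inferInstance b hb g⟩
  have hk' : b ^ k = g * b * g⁻¹ := congrArg Subtype.val hk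
  have e : g * z * g⁻¹ = z ^ k := by
    rw [← hi', ← conj_zpow, ← hk', ← zpow_mul, ← zpow_mul, mul_comm]
  rw [e]
  exact zpow_mem hz k

open Subgroup in
open scoped IsMulCommutative in
theorem main.{u, v} {G : Type u} {A : Type v} [Group G] [Finite G] [Group A] [Finite A]
    [MulDistribMulAction A G] [IsZGroup G] (hcop : (Nat.card A).Coprime (Nat.card G)) :
    (Nat.card (MulAction.fixedPoints A G : Set G)).Coprime (Nat.card G / Nat.card (MulAction.fixedPoints A G : Set G)) ∧
    IsCyclic (closure {y : G | ∃ (a : A) (g : G), y = g⁻¹ * a • g}) ∧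
    (closure {y : G | ∃ (a : A) (g : G), y = g⁻¹ * a • g}).Normal ∧
    (closure {y : G | ∃ (a : A) (g : G), y = g⁻¹ * a • g} : Set G) ∩ MulAction.fixedPoints A G = {1} ∧
    closure {y : G | ∃ (a : A) (g : G), y = g⁻¹ * a • g} ⊔ closure (MulAction.fixedPoints A G) = ⊤ := by
  classical
  haveI := Fintype.ofFinite A
  set D := closure {y : G | ∃ (a : A) (g : G), y = g⁻¹ * a • g} with hD
  have hc : ∀ (a : A) (g : G), g⁻¹ * a • g ∈ D := fun a g => subset_closure ⟨a, g, rfl⟩
  -- the cyclic group containing `D`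
  set M := commutator G with hM
  haveI hMcyc : IsCyclic M := IsZGroup.isCyclic_commutator G
  set B := centralizer (M : Set G) with hB
  haveI hBn : B.Normal := inferInstance
  have hDB : D ≤ B := by
    rw [hD, closure_le]
    rintro y ⟨a, g, rfl⟩
    have key : ∀ m ∈ M, g * m * g⁻¹ = (a • g) * m * (a • g)⁻¹ := by
      obtain ⟨⟨m₀, hm₀⟩, hgen⟩ := hMcyc.exists_zpow_surjective
      have hpow : ∀ m ∈ M, ∃ i : ℤ, m₀ ^ i = m := fun m hm => by
        obtain ⟨i, hi⟩ := hgen ⟨m, hm⟩
        exact ⟨i, congrArg Subtype.val hi⟩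
      obtain ⟨k, hk⟩ := hpow _ (Normal.conj_mem (commutator_normal ⊤ ⊤) m₀ hm₀ g)
      have hgm : ∀ m ∈ M, g * m * g⁻¹ = m ^ k := by
        intro m hm
        obtain ⟨i, rfl⟩ := hpow m hm
        rw [← conj_zpow, ← hk, ← zpow_mul, ← zpow_mul, mul_comm]
      intro m hm
      have hm' : a⁻¹ • m ∈ M := by
        have h1 : M.map (MulDistribMulAction.toMonoidHom G a⁻¹) ≤ M := by
          rw [hM, _root_.commutator_def, Subgroup.map_commutator]
          exact Subgroup.commutator_mono le_top le_top
        exact h1 ⟨m, hm, rfl⟩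
      have h2 := congrArg (a • ·) (hgm _ hm')
      simp only [smul_mul', smul_inv', smul_zpow', smul_inv_smul] at h2
      rw [hgm m hm, h2]
    rw [SetLike.mem_coe, hB, mem_centralizer_iff]
    intro m hm
    have h1 := key m hm
    calc m * (g⁻¹ * a • g) = g⁻¹ * (g * m * g⁻¹) * a • g := by group
      _ = g⁻¹ * a • g * m := by rw [h1]; group
  haveI hBcyc : IsCyclic B := by
    let f : B →* Abelianization G := Abelianization.of.comp B.subtype
    haveI : Group.IsNilpotent (Abelianization G) := CommGroup.isNilpotent (G := Abelianization G)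
    haveI : Group.IsNilpotent B := Subgroup.isNilpotent_of_ker_le_center f (fun b hb => by
      have hbM : (b : G) ∈ M := (QuotientGroup.eq_one_iff _).1 hb
      rw [Subgroup.mem_center_iff]
      intro c
      exact Subtype.ext (mem_centralizer_iff.1 c.2 _ hbM).symm)
    infer_instance
  haveI hDcyc : IsCyclic D := isCyclic_of_injective (Subgroup.inclusion hDB) (inclusion_injective hDB)
  haveI hDn : D.Normal := normal_of_le_cyclic hDB
  haveI hDc : IsMulCommutative D := by
    letI := IsCyclic.commGroup (α := D)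
    exact ⟨⟨mul_comm⟩⟩
  have hDa : ∀ (a : A) (d : G), d ∈ D → a • d ∈ D := by
    intro a d hd
    have h1 := mul_mem hd (hc a d)
    rwa [mul_inv_cancel_left] at h1
  let act : A → D →* D := fun a =>
    { toFun := fun d => ⟨a • (d : G), hDa a _ d.2⟩
      map_one' := Subtype.ext (smul_one a)
      map_mul' := fun x y => Subtype.ext (smul_mul' a _ _) }
  let c : G → A → D := fun g a => ⟨g⁻¹ * a • g, hc a g⟩
  have hcoc : ∀ g a b, c g (a * b) = c g a * act a (c g b) := fun g a b => Subtype.ext (by
    show g⁻¹ * (a * b) • g = g⁻¹ * a • g * a • (g⁻¹ * b • g)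
    rw [smul_mul', smul_inv', mul_smul]; group)
  have hN : (Nat.card D).Coprime (Nat.card A) :=
    (hcop.coprime_dvd_right (card_subgroup_dvd_card D)).symm
  -- norms vanish
  have hnorm : ∀ d : D, ∏ b : A, act b d = 1 := by
    intro d
    have hd : ∀ x (hx : x ∈ D), ∏ b : A, act b ⟨x, hx⟩ = 1 := by
      intro x hx
      induction hx using closure_induction with
      | mem x hx =>
        obtain ⟨a, g, rfl⟩ := hx
        have h1 : ∀ b : A, act b (c g a) = (c g b)⁻¹ * c g (b * a) := fun b => by
          rw [hcoc, inv_mul_cancel_left]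
        rw [show (⟨g⁻¹ * a • g, _⟩ : D) = c g a from rfl, Finset.prod_congr rfl fun b _ => h1 b, Finset.prod_mul_distrib,
          Finset.prod_inv_distrib, Fintype.prod_equiv (Equiv.mulRight a) (fun b => c g (b * a)) (fun b => c g b) fun b => rfl,
          inv_mul_cancel]
      | one => exact Finset.prod_eq_one fun b _ => map_one _
      | mul x y hx hy ihx ihy =>
        rw [show (⟨x * y, _⟩ : D) = ⟨x, hx⟩ * ⟨y, hy⟩ from rfl]
        simp only [map_mul, Finset.prod_mul_distrib, ihx, ihy, one_mul]
      | inv x hx ihx =>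
        rw [show (⟨x⁻¹, _⟩ : D) = ⟨x, hx⟩⁻¹ from rfl]
        simp only [map_inv, Finset.prod_inv_distrib, ihx, inv_one]
    exact hd d.1 d.2
  have hdisj : ∀ d ∈ D, d ∈ MulAction.fixedPoints A G → d = 1 := by
    intro d hd hf
    have h1 := hnorm ⟨d, hd⟩
    rw [Finset.prod_eq_pow_card (b := (⟨d, hd⟩ : D)) fun b _ => Subtype.ext (hf b), Finset.card_univ,
      ← Nat.card_eq_fintype_card] at h1
    exact congrArg Subtype.val ((powCoprime hN).injective (a₁ := (⟨d, hd⟩ : D)) (a₂ := 1) (by
      simp only [powCoprime_apply, one_pow]; exact h1))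
  -- lifting
  have hlift : ∀ g : G, ∃ t ∈ D, g * t ∈ MulAction.fixedPoints A G := by
    intro g
    set s := ∏ b : A, c g b with hs
    have h1 : ∀ a, s = c g a ^ Nat.card A * act a s := by
      intro a
      rw [hs, map_prod, Nat.card_eq_fintype_card, ← Finset.card_univ, ← Finset.prod_const, ← Finset.prod_mul_distrib,
        ← Fintype.prod_equiv (Equiv.mulLeft a) (fun b => c g (a * b)) (fun b => c g b) fun b => rfl]
      exact Finset.prod_congr rfl fun b _ => hcoc g a b
    obtain ⟨t, ht⟩ := (powCoprime hN).surjective s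
    rw [powCoprime_apply] at ht
    refine ⟨t, t.2, fun a => ?_⟩
    have h2 : c g a * act a t = t := (powCoprime hN).injective (by
      simp only [powCoprime_apply]
      rw [mul_pow, ← map_pow, ht, ← h1 a])
    have h3 : g⁻¹ * a • g * a • (t : G) = t := congrArg Subtype.val h2
    show a • (g * (t : G)) = g * t
    rw [smul_mul']
    calc a • g * a • (t : G) = g * (g⁻¹ * a • g * a • (t : G)) := by group
      _ = g * t := by rw [h3]
  let C : Subgroup G :=
    { carrier := MulAction.fixedPoints A G
      one_mem' := fun a => smul_one a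
      mul_mem' := fun {x y} hx hy a => by rw [smul_mul', hx a, hy a]
      inv_mem' := fun {x} hx a => by rw [smul_inv', hx a] }
  have hcompl : D.IsComplement' C := by
    rw [isComplement'_comm]
    refine isComplement'_of_disjoint_and_mul_eq_univ
      (disjoint_iff_inf_le.2 fun x hx => hdisj x hx.2 hx.1) (Set.eq_univ_of_forall fun g => ?_)
    obtain ⟨t, ht, hgt⟩ := hlift g
    exact ⟨g * t, hgt, t⁻¹, inv_mem ht, by group⟩
  refine ⟨?_, hDcyc, hDn, ?_, ?_⟩
  · have hcard := hcompl.card_mul
    rw [show Nat.card (MulAction.fixedPoints A G : Set G) = Nat.card C from rfl, ← hcard,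
      Nat.mul_div_cancel _ Nat.card_pos]
    by_contra hn
    obtain ⟨p, hp, hpC, hpD⟩ := Nat.Prime.not_coprime_iff_dvd.1 hn
    haveI := Fact.mk hp
    obtain ⟨d, hd⟩ := exists_prime_orderOf_dvd_card' p hpD
    obtain ⟨x, hx⟩ := exists_prime_orderOf_dvd_card' p hpC
    have hE : IsPGroup p (zpowers (d : G) ⊔ zpowers (x : G) : Subgroup G) := by
      have hzd : IsPGroup p (zpowers (d : G)) := IsPGroup.of_card (n := 1) (by rw [Nat.card_zpowers, Subgroup.orderOf_coe, hd, pow_one])
      have hzx : IsPGroup p (zpowers (x : G)) := IsPGroup.of_card (n := 1) (by rw [Nat.card_zpowers, Subgroup.orderOf_coe, hx, pow_one])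
      haveI : (zpowers (d : G)).Normal := normal_of_le_cyclic (zpowers_le.2 d.2)
      exact IsPGroup.to_sup_of_normal_left hzd hzx
    haveI := hE.isCyclic_of_isZGroup
    set E := (zpowers (d : G) ⊔ zpowers (x : G) : Subgroup G)
    have hxd : (x : G) ∈ D := by
      letI := IsCyclic.commGroup (α := E)
      obtain ⟨e, he⟩ := IsCyclic.exists_generator (α := E)
      haveI : (zpowers (d : G)).Normal := normal_of_le_cyclic (zpowers_le.2 d.2)
      have hpd : (d : G) ^ p = 1 := by rw [← hd, ← Subgroup.orderOf_coe, pow_orderOf_eq_one]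
      have hpx : (x : G) ^ p = 1 := by rw [← hx, ← Subgroup.orderOf_coe, pow_orderOf_eq_one]
      have he' : (e : G) ∈ zpowers (d : G) ⊔ zpowers (x : G) := e.2
      rw [← SetLike.mem_coe, normal_mul] at he'
      obtain ⟨a, ha, b, hb, hab⟩ := he'
      have hcomm : Commute a b :=
        congrArg Subtype.val (mul_comm (⟨a, mem_sup_left ha⟩ : E) ⟨b, mem_sup_right hb⟩)
      obtain ⟨i, rfl⟩ := mem_zpowers_iff.1 ha
      obtain ⟨j, rfl⟩ := mem_zpowers_iff.1 hb
      have hep : (e : G) ^ p = 1 := by
        simp only at hab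
        rw [← hab, hcomm.mul_pow, ← zpow_natCast, ← zpow_natCast, ← zpow_mul, ← zpow_mul, mul_comm i,
          mul_comm j, zpow_mul, zpow_mul, zpow_natCast, zpow_natCast, hpd, hpx, one_zpow, one_zpow, mul_one]
      have hcardE : Nat.card E ∣ p := by
        rw [← orderOf_eq_card_of_forall_mem_zpowers he, ← Subgroup.orderOf_coe]
        exact orderOf_dvd_of_pow_eq_one hep
      have hEd : zpowers (d : G) = E := eq_of_le_of_card_ge le_sup_left (by
        rw [Nat.card_zpowers, Subgroup.orderOf_coe, hd]; exact Nat.le_of_dvd hp.pos hcardE)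
      exact (zpowers_le.2 d.2) (hEd.symm ▸ (mem_sup_right (mem_zpowers _) : (x : G) ∈ E))
    have h1 := hdisj _ hxd x.2
    rw [← Subgroup.orderOf_coe, h1, orderOf_one] at hx
    exact hp.ne_one hx.symm
  · ext y
    constructor
    · rintro ⟨h1, h2⟩
      exact hdisj y h1 h2
    · rintro rfl
      exact ⟨one_mem D, fun a => smul_one a⟩
  · rw [show closure (MulAction.fixedPoints A G) = C from closure_eq C]
    exact hcompl.sup_eq_top

/-- Let A be a finite group acting on the finite group G by automorphisms with the orders of A and G coprime, and suppose every Sylow subgroup of G is cyclic. Then the fixed-point subgroup C_G(A) is a Hall subgroup of G (its order is coprime to its index), the subgroup [G, A] generated by the elements g⁻¹·a(g) is cyclic and normal with [G, A] ∩ C_G(A) = 1 and [G, A]·C_G(A) = G. -/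
theorem result {G A : Type*} [Group G] [Finite G] [Group A] [Finite A]
    [MulDistribMulAction A G] (hcop : (Nat.card A).Coprime (Nat.card G))
    (hcyc : ∀ (p : ℕ) [Fact p.Prime] (P : Sylow p G), IsCyclic (P : Subgroup G)) :
    (Nat.card (MulAction.fixedPoints A G : Set G)).Coprime (Nat.card G / Nat.card (MulAction.fixedPoints A G : Set G)) ∧
    IsCyclic (Subgroup.closure {y : G | ∃ (a : A) (g : G), y = g⁻¹ * a • g}) ∧
    (Subgroup.closure {y : G | ∃ (a : A) (g : G), y = g⁻¹ * a • g}).Normal ∧
    (Subgroup.closure {y : G | ∃ (a : A) (g : G), y = g⁻¹ * a • g} : Set G) ∩ MulAction.fixedPoints A G = {1} ∧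
    Subgroup.closure {y : G | ∃ (a : A) (g : G), y = g⁻¹ * a • g} ⊔ Subgroup.closure (MulAction.fixedPoints A G) = ⊤ := by
  haveI : IsZGroup G := ⟨fun p hp P => by haveI := Fact.mk hp; exact hcyc p P⟩
  exact main hcop

end Cfsg.Agent.S4117
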