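import Cfsg.Statements.S4151
import Cfsg.Agent.Lib.Core.UniqueOrderP
import Cfsg.Agent.Lib.LocalEven.Generation
import Cfsg.Agent.Lib.ClassSizes.CyclicSylow
import Cfsg.Agent.Lib.ClassSizes.Kulakoff

set_option autoImplicit false
set_option linter.all false
open Cfsg

namespace Cfsg.Agent.S4151

open Subgroup CfsgLib.Core
open scoped Pointwise commutatorElement

variable {G : Type*} [Group G] [Finite G]

/-- A TI subgroup whose order is coprime to its index in its normalizer is a Hall subgroup. -/
theorem hall_of_ti {H : Subgroup G} (hTI : Cfsg.IsTISubset (H : Set G))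
    (hHall : (Nat.card H).Coprime (H.relIndex (normalizer (H : Set G)))) :
    (Nat.card H).Coprime H.index := by
  refine Nat.coprime_of_dvd fun p hp h1 h2 => ?_
  haveI := Fact.mk hp
  obtain ⟨P⟩ := (inferInstance : Nonempty (Sylow p H))
  have hPne : (P : Subgroup H).map H.subtype ≠ ⊥ := by
    rw [Ne, map_eq_bot_iff_of_injective _ H.subtype_injective]
    exact P.ne_bot_of_dvd_card h1
  have hPcard : Nat.card ((P : Subgroup H).map H.subtype) = p ^ (Nat.card H).factorization p := by
    rw [card_map_of_injective H.subtype_injective, P.card_eq_multiplicity]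
  generalize hP' : (P : Subgroup H).map H.subtype = P' at hPne hPcard
  have hP'H : P' ≤ H := hP' ▸ map_subtype_le _
  obtain ⟨S, hS⟩ := (IsPGroup.of_card hPcard).exists_le_sylow
  have hne : P' ≠ S := by
    intro he
    have hS2 : ¬ p ∣ (S : Subgroup G).index := S.not_dvd_index
    exact hS2 (h2.trans (index_dvd_of_le (he ▸ hP'H)))
  haveI : Group.IsNilpotent (S : Subgroup G) := S.isPGroup'.isNilpotent
  have hlt : P'.subgroupOf (S : Subgroup G) < ⊤ := lt_top_iff_ne_top.2 fun h =>
    hne (le_antisymm hS (subgroupOf_eq_top.1 h))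
  obtain ⟨x, hxN, hxP⟩ := SetLike.exists_of_lt (normalizerCondition_of_isNilpotent _ hlt)
  have hxP' : (x : G) ∉ P' := fun h => hxP (mem_subgroupOf.2 h)
  have hxN' : (x : G) ∈ normalizer (P' : Set G) := by
    rw [mem_normalizer_iff] at hxN ⊢
    intro y
    constructor
    · intro hy
      exact ((hxN ⟨y, hS hy⟩).1 hy)
    · intro hy
      have hyS : y ∈ (S : Subgroup G) := by
        simpa [mul_assoc] using
          (S : Subgroup G).mul_mem ((S : Subgroup G).mul_mem ((S : Subgroup G).inv_mem x.2) (hS hy)) x.2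
      exact ((hxN ⟨y, hyS⟩).2 hy)
  have hxH : (x : G) ∈ normalizer (H : Set G) := by
    by_contra hx
    obtain ⟨⟨y, hy⟩, hy1⟩ := ne_bot_iff_exists_ne_one.1 hPne
    exact hy1 (Subtype.ext (hTI _ hx y (hP'H hy) (hP'H ((mem_normalizer_iff.1 hxN' y).1 hy))))
  have hT : IsPGroup p (P' ⊔ zpowers (x : G) : Subgroup G) :=
    S.isPGroup'.to_le (sup_le hS (zpowers_le.2 x.2))
  obtain ⟨k, hk⟩ := IsPGroup.iff_card.1 hT
  have hd : p ^ k ∣ Nat.card H * H.relIndex (normalizer (H : Set G)) := by
    rw [← hk, ← relIndex_bot_left H, relIndex_mul_relIndex _ _ _ bot_le le_normalizer, relIndex_bot_left]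
    exact card_dvd_of_le (sup_le (hP'H.trans le_normalizer) (zpowers_le.2 hxH))
  have hd' : p ^ k ∣ Nat.card H := by
    refine Nat.Coprime.dvd_of_dvd_mul_right (Nat.Coprime.pow_left k ?_) hd
    exact hHall.coprime_dvd_left h1
  have hk' : k ≤ (Nat.card H).factorization p := (hp.pow_dvd_iff_le_factorization Nat.card_pos.ne').1 hd'
  have heq : P' = P' ⊔ zpowers (x : G) := by
    refine eq_of_le_of_card_ge le_sup_left ?_
    rw [hk, hPcard]
    exact Nat.pow_le_pow_right hp.pos hk'
  exact hxP' (heq.symm.le (mem_sup_right (mem_zpowers _)))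

/-- An operator group centralizing a Sylow `r`-subgroup maps a group with normal `r`-complement into
that complement under commutators. -/
theorem not_dvd_card_commutator {r : ℕ} [hr : Fact r.Prime] {X Q R K : Subgroup G}
    (hXQ : Q ≤ normalizer (X : Set G))
    (hR : R ≤ X) (hRi : ¬ r ∣ R.relIndex X) (hRQ : ∀ a ∈ R, ∀ q ∈ Q, Commute a q)
    (hKX : K ≤ X) (hK : ¬ r ∣ Nat.card K) (hmem : ∀ x ∈ X, ¬ r ∣ orderOf x → x ∈ K) :
    ¬ r ∣ Nat.card (⁅X, Q⁆ : Subgroup G) := by
  have hiff : ∀ x ∈ X, (x ∈ K ↔ ¬ r ∣ orderOf x) := fun x hx =>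
    ⟨fun h hd => hK (hd.trans (K.orderOf_dvd_natCard h)), hmem x hx⟩
  have hinv : ∀ g ∈ normalizer (X : Set G), ∀ k ∈ K, g * k * g⁻¹ ∈ K := fun g hg k hk => by
    refine hmem _ ((mem_normalizer_iff.1 hg k).1 (hKX hk)) ?_
    rw [show g * k * g⁻¹ = MulAut.conj g k from rfl, MulEquiv.orderOf_eq]
    exact (hiff k (hKX hk)).1 hk
  have hXN : X ≤ normalizer (K : Set G) :=
    le_normalizer_iff.2 fun g hg k hk => hinv g (le_normalizer hg) k hk
  have htop : R ⊔ K = X := by
    refine le_antisymm (sup_le hR hKX) ?_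
    rw [← subgroupOf_eq_top]
    refine eq_top_of_forall_exists_sylow_le _ fun q hq _ => ?_
    haveI := Fact.mk hq
    by_cases hqr : q = r
    · subst hqr
      obtain ⟨P⟩ := (inferInstance : Nonempty (Sylow q X))
      by_cases hex : IsPGroup q R
      · refine ⟨(hex.of_equiv (subgroupOfEquivOfLe hR).symm).toSylow hRi, ?_⟩
        intro y hy
        exact mem_subgroupOf.2 (mem_sup_left hy)
      · obtain ⟨T, hT⟩ : ∃ T : Sylow q R, True := ⟨Classical.arbitrary _, trivial⟩
        refine ⟨(((T : Sylow q R).isPGroup'.map R.subtype).of_equiv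
          (subgroupOfEquivOfLe ((map_subtype_le _).trans hR)).symm).toSylow ?_, ?_⟩
        · show ¬ q ∣ ((T : Subgroup R).map R.subtype).relIndex X
          rw [← relIndex_mul_relIndex _ R X (map_subtype_le _) hR]
          refine hq.not_dvd_mul ?_ hRi
          rw [relIndex, subgroupOf, comap_map_eq_self_of_injective (Subgroup.subtype_injective _)]
          exact T.not_dvd_index
        · intro y hy
          exact mem_subgroupOf.2 (mem_sup_left (map_subtype_le _ hy))
    · obtain ⟨P⟩ := (inferInstance : Nonempty (Sylow q X))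
      refine ⟨P, fun y hy => mem_subgroupOf.2 (mem_sup_right (hmem _ y.2 fun hd => hqr ?_))⟩
      obtain ⟨j, hj⟩ := IsPGroup.iff_orderOf.1 P.isPGroup' ⟨y, hy⟩
      rw [Subgroup.orderOf_mk, ← Subgroup.orderOf_coe] at hj
      rw [hj] at hd
      exact ((Nat.prime_dvd_prime_iff_eq hr.out hq).1 (hr.out.dvd_of_dvd_pow hd)).symm
  refine fun hd => hK (hd.trans (card_dvd_of_le ?_))
  rw [commutator_le]
  intro x hx q hq
  rw [← htop, mem_sup_iff_mul (hR.trans hXN)] at hx
  obtain ⟨a, ha, k, hk, rfl⟩ := hx
  have h1 : ⁅a * k, q⁆ = a * (k * (q * k⁻¹ * q⁻¹)) * a⁻¹ := by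
    have h2 : a⁻¹ * q⁻¹ = q⁻¹ * a⁻¹ := ((hRQ a ha q hq).inv_inv).eq
    simp only [commutatorElement_def, mul_inv_rev, mul_assoc]
    rw [h2]
  rw [h1]
  exact hinv a (le_normalizer (hR ha)) _ (K.mul_mem hk (hinv q (hXQ hq) _ (K.inv_mem hk)))

/-- Let G be a finite group and H a non-normal subgroup meeting each of its conjugates by elements outside N_G(H) trivially, with the order of H coprime to its index in N_G(H), such that G is π-separable for π the set of primes dividing the order of H (G has a chain of normal subgroups from 1 to G each of whose factors has order divisible only by primes dividing the order of H or coprime to it). Suppose a Sylow 2-subgroup of H is abelian and Q is a complement of H in N_G(H). Then C_H(Q), the subgroup of elements of H commuting with Q, has order coprime to its index in G and has a normal complement in G. -/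
theorem result {G : Type*} [Group G] [Finite G] (H : Subgroup G)
    (hTI : Cfsg.IsTISubset (H : Set G)) (hnn : ¬ H.Normal)
    (hHall : (Nat.card H).Coprime (H.subgroupOf (Subgroup.normalizer (H : Set G))).index)
    (hsep : ∃ (n : ℕ) (M : Fin (n + 1) → Subgroup G), M 0 = ⊥ ∧ M (Fin.last n) = ⊤ ∧ Monotone M ∧ (∀ i, (M i).Normal) ∧
      ∀ i : Fin n, (∀ q : ℕ, q.Prime → q ∣ (M i.castSucc).relIndex (M i.succ) → q ∣ Nat.card H) ∨
        ((M i.castSucc).relIndex (M i.succ)).Coprime (Nat.card H))
    (h2 : ∀ P : Sylow 2 H, IsMulCommutative (P : Subgroup H))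
    (Q : Subgroup G) (hQ : Q ≤ Subgroup.normalizer (H : Set G)) (hQH : Q ⊓ H = ⊥) (hQH' : Q ⊔ H = Subgroup.normalizer (H : Set G)) :
    (Nat.card ↥(H ⊓ Subgroup.centralizer (Q : Set G))).Coprime (H ⊓ Subgroup.centralizer (Q : Set G)).index ∧
    ∃ N : Subgroup G, N.Normal ∧ N.IsComplement' (H ⊓ Subgroup.centralizer (Q : Set G)) := by
  classical
  have hH : (Nat.card H).Coprime H.index := hall_of_ti hTI hHall
  have hHne : H ≠ ⊥ := fun h => hnn (h ▸ inferInstance)
  -- the largest normal subgroup of order prime to `|H|`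
  obtain ⟨O, ⟨hOn, hOc⟩, hmax⟩ := WellFounded.has_min (wellFounded_gt (α := Subgroup G))
    {N : Subgroup G | N.Normal ∧ (Nat.card N).Coprime (Nat.card H)} ⟨⊥, inferInstance, by simp⟩
  haveI := hOn
  have hON : ∀ X : Subgroup G, X ≤ normalizer (O : Set G) := fun X => by rw [normalizer_eq_top]; exact le_top
  have hOmax : ∀ N : Subgroup G, N.Normal → (Nat.card N).Coprime (Nat.card H) → N ≤ O := by
    intro N hN hNc
    by_contra hle
    haveI := hN
    refine hmax (O ⊔ N) ⟨inferInstance, ?_⟩ (lt_of_le_of_ne le_sup_left fun h => hle (h.symm ▸ le_sup_right))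
    have e1 := relIndex_mul_relIndex ⊥ N (O ⊔ N) bot_le le_sup_right
    rw [relIndex_bot_left, relIndex_bot_left, relIndex_sup_right] at e1
    rw [← e1]
    exact Nat.Coprime.mul_left hNc
      (hOc.coprime_dvd_left (relIndex_bot_left O ▸ relIndex_dvd_of_le_left O bot_le))
  -- a normal subgroup `L` above it with `[L : O]` a `π`-number
  obtain ⟨L, hLn, hOL, hLO, hLπ⟩ : ∃ L : Subgroup G, L.Normal ∧ O ≤ L ∧ O.relIndex L ≠ 1 ∧
      ∀ q : ℕ, q.Prime → q ∣ O.relIndex L → q ∣ Nat.card H := by
    obtain ⟨n, M, hM0, hMn, hmono, hMnormal, hfac⟩ := hsep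
    by_contra hno
    push Not at hno
    have hall : ∀ i, M i ≤ O := by
      intro i
      induction i using Fin.induction with
      | zero => rw [hM0]; exact bot_le
      | succ i ih =>
        haveI := hMnormal i.succ
        have hd : O.relIndex (O ⊔ M i.succ) ∣ (M i.castSucc).relIndex (M i.succ) := by
          rw [sup_comm, relIndex_sup_right]
          exact relIndex_dvd_of_le_left _ ih
        rcases hfac i with hπ | hc
        · by_contra hle
          obtain ⟨q, hq, hqd, hqn⟩ := hno (O ⊔ M i.succ) inferInstance le_sup_left fun h1 =>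
            hle (le_sup_right.trans (relIndex_eq_one.1 h1))
          exact hqn (hπ q hq (hqd.trans hd))
        · refine le_sup_right.trans (hOmax (O ⊔ M i.succ) inferInstance ?_)
          rw [← relIndex_bot_left (O ⊔ M i.succ), ← relIndex_mul_relIndex ⊥ O _ bot_le le_sup_left,
            relIndex_bot_left]
          exact Nat.Coprime.mul_left hOc (hc.coprime_dvd_left hd)
    have hT : (⊤ : Subgroup G) ≤ O := hMn ▸ hall (Fin.last n)
    apply hHne
    rw [← card_eq_one]
    exact Nat.eq_one_of_dvd_coprimes hOc (card_dvd_of_le (le_top.trans hT)) dvd_rfl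
  haveI := hLn
  -- `H ⊓ L` is a complement of `O` in `L`
  have hRcard : Nat.card (H ⊓ L : Subgroup G) = O.relIndex L := by
    have hL : Nat.card L = Nat.card O * O.relIndex L := by
      rw [← relIndex_bot_left L, ← relIndex_mul_relIndex ⊥ O L bot_le hOL, relIndex_bot_left]
    refine Nat.dvd_antisymm ?_ ?_
    · refine Nat.Coprime.dvd_of_dvd_mul_left ?_ (hL ▸ card_dvd_of_le inf_le_right)
      exact (hOc.coprime_dvd_right (card_dvd_of_le inf_le_left)).symm
    · have e1 : Nat.card (H ⊓ L : Subgroup G) * L.relIndex H = Nat.card H := by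
        rw [← inf_relIndex_left H L, ← relIndex_bot_left (H ⊓ L),
          relIndex_mul_relIndex ⊥ _ _ bot_le inf_le_left, relIndex_bot_left]
      obtain ⟨k, hk⟩ : L.relIndex H ∣ L.index := relIndex_dvd_index_of_normal L H
      have e2 : Nat.card O * O.relIndex L * k = Nat.card (H ⊓ L : Subgroup G) * H.index := by
        refine Nat.eq_of_mul_eq_mul_left (Nat.pos_of_ne_zero (n := L.relIndex H) ?_) ?_
        · intro h0
          rw [h0, zero_mul] at hk
          exact index_ne_zero_of_finite hk
        · rw [← hL, ← mul_assoc (L.relIndex H) _ H.index, mul_comm (L.relIndex H) (Nat.card (H ⊓ L : Subgroup G)),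
            e1, card_mul_index, ← mul_assoc, mul_comm (L.relIndex H), mul_assoc, ← hk, card_mul_index]
      have hcop : (O.relIndex L).Coprime H.index :=
        Nat.coprime_of_dvd fun q hq h1 h3 => hq.ne_one (Nat.eq_one_of_dvd_coprimes hH (hLπ q hq h1) h3)
      exact hcop.dvd_of_dvd_mul_right (e2 ▸ (dvd_mul_left _ _).mul_right k)
  have hRO : (Nat.card (H ⊓ L : Subgroup G)).Coprime (Nat.card O) :=
    (hOc.coprime_dvd_right (card_dvd_of_le inf_le_left)).symm
  have hsupL : (H ⊓ L) ⊔ O = L := by
    refine eq_of_le_of_card_ge (sup_le inf_le_right hOL) ?_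
    rw [card_sup_of_coprime _ _ (hON _) hRO, hRcard, mul_comm, ← relIndex_bot_left L,
      ← relIndex_mul_relIndex ⊥ O L bot_le hOL, relIndex_bot_left]
  have hR0ne : H ⊓ L ≠ ⊥ := fun h => hLO (by rw [← hRcard, h, Subgroup.card_bot])
  -- elements normalizing `H ⊓ L` normalize `H`
  have hNR : normalizer ((H ⊓ L : Subgroup G) : Set G) ≤ normalizer (H : Set G) := by
    intro g hg
    by_contra hgH
    obtain ⟨⟨y, hy⟩, hy1⟩ := ne_bot_iff_exists_ne_one.1 hR0ne
    exact hy1 (Subtype.ext (hTI g hgH y hy.1 ((mem_normalizer_iff.1 hg y).1 hy).1))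
  -- centralizers in `O`
  let C : Subgroup G := O ⊓ centralizer (H : Set G)
  have hCeq : ∀ a ∈ H, a ≠ 1 → O ⊓ centralizer ({a} : Set G) ≤ C := by
    intro a ha ha1 x hx
    have hc : a * x = x * a := mem_centralizer_singleton_iff.1 hx.2 |>.symm
    have hxN : x ∈ normalizer (H : Set G) := by
      by_contra hxN
      exact ha1 (hTI x hxN a ha (by rw [← hc, mul_inv_cancel_right]; exact ha))
    refine ⟨hx.1, mem_centralizer_iff.2 fun y hy => ?_⟩
    have h1 : x * y * x⁻¹ * y⁻¹ ∈ H ⊓ O := by
      refine ⟨H.mul_mem ((mem_normalizer_iff.1 hxN y).1 hy) (H.inv_mem hy), ?_⟩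
      simpa [mul_assoc] using O.mul_mem hx.1 (hOn.conj_mem _ (O.inv_mem hx.1) y)
    rw [inf_eq_bot_of_coprime hOc.symm, mem_bot, mul_inv_eq_one, mul_inv_eq_iff_eq_mul] at h1
    exact h1.symm
  have hCne : ¬ O ≤ C := by
    intro hle
    apply hnn
    rw [← normalizer_eq_top_iff, eq_top_iff]
    intro g _
    refine hNR ?_
    suffices (H ⊓ L).Normal by rw [normalizer_eq_top]; exact mem_top g
    refine ⟨fun z hz g => ?_⟩
    have hzL : g * z * g⁻¹ ∈ (H ⊓ L) ⊔ O := hsupL.symm ▸ hLn.conj_mem z hz.2 g
    obtain ⟨s, hs, o, ho, he⟩ := (mem_sup_iff_mul (hON _)).1 hzL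
    have hso : Commute s o := mem_centralizer_iff.1 (hle ho).2 s hs.1
    have h1 : (g * z * g⁻¹) ^ Nat.card (H ⊓ L : Subgroup G) = 1 := by
      rw [conj_pow, orderOf_dvd_iff_pow_eq_one.1 ((H ⊓ L).orderOf_dvd_natCard hz), mul_one, mul_inv_cancel]
    rw [he, hso.mul_pow, orderOf_dvd_iff_pow_eq_one.1 ((H ⊓ L).orderOf_dvd_natCard hs), one_mul,
      ← orderOf_dvd_iff_pow_eq_one] at h1
    have ho1 : o = 1 := orderOf_eq_one_iff.1
      (Nat.eq_one_of_dvd_coprimes hRO h1 (O.orderOf_dvd_natCard ho))
    rw [he, ho1, mul_one]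
    exact hs
  -- abelian subgroups of `H` are cyclic
  have hab : ∀ B : Subgroup G, B ≤ H → IsMulCommutative B → IsCyclic B := by
    intro B hB hBc
    by_contra hnc
    obtain ⟨q, hq, E, hEB, hexp, hcard⟩ := exists_elementary_of_not_isCyclic B hnc
    haveI := Fact.mk hq
    haveI : IsMulCommutative E := le_centralizer_iff_isMulCommutative.1
      (hEB.trans ((le_centralizer_iff_isMulCommutative.2 hBc).trans (centralizer_le hEB)))
    have hqH : q ∣ Nat.card H := by
      obtain ⟨⟨e, he⟩, he1⟩ := ne_bot_iff_exists_ne_one.1 (show E ≠ ⊥ from fun h => by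
        rw [h, Subgroup.card_bot] at hcard
        nlinarith [hq.two_le])
      rw [← orderOf_eq_prime (hexp e he) (fun h => he1 (Subtype.ext h))]
      exact H.orderOf_dvd_natCard (hB (hEB he))
    exact hCne (CfsgLib.LocalEven.le_of_centralizers_le hexp hcard (hON _)
      (fun h => hq.ne_one (Nat.eq_one_of_dvd_coprimes hOc h hqH))
      (fun a ha ha1 => hCeq a (hB (hEB ha)) ha1))
  haveI hZ : IsZGroup H := by
    refine ⟨fun p hp P => ?_⟩
    haveI := Fact.mk hp
    let f : (P : Subgroup H) →* G := H.subtype.comp (P : Subgroup H).subtype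
    have hf : Function.Injective f := H.subtype_injective.comp (Subgroup.subtype_injective _)
    have hcyc : ∀ B : Subgroup (P : Subgroup H), IsMulCommutative B → IsCyclic B := fun B hBc => by
      haveI := hab (B.map f) (by rintro _ ⟨x, -, rfl⟩; exact (x : H).2) inferInstance
      exact isCyclic_of_surjective (B.equivMapOfInjective f hf).symm.toMonoidHom
        (B.equivMapOfInjective f hf).symm.surjective
    by_cases hp2 : p = 2
    · subst hp2
      haveI := h2 P
      haveI := hcyc ⊤ inferInstance
      exact isCyclic_of_surjective (topEquiv : (⊤ : Subgroup (P : Subgroup H)) ≃* _).toMonoidHom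
        topEquiv.surjective
    refine (UniqueOrderP.isCyclic_or_quaternion_of_unique P.isPGroup' ?_).resolve_right fun h => hp2 h.1
    intro X Y hX hY
    haveI : Nontrivial (P : Subgroup H) := by
      by_contra hn
      rw [not_nontrivial_iff_subsingleton] at hn
      rw [Nat.card_of_subsingleton (1 : X)] at hX
      exact hp.one_lt.ne hX
    obtain ⟨z, hz⟩ := exists_prime_orderOf_dvd_card' (G := center (P : Subgroup H)) p
      ((P.isPGroup'.to_subgroup _).card_eq_or_dvd.resolve_left fun h =>
        P.isPGroup'.bot_lt_center.ne' (card_eq_one.1 h))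
    suffices ∀ W : Subgroup (P : Subgroup H), Nat.card W = p → W = zpowers (z : (P : Subgroup H)) from
      (this X hX).trans (this Y hY).symm
    intro W hW
    obtain ⟨w, hw⟩ := exists_prime_orderOf_dvd_card' (G := W) p hW.symm.dvd
    have hWw : zpowers (w : (P : Subgroup H)) = W := eq_of_le_of_card_ge (zpowers_le.2 w.2)
      (by rw [Nat.card_zpowers, Subgroup.orderOf_coe, hw, hW])
    haveI : IsMulCommutative (closure {(w : (P : Subgroup H)), (z : (P : Subgroup H))}) := by
      refine isMulCommutative_closure fun a ha b hb => ?_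
      rcases ha with rfl | rfl <;> rcases hb with rfl | rfl
      · rfl
      · exact mem_center_iff.1 z.2 _
      · exact (mem_center_iff.1 z.2 _).symm
      · rfl
    haveI := hcyc _ this
    have e := CfsgLib.ClassSizes.Kulakoff.eq_of_card_eq_of_isCyclic
      (G := closure {(w : (P : Subgroup H)), (z : (P : Subgroup H))})
      (H := zpowers ⟨(w : (P : Subgroup H)), Subgroup.subset_closure (Set.mem_insert _ _)⟩)
      (K := zpowers ⟨(z : (P : Subgroup H)), Subgroup.subset_closure (Set.mem_insert_of_mem _ rfl)⟩)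
      (by
        have e1 : orderOf (w : (P : Subgroup H)) = p := (Subgroup.orderOf_coe w).trans hw
        have e2 : orderOf (z : (P : Subgroup H)) = p := (Subgroup.orderOf_coe z).trans hz
        rw [Nat.card_zpowers, Nat.card_zpowers]
        exact ((Subgroup.orderOf_mk _ _).trans e1).trans ((Subgroup.orderOf_mk _ _).trans e2).symm)
    have e' := congrArg (Subgroup.map (Subgroup.closure _).subtype) e
    rwa [MonoidHom.map_zpowers, MonoidHom.map_zpowers, coe_subtype, hWw] at e'
  have hHsol : Group.IsSolvable H := inferInstance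
  -- `G = O N(H)`
  have htopG : O ⊔ normalizer (H : Set G) = ⊤ := by
    rw [eq_top_iff]
    intro g _
    have hle : MulAut.conj g • (H ⊓ L) ≤ (H ⊓ L) ⊔ O := by
      intro y hy
      rw [mem_conj_smul_iff] at hy
      rw [hsupL]
      simpa [mul_assoc] using hLn.conj_mem _ hy.2 g
    obtain ⟨n, hn, he⟩ := exists_conj_eq_of_coprime (hON _) hle (card_conj_smul _ _) hRO
      (Or.inr (isSolvable_of_le hHsol inf_le_left))
    have h1 : n⁻¹ * g ∈ normalizer ((H ⊓ L : Subgroup G) : Set G) := by
      rw [mem_normalizer_iff_conj_smul_eq, ← conj_smul_conj_smul, ← he, conj_smul_conj_smul, inv_mul_cancel,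
        conj_one_smul]
    simpa using mul_mem (mem_sup_left (T := normalizer (H : Set G)) hn) (mem_sup_right (S := O) (hNR h1))
  -- orders
  have hQc : (Nat.card Q).Coprime (Nat.card H) := by
    refine hH.symm.coprime_dvd_left ?_
    have e1 := card_sup_of_disjoint Q H hQ hQH
    rw [hQH', ← relIndex_bot_left (normalizer (H : Set G)), ← relIndex_mul_relIndex ⊥ H _ bot_le le_normalizer,
      relIndex_bot_left, mul_comm (Nat.card Q)] at e1
    rw [← Nat.eq_of_mul_eq_mul_left Nat.card_pos e1, ← relIndex_mul_index (le_normalizer (H := H))]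
    exact dvd_mul_right _ _
  let F : Subgroup G := H ⊓ centralizer (Q : Set G)
  let M : Subgroup G := ⁅H, Q⁆
  have hMH : M ≤ H := commutator_le_of_normalizes hQ
  have hMN : H ⊔ Q ≤ normalizer (M : Set G) := le_normalizer_commutator_self Q H
  have hMF : M ⊔ F = H := commutator_sup_centralizer hQ hQc (Or.inr hHsol)
  have hMQ : ⁅M, Q⁆ = M := commutator_commutator_eq hQ hQc (Or.inr hHsol)
  have hFM : (Nat.card F).Coprime (Nat.card M) := by
    refine Nat.coprime_of_dvd fun r hr hrF hrM => ?_
    haveI := Fact.mk hr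
    obtain ⟨f, hf⟩ := exists_prime_orderOf_dvd_card' (G := F) r hrF
    have hfo : orderOf (f : G) = r := by rw [Subgroup.orderOf_coe, hf]
    have hfQ : ∀ q ∈ Q, Commute q (f : G) := fun q hq => mem_centralizer_iff.1 f.2.2 q hq
    have hU : IsPGroup r (zpowers (f : G)) :=
      IsPGroup.of_card (n := 1) (by rw [Nat.card_zpowers, hfo, pow_one])
    obtain ⟨R₀, hUR, hRQ⟩ := exists_invariant_sylow_ge hQ hQc (Or.inr hHsol) (zpowers_le.2 f.2.1) hU
      (fun q hq => mem_normalizer_iff.2 fun y => by
        constructor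
        · intro hy
          obtain ⟨i, rfl⟩ := mem_zpowers_iff.1 hy
          exact ⟨i, by simp [((hfQ q hq).zpow_right i).eq]⟩
        · intro hy
          obtain ⟨i, hi⟩ := mem_zpowers_iff.1 hy
          refine ⟨i, ?_⟩
          have := ((hfQ q hq).zpow_right i).eq
          simp only
          rw [← mul_left_cancel_iff (a := q), this, hi, inv_mul_cancel_right])
    generalize hR : (R₀ : Subgroup H).map H.subtype = R at hUR hRQ
    have hRH : R ≤ H := hR ▸ map_subtype_le _
    have hRp : IsPGroup r R := hR ▸ R₀.isPGroup'.map _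
    haveI : IsCyclic R := hR ▸ isCyclic_of_surjective
      ((R₀ : Subgroup H).equivMapOfInjective _ H.subtype_injective).toMonoidHom (MulEquiv.surjective _)
    have hRi : ¬ r ∣ R.relIndex H := by
      rw [← hR, relIndex, subgroupOf, comap_map_eq_self_of_injective (Subgroup.subtype_injective _)]
      exact R₀.not_dvd_index
    have hord : ∀ w ∈ R, orderOf w = r → w ∈ zpowers (f : G) := by
      intro w hw hwo
      have e := CfsgLib.ClassSizes.Kulakoff.eq_of_card_eq_of_isCyclic (G := R) (H := zpowers ⟨w, hw⟩)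
        (K := zpowers ⟨f, hUR (mem_zpowers _)⟩)
        (by rw [Nat.card_zpowers, Nat.card_zpowers, Subgroup.orderOf_mk, Subgroup.orderOf_mk, hwo, hfo])
      have e' := congrArg (Subgroup.map R.subtype) e
      rw [MonoidHom.map_zpowers, MonoidHom.map_zpowers, coe_subtype] at e'
      exact e' ▸ mem_zpowers w
    have hrQ : (Nat.card Q).Coprime r := hQc.coprime_dvd_right (hfo ▸ H.orderOf_dvd_natCard f.2.1)
    have hcomm : ∀ a ∈ R, ∀ q ∈ Q, Commute a q := by
      intro a ha q hq
      refine (CfsgLib.ClassSizes.CyclicSylow.commute_of_fix hRp (hRQ hq)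
        (hrQ.coprime_dvd_left (Q.orderOf_dvd_natCard hq)) (fun w hw hwo => ?_) a ha).symm
      obtain ⟨i, rfl⟩ := mem_zpowers_iff.1 (hord w hw hwo)
      exact (hfQ q hq).zpow_right i
    by_cases hd : r ∣ Nat.card (commutator H)
    · -- `R` lies in the cyclic group `H'`
      have hRnorm : ∀ x ∈ H, ∀ y ∈ R, x * y * x⁻¹ ∈ R := by
        haveI : IsCyclic (commutator H) := IsZGroup.isCyclic_commutator H
        have hnd : ¬ r ∣ (commutator H).index := fun h => hr.ne_one
          (Nat.eq_one_of_dvd_coprimes (IsZGroup.coprime_commutator_index (G := H)) hd h)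
        have hR₀D : (R₀ : Subgroup H) ≤ commutator H := by
          intro y hy
          obtain ⟨j, hj⟩ := IsPGroup.iff_orderOf.1 R₀.isPGroup' ⟨y, hy⟩
          rw [Subgroup.orderOf_mk] at hj
          rw [← QuotientGroup.eq_one_iff, ← orderOf_eq_one_iff]
          refine Nat.eq_one_of_dvd_coprimes
            (((hr.coprime_iff_not_dvd.2 hnd).pow_left j)) (hj ▸ orderOf_map_dvd (QuotientGroup.mk' _) y) ?_
          rw [index_eq_card]
          exact orderOf_dvd_natCard _
        have hn : (R₀ : Subgroup H).Normal := by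
          refine ⟨fun y hy x => ?_⟩
          have hy' := hR₀D hy
          have hxy : x * y * x⁻¹ ∈ commutator H := (inferInstance : (commutator H).Normal).conj_mem y hy' x
          have e := CfsgLib.ClassSizes.Kulakoff.eq_of_card_eq_of_isCyclic (G := commutator H)
            (H := zpowers ⟨x * y * x⁻¹, hxy⟩) (K := zpowers ⟨y, hy'⟩)
            (by
              rw [Nat.card_zpowers, Nat.card_zpowers]
              exact ((Subgroup.orderOf_mk _ _).trans (MulEquiv.orderOf_eq (MulAut.conj x) y)).trans
                (Subgroup.orderOf_mk _ _).symm)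
          have e' := congrArg (Subgroup.map (commutator H).subtype) e
          rw [MonoidHom.map_zpowers, MonoidHom.map_zpowers, coe_subtype] at e'
          exact zpowers_le.2 hy (e' ▸ mem_zpowers _)
        intro x hx y hy
        rw [← hR] at hy ⊢
        obtain ⟨y, hy, rfl⟩ := hy
        exact mem_map_of_mem H.subtype (hn.conj_mem y hy ⟨x, hx⟩)
      have hMR : M ≤ centralizer (R : Set G) := by
        simp only [M]
        rw [commutator_le]
        intro x hx q hq
        rw [mem_centralizer_iff]
        intro a ha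
        have h1 : Commute q (x⁻¹ * a * x) := by
          have := hRnorm x⁻¹ (H.inv_mem hx) a ha
          rw [inv_inv] at this
          exact (hcomm _ this q hq).symm
        symm
        calc ⁅x, q⁆ * a = x * q * x⁻¹ * (q⁻¹ * a) := by simp [commutatorElement_def, mul_assoc]
          _ = x * q * x⁻¹ * (a * q⁻¹) := by rw [((hcomm a ha q hq).inv_right).eq]
          _ = x * (q * (x⁻¹ * a * x)) * x⁻¹ * q⁻¹ := by group
          _ = x * ((x⁻¹ * a * x) * q) * x⁻¹ * q⁻¹ := by rw [h1.eq]
          _ = a * ⁅x, q⁆ := by simp [commutatorElement_def, mul_assoc]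
      have hi : ¬ r ∣ (R ⊓ M).relIndex M := by
        rw [inf_relIndex_right]
        haveI : (R.subgroupOf H).Normal :=
          normal_subgroupOf_of_le_normalizer (le_normalizer_iff.2 fun x hx y hy => hRnorm x hx y hy)
        intro h
        apply hRi
        refine h.trans ?_
        have := relIndex_dvd_index_of_normal (R.subgroupOf H) (M.subgroupOf H)
        rwa [relIndex_subgroupOf hMH] at this
      let P : Sylow r M := ((hRp.to_le inf_le_left).of_equiv
        (subgroupOfEquivOfLe (inf_le_right : R ⊓ M ≤ M)).symm).toSylow hi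
      have hPc : normalizer (((P : Subgroup M)) : Set M) ≤ centralizer (((P : Subgroup M)) : Set M) := by
        intro y _
        rw [mem_centralizer_iff]
        intro s hs
        exact Subtype.ext (mem_centralizer_iff.1 (hMR y.2) _ hs.1)
      have hK := MonoidHom.ker_transferSylow_isComplement' P hPc
      refine not_dvd_card_commutator (X := M) (Q := Q) (R := R ⊓ M)
        (K := (MonoidHom.transferSylow P hPc).ker.map M.subtype)
        (le_sup_right.trans hMN) inf_le_right hi (fun a ha => hcomm a ha.1) (map_subtype_le _) ?_ ?_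
        (hMQ.symm ▸ hrM)
      · rw [card_map_of_injective M.subtype_injective, ← hK.index_eq_card]
        exact P.not_dvd_index
      · intro x hx hxo
        refine ⟨⟨x, hx⟩, ?_, rfl⟩
        rw [SetLike.mem_coe, MonoidHom.mem_ker, ← orderOf_eq_one_iff]
        obtain ⟨j, hj⟩ := IsPGroup.iff_orderOf.1 P.isPGroup' (MonoidHom.transferSylow P hPc ⟨x, hx⟩)
        refine Nat.eq_one_of_dvd_coprimes ((hr.coprime_iff_not_dvd.2 hxo).pow_left j) hj.dvd ?_
        rw [← Subgroup.orderOf_mk x hx]
        exact orderOf_map_dvd _ _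
    · -- `r` does not divide `|H'|`
      let m := ordCompl[r] (commutator H).index
      let g : H →* Abelianization H := (powMonoidHom m).comp Abelianization.of
      refine not_dvd_card_commutator (X := H) (Q := Q) (R := R) (K := g.ker.map H.subtype)
        hQ hRH hRi hcomm (map_subtype_le _) ?_ ?_ hrM
      · rw [card_map_of_injective H.subtype_injective]
        intro h
        obtain ⟨x, hx⟩ := exists_prime_orderOf_dvd_card' (G := g.ker) r h
        apply hd
        have hxr : orderOf (x : H) = r := by rw [Subgroup.orderOf_coe, hx]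
        have hxD : (x : H) ∈ commutator H := by
          rw [← Abelianization.ker_of, MonoidHom.mem_ker, ← orderOf_eq_one_iff]
          refine Nat.eq_one_of_dvd_coprimes (Nat.coprime_ordCompl hr (index_ne_zero_of_finite (H := commutator H)))
            (hxr ▸ orderOf_map_dvd (Abelianization.of (G := H)) (x : H))
            (orderOf_dvd_of_pow_eq_one ?_)
          exact x.2
        exact hxr ▸ (commutator H).orderOf_dvd_natCard hxD
      · intro x hx hxo
        refine ⟨⟨x, hx⟩, ?_, rfl⟩
        rw [SetLike.mem_coe, MonoidHom.mem_ker]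
        show Abelianization.of (⟨x, hx⟩ : H) ^ m = 1
        rw [← orderOf_dvd_iff_pow_eq_one]
        have h1 : orderOf (Abelianization.of (⟨x, hx⟩ : H)) ∣ (commutator H).index := orderOf_dvd_natCard _
        have h3 : orderOf (Abelianization.of (⟨x, hx⟩ : H)) ∣ orderOf x :=
          Subgroup.orderOf_mk x hx ▸ orderOf_map_dvd _ _
        refine Nat.Coprime.dvd_of_dvd_mul_left ?_ ((Nat.ordProj_mul_ordCompl_eq_self (commutator H).index r).symm ▸ h1)
        exact ((hr.coprime_iff_not_dvd.2 hxo).pow_left _).symm.coprime_dvd_left h3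
  -- the complement
  let X : Subgroup G := Q ⊔ M
  have hQM : Q ≤ normalizer (M : Set G) := le_sup_right.trans hMN
  let N : Subgroup G := O ⊔ X
  have hFN : (Nat.card F).Coprime (Nat.card N) := by
    refine Nat.Coprime.coprime_dvd_right (m := Nat.card O * (Nat.card Q * Nat.card M)) ?_ ?_
    · have e1 : Nat.card N ∣ Nat.card O * Nat.card X := by
        rw [show N = X ⊔ O from sup_comm O X, ← relIndex_bot_left (X ⊔ O),
          ← relIndex_mul_relIndex ⊥ O _ bot_le le_sup_right, relIndex_bot_left, relIndex_sup_right]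
        exact mul_dvd_mul_left _ (relIndex_bot_left X ▸ relIndex_dvd_of_le_left X bot_le)
      refine e1.trans (mul_dvd_mul_left _ ?_)
      rw [show Nat.card X = _ from card_sup_of_disjoint Q M hQM
        (le_bot_iff.1 ((inf_le_inf_left Q hMH).trans hQH.le))]
    · have hFH : Nat.card F ∣ Nat.card H := card_dvd_of_le inf_le_left
      exact Nat.Coprime.mul_right (hOc.symm.coprime_dvd_left hFH)
        (Nat.Coprime.mul_right (hQc.symm.coprime_dvd_left hFH) hFM)
  have hNF : N ⊔ F = ⊤ := by
    rw [← htopG, ← hQH', ← hMF]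
    simp only [N, X, sup_assoc]
  have hNn : N.Normal := by
    rw [← normalizer_eq_top_iff, eq_top_iff, ← hNF]
    refine sup_le le_normalizer (le_normalizer_iff.2 fun g hg => ?_)
    have hle : N ≤ N.comap (MulAut.conj g).toMonoidHom := by
      refine sup_le (fun y hy => mem_sup_left (hOn.conj_mem y hy g)) (sup_le ?_ ?_)
      · intro q hq
        show g * q * g⁻¹ ∈ N
        rw [← mem_centralizer_iff.1 hg.2 q hq, mul_inv_cancel_right]
        exact mem_sup_right (mem_sup_left hq)
      · intro y hy
        exact mem_sup_right (mem_sup_right ((mem_normalizer_iff.1 (hMN (mem_sup_left hg.1)) y).1 hy))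
    exact fun y hy => hle hy
  haveI := hNn
  have hcompl : N.IsComplement' F := by
    refine isComplement'_of_disjoint_and_mul_eq_univ
      (disjoint_iff.2 (inf_eq_bot_of_coprime hFN.symm)) ?_
    rw [← normal_mul, hNF, coe_top]
  exact ⟨by rw [show (H ⊓ centralizer (Q : Set G)).index = Nat.card N from hcompl.index_eq_card]; exact hFN,
    N, hNn, hcompl⟩

end Cfsg.Agent.S4151
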