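import Cfsg.Statements.S4118
import Cfsg.Agent.S4151
import Cfsg.Agent.Lib.Recog.Zassenhaus.AutSolvable
-- import your own Cfsg.Agent.* helpers here

set_option autoImplicit false
open Cfsg

namespace Cfsg.Agent.S4118

open Subgroup CfsgLib.Core
open scoped Pointwise commutatorElement

/-- Let G be a finite group and H a non-normal subgroup meeting each of its conjugates by elements outside N_G(H) trivially, with the order of H coprime to its index in N_G(H); let π be the set of primes dividing the order of H and suppose G is π-separable (it has a chain of normal subgroups from 1 to G each of whose factors has order divisible only by primes in π or coprime to the order of H). Let O be the largest normal subgroup of G of order coprime to the order of H. Then G = O·N_G(H), O·H is normal in G, and G is solvable if and only if O is solvable and H has no subgroup isomorphic to SL₂(5). -/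
theorem result {G : Type*} [Group G] [Finite G] (H : Subgroup G)
    (hTI : Cfsg.IsTISubset (H : Set G)) (hnn : ¬ H.Normal)
    (hHall : (Nat.card H).Coprime (H.subgroupOf (Subgroup.normalizer (H : Set G))).index)
    (hsep : ∃ (n : ℕ) (M : Fin (n + 1) → Subgroup G), M 0 = ⊥ ∧ M (Fin.last n) = ⊤ ∧ Monotone M ∧ (∀ i, (M i).Normal) ∧
      ∀ i : Fin n, (∀ q : ℕ, q.Prime → q ∣ (M i.castSucc).relIndex (M i.succ) → q ∣ Nat.card H) ∨
        ((M i.castSucc).relIndex (M i.succ)).Coprime (Nat.card H))
    (O : Subgroup G) (hO : O = sSup {K : Subgroup G | K.Normal ∧ (Nat.card K).Coprime (Nat.card H)}) :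
    O ⊔ Subgroup.normalizer (H : Set G) = ⊤ ∧ (O ⊔ H).Normal ∧
    (Group.IsSolvable G ↔ Group.IsSolvable O ∧
      ∀ K : Subgroup G, K ≤ H → ¬ Nonempty (K ≃* Matrix.SpecialLinearGroup (Fin 2) (ZMod 5))) := by
  classical
  have hH : (Nat.card H).Coprime H.index := Cfsg.Agent.S4151.hall_of_ti hTI hHall
  have hHne : H ≠ ⊥ := fun h => hnn (h ▸ inferInstance)
  -- the largest normal subgroup of order prime to `|H|`
  obtain ⟨O', ⟨hOn', hOc'⟩, hmax⟩ := WellFounded.has_min (wellFounded_gt (α := Subgroup G))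
    {N : Subgroup G | N.Normal ∧ (Nat.card N).Coprime (Nat.card H)} ⟨⊥, inferInstance, by simp⟩
  obtain rfl : O = O' := by
    refine le_antisymm ?_ (hO ▸ le_sSup ⟨hOn', hOc'⟩)
    rw [hO]
    refine sSup_le fun N hN => ?_
    by_contra hle
    haveI := hN.1
    haveI := hOn'
    refine hmax (O' ⊔ N) ⟨inferInstance, ?_⟩ (lt_of_le_of_ne le_sup_left fun h => hle (h.symm ▸ le_sup_right))
    have e1 := relIndex_mul_relIndex ⊥ N (O' ⊔ N) bot_le le_sup_right
    rw [relIndex_bot_left, relIndex_bot_left, relIndex_sup_right] at e1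
    rw [← e1]
    exact Nat.Coprime.mul_left hN.2
      (hOc'.coprime_dvd_left (relIndex_bot_left O' ▸ relIndex_dvd_of_le_left O' bot_le))
  have hOn : O.Normal := hOn'
  have hOc : (Nat.card O).Coprime (Nat.card H) := hOc'
  haveI := hOn
  have hON : ∀ X : Subgroup G, X ≤ normalizer (O : Set G) := fun X => by rw [normalizer_eq_top]; exact le_top
  have hOmax : ∀ N : Subgroup G, N.Normal → (Nat.card N).Coprime (Nat.card H) → N ≤ O := by
    intro N hN hNc
    by_contra hle
    haveI := hN
    refine hmax (O ⊔ N) ⟨inferInstance, ?_⟩ (lt_of_le_of_ne le_sup_left fun h => hle (h.symm ▸ le_sup_right))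
    have e1 := relIndex_mul_relIndex ⊥ N (O ⊔ N) bot_le le_sup_right
    rw [relIndex_bot_left, relIndex_bot_left, relIndex_sup_right] at e1
    rw [← e1]
    exact Nat.Coprime.mul_left hNc
      (hOc.coprime_dvd_left (relIndex_bot_left O ▸ relIndex_dvd_of_le_left O bot_le))
  -- a normal subgroup `L` above it with `[L : O]` a `π`-number
  obtain ⟨L, hLn, hOL, hLO, hLπ⟩ : ∃ L : Subgroup G, L.Normal ∧ O ≤ L ∧ O.relIndex L ≠ 1 ∧
      ∀ q : ℕ, q.Prime → q ∣ O.relIndex L → q ∣ Nat.card H := by
    obtain ⟨n, M, hM0, hMn, hmono, hMnormal, hfac⟩ := hsep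
    by_contra hno
    push Not at hno
    have hall : ∀ i, M i ≤ O := by
      intro i
      induction i using Fin.induction with
      | zero => rw [hM0]; exact bot_le
      | succ i ih =>
        haveI := hMnormal i.succ
        have hd : O.relIndex (O ⊔ M i.succ) ∣ (M i.castSucc).relIndex (M i.succ) := by
          rw [sup_comm, relIndex_sup_right]
          exact relIndex_dvd_of_le_left _ ih
        rcases hfac i with hπ | hc
        · by_contra hle
          obtain ⟨q, hq, hqd, hqn⟩ := hno (O ⊔ M i.succ) inferInstance le_sup_left fun h1 =>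
            hle (le_sup_right.trans (relIndex_eq_one.1 h1))
          exact hqn (hπ q hq (hqd.trans hd))
        · refine le_sup_right.trans (hOmax (O ⊔ M i.succ) inferInstance ?_)
          rw [← relIndex_bot_left (O ⊔ M i.succ), ← relIndex_mul_relIndex ⊥ O _ bot_le le_sup_left,
            relIndex_bot_left]
          exact Nat.Coprime.mul_left hOc (hc.coprime_dvd_left hd)
    have hT : (⊤ : Subgroup G) ≤ O := hMn ▸ hall (Fin.last n)
    apply hHne
    rw [← card_eq_one]
    exact Nat.eq_one_of_dvd_coprimes hOc (card_dvd_of_le (le_top.trans hT)) dvd_rfl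
  haveI := hLn
  -- `H ⊓ L` is a complement of `O` in `L`
  have hRcard : Nat.card (H ⊓ L : Subgroup G) = O.relIndex L := by
    have hL : Nat.card L = Nat.card O * O.relIndex L := by
      rw [← relIndex_bot_left L, ← relIndex_mul_relIndex ⊥ O L bot_le hOL, relIndex_bot_left]
    refine Nat.dvd_antisymm ?_ ?_
    · refine Nat.Coprime.dvd_of_dvd_mul_left ?_ (hL ▸ card_dvd_of_le inf_le_right)
      exact (hOc.coprime_dvd_right (card_dvd_of_le inf_le_left)).symm
    · have e1 : Nat.card (H ⊓ L : Subgroup G) * L.relIndex H = Nat.card H := by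
        rw [← inf_relIndex_left H L, ← relIndex_bot_left (H ⊓ L),
          relIndex_mul_relIndex ⊥ _ _ bot_le inf_le_left, relIndex_bot_left]
      obtain ⟨k, hk⟩ : L.relIndex H ∣ L.index := relIndex_dvd_index_of_normal L H
      have e2 : Nat.card O * O.relIndex L * k = Nat.card (H ⊓ L : Subgroup G) * H.index := by
        refine Nat.eq_of_mul_eq_mul_left (Nat.pos_of_ne_zero (n := L.relIndex H) ?_) ?_
        · intro h0
          rw [h0, zero_mul] at hk
          exact index_ne_zero_of_finite hk
        · rw [← hL, ← mul_assoc (L.relIndex H) _ H.index, mul_comm (L.relIndex H) (Nat.card (H ⊓ L : Subgroup G)),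
            e1, card_mul_index, ← mul_assoc, mul_comm (L.relIndex H), mul_assoc, ← hk, card_mul_index]
      have hcop : (O.relIndex L).Coprime H.index :=
        Nat.coprime_of_dvd fun q hq h1 h3 => hq.ne_one (Nat.eq_one_of_dvd_coprimes hH (hLπ q hq h1) h3)
      exact hcop.dvd_of_dvd_mul_right (e2 ▸ (dvd_mul_left _ _).mul_right k)
  have hRO : (Nat.card (H ⊓ L : Subgroup G)).Coprime (Nat.card O) :=
    (hOc.coprime_dvd_right (card_dvd_of_le inf_le_left)).symm
  have hsupL : (H ⊓ L) ⊔ O = L := by
    refine eq_of_le_of_card_ge (sup_le inf_le_right hOL) ?_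
    rw [card_sup_of_coprime _ _ (hON _) hRO, hRcard, mul_comm, ← relIndex_bot_left L,
      ← relIndex_mul_relIndex ⊥ O L bot_le hOL, relIndex_bot_left]
  have hR0ne : H ⊓ L ≠ ⊥ := fun h => hLO (by rw [← hRcard, h, Subgroup.card_bot])
  -- elements normalizing `H ⊓ L` normalize `H`
  have hNR : normalizer ((H ⊓ L : Subgroup G) : Set G) ≤ normalizer (H : Set G) := by
    intro g hg
    by_contra hgH
    obtain ⟨⟨y, hy⟩, hy1⟩ := ne_bot_iff_exists_ne_one.1 hR0ne
    exact hy1 (Subtype.ext (hTI g hgH y hy.1 ((mem_normalizer_iff.1 hg y).1 hy).1))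
  -- centralizers in `O`
  let C : Subgroup G := O ⊓ centralizer (H : Set G)
  have hCeq : ∀ a ∈ H, a ≠ 1 → O ⊓ centralizer ({a} : Set G) ≤ C := by
    intro a ha ha1 x hx
    have hc : a * x = x * a := mem_centralizer_singleton_iff.1 hx.2 |>.symm
    have hxN : x ∈ normalizer (H : Set G) := by
      by_contra hxN
      exact ha1 (hTI x hxN a ha (by rw [← hc, mul_inv_cancel_right]; exact ha))
    refine ⟨hx.1, mem_centralizer_iff.2 fun y hy => ?_⟩
    have h1 : x * y * x⁻¹ * y⁻¹ ∈ H ⊓ O := by
      refine ⟨H.mul_mem ((mem_normalizer_iff.1 hxN y).1 hy) (H.inv_mem hy), ?_⟩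
      simpa [mul_assoc] using O.mul_mem hx.1 (hOn.conj_mem _ (O.inv_mem hx.1) y)
    rw [inf_eq_bot_of_coprime hOc.symm, mem_bot, mul_inv_eq_one, mul_inv_eq_iff_eq_mul] at h1
    exact h1.symm
  have hCne : ¬ O ≤ C := by
    intro hle
    apply hnn
    rw [← normalizer_eq_top_iff, eq_top_iff]
    intro g _
    refine hNR ?_
    suffices (H ⊓ L).Normal by rw [normalizer_eq_top]; exact mem_top g
    refine ⟨fun z hz g => ?_⟩
    have hzL : g * z * g⁻¹ ∈ (H ⊓ L) ⊔ O := hsupL.symm ▸ hLn.conj_mem z hz.2 g
    obtain ⟨s, hs, o, ho, he⟩ := (mem_sup_iff_mul (hON _)).1 hzL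
    have hso : Commute s o := mem_centralizer_iff.1 (hle ho).2 s hs.1
    have h1 : (g * z * g⁻¹) ^ Nat.card (H ⊓ L : Subgroup G) = 1 := by
      rw [conj_pow, orderOf_dvd_iff_pow_eq_one.1 ((H ⊓ L).orderOf_dvd_natCard hz), mul_one, mul_inv_cancel]
    rw [he, hso.mul_pow, orderOf_dvd_iff_pow_eq_one.1 ((H ⊓ L).orderOf_dvd_natCard hs), one_mul,
      ← orderOf_dvd_iff_pow_eq_one] at h1
    have ho1 : o = 1 := orderOf_eq_one_iff.1
      (Nat.eq_one_of_dvd_coprimes hRO h1 (O.orderOf_dvd_natCard ho))
    rw [he, ho1, mul_one]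
    exact hs
  -- `G = O N(H)` by the Frattini argument
  have htopG : O ⊔ normalizer (H : Set G) = ⊤ := by
    obtain ⟨q, hq, hqd⟩ := Nat.exists_prime_and_dvd (n := O.relIndex L) hLO
    haveI := Fact.mk hq
    obtain ⟨S₀⟩ := (inferInstance : Nonempty (Sylow q ↥(H ⊓ L)))
    set S := (S₀ : Subgroup ↥(H ⊓ L)).map (H ⊓ L).subtype with hS
    have hSle : S ≤ H ⊓ L := map_subtype_le _
    have hSne : S ≠ ⊥ := by
      rw [hS, Ne, map_eq_bot_iff_of_injective _ (H ⊓ L).subtype_injective]
      exact S₀.ne_bot_of_dvd_card (hRcard.symm ▸ hqd)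
    have hSL : ¬ q ∣ S.relIndex L := by
      rw [← relIndex_mul_relIndex S (H ⊓ L) L hSle inf_le_right]
      refine hq.not_dvd_mul ?_ ?_
      · rw [hS, relIndex, subgroupOf, comap_map_eq_self_of_injective (Subgroup.subtype_injective _)]
        exact S₀.not_dvd_index
      · intro hd
        have e1 := relIndex_mul_relIndex ⊥ (H ⊓ L) L bot_le inf_le_right
        have e2 := relIndex_mul_relIndex ⊥ O L bot_le hOL
        rw [relIndex_bot_left] at e1 e2
        rw [relIndex_bot_left] at e1 e2
        rw [← e2, hRcard, mul_comm (Nat.card O)] at e1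
        rw [Nat.eq_of_mul_eq_mul_left (hRcard ▸ Nat.card_pos) e1] at hd
        exact hq.ne_one (Nat.eq_one_of_dvd_coprimes hRO (hRcard.symm ▸ hqd) hd)
    let T : Sylow q L := ((S₀.isPGroup'.map _).of_equiv
      (subgroupOfEquivOfLe (hSle.trans inf_le_right)).symm).toSylow (show ¬ q ∣ (S.subgroupOf L).index from hSL)
    have hT : (T : Subgroup L).map L.subtype = S := map_subgroupOf_eq_of_le (hSle.trans inf_le_right)
    have hfr := T.normalizer_sup_eq_top
    rw [hT] at hfr
    have hNS : normalizer (S : Set G) ≤ normalizer (H : Set G) := by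
      intro g hg
      by_contra hgH
      obtain ⟨⟨y, hy⟩, hy1⟩ := ne_bot_iff_exists_ne_one.1 hSne
      exact hy1 (Subtype.ext (hTI g hgH y (hSle hy).1 (hSle ((mem_normalizer_iff.1 hg y).1 hy)).1))
    rw [eq_top_iff, ← hfr]
    refine sup_le (hNS.trans le_sup_right) ?_
    rw [← hsupL]
    exact sup_le ((inf_le_left.trans le_normalizer).trans le_sup_right) le_sup_left
  have hOH : (O ⊔ H).Normal := by
    rw [← normalizer_eq_top_iff, eq_top_iff, ← htopG]
    refine sup_le (le_sup_left.trans le_normalizer) (fun g hg => ?_)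
    rw [mem_normalizer_iff_conj_smul_eq, smul_sup]
    congr 1
    · exact mem_normalizer_iff_conj_smul_eq.1 (by rw [normalizer_eq_top]; exact mem_top g)
    · exact mem_normalizer_iff_conj_smul_eq.1 hg
  refine ⟨htopG, hOH, ⟨fun hsol => ⟨inferInstance, fun K _ ⟨e⟩ => ?_⟩, fun ⟨hOsol, hSL25⟩ => ?_⟩⟩
  · exact CfsgLib.Recog.Zassenhaus.not_isSolvable_sl25 (Group.isSolvable_of_surjective (f := e.toMonoidHom) e.surjective)
  -- a fixed point free representation of `H` on an abelian section of `O`
  haveI := hOH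
  haveI := hOsol
  obtain ⟨i, hi1, hi2⟩ : ∃ i, ¬ (derivedSeries O i).map O.subtype ≤ C ∧ (derivedSeries O (i + 1)).map O.subtype ≤ C := by
    by_contra hcon
    push Not at hcon
    have hall : ∀ i, ¬ (derivedSeries O i).map O.subtype ≤ C := fun i => by
      induction i with
      | zero => rwa [derivedSeries_zero, ← MonoidHom.range_eq_map, range_subtype]
      | succ i ih => exact hcon i ih
    obtain ⟨m, hm⟩ := hOsol.solvable
    exact hall m (by rw [hm, Subgroup.map_bot]; exact bot_le)
  set D := (derivedSeries O i).map O.subtype with hD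
  haveI : D.Normal := inferInstance
  have hDO : D ≤ O := map_subtype_le _
  have hDD : ⁅D, D⁆ ≤ C := by
    rwa [hD, ← map_commutator, ← derivedSeries_succ]
  set CD := C.subgroupOf D with hCD
  haveI hCDn : CD.Normal := by
    refine ⟨fun c hc d => ?_⟩
    rw [hCD, mem_subgroupOf] at hc ⊢
    simp only [Subgroup.coe_mul, Subgroup.coe_inv]
    rw [show (d : G) * c * (d : G)⁻¹ = ⁅(d : G), (c : G)⁆ * c by rw [commutatorElement_def]; group]
    exact mul_mem (hDD (commutator_mem_commutator d.2 c.2)) hc
  haveI : Nontrivial (D ⧸ CD) := by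
    rw [QuotientGroup.nontrivial_iff]
    intro htop
    exact hi1 (subgroupOf_eq_top.1 htop)
  have hHC : ∀ h ∈ H, ∀ c ∈ C, h * c * h⁻¹ = c := fun h hh c hc => by
    rw [mem_centralizer_iff.1 hc.2 h hh, mul_inv_cancel_right]
  have hinv : ∀ h : H, CD.map ((MulAut.conjNormal (h : G) : MulAut D) : D →* D) = CD := by
    intro h
    ext x
    constructor
    · rintro ⟨y, hy, rfl⟩
      have hy' : (y : G) ∈ C := hy
      show ((MulAut.conjNormal (h : G) y : D) : G) ∈ C
      rw [MulAut.conjNormal_apply, hHC h h.2 _ hy']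
      exact hy'
    · intro hx
      exact ⟨x, hx, Subtype.ext (by
        show ((MulAut.conjNormal (h : G) x : D) : G) = x
        rw [MulAut.conjNormal_apply]
        exact hHC h h.2 _ hx)⟩
  let φ : H →* MulAut (D ⧸ CD) :=
    { toFun := fun h => QuotientGroup.congr CD CD (MulAut.conjNormal (h : G)) (hinv h)
      map_one' := MulEquiv.ext fun t => by
        obtain ⟨t, rfl⟩ := QuotientGroup.mk'_surjective CD t
        rw [QuotientGroup.mk'_apply, QuotientGroup.congr_mk]
        simp
      map_mul' := fun a b => MulEquiv.ext fun t => by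
        obtain ⟨t, rfl⟩ := QuotientGroup.mk'_surjective CD t
        rw [QuotientGroup.mk'_apply, MulAut.mul_apply, QuotientGroup.congr_mk, QuotientGroup.congr_mk,
          QuotientGroup.congr_mk, Subgroup.coe_mul, map_mul, MulAut.mul_apply] }
  have hfp : ∀ h : H, h ≠ 1 → ∀ t : D ⧸ CD, φ h t = t → t = 1 := by
    intro h hh t ht
    obtain ⟨x, rfl⟩ := QuotientGroup.mk'_surjective CD t
    rw [QuotientGroup.mk'_apply] at ht ⊢
    have ht' : ((MulAut.conjNormal (h : G) x : D) : D ⧸ CD) = x := ht
    have hmem : ((MulAut.conjNormal (h : G) x : D) * x⁻¹ : D) ∈ CD :=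
      (QuotientGroup.eq_one_iff _).1 (by rw [QuotientGroup.mk_mul, ht', ← QuotientGroup.mk_mul, mul_inv_cancel]; rfl)
    rw [hCD, mem_subgroupOf, Subgroup.coe_mul, Subgroup.coe_inv, MulAut.conjNormal_apply] at hmem
    set c := (h : G) * x * (h : G)⁻¹ * (x : G)⁻¹ with hc
    have hk : ∀ k : ℕ, (h : G) ^ k * x * ((h : G) ^ k)⁻¹ = c ^ k * x := by
      intro k
      induction k with
      | zero => simp
      | succ k ih =>
        have e1 : (h : G) * c ^ k * (h : G)⁻¹ = c ^ k := hHC h h.2 _ (pow_mem hmem k)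
        calc (h : G) ^ (k + 1) * x * ((h : G) ^ (k + 1))⁻¹
            = (h : G) * ((h : G) ^ k * x * ((h : G) ^ k)⁻¹) * (h : G)⁻¹ := by rw [pow_succ']; group
          _ = ((h : G) * c ^ k * (h : G)⁻¹) * ((h : G) * x * (h : G)⁻¹) := by rw [ih]; group
          _ = c ^ k * (c * x) := by rw [e1, hc]; group
          _ = _ := by rw [← mul_assoc, pow_succ]
    have hck := hk (orderOf (h : G))
    rw [pow_orderOf_eq_one, one_mul, inv_one, mul_one, eq_comm, mul_eq_right] at hck
    have hc1 : c = 1 := orderOf_eq_one_iff.1 (Nat.eq_one_of_dvd_coprimes hOc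
      (O.orderOf_dvd_natCard hmem.1) ((orderOf_dvd_of_pow_eq_one hck).trans (H.orderOf_dvd_natCard h.2)))
    rw [QuotientGroup.eq_one_iff, hCD, mem_subgroupOf]
    refine hCeq h h.2 (fun e => hh (Subtype.ext e)) ⟨hDO x.2, mem_centralizer_singleton_iff.2 ?_⟩
    rw [hc, mul_inv_eq_one, mul_inv_eq_iff_eq_mul] at hc1
    exact hc1.symm
  haveI : Nontrivial H := (nontrivial_iff_ne_bot H).2 hHne
  obtain ⟨p, hp, n, hn, ⟨P⟩⟩ := CfsgLib.Recog.Zassenhaus.exists_rep_of_fpf φ hfp
  haveI := hn
  haveI hHsol : Group.IsSolvable H := by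
    by_contra hns
    obtain ⟨S, -, -, ⟨e⟩⟩ := P.exists_normal_sl25 p hns
    exact hSL25 (S.map H.subtype) (map_subtype_le _)
      ⟨(S.equivMapOfInjective H.subtype H.subtype_injective).symm.trans e⟩
  -- the centraliser of `H` lies in `O H`
  have hCH : centralizer (H : Set G) ≤ O ⊔ H := by
    set Cg := centralizer (H : Set G) with hCg
    let Z := H.subgroupOf Cg
    haveI : Z.Normal := ⟨fun z hz g => by
      rw [mem_subgroupOf] at hz ⊢
      simp only [Subgroup.coe_mul, Subgroup.coe_inv]
      rw [← mem_centralizer_iff.1 g.2 _ hz, mul_inv_cancel_right]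
      exact hz⟩
    have hZidx : Z.index ∣ H.index := by
      set N := normalizer (H : Set G)
      haveI : (H.subgroupOf N).Normal := normal_in_normalizer
      have h1 := relIndex_dvd_index_of_normal (H.subgroupOf N) (Cg.subgroupOf N)
      rw [relIndex_subgroupOf (centralizer_le_normalizer _)] at h1
      exact h1.trans (Dvd.intro _ (relIndex_mul_index (le_normalizer : H ≤ N)))
    have hZc : (Nat.card Z).Coprime Z.index := by
      refine (hH.coprime_dvd_left ?_).coprime_dvd_right ?_
      · rw [show Nat.card Z = Nat.card (H ⊓ Cg : Subgroup G) from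
          (Nat.card_congr (Subgroup.subgroupOfEquivOfLe (inf_le_right : H ⊓ Cg ≤ Cg)).toEquiv).symm.trans
            (by rw [inf_subgroupOf_right]) |>.symm]
        exact card_dvd_of_le inf_le_left
      · have hCgN : Cg ≤ normalizer (H : Set G) := centralizer_le_normalizer _
        exact hZidx
    obtain ⟨K, hK⟩ := exists_left_complement'_of_coprime hZc
    have hKc : (Nat.card K).Coprime (Nat.card H) := by
      rw [← hK.index_eq_card]
      exact (hH.coprime_dvd_right hZidx).symm
    set K' := K.map Cg.subtype with hK'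
    have hK'card : Nat.card K' = Nat.card K := card_map_of_injective Cg.subtype_injective
    have hchar : ∀ y ∈ Cg, (orderOf y).Coprime (Nat.card H) → y ∈ K' := by
      intro y hy hyc
      obtain ⟨⟨⟨k, hk⟩, ⟨w, hw⟩⟩, hkz⟩ := (hK.existsUnique ⟨y, hy⟩).exists
      have hkz' : (k : G) * (w : G) = y := congrArg Subtype.val hkz
      have hcomm : Commute (k : G) (w : G) := (mem_centralizer_iff.1 k.2 _ hw).symm
      have h1 : orderOf (w : G) ∣ Nat.card H := H.orderOf_dvd_natCard hw
      have h2 : (w : G) ^ (Nat.card K * orderOf y) = 1 := by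
        have e1 : (k : G) ^ (Nat.card K * orderOf y) = 1 := by
          rw [pow_mul, ← Subgroup.coe_pow, show k ^ Nat.card K = 1 from
            congrArg Subtype.val (pow_card_eq_one' (x := (⟨k, hk⟩ : K))), OneMemClass.coe_one, one_pow]
        have e2 : ((k : G) * w) ^ (Nat.card K * orderOf y) = 1 := by
          rw [hkz', mul_comm, pow_mul, pow_orderOf_eq_one, one_pow]
        rwa [hcomm.mul_pow, e1, one_mul] at e2
      have hw1 : (w : G) = 1 := orderOf_eq_one_iff.1 (Nat.eq_one_of_dvd_coprimes
        (Nat.Coprime.mul_left hKc hyc) (orderOf_dvd_of_pow_eq_one h2) h1)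
      exact ⟨k, hk, by rw [← hkz', hw1, mul_one]; rfl⟩
    have hKn : ∀ g ∈ normalizer (H : Set G), ∀ y ∈ K', g * y * g⁻¹ ∈ K' := by
      intro g hg y hy
      have hyC : y ∈ Cg := map_subtype_le _ hy
      refine hchar _ ?_ ?_
      · rw [hCg, mem_centralizer_iff]
        intro h hh
        have h' := mem_centralizer_iff.1 hyC (g⁻¹ * h * g) ((mem_normalizer_iff.1 hg _).2 (by
          simpa [mul_assoc] using hh))
        have := congrArg (fun t => g * t * g⁻¹) h'
        simpa [mul_assoc] using this
      · rw [show g * y * g⁻¹ = MulAut.conj g y from rfl, MulEquiv.orderOf_eq]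
        exact hKc.coprime_dvd_left (hK'card ▸ K'.orderOf_dvd_natCard hy)
    have hOK : (O ⊔ K').Normal := by
      rw [← normalizer_eq_top_iff, eq_top_iff, ← htopG]
      refine sup_le (le_sup_left.trans le_normalizer) (fun g hg => ?_)
      rw [mem_normalizer_iff_conj_smul_eq, smul_sup]
      congr 1
      · exact mem_normalizer_iff_conj_smul_eq.1 (by rw [normalizer_eq_top]; exact mem_top g)
      · refine eq_of_le_of_card_ge ?_ (card_conj_smul _ _).ge
        intro y hy
        rw [mem_conj_smul_iff] at hy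
        have := hKn g hg _ hy
        simpa [mul_assoc] using this
    have hle : K' ≤ O := by
      refine le_sup_right.trans (hOmax (O ⊔ K') hOK ?_)
      rw [← relIndex_bot_left (O ⊔ K'), ← relIndex_mul_relIndex ⊥ O _ bot_le le_sup_left, relIndex_bot_left,
        sup_comm, relIndex_sup_right]
      exact Nat.Coprime.mul_left hOc (hKc.coprime_dvd_left (hK'card ▸ relIndex_dvd_card (H := O) (K := K')))
    intro y hy
    obtain ⟨⟨⟨k, hk⟩, ⟨w, hw⟩⟩, hkz⟩ := (hK.existsUnique ⟨y, hy⟩).exists
    have hy2 : (k : G) * (w : G) = y := congrArg Subtype.val hkz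
    rw [← hy2]
    exact mul_mem (mem_sup_left (hle ⟨k, hk, rfl⟩)) (mem_sup_right hw)
  -- the quotient by `O`
  set π := QuotientGroup.mk' O with hπ
  set Hb := H.map π with hHb
  haveI : Hb.Normal := by
    have : Hb = (O ⊔ H).map π := by
      rw [hHb, Subgroup.map_sup, hπ, QuotientGroup.map_mk'_self, bot_sup_eq]
    rw [this]
    exact hOH.map _ (QuotientGroup.mk'_surjective O)
  have hinjH : Function.Injective (π.comp H.subtype) := by
    rw [injective_iff_map_eq_one]
    intro a ha
    have hb : (a : G) ∈ O ⊓ H := ⟨(QuotientGroup.eq_one_iff _).1 ha, a.2⟩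
    rw [inf_eq_bot_of_coprime hOc, mem_bot] at hb
    exact Subtype.ext hb
  have eH : Hb ≃* H := ((MonoidHom.ofInjective hinjH).trans (MulEquiv.subgroupCongr (by
    rw [MonoidHom.range_eq_map, ← Subgroup.map_map, ← MonoidHom.range_eq_map, range_subtype]))).symm
  haveI : Group.IsSolvable (G ⧸ O) := by
    refine CfsgLib.Recog.Zassenhaus.isSolvable_of_selfCentralizing Hb
      (Group.isSolvable_of_surjective (f := eH.symm.toMonoidHom) eH.symm.surjective) ?_ ?_
    · intro y hy
      obtain ⟨y, rfl⟩ := QuotientGroup.mk'_surjective O y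
      obtain ⟨o, ho, m, hm, rfl⟩ := (mem_sup_iff_mul (hON _)).1
        (show y ∈ normalizer (H : Set G) ⊔ O by rw [sup_comm, htopG]; exact mem_top y)
      have hoC : o ∈ centralizer (H : Set G) := by
        rw [mem_centralizer_iff]
        intro h hh
        have h1 := mem_centralizer_iff.1 hy (π h) (mem_map_of_mem π hh)
        rw [show π (o * m) = π o by rw [map_mul, show π m = 1 from (QuotientGroup.eq_one_iff m).2 hm, mul_one],
          ← map_mul, ← map_mul] at h1
        have h2 : (h * o)⁻¹ * (o * h) ∈ O ⊓ H := by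
          refine ⟨QuotientGroup.eq.1 h1, ?_⟩
          have h3 := (mem_normalizer_iff.1 (inv_mem ho) h⁻¹).1 (inv_mem hh)
          rw [inv_inv] at h3
          simpa [mul_assoc] using mul_mem h3 hh
        rw [inf_eq_bot_of_coprime hOc, mem_bot, inv_mul_eq_one] at h2
        exact h2
      have hmem : o * m ∈ O ⊔ H := mul_mem (hCH hoC) (mem_sup_left hm)
      obtain ⟨a, ha, b, hb, hab⟩ := (mem_sup_iff_mul (hON _)).1 (show o * m ∈ H ⊔ O by rwa [sup_comm])
      rw [hab, map_mul, show π b = 1 from (QuotientGroup.eq_one_iff b).2 hb, mul_one]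
      exact mem_map_of_mem π ha
    · intro q _ Q hQ hQp
      set Q' := (Q.subgroupOf Hb).map eH.toMonoidHom with hQ'
      have e1 : Q ≃* Q' :=
        (subgroupOfEquivOfLe hQ).symm.trans ((Q.subgroupOf Hb).equivMapOfInjective eH.toMonoidHom eH.injective)
      rcases P.pGroup_cases Q' (hQp.of_equiv e1) with h | ⟨h2, k, ⟨e⟩⟩
      · exact Or.inl (isCyclic_of_surjective e1.symm.toMonoidHom e1.symm.surjective)
      · exact Or.inr ⟨h2, k, ⟨e1.trans e⟩⟩
  exact Group.isSolvable_of_ker_le_range O.subtype π (by rw [hπ, QuotientGroup.ker_mk', range_subtype])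

end Cfsg.Agent.S4118
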