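import Cfsg.Statements.S4155
import Cfsg.Agent.S4107
import Cfsg.Agent.Lib.Core.FPFComplement
import Cfsg.Agent.Lib.HallGen.Basic

set_option autoImplicit false
open Cfsg

namespace Cfsg.Agent.S4155

open Subgroup

theorem fitting_eq {G : Type*} [Group G] [Finite G] (N : Subgroup G) [N.Normal] (hN1 : N ≠ ⊥) (hN2 : N ≠ ⊤)
    (heq : ∀ x : G, x ∉ N → ∀ n ∈ N, orderOf (x * n) = orderOf x)
    (hnil : Group.IsNilpotent N) (hnpp : ¬ IsPrimePow (Nat.card N)) : N = Cfsg.fittingSubgroup G := by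
  refine le_antisymm (CfsgLib.Core.le_fittingSubgroup hnil) ?_
  rw [CfsgLib.Core.fittingSubgroup_eq_finset_sup]
  refine Finset.sup_le fun p hp => ?_
  have hp' := Nat.prime_of_mem_primeFactors hp
  haveI := Fact.mk hp'
  by_contra h
  obtain ⟨a, ha⟩ := (Cfsg.Agent.S4107.isPGroup_of_not_le heq h).exists_card_eq
  refine hnpp (ha ▸ hp'.prime.isPrimePow.pow ?_)
  rintro rfl
  exact hN1 (card_eq_one.1 ha)

theorem quotient_sylow {G : Type*} [Group G] [Finite G] (N : Subgroup G) [N.Normal]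
    (heq : ∀ x : G, x ∉ N → ∀ n ∈ N, orderOf (x * n) = orderOf x)
    (hnil : Group.IsNilpotent N) (hF : N = Cfsg.fittingSubgroup G)
    (hN1 : N ≠ ⊥) (hnpp : ¬ IsPrimePow (Nat.card N)) (q : ℕ) [Fact q.Prime] (Q : Sylow q (G ⧸ N)) :
    IsCyclic (Q : Subgroup (G ⧸ N)) ∨ ∃ n : ℕ, Nonempty ((Q : Subgroup (G ⧸ N)) ≃* QuaternionGroup (2 ^ n)) := by
  obtain ⟨r, hr, hrd, hrq⟩ : ∃ r, r.Prime ∧ r ∣ Nat.card N ∧ r ≠ q := by
    by_contra hcon
    push Not at hcon
    have h1 : Nat.card N = q ^ (Nat.card N).primeFactorsList.length :=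
      Nat.eq_prime_pow_of_unique_prime_dvd Nat.card_pos.ne' fun {d} hd hdd => hcon d hd hdd
    refine hnpp ?_
    rw [h1]
    refine (Fact.out : q.Prime).prime.isPrimePow.pow fun h => hN1 ?_
    rw [h, pow_zero] at h1
    exact card_eq_one.1 h1
  haveI := Fact.mk hr
  obtain ⟨z, hz⟩ := exists_prime_orderOf_dvd_card' (G := N) r hrd
  rw [← Subgroup.orderOf_coe] at hz
  set R := Cfsg.pCore r G
  set C := Cfsg.pCore q G
  have hRN : R ≤ N := hF ▸ CfsgLib.Core.pCore_le_fittingSubgroup r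
  have hCN : C ≤ N := hF ▸ CfsgLib.Core.pCore_le_fittingSubgroup q
  have hRC : R ⊓ C = ⊥ := (IsPGroup.disjoint_of_ne r q hrq R C (CfsgLib.Core.isPGroup_pCore r G)
    (CfsgLib.Core.isPGroup_pCore q G)).eq_bot
  obtain ⟨S, hS⟩ := (Sylow.mapSurjective_surjective (QuotientGroup.mk'_surjective N) q) Q
  have hSQ : (S : Subgroup G).map (QuotientGroup.mk' N) = (Q : Subgroup (G ⧸ N)) := by
    rw [← hS]; rfl
  set π := QuotientGroup.mk' C
  set A := (S : Subgroup G).map π with hA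
  set K := R.map π with hK
  haveI : K.Normal := Normal.map inferInstance π (QuotientGroup.mk'_surjective C)
  have hKne : K ≠ ⊥ := by
    intro h
    rw [hK, Subgroup.map_eq_bot_iff, QuotientGroup.ker_mk'] at h
    have hzR : (z : G) ∈ R := CfsgLib.HallGen.mem_pCore_of_mem_nilpotent_normal (N := N) inferInstance hnil z.2 (hz.trans (pow_one r).symm)
    have : (z : G) = 1 := mem_bot.1 (hRC ▸ ⟨hzR, h hzR⟩)
    rw [this, orderOf_one] at hz
    exact hr.one_lt.ne hz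
  have hfpf : ∀ a ∈ A, a ≠ 1 → K ⊓ centralizer {a} = ⊥ := by
    rintro _ ⟨x, hx, rfl⟩ ha1
    rw [eq_bot_iff]
    rintro _ ⟨⟨y, hy, rfl⟩, hc⟩
    have hxN : x ∉ N := fun hxN => by
      obtain ⟨k, hk⟩ := IsPGroup.iff_orderOf.1 S.2 ⟨x, hx⟩
      rw [Subgroup.orderOf_mk] at hk
      exact ha1 ((QuotientGroup.eq_one_iff x).2
        (CfsgLib.HallGen.mem_pCore_of_mem_nilpotent_normal (N := N) inferInstance hnil hxN hk))
    have hc' : π y * π x = π x * π y := mem_centralizer_singleton_iff.1 hc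
    rw [← map_mul, ← map_mul] at hc'
    have h1 : (y * x)⁻¹ * (x * y) ∈ R ⊓ C := by
      refine mem_inf.2 ⟨?_, (QuotientGroup.eq (s := C)).1 hc'⟩
      rw [mul_inv_rev, mul_assoc, ← mul_assoc y⁻¹]
      have : x⁻¹ * (y⁻¹ * x * y) = x⁻¹ * y⁻¹ * x * y := by group
      rw [this]
      exact mul_mem (Normal.conj_mem' inferInstance _ (inv_mem hy) x) hy
    rw [hRC, mem_bot, inv_mul_eq_one] at h1
    have h2 := Cfsg.Agent.S4107.orderOf_dvd_of_commute heq hxN (hRN hy) h1.symm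
    obtain ⟨i, hi⟩ := IsPGroup.iff_orderOf.1 (CfsgLib.Core.isPGroup_pCore r G) ⟨y, hy⟩
    obtain ⟨k, hk⟩ := IsPGroup.iff_orderOf.1 S.2 ⟨x, hx⟩
    rw [Subgroup.orderOf_mk] at hi hk
    rw [hi, hk] at h2
    have : orderOf y = 1 := by
      rw [hi]
      exact Nat.eq_one_of_dvd_coprimes (((Nat.coprime_primes hr Fact.out).2 hrq).pow i k) dvd_rfl h2
    rw [mem_bot, orderOf_eq_one_iff.1 this, map_one]
  obtain ⟨P⟩ : Nonempty (Sylow q A) := inferInstance
  have hP : (P : Subgroup A) = ⊤ := (P.is_maximal' (Q := ⊤)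
    ((S.2.map π).of_equiv Subgroup.topEquiv.symm) le_top).symm
  let eP : (P : Subgroup A) ≃* A := (MulEquiv.subgroupCongr hP).trans Subgroup.topEquiv
  let f : A →* (Q : Subgroup (G ⧸ N)) :=
    ((QuotientGroup.map C N (MonoidHom.id G) hCN).comp A.subtype).codRestrict _ (by
      rintro ⟨_, x, hx, rfl⟩
      rw [← hSQ]
      exact ⟨x, hx, rfl⟩)
  have hf : Function.Bijective f := by
    refine ⟨(injective_iff_map_eq_one _).2 ?_, ?_⟩
    · rintro ⟨_, x, hx, rfl⟩ h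
      have h1 : QuotientGroup.mk' N x = 1 := congrArg Subtype.val h
      have hxN : x ∈ N := (QuotientGroup.eq_one_iff x).1 h1
      obtain ⟨k, hk⟩ := IsPGroup.iff_orderOf.1 S.2 ⟨x, hx⟩
      rw [Subgroup.orderOf_mk] at hk
      exact Subtype.ext ((QuotientGroup.eq_one_iff x).2
        (CfsgLib.HallGen.mem_pCore_of_mem_nilpotent_normal (N := N) inferInstance hnil hxN hk))
    · rintro ⟨y, hy⟩
      rw [← hSQ] at hy
      obtain ⟨x, hx, rfl⟩ := hy
      exact ⟨⟨π x, x, hx, rfl⟩, rfl⟩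
  let e : (P : Subgroup A) ≃* (Q : Subgroup (G ⧸ N)) := eP.trans (MulEquiv.ofBijective f hf)
  rcases CfsgLib.Core.FPF.sylow_cyclic_or_quaternion (CfsgLib.Core.le_normalizer_of_normal A K) hfpf hKne P with h | ⟨-, n, ⟨g⟩⟩
  · exact Or.inl (e.isCyclic.1 h)
  · exact Or.inr ⟨n, ⟨e.symm.trans g⟩⟩

/-- Let G be a finite group and N a proper non-trivial normal nilpotent subgroup whose order is not a prime power, such that for every x outside N all elements of the coset xN have the same order as x. Then N is the Fitting subgroup of G, and for every prime q every Sylow q-subgroup of G/N is cyclic or generalized quaternion. -/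
theorem result {G : Type*} [Group G] [Finite G] (N : Subgroup G) [N.Normal] (hN1 : N ≠ ⊥) (hN2 : N ≠ ⊤)
    (heq : ∀ x : G, x ∉ N → ∀ n ∈ N, orderOf (x * n) = orderOf x)
    (hnil : Group.IsNilpotent N) (hnpp : ¬ IsPrimePow (Nat.card N)) :
    N = Cfsg.fittingSubgroup G ∧
    ∀ (q : ℕ) [Fact q.Prime] (Q : Sylow q (G ⧸ N)), IsCyclic (Q : Subgroup (G ⧸ N)) ∨ ∃ n : ℕ, Nonempty ((Q : Subgroup (G ⧸ N)) ≃* QuaternionGroup (2 ^ n)) := by
  have hF := fitting_eq N hN1 hN2 heq hnil hnpp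
  exact ⟨hF, fun q _ Q => quotient_sylow N heq hnil hF hN1 hnpp q Q⟩

end Cfsg.Agent.S4155
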