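import Cfsg.Statements.S4140
import Cfsg.Agent.Lib.ClassSizes.CosetOrders
import Cfsg.Agent.Lib.Transfer.Fusion
import Cfsg.Agent.S4155

set_option autoImplicit false
open Cfsg

namespace Cfsg.Agent.S4140

universe v

open Subgroup
open scoped Pointwise

/-- A group whose order is not a prime power has a `q`-element normalizing a nontrivial `p`-subgroup. -/
theorem exists_pair {X : Type v} [Group X] [Finite X] (hX : ¬ IsPrimePow (Nat.card X)) (hX1 : Nontrivial X) :
    ∃ (p q : ℕ) (P : Subgroup X) (y : X), p.Prime ∧ q.Prime ∧ p ≠ q ∧ P ≠ ⊥ ∧ IsPGroup p P ∧ orderOf y = q ∧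
      y ∈ normalizer (P : Set X) := by
  by_contra hcon
  push Not at hcon
  have hcomp : ∀ p : ℕ, p.Prime → Cfsg.HasNormalPComplement p X := by
    intro p hp
    haveI := Fact.mk hp
    obtain ⟨S⟩ : Nonempty (Sylow p X) := inferInstance
    refine CfsgLib.Transfer.hasNormalPComplement_of_centralizes S fun Q hQS g hg hcop => ?_
    by_cases hQ : Q = ⊥
    · rw [hQ]
      exact mem_centralizer_iff.2 fun z hz => by rw [(mem_bot.1 hz : z = 1), one_mul, mul_one]
    by_cases hg1 : g = 1
    · rw [hg1]; exact one_mem _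
    obtain ⟨q, hq, hqd⟩ := Nat.exists_prime_and_dvd (mt orderOf_eq_one_iff.1 hg1)
    exact absurd (pow_mem hg _) (hcon p q Q (g ^ (orderOf g / q)) hp hq
      (fun e => hq.one_lt.ne' (Nat.eq_one_of_dvd_coprimes hcop hqd (e ▸ dvd_rfl)))
      hQ (S.2.to_le hQS) (orderOf_pow_orderOf_div (orderOf_pos g).ne' hqd))
  obtain ⟨p, hp, hpd⟩ := Nat.exists_prime_and_dvd (Finite.one_lt_card (α := X)).ne'
  haveI := Fact.mk hp
  obtain ⟨K, hK, hKc, hKq⟩ := CfsgLib.Transfer.hasNormalPComplement_iff_exists.1 (hcomp p hp)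
  haveI := hK
  obtain ⟨a, ha⟩ := hKq.exists_card_eq
  have hcard : Nat.card X = Nat.card K * p ^ a := by
    rw [← card_mul_index K, index_eq_card, ha]
  have ha0 : a ≠ 0 := by
    rintro rfl
    rw [pow_zero, mul_one] at hcard
    exact hp.one_lt.ne' (Nat.eq_one_of_dvd_coprimes hKc (hcard ▸ hpd) dvd_rfl)
  have hK1 : Nat.card K ≠ 1 := fun e => hX (by
    rw [hcard, e, one_mul]
    exact hp.prime.isPrimePow.pow ha0)
  obtain ⟨q, hq, hqd⟩ := Nat.exists_prime_and_dvd hK1
  haveI := Fact.mk hq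
  obtain ⟨Q⟩ : Nonempty (Sylow q K) := inferInstance
  set Qm := (Q : Subgroup K).map K.subtype
  have hfr : normalizer (Qm : Set X) ⊔ K = ⊤ := Sylow.normalizer_sup_eq_top Q
  have hpN : p ∣ Nat.card (normalizer (Qm : Set X)) := by
    have h1 : K.relIndex (normalizer (Qm : Set X)) = K.index := by
      rw [← relIndex_sup_right _ K, hfr, relIndex_top_right]
    refine dvd_trans ?_ (index_dvd_card (K.subgroupOf (normalizer (Qm : Set X))))
    show p ∣ K.relIndex _
    rw [h1, index_eq_card, ha]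
    exact dvd_pow_self p ha0
  obtain ⟨⟨y, hy⟩, hyo⟩ := exists_prime_orderOf_dvd_card' p hpN
  refine hcon q p Qm y hq hp (fun e => hq.one_lt.ne' (Nat.eq_one_of_dvd_coprimes hKc hqd (e ▸ dvd_rfl))) ?_
    (Q.2.map _) (by rwa [Subgroup.orderOf_mk] at hyo) hy
  intro h
  exact Q.ne_bot_of_dvd_card hqd ((map_eq_bot_iff_of_injective _ K.subtype_injective).1 h)

theorem nilpotent_of_not_isPrimePow {G : Type v} [Group G] [Finite G] (N : Subgroup G) [N.Normal] (hN2 : N ≠ ⊤)
    (heq : ∀ x : G, x ∉ N → ∀ n ∈ N, orderOf (x * n) = orderOf x) (hi : ¬ IsPrimePow N.index) :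
    Group.IsNilpotent N := by
  haveI : Nontrivial (G ⧸ N) := QuotientGroup.nontrivial_iff.2 hN2
  rw [index_eq_card] at hi
  obtain ⟨p, q, P, y, hp, hq, hpq, hP, hPp, hyo, hy⟩ := exists_pair hi inferInstance
  haveI := Fact.mk hp
  set W := zpowers y ⊔ P with hW
  set π := QuotientGroup.mk' N
  set L := W.comap π with hL
  have hNL : N ≤ L := fun x hx => by
    show π x ∈ W
    rw [show π x = 1 from (QuotientGroup.eq_one_iff x).2 hx]
    exact one_mem _
  set M := (P.comap π).subgroupOf L with hM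
  have hyP : zpowers y ≤ normalizer (P : Set (G ⧸ N)) := zpowers_le.2 hy
  have hWc : Nat.card W = q * Nat.card P := by
    obtain ⟨a, ha⟩ := hPp.exists_card_eq
    rw [hW, CfsgLib.Core.card_sup_of_disjoint _ _ hyP, Nat.card_zpowers, hyo]
    refine (disjoint_of_coprime_natCard ?_).eq_bot
    rw [Nat.card_zpowers, hyo, ha]
    exact (((Nat.coprime_primes hp hq).2 hpq).pow_left a).symm
  haveI hMn : M.Normal := by
    refine normal_subgroupOf_of_le_normalizer ?_
    have hWP : W ≤ normalizer (P : Set (G ⧸ N)) := sup_le hyP le_normalizer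
    exact (comap_mono hWP).trans (le_normalizer_comap π)
  have hsurj := QuotientGroup.mk'_surjective N
  have hset : CfsgLib.ClassSizes.CosetOrders.Setup q (N.subgroupOf L) M := by
    have hMi : M.index = q := by
      show (P.comap π).relIndex L = q
      rw [hL, relIndex_comap, map_comap_eq_self_of_surjective hsurj]
      refine Nat.eq_of_mul_eq_mul_left (Nat.card_pos (α := P)) ?_
      rw [← relIndex_bot_left, relIndex_mul_relIndex ⊥ P W bot_le le_sup_right, relIndex_bot_left, hWc,
        relIndex_bot_left, mul_comm]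
    have hrel : (N.subgroupOf L).relIndex M = Nat.card P := by
      have h1 : N.subgroupOf L ≤ M := fun x hx => by
        show π x ∈ P
        rw [show π (x : G) = 1 from (QuotientGroup.eq_one_iff (x : G)).2 hx]
        exact one_mem _
      refine Nat.eq_of_mul_eq_mul_right hq.pos ?_
      conv_lhs => rw [← hMi, relIndex_mul_index h1]
      show N.relIndex L = _
      rw [← CfsgLib.Core.card_map_mk' N L, map_comap_eq_self_of_surjective hsurj, hWc, mul_comm]
    refine ⟨inferInstance, hMn, lt_of_le_of_ne (fun x hx => ?_) fun e => hP ?_, hMi, ?_⟩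
    · show π x ∈ P
      rw [show π (x : G) = 1 from (QuotientGroup.eq_one_iff (x : G)).2 hx]
      exact one_mem _
    · rw [← card_eq_one, ← hrel, e, relIndex_self]
    · rw [hrel]
      obtain ⟨a, ha⟩ := hPp.exists_card_eq
      rw [ha]
      exact fun hd => hpq ((Nat.prime_dvd_prime_iff_eq hq hp).1 (hq.dvd_of_dvd_pow hd)).symm
  have h := CfsgLib.ClassSizes.CosetOrders.isNilpotent_of_orderOf_eq hq (fun x hx n hn => by
    rw [← Subgroup.orderOf_coe, ← Subgroup.orderOf_coe x]
    exact heq x hx n hn) hset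
  haveI := h
  exact Group.nilpotent_of_mulEquiv (subgroupOfEquivOfLe hNL)

/-- The centralizer of an element has the order of that of its image. -/
theorem card_centralizer {G : Type v} [Group G] [Finite G] (N : Subgroup G) [N.Normal]
    (hcam : ∀ g : G, g ∉ N → ∀ n ∈ N, ∃ x : G, x * g * x⁻¹ = g * n) {g : G} (hg : g ∉ N) :
    Nat.card (centralizer ({g} : Set G)) =
      Nat.card (centralizer ({QuotientGroup.mk' N g} : Set (G ⧸ N))) := by
  set π := QuotientGroup.mk' N
  set K := (centralizer ({π g} : Set (G ⧸ N))).comap π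
  have hCK : centralizer ({g} : Set G) ≤ K := fun x hx => by
    show π x ∈ centralizer ({π g} : Set (G ⧸ N))
    rw [mem_centralizer_singleton_iff, ← map_mul, ← map_mul, mem_centralizer_singleton_iff.1 hx]
  have hNK : N ≤ K := fun x hx => by
    show π x ∈ centralizer ({π g} : Set (G ⧸ N))
    rw [show π x = 1 from (QuotientGroup.eq_one_iff x).2 hx]
    exact one_mem _
  have hKN : Nat.card K = Nat.card N * Nat.card (centralizer ({π g} : Set (G ⧸ N))) := by
    rw [← relIndex_bot_left, ← relIndex_mul_relIndex ⊥ N K bot_le hNK, relIndex_bot_left,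
      ← CfsgLib.Core.card_map_mk' N K, map_comap_eq_self_of_surjective (QuotientGroup.mk'_surjective N)]
  have hKC : Nat.card (centralizer ({g} : Set G)) * Nat.card N = Nat.card K := by
    conv_rhs => rw [← card_mul_index ((centralizer ({g} : Set G)).subgroupOf K),
      Nat.card_congr (subgroupOfEquivOfLe hCK).toEquiv, index]
    congr 1
    symm
    let f : (K : Subgroup G) ⧸ (centralizer ({g} : Set G)).subgroupOf K → N :=
      fun c => Quotient.liftOn' c (fun k => ⟨g⁻¹ * ((k : G) * g * (k : G)⁻¹), by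
        have hk : π (k : G) * π g = π g * π (k : G) := mem_centralizer_singleton_iff.1 k.2
        refine (QuotientGroup.eq_one_iff _).1 ?_
        show π (g⁻¹ * ((k : G) * g * (k : G)⁻¹)) = 1
        rw [map_mul, map_mul, map_mul, map_inv, map_inv, hk, mul_inv_cancel_right, inv_mul_cancel]⟩)
        fun a b hab => by
          have h1 : ((a : G)⁻¹ * (b : G)) * g = g * ((a : G)⁻¹ * (b : G)) :=
            mem_centralizer_singleton_iff.1 ((QuotientGroup.leftRel_apply (s := (centralizer ({g} : Set G)).subgroupOf K)).1 hab)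
          refine Subtype.ext ?_
          show g⁻¹ * ((a : G) * g * (a : G)⁻¹) = g⁻¹ * ((b : G) * g * (b : G)⁻¹)
          congr 1
          calc (a : G) * g * (a : G)⁻¹
              = (a : G) * (g * ((a : G)⁻¹ * b)) * (b : G)⁻¹ := by group
            _ = (a : G) * (((a : G)⁻¹ * b) * g) * (b : G)⁻¹ := by rw [h1]
            _ = _ := by group
    refine Nat.card_congr (Equiv.ofBijective f ⟨fun c d => ?_, fun n => ?_⟩)
    · induction c using QuotientGroup.induction_on with
      | H a => induction d using QuotientGroup.induction_on with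
        | H b =>
          intro h
          have h1 : (a : G) * g * (a : G)⁻¹ = (b : G) * g * (b : G)⁻¹ :=
            mul_left_cancel (congrArg Subtype.val h)
          refine QuotientGroup.eq.2 (mem_centralizer_singleton_iff.2 ?_)
          show ((a : G)⁻¹ * b) * g = g * ((a : G)⁻¹ * b)
          calc ((a : G)⁻¹ * b) * g = (a : G)⁻¹ * ((b : G) * g * (b : G)⁻¹) * b := by group
            _ = (a : G)⁻¹ * ((a : G) * g * (a : G)⁻¹) * b := by rw [h1]
            _ = _ := by group
    · obtain ⟨x, hx⟩ := hcam g hg n n.2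
      have hxK : x ∈ K := by
        show π x ∈ centralizer ({π g} : Set (G ⧸ N))
        rw [mem_centralizer_singleton_iff]
        have h1 := congrArg π hx
        rw [map_mul, map_mul, map_mul, map_inv, show π (n : G) = 1 from (QuotientGroup.eq_one_iff (n : G)).2 n.2,
          mul_one, mul_inv_eq_iff_eq_mul] at h1
        exact h1
      refine ⟨QuotientGroup.mk (⟨x, hxK⟩ : K), Subtype.ext ?_⟩
      show g⁻¹ * (x * g * x⁻¹) = n
      rw [hx, inv_mul_cancel_left]
  rw [hKN, mul_comm] at hKC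
  exact Nat.eq_of_mul_eq_mul_left Nat.card_pos hKC

/-- An element whose centralizer in `Q` is the cyclic group it generates. -/
theorem exists_self_centralizing {Q : Type v} [Group Q] [Finite Q]
    (h : IsCyclic Q ∨ ∃ n : ℕ, Nonempty (Q ≃* QuaternionGroup (2 ^ n))) :
    ∃ z : Q, ∀ u v : Q, orderOf u = orderOf z → Commute u v → v ∈ zpowers u := by
  have hcyc : ∀ z : Q, orderOf z = Nat.card Q →
      ∀ u v : Q, orderOf u = orderOf z → Commute u v → v ∈ zpowers u := by
    intro z hz u v hu _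
    have : zpowers u = ⊤ := by
      rw [← card_eq_iff_eq_top, Nat.card_zpowers, hu, hz]
    exact this ▸ mem_top v
  rcases h with h | ⟨n, ⟨e⟩⟩
  · obtain ⟨z, hz⟩ := h.exists_generator
    exact ⟨z, hcyc z (orderOf_eq_card_of_forall_mem_zpowers hz)⟩
  haveI : NeZero (2 ^ n) := ⟨(Nat.two_pow_pos n).ne'⟩
  have hQc : Nat.card Q = 4 * 2 ^ n := by
    rw [Nat.card_congr e.toEquiv, Nat.card_eq_fintype_card, QuaternionGroup.card]
  rcases n with _ | n
  · refine ⟨e.symm (QuaternionGroup.xa 0), hcyc _ ?_⟩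
    rw [MulEquiv.orderOf_eq, QuaternionGroup.orderOf_xa, hQc]
    rfl
  refine ⟨e.symm (QuaternionGroup.a 1), fun u v hu huv => ?_⟩
  rw [MulEquiv.orderOf_eq, QuaternionGroup.orderOf_a_one] at hu
  by_contra hv
  set C := closure ({u, v} : Set Q) with hC
  have hlt : zpowers u < C := lt_of_le_of_ne (zpowers_le.2 (subset_closure (Or.inl rfl)))
    fun e' => hv (e' ▸ subset_closure (Or.inr rfl))
  have htop : C = ⊤ := by
    have h1 := CfsgLib.Transfer.card_lt_of_lt hlt
    rw [Nat.card_zpowers, hu] at h1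
    rw [← card_eq_iff_eq_top]
    refine ((Nat.le_of_dvd Nat.card_pos (card_subgroup_dvd_card C)).antisymm ?_)
    by_contra hlt2
    have h2 := card_dvd_of_le hlt.le
    rw [Nat.card_zpowers, hu] at h2
    obtain ⟨k, hk⟩ := h2
    rw [hQc] at hlt2
    rcases k with _ | _ | k
    · omega
    · omega
    · rw [hk] at hlt2
      apply hlt2
      calc 4 * 2 ^ (n + 1) = 2 * 2 ^ (n + 1) * 2 := by ring
        _ ≤ 2 * 2 ^ (n + 1) * (k + 1 + 1) := Nat.mul_le_mul_left _ (by omega)
  have hcom : ∀ s t : Q, s * t = t * s := by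
    have h1 : C ≤ centralizer (C : Set Q) := by
      rw [hC, centralizer_closure, closure_le]
      rintro x (rfl | rfl) <;> refine mem_centralizer_iff.2 ?_ <;> rintro z (rfl | rfl)
      · rfl
      · exact huv.eq.symm
      · exact huv.eq
      · rfl
    intro s t
    exact (mem_centralizer_iff.1 (h1 (htop ▸ mem_top s)) t (htop ▸ mem_top t : t ∈ C)).symm
  have h2 : QuaternionGroup.a 1 * QuaternionGroup.xa 0 =
      (QuaternionGroup.xa 0 * QuaternionGroup.a 1 : QuaternionGroup (2 ^ (n + 1))) :=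
    e.symm.injective (by rw [map_mul, map_mul]; exact hcom _ _)
  rw [QuaternionGroup.a_mul_xa, QuaternionGroup.xa_mul_a] at h2
  injection h2 with h3
  have h4 : ((2 : ℕ) : ZMod (2 * 2 ^ (n + 1))) = 0 := by
    push_cast
    linear_combination -h3
  rw [ZMod.natCast_eq_zero_iff] at h4
  have := Nat.le_of_dvd two_pos h4
  have := Nat.two_pow_pos n
  rw [pow_succ] at *
  omega

theorem main {G : Type v} [Group G] [Finite G] (N : Subgroup G) [N.Normal] (hN1 : N ≠ ⊥) (hN2 : N ≠ ⊤)
    (hcam : ∀ g : G, g ∉ N → ∀ n ∈ N, ∃ x : G, x * g * x⁻¹ = g * n)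
    (hN : ¬ IsPrimePow (Nat.card N)) (hi : ¬ IsPrimePow N.index) :
    ∀ x ∈ N, x ≠ 1 → centralizer ({x} : Set G) ≤ N := by
  have heq : ∀ x : G, x ∉ N → ∀ n ∈ N, orderOf (x * n) = orderOf x := by
    intro x hx n hn
    obtain ⟨y, hy⟩ := hcam x hx n hn
    rw [← hy]
    exact (MulAut.conj y).orderOf_eq x
  have hnil := nilpotent_of_not_isPrimePow N hN2 heq hi
  have hF := Cfsg.Agent.S4155.fitting_eq N hN1 hN2 heq hnil hN
  intro x hx hx1 g hg
  by_contra hgN
  obtain ⟨p, g', hp, hg'g, hg'N, k, hk⟩ : ∃ (p : ℕ) (g' : G), p.Prime ∧ g' ∈ zpowers g ∧ g' ∉ N ∧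
      ∃ k, orderOf g' = p ^ k := by
    by_contra hcon
    push Not at hcon
    refine hgN (CfsgLib.HallGen.mem_of_primePow_parts N g fun z hz r k hr hk => ?_)
    by_contra hzN
    exact hcon r z hr hz hzN k hk
  haveI := Fact.mk hp
  have hcomm : Commute g' x := by
    obtain ⟨i, rfl⟩ := mem_zpowers_iff.1 hg'g
    exact Commute.zpow_left (mem_centralizer_singleton_iff.1 hg) i
  obtain ⟨j, hj⟩ := CfsgLib.ClassSizes.CosetOrders.pp_cent (CfsgLib.ClassSizes.CosetOrders.pp_of_orderOf_eq heq)
    hp hg'N ⟨k, hk⟩ hx hcomm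
  obtain ⟨S, hS⟩ := (IsPGroup.of_card (n := k) (by rw [Nat.card_zpowers, hk]) : IsPGroup p (zpowers g')).exists_le_sylow
  set π := QuotientGroup.mk' N
  set Q := S.mapSurjective (QuotientGroup.mk'_surjective N)
  obtain ⟨z, hz⟩ := exists_self_centralizing (Cfsg.Agent.S4155.quotient_sylow N heq hnil hF hN1 hN p Q)
  obtain ⟨g₁, hg₁, hg₁z⟩ : ∃ g₁ ∈ (S : Subgroup G), π g₁ = (z : G ⧸ N) := z.2
  have hQ1 : Nontrivial (Q : Subgroup (G ⧸ N)) := by
    refine ⟨⟨⟨π g', mem_map_of_mem π (hS (mem_zpowers g'))⟩, 1, fun e => hg'N ?_⟩⟩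
    exact (QuotientGroup.eq_one_iff g').1 (congrArg Subtype.val e)
  have hz1 : z ≠ 1 := by
    rintro rfl
    obtain ⟨w, hw⟩ := exists_ne (1 : (Q : Subgroup (G ⧸ N)))
    have := hz 1 w rfl (Commute.one_left w)
    rw [zpowers_one_eq_bot, mem_bot] at this
    exact hw this
  have hg₁N : g₁ ∉ N := fun h => hz1 (Subtype.ext (hg₁z.symm.trans ((QuotientGroup.eq_one_iff g₁).2 h)))
  -- a nontrivial element of `N` in the center of `S`
  set D := N.subgroupOf (S : Subgroup G)
  have hD : D ≠ ⊥ := by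
    intro hD
    obtain ⟨T, hT⟩ := (IsPGroup.of_card (n := j) (by rw [Nat.card_zpowers, hj]) : IsPGroup p (zpowers x)).exists_le_sylow
    obtain ⟨c, hc⟩ := MulAction.exists_smul_eq G T S
    have hcx : c * x * c⁻¹ ∈ (S : Subgroup G) := by
      rw [← hc]
      exact ⟨x, hT (mem_zpowers x), rfl⟩
    have : (⟨c * x * c⁻¹, hcx⟩ : (S : Subgroup G)) ∈ D := Normal.conj_mem inferInstance x hx c
    rw [hD, mem_bot] at this
    exact hx1 (conj_eq_one_iff.1 (congrArg Subtype.val this))
  obtain ⟨⟨w, hw⟩, hw1⟩ := ne_bot_iff_exists_ne_one.1 (CfsgLib.PGroups.inf_center_ne_bot S.2 hD)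
  set B := closure ({g₁, (w : G)} : Set G) with hB
  have hBS : B ≤ (S : Subgroup G) := (closure_le _).2 (by rintro _ (rfl | rfl); exacts [hg₁, w.2])
  have hwg : Commute g₁ (w : G) := congrArg Subtype.val (mem_center_iff.1 (mem_inf.1 hw).2 ⟨g₁, hg₁⟩)
  have hBC : B ≤ centralizer ({g₁} : Set G) := (closure_le _).2 (by
    rintro _ (rfl | rfl)
    · exact mem_centralizer_singleton_iff.2 rfl
    · exact mem_centralizer_singleton_iff.2 hwg.eq.symm)
  obtain ⟨b, hb⟩ := (S.2.to_le hBS).exists_card_eq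
  have hdvd : p ^ b ∣ Nat.card (centralizer ({(z : G ⧸ N)} : Set (G ⧸ N))) := by
    rw [← hg₁z, ← card_centralizer N hcam hg₁N, ← hb]
    exact card_dvd_of_le hBC
  obtain ⟨R₀, hR₀⟩ := Sylow.exists_subgroup_card_pow_prime p hdvd
  set R := R₀.map (centralizer ({(z : G ⧸ N)} : Set (G ⧸ N))).subtype
  have hRc : R ≤ centralizer ({(z : G ⧸ N)} : Set (G ⧸ N)) := map_subtype_le _
  have hzR : zpowers (z : G ⧸ N) ≤ normalizer (R : Set (G ⧸ N)) := zpowers_le.2
    (centralizer_le_normalizer _ (mem_centralizer_iff.2 fun r hr => mem_centralizer_singleton_iff.1 (hRc hr)))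
  have hW : IsPGroup p (zpowers (z : G ⧸ N) ⊔ R : Subgroup (G ⧸ N)) :=
    ((Q.2.to_le (zpowers_le.2 z.2))).to_sup_of_normal_right' (IsPGroup.of_card (n := b) (by
      rw [card_map_of_injective (Subgroup.subtype_injective _), hR₀])) hzR
  obtain ⟨U, hU⟩ := hW.exists_le_sylow
  obtain ⟨c, hc⟩ := MulAction.exists_smul_eq (G ⧸ N) U Q
  have hmem : ∀ r ∈ zpowers (z : G ⧸ N) ⊔ R, c * r * c⁻¹ ∈ (Q : Subgroup (G ⧸ N)) := fun r hr => by
    rw [← hc]
    exact ⟨r, hU hr, rfl⟩
  have hRle : Nat.card R ≤ orderOf z := by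
    rw [← Nat.card_zpowers]
    have hzz := hmem _ (mem_sup_left (mem_zpowers (z : G ⧸ N)))
    set u : (Q : Subgroup (G ⧸ N)) := ⟨_, hzz⟩ with hu
    have huo : orderOf u = orderOf z := by
      rw [hu, Subgroup.orderOf_mk, ← Subgroup.orderOf_coe z]
      exact (MulAut.conj c).orderOf_eq _
    rw [show Nat.card (zpowers z) = Nat.card (zpowers u) by rw [Nat.card_zpowers, Nat.card_zpowers, huo]]
    refine Nat.card_le_card_of_injective (fun r : R => (⟨⟨_, hmem r (mem_sup_right r.2)⟩, hz u _ huo ?_⟩ : zpowers u))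
      fun r r' h => ?_
    · have h1 : (r : G ⧸ N) * z = z * (r : G ⧸ N) := mem_centralizer_singleton_iff.1 (hRc r.2)
      refine Subtype.ext ?_
      show (c * (z : G ⧸ N) * c⁻¹) * (c * r * c⁻¹) = (c * r * c⁻¹) * (c * z * c⁻¹)
      calc (c * (z : G ⧸ N) * c⁻¹) * (c * r * c⁻¹) = c * ((z : G ⧸ N) * r) * c⁻¹ := by group
        _ = c * ((r : G ⧸ N) * z) * c⁻¹ := by rw [h1]
        _ = _ := by group
    · have h1 := congrArg (fun t : zpowers u => ((t : (Q : Subgroup (G ⧸ N))) : G ⧸ N)) h
      exact Subtype.ext (by simpa using h1)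
  have hRb : Nat.card R = Nat.card B := by rw [card_map_of_injective (Subgroup.subtype_injective _), hR₀, hb]
  have hzB : orderOf z * 2 ≤ Nat.card B := by
    have h1 : orderOf z ∣ N.relIndex B := by
      rw [← CfsgLib.Core.card_map_mk' N B, ← Nat.card_zpowers, ← card_map_of_injective
        (Subgroup.subtype_injective (Q : Subgroup (G ⧸ N))) (K := zpowers z), MonoidHom.map_zpowers]
      refine card_dvd_of_le (zpowers_le.2 ⟨g₁, subset_closure (Or.inl rfl), hg₁z⟩)
    have h2 : 1 < Nat.card (N ⊓ B : Subgroup G) := by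
      refine lt_of_le_of_ne Nat.card_pos fun e => hw1 ?_
      have h3 : (w : G) ∈ N ⊓ B := ⟨(mem_inf.1 hw).1, subset_closure (Or.inr rfl)⟩
      rw [card_eq_one.1 e.symm, mem_bot] at h3
      exact Subtype.ext (Subtype.ext h3)
    have h3 : Nat.card (N ⊓ B : Subgroup G) * N.relIndex B = Nat.card B := by
      rw [← inf_relIndex_right N B, ← relIndex_bot_left, relIndex_mul_relIndex ⊥ _ _ bot_le inf_le_right,
        relIndex_bot_left]
    rw [← h3, mul_comm]
    exact Nat.mul_le_mul h2 (Nat.le_of_dvd (Nat.pos_of_ne_zero ((N.subgroupOf B).index_ne_zero_of_finite)) h1)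
  have := orderOf_pos z
  omega

/-- Let G be a finite group and N a proper non-trivial normal subgroup such that for every g outside N the conjugacy class of g is a union of cosets of N (equivalently gn is conjugate to g for every n ∈ N). Then either every element of G outside N acts fixed-point-freely on N (C_G(x) ≤ N for all x ∈ N, x ≠ 1, so G is a Frobenius group with kernel N), or N has prime-power order, or G/N has prime-power order. -/
theorem result {G : Type*} [Group G] [Finite G] (N : Subgroup G) [N.Normal] (hN1 : N ≠ ⊥) (hN2 : N ≠ ⊤)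
    (hcam : ∀ g : G, g ∉ N → ∀ n ∈ N, ∃ x : G, x * g * x⁻¹ = g * n) :
    (∀ x ∈ N, x ≠ 1 → Subgroup.centralizer ({x} : Set G) ≤ N) ∨ IsPrimePow (Nat.card N) ∨ IsPrimePow N.index := by
  by_cases hN : IsPrimePow (Nat.card N)
  · exact Or.inr (Or.inl hN)
  by_cases hi : IsPrimePow N.index
  · exact Or.inr (Or.inr hi)
  exact Or.inl (main N hN1 hN2 hcam hN hi)

end Cfsg.Agent.S4140
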