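import Cfsg.Statements.S4142


set_option autoImplicit false
open Cfsg

namespace Cfsg.Agent.S4142

/-- Let G be a finite group and N a normal subgroup. Then the conjugacy class of every element g outside N is a union of cosets of N (gn is conjugate to g for all n ∈ N) if and only if for every g outside N the centralizer of g in G has the same order as the centralizer of gN in G/N. -/
theorem result {G : Type*} [Group G] [Finite G] (N : Subgroup G) [N.Normal] :
    (∀ g : G, g ∉ N → ∀ n ∈ N, ∃ x : G, x * g * x⁻¹ = g * n) ↔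
      ∀ g : G, g ∉ N → Nat.card (Subgroup.centralizer ({g} : Set G)) =
        Nat.card (Subgroup.centralizer ({(QuotientGroup.mk g : G ⧸ N)} : Set (G ⧸ N))) := by
  classical
  have key : ∀ g : G, g ∉ N →
      ((∀ n ∈ N, ∃ x : G, x * g * x⁻¹ = g * n) ↔
        Nat.card (Subgroup.centralizer ({g} : Set G)) =
          Nat.card (Subgroup.centralizer ({(QuotientGroup.mk g : G ⧸ N)} : Set (G ⧸ N)))) := by
    intro g _
    set C := (Subgroup.centralizer ({(QuotientGroup.mk g : G ⧸ N)} : Set (G ⧸ N))).comap (QuotientGroup.mk' N) with hC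
    have hmem : ∀ x : G, x ∈ C ↔ g⁻¹ * (x * g * x⁻¹) ∈ N := by
      intro x
      rw [hC, Subgroup.mem_comap, Subgroup.mem_centralizer_singleton_iff, ← QuotientGroup.eq,
        QuotientGroup.mk_mul, QuotientGroup.mk_mul, QuotientGroup.mk_inv, eq_mul_inv_iff_mul_eq]
      exact eq_comm
    have hle : Subgroup.centralizer ({g} : Set G) ≤ C := by
      intro x hx
      rw [Subgroup.mem_centralizer_singleton_iff] at hx
      rw [hmem, hx]; simp [N.one_mem]
    have hcard : Nat.card C = Nat.card N * Nat.card (Subgroup.centralizer ({(QuotientGroup.mk g : G ⧸ N)} : Set (G ⧸ N))) := by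
      have h := Subgroup.relIndex_ker (K := C) (QuotientGroup.mk' N)
      rw [QuotientGroup.ker_mk', Subgroup.map_comap_eq_self_of_surjective (QuotientGroup.mk'_surjective N)] at h
      have hNC : N ≤ C := fun n hn => (hmem n).2 (by
        simpa [mul_assoc] using mul_mem (‹N.Normal›.conj_mem n hn g⁻¹) (inv_mem hn))
      rw [← Subgroup.relIndex_bot_left, ← Subgroup.relIndex_mul_relIndex _ _ _ bot_le hNC, Subgroup.relIndex_bot_left, h]
    have hN : Subgroup.centralizer ({g} : Set G) ≤ C := hle
    set K := (Subgroup.centralizer ({g} : Set G)).subgroupOf C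
    have hK : Nat.card K = Nat.card (Subgroup.centralizer ({g} : Set G)) :=
      Nat.card_congr (Subgroup.subgroupOfEquivOfLe hle).toEquiv
    have hlag := Subgroup.card_eq_card_quotient_mul_card_subgroup K
    rw [hcard, hK] at hlag
    let f : C ⧸ K → N := Quotient.lift (fun x : C => (⟨g⁻¹ * (x * g * (x : G)⁻¹), (hmem x).1 x.2⟩ : N))
      (by
        intro x y hxy
        have hxy' := QuotientGroup.leftRel_apply.1 hxy
        rw [Subgroup.mem_subgroupOf, Subgroup.mem_centralizer_singleton_iff] at hxy'
        apply Subtype.ext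
        show g⁻¹ * (x * g * (x : G)⁻¹) = g⁻¹ * (y * g * (y : G)⁻¹)
        congr 1
        calc (x : G) * g * (x : G)⁻¹ = x * (g * ((x : G)⁻¹ * y)) * (y : G)⁻¹ := by group
          _ = _ := by rw [← show (x : G)⁻¹ * y * g = g * ((x : G)⁻¹ * y) from hxy']; group)
    have hinj : Function.Injective f := by
      intro a b
      induction a using Quotient.inductionOn with
      | _ x =>
      induction b using Quotient.inductionOn with
      | _ y =>
      intro hxy
      have h : (x : G) * g * (x : G)⁻¹ = y * g * (y : G)⁻¹ := mul_left_cancel (congrArg Subtype.val hxy)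
      apply Quotient.sound
      apply QuotientGroup.leftRel_apply.2
      rw [Subgroup.mem_subgroupOf, Subgroup.mem_centralizer_singleton_iff]
      show (x : G)⁻¹ * y * g = g * ((x : G)⁻¹ * y)
      calc (x : G)⁻¹ * y * g = (x : G)⁻¹ * (y * g * (y : G)⁻¹) * y := by group
        _ = _ := by rw [← h]; group
    constructor
    · intro hall
      have hsur : Function.Surjective f := by
        rintro ⟨n, hn⟩
        obtain ⟨x, hx⟩ := hall n hn
        have hxC : x ∈ C := (hmem x).2 (by rw [hx]; simpa using hn)
        exact ⟨Quotient.mk _ ⟨x, hxC⟩, Subtype.ext (by show g⁻¹ * (x * g * x⁻¹) = n; rw [hx]; group)⟩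
      rw [Nat.card_eq_of_bijective f ⟨hinj, hsur⟩] at hlag
      exact (Nat.eq_of_mul_eq_mul_left Nat.card_pos hlag).symm
    · intro h n hn
      rw [← h] at hlag
      have hb := (Nat.bijective_iff_injective_and_card f).2 ⟨hinj, (Nat.eq_of_mul_eq_mul_right Nat.card_pos hlag).symm⟩
      obtain ⟨q, hq⟩ := hb.2 ⟨n, hn⟩
      induction q using Quotient.inductionOn with
      | _ x => exact ⟨x, by rw [show n = g⁻¹ * (x * g * (x : G)⁻¹) from (congrArg Subtype.val hq).symm]; group⟩
  exact ⟨fun h g hg => (key g hg).1 (h g hg), fun h g hg => (key g hg).2 (h g hg)⟩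

end Cfsg.Agent.S4142
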