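import Cfsg.Statements.S4143
import Cfsg.Agent.Lib.Transfer.MaximalClass
import Cfsg.Agent.Lib.Core.Basic

set_option autoImplicit false
open Cfsg

namespace Cfsg.Agent.S4143

open Subgroup

theorem comm_of_card_le_sq {X : Type*} [Group X] [Finite X] {p k : ℕ} [Fact p.Prime] (D : Subgroup X)
    (hD : Nat.card D = p ^ k) (hk : k ≤ 2) : ∀ x ∈ D, ∀ y ∈ D, x * y = y * x := by
  haveI : IsMulCommutative D := by
    interval_cases k
    · haveI : Subsingleton D := (Nat.card_eq_one_iff_unique.1 (by simpa using hD)).1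
      exact ⟨⟨fun a b => Subsingleton.elim _ _⟩⟩
    · haveI : IsCyclic D := isCyclic_of_prime_card (p := p) (by simpa using hD)
      infer_instance
    · exact IsPGroup.isMulCommutative_of_card_eq_prime_sq hD
  exact fun x hx y hy => congrArg Subtype.val ((‹IsMulCommutative D›).is_comm.comm ⟨x, hx⟩ ⟨y, hy⟩)

/-- Let X be a finite p-group of order p^n containing a non-abelian subgroup B of order p³ with C_X(B) ≤ B. Then X has nilpotency class n − 1 (maximal class). -/
theorem result {X : Type*} [Group X] [Finite X] {p : ℕ} [Fact p.Prime] (n : ℕ) (hX : Nat.card X = p ^ n)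
    (B : Subgroup X) (hB : Nat.card B = p ^ 3) (hBna : ¬ IsMulCommutative B) (hC : Subgroup.centralizer (B : Set X) ≤ B) :
    Group.nilpotencyClass X = n - 1 := by
  have hp : p.Prime := Fact.out
  have hXp : IsPGroup p X := IsPGroup.of_card hX
  obtain ⟨u, hu, v, hv, huv⟩ : ∃ u ∈ B, ∃ v ∈ B, u * v ≠ v * u := by
    by_contra hcon
    push Not at hcon
    exact hBna ⟨⟨fun x y => Subtype.ext (hcon x x.2 y y.2)⟩⟩
  haveI : Nontrivial X := ⟨⟨u, 1, fun e => huv (by rw [e, one_mul, mul_one])⟩⟩
  have hD : Subgroup.closure ({u, v} : Set X) = B := by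
    have hle : Subgroup.closure ({u, v} : Set X) ≤ B :=
      (Subgroup.closure_le B).2 (by rintro _ (rfl | rfl) <;> assumption)
    obtain ⟨k, hk3, hk⟩ := (Nat.dvd_prime_pow hp).1 (hB ▸ Subgroup.card_dvd_of_le hle)
    refine Subgroup.eq_of_le_of_card_ge hle ?_
    by_contra hlt
    have hk2 : k ≤ 2 := by
      by_contra hk2
      obtain rfl : k = 3 := by omega
      exact hlt (by rw [hk, hB])
    exact huv (comm_of_card_le_sq _ hk hk2 u (Subgroup.subset_closure (Or.inl rfl)) v
      (Subgroup.subset_closure (Or.inr rfl)))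
  set Z := Subgroup.center X with hZdef
  set C := Subgroup.centralizer (B : Set X) with hCdef
  have hZC : Z ≤ C := Subgroup.center_le_centralizer _
  have hCc : ∀ c ∈ C, ∀ b ∈ B, b * c = c * b := fun c hc b hb => Subgroup.mem_centralizer_iff.1 hc b hb
  have hCcard : Nat.card C = p ∧ C = Z := by
    obtain ⟨k, hk3, hk⟩ := (Nat.dvd_prime_pow hp).1 (hB ▸ Subgroup.card_dvd_of_le hC)
    haveI := hXp.center_nontrivial
    have h1 : 1 < Nat.card C := lt_of_lt_of_le (Finite.one_lt_card (α := Z)) (Subgroup.card_le_of_le hZC)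
    have hne : k ≠ 2 := by
      rintro rfl
      have hrel : C.relIndex B = p := by
        refine Nat.eq_of_mul_eq_mul_left (Nat.card_pos (α := C)) ?_
        rw [← Subgroup.relIndex_bot_left, Subgroup.relIndex_mul_relIndex ⊥ C B bot_le hC, Subgroup.relIndex_bot_left,
          Subgroup.relIndex_bot_left, hB, hk, ← pow_succ]
      have hcen : C.subgroupOf B ≤ Subgroup.center B := fun x hx =>
        Subgroup.mem_center_iff.2 fun y => Subtype.ext (hCc x hx y y.2)
      have h2 : (Subgroup.center B).index ∣ p := hrel ▸ Subgroup.index_dvd_of_le hcen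
      haveI : IsCyclic (B ⧸ Subgroup.center B) := by
        rcases (Nat.dvd_prime hp).1 h2 with e | e <;> rw [Subgroup.index_eq_card] at e
        · haveI := (Nat.card_eq_one_iff_unique.1 e).1
          exact isCyclic_of_subsingleton
        · exact isCyclic_of_prime_card e
      exact huv (congrArg Subtype.val (CfsgLib.Transfer.comm_of_cyclic_quotient_center (⟨u, hu⟩ : B) ⟨v, hv⟩))
    have hne3 : k ≠ 3 := by
      rintro rfl
      have : C = B := Subgroup.eq_of_le_of_card_ge hC (by rw [hB, hk])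
      exact huv (hCc v (this ▸ hv) u hu)
    obtain rfl : k = 1 := by
      interval_cases k <;> simp_all
    rw [pow_one] at hk
    refine ⟨hk, (Subgroup.eq_of_le_of_card_ge hZC ?_).symm⟩
    obtain ⟨j, hj⟩ := (hXp.to_subgroup Z).exists_card_eq
    rw [hk, hj]
    refine Nat.le_self_pow (fun e => ?_) p
    have := Finite.one_lt_card (α := Z)
    rw [hj, e, pow_zero] at this
    omega
  obtain ⟨hCp, hCZ⟩ := hCcard
  set π := QuotientGroup.mk' Z
  set A := B.map π
  have hZB : Z ≤ B := hCZ ▸ hC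
  have hZp : Nat.card Z = p := hCZ ▸ hCp
  have hAc : Nat.card A = p ^ 2 := by
    refine Nat.eq_of_mul_eq_mul_left hp.pos ?_
    rw [CfsgLib.Core.card_map_mk' Z B, ← pow_succ', ← hB, ← hZp, ← Subgroup.relIndex_bot_left,
      Subgroup.relIndex_mul_relIndex ⊥ Z B bot_le hZB, Subgroup.relIndex_bot_left]
  set K := (Subgroup.centralizer (A : Set (X ⧸ Z))).comap π
  have hBK : B ≤ K := fun b hb => by
    refine Subgroup.mem_centralizer_iff.2 ?_
    rintro _ ⟨c, hc, rfl⟩
    rw [← map_mul, ← map_mul]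
    refine (QuotientGroup.eq (s := Z)).2 ?_
    rw [← hCZ]
    refine Subgroup.mem_centralizer_iff.2 fun w hw => ?_
    -- commutators of a group of order `p ^ 3` are central
    have hcomm : (⟨(c * b)⁻¹ * (b * c), mul_mem (inv_mem (mul_mem hc hb)) (mul_mem hb hc)⟩ : B) ∈ Subgroup.center B := by
      have hsq : Nat.card (B ⧸ C.subgroupOf B) = p ^ 2 := by
        rw [← Subgroup.index_eq_card]
        show C.relIndex B = _
        refine Nat.eq_of_mul_eq_mul_left hp.pos ?_
        rw [← pow_succ', ← hB, ← hCp, ← Subgroup.relIndex_bot_left, Subgroup.relIndex_mul_relIndex ⊥ C B bot_le hC,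
          Subgroup.relIndex_bot_left]
      haveI : (C.subgroupOf B).Normal := ⟨fun x hx g => by
        have h1 : g * x * g⁻¹ = x := Subtype.ext (by
          show (g : X) * x * (g : X)⁻¹ = x
          rw [hCc x hx g g.2, mul_inv_cancel_right])
        rwa [h1]⟩
      haveI := IsPGroup.isMulCommutative_of_card_eq_prime_sq hsq
      have h1 := (Subgroup.Normal.quotient_commutative_iff_commutator_le (N := C.subgroupOf B)).1 inferInstance
      have h2 := h1 (Subgroup.commutator_mem_commutator (Subgroup.mem_top (⟨c, hc⟩⁻¹ : B))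
        (Subgroup.mem_top (⟨b, hb⟩⁻¹ : B)))
      refine Subgroup.mem_center_iff.2 fun y => Subtype.ext (hCc _ ?_ y y.2)
      have e : (b⁻¹ * c⁻¹ * b * c : X) = (c * b)⁻¹ * (b * c) := by group
      have h3 : b⁻¹ * c⁻¹ * (b⁻¹)⁻¹ * (c⁻¹)⁻¹ ∈ C := by
        have h4 := h1 (Subgroup.commutator_mem_commutator (Subgroup.mem_top (⟨b, hb⟩⁻¹ : B))
          (Subgroup.mem_top (⟨c, hc⟩⁻¹ : B)))
        exact h4
      rw [inv_inv, inv_inv, e] at h3
      exact h3
    exact congrArg Subtype.val (Subgroup.mem_center_iff.1 hcomm ⟨w, hw⟩)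
  have hK : K = B := by
    refine (Subgroup.eq_of_le_of_card_ge hBK ?_).symm
    have hmem : ∀ g ∈ K, ∀ b ∈ B, g * b * g⁻¹ * b⁻¹ ∈ Z := fun g hg b hb => by
      refine (QuotientGroup.eq_one_iff _).1 ?_
      show π (g * b * g⁻¹ * b⁻¹) = 1
      rw [map_mul, map_mul, map_mul, map_inv, map_inv,
        ← Subgroup.mem_centralizer_iff.1 (show π g ∈ Subgroup.centralizer (A : Set (X ⧸ Z)) from hg) _ ⟨b, hb, rfl⟩,
        mul_inv_cancel_right, mul_inv_cancel]
    have hmul : ∀ g h b : X, h * b * h⁻¹ * b⁻¹ ∈ Z →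
        g * h * b * (g * h)⁻¹ * b⁻¹ = (g * b * g⁻¹ * b⁻¹) * (h * b * h⁻¹ * b⁻¹) := fun g h b hz => by
      set z := h * b * h⁻¹ * b⁻¹ with hz'
      have hc := Subgroup.mem_center_iff.1 hz
      calc g * h * b * (g * h)⁻¹ * b⁻¹ = (g * z) * b * g⁻¹ * b⁻¹ := by rw [hz']; group
        _ = (z * g) * b * g⁻¹ * b⁻¹ := by rw [hc g]
        _ = z * (g * b * g⁻¹ * b⁻¹) := by group
        _ = _ := (hc _).symm
    let ψ : K →* Z × Z :=
      { toFun := fun g => (⟨_, hmem g g.2 u hu⟩, ⟨_, hmem g g.2 v hv⟩)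
        map_one' := by simp
        map_mul' := fun g h => Prod.ext (Subtype.ext (hmul g h u (hmem h h.2 u hu)))
          (Subtype.ext (hmul g h v (hmem h h.2 v hv))) }
    have hker : ψ.ker.map K.subtype ≤ C := by
      rintro _ ⟨g, hg, rfl⟩
      have h1 := congrArg (fun t : Z × Z => (t.1 : X)) hg
      have h2 := congrArg (fun t : Z × Z => (t.2 : X)) hg
      rw [hCdef, ← hD, Subgroup.centralizer_closure, Subgroup.mem_centralizer_iff]
      rintro _ (rfl | rfl)
      · exact (mul_inv_eq_iff_eq_mul.1 (mul_inv_eq_one.1 h1)).symm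
      · exact (mul_inv_eq_iff_eq_mul.1 (mul_inv_eq_one.1 h2)).symm
    have h3 : Nat.card ψ.ker ≤ p := by
      rw [← Subgroup.card_map_of_injective K.subtype_injective, ← hCp]
      exact Subgroup.card_le_of_le hker
    have h4 : Nat.card ψ.range ≤ p * p := by
      refine (Subgroup.card_le_card_group _).trans_eq ?_
      rw [Nat.card_prod, hZp]
    rw [← Subgroup.card_mul_index ψ.ker, Subgroup.index_ker, hB, pow_succ', pow_two]
    exact Nat.mul_le_mul h3 h4
  have hAself : Subgroup.centralizer (A : Set (X ⧸ Z)) = A := by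
    rw [← Subgroup.map_comap_eq_self_of_surjective (QuotientGroup.mk'_surjective Z) (Subgroup.centralizer (A : Set (X ⧸ Z)))]
    show K.map π = A
    rw [hK]
  have hn : 1 ≤ n := by
    rcases n with _ | n
    · rw [pow_zero] at hX
      have := Finite.one_lt_card (α := X)
      omega
    · omega
  have hQ : Nat.card (X ⧸ Z) = p ^ (n - 1) := by
    refine Nat.eq_of_mul_eq_mul_left hp.pos ?_
    rw [← Subgroup.index_eq_card, ← pow_succ', Nat.sub_add_cancel hn, ← hX, ← Subgroup.card_mul_index Z, hZp]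
  have hn2 : 2 ≤ n - 1 := by
    have h1 := Subgroup.card_le_card_group A
    rw [hAc, hQ] at h1
    exact (Nat.pow_le_pow_iff_right hp.one_lt).1 h1
  haveI := hXp.isNilpotent
  rw [Group.nilpotencyClass_eq_quotient_center_plus_one,
    CfsgLib.Transfer.class_eq_of_self_centralizing (n - 1) (X ⧸ Z) hQ A hAc hAself]
  omega

end Cfsg.Agent.S4143
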