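import Cfsg.Statements.S4150
import Cfsg.Agent.Lib.ClassSizes.PrimePairs
import Cfsg.Agent.Lib.ClassSizes.TwoCycleGen
import Cfsg.Agent.Lib.ClassSizes.SmallDegree
import Cfsg.Agent.Lib.ClassSizes.ThirteenEleven
import Cfsg.Agent.Lib.ClassSizes.Jordan

set_option autoImplicit false
open Cfsg

namespace Cfsg.Agent.S4150

open Equiv in
theorem core {m p q : ℕ} (hm : 5 ≤ m) (hp : p.Prime) (hq : q.Prime) (hm2 : m ≤ 2 * p) (hpq : p < q) (hqm : q ≤ m)
    (hgood : (m < 2 * p ∧ p + 3 ≤ q) ∨ (p = 3 ∧ q = 5 ∧ m ≤ 6) ∨ (p = 5 ∧ q = 7 ∧ m ≤ 10) ∨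
      (p = 11 ∧ q = 13 ∧ m ≤ 16))
    (x y : alternatingGroup (Fin m)) (hx : orderOf x = p) (hy : orderOf y = q) :
    ∃ d : ℕ, 5 ≤ d ∧ Nonempty (Subgroup.closure ({x, y} : Set (alternatingGroup (Fin m))) ≃* alternatingGroup (Fin d)) := by
  classical
  have hxo : orderOf (x : Perm (Fin m)) = p := by rw [Subgroup.orderOf_coe, hx]
  have hyo : orderOf (y : Perm (Fin m)) = q := by rw [Subgroup.orderOf_coe, hy]
  obtain ⟨ky, hky⟩ := Perm.cycleType_prime_order (σ := (y : Perm (Fin m))) (by rw [hyo]; exact hq)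
  rw [hyo] at hky
  have hys : (y : Perm (Fin m)).support.card = (ky + 1) * q := by
    rw [← Perm.sum_cycleType, hky, Multiset.sum_replicate, smul_eq_mul]
  have hym : (ky + 1) * q ≤ m := by
    rw [← hys]; simpa using Finset.card_le_univ (y : Perm (Fin m)).support
  have hky0 : ky = 0 := by
    by_contra h
    have : 2 * q ≤ (ky + 1) * q := Nat.mul_le_mul_right q (by omega)
    omega
  subst hky0
  have hyc : (y : Perm (Fin m)).IsCycle := by rw [← Perm.card_cycleType_eq_one, hky]; simp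
  obtain ⟨U, K, x', y', ⟨e⟩, hK, hprim, hx', hy', hxt, hy'c, hy's, hqU, hxU⟩ :=
    CfsgLib.ClassSizes.exists_moved_points_reduction (x := (x : Perm (Fin m))) (y := (y : Perm (Fin m)))
      hp hq hxo hyc (by rw [hys, zero_add, one_mul]) x.2 y.2
      (by rw [Fintype.card_fin]; omega) (by rw [Fintype.card_fin]; omega)
  have hUm : U.card ≤ m := by simpa using Finset.card_le_univ U
  obtain ⟨k, hk⟩ := Perm.cycleType_prime_order (σ := (x : Perm (Fin m))) (by rw [hxo]; exact hp)
  rw [hxo] at hk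
  have hxs : (x : Perm (Fin m)).support.card = (k + 1) * p := by
    rw [← Perm.sum_cycleType, hk, Multiset.sum_replicate, smul_eq_mul]
  have hkU : (k + 1) * p ≤ U.card := hxs ▸ Finset.card_le_card hxU
  have e0 : Subgroup.closure ({x, y} : Set (alternatingGroup (Fin m))) ≃*
      Subgroup.closure ({(x : Perm (Fin m)), (y : Perm (Fin m))} : Set (Perm (Fin m))) :=
    (Subgroup.equivMapOfInjective _ (alternatingGroup (Fin m)).subtype (Subgroup.subtype_injective _)).trans
      (MulEquiv.subgroupCongr (by rw [MonoidHom.map_closure, Set.image_insert_eq, Set.image_singleton]; rfl))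
  suffices h : ∃ d, 5 ≤ d ∧ Nonempty (K ≃* alternatingGroup (Fin d)) by
    obtain ⟨d, hd, ⟨f⟩⟩ := h
    exact ⟨d, hd, ⟨e0.trans (e.trans f)⟩⟩
  have hUcard : Fintype.card U = U.card := Fintype.card_coe U
  have full : alternatingGroup U ≤ K → ∃ d, 5 ≤ d ∧ Nonempty (K ≃* alternatingGroup (Fin d)) := fun h =>
    ⟨Fintype.card U, by rw [hUcard]; omega, CfsgLib.ClassSizes.nonempty_equiv_alternating_fin hK h⟩
  by_cases hyJ : q + 3 ≤ U.card
  · exact full (CfsgLib.ClassSizes.alternatingGroup_le_of_primeCycle K hprim hq (by omega) hy'c hy's hy')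
  by_cases hk0 : k = 0
  · subst hk0
    have hx'c : x'.IsCycle := by rw [← Perm.card_cycleType_eq_one, hxt, hk]; simp
    have hx's : x'.support.card = p := by rw [← Perm.sum_cycleType, hxt, hk]; simp
    by_cases hxJ : p + 3 ≤ U.card
    · exact full (CfsgLib.ClassSizes.alternatingGroup_le_of_primeCycle K hprim hp (by omega) hx'c hx's hx')
    rcases hgood with h | ⟨rfl, rfl, h⟩ | ⟨rfl, rfl, h⟩ | ⟨rfl, rfl, h⟩
    · omega
    · exact full (Perm.alternatingGroup_le_of_isPreprimitive_of_isThreeCycle_mem hprim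
        (card_support_eq_three_iff.1 hx's) hx')
    · refine full (CfsgLib.ClassSizes.alternatingGroup_le_of_seven (by omega) K hK hy' hy'c hy's ?_)
      have : orderOf (⟨x', hx'⟩ : K) = 5 := by rw [Subgroup.orderOf_mk, hx'c.orderOf, hx's]
      exact this ▸ orderOf_dvd_natCard _
    · exact full (CfsgLib.ClassSizes.alternatingGroup_le_of_thirteen (by omega) K hK hprim hx' hx'c hx's)
  · have h2 : 2 * p ≤ (k + 1) * p := Nat.mul_le_mul_right p (by omega)
    rcases hgood with h | ⟨rfl, rfl, h⟩ | ⟨rfl, rfl, h⟩ | ⟨rfl, rfl, h⟩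
    · omega
    · refine CfsgLib.ClassSizes.exists_equiv_of_six (by omega) K hK hprim ?_ hy' (by rw [hy'c.orderOf, hy's])
      have h3 : orderOf x' = 3 := by
        rw [← Perm.lcm_cycleType, hxt, Perm.lcm_cycleType, hxo]
      rw [← h3, ← Subgroup.orderOf_mk x' hx']
      exact orderOf_dvd_natCard _
    · omega
    · omega

/-- Let m ≥ 5. Then there are primes p < q with m/2 ≤ p and q ≤ m such that any two elements x, y of the alternating group of degree m with x of order p and y of order q generate a subgroup isomorphic to an alternating group of some degree d ≥ 5. -/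
theorem result (m : ℕ) (hm : 5 ≤ m) :
    ∃ p q : ℕ, p.Prime ∧ q.Prime ∧ m ≤ 2 * p ∧ p < q ∧ q ≤ m ∧
      ∀ x y : alternatingGroup (Fin m), orderOf x = p → orderOf y = q →
        ∃ d : ℕ, 5 ≤ d ∧ Nonempty (Subgroup.closure ({x, y} : Set (alternatingGroup (Fin m))) ≃* alternatingGroup (Fin d)) := by
  have key : ∃ p q : ℕ, p.Prime ∧ q.Prime ∧ m ≤ 2 * p ∧ p < q ∧ q ≤ m ∧
      ((m < 2 * p ∧ p + 3 ≤ q) ∨ (p = 3 ∧ q = 5 ∧ m ≤ 6) ∨ (p = 5 ∧ q = 7 ∧ m ≤ 10) ∨
      (p = 11 ∧ q = 13 ∧ m ≤ 16)) := by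
    by_cases h1 : m ≤ 6
    · exact ⟨3, 5, by norm_num, by norm_num, by omega, by norm_num, by omega, by omega⟩
    by_cases h2 : m ≤ 10
    · exact ⟨5, 7, by norm_num, by norm_num, by omega, by norm_num, by omega, by omega⟩
    by_cases h3 : m ≤ 13
    · exact ⟨7, 11, by norm_num, by norm_num, by omega, by norm_num, by omega, by omega⟩
    by_cases h4 : m ≤ 16
    · exact ⟨11, 13, by norm_num, by norm_num, by omega, by norm_num, by omega, by omega⟩
    obtain ⟨p, q, hp, hq, h5, h6, h7⟩ := CfsgLib.ClassSizes.exists_prime_pair m (by omega)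
    exact ⟨p, q, hp, hq, by omega, by omega, h7, Or.inl ⟨h5, h6⟩⟩
  obtain ⟨p, q, hp, hq, h1, h2, h3, h4⟩ := key
  exact ⟨p, q, hp, hq, h1, h2, h3, fun x y hx hy => core hm hp hq h1 h2 h3 h4 x y hx hy⟩

end Cfsg.Agent.S4150
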