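import Cfsg.Statements.S4153
import Cfsg.Agent.Lib.ClassSizes.Counting

set_option autoImplicit false
open Cfsg

namespace Cfsg.Agent.S4153

/-- Let G be a finite group, p a prime, N a normal subgroup, P a Sylow p-subgroup of G and P̄ a Sylow p-subgroup of G/N. Count the elements of p-power order, the identity included. Then (number of such elements of G/N)/#P̄ ≤ (number of such elements of G)/#P, stated as a cross-multiplied inequality, with equality when N is central. -/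
theorem result {G : Type*} [Group G] [Finite G] (p : ℕ) [Fact p.Prime] (N : Subgroup G) [N.Normal]
    (P : Sylow p G) (Pbar : Sylow p (G ⧸ N)) :
    Nat.card {g : (G ⧸ N) // ∃ k : ℕ, orderOf g = p ^ k} * Nat.card (P : Subgroup G) ≤ Nat.card {g : G // ∃ k : ℕ, orderOf g = p ^ k} * Nat.card (Pbar : Subgroup (G ⧸ N)) ∧
    (N ≤ Subgroup.center G → Nat.card {g : (G ⧸ N) // ∃ k : ℕ, orderOf g = p ^ k} * Nat.card (P : Subgroup G) = Nat.card {g : G // ∃ k : ℕ, orderOf g = p ^ k} * Nat.card (Pbar : Subgroup (G ⧸ N))) := by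
  classical
  set Pm := (P : Subgroup G).map (QuotientGroup.mk' N) with hPm
  let Pb : Sylow p (G ⧸ N) := (P.isPGroup'.map (QuotientGroup.mk' N)).toSylow (CfsgLib.ClassSizes.not_dvd_index_map_sylow P N)
  have hcb : Nat.card (Pbar : Subgroup (G ⧸ N)) = Nat.card Pm := by
    rw [Pbar.card_eq_multiplicity, ← Pb.card_eq_multiplicity]; rfl
  have hmul := CfsgLib.ClassSizes.card_map_sylow_mul P N
  rw [hcb, ← hmul, mul_left_comm, mul_comm (Nat.card {g : G // _})]
  have hlift : ∀ a : {g : (G ⧸ N) // ∃ k : ℕ, orderOf g = p ^ k}, ∃ y ∈ (P : Subgroup G), ∃ t : G,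
      ((t * y * t⁻¹ : G) : G ⧸ N) = a.1 := by
    rintro ⟨g, k, hk⟩
    obtain ⟨R, hR⟩ := (IsPGroup.of_card (n := k) (by rw [Nat.card_zpowers, hk]) : IsPGroup p (Subgroup.zpowers g)).exists_le_sylow
    obtain ⟨s, rfl⟩ := MulAction.exists_smul_eq (G ⧸ N) Pb R
    have hg := hR (Subgroup.mem_zpowers g)
    rw [Sylow.smul_def, Sylow.pointwise_smul_def, Subgroup.mem_pointwise_smul_iff_inv_smul_mem,
      ← map_inv, MulAut.smul_def, MulAut.conj_apply, inv_inv] at hg
    obtain ⟨y, hy, hye⟩ := hg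
    obtain ⟨t, rfl⟩ := QuotientGroup.mk'_surjective N s
    refine ⟨y, hy, t, ?_⟩
    show QuotientGroup.mk' N (t * y * t⁻¹) = g
    rw [map_mul, map_mul, map_inv, hye]; group
  choose y hy t ht using hlift
  let f : ({g : (G ⧸ N) // ∃ k : ℕ, orderOf g = p ^ k} × ↥((P : Subgroup G) ⊓ N)) → {g : G // ∃ k : ℕ, orderOf g = p ^ k} :=
    fun a => ⟨t a.1 * (y a.1 * a.2) * (t a.1)⁻¹, by
      obtain ⟨k, hk⟩ := IsPGroup.iff_orderOf.1 P.isPGroup' ⟨_, mul_mem (hy a.1) a.2.2.1⟩
      refine ⟨k, ?_⟩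
      rw [← hk, Subgroup.orderOf_mk]
      exact orderOf_injective (MulAut.conj (t a.1)).toMonoidHom (MulEquiv.injective _) _⟩
  have hfq : ∀ a, ((f a).1 : G ⧸ N) = a.1.1 := by
    intro a
    rw [← ht a.1]
    show QuotientGroup.mk' N (t a.1 * (y a.1 * a.2) * (t a.1)⁻¹) = QuotientGroup.mk' N _
    simp [(QuotientGroup.eq_one_iff _).2 a.2.2.2]
  have hinj : Function.Injective f := by
    intro a b h
    have h1 : a.1 = b.1 := Subtype.ext (by rw [← hfq a, ← hfq b, h])
    have h2 := congrArg Subtype.val h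
    simp only [f, h1] at h2
    exact Prod.ext h1 (Subtype.ext (by simpa using h2))
  refine ⟨?_, fun hN => ?_⟩
  · refine Nat.mul_le_mul_left _ ?_
    rw [← Nat.card_prod]
    exact Nat.card_le_card_of_injective f hinj
  · congr 1
    rw [← Nat.card_prod]
    refine Nat.card_eq_of_bijective f ⟨hinj, ?_⟩
    rintro ⟨g, k, hk⟩
    have hq : ∃ j : ℕ, orderOf (g : G ⧸ N) = p ^ j := by
      obtain ⟨j, -, hj⟩ := (Nat.dvd_prime_pow (Fact.out : p.Prime)).1 (hk ▸ orderOf_map_dvd (QuotientGroup.mk' N) g)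
      exact ⟨j, hj⟩
    set a : {g : (G ⧸ N) // ∃ k : ℕ, orderOf g = p ^ k} := ⟨g, hq⟩
    set x := t a * y a * (t a)⁻¹ with hx
    have hz : x⁻¹ * g ∈ N := QuotientGroup.eq.1 (ht a)
    have hcomm : Commute x g := by
      have := Subgroup.mem_center_iff.1 (hN hz) x
      show x * g = g * x
      calc x * g = x * (x * (x⁻¹ * g)) := by group
        _ = x * (x⁻¹ * g * x) := by rw [← this]
        _ = _ := by group
    obtain ⟨i, hi⟩ := IsPGroup.iff_orderOf.1 P.isPGroup' ⟨_, hy a⟩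
    rw [Subgroup.orderOf_mk] at hi
    have hxo : orderOf x = p ^ i := by
      rw [hx, ← hi]; exact orderOf_injective (MulAut.conj (t a)).toMonoidHom (MulEquiv.injective _) _
    have hzp : IsPGroup p (Subgroup.zpowers (x⁻¹ * g)) := by
      refine IsPGroup.of_card_dvd_pow (n := i + k) ?_
      rw [Nat.card_zpowers]
      refine (hcomm.inv_left.orderOf_mul_dvd_lcm).trans ?_
      rw [orderOf_inv, hxo, hk, pow_add]
      exact Nat.lcm_dvd_mul _ _
    obtain ⟨R, hR⟩ := hzp.exists_le_sylow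
    obtain ⟨s, rfl⟩ := MulAction.exists_smul_eq G P R
    have hmem := hR (Subgroup.mem_zpowers _)
    rw [Sylow.smul_def, Sylow.pointwise_smul_def, Subgroup.mem_pointwise_smul_iff_inv_smul_mem,
      ← map_inv, MulAut.smul_def, MulAut.conj_apply, inv_inv, mul_assoc (s⁻¹),
      ← Subgroup.mem_center_iff.1 (hN hz) s, inv_mul_cancel_left] at hmem
    refine ⟨(a, ⟨x⁻¹ * g, hmem, hz⟩), Subtype.ext ?_⟩
    show t a * (y a * (x⁻¹ * g)) * (t a)⁻¹ = g
    calc t a * (y a * (x⁻¹ * g)) * (t a)⁻¹ = x * (t a * (x⁻¹ * g)) * (t a)⁻¹ := by rw [hx]; group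
      _ = x * ((x⁻¹ * g) * t a) * (t a)⁻¹ := by rw [Subgroup.mem_center_iff.1 (hN hz) (t a)]
      _ = g := by group

end Cfsg.Agent.S4153
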