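import Cfsg.Statements.S4154
import Cfsg.Agent.Lib.ClassSizes.Counting

set_option autoImplicit false
open Cfsg

namespace Cfsg.Agent.S4154

/-- Let G be a finite group and α an automorphism of G such that every element of G is the product of an element fixed by α and an element of the form g⁻¹α(g). If N is a normal α-invariant subgroup, then the automorphism ᾱ induced on G/N has the same property, and every coset fixed by ᾱ contains an element fixed by α (so the fixed points of ᾱ are the images of the fixed points of α). -/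
theorem result {G : Type*} [Group G] [Finite G] (α : MulAut G)
    (hccp : ∀ x : G, ∃ c g : G, α c = c ∧ x = c * (g⁻¹ * α g))
    (N : Subgroup G) [N.Normal] (hN : ∀ n ∈ N, α n ∈ N) :
    (∀ x : G, ∃ c g : G, c⁻¹ * α c ∈ N ∧ x⁻¹ * (c * (g⁻¹ * α g)) ∈ N) ∧
    (∀ x : G, x⁻¹ * α x ∈ N → ∃ c : G, α c = c ∧ c⁻¹ * x ∈ N) := by
  classical
  refine ⟨fun x => ?_, fun x hx => ?_⟩
  · obtain ⟨c, g, hc, rfl⟩ := hccp x
    exact ⟨c, g, by simp [hc, N.one_mem], by simp [N.one_mem]⟩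
  let Cn : Subgroup G :=
    { carrier := {y | y⁻¹ * α y ∈ N}
      one_mem' := by simp [N.one_mem]
      mul_mem' := fun {a b} ha hb => by
        have h := mul_mem (‹N.Normal›.conj_mem _ ha b⁻¹) hb
        show (a * b)⁻¹ * α (a * b) ∈ N
        rw [map_mul]
        convert h using 1; group
      inv_mem' := fun {a} ha => by
        have h := ‹N.Normal›.conj_mem _ (inv_mem ha) a
        show a⁻¹⁻¹ * α a⁻¹ ∈ N
        rw [map_inv]
        convert h using 1; group }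
  let CN : Subgroup G := MonoidHom.eqLocus α.toMonoidHom (MonoidHom.id G) ⊔ N
  have hle : CN ≤ Cn := by
    refine sup_le (fun c hc => ?_) (fun n hn => mul_mem (inv_mem hn) (hN n hn))
    have hc' : α c = c := hc
    show c⁻¹ * α c ∈ N
    simp [hc', N.one_mem]
  have hrep : ∀ y : G, ∃ d ∈ CN, ∀ z : G ⧸ Cn, (z = QuotientGroup.mk y⁻¹) →
      (z.out)⁻¹⁻¹ * α (z.out)⁻¹ ∈ {w | (y⁻¹ * α y)⁻¹ * w ∈ N} := by
    intro y
    refine ⟨1, one_mem _, fun z hz => ?_⟩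
    subst hz
    obtain ⟨⟨d, hd⟩, hz⟩ := QuotientGroup.mk_out_eq_mul Cn y⁻¹
    rw [hz]
    have hd' : d⁻¹ * α d ∈ N := hd
    have h := ‹N.Normal›.conj_mem _ (inv_mem hd') (α d)
    have h2 := ‹N.Normal›.conj_mem _ h (α y)⁻¹
    have h3 : α d * (α d)⁻¹ = 1 := mul_inv_cancel _
    show (y⁻¹ * α y)⁻¹ * ((y⁻¹ * d)⁻¹⁻¹ * α (y⁻¹ * d)⁻¹) ∈ N
    rw [inv_inv, mul_inv_rev, mul_inv_rev, inv_inv, map_mul, map_inv]
    have h4 : (α y)⁻¹ * (d * (α d)⁻¹) * α y ∈ N := by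
      have h5 := ‹N.Normal›.conj_mem _ (inv_mem hd') d
      have h6 := ‹N.Normal›.conj_mem _ (inv_mem h5) (α y)⁻¹
      have h7 := ‹N.Normal›.conj_mem _ (inv_mem hd') d
      have h8 := ‹N.Normal›.conj_mem _ h7 (α y)⁻¹
      convert h8 using 1; group
    convert h4 using 1; group
  let f : CN × (G ⧸ Cn) → G := fun a => (a.1 : G) * ((a.2.out)⁻¹⁻¹ * α (a.2.out)⁻¹)
  have hf : Function.Surjective f := by
    intro y
    obtain ⟨c, g, hc, rfl⟩ := hccp y
    obtain ⟨d, -, hd⟩ := hrep g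
    set w := ((QuotientGroup.mk g⁻¹ : G ⧸ Cn).out)⁻¹⁻¹ * α ((QuotientGroup.mk g⁻¹ : G ⧸ Cn).out)⁻¹
    have hw : (g⁻¹ * α g)⁻¹ * w ∈ N := hd _ rfl
    have hn : g⁻¹ * α g * w⁻¹ ∈ N := by
      have := ‹N.Normal›.conj_mem _ (inv_mem hw) (g⁻¹ * α g)
      have e : (g⁻¹ * α g) * ((g⁻¹ * α g)⁻¹ * w)⁻¹ * (g⁻¹ * α g)⁻¹ = g⁻¹ * α g * w⁻¹ := by group
      rwa [e] at this
    refine ⟨(⟨c * (g⁻¹ * α g * w⁻¹), mul_mem (Subgroup.mem_sup_left hc) (Subgroup.mem_sup_right hn)⟩, QuotientGroup.mk g⁻¹), ?_⟩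
    show c * (g⁻¹ * α g * w⁻¹) * w = _
    group
  have hcard := Nat.card_le_card_of_surjective f hf
  rw [Nat.card_prod, Subgroup.card_eq_card_quotient_mul_card_subgroup Cn, mul_comm _ (Nat.card Cn)] at hcard
  have heq : CN = Cn := Subgroup.eq_of_le_of_card_ge hle (Nat.le_of_mul_le_mul_right hcard Nat.card_pos)
  have hx' : x ∈ CN := heq ▸ (hx : x ∈ Cn)
  obtain ⟨c, hc, n, hn, rfl⟩ := Subgroup.mem_sup_of_normal_right.1 hx'
  exact ⟨c, hc, by simpa using hn⟩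

end Cfsg.Agent.S4154
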