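import Cfsg.Statements.S4156
import Mathlib

set_option autoImplicit false
open Cfsg

namespace Cfsg.Agent.S4156

/-- Let n ≥ 5 and F a finite field. Then the projective special linear group PSL_n(F) contains a subgroup isomorphic to the alternating group of degree n + 1. -/
theorem result (n : ℕ) (hn : 5 ≤ n) (F : Type*) [Field F] [Finite F] :
    ∃ f : alternatingGroup (Fin (n + 1)) →* Matrix.ProjectiveSpecialLinearGroup (Fin n) F, Function.Injective f := by
  classical
  let V := Fin (n + 1) → F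
  let s : V →ₗ[F] F :=
    { toFun := fun v => ∑ i, v i
      map_add' := fun u v => by show ∑ i, (u i + v i) = _; rw [Finset.sum_add_distrib]
      map_smul' := fun t v => by show ∑ i, t * v i = t * ∑ i, v i; rw [Finset.mul_sum] }
  let W := LinearMap.ker s
  have hs : Function.Surjective s := fun t => ⟨Pi.single 0 t, by simp [s]⟩
  have hdim : Module.finrank F W = n := by
    have h := LinearMap.finrank_range_add_finrank_ker s
    rw [LinearMap.range_eq_top.2 hs, finrank_top, Module.finrank_self, Module.finrank_fin_fun] at h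
    change 1 + Module.finrank F W = n + 1 at h
    omega
  have hperm : ∀ (σ : alternatingGroup (Fin (n + 1))) (w : W), (fun i => w.1 ((σ.1)⁻¹ i)) ∈ W := by
    intro σ w
    show ∑ i, w.1 ((σ.1)⁻¹ i) = 0
    rw [Equiv.sum_comp]; exact w.2
  let φ : alternatingGroup (Fin (n + 1)) →* Module.End F W :=
    { toFun := fun σ =>
        { toFun := fun w => ⟨_, hperm σ w⟩
          map_add' := fun _ _ => rfl
          map_smul' := fun _ _ => rfl }
      map_one' := by ext w i; simp
      map_mul' := fun σ τ => by ext w i; simp }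
  let b : Module.Basis (Fin n) F W := (Module.finBasisOfFinrankEq F W hdim)
  let ψ : alternatingGroup (Fin (n + 1)) →* Matrix (Fin n) (Fin n) F :=
    (LinearMap.toMatrixAlgEquiv b).toAlgHom.toMonoidHom.comp φ
  have hperf := commutator_alternatingGroup_eq_top (α := Fin (n + 1)) (by simp; omega)
  have hdet : ∀ σ, (ψ σ).det = 1 := by
    intro σ
    exact congrArg Units.val (MonoidHom.mem_ker.1 (Abelianization.commutator_subset_ker ((Units.map (Matrix.detMonoidHom : Matrix (Fin n) (Fin n) F →* F)).comp ψ.toHomUnits) (hperf.ge (Subgroup.mem_top σ))))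
  let θ : alternatingGroup (Fin (n + 1)) →* Matrix.SpecialLinearGroup (Fin n) F :=
    { toFun := fun σ => ⟨ψ σ, hdet σ⟩
      map_one' := Subtype.ext (map_one ψ)
      map_mul' := fun σ τ => Subtype.ext (map_mul ψ σ τ) }
  let f := (QuotientGroup.mk' (Subgroup.center (Matrix.SpecialLinearGroup (Fin n) F))).comp θ
  have : IsSimpleGroup (alternatingGroup (Fin (n + 1))) := alternatingGroup.isSimpleGroup (by simp; omega)
  refine ⟨f, ?_⟩
  rw [← MonoidHom.ker_eq_bot_iff]
  refine ((MonoidHom.normal_ker f).eq_bot_or_eq_top).resolve_right fun htop => ?_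
  have hcen : ∀ σ, θ σ ∈ Subgroup.center (Matrix.SpecialLinearGroup (Fin n) F) := fun σ =>
    (QuotientGroup.eq_one_iff _).1 (MonoidHom.mem_ker.1 (htop ▸ Subgroup.mem_top σ : σ ∈ f.ker))
  have htriv : ∀ σ, θ σ = 1 := by
    have hle : commutator (alternatingGroup (Fin (n + 1))) ≤ θ.ker := by
      rw [commutator_def, Subgroup.commutator_le]
      intro u _ v _
      rw [MonoidHom.mem_ker, map_commutatorElement, commutatorElement_eq_one_iff_mul_comm]
      exact (Subgroup.mem_center_iff.1 (hcen u) (θ v)).symm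
    exact fun σ => MonoidHom.mem_ker.1 (hle (hperf.ge (Subgroup.mem_top σ)))
  obtain ⟨i1, hi1⟩ : ∃ i : Fin (n + 1), (i : ℕ) = 1 := ⟨⟨1, by omega⟩, rfl⟩
  obtain ⟨i2, hi2⟩ : ∃ i : Fin (n + 1), (i : ℕ) = 2 := ⟨⟨2, by omega⟩, rfl⟩
  have h01 : (0 : Fin (n + 1)) ≠ i1 := by intro h; rw [← h] at hi1; simp at hi1
  have h02 : (0 : Fin (n + 1)) ≠ i2 := by intro h; rw [← h] at hi2; simp at hi2
  have h12 : i1 ≠ i2 := by intro h; rw [h, hi2] at hi1; omega
  have hl : i1 ≠ Fin.last n := by intro h; rw [h, Fin.val_last] at hi1; omega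
  have hlast : (0 : Fin (n + 1)) ≠ Fin.last n := by
    intro h; have := congrArg Fin.val h; simp at this; omega
  obtain ⟨σ, hσ⟩ : ∃ σ : alternatingGroup (Fin (n + 1)), σ.1 0 = i1 :=
    ⟨⟨Equiv.swap 0 i1 * Equiv.swap i1 i2, by
      rw [Equiv.Perm.mem_alternatingGroup, map_mul, Equiv.Perm.sign_swap h01, Equiv.Perm.sign_swap h12]
      simp⟩, by simp [Equiv.swap_apply_of_ne_of_ne h01 h02]⟩
  have hw : (Pi.single 0 1 - Pi.single (Fin.last n) 1 : V) ∈ W := by
    show ∑ i, ((Pi.single 0 1 : V) i - (Pi.single (Fin.last n) 1 : V) i) = 0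
    rw [Finset.sum_sub_distrib, Finset.sum_pi_single', Finset.sum_pi_single']
    simp
  have hφ : φ σ = 1 := by
    apply (LinearMap.toMatrixAlgEquiv b).injective
    rw [map_one]
    exact congrArg Subtype.val (htriv σ)
  have h : (Pi.single 0 1 - Pi.single (Fin.last n) 1 : V) ((σ.1)⁻¹ i1) = (Pi.single 0 1 - Pi.single (Fin.last n) 1 : V) i1 :=
    congrFun (congrArg Subtype.val (LinearMap.congr_fun hφ ⟨_, hw⟩)) i1
  rw [show (σ.1)⁻¹ i1 = 0 by rw [← hσ]; simp] at h
  change (Pi.single 0 1 : V) 0 - (Pi.single (Fin.last n) 1 : V) 0 = (Pi.single 0 1 : V) i1 - (Pi.single (Fin.last n) 1 : V) i1 at h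
  rw [Pi.single_eq_same, Pi.single_eq_of_ne hlast, Pi.single_eq_of_ne h01.symm, Pi.single_eq_of_ne hl, sub_zero] at h
  exact one_ne_zero (h.trans (sub_zero 0))

end Cfsg.Agent.S4156
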