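import Cfsg.Statements.S4157
import Cfsg.Agent.Lib.ClassSizes.KulakoffCyclic

set_option autoImplicit false
open Cfsg

namespace Cfsg.Agent.S4157

/-- Let G be a finite p-group of order p^m that is not cyclic and, when p = 2, not of maximal class (nilpotency class m − 1). Then for every 1 ≤ k < m the number of subgroups of G of order p^k is congruent to 1 + p modulo p². -/
theorem result {G : Type*} [Group G] [Finite G] {p : ℕ} [Fact p.Prime] (m : ℕ)
    (hG : Nat.card G = p ^ m) (hnc : ¬ IsCyclic G) (h2 : p = 2 → Group.nilpotencyClass G ≠ m - 1)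
    (k : ℕ) (hk1 : 1 ≤ k) (hk2 : k < m) :
    Nat.card {H : Subgroup G // Nat.card H = p ^ k} ≡ 1 + p [MOD p ^ 2] := by
  have hp : p.Prime := Fact.out
  obtain ⟨P⟩ : Nonempty (Sylow p G) := inferInstance
  have htop : (P : Subgroup G) = ⊤ :=
    (P.is_maximal' ((IsPGroup.of_card hG).to_subgroup ⊤) le_top).symm
  let e : ↥(P : Subgroup G) ≃* G := (MulEquiv.subgroupCongr htop).trans Subgroup.topEquiv
  have hPc : Nat.card (P : Subgroup G) = p ^ m := (Nat.card_congr e.toEquiv).trans hG
  haveI : Group.IsNilpotent G := (IsPGroup.of_card hG).isNilpotent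
  have hclass : p = 2 → Group.nilpotencyClass ↥(P : Subgroup G) ≠ m - 1 := by
    intro h
    haveI : Group.IsNilpotent ↥(P : Subgroup G) := P.isPGroup'.isNilpotent
    rw [le_antisymm (Group.nilpotencyClass_le_of_surjective e.symm.toMonoidHom e.symm.surjective)
      (Group.nilpotencyClass_le_of_surjective e.toMonoidHom e.surjective)]
    exact h2 h
  have h1 := CfsgLib.ClassSizes.Kulakoff.card_subgroups_modEq (G := G) (a := k) hp
    (hG ▸ pow_dvd_pow p (by omega))
  have h3 : Nat.card {H : Subgroup G // Nat.card H = p ^ (k + 1) ∧ ¬ IsCyclic H} ≡ 1 [MOD p] :=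
    (CfsgLib.ClassSizes.Kulakoff.card_noncyclic_modEq_sylow P).trans
      (CfsgLib.ClassSizes.Kulakoff.card_noncyclic_modEq_one hPc (fun h => hnc (e.isCyclic.1 h)) hclass
        (by omega) (by omega))
  refine h1.trans (Nat.ModEq.add_left 1 ?_)
  have h4 := Nat.ModEq.mul_left' p h3
  rwa [mul_one, ← sq] at h4

end Cfsg.Agent.S4157
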