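import Cfsg.Statements.S4163
import Cfsg.Agent.Lib.ClassSizes.MinimalClass

set_option autoImplicit false
open Cfsg

namespace Cfsg.Agent.S4163

/-- Let G be a finite group with a normal abelian subgroup A satisfying C_G(A) = A. Suppose some conjugacy class of G has size greater than 1, let m be the smallest such size, and let M be the subgroup generated by the elements whose class has size 1 or m. Then M is nilpotent of class at most 3. -/
theorem result {G : Type*} [Group G] [Finite G]
    (A : Subgroup G) [A.Normal] (hA : IsMulCommutative A) (hCA : Subgroup.centralizer (A : Set G) = A)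
    (m : ℕ) (hm1 : 1 < m) (hm : ∃ x : G, (Subgroup.centralizer ({x} : Set G)).index = m) (hmin : ∀ x : G, 1 < (Subgroup.centralizer ({x} : Set G)).index → m ≤ (Subgroup.centralizer ({x} : Set G)).index) :
    Subgroup.upperCentralSeries ↥(Subgroup.closure {x : G | (Subgroup.centralizer ({x} : Set G)).index = 1 ∨ (Subgroup.centralizer ({x} : Set G)).index = m}) 3 = ⊤ := by
  refine CfsgLib.ClassSizes.MinimalClass.class_le_three A hA hCA _ fun t ht a ha => ?_
  have hcen : ∀ u : G, (Subgroup.centralizer ({u} : Set G)).index = 1 → u ∈ Subgroup.center G := fun u hu =>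
    Subgroup.mem_center_iff.2 fun g =>
      Subgroup.mem_centralizer_singleton_iff.1 (Subgroup.index_eq_one.1 hu ▸ Subgroup.mem_top g)
  rcases ht with ht | ht
  · rw [Subgroup.mem_center_iff.1 (hcen t ht) a, mul_inv_cancel_right, mul_inv_cancel]
    exact one_mem _
  · refine CfsgLib.ClassSizes.MinimalClass.commutator_mem_center A hA (fun u hu => ?_) ha
    rw [ht]
    refine hmin u (lt_of_le_of_ne (Nat.one_le_iff_ne_zero.2 Subgroup.index_ne_zero_of_finite) fun h => hu (hcen u h.symm))

end Cfsg.Agent.S4163
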