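import Cfsg.Statements.S4168
import Cfsg.Agent.Lib.ClassSizes.Basic


set_option autoImplicit false
open Cfsg

namespace Cfsg.Agent.S4168

/-- Let L be a finite quasisimple group (perfect with L/Z(L) simple). Then every prime dividing the order of the centre Z(L) also divides the order of L/Z(L). -/
theorem result {L : Type*} [Group L] [Finite L] (hL : Cfsg.IsQuasisimple L)
    (p : ℕ) (hp : p.Prime) (hdiv : p ∣ Nat.card (Subgroup.center L)) : p ∣ (Subgroup.center L).index := by
  by_contra hnd
  have := Fact.mk hp
  obtain ⟨S⟩ := (inferInstance : Nonempty (Sylow p (Subgroup.center L)))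
  set P := (S : Subgroup (Subgroup.center L)).map (Subgroup.center L).subtype with hP
  have hindex : ¬ p ∣ P.index := by
    rw [hP, Subgroup.index_map_subtype]
    exact fun h => (hp.dvd_mul.1 h).elim S.not_dvd_index hnd
  let PL : Sylow p L := (S.isPGroup'.map (Subgroup.center L).subtype).toSylow hindex
  have hPZ : (PL : Subgroup L) ≤ Subgroup.center L := Subgroup.map_subtype_le _
  have hc : (PL : Subgroup L) = ⊥ := by
    simpa [hL.1.commutator_eq_top] using CfsgLib.ClassSizes.central_sylow_inf_commutator PL hPZ
  have hdvd : p ∣ Nat.card (PL : Subgroup L) :=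
    PL.dvd_card_of_dvd_card (hdiv.trans (Subgroup.card_subgroup_dvd_card _))
  rw [hc, Subgroup.card_bot] at hdvd
  exact hp.not_dvd_one hdvd

end Cfsg.Agent.S4168
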