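import Cfsg.Statements.S4169
import Cfsg.Agent.Lib.ClassSizes.MinimalClass
import Cfsg.Agent.Lib.Core.Nilpotent

set_option autoImplicit false
open Cfsg

namespace Cfsg.Agent.S4169

/-- Let P be a finite p-group whose conjugacy classes have exactly two sizes (1 and one other value). Then P has nilpotency class at most 3. -/
theorem result {P : Type*} [Group P] [Finite P] {p : ℕ} [Fact p.Prime] (hP : IsPGroup p P)
    (m : ℕ) (hm : 1 < m) (h : ∀ x : P, (Subgroup.centralizer ({x} : Set P)).index = 1 ∨ (Subgroup.centralizer ({x} : Set P)).index = m) :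
    upperCentralSeries P 3 = ⊤ := by
  have hcen : ∀ u : P, (Subgroup.centralizer ({u} : Set P)).index = 1 → u ∈ Subgroup.center P := fun u hu =>
    Subgroup.mem_center_iff.2 fun g =>
      Subgroup.mem_centralizer_singleton_iff.1 (Subgroup.index_eq_one.1 hu ▸ Subgroup.mem_top g)
  haveI := hP.isNilpotent
  obtain ⟨A, ⟨hAn, hA⟩, hAmax⟩ := WellFounded.has_min (wellFounded_gt (α := Subgroup P))
    {A : Subgroup P | A.Normal ∧ IsMulCommutative A}
    ⟨⊥, inferInstance, ⟨⟨fun a b => Subsingleton.elim _ _⟩⟩⟩
  haveI := hAn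
  haveI := hA
  have hCA := CfsgLib.Core.centralizer_eq_of_maximal_abelian_normal A fun M hMn hMc hAM => by
    by_contra hne
    exact hAmax M ⟨hMn, hMc⟩ (lt_of_le_of_ne hAM (Ne.symm hne))
  have h3 := CfsgLib.ClassSizes.MinimalClass.class_le_three A hA hCA (⊤ : Subgroup P) fun t _ a ha => by
    rcases h t with ht | ht
    · rw [Subgroup.mem_center_iff.1 (hcen t ht) a, mul_inv_cancel_right, mul_inv_cancel]
      exact one_mem _
    · refine CfsgLib.ClassSizes.MinimalClass.commutator_mem_center A hA (fun u hu => ?_) ha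
      rw [ht]
      rcases h u with h1 | h1
      · exact absurd (hcen u h1) hu
      · exact h1.ge
  show Subgroup.upperCentralSeries P 3 = ⊤
  rw [← Subgroup.lowerCentralSeries_eq_bot_iff_upperCentralSeries_eq_top] at h3 ⊢
  have h4 := congrArg (Subgroup.map (Subgroup.closure ((⊤ : Subgroup P) : Set P)).subtype) h3
  rw [Subgroup.map_bot, Subgroup.map_lowerCentralSeries, ← MonoidHom.range_eq_map, Subgroup.range_subtype,
    Subgroup.closure_eq] at h4
  exact h4

end Cfsg.Agent.S4169
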