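import Cfsg.Statements.S4172
import Cfsg.Agent.Lib.ClassSizes.TwoGeneratedSylow

set_option autoImplicit false
open Cfsg

namespace Cfsg.Agent.S4172

/-- Let p be a prime and G a finite group with a non-commutative Sylow p-subgroup P whose Frattini subgroup has index p² in P (P is generated by two elements). Suppose G has no nontrivial normal subgroup of order prime to p and the Frattini subgroup of P contains no nontrivial normal subgroup of G. Then the generalized Fitting subgroup F*(G) is the unique minimal normal subgroup of G, the image of P in G/F*(G) is cyclic, and if F*(G) is not commutative then P permutes the components of G transitively by conjugation. -/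
theorem result {G : Type*} [Group G] [Finite G] (p : ℕ) [Fact p.Prime] (P : Sylow p G) (hna : ¬ IsMulCommutative (P : Subgroup G)) (hgen : (frattini ↥(P : Subgroup G)).index = p ^ 2) (hcore : Cfsg.pPrimeCore p G = ⊥) (hfrat : ((frattini ↥(P : Subgroup G)).map (P : Subgroup G).subtype).normalCore = ⊥) [hFn : (Cfsg.generalizedFittingSubgroup G).Normal] :
    (Cfsg.generalizedFittingSubgroup G ≠ ⊥ ∧ ∀ K : Subgroup G, K.Normal → K ≠ ⊥ → Cfsg.generalizedFittingSubgroup G ≤ K) ∧
      IsCyclic ↥((P : Subgroup G).map (QuotientGroup.mk' (Cfsg.generalizedFittingSubgroup G))) ∧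
      (¬ IsMulCommutative (Cfsg.generalizedFittingSubgroup G) → ∀ K L : Subgroup G, Cfsg.IsComponent K → Cfsg.IsComponent L → ∃ x ∈ (P : Subgroup G), L = K.map (MulAut.conj x).toMonoidHom) := by
  obtain ⟨M, hMn, hM, hmin⟩ := CfsgLib.ClassSizes.TwoGen.exists_minimum P hna hgen hcore hfrat
  haveI := hMn
  obtain ⟨hgF, hab⟩ := CfsgLib.ClassSizes.TwoGen.gFitting_eq P hna hgen hcore hfrat hM hmin
  refine ⟨⟨hgF.symm ▸ hM, fun K hK hK1 => hgF.symm ▸ hmin K hK hK1⟩, ?_, fun hnc K L hK hL => ?_⟩
  · obtain ⟨y, hy, hdec, -⟩ := CfsgLib.ClassSizes.TwoGen.exists_cyclic_mod P hna hgen (N := M)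
      (by rw [Subgroup.normalizer_eq_top]; exact le_top)
      (CfsgLib.ClassSizes.TwoGen.not_le_frattini P hcore hfrat hM)
    set π := QuotientGroup.mk' (Cfsg.generalizedFittingSubgroup G) with hπ
    have h : (P : Subgroup G).map π = Subgroup.zpowers (π y) := by
      refine le_antisymm ?_ (Subgroup.zpowers_le.2 ⟨y, hy, rfl⟩)
      rintro _ ⟨a, ha, rfl⟩
      obtain ⟨m, hm, -, k, rfl⟩ := hdec a ha
      have hm1 : π m = 1 := (QuotientGroup.eq_one_iff m).2 (by rw [hgF]; exact hm)
      rw [map_mul, hm1, one_mul, map_zpow]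
      exact Subgroup.zpow_mem_zpowers _ k
    rw [h]
    infer_instance
  · refine CfsgLib.ClassSizes.TwoGen.transitive P hna hgen hcore ?_ K L hK hL
    by_contra hne
    exact hnc (hgF.symm ▸ hab hne)

end Cfsg.Agent.S4172
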