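import Cfsg.Statements.S4176
import Cfsg.Agent.Lib.PLocal.PSolvable

set_option autoImplicit false
open Cfsg

namespace Cfsg.Agent.S4176

section
variable {k V H : Type*} [Field k] [AddCommGroup V] [Module k V] [Group H] [Finite H]
variable (ρ : Representation k H V)

theorem act_out {S : Subgroup H} {a : V} (hS : ∀ s ∈ S, ρ s a = a) (g : H) :
    ρ (QuotientGroup.mk g : H ⧸ S).out a = ρ g a := by
  obtain ⟨s, hs⟩ := QuotientGroup.mk_out_eq_mul S g
  rw [hs, map_mul, Module.End.mul_apply, hS _ s.2]

/-- The sum over the cosets of a subgroup fixing the vector. -/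
noncomputable def osum (S : Subgroup H) (a : V) : V :=
  letI := Fintype.ofFinite (H ⧸ S)
  ∑ q : H ⧸ S, ρ q.out a

theorem osum_mem {S : Subgroup H} {a : V} (hS : ∀ s ∈ S, ρ s a = a) (g : H) :
    ρ g (osum ρ S a) = osum ρ S a := by
  letI := Fintype.ofFinite (H ⧸ S)
  unfold osum
  rw [map_sum]
  refine Fintype.sum_equiv (MulAction.toPerm g) _ _ fun q => ?_
  induction q using QuotientGroup.induction_on with
  | H x =>
    show ρ g _ = ρ (g • (QuotientGroup.mk x : H ⧸ S)).out a
    rw [act_out ρ hS, show g • (QuotientGroup.mk x : H ⧸ S) = QuotientGroup.mk (g * x) from rfl,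
      act_out ρ hS, map_mul, Module.End.mul_apply]

variable (p : ℕ) [Fact p.Prime] [CharP k p]

omit [Fact p.Prime] in
theorem natCast_ne_zero {n : ℕ} (h : ¬ p ∣ n) : (n : k) ≠ 0 := fun h0 => h ((CharP.cast_eq_zero_iff k p n).1 h0)

omit [Fact p.Prime] [CharP k p] in
open Subgroup in
theorem relIndex_dvd_index_of_normal_right (X B : Subgroup H) [B.Normal] : X.relIndex B ∣ X.index := by
  refine dvd_trans (dvd_of_eq ?_) (relIndex_dvd_index_of_le (le_sup_left : X ≤ X ⊔ B))
  have e1 := relIndex_mul_relIndex ⊥ B (X ⊔ B) bot_le le_sup_right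
  have e2 := relIndex_mul_relIndex ⊥ X (X ⊔ B) bot_le le_sup_left
  have e3 := relIndex_mul_relIndex ⊥ (X ⊓ B) X bot_le inf_le_left
  have e4 := relIndex_mul_relIndex ⊥ (X ⊓ B) B bot_le inf_le_right
  rw [relIndex_sup_right] at e1
  rw [inf_relIndex_left] at e3
  rw [inf_relIndex_right] at e4
  simp only [relIndex_bot_left] at e1 e2 e3 e4
  refine Nat.eq_of_mul_eq_mul_left (Nat.card_pos (α := X)) ?_
  rw [e2, ← e1, ← e4, ← e3]
  ring

open Subgroup in
/-- The averaging map attached to a normal section of order prime to `p`. -/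
theorem exists_average (A B : Subgroup H) [A.Normal] [B.Normal] (hAB : A ≤ B) (hc : ¬ p ∣ A.relIndex B) :
    ∃ T : V →ₗ[k] V, (∀ v, (∀ x ∈ A, ρ x v = v) → ∀ m ∈ B, ρ m (T v) = T v) ∧
      (∀ v, (∀ x ∈ A, ρ x v = v) → ∀ h : H, ρ h (T v) = T (ρ h v)) ∧
      (∀ v, (∀ x ∈ B, ρ x v = v) → T v = v) := by
  set A' := A.subgroupOf B
  letI := Fintype.ofFinite (B ⧸ A')
  have hcard : Fintype.card (B ⧸ A') = A.relIndex B := by rw [← Nat.card_eq_fintype_card]; rfl
  have hne : (Fintype.card (B ⧸ A') : k) ≠ 0 := natCast_ne_zero p (hcard ▸ hc)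
  have hout : ∀ v, (∀ x ∈ A, ρ x v = v) → ∀ m : B, ρ ((QuotientGroup.mk m : B ⧸ A').out : H) v = ρ (m : H) v := by
    intro v hv m
    obtain ⟨s, hs⟩ := QuotientGroup.mk_out_eq_mul A' m
    rw [hs, Subgroup.coe_mul, map_mul, Module.End.mul_apply, hv ((s : B) : H) s.2]
  refine ⟨(Fintype.card (B ⧸ A') : k)⁻¹ • ∑ q : B ⧸ A', ρ (q.out : H), fun v hv m hm => ?_, fun v hv h => ?_,
    fun v hv => ?_⟩
  · simp only [LinearMap.smul_apply, LinearMap.sum_apply, map_smul, map_sum]
    congr 1
    refine Fintype.sum_equiv (MulAction.toPerm (⟨m, hm⟩ : B)) _ _ fun q => ?_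
    induction q using QuotientGroup.induction_on with
    | H x =>
      show ρ m _ = ρ (((⟨m, hm⟩ : B) • (QuotientGroup.mk x : B ⧸ A')).out : H) v
      rw [hout v hv, show (⟨m, hm⟩ : B) • (QuotientGroup.mk x : B ⧸ A') = QuotientGroup.mk (⟨m, hm⟩ * x) from rfl,
        hout v hv, Subgroup.coe_mul, map_mul, Module.End.mul_apply]
  · have hv' : ∀ x ∈ A, ρ x (ρ h v) = ρ h v := fun x hx => by
      rw [← Module.End.mul_apply, ← map_mul, show x * h = h * (h⁻¹ * x * h) by group, map_mul,
        Module.End.mul_apply, hv _ (Normal.conj_mem' inferInstance x hx h)]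
    simp only [LinearMap.smul_apply, LinearMap.sum_apply, map_smul, map_sum]
    congr 1
    let e : (B ⧸ A') ≃* (B ⧸ A') := QuotientGroup.congr A' A' (MulAut.conjNormal h) (by
      ext x
      rw [Subgroup.mem_map]
      constructor
      · rintro ⟨y, hy, rfl⟩
        show h * (y : H) * h⁻¹ ∈ A
        exact (inferInstance : A.Normal).conj_mem _ hy h
      · intro hx
        refine ⟨(MulAut.conjNormal h).symm x, ?_, MulEquiv.apply_symm_apply _ _⟩
        show ((MulAut.conjNormal h).symm x : B).1 ∈ A
        rw [MulAut.conjNormal_symm_apply]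
        exact (inferInstance : A.Normal).conj_mem' _ hx h)
    refine Fintype.sum_equiv e.toEquiv _ _ fun q => ?_
    induction q using QuotientGroup.induction_on with
    | H x =>
      show ρ h _ = ρ ((e (QuotientGroup.mk x : B ⧸ A')).out : H) (ρ h v)
      rw [hout v hv, show e (QuotientGroup.mk x : B ⧸ A') = QuotientGroup.mk (MulAut.conjNormal h x) from rfl,
        hout _ hv', MulAut.conjNormal_apply, ← Module.End.mul_apply, ← map_mul, ← Module.End.mul_apply,
        ← map_mul, inv_mul_cancel_right]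
  · simp only [LinearMap.smul_apply, LinearMap.sum_apply]
    rw [Finset.sum_congr rfl fun q _ => hv _ q.out.2, Finset.sum_const, Finset.card_univ,
      ← Nat.cast_smul_eq_nsmul k, inv_smul_smul₀ hne]

open Subgroup in
theorem invariants_le (hsol : Cfsg.IsPSolvable p H) (S : Subgroup H) (hS : ¬ p ∣ S.index) (a : V)
    (hfix : ∀ s ∈ S, ρ s a = a) (hspan : Submodule.span k {u : V | ∃ h : H, ρ h a = u} = ⊤) :
    ρ.invariants ≤ Submodule.span k {osum ρ S a} := by
  classical
  obtain ⟨n, M, h0, hn, hmono, hnormal, hfac⟩ := hsol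
  have key : ∀ i : Fin (n + 1), ∃ b : V, (∀ s ∈ S, ρ s b = b) ∧ (∀ m ∈ M i, ρ m b = b) ∧
      (∀ v, (∀ m ∈ M i, ρ m v = v) → v ∈ Submodule.span k {u : V | ∃ h : H, ρ h b = u}) ∧
      osum ρ S b = osum ρ S a := by
    intro i
    induction i using Fin.induction with
    | zero =>
      refine ⟨a, hfix, fun m hm => ?_, fun v _ => hspan ▸ Submodule.mem_top, rfl⟩
      rw [h0, mem_bot] at hm
      rw [hm, map_one, Module.End.one_apply]
    | succ i ih =>
      obtain ⟨b, hbS, hbM, hbspan, hbsum⟩ := ih
      haveI := hnormal i.castSucc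
      haveI := hnormal i.succ
      have hAB : M i.castSucc ≤ M i.succ := hmono i.castSucc_le_succ
      have horb : ∀ h : H, ∀ m ∈ M i.castSucc, ρ m (ρ h b) = ρ h b := fun h m hm => by
        rw [← Module.End.mul_apply, ← map_mul, show m * h = h * (h⁻¹ * m * h) by group, map_mul,
          Module.End.mul_apply, hbM _ (Normal.conj_mem' inferInstance m hm h)]
      by_cases hc : p ∣ (M i.castSucc).relIndex (M i.succ)
      · obtain ⟨l, hl⟩ := (hfac i).resolve_right fun h' =>
          (Fact.out : p.Prime).coprime_iff_not_dvd.1 h'.symm hc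
        have hle : M i.succ ≤ S ⊔ M i.castSucc := by
          have h1 : (S ⊔ M i.castSucc).relIndex (M i.succ) ∣ p ^ l :=
            hl ▸ relIndex_dvd_of_le_left _ le_sup_right
          have h2 : ¬ p ∣ (S ⊔ M i.castSucc).relIndex (M i.succ) := fun hd => hS <|
            hd.trans ((relIndex_dvd_index_of_normal_right _ _).trans (index_dvd_of_le le_sup_left))
          obtain ⟨j, -, hj⟩ := (Nat.dvd_prime_pow Fact.out).1 h1
          rw [← relIndex_eq_one]
          rcases Nat.eq_zero_or_pos j with rfl | hj0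
          · rwa [pow_zero] at hj
          · exact absurd (hj ▸ dvd_pow_self p hj0.ne') h2
        have hfixB : ∀ m ∈ M i.succ, ρ m b = b := fun m hm => by
          have hm' := hle hm
          rw [← SetLike.mem_coe, mul_normal, Set.mem_mul] at hm'
          obtain ⟨s, hs, x, hx, rfl⟩ := hm'
          rw [map_mul, Module.End.mul_apply, hbM x hx, hbS s hs]
        exact ⟨b, hbS, hfixB, fun v hv => hbspan v fun m hm => hv m (hAB hm), hbsum⟩
      · obtain ⟨T, hT1, hT2, hT3⟩ := exists_average ρ p (M i.castSucc) (M i.succ) hAB hc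
        refine ⟨T b, fun s hs => by rw [hT2 b hbM, hbS s hs], hT1 b hbM, fun v hv => ?_, ?_⟩
        · have h1 : T v ∈ (Submodule.span k {u : V | ∃ h : H, ρ h b = u}).map T :=
            Submodule.mem_map_of_mem (hbspan v fun m hm => hv m (hAB hm))
          rw [hT3 v hv, Submodule.map_span] at h1
          refine Submodule.span_mono ?_ h1
          rintro _ ⟨_, ⟨h, rfl⟩, rfl⟩
          exact ⟨h, hT2 b hbM h⟩
        · letI := Fintype.ofFinite (H ⧸ S)
          rw [← hbsum, ← hT3 (osum ρ S b) fun x _ => osum_mem ρ hbS x]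
          unfold osum
          rw [map_sum]
          exact Finset.sum_congr rfl fun q _ => hT2 b hbM q.out
  obtain ⟨b, hbS, hbM, hbspan, hbsum⟩ := key (Fin.last n)
  rw [hn] at hbM hbspan
  intro v hv
  have hs : osum ρ S a = (S.index : k) • b := by
    letI := Fintype.ofFinite (H ⧸ S)
    rw [← hbsum]
    unfold osum
    rw [Finset.sum_congr rfl fun q _ => hbM q.out (mem_top _), Finset.sum_const, Finset.card_univ,
      ← Nat.cast_smul_eq_nsmul k, index, Nat.card_eq_fintype_card]
  have hne : (S.index : k) ≠ 0 := natCast_ne_zero p hS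
  refine (Submodule.span_le.2 ?_) (hbspan v fun m _ => hv m)
  rintro _ ⟨h, rfl⟩
  show ρ h b ∈ Submodule.span k {osum ρ S a}
  rw [hbM h (mem_top h), Submodule.mem_span_singleton]
  exact ⟨(S.index : k)⁻¹, by rw [hs, inv_smul_smul₀ hne]⟩

end

/-- Let k be a field of prime characteristic p, H a finite p-soluble group and ρ a k-linear representation of H on V. Let a be a vector that is fixed by some Sylow p-subgroup of H and whose H-orbit spans V. Then the space of H-fixed vectors has dimension at most 1, and every vector b whose H-orbit has size coprime to the size of the orbit of a is fixed by H. -/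
theorem result {k V H : Type*} [Field k] (p : ℕ) [Fact p.Prime] [CharP k p] [AddCommGroup V] [Module k V]
    [Group H] [Finite H] (hsol : Cfsg.IsPSolvable p H) (ρ : Representation k H V) (a : V)
    (hfix : ∃ P : Sylow p H, ∀ x : H, x ∈ (P : Subgroup H) → ρ x a = a)
    (hspan : Submodule.span k {u : V | ∃ h : H, ρ h a = u} = ⊤) :
    Module.finrank k ρ.invariants ≤ 1 ∧
    ∀ b : V, (Nat.card {u : V | ∃ h : H, ρ h a = u}).Coprime (Nat.card {u : V | ∃ h : H, ρ h b = u}) → ∀ h : H, ρ h b = b := by
  classical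
  obtain ⟨P, hP⟩ := hfix
  have hPi : ¬ p ∣ (P : Subgroup H).index := P.not_dvd_index
  refine ⟨?_, fun b hcop => ?_⟩
  · have h := invariants_le ρ p hsol (P : Subgroup H) hPi a hP hspan
    refine (Submodule.finrank_mono h).trans ((finrank_span_le_card _).trans ?_)
    simp
  letI : MulAction H V :=
    { smul := fun h v => ρ h v
      one_smul := fun v => by show ρ 1 v = v; simp
      mul_smul := fun g h v => by show ρ (g * h) v = ρ g (ρ h v); simp }
  set Ha := MulAction.stabilizer H a
  set Hb := MulAction.stabilizer H b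
  have hcop' : Ha.index.Coprime Hb.index := by
    rw [MulAction.index_stabilizer, MulAction.index_stabilizer, Set.ncard, ← Nat.card_coe_set_eq] at *
    exact hcop
  set S := Ha.subgroupOf Hb
  have hPa : (P : Subgroup H) ≤ Ha := fun x hx => hP x hx
  have hSi : Ha.relIndex Hb = Ha.index := by
    refine Nat.dvd_antisymm ?_ ?_
    · have h1 := Subgroup.index_dvd_of_le (inf_le_left : Ha ⊓ Hb ≤ Ha)
      have h2 : Ha.relIndex Hb * Hb.index = (Ha ⊓ Hb).index := by
        rw [← Subgroup.inf_relIndex_right, Subgroup.relIndex_mul_index inf_le_right]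
      have h3 : Ha.index ∣ Ha.relIndex Hb := hcop'.dvd_of_dvd_mul_right (h2 ▸ h1)
      have h4 := Subgroup.relIndex_le_of_le_right (H := Ha) (le_top : Hb ≤ ⊤)
        (by rw [Subgroup.relIndex_top_right]; exact Subgroup.index_ne_zero_of_finite)
      rw [Subgroup.relIndex_top_right] at h4
      exact dvd_of_eq (le_antisymm h4 (Nat.le_of_dvd (Nat.pos_of_ne_zero Subgroup.index_ne_zero_of_finite) h3))
    · have h1 := Subgroup.index_dvd_of_le (inf_le_left : Ha ⊓ Hb ≤ Ha)
      have h2 : Ha.relIndex Hb * Hb.index = (Ha ⊓ Hb).index := by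
        rw [← Subgroup.inf_relIndex_right, Subgroup.relIndex_mul_index inf_le_right]
      exact hcop'.dvd_of_dvd_mul_right (h2 ▸ h1)
  have hSp : ¬ p ∣ S.index := fun hd => hPi ((hSi ▸ hd : p ∣ Ha.index).trans (Subgroup.index_dvd_of_le hPa))
  set ρ' : Representation k Hb V := ρ.comp Hb.subtype
  have hS : ∀ s ∈ S, ρ' s a = a := fun s hs => hs
  let f : Hb ⧸ S → H ⧸ Ha := Quotient.map' Subtype.val fun x y hxy => by
    rw [QuotientGroup.leftRel_apply] at hxy ⊢
    exact hxy
  have hf : Function.Bijective f := by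
    have hinj : Function.Injective f := by
      intro q r
      induction q using QuotientGroup.induction_on
      induction r using QuotientGroup.induction_on
      rename_i x y
      intro h
      exact QuotientGroup.eq.2 (show ((x : H))⁻¹ * y ∈ Ha from QuotientGroup.eq.1 h)
    exact (Nat.bijective_iff_injective_and_card f).2 ⟨hinj, hSi⟩
  have hsum : osum ρ' S a = osum ρ Ha a := by
    letI := Fintype.ofFinite (Hb ⧸ S)
    letI := Fintype.ofFinite (H ⧸ Ha)
    unfold osum
    refine Fintype.sum_bijective f hf _ _ fun q => ?_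
    induction q using QuotientGroup.induction_on with
    | H x =>
      rw [act_out ρ' hS]
      show ρ (x : H) a = ρ (QuotientGroup.mk (x : H) : H ⧸ Ha).out a
      rw [act_out ρ (S := Ha) (fun s hs => hs)]
  have hspan' : Submodule.span k {u : V | ∃ h : Hb, ρ' h a = u} = ⊤ := by
    rw [eq_top_iff, ← hspan]
    refine Submodule.span_mono ?_
    rintro _ ⟨h, rfl⟩
    obtain ⟨q, hq⟩ := hf.2 (QuotientGroup.mk h)
    induction q using QuotientGroup.induction_on with
    | H x =>
      refine ⟨x, ?_⟩
      show ρ (x : H) a = ρ h a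
      rw [← act_out ρ (S := Ha) (fun s hs => hs) h, ← hq]
      exact (act_out ρ (S := Ha) (fun s hs => hs) (x : H)).symm
  have hb : b ∈ ρ'.invariants := fun g => g.2
  have h := invariants_le ρ' p (CfsgLib.PLocal.isPSolvable_subgroup hsol Hb) S hSp a hS hspan' hb
  obtain ⟨c, hc⟩ := Submodule.mem_span_singleton.1 h
  intro g
  rw [← hc, map_smul, hsum, osum_mem ρ (S := Ha) (fun s hs => hs) g]

end Cfsg.Agent.S4176
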