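import Cfsg.Statements.S4177
import Cfsg.Agent.Lib.ClassSizes.Counting

set_option autoImplicit false
open Cfsg

namespace Cfsg.Agent.S4177

variable {k V H : Type*} [Field k] [AddCommGroup V] [Module k V] [Group H]

def stab (ρ : Representation k H V) (v : V) : Subgroup H where
  carrier := {h | ρ h v = v}
  one_mem' := by simp
  mul_mem' := fun {x y} (hx : ρ x v = v) (hy : ρ y v = v) => by simp [hx, hy]
  inv_mem' := fun {x} (hx : ρ x v = v) => by
    show ρ x⁻¹ v = v
    nth_rw 1 [← hx]
    exact ρ.inv_self_apply x v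

theorem card_orbit_eq_index (ρ : Representation k H V) (v : V) :
    Nat.card {u : V | ∃ h : H, ρ h v = u} = (stab ρ v).index := by
  symm
  refine Nat.card_eq_of_bijective (Quotient.lift (fun h : H => (⟨ρ h v, h, rfl⟩ : {u : V | ∃ h : H, ρ h v = u})) ?_) ⟨?_, ?_⟩
  · intro x y h
    have h' : ρ (x⁻¹ * y) v = v := QuotientGroup.leftRel_apply.1 h
    apply Subtype.ext
    show ρ x v = ρ y v
    rw [← mul_inv_cancel_left x y, map_mul, Module.End.mul_apply, h']
  · intro x y
    induction x using Quotient.inductionOn with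
    | _ x =>
    induction y using Quotient.inductionOn with
    | _ y =>
    intro h
    apply Quotient.sound
    apply QuotientGroup.leftRel_apply.2
    show ρ (x⁻¹ * y) v = v
    rw [map_mul, Module.End.mul_apply, ← show ρ x v = ρ y v from congrArg Subtype.val h, ρ.inv_self_apply]
  · rintro ⟨_, h, rfl⟩; exact ⟨Quotient.mk _ h, rfl⟩

/-- Let k be a field whose characteristic does not divide the order of the finite group H (for instance a field of characteristic zero), and ρ a k-linear representation of H on V. Let a be a vector whose H-orbit spans V. Then the space of H-fixed vectors has dimension at most 1, and every vector b whose H-orbit has size coprime to the size of the orbit of a is fixed by H. -/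
theorem result {k V H : Type*} [Field k] [AddCommGroup V] [Module k V] [Group H] [Finite H]
    (hchar : ¬ ringChar k ∣ Nat.card H) (ρ : Representation k H V) (a : V)
    (hspan : Submodule.span k {u : V | ∃ h : H, ρ h a = u} = ⊤) :
    Module.finrank k ρ.invariants ≤ 1 ∧
    ∀ b : V, (Nat.card {u : V | ∃ h : H, ρ h a = u}).Coprime (Nat.card {u : V | ∃ h : H, ρ h b = u}) → ∀ h : H, ρ h b = b := by
  classical
  have := Fintype.ofFinite H
  have hne : ∀ n : ℕ, n ∣ Nat.card H → (n : k) ≠ 0 := fun n hn h =>
    hchar (((ringChar.spec k n).1 h).trans hn)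
  set c : k := (Nat.card H : k) with hc
  have hc0 : c ≠ 0 := hne _ dvd_rfl
  have hcH : ∀ v : V, ∑ _g : H, v = c • v := fun v => by
    rw [Finset.sum_const, Finset.card_univ, hc, Nat.cast_smul_eq_nsmul, Nat.card_eq_fintype_card]
  have hsum : ∀ (g : H) (v : V), ∑ h : H, ρ (g * h) v = ∑ h : H, ρ h v := fun g v =>
    Equiv.sum_comp (Equiv.mulLeft g) (fun h => ρ h v)
  have hsumr : ∀ (g : H) (v : V), ∑ h : H, ρ (h * g) v = ∑ h : H, ρ h v := fun g v =>
    Equiv.sum_comp (Equiv.mulRight g) (fun h => ρ h v)
  refine ⟨?_, fun b hcop => ?_⟩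
  · let e : V →ₗ[k] V := c⁻¹ • ∑ h : H, ρ h
    have he : ∀ v, e v = c⁻¹ • ∑ h : H, ρ h v := fun v => by simp [e]
    have hemem : e a ∈ ρ.invariants := by
      intro g
      rw [he, map_smul, map_sum]
      simp_rw [← Module.End.mul_apply, ← map_mul]
      rw [hsum]
    refine finrank_le_one ⟨e a, hemem⟩ fun w => ?_
    have hw : e w.1 = w.1 := by
      have hw2 : ∀ h : H, ρ h w.1 = w.1 := w.2
      rw [he]; simp_rw [hw2]; rw [hcH, smul_smul, inv_mul_cancel₀ hc0, one_smul]
    have hspan' : ∀ v : V, e v ∈ k ∙ e a := by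
      intro v
      have hv : v ∈ Submodule.span k {u : V | ∃ h : H, ρ h a = u} := hspan ▸ Submodule.mem_top
      induction hv using Submodule.span_induction with
      | mem u hu =>
        obtain ⟨g, rfl⟩ := hu
        have : e (ρ g a) = e a := by
          rw [he, he]; simp_rw [← Module.End.mul_apply, ← map_mul]; rw [hsumr]
        rw [this]; exact Submodule.mem_span_singleton_self _
      | zero => simp
      | add x y _ _ hx hy => rw [map_add]; exact add_mem hx hy
      | smul t x _ hx => rw [map_smul]; exact Submodule.smul_mem _ t hx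
    obtain ⟨t, ht⟩ := Submodule.mem_span_singleton.1 (hspan' w.1)
    exact ⟨t, Subtype.ext (ht.trans hw)⟩
  · set W := Submodule.span k {u : V | ∃ h : H, ρ h b = u} with hW
    have hWinv : ∀ g : H, ∀ w ∈ W, ρ g w ∈ W := by
      intro g w hw
      induction hw using Submodule.span_induction with
      | mem u hu =>
        obtain ⟨h, rfl⟩ := hu
        exact Submodule.subset_span ⟨g * h, by rw [map_mul]; rfl⟩
      | zero => simp
      | add x y _ _ hx hy => rw [map_add]; exact add_mem hx hy
      | smul t x _ hx => rw [map_smul]; exact Submodule.smul_mem _ t hx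
    obtain ⟨W', hW'⟩ := W.exists_isCompl
    let π₀ : V →ₗ[k] V := W.subtype ∘ₗ Submodule.projectionOnto W W' hW'
    let π : V →ₗ[k] V := c⁻¹ • ∑ h : H, ρ h ∘ₗ π₀ ∘ₗ ρ h⁻¹
    have hπ : ∀ v, π v = c⁻¹ • ∑ h : H, ρ h (π₀ (ρ h⁻¹ v)) := fun v => by simp [π]
    have hπW : ∀ v, π v ∈ W := fun v => by
      rw [hπ]; exact Submodule.smul_mem _ _ (Submodule.sum_mem _ fun h _ => hWinv h _ (Submodule.coe_mem _))
    have hπid : ∀ w ∈ W, π w = w := by
      intro w hw
      rw [hπ]
      have : ∀ h : H, ρ h (π₀ (ρ h⁻¹ w)) = w := fun h => by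
        have h1 : π₀ (ρ h⁻¹ w) = ρ h⁻¹ w :=
          congrArg Subtype.val (Submodule.projectionOnto_apply_left hW' ⟨_, hWinv _ _ hw⟩)
        rw [h1, ρ.self_inv_apply]
      simp_rw [this]
      rw [hcH, smul_smul, inv_mul_cancel₀ hc0, one_smul]
    have hπeq : ∀ (g : H) (v : V), π (ρ g v) = ρ g (π v) := by
      intro g v
      rw [hπ, hπ, map_smul, map_sum]
      congr 1
      rw [← Equiv.sum_comp (Equiv.mulLeft g)]
      refine Finset.sum_congr rfl fun h _ => ?_
      simp only [Equiv.coe_mulLeft, mul_inv_rev, map_mul, Module.End.mul_apply]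
      rw [ρ.inv_self_apply]
    rw [card_orbit_eq_index, card_orbit_eq_index] at hcop
    set A := stab ρ a
    -- summing over the stabilizer of a kills the dependence on the point of the orbit of b
    set w := ∑ s : A, ρ (s : H) b with hw
    have hconst : ∀ g : H, ∑ s : A, ρ (s : H) (ρ g b) = w := by
      intro g
      obtain ⟨s₀, hs₀, t₀, ht₀, rfl⟩ := CfsgLib.ClassSizes.exists_mul_of_coprime_index hcop g
      have ht₀' : ρ t₀ b = b := ht₀
      rw [map_mul, Module.End.mul_apply, ht₀', hw, ← Equiv.sum_comp (Equiv.mulRight (⟨s₀, hs₀⟩ : A)) (fun s : A => ρ (s : H) b)]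
      simp
    have hwinv : ∀ g : H, ρ g w = w := by
      have h1 : c • w = ((Nat.card A : ℕ) : k) • ∑ h : H, ρ h b := by
        rw [← hcH, ← Finset.sum_congr rfl (fun g _ => hconst g), Finset.sum_comm]
        simp_rw [← Module.End.mul_apply, ← map_mul, hsum]
        rw [Finset.sum_const, Finset.card_univ, Nat.cast_smul_eq_nsmul, Nat.card_eq_fintype_card]
      intro g
      apply smul_right_injective V hc0
      show c • ρ g w = c • w
      rw [← map_smul, h1, map_smul, map_sum]
      simp_rw [← Module.End.mul_apply, ← map_mul]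
      rw [hsum]
    have hfix : ∀ u ∈ W, ∀ g : H, ρ g (∑ s : A, ρ (s : H) u) = ∑ s : A, ρ (s : H) u := by
      intro u hu g
      induction hu using Submodule.span_induction with
      | mem u hu => obtain ⟨h, rfl⟩ := hu; rw [hconst]; exact hwinv g
      | zero => simp
      | add x y _ _ hx hy => simp only [map_add, Finset.sum_add_distrib]; rw [hx, hy]
      | smul t x _ hx => simp only [map_smul, ← Finset.smul_sum]; rw [hx]
    have hz : ∀ g : H, ρ g (π a) = π a := by
      intro g
      have h1 : ∑ s : A, ρ (s : H) (π a) = ((Nat.card A : ℕ) : k) • π a := by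
        have : ∀ s : A, ρ (s : H) (π a) = π a := fun s => by rw [← hπeq, (s.2 : ρ (s : H) a = a)]
        simp_rw [this]
        rw [Finset.sum_const, Finset.card_univ, Nat.cast_smul_eq_nsmul, Nat.card_eq_fintype_card]
      have h2 := hfix _ (hπW a) g
      rw [h1, map_smul] at h2
      exact smul_right_injective V (hne _ A.card_subgroup_dvd_card) h2
    intro g
    have hb : b ∈ W := Submodule.subset_span ⟨1, by simp⟩
    rw [← hπid b hb]
    suffices ∀ v : V, ρ g (π v) = π v from this b
    intro v
    have hv : v ∈ Submodule.span k {u : V | ∃ h : H, ρ h a = u} := hspan ▸ Submodule.mem_top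
    induction hv using Submodule.span_induction with
    | mem u hu => obtain ⟨h, rfl⟩ := hu; rw [hπeq, hz, hz]
    | zero => simp
    | add x y _ _ hx hy => simp only [map_add]; rw [hx, hy]
    | smul t x _ hx => simp only [map_smul]; rw [hx]

end Cfsg.Agent.S4177
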