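import Cfsg.Statements.S4178


set_option autoImplicit false
open Cfsg

namespace Cfsg.Agent.S4178

theorem index_le_of_free.{u, w} {H : Type u} [Group H] {W : Type w} [Finite W] (R : Subgroup H) (f : H → W) (z : W)
    (hz : ∀ h, f h ≠ z) (hinj : ∀ g h, f g = f h → g⁻¹ * h ∈ R) : R.index ≤ Nat.card W - 1 := by
  classical
  haveI := Fintype.ofFinite W
  have e : Nat.card {x : W // x ≠ z} = Nat.card W - 1 := by
    rw [Nat.card_eq_fintype_card, Nat.card_eq_fintype_card, Fintype.card_subtype_compl, Fintype.card_subtype_eq]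
  rw [Subgroup.index_eq_card, ← e]
  refine Nat.card_le_card_of_injective (fun t : H ⧸ R => (⟨f t.out, hz _⟩ : {x : W // x ≠ z})) fun s t hst => ?_
  rw [← QuotientGroup.out_eq' s, ← QuotientGroup.out_eq' t]
  exact QuotientGroup.eq.2 (hinj _ _ (congrArg Subtype.val hst))

theorem bounds.{u, w} {F : Type u} {V : Type w} [Field F] [Fintype F] [AddCommGroup V] [Module F V]
    [FiniteDimensional F V] [Nontrivial V] (H : Subgroup (V ≃ₗ[F] V)) (R : Subgroup ↥H)
    (hR : ∀ (h : ↥H) (v : V), v ≠ 0 → (h : V ≃ₗ[F] V) v = v → h ∈ R)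
    (W : Submodule F V) (hW : ∀ h ∈ H, ∀ w ∈ W, h w ∈ W) :
    (W ≠ ⊥ → R.index ≤ Fintype.card F ^ Module.finrank F W - 1) ∧
    (W ≠ ⊤ → R.index ≤ Fintype.card F ^ (Module.finrank F V - Module.finrank F W) - 1) := by
  classical
  haveI : Finite V := Module.finite_of_finite F
  refine ⟨fun hb => ?_, fun ht => ?_⟩
  · obtain ⟨w, hw, hw0⟩ := Submodule.exists_mem_ne_zero_of_ne_bot hb
    rw [← Nat.card_eq_fintype_card, ← Module.natCard_eq_pow_finrank]
    refine index_le_of_free R (fun h : ↥H => (⟨(h : V ≃ₗ[F] V) w, hW _ h.2 w hw⟩ : W)) 0 (fun h h0 => hw0 ?_) ?_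
    · exact (LinearEquiv.map_eq_zero_iff _).1 (congrArg Subtype.val h0)
    · intro g h hgh
      refine hR _ w hw0 ?_
      have h1 : (g : V ≃ₗ[F] V) w = (h : V ≃ₗ[F] V) w := congrArg Subtype.val hgh
      rw [Subgroup.coe_mul, InvMemClass.coe_inv, LinearEquiv.mul_apply, ← h1]
      exact (g : V ≃ₗ[F] V).symm_apply_apply w
  · obtain ⟨v, hv⟩ : ∃ v : V, v ∉ W := by
      by_contra hcon
      push Not at hcon
      exact ht (eq_top_iff.2 fun v _ => hcon v)
    have hq : Nat.card (V ⧸ W) = Fintype.card F ^ (Module.finrank F V - Module.finrank F W) := by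
      rw [Module.natCard_eq_pow_finrank (K := F), Nat.card_eq_fintype_card]
      congr 1
      have := W.finrank_quotient_add_finrank
      omega
    haveI : Finite (V ⧸ W) := Module.finite_of_finite F
    rw [← hq]
    refine index_le_of_free R (fun h : ↥H => (Submodule.Quotient.mk ((h : V ≃ₗ[F] V) v) : V ⧸ W)) 0 ?_ ?_
    · intro h h0
      rw [Submodule.Quotient.mk_eq_zero] at h0
      have h1 := hW _ (H.inv_mem h.2) _ h0
      apply hv
      rwa [show (((h : V ≃ₗ[F] V))⁻¹ : V ≃ₗ[F] V) ((h : V ≃ₗ[F] V) v) = v from (h : V ≃ₗ[F] V).symm_apply_apply v] at h1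
    · intro g h hgh
      rw [Submodule.Quotient.eq] at hgh
      set k : ↥H := g⁻¹ * h
      have hk : (k : V ≃ₗ[F] V) v - v ∈ W := by
        have h1 := hW _ (H.inv_mem g.2) _ hgh
        rw [map_sub, show (((g : V ≃ₗ[F] V))⁻¹ : V ≃ₗ[F] V) ((g : V ≃ₗ[F] V) v) = v from
          (g : V ≃ₗ[F] V).symm_apply_apply v] at h1
        have h2 := W.neg_mem h1
        rwa [neg_sub] at h2
      by_contra hkR
      let f : V →ₗ[F] V := ((k : V ≃ₗ[F] V) : V →ₗ[F] V) - LinearMap.id
      have hfinj : Function.Injective f := by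
        rw [← LinearMap.ker_eq_bot, Submodule.eq_bot_iff]
        intro x hx
        by_contra hx0
        rw [LinearMap.mem_ker, LinearMap.sub_apply, sub_eq_zero] at hx
        exact hkR (hR k x hx0 hx)
      have hfW : W.map f = W := by
        apply Submodule.eq_of_le_of_finrank_eq
        · rintro _ ⟨x, hx, rfl⟩
          exact W.sub_mem (hW _ k.2 x hx) hx
        · exact (LinearEquiv.finrank_eq (Submodule.equivMapOfInjective f hfinj W)).symm
      obtain ⟨x, hx, hfx⟩ : f v ∈ W.map f := by rw [hfW]; exact hk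
      exact hv (hfinj hfx ▸ hx)

/-- Let F be a finite field with q elements, V a non-zero finite-dimensional F-space of dimension d, H a group of invertible linear maps of V, and R the subgroup of H generated by the elements of H that fix some non-zero vector (have eigenvalue 1). Then the index of R in H is at most q^d − 1; and if H leaves invariant some proper non-zero subspace, the index is at most q^(d/2) − 1. -/
theorem result {F V : Type*} [Field F] [Fintype F] [AddCommGroup V] [Module F V] [FiniteDimensional F V] [Nontrivial V]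
    (H : Subgroup (V ≃ₗ[F] V)) :
    (Subgroup.closure {h : ↥H | ∃ v : V, v ≠ 0 ∧ (h : V ≃ₗ[F] V) v = v}).index ≤ Fintype.card F ^ Module.finrank F V - 1 ∧
    ((∃ W : Submodule F V, W ≠ ⊥ ∧ W ≠ ⊤ ∧ ∀ h ∈ H, ∀ w ∈ W, h w ∈ W) →
      ((Subgroup.closure {h : ↥H | ∃ v : V, v ≠ 0 ∧ (h : V ≃ₗ[F] V) v = v}).index : ℝ) ≤ Real.sqrt ((Fintype.card F : ℝ) ^ Module.finrank F V) - 1) := by
  have hR : ∀ (h : ↥H) (v : V), v ≠ 0 → (h : V ≃ₗ[F] V) v = v →
      h ∈ Subgroup.closure {h : ↥H | ∃ v : V, v ≠ 0 ∧ (h : V ≃ₗ[F] V) v = v} :=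
    fun h v hv he => Subgroup.subset_closure ⟨v, hv, he⟩
  refine ⟨?_, ?_⟩
  · have h1 := (bounds H _ hR ⊤ (fun _ _ _ _ => trivial)).1 (fun h => by
      obtain ⟨v, hv⟩ := exists_ne (0 : V)
      have : v ∈ (⊤ : Submodule F V) := trivial
      rw [h, Submodule.mem_bot] at this
      exact hv this)
    rwa [finrank_top] at h1
  · rintro ⟨W, hb, ht, hW⟩
    obtain ⟨b1, b2⟩ := bounds H _ hR W hW
    have c1 := b1 hb
    have c2 := b2 ht
    set e := min (Module.finrank F W) (Module.finrank F V - Module.finrank F W) with he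
    have hle : (Subgroup.closure {h : ↥H | ∃ v : V, v ≠ 0 ∧ (h : V ≃ₗ[F] V) v = v}).index + 1 ≤ Fintype.card F ^ e := by
      have hp : ∀ i, 1 ≤ Fintype.card F ^ i := fun i => Nat.one_le_pow _ _ Fintype.card_pos
      rcases min_choice (Module.finrank F W) (Module.finrank F V - Module.finrank F W) with h | h <;> rw [he, h]
      · have := hp (Module.finrank F W); omega
      · have := hp (Module.finrank F V - Module.finrank F W); omega
    rw [le_sub_iff_add_le]
    refine Real.le_sqrt_of_sq_le ?_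
    have h2 : ((Subgroup.closure {h : ↥H | ∃ v : V, v ≠ 0 ∧ (h : V ≃ₗ[F] V) v = v}).index + 1) ^ 2 ≤
        Fintype.card F ^ Module.finrank F V := by
      refine (Nat.pow_le_pow_left hle 2).trans ?_
      rw [← pow_mul]
      exact Nat.pow_le_pow_right Fintype.card_pos (by omega)
    exact_mod_cast h2

end Cfsg.Agent.S4178
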