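import Cfsg.Statements.S4184
import Cfsg.Agent.Lib.CharDegree.CrossDegree.Coprime
import Mathlib.GroupTheory.Sylow

set_option autoImplicit false
open Cfsg

namespace Cfsg.Agent.S4184

/-- The size of the class of `g`. -/
noncomputable def cs {X : Type*} [Group X] (g : X) : ℕ := (Subgroup.centralizer ({g} : Set X)).index

/-- `n` has the full part of `m` at the primes in `A`. -/
def Full (m : ℕ) (A : Set ℕ) (n : ℕ) : Prop :=
  ∀ q : ℕ, q.Prime → q ∈ A → m.factorization q ≤ n.factorization q

section Basic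

variable {X : Type*} [Group X] [Finite X]

theorem cs_ne_zero (g : X) : cs g ≠ 0 := Subgroup.index_ne_zero_of_finite

theorem cs_dvd_card (g : X) : cs g ∣ Nat.card X := Subgroup.index_dvd_card _

theorem cs_dvd_of_pow {g y : X} {k : ℕ} (h : g ^ k = y) : cs y ∣ cs g := by
  refine Subgroup.index_dvd_of_le fun z hz => ?_
  rw [Subgroup.mem_centralizer_singleton_iff] at hz ⊢
  rw [← h]
  exact (Commute.pow_right (hz : Commute z g) k)

theorem cs_eq_one_iff (g : X) : cs g = 1 ↔ g ∈ Subgroup.center X := by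
  rw [cs, Subgroup.index_eq_one, Subgroup.centralizer_eq_top_iff_subset, Set.singleton_subset_iff]
  rfl

theorem fact_cs (g : X) (q : ℕ) :
    (Nat.card (Subgroup.centralizer ({g} : Set X))).factorization q + (cs g).factorization q =
      (Nat.card X).factorization q := by
  rw [← Finsupp.add_apply, ← Nat.factorization_mul Nat.card_pos.ne' (cs_ne_zero g), cs,
    Subgroup.card_mul_index]

theorem dvd_centralizer {g : X} {q : ℕ} (hq : q.Prime)
    (h : (cs g).factorization q < (Nat.card X).factorization q) :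
    q ∣ Nat.card (Subgroup.centralizer ({g} : Set X)) := by
  have h1 := fact_cs g q
  exact (hq.dvd_iff_one_le_factorization Nat.card_pos.ne').mpr (by omega)

theorem exists_orderOf_centralizer {g : X} {q : ℕ} (hq : q.Prime)
    (h : (cs g).factorization q < (Nat.card X).factorization q) :
    ∃ y : X, orderOf y = q ∧ Commute g y := by
  have : Fact q.Prime := ⟨hq⟩
  obtain ⟨⟨y, hy⟩, hyo⟩ := exists_prime_orderOf_dvd_card' q (dvd_centralizer hq h)
  exact ⟨y, by rwa [Subgroup.orderOf_mk] at hyo,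
    ((Subgroup.mem_centralizer_singleton_iff.mp hy) : Commute y g).symm⟩

end Basic

section Disc

variable {M : Type*} [Group M] [Finite M] {A : Set ℕ}

theorem one_not_full {m : ℕ} (hm : m ≠ 0) (h : ∃ a ∈ A, a.Prime ∧ a ∣ m) : ¬ Full m A 1 := by
  obtain ⟨a, ha, hp, hd⟩ := h
  intro hf
  have h1 := hf a hp ha
  rw [Nat.factorization_one, Finsupp.zero_apply] at h1
  have h2 := (hp.dvd_iff_one_le_factorization hm).mp hd
  omega

theorem full_or_full
    (hd : ∀ a ∈ A, ∀ b ∉ A, a.Prime → b.Prime → a ∣ Nat.card M → b ∣ Nat.card M →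
      ¬ ∃ x : M, orderOf x = a * b)
    {g : M} (hg : g ≠ 1) : Full (Nat.card M) A (cs g) ∨ Full (Nat.card M) Aᶜ (cs g) := by
  obtain ⟨c, hc, hco⟩ := Nat.exists_prime_and_dvd (mt orderOf_eq_one_iff.mp hg)
  have hg' : orderOf (g ^ (orderOf g / c)) = c := orderOf_pow_orderOf_div (orderOf_pos g).ne' hco
  have key : ∀ q : ℕ, q.Prime → (cs g).factorization q < (Nat.card M).factorization q →
      q ≠ c → ∃ x : M, orderOf x = c * q := fun q hq hlt hne => by
    obtain ⟨y, hy, hcomm⟩ := exists_orderOf_centralizer hq hlt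
    refine ⟨g ^ (orderOf g / c) * y, ?_⟩
    rw [(hcomm.pow_left _).orderOf_mul_eq_mul_orderOf_of_coprime
      (by rw [hg', hy]; exact (Nat.coprime_primes hc hq).mpr hne.symm), hg', hy]
  have hdq : ∀ q : ℕ, q.Prime → (cs g).factorization q < (Nat.card M).factorization q →
      q ∣ Nat.card M := fun q hq hlt =>
    (hq.dvd_iff_one_le_factorization Nat.card_pos.ne').mpr (by omega)
  by_cases hcA : c ∈ A
  · refine Or.inr fun q hq hqA => ?_
    by_contra hlt
    push Not at hlt
    exact hd c hcA q hqA hc hq (hco.trans (orderOf_dvd_natCard g)) (hdq q hq hlt)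
      (key q hq hlt fun e => hqA (e ▸ hcA))
  · refine Or.inl fun q hq hqA => ?_
    by_contra hlt
    push Not at hlt
    obtain ⟨x, hx⟩ := key q hq hlt fun e => hcA (e ▸ hqA)
    exact hd q hqA c hcA hq hc (hdq q hq hlt) (hco.trans (orderOf_dvd_natCard g))
      ⟨x, hx.trans (mul_comm _ _)⟩

theorem not_both {g : M} (hg : g ≠ 1) :
    ¬ (Full (Nat.card M) A (cs g) ∧ Full (Nat.card M) Aᶜ (cs g)) := by
  rintro ⟨h1, h2⟩
  have hle : ∀ q, (Nat.card M).factorization q ≤ (cs g).factorization q := fun q => by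
    by_cases hq : q.Prime
    · by_cases hqA : q ∈ A
      · exact h1 q hq hqA
      · exact h2 q hq hqA
    · simp [Nat.factorization_eq_zero_of_not_prime _ hq]
  have hdvd : Nat.card M ∣ cs g :=
    (Nat.factorization_le_iff_dvd Nat.card_pos.ne' (cs_ne_zero g)).mp hle
  have he : cs g = Nat.card M := Nat.dvd_antisymm (cs_dvd_card g) hdvd
  have hC : Nat.card (Subgroup.centralizer ({g} : Set M)) = 1 := by
    have h3 := Subgroup.card_mul_index (Subgroup.centralizer ({g} : Set M))
    rw [show (Subgroup.centralizer ({g} : Set M)).index = cs g from rfl, he] at h3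
    exact Nat.eq_of_mul_eq_mul_right Nat.card_pos (by rw [h3, one_mul])
  have hgC : g ∈ Subgroup.centralizer ({g} : Set M) := Subgroup.mem_centralizer_singleton_iff.mpr rfl
  rw [Subgroup.eq_bot_of_card_eq _ hC, Subgroup.mem_bot] at hgC
  exact hg hgC

end Disc

section Main

variable {G : Type*} [Group G] [Finite G]

theorem exists_sylow_center {r : ℕ} [Fact r.Prime] (R : Sylow r G) (hr : r ∣ Nat.card G) :
    ∃ z : G, z ∈ (R : Subgroup G) ∧ z ≠ 1 ∧ (∀ x ∈ (R : Subgroup G), Commute z x) := by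
  have h1 : (R : Subgroup G) ≠ ⊥ := Sylow.ne_bot_of_dvd_card R hr
  have : Nontrivial (R : Subgroup G) := (R : Subgroup G).nontrivial_iff_ne_bot.mpr h1
  have := R.isPGroup'.center_nontrivial
  obtain ⟨⟨z, hz⟩, hz1⟩ := exists_ne (1 : Subgroup.center (R : Subgroup G))
  refine ⟨(z : G), z.2, fun e => hz1 (Subtype.ext (Subtype.ext e)), fun x hx => ?_⟩
  exact (congrArg Subtype.val (Subgroup.mem_center_iff.mp hz ⟨x, hx⟩)).symm

theorem cs_fact_of_sylow_commute {r : ℕ} [Fact r.Prime] (R : Sylow r G) {z : G}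
    (h : ∀ x ∈ (R : Subgroup G), Commute z x) : (cs z).factorization r = 0 := by
  refine Nat.factorization_eq_zero_of_not_dvd fun hd => R.not_dvd_index (hd.trans ?_)
  refine Subgroup.index_dvd_of_le fun x hx => Subgroup.mem_centralizer_singleton_iff.mpr ?_
  exact (h x hx).symm

/-- At a prime of the first part the order of `G` is at most the full part. -/
theorem fact_le {m : ℕ} (hm : m ≠ 0) (A : Set ℕ) {r : ℕ} [Fact r.Prime] (hrA : r ∈ A)
    (hrm : r ∣ m) (hle : ∀ q, m.factorization q ≤ (Nat.card G).factorization q)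
    (hdvd : ∀ g : G, cs g ∣ m)
    (hfull : ∀ g : G, g ≠ 1 → Full m A (cs g) ∨ Full m Aᶜ (cs g))
    (hboth : ∀ g : G, ¬ (Full m A (cs g) ∧ Full m Aᶜ (cs g)))
    (hne : ∃ g : G, g ≠ 1 ∧ Full m A (cs g)) :
    (Nat.card G).factorization r ≤ m.factorization r := by
  classical
  have hr : r.Prime := Fact.out
  by_contra hlt
  push Not at hlt
  have hmono : ∀ {S : Set ℕ} {x y : G}, cs x ∣ cs y → Full m S (cs x) → Full m S (cs y) :=
    fun {S x y} hd hf q hq hqS => (hf q hq hqS).trans
      ((Nat.factorization_le_iff_dvd (cs_ne_zero x) (cs_ne_zero y)).mpr hd q)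
  -- an `r`-regular element with full first part
  obtain ⟨u, hu1, hur, huA⟩ : ∃ u : G, u ≠ 1 ∧ ¬ r ∣ orderOf u ∧ Full m A (cs u) := by
    obtain ⟨x, hx1, hxA⟩ := hne
    by_cases hx : orderOf x = r ^ (orderOf x).factorization r
    · -- an element of order a prime of the second part commuting with `x`
      obtain ⟨s, hs, hsA, hslt⟩ : ∃ s, s.Prime ∧ s ∈ Aᶜ ∧ (cs x).factorization s < m.factorization s := by
        have h1 : ¬ Full m Aᶜ (cs x) := fun h => hboth x ⟨hxA, h⟩
        simpa [Full, and_assoc] using h1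
      obtain ⟨y, hy, hcomm⟩ := exists_orderOf_centralizer hs (hslt.trans_le (hle s))
      have hsr : s ≠ r := fun e => hsA (e ▸ hrA)
      have hcop : (orderOf x).Coprime (orderOf y) := by
        rw [hy, hx]
        exact ((Nat.coprime_primes hr hs).mpr hsr.symm).pow_left _
      have hxy : Full m A (cs (x * y)) := by
        obtain ⟨k, hk⟩ := exists_pow_eq_self_of_coprime (x := x) hcop.symm
        refine hmono (cs_dvd_of_pow (k := orderOf y * k) ?_) hxA
        rw [pow_mul, hcomm.mul_pow, pow_orderOf_eq_one, mul_one, hk]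
      have hy1 : y ≠ 1 := fun e => hs.ne_one (by rw [← hy, e, orderOf_one])
      have hyd : cs y ∣ cs (x * y) := by
        obtain ⟨k, hk⟩ := exists_pow_eq_self_of_coprime (x := y) hcop
        refine cs_dvd_of_pow (k := orderOf x * k) ?_
        rw [pow_mul, hcomm.mul_pow, pow_orderOf_eq_one, one_mul, hk]
      refine ⟨y, hy1, fun h => hsr ?_, (hfull y hy1).resolve_right fun h =>
        hboth (x * y) ⟨hxy, hmono hyd h⟩⟩
      rw [hy] at h
      exact ((Nat.prime_dvd_prime_iff_eq hr hs).mp h).symm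
    · refine ⟨x ^ (r ^ (orderOf x).factorization r), fun e => hx ?_, ?_, ?_⟩
      · exact Nat.dvd_antisymm (orderOf_dvd_of_pow_eq_one e) (Nat.ordProj_dvd _ _)
      · rw [orderOf_pow_of_dvd (pow_ne_zero _ hr.ne_zero) (Nat.ordProj_dvd _ _)]
        exact Nat.not_dvd_ordCompl hr (orderOf_pos x).ne'
      · refine (hfull _ fun e => hx (Nat.dvd_antisymm (orderOf_dvd_of_pow_eq_one e)
          (Nat.ordProj_dvd _ _))).resolve_right fun h => ?_
        exact hboth x ⟨hxA, hmono (cs_dvd_of_pow rfl) h⟩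
  set C := Subgroup.centralizer ({u} : Set G) with hC
  let S : Sylow r C := default
  have hCr : r ∣ Nat.card C := dvd_centralizer hr (lt_of_le_of_lt
    ((Nat.factorization_le_iff_dvd (cs_ne_zero u) hm).mpr (hdvd u) r) hlt)
  obtain ⟨w, hwS, hw1, hwc⟩ := exists_sylow_center S hCr
  set Ru : Subgroup G := (S : Subgroup C).map C.subtype with hRu
  have hRp : IsPGroup r Ru := S.isPGroup'.map _
  have hcommu : ∀ x ∈ Ru, Commute u x := by
    rintro _ ⟨x, -, rfl⟩
    exact ((Subgroup.mem_centralizer_singleton_iff.mp x.2) : Commute (x : G) u).symm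
  have hwRu : (w : G) ∈ Ru := ⟨w, hwS, rfl⟩
  have hw1' : (w : G) ≠ 1 := fun e => hw1 (Subtype.ext e)
  have hcop : ∀ x ∈ Ru, (orderOf u).Coprime (orderOf x) := fun x hx => by
    obtain ⟨j, hj⟩ := IsPGroup.iff_orderOf.mp hRp ⟨x, hx⟩
    rw [Subgroup.orderOf_mk] at hj
    rw [hj]
    exact ((hr.coprime_iff_not_dvd.mpr hur).symm).pow_right j
  have hpart : ∀ x ∈ Ru, cs u ∣ cs (u * x) ∧ cs x ∣ cs (u * x) := fun x hx => by
    constructor
    · obtain ⟨k, hk⟩ := exists_pow_eq_self_of_coprime (x := u) (hcop x hx).symm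
      refine cs_dvd_of_pow (k := orderOf x * k) ?_
      rw [pow_mul, (hcommu x hx).mul_pow, pow_orderOf_eq_one, mul_one, hk]
    · obtain ⟨k, hk⟩ := exists_pow_eq_self_of_coprime (x := x) (hcop x hx)
      refine cs_dvd_of_pow (k := orderOf u * k) ?_
      rw [pow_mul, (hcommu x hx).mul_pow, pow_orderOf_eq_one, one_mul, hk]
  have hwA : Full m A (cs (w : G)) := (hfull _ hw1').resolve_right fun h =>
    hboth _ ⟨hmono (hpart _ hwRu).1 huA, hmono (hpart _ hwRu).2 h⟩
  have hRle : Ru ≤ Subgroup.centralizer ({(w : G)} : Set G) := by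
    rintro _ ⟨x, hx, rfl⟩
    exact Subgroup.mem_centralizer_singleton_iff.mpr (congrArg Subtype.val (hwc x hx).symm.eq)
  obtain ⟨R, hR⟩ := hRp.exists_le_sylow
  have hrG : r ∣ Nat.card G := (hr.dvd_iff_one_le_factorization Nat.card_pos.ne').mpr (by omega)
  obtain ⟨z, hzR, hz1, hzc⟩ := exists_sylow_center R hrG
  have hzu : z ∈ Ru := by
    -- the Sylow subgroup of the centralizer of `u` is one of that of `w`
    set K : Subgroup G := (R : Subgroup G) ⊓ Subgroup.centralizer ({(w : G)} : Set G) with hK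
    have hKge : Ru ≤ K := le_inf hR hRle
    have hKp : IsPGroup r K := R.isPGroup'.to_le inf_le_left
    obtain ⟨j, hj⟩ := hKp.exists_card_eq
    have hjle : j + (cs (w : G)).factorization r ≤ (Nat.card G).factorization r := by
      rw [← fact_cs (w : G) r]
      have hd := Subgroup.card_dvd_of_le (show K ≤ Subgroup.centralizer ({(w : G)} : Set G) from
        inf_le_right)
      rw [hj] at hd
      have := (hr.pow_dvd_iff_le_factorization Nat.card_pos.ne').mp hd
      omega
    have hRcard : Nat.card Ru = r ^ (Nat.card C).factorization r := by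
      rw [hRu, Subgroup.card_map_of_injective C.subtype_injective, S.card_eq_multiplicity]
    have hge : m.factorization r ≤ (cs (w : G)).factorization r := hwA r hr hrA
    have hule : (cs u).factorization r ≤ m.factorization r :=
      (Nat.factorization_le_iff_dvd (cs_ne_zero u) hm).mpr (hdvd u) r
    have hu2 : (Nat.card C).factorization r + (cs u).factorization r =
        (Nat.card G).factorization r := fact_cs u r
    have hKeq : Ru = K := Subgroup.eq_of_le_of_card_ge hKge (by
      rw [hRcard, hj]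
      exact Nat.pow_le_pow_right hr.pos (by omega))
    rw [hKeq]
    exact Subgroup.mem_inf.mpr ⟨hzR,
      Subgroup.mem_centralizer_singleton_iff.mpr (hzc (w : G) (hR hwRu))⟩
  have hzT : Full m Aᶜ (cs z) := (hfull z hz1).resolve_left fun h => by
    have h1 := h r hr hrA
    rw [cs_fact_of_sylow_commute R hzc] at h1
    have h2 := (hr.dvd_iff_one_le_factorization hm).mp hrm
    omega
  exact hboth (u * z) ⟨hmono (hpart z hzu).1 huA, hmono (hpart z hzu).2 hzT⟩

/-- A prime prime to all class sizes does not divide the order of a group with trivial centre. -/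
theorem fact_eq_zero (hZ : Subgroup.center G = ⊥) {r : ℕ} [Fact r.Prime]
    (h : ∀ g : G, ¬ r ∣ cs g) : (Nat.card G).factorization r = 0 := by
  refine Nat.factorization_eq_zero_of_not_dvd fun hd => ?_
  let R : Sylow r G := default
  obtain ⟨z, hzR, hz1, hzc⟩ := exists_sylow_center R hd
  refine hz1 ?_
  have htop : Subgroup.centralizer ({z} : Set G) = ⊤ := by
    refine CfsgLib.CrossDegree.eq_top_of_forall_conj_mem _ fun g => ?_
    set C := Subgroup.centralizer ({g} : Set G) with hC
    let S : Sylow r C := default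
    have hcard : Nat.card ((S : Subgroup C).map C.subtype) = Nat.card (R : Subgroup G) := by
      rw [Subgroup.card_map_of_injective C.subtype_injective, S.card_eq_multiplicity,
        R.card_eq_multiplicity]
      congr 1
      have h1 := fact_cs g r
      rw [Nat.factorization_eq_zero_of_not_dvd (h g), add_zero] at h1
      exact h1
    obtain ⟨R', hR'⟩ := (S.isPGroup'.map C.subtype).exists_le_sylow
    have heq : (S : Subgroup C).map C.subtype = R' := Subgroup.eq_of_le_of_card_ge hR' (by
      rw [hcard, R'.card_eq_multiplicity, R.card_eq_multiplicity])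
    obtain ⟨y, hy⟩ := MulAction.exists_smul_eq G R R'
    have hz' : y * z * y⁻¹ ∈ (R' : Subgroup G) := by
      rw [← hy]
      exact ⟨z, hzR, rfl⟩
    rw [← heq] at hz'
    obtain ⟨v, -, hv⟩ := hz'
    refine ⟨y⁻¹, Subgroup.mem_centralizer_singleton_iff.mpr ?_⟩
    have h2 : Commute (v : G) g := Subgroup.mem_centralizer_singleton_iff.mp v.2
    rw [show (v : G) = y * z * y⁻¹ from hv] at h2
    calc y⁻¹ * g * y⁻¹⁻¹ * z = y⁻¹ * (g * (y * z * y⁻¹)) * y := by group
      _ = y⁻¹ * ((y * z * y⁻¹) * g) * y := by rw [h2.eq]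
      _ = z * (y⁻¹ * g * y⁻¹⁻¹) := by group
  have h3 : z ∈ Subgroup.center G := Subgroup.centralizer_eq_top_iff_subset.mp htop rfl
  rwa [hZ, Subgroup.mem_bot] at h3

end Main

/-- Let G and M be finite groups with trivial centres and the same set of conjugacy class sizes, and suppose the prime graph of M is disconnected: the prime divisors of #M split into two non-empty parts such that M has no element of order pq with p in one part and q in the other. Then #G = #M. -/
theorem result {G M : Type*}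
    [Group G] [Finite G] [Group M] [Finite M] (hZG : Subgroup.center G = ⊥) (hZM : Subgroup.center M = ⊥)
    (h : Set.range (fun g : G => (Subgroup.centralizer ({g} : Set G)).index) = Set.range (fun g : M => (Subgroup.centralizer ({g} : Set M)).index))
    (hdisc : ∃ A : Set ℕ, (∃ a ∈ A, a.Prime ∧ a ∣ Nat.card M) ∧ (∃ b ∉ A, b.Prime ∧ b ∣ Nat.card M) ∧
      ∀ a ∈ A, ∀ b ∉ A, a.Prime → b.Prime → a ∣ Nat.card M → b ∣ Nat.card M → ¬ ∃ x : M, orderOf x = a * b) :
    Nat.card G = Nat.card M := by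
  classical
  obtain ⟨A, hA, hB, hd⟩ := hdisc
  set m := Nat.card M with hmdef
  have hm : m ≠ 0 := Nat.card_pos.ne'
  have hG : ∀ g : G, ∃ x : M, cs x = cs g := fun g =>
    (h ▸ Set.mem_range_self g : cs g ∈ Set.range fun x : M => cs x)
  have hM : ∀ x : M, ∃ g : G, cs g = cs x := fun x =>
    (h ▸ Set.mem_range_self x : cs x ∈ Set.range fun g : G => cs g)
  have hB' : ∃ b ∈ Aᶜ, b.Prime ∧ b ∣ m := hB
  have hdvd : ∀ g : G, cs g ∣ m := fun g => by
    obtain ⟨x, hx⟩ := hG g
    exact hx ▸ cs_dvd_card x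
  have hfull : ∀ g : G, g ≠ 1 → Full m A (cs g) ∨ Full m Aᶜ (cs g) := fun g hg => by
    obtain ⟨x, hx⟩ := hG g
    rw [← hx]
    refine full_or_full hd fun e => hg ?_
    rw [e, (cs_eq_one_iff _).mpr (one_mem _)] at hx
    have h1 := (cs_eq_one_iff g).mp hx.symm
    rwa [hZG, Subgroup.mem_bot] at h1
  have hboth : ∀ g : G, ¬ (Full m A (cs g) ∧ Full m Aᶜ (cs g)) := fun g => by
    obtain ⟨x, hx⟩ := hG g
    rw [← hx]
    by_cases hx1 : x = 1
    · rw [hx1, (cs_eq_one_iff _).mpr (one_mem _)]
      exact fun hh => one_not_full hm hA hh.1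
    · exact not_both hx1
  -- each side occurs
  have hexA : ∀ {S : Set ℕ}, (∃ b ∈ Sᶜ, b.Prime ∧ b ∣ m) →
      (∀ x : M, x ≠ 1 → Full m S (cs x) ∨ Full m Sᶜ (cs x)) →
      ∃ x : M, x ≠ 1 ∧ Full m S (cs x) := by
    rintro S ⟨b, hbS, hb, hbd⟩ hS
    have : Fact b.Prime := ⟨hb⟩
    obtain ⟨x, hx⟩ := exists_prime_orderOf_dvd_card' b hbd
    have hx1 : x ≠ 1 := fun e => hb.ne_one (by rw [← hx, e, orderOf_one])
    refine ⟨x, hx1, (hS x hx1).resolve_right fun hh => ?_⟩
    have h1 := hh b hb hbS
    have h2 := fact_cs x b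
    have hxC : x ∈ Subgroup.centralizer ({x} : Set M) :=
      Subgroup.mem_centralizer_singleton_iff.mpr rfl
    have h4 : b ∣ Nat.card (Subgroup.centralizer ({x} : Set M)) :=
      hx ▸ Subgroup.orderOf_dvd_natCard _ hxC
    have h5 := (hb.dvd_iff_one_le_factorization Nat.card_pos.ne').mp h4
    rw [← hmdef] at h2
    omega
  have hM' : ∀ x : M, x ≠ 1 → Full m A (cs x) ∨ Full m Aᶜ (cs x) := fun x hx => full_or_full hd hx
  obtain ⟨xA, hxA1, hxA⟩ := hexA hB' hM'
  obtain ⟨xB, hxB1, hxB⟩ := hexA (S := Aᶜ) (by simpa using hA) (fun x hx => by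
    simpa [or_comm] using hM' x hx)
  have htrans : ∀ {S : Set ℕ} {x : M}, x ≠ 1 → Full m S (cs x) → ∃ g : G, g ≠ 1 ∧ Full m S (cs g) := by
    intro S x hx1 hx
    obtain ⟨g, hg⟩ := hM x
    refine ⟨g, fun e => hx1 ?_, hg ▸ hx⟩
    rw [e, (cs_eq_one_iff _).mpr (one_mem _)] at hg
    have h1 := (cs_eq_one_iff x).mp hg.symm
    rwa [hZM, Subgroup.mem_bot] at h1
  obtain ⟨gA, hgA1, hgA⟩ := htrans hxA1 hxA
  obtain ⟨gB, hgB1, hgB⟩ := htrans hxB1 hxB
  have hle : ∀ q, m.factorization q ≤ (Nat.card G).factorization q := fun q => by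
    by_cases hq : q.Prime
    · by_cases hqA : q ∈ A
      · exact (hgA q hq hqA).trans
          ((Nat.factorization_le_iff_dvd (cs_ne_zero _) Nat.card_pos.ne').mpr (cs_dvd_card gA) q)
      · exact (hgB q hq hqA).trans
          ((Nat.factorization_le_iff_dvd (cs_ne_zero _) Nat.card_pos.ne').mpr (cs_dvd_card gB) q)
    · simp [Nat.factorization_eq_zero_of_not_prime _ hq]
  refine Nat.eq_of_factorization_eq Nat.card_pos.ne' Nat.card_pos.ne' fun q => le_antisymm ?_ (hle q)
  by_cases hq : q.Prime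
  · have : Fact q.Prime := ⟨hq⟩
    by_cases hqm : q ∣ m
    · by_cases hqA : q ∈ A
      · exact fact_le hm A hqA hqm hle hdvd hfull hboth ⟨gA, hgA1, hgA⟩
      · exact fact_le hm Aᶜ hqA hqm hle hdvd (fun g hg => by simpa [or_comm] using hfull g hg)
          (fun g hh => hboth g (by simpa [and_comm] using hh)) ⟨gB, hgB1, hgB⟩
    · rw [fact_eq_zero hZG fun g hh => hqm (hh.trans (hdvd g))]
      exact Nat.zero_le _
  · simp [Nat.factorization_eq_zero_of_not_prime _ hq]

end Cfsg.Agent.S4184
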