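import Cfsg.Statements.S4186


set_option autoImplicit false
open Cfsg

namespace Cfsg.Agent.S4186

/-- Let T and X be subgroups of a group with T a finite 2-group normalizing X but not centralizing it. Then some element of T inverts some non-identity element of X under conjugation. -/
theorem result {G : Type*} [Group G] (T X : Subgroup G) [Finite ↥T] (hT : IsPGroup 2 ↥T) (hTN : T ≤ Subgroup.normalizer (X : Set G)) (hTC : ¬ T ≤ Subgroup.centralizer (X : Set G)) : ∃ t ∈ T, ∃ x ∈ X, x ≠ 1 ∧ t * x * t⁻¹ = x⁻¹ := by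
  classical
  obtain ⟨t0, ht0, hnc⟩ := Set.not_subset.1 hTC
  obtain ⟨k0, hk0⟩ := hT ⟨t0, ht0⟩
  have hk0' : t0 ^ 2 ^ k0 ∈ Subgroup.centralizer (X : Set G) := by
    have : t0 ^ 2 ^ k0 = 1 := by simpa using congrArg Subtype.val hk0
    rw [this]; exact one_mem _
  have hex : ∃ k, t0 ^ 2 ^ k ∈ Subgroup.centralizer (X : Set G) := ⟨k0, hk0'⟩
  have hkpos : Nat.find hex ≠ 0 := by
    intro h
    have := Nat.find_spec hex
    rw [h, pow_zero, pow_one] at this
    exact hnc this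
  obtain ⟨j, hj⟩ := Nat.exists_eq_succ_of_ne_zero hkpos
  have h1 := Nat.find_spec hex
  have h2 : t0 ^ 2 ^ j ∉ Subgroup.centralizer (X : Set G) := Nat.find_min hex (by omega)
  rw [hj] at h1
  set t := t0 ^ 2 ^ j with ht
  have htT : t ∈ T := pow_mem ht0 _
  have ht2 : t * t ∈ Subgroup.centralizer (X : Set G) := by
    rw [ht, ← pow_add]; convert h1 using 2; rw [pow_succ]; ring
  obtain ⟨y, hy, hyne⟩ : ∃ y ∈ X, t * y * t⁻¹ ≠ y := by
    by_contra! h
    exact h2 (Subgroup.mem_centralizer_iff.2 fun y hy => (mul_inv_eq_iff_eq_mul.1 (h y hy)).symm)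
  have hty : t * y * t⁻¹ ∈ X := ((Subgroup.mem_normalizer_iff.1 (hTN htT)) y).1 hy
  refine ⟨t, htT, y⁻¹ * (t * y * t⁻¹), X.mul_mem (X.inv_mem hy) hty, ?_, ?_⟩
  · rw [Ne, inv_mul_eq_one]; exact fun h => hyne h.symm
  · have hc : y * (t * t) = (t * t) * y := Subgroup.mem_centralizer_iff.1 ht2 y hy
    have h3 : t * (t * y * t⁻¹) * t⁻¹ = y := by
      calc t * (t * y * t⁻¹) * t⁻¹ = (t * t * y) * (t * t)⁻¹ := by group
        _ = y := by rw [← hc]; group
    calc t * (y⁻¹ * (t * y * t⁻¹)) * t⁻¹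
        = (t * y * t⁻¹)⁻¹ * (t * (t * y * t⁻¹) * t⁻¹) := by group
      _ = (y⁻¹ * (t * y * t⁻¹))⁻¹ := by rw [h3]; group

end Cfsg.Agent.S4186
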