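import Cfsg.Statements.S4188
import Cfsg.Agent.Lib.TwoGroups.CyclicNormalAbelian
import Cfsg.Agent.Lib.PGroups.Basic
import Cfsg.Agent.Lib.Core.Basic
import Cfsg.Agent.Lib.Core.UniqueOrderP

set_option autoImplicit false
open Cfsg

namespace Cfsg.Agent.S4188

universe v w

open Subgroup

theorem frattini_map_le {P : Type v} [Group P] [Finite P] (hP : IsPGroup 2 P) (K : Subgroup P) :
    (frattini K).map K.subtype ≤ frattini P := by
  rw [CfsgLib.PGroups.frattini_eq_commutator_sup (hP.to_subgroup K), Subgroup.map_sup, sup_le_iff]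
  refine ⟨?_, ?_⟩
  · rw [commutator_def, map_commutator]
    refine le_trans ?_ (CfsgLib.PGroups.commutator_le_frattini' hP)
    rw [commutator_def]
    exact commutator_mono le_top le_top
  · rw [MonoidHom.map_closure, closure_le]
    rintro _ ⟨_, ⟨x, rfl⟩, rfl⟩
    exact CfsgLib.PGroups.pow_mem_frattini hP (x : P)

/-- The Frattini index is submultiplicative. -/
theorem index_frattini_le_mul {P : Type v} [Group P] [Finite P] (hP : IsPGroup 2 P) {Q : Type w} [Group Q]
    [Finite Q] (f : P →* Q) (hf : Function.Surjective f) :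
    (frattini P).index ≤ (frattini f.ker).index * (frattini Q).index := by
  haveI : ((frattini P).map f).Normal := Normal.map inferInstance f hf
  have h1 : frattini Q ≤ (frattini P).map f := by
    refine CfsgLib.PGroups.frattini_le_of_elementary (p := 2) ?_ fun y => ?_
    · refine le_trans ?_ (map_mono (CfsgLib.PGroups.commutator_le_frattini' hP))
      rw [commutator_def, commutator_def, map_commutator, map_top_of_surjective f hf]
    · obtain ⟨x, rfl⟩ := hf y
      exact ⟨x ^ 2, CfsgLib.PGroups.pow_mem_frattini hP x, map_pow f x 2⟩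
  have h2 : (frattini Q).comap f ≤ frattini P ⊔ f.ker := by
    rw [← comap_map_eq]
    exact comap_mono h1
  have h3 : (frattini P ⊔ f.ker).index ∣ (frattini Q).index := by
    rw [← index_comap_of_surjective (frattini Q) hf]
    exact index_dvd_of_le h2
  have h4 : (frattini P).relIndex (frattini P ⊔ f.ker) ∣ (frattini f.ker).index := by
    rw [sup_comm, relIndex_sup_right]
    exact index_dvd_of_le (fun x hx => frattini_map_le hP f.ker ⟨x, hx, rfl⟩)
  rw [← relIndex_mul_index (le_sup_left : frattini P ≤ frattini P ⊔ f.ker)]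
  exact Nat.mul_le_mul (Nat.le_of_dvd (Nat.pos_of_ne_zero index_ne_zero_of_finite) h4)
    (Nat.le_of_dvd (Nat.pos_of_ne_zero index_ne_zero_of_finite) h3)

theorem index_frattini_le_card {P : Type v} [Group P] [Finite P] : (frattini P).index ≤ Nat.card P :=
  Nat.le_of_dvd Nat.card_pos (frattini P).index_dvd_card

/-- A two-generated `2`-group has Frattini index at most four. -/
theorem index_frattini_le_four {P : Type v} [Group P] [Finite P] (hP : IsPGroup 2 P) (a g : P)
    (h : zpowers a ⊔ zpowers g = ⊤) : (frattini P).index ≤ 4 ∧ (g = 1 → (frattini P).index ≤ 2) := by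
  obtain ⟨hc, hp⟩ := CfsgLib.PGroups.frattini_quotient hP
  set π := QuotientGroup.mk' (frattini P)
  have h1 : zpowers (π a) ⊔ zpowers (π g) = ⊤ := by
    rw [← MonoidHom.map_zpowers, ← MonoidHom.map_zpowers, ← Subgroup.map_sup, h,
      map_top_of_surjective π (QuotientGroup.mk'_surjective _)]
  have h2 : ∀ x, Nat.card (zpowers (π x)) ≤ 2 := fun x => by
    rw [Nat.card_zpowers]
    exact Nat.le_of_dvd two_pos (orderOf_dvd_of_pow_eq_one (hp _))
  rw [index_eq_card, ← card_top (G := P ⧸ frattini P), ← h1]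
  refine ⟨?_, fun hg => ?_⟩
  · haveI := hc
    have h3 := CfsgLib.Core.card_sup_mul_card_inf (zpowers (π a)) (zpowers (π g))
      (fun x _ => by
        rw [mem_normalizer_iff]
        intro y
        rw [hc.is_comm.comm x y, mul_inv_cancel_right])
    calc Nat.card (zpowers (π a) ⊔ zpowers (π g) : Subgroup _)
        ≤ Nat.card (zpowers (π a) ⊔ zpowers (π g) : Subgroup _) *
          Nat.card (zpowers (π a) ⊓ zpowers (π g) : Subgroup _) := Nat.le_mul_of_pos_right _ Nat.card_pos
      _ = _ := h3
      _ ≤ 2 * 2 := Nat.mul_le_mul (h2 a) (h2 g)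
  · subst hg
    rw [map_one, zpowers_one_eq_bot, sup_bot_eq]
    exact h2 a

open CfsgLib.TwoGroups.CycNA in
/-- If all normal abelian subgroups are cyclic there are two generators. -/
theorem index_frattini_of_cyclic {P : Type v} [Group P] [Finite P] (hP : IsPGroup 2 P)
    (hn : ∀ A : Subgroup P, A.Normal → IsMulCommutative A → IsCyclic A) :
    (frattini P).index ≤ 4 ∧ ((∀ x y : P, x * y = y * x) → (frattini P).index ≤ 2) := by
  obtain ⟨A, hAn, hAc, hAself⟩ := CfsgLib.PGroups.exists_selfCentralizing' hP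
  obtain ⟨a, ha⟩ := (Subgroup.isCyclic_iff_exists_zpowers_eq_top A).1 (hn A hAn hAc)
  refine ⟨?_, fun hcomm => ?_⟩
  · by_cases htop : zpowers a = ⊤
    · exact (index_frattini_le_four hP a 1 (by rw [htop, top_sup_eq])).1
    obtain ⟨g₀, hg₀⟩ : ∃ g : P, g ∉ zpowers a := by
      by_contra hno
      push Not at hno
      exact htop (eq_top_iff.2 fun x _ => hno x)
    obtain ⟨n, hord⟩ := IsPGroup.iff_orderOf.1 hP a
    have h : Setup 2 n a := ⟨hP, hn, hord, ha ▸ hAn, fun g hg => by
      rw [ha, ← hAself, mem_centralizer_iff]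
      intro y hy
      rw [SetLike.mem_coe, ← ha, mem_zpowers_iff] at hy
      obtain ⟨k, rfl⟩ := hy
      exact ((Commute.zpow_right (mul_inv_eq_iff_eq_mul.1 hg : Commute g a) k)).eq.symm⟩
    have hact : ∀ g : P, g ∉ zpowers a → ¬ Near 2 n (h.act g) := fun g hg hnear =>
      hg ((h.mem_iff g).2 (h.act_eq_one_of_near hnear))
    have hn1 : 1 ≤ n := by
      by_contra hn0
      obtain rfl : n = 0 := by omega
      haveI : Subsingleton (ZMod (2 ^ 0)) := by rw [pow_zero]; infer_instance
      exact hg₀ ((h.mem_iff g₀).2 (Subsingleton.elim _ _))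
    haveI : NeZero (2 ^ n) := ⟨pow_ne_zero _ two_ne_zero⟩
    have htwo : ((2 : ℕ) : ZMod (2 ^ n)) = 2 := Nat.cast_two
    have hres : ∀ g : P, g ∉ zpowers a → ∃ s, h.act g = -1 + 4 * s := by
      intro g hg
      obtain ⟨k, hk⟩ := hP g
      have h1 : h.act g ^ 2 ^ k = 1 := by rw [← h.act_pow, hk, h.act_one]
      rcases isUnit_or_eq_p_mul hn1 (h.act g - 1) with hu | ⟨t, ht⟩
      · exfalso
        have hd : 2 ∣ 2 ^ n := dvd_pow_self 2 (by omega)
        have hu' : IsUnit (ZMod.castHom hd (ZMod 2) (h.act g - 1)) := hu.map _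
        have h2 : ZMod.castHom hd (ZMod 2) (h.act g) ^ 2 ^ k = 1 := by rw [← map_pow, h1, map_one]
        rw [ZMod.pow_card_pow] at h2
        rw [map_sub, map_one, h2, sub_self] at hu'
        exact not_isUnit_zero hu'
      · rw [htwo] at ht
        rcases isUnit_or_eq_p_mul hn1 (t + 1) with hu | ⟨s, hs⟩
        · exfalso
          rcases isUnit_or_eq_p_mul hn1 t with hu' | ⟨s, hs⟩
          · have hd : 2 ∣ 2 ^ n := dvd_pow_self 2 (by omega)
            have e1 := hu.map (ZMod.castHom hd (ZMod 2))
            have e2 := hu'.map (ZMod.castHom hd (ZMod 2))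
            rw [map_add, map_one] at e1
            revert e1 e2
            generalize ZMod.castHom hd (ZMod 2) t = x
            rcases zmod_two_cases x with rfl | rfl
            · exact fun _ e => not_isUnit_zero e
            · exact fun e _ => not_isUnit_zero (M₀ := ZMod 2) (by rwa [show (1 : ZMod 2) + 1 = 0 from rfl] at e)
          · exact hact g hg ⟨t, by rw [htwo]; exact ht, fun _ => ⟨s, by rw [← htwo]; exact hs⟩⟩
        · exact ⟨s, by rw [htwo] at hs; linear_combination ht + 2 * hs⟩
    refine (index_frattini_le_four hP a g₀ (eq_top_iff.2 fun x _ => ?_)).1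
    by_cases hx : x ∈ zpowers a
    · exact mem_sup_left hx
    obtain ⟨s, hs⟩ := hres x hx
    obtain ⟨s', hs'⟩ := hres g₀ hg₀
    have hxg : x * g₀ ∈ zpowers a := by
      refine (h.mem_iff _).2 (h.act_eq_one_of_near ⟨-2 * s - 2 * s' + 8 * s * s', ?_, fun _ =>
        ⟨-s - s' + 4 * s * s', by ring⟩⟩)
      rw [h.act_mul, hs, hs', Nat.cast_two]
      ring
    simpa using mul_mem (mem_sup_left hxg : x * g₀ ∈ zpowers a ⊔ zpowers g₀)
      (inv_mem (mem_sup_right (mem_zpowers g₀)))
  · haveI : IsCyclic (⊤ : Subgroup P) := hn ⊤ inferInstance ⟨⟨fun x y => Subtype.ext (hcomm x y)⟩⟩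
    obtain ⟨b, hb⟩ := (Subgroup.isCyclic_iff_exists_zpowers_eq_top (⊤ : Subgroup P)).1 inferInstance
    exact (index_frattini_le_four hP b 1 (by rw [hb, top_sup_eq])).2 rfl

/-- The inductive bound. -/
def Bound (X a : ℕ) : Prop := X ≤ a - 1 ∧ (a = 3 ∨ 2 * X ≤ a)

theorem Bound.mul {X x y a b : ℕ} (hX : X ≤ x * y) (ha : Bound x a) (hb : Bound y b) (ha1 : 2 ≤ a)
    (hb1 : 2 ≤ b) : Bound X (a * b) := by
  obtain ⟨h1, h2⟩ := ha
  obtain ⟨h3, h4⟩ := hb
  have h5 : 2 * X ≤ a * b := by
    rcases h2 with rfl | h2 <;> rcases h4 with rfl | h4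
    · nlinarith
    · nlinarith
    · nlinarith
    · nlinarith
  exact ⟨by omega, Or.inr h5⟩

/-- The action on an invariant subgroup. -/
def subAct {V : Type w} [CommGroup V] {P : Type v} [Group P] (φ : P →* MulAut V) (W : Subgroup V)
    (hW : ∀ g x, x ∈ W → φ g x ∈ W) : P →* MulAut W where
  toFun g :=
    { toFun := fun x => ⟨φ g x, hW g x x.2⟩
      invFun := fun x => ⟨φ g⁻¹ x, hW g⁻¹ x x.2⟩
      left_inv := fun x => Subtype.ext (by simp)
      right_inv := fun x => Subtype.ext (by simp)
      map_mul' := fun x y => Subtype.ext (by simp) }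
  map_one' := MulEquiv.ext fun x => Subtype.ext (by simp)
  map_mul' g h := MulEquiv.ext fun x => Subtype.ext (by simp)

/-- The action on the quotient by an invariant subgroup. -/
def quoAct {V : Type w} [CommGroup V] {P : Type v} [Group P] (φ : P →* MulAut V) (W : Subgroup V)
    (hW : ∀ g x, x ∈ W → φ g x ∈ W) : P →* MulAut (V ⧸ W) where
  toFun g := QuotientGroup.congr W W (φ g) (by
    ext x
    refine ⟨?_, fun hx => ⟨φ g⁻¹ x, hW _ _ hx, by simp⟩⟩
    rintro ⟨y, hy, rfl⟩
    exact hW g y hy)
  map_one' := MulEquiv.ext fun x => by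
    induction x using QuotientGroup.induction_on with
    | H z => simp
  map_mul' g h := MulEquiv.ext fun x => by
    induction x using QuotientGroup.induction_on with
    | H z => simp

theorem card_mulAut_three {V : Type w} [Group V] [Finite V] (h : Nat.card V = 3) : Nat.card (MulAut V) = 2 := by
  haveI := Fact.mk Nat.prime_three
  haveI : IsCyclic V := isCyclic_of_prime_card h
  rw [IsCyclic.card_mulAut, h]
  decide

theorem bound : ∀ (n : ℕ) (V : Type w) [CommGroup V] [Finite V], Nat.card V = n → Odd n → 1 < n →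
    ∀ (P : Type v) [Group P] [Finite P], IsPGroup 2 P → ∀ φ : P →* MulAut V, Function.Injective φ →
      Bound (frattini P).index n := by
  intro n
  induction n using Nat.strong_induction_on with
  | _ n ih =>
    intro V _ _ hn hodd h1 P _ _ hP φ hφ
    subst hn
    have hsq : ∀ v : V, v * v = 1 → v = 1 := fun v hv => by
      rw [← orderOf_eq_one_iff]
      refine Nat.eq_one_of_dvd_coprimes (hodd.coprime_two_right) (orderOf_dvd_natCard v) ?_
      exact orderOf_dvd_of_pow_eq_one (by rw [pow_two, hv])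
    by_cases hred : ∃ W : Subgroup V, W ≠ ⊥ ∧ W ≠ ⊤ ∧ ∀ g x, x ∈ W → φ g x ∈ W
    · obtain ⟨W, hWb, hWt, hW⟩ := hred
      set K₁ := (subAct φ W hW).ker with hK₁
      set f := QuotientGroup.mk' K₁
      have hker : Function.Injective ((quoAct φ W hW).comp f.ker.subtype) := by
        refine (injective_iff_map_eq_one _).2 fun ⟨g, hg⟩ hgq => Subtype.ext (hφ ?_)
        show φ g = φ 1
        rw [map_one]
        refine MulEquiv.ext fun x => ?_
        have hfix : ∀ y ∈ W, φ g y = y := fun y hy => by
          have hg' : g ∈ K₁ := (QuotientGroup.eq_one_iff g).1 (MonoidHom.mem_ker.1 hg)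
          exact congrArg (fun e : MulAut W => (e ⟨y, hy⟩ : V)) (MonoidHom.mem_ker.1 hg')
        have hxW : x⁻¹ * φ g x ∈ W := by
          have h2 := congrArg (fun e : MulAut (V ⧸ W) => e (QuotientGroup.mk x)) hgq
          simp only [MonoidHom.comp_apply, MulAut.one_apply] at h2
          have h3 : (QuotientGroup.mk (φ g x) : V ⧸ W) = QuotientGroup.mk x := h2
          exact QuotientGroup.eq.1 h3.symm
        have hk : ∀ k : ℕ, φ (g ^ k) x = x * (x⁻¹ * φ g x) ^ k := by
          intro k
          induction k with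
          | zero => simp
          | succ k ihk =>
            rw [pow_succ', map_mul, MulAut.mul_apply, ihk, map_mul, map_pow, hfix _ hxW, pow_succ',
              ← mul_assoc, mul_inv_cancel_left]
        obtain ⟨j, hj⟩ := hP g
        have h4 := hk (2 ^ j)
        rw [hj, map_one, MulAut.one_apply, eq_comm, mul_eq_left] at h4
        have h5 : x⁻¹ * φ g x = 1 := by
          rw [← orderOf_eq_one_iff]
          exact Nat.eq_one_of_dvd_coprimes ((hodd.coprime_two_right).pow_right j) (orderOf_dvd_natCard _)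
            (orderOf_dvd_of_pow_eq_one h4)
        exact (inv_mul_eq_one.1 h5).symm
      have hcard : Nat.card V = Nat.card (V ⧸ W) * Nat.card W := W.card_eq_card_quotient_mul_card_subgroup
      have hW1 : 2 ≤ Nat.card W := by
        haveI := (nontrivial_iff_ne_bot W).2 hWb
        exact Finite.one_lt_card
      have hQ1 : 2 ≤ Nat.card (V ⧸ W) := by
        haveI : Nontrivial (V ⧸ W) := QuotientGroup.nontrivial_iff.2 hWt
        exact Finite.one_lt_card
      have ho1 : Odd (Nat.card W) := hodd.of_dvd_nat (card_subgroup_dvd_card W)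
      have ho2 : Odd (Nat.card (V ⧸ W)) := hodd.of_dvd_nat (W.card_quotient_dvd_card)
      have b1 := ih _ (by rw [hcard]; exact lt_mul_of_one_lt_left (by omega) (by omega)) W rfl ho1 (by omega) _
        (hP.of_surjective f (QuotientGroup.mk'_surjective K₁)) (QuotientGroup.kerLift (subAct φ W hW))
        (QuotientGroup.kerLift_injective _)
      have b2 := ih _ (by rw [hcard]; exact lt_mul_of_one_lt_right (by omega) (by omega)) (V ⧸ W) rfl ho2 (by omega) _
        (hP.to_subgroup f.ker) _ hker
      rw [hcard]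
      exact Bound.mul (index_frattini_le_mul hP f (QuotientGroup.mk'_surjective K₁)) b2 b1 hQ1 hW1
    push Not at hred
    haveI : Nontrivial V := Finite.one_lt_card_iff_nontrivial.1 h1
    -- a central involution inverts `V`
    have hinv : ∀ u ∈ center P, u * u = 1 → u ≠ 1 → ∀ x, φ u x = x⁻¹ := by
      intro u hu huu hu1 x
      let W : Subgroup V :=
        { carrier := {y | φ u y = y}
          one_mem' := map_one _
          mul_mem' := fun {a b} (ha : φ u a = a) (hb : φ u b = b) => show φ u (a * b) = a * b by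
            rw [map_mul, ha, hb]
          inv_mem' := fun {a} (ha : φ u a = a) => show φ u a⁻¹ = a⁻¹ by rw [map_inv, ha] }
      have hWb : W = ⊥ := by
        by_contra hWb
        obtain ⟨g, y, hy, hgy⟩ := hred W hWb (fun e => hu1 (hφ (by
          rw [map_one]
          exact MulEquiv.ext fun y => (e ▸ mem_top y : y ∈ W))))
        refine hgy (show φ u (φ g y) = φ g y from ?_)
        rw [← MulAut.mul_apply, ← map_mul, ← mem_center_iff.1 hu g, map_mul, MulAut.mul_apply,
          show φ u y = y from hy]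
      have h2 : x * φ u x ∈ W := by
        show φ u (x * φ u x) = x * φ u x
        rw [map_mul, ← MulAut.mul_apply, ← map_mul, huu, map_one, MulAut.one_apply, mul_comm]
      rw [hWb, mem_bot] at h2
      exact (inv_eq_of_mul_eq_one_right h2).symm
    by_cases hcyc : ∀ A : Subgroup P, A.Normal → IsMulCommutative A → IsCyclic A
    · obtain ⟨h4, h2⟩ := index_frattini_of_cyclic hP hcyc
      by_cases h9 : Nat.card V < 9
      · have hpr : (Nat.card V).Prime := by
          obtain ⟨k, hk⟩ := hodd
          have : k = 1 ∨ k = 2 ∨ k = 3 := by omega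
          rcases this with rfl | rfl | rfl <;> rw [hk] <;> norm_num
        haveI := Fact.mk hpr
        haveI : IsCyclic V := isCyclic_of_prime_card rfl
        have h2' := h2 fun x y => hφ (by
          rw [map_mul, map_mul]
          obtain ⟨v, hv⟩ := IsCyclic.exists_generator (α := V)
          refine MulEquiv.ext fun z => ?_
          obtain ⟨i, rfl⟩ := mem_zpowers_iff.1 (hv z)
          rw [map_zpow, map_zpow, MulAut.mul_apply, MulAut.mul_apply]
          congr 1
          obtain ⟨a, ha⟩ := mem_zpowers_iff.1 (hv (φ x v))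
          obtain ⟨b, hb⟩ := mem_zpowers_iff.1 (hv (φ y v))
          rw [← ha, ← hb, map_zpow, map_zpow, ← ha, ← hb, ← zpow_mul, ← zpow_mul, mul_comm])
        have h3 : 3 ≤ Nat.card V := by
          obtain ⟨k, hk⟩ := hodd
          omega
        refine ⟨by omega, ?_⟩
        obtain ⟨k, hk⟩ := hodd
        omega
      · exact ⟨by omega, by omega⟩
    push Not at hcyc
    obtain ⟨A, hAn, hAc, hAnc⟩ := hcyc
    haveI := hAn
    -- the involutions of `A`
    let O : Subgroup P :=
      { carrier := {x | x ∈ A ∧ x * x = 1}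
        one_mem' := ⟨one_mem _, one_mul _⟩
        mul_mem' := fun {a b} ha hb => ⟨mul_mem ha.1 hb.1, by
          have hc : b * a = a * b := congrArg Subtype.val (hAc.is_comm.comm ⟨b, hb.1⟩ ⟨a, ha.1⟩)
          rw [mul_assoc, ← mul_assoc b, hc, mul_assoc a b b, hb.2, mul_one, ha.2]⟩
        inv_mem' := fun {a} ha => ⟨inv_mem ha.1, by rw [← mul_inv_rev, ha.2, inv_one]⟩ }
    haveI hOn : O.Normal := ⟨fun x hx g => ⟨hAn.conj_mem x hx.1 g, by
      rw [show g * x * g⁻¹ * (g * x * g⁻¹) = g * (x * x) * g⁻¹ by group, hx.2, mul_one, mul_inv_cancel]⟩⟩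
    obtain ⟨a, haO, haZ, hcomm⟩ : ∃ a ∈ O, a ∉ center P ∧ ∀ g : P, g * a * g⁻¹ * a⁻¹ ∈ center P := by
      have hOc : ¬ O ≤ center P := by
        intro hle
        apply hAnc
        haveI := hAc
        haveI : IsMulCommutative (⊤ : Subgroup A) := ⟨⟨fun x y => Subtype.ext (hAc.is_comm.comm (x : A) (y : A))⟩⟩
        suffices huniq : ∀ H K : Subgroup A, Nat.card H = 2 → Nat.card K = 2 → H = K by
          haveI := CfsgLib.Core.UniqueOrderP.isCyclic_of_unique (p := 2) (hP.to_subgroup A) huniq ⊤
          exact isCyclic_of_surjective (⊤ : Subgroup A).subtype (fun x => ⟨⟨x, mem_top x⟩, rfl⟩)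
        intro H K hH hK
        obtain ⟨h, hh, hh1, hgen⟩ : ∃ h ∈ H, h ≠ 1 ∧ H = zpowers h := by
          haveI : Nontrivial H := Finite.one_lt_card_iff_nontrivial.1 (by omega)
          obtain ⟨⟨h, hh⟩, hne⟩ := exists_ne (1 : H)
          refine ⟨h, hh, fun e => hne (Subtype.ext e), (eq_of_le_of_card_ge (zpowers_le.2 hh) ?_).symm⟩
          rw [hH, Nat.card_zpowers]
          have : orderOf h ≠ 1 := fun e => hne (Subtype.ext (orderOf_eq_one_iff.1 e))
          have := orderOf_pos h
          omega
        obtain ⟨k, hk, hk1, hgen'⟩ : ∃ k ∈ K, k ≠ 1 ∧ K = zpowers k := by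
          haveI : Nontrivial K := Finite.one_lt_card_iff_nontrivial.1 (by omega)
          obtain ⟨⟨h, hh⟩, hne⟩ := exists_ne (1 : K)
          refine ⟨h, hh, fun e => hne (Subtype.ext e), (eq_of_le_of_card_ge (zpowers_le.2 hh) ?_).symm⟩
          rw [hK, Nat.card_zpowers]
          have : orderOf h ≠ 1 := fun e => hne (Subtype.ext (orderOf_eq_one_iff.1 e))
          have := orderOf_pos h
          omega
        have hsq' : ∀ {L : Subgroup A}, Nat.card L = 2 → ∀ z ∈ L, (z : P) * z = 1 := fun {L} hL z hz => by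
          have := congrArg (fun t : L => ((t : A) : P)) (pow_card_eq_one' (x := (⟨z, hz⟩ : L)))
          rw [hL] at this
          simpa [pow_two] using this
        have e : (h : P) = k := hφ (MulEquiv.ext fun x => by
          rw [hinv _ (hle ⟨h.2, hsq' hH h hh⟩) (hsq' hH h hh) (fun e => hh1 (Subtype.ext e)),
            hinv _ (hle ⟨k.2, hsq' hK k hk⟩) (hsq' hK k hk) (fun e => hk1 (Subtype.ext e))])
        rw [hgen, hgen', Subtype.ext e]
      set π := QuotientGroup.mk' (center P)
      haveI : (O.map π).Normal := Normal.map hOn π (QuotientGroup.mk'_surjective _)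
      have hne : O.map π ≠ ⊥ := fun e => hOc (by
        rwa [Subgroup.map_eq_bot_iff, QuotientGroup.ker_mk'] at e)
      obtain ⟨⟨b, hb⟩, hb1⟩ := ne_bot_iff_exists_ne_one.1
        (CfsgLib.PGroups.inf_center_ne_bot (hP.to_quotient (center P)) hne)
      obtain ⟨a, ha, rfl⟩ := (mem_inf.1 hb).1
      refine ⟨a, ha, fun hz => hb1 (Subtype.ext ((QuotientGroup.eq_one_iff a).2 hz)), fun g => ?_⟩
      refine (QuotientGroup.eq_one_iff _).1 ?_
      show π (g * a * g⁻¹ * a⁻¹) = 1
      rw [map_mul, map_mul, map_mul, map_inv, map_inv, mem_center_iff.1 (mem_inf.1 hb).2 (π g),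
        mul_inv_cancel_right, mul_inv_cancel]
    have haa : a * a = 1 := haO.2
    have hca : ∀ y, φ a (φ a y) = y := fun y => by
      rw [← MulAut.mul_apply, ← map_mul, haa, map_one, MulAut.one_apply]
    have hconj : ∀ g : P, g * a ≠ a * g → ∀ x, φ (g * a * g⁻¹) x = (φ a x)⁻¹ := by
      intro g hg x
      set c := g * a * g⁻¹ * a⁻¹ with hcdef
      have hcO : c ∈ O := mul_mem (hOn.conj_mem a haO g) (inv_mem haO)
      have hc1 : c ≠ 1 := fun e => hg (mul_inv_eq_iff_eq_mul.1 (mul_inv_eq_one.1 e))
      rw [show g * a * g⁻¹ = c * a by rw [hcdef, inv_mul_cancel_right], map_mul, MulAut.mul_apply,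
        hinv c (hcomm g) hcO.2 hc1]
    let C₁ : Subgroup V :=
      { carrier := {y | φ a y = y}
        one_mem' := map_one _
        mul_mem' := fun {s t} (hs : φ a s = s) (ht : φ a t = t) => show φ a (s * t) = s * t by
          rw [map_mul, hs, ht]
        inv_mem' := fun {s} (hs : φ a s = s) => show φ a s⁻¹ = s⁻¹ by rw [map_inv, hs] }
    let C₂ : Subgroup V :=
      { carrier := {y | φ a y = y⁻¹}
        one_mem' := by simp
        mul_mem' := fun {s t} (hs : φ a s = s⁻¹) (ht : φ a t = t⁻¹) => show φ a (s * t) = (s * t)⁻¹ by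
          rw [map_mul, hs, ht, mul_inv]
        inv_mem' := fun {s} (hs : φ a s = s⁻¹) => show φ a s⁻¹ = s⁻¹⁻¹ by rw [map_inv, hs] }
    obtain ⟨t, ht⟩ : ∃ t, t * a ≠ a * t := by
      by_contra hall
      push Not at hall
      exact haZ (mem_center_iff.2 hall)
    set H := centralizer ({a} : Set P)
    have hH : ∀ g, g ∈ H ↔ g * a = a * g := fun g => mem_centralizer_singleton_iff
    have hidx : H.index = 2 := by
      refine index_eq_two_iff.2 ⟨t, fun g => ?_⟩
      by_cases hg : g ∈ H
      · refine Or.inr ⟨hg, fun h => ht ((hH t).1 ((mul_mem_cancel_left hg).1 h))⟩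
      · refine Or.inl ⟨(hH _).2 (hφ (MulEquiv.ext fun x => ?_)), hg⟩
        have e1 : φ (t * a * t⁻¹) = φ (g⁻¹ * a * g⁻¹⁻¹) := MulEquiv.ext fun y => by
          rw [hconj t ht, hconj g⁻¹ fun e => hg ((hH g).2 (by
            calc g * a = g * (a * g⁻¹) * g := by group
              _ = g * (g⁻¹ * a) * g := by rw [e]
              _ = a * g := by group))]
        rw [show g * t * a = g * (t * a * t⁻¹) * t by group, map_mul, map_mul, e1]
        simp [mul_assoc]
    haveI : H.Normal := normal_of_index_eq_two hidx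
    have hC : ∀ g ∈ H, ∀ x, φ a (φ g x) = φ g (φ a x) := fun g hg x => by
      rw [← MulAut.mul_apply, ← map_mul, ← (hH g).1 hg, map_mul, MulAut.mul_apply]
    have hC₁ : ∀ (g : H) x, x ∈ C₁ → (φ.comp H.subtype) g x ∈ C₁ := fun g x (hx : φ a x = x) => by
      show φ a (φ g x) = φ g x
      rw [hC g g.2, hx]
    have hC₂ : ∀ (g : H) x, x ∈ C₂ → (φ.comp H.subtype) g x ∈ C₂ := fun g x (hx : φ a x = x⁻¹) => by
      show φ a (φ g x) = (φ g x)⁻¹
      rw [hC g g.2, hx, map_inv]
    have hm1 : ∀ y, y * φ a y ∈ C₁ := fun y => show φ a (y * φ a y) = _ by rw [map_mul, hca, mul_comm]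
    have hm2 : ∀ y, y * (φ a y)⁻¹ ∈ C₂ := fun y => show φ a (y * (φ a y)⁻¹) = _ by
      rw [map_mul, map_inv, hca, mul_inv, inv_inv, mul_comm]
    have hsurj : Function.Surjective fun v : V => v ^ 2 := fun v =>
      ⟨(powCoprime hodd.coprime_two_right).symm v, (powCoprime hodd.coprime_two_right).apply_symm_apply v⟩
    let e : C₁ × C₂ → V := fun p => p.1 * p.2
    have hbij : Function.Bijective e := by
      refine ⟨?_, ?_⟩
      · rintro ⟨⟨x₁, hx₁⟩, ⟨y₁, hy₁⟩⟩ ⟨⟨x₂, hx₂⟩, ⟨y₂, hy₂⟩⟩ (h : x₁ * y₁ = x₂ * y₂)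
        have h' : x₂⁻¹ * x₁ = y₂ * y₁⁻¹ := by
          rw [inv_mul_eq_iff_eq_mul, ← mul_assoc, ← h, mul_inv_cancel_right]
        have q1 : φ a (x₂⁻¹ * x₁) = x₂⁻¹ * x₁ := mul_mem (inv_mem hx₂ : x₂⁻¹ ∈ C₁) hx₁
        have q2 : φ a (y₂ * y₁⁻¹) = (y₂ * y₁⁻¹)⁻¹ := mul_mem hy₂ (inv_mem hy₁ : y₁⁻¹ ∈ C₂)
        rw [h'] at q1
        have q3 : y₂ * y₁⁻¹ = 1 := hsq _ (mul_eq_one_iff_eq_inv.2 (q1.symm.trans q2))
        rw [q3] at h'
        exact Prod.ext (Subtype.ext (inv_mul_eq_one.1 h').symm) (Subtype.ext (mul_inv_eq_one.1 q3).symm)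
      · intro v
        obtain ⟨y, rfl⟩ := hsurj v
        refine ⟨(⟨_, hm1 y⟩, ⟨_, hm2 y⟩), ?_⟩
        show y * φ a y * (y * (φ a y)⁻¹) = y ^ 2
        rw [pow_two, mul_mul_mul_comm, mul_inv_cancel, mul_one]
    have htt : ∀ x, φ t (φ a x) = (φ a (φ t x))⁻¹ := fun x => by
      rw [← hconj t ht, ← MulAut.mul_apply, ← map_mul, ← MulAut.mul_apply, ← map_mul]
      group
    have hcard12 : Nat.card C₁ = Nat.card C₂ := by
      refine le_antisymm
        (Nat.card_le_card_of_injective (fun x : C₁ => (⟨φ t x, ?_⟩ : C₂)) fun x y h =>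
          Subtype.ext ((φ t).injective (congrArg Subtype.val h)))
        (Nat.card_le_card_of_injective (fun x : C₂ => (⟨φ t x, ?_⟩ : C₁)) fun x y h =>
          Subtype.ext ((φ t).injective (congrArg Subtype.val h)))
      · show φ a (φ t (x : V)) = (φ t (x : V))⁻¹
        rw [← inv_inj, inv_inv, ← htt, show φ a (x : V) = x from x.2]
      · show φ a (φ t (x : V)) = φ t (x : V)
        rw [← inv_inj, ← htt, show φ a (x : V) = (x : V)⁻¹ from x.2, map_inv]
    have hcardV : Nat.card V = Nat.card C₁ * Nat.card C₁ := by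
      rw [← Nat.card_eq_of_bijective e hbij, Nat.card_prod, hcard12]
    set m := Nat.card C₁ with hm
    have hmo : Odd m := hodd.of_dvd_nat (hcardV ▸ dvd_mul_left m m)
    have hm2' : 2 ≤ m := by
      by_contra hlt
      have : m * m ≤ 1 * 1 := Nat.mul_le_mul (by omega) (by omega)
      omega
    set K₁ := (subAct (φ.comp H.subtype) C₁ hC₁).ker with hK₁
    set f := QuotientGroup.mk' K₁
    have hker : Function.Injective ((subAct (φ.comp H.subtype) C₂ hC₂).comp f.ker.subtype) := by
      refine (injective_iff_map_eq_one _).2 fun ⟨g, hg⟩ hgq => Subtype.ext (Subtype.ext (hφ ?_))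
      show φ (g : P) = φ 1
      rw [map_one]
      refine MulEquiv.ext fun x => ?_
      obtain ⟨⟨p, q⟩, rfl⟩ := hbij.2 x
      have h1 : φ (g : P) (p : V) = p := by
        have hg' : g ∈ K₁ := (QuotientGroup.eq_one_iff g).1 (MonoidHom.mem_ker.1 hg)
        exact congrArg (fun e : MulAut C₁ => (e p : V)) (MonoidHom.mem_ker.1 hg')
      have h2 : φ (g : P) (q : V) = q := by
        exact congrArg (fun e : MulAut C₂ => (e q : V)) hgq
      show φ (g : P) (p * q) = p * q
      rw [map_mul, h1, h2]
    have hHp := hP.to_subgroup H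
    have b1 := ih m (hcardV ▸ lt_mul_of_one_lt_left (by omega) (by omega)) C₁ rfl hmo (by omega) _
      (hHp.of_surjective f (QuotientGroup.mk'_surjective K₁)) (QuotientGroup.kerLift (subAct (φ.comp H.subtype) C₁ hC₁))
      (QuotientGroup.kerLift_injective _)
    have b2 := ih m (hcardV ▸ lt_mul_of_one_lt_left (by omega) (by omega)) C₂ hcard12.symm hmo (by omega) _
      (hHp.to_subgroup f.ker) _ hker
    have hXH := index_frattini_le_mul hHp f (QuotientGroup.mk'_surjective K₁)
    have hX : (frattini P).index ≤ (frattini H).index * 2 := by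
      refine (index_frattini_le_mul hP (QuotientGroup.mk' H) (QuotientGroup.mk'_surjective H)).trans ?_
      rw [QuotientGroup.ker_mk']
      exact Nat.mul_le_mul_left _ (index_frattini_le_card.trans_eq (by rw [← index_eq_card, hidx]))
    rw [hcardV]
    by_cases hm3 : m = 3
    · have hPc : Nat.card P ≤ 8 := by
        have h1 : Nat.card f.ker ≤ 2 := by
          rw [← card_mulAut_three (V := C₂) (hcard12.symm.trans hm3)]
          exact Nat.card_le_card_of_injective _ hker
        have h2 : Nat.card (H ⧸ K₁) ≤ 2 := by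
          rw [← card_mulAut_three (V := C₁) hm3]
          exact Nat.card_le_card_of_injective _ (QuotientGroup.kerLift_injective _)
        have h3 : Nat.card H = Nat.card f.ker * Nat.card (H ⧸ K₁) := by
          rw [show f.ker = K₁ from QuotientGroup.ker_mk' _, ← index_eq_card, card_mul_index]
        rw [← card_mul_index H, hidx, h3]
        exact Nat.mul_le_mul_right 2 (Nat.mul_le_mul h1 h2)
      have hle : (frattini P).index ≤ 4 := by
        by_contra hlt
        obtain ⟨k, hk⟩ := IsPGroup.index hP (frattini P)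
        obtain ⟨j, hj⟩ := hP.exists_card_eq
        have h5 : (frattini P).index ≤ Nat.card P := index_frattini_le_card
        have hk3 : k = 3 := by
          have h6 : 2 ^ k ≤ 2 ^ 3 := by omega
          have h7 : 2 ^ 2 < 2 ^ k := by omega
          have := (Nat.pow_le_pow_iff_right (by norm_num : 1 < 2)).1 h6
          have := (Nat.pow_lt_pow_iff_right (by norm_num : 1 < 2)).1 h7
          omega
        subst hk3
        have h8 : Nat.card (frattini P) = 1 := by
          have h9 := (frattini P).card_mul_index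
          rw [hk] at h9
          have : 0 < Nat.card (frattini P) := Nat.card_pos
          omega
        have hc2 := CfsgLib.PGroups.commutator_le_frattini' hP
        rw [card_eq_one.1 h8, le_bot_iff] at hc2
        apply haZ
        refine mem_center_iff.2 fun g => ?_
        have : g * a * g⁻¹ * a⁻¹ ∈ commutator P := commutator_mem_commutator (mem_top g) (mem_top a)
        rw [hc2, mem_bot, mul_inv_eq_one, mul_inv_eq_iff_eq_mul] at this
        exact this
      rw [hm3]
      exact ⟨by omega, Or.inr (by omega)⟩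
    · have hh1 := b1.2.resolve_left hm3
      have hh2 := b2.2.resolve_left hm3
      have h5 : 2 * (frattini P).index ≤ m * m :=
        calc 2 * (frattini P).index ≤ 2 * ((frattini H).index * 2) := Nat.mul_le_mul_left _ hX
          _ ≤ 2 * (_ * _ * 2) := Nat.mul_le_mul_left _ (Nat.mul_le_mul_right _ hXH)
          _ = (2 * _) * (2 * _) := by ring
          _ ≤ m * m := Nat.mul_le_mul hh2 hh1
      have : 4 ≤ m * m := Nat.mul_le_mul hm2' hm2'
      exact ⟨by omega, Or.inr h5⟩

open scoped IsMulCommutative in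
theorem main {G : Type v} [Group G] [Finite G] (N P : Subgroup G) [N.Normal] [IsMulCommutative N]
    (hNodd : Odd (Nat.card N)) (hP : IsPGroup 2 P) (hdisj : N ⊓ P = ⊥) (hprod : N ⊔ P = ⊤)
    (hmin : N ≠ ⊥ ∧ ∀ M : Subgroup G, M.Normal → M ≠ ⊥ → N ≤ M) : (frattini P).index ≤ Nat.card N - 1 := by
  haveI : Nontrivial N := (nontrivial_iff_ne_bot N).2 hmin.1
  refine (bound _ N rfl hNodd Finite.one_lt_card P hP (MulAut.conjNormal.comp P.subtype) ?_).1
  set C := P ⊓ centralizer (N : Set G)
  haveI : C.Normal := by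
    refine normalizer_eq_top_iff.1 (eq_top_iff.2 (hprod.ge.trans (sup_le ?_ ?_)))
    · intro n hn
      refine centralizer_le_normalizer _ (mem_centralizer_iff.2 fun x hx => ?_)
      exact ((mem_centralizer_iff.1 (mem_inf.1 hx).2) n hn).symm
    · exact (le_inf le_normalizer (CfsgLib.Core.le_normalizer_of_normal P _)).trans
        inf_normalizer_le_normalizer_inf
  refine (injective_iff_map_eq_one _).2 fun g hg => ?_
  have hgC : (g : G) ∈ C := mem_inf.2 ⟨g.2, mem_centralizer_iff.2 fun n hn => by
    have h1 := congrArg (fun e : MulAut N => ((e ⟨n, hn⟩ : N) : G)) hg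
    simp [MulAut.conjNormal_apply] at h1
    exact (mul_inv_eq_iff_eq_mul.1 h1).symm⟩
  by_contra hne
  have hCb : C ≠ ⊥ := fun e => hne (Subtype.ext (mem_bot.1 (e ▸ hgC)))
  exact hmin.1 (eq_bot_iff.2 fun x hx => hdisj ▸ ⟨hx, (hmin.2 C inferInstance hCb hx).1⟩)

/-- Let G be a finite group that is the semidirect product of a normal abelian subgroup N of odd order by a 2-subgroup P, and suppose N is the unique minimal normal subgroup of G. Then the index of the Frattini subgroup of P in P is at most #N − 1. -/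
theorem result {G : Type*} [Group G] [Finite G] (N P : Subgroup G) (hN : N.Normal) (hNab : IsMulCommutative ↥N) (hNodd : Odd (Nat.card ↥N)) (hP : IsPGroup 2 ↥P) (hdisj : N ⊓ P = ⊥) (hprod : N ⊔ P = ⊤) (hmin : N ≠ ⊥ ∧ ∀ M : Subgroup G, M.Normal → M ≠ ⊥ → N ≤ M) : (frattini ↥P).index ≤ Nat.card ↥N - 1 := by
  haveI := hN
  haveI := hNab
  exact main N P hNodd hP hdisj hprod hmin

end Cfsg.Agent.S4188
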