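import Cfsg.Statements.S4189
import Cfsg.Agent.Lib.Core.UniqueOrderP
import Cfsg.Agent.Lib.Core.Nilpotent

set_option autoImplicit false
open Cfsg
open scoped commutatorElement

namespace Cfsg.Agent.S4189

open Subgroup in
theorem eq_top_of_sup_commutator.{u} {P : Type u} [Group P] [Finite P] [Group.IsNilpotent P] {K : Subgroup P}
    (h : K ⊔ commutator P = ⊤) : K = ⊤ := by
  rcases eq_top_or_exists_le_coatom K with hK | ⟨M, hM, hKM⟩
  · exact hK
  exfalso
  haveI : M.Normal := Subgroup.NormalizerCondition.normal_of_coatom M Group.normalizerCondition_of_isNilpotent hM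
  have hcomm : commutator P ≤ M := by
    have hs : IsSimpleGroup (P ⧸ M) := by
      haveI : Nontrivial (P ⧸ M) := QuotientGroup.nontrivial_iff.2 hM.1
      refine ⟨fun H _ => ?_⟩
      have hle : M ≤ H.comap (QuotientGroup.mk' M) := QuotientGroup.le_comap_mk' M H
      rcases hle.eq_or_lt with heq | hlt
      · left
        rw [← Subgroup.map_comap_eq_self_of_surjective (QuotientGroup.mk'_surjective M) H, ← heq,
          Subgroup.map_eq_bot_iff, QuotientGroup.ker_mk']
      · right
        rw [← Subgroup.map_comap_eq_self_of_surjective (QuotientGroup.mk'_surjective M) H, hM.2 _ hlt,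
          Subgroup.map_top_of_surjective _ (QuotientGroup.mk'_surjective M)]
    haveI := hs
    haveI : Group.IsNilpotent (P ⧸ M) := Group.nilpotent_of_surjective (QuotientGroup.mk' M) (QuotientGroup.mk'_surjective M)
    rw [_root_.commutator_def, commutator_le]
    intro g₁ _ g₂ _
    have hc : ∀ s t : P ⧸ M, s * t = t * s := by
      have h1 := (center (P ⧸ M)).normal_of_characteristic
      rcases h1.eq_bot_or_eq_top with h2 | h2
      · haveI : Nontrivial (P ⧸ M) := QuotientGroup.nontrivial_iff.2 hM.1
        exact absurd (by rw [h2, inf_bot_eq]) (CfsgLib.Core.inf_center_ne_bot_of_isNilpotent (⊤ : Subgroup (P ⧸ M)) top_ne_bot)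
      · intro s t
        exact ((mem_center_iff).1 (h2 ▸ mem_top t) s)
    rw [← QuotientGroup.eq_one_iff, commutatorElement_def]
    change QuotientGroup.mk' M (g₁ * g₂ * g₁⁻¹ * g₂⁻¹) = 1
    rw [map_mul, map_mul, map_mul, map_inv, map_inv, hc (QuotientGroup.mk' M g₁) (QuotientGroup.mk' M g₂), mul_inv_cancel_right, mul_inv_cancel]
  exact hM.1 (top_le_iff.1 (h ▸ sup_le hKM hcomm))

open Subgroup in
theorem main.{u} {P : Type u} [Group P] [Finite P] (hP : IsPGroup 2 P) (hna : ¬ IsMulCommutative P)
    (h4 : (commutator P).index = 4) (haut : ¬ IsPGroup 2 (MulAut P)) : Nonempty (P ≃* QuaternionGroup 2) := by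
  classical
  haveI := hP.isNilpotent
  haveI : Fact (Nat.Prime 2) := ⟨Nat.prime_two⟩
  set D := commutator P with hD
  -- an automorphism of odd prime order
  obtain ⟨q, hq, hq2, φ, hφ⟩ : ∃ q : ℕ, q.Prime ∧ q ≠ 2 ∧ ∃ φ : MulAut P, orderOf φ = q := by
    by_contra hcon
    push Not at hcon
    apply haut
    refine IsPGroup.iff_card.2 ⟨_, Nat.eq_prime_pow_of_unique_prime_dvd Nat.card_pos.ne' fun {d} hd hdvd => ?_⟩
    by_contra hne
    haveI := Fact.mk hd
    obtain ⟨φ, hφ⟩ := exists_prime_orderOf_dvd_card' (G := MulAut P) d hdvd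
    exact hcon d hd hne φ hφ
  haveI := Fact.mk hq
  have hgen : ∀ K : Subgroup P, K ⊔ D = ⊤ → K = ⊤ := fun K hK => eq_top_of_sup_commutator hK
  -- the quotient
  have hcardQ : Nat.card (P ⧸ D) = 4 := by rw [← index_eq_card]; exact h4
  have hsq : ∀ a : P ⧸ D, a ^ 2 = 1 := by
    intro a
    obtain ⟨a, rfl⟩ := QuotientGroup.mk'_surjective D a
    have hd : orderOf (QuotientGroup.mk' D a) ∣ 2 ^ 2 := by
      rw [show 2 ^ 2 = Nat.card (P ⧸ D) by rw [hcardQ]; rfl]; exact orderOf_dvd_natCard _
    obtain ⟨i, hi, hio⟩ := (Nat.dvd_prime_pow Nat.prime_two).1 hd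
    rcases Nat.lt_or_ge i 2 with hlt | hge
    · rw [← orderOf_dvd_iff_pow_eq_one, hio]
      exact (pow_dvd_pow 2 (by omega : i ≤ 1)).trans (pow_one 2).dvd
    · exfalso
      have htop : zpowers (QuotientGroup.mk' D a) = ⊤ :=
        eq_top_of_card_eq _ (by rw [Nat.card_zpowers, hio, show i = 2 by omega, hcardQ]; rfl)
      have hK : zpowers a = ⊤ := hgen _ (by
        rw [eq_top_iff]
        intro g _
        obtain ⟨j, hj⟩ := mem_zpowers_iff.1 (htop ▸ mem_top (QuotientGroup.mk' D g) : QuotientGroup.mk' D g ∈ zpowers (QuotientGroup.mk' D a))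
        have : g = a ^ j * ((a ^ j)⁻¹ * g) := by group
        rw [this]
        refine mul_mem (mem_sup_left (zpow_mem (mem_zpowers a) j)) (mem_sup_right ?_)
        rw [← QuotientGroup.eq]
        rw [← map_zpow] at hj
        exact hj)
      apply hna
      refine ⟨⟨fun s t => ?_⟩⟩
      obtain ⟨i, rfl⟩ := mem_zpowers_iff.1 (hK ▸ mem_top s : s ∈ zpowers a)
      obtain ⟨j, rfl⟩ := mem_zpowers_iff.1 (hK ▸ mem_top t : t ∈ zpowers a)
      exact (Commute.zpow_zpow_self a i j).eq
  have hφD : ∀ a : P, a ∈ D → φ a ∈ D := fun a ha =>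
    (Subgroup.characteristic_iff_map_le.1 inferInstance φ) (mem_map_of_mem _ ha)
  let φb : P ⧸ D →* P ⧸ D := QuotientGroup.map D D φ.toMonoidHom (fun a ha => hφD a ha)
  have hφb : ∀ a : P, φb (QuotientGroup.mk' D a) = QuotientGroup.mk' D (φ a) := fun _ => rfl
  -- some coset is moved
  obtain ⟨a, ha⟩ : ∃ a : P, φb (QuotientGroup.mk' D a) ≠ QuotientGroup.mk' D a := by
    by_contra hcon
    push Not at hcon
    let Fx : Subgroup P :=
      { carrier := {x | φ x = x}
        one_mem' := map_one φ
        mul_mem' := fun {x y} hx hy => (map_mul φ x y).trans (congrArg₂ (· * ·) hx hy)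
        inv_mem' := fun {x} hx => (map_inv φ x).trans (congrArg (·⁻¹) hx) }
    have hFx : Fx = ⊤ := by
      refine hgen _ (eq_top_iff.2 fun g _ => ?_)
      let X := {x : P // QuotientGroup.mk' D x = QuotientGroup.mk' D g}
      let act : MulAction (zpowers φ) X :=
        { smul := fun σ x => ⟨(σ : MulAut P) x.1, by
            obtain ⟨i, hi⟩ := (IsOfFinOrder.mem_powers_iff_mem_zpowers (isOfFinOrder_of_finite φ)).2 σ.2
            simp only at hi
            rw [← hi]
            clear hi
            induction i with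
            | zero => exact x.2
            | succ i ih => rw [pow_succ', MulAut.mul_apply, ← hφb, ih, hcon]⟩
          one_smul := fun x => rfl
          mul_smul := fun σ τ x => rfl }
      letI := act
      have hq' : IsPGroup q (zpowers φ) := IsPGroup.of_card (n := 1) (by rw [Nat.card_zpowers, hφ, pow_one])
      have hX : ¬ q ∣ Nat.card X := by
        have e : X ≃ D := {
          toFun := fun x => ⟨g⁻¹ * x.1, QuotientGroup.eq.1 x.2.symm⟩
          invFun := fun d => ⟨g * d.1, (QuotientGroup.eq.2 (by rw [inv_mul_cancel_left]; exact d.2)).symm⟩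
          left_inv := fun x => Subtype.ext (mul_inv_cancel_left _ _)
          right_inv := fun d => Subtype.ext (inv_mul_cancel_left _ _) }
        rw [Nat.card_congr e]
        obtain ⟨n, hn⟩ := IsPGroup.iff_card.1 (hP.to_subgroup D)
        rw [hn]
        exact fun h => hq2 ((Nat.prime_dvd_prime_iff_eq hq Nat.prime_two).1 (hq.dvd_of_dvd_pow h))
      obtain ⟨x, hx⟩ := hq'.nonempty_fixed_point_of_prime_not_dvd_card X hX
      have hxf : φ x.1 = x.1 := congrArg Subtype.val (hx ⟨φ, mem_zpowers φ⟩)
      have : g = x.1 * (x.1⁻¹ * g) := by group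
      rw [this]
      exact mul_mem (mem_sup_left hxf) (mem_sup_right (QuotientGroup.eq.1 x.2))
    have : φ = 1 := MulEquiv.ext fun x => (hFx ▸ mem_top x : x ∈ Fx)
    rw [this, orderOf_one] at hφ
    exact hq.ne_one hφ.symm
  set e₁ := QuotientGroup.mk' D a with he₁
  set e₂ := φb e₁
  set e₃ := φb e₂
  have hφq : ∀ x, (φb^[q]) x = x := by
    intro x
    obtain ⟨x, rfl⟩ := QuotientGroup.mk'_surjective D x
    have : ∀ i, (φb^[i]) (QuotientGroup.mk' D x) = QuotientGroup.mk' D ((φ ^ i) x) := by
      intro i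
      induction i with
      | zero => rfl
      | succ i ih => rw [Function.iterate_succ_apply', ih, hφb, pow_succ', MulAut.mul_apply]
    rw [this, ← hφ, pow_orderOf_eq_one, MulAut.one_apply]
  have hφinj : Function.Injective φb := fun x y hxy => by
    rw [← hφq x, ← hφq y]
    obtain ⟨k, hk⟩ : ∃ k, q = k + 1 := ⟨q - 1, by have := hq.pos; omega⟩
    rw [hk, Function.iterate_succ_apply, Function.iterate_succ_apply, hxy]
  have h12 : e₂ ≠ e₁ := ha
  have h23 : e₃ ≠ e₂ := fun h => h12 (hφinj h)
  have h13 : e₃ ≠ e₁ := by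
    intro h
    apply h12
    obtain ⟨k, hk⟩ := hq.odd_of_ne_two hq2
    have hper : ∀ i, (φb^[2 * i]) e₁ = e₁ := by
      intro i
      induction i with
      | zero => rfl
      | succ i ih =>
        rw [show 2 * (i + 1) = 2 * i + 2 by ring, Function.iterate_add_apply, show (φb^[2]) e₁ = e₁ from h, ih]
    have := hφq e₁
    rw [hk, show 2 * k + 1 = (2 * k).succ from rfl, Function.iterate_succ_apply', hper] at this
    exact this
  have he1 : e₁ ≠ 1 := fun h => h12 (by rw [show e₂ = φb e₁ from rfl, h, map_one])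
  have he2 : e₂ ≠ 1 := fun h => he1 (hφinj (h.trans (map_one φb).symm))
  have he3 : e₃ ≠ 1 := fun h => he2 (hφinj (h.trans (map_one φb).symm))
  have hall : ∀ x : P ⧸ D, x ≠ 1 → x = e₁ ∨ x = e₂ ∨ x = e₃ := by
    intro x hx
    by_contra hcon
    push Not at hcon
    haveI := Fintype.ofFinite (P ⧸ D)
    have hle := Finset.card_le_univ ({1, x, e₁, e₂, e₃} : Finset (P ⧸ D))
    rw [Finset.card_insert_of_notMem (by simp [hx.symm, he1.symm, he2.symm, he3.symm]),
      Finset.card_insert_of_notMem (by simp [hcon.1, hcon.2.1, hcon.2.2]),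
      Finset.card_insert_of_notMem (by simp [h12.symm, h13.symm]),
      Finset.card_insert_of_notMem (by simp [h23.symm]), Finset.card_singleton,
      ← Nat.card_eq_fintype_card, hcardQ] at hle
    omega
  set b := φ a with hb
  have hab : closure ({a, b} : Set P) = ⊤ := by
    refine hgen _ (eq_top_iff.2 fun g _ => ?_)
    obtain ⟨w, hw, hwg⟩ : ∃ w ∈ closure ({a, b} : Set P), QuotientGroup.mk' D w = QuotientGroup.mk' D g := by
      have ha' : a ∈ closure ({a, b} : Set P) := subset_closure (Set.mem_insert a _)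
      have hb' : b ∈ closure ({a, b} : Set P) := subset_closure (Set.mem_insert_of_mem a rfl)
      by_cases h1 : QuotientGroup.mk' D g = 1
      · exact ⟨1, one_mem _, by rw [h1, map_one]⟩
      have h3 : e₁ * e₂ = e₃ := by
        rcases hall (e₁ * e₂) (fun h => h12 (by
          rw [mul_eq_one_iff_eq_inv] at h
          have := hsq e₂
          rw [pow_two, mul_eq_one_iff_eq_inv] at this
          rw [h, ← this])) with h | h | h
        · exact absurd (mul_eq_left.1 h) he2
        · exact absurd (mul_eq_right.1 h) he1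
        · exact h
      rcases hall _ h1 with h | h | h
      · exact ⟨a, ha', h.symm⟩
      · exact ⟨b, hb', h.symm⟩
      · exact ⟨a * b, mul_mem ha' hb', by rw [map_mul, h, ← h3]; rfl⟩
    have : g = w * (w⁻¹ * g) := by group
    rw [this]
    exact mul_mem (mem_sup_left hw) (mem_sup_right (QuotientGroup.eq.1 hwg))
  have hsqD : ∀ x : P, x ^ 2 ∈ D := fun x => by
    rw [← QuotientGroup.eq_one_iff]
    exact (map_pow (QuotientGroup.mk' D) x 2).trans (hsq _)
  -- modulo the next term of the lower central series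
  set L := ⁅D, (⊤ : Subgroup P)⁆ with hL
  haveI : L.Normal := commutator_normal D ⊤
  haveI hLc : L.Characteristic := inferInstance
  have hLD : L ≤ D := commutator_le_left D ⊤
  set π := QuotientGroup.mk' L
  have hDc : ∀ d ∈ D, ∀ g : P, π d * π g = π g * π d := by
    intro d hd g
    have h1 : π ⁅d, g⁆ = 1 := (QuotientGroup.eq_one_iff _).2 (commutator_mem_commutator hd (mem_top g))
    rw [commutatorElement_def, map_mul, map_mul, map_mul, map_inv, map_inv, mul_inv_eq_one, mul_inv_eq_iff_eq_mul] at h1
    exact h1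
  set c := a * b * a⁻¹ * b⁻¹ with hc
  have hcD : c ∈ D := by
    rw [hc, ← commutatorElement_def]; exact commutator_mem_commutator (mem_top _) (mem_top _)
  set Zc := zpowers (π c)
  haveI hZn : Zc.Normal := ⟨fun y hy g => by
    obtain ⟨i, rfl⟩ := mem_zpowers_iff.1 hy
    obtain ⟨g, rfl⟩ := QuotientGroup.mk'_surjective L g
    rw [← ((show Commute (π c) (π g) from hDc c hcD g).zpow_left i).eq, mul_inv_cancel_right]
    exact zpow_mem (mem_zpowers _) i⟩
  have hDZ : ∀ d ∈ D, π d ∈ Zc := by
    intro d hd
    let ψ : P →* (P ⧸ L) ⧸ Zc := (QuotientGroup.mk' Zc).comp π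
    have hcomm : ∀ s t : P, ψ s * ψ t = ψ t * ψ s := by
      have hba : ψ a * ψ b = ψ b * ψ a := by
        have h1 : ψ c = 1 := (QuotientGroup.eq_one_iff _).2 (mem_zpowers _)
        rw [hc, map_mul, map_mul, map_mul, map_inv, map_inv, mul_inv_eq_one, mul_inv_eq_iff_eq_mul] at h1
        exact h1
      have key : ∀ s : P, Commute (ψ s) (ψ a) ∧ Commute (ψ s) (ψ b) := by
        intro s
        have hs : s ∈ closure ({a, b} : Set P) := hab ▸ mem_top s
        induction hs using closure_induction with
        | mem x hx =>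
          rcases hx with rfl | rfl
          · exact ⟨Commute.refl _, hba⟩
          · exact ⟨hba.symm, Commute.refl _⟩
        | one => rw [map_one]; exact ⟨Commute.one_left _, Commute.one_left _⟩
        | mul x y _ _ hx hy => rw [map_mul]; exact ⟨hx.1.mul_left hy.1, hx.2.mul_left hy.2⟩
        | inv x _ hx => rw [map_inv]; exact ⟨hx.1.inv_left, hx.2.inv_left⟩
      intro s t
      have ht : t ∈ closure ({a, b} : Set P) := hab ▸ mem_top t
      show Commute (ψ s) (ψ t)
      induction ht using closure_induction with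
      | mem x hx => rcases hx with rfl | rfl; exacts [(key s).1, (key s).2]
      | one => rw [map_one]; exact Commute.one_right _
      | mul x y _ _ hx hy => rw [map_mul]; exact hx.mul_right hy
      | inv x _ hx => rw [map_inv]; exact hx.inv_right
    have hle : D ≤ ψ.ker := by
      rw [hD, _root_.commutator_def, commutator_le]
      intro s _ t _
      rw [MonoidHom.mem_ker, map_commutatorElement, commutatorElement_eq_one_iff_commute]
      exact hcomm s t
    exact (QuotientGroup.eq_one_iff (π d)).1 (hle hd)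
  have hc2 : π c ^ 2 = 1 := by
    have hca : Commute (π c) (π a) := hDc c hcD a
    have hab' : π a * π b * (π a)⁻¹ = π c * π b := by
      rw [hc, map_mul, map_mul, map_mul, map_inv, map_inv]; group
    have h1 : π a * (π a * π b * (π a)⁻¹) * (π a)⁻¹ = π c ^ 2 * π b := by
      rw [hab']
      calc π a * (π c * π b) * (π a)⁻¹ = (π a * π c) * π b * (π a)⁻¹ := by group
        _ = π c * (π a * π b * (π a)⁻¹) := by rw [← hca.eq]; group
        _ = π c ^ 2 * π b := by rw [hab', pow_two, mul_assoc]
    have h2 : π a * (π a * π b * (π a)⁻¹) * (π a)⁻¹ = π b := by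
      have hh : π (a ^ 2) * π b = π b * π (a ^ 2) := hDc _ (hsqD a) b
      rw [map_pow] at hh
      calc π a * (π a * π b * (π a)⁻¹) * (π a)⁻¹ = π a ^ 2 * π b * (π a ^ 2)⁻¹ := by rw [pow_two]; group
        _ = π b := by rw [hh, mul_inv_cancel_right]
    exact mul_eq_right.1 (h1.symm.trans h2)
  have hDexp : ∀ d ∈ D, π d ^ 2 = 1 := by
    intro d hd
    obtain ⟨i, hi⟩ := mem_zpowers_iff.1 (hDZ d hd)
    rw [← hi, ← zpow_natCast, ← zpow_mul, mul_comm, zpow_mul, zpow_natCast, hc2, one_zpow]
  have hcoset : ∀ x : P, ∀ d ∈ D, π (x * d) ^ 2 = π x ^ 2 := by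
    intro x d hd
    rw [map_mul, (show Commute (π x) (π d) from (hDc d hd x).symm).mul_pow, hDexp d hd, mul_one]
  let φL : P ⧸ L →* P ⧸ L := QuotientGroup.map L L φ.toMonoidHom
    (fun x hx => (Subgroup.characteristic_iff_map_le.1 hLc φ) (mem_map_of_mem _ hx))
  have hφL : ∀ x : P, φL (π x) = π (φ x) := fun _ => rfl
  have hDbot : ∀ E : Subgroup P, E ≤ ⁅E, (⊤ : Subgroup P)⁆ → E = ⊥ := by
    intro E hE
    obtain ⟨n, hn⟩ := _root_.nilpotent_iff_lowerCentralSeries.mp (inferInstance : Group.IsNilpotent P)
    have : ∀ i, E ≤ (⊤ : Subgroup P).lowerCentralSeries i := by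
      intro i
      induction i with
      | zero => exact le_top
      | succ i ih => exact hE.trans (commutator_mono ih le_rfl)
    exact le_bot_iff.1 ((this n).trans hn.le)
  have hDne : D ≠ ⊥ := fun h => hna ⟨⟨fun s t => by
    have h1 : ⁅s, t⁆ ∈ D := commutator_mem_commutator (mem_top s) (mem_top t)
    rw [h, mem_bot, commutatorElement_eq_one_iff_commute] at h1
    exact h1⟩⟩
  -- every square outside `D` is `c`
  have hsquare : ∀ x : P, x ∉ D → π x ^ 2 = π c := by
    have hne : π a ^ 2 ≠ 1 := by
      intro h0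
      have h0b : π b ^ 2 = 1 := by rw [hb, ← hφL, ← map_pow, h0, map_one]
      have h0c : π (φ b) ^ 2 = 1 := by rw [← hφL, ← map_pow, h0b, map_one]
      have hexp : ∀ x : P, π x ^ 2 = 1 := by
        intro x
        by_cases hx : x ∈ D
        · exact hDexp x hx
        have key : ∀ y : P, π y ^ 2 = 1 → QuotientGroup.mk' D y = QuotientGroup.mk' D x → π x ^ 2 = 1 := by
          intro y hy hyx
          rw [show x = y * (y⁻¹ * x) by group, hcoset y _ (QuotientGroup.eq.1 hyx), hy]
        rcases hall (QuotientGroup.mk' D x) (fun h => hx ((QuotientGroup.eq_one_iff x).1 h)) with h | h | h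
        · exact key a h0 h.symm
        · exact key b h0b h.symm
        · exact key (φ b) h0c h.symm
      have hDL : D ≤ L := by
        rw [hD, _root_.commutator_def, commutator_le]
        intro s _ t _
        rw [← QuotientGroup.eq_one_iff]
        have h1 := hexp (s * t)
        have h2 := hexp s
        have h3 := hexp t
        rw [map_mul] at h1
        change π ⁅s, t⁆ = 1
        rw [map_commutatorElement, commutatorElement_eq_one_iff_commute]
        show π s * π t = π t * π s
        rw [pow_two] at h1 h2 h3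
        calc π s * π t = π s * (π s * π t * (π s * π t)) * π t := by rw [h1, mul_one]
          _ = (π s * π s) * (π t * π s) * (π t * π t) := by group
          _ = π t * π s := by rw [h2, h3, one_mul, mul_one]
      exact hDne (hDbot D hDL)
    have hval : π a ^ 2 = π c := by
      obtain ⟨i, hi⟩ := mem_zpowers_iff.1 (show π a ^ 2 ∈ Zc by rw [← map_pow]; exact hDZ _ (hsqD a))
      rcases Int.even_or_odd' i with ⟨j, rfl | rfl⟩
      · rw [zpow_mul, show (2 : ℤ) = ((2 : ℕ) : ℤ) from rfl, zpow_natCast, hc2, one_zpow] at hi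
        exact absurd hi.symm hne
      · rw [zpow_add, zpow_one, zpow_mul, show (2 : ℤ) = ((2 : ℕ) : ℤ) from rfl, zpow_natCast, hc2, one_zpow, one_mul] at hi
        exact hi.symm
    have hφc : ∀ y : P, π y ^ 2 = π c → π (φ y) ^ 2 = π c := by
      intro y hy
      obtain ⟨i, hi⟩ := mem_zpowers_iff.1 (show π (φ y) ^ 2 ∈ Zc by rw [← map_pow]; exact hDZ _ (hsqD _))
      rcases Int.even_or_odd' i with ⟨j, rfl | rfl⟩
      · rw [zpow_mul, show (2 : ℤ) = ((2 : ℕ) : ℤ) from rfl, zpow_natCast, hc2, one_zpow] at hi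
        exfalso
        apply hne
        have hinj : Function.Injective φL := by
          intro s t hst
          obtain ⟨s, rfl⟩ := QuotientGroup.mk'_surjective L s
          obtain ⟨t, rfl⟩ := QuotientGroup.mk'_surjective L t
          rw [hφL, hφL] at hst
          have h1 : φ (s⁻¹ * t) ∈ L := by rw [map_mul, map_inv]; exact QuotientGroup.eq.1 hst
          refine QuotientGroup.eq.2 ?_
          have := (Subgroup.characteristic_iff_map_le.1 hLc φ⁻¹) (mem_map_of_mem (φ⁻¹ : MulAut P).toMonoidHom h1)
          simpa using this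
        have h1 : φL (π y ^ 2) = φL 1 := by rw [map_pow, hφL, map_one, ← hi]
        rw [hval, ← hy]
        exact hinj h1
      · rw [zpow_add, zpow_one, zpow_mul, show (2 : ℤ) = ((2 : ℕ) : ℤ) from rfl, zpow_natCast, hc2, one_zpow, one_mul] at hi
        exact hi.symm
    intro x hx
    have key : ∀ y : P, π y ^ 2 = π c → QuotientGroup.mk' D y = QuotientGroup.mk' D x → π x ^ 2 = π c := by
      intro y hy hyx
      rw [show x = y * (y⁻¹ * x) by group, hcoset y _ (QuotientGroup.eq.1 hyx), hy]
    rcases hall (QuotientGroup.mk' D x) (fun h => hx ((QuotientGroup.eq_one_iff x).1 h)) with h | h | h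
    · exact key a hval h.symm
    · exact key b (hφc a hval) h.symm
    · exact key (φ b) (hφc b (hφc a hval)) h.symm
  -- the series stops
  have hL0 : L = ⊥ := by
    refine hDbot L ?_
    set L2 := ⁅L, (⊤ : Subgroup P)⁆
    haveI : L2.Normal := commutator_normal L ⊤
    let C := (center (P ⧸ L2)).comap (QuotientGroup.mk' L2)
    have hLC : L ≤ C := fun l hl => mem_center_iff.2 fun g => by
      obtain ⟨g, rfl⟩ := QuotientGroup.mk'_surjective L2 g
      have h1 : QuotientGroup.mk' L2 ⁅l, g⁆ = 1 := (QuotientGroup.eq_one_iff _).2 (commutator_mem_commutator hl (mem_top g))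
      rw [map_commutatorElement, commutatorElement_eq_one_iff_commute] at h1
      exact h1.eq.symm
    have hcC : c ∈ C := by
      have key : ∀ x : P, x ∉ D → Commute (QuotientGroup.mk' L2 c) (QuotientGroup.mk' L2 x) := by
        intro x hx
        have hl : (x ^ 2)⁻¹ * c ∈ L := QuotientGroup.eq.1 ((map_pow π x 2).trans (hsquare x hx))
        rw [show c = x ^ 2 * ((x ^ 2)⁻¹ * c) by group, map_mul, map_pow]
        exact ((Commute.refl _).pow_left 2).mul_left (mem_center_iff.1 (hLC hl) _).symm
      refine mem_center_iff.2 fun g => ?_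
      obtain ⟨g, rfl⟩ := QuotientGroup.mk'_surjective L2 g
      have hg : g ∈ closure ({a, b} : Set P) := hab ▸ mem_top g
      show Commute (QuotientGroup.mk' L2 g) (QuotientGroup.mk' L2 c)
      induction hg using closure_induction with
      | mem x hx =>
        rcases hx with rfl | rfl
        · exact (key _ fun h => he1 ((QuotientGroup.eq_one_iff _).2 h)).symm
        · exact (key _ fun h => he2 ((QuotientGroup.eq_one_iff _).2 h)).symm
      | one => rw [map_one]; exact Commute.one_left _
      | mul x y _ _ hx hy => rw [map_mul]; exact hx.mul_left hy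
      | inv x _ hx => rw [map_inv]; exact hx.inv_left
    rw [hL, commutator_le]
    intro d hd g _
    have hdC : d ∈ C := by
      obtain ⟨i, hi⟩ := mem_zpowers_iff.1 (hDZ d hd)
      have hl : (c ^ i)⁻¹ * d ∈ L := QuotientGroup.eq.1 ((map_zpow π c i).trans hi)
      rw [show d = c ^ i * ((c ^ i)⁻¹ * d) by group]
      exact mul_mem (zpow_mem hcC i) (hLC hl)
    rw [← QuotientGroup.eq_one_iff]
    change QuotientGroup.mk' L2 ⁅d, g⁆ = 1
    rw [map_commutatorElement, commutatorElement_eq_one_iff_commute]
    exact (mem_center_iff.1 hdC _).symm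
  have hπ : Function.Injective π := by
    rw [← MonoidHom.ker_eq_bot_iff, QuotientGroup.ker_mk', hL0]
  have hcsq : ∀ x : P, x ∉ D → x ^ 2 = c := fun x hx => hπ ((map_pow π x 2).trans (hsquare x hx))
  have hc1 : c ≠ 1 := fun h => hDne ((Subgroup.eq_bot_iff_forall _).2 fun d hd => hπ (by
    obtain ⟨i, hi⟩ := mem_zpowers_iff.1 (hDZ d hd)
    rw [← hi, h, map_one, one_zpow]))
  have hDcard : D = zpowers c := by
    refine le_antisymm (fun d hd => ?_) (zpowers_le.2 hcD)
    obtain ⟨i, hi⟩ := mem_zpowers_iff.1 (hDZ d hd)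
    exact mem_zpowers_iff.2 ⟨i, hπ ((map_zpow π c i).trans hi)⟩
  have hoc : orderOf c = 2 := orderOf_eq_prime (hπ ((map_pow π c 2).trans (hc2.trans (map_one π).symm))) hc1
  have hcard : Nat.card P = 8 := by
    rw [← D.index_mul_card, h4, hDcard, Nat.card_zpowers, hoc]
  have huniq : ∀ H K : Subgroup P, Nat.card H = 2 → Nat.card K = 2 → H = K := by
    have key : ∀ H : Subgroup P, Nat.card H = 2 → H = zpowers c := by
      intro H hH
      obtain ⟨h, hh⟩ := exists_prime_orderOf_dvd_card' (G := H) 2 (by rw [hH])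
      have hhD : (h : P) ∈ D := by
        by_contra hnD
        apply hc1
        rw [← hcsq _ hnD, ← hh, ← Subgroup.orderOf_coe, pow_orderOf_eq_one]
      have h1 : zpowers (h : P) = H := eq_of_le_of_card_ge (zpowers_le.2 h.2) (by
        rw [Nat.card_zpowers, Subgroup.orderOf_coe, hh, hH])
      rw [← h1]
      exact eq_of_le_of_card_ge (zpowers_le.2 (hDcard ▸ hhD)) (by
        rw [Nat.card_zpowers, Nat.card_zpowers, Subgroup.orderOf_coe, hh, hoc])
    intro H K hH hK
    rw [key H hH, key K hK]
  rcases CfsgLib.Core.UniqueOrderP.isCyclic_or_quaternion_of_unique hP huniq with hcyc | ⟨-, n, ⟨e⟩⟩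
  · exfalso
    letI := IsCyclic.commGroup (α := P)
    exact hna ⟨⟨mul_comm⟩⟩
  · have hn : 4 * 2 ^ n = 8 := by
      have h1 := Nat.card_congr e.toEquiv
      rw [hcard, Nat.card_eq_fintype_card, QuaternionGroup.card] at h1
      omega
    have h2 : 2 ^ n = 2 := by omega
    rw [h2] at e
    exact ⟨e⟩

/-- Let P be a finite non-abelian 2-group whose commutator subgroup has index 4 and whose automorphism group is not a 2-group (some automorphism has order that is not a power of 2). Then P is isomorphic to the quaternion group of order 8. -/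
theorem result {P : Type*} [Group P] [Finite P] (hP : IsPGroup 2 P) (hna : ¬ IsMulCommutative P) (h4 : (commutator P).index = 4) (haut : ¬ IsPGroup 2 (MulAut P)) : Nonempty (P ≃* QuaternionGroup 2) := by
  exact main hP hna h4 haut

end Cfsg.Agent.S4189
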