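import Cfsg.Statements.S4194
import Cfsg.Agent.Lib.HallGen.OddClassTwo

set_option autoImplicit false
open Cfsg

namespace Cfsg.Agent.S4194

/-- A finite group G has commutative Sylow 2-subgroups if and only if every 2-element of G (element of order a power of 2) is 2-central, that is, its centralizer contains a Sylow 2-subgroup of G. -/
theorem result {G : Type*} [Group G] [Finite G] (P : Sylow 2 G) :
    IsMulCommutative (P : Subgroup G) ↔ ∀ x : G, (∃ k : ℕ, orderOf x = 2 ^ k) → (∃ Q : Sylow 2 G, (Q : Subgroup G) ≤ Subgroup.centralizer ({x} : Set G)) := by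
  constructor
  · intro hP x hx
    obtain ⟨k, hk⟩ := hx
    have hz : IsPGroup 2 (Subgroup.zpowers x) := IsPGroup.of_card ((Nat.card_zpowers x).trans hk)
    obtain ⟨R, hR⟩ := hz.exists_le_sylow
    obtain ⟨g, rfl⟩ := MulAction.exists_smul_eq G P R
    refine ⟨g • P, fun y hy => Subgroup.mem_centralizer_singleton_iff.2 ?_⟩
    haveI : IsMulCommutative ((g • P : Sylow 2 G) : Subgroup G) := by
      haveI := hP
      exact IsMulCommutative.of_comm fun a b => (Sylow.equiv P (g • P)).symm.injective (by simp [mul_comm'])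
    exact congrArg Subtype.val (mul_comm' (⟨y, hy⟩ : ((g • P : Sylow 2 G) : Subgroup G)) ⟨x, hR (Subgroup.mem_zpowers x)⟩)
  · intro h
    refine CfsgLib.HallGen.OddClassTwo.isMulCommutative (fun x hx hd => ?_) P
    obtain ⟨Q, hQ⟩ := h x hx
    exact Q.not_dvd_index (hd.trans (Subgroup.index_dvd_of_le hQ))
end Cfsg.Agent.S4194
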