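import Cfsg.Statements.S4195


set_option autoImplicit false
open Cfsg

namespace Cfsg.Agent.S4195

/-- Let x be a non-identity element of a finite group G whose centralizer contains a Sylow 2-subgroup of G. If x is conjugate to its inverse, then x has order 2. -/
theorem result {G : Type*} [Group G] [Finite G] (x : G) (hx : x ≠ 1) (P : Sylow 2 G) (hP : (P : Subgroup G) ≤ Subgroup.centralizer ({x} : Set G)) (hreal : IsConj x x⁻¹) : orderOf x = 2 := by
  obtain ⟨g, hg⟩ := isConj_iff.1 hreal
  obtain ⟨k, m, hm, hkm⟩ := Nat.exists_eq_two_pow_mul_odd (orderOf_pos g).ne'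
  have hg' : g * x⁻¹ * g⁻¹ = x := by
    calc g * x⁻¹ * g⁻¹ = (g * x * g⁻¹)⁻¹ := by group
      _ = x := by rw [hg, inv_inv]
  have hpows : ∀ n : ℕ, g ^ n * x * (g ^ n)⁻¹ = if Even n then x else x⁻¹ := by
    intro n
    induction n with
    | zero => simp
    | succ n ih =>
      rw [show g ^ (n + 1) * x * (g ^ (n + 1))⁻¹ = g * (g ^ n * x * (g ^ n)⁻¹) * g⁻¹ by
        rw [pow_succ']; group, ih]
      by_cases hn : Even n
      · simp [hn, Nat.even_add_one, hg]
      · simp [hn, Nat.even_add_one, hg']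
  set s := g ^ m with hs
  have hsx : s * x * s⁻¹ = x⁻¹ := by
    rw [hs, hpows, if_neg (Nat.not_even_iff_odd.2 hm)]
  have hsx' : s * x⁻¹ * s⁻¹ = x := by
    calc s * x⁻¹ * s⁻¹ = (s * x * s⁻¹)⁻¹ := by group
      _ = x := by rw [hsx, inv_inv]
  set C := Subgroup.centralizer ({x} : Set G) with hC
  have hsN : s ∈ Subgroup.normalizer (C : Set G) := by
    rw [Subgroup.mem_normalizer_iff]
    intro c
    simp only [hC, Subgroup.mem_centralizer_singleton_iff]
    constructor
    · intro (hc : Commute c x)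
      have h := hc.inv_right.map (MulAut.conj s).toMonoidHom
      simp only [MulEquiv.coe_toMonoidHom, MulAut.conj_apply, hsx'] at h
      exact h
    · intro (hc : Commute (s * c * s⁻¹) x)
      have h := hc.inv_right.map (MulAut.conj s⁻¹).toMonoidHom
      simp only [MulEquiv.coe_toMonoidHom, MulAut.conj_apply, ← hsx] at h
      have : Commute c x := by simpa [mul_assoc] using h
      exact this
  set D := C ⊔ Subgroup.zpowers s with hD
  have hDN : D ≤ Subgroup.normalizer (C : Set G) :=
    sup_le Subgroup.le_normalizer (Subgroup.zpowers_le.2 hsN)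
  have hCD : (C.subgroupOf D).Normal :=
    (Subgroup.normal_subgroupOf_iff_le_normalizer le_sup_left).2 hDN
  have hsD : s ∈ D := le_sup_right (a := C) (Subgroup.mem_zpowers s)
  let sb : D ⧸ C.subgroupOf D := QuotientGroup.mk' _ ⟨s, hsD⟩
  have h2 : ¬ 2 ∣ Nat.card (D ⧸ C.subgroupOf D) := by
    intro h
    apply P.not_dvd_index
    have h' : 2 ∣ C.index := h.trans (Subgroup.relIndex_dvd_index_of_le le_sup_left)
    exact h'.trans (Subgroup.index_dvd_of_le hP)
  have hsb : orderOf sb ∣ 2 ^ k := by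
    rw [orderOf_dvd_iff_pow_eq_one]
    have : s ^ 2 ^ k = 1 := by rw [hs, ← pow_mul, mul_comm, ← hkm, pow_orderOf_eq_one]
    rw [← map_pow, show ((⟨s, hsD⟩ : D) ^ 2 ^ k) = 1 from Subtype.ext this, map_one]
  have hsb1 : sb = 1 := by
    rw [← orderOf_eq_one_iff]
    obtain ⟨i, -, hi⟩ := (Nat.dvd_prime_pow Nat.prime_two).1 hsb
    rcases Nat.eq_zero_or_pos i with rfl | hip
    · simpa using hi
    · exfalso
      exact h2 (((dvd_pow_self 2 hip.ne').trans hi.symm.dvd).trans (orderOf_dvd_natCard sb))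
  have hsC : s * x = x * s := by
    have := (QuotientGroup.eq_one_iff _).1 hsb1
    rwa [Subgroup.mem_subgroupOf, hC, Subgroup.mem_centralizer_singleton_iff] at this
  rw [show s * x * s⁻¹ = x by rw [hsC]; group] at hsx
  have : x ^ 2 = 1 := by rw [pow_two]; nth_rw 1 [hsx]; group
  exact orderOf_eq_prime this hx

end Cfsg.Agent.S4195
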