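import Cfsg.Statements.S4196
import Cfsg.Agent.S4195

set_option autoImplicit false
open Cfsg

namespace Cfsg.Agent.S4196

/-- A finite group G has elementary abelian Sylow 2-subgroups (commutative with every element squaring to the identity) if and only if every 2-element of G has a Sylow 2-subgroup in its centralizer and is conjugate to its inverse. -/
theorem result {G : Type*} [Group G] [Finite G] (P : Sylow 2 G) :
    (IsMulCommutative (P : Subgroup G) ∧ ∀ x ∈ (P : Subgroup G), x ^ 2 = 1) ↔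
      ∀ x : G, (∃ k : ℕ, orderOf x = 2 ^ k) → (∃ Q : Sylow 2 G, (Q : Subgroup G) ≤ Subgroup.centralizer ({x} : Set G)) ∧ IsConj x x⁻¹ := by
  constructor
  · rintro ⟨hc, h2⟩ x ⟨k, hk⟩
    obtain ⟨R, hR⟩ := (IsPGroup.of_card (n := k) (by rw [Nat.card_zpowers]; exact hk) : IsPGroup 2 (Subgroup.zpowers x)).exists_le_sylow
    obtain ⟨g, rfl⟩ := MulAction.exists_smul_eq G P R
    have hx : x ∈ ((g • P : Sylow 2 G) : Subgroup G) := hR (Subgroup.mem_zpowers x)
    rw [Sylow.smul_def, Sylow.pointwise_smul_def, Subgroup.mem_pointwise_smul_iff_inv_smul_mem, ← map_inv, MulAut.smul_def, MulAut.conj_apply, inv_inv] at hx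
    refine ⟨⟨g • P, ?_⟩, ?_⟩
    · intro y hy
      rw [Sylow.smul_def, Sylow.pointwise_smul_def, Subgroup.mem_pointwise_smul_iff_inv_smul_mem, ← map_inv, MulAut.smul_def, MulAut.conj_apply, inv_inv] at hy
      rw [Subgroup.mem_centralizer_singleton_iff]
      have := congrArg (fun z : (P : Subgroup G) => g * z * g⁻¹) (hc.is_comm.comm ⟨_, hy⟩ ⟨_, hx⟩)
      simpa [mul_assoc] using this
    · have hx2 : x ^ 2 = 1 := by
        have := congrArg (fun z => g * z * g⁻¹) (h2 _ hx)
        simpa [mul_assoc, pow_two] using this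
      rw [inv_eq_of_mul_eq_one_right (by rwa [← pow_two])]
  · intro h
    have h2 : ∀ x ∈ (P : Subgroup G), x ^ 2 = 1 := by
      intro x hx
      rcases eq_or_ne x 1 with rfl | hne
      · simp
      obtain ⟨k, hk⟩ := (IsPGroup.iff_orderOf.1 P.isPGroup') ⟨x, hx⟩
      obtain ⟨⟨Q, hQ⟩, hreal⟩ := h x ⟨k, by rw [← hk, Subgroup.orderOf_mk]⟩
      exact Cfsg.Agent.S4195.result x hne Q hQ hreal ▸ pow_orderOf_eq_one x
    refine ⟨⟨⟨fun a b => Subtype.ext ?_⟩⟩, h2⟩
    have ha := h2 _ a.2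
    have hb := h2 _ b.2
    have hab := h2 _ (mul_mem a.2 b.2)
    rw [pow_two] at ha hb hab
    calc (a : G) * b = ((a : G) * b)⁻¹ := (inv_eq_of_mul_eq_one_right hab).symm
      _ = b * a := by rw [mul_inv_rev, inv_eq_of_mul_eq_one_right ha, inv_eq_of_mul_eq_one_right hb]

end Cfsg.Agent.S4196
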