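import Cfsg.Statements.S4203
import Cfsg.Agent.Lib.Char.Burnside
import Cfsg.Agent.Lib.HallGen.SylowNumber

set_option autoImplicit false
open Cfsg

namespace Cfsg.Agent.S4203

theorem aux.{w} : ∀ (n : ℕ) (G : Type w) [Group G] [Finite G], Nat.card G = n →
    (∀ M : Subgroup G, IsCoatom M → ∃ p : ℕ, p.Prime ∧ (M.index = p ∨ M.index = p ^ 2)) →
    Group.IsSolvable G := by
  intro n
  induction n using Nat.strong_induction_on with
  | _ n ih =>
    intro G _ _ hn h
    subst hn
    rcases subsingleton_or_nontrivial G with hs | hs
    · exact Group.isSolvable_of_top_eq_bot _ (Subsingleton.elim _ _)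
    have hne : (Nat.card G).primeFactors.Nonempty := Nat.nonempty_primeFactors.2 Finite.one_lt_card
    set p := (Nat.card G).primeFactors.max' hne
    have hpm := Finset.max'_mem _ hne
    have hmax : ∀ r, r.Prime → r ∣ Nat.card G → r ≤ p := fun r hr hrd =>
      Finset.le_max' _ _ (Nat.mem_primeFactors.2 ⟨hr, hrd, Nat.card_pos.ne'⟩)
    obtain ⟨hp, hpd, -⟩ := Nat.mem_primeFactors.1 hpm
    haveI : Fact p.Prime := ⟨hp⟩
    obtain ⟨P⟩ : Nonempty (Sylow p G) := inferInstance
    by_cases htop : Subgroup.normalizer ((P : Subgroup G) : Set G) = ⊤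
    · haveI : (P : Subgroup G).Normal := Subgroup.normalizer_eq_top_iff.1 htop
      have hPne : (P : Subgroup G) ≠ ⊥ := P.ne_bot_of_dvd_card hpd
      haveI : Group.IsSolvable (G ⧸ (P : Subgroup G)) := by
        refine ih _ (CfsgLib.Core.card_quotient_lt _ hPne) _ rfl fun M hM => ?_
        have h1 := h (M.comap (QuotientGroup.mk' (P : Subgroup G)))
          (Subgroup.isCoatom_comap_of_surjective (QuotientGroup.mk'_surjective _) hM)
        rwa [Subgroup.index_comap_of_surjective _ (QuotientGroup.mk'_surjective _)] at h1
      haveI : Group.IsSolvable (P : Subgroup G) := by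
        haveI := P.2.isNilpotent
        infer_instance
      exact Group.isSolvable_of_ker_le_range (P : Subgroup G).subtype (QuotientGroup.mk' (P : Subgroup G)) (by rw [QuotientGroup.ker_mk', Subgroup.range_subtype])
    obtain ⟨M, hM, hNM⟩ := ((eq_top_or_exists_le_coatom
      (Subgroup.normalizer ((P : Subgroup G) : Set G))).resolve_left htop)
    have h1 : M.index % p = 1 := by
      have e1 := CfsgLib.HallGen.card_sylow_eq_relIndex_normalizer P M (Subgroup.le_normalizer.trans hNM)
      have e2 : Nat.card (Sylow p M) * M.index = Nat.card (Sylow p G) := by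
        rw [e1, P.card_eq_index_normalizer]
        exact Subgroup.relIndex_mul_index hNM
      have e3 := (card_sylow_modEq_one p M).mul_right M.index
      rw [e2, one_mul] at e3
      have e4 : M.index ≡ 1 [MOD p] := e3.symm.trans (card_sylow_modEq_one p G)
      rw [Nat.ModEq, Nat.mod_eq_of_lt hp.one_lt] at e4
      exact e4
    obtain ⟨r, hr, hri⟩ := h M hM
    have hrd : r ∣ Nat.card G := by
      refine dvd_trans ?_ M.index_dvd_card
      rcases hri with e | e <;> rw [e]
      exact dvd_pow_self r two_ne_zero
    have hrp := hmax r hr hrd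
    have hrp' : r < p := by
      refine lt_of_le_of_ne hrp fun e => ?_
      subst e
      rcases hri with e | e <;> rw [e] at h1 <;> simp [Nat.pow_mod] at h1
    have hpr : p = r + 1 := by
      rcases hri with e | e <;> rw [e] at h1
      · rw [Nat.mod_eq_of_lt hrp'] at h1
        exact absurd h1 hr.one_lt.ne'
      · have h2 : p ∣ (r - 1) * (r + 1) := by
          have h3 : p ∣ r ^ 2 - 1 := (Nat.modEq_iff_dvd' (Nat.one_le_pow _ _ hr.pos)).1
            (show 1 ≡ r ^ 2 [MOD p] from (Nat.mod_eq_of_lt hp.one_lt).trans h1.symm)
          have h4 : r ^ 2 - 1 = (r - 1) * (r + 1) := by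
            have := hr.one_lt
            rw [mul_comm, ← Nat.sq_sub_sq, one_pow]
          rwa [h4] at h3
        rcases hp.dvd_mul.1 h2 with h5 | h5
        · have := hr.one_lt
          have := Nat.le_of_dvd (by omega) h5
          omega
        · have := Nat.le_of_dvd (by omega) h5
          omega
    have hp3 : p = 3 := by
      rcases hp.eq_two_or_odd' with e | e
      · have := hr.one_lt; omega
      · rcases hr.eq_two_or_odd' with e' | e'
        · omega
        · obtain ⟨a, ha⟩ := e; obtain ⟨b, hb⟩ := e'; omega
    refine CfsgLib.Burnside.isSolvable_of_card_eq Nat.prime_two Nat.prime_three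
      (a := (Nat.card G).factorization 2) (b := (Nat.card G).factorization 3) ?_
    refine (Nat.eq_of_factorization_eq (Nat.card_pos.ne') (by positivity) fun q => ?_)
    rw [Nat.factorization_mul (by positivity) (by positivity), Nat.prime_two.factorization_pow,
      Nat.prime_three.factorization_pow, Finsupp.add_apply, Finsupp.single_apply, Finsupp.single_apply]
    by_cases hq : q.Prime ∧ q ∣ Nat.card G
    · have h6 := hmax q hq.1 hq.2
      rw [hp3] at h6
      have := hq.1.two_le
      interval_cases q <;> simp
    · have h0 : (Nat.card G).factorization q = 0 := by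
        rw [Nat.factorization_eq_zero_iff]
        tauto
      split_ifs with h2 h3 h3 <;> simp_all

/-- A finite group in which every maximal subgroup has index a prime or the square of a prime is solvable. -/
theorem result {G : Type*} [Group G] [Finite G] (h : ∀ M : Subgroup G, IsCoatom M → ∃ p : ℕ, p.Prime ∧ (M.index = p ∨ M.index = p ^ 2)) : Group.IsSolvable G := by
  exact aux _ G rfl h

end Cfsg.Agent.S4203
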