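import Cfsg.Statements.S4204


set_option autoImplicit false
open Cfsg

namespace Cfsg.Agent.S4204

/-- `{x | [x, Y] ≤ N}` as a subgroup. -/
def modCent {G : Type*} [Group G] (N : Subgroup G) [N.Normal] (Y : Subgroup G) : Subgroup G :=
  (Subgroup.centralizer ((Y.map (QuotientGroup.mk' N) : Subgroup (G ⧸ N)) : Set (G ⧸ N))).comap (QuotientGroup.mk' N)

theorem le_modCent_iff {G : Type*} [Group G] (N : Subgroup G) [N.Normal] (X Y : Subgroup G) :
    X ≤ modCent N Y ↔ ⁅X, Y⁆ ≤ N := by
  rw [modCent, ← Subgroup.map_le_iff_le_comap, ← Subgroup.commutator_eq_bot_iff_le_centralizer,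
    ← Subgroup.map_commutator, Subgroup.map_eq_bot_iff, QuotientGroup.ker_mk']

/-- If `H` and `K` are normal subgroups of a finite group with `H` nilpotent of class at most `c` and `K` nilpotent of class at most `d` (the terms with index `c`, respectively `d`, of their lower central series are trivial, indices starting at `0`), then `HK` is nilpotent of class at most `c + d`. -/
theorem result {G : Type*} [Group G] [Finite G] (H K : Subgroup G) [H.Normal] [K.Normal] (c d : ℕ) (hH : H.lowerCentralSeries c = ⊥) (hK : K.lowerCentralSeries d = ⊥) : (H ⊔ K).lowerCentralSeries (c + d) = ⊥ := by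
  let A : ℕ → Subgroup G := fun i => Nat.casesOn i ⊤ (fun k => H.lowerCentralSeries k)
  let B : ℕ → Subgroup G := fun i => Nat.casesOn i ⊤ (fun k => K.lowerCentralSeries k)
  have hA0 : A 0 = ⊤ := rfl
  have hAs : ∀ k, A (k + 1) = H.lowerCentralSeries k := fun _ => rfl
  have hB0 : B 0 = ⊤ := rfl
  have hBs : ∀ k, B (k + 1) = K.lowerCentralSeries k := fun _ => rfl
  have hn : ∀ (L : Subgroup G) [L.Normal] (k : ℕ), (L.lowerCentralSeries k).Normal := by
    intro L _ k
    induction k with
    | zero => assumption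
    | succ k ih => rw [Subgroup.lowerCentralSeries_succ]; exact Subgroup.commutator_normal _ _
  have hAn : ∀ i, (A i).Normal := fun i => by cases i with
    | zero => rw [hA0]; infer_instance
    | succ k => rw [hAs]; exact hn H k
  have hBn : ∀ i, (B i).Normal := fun i => by cases i with
    | zero => rw [hB0]; infer_instance
    | succ k => rw [hBs]; exact hn K k
  have hAstep : ∀ i, ⁅A i, H⁆ ≤ A (i + 1) := fun i => by cases i with
    | zero => rw [hAs, Subgroup.lowerCentralSeries_zero]; exact Subgroup.commutator_le_right _ _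
    | succ k => rw [hAs, hAs, Subgroup.lowerCentralSeries_succ]
  have hBstep : ∀ i, ⁅B i, K⁆ ≤ B (i + 1) := fun i => by cases i with
    | zero => rw [hBs, Subgroup.lowerCentralSeries_zero]; exact Subgroup.commutator_le_right _ _
    | succ k => rw [hBs, hBs, Subgroup.lowerCentralSeries_succ]
  let T : ℕ → Subgroup G := fun n => ⨆ (i : ℕ) (_ : i ≤ n), A i ⊓ B (n - i)
  have hTn : ∀ n, (T n).Normal := fun n =>
    ⟨fun x hx g => by
      have : (T n).map (MulAut.conj g).toMonoidHom ≤ T n := by
        simp only [T, Subgroup.map_iSup]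
        refine iSup_mono fun i => iSup_mono fun _ => ?_
        rintro _ ⟨y, hy, rfl⟩
        exact ⟨(hAn i).conj_mem y hy.1 g, (hBn _).conj_mem y hy.2 g⟩
      exact this ⟨x, hx, rfl⟩⟩
  have hle : ∀ n i, i ≤ n → A i ⊓ B (n - i) ≤ T n := fun n i hi => le_iSup₂_of_le i hi le_rfl
  have hstep : ∀ n, ⁅T n, H ⊔ K⁆ ≤ T (n + 1) := by
    intro n
    have := hTn (n + 1)
    rw [← le_modCent_iff]
    refine iSup₂_le fun i hi => ?_
    rw [le_modCent_iff, Subgroup.commutator_comm, ← le_modCent_iff]
    have := hAn i
    have := hBn (n - i)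
    refine sup_le ?_ ?_ <;> rw [le_modCent_iff, Subgroup.commutator_comm]
    · have h1 : ⁅A i ⊓ B (n - i), H⁆ ≤ A (i + 1) :=
        (Subgroup.commutator_mono inf_le_left le_rfl).trans (hAstep i)
      have h2 : ⁅A i ⊓ B (n - i), H⁆ ≤ B (n - i) :=
        (Subgroup.commutator_mono inf_le_right le_rfl).trans (@Subgroup.commutator_le_left _ _ _ _ (hBn (n - i)))
      refine (le_inf h1 h2).trans ((le_of_eq ?_).trans (hle (n + 1) (i + 1) (by omega)))
      rw [show n + 1 - (i + 1) = n - i by omega]
    · have h1 : ⁅A i ⊓ B (n - i), K⁆ ≤ A i :=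
        (Subgroup.commutator_mono inf_le_left le_rfl).trans (@Subgroup.commutator_le_left _ _ _ _ (hAn i))
      have h2 : ⁅A i ⊓ B (n - i), K⁆ ≤ B (n - i + 1) :=
        (Subgroup.commutator_mono inf_le_right le_rfl).trans (hBstep _)
      refine (le_inf h1 h2).trans ((le_of_eq ?_).trans (hle (n + 1) i (by omega)))
      rw [show n + 1 - i = n - i + 1 by omega]
  have hmain : ∀ m, (H ⊔ K).lowerCentralSeries m ≤ T (m + 1) := by
    intro m
    induction m with
    | zero =>
      rw [Subgroup.lowerCentralSeries_zero]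
      refine sup_le (le_trans ?_ (hle 1 1 le_rfl)) (le_trans ?_ (hle 1 0 zero_le_one))
      · exact le_inf le_rfl le_top
      · exact le_inf le_top le_rfl
    | succ m ih =>
      rw [Subgroup.lowerCentralSeries_succ]
      exact (Subgroup.commutator_mono ih le_rfl).trans (hstep (m + 1))
  rw [eq_bot_iff]
  refine (hmain _).trans (iSup₂_le fun i hi => ?_)
  by_cases h : c < i
  · obtain ⟨k, rfl⟩ := Nat.exists_eq_add_of_le h
    rw [show c.succ + k = (c + k) + 1 by omega, hAs]
    exact inf_le_left.trans ((H.lowerCentralSeries_antitone (Nat.le_add_right c k)).trans hH.le)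
  · obtain ⟨k, hk⟩ := Nat.exists_eq_add_of_le (show d + 1 ≤ c + d + 1 - i by omega)
    rw [hk, show d + 1 + k = (d + k) + 1 by omega, hBs]
    exact inf_le_right.trans ((K.lowerCentralSeries_antitone (Nat.le_add_right d k)).trans hK.le)

end Cfsg.Agent.S4204
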