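import Cfsg.Statements.S4214
import Cfsg.Agent.Lib.Core.Hall
import Cfsg.Agent.Lib.Core.MinNormal

set_option autoImplicit false
open Cfsg

namespace Cfsg.Agent.S4214

open scoped Pointwise
open Subgroup

/-- A factor of the number of Hall subgroups. -/
def Good (G : Type*) [Group G] (m x : ℕ) : Prop :=
  (∃ q e : ℕ, q.Prime ∧ x = q ^ e) ∧
    (∃ K L : Subgroup G, K.Normal ∧ L.Normal ∧ K < L ∧
      (∀ M : Subgroup G, M.Normal → K ≤ M → M ≤ L → M = K ∨ M = L) ∧ x ∣ K.relIndex L) ∧
    (∃ q : ℕ, q.Prime ∧ q ∣ m ∧ x ≡ 1 [MOD q])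

/-- Subgroups of Hall order are counted by the index of a normalizer. -/
theorem count_eq {G : Type*} [Group G] [Finite G] [Group.IsSolvable G] {m n : ℕ}
    (hG : Nat.card G = m * n) (hmn : m.Coprime n) {H : Subgroup G} (hH : Nat.card H = m) :
    Nat.card {K : Subgroup G // Nat.card K = m} = (Subgroup.normalizer (H : Set G)).index := by
  have horb : MulAction.orbit (ConjAct G) H = {K : Subgroup G | Nat.card K = m} := by
    ext K
    constructor
    · rintro ⟨g, rfl⟩
      show Nat.card (g • H : Subgroup G) = m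
      rw [← hH]
      exact (Nat.card_congr (Subgroup.equivSMul g H).toEquiv).symm
    · intro hK
      obtain ⟨g, hg⟩ := CfsgLib.Core.exists_conj_eq_of_card_eq hG hmn hH hK
      exact ⟨ConjAct.toConjAct g, hg⟩
  have h1 : (MulAction.stabilizer (ConjAct G) H).index = (Subgroup.normalizer (H : Set G)).index := by
    have e : Subgroup.normalizer (H : Set G) =
        (MulAction.stabilizer (ConjAct G) H).comap (ConjAct.toConjAct (G := G)).toMonoidHom := by
      ext g
      rw [CfsgLib.Core.mem_normalizer_iff_conj_smul_eq]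
      rfl
    rw [e, Subgroup.index_comap_of_surjective _ (ConjAct.toConjAct (G := G)).surjective]
  rw [← h1, MulAction.index_stabilizer, horb]
  exact (Nat.card_coe_set_eq _)

theorem exists_normal_prime_index {G : Type*} [Group G] [Finite G] [Group.IsSolvable G] (H : Subgroup G)
    [Nontrivial H] : ∃ (M : Subgroup H), M.Normal ∧ ∃ q : ℕ, q.Prime ∧ M.index = q := by
  obtain ⟨M, hM, hcM⟩ := (eq_top_or_exists_le_coatom (commutator H)).resolve_left
    (Group.IsSolvable.commutator_lt_top_of_nontrivial H).ne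
  haveI hMn : M.Normal := ⟨fun x hx g => by
    have h1 := hcM (Subgroup.commutator_mem_commutator (mem_top g) (mem_top x))
    have := mul_mem h1 hx
    simpa [commutatorElement_def] using this⟩
  obtain ⟨q, hq, hqd⟩ := Nat.exists_prime_and_dvd (n := M.index) (mt index_eq_one.1 hM.1)
  haveI := Fact.mk hq
  refine ⟨M, hMn, q, hq, ?_⟩
  rw [index_eq_card] at hqd ⊢
  obtain ⟨x, hx⟩ := exists_prime_orderOf_dvd_card' q hqd
  have htop : (zpowers x).comap (QuotientGroup.mk' M) = ⊤ := by
    refine hM.2 _ (lt_of_le_of_ne (fun y hy => ?_) fun e => ?_)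
    · show QuotientGroup.mk' M y ∈ zpowers x
      rw [QuotientGroup.mk'_apply, (QuotientGroup.eq_one_iff y).2 hy]
      exact one_mem _
    · obtain ⟨y, rfl⟩ := QuotientGroup.mk'_surjective M x
      have hy : y ∈ M := e ▸ (show y ∈ (zpowers (QuotientGroup.mk' M y)).comap _ from mem_zpowers _)
      rw [QuotientGroup.mk'_apply, (QuotientGroup.eq_one_iff y).2 hy, orderOf_one] at hx
      exact hq.one_lt.ne hx
  have htop' : zpowers x = ⊤ := comap_injective (QuotientGroup.mk'_surjective M) (htop.trans (comap_top _).symm)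
  rw [← hx, ← Nat.card_zpowers, htop', card_top]

theorem exists_pElement_outside {G : Type*} [Group G] [Finite G] (H : Subgroup G) (M : Subgroup H)
    (hM : M.Normal) {q : ℕ} [Fact q.Prime] (hMi : M.index = q) :
    ∃ h : G, h ∈ H ∧ h ∉ M.map H.subtype ∧ ∃ j, orderOf h = q ^ j := by
  obtain ⟨P⟩ : Nonempty (Sylow q H) := inferInstance
  have hP : ¬ (P : Subgroup H) ≤ M := fun h => by
    have e := index_dvd_of_le h
    rw [hMi] at e
    exact P.not_dvd_index e
  obtain ⟨x, hx, hxM⟩ := SetLike.not_le_iff_exists.1 hP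
  obtain ⟨j, hj⟩ := IsPGroup.iff_orderOf.1 P.2 ⟨x, hx⟩
  refine ⟨x, x.2, ?_, j, ?_⟩
  · rintro ⟨y, hy, e⟩
    exact hxM (Subtype.ext e ▸ hy)
  · rw [← hj, Subgroup.orderOf_mk, Subgroup.orderOf_coe]

theorem sup_zpowers_eq {G : Type*} [Group G] [Finite G] {H M' : Subgroup G} (hM'H : M' ≤ H) {h : G}
    (hhH : h ∈ H) {q : ℕ} (hcard : Nat.card M' * q = Nat.card H) (hq : q.Prime) (hhM : h ∉ M') :
    M' ⊔ zpowers h = H := by
  have hle : M' ⊔ zpowers h ≤ H := sup_le hM'H (zpowers_le.2 hhH)
  refine eq_of_le_of_card_ge hle ?_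
  obtain ⟨a, ha⟩ := card_dvd_of_le (le_sup_left : M' ≤ M' ⊔ zpowers h)
  have hd := card_dvd_of_le hle
  rw [ha, ← hcard] at hd
  rcases hq.eq_one_or_self_of_dvd a (Nat.dvd_of_mul_dvd_mul_left Nat.card_pos hd) with e | e
  · exact absurd ((eq_of_le_of_card_ge (le_sup_left : M' ≤ M' ⊔ zpowers h) (by rw [ha, e, mul_one])).ge
      (mem_sup_right (mem_zpowers h))) hhM
  · rw [ha, e, hcard]

/-- The index of a centralizer in a normal abelian subgroup of coprime order. -/
theorem exists_list_index {G : Type*} [Group G] [Finite G] [Group.IsSolvable G] (N : Subgroup G) [N.Normal]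
    {r : ℕ} (hr : r.Prime) (hN : IsPGroup r N) : ∀ (k : ℕ) (H : Subgroup G), Nat.card H = k →
      (Nat.card H).Coprime (Nat.card N) →
      ∃ l : List ℕ, l.prod = (N ⊓ centralizer (H : Set G)).relIndex N ∧ ∀ x ∈ l,
        (∃ e, x = r ^ e) ∧ x ∣ Nat.card N ∧ ∃ q : ℕ, q.Prime ∧ q ∣ Nat.card H ∧ x ≡ 1 [MOD q] := by
  haveI := Fact.mk hr
  intro k
  induction k using Nat.strong_induction_on with
  | _ k ih =>
    intro H hk hcop
    subst hk
    by_cases hH : H = ⊥
    · refine ⟨[], ?_, by simp⟩
      have e : N ≤ centralizer (H : Set G) := fun x _ => mem_centralizer_iff.2 fun y hy => by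
        rw [hH] at hy
        simp [(mem_bot.1 hy : y = 1)]
      rw [inf_eq_left.2 e, relIndex_self, List.prod_nil]
    haveI : Nontrivial H := (nontrivial_iff_ne_bot H).2 hH
    obtain ⟨M, hM, q, hq, hMi⟩ := exists_normal_prime_index H
    haveI := Fact.mk hq
    set M' := M.map H.subtype with hM'
    have hM'H : M' ≤ H := map_subtype_le _
    have hcard : Nat.card M' * q = Nat.card H := by
      rw [hM', card_map_of_injective H.subtype_injective, ← hMi, card_mul_index]
    have hlt : Nat.card M' < Nat.card H := by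
      rw [← hcard]
      exact lt_mul_of_one_lt_right Nat.card_pos hq.one_lt
    obtain ⟨l, hl, hl'⟩ := ih _ hlt M' rfl (hcop.coprime_dvd_left (card_dvd_of_le hM'H))
    set C₁ := N ⊓ centralizer (M' : Set G) with hC₁
    set C₂ := N ⊓ centralizer (H : Set G) with hC₂
    have h21 : C₂ ≤ C₁ := inf_le_inf_left _ (centralizer_le hM'H)
    have hqH : q ∣ Nat.card H := ⟨_, (hcard.symm.trans (mul_comm _ _))⟩
    obtain ⟨h, hhH, hhM, j, hj⟩ := exists_pElement_outside H M hM hMi
    have hnormal : ∀ x ∈ C₁, h * x * h⁻¹ ∈ C₁ := by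
      intro x hx
      refine ⟨Normal.conj_mem inferInstance x hx.1 h, mem_centralizer_iff.2 ?_⟩
      rintro _ ⟨y, hy, rfl⟩
      have h2 : ((⟨h, hhH⟩ : H)⁻¹ * y * ⟨h, hhH⟩) ∈ M := by
        simpa using hM.conj_mem y hy (⟨h, hhH⟩ : H)⁻¹
      have h3 := mem_centralizer_iff.1 hx.2 _ (mem_map_of_mem H.subtype h2)
      simp only [map_mul, map_inv, subtype_apply] at h3
      show (y : G) * (h * x * h⁻¹) = h * x * h⁻¹ * y
      calc (y : G) * (h * x * h⁻¹) = h * (h⁻¹ * y * h * x) * h⁻¹ := by group
        _ = h * (x * (h⁻¹ * y * h)) * h⁻¹ := by rw [h3]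
        _ = h * x * h⁻¹ * y := by group
    have hle : zpowers h ≤ normalizer (C₁ : Set G) := zpowers_le.2 <| by
      rw [mem_normalizer_iff]
      refine fun x => ⟨hnormal x, fun hx => ?_⟩
      have hfin : ∀ t : ℕ, ∀ z ∈ C₁, h ^ t * z * (h ^ t)⁻¹ ∈ C₁ := by
        intro t
        induction t with
        | zero => simp
        | succ t iht =>
          intro z hz
          have := hnormal _ (iht z hz)
          simpa [pow_succ', mul_assoc] using this
      have h4 := hfin (orderOf h - 1) _ hx
      have h5 : h ^ (orderOf h - 1) * h = 1 := by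
        rw [← pow_succ, Nat.sub_add_cancel (orderOf_pos h), pow_orderOf_eq_one]
      rw [eq_inv_of_mul_eq_one_left h5] at h4
      simpa [mul_assoc] using h4
    letI : MulDistribMulAction (zpowers h) C₁ :=
      MulDistribMulAction.compHom C₁ ((C₁.normalizerMonoidHom).comp (inclusion hle))
    have hp : IsPGroup q (zpowers h) := IsPGroup.of_card (n := j) (by rw [Nat.card_zpowers, hj])
    have hmod := hp.card_modEq_card_fixedPoints C₁
    have hfix : Nat.card (MulAction.fixedPoints (zpowers h) C₁) = Nat.card C₂ := by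
      refine Nat.card_congr
        { toFun := fun x => ⟨(x : C₁), x.1.2.1, ?_⟩
          invFun := fun x => ⟨⟨x, h21 x.2⟩, fun a => Subtype.ext ?_⟩
          left_inv := fun x => rfl
          right_inv := fun x => rfl }
      · have hle' : H ≤ centralizer {((x : C₁) : G)} := by
          intro y hy
          have hgen : M' ⊔ zpowers h = H := sup_zpowers_eq hM'H hhH hcard hq hhM
          have : M' ⊔ zpowers h ≤ centralizer {((x : C₁) : G)} := sup_le (fun z hz => mem_centralizer_singleton_iff.2
            ((mem_centralizer_iff.1 x.1.2.2 z hz))) (zpowers_le.2 (mem_centralizer_singleton_iff.2 (by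
              have h6 : h * ((x : C₁) : G) * h⁻¹ = x := congrArg Subtype.val (x.2 ⟨h, mem_zpowers h⟩)
              calc h * ((x : C₁) : G) = (h * ((x : C₁) : G) * h⁻¹) * h := by group
                _ = _ := by rw [h6])))
          exact this (hgen.symm ▸ hy)
        exact mem_centralizer_iff.2 fun y hy => mem_centralizer_singleton_iff.1 (hle' hy)
      · show (a : G) * x * (a : G)⁻¹ = x
        rw [mem_centralizer_iff.1 x.2.2 _ (zpowers_le.2 hhH a.2), mul_inv_cancel_right]
    rw [hfix] at hmod
    have hmul : Nat.card C₂ * C₂.relIndex C₁ = Nat.card C₁ := by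
      rw [← relIndex_bot_left, relIndex_mul_relIndex ⊥ C₂ C₁ bot_le h21, relIndex_bot_left]
    have hdN : C₂.relIndex C₁ ∣ Nat.card N :=
      (Dvd.intro_left _ hmul).trans (card_dvd_of_le inf_le_left)
    refine ⟨C₂.relIndex C₁ :: l, ?_, ?_⟩
    · rw [List.prod_cons, hl]
      exact relIndex_mul_relIndex C₂ C₁ N h21 inf_le_left
    · intro x hx
      rcases List.mem_cons.1 hx with rfl | hx
      · obtain ⟨a, ha⟩ := hN.exists_card_eq
        obtain ⟨e, -, he⟩ := (Nat.dvd_prime_pow hr).1 (ha ▸ hdN)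
        refine ⟨⟨e, he⟩, hdN, q, hq, hqH, ?_⟩
        refine Nat.ModEq.cancel_left_of_coprime ?_ (c := Nat.card C₂) (by rwa [mul_one, hmul])
        exact ((hcop.coprime_dvd_left hqH).coprime_dvd_right (card_dvd_of_le inf_le_left))
      · obtain ⟨h1, h2, t, ht, htd, ht1⟩ := hl' x hx
        exact ⟨h1, h2, t, ht, htd.trans (card_dvd_of_le hM'H), ht1⟩


theorem relIndex_sup_eq {G : Type*} [Group G] [Finite G] (A N : Subgroup G) [N.Normal] :
    A.relIndex (A ⊔ N) = A.relIndex N := by
  have h1 := CfsgLib.Core.card_sup_mul_card_inf A N (CfsgLib.Core.le_normalizer_of_normal A N)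
  have h2 : Nat.card A * A.relIndex (A ⊔ N) = Nat.card (A ⊔ N : Subgroup G) := by
    rw [← relIndex_bot_left, relIndex_mul_relIndex ⊥ A _ bot_le le_sup_left, relIndex_bot_left]
  have h3 : Nat.card (A ⊓ N : Subgroup G) * A.relIndex N = Nat.card N := by
    rw [← inf_relIndex_right A N, ← relIndex_bot_left, relIndex_mul_relIndex ⊥ _ _ bot_le inf_le_right,
      relIndex_bot_left]
  refine Nat.eq_of_mul_eq_mul_left (Nat.mul_pos (Nat.card_pos (α := A))
    (Nat.card_pos (α := (A ⊓ N : Subgroup G)))) ?_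
  rw [mul_right_comm, h2, h1, mul_assoc, h3]

theorem good_comap {G : Type*} [Group G] [Finite G] (N : Subgroup G) [N.Normal] {m m' x : ℕ}
    (hm : m' ∣ m) (h : Good (G ⧸ N) m' x) : Good G m x := by
  obtain ⟨h1, ⟨K, L, hK, hL, hKL, hmid, hd⟩, q, hq, hqd, hq1⟩ := h
  have hsurj := QuotientGroup.mk'_surjective N
  refine ⟨h1, ⟨K.comap (QuotientGroup.mk' N), L.comap (QuotientGroup.mk' N), hK.comap _, hL.comap _,
    (comap_lt_comap_of_surjective hsurj).2 hKL, fun M hM hKM hML => ?_, ?_⟩, q, hq, hqd.trans hm, hq1⟩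
  · have hNM : (QuotientGroup.mk' N).ker ≤ M := (comap_mono (f := QuotientGroup.mk' N) bot_le).trans hKM
    have h2 := hmid (M.map (QuotientGroup.mk' N)) (hM.map _ hsurj)
      (by rw [← map_comap_eq_self_of_surjective hsurj K]; exact map_mono hKM)
      (by rw [← map_comap_eq_self_of_surjective hsurj L]; exact map_mono hML)
    rw [← comap_map_eq_self hNM]
    exact h2.imp (fun e => by rw [e]) (fun e => by rw [e])
  · rwa [relIndex_comap, map_comap_eq_self_of_surjective hsurj]

theorem main.{w} : ∀ (n₀ : ℕ) (G : Type w) [Group G] [Finite G] [Group.IsSolvable G], Nat.card G = n₀ →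
    ∀ m n : ℕ, Nat.card G = m * n → m.Coprime n →
      ∃ l : List ℕ, l.prod = Nat.card {H : Subgroup G // Nat.card H = m} ∧ ∀ x ∈ l, Good G m x := by
  intro n₀
  induction n₀ using Nat.strong_induction_on with
  | _ n₀ ih =>
    intro G _ _ _ hn₀ m n hG hmn
    subst hn₀
    obtain ⟨H, hH⟩ := CfsgLib.Core.exists_subgroup_card_eq hG hmn
    rw [count_eq hG hmn hH]
    rcases subsingleton_or_nontrivial G with hs | hs
    · refine ⟨[], ?_, by simp⟩
      rw [List.prod_nil, Subsingleton.elim (normalizer (H : Set G)) ⊤, index_top]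
    obtain ⟨N, hN, hNb, -, hmin⟩ := CfsgLib.Core.exists_minimal_normal_le' (⊤ : Subgroup G) top_ne_bot
    haveI := hN
    obtain ⟨r, hr, hNr, -, -⟩ := CfsgLib.Core.isPGroup_of_minimal_normal N inferInstance hNb hmin
    haveI := Fact.mk hr
    obtain ⟨a, ha⟩ := hNr.exists_card_eq
    have hlt := CfsgLib.Core.card_quotient_lt N hNb
    have hcard : Nat.card N * Nat.card (G ⧸ N) = m * n := by
      rw [← hG, ← index_eq_card, card_mul_index]
    set π := QuotientGroup.mk' N
    have hsurj : Function.Surjective π := QuotientGroup.mk'_surjective N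
    have hnorm : ∀ {m' n' : ℕ}, Nat.card (G ⧸ N) = m' * n' → m'.Coprime n' → Nat.card (H.map π) = m' → m' ∣ m →
        ∃ l : List ℕ, l.prod = (normalizer ((H ⊔ N : Subgroup G) : Set G)).index ∧ ∀ x ∈ l, Good G m x := by
      intro m' n' h1 h2 h3 h4
      obtain ⟨l, hl, hl'⟩ := ih _ hlt (G ⧸ N) rfl m' n' h1 h2
      refine ⟨l, ?_, fun x hx => good_comap N h4 (hl' x hx)⟩
      rw [hl, count_eq h1 h2 h3, ← index_comap_of_surjective (normalizer ((H.map π : Subgroup _) : Set (G ⧸ N))) hsurj,
        comap_normalizer_eq_of_surjective _ hsurj]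
      congr 3
      rw [comap_map_eq, QuotientGroup.ker_mk']
    by_cases hrm : r ∣ m
    · -- `N` lies in every Hall subgroup
      have hcopN : (Nat.card N).Coprime n := by
        rw [ha]
        exact ((Nat.Prime.coprime_iff_not_dvd hr).2 fun h => hr.one_lt.ne' (Nat.eq_one_of_dvd_coprimes hmn hrm h)).pow_left a
      have hNH : N ≤ H := by
        refine CfsgLib.Core.le_of_coprime_index (CfsgLib.Core.le_normalizer_of_normal H N) ?_
        have : H.index = n := Nat.eq_of_mul_eq_mul_left (hH ▸ Nat.card_pos)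
          (by rw [← hG, ← hH, card_mul_index])
        rw [this]
        exact hcopN
      have hmap : Nat.card N * Nat.card (H.map π) = m := by
        rw [← hH, ← card_mul_index (N.subgroupOf H), Nat.card_congr (subgroupOfEquivOfLe hNH).toEquiv,
          CfsgLib.Core.card_map_mk' N H]
        rfl
      have hq : Nat.card (G ⧸ N) = Nat.card (H.map π) * n := Nat.eq_of_mul_eq_mul_left (Nat.card_pos (α := N))
        (by rw [hcard, ← mul_assoc, hmap])
      obtain ⟨l, hl, hl'⟩ := hnorm hq (hmn.coprime_dvd_left (Dvd.intro_left _ hmap)) rfl (Dvd.intro_left _ hmap)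
      exact ⟨l, by rw [hl, sup_eq_left.2 hNH], hl'⟩
    · have hcopN : (Nat.card H).Coprime (Nat.card N) := by
        rw [hH, ha]
        exact (((Nat.Prime.coprime_iff_not_dvd hr).2 hrm).pow_left a).symm
      have hd : H ⊓ N = ⊥ := inf_eq_bot_of_coprime hcopN
      have hmap : Nat.card (H.map π) = m := by
        rw [CfsgLib.Core.card_map_mk' N H, ← inf_relIndex_right, inf_comm, hd, relIndex_bot_left, hH]
      have hNn : Nat.card N ∣ n := ((hH ▸ hcopN).symm).dvd_of_dvd_mul_left (Dvd.intro _ hcard)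
      obtain ⟨n', rfl⟩ := hNn
      have hq : Nat.card (G ⧸ N) = m * n' := Nat.eq_of_mul_eq_mul_left (Nat.card_pos (α := N))
        (by rw [hcard, mul_left_comm])
      obtain ⟨l, hl, hl'⟩ := hnorm hq (hmn.coprime_dvd_right (Dvd.intro_left _ rfl)) hmap dvd_rfl
      obtain ⟨l₂, hl₂, hl₂'⟩ := exists_list_index N hr hNr _ H rfl hcopN
      refine ⟨l₂ ++ l, ?_, ?_⟩
      · have hle : normalizer (H : Set G) ≤ normalizer ((H ⊔ N : Subgroup G) : Set G) := fun g hg => by
          rw [CfsgLib.Core.mem_normalizer_iff_conj_smul_eq] at hg ⊢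
          rw [smul_sup, hg, Normal.conj_smul_eq_self]
        have hfr : normalizer ((H ⊔ N : Subgroup G) : Set G) ≤ normalizer (H : Set G) ⊔ N := by
          intro g hg
          rw [CfsgLib.Core.mem_normalizer_iff_conj_smul_eq] at hg
          have hK : H ⊔ N = H ⊔ N := rfl
          set K := H ⊔ N
          have hgK : MulAut.conj g • H ≤ K := hg ▸ CfsgLib.Core.conj_smul_mono le_sup_left
          have hcK : Nat.card K = m * Nat.card N := by
            rw [← hH]
            exact CfsgLib.Core.card_sup_of_disjoint H N (CfsgLib.Core.le_normalizer_of_normal H N) hd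
          obtain ⟨k, hk⟩ := CfsgLib.Core.exists_conj_eq_of_card_eq (G := K) hcK
            (hH ▸ hcopN) (H := H.subgroupOf K) (K := (MulAut.conj g • H).subgroupOf K)
            (by rw [Nat.card_congr (subgroupOfEquivOfLe (le_sup_left : H ≤ K)).toEquiv, hH])
            (by rw [Nat.card_congr (subgroupOfEquivOfLe hgK).toEquiv, CfsgLib.Core.card_conj_smul, hH])
          have hk' : MulAut.conj (k : G) • H = MulAut.conj g • H := CfsgLib.Core.conj_smul_eq_of_subgroupOf le_sup_left hgK k hk
          have hmem : (k : G)⁻¹ * g ∈ normalizer (H : Set G) := by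
            rw [CfsgLib.Core.mem_normalizer_iff_conj_smul_eq, map_mul, mul_smul, ← hk', ← mul_smul, ← map_mul,
              inv_mul_cancel, map_one, one_smul]
          have hkmem : (k : G) ∈ normalizer (H : Set G) ⊔ N := sup_le_sup_right le_normalizer N k.2
          simpa using mul_mem hkmem (mem_sup_left hmem : (k : G)⁻¹ * g ∈ normalizer (H : Set G) ⊔ N)
        have hNK : N ≤ normalizer ((H ⊔ N : Subgroup G) : Set G) := le_sup_right.trans le_normalizer
        have heq : normalizer ((H ⊔ N : Subgroup G) : Set G) = normalizer (H : Set G) ⊔ N :=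
          le_antisymm hfr (sup_le hle hNK)
        have hinf : N ⊓ centralizer (H : Set G) = N ⊓ normalizer (H : Set G) := by
          refine le_antisymm (inf_le_inf_left _ (centralizer_le_normalizer _)) fun x hx => ⟨hx.1, ?_⟩
          refine mem_centralizer_iff.2 fun y hy => ?_
          have h1 : x * y * x⁻¹ * y⁻¹ ∈ H ⊓ N := mem_inf.2 ⟨mul_mem ((mem_normalizer_iff.1 hx.2 y).1 hy) (inv_mem hy), by
            rw [mul_assoc x, mul_assoc x]
            exact mul_mem hx.1 (Normal.conj_mem inferInstance _ (inv_mem hx.1) y)⟩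
          rw [hd, mem_bot, mul_inv_eq_one, mul_inv_eq_iff_eq_mul] at h1
          exact h1.symm
        rw [List.prod_append, hl, hl₂, hinf, inf_relIndex_left, ← relIndex_mul_index hle, heq,
          relIndex_sup_eq]
      · intro x hx
        rcases List.mem_append.1 hx with hx | hx
        · obtain ⟨⟨e, he⟩, hxN, q, hq', hqd, hq1⟩ := hl₂' x hx
          refine ⟨⟨r, e, hr, he⟩, ⟨⊥, N, inferInstance, hN, bot_lt_iff_ne_bot.2 hNb,
            fun M hM _ hMN => hmin M hM hMN, by rwa [relIndex_bot_left]⟩, q, hq', hH ▸ hqd, hq1⟩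
        · exact hl' x hx

/-- Let `G` be a finite solvable group of order `mn` with `gcd(m, n) = 1`. Then the number of subgroups of order `m` is a product of natural numbers each of which is a power of a prime, divides the order of some chief factor of `G` (a quotient `L/K` of normal subgroups `K < L` of `G` with no normal subgroup of `G` strictly between them), and is congruent to `1` modulo some prime divisor of `m`. -/
theorem result {G : Type*} [Group G] [Finite G] [Group.IsSolvable G] (m n : ℕ) (hG : Nat.card G = m * n) (hmn : Nat.Coprime m n) : ∃ (k : ℕ) (f : Fin k → ℕ), Nat.card {H : Subgroup G // Nat.card H = m} = ∏ i, f i ∧ ∀ i, (∃ q e : ℕ, q.Prime ∧ f i = q ^ e) ∧ (∃ K L : Subgroup G, K.Normal ∧ L.Normal ∧ K < L ∧ (∀ M : Subgroup G, M.Normal → K ≤ M → M ≤ L → M = K ∨ M = L) ∧ f i ∣ K.relIndex L) ∧ (∃ q : ℕ, q.Prime ∧ q ∣ m ∧ f i ≡ 1 [MOD q]) := by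
  obtain ⟨l, hl, hl'⟩ := main _ G rfl m n hG hmn
  refine ⟨l.length, l.get, ?_, fun i => hl' _ (List.get_mem l i)⟩
  rw [← hl, ← List.prod_ofFn, List.ofFn_get]

end Cfsg.Agent.S4214
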