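import Cfsg.Statements.S4217
import Cfsg.Agent.Lib.Core.Gaschutz

set_option autoImplicit false
open Cfsg

namespace Cfsg.Agent.S4217

open scoped IsMulCommutative

open Subgroup in
theorem exists_ppart.{u} {G : Type u} [Group G] [Finite G] (A : Subgroup G) [A.Normal] (hA : IsMulCommutative A)
    (p : ℕ) [Fact p.Prime] : ∃ B : Subgroup G, B.Normal ∧ B ≤ A ∧
      Nat.card B = Nat.card A / p ^ (Nat.card A).factorization p := by
  haveI := hA
  set m := Nat.card A / p ^ (Nat.card A).factorization p with hm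
  let B : Subgroup G :=
    { carrier := {a | a ∈ A ∧ a ^ m = 1}
      one_mem' := ⟨one_mem _, one_pow _⟩
      mul_mem' := fun {a b} ha hb => ⟨mul_mem ha.1 hb.1, by
        have hc : Commute a b := congrArg Subtype.val (mul_comm (⟨a, ha.1⟩ : A) ⟨b, hb.1⟩)
        rw [hc.mul_pow, ha.2, hb.2, one_mul]⟩
      inv_mem' := fun {a} ha => ⟨inv_mem ha.1, by rw [inv_pow, ha.2, inv_one]⟩ }
  have hBn : B.Normal := ⟨fun a ha g => ⟨Subgroup.Normal.conj_mem inferInstance a ha.1 g, by
    rw [conj_pow, ha.2, mul_one, mul_inv_cancel]⟩⟩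
  have hBA : B ≤ A := fun a ha => ha.1
  refine ⟨B, hBn, hBA, ?_⟩
  have hp : p.Prime := Fact.out
  have hndvd : ¬ p ∣ Nat.card B := by
    intro hd
    obtain ⟨⟨x, hx⟩, hox⟩ := exists_prime_orderOf_dvd_card' (G := B) p hd
    rw [Subgroup.orderOf_mk] at hox
    have h1 : p ∣ m := hox ▸ orderOf_dvd_of_pow_eq_one hx.2
    exact Nat.not_dvd_ordCompl hp Nat.card_pos.ne' h1
  have hdvd : Nat.card B ∣ m :=
    Nat.dvd_ordCompl_of_dvd_not_dvd (card_dvd_of_le hBA) hndvd
  obtain ⟨S⟩ : Nonempty (Sylow p A) := inferInstance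
  haveI : (S : Subgroup A).Normal := ⟨fun a ha g => by rwa [mul_comm g a, mul_inv_cancel_right]⟩
  obtain ⟨H, hH⟩ := Subgroup.exists_right_complement'_of_coprime (N := (S : Subgroup A)) S.card_coprime_index
  have hHcard : Nat.card H = m := by
    have h1 := hH.card_mul
    rw [Sylow.card_eq_multiplicity] at h1
    exact Nat.eq_div_of_mul_eq_right (pow_ne_zero _ hp.ne_zero) h1
  have hle : Nat.card H ≤ Nat.card B := by
    refine Nat.card_le_card_of_injective (fun h => (⟨((h : A) : G), (h : A).2, ?_⟩ : B)) fun h k hk => ?_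
    · rw [← Subgroup.coe_pow, ← Subgroup.coe_pow, ← hHcard, pow_card_eq_one']
      rfl
    · exact Subtype.ext (Subtype.ext (congrArg (fun z : B => (z : G)) hk))
  exact Nat.dvd_antisymm hdvd (dvd_of_eq (le_antisymm (hHcard ▸ hle) (Nat.le_of_dvd (by rw [← hHcard]; exact Nat.card_pos) hdvd)))

open Subgroup in
theorem main.{u} {G : Type u} [Group G] [Finite G] (A : Subgroup G) [A.Normal] (hA : IsMulCommutative A)
    (h : ∀ p : ℕ, p.Prime → p ∣ A.index → ∃ (S : Sylow p (G ⧸ A)) (K : Subgroup G), K ⊓ A = ⊥ ∧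
      K ⊔ A = (S : Subgroup (G ⧸ A)).comap (QuotientGroup.mk' A)) :
    ∃ K : Subgroup G, K.IsComplement' A := by
  classical
  have hL : ∀ p : (Nat.card A).primeFactors, ∃ L : Subgroup G,
      L.index = (p : ℕ) ^ (Nat.card A).factorization (p : ℕ) ∧ ∀ x ∈ L, x ∈ A → ¬ (p : ℕ) ∣ orderOf x := by
    rintro ⟨p, hpmem⟩
    have hp := Nat.prime_of_mem_primeFactors hpmem
    haveI := Fact.mk hp
    obtain ⟨B, hBn, hBA, hBc⟩ := exists_ppart A hA p
    haveI := hBn
    obtain ⟨U, K, hU, hKA, hKU⟩ : ∃ U K : Subgroup G, ¬ p ∣ U.index ∧ K ⊓ A = ⊥ ∧ K ⊔ A = U := by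
      by_cases hd : p ∣ A.index
      · obtain ⟨S, K, h1, h2⟩ := h p hp hd
        refine ⟨_, K, ?_, h1, h2⟩
        rw [index_comap_of_surjective _ (QuotientGroup.mk'_surjective A)]
        exact S.not_dvd_index
      · exact ⟨A, ⊥, hd, bot_inf_eq A, bot_sup_eq A⟩
    set π := QuotientGroup.mk' B
    have hsurj : Function.Surjective π := QuotientGroup.mk'_surjective B
    haveI : (A.map π).Normal := Normal.map inferInstance _ hsurj
    haveI : IsMulCommutative (A.map π) := ⟨⟨by
      rintro ⟨_, a, ha, rfl⟩ ⟨_, b, hb, rfl⟩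
      apply Subtype.ext
      show π a * π b = π b * π a
      rw [← map_mul, ← map_mul]
      exact congrArg π (congrArg Subtype.val (hA.is_comm.comm (⟨a, ha⟩ : A) ⟨b, hb⟩))⟩⟩
    have hcard : Nat.card (A.map π) = p ^ (Nat.card A).factorization p := by
      have h1 : A.map π = A.map (QuotientGroup.mk' B) := rfl
      have h2 : Nat.card B * B.relIndex A = Nat.card A := by
        rw [relIndex, ← Nat.card_congr (subgroupOfEquivOfLe hBA).toEquiv]
        exact card_mul_index _
      have h3 : (A.map π).index = A.index := index_map_eq A hsurj (by rwa [QuotientGroup.ker_mk'])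
      have h4 := card_mul_index (A.map π)
      rw [h3, ← index_eq_card, ← relIndex_mul_index hBA] at h4
      have h5 : Nat.card (A.map π) = B.relIndex A := Nat.eq_of_mul_eq_mul_right (Nat.pos_of_ne_zero index_ne_zero_of_finite) h4
      rw [h5]
      have h6 : Nat.card B * p ^ (Nat.card A).factorization p = Nat.card A := by
        rw [hBc, mul_comm]; exact Nat.ordProj_mul_ordCompl_eq_self _ _
      exact Nat.eq_of_mul_eq_mul_left Nat.card_pos (h2.trans h6.symm)
    obtain ⟨H, hH⟩ := CfsgLib.Core.Gaschutz.gaschutz_exists (K := A.map π) (U := U.map π) (A := K.map π)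
      (map_mono (hKU ▸ le_sup_right)) (by
        rw [hcard, index_map_eq U hsurj (by rw [QuotientGroup.ker_mk']; exact hBA.trans (hKU ▸ le_sup_right))]
        exact (hp.coprime_iff_not_dvd.2 hU).pow_left _)
      (by
        rw [eq_bot_iff]
        rintro _ ⟨⟨k, hk, rfl⟩, a, ha, hak⟩
        have hka : a⁻¹ * k ∈ B := QuotientGroup.eq.1 hak
        have : k ∈ K ⊓ A := ⟨hk, by
          have := mul_mem ha (hBA hka)
          rwa [mul_inv_cancel_left] at this⟩
        rw [hKA] at this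
        rw [mem_bot, (mem_bot.1 this), map_one])
      (by rw [← Subgroup.map_sup, sup_comm, hKU])
    refine ⟨H.comap π, ?_, fun x hx hxA => ?_⟩
    · rw [index_comap_of_surjective _ hsurj, ← hcard]
      have h1 := hH.card_mul
      rw [← card_mul_index H, mul_comm] at h1
      exact (Nat.eq_of_mul_eq_mul_left Nat.card_pos h1).symm
    · have h1 : π x ∈ A.map π ⊓ H := ⟨mem_map_of_mem _ hxA, hx⟩
      rw [hH.disjoint.eq_bot, mem_bot] at h1
      have h2 : x ∈ B := (QuotientGroup.eq_one_iff x).1 h1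
      intro hd
      exact Nat.not_dvd_ordCompl hp Nat.card_pos.ne'
        (hd.trans ((orderOf_dvd_natCard (⟨x, h2⟩ : B)).trans (dvd_of_eq hBc) |> (Subgroup.orderOf_mk x h2 ▸ ·)))
  choose L hLi hLA using hL
  refine ⟨⨅ p, L p, isComplement'_of_card_mul_and_disjoint ?_ ?_⟩
  · have hinf : (⨅ p, L p) ⊓ A = ⊥ := by
      rw [eq_bot_iff]
      rintro x ⟨hx, hxA⟩
      rw [mem_bot, ← orderOf_eq_one_iff]
      by_contra hne
      obtain ⟨q, hq, hqd⟩ := Nat.exists_prime_and_dvd hne
      have hqA : q ∈ (Nat.card A).primeFactors := Nat.mem_primeFactors.2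
        ⟨hq, hqd.trans (by rw [← Subgroup.orderOf_mk x hxA]; exact orderOf_dvd_natCard _), Nat.card_pos.ne'⟩
      exact hLA ⟨q, hqA⟩ x (Subgroup.mem_iInf.1 hx _) hxA hqd
    have hidx : (⨅ p, L p).index ≤ Nat.card A := by
      refine (index_iInf_le L).trans (le_of_eq ?_)
      simp_rw [hLi]
      rw [← Finset.attach_eq_univ, Finset.prod_attach _ (fun p => p ^ (Nat.card A).factorization p)]
      exact Nat.prod_factorization_pow_eq_self Nat.card_pos.ne'
    have hle : Nat.card (⨅ p, L p : Subgroup G) * Nat.card A ≤ Nat.card G := by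
      rw [← Nat.card_prod]
      refine Nat.card_le_card_of_injective (fun x => (x.1 : G) * x.2) ?_
      rintro ⟨⟨a, ha⟩, ⟨b, hb⟩⟩ ⟨⟨c, hc⟩, ⟨d, hd⟩⟩ hab
      simp only at hab
      have h1 : c⁻¹ * a = d * b⁻¹ := by
        rw [eq_mul_inv_iff_mul_eq, mul_assoc, hab, inv_mul_cancel_left]
      have h2 : c⁻¹ * a ∈ (⨅ p, L p) ⊓ A :=
        Subgroup.mem_inf.2 ⟨mul_mem (inv_mem hc) ha, h1 ▸ mul_mem hd (inv_mem hb)⟩
      rw [hinf, mem_bot, inv_mul_eq_one] at h2
      subst h2
      exact Prod.ext rfl (Subtype.ext (mul_left_cancel hab))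
    refine le_antisymm hle ?_
    rw [← card_mul_index (⨅ p, L p)]
    exact Nat.mul_le_mul_left _ hidx
  · rw [disjoint_iff, eq_bot_iff]
    rintro x ⟨hx, hxA⟩
    rw [mem_bot, ← orderOf_eq_one_iff]
    by_contra hne
    obtain ⟨q, hq, hqd⟩ := Nat.exists_prime_and_dvd hne
    have hqA : q ∈ (Nat.card A).primeFactors := Nat.mem_primeFactors.2
      ⟨hq, hqd.trans (by rw [← Subgroup.orderOf_mk x hxA]; exact orderOf_dvd_natCard _), Nat.card_pos.ne'⟩
    exact hLA ⟨q, hqA⟩ x (Subgroup.mem_iInf.1 hx _) hxA hqd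

/-- Let `A` be an abelian normal subgroup of the finite group `G`. Then `A` has a complement in `G` if and only if, for every prime `p` dividing the index of `A`, there are a Sylow `p`-subgroup `S` of `G/A` and a subgroup `K` of `G` with `K ∩ A = 1` and `KA` equal to the preimage of `S` (that is, `A` has a complement in the preimage of a Sylow `p`-subgroup of `G/A`). -/
theorem result {G : Type*} [Group G] [Finite G] (A : Subgroup G) [A.Normal] (hA : IsMulCommutative A) : (∃ K : Subgroup G, K.IsComplement' A) ↔ ∀ p : ℕ, p.Prime → p ∣ A.index → ∃ (S : Sylow p (G ⧸ A)) (K : Subgroup G), K ⊓ A = ⊥ ∧ K ⊔ A = (S : Subgroup (G ⧸ A)).comap (QuotientGroup.mk' A) := by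
  refine ⟨?_, main A hA⟩
  rintro ⟨K, hK⟩ p hp -
  haveI := Fact.mk hp
  obtain ⟨S⟩ : Nonempty (Sylow p (G ⧸ A)) := inferInstance
  set U := (S : Subgroup (G ⧸ A)).comap (QuotientGroup.mk' A) with hU
  have hAU : A ≤ U := fun a ha => by
    rw [hU, Subgroup.mem_comap, QuotientGroup.mk'_apply, (QuotientGroup.eq_one_iff a).2 ha]
    exact one_mem _
  refine ⟨S, K ⊓ U, ?_, le_antisymm (sup_le inf_le_right hAU) fun u hu => ?_⟩
  · rw [eq_bot_iff]
    exact (inf_le_inf_right A inf_le_left).trans hK.disjoint.eq_bot.le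
  · obtain ⟨⟨k, a⟩, hka, -⟩ := hK.existsUnique u
    simp only at hka
    have hk : (k : G) ∈ U := by
      rw [show (k : G) = u * (a : G)⁻¹ by rw [← hka, mul_inv_cancel_right]]
      exact mul_mem hu (inv_mem (hAU a.2))
    rw [← hka]
    exact mul_mem (Subgroup.mem_sup_left ⟨k.2, hk⟩) (Subgroup.mem_sup_right a.2)

end Cfsg.Agent.S4217
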