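import Cfsg.Statements.S4218
import Cfsg.Agent.Lib.PLocal.PConstrained
import Cfsg.Agent.Lib.PLocal.PSolvable
import Cfsg.Agent.Lib.Core.Coprime
import Cfsg.Agent.Lib.Core.Cores
import Cfsg.Agent.Lib.PGroups.Basic

set_option autoImplicit false
open Cfsg

namespace Cfsg.Agent.S4218

open Subgroup in
theorem map_frattini_of_bijective {A B : Type*} [Group A] [Group B] (e : A ≃* B) :
    (frattini A).map e.toMonoidHom = frattini B := by
  refine le_antisymm (Subgroup.map_le_iff_le_comap.2 (frattini_le_comap_frattini_of_surjective e.surjective)) ?_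
  intro b hb
  refine ⟨e.symm b, ?_, e.apply_symm_apply b⟩
  exact frattini_le_comap_frattini_of_surjective (φ := e.symm.toMonoidHom) e.symm.surjective hb

open Subgroup in
open scoped commutatorElement in
theorem aux {H : Type*} [Group H] [Finite H] {p : ℕ} [Fact p.Prime] (hH : Cfsg.IsPSolvable p H)
    (hO : Cfsg.pPrimeCore p H = ⊥) (h : H) :
    (∀ x ∈ Cfsg.pCore p H, h * x * h⁻¹ * x⁻¹ ∈ (frattini (Cfsg.pCore p H)).map (Cfsg.pCore p H).subtype) ↔
      h ∈ Cfsg.pCore p H := by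
  set V := Cfsg.pCore p H with hV
  have hVp : IsPGroup p V := CfsgLib.Core.isPGroup_pCore p H
  set W := (frattini V).map V.subtype with hW
  haveI : W.Normal := ConjAct.normal_of_characteristic_of_normal
  let K : Subgroup H :=
    { carrier := {g | ∀ x ∈ V, g * x * g⁻¹ * x⁻¹ ∈ W}
      one_mem' := fun x _ => by simp
      mul_mem' := fun {a b} ha hb x hx => by
        have e : a * b * x * (a * b)⁻¹ * x⁻¹ = (a * (b * x * b⁻¹ * x⁻¹) * a⁻¹) * (a * x * a⁻¹ * x⁻¹) := by group
        rw [e]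
        exact mul_mem ((inferInstance : W.Normal).conj_mem _ (hb x hx) a) (ha x hx)
      inv_mem' := fun {a} ha x hx => by
        have e : a⁻¹ * x * a⁻¹⁻¹ * x⁻¹ = a⁻¹ * (a * x * a⁻¹ * x⁻¹)⁻¹ * a⁻¹⁻¹ := by group
        rw [e]
        exact (inferInstance : W.Normal).conj_mem _ (inv_mem (ha x hx)) a⁻¹ }
  haveI hKn : K.Normal := ⟨fun g hg c x hx => by
    have hx' : c⁻¹ * x * c⁻¹⁻¹ ∈ V := (inferInstance : V.Normal).conj_mem x hx c⁻¹
    have e : c * g * c⁻¹ * x * (c * g * c⁻¹)⁻¹ * x⁻¹ =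
        c * (g * (c⁻¹ * x * c⁻¹⁻¹) * g⁻¹ * (c⁻¹ * x * c⁻¹⁻¹)⁻¹) * c⁻¹ := by group
    rw [e]
    exact (inferInstance : W.Normal).conj_mem _ (hg _ hx') c⟩
  have hVK : V ≤ K := fun v hv x hx => by
    refine ⟨⁅(⟨v, hv⟩ : V), ⟨x, hx⟩⁆, CfsgLib.PGroups.commutator_le_frattini' hVp ?_, ?_⟩
    · exact Subgroup.commutator_mem_commutator (Subgroup.mem_top _) (Subgroup.mem_top _)
    · rw [map_commutatorElement]; rfl
  constructor
  · intro hh
    have hKp : IsPGroup p K := by
      by_contra hnp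
      obtain ⟨q, hq, hqp, hqK⟩ : ∃ q, q.Prime ∧ q ≠ p ∧ q ∣ Nat.card K := by
        by_contra hno
        push Not at hno
        exact hnp (IsPGroup.of_card
          (Nat.eq_prime_pow_of_unique_prime_dvd Nat.card_pos.ne' fun {q} hq hd =>
            Classical.byContradiction fun hne => hno q hq hne hd))
      haveI := Fact.mk hq
      obtain ⟨a, ha⟩ := exists_prime_orderOf_dvd_card' q hqK
      set A := Subgroup.zpowers (a : H) with hA
      have hAK : A ≤ K := Subgroup.zpowers_le.2 a.2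
      have hcop : (Nat.card A).Coprime (Nat.card (frattini V)) := by
        rw [hA, Nat.card_zpowers, Subgroup.orderOf_coe, ha]
        obtain ⟨j, hj⟩ := IsPGroup.iff_card.1 (hVp.to_subgroup (frattini V))
        rw [hj]
        exact ((Nat.coprime_primes hq (Fact.out : p.Prime)).2 hqp).pow_right j
      have hc := CfsgLib.Core.centralizes_of_centralizes_frattini_quotient (A := A) (K := V)
        (le_top.trans (Subgroup.normalizer_eq_top_iff.2 (inferInstance : V.Normal)).ge) hcop (fun b hb => hAK hb)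
      have haV : (a : H) ∈ V :=
        CfsgLib.PLocal.centralizer_pCore_le hH hO (hc (Subgroup.mem_zpowers _))
      have h1 : q ∣ Nat.card V := by
        rw [← ha, ← Subgroup.orderOf_coe, ← Subgroup.orderOf_mk _ haV]
        exact orderOf_dvd_natCard _
      obtain ⟨j, hj⟩ := IsPGroup.iff_card.1 hVp
      rw [hj] at h1
      exact hqp ((Nat.prime_dvd_prime_iff_eq hq Fact.out).1 (hq.dvd_of_dvd_pow h1))
    exact CfsgLib.Core.le_pCore hKp (hh : h ∈ K)
  · intro hh
    exact hVK hh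

/-- Let `G` be a finite `p`-solvable group, `N₀ = O_{p'}(G)`, `P₁ = O_{p',p}(G)`, and let `F ≤ P₁` be the preimage of the Frattini subgroup of `P₁/N₀`. Then an element `g` of `G` induces the identity on `P₁/F` by conjugation (that is, `g x g⁻¹ x⁻¹ ∈ F` for all `x ∈ P₁`) if and only if `g ∈ P₁`: the group `G/P₁` acts faithfully on `P₁/F`. -/
theorem result {G : Type*} [Group G] [Finite G] {p : ℕ} [Fact p.Prime] (hG : Cfsg.IsPSolvable p G) (g : G) : (∀ x ∈ Cfsg.pPrimePCore p G, g * x * g⁻¹ * x⁻¹ ∈ ((frattini (↥(Cfsg.pPrimePCore p G) ⧸ (Cfsg.pPrimeCore p G).subgroupOf (Cfsg.pPrimePCore p G))).comap (QuotientGroup.mk' ((Cfsg.pPrimeCore p G).subgroupOf (Cfsg.pPrimePCore p G)))).map (Cfsg.pPrimePCore p G).subtype) ↔ g ∈ Cfsg.pPrimePCore p G := by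
  set N0 := Cfsg.pPrimeCore p G with hN0
  set P1 := Cfsg.pPrimePCore p G with hP1
  set π := QuotientGroup.mk' N0 with hπ
  set N0' := N0.subgroupOf P1 with hN0'
  set V := Cfsg.pCore p (G ⧸ N0) with hV
  have hmem : ∀ x, x ∈ P1 ↔ π x ∈ V := fun x => Iff.rfl
  let ψ : P1 →* V := (π.comp P1.subtype).codRestrict V fun x => x.2
  have hψ : Function.Surjective ψ := by
    rintro ⟨v, hv⟩
    obtain ⟨x, rfl⟩ := QuotientGroup.mk'_surjective N0 v
    exact ⟨⟨x, hv⟩, rfl⟩
  have hker : N0' = ψ.ker := by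
    ext x
    rw [MonoidHom.mem_ker, Subtype.ext_iff]
    exact (QuotientGroup.eq_one_iff (N := N0) (x : G)).symm
  let e : P1 ⧸ N0' ≃* V :=
    (QuotientGroup.quotientMulEquivOfEq hker).trans (QuotientGroup.quotientKerEquivOfSurjective ψ hψ)
  have he : ∀ x : P1, e (QuotientGroup.mk' N0' x) = ψ x := fun x => rfl
  have hF : ∀ (y : G), y ∈ P1 →
      (y ∈ ((frattini (P1 ⧸ N0')).comap (QuotientGroup.mk' N0')).map P1.subtype ↔
        π y ∈ (frattini V).map V.subtype) := by
    intro y hy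
    constructor
    · rintro ⟨x, hx, rfl⟩
      refine ⟨ψ x, ?_, rfl⟩
      rw [← map_frattini_of_bijective e]
      exact ⟨_, hx, he x⟩
    · rintro ⟨v, hv, hvy⟩
      refine ⟨⟨y, hy⟩, ?_, rfl⟩
      rw [← map_frattini_of_bijective e] at hv
      obtain ⟨z, hz, hzv⟩ := hv
      have : e (QuotientGroup.mk' N0' ⟨y, hy⟩) = e z := by
        rw [he]
        apply Subtype.ext
        exact hvy.symm.trans (congrArg Subtype.val hzv.symm)
      rw [SetLike.mem_coe, Subgroup.mem_comap, e.injective this]; exact hz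
  haveI : P1.Normal := CfsgLib.PLocal.pPrimePCore_normal p G
  have hc : ∀ x ∈ P1, g * x * g⁻¹ * x⁻¹ ∈ P1 := fun x hx =>
    mul_mem ((inferInstance : P1.Normal).conj_mem x hx g) (inv_mem hx)
  rw [show g ∈ P1 ↔ π g ∈ V from Iff.rfl, hV, ← aux (CfsgLib.PLocal.isPSolvable_quotient hG N0)
    (CfsgLib.Core.pPrimeCore_quotient_pPrimeCore p G) (π g)]
  constructor
  · intro h v hv
    obtain ⟨x, rfl⟩ := QuotientGroup.mk'_surjective N0 v
    rw [← map_mul, ← map_inv, ← map_mul, ← map_inv, ← map_mul]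
    exact (hF _ (hc x hv)).1 (h x hv)
  · intro h x hx
    refine (hF _ (hc x hx)).2 ?_
    rw [map_mul, map_mul, map_mul, map_inv, map_inv]
    exact h _ hx

end Cfsg.Agent.S4218
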