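import Cfsg.Statements.S4219


set_option autoImplicit false
open Cfsg

namespace Cfsg.Agent.S4219

/-- Let a finite group `G` act `t`-fold transitively on a finite set, let `H` be the stabilizer of `t` distinct points and `P` a Sylow `p`-subgroup of `H`. Then the normalizer of `P` in `G` is `t`-fold transitive on the fixed points of `P`: any `t` distinct fixed points of `P` can be carried to any other `t` distinct fixed points of `P` by an element normalizing `P`. -/
theorem result {G : Type*} [Group G] [Finite G] {α : Type*} [Fintype α] [MulAction G α] {t : ℕ} (hG : MulAction.IsMultiplyPretransitive G α t) (x : Fin t ↪ α) {p : ℕ} [Fact p.Prime] (P : Sylow p (MulAction.stabilizer G x)) (a b : Fin t ↪ α) (ha : ∀ i, a i ∈ MulAction.fixedPoints ((P : Subgroup (MulAction.stabilizer G x)).map (MulAction.stabilizer G x).subtype) α) (hb : ∀ i, b i ∈ MulAction.fixedPoints ((P : Subgroup (MulAction.stabilizer G x)).map (MulAction.stabilizer G x).subtype) α) : ∃ g ∈ Subgroup.normalizer ((((P : Subgroup (MulAction.stabilizer G x)).map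 (MulAction.stabilizer G x).subtype) : Subgroup G) : Set G), g • a = b := by
  classical
  set Q := (P : Subgroup (MulAction.stabilizer G x)).map (MulAction.stabilizer G x).subtype with hQ
  obtain ⟨g, hg⟩ := hG.exists_smul_eq a b
  obtain ⟨u, hu⟩ := hG.exists_smul_eq x b
  have hQp : IsPGroup p Q := P.isPGroup'.map _
  have fixemb : ∀ e : Fin t ↪ α, (∀ i, e i ∈ MulAction.fixedPoints Q α) → Q ≤ MulAction.stabilizer G e := by
    intro e he z hz
    rw [MulAction.mem_stabilizer_iff]
    ext i
    exact he i ⟨z, hz⟩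
  have hQb : Q ≤ MulAction.stabilizer G b := fixemb b hb
  have hQgb : Q.map (MulAut.conj g).toMonoidHom ≤ MulAction.stabilizer G b := by
    rw [← hg, MulAction.stabilizer_smul_eq_stabilizer_map_conj]
    exact Subgroup.map_mono (fixemb a ha)
  have hcard : Nat.card (MulAction.stabilizer G b) = Nat.card (MulAction.stabilizer G x) := by
    rw [← hu, MulAction.stabilizer_smul_eq_stabilizer_map_conj]
    exact Subgroup.card_map_of_injective (MulEquiv.injective _)
  have hQcard : ∀ K : Subgroup G, K ≤ MulAction.stabilizer G b → Nat.card K = Nat.card Q →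
      IsPGroup p K → ∃ S : Sylow p (MulAction.stabilizer G b), (S : Subgroup _).map (MulAction.stabilizer G b).subtype = K := by
    intro K hK hKc hKp
    have hc : Nat.card (K.subgroupOf (MulAction.stabilizer G b)) = p ^ (Nat.card (MulAction.stabilizer G b)).factorization p := by
      rw [Nat.card_congr (Subgroup.subgroupOfEquivOfLe hK).toEquiv, hKc, hcard, hQ,
        Subgroup.card_map_of_injective Subtype.val_injective, P.card_eq_multiplicity]
    exact ⟨Sylow.ofCard (K.subgroupOf _) hc, by simp [Subgroup.subgroupOf_map_subtype, inf_eq_left.2 hK]⟩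
  obtain ⟨S₁, hS₁⟩ := hQcard Q hQb rfl hQp
  obtain ⟨S₂, hS₂⟩ := hQcard _ hQgb (Subgroup.card_map_of_injective (MulEquiv.injective _)) (hQp.map _)
  obtain ⟨h, hh⟩ := MulAction.exists_smul_eq (MulAction.stabilizer G b) S₂ S₁
  refine ⟨(h : G) * g, ?_, by rw [mul_smul, hg]; exact h.2⟩
  have key : ∀ z : G, z ∈ Q ↔ ((h : G) * g) * z * ((h : G) * g)⁻¹ ∈ Q := by
    intro z
    have h1 : ∀ w : G, w ∈ Q ↔ g * w * g⁻¹ ∈ (S₂ : Subgroup _).map (MulAction.stabilizer G b).subtype := by
      intro w
      rw [hS₂]
      exact (Subgroup.mem_map_iff_mem (f := (MulAut.conj g).toMonoidHom) (MulEquiv.injective _)).symm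
    have h2 : ∀ w : G, w ∈ (S₂ : Subgroup _).map (MulAction.stabilizer G b).subtype ↔ (h : G) * w * (h : G)⁻¹ ∈ Q := by
      intro w
      rw [← hS₁, ← hh]
      constructor
      · rintro ⟨v, hv, rfl⟩
        exact ⟨h * v * h⁻¹, Sylow.smul_def (g := h) (P := S₂) ▸ Subgroup.smul_mem_pointwise_smul v (MulAut.conj h) _ hv, rfl⟩
      · rintro ⟨v, hv, hve⟩
        rw [SetLike.mem_coe, Sylow.smul_def, Sylow.pointwise_smul_def, Subgroup.mem_pointwise_smul_iff_inv_smul_mem, ← map_inv, MulAut.smul_def, MulAut.conj_apply, inv_inv] at hv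
        refine ⟨_, hv, ?_⟩
        show (h : G)⁻¹ * (v : G) * (h : G) = w
        rw [show (v : G) = _ from hve]; group
    rw [h1, h2]
    group
  rw [Subgroup.mem_normalizer_iff]
  exact key

end Cfsg.Agent.S4219
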