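import Cfsg.Statements.S4221
import Cfsg.Agent.S0415
import Cfsg.Agent.Lib.ClassSizes.OddFourPoint
import Cfsg.Agent.Lib.ClassSizes.Jordan
import Cfsg.Agent.Lib.ClassSizes.SmallSupportPerm
-- import your own Cfsg.Agent.* helpers here

set_option autoImplicit false
open Cfsg

namespace Cfsg.Agent.S4221

open Equiv MulAction CfsgLib.Perm

variable {α : Type*} [Fintype α] [DecidableEq α]

theorem mem_stab {G : Subgroup (Perm α)} {x : Fin 4 ↪ α} {g : G} :
    g ∈ stabilizer G x ↔ ∀ i, (g : Perm α) (x i) = x i := by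
  rw [MulAction.mem_stabilizer_iff, Function.Embedding.ext_iff]
  exact Iff.rfl

/-- An element of `G` with four fixed points has odd order. -/
theorem odd_order {G : Subgroup (Perm α)} (hG : IsMultiplyPretransitive G α 4) {x : Fin 4 ↪ α}
    (hodd : Odd (Nat.card (stabilizer G x))) (y : Fin 4 ↪ α) {g : Perm α} (hg : g ∈ G)
    (hgy : ∀ i, g (y i) = y i) : Odd (orderOf g) := by
  have h4 : 4 ≤ Fintype.card α := by simpa using Fintype.card_le_of_embedding y
  obtain ⟨k, hk, hkx⟩ := ktrans_exists hG h4 le_rfl x y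
  let u : G := ⟨k⁻¹ * g * k, G.mul_mem (G.mul_mem (G.inv_mem hk) hg) hk⟩
  have hu : u ∈ stabilizer G x := mem_stab.2 fun i => by
    show (k⁻¹ * g * k) (x i) = x i
    rw [Perm.mul_apply, Perm.mul_apply, hkx, hgy, Perm.inv_def, Equiv.symm_apply_eq, hkx]
  have h := (Subgroup.orderOf_dvd_natCard (stabilizer G x) hu)
  have e : orderOf u = orderOf g := by
    rw [← Subgroup.orderOf_coe, show (u : Perm α) = k⁻¹ * g * (k⁻¹)⁻¹ by rw [inv_inv]]
    exact orderOf_injective (MulAut.conj k⁻¹).toMonoidHom (MulEquiv.injective _) g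
  rw [e] at h
  exact hodd.of_dvd_nat h

theorem invFixLE {G : Subgroup (Perm α)} (hG : IsMultiplyPretransitive G α 4) {x : Fin 4 ↪ α}
    (hodd : Odd (Nat.card (stabilizer G x))) : InvFixLE G 3 := by
  intro g hg hg2 hg1
  by_contra h
  obtain ⟨y⟩ := Function.Embedding.nonempty_of_card_le (α := Fin 4) (β := fixFinset g)
    (by rw [Fintype.card_fin, Fintype.card_coe]; omega)
  have ho := odd_order hG hodd (y.trans (Function.Embedding.subtype _)) hg fun i => mem_fixFinset.1 (y i).2
  rw [orderOf_eq_prime (p := 2) (by rw [pow_two]; exact hg2) hg1] at ho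
  exact absurd ho (by decide)

theorem alt_or_top {G : Subgroup (Perm α)} [Nontrivial α] (h : alternatingGroup α ≤ G) :
    G = alternatingGroup α ∨ G = ⊤ := by
  have h2 := Subgroup.index_dvd_of_le h
  rw [alternatingGroup.index_eq_two] at h2
  rcases (Nat.dvd_prime Nat.prime_two).1 h2 with h1 | h1
  · exact Or.inr (Subgroup.index_eq_one.1 h1)
  · exact Or.inl (Equiv.Perm.eq_alternatingGroup_of_index_eq_two h1)

/-- two points outside a quadruple -/
theorem exists_outside (hn : 6 ≤ Fintype.card α) (x : Fin 4 ↪ α) :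
    ∃ a b : α, a ≠ b ∧ (∀ i, x i ≠ a) ∧ ∀ i, x i ≠ b := by
  obtain ⟨a, ha, b, hb, hab⟩ := Finset.one_lt_card.1 (show 1 < ((Finset.univ.map x)ᶜ).card by
    rw [Finset.card_compl, Finset.card_map, Finset.card_univ, Fintype.card_fin]; omega)
  simp only [Finset.mem_compl, Finset.mem_map, Finset.mem_univ, true_and, not_exists] at ha hb
  exact ⟨a, b, hab, ha, hb⟩

theorem ne_top {G : Subgroup (Perm α)} (hG : IsMultiplyPretransitive G α 4) {x : Fin 4 ↪ α}
    (hodd : Odd (Nat.card (stabilizer G x))) (hn : 6 ≤ Fintype.card α) : G ≠ ⊤ := by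
  intro h
  obtain ⟨a, b, hab, ha, hb⟩ := exists_outside hn x
  have ho := odd_order hG hodd x (g := Equiv.swap a b) (by rw [h]; exact Subgroup.mem_top _)
    fun i => Equiv.swap_apply_of_ne_of_ne (ha i) (hb i)
  rw [orderOf_eq_prime (p := 2) (by rw [pow_two, Equiv.swap_mul_self])
    (fun e => hab (Equiv.swap_eq_one_iff.1 e))] at ho
  exact absurd ho (by decide)

theorem not_alt_le {G : Subgroup (Perm α)} (hG : IsMultiplyPretransitive G α 4) {x : Fin 4 ↪ α}
    (hodd : Odd (Nat.card (stabilizer G x))) (hn : 8 ≤ Fintype.card α) : ¬ alternatingGroup α ≤ G := by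
  intro h
  obtain ⟨a, b, hab, ha, hb⟩ := exists_outside (by omega) x
  obtain ⟨c, hc, d, hd, hcd⟩ := Finset.one_lt_card.1 (show 1 < ((Finset.univ.map x ∪ {a, b})ᶜ).card by
    have h1 := Finset.card_union_le (Finset.univ.map x) {a, b}
    rw [Finset.card_map, Finset.card_univ, Fintype.card_fin, Finset.card_pair hab] at h1
    rw [Finset.card_compl]
    omega)
  simp only [Finset.mem_compl, Finset.mem_union, Finset.mem_map, Finset.mem_univ, true_and, not_or,
    not_exists, Finset.mem_insert, Finset.mem_singleton] at hc hd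
  have ho := odd_order hG hodd x (g := Equiv.swap a b * Equiv.swap c d)
    (h (Equiv.Perm.mem_alternatingGroup.2 (by simp [hab, hcd]))) fun i => by
      rw [Perm.mul_apply, Equiv.swap_apply_of_ne_of_ne (hc.1 i) (hd.1 i),
        Equiv.swap_apply_of_ne_of_ne (ha i) (hb i)]
  have hcomm : Equiv.swap a b * Equiv.swap c d = Equiv.swap c d * Equiv.swap a b := by
    refine (Equiv.Perm.Disjoint.commute ?_).eq
    intro z
    by_cases hz : z = a ∨ z = b
    · rcases hz with rfl | rfl
      · exact Or.inr (Equiv.swap_apply_of_ne_of_ne (Ne.symm hc.2.1) (Ne.symm hd.2.1))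
      · exact Or.inr (Equiv.swap_apply_of_ne_of_ne (Ne.symm hc.2.2) (Ne.symm hd.2.2))
    · push Not at hz
      exact Or.inl (Equiv.swap_apply_of_ne_of_ne hz.1 hz.2)
  rw [orderOf_eq_prime (p := 2)] at ho
  · exact absurd ho (by decide)
  · rw [pow_two]
    conv_lhs => arg 2; rw [hcomm]
    rw [mul_assoc, ← mul_assoc (Equiv.swap c d), Equiv.swap_mul_self, one_mul, Equiv.swap_mul_self]
  · intro e
    have e' := congrArg (fun f => f a) e
    simp only [Perm.mul_apply, Perm.one_apply,
      Equiv.swap_apply_of_ne_of_ne (Ne.symm hc.2.1) (Ne.symm hd.2.1), Equiv.swap_apply_left] at e'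
    exact hab e'.symm

/-- a nontrivial element of order three with at most seven moved points forces the alternating group -/
theorem alt_of_order_three {G : Subgroup (Perm α)} (hG : IsMultiplyPretransitive G α 4)
    (hn : 8 ≤ Fintype.card α) {g : Perm α} (hg : g ∈ G) (ho : orderOf g = 3) (hs : g.support.card ≤ 7) :
    alternatingGroup α ≤ G := by
  have h2 : IsMultiplyPretransitive G α 2 := by
    haveI := hG
    exact MulAction.isMultiplyPretransitive_of_le (n := 4) (by omega)
      (by rw [Nat.card_eq_fintype_card]; omega)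
  obtain ⟨m, hm⟩ := Equiv.Perm.cycleType_prime_order (σ := g) (by rw [ho]; norm_num)
  have hsum := Equiv.Perm.sum_cycleType g
  rw [hm, Multiset.sum_replicate, smul_eq_mul, ho] at hsum
  obtain rfl | rfl : m = 0 ∨ m = 1 := by omega
  · exact Equiv.Perm.alternatingGroup_le_of_isPreprimitive_of_isThreeCycle_mem
      (MulAction.isPreprimitive_of_is_two_pretransitive h2)
      (card_support_eq_three_iff.1 (by omega)) hg
  have h3 : ∀ z, g (g (g z)) = z := fun z => by
    rw [← Perm.mul_apply, ← Perm.mul_apply]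
    have := pow_orderOf_eq_one g
    rw [ho, pow_succ, pow_two] at this
    rw [this]; rfl
  have hne : ∀ z, g z ≠ z → g (g z) ≠ z ∧ g (g z) ≠ g z := fun z hz =>
    ⟨fun h => hz (by conv_rhs => rw [← h3 z, h]), fun h => hz (g.injective h)⟩
  have hmv : ∀ z, g z ≠ z → g z ∈ g.support ∧ g (g z) ∈ g.support := fun z hz => by
    have h1 := Perm.apply_mem_support.2 (Perm.mem_support.2 hz)
    exact ⟨h1, Perm.apply_mem_support.2 h1⟩
  obtain ⟨a, ha⟩ := Finset.card_pos.1 (show 0 < g.support.card by omega)
  have hga : g a ≠ a := Perm.mem_support.1 ha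
  have hT : ({a, g a, g (g a)} : Finset α) ⊆ g.support := by
    simp only [Finset.insert_subset_iff, Finset.singleton_subset_iff]
    exact ⟨ha, hmv a hga⟩
  obtain ⟨b, hb⟩ := Finset.card_pos.1 (show 0 < (g.support \ {a, g a, g (g a)}).card by
    rw [Finset.card_sdiff_of_subset hT]
    have := Finset.card_le_three (a := a) (b := g a) (c := g (g a))
    omega)
  simp only [Finset.mem_sdiff, Finset.mem_insert, Finset.mem_singleton, not_or] at hb
  obtain ⟨hbs, hba, hbga, hbgga⟩ := hb
  have hgb : g b ≠ b := Perm.mem_support.1 hbs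
  have e1 : g b ≠ a := fun h => hbgga (by rw [← h3 b, h])
  have e2 : g b ≠ g a := fun h => hba (g.injective h)
  have e3 : g b ≠ g (g a) := fun h => hbga (g.injective h)
  have e4 : g (g b) ≠ a := fun h => e3 (g.injective (by rw [h, h3]))
  have e5 : g (g b) ≠ g a := fun h => e1 (g.injective h)
  have e6 : g (g b) ≠ g (g a) := fun h => e2 (g.injective h)
  have hinj : Function.Injective ![a, g a, g (g a), b, g b, g (g b)] := by
    intro i j
    fin_cases i <;> fin_cases j <;> simp [hba, hbga, hbgga, Ne.symm hba, Ne.symm hbga, Ne.symm hbgga,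
      e1, e2, e3, e4, e5, e6, Ne.symm e1, Ne.symm e2, Ne.symm e3, Ne.symm e4, Ne.symm e5, Ne.symm e6,
      hga, Ne.symm hga, hgb, Ne.symm hgb, (hne a hga).1, (hne a hga).2, (hne b hgb).1, (hne b hgb).2,
      Ne.symm (hne a hga).1, Ne.symm (hne a hga).2, Ne.symm (hne b hgb).1, Ne.symm (hne b hgb).2]
  let ι : Fin 6 ↪ α := ⟨_, hinj⟩
  have hι : Finset.univ.map ι = g.support := by
    refine Finset.eq_of_subset_of_card_le (fun z hz => ?_) ?_
    · obtain ⟨i, -, rfl⟩ := Finset.mem_map.1 hz
      fin_cases i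
      · exact ha
      · exact (hmv a hga).1
      · exact (hmv a hga).2
      · exact hbs
      · exact (hmv b hgb).1
      · exact (hmv b hgb).2
    · rw [Finset.card_map, Finset.card_univ, Fintype.card_fin]
      omega
  refine CfsgLib.ClassSizes.SmallPerm.alt_of_three_three G hG hn ι hg (fun i => ?_) fun z hz => ?_
  · fin_cases i <;> first | rfl | exact h3 a | exact h3 b
  · rw [← Perm.notMem_support, ← hι]
    intro h
    obtain ⟨i, -, hi⟩ := Finset.mem_map.1 h
    exact hz ⟨i, hi⟩

/-- the sharp case -/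
theorem card_of_sharp {G : Subgroup (Perm α)} (hG : IsMultiplyPretransitive G α 4) (x : Fin 4 ↪ α)
    (hx : stabilizer G x = ⊥) : Nat.card G = (Fintype.card α).descFactorial 4 := by
  have h4 : 4 ≤ Fintype.card α := by simpa using Fintype.card_le_of_embedding x
  have horb : orbit G x = Set.univ := Set.eq_univ_of_forall fun y => by
    obtain ⟨g, hg, hgx⟩ := ktrans_exists hG h4 le_rfl x y
    exact ⟨⟨g, hg⟩, Function.Embedding.ext hgx⟩
  have h := MulAction.index_stabilizer G x
  rw [hx, Subgroup.index_bot] at h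
  refine h.trans ((congrArg Set.ncard horb).trans ?_)
  rw [Set.ncard_univ, Nat.card_eq_fintype_card, Fintype.card_embedding_eq, Fintype.card_fin]

theorem support_le {G : Subgroup (Perm α)} {y : Fin 4 ↪ α} {g : G} (hg : g ∈ stabilizer G y) :
    (g : Perm α).support.card + 4 ≤ Fintype.card α := by
  have h1 : (g : Perm α).support ⊆ (Finset.univ.map y)ᶜ := fun z hz => Finset.mem_compl.2 fun hz' => by
    obtain ⟨i, -, rfl⟩ := Finset.mem_map.1 hz'
    exact Perm.mem_support.1 hz (mem_stab.1 hg i)
  have h2 := Finset.card_le_card h1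
  rw [Finset.card_compl, Finset.card_map, Finset.card_univ, Fintype.card_fin] at h2
  have h4 : 4 ≤ Fintype.card α := by simpa using Fintype.card_le_of_embedding y
  omega

theorem main (G : Subgroup (Perm α)) (hG : IsMultiplyPretransitive G α 4) (x : Fin 4 ↪ α)
    (hodd : Odd (Nat.card (stabilizer G x))) :
    ((Fintype.card α = 4 ∨ Fintype.card α = 5) ∧ G = ⊤) ∨
      ((Fintype.card α = 6 ∨ Fintype.card α = 7) ∧ G = alternatingGroup α) ∨
      (Fintype.card α = 11 ∧ Nat.card G = 7920) := by
  have h4 : 4 ≤ Fintype.card α := by simpa using Fintype.card_le_of_embedding x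
  have : Nontrivial α := Fintype.one_lt_card_iff_nontrivial.1 (by omega)
  by_cases h5 : Fintype.card α ≤ 5
  · refine Or.inl ⟨by omega, Equiv.Perm.eq_top_of_isMultiplyPretransitive ?_⟩
    haveI := hG
    exact MulAction.isMultiplyPretransitive_of_le (n := 4) (by rw [Nat.card_eq_fintype_card]; omega)
      (by rw [Nat.card_eq_fintype_card]; omega)
  have h2 : IsMultiplyPretransitive G α 2 := by
    haveI := hG
    exact MulAction.isMultiplyPretransitive_of_le (n := 4) (by omega)
      (by rw [Nat.card_eq_fintype_card]; omega)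
  have hprim := MulAction.isPreprimitive_of_is_two_pretransitive h2
  by_cases h8 : Fintype.card α ≤ 7
  · refine Or.inr (Or.inl ⟨by omega, (alt_or_top ?_).resolve_right (ne_top hG hodd (by omega))⟩)
    by_cases h6 : Fintype.card α = 6
    · refine IsMultiplyPretransitive.alternatingGroup_le α G ?_
      rw [Nat.card_eq_fintype_card, h6]
      exact hG
    by_cases hs : ∀ y : Fin 4 ↪ α, stabilizer G y = ⊥
    · haveI := hG
      exact absurd (Cfsg.Agent.S0415.result G h4 hs) (by omega)
    push Not at hs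
    obtain ⟨y, hy⟩ := hs
    obtain ⟨g, hgy, hg1⟩ := (Subgroup.bot_or_exists_ne_one _).resolve_left hy
    have hg1' : (g : Perm α) ≠ 1 := fun e => hg1 (Subtype.ext e)
    have hsupp := support_le hgy
    have h2' : 2 ≤ (g : Perm α).support.card := Perm.two_le_card_support_of_ne_one hg1'
    have hne2 : (g : Perm α).support.card ≠ 2 := fun e => by
      obtain ⟨a, b, hab, he⟩ := Perm.card_support_eq_two.1 e
      have ho := odd_order hG hodd y g.2 (mem_stab.1 hgy)
      rw [he, orderOf_eq_prime (p := 2) (by rw [pow_two, Equiv.swap_mul_self])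
        (fun e => hab (Equiv.swap_eq_one_iff.1 e))] at ho
      exact absurd ho (by decide)
    exact Equiv.Perm.alternatingGroup_le_of_isPreprimitive_of_isThreeCycle_mem hprim
      (card_support_eq_three_iff.1 (by omega)) g.2
  have h11 := CfsgLib.ClassSizes.OddFour.degree_eq_eleven hG (invFixLE hG hodd) (by omega) x
  refine Or.inr (Or.inr ⟨h11, ?_⟩)
  suffices hx : stabilizer G x = ⊥ by
    rw [card_of_sharp hG x hx, h11]
    decide
  by_contra hx
  have h1 : Nat.card (stabilizer G x) ≠ 1 := fun h => hx (Subgroup.eq_bot_of_card_eq _ h)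
  obtain ⟨q, hq, hqd⟩ := Nat.exists_prime_and_dvd h1
  have := Fact.mk hq
  obtain ⟨g, hg⟩ := exists_prime_orderOf_dvd_card' q hqd
  have ho : orderOf ((g : G) : Perm α) = q := by rw [Subgroup.orderOf_coe, Subgroup.orderOf_coe, hg]
  have hq2 : q ≠ 2 := fun h => by
    rw [h] at hqd
    exact absurd (hodd.of_dvd_nat hqd) (by decide)
  have hsupp := support_le g.2
  obtain ⟨m, hm⟩ := Equiv.Perm.cycleType_prime_order (σ := ((g : G) : Perm α)) (by rw [ho]; exact hq)
  have hsum := Equiv.Perm.sum_cycleType ((g : G) : Perm α)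
  rw [hm, Multiset.sum_replicate, smul_eq_mul, ho] at hsum
  have hq7 : q ≤ 7 := by
    have := Nat.le_mul_of_pos_left q (Nat.succ_pos m)
    rw [Nat.succ_eq_add_one] at this
    omega
  refine not_alt_le hG hodd (by omega) ?_
  by_cases hq3 : q = 3
  · exact alt_of_order_three hG (by omega) g.1.2 (by rw [ho, hq3]) (by omega)
  have hq5 : q = 5 ∨ q = 7 := by
    have := hq.two_le
    interval_cases q <;> first | omega | (norm_num at hq)
  obtain rfl : m = 0 := by
    rcases hq5 with rfl | rfl <;> omega
  refine CfsgLib.ClassSizes.alternatingGroup_le_of_primeCycle G hprim hq (by omega) ?_ (by omega) g.1.2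
  rw [← Perm.card_cycleType_eq_one, hm]
  simp


/-- Let `G` be a `4`-fold transitive permutation group on a finite set of `n` points in which the pointwise stabilizer of some four distinct points has odd order. Then `n = 4` or `n = 5` with `G` the full symmetric group, or `n = 6` or `n = 7` with `G` the alternating group, or `n = 11` and `G` has order `7920`. -/
theorem result {α : Type*} [Fintype α] [DecidableEq α] (G : Subgroup (Equiv.Perm α)) (hG : MulAction.IsMultiplyPretransitive G α 4) (x : Fin 4 ↪ α) (hodd : Odd (Nat.card (MulAction.stabilizer G x))) : ((Fintype.card α = 4 ∨ Fintype.card α = 5) ∧ G = ⊤) ∨ ((Fintype.card α = 6 ∨ Fintype.card α = 7) ∧ G = alternatingGroup α) ∨ (Fintype.card α = 11 ∧ Nat.card G = 7920) := 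
  main G hG x hodd

end Cfsg.Agent.S4221
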