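import Cfsg.Statements.S4222


set_option autoImplicit false
open Cfsg

namespace Cfsg.Agent.S4222

/-- If a normal subgroup `N` of a finite group is complete (its centre is trivial and every automorphism of `N` is inner), then the group is the internal direct product of `N` and the centralizer of `N`: the centralizer is a complement to `N`. -/
theorem result {T : Type*} [Group T] [Finite T] (N : Subgroup T) [N.Normal] (hz : Subgroup.center ↥N = ⊥) (ha : Function.Surjective (MulAut.conj : ↥N →* MulAut ↥N)) : (Subgroup.centralizer (N : Set T)).IsComplement' N := by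
  apply Subgroup.isComplement'_of_disjoint_and_mul_eq_univ
  · rw [Subgroup.disjoint_def]
    intro z hz hzN
    have : (⟨z, hzN⟩ : N) ∈ Subgroup.center ↥N :=
      Subgroup.mem_center_iff.2 fun w => Subtype.ext (Subgroup.mem_centralizer_iff.1 hz w w.2)
    rw [‹Subgroup.center ↥N = ⊥›, Subgroup.mem_bot] at this
    exact congrArg Subtype.val this
  · rw [Set.eq_univ_iff_forall]
    intro t
    obtain ⟨n, hn⟩ := ha (MulAut.conjNormal t)
    refine ⟨t * (n : T)⁻¹, ?_, n, n.2, inv_mul_cancel_right _ _⟩
    rw [SetLike.mem_coe, Subgroup.mem_centralizer_iff]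
    intro w hw
    have hw' : (n : T)⁻¹ * w * n ∈ N := mul_mem (mul_mem (inv_mem n.2) hw) n.2
    have h := congrArg (fun f : MulAut ↥N => ((f ⟨_, hw'⟩ : N) : T)) hn
    simp only [MulAut.conj_apply, MulAut.conjNormal_apply, Subgroup.coe_mul, InvMemClass.coe_inv] at h
    rw [show (n : T) * ((n : T)⁻¹ * w * n) * (n : T)⁻¹ = w by group] at h
    calc w * (t * (n : T)⁻¹) = t * ((n : T)⁻¹ * w * n) * t⁻¹ * (t * (n : T)⁻¹) := by rw [← h]
      _ = t * (n : T)⁻¹ * w := by group

end Cfsg.Agent.S4222
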