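import Cfsg.Statements.S4227
import Cfsg.Agent.Lib.PLocal.PLength
import Cfsg.Agent.Lib.Core.SolvableStruct
import Cfsg.Agent.Lib.Core.Coprime
import Cfsg.Agent.Lib.PGroups.Basic
import Cfsg.Agent.Lib.Char.Burnside

set_option autoImplicit false
open Cfsg

namespace Cfsg.Agent.S4227

theorem core {V : Type*} [CommGroup V] (h3 : ∀ v : V, v ^ 3 = 1) (A X : MulAut V) (hA : A * A = 1)
    (hX : X * X * X = 1) (hAB : A * (X * A * X⁻¹) = (X * A * X⁻¹) * A)
    (hC : X * (X * A * X⁻¹) * X⁻¹ = A * (X * A * X⁻¹))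
    (hN : ∀ v, v * X v * X (X v) = 1) : A = 1 := by
  set B := X * A * X⁻¹ with hB
  have hsq : ∀ u : V, u * u = 1 → u = 1 := by
    intro u hu
    have := h3 u
    rw [pow_succ, pow_two, hu, one_mul] at this
    exact this
  have hBB : B * B = 1 := by
    rw [hB]
    calc X * A * X⁻¹ * (X * A * X⁻¹) = X * (A * A) * X⁻¹ := by group
      _ = 1 := by rw [hA, mul_one, mul_inv_cancel]
  have hAa : ∀ v, A (A v) = v := fun v => by rw [← MulAut.mul_apply, hA, MulAut.one_apply]
  have hBb : ∀ v, B (B v) = v := fun v => by rw [← MulAut.mul_apply, hBB, MulAut.one_apply]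
  have hcomm : ∀ v, A (B v) = B (A v) := fun v => by rw [← MulAut.mul_apply, hAB, MulAut.mul_apply]
  have hXA : ∀ v, B (X v) = X (A v) := fun v => by
    rw [hB, ← MulAut.mul_apply, inv_mul_cancel_right, MulAut.mul_apply]
  have hXB : ∀ v, A (B (X v)) = X (B v) := fun v => by
    show (A * B) (X v) = X (B v)
    rw [← hC, ← MulAut.mul_apply, inv_mul_cancel_right, MulAut.mul_apply]
  have claim : ∀ e, A e = e⁻¹ → B e = e := by
    intro e he
    have hu1 : A (e * (B e)⁻¹) = (e * (B e)⁻¹)⁻¹ := by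
      rw [map_mul, map_inv, hcomm, he, map_inv, inv_inv, mul_inv_rev, inv_inv, mul_comm]
    have hu2 : B (e * (B e)⁻¹) = (e * (B e)⁻¹)⁻¹ := by
      rw [map_mul, map_inv, hBb, mul_inv_rev, inv_inv]
    generalize hu : e * (B e)⁻¹ = u at hu1 hu2
    have hy2 : B (X u) = (X u)⁻¹ := by rw [hXA, hu1, map_inv]
    have hyC : A (B (X u)) = (X u)⁻¹ := by rw [hXB, hu2, map_inv]
    have hzC : A (B (X (X u))) = (X (X u))⁻¹ := by rw [hXB, hy2, map_inv]
    have huC : A (B u) = u := by rw [hu2, map_inv, hu1, inv_inv]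
    have h1 : A (B (u * X u * X (X u))) = 1 := by rw [hN, map_one, map_one]
    rw [map_mul, map_mul, map_mul, map_mul, huC, hyC, hzC] at h1
    have h4 : u * u = 1 := by
      calc u * u = (u * (X u)⁻¹ * (X (X u))⁻¹) * (u * X u * X (X u)) := by
            rw [mul_mul_mul_comm (u * (X u)⁻¹), mul_mul_mul_comm u, inv_mul_cancel, inv_mul_cancel, mul_one, mul_one]
        _ = 1 := by rw [h1, hN, mul_one]
    have h5 := hsq u h4
    rw [h5, mul_inv_eq_one] at hu
    exact hu.symm
  ext v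
  have he : A (v * (A v)⁻¹) = (v * (A v)⁻¹)⁻¹ := by
    rw [map_mul, map_inv, hAa, mul_inv_rev, inv_inv]
  generalize hev : v * (A v)⁻¹ = e at he
  have hbe := claim e he
  have hy2 : B (X e) = (X e)⁻¹ := by rw [hXA, he, map_inv]
  have hy1 : A (X e) = (X e)⁻¹ := by
    have h1 : A (B (X e)) = X e := by rw [hXB, hbe]
    rw [hy2, map_inv] at h1
    rw [← inv_inj, h1, inv_inv]
  have h6 := claim (X e) hy1
  rw [hy2] at h6
  have h7 : X e = 1 := hsq _ (by nth_rw 1 [← h6]; exact inv_mul_cancel _)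
  have h8 : e = 1 := X.injective (by rw [h7, map_one])
  rw [h8, mul_inv_eq_one] at hev
  rw [MulAut.one_apply]
  exact hev.symm

open Cfsg Subgroup in
open scoped commutatorElement in
theorem three_index.{u} {G : Type u} [Group G] [Finite G] [Group.IsSolvable G] (h : ∀ x : G, x ^ 6 = 1)
    (hO : pPrimeCore 3 G = ⊥) : ¬ 3 ∣ (pCore 3 G).index := by
  haveI : Fact (Nat.Prime 3) := ⟨Nat.prime_three⟩
  haveI : Fact (Nat.Prime 2) := ⟨Nat.prime_two⟩
  intro hdvd
  set V := pCore 3 G with hV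
  have hCV : centralizer (V : Set G) ≤ V := CfsgLib.Core.centralizer_pCore_le_of_pPrimeCore_eq_bot hO
  have hVp : IsPGroup 3 V := CfsgLib.Core.isPGroup_pCore 3 G
  have hV1 : ∀ v ∈ V, v ^ 2 = 1 → v = 1 := by
    intro v hv hv2
    obtain ⟨k, hk⟩ := IsPGroup.iff_orderOf.1 hVp ⟨v, hv⟩
    rw [Subgroup.orderOf_mk] at hk
    rw [← orderOf_eq_one_iff]
    exact Nat.eq_one_of_dvd_coprimes ((Nat.Coprime.pow_left k (by norm_num : Nat.Coprime 3 2)))
      (hk ▸ dvd_rfl) (orderOf_dvd_of_pow_eq_one hv2)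
  have hV3 : ∀ v ∈ V, v ^ 3 = 1 := fun v hv => hV1 _ (pow_mem hv 3) (by rw [← pow_mul]; exact h v)
  -- the quotient by the three-core
  set Q := G ⧸ V
  haveI : Group.IsSolvable Q := Group.isSolvable_of_surjective (QuotientGroup.mk'_surjective V)
  set W := pCore 2 Q with hW
  have hQO : pPrimeCore 2 Q = ⊥ := by
    set M := pPrimeCore 2 Q
    have h3 : pCore 3 Q = ⊥ := CfsgLib.Core.pCore_quotient_pCore 3 G
    have hM : IsPGroup 3 M := by
      intro m
      refine ⟨1, ?_⟩
      obtain ⟨m, hg⟩ := m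
      obtain ⟨g, rfl⟩ := QuotientGroup.mk_surjective m
      apply Subtype.ext
      show (QuotientGroup.mk g : Q) ^ (3 ^ 1) = 1
      have h2 : ((QuotientGroup.mk g : Q) ^ 3) ^ 2 = 1 := by
        rw [← pow_mul, ← QuotientGroup.mk_pow, h]; rfl
      have hc : (orderOf ((QuotientGroup.mk g : Q) ^ 3)).Coprime 2 :=
        (CfsgLib.Core.coprime_card_pPrimeCore 2 Q).coprime_dvd_left (by
          have := orderOf_dvd_natCard (⟨_, pow_mem hg 3⟩ : M)
          rwa [Subgroup.orderOf_mk] at this)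
      rw [pow_one, ← orderOf_eq_one_iff]
      exact Nat.eq_one_of_dvd_coprimes hc dvd_rfl (orderOf_dvd_of_pow_eq_one h2)
    exact le_bot_iff.1 (h3 ▸ CfsgLib.Core.le_pCore hM)
  have hCW : centralizer (W : Set Q) ≤ W := CfsgLib.Core.centralizer_pCore_le_of_pPrimeCore_eq_bot hQO
  have hWp : IsPGroup 2 W := CfsgLib.Core.isPGroup_pCore 2 Q
  have hW2 : ∀ w ∈ W, w * w = 1 := by
    intro m hg
    obtain ⟨g, rfl⟩ := QuotientGroup.mk_surjective m
    obtain ⟨k, hk⟩ := IsPGroup.iff_orderOf.1 hWp ⟨_, hg⟩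
    rw [Subgroup.orderOf_mk] at hk
    have h6 : orderOf (QuotientGroup.mk g : Q) ∣ 6 := orderOf_dvd_of_pow_eq_one (by rw [← QuotientGroup.mk_pow, h]; rfl)
    have h2 : orderOf (QuotientGroup.mk g : Q) ∣ 2 := by
      rw [show (6 : ℕ) = 2 * 3 from rfl] at h6
      refine Nat.Coprime.dvd_of_dvd_mul_right ?_ h6
      show (orderOf (QuotientGroup.mk g : Q)).Coprime 3
      exact hk ▸ Nat.Coprime.pow_left k (by norm_num)
    rw [← pow_two]
    exact orderOf_dvd_iff_pow_eq_one.1 h2
  have hWc : ∀ s ∈ W, ∀ t ∈ W, s * t = t * s := by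
    intro s hs t ht
    have h1 := hW2 _ (mul_mem hs ht)
    calc s * t = s * ((s * t) * (s * t)) * t := by rw [h1, mul_one]
      _ = (s * s) * (t * s) * (t * t) := by group
      _ = t * s := by rw [hW2 s hs, hW2 t ht, one_mul, mul_one]
  -- a three-element moving an element of `W`
  obtain ⟨x, hx⟩ := exists_prime_orderOf_dvd_card' (G := Q) 3 (by rwa [← index_eq_card])
  have hxp : x ^ 3 = 1 := orderOf_dvd_iff_pow_eq_one.1 hx.dvd
  have hx3 : x * x * x = 1 := by rw [← pow_two, ← pow_succ]; exact hxp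
  obtain ⟨w, hw, hwx⟩ : ∃ w ∈ W, x * w ≠ w * x := by
    by_contra hcon
    push Not at hcon
    have hxW : x ∈ W := hCW (mem_centralizer_iff.2 fun w hw => (hcon w hw).symm)
    have h2 := hW2 x hxW
    rw [← pow_two] at h2
    have := orderOf_dvd_of_pow_eq_one h2
    rw [hx] at this
    exact absurd (Nat.le_of_dvd (by norm_num) this) (by norm_num)
  have hWn : ∀ t ∈ W, x * t * x⁻¹ ∈ W := fun t ht => Normal.conj_mem inferInstance t ht x
  set a := w * (x * w * x⁻¹) with ha
  set b := x * a * x⁻¹ with hb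
  have haW : a ∈ W := mul_mem hw (hWn w hw)
  have hbW : b ∈ W := hWn a haW
  have hane : a ≠ 1 := fun h1 => hwx (by
    rw [ha, mul_eq_one_iff_eq_inv] at h1
    have h2 : w⁻¹ = w := inv_eq_of_mul_eq_one_right (hW2 w hw)
    have h3 : x * w * x⁻¹ = w := by
      rw [← inv_inj, ← h1, h2]
    rwa [mul_inv_eq_iff_eq_mul] at h3)
  have hc : x * b * x⁻¹ = a * b := by
    have e1 : x * b * x⁻¹ = (x * (x * w * x⁻¹) * x⁻¹) * w := by
      rw [hb, ha]
      calc _ = x * (x * w * x⁻¹) * x⁻¹ * ((x * x * x) * w * (x * x * x)⁻¹) := by group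
        _ = _ := by rw [hx3]; group
    have e2 : a * b = w * (x * (x * w * x⁻¹) * x⁻¹) := by
      rw [hb, ha]
      calc _ = w * ((x * w * x⁻¹) * (x * w * x⁻¹)) * (x * (x * w * x⁻¹) * x⁻¹) := by group
        _ = _ := by rw [hW2 _ (hWn w hw), mul_one]
    rw [e1, e2]
    exact hWc _ (hWn _ (hWn w hw)) w hw
  -- action on the Frattini quotient
  set Φ := (frattini V).map V.subtype with hΦ
  haveI : Φ.Normal := inferInstance
  have hΦV : Φ ≤ V := map_subtype_le _
  set π := QuotientGroup.mk' Φ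
  set U := V.map π
  haveI : U.Normal := Subgroup.Normal.map inferInstance _ (QuotientGroup.mk'_surjective Φ)
  have hUc : IsMulCommutative U := ⟨⟨by
    rintro ⟨_, s, hs, rfl⟩ ⟨_, t, ht, rfl⟩
    apply Subtype.ext
    show π s * π t = π t * π s
    rw [← map_mul, ← map_mul]
    refine QuotientGroup.eq.2 ?_
    have h1 := CfsgLib.PGroups.commutator_le_frattini' hVp
      (commutator_mem_commutator (mem_top (⟨t, ht⟩⁻¹ : V)) (mem_top (⟨s, hs⟩⁻¹ : V)))
    have h2 : V.subtype ⁅(⟨t, ht⟩⁻¹ : V), (⟨s, hs⟩⁻¹ : V)⁆ ∈ Φ := mem_map_of_mem _ h1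
    rw [map_commutatorElement, map_inv, map_inv, commutatorElement_def] at h2
    simpa [mul_assoc] using h2⟩⟩
  open scoped IsMulCommutative in
  letI : CommGroup U := inferInstance
  let ρ : G →* MulAut U := (MulAut.conjNormal).comp π
  have hρ : ∀ g (v : U), ((ρ g v : U) : G ⧸ Φ) = π g * v * (π g)⁻¹ := fun g v => MulAut.conjNormal_apply _ _
  have hker : V ≤ ρ.ker := by
    intro v hv
    refine MulEquiv.ext fun u => Subtype.ext ?_
    rw [hρ, MulAut.one_apply]
    have h1 : π v * (u : G ⧸ Φ) = (u : G ⧸ Φ) * π v :=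
      congrArg Subtype.val (hUc.is_comm.comm (⟨π v, mem_map_of_mem π hv⟩ : U) u)
    rw [h1, mul_inv_cancel_right]
  let σ : Q →* MulAut U := QuotientGroup.lift V ρ hker
  have h3U : ∀ u : U, u ^ 3 = 1 := by
    rintro ⟨_, v, hv, rfl⟩
    apply Subtype.ext
    show (π v) ^ 3 = 1
    rw [← map_pow, hV3 v hv, map_one]
  obtain ⟨xl, hxl⟩ := QuotientGroup.mk'_surjective V x
  have hxl3 : xl * xl * xl = 1 := by
    have h1 : xl * xl * xl ∈ V := (QuotientGroup.eq_one_iff _).1 (by
      show QuotientGroup.mk' V (xl * xl * xl) = 1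
      rw [map_mul, map_mul, hxl, hx3])
    refine hV1 _ h1 ?_
    rw [show xl * xl * xl = xl ^ 3 by rw [pow_succ, pow_two], ← pow_mul]
    exact h xl
  have hN : ∀ u : U, u * σ x u * σ x (σ x u) = 1 := by
    rintro ⟨_, v, hv, rfl⟩
    apply Subtype.ext
    rw [← hxl]
    show π v * ((ρ xl _ : U) : G ⧸ Φ) * ((ρ xl (ρ xl _) : U) : G ⧸ Φ) = 1
    simp only [hρ]
    have h1 : (v * xl) ^ 3 = 1 := by
      refine hV1 _ ((QuotientGroup.eq_one_iff _).1 ?_) (by rw [← pow_mul]; exact h _)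
      show QuotientGroup.mk' V ((v * xl) ^ 3) = 1
      rw [map_pow, map_mul, show QuotientGroup.mk' V v = 1 from (QuotientGroup.eq_one_iff v).2 hv, one_mul, hxl]
      exact hxp
    have h2 : v * (xl * v * xl⁻¹) * (xl * (xl * v * xl⁻¹) * xl⁻¹) = 1 := by
      calc _ = (v * xl) ^ 3 * (xl * xl * xl)⁻¹ := by simp only [pow_succ, pow_zero, one_mul]; group
        _ = 1 := by rw [h1, hxl3, inv_one, mul_one]
    have h3 := congrArg π h2
    simpa only [map_mul, map_inv, map_one] using h3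
  have hσa : σ a = 1 := by
    refine core h3U (σ a) (σ x) ?_ ?_ ?_ ?_ hN
    · rw [← map_mul, hW2 a haW, map_one]
    · rw [← map_mul, ← map_mul, hx3, map_one]
    · rw [← map_inv, ← map_mul, ← map_mul, ← map_mul, ← map_mul, ← hb, hWc a haW b hbW]
    · rw [← map_inv, ← map_mul, ← map_mul, ← map_mul, ← map_mul, ← map_mul, ← hb, hc]
  obtain ⟨a₁, ha₁⟩ := QuotientGroup.mk'_surjective V a
  set al := a₁ ^ 3 with hal
  have hal' : QuotientGroup.mk' V al = a := by
    rw [hal, map_pow, ha₁, pow_succ, pow_two, hW2 a haW, one_mul]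
  have hal2 : orderOf al ∣ 2 := orderOf_dvd_of_pow_eq_one (by rw [hal, ← pow_mul]; exact h a₁)
  have hcen : zpowers al ≤ centralizer (V : Set G) := by
    refine CfsgLib.Core.centralizes_of_centralizes_frattini_quotient
      (zpowers_le.2 (by rw [normalizer_eq_top_iff.2 inferInstance]; trivial)) ?_ ?_
    · rw [Nat.card_zpowers]
      obtain ⟨k, hk⟩ := IsPGroup.iff_card.1 (hVp.to_subgroup (frattini V))
      rw [hk]
      exact (Nat.Coprime.pow_right k (by norm_num : Nat.Coprime 2 3)).coprime_dvd_left hal2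
    · intro s hs v hv
      obtain ⟨i, rfl⟩ := mem_zpowers_iff.1 hs
      have h1 : ρ (al ^ i) = 1 := by
        have : ρ al = 1 := by
          have h2 : σ (QuotientGroup.mk' V al) = ρ al := rfl
          rw [← h2, hal', hσa]
        rw [map_zpow, this, one_zpow]
      have h4 := hρ (al ^ i) ⟨π v, mem_map_of_mem π hv⟩
      rw [h1] at h4
      refine (QuotientGroup.eq_one_iff _).1 ?_
      show π (al ^ i * v * (al ^ i)⁻¹ * v⁻¹) = 1
      rw [map_mul, map_mul, map_mul, map_inv, map_inv, ← h4]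
      exact mul_inv_cancel _
  apply hane
  rw [← hal']
  exact (QuotientGroup.eq_one_iff al).2 (hCV (hcen (mem_zpowers al)))

/-- A finite group in which every element has order dividing `6` has `2`-length at most `1` and `3`-length at most `1`. -/
theorem result {G : Type*} [Group G] [Finite G] (h : ∀ x : G, x ^ 6 = 1) : Cfsg.PLengthLE 2 1 G ∧ Cfsg.PLengthLE 3 1 G := by
  haveI : Fact (Nat.Prime 2) := ⟨Nat.prime_two⟩
  haveI : Fact (Nat.Prime 3) := ⟨Nat.prime_three⟩
  haveI hsol : Group.IsSolvable G := by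
    have hsupp : ∀ q : ℕ, q.Prime → q ∣ Nat.card G → q = 2 ∨ q = 3 := by
      intro q hq hd
      haveI := Fact.mk hq
      obtain ⟨g, hg⟩ := exists_prime_orderOf_dvd_card' (G := G) q hd
      have h6 : q ∣ 6 := hg ▸ orderOf_dvd_of_pow_eq_one (h g)
      have := Nat.le_of_dvd (by norm_num) h6
      interval_cases q <;> first | omega | (norm_num at hq) | (norm_num at h6)
    refine CfsgLib.Burnside.isSolvable_of_card_eq (p := 2) (q := 3) (a := (Nat.card G).factorization 2)
      (b := (Nat.card G).factorization 3) Nat.prime_two Nat.prime_three ?_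
    have hsub : (Nat.card G).factorization.support ⊆ {2, 3} := by
      intro q hq
      rw [Nat.support_factorization, Nat.mem_primeFactors] at hq
      rcases hsupp q hq.1 hq.2.1 with rfl | rfl <;> simp
    conv_lhs => rw [← Nat.prod_factorization_pow_eq_self (Nat.card_pos (α := G)).ne']
    rw [Finsupp.prod_of_support_subset _ hsub _ (fun _ _ => pow_zero _), Finset.prod_pair (by norm_num)]
  refine ⟨?_, ?_⟩
  · obtain ⟨S⟩ : Nonempty (Sylow 2 G) := inferInstance
    have hS2 : ∀ s : (S : Subgroup G), s * s = 1 := by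
      intro s
      obtain ⟨k, hk⟩ := IsPGroup.iff_orderOf.1 S.2 s
      have h6 : orderOf s ∣ 2 * 3 := orderOf_dvd_of_pow_eq_one (Subtype.ext (h (s : G)))
      have h2 : orderOf s ∣ 2 := Nat.Coprime.dvd_of_dvd_mul_right (hk ▸ Nat.Coprime.pow_left k (by norm_num)) h6
      rw [← pow_two]
      exact orderOf_dvd_iff_pow_eq_one.1 h2
    have hSc : IsMulCommutative (S : Subgroup G) := ⟨⟨fun s t => by
      calc s * t = s * ((s * t) * (s * t)) * t := by rw [hS2, mul_one]
        _ = (s * s) * (t * s) * (t * t) := by group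
        _ = t * s := by rw [hS2, hS2, one_mul, mul_one]⟩⟩
    have hn := CfsgLib.Core.sylow_sup_pPrimeCore_normal_of_abelian S hSc
    rw [Cfsg.PLengthLE, CfsgLib.PLocal.upper_odd]
    set U2 := (Cfsg.upperPSeries 2 G (2 * 1)).1 with hU2
    set U1 := (Cfsg.upperPSeries 2 G (2 * 0 + 1)).1 with hU1
    set π := QuotientGroup.mk' U1 with hπ
    have hsurj : Function.Surjective π := QuotientGroup.mk'_surjective U1
    have h2 : U2 = (Cfsg.pCore 2 (G ⧸ U1)).comap π := CfsgLib.PLocal.upper_even 0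
    have hP0 : (Cfsg.pPrimeCore 2 G).map π = ⊥ := by
      haveI : ((Cfsg.pPrimeCore 2 G).map π).Normal := Subgroup.Normal.map inferInstance _ hsurj
      rw [eq_bot_iff, ← CfsgLib.PLocal.pPrimeCore_quotient_upper_odd (p := 2) (G := G) 0]
      exact CfsgLib.Core.le_pPrimeCore ((CfsgLib.Core.coprime_card_pPrimeCore 2 G).coprime_dvd_left
        (Subgroup.card_map_dvd _ π))
    have hSU : (S : Subgroup G) ≤ U2 := by
      rw [h2, ← Subgroup.map_le_iff_le_comap]
      have he : ((S : Subgroup G) ⊔ Cfsg.pPrimeCore 2 G).map π = (S : Subgroup G).map π := by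
        rw [Subgroup.map_sup, hP0, sup_bot_eq]
      haveI : ((S : Subgroup G).map π).Normal := he ▸ Subgroup.Normal.map hn _ hsurj
      exact CfsgLib.Core.le_pCore (S.2.map π)
    rw [eq_top_iff, ← Subgroup.map_le_iff_le_comap]
    refine CfsgLib.Core.le_pPrimeCore (N := (⊤ : Subgroup G).map _) (h := ?_)
    rw [← Subgroup.relIndex_ker, QuotientGroup.ker_mk', Subgroup.relIndex_top_right]
    exact ((Nat.Prime.coprime_iff_not_dvd Fact.out).2
      fun hd => S.not_dvd_index (hd.trans (Subgroup.index_dvd_of_le hSU))).symm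
  · rw [Cfsg.PLengthLE, CfsgLib.PLocal.upper_odd]
    set U2 := (Cfsg.upperPSeries 3 G (2 * 1)).1 with hU2
    set U1 := (Cfsg.upperPSeries 3 G (2 * 0 + 1)).1 with hU1
    have h2 : U2 = (Cfsg.pCore 3 (G ⧸ U1)).comap (QuotientGroup.mk' U1) := CfsgLib.PLocal.upper_even 0
    haveI : Group.IsSolvable (G ⧸ U1) := Group.isSolvable_of_surjective (QuotientGroup.mk'_surjective U1)
    have hkey := three_index (G := G ⧸ U1) (fun y => by
      obtain ⟨g, rfl⟩ := QuotientGroup.mk'_surjective U1 y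
      rw [← map_pow, h, map_one]) (CfsgLib.PLocal.pPrimeCore_quotient_upper_odd 0)
    have hi : ¬ 3 ∣ U2.index := by
      rw [h2, Subgroup.index_comap_of_surjective _ (QuotientGroup.mk'_surjective U1)]
      exact hkey
    rw [eq_top_iff, ← Subgroup.map_le_iff_le_comap]
    refine CfsgLib.Core.le_pPrimeCore (N := (⊤ : Subgroup G).map _) (h := ?_)
    rw [← Subgroup.relIndex_ker, QuotientGroup.ker_mk', Subgroup.relIndex_top_right]
    exact ((Nat.Prime.coprime_iff_not_dvd Fact.out).2 hi).symm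

end Cfsg.Agent.S4227
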