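import Cfsg.Statements.S4231
import Cfsg.Agent.Lib.ClassSizes.AlternatingAut
import Cfsg.Agent.S3835

set_option autoImplicit false
open Cfsg

namespace Cfsg.Agent.S4231

open Equiv Equiv.Perm

/-- Two disjoint cycles give an even permutation of order `p * q`. -/
theorem exists_order_mul {n p q : ℕ} (hp : p.Prime) (hq : q.Prime) (hpq : p ≠ q) (hn : p ^ 2 ≤ n)
    (hn' : q ^ 2 ≤ n) : ∃ g : alternatingGroup (Fin n), orderOf g = p * q := by
  wlog h : p ≤ q generalizing p q
  · obtain ⟨g, hg⟩ := this hq hp (Ne.symm hpq) hn' hn (by omega)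
    exact ⟨g, by rw [hg, mul_comm]⟩
  have hq3 : 3 ≤ q := by have := hp.two_le; omega
  have hlcm : Nat.lcm p q = p * q := Nat.Coprime.lcm_eq_mul ((Nat.coprime_primes hp hq).2 hpq)
  have hqo : Odd q := hq.odd_of_ne_two (by omega)
  have h1 : 3 * q ≤ q ^ 2 := by rw [sq]; exact Nat.mul_le_mul_right q hq3
  rcases hp.eq_two_or_odd' with rfl | hpo
  · obtain ⟨g, hg⟩ := (Perm.exists_with_cycleType_iff (α := Fin n) (m := {2, 2, q})).2
      ⟨by simp [Fintype.card_fin]; omega, by simp; omega⟩
    refine ⟨⟨g, ?_⟩, ?_⟩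
    · rw [Perm.mem_alternatingGroup, Perm.sign_of_cycleType, hg]
      simp only [Multiset.insert_eq_cons, Multiset.sum_cons, Multiset.card_cons, Multiset.sum_singleton,
        Multiset.card_singleton]
      exact Even.neg_one_pow (by obtain ⟨r, rfl⟩ := hqo; exact ⟨r + 4, by ring⟩)
    · rw [← Subgroup.orderOf_coe, ← Perm.lcm_cycleType, hg]
      simp only [Multiset.insert_eq_cons, Multiset.lcm_cons, Multiset.lcm_singleton, lcm_eq_nat_lcm, normalize_eq]
      rw [hlcm, Nat.lcm_eq_right (dvd_mul_right 2 q)]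
  · obtain ⟨g, hg⟩ := (Perm.exists_with_cycleType_iff (α := Fin n) (m := {p, q})).2
      ⟨by simp [Fintype.card_fin]; omega, by simp [hp.two_le, hq.two_le]⟩
    refine ⟨⟨g, ?_⟩, ?_⟩
    · rw [Perm.mem_alternatingGroup, Perm.sign_of_cycleType, hg]
      simp only [Multiset.insert_eq_cons, Multiset.sum_cons, Multiset.card_cons, Multiset.sum_singleton,
        Multiset.card_singleton]
      exact Even.neg_one_pow ((hpo.add_odd hqo).add (by decide))
    · rw [← Subgroup.orderOf_coe, ← Perm.lcm_cycleType, hg]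
      simp only [Multiset.insert_eq_cons, Multiset.lcm_cons, Multiset.lcm_singleton, lcm_eq_nat_lcm, normalize_eq]
      rw [hlcm]

/-- Sylow subgroups for odd primes of subgroups of a group of order dividing `1440` are abelian. -/
theorem comm_six {A : Type*} [Group A] [Finite A] (G : Subgroup A) (hA : Nat.card A ∣ 1440) {p : ℕ}
    [hp : Fact p.Prime] (hp2 : p ≠ 2) (P : Sylow p G) : IsMulCommutative (P : Subgroup G) := by
  obtain ⟨k, hk⟩ := P.isPGroup'.exists_card_eq
  have hdvd : p ^ k ∣ 1440 :=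
    hk ▸ ((Subgroup.card_subgroup_dvd_card _).trans (Subgroup.card_subgroup_dvd_card G)).trans hA
  have hk2 : k ≤ 2 := by
    by_contra hcon
    have h3 : p ^ 3 ∣ 1440 := (pow_dvd_pow p (by omega)).trans hdvd
    have hle := Nat.le_of_dvd (by norm_num) h3
    have hp12 : p < 12 := by
      by_contra hcon'
      have := Nat.pow_le_pow_left (not_lt.1 hcon') 3
      omega
    have := hp.out.two_le
    interval_cases p <;> revert h3 hp2 <;> first | decide | (intros; exact absurd hp.out (by decide))
  interval_cases k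
  · haveI := (Nat.card_eq_one_iff_unique.1 (hk.trans (pow_zero p))).1
    exact ⟨⟨fun a b => Subsingleton.elim _ _⟩⟩
  · haveI := isCyclic_of_prime_card (α := (P : Subgroup G)) (p := p) (by simpa using hk)
    exact ⟨⟨fun a b => (IsCyclic.commGroup (α := (P : Subgroup G))).mul_comm a b⟩⟩
  · exact ⟨⟨fun a b => IsPGroup.commutative_of_card_eq_prime_sq hk a b⟩⟩

/-- Let n ≥ 5 and let G be a group of automorphisms of the alternating group of degree n containing all inner automorphisms. If p ≠ q are primes and G has no element of order pq, then every Sylow p-subgroup of G is abelian or every Sylow q-subgroup of G is abelian. -/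
theorem result (n : ℕ) (hn : 5 ≤ n) (G : Subgroup (MulAut (alternatingGroup (Fin n))))
    (hG : (MulAut.conj : alternatingGroup (Fin n) →* MulAut (alternatingGroup (Fin n))).range ≤ G)
    (p q : ℕ) [Fact p.Prime] [Fact q.Prime] (hpq : p ≠ q) (h : ∀ g : G, orderOf g ≠ p * q) :
    (∀ P : Sylow p G, IsMulCommutative (P : Subgroup G)) ∨ (∀ Q : Sylow q G, IsMulCommutative (Q : Subgroup G)) := by
  rcases eq_or_ne n 6 with rfl | h6
  · have hA : Nat.card (MulAut (alternatingGroup (Fin 6))) ∣ 1440 :=
      CfsgLib.ClassSizes.AlternatingAut.card_mulAut_six (α := Fin 6) (Fintype.card_fin 6)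
    rcases eq_or_ne p 2 with rfl | hp2
    · exact Or.inr fun Q => comm_six G hA (Ne.symm hpq) Q
    · exact Or.inl fun P => comm_six G hA hp2 P
  have hbij := CfsgLib.ClassSizes.AlternatingAut.conjNormal_bijective (α := Fin n)
    (by simp; omega) (by simpa using h6)
  let e := MulEquiv.ofBijective _ hbij
  have hsmall : ∀ (r : ℕ) [Fact r.Prime], n < r ^ 2 → ∀ R : Sylow r G, IsMulCommutative (R : Subgroup G) := by
    intro r _ hr R
    exact ⟨⟨Cfsg.Agent.S3835.comm_of_small hr R.isPGroup'
      (e.symm.toMonoidHom.comp (G.subtype.comp (R : Subgroup G).subtype))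
      (e.symm.injective.comp (G.subtype_injective.comp (R : Subgroup G).subtype_injective))⟩⟩
  by_contra hcon
  push Not at hcon
  obtain ⟨⟨P, hP⟩, ⟨Q, hQ⟩⟩ := hcon
  have hnp : p ^ 2 ≤ n := not_lt.1 fun hc => hP (hsmall p hc P)
  have hnq : q ^ 2 ≤ n := not_lt.1 fun hc => hQ (hsmall q hc Q)
  obtain ⟨g, hg⟩ := exists_order_mul (Fact.out : p.Prime) (Fact.out : q.Prime) hpq hnp hnq
  refine h ⟨MulAut.conj g, hG ⟨g, rfl⟩⟩ ?_
  have hinj : Function.Injective (MulAut.conj : alternatingGroup (Fin n) →* MulAut (alternatingGroup (Fin n))) := by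
    intro a b hab
    refine Subtype.ext (hbij.1 (MulEquiv.ext fun x => Subtype.ext ?_))
    rw [MulAut.conjNormal_apply, MulAut.conjNormal_apply]
    exact congrArg Subtype.val (MulEquiv.congr_fun hab x)
  rw [← Subgroup.orderOf_coe, orderOf_injective _ hinj, hg]

end Cfsg.Agent.S4231
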