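import Cfsg.Statements.S4236
import Cfsg.Agent.Lib.HallGen.HallList
import Cfsg.Agent.Lib.ClassSizes.ThirtyFive

set_option autoImplicit false
open Cfsg

namespace Cfsg.Agent.S4236

/-- No finite group has exactly 35 Sylow 17-subgroups. -/
theorem result {G : Type*} [Group G] [Finite G] : Nat.card (Sylow 17 G) ≠ 35 := by
  intro hn
  haveI : Fact (Nat.Prime 17) := ⟨by norm_num⟩
  obtain ⟨l, hl, hm⟩ := CfsgLib.HallGen.exists_hall_list 17 _ G rfl
  rw [hn] at hl
  have h1 : ∀ m ∈ l, m = 1 := by
    intro m hml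
    have hd : m ∈ Nat.divisors 35 := Nat.mem_divisors.2 ⟨hl ▸ List.dvd_prod hml, by norm_num⟩
    rw [show Nat.divisors 35 = {1, 5, 7, 35} by decide] at hd
    simp only [Finset.mem_insert, Finset.mem_singleton] at hd
    rcases hm m hml with ⟨hpp, hmod⟩ | ⟨S, _, _, hS, hmS⟩
    · rcases hd with rfl | rfl | rfl | rfl
      · rfl
      · norm_num at hmod
      · norm_num at hmod
      · exfalso
        obtain ⟨r, k, hr, -, hrk⟩ := hpp
        have h5 : 5 ∣ r ^ k := hrk ▸ by norm_num
        have h7 : 7 ∣ r ^ k := hrk ▸ by norm_num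
        have e5 := (Nat.prime_dvd_prime_iff_eq (by norm_num : Nat.Prime 5) hr.nat_prime).1
          ((by norm_num : Nat.Prime 5).dvd_of_dvd_pow h5)
        have e7 := (Nat.prime_dvd_prime_iff_eq (by norm_num : Nat.Prime 7) hr.nat_prime).1
          ((by norm_num : Nat.Prime 7).dvd_of_dvd_pow h7)
        omega
    · haveI := hS
      have hmod : m % 17 = 1 := by
        rw [hmS]
        exact card_sylow_modEq_one 17 S
      rcases hd with rfl | rfl | rfl | rfl
      · rfl
      · norm_num at hmod
      · norm_num at hmod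
      · exact absurd hmS.symm CfsgLib.ClassSizes.card_sylow_seventeen_ne_thirtyfive
  rw [List.prod_eq_one h1] at hl
  omega

end Cfsg.Agent.S4236
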