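import Cfsg.Statements.S4237
import Cfsg.Agent.Lib.ClassSizes.KulakoffCyclic

set_option autoImplicit false
open Cfsg

namespace Cfsg.Agent.S4237

/-- Let G be a finite group, p a prime and a a natural number such that p^(a+1) divides the order of G. Then the number of subgroups of G of order p^a is congruent to 1 or to 1 + p modulo p². -/
theorem result {G : Type*} [Group G] [Finite G] (p a : ℕ) (hp : p.Prime) (hdvd : p ^ (a + 1) ∣ Nat.card G) :
    Nat.card {H : Subgroup G // Nat.card H = p ^ a} ≡ 1 [MOD p ^ 2] ∨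
      Nat.card {H : Subgroup G // Nat.card H = p ^ a} ≡ 1 + p [MOD p ^ 2] := by
  haveI := Fact.mk hp
  have h1 := CfsgLib.ClassSizes.Kulakoff.card_subgroups_modEq (G := G) (a := a) hp hdvd
  set u := Nat.card {H : Subgroup G // Nat.card H = p ^ (a + 1) ∧ ¬ IsCyclic H}
  have hu : u % p = 0 ∨ u % p = 1 := by
    by_cases hp2 : p = 2
    · subst hp2; omega
    obtain ⟨P⟩ : Nonempty (Sylow p G) := inferInstance
    by_cases ha : a = 0
    · left
      haveI : IsEmpty {H : Subgroup G // Nat.card H = p ^ (a + 1) ∧ ¬ IsCyclic H} := ⟨fun H => H.2.2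
        (isCyclic_of_prime_card (p := p) (by rw [H.2.1, ha, zero_add, pow_one]))⟩
      simp only [u, Nat.card_of_isEmpty, Nat.zero_mod]
    have hs := CfsgLib.ClassSizes.Kulakoff.card_noncyclic_modEq_sylow (b := a + 1) P
    by_cases hc : IsCyclic (P : Subgroup G)
    · left
      haveI : IsEmpty {H : Subgroup (P : Subgroup G) // H.Normal ∧ Nat.card H = p ^ (a + 1) ∧ ¬ IsCyclic H} :=
        ⟨fun H => H.2.2.2 inferInstance⟩
      have h0 : Nat.card {H : Subgroup (P : Subgroup G) // H.Normal ∧ Nat.card H = p ^ (a + 1) ∧ ¬ IsCyclic H} = 0 :=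
        Nat.card_of_isEmpty
      rw [h0] at hs
      exact Eq.trans hs (Nat.zero_mod p)
    · right
      obtain ⟨m, hm⟩ := P.isPGroup'.exists_card_eq
      have hle : a + 1 ≤ m := by
        refine (Nat.pow_dvd_pow_iff_le_right hp.one_lt).1 (hm ▸ ?_)
        rw [P.card_eq_multiplicity]
        exact pow_dvd_pow p ((hp.pow_dvd_iff_le_factorization Nat.card_pos.ne').1 hdvd)
      exact Eq.trans (hs.trans (CfsgLib.ClassSizes.Kulakoff.card_noncyclic_modEq_one hm hc (fun h => absurd h hp2)
        (by omega) hle)) (Nat.mod_eq_of_lt hp.one_lt)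
  rcases hu with hu | hu
  · refine Or.inl (h1.trans ?_)
    have h4 := (Nat.ModEq.mul_left' p (show u ≡ 0 [MOD p] from hu.trans (Nat.zero_mod p).symm))
    rw [mul_zero, ← sq] at h4
    exact h4.add_left 1
  · refine Or.inr (h1.trans ?_)
    have h4 := (Nat.ModEq.mul_left' p (show u ≡ 1 [MOD p] from hu.trans (Nat.mod_eq_of_lt hp.one_lt).symm))
    rw [mul_one, ← sq] at h4
    exact h4.add_left 1

end Cfsg.Agent.S4237
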