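import Cfsg.Statements.S4238
import Cfsg.Agent.Lib.Core.Cores
import Cfsg.Agent.Lib.Transfer.Fusion

set_option autoImplicit false
open Cfsg

namespace Cfsg.Agent.S4238

open Subgroup in
theorem sufficiency.{u} (p : ℕ) [Fact p.Prime] : ∀ n : ℕ, ∀ (G : Type u) [Group G] [Finite G],
    Nat.card G = n →
    (∀ (H : Subgroup G) (K : Type u) [Group K] (f : H →* K), Function.Surjective f →
      Cfsg.pPrimeCore p K = ⊥ → ∃ k : K, orderOf k = Monoid.exponent K) →
    Cfsg.HasNormalPComplement p G := by
  intro n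
  induction n using Nat.strong_induction_on with
  | _ n ih =>
    intro G _ _ hn hsec
    subst hn
    classical
    have hp := (Fact.out : p.Prime)
    have hprop : ∀ H : Subgroup G, H ≠ ⊤ → Cfsg.HasNormalPComplement p H := fun H hH => by
      refine ih _ (lt_of_le_of_ne (Nat.le_of_dvd Nat.card_pos (card_subgroup_dvd_card H))
        fun h => hH (eq_top_of_card_eq H h)) H rfl fun L K _ f hf hcore => ?_
      let e := L.equivMapOfInjective H.subtype H.subtype_injective
      exact hsec (L.map H.subtype) K (f.comp e.symm.toMonoidHom) (hf.comp e.symm.surjective) hcore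
    obtain ⟨P⟩ : Nonempty (Sylow p G) := inferInstance
    refine CfsgLib.Transfer.hasNormalPComplement_of_centralizes P fun U hUP x hx hxp => ?_
    by_contra hxc
    have hU : IsPGroup p U := P.2.to_le hUP
    have hcent : ∀ W : Subgroup G, IsPGroup p W → x ∈ normalizer (W : Set G) → W ⊔ zpowers x ≠ ⊤ →
        x ∈ centralizer (W : Set G) := by
      intro W hW hxW hne
      have h := CfsgLib.Transfer.mem_centralizer_of_hasNormalPComplement (hprop _ hne)
        (Q := W.subgroupOf (W ⊔ zpowers x)) (hW.comap_of_injective _ (subtype_injective _))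
        (g := ⟨x, mem_sup_right (mem_zpowers x)⟩) (by
          rw [← subgroupOf_normalizer_eq le_sup_left, mem_subgroupOf]; exact hxW)
        (by rwa [Subgroup.orderOf_mk])
      rw [mem_centralizer_iff] at h ⊢
      intro w hw
      exact congrArg Subtype.val (h ⟨w, mem_sup_left hw⟩ (mem_subgroupOf.2 hw))
    have htop : U ⊔ zpowers x = ⊤ := by
      by_contra hne
      exact hxc (hcent U hU hx hne)
    haveI hUn : U.Normal := normalizer_eq_top_iff.1 (top_le_iff.1 (htop ▸ sup_le le_normalizer (zpowers_le.2 hx)))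
    have hUb : U ≠ ⊥ := fun h => hxc (by
      rw [h, mem_centralizer_iff]; intro w hw; rw [Subgroup.mem_bot.1 hw, one_mul, mul_one])
    obtain ⟨W, ⟨hWn, hWU⟩, hWmax⟩ := WellFounded.has_min (wellFounded_gt (α := Subgroup G))
      {W : Subgroup G | W.Normal ∧ W < U} ⟨⊥, inferInstance, bot_lt_iff_ne_bot.2 hUb⟩
    haveI := hWn
    have hxW : x ∈ centralizer (W : Set G) := by
      refine hcent W (hU.to_le hWU.le) (by rw [normalizer_eq_top_iff.2 hWn]; exact mem_top x) fun h => ?_
      refine hWU.not_ge fun u hu => ?_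
      have hu' : u ∈ W ⊔ zpowers x := h ▸ mem_top u
      rw [← SetLike.mem_coe, normal_mul] at hu'
      obtain ⟨w, hw, z, hz, rfl⟩ := hu'
      have hzU : z ∈ U := (mul_mem_cancel_left (hWU.le hw)).1 hu
      obtain ⟨j, hj⟩ := IsPGroup.iff_orderOf.1 hU ⟨z, hzU⟩
      rw [Subgroup.orderOf_mk] at hj
      have : z = 1 := orderOf_eq_one_iff.1 (Nat.eq_one_of_dvd_coprimes (hxp.pow_right j)
        (orderOf_dvd_of_mem_zpowers hz) (dvd_of_eq hj))
      simpa [this] using hw
    -- stabilizing `W ≤ U` is trivial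
    have hstab : (∀ u ∈ U, u⁻¹ * (x * u * x⁻¹) ∈ W) → False := by
      intro hs
      refine hxc (mem_centralizer_iff.2 fun u hu => ?_)
      set w := u⁻¹ * (x * u * x⁻¹) with hw
      have hwW : w ∈ W := hs u hu
      have hconj : ∀ i : ℕ, x ^ i * u * (x ^ i)⁻¹ = u * w ^ i := by
        intro i
        induction i with
        | zero => simp
        | succ i ih =>
          have hc : x * w ^ i = w ^ i * x :=
            ((show Commute w x from mem_centralizer_iff.1 hxW w hwW).pow_left i).eq.symm
          calc x ^ (i + 1) * u * (x ^ (i + 1))⁻¹ = x * (x ^ i * u * (x ^ i)⁻¹) * x⁻¹ := by rw [pow_succ']; group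
            _ = (x * u * x⁻¹) * (x * w ^ i) * x⁻¹ := by rw [ih]; group
            _ = (x * u * x⁻¹) * (w ^ i * x) * x⁻¹ := by rw [hc]
            _ = u * w * w ^ i := by rw [hw]; group
            _ = u * w ^ (i + 1) := by rw [pow_succ', mul_assoc]
      have h1 := hconj (orderOf x)
      rw [pow_orderOf_eq_one, one_mul, inv_one, mul_one] at h1
      have hw1 : w ^ orderOf x = 1 := by
        have := congrArg (fun t => u⁻¹ * t) h1
        simpa using this.symm
      obtain ⟨j, hj⟩ := IsPGroup.iff_orderOf.1 hU ⟨w, hWU.le hwW⟩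
      rw [Subgroup.orderOf_mk] at hj
      have hwone : w = 1 := orderOf_eq_one_iff.1 (Nat.eq_one_of_dvd_coprimes (hxp.pow_right j)
        (orderOf_dvd_of_pow_eq_one hw1) (dvd_of_eq hj))
      rw [hw, inv_mul_eq_one] at hwone
      calc u * x = (x * u * x⁻¹) * x := by rw [← hwone]
        _ = x * u := by group
    set π := QuotientGroup.mk' W
    set O := Cfsg.pPrimeCore p (G ⧸ W)
    set B0 := U.map π with hB0
    haveI : B0.Normal := hUn.map π (QuotientGroup.mk'_surjective W)
    have hB0O : ∀ b ∈ B0, b ∈ O → b = 1 := by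
      intro b hb hbO
      obtain ⟨j, hj⟩ := IsPGroup.iff_orderOf.1 (hU.map π : IsPGroup p B0) ⟨b, hb⟩
      rw [Subgroup.orderOf_mk] at hj
      exact orderOf_eq_one_iff.1 (Nat.eq_one_of_dvd_coprimes
        (((CfsgLib.Core.coprime_card_pPrimeCore p (G ⧸ W))).pow_right j)
        (Subgroup.orderOf_dvd_natCard O hbO) (dvd_of_eq hj))
    set f : G →* (G ⧸ W) ⧸ O := (QuotientGroup.mk' O).comp π with hf
    have hfs : Function.Surjective f := (QuotientGroup.mk'_surjective O).comp (QuotientGroup.mk'_surjective W)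
    have hfW : ∀ u ∈ U, f u = 1 → u ∈ W := fun u hu h => by
      have h1 : π u ∈ O := (QuotientGroup.eq_one_iff (π u)).1 h
      exact (QuotientGroup.eq_one_iff u).1 (hB0O _ (mem_map_of_mem π hu) h1)
    have hcore : Cfsg.pPrimeCore p ((G ⧸ W) ⧸ O) = ⊥ := CfsgLib.Core.pPrimeCore_quotient_pPrimeCore p (G ⧸ W)
    obtain ⟨k, hk⟩ := hsec ⊤ _ (f.comp (⊤ : Subgroup G).subtype)
      (fun y => (hfs y).elim fun g hg => ⟨⟨g, mem_top g⟩, hg⟩) hcore
    set B := U.map f with hB
    haveI hBn : B.Normal := hUn.map f hfs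
    set y := f x with hy
    have hBy : B ⊔ zpowers y = ⊤ := by
      rw [hB, hy, ← MonoidHom.map_zpowers, ← Subgroup.map_sup, htop, map_top_of_surjective f hfs]
    have hBp : IsPGroup p B := hU.map f
    have hBcomm : ∀ a ∈ B, ∀ b ∈ B, a * b = b * a := by
      haveI : Nontrivial B0 := (nontrivial_iff_ne_bot B0).2 fun h => hWU.not_ge fun u hu => by
        have h1 : π u ∈ B0 := mem_map_of_mem π hu
        rw [h, Subgroup.mem_bot] at h1
        exact (QuotientGroup.eq_one_iff u).1 h1
      haveI : Nontrivial (center B0) := (hU.map π : IsPGroup p B0).center_nontrivial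
      set Z0 := (center B0).map B0.subtype with hZ0
      haveI : Z0.Normal := inferInstance
      have hlt : Z0.comap π ⊓ U = U := by
        by_contra hne
        have hlt' : Z0.comap π ⊓ U < U := lt_of_le_of_ne inf_le_right hne
        refine hWmax _ ⟨inferInstance, hlt'⟩ (lt_of_le_of_ne (le_inf (fun w hw => ?_) hWU.le) ?_)
        · rw [mem_comap, show π w = 1 from (QuotientGroup.eq_one_iff w).2 hw]
          exact one_mem _
        · intro heq
          obtain ⟨⟨z, hz⟩, hz1⟩ := exists_ne (1 : center B0)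
          obtain ⟨u, hu, huz⟩ := z.2
          have huW : u ∈ W := by
            rw [heq]
            exact ⟨show π u ∈ Z0 by rw [huz]; exact mem_map_of_mem _ hz, hu⟩
          apply hz1
          refine Subtype.ext (Subtype.ext ?_)
          rw [show ((z : B0) : G ⧸ W) = π u from huz.symm]
          exact (QuotientGroup.eq_one_iff u).2 huW
      rintro _ ⟨a, ha, rfl⟩ _ ⟨b, hb, rfl⟩
      have ha' : a ∈ Z0.comap π ⊓ U := by rw [hlt]; exact ha
      obtain ⟨za, hza, hza'⟩ := ha'.1
      have h1 := congrArg Subtype.val (Subgroup.mem_center_iff.1 hza ⟨π b, mem_map_of_mem π hb⟩)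
      have h2 : π b * π a = π a * π b := by
        rw [← hza']; exact h1
      change QuotientGroup.mk' O (π a) * QuotientGroup.mk' O (π b) = QuotientGroup.mk' O (π b) * QuotientGroup.mk' O (π a)
      rw [← map_mul (QuotientGroup.mk' O), ← map_mul (QuotientGroup.mk' O), h2]
    have hirr : ∀ Y : Subgroup ((G ⧸ W) ⧸ O), Y.Normal → Y ≤ B → Y ≠ ⊥ → B ≤ Y := by
      intro Y hYn hYB hYb
      by_contra hnle
      have hlt' : Y.comap f ⊓ U < U := lt_of_le_of_ne inf_le_right fun h => hnle (by
        rintro _ ⟨u, hu, rfl⟩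
        exact (h.symm.le hu).1)
      haveI := hYn
      refine hWmax _ ⟨inferInstance, hlt'⟩ (lt_of_le_of_ne (le_inf (fun w hw => ?_) hWU.le) fun heq => hYb ?_)
      · rw [mem_comap, hf, MonoidHom.comp_apply, show π w = 1 from (QuotientGroup.eq_one_iff w).2 hw, map_one]
        exact one_mem _
      · rw [Subgroup.eq_bot_iff_forall]
        intro b hb
        obtain ⟨u, hu, rfl⟩ := hYB hb
        have huW : u ∈ W := by rw [heq]; exact ⟨hb, hu⟩
        rw [hf, MonoidHom.comp_apply, show π u = 1 from (QuotientGroup.eq_one_iff u).2 huW, map_one]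
    have hyB : ¬ ∀ b ∈ B, Commute y b := by
      intro h
      refine hstab fun u hu => hfW _ ?_ ?_
      · exact mul_mem (inv_mem hu) (hUn.conj_mem u hu x)
      · rw [map_mul, map_inv, map_mul, map_mul, map_inv, ← hy, (h _ (mem_map_of_mem f hu)).eq]
        group
    -- the `p`- and `p'`-parts of `k`
    obtain ⟨e, v, hv, hev⟩ := Nat.exists_eq_pow_mul_and_not_dvd (orderOf_pos k).ne' p hp.one_lt.ne'
    have he : e ≠ 0 := by
      rintro rfl
      rw [pow_zero, one_mul] at hev
      apply hv
      rw [← hev, hk]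
      obtain ⟨b, hb, hb1⟩ : ∃ b ∈ B, b ≠ 1 := by
        by_contra h
        push Not at h
        exact hyB fun b hb => h b hb ▸ Commute.one_right y
      obtain ⟨j, hj⟩ := IsPGroup.iff_orderOf.1 hBp ⟨b, hb⟩
      rw [Subgroup.orderOf_mk] at hj
      have hj0 : j ≠ 0 := fun h => hb1 (orderOf_eq_one_iff.1 (by rw [hj, h, pow_zero]))
      exact (dvd_pow_self p hj0).trans (hj ▸ Monoid.order_dvd_exponent b)
    set k1 := k ^ v with hk1
    set k2 := k ^ p ^ e with hk2
    have hv0 : v ≠ 0 := fun h => hv (h ▸ dvd_zero p)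
    have ho1 : orderOf k1 = p ^ e := by
      rw [hk1, orderOf_pow_of_dvd hv0 (hev ▸ dvd_mul_left _ _), hev, Nat.mul_div_cancel _ (Nat.pos_of_ne_zero hv0)]
    have ho2 : orderOf k2 = v := by
      rw [hk2, orderOf_pow_of_dvd (pow_ne_zero _ hp.ne_zero) (hev ▸ dvd_mul_right _ _), hev,
        Nat.mul_div_cancel_left _ (pow_pos hp.pos e)]
    have hdec : ∀ g : (G ⧸ W) ⧸ O, ∃ b ∈ B, ∃ i : ℤ, g = b * y ^ i := by
      intro g
      have hg : g ∈ B ⊔ zpowers y := hBy ▸ mem_top g
      rw [← SetLike.mem_coe, normal_mul] at hg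
      obtain ⟨b, hb, z, hz, rfl⟩ := hg
      obtain ⟨i, rfl⟩ := mem_zpowers_iff.1 hz
      exact ⟨b, hb, i, rfl⟩
    have hyo : (orderOf y).Coprime p := hxp.coprime_dvd_left (orderOf_map_dvd f x)
    have hk1B : k1 ∈ B := by
      obtain ⟨b, hb, i, hbi⟩ := hdec k1
      have hq : (QuotientGroup.mk' B) k1 = (QuotientGroup.mk' B y) ^ i := by
        rw [hbi, map_mul, show (QuotientGroup.mk' B) b = 1 from (QuotientGroup.eq_one_iff b).2 hb, one_mul, map_zpow]
      refine (QuotientGroup.eq_one_iff k1).1 ?_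
      change (QuotientGroup.mk' B) k1 = 1
      refine orderOf_eq_one_iff.1 (Nat.eq_one_of_dvd_coprimes (hyo.pow_right e) ?_ (ho1 ▸ orderOf_map_dvd _ k1))
      rw [hq]
      exact (orderOf_dvd_of_mem_zpowers (zpow_mem (mem_zpowers _) i)).trans (orderOf_map_dvd _ y)
    obtain ⟨b, hb, i, hbi⟩ := hdec k2
    let C : Subgroup ((G ⧸ W) ⧸ O) := B ⊓ centralizer {y ^ i}
    have hCn : C.Normal := by
      refine normalizer_eq_top_iff.1 (top_le_iff.1 (hBy ▸ sup_le (fun a ha => mem_normalizer_iff.2 fun c => ?_)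
        (zpowers_le.2 (mem_normalizer_iff.2 fun c => ?_))))
      · constructor
        · intro hc
          rw [hBcomm a ha c hc.1, mul_inv_cancel_right]; exact hc
        · intro hc
          have hcB : c ∈ B := by
            have := mul_mem (mul_mem (inv_mem ha) hc.1) ha
            simpa [mul_assoc] using this
          rwa [hBcomm a ha c hcB, mul_inv_cancel_right] at hc
      · have key : ∀ s c, Commute s (y ^ i) → c ∈ C → s * c * s⁻¹ ∈ C := fun s c hs hc =>
          ⟨hBn.conj_mem c hc.1 s, mem_centralizer_singleton_iff.2 (by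
            have hc2 : Commute c (y ^ i) := mem_centralizer_singleton_iff.1 hc.2
            exact ((hs.mul_left hc2).mul_left hs.inv_left).eq)⟩
        refine ⟨key y c ((Commute.refl y).zpow_right i), fun hc => ?_⟩
        have := key y⁻¹ _ ((Commute.refl y).zpow_right i).inv_left hc
        simpa [mul_assoc] using this
    have hk1C : k1 ∈ C := by
      refine ⟨hk1B, mem_centralizer_singleton_iff.2 ?_⟩
      have h1 : Commute k1 k2 := (Commute.refl k).pow_pow v (p ^ e)
      have h2 : Commute k1 b := hBcomm k1 hk1B b hb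
      have h3 : Commute k1 (y ^ i) := by
        have := h2.inv_right.mul_right h1
        rwa [hbi, inv_mul_cancel_left] at this
      exact h3.eq
    have hCB : B ≤ C := hirr C hCn inf_le_left fun h => by
      rw [h, Subgroup.mem_bot] at hk1C
      rw [hk1C, orderOf_one] at ho1
      exact absurd ho1.symm (Nat.one_lt_pow he hp.one_lt).ne'
    -- `y ^ i` is central of order prime to `p`
    have hz : ∀ g, Commute (y ^ i) g := by
      intro g
      obtain ⟨b', hb', j, rfl⟩ := hdec g
      exact Commute.mul_right (mem_centralizer_singleton_iff.1 (hCB hb').2 : b' * y ^ i = y ^ i * b').symm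
        ((Commute.refl y).zpow_zpow i j)
    haveI : (zpowers (y ^ i)).Normal := ⟨fun a ha g => by
      obtain ⟨j, rfl⟩ := mem_zpowers_iff.1 ha
      rw [← ((hz g).zpow_left j).eq, mul_inv_cancel_right]
      exact zpow_mem (mem_zpowers _) j⟩
    have hyi : y ^ i = 1 := by
      have h1 := CfsgLib.Core.le_pPrimeCore (p := p) (N := zpowers (y ^ i)) (by
        rw [Nat.card_zpowers]
        exact hyo.coprime_dvd_left (orderOf_dvd_of_mem_zpowers (zpow_mem (mem_zpowers _) i)))
      rw [hcore, le_bot_iff, zpowers_eq_bot] at h1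
      exact h1
    rw [hyi, mul_one] at hbi
    obtain ⟨j, hj⟩ := IsPGroup.iff_orderOf.1 hBp ⟨b, hb⟩
    rw [Subgroup.orderOf_mk, ← hbi, ho2] at hj
    have hv1 : v = 1 := by
      rcases Nat.eq_zero_or_pos j with rfl | hj0
      · simpa using hj
      · exact absurd (hj ▸ dvd_pow_self p hj0.ne') hv
    have hy1 : y = 1 := by
      refine orderOf_eq_one_iff.1 (Nat.eq_one_of_dvd_coprimes (hyo.pow_right e) dvd_rfl ?_)
      rw [hv1, mul_one, hk] at hev
      exact hev ▸ Monoid.order_dvd_exponent y
    exact hyB fun b' _ => hy1 ▸ Commute.one_left b'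

/-- Let G be a finite group and p a prime. Then G has a normal p-complement if and only if every section K = H/N of G (N a normal subgroup of a subgroup H) whose largest normal subgroup of order prime to p is trivial contains an element whose order equals the exponent of K. -/
theorem result {G : Type*} [Group G] [Finite G] (p : ℕ) [Fact p.Prime] :
    Cfsg.HasNormalPComplement p G ↔
      ∀ (H : Subgroup G) (N : Subgroup H) [N.Normal], Cfsg.pPrimeCore p (H ⧸ N) = ⊥ →
        ∃ k : H ⧸ N, orderOf k = Monoid.exponent (H ⧸ N) := by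
  refine ⟨fun h H N _ hcore => ?_, fun h => sufficiency p _ G rfl fun H K _ f hf hcore => ?_⟩
  · obtain ⟨M, hMn, hMc, hMp⟩ := CfsgLib.Transfer.hasNormalPComplement_iff_exists.1
      (CfsgLib.Transfer.hasNormalPComplement_subgroup h H)
    haveI := hMn
    have hMN : M ≤ N := fun m hm => by
      haveI : (M.map (QuotientGroup.mk' N)).Normal := hMn.map _ (QuotientGroup.mk'_surjective N)
      have h1 := CfsgLib.Core.le_pPrimeCore (p := p) (N := M.map (QuotientGroup.mk' N))
        (hMc.coprime_dvd_left (M.card_map_dvd _)) (Subgroup.mem_map_of_mem _ hm)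
      rw [hcore, Subgroup.mem_bot] at h1
      exact (QuotientGroup.eq_one_iff m).1 h1
    have hKp : IsPGroup p (H ⧸ N) := by
      intro a
      obtain ⟨a, rfl⟩ := QuotientGroup.mk'_surjective N a
      obtain ⟨j, hj⟩ := hMp (a : H ⧸ M)
      refine ⟨j, ?_⟩
      rw [← map_pow, QuotientGroup.mk'_apply, QuotientGroup.eq_one_iff]
      rw [← QuotientGroup.mk_pow, QuotientGroup.eq_one_iff] at hj
      exact hMN hj
    obtain ⟨k, hk⟩ := Finite.exists_max (fun a : H ⧸ N => orderOf a)
    refine ⟨k, Nat.dvd_antisymm (Monoid.order_dvd_exponent k) (Monoid.exponent_dvd_of_forall_pow_eq_one fun a => ?_)⟩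
    obtain ⟨i, hi⟩ := IsPGroup.iff_orderOf.1 hKp a
    obtain ⟨j, hj⟩ := IsPGroup.iff_orderOf.1 hKp k
    rw [← orderOf_dvd_iff_pow_eq_one, hi, hj]
    refine pow_dvd_pow p ((Nat.pow_le_pow_iff_right (Fact.out : p.Prime).one_lt).1 ?_)
    rw [← hi, ← hj]
    exact hk a
  · let e := QuotientGroup.quotientKerEquivOfSurjective f hf
    obtain ⟨k, hk⟩ := h H f.ker (by
      rw [← Subgroup.map_eq_bot_iff_of_injective _ (f := e.toMonoidHom) e.injective,
        CfsgLib.Core.map_equiv_pPrimeCore e]
      exact hcore)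
    exact ⟨e k, by rw [e.orderOf_eq, hk, Monoid.exponent_eq_of_mulEquiv e]⟩

end Cfsg.Agent.S4238
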