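import Cfsg.Statements.S4242
import Cfsg.Agent.Lib.Transfer.Fusion
import Cfsg.Agent.Lib.OddLocal.FittingHall

set_option autoImplicit false
open Cfsg

namespace Cfsg.Agent.S4242

open Subgroup in
theorem proper_nilpotent.{u} {G : Type u} [Group G] [Finite G] {p : ℕ}
    (h : ∀ M : Subgroup G, IsCoatom M → p ∣ Nat.card M → Group.IsNilpotent M)
    {H : Subgroup G} (hH : H ≠ ⊤) (hp : p ∣ Nat.card H) : Group.IsNilpotent H := by
  obtain ⟨M, hM, hHM⟩ := (eq_top_or_exists_le_coatom H).resolve_left hH
  haveI := h M hM (hp.trans (card_dvd_of_le hHM))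
  exact Group.nilpotent_of_mulEquiv (subgroupOfEquivOfLe hHM)

open Subgroup Pointwise in
theorem mp_direction.{u} {G : Type u} [Group G] [Finite G] (p : ℕ) (hp : p.Prime) (hpG : p ∣ Nat.card G)
    (h : ∀ M : Subgroup G, IsCoatom M → p ∣ Nat.card M → Group.IsNilpotent M) :
    Group.IsNilpotent G ∨ Cfsg.IsMinimalNonNilpotent G ∨
        ∃ Z K : Subgroup G, Z.Normal ∧ K.Normal ∧ Z ⊓ K = ⊥ ∧ Z ⊔ K = ⊤ ∧ Nat.card Z = p ∧
          Cfsg.IsMinimalNonNilpotent K ∧ ¬ p ∣ Nat.card K := by
  classical
  haveI := Fact.mk hp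
  by_cases hnil : Group.IsNilpotent G
  · exact Or.inl hnil
  refine Or.inr ?_
  obtain ⟨P⟩ : Nonempty (Sylow p G) := inferInstance
  have hPne : (P : Subgroup G) ≠ ⊥ := fun h0 => by
    have h1 := P.dvd_card_of_dvd_card hpG
    rw [h0, card_bot] at h1
    exact hp.not_dvd_one h1
  by_cases hfro : ∀ Q : Subgroup G, Q ≤ (P : Subgroup G) → ∀ g ∈ normalizer (Q : Set G),
      Nat.Coprime (orderOf g) p → g ∈ centralizer (Q : Set G)
  swap
  · push Not at hfro
    obtain ⟨U, hUP, x, hx, hxp, hxc⟩ := hfro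
    have hU : IsPGroup p U := P.2.to_le hUP
    have hxpow : IsPGroup p U := hU
    have htop : U ⊔ zpowers x = ⊤ := by
      by_contra hne
      obtain ⟨u, hu, hux⟩ : ∃ u ∈ U, ¬ Commute u x := by
        by_contra hc
        push Not at hc
        exact hxc (mem_centralizer_iff.2 fun u hu => (hc u hu).eq)
      have hu1 : u ≠ 1 := fun h0 => hux (h0 ▸ Commute.one_left x)
      obtain ⟨k, hk⟩ := IsPGroup.iff_orderOf.1 hU ⟨u, hu⟩
      rw [← Subgroup.orderOf_coe] at hk
      have hk0 : k ≠ 0 := fun h0 => hu1 (orderOf_eq_one_iff.1 (by rw [hk, h0, pow_zero]))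
      have hd : p ∣ Nat.card (U ⊔ zpowers x : Subgroup G) :=
        (dvd_pow_self p hk0).trans (hk ▸ Subgroup.orderOf_dvd_natCard _ (mem_sup_left hu))
      haveI := proper_nilpotent h hne hd
      have hc := CfsgLib.OddLocal.commute_of_coprime_orderOf (G := (U ⊔ zpowers x : Subgroup G)) inferInstance
        (x := ⟨u, mem_sup_left hu⟩) (y := ⟨x, mem_sup_right (mem_zpowers x)⟩)
        (by rw [Subgroup.orderOf_mk, Subgroup.orderOf_mk, hk]; exact (hxp.symm).pow_left k)
      exact hux (congrArg Subtype.val hc.eq)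
    refine Or.inl ⟨hnil, fun H hH => ?_⟩
    by_cases hd : p ∣ Nat.card H
    · exact proper_nilpotent h hH hd
    · haveI hUn : U.Normal := normalizer_eq_top_iff.1 (top_le_iff.1 (htop ▸ sup_le le_normalizer (zpowers_le.2 hx)))
      let f : H →* G ⧸ U := (QuotientGroup.mk' U).comp H.subtype
      have hcyc : ∀ g : G ⧸ U, g ∈ zpowers (x : G ⧸ U) := by
        have h1 : (⊤ : Subgroup G).map (QuotientGroup.mk' U) = ⊤ :=
          map_top_of_surjective _ (QuotientGroup.mk'_surjective U)
        rw [← htop, Subgroup.map_sup, (map_eq_bot_iff U).2 (by rw [QuotientGroup.ker_mk']), bot_sup_eq,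
          MonoidHom.map_zpowers] at h1
        intro g
        exact h1 ▸ mem_top g
      haveI : IsCyclic (G ⧸ U) := ⟨⟨(x : G ⧸ U), fun g => hcyc g⟩⟩
      letI := IsCyclic.commGroup (α := G ⧸ U)
      haveI : Group.IsNilpotent (G ⧸ U) := CommGroup.isNilpotent (G := G ⧸ U)
      refine Subgroup.isNilpotent_of_ker_le_center f (fun a ha => ?_)
      have haU : (a : G) ∈ U := (QuotientGroup.eq_one_iff _).1 ha
      obtain ⟨k, hk⟩ := IsPGroup.iff_orderOf.1 hU ⟨_, haU⟩
      rw [Subgroup.orderOf_mk, Subgroup.orderOf_coe] at hk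
      have : a = 1 := orderOf_eq_one_iff.1 (Nat.eq_one_of_dvd_coprimes
        ((hp.coprime_iff_not_dvd.2 hd).pow_left k) (dvd_of_eq hk) (orderOf_dvd_natCard a))
      rw [this]; exact one_mem _
  obtain ⟨K, hKn, hKc, hKp⟩ := CfsgLib.Transfer.hasNormalPComplement_iff_exists.1
    (CfsgLib.Transfer.hasNormalPComplement_of_centralizes P hfro)
  haveI := hKn
  have hKnd : ¬ p ∣ Nat.card K := hp.coprime_iff_not_dvd.1 hKc.symm
  have hdisj : (P : Subgroup G) ⊓ K = ⊥ := by
    obtain ⟨n, hn⟩ := IsPGroup.iff_card.1 P.2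
    exact inf_eq_bot_of_coprime (by rw [hn]; exact (hKc.symm).pow_left n)
  have hsup : (P : Subgroup G) ⊔ K = ⊤ := by
    refine eq_top_of_card_eq _ (Nat.dvd_antisymm (card_subgroup_dvd_card _) ?_)
    refine dvd_trans ?_ (Nat.Coprime.mul_dvd_of_dvd_of_dvd ?_ (card_dvd_of_le (le_sup_left : (P : Subgroup G) ≤ _))
      (card_dvd_of_le (le_sup_right : K ≤ _)))
    · obtain ⟨m, hm⟩ := IsPGroup.iff_card.1 hKp
      rw [K.card_eq_card_quotient_mul_card_subgroup, hm]
      refine mul_dvd_mul_right ?_ _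
      rw [P.card_eq_multiplicity]
      refine pow_dvd_pow p ((hp.pow_dvd_iff_le_factorization Nat.card_pos.ne').1 ?_)
      rw [← hm, ← index_eq_card]
      exact index_dvd_card K
    · obtain ⟨n, hn⟩ := IsPGroup.iff_card.1 P.2
      rw [hn]; exact (hKc.symm).pow_left n
  by_cases hact : (P : Subgroup G) ≤ centralizer (K : Set G)
  · have hPn : (P : Subgroup G).Normal := normalizer_eq_top_iff.1 (top_le_iff.1 (by
      rw [← hsup]
      refine sup_le le_normalizer fun k hk => mem_normalizer_iff.2 fun a => ⟨fun ha => ?_, fun ha => ?_⟩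
      · have := mem_centralizer_iff.1 (hact ha) k hk
        rw [this, mul_inv_cancel_right]; exact ha
      · have hc := mem_centralizer_iff.1 (hact ha) k hk
        have : a = k * a * k⁻¹ := by
          calc a = k⁻¹ * (k * a * k⁻¹) * k := by group
            _ = k⁻¹ * (k * (k * a * k⁻¹)) := by rw [hc]; group
            _ = k * a * k⁻¹ := by group
        rw [this]; exact ha))
    have hsubnil : ∀ (A : Subgroup G) (L : Subgroup G), A ≤ (P : Subgroup G) → A ≠ ⊥ → A ⊔ L ≠ ⊤ →
        Group.IsNilpotent L := by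
      intro A L hA hAb hne
      obtain ⟨n, hn⟩ := IsPGroup.iff_card.1 (P.2.to_le hA)
      have hn0 : n ≠ 0 := fun h0 => hAb (card_eq_one.1 (by rw [hn, h0, pow_zero]))
      haveI := proper_nilpotent h hne ((dvd_pow_self p hn0).trans
        (hn ▸ card_dvd_of_le (le_sup_left : A ≤ A ⊔ L)))
      exact Group.nilpotent_of_mulEquiv (subgroupOfEquivOfLe (le_sup_right : L ≤ A ⊔ L))
    have hKnil : ¬ Group.IsNilpotent K := fun hK => by
      apply hnil
      haveI := hK
      haveI := P.2.isNilpotent
      refine Group.isNilpotent_of_finite_tfae.out 3 0 rfl rfl |>.mp fun q hq Q => ?_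
      haveI := hq
      rcases eq_or_ne q p with rfl | hqp
      · exact (show (Q : Subgroup G) = P by
          obtain ⟨g, rfl⟩ := MulAction.exists_smul_eq G P Q
          rw [Sylow.coe_subgroup_smul]
          exact Normal.conjAct hPn g) ▸ hPn
      · have hQK : (Q : Subgroup G) ≤ K := fun a ha => (QuotientGroup.eq_one_iff a).1 (by
          obtain ⟨k, hk⟩ := hKp (a : G ⧸ K)
          obtain ⟨j, hj⟩ := IsPGroup.iff_orderOf.1 Q.2 ⟨a, ha⟩
          rw [Subgroup.orderOf_mk] at hj
          refine orderOf_eq_one_iff.1 (Nat.eq_one_of_dvd_coprimes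
            (((Nat.coprime_primes hq.out hp).2 hqp).pow j k) (hj ▸ orderOf_map_dvd (QuotientGroup.mk' K) a)
            (orderOf_dvd_of_pow_eq_one hk)))
        haveI : ((Q.subtype hQK : Sylow q K) : Subgroup K).Normal :=
          (Group.isNilpotent_of_finite_tfae.out 0 3 rfl rfl).mp hK q inferInstance _
        haveI := Sylow.characteristic_of_normal (Q.subtype hQK) inferInstance
        have := ConjAct.normal_of_characteristic_of_normal (H := K) (K := ((Q.subtype hQK : Sylow q K) : Subgroup K))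
        rwa [Sylow.coe_subtype, map_subgroupOf_eq_of_le hQK] at this
    have hKmin : Cfsg.IsMinimalNonNilpotent K := by
      refine ⟨hKnil, fun L hL => ?_⟩
      have hne : (P : Subgroup G) ⊔ L.map K.subtype ≠ ⊤ := fun htop => hL (by
        rw [eq_top_iff]
        intro k _
        have hk : (k : G) ∈ (L.map K.subtype : Subgroup G) ⊔ (P : Subgroup G) := by rw [sup_comm, htop]; exact mem_top _
        rw [← SetLike.mem_coe, mul_normal] at hk
        obtain ⟨l, hl, a, ha, hla⟩ := hk
        obtain ⟨l', hl', rfl⟩ := hl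
        have haK : a ∈ K := by
          have : a = (l' : G)⁻¹ * k := by rw [← hla]; simp
          rw [this]; exact mul_mem (inv_mem l'.2) k.2
        have : a = 1 := by
          rw [← Subgroup.mem_bot, ← hdisj]; exact ⟨ha, haK⟩
        have e : l' = k := Subtype.ext (by simpa [this] using hla)
        exact e ▸ hl')
      haveI := hsubnil _ _ le_rfl hPne hne
      exact Group.nilpotent_of_mulEquiv (L.equivMapOfInjective _ K.subtype_injective).symm
    refine Or.inr ⟨P, K, hPn, hKn, hdisj, hsup, ?_, hKmin, hKnd⟩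
    obtain ⟨a, ha⟩ := exists_prime_orderOf_dvd_card' p (P.dvd_card_of_dvd_card hpG)
    have hA : zpowers (a : G) ≤ (P : Subgroup G) := zpowers_le.2 a.2
    have hcA : Nat.card (zpowers (a : G)) = p := by rw [Nat.card_zpowers, Subgroup.orderOf_coe, ha]
    by_contra hne
    have hne' : zpowers (a : G) ⊔ K ≠ ⊤ := fun htop => hne (by
      refine Eq.trans ?_ hcA
      refine congrArg (fun L : Subgroup G => Nat.card L) (le_antisymm ?_ hA)
      intro b hb
      have hb' : b ∈ zpowers (a : G) ⊔ K := by rw [htop]; exact mem_top b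
      rw [← SetLike.mem_coe, mul_normal] at hb'
      obtain ⟨c, hc, k, hk, rfl⟩ := hb'
      have hk1 : k = 1 := by
        rw [← Subgroup.mem_bot, ← hdisj]
        exact ⟨(mul_mem_cancel_left (hA hc)).1 hb, hk⟩
      simp only [hk1, mul_one]
      exact hc)
    exact hKnil (hsubnil _ _ hA (fun h0 => by rw [h0, card_bot] at hcA; exact hp.ne_one hcA.symm) hne')
  -- some Sylow subgroup of `K` is not centralized
  refine Or.inl ⟨hnil, fun H hH => ?_⟩
  by_cases hd : p ∣ Nat.card H
  · exact proper_nilpotent h hH hd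
  have hex : ∃ (q : ℕ) (_ : q.Prime), IsPGroup q K := by
    by_contra hcon
    push Not at hcon
    refine hact fun b hb => ?_
    have hall : ∀ (q : ℕ) [Fact q.Prime], ∃ Q : Sylow q K,
        (Q : Subgroup K).map K.subtype ≤ centralizer ({b} : Set G) := by
      intro q hq
      obtain ⟨Q⟩ : Nonempty (Sylow q K) := inferInstance
      set Qg := (Q : Subgroup K).map K.subtype
      obtain ⟨R, hR⟩ : ∃ R : Sylow p G, (R : Subgroup G) ≤ normalizer (Qg : Set G) := by
        obtain ⟨S⟩ : Nonempty (Sylow p (normalizer (Qg : Set G))) := inferInstance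
        obtain ⟨R, hR⟩ := (S.2.map (normalizer (Qg : Set G)).subtype).exists_le_sylow
        refine ⟨R, (eq_of_le_of_card_ge hR ?_).ge.trans (map_subtype_le _)⟩
        rw [← Nat.card_congr (equivMapOfInjective (S : Subgroup (normalizer (Qg : Set G))) (normalizer (Qg : Set G)).subtype (subtype_injective _)).toEquiv,
          R.card_eq_multiplicity]
        refine Nat.le_of_dvd Nat.card_pos (S.pow_dvd_card_of_pow_dvd_card ?_)
        have hidx : (normalizer (Qg : Set G)).index.Coprime p := by
          refine Nat.Coprime.coprime_dvd_left ?_ hKc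
          have hs : normalizer (Qg : Set G) ⊔ K = ⊤ := Sylow.normalizer_sup_eq_top Q
          have h1 : K.relIndex (normalizer (Qg : Set G)) = K.index := by
            rw [← relIndex_sup_right, hs, relIndex_top_right]
          have h4 : (normalizer (Qg : Set G)).index = (normalizer (Qg : Set G)).relIndex K := by
            refine Nat.eq_of_mul_eq_mul_left (Nat.pos_of_ne_zero index_ne_zero_of_finite : 0 < K.index) ?_
            calc K.index * (normalizer (Qg : Set G)).index
                = (K ⊓ normalizer (Qg : Set G)).relIndex (normalizer (Qg : Set G)) *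
                    (normalizer (Qg : Set G)).index := by rw [inf_relIndex_right, h1]
              _ = (K ⊓ normalizer (Qg : Set G)).relIndex K * K.index := by
                  rw [relIndex_mul_index inf_le_right, relIndex_mul_index inf_le_left]
              _ = K.index * (normalizer (Qg : Set G)).relIndex K := by rw [inf_relIndex_left, mul_comm]
          rw [h4]
          exact relIndex_dvd_card _ _
        have hd2 := Nat.ordProj_dvd (Nat.card G) p
        rw [← (normalizer (Qg : Set G)).index_mul_card] at hd2 ⊢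
        exact (hidx.symm.pow_left _).dvd_of_dvd_mul_left hd2
      have hne : (R : Subgroup G) ⊔ Qg ≠ ⊤ := fun htop => by
        refine hcon q hq.out ?_
        have hQK : Qg ≤ K := map_subtype_le _
        have hRQ : ∀ g : G, g ∈ (R : Subgroup G) ⊔ Qg → ∃ a ∈ (R : Subgroup G), ∃ c ∈ Qg, g = a * c := by
          intro g hg
          rw [← SetLike.mem_coe, coe_mul_of_left_le_normalizer_right _ _ hR] at hg
          obtain ⟨a, ha, c, hc, rfl⟩ := hg
          exact ⟨a, ha, c, hc, rfl⟩
        intro k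
        obtain ⟨a, ha, c, hc, hac⟩ := hRQ k (htop ▸ mem_top (k : G))
        have ha1 : a = 1 := by
          have haK : a ∈ K := by
            have : a = (k : G) * c⁻¹ := by rw [hac]; group
            rw [this]; exact mul_mem k.2 (inv_mem (hQK hc))
          obtain ⟨j, hj⟩ := IsPGroup.iff_orderOf.1 R.2 ⟨a, ha⟩
          rw [Subgroup.orderOf_mk] at hj
          exact orderOf_eq_one_iff.1 (Nat.eq_one_of_dvd_coprimes (hKc.symm.pow_left j) (dvd_of_eq hj)
            (Subgroup.orderOf_dvd_natCard K haK))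
        rw [ha1, one_mul] at hac
        obtain ⟨c', hc', rfl⟩ := hc
        obtain ⟨j, hj⟩ := Q.2 ⟨c', hc'⟩
        refine ⟨j, ?_⟩
        rw [show k = c' from Subtype.ext hac]
        exact congrArg Subtype.val hj
      obtain ⟨j, hj⟩ := IsPGroup.iff_card.1 R.2
      haveI := proper_nilpotent h hne ((R.dvd_card_of_dvd_card hpG).trans (card_dvd_of_le le_sup_left))
      have hcomm : ∀ a ∈ (R : Subgroup G), ∀ c ∈ Qg, Commute a c := fun a ha c hc => by
        have hcop : (orderOf a).Coprime (orderOf c) :=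
          ((hKc.symm.pow_left j).coprime_dvd_left (hj ▸ Subgroup.orderOf_dvd_natCard _ ha)).coprime_dvd_right
            (Subgroup.orderOf_dvd_natCard K (map_subtype_le _ hc))
        exact congrArg Subtype.val (CfsgLib.OddLocal.commute_of_coprime_orderOf
          (G := ((R : Subgroup G) ⊔ Qg : Subgroup G)) inferInstance (x := ⟨a, mem_sup_left ha⟩)
          (y := ⟨c, mem_sup_right hc⟩) (by rw [Subgroup.orderOf_mk, Subgroup.orderOf_mk]; exact hcop)).eq
      -- move `R` to `P` by an element of `K`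
      obtain ⟨g, hg⟩ := MulAction.exists_smul_eq G R P
      have hgk : g ∈ K ⊔ (R : Subgroup G) := by
        have hsupR : (R : Subgroup G) ⊔ K = ⊤ := by
          have h1 := congrArg (Subgroup.map (MulAut.conj g⁻¹).toMonoidHom) hsup
          rw [Subgroup.map_sup, map_top_of_surjective _ (MulEquiv.surjective _)] at h1
          rw [show K.map (MulAut.conj g⁻¹).toMonoidHom = K from Normal.conjAct hKn g⁻¹] at h1
          rw [show (P : Subgroup G).map (MulAut.conj g⁻¹).toMonoidHom = R from by
            rw [← hg, Sylow.coe_subgroup_smul]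
            show MulAut.conj g⁻¹ • (MulAut.conj g • (R : Subgroup G)) = R
            rw [map_inv, inv_smul_smul]] at h1
          exact h1
        rw [sup_comm, hsupR]; exact mem_top g
      rw [← SetLike.mem_coe, normal_mul] at hgk
      obtain ⟨k, hk, r, hr, rfl⟩ := hgk
      have hbk : k⁻¹ * b * k ∈ (R : Subgroup G) := by
        rw [← hg, Sylow.coe_subgroup_smul] at hb
        obtain ⟨a, ha, rfl⟩ := hb
        simp only [MulDistribMulAction.toMonoidEnd_apply, MulDistribMulAction.toMonoidHom_apply]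
        change k⁻¹ * (k * r * a * (k * r)⁻¹) * k ∈ (R : Subgroup G)
        rw [show k⁻¹ * (k * r * a * (k * r)⁻¹) * k = r * a * r⁻¹ by group]
        exact mul_mem (mul_mem hr ha) (inv_mem hr)
      refine ⟨(⟨k, hk⟩ : K) • Q, ?_⟩
      rintro _ ⟨c, hc, rfl⟩
      rw [Sylow.coe_subgroup_smul] at hc
      obtain ⟨c0, hc0, rfl⟩ := hc
      rw [mem_centralizer_singleton_iff]
      change k * (c0 : G) * k⁻¹ * b = b * (k * (c0 : G) * k⁻¹)
      have h1 := (hcomm _ hbk _ (mem_map_of_mem _ hc0)).eq
      simp only [Subgroup.coe_subtype] at h1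
      calc k * (c0 : G) * k⁻¹ * b = k * ((c0 : G) * (k⁻¹ * b * k)) * k⁻¹ := by group
        _ = k * ((k⁻¹ * b * k) * (c0 : G)) * k⁻¹ := by rw [h1]
        _ = b * (k * (c0 : G) * k⁻¹) := by group
    rw [mem_centralizer_iff]
    intro k hk
    have htop : (centralizer ({b} : Set G)).subgroupOf K = ⊤ := by
      refine eq_top_of_card_eq _ (Nat.dvd_antisymm (card_subgroup_dvd_card _) ?_)
      refine (Nat.dvd_iff_prime_pow_dvd_dvd _ _).2 fun q e hq hqe => ?_
      haveI := Fact.mk hq
      obtain ⟨Q, hQ⟩ := hall q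
      refine dvd_trans ?_ (card_dvd_of_le (map_le_iff_le_comap.1 hQ))
      rw [Q.card_eq_multiplicity]
      exact pow_dvd_pow q ((hq.pow_dvd_iff_le_factorization Nat.card_pos.ne').1 hqe)
    exact mem_centralizer_singleton_iff.1 (subgroupOf_eq_top.1 htop hk)
  obtain ⟨q, hq, hKq⟩ := hex
  haveI := Fact.mk hq
  have hHK : H ≤ K := fun a ha => (QuotientGroup.eq_one_iff a).1 (by
    obtain ⟨k, hk⟩ := hKp (a : G ⧸ K)
    refine orderOf_eq_one_iff.1 (Nat.eq_one_of_dvd_coprimes ((hp.coprime_iff_not_dvd.2 hd).pow_left k)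
      (orderOf_dvd_of_pow_eq_one hk)
      ((orderOf_map_dvd (QuotientGroup.mk' K) a).trans (Subgroup.orderOf_dvd_natCard H ha))))
  exact (hKq.to_le hHK).isNilpotent

/-- Let G be a finite group and p a prime dividing its order. Every maximal subgroup of G of order divisible by p is nilpotent if and only if G is nilpotent, or G is a minimal non-nilpotent group, or G is the internal direct product of a normal subgroup of order p and a normal minimal non-nilpotent subgroup of order prime to p. -/
theorem result {G : Type*} [Group G] [Finite G] (p : ℕ) (hp : p.Prime) (hpG : p ∣ Nat.card G) :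
    (∀ M : Subgroup G, IsCoatom M → p ∣ Nat.card M → Group.IsNilpotent M) ↔
      (Group.IsNilpotent G ∨ Cfsg.IsMinimalNonNilpotent G ∨
        ∃ Z K : Subgroup G, Z.Normal ∧ K.Normal ∧ Z ⊓ K = ⊥ ∧ Z ⊔ K = ⊤ ∧ Nat.card Z = p ∧
          Cfsg.IsMinimalNonNilpotent K ∧ ¬ p ∣ Nat.card K) := by
  refine ⟨mp_direction p hp hpG, ?_⟩
  rintro (hG | hG | ⟨Z, K, hZn, hKn, hdisj, hsup, hZ, hK, hKd⟩) M hM hd
  · haveI := hG
    infer_instance
  · exact hG.2 M hM.1
  haveI := hZn
  haveI := hKn
  haveI := Fact.mk hp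
  obtain ⟨x, hx⟩ := exists_prime_orderOf_dvd_card' p hd
  have hZp : IsPGroup p Z := IsPGroup.of_card (n := 1) (by rw [hZ, pow_one])
  have hcK : ∀ z ∈ Z, ∀ k ∈ K, z * k = k * z := fun z hz k hk =>
    Subgroup.commute_of_normal_of_disjoint Z K hZn hKn (disjoint_iff.2 hdisj) z k hz hk
  have hxZ : (x : G) ∈ Z := by
    have hx' : (x : G) ∈ Z ⊔ K := by rw [hsup]; exact Subgroup.mem_top _
    rw [← SetLike.mem_coe, Subgroup.mul_normal] at hx'
    obtain ⟨z, hz, k, hk, hzk⟩ := hx'
    have h1 : (z * k) ^ p = 1 := by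
      simp only at hzk
      rw [hzk, ← SubmonoidClass.coe_pow, ← hx, pow_orderOf_eq_one]; rfl
    rw [(show Commute z k from hcK z hz k hk).mul_pow] at h1
    have hz1 : z ^ p = 1 := by
      have := pow_card_eq_one' (x := (⟨z, hz⟩ : Z))
      rw [hZ] at this
      exact congrArg Subtype.val this
    rw [hz1, one_mul] at h1
    have hk1 : k = 1 := orderOf_eq_one_iff.1 (Nat.eq_one_of_dvd_coprimes (hp.coprime_iff_not_dvd.2 hKd)
      (orderOf_dvd_of_pow_eq_one h1) (Subgroup.orderOf_dvd_natCard K hk))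
    rw [← hzk, hk1]
    simpa using hz
  have hZM : Z ≤ M := by
    have hxo : Subgroup.zpowers (x : G) = Z := Subgroup.eq_of_le_of_card_ge (Subgroup.zpowers_le.2 hxZ)
      (by rw [Nat.card_zpowers, Subgroup.orderOf_coe, hx, hZ])
    rw [← hxo]; exact Subgroup.zpowers_le.2 x.2
  have hne : M.subgroupOf K ≠ ⊤ := fun h => hM.1 (eq_top_iff.2 (hsup ▸ sup_le hZM (Subgroup.subgroupOf_eq_top.1 h)))
  haveI := hK.2 _ hne
  haveI : IsMulCommutative Z := by
    haveI : IsCyclic Z := isCyclic_of_prime_card hZ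
    infer_instance
  let f : M →* G ⧸ Z := (QuotientGroup.mk' Z).comp M.subtype
  haveI : Group.IsNilpotent f.range := by
    let g : (M.subgroupOf K) →* f.range := f.rangeRestrict.comp
      { toFun := fun a => ⟨((a : K) : G), a.2⟩, map_one' := rfl, map_mul' := fun _ _ => rfl }
    refine Group.nilpotent_of_surjective g ?_
    rintro ⟨y, m, rfl⟩
    have hm : (m : G) ∈ Z ⊔ K := by rw [hsup]; exact Subgroup.mem_top _
    rw [← SetLike.mem_coe, Subgroup.mul_normal] at hm
    obtain ⟨z, hz, k, hk, hzk⟩ := hm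
    have hkM : k ∈ M := by
      have : k = z⁻¹ * m := by rw [← hzk]; simp
      rw [this]; exact mul_mem (inv_mem (hZM hz)) m.2
    refine ⟨⟨⟨k, hk⟩, hkM⟩, Subtype.ext ?_⟩
    show QuotientGroup.mk' Z k = QuotientGroup.mk' Z m
    rw [← hzk, map_mul, show QuotientGroup.mk' Z z = 1 from (QuotientGroup.eq_one_iff z).2 hz, one_mul]
  refine Subgroup.isNilpotent_of_ker_le_center f.rangeRestrict (fun a ha => ?_)
  rw [MonoidHom.ker_rangeRestrict] at ha
  have haZ : (a : G) ∈ Z := (QuotientGroup.eq_one_iff _).1 ha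
  rw [Subgroup.mem_center_iff]
  intro b
  refine Subtype.ext ?_
  have hb : (b : G) ∈ Z ⊔ K := by rw [hsup]; exact Subgroup.mem_top _
  rw [← SetLike.mem_coe, Subgroup.mul_normal] at hb
  obtain ⟨z, hz, k, hk, hzk⟩ := hb
  show (b : G) * a = a * b
  simp only at hzk
  rw [← hzk, mul_assoc, ← hcK _ haZ k hk, ← mul_assoc,
    show z * (a : G) = a * z from congrArg Subtype.val (mul_comm' (⟨z, hz⟩ : Z) ⟨a, haZ⟩), mul_assoc]

end Cfsg.Agent.S4242
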