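import Cfsg.Statements.S4245
import Cfsg.Agent.Lib.Char.Burnside

set_option autoImplicit false
open Cfsg

namespace Cfsg.Agent.S4245

open Subgroup

universe v

/-- The hypothesis of the statement, with divisibility of the index. -/
def Good (G : Type v) [Group G] : Prop :=
  ∃ (A : Subgroup G) (p s r : ℕ) (B : Subgroup A) (_ : B.Normal),
    p.Prime ∧ A.index ∣ p ^ s ∧ IsCyclic B ∧ IsCyclic (A ⧸ B) ∧ Nat.card (A ⧸ B) ∣ 2 ^ r

theorem Good.subgroup {G : Type v} [Group G] [Finite G] (h : Good G) (N : Subgroup G) [N.Normal] : Good N := by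
  obtain ⟨A, p, s, r, B, hBn, hp, hA, hB, hQ, hr⟩ := h
  let f : A.subgroupOf N →* A := (N.subtype.comp (A.subgroupOf N).subtype).codRestrict A fun x => x.2
  have hf : Function.Injective f := fun x y hxy =>
    Subtype.ext (Subtype.ext (congrArg (fun t : A => (t : G)) hxy))
  let q : (A.subgroupOf N) ⧸ B.comap f →* A ⧸ B := QuotientGroup.map _ _ f le_rfl
  have hq : Function.Injective q := by
    refine (injective_iff_map_eq_one q).2 fun x hx => ?_
    obtain ⟨x, rfl⟩ := QuotientGroup.mk_surjective x
    exact (QuotientGroup.eq_one_iff x).2 ((QuotientGroup.eq_one_iff (f x)).1 hx)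
  refine ⟨A.subgroupOf N, p, s, r, B.comap f, inferInstance, hp, ?_, ?_, isCyclic_of_injective q hq,
    (card_dvd_of_injective q hq).trans hr⟩
  · refine dvd_trans ?_ hA
    show A.relIndex N ∣ A.index
    have e1 := relIndex_mul_relIndex (A ⊓ N) N (A ⊔ N) inf_le_right le_sup_right
    have e2 := relIndex_mul_relIndex (A ⊓ N) A (A ⊔ N) inf_le_left le_sup_left
    rw [← e2, inf_relIndex_right, inf_relIndex_left, relIndex_sup_right, mul_comm] at e1
    have hne : N.relIndex A ≠ 0 := fun h0 => by
      haveI : Finite A := inferInstance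
      exact (index_ne_zero_of_finite (H := N.subgroupOf A)) h0
    rw [Nat.eq_of_mul_eq_mul_left (Nat.pos_of_ne_zero hne) e1,
      ← relIndex_mul_index (show A ≤ A ⊔ N from le_sup_left)]
    exact dvd_mul_right _ _
  · exact isCyclic_of_injective ((f.comp (B.comap f).subtype).codRestrict B fun x => x.2)
      fun x y hxy => Subtype.ext (hf (congrArg (fun t : B => (t : A)) hxy))

theorem Good.quotient {G : Type v} [Group G] [Finite G] (h : Good G) (N : Subgroup G) [N.Normal] : Good (G ⧸ N) := by
  obtain ⟨A, p, s, r, B, hBn, hp, hA, hB, hQ, hr⟩ := h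
  let g : A →* A.map (QuotientGroup.mk' N) := (QuotientGroup.mk' N).subgroupMap A
  have hg : Function.Surjective g := (QuotientGroup.mk' N).subgroupMap_surjective A
  haveI : (B.map g).Normal := hBn.map g hg
  let q : A ⧸ B →* A.map (QuotientGroup.mk' N) ⧸ B.map g := QuotientGroup.map _ _ g (le_comap_map g B)
  have hq : Function.Surjective q := fun y => by
    obtain ⟨y, rfl⟩ := QuotientGroup.mk_surjective y
    obtain ⟨x, rfl⟩ := hg y
    exact ⟨x, rfl⟩
  refine ⟨A.map (QuotientGroup.mk' N), p, s, r, B.map g, inferInstance, hp, ?_,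
    isCyclic_of_surjective (g.subgroupMap B) (g.subgroupMap_surjective B), isCyclic_of_surjective q hq,
    (card_dvd_of_surjective q hq).trans hr⟩
  exact (index_map_dvd (H := A) (QuotientGroup.mk'_surjective N)).trans hA

theorem isSolvable_of_good (n : ℕ) : ∀ (G : Type v) [Group G] [Finite G], Nat.card G = n → Good G → Group.IsSolvable G := by
  induction n using Nat.strong_induction_on with
  | _ n ih =>
    intro G _ _ hn h
    rcases subsingleton_or_nontrivial G with hG | hG
    · infer_instance
    by_cases hsimple : ∃ N : Subgroup G, N.Normal ∧ N ≠ ⊥ ∧ N ≠ ⊤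
    · obtain ⟨N, hN, h1, h2⟩ := hsimple
      have hlt : Nat.card N < n := by
        rw [← hn, lt_iff_le_and_ne]
        exact ⟨N.card_le_card_group, fun h => h2 (N.eq_top_of_card_eq h)⟩
      have hlt2 : Nat.card (G ⧸ N) < n := by
        rw [← hn, card_eq_card_quotient_mul_card_subgroup N]
        exact lt_mul_of_one_lt_right Nat.card_pos (N.one_lt_card_iff_ne_bot.mpr h1)
      haveI := ih _ hlt N rfl (h.subgroup N)
      haveI := ih _ hlt2 (G ⧸ N) rfl (h.quotient N)
      exact Group.isSolvable_of_ker_le_range N.subtype (QuotientGroup.mk' N)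
        (by rw [QuotientGroup.ker_mk', range_subtype])
    push Not at hsimple
    haveI : IsSimpleGroup G := ⟨fun N hN => or_iff_not_imp_left.2 (hsimple N hN)⟩
    by_contra hns
    have hnp : ¬ (Nat.card G).Prime := fun hp' => hns (by
      haveI := Fact.mk hp'
      haveI : IsCyclic G := isCyclic_of_prime_card (p := Nat.card G) rfl
      exact Group.isSolvable_of_comm fun x y => (IsCyclic.commGroup (α := G)).mul_comm x y)
    obtain ⟨A, p, s, r, B, hBn, hp, hA, hB, hQ, hr⟩ := h
    haveI := Fact.mk hp
    haveI : Fact (Nat.Prime 2) := ⟨Nat.prime_two⟩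
    -- elements with centralizer of prime power index
    have hclass : ∀ (H : Subgroup G) (q t : ℕ), q.Prime → H.index ∣ q ^ t → ∀ g : G, (∀ x ∈ H, x * g = g * x) → g = 1 := by
      intro H q t hq hH g hg
      by_contra hg1
      have hle : H ≤ centralizer ({g} : Set G) := fun x hx => mem_centralizer_singleton_iff.2 (hg x hx)
      obtain ⟨i, -, hi⟩ := (Nat.dvd_prime_pow hq).1 ((index_dvd_of_le hle).trans hH)
      exact hnp (CfsgLib.Burnside.prime_card_of_prime_pow_class hq hg1 hi)
    have hnotp : ∀ q : ℕ, q.Prime → ¬ IsPGroup q G := fun q hq hqG => by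
      haveI := Fact.mk hq
      haveI := hqG.isNilpotent
      exact hns inferInstance
    have hcard : Nat.card (A ⧸ B) * Nat.card B = Nat.card A := (card_eq_card_quotient_mul_card_subgroup B).symm
    have hAA : A ≠ ⊥ := by
      rintro rfl
      rw [index_bot] at hA
      obtain ⟨i, -, hi⟩ := (Nat.dvd_prime_pow hp).1 hA
      exact hnotp p hp (IsPGroup.of_card hi)
    have hBcomm : ∀ x y : B, x * y = y * x := fun x y => (IsCyclic.commGroup (α := B)).mul_comm x y
    set B' := B.map A.subtype
    have hB'card : Nat.card B' = Nat.card B := card_map_of_injective A.subtype_injective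
    by_cases hp2 : p = 2
    · -- an element of odd prime order of `B`
      subst hp2
      have hidx : B'.index ∣ 2 ^ (s + r) := by
        have h1 := card_mul_index B'
        have h2 := card_mul_index A
        rw [← hcard, ← h1, hB'card] at h2
        have h3 : B'.index = Nat.card (A ⧸ B) * A.index := by
          refine Nat.eq_of_mul_eq_mul_left (Nat.card_pos (α := B)) ?_
          rw [← h2]; ring
        rw [h3, pow_add, mul_comm (2 ^ s)]
        exact Nat.mul_dvd_mul hr hA
      obtain ⟨q, hq, hq2, hqB⟩ : ∃ q, q.Prime ∧ q ≠ 2 ∧ q ∣ Nat.card B := by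
        by_contra hno
        push Not at hno
        obtain ⟨j, hj⟩ : ∃ j, Nat.card B = 2 ^ j :=
          ⟨_, Nat.eq_prime_pow_of_unique_prime_dvd Nat.card_pos.ne' fun {d} hd hdB => by
            by_contra hd2
            exact hno d hd hd2 hdB⟩
        have h1 := card_mul_index B'
        rw [hB'card, hj] at h1
        obtain ⟨i, -, hi⟩ := (Nat.dvd_prime_pow Nat.prime_two).1 hidx
        rw [hi, ← pow_add] at h1
        exact hnotp 2 Nat.prime_two (IsPGroup.of_card h1.symm)
      haveI := Fact.mk hq
      obtain ⟨b, hb⟩ := exists_prime_orderOf_dvd_card' q hqB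
      have hb1 := hclass B' 2 (s + r) Nat.prime_two hidx ((b : A) : G) (by
        rintro _ ⟨x, hx, rfl⟩
        exact congrArg (fun t : B => ((t : A) : G)) (hBcomm ⟨x, hx⟩ b))
      have hb2 : b = 1 := Subtype.ext (Subtype.ext hb1)
      rw [hb2, orderOf_one] at hb
      exact hq.one_lt.ne hb
    -- now the index of `A` is odd
    have hcen : ∀ z : A, (∀ x : A, x * z = z * x) → z = 1 := fun z hz =>
      Subtype.ext (hclass A p s hp hA (z : G) fun x hx => congrArg Subtype.val (hz ⟨x, hx⟩))
    have hBodd : ¬ 2 ∣ Nat.card B := by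
      intro h2
      obtain ⟨b, hb⟩ := exists_prime_orderOf_dvd_card' 2 h2
      have hb1 : (b : A) = 1 := by
        refine hcen _ fun x => ?_
        have hx : x * (b : A) * x⁻¹ ∈ B := hBn.conj_mem _ b.2 x
        have ho : orderOf (⟨_, hx⟩ : B) = 2 := by
          rw [← orderOf_coe]
          show orderOf (MulAut.conj x (b : A)) = 2
          rw [MulEquiv.orderOf_eq, orderOf_coe, hb]
        have huniq : ∀ c : B, orderOf c = 2 → zpowers c = zpowers b := fun c hc => by
          classical
          haveI := Fintype.ofFinite B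
          have hle : ∀ L : Subgroup B, Nat.card L = 2 →
              (Finset.univ.filter fun y : B => y ∈ L) = Finset.univ.filter fun y : B => y ^ 2 = 1 := by
            intro L hL
            refine Finset.eq_of_subset_of_card_le (fun y hy => ?_) ((IsCyclic.card_pow_eq_one_le two_pos).trans ?_)
            · simp only [Finset.mem_filter, Finset.mem_univ, true_and] at hy ⊢
              have h1 : (⟨y, hy⟩ : L) ^ Nat.card L = 1 := pow_card_eq_one'
              rw [hL] at h1
              exact congrArg Subtype.val h1
            · rw [← Fintype.card_subtype, ← Nat.card_eq_fintype_card, hL]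
          ext y
          simpa using Finset.ext_iff.1 ((hle _ (by rw [Nat.card_zpowers, hc])).trans
            (hle _ (by rw [Nat.card_zpowers, hb])).symm) y
        obtain ⟨i, hi⟩ := (mem_powers_iff_mem_zpowers).2 (huniq _ ho ▸ mem_zpowers (⟨_, hx⟩ : B) :
          (⟨_, hx⟩ : B) ∈ zpowers b)
        simp only at hi
        rw [← pow_mod_orderOf, hb] at hi
        rcases Nat.mod_two_eq_zero_or_one i with h | h <;> rw [h] at hi
        · rw [pow_zero] at hi
          rw [← hi, orderOf_one] at ho
          norm_num at ho
        · rw [pow_one] at hi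
          exact mul_inv_eq_iff_eq_mul.1 (congrArg Subtype.val hi).symm
      have hb2 : b = 1 := Subtype.ext hb1
      rw [hb2, orderOf_one] at hb
      norm_num at hb
    obtain ⟨k, hk, hQk⟩ := (Nat.dvd_prime_pow Nat.prime_two).1 hr
    obtain ⟨S⟩ : Nonempty (Sylow 2 G) := inferInstance
    have hScard : Nat.card (S : Subgroup G) = 2 ^ k := by
      rw [S.card_eq_multiplicity]
      congr 1
      rw [← card_mul_index A, ← hcard, hQk, Nat.factorization_mul (Nat.mul_ne_zero (pow_ne_zero _ two_ne_zero) Nat.card_pos.ne') index_ne_zero_of_finite, Nat.factorization_mul (by positivity) Nat.card_pos.ne',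
        Finsupp.add_apply, Finsupp.add_apply, Nat.Prime.factorization_pow Nat.prime_two, Finsupp.single_eq_same,
        Nat.factorization_eq_zero_of_not_dvd hBodd, Nat.factorization_eq_zero_of_not_dvd, add_zero, add_zero]
      intro h2
      exact hp2 ((Nat.prime_dvd_prime_iff_eq Nat.prime_two hp).1 (Nat.prime_two.dvd_of_dvd_pow (h2.trans hA))).symm
    obtain ⟨T⟩ : Nonempty (Sylow 2 A) := inferInstance
    have hTcard : Nat.card (T : Subgroup A) = 2 ^ k := by
      rw [T.card_eq_multiplicity]
      congr 1
      rw [← hcard, hQk, Nat.factorization_mul (by positivity) Nat.card_pos.ne', Finsupp.add_apply,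
        Nat.Prime.factorization_pow Nat.prime_two, Finsupp.single_eq_same,
        Nat.factorization_eq_zero_of_not_dvd hBodd, add_zero]
    have hTc : IsCyclic (T : Subgroup A) := by
      refine isCyclic_of_injective ((QuotientGroup.mk' B).comp (T : Subgroup A).subtype) ?_
      refine (injective_iff_map_eq_one _).2 fun x hx => ?_
      obtain ⟨j, hj⟩ := IsPGroup.iff_orderOf.1 T.isPGroup' x
      have h1 : orderOf (x : A) ∣ Nat.card B := by
        rw [← Nat.card_zpowers]
        exact card_dvd_of_le (zpowers_le.2 ((QuotientGroup.eq_one_iff _).1 hx))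
      rw [orderOf_coe, hj] at h1
      rcases Nat.eq_zero_or_pos j with hj0 | hj0
      · rw [hj0, pow_zero] at hj
        exact orderOf_eq_one_iff.1 hj
      · exact absurd ((dvd_pow_self 2 hj0.ne').trans h1) hBodd
    have h2G : (Nat.card G).minFac = 2 := by
      rw [Nat.minFac_eq_two_iff]
      by_contra h2
      have hk0 : k = 0 := by
        by_contra hk0
        exact h2 ((dvd_pow_self 2 hk0).trans (hScard ▸ card_subgroup_dvd_card _))
      rw [hk0, pow_zero] at hQk
      haveI := (Nat.card_eq_one_iff_unique.1 hQk).1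
      have htop : B = ⊤ := eq_top_iff.2 fun x _ => (QuotientGroup.eq_one_iff x).1 (Subsingleton.elim _ _)
      refine hAA ((Subgroup.eq_bot_iff_forall A).2 fun x hx => ?_)
      have := hcen ⟨x, hx⟩ fun y => congrArg Subtype.val (hBcomm ⟨y, htop ▸ mem_top y⟩ ⟨⟨x, hx⟩, htop ▸ mem_top _⟩)
      exact congrArg Subtype.val this
    have hSc : IsCyclic (S : Subgroup G) := by
      let T' : Sylow 2 G := (T.isPGroup'.map A.subtype).toSylow (by
        have h1 := card_mul_index ((T : Subgroup A).map A.subtype)
        rw [card_map_of_injective A.subtype_injective, hTcard] at h1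
        intro h2
        have h3 := S.not_dvd_index
        have h4 := card_mul_index (S : Subgroup G)
        rw [hScard] at h4
        exact h3 (Nat.eq_of_mul_eq_mul_left (by positivity) (h1.trans h4.symm) ▸ h2))
      have hT' : IsCyclic (T' : Subgroup G) := by
        show IsCyclic ((T : Subgroup A).map A.subtype)
        exact isCyclic_of_surjective (A.subtype.subgroupMap T) (A.subtype.subgroupMap_surjective T)
      exact (Sylow.equiv T' S).isCyclic.1 hT'
    have hle := IsCyclic.normalizer_le_centralizer (P := S) h2G hSc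
    rcases IsSimpleGroup.eq_bot_or_eq_top_of_normal _ (MonoidHom.transferSylow S hle).normal_ker with h | h
    · have hc := MonoidHom.ker_transferSylow_isComplement' S hle
      rw [h, isComplement'_bot_left] at hc
      exact hnotp 2 Nat.prime_two ((hc ▸ S.isPGroup').of_equiv topEquiv)
    · have hnd := MonoidHom.not_dvd_card_ker_transferSylow S hle
      rw [h, card_top] at hnd
      exact hnd (h2G ▸ Nat.minFac_dvd _)

/-- Let G be a finite group with a subgroup A of prime-power index. Suppose A has a normal cyclic subgroup B such that A/B is cyclic of order a power of 2. Then G is solvable. -/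
theorem result {G : Type*} [Group G] [Finite G] (A : Subgroup G) (p s : ℕ) (hp : p.Prime) (hA : A.index = p ^ s)
    (B : Subgroup A) [B.Normal] (hB : IsCyclic B) (hAB : IsCyclic (A ⧸ B)) (r : ℕ) (hr : Nat.card (A ⧸ B) = 2 ^ r) :
    Group.IsSolvable G := by
  exact isSolvable_of_good _ G rfl ⟨A, p, s, r, B, inferInstance, hp, hA ▸ dvd_rfl, hB, hAB, hr ▸ dvd_rfl⟩

end Cfsg.Agent.S4245
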