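import Cfsg.Statements.S4250
import Cfsg.Agent.Lib.Transfer.Fusion
import Cfsg.Agent.Lib.Transfer.Alperin

set_option autoImplicit false
open Cfsg

namespace Cfsg.Agent.S4250

open scoped commutatorElement

open CfsgLib.Transfer Subgroup in
theorem diff_mem.{u} {G : Type u} [Group G] [Finite G] {p : ℕ} [Fact p.Prime] (P : Sylow p G)
    (C : Subgroup G)
    (h1 : ⁅(P : Subgroup G), Subgroup.normalizer ((P : Subgroup G) : Set G)⁆ ≤ C)
    (h2 : ∀ Q : Sylow p G, IsTameInter P Q → ∀ x : G,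
      x ∈ Subgroup.normalizer (((P : Subgroup G) ⊓ (Q : Subgroup G) : Subgroup G) : Set G) →
      (∃ k : ℕ, orderOf x = p ^ k) → ⁅(P : Subgroup G) ⊓ (Q : Subgroup G), Subgroup.zpowers x⁆ ≤ C) :
    ∀ (D : Subgroup G) (g : G), D ≤ (P : Subgroup G) → (∀ a ∈ D, g⁻¹ * a * g ∈ (P : Subgroup G)) →
      ∀ a ∈ D, a⁻¹ * (g⁻¹ * a * g) ∈ C := by
  intro D
  induction hk : Nat.card (P : Subgroup G) - Nat.card D using Nat.strong_induction_on generalizing D with
  | _ k ih => ?_
  subst hk
  intro g hDP hg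
  have big : ∀ R : Subgroup G, R ≤ (P : Subgroup G) → Nat.card D < Nat.card R → ∀ w : G,
      (∀ a ∈ R, w⁻¹ * a * w ∈ (P : Subgroup G)) → ∀ a ∈ R, a⁻¹ * (w⁻¹ * a * w) ∈ C := by
    intro R hR hlt w hw
    refine ih _ ?_ R rfl w hR hw
    have := Subgroup.card_le_of_le hR
    omega
  have step : ∀ (Q : Sylow p G) (n : G), IsTameInter P Q →
      Nat.card D ≤ Nat.card ((P : Subgroup G) ⊓ (Q : Subgroup G) : Subgroup G) →
      n ∈ Subgroup.normalizer (((P : Subgroup G) ⊓ (Q : Subgroup G) : Subgroup G) : Set G) →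
      ∀ a ∈ (P : Subgroup G) ⊓ (Q : Subgroup G), a⁻¹ * (n⁻¹ * a * n) ∈ C := by
    intro Q n ht hle hn a ha
    set H := (P : Subgroup G) ⊓ (Q : Subgroup G) with hH
    by_cases hHP : H = (P : Subgroup G)
    · rw [hHP] at hn ha
      have h3 := h1 (commutator_mem_commutator (inv_mem ha) (inv_mem hn))
      simpa [commutatorElement_def, mul_assoc] using h3
    set N := Subgroup.normalizer (H : Set G) with hN
    set R := (P : Subgroup G) ⊓ N with hR
    have hHR : H < R := lt_inf_normalizer P.2 (lt_of_le_of_ne inf_le_left hHP)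
    let M : Subgroup G := closure {x | x ∈ N ∧ ∃ k : ℕ, orderOf x = p ^ k}
    have hMN : M ≤ N := (closure_le _).2 fun x hx => hx.1
    have hRp : IsPGroup p R := P.2.to_le inf_le_left
    have hRM : R ≤ M := fun x hx => subset_closure ⟨hx.2, by
      obtain ⟨k, hk⟩ := IsPGroup.iff_orderOf.1 hRp ⟨x, hx⟩
      exact ⟨k, by rw [← hk, Subgroup.orderOf_mk]⟩⟩
    have hRi : ¬ p ∣ R.relIndex M := fun hd => ht.1 (by
      rw [← hH, ← hN, ← hR, ← relIndex_mul_relIndex _ _ _ hRM hMN]
      exact hd.mul_right _)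
    have hS : ∀ x ∈ R.map (MulAut.conj n⁻¹).toMonoidHom, x ∈ M := by
      rintro _ ⟨r, hr, rfl⟩
      refine subset_closure ⟨?_, ?_⟩
      · show n⁻¹ * r * n⁻¹⁻¹ ∈ N
        exact mul_mem (mul_mem (inv_mem hn) hr.2) (inv_mem (inv_mem hn))
      · obtain ⟨k, hk⟩ := IsPGroup.iff_orderOf.1 hRp ⟨r, hr⟩
        refine ⟨k, ?_⟩
        rw [← hk, Subgroup.orderOf_mk]
        exact (MulAut.conj n⁻¹).orderOf_eq r
    obtain ⟨y, hy, hyR⟩ := exists_conj_le hRp hRi hS (hRp.map _)
    have hyN : y ∈ N := hMN hy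
    have key : ∀ z ∈ M, ∀ b ∈ H, b⁻¹ * (z⁻¹ * b * z) ∈ C := by
      intro z hz
      induction hz using closure_induction with
      | mem x hx =>
        intro b hb
        have h3 := h2 Q ht x hx.1 hx.2
          (commutator_mem_commutator (inv_mem hb) (inv_mem (mem_zpowers x)))
        simpa [commutatorElement_def, mul_assoc] using h3
      | one => intro b _; simp [one_mem]
      | mul x z hx _ ihx ihz =>
        intro b hb
        have hb' : x⁻¹ * b * x ∈ H := (mem_normalizer_iff''.1 (hMN hx) b).1 hb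
        have := mul_mem (ihx b hb) (ihz _ hb')
        convert this using 1
        group
      | inv x hx ihx =>
        intro b hb
        have hb' : x * b * x⁻¹ ∈ H := (mem_normalizer_iff.1 (hMN hx) b).1 hb
        have := inv_mem (ihx _ hb')
        convert this using 1
        group
    have haR : a ∈ R := ⟨ha.1, le_normalizer ha⟩
    have hw : ∀ r ∈ R, (n * y)⁻¹ * r * (n * y) ∈ (P : Subgroup G) := by
      intro r hr
      have h3 := (hyR _ (mem_map_of_mem _ hr)).1
      change y⁻¹ * (n⁻¹ * r * n⁻¹⁻¹) * y ∈ (P : Subgroup G) at h3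
      convert h3 using 1
      group
    have hA := big R inf_le_left (lt_of_le_of_lt hle (card_lt_of_lt hHR)) (n * y) hw a haR
    have haw : (n * y)⁻¹ * a * (n * y) ∈ H :=
      (mem_normalizer_iff''.1 (mul_mem hn hyN) a).1 ha
    have := mul_mem hA (key y⁻¹ (inv_mem hy) _ haw)
    convert this using 1
    group
  have hpath := exists_fusionPath P (A := (D : Set G)) (g := g) hDP
    (by rintro _ ⟨a, ha, rfl⟩; exact hg a ha)
  suffices ∀ (A : Set G) (w : G), FusionPath P A w → Nat.card D ≤ Nat.card A →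
      ∀ a ∈ A, a⁻¹ * (w⁻¹ * a * w) ∈ C from this _ g hpath le_rfl
  intro A w hw
  induction hw with
  | one A => intro _ a _; simp [one_mem]
  | step A Q x w ht hx hA _ ih' =>
    intro hcard a ha
    have h3 := step Q x ht (hcard.trans (Nat.card_mono (Set.toFinite _) hA)) hx a (hA ha)
    have h4 := ih' (by
      rw [Nat.card_image_of_injective (f := fun a => x⁻¹ * a * x) (fun s t h => by simpa using h)]
      exact hcard) _ ⟨a, ha, rfl⟩
    have := mul_mem h3 h4
    convert this using 1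
    group

/-- Let P be a Sylow p-subgroup of a finite group G. Call an intersection H = P ∩ Q with a Sylow p-subgroup Q tame when N_P(H) and N_Q(H) are Sylow p-subgroups of N_G(H). Then P ∩ G′ is generated by [P, N_G(P)] together with the commutator subgroups [P ∩ Q, ⟨x⟩] for all tame intersections P ∩ Q and all p-elements x of N_G(P ∩ Q). -/
theorem result {G : Type*} [Group G] [Finite G] (p : ℕ) [Fact p.Prime] (P : Sylow p G) :
    (P : Subgroup G) ⊓ commutator G =
      ⁅(P : Subgroup G), Subgroup.normalizer ((P : Subgroup G) : Set G)⁆ ⊔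
        ⨆ (Q : Sylow p G) (_ : (¬ p ∣ ((P : Subgroup G) ⊓ Subgroup.normalizer (((P : Subgroup G) ⊓ (Q : Subgroup G) : Subgroup G) : Set G)).relIndex (Subgroup.normalizer (((P : Subgroup G) ⊓ (Q : Subgroup G) : Subgroup G) : Set G)) ∧ ¬ p ∣ ((Q : Subgroup G) ⊓ Subgroup.normalizer (((P : Subgroup G) ⊓ (Q : Subgroup G) : Subgroup G) : Set G)).relIndex (Subgroup.normalizer (((P : Subgroup G) ⊓ (Q : Subgroup G) : Subgroup G) : Set G))))
          (x : G) (_ : x ∈ Subgroup.normalizer (((P : Subgroup G) ⊓ (Q : Subgroup G) : Subgroup G) : Set G) ∧ ∃ k : ℕ, orderOf x = p ^ k),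
          ⁅(P : Subgroup G) ⊓ (Q : Subgroup G), Subgroup.zpowers x⁆ := by
  refine le_antisymm ?_ (sup_le ?_ (iSup_le fun Q => iSup_le fun ht => iSup_le fun x => iSup_le fun hx => ?_))
  · rw [inf_comm]
    refine CfsgLib.Transfer.commutator_inf_le_of_fusion P _ fun a ha g hag => ?_
    refine diff_mem P _ le_sup_left (fun Q ht x hx hk => ?_) (Subgroup.zpowers a) g
      (Subgroup.zpowers_le.2 ha) ?_ a (Subgroup.mem_zpowers a)
    · exact le_sup_of_le_right (le_iSup_of_le Q (le_iSup_of_le ht (le_iSup_of_le x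
        (le_iSup_of_le ⟨hx, hk⟩ le_rfl))))
    · rintro _ ⟨i, rfl⟩
      have h3 : g⁻¹ * a ^ i * g = (g⁻¹ * a * g) ^ i := by
        simpa using (map_zpow (MulAut.conj g⁻¹) a i)
      show g⁻¹ * a ^ i * g ∈ _
      rw [h3]
      exact zpow_mem hag i
  · refine le_inf (Subgroup.commutator_le.2 fun a ha n hn => ?_) (Subgroup.commutator_mono le_top le_top)
    rw [commutatorElement_def, mul_assoc a n, mul_assoc]
    exact mul_mem ha ((Subgroup.mem_normalizer_iff.1 hn _).1 (inv_mem ha))
  · refine le_inf (Subgroup.commutator_le.2 fun a ha n hn => ?_) (Subgroup.commutator_mono le_top le_top)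
    obtain ⟨i, rfl⟩ := Subgroup.mem_zpowers_iff.1 hn
    rw [commutatorElement_def, mul_assoc a _, mul_assoc]
    exact mul_mem ha.1 ((Subgroup.mem_normalizer_iff.1 (zpow_mem hx.1 i) _).1 (inv_mem ha)).1

end Cfsg.Agent.S4250
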