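import Cfsg.Statements.S4251
import Cfsg.Agent.Lib.Transfer.Fusion

set_option autoImplicit false
open Cfsg

namespace Cfsg.Agent.S4251

/-- Let P be a Sylow p-subgroup of a finite group G. Call an intersection H = P ∩ Q with a Sylow p-subgroup Q tame when N_P(H) and N_Q(H) are Sylow p-subgroups of N_G(H). If N_G(H)/C_G(H) is a p-group for every nontrivial tame intersection H = P ∩ Q, then G has a normal p-complement. -/
theorem result {G : Type*} [Group G] [Finite G] (p : ℕ) [Fact p.Prime] (P : Sylow p G)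
    (h : ∀ Q : Sylow p G, (P : Subgroup G) ⊓ (Q : Subgroup G) ≠ ⊥ → (¬ p ∣ ((P : Subgroup G) ⊓ Subgroup.normalizer (((P : Subgroup G) ⊓ (Q : Subgroup G) : Subgroup G) : Set G)).relIndex (Subgroup.normalizer (((P : Subgroup G) ⊓ (Q : Subgroup G) : Subgroup G) : Set G)) ∧ ¬ p ∣ ((Q : Subgroup G) ⊓ Subgroup.normalizer (((P : Subgroup G) ⊓ (Q : Subgroup G) : Subgroup G) : Set G)).relIndex (Subgroup.normalizer (((P : Subgroup G) ⊓ (Q : Subgroup G) : Subgroup G) : Set G))) →
      IsPGroup p (Subgroup.normalizer (((P : Subgroup G) ⊓ (Q : Subgroup G) : Subgroup G) : Set G) ⧸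
        (Subgroup.centralizer (((P : Subgroup G) ⊓ (Q : Subgroup G) : Subgroup G) : Set G)).subgroupOf
          (Subgroup.normalizer (((P : Subgroup G) ⊓ (Q : Subgroup G) : Subgroup G) : Set G)))) :
    Cfsg.HasNormalPComplement p G := by
  refine CfsgLib.Transfer.hasNormalPComplement_of_inf_pResidual P ?_
  have hR := CfsgLib.Transfer.inf_pResidual_le_of_local P ⊥ bot_le fun Q hQ k hk a ha => by
    rw [Subgroup.map_bot, Subgroup.mem_bot]
    by_cases hD : (P : Subgroup G) ⊓ (Q : Subgroup G) = ⊥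
    · rw [hD, Subgroup.mem_bot] at ha
      simp [ha]
    obtain ⟨k, hk, rfl⟩ := hk
    have hle : k ∈ (Subgroup.centralizer (((P : Subgroup G) ⊓ (Q : Subgroup G) : Subgroup G) : Set G)).subgroupOf
        (Subgroup.normalizer (((P : Subgroup G) ⊓ (Q : Subgroup G) : Subgroup G) : Set G)) :=
      CfsgLib.Transfer.pResidual_le_of_isPGroup_quotient (h Q hD hQ) hk
    have hc := Subgroup.mem_centralizer_iff.1 (Subgroup.mem_subgroupOf.1 hle) a ha
    rw [Subgroup.coe_subtype, mul_assoc (k : G)⁻¹, hc, inv_mul_cancel_left, inv_mul_cancel]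
  rw [Subgroup.eq_bot_iff_forall]
  intro x hx
  have hx' : (⟨x, hx.1⟩ : (P : Subgroup G)) ∈ (Cfsg.pResidual p G).subgroupOf (P : Subgroup G) := hx.2
  rw [hR, Subgroup.mem_bot] at hx'
  exact congrArg Subtype.val hx'
end Cfsg.Agent.S4251
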