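import Cfsg.Statements.S4252
import Cfsg.Agent.Lib.HallGen.Counting

set_option autoImplicit false
open Cfsg
open scoped Pointwise

namespace Cfsg.Agent.S4252

/-- Let a finite group G act on a finite set Ω with more than one point, transitively but not regularly, so that no non-identity element of G fixes two distinct points. Then the stabilizer H of any point is a Frobenius complement in G (nontrivial, proper, meeting its other conjugates trivially), and the Frobenius kernel of G with respect to H (the identity together with the elements lying in no conjugate of H) is exactly the set consisting of the identity and the elements fixing no point. -/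
theorem result {G Ω : Type*} [Group G] [Finite G] [Fintype Ω] [MulAction G Ω] (hΩ : 1 < Fintype.card Ω)
    (htrans : ∀ α β : Ω, ∃ g : G, g • α = β) (hnreg : ∃ g : G, g ≠ 1 ∧ ∃ α : Ω, g • α = α)
    (hfix : ∀ g : G, g ≠ 1 → ∀ α β : Ω, g • α = α → g • β = β → α = β) (α : Ω) :
    Cfsg.IsFrobeniusComplement (MulAction.stabilizer G α) ∧
      Cfsg.frobeniusKernel (MulAction.stabilizer G α) = {g : G | g = 1 ∨ ∀ ω : Ω, g • ω ≠ ω} := by
  haveI : MulAction.IsPretransitive G Ω := ⟨htrans⟩
  obtain ⟨γ, hγ⟩ := Fintype.exists_ne_of_one_lt_card hΩ α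
  refine ⟨⟨?_, ?_, fun g hg => ?_⟩, ?_⟩
  · intro hbot
    obtain ⟨k, hk, β, hβ⟩ := hnreg
    obtain ⟨c, hc⟩ := htrans β α
    have h1 : c * k * c⁻¹ ∈ MulAction.stabilizer G α := by
      rw [MulAction.mem_stabilizer_iff, ← hc, mul_smul, inv_smul_smul, mul_smul, hβ]
    rw [hbot, Subgroup.mem_bot] at h1
    exact hk (by simpa using h1)
  · intro htop
    obtain ⟨c, hc⟩ := htrans α γ
    have : c ∈ MulAction.stabilizer G α := htop ▸ Subgroup.mem_top c
    exact hγ (hc ▸ this)
  · rw [Subgroup.eq_bot_iff_forall]
    rintro h ⟨h1, k, hk, rfl⟩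
    by_contra hne
    refine hg ?_
    refine (hfix _ hne α (g • α) h1 ?_).symm
    simp [MulAut.conj, mul_smul, show k • α = α from hk]
  · ext x
    refine or_congr Iff.rfl ⟨fun h ω hω => ?_, fun h g hg => ?_⟩
    · obtain ⟨c, rfl⟩ := htrans α ω
      refine h c ⟨c⁻¹ * x * c, ?_, by simp [MulAut.conj, mul_assoc]⟩
      simp [mul_smul, hω]
    · obtain ⟨k, hk, rfl⟩ := hg
      exact h (g • α) (by simp [MulAut.conj, mul_smul, show k • α = α from hk])
end Cfsg.Agent.S4252
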