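import Cfsg.Statements.S4253
import Cfsg.Agent.Lib.HallGen.Counting

set_option autoImplicit false
open Cfsg
open scoped Pointwise

namespace Cfsg.Agent.S4253

/-- Let H be a Frobenius complement in a finite group G (a nontrivial proper subgroup meeting each conjugate gHg⁻¹ with g outside H trivially). Then in the action of G on the left cosets of H by left multiplication, no non-identity element of G fixes two distinct cosets. -/
theorem result {G : Type*} [Group G] [Finite G] (H : Subgroup G) (hH : Cfsg.IsFrobeniusComplement H)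
    (g : G) (hg : g ≠ 1) (a b : G ⧸ H) (ha : g • a = a) (hb : g • b = b) : a = b := by
  induction a using QuotientGroup.induction_on with
  | _ a =>
  induction b using QuotientGroup.induction_on with
  | _ b =>
  rw [MulAction.Quotient.smul_coe, smul_eq_mul, QuotientGroup.eq] at ha hb
  rw [QuotientGroup.eq]
  by_contra hc
  have h1 := hH.2.2 _ hc
  have ha' : a⁻¹ * g * a ∈ H := by
    have := H.inv_mem ha; rwa [show ((g * a)⁻¹ * a)⁻¹ = a⁻¹ * g * a by group] at this
  have hb' : b⁻¹ * g * b ∈ H := by
    have := H.inv_mem hb; rwa [show ((g * b)⁻¹ * b)⁻¹ = b⁻¹ * g * b by group] at this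
  have : a⁻¹ * g * a ∈ H ⊓ MulAut.conj (a⁻¹ * b) • H :=
    ⟨ha', b⁻¹ * g * b, hb', by simp [MulAut.conj, mul_assoc]⟩
  rw [h1, Subgroup.mem_bot] at this
  apply hg
  have h2 : g = a * (a⁻¹ * g * a) * a⁻¹ := by group
  rw [h2, this]; simp
end Cfsg.Agent.S4253
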