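import Cfsg.Statements.S4255
import Cfsg.Agent.Lib.ClassSizes.ClassGraphSplit

set_option autoImplicit false
open Cfsg

set_option linter.all false

namespace Cfsg.Agent.S4255

open CfsgLib.ClassSizes.GraphSplit in
/-- Let G be a finite group. Call a prime a vertex if it divides some conjugacy class size of G, and two distinct vertices adjacent if their product divides some class size. Suppose this graph is disconnected: the vertices split into two nonempty parts with no vertex of one part adjacent to a vertex of the other. Then G/Z(G) is a Frobenius group with abelian Frobenius complement and with a Frobenius kernel all of whose elements commute. -/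
theorem result {G : Type*} [Group G] [Finite G] (S : Set ℕ) (hS : ∃ p ∈ S, (p.Prime ∧ ∃ g : G, p ∣ (Subgroup.centralizer ({g} : Set G)).index)) (hS' : ∃ q ∉ S, (q.Prime ∧ ∃ g : G, q ∣ (Subgroup.centralizer ({g} : Set G)).index))
    (hdisc : ∀ p q : ℕ, (p.Prime ∧ ∃ g : G, p ∣ (Subgroup.centralizer ({g} : Set G)).index) → (q.Prime ∧ ∃ g : G, q ∣ (Subgroup.centralizer ({g} : Set G)).index) → p ∈ S → q ∉ S → ¬ (∃ g : G, p * q ∣ (Subgroup.centralizer ({g} : Set G)).index)) :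
    ∃ H : Subgroup (G ⧸ Subgroup.center G), Cfsg.IsFrobeniusComplement H ∧ IsMulCommutative H ∧
      ∀ x ∈ Cfsg.frobeniusKernel H, ∀ y ∈ Cfsg.frobeniusKernel H, x * y = y * x := by
  have hd : ∀ x : G, PN S (sz x) ∨ PN Sᶜ (sz x) := by
    intro x
    refine or_iff_not_imp_left.2 fun hn q hq hqd hqS => hn fun r hr hrd => ?_
    by_contra hrS
    refine hdisc q r ⟨hq, x, hqd⟩ ⟨hr, x, hrd⟩ hqS hrS ⟨x, ?_⟩
    exact ((Nat.coprime_primes hq hr).2 fun e => hrS (e ▸ hqS)).mul_dvd_of_dvd_of_dvd hqd hrd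
  have hex : ∀ T : Set ℕ, ∀ p ∈ T, p.Prime → ∀ g : G, p ∣ sz g → (PN T (sz g) ∨ PN Tᶜ (sz g)) →
      ∃ x : G, x ∉ Subgroup.center G ∧ PN T (sz x) := fun T p hp hpp g hg h =>
    ⟨g, fun hz => hpp.not_dvd_one (mem_center_of_sz.2 hz ▸ hg), h.resolve_right fun h' => h' p hpp hg hp⟩
  obtain ⟨p, hp, hpp, g, hg⟩ := hS
  obtain ⟨q, hq, hqq, k, hk⟩ := hS'
  obtain ⟨S', V, H, h⟩ := exists_split S hd (hex S p hp hpp g hg (hd g))
    (hex Sᶜ q hq hqq k hk (by rw [compl_compl]; exact (hd k).symm))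
  obtain ⟨hF, hK⟩ := frobenius h
  refine ⟨_, hF, ⟨⟨?_⟩⟩, ?_⟩
  · rintro ⟨_, a, ha, rfl⟩ ⟨_, b, hb, rfl⟩
    exact Subtype.ext (by
      show QuotientGroup.mk' _ a * QuotientGroup.mk' _ b = QuotientGroup.mk' _ b * QuotientGroup.mk' _ a
      rw [← map_mul, ← map_mul, h.2.2.1 a ha b hb])
  · rw [hK]
    rintro _ ⟨a, ha, rfl⟩ _ ⟨b, hb, rfl⟩
    rw [← map_mul, ← map_mul, h.2.1 a ha b hb]

end Cfsg.Agent.S4255
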