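import Cfsg.Statements.S4257
import Cfsg.Agent.Lib.ClassSizes.ClassGraphDiameter

set_option autoImplicit false
open Cfsg

set_option linter.all false

namespace Cfsg.Agent.S4257

open CfsgLib.ClassSizes.GraphDiameter CfsgLib.ClassSizes.GraphSplit in
/-- Let G be a finite group. Call a prime a vertex if it divides some conjugacy class size of G, and two distinct vertices adjacent if their product divides some class size. If this graph is connected, then its diameter is at most 3: any two distinct vertices p and q are adjacent, or joined through one or two intermediate vertices. -/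
theorem result {G : Type*} [Group G] [Finite G]
    (hconn : ∀ S : Set ℕ, (∃ p ∈ S, (p.Prime ∧ ∃ g : G, p ∣ (Subgroup.centralizer ({g} : Set G)).index)) → (∃ q ∉ S, (q.Prime ∧ ∃ g : G, q ∣ (Subgroup.centralizer ({g} : Set G)).index)) →
      ∃ p q : ℕ, (p.Prime ∧ ∃ g : G, p ∣ (Subgroup.centralizer ({g} : Set G)).index) ∧ (q.Prime ∧ ∃ g : G, q ∣ (Subgroup.centralizer ({g} : Set G)).index) ∧ p ∈ S ∧ q ∉ S ∧ (∃ g : G, p * q ∣ (Subgroup.centralizer ({g} : Set G)).index))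
    (p q : ℕ) (hp : (p.Prime ∧ ∃ g : G, p ∣ (Subgroup.centralizer ({g} : Set G)).index)) (hq : (q.Prime ∧ ∃ g : G, q ∣ (Subgroup.centralizer ({g} : Set G)).index)) (hpq : p ≠ q) :
    (∃ g : G, p * q ∣ (Subgroup.centralizer ({g} : Set G)).index) ∨ (∃ r : ℕ, (r.Prime ∧ ∃ g : G, r ∣ (Subgroup.centralizer ({g} : Set G)).index) ∧ r ≠ p ∧ r ≠ q ∧ (∃ g : G, p * r ∣ (Subgroup.centralizer ({g} : Set G)).index) ∧ (∃ g : G, r * q ∣ (Subgroup.centralizer ({g} : Set G)).index)) ∨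
      (∃ r s : ℕ, (r.Prime ∧ ∃ g : G, r ∣ (Subgroup.centralizer ({g} : Set G)).index) ∧ (s.Prime ∧ ∃ g : G, s ∣ (Subgroup.centralizer ({g} : Set G)).index) ∧ r ≠ p ∧ s ≠ q ∧ r ≠ s ∧ r ≠ q ∧ s ≠ p ∧
        (∃ g : G, p * r ∣ (Subgroup.centralizer ({g} : Set G)).index) ∧ (∃ g : G, r * s ∣ (Subgroup.centralizer ({g} : Set G)).index) ∧ (∃ g : G, s * q ∣ (Subgroup.centralizer ({g} : Set G)).index)) := by
  obtain ⟨r, s, hr, hs, h1, h2, h3⟩ := exists_chain hconn hp.1 hp.2 hq.1 hq.2 hpq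
  by_cases hpq' : Adj G p q
  · exact Or.inl hpq'
  by_cases hone : ∃ t : ℕ, t.Prime ∧ t ≠ p ∧ t ≠ q ∧ Adj G p t ∧ Adj G t q
  · obtain ⟨t, ht, htp, htq, ⟨g, hg⟩, h⟩ := hone
    exact Or.inr (Or.inl ⟨t, ⟨ht, g, (dvd_mul_left t p).trans hg⟩, htp, htq, ⟨g, hg⟩, h⟩)
  push Not at hone
  have hshort : ∀ t : ℕ, t.Prime → (t = p ∨ Adj G p t) → (q = t ∨ Adj G t q) → False := by
    intro t ht a b
    rcases eq_or_ne t p with rfl | hne
    · exact b.elim (fun e => hpq e.symm) hpq'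
    rcases eq_or_ne t q with rfl | hne'
    · exact a.elim hne hpq'
    exact hone t ht hne hne' (a.resolve_left hne) (b.resolve_left (Ne.symm hne'))
  have hrs : s ≠ r := fun e => hshort r hr h1 (e ▸ h3)
  have hrp : r ≠ p := fun e => hshort s hs (e ▸ h2) h3
  have hsq : s ≠ q := fun e => hshort r hr h1 (h2.imp (fun e' => (e'.symm.trans e).symm) fun h => e ▸ h)
  obtain ⟨g, hg⟩ := h1.resolve_left hrp
  obtain ⟨k, hk⟩ := h2.resolve_left hrs
  refine Or.inr (Or.inr ⟨r, s, ⟨hr, g, (dvd_mul_left r p).trans hg⟩, ⟨hs, k, (dvd_mul_left s r).trans hk⟩,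
    hrp, hsq, Ne.symm hrs, fun e => hpq' (e ▸ ⟨g, hg⟩), fun e => hpq' (e ▸ h3.resolve_left (Ne.symm hsq)),
    ⟨g, hg⟩, ⟨k, hk⟩, h3.resolve_left (Ne.symm hsq)⟩)

end Cfsg.Agent.S4257
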