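import Cfsg.Statements.S4258
import Cfsg.Agent.Lib.Core.HHCritical.TwoTops.Step

set_option autoImplicit false
open Cfsg

namespace Cfsg.Agent.S4258

/-- Let G be a finite 2-soluble group whose Sylow 2-subgroups have exponent dividing 2^e. Then the 2-length of G is at most e. -/
theorem result {G : Type*} [Group G] [Finite G] (hG : Cfsg.IsPSolvable 2 G) (e : ℕ)
    (hexp : ∀ (P : Sylow 2 G), ∀ x ∈ (P : Subgroup G), x ^ 2 ^ e = 1) : Cfsg.PLengthLE 2 e G := by
  classical
  haveI := Fact.mk Nat.prime_two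
  have hexp' : ∀ g : G, (∃ i, g ^ 2 ^ i = 1) → g ^ 2 ^ e = 1 := fun g hg => by
    obtain ⟨P, hP⟩ := (CfsgLib.Core.HHTwo.isPGroup_zpowers_two hg).exists_le_sylow
    exact hexp P g (hP (Subgroup.mem_zpowers g))
  show (Cfsg.upperPSeries 2 G (2 * e + 1)).1 = ⊤
  -- when the `2`-elements are trivial
  have hodd : ∀ (H : Subgroup G) [H.Normal], (∀ y : G ⧸ H, (∃ i, y ^ 2 ^ i = 1) → y = 1) →
      Cfsg.pPrimeCore 2 (G ⧸ H) = ⊤ := by
    intro H _ h
    refine eq_top_iff.2 (CfsgLib.Core.le_pPrimeCore ?_)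
    rw [Subgroup.card_top, Nat.coprime_comm, Nat.prime_two.coprime_iff_not_dvd]
    intro hd
    obtain ⟨y, hy⟩ := exists_prime_orderOf_dvd_card' 2 hd
    have h1 := h y ⟨1, by rw [pow_one, ← hy]; exact pow_orderOf_eq_one y⟩
    rw [h1, orderOf_one] at hy
    omega
  rcases Nat.eq_zero_or_pos e with rfl | hepos
  · rw [CfsgLib.PLocal.upper_odd 0, hodd _ fun y hy => ?_, Subgroup.comap_top]
    obtain ⟨z, rfl, hz⟩ := CfsgLib.Core.HHTwo.exists_two_lift (QuotientGroup.mk'_surjective _) hy
    have := hexp' z hz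
    rw [pow_zero, pow_one] at this
    rw [this, map_one]
  have key : ∀ k, k + 1 ≤ e →
      CfsgLib.Core.HHTwo.NormData (e - k) (G ⧸ (Cfsg.upperPSeries 2 G (2 * k + 2)).1) := by
    intro k
    induction k with
    | zero =>
      intro _
      set U1 := (Cfsg.upperPSeries 2 G (2 * 0 + 1)).1 with hU1
      have hker : ((QuotientGroup.mk' (Cfsg.pCore 2 (G ⧸ U1))).comp (QuotientGroup.mk' U1)).ker =
          (Cfsg.upperPSeries 2 G (2 * 0 + 2)).1 := by
        rw [CfsgLib.PLocal.upper_even, ← MonoidHom.comap_ker, QuotientGroup.ker_mk']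
      refine CfsgLib.Core.HHTwo.NormData.congr ((QuotientGroup.quotientMulEquivOfEq hker.symm).trans
        (QuotientGroup.quotientKerEquivOfSurjective _ ((QuotientGroup.mk'_surjective _).comp
          (QuotientGroup.mk'_surjective _)))) ?_
      obtain ⟨M, _, _, r0, em, hM, hinj, hem, hadd, hact⟩ := CfsgLib.Core.HHTop.frattini_rep
        (CfsgLib.PLocal.isPSolvable_quotient hG U1) (CfsgLib.PLocal.pPrimeCore_quotient_upper_odd 0)
      refine ⟨M, inferInstance, inferInstance, r0, hM, hinj, fun z hz => ?_⟩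
      obtain ⟨z', rfl, hz'⟩ := CfsgLib.Core.HHTwo.exists_two_lift (QuotientGroup.mk'_surjective _) hz
      have hex : ∀ x : G ⧸ U1, (∃ i, x ^ 2 ^ i = 1) → x ^ 2 ^ e = 1 := fun x hx => by
        obtain ⟨g, rfl, hg⟩ := CfsgLib.Core.HHTwo.exists_two_lift (QuotientGroup.mk'_surjective _) hx
        rw [← map_pow, hexp' g hg, map_one]
      rw [Nat.sub_zero]
      refine ⟨by rw [← map_pow, hex z' hz', map_one], DFunLike.ext _ _ fun w => ?_⟩
      obtain ⟨r, rfl⟩ := hem w
      simp only [map_pow]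
      rw [QuotientGroup.mk'_apply, CfsgLib.Core.HHTop.norm_apply r0 em hadd hact]
      have h1 := hadd 1 1
      rw [mul_one, left_eq_add] at h1
      refine Eq.trans (congrArg em (Subtype.ext ?_)) h1
      show ((r : G ⧸ U1) * z') ^ 2 ^ e * (z' ^ 2 ^ e)⁻¹ = 1
      rw [hex _ (CfsgLib.Core.HHTwo.exists_pow_eq_one_of_mul (CfsgLib.Core.isPGroup_pCore 2 _)
        (fun a ha => (inferInstance : (Cfsg.pCore 2 (G ⧸ U1)).Normal).conj_mem a ha z') r.2 hz'),
        hex z' hz', inv_one, mul_one]
    | succ k ih =>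
      intro hk
      have h := ih (by omega)
      rw [show e - k = e - (k + 1) + 1 by omega] at h
      set U := (Cfsg.upperPSeries 2 G (2 * k + 2)).1 with hU
      have hO : Cfsg.pCore 2 (G ⧸ U) = ⊥ := by
        set U1 := (Cfsg.upperPSeries 2 G (2 * k + 1)).1 with hU1
        have hker : ((QuotientGroup.mk' (Cfsg.pCore 2 (G ⧸ U1))).comp (QuotientGroup.mk' U1)).ker = U := by
          rw [hU, CfsgLib.PLocal.upper_even, ← MonoidHom.comap_ker, QuotientGroup.ker_mk']
        let ee := (QuotientGroup.quotientMulEquivOfEq hker.symm).trans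
          (QuotientGroup.quotientKerEquivOfSurjective _ ((QuotientGroup.mk'_surjective _).comp
            (QuotientGroup.mk'_surjective _)))
        have h1 := CfsgLib.Core.map_pCore_le (p := 2) ee.toMonoidHom ee.surjective
        rw [CfsgLib.Core.pCore_quotient_pCore, le_bot_iff] at h1
        exact (Subgroup.map_eq_bot_iff_of_injective _ ee.injective).1 h1
      have hs := CfsgLib.Core.HHTwo.normData_step (CfsgLib.PLocal.isPSolvable_quotient hG U) hO h
      refine CfsgLib.Core.HHTwo.NormData.congr ?_ hs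
      let f0 := (QuotientGroup.mk' (Cfsg.pPrimeCore 2 (G ⧸ U))).comp (QuotientGroup.mk' U)
      have hf0 : f0.ker = (Cfsg.upperPSeries 2 G (2 * (k + 1) + 1)).1 := by
        rw [CfsgLib.PLocal.upper_odd, ← MonoidHom.comap_ker, QuotientGroup.ker_mk']
        rfl
      let e0 := (QuotientGroup.quotientMulEquivOfEq hf0.symm).trans
        (QuotientGroup.quotientKerEquivOfSurjective f0 ((QuotientGroup.mk'_surjective _).comp
          (QuotientGroup.mk'_surjective _)))
      refine (QuotientGroup.quotientMulEquivOfEq (N := (((QuotientGroup.mk' _).comp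
        (e0.toMonoidHom.comp (QuotientGroup.mk' (Cfsg.upperPSeries 2 G (2 * (k + 1) + 1)).1)))).ker)
        ?_).trans (QuotientGroup.quotientKerEquivOfSurjective _ ((QuotientGroup.mk'_surjective _).comp
          (e0.surjective.comp (QuotientGroup.mk'_surjective _))))
      rw [CfsgLib.PLocal.upper_even, ← MonoidHom.comap_ker, QuotientGroup.ker_mk', ← Subgroup.comap_comap]
      congr 1
      refine le_antisymm (fun x hx => CfsgLib.Core.map_pCore_le e0.toMonoidHom e0.surjective
        (Subgroup.mem_map_of_mem _ hx)) fun x hx => ?_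
      have := CfsgLib.Core.map_pCore_le e0.symm.toMonoidHom e0.symm.surjective
        (Subgroup.mem_map_of_mem _ (Subgroup.mem_comap.1 hx))
      simpa using this
  obtain ⟨f, rfl⟩ : ∃ f, e = f + 1 := ⟨e - 1, by omega⟩
  have h := key f le_rfl
  rw [Nat.add_sub_cancel_left] at h
  rw [show 2 * (f + 1) + 1 = 2 * (f + 1) + 1 from rfl, CfsgLib.PLocal.upper_odd, hodd _ ?_,
    Subgroup.comap_top]
  rw [show 2 * (f + 1) = 2 * f + 2 by ring]
  intro y hy
  obtain ⟨M, _, _, r, hM, hr, hn⟩ := h
  obtain ⟨-, h2⟩ := hn y hy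
  rw [pow_one, Finset.sum_range_succ, Finset.sum_range_one, pow_zero, map_one, pow_one] at h2
  refine hr (DFunLike.ext _ _ fun x => ?_)
  have h3 := DFunLike.congr_fun h2 x
  change x + r y x = 0 at h3
  rw [map_one]
  show r y x = x
  have h4 : x + x = 0 := by rw [← two_nsmul]; exact hM x
  exact add_left_cancel (h3.trans h4.symm)

end Cfsg.Agent.S4258
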