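import Cfsg.Statements.S4259
import Cfsg.Agent.Lib.Core.HHCritical.TwoDerived.Step

set_option autoImplicit false
set_option linter.all false
open Cfsg
open scoped commutatorElement

namespace Cfsg.Agent.S4259

/-- Let G be a finite 2-soluble group whose Sylow 2-subgroups have derived length at most d. Then the 2-length of G is at most d. -/
theorem result {G : Type*} [Group G] [Finite G] (hG : Cfsg.IsPSolvable 2 G) (d : ℕ)
    (hd : ∀ P : Sylow 2 G, derivedSeries (P : Subgroup G) d = ⊥) : Cfsg.PLengthLE 2 d G := by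
  classical
  haveI := Fact.mk Nat.prime_two
  have hdP : ∀ P : Sylow 2 G, CfsgLib.Core.HHTwoDerived.dser (P : Subgroup G) d = ⊥ := fun P => by
    rw [CfsgLib.Core.HHTwoDerived.dser_eq_derivedSeries, hd P, Subgroup.map_bot]
  have hdQ : ∀ (H : Subgroup G) [H.Normal] (P : Sylow 2 (G ⧸ H)),
      CfsgLib.Core.HHTwoDerived.dser (P : Subgroup (G ⧸ H)) d = ⊥ := by
    intro H _ P
    obtain ⟨P', rfl⟩ := Sylow.mapSurjective_surjective (QuotientGroup.mk'_surjective H) 2 P
    rw [Sylow.coe_mapSurjective, ← CfsgLib.Core.HHTwoDerived.map_dser, hdP, Subgroup.map_bot]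
  show (Cfsg.upperPSeries 2 G (2 * d + 1)).1 = ⊤
  -- when the `2`-elements are trivial
  have hodd : ∀ (H : Subgroup G) [H.Normal], (∀ y : G ⧸ H, (∃ i, y ^ 2 ^ i = 1) → y = 1) →
      Cfsg.pPrimeCore 2 (G ⧸ H) = ⊤ := by
    intro H _ h
    refine eq_top_iff.2 (CfsgLib.Core.le_pPrimeCore ?_)
    rw [Subgroup.card_top, Nat.coprime_comm, Nat.prime_two.coprime_iff_not_dvd]
    intro hdvd
    obtain ⟨y, hy⟩ := exists_prime_orderOf_dvd_card' 2 hdvd
    have h1 := h y ⟨1, by rw [pow_one, ← hy]; exact pow_orderOf_eq_one y⟩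
    rw [h1, orderOf_one] at hy
    omega
  rcases Nat.eq_zero_or_pos d with rfl | hdpos
  · rw [CfsgLib.PLocal.upper_odd 0, hodd _ fun y hy => ?_, Subgroup.comap_top]
    obtain ⟨P, hP⟩ := (CfsgLib.Core.HHTwo.isPGroup_zpowers_two hy).exists_le_sylow
    exact Subgroup.mem_bot.1 ((hdQ _ P).le (hP (Subgroup.mem_zpowers y)))
  have key : ∀ k, k + 1 ≤ d →
      CfsgLib.Core.HHTwoDerived.DerData (d - k) (G ⧸ (Cfsg.upperPSeries 2 G (2 * k + 2)).1) := by
    intro k
    induction k with
    | zero =>
      intro _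
      set U1 := (Cfsg.upperPSeries 2 G (2 * 0 + 1)).1 with hU1
      have hker : ((QuotientGroup.mk' (Cfsg.pCore 2 (G ⧸ U1))).comp (QuotientGroup.mk' U1)).ker =
          (Cfsg.upperPSeries 2 G (2 * 0 + 2)).1 := by
        rw [CfsgLib.PLocal.upper_even, ← MonoidHom.comap_ker, QuotientGroup.ker_mk']
      refine CfsgLib.Core.HHTwoDerived.DerData.congr ((QuotientGroup.quotientMulEquivOfEq hker.symm).trans
        (QuotientGroup.quotientKerEquivOfSurjective _ ((QuotientGroup.mk'_surjective _).comp
          (QuotientGroup.mk'_surjective _)))) ?_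
      obtain ⟨M, _, _, r0, em, hM, hinj, hem, hadd, hact⟩ := CfsgLib.Core.HHTop.frattini_rep
        (CfsgLib.PLocal.isPSolvable_quotient hG U1) (CfsgLib.PLocal.pPrimeCore_quotient_upper_odd 0)
      refine ⟨M, inferInstance, inferInstance, r0, hM, hinj, fun P => ?_⟩
      obtain ⟨P1, rfl⟩ := Sylow.mapSurjective_surjective
        (QuotientGroup.mk'_surjective (Cfsg.pCore 2 (G ⧸ U1))) 2 P
      rw [Sylow.coe_mapSurjective]
      refine ⟨?_, fun g hg => ?_⟩
      · rw [← CfsgLib.Core.HHTwoDerived.map_dser, Nat.sub_zero, hdQ U1 P1, Subgroup.map_bot]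
      rw [Nat.sub_zero] at hg ⊢
      have hl : ∀ i, i < d → ∃ y ∈ CfsgLib.Core.HHTwoDerived.dser (P1 : Subgroup (G ⧸ U1)) i,
          QuotientGroup.mk' (Cfsg.pCore 2 (G ⧸ U1)) y = g i := fun i hi => by
        have h1 := hg i hi
        rw [← CfsgLib.Core.HHTwoDerived.map_dser] at h1
        exact h1
      choose y hy hyg using hl
      let g' : ℕ → G ⧸ U1 := fun i => if h : i < d then y i h else 1
      have hg' : ∀ i < d, g' i ∈ CfsgLib.Core.HHTwoDerived.dser (P1 : Subgroup (G ⧸ U1)) i :=
        fun i hi => by simp only [g', dif_pos hi]; exact hy i hi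
      refine DFunLike.ext _ _ fun w => ?_
      obtain ⟨x, rfl⟩ := hem w
      have hmem : ∀ k, CfsgLib.Core.HHTwoDerived.nest g' (x : G ⧸ U1) k ∈ Cfsg.pCore 2 (G ⧸ U1) :=
        fun k => CfsgLib.Core.HHTwoDerived.nest_mem g' x.2 k
      have hkey : ∀ k, k ≤ d → CfsgLib.Core.HHTwoDerived.chain r0 g k (em x) = em ⟨_, hmem k⟩ := by
        intro k
        induction k with
        | zero => exact fun _ => rfl
        | succ k ih =>
          intro hk
          show r0 (g k) (CfsgLib.Core.HHTwoDerived.chain r0 g k (em x)) -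
            CfsgLib.Core.HHTwoDerived.chain r0 g k (em x) = _
          rw [ih (by omega), ← hyg k (by omega), QuotientGroup.mk'_apply, hact, sub_eq_iff_eq_add, ← hadd]
          refine congrArg em (Subtype.ext ?_)
          show y k (by omega) * CfsgLib.Core.HHTwoDerived.nest g' (x : G ⧸ U1) k * (y k (by omega))⁻¹ =
            ⁅g' k, CfsgLib.Core.HHTwoDerived.nest g' (x : G ⧸ U1) k⁆ *
              CfsgLib.Core.HHTwoDerived.nest g' (x : G ⧸ U1) k
          rw [show g' k = y k (by omega) from dif_pos (show k < d by omega), commutatorElement_def,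
            inv_mul_cancel_right]
      rw [hkey d le_rfl]
      have h1 := hadd 1 1
      rw [mul_one, left_eq_add] at h1
      refine Eq.trans (congrArg em (Subtype.ext ?_)) h1
      exact Subgroup.mem_bot.1 ((hdQ U1 P1).le (CfsgLib.Core.HHTwoDerived.nest_mem_dser
        (CfsgLib.Core.pCore_le_sylow P1 x.2) hg'))
    | succ k ih =>
      intro hk
      have h := ih (by omega)
      obtain ⟨j, hj⟩ : ∃ j, d - (k + 1) = j + 1 := ⟨d - (k + 1) - 1, by omega⟩
      rw [show d - k = j + 2 by omega] at h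
      rw [hj]
      set U := (Cfsg.upperPSeries 2 G (2 * k + 2)).1 with hU
      have hO : Cfsg.pCore 2 (G ⧸ U) = ⊥ := by
        set U1 := (Cfsg.upperPSeries 2 G (2 * k + 1)).1 with hU1
        have hker : ((QuotientGroup.mk' (Cfsg.pCore 2 (G ⧸ U1))).comp (QuotientGroup.mk' U1)).ker = U := by
          rw [hU, CfsgLib.PLocal.upper_even, ← MonoidHom.comap_ker, QuotientGroup.ker_mk']
        let ee := (QuotientGroup.quotientMulEquivOfEq hker.symm).trans
          (QuotientGroup.quotientKerEquivOfSurjective _ ((QuotientGroup.mk'_surjective _).comp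
            (QuotientGroup.mk'_surjective _)))
        have h1 := CfsgLib.Core.map_pCore_le (p := 2) ee.toMonoidHom ee.surjective
        rw [CfsgLib.Core.pCore_quotient_pCore, le_bot_iff] at h1
        exact (Subgroup.map_eq_bot_iff_of_injective _ ee.injective).1 h1
      have hs := CfsgLib.Core.HHTwoDerived.derData_step (CfsgLib.PLocal.isPSolvable_quotient hG U) hO h
      refine CfsgLib.Core.HHTwoDerived.DerData.congr ?_ hs
      let f0 := (QuotientGroup.mk' (Cfsg.pPrimeCore 2 (G ⧸ U))).comp (QuotientGroup.mk' U)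
      have hf0 : f0.ker = (Cfsg.upperPSeries 2 G (2 * (k + 1) + 1)).1 := by
        rw [CfsgLib.PLocal.upper_odd, ← MonoidHom.comap_ker, QuotientGroup.ker_mk']
        rfl
      let e0 := (QuotientGroup.quotientMulEquivOfEq hf0.symm).trans
        (QuotientGroup.quotientKerEquivOfSurjective f0 ((QuotientGroup.mk'_surjective _).comp
          (QuotientGroup.mk'_surjective _)))
      refine (QuotientGroup.quotientMulEquivOfEq (N := (((QuotientGroup.mk' _).comp
        (e0.toMonoidHom.comp (QuotientGroup.mk' (Cfsg.upperPSeries 2 G (2 * (k + 1) + 1)).1)))).ker)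
        ?_).trans (QuotientGroup.quotientKerEquivOfSurjective _ ((QuotientGroup.mk'_surjective _).comp
          (e0.surjective.comp (QuotientGroup.mk'_surjective _))))
      rw [CfsgLib.PLocal.upper_even, ← MonoidHom.comap_ker, QuotientGroup.ker_mk', ← Subgroup.comap_comap]
      congr 1
      refine le_antisymm (fun x hx => CfsgLib.Core.map_pCore_le e0.toMonoidHom e0.surjective
        (Subgroup.mem_map_of_mem _ hx)) fun x hx => ?_
      have := CfsgLib.Core.map_pCore_le e0.symm.toMonoidHom e0.symm.surjective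
        (Subgroup.mem_map_of_mem _ (Subgroup.mem_comap.1 hx))
      simpa using this
  obtain ⟨f, rfl⟩ : ∃ f, d = f + 1 := ⟨d - 1, by omega⟩
  have h := key f le_rfl
  rw [Nat.add_sub_cancel_left] at h
  rw [CfsgLib.PLocal.upper_odd, hodd _ ?_, Subgroup.comap_top]
  rw [show 2 * (f + 1) = 2 * f + 2 by ring]
  intro y hy
  obtain ⟨M, _, _, r, hM, hr, hn⟩ := h
  obtain ⟨P, hP⟩ := (CfsgLib.Core.HHTwo.isPGroup_zpowers_two hy).exists_le_sylow
  have h2 := (hn P).2 (fun _ => y) (fun i hi => by
    obtain rfl : i = 0 := by omega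
    exact hP (Subgroup.mem_zpowers y))
  refine hr ?_
  rw [map_one]
  exact sub_eq_zero.1 (by simpa [CfsgLib.Core.HHTwoDerived.chain] using h2)

end Cfsg.Agent.S4259
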