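import Cfsg.Statements.S4260
import Cfsg.Agent.Lib.HallGen.Counting

set_option autoImplicit false
open Cfsg
open scoped Pointwise

namespace Cfsg.Agent.S4260

/-- Let H be a Hall subgroup of a finite group G (the order of H is coprime to its index) such that x^[G : H] lies in H for every x in G. Then H is normal in G. -/
theorem result {G : Type*} [Group G] [Finite G] (H : Subgroup G) (hHall : (Nat.card H).Coprime H.index)
    (hexp : ∀ x : G, x ^ H.index ∈ H) : H.Normal := by
  refine ⟨fun h hh g => ?_⟩
  have h1 : (g * h * g⁻¹) ^ H.index ∈ H := hexp _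
  have h2 : orderOf (g * h * g⁻¹) ∣ Nat.card H := by
    rw [← MulAut.conj_apply, MulEquiv.orderOf_eq]
    exact Subgroup.orderOf_dvd_natCard H hh
  have h3 : g * h * g⁻¹ ∈ Subgroup.zpowers ((g * h * g⁻¹) ^ H.index) :=
    mem_zpowers_pow_iff.2 (hHall.coprime_dvd_left h2).symm
  exact (Subgroup.zpowers_le.2 h1) h3
end Cfsg.Agent.S4260
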