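import Cfsg.Statements.S4261
import Cfsg.Agent.Lib.HallGen.Counting

set_option autoImplicit false
open Cfsg
open scoped Pointwise

namespace Cfsg.Agent.S4261

/-- Let M be a maximal subgroup of a finite solvable group G such that x^[G : M] lies in M for every x in G. Then M is normal in G. -/
theorem result {G : Type*} [Group G] [Finite G] (hG : Group.IsSolvable G) (M : Subgroup G) (hM : IsCoatom M)
    (hexp : ∀ x : G, x ^ M.index ∈ M) : M.Normal := by
  obtain ⟨p, a, hp, hidx⟩ := CfsgLib.HallGen.exists_index_eq_prime_pow_of_isCoatom hG M hM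
  haveI := Fact.mk hp
  let K : Subgroup G := Subgroup.closure {g : G | (orderOf g).Coprime p}
  haveI hKn : K.Normal := by
    refine ⟨fun x hx g => ?_⟩
    induction hx using Subgroup.closure_induction with
    | mem y hy =>
      refine Subgroup.subset_closure ?_
      show (orderOf (g * y * g⁻¹)).Coprime p
      rw [← MulAut.conj_apply, MulEquiv.orderOf_eq]
      exact hy
    | one => simp
    | mul y z _ _ hy hz =>
      rw [show g * (y * z) * g⁻¹ = (g * y * g⁻¹) * (g * z * g⁻¹) by group]
      exact K.mul_mem hy hz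
    | inv y _ hy =>
      rw [show g * y⁻¹ * g⁻¹ = (g * y * g⁻¹)⁻¹ by group]
      exact K.inv_mem hy
  have hKM : K ≤ M := by
    rw [Subgroup.closure_le]
    intro y hy
    have h3 : y ∈ Subgroup.zpowers (y ^ M.index) :=
      mem_zpowers_pow_iff.2 (by rw [hidx]; exact (Nat.Coprime.pow_right a hy).symm)
    exact (Subgroup.zpowers_le.2 (hexp y)) h3
  have hQ : IsPGroup p (G ⧸ K) := by
    intro x
    induction x using QuotientGroup.induction_on with
    | _ g =>
      obtain ⟨k, m, hm, hkm⟩ := Nat.exists_eq_pow_mul_and_not_dvd (orderOf_pos g).ne' p hp.ne_one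
      refine ⟨k, ?_⟩
      rw [← QuotientGroup.mk_pow, QuotientGroup.eq_one_iff]
      refine Subgroup.subset_closure ?_
      show (orderOf (g ^ p ^ k)).Coprime p
      rw [orderOf_pow' g (pow_ne_zero _ hp.ne_zero), hkm, Nat.gcd_eq_right (dvd_mul_right _ m),
        Nat.mul_div_cancel_left _ (pow_pos hp.pos k)]
      exact ((hp.coprime_iff_not_dvd).2 hm).symm
  haveI := hQ.isNilpotent
  have hsurj := QuotientGroup.mk'_surjective K
  have hc : (M.map (QuotientGroup.mk' K)).comap (QuotientGroup.mk' K) = M := by
    rw [Subgroup.comap_map_eq, QuotientGroup.ker_mk', sup_eq_left.2 hKM]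
  have hM' : IsCoatom (M.map (QuotientGroup.mk' K)) := by
    refine ⟨fun h => hM.1 ?_, fun L hL => ?_⟩
    · rw [← hc, h, Subgroup.comap_top]
    · have h2 := hM.2 (L.comap (QuotientGroup.mk' K))
        (hc ▸ (Subgroup.comap_lt_comap_of_surjective hsurj).2 hL)
      rw [← Subgroup.map_comap_eq_self_of_surjective hsurj L, h2,
        Subgroup.map_top_of_surjective _ hsurj]
  haveI := Subgroup.NormalizerCondition.normal_of_coatom _ Group.normalizerCondition_of_isNilpotent hM'
  rw [← hc]
  infer_instance
end Cfsg.Agent.S4261
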