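import Cfsg.Statements.S4263
import Cfsg.Agent.Lib.HallGen.Basic

set_option autoImplicit false
open Cfsg

namespace Cfsg.Agent.S4263

/-- Let G be a finite group. An element x lies in the Fitting subgroup F(G) if and only if, for every subgroup H of G, the power x^[G : H] lies in H. -/
theorem result {G : Type*} [Group G] [Finite G] (x : G) :
    x ∈ Cfsg.fittingSubgroup G ↔ ∀ H : Subgroup G, x ^ H.index ∈ H := by
  constructor
  · intro hx H
    have := CfsgLib.HallGen.fittingSubgroup_normal' (G := G)
    have := CfsgLib.HallGen.isNilpotent_fittingSubgroup (G := G)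
    exact CfsgLib.HallGen.pow_index_mem_of_mem_nilpotent_normal hx H
  · intro h
    refine CfsgLib.HallGen.mem_of_primePow_parts _ x fun y hy p k hp ho => ?_
    have := Fact.mk hp
    obtain ⟨i, rfl⟩ := Subgroup.mem_zpowers_iff.1 hy
    refine CfsgLib.HallGen.pCore_le_fittingSubgroup p
      (CfsgLib.HallGen.mem_pCore_of_forall_sylow p _ fun P => ?_)
    have h1 : (x ^ i) ^ (P : Subgroup G).index ∈ (P : Subgroup G) := by
      rw [← zpow_natCast, ← zpow_mul, mul_comm, zpow_mul, zpow_natCast]
      exact (P : Subgroup G).zpow_mem (h _) i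
    have hco : (orderOf (x ^ i)).Coprime (P : Subgroup G).index := by
      rw [ho]
      exact ((hp.coprime_iff_not_dvd).2 P.not_dvd_index).pow_left k
    have h2 : x ^ i ∈ Subgroup.zpowers ((x ^ i) ^ (P : Subgroup G).index) :=
      mem_zpowers_pow_iff.2 hco.symm
    exact (Subgroup.zpowers_le.2 h1) h2
end Cfsg.Agent.S4263
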