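import Cfsg.Statements.S4264
import Cfsg.Agent.Lib.PermClasses.Count

set_option autoImplicit false
open Cfsg

namespace Cfsg.Agent.S4264

/-- Let G be a subgroup of the symmetric group of degree d ≥ 1. Then G has at most 5^{d−1} conjugacy classes. -/
theorem result (d : ℕ) (hd : 1 ≤ d) (G : Subgroup (Equiv.Perm (Fin d))) : Nat.card (ConjClasses ↥G) ≤ 5 ^ (d - 1) := by
  rcases le_or_gt d 7 with h7 | h7
  · refine le_trans (Nat.card_le_card_of_surjective _ ConjClasses.mk_surjective) ?_
    refine le_trans (Subgroup.card_le_card_group G) ?_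
    rw [Nat.card_eq_fintype_card, Fintype.card_perm, Fintype.card_fin]
    interval_cases d <;> decide
  · have h := CfsgLib.PermClasses.card_conjClasses_le G
    rw [Nat.card_eq_fintype_card (α := Fin d), Fintype.card_fin] at h
    have h' : Nat.card (ConjClasses ↥G) ≤ 4 ^ d := by exact_mod_cast h
    refine h'.trans ?_
    obtain ⟨e, rfl⟩ : ∃ e, d = e + 8 := ⟨d - 8, by omega⟩
    rw [show e + 8 - 1 = e + 7 by omega, pow_add, pow_add]
    exact Nat.mul_le_mul (Nat.pow_le_pow_left (by norm_num) e) (by norm_num)

end Cfsg.Agent.S4264
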