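import Cfsg.Statements.S4265
import Cfsg.Agent.Lib.RegOrbit.FittingClasses.Fitting
import Cfsg.Agent.Lib.RegOrbit.FittingClasses.ModPrime

set_option autoImplicit false
open Cfsg

namespace Cfsg.Agent.S4265

/-- Let G be a finite solvable subgroup of GL_r(ℂ), r ≥ 1, with Fitting subgroup F(G) normal in G. Then for every subgroup H of G the quotient H/(H ∩ F(G)) has at most 3^{r−1} conjugacy classes. -/
theorem result (r : ℕ) (hr : 1 ≤ r) (G : Subgroup (GL (Fin r) ℂ)) [Finite ↥G] (hsolv : Group.IsSolvable ↥G) [hF : (Cfsg.fittingSubgroup ↥G).Normal] (H : Subgroup ↥G) : Nat.card (ConjClasses (↥H ⧸ (Cfsg.fittingSubgroup ↥G).subgroupOf H)) ≤ 3 ^ (r - 1) := by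
  classical
  obtain ⟨q, hq, hqG, ρ, hρ⟩ := CfsgLib.RegOrbit.exists_mod_prime G
  haveI := Fact.mk hq
  let e : G ≃* ρ.range := MonoidHom.ofInjective hρ
  haveI : Finite ρ.range := Finite.of_surjective _ e.surjective
  have hcop : (Nat.card ρ.range).Coprime q := by
    rw [← Nat.card_congr e.toEquiv]
    exact Nat.Coprime.symm ((Nat.Prime.coprime_iff_not_dvd hq).2 hqG)
  haveI := hsolv
  have hR : Group.IsSolvable ρ.range :=
    Group.isSolvable_of_surjective (f := e.toMonoidHom) e.surjective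
  have hV : Nat.card (Fin r → ZMod q) = q ^ r := by
    rw [Nat.card_fun, Nat.card_zmod, Nat.card_fin]
  have key := CfsgLib.RegOrbit.kcl_quot_fitting_le hq ρ.range
    (fun v => funext fun i => by rw [Pi.smul_apply, nsmul_eq_mul, ZMod.natCast_self, zero_mul]; rfl)
    hR hcop hr hV (H.map e.toMonoidHom)
  refine le_trans ?_ key
  set F := Cfsg.fittingSubgroup G
  let φ : H →* ρ.range ⧸ Cfsg.fittingSubgroup ρ.range :=
    ((QuotientGroup.mk' (Cfsg.fittingSubgroup ρ.range)).comp e.toMonoidHom).comp H.subtype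
  have hker : φ.ker = F.subgroupOf H := by
    ext x
    rw [MonoidHom.mem_ker, Subgroup.mem_subgroupOf]
    show ((e (x : G) : ρ.range) : ρ.range ⧸ Cfsg.fittingSubgroup ρ.range) = 1 ↔ _
    rw [QuotientGroup.eq_one_iff, ← CfsgLib.Core.map_equiv_fittingSubgroup e]
    exact Subgroup.mem_map_iff_mem e.injective
  have hrange : φ.range = (H.map e.toMonoidHom).map (QuotientGroup.mk' (Cfsg.fittingSubgroup ρ.range)) := by
    rw [MonoidHom.range_comp, Subgroup.range_subtype, Subgroup.map_map]
  refine le_of_eq ?_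
  exact (CfsgLib.ClassBounds.kcl_congr ((QuotientGroup.quotientMulEquivOfEq hker).symm.trans
    ((QuotientGroup.quotientKerEquivRange φ).trans (MulEquiv.subgroupCongr hrange))))

end Cfsg.Agent.S4265
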