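import Cfsg.Statements.S4269
import Mathlib
import Cfsg.Agent.Lib.Transfer.Conj

set_option linter.all false

set_option autoImplicit false
open Cfsg

namespace Cfsg.Agent.S4269

open scoped commutatorElement

/-- Let G be a finite group, V an abelian normal subgroup and H a subgroup with HV = G. Then H is pronormal in G (H and gHg⁻¹ are conjugate inside the subgroup they generate, for every g) if and only if every H-invariant subgroup U of V satisfies U = N_U(H)·[H, U], that is, U is the join of U ∩ N_G(H) and the commutator subgroup [H, U]. -/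
theorem result {G : Type*} [Group G] [Finite G]
    (V : Subgroup G) [V.Normal] (hV : IsMulCommutative ↥V) (H : Subgroup G) (hHV : H ⊔ V = ⊤) :
    Cfsg.IsPronormal H ↔
      ∀ U : Subgroup G, U ≤ V → (∀ h ∈ H, U.map (MulAut.conj h).toMonoidHom = U) →
        U = (U ⊓ Subgroup.normalizer (H : Set G)) ⊔ ⁅H, U⁆ := by
  classical
  haveI := hV
  have hcomm : ∀ x ∈ V, ∀ y ∈ V, x * y = y * x := fun x hx y hy => congrArg Subtype.val (hV.is_comm.comm ⟨x, hx⟩ ⟨y, hy⟩)
  have hcomp : ∀ a b : G, H.map (MulAut.conj (a * b)).toMonoidHom =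
      (H.map (MulAut.conj b).toMonoidHom).map (MulAut.conj a).toMonoidHom := by
    intro a b
    rw [Subgroup.map_map]; congr 1; ext y; simp [mul_assoc]
  have hnorm : ∀ n ∈ Subgroup.normalizer (H : Set G), H.map (MulAut.conj n).toMonoidHom = H := fun n hn =>
    CfsgLib.Transfer.map_conj_eq_self_iff.mpr hn
  have hinvU : ∀ U : Subgroup G, (∀ h ∈ H, U.map (MulAut.conj h).toMonoidHom = U) →
      ∀ h ∈ H, ∀ u ∈ U, h * u * h⁻¹ ∈ U := fun U hU h hh u hu => by
    rw [← hU h hh]; exact ⟨u, hu, rfl⟩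
  constructor
  · intro hpro U hUV hU
    have hUi := hinvU U hU
    have hCU : ⁅H, U⁆ ≤ U := Subgroup.commutator_le.2 fun h hh u hu => by
      rw [commutatorElement_def]; exact mul_mem (hUi h hh u hu) (inv_mem hu)
    refine le_antisymm (fun u hu => ?_) (sup_le inf_le_left hCU)
    obtain ⟨x, hx, he⟩ := hpro u
    have hmapC : ∀ k ∈ H, ⁅H, U⁆.map (MulAut.conj k).toMonoidHom = ⁅H, U⁆ := fun k hk => by
      rw [Subgroup.map_commutator, hU k hk, hnorm k (Subgroup.le_normalizer hk)]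
    have hHn : H ≤ Subgroup.normalizer ((⁅H, U⁆ : Subgroup G) : Set G) := fun k hk =>
      CfsgLib.Transfer.map_conj_eq_self_iff.mp (hmapC k hk)
    have hJ : H ⊔ H.map (MulAut.conj u).toMonoidHom ≤ ⁅H, U⁆ ⊔ H := by
      refine sup_le le_sup_right ?_
      rintro _ ⟨h, hh, rfl⟩
      show u * h * u⁻¹ ∈ _
      have e : u * h * u⁻¹ = ⁅h, u⁆⁻¹ * h := by rw [commutatorElement_def]; group
      rw [e]
      exact mul_mem (Subgroup.mem_sup_left (inv_mem (Subgroup.commutator_mem_commutator hh hu))) (Subgroup.mem_sup_right hh)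
    have hx' : x ∈ ((⁅H, U⁆ ⊔ H : Subgroup G) : Set G) := hJ hx
    rw [Subgroup.coe_mul_of_right_le_normalizer_left ⁅H, U⁆ H hHn] at hx'
    obtain ⟨w, hw, h, hh, rfl⟩ := hx'
    have hn : w⁻¹ * u ∈ Subgroup.normalizer (H : Set G) := by
      rw [← CfsgLib.Transfer.map_conj_eq_self_iff, hcomp, he, ← hcomp]
      simp only [inv_mul_cancel_left]
      exact hnorm h (Subgroup.le_normalizer hh)
    rw [show u = w * (w⁻¹ * u) by group]
    exact mul_mem (Subgroup.mem_sup_right hw)
      (Subgroup.mem_sup_left ⟨U.mul_mem (U.inv_mem (hCU hw)) hu, hn⟩)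
  · intro hcrit g
    have hg : g ∈ ((V ⊔ H : Subgroup G) : Set G) := by rw [sup_comm, hHV]; trivial
    rw [Subgroup.normal_mul] at hg
    obtain ⟨v, hv, h₀, hh₀, rfl⟩ := hg
    have hgv : H.map (MulAut.conj (v * h₀)).toMonoidHom = H.map (MulAut.conj v).toMonoidHom := by
      rw [hcomp, hnorm h₀ (Subgroup.le_normalizer hh₀)]
    rw [hgv]
    set J := H ⊔ H.map (MulAut.conj v).toMonoidHom with hJ
    let U : Subgroup G := Subgroup.closure {y | ∃ h ∈ H, h * v * h⁻¹ = y}
    have hUV : U ≤ V := (Subgroup.closure_le V).2 (by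
      rintro _ ⟨h, _, rfl⟩; exact ‹V.Normal›.conj_mem v hv h)
    have hUi : ∀ k ∈ H, U.map (MulAut.conj k).toMonoidHom = U := by
      intro k hk
      rw [MonoidHom.map_closure]
      congr 1
      ext y
      constructor
      · rintro ⟨_, ⟨h, hh, rfl⟩, rfl⟩
        exact ⟨k * h, mul_mem hk hh, by simp [mul_assoc]⟩
      · rintro ⟨h, hh, rfl⟩
        exact ⟨(k⁻¹ * h) * v * (k⁻¹ * h)⁻¹, ⟨_, mul_mem (inv_mem hk) hh, rfl⟩, by simp [mul_assoc]⟩
    let S : Subgroup G :=
      { carrier := {u | u ∈ V ∧ ∀ h ∈ H, ⁅h, u⁆ ∈ J}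
        one_mem' := ⟨one_mem V, fun h _ => by rw [commutatorElement_one_right]; exact one_mem J⟩
        mul_mem' := fun {a b} ha hb => ⟨mul_mem ha.1 hb.1, fun h hh => by
          have hbV : ⁅h, b⁆ ∈ V := by
            rw [commutatorElement_def]
            exact mul_mem (‹V.Normal›.conj_mem b hb.1 h) (inv_mem hb.1)
          have e : ⁅h, a * b⁆ = ⁅h, a⁆ * (a * ⁅h, b⁆ * a⁻¹) := by simp only [commutatorElement_def]; group
          rw [e, hcomm a ha.1 _ hbV, mul_inv_cancel_right]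
          exact mul_mem (ha.2 h hh) (hb.2 h hh)⟩
        inv_mem' := fun {a} ha => ⟨inv_mem ha.1, fun h hh => by
          have haV : ⁅h, a⁆⁻¹ ∈ V := by
            rw [commutatorElement_def]
            exact inv_mem (mul_mem (‹V.Normal›.conj_mem a ha.1 h) (inv_mem ha.1))
          have e : ⁅h, a⁻¹⁆ = a⁻¹ * ⁅h, a⁆⁻¹ * a := by simp only [commutatorElement_def]; group
          rw [e, hcomm a⁻¹ (inv_mem ha.1) _ haV, inv_mul_cancel_right]
          exact inv_mem (ha.2 h hh)⟩ }
    have hvS : v ∈ S := ⟨hv, fun h hh => by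
      rw [commutatorElement_def, show h * v * h⁻¹ * v⁻¹ = h * (v * h⁻¹ * v⁻¹) by group]
      exact mul_mem (Subgroup.mem_sup_left hh) (Subgroup.mem_sup_right ⟨h⁻¹, inv_mem hh, rfl⟩)⟩
    have hUS : U ≤ S := (Subgroup.closure_le S).2 (by
      rintro _ ⟨k, hk, rfl⟩
      refine ⟨‹V.Normal›.conj_mem v hv k, fun h hh => ?_⟩
      rw [show ⁅h, k * v * k⁻¹⁆ = k * ⁅k⁻¹ * h * k, v⁆ * k⁻¹ by simp only [commutatorElement_def]; group]
      exact mul_mem (mul_mem (Subgroup.mem_sup_left hk) (hvS.2 _ (mul_mem (mul_mem (inv_mem hk) hh) hk)))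
        (Subgroup.mem_sup_left (inv_mem hk)))
    have hCJ : ⁅H, U⁆ ≤ J := Subgroup.commutator_le.2 fun h hh u hu => (hUS hu).2 h hh
    have hvU : v ∈ U := Subgroup.subset_closure ⟨1, one_mem H, by group⟩
    have hCV : ⁅H, U⁆ ≤ V := Subgroup.commutator_le.2 fun h hh u hu => by
      rw [commutatorElement_def]; exact mul_mem (‹V.Normal›.conj_mem u (hUV hu) h) (inv_mem (hUV hu))
    rw [hcrit U hUV hUi] at hvU
    have hle : ⁅H, U⁆ ≤ Subgroup.normalizer ((U ⊓ Subgroup.normalizer (H : Set G) : Subgroup G) : Set G) :=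
      fun c hc => Subgroup.mem_normalizer_iff.2 fun n => by
        constructor
        · intro hn
          rw [hcomm c (hCV hc) n (hUV hn.1), mul_inv_cancel_right]; exact hn
        · intro hn
          have hnV : n ∈ V := by
            have := ‹V.Normal›.conj_mem _ (hUV hn.1) c⁻¹
            simpa [mul_assoc] using this
          rw [hcomm c (hCV hc) n hnV, mul_inv_cancel_right] at hn; exact hn
    have hv' : v ∈ (((U ⊓ Subgroup.normalizer (H : Set G)) ⊔ ⁅H, U⁆ : Subgroup G) : Set G) := hvU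
    rw [Subgroup.coe_mul_of_right_le_normalizer_left _ _ hle] at hv'
    obtain ⟨n, hn, w, hw, rfl⟩ := hv'
    refine ⟨w, hCJ hw, ?_⟩
    simp only []
    rw [hcomm n (hUV hn.1) w (hCV hw), hcomp, hnorm n hn.2]

end Cfsg.Agent.S4269
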