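import Cfsg.Statements.S4275
import Cfsg.Agent.Lib.Char.Burnside

set_option autoImplicit false
open Cfsg
open scoped Pointwise

namespace Cfsg.Agent.S4275

/-- Let G be a transitive group of permutations of a finite set Ω, let o ∈ Ω, and let α be an automorphism of G. Then α is induced by conjugation by a permutation of Ω normalizing G if and only if the image under α of the stabilizer of o fixes some point of Ω. -/
theorem result {Ω : Type*} [Fintype Ω] (G : Subgroup (Equiv.Perm Ω)) (htr : MulAction.IsPretransitive G Ω) (o : Ω) (α : G ≃* G) : (∃ σ : Equiv.Perm Ω, σ ∈ Subgroup.normalizer (G : Set (Equiv.Perm Ω)) ∧ ∀ g : G, ((α g : G) : Equiv.Perm Ω) = σ * (g : Equiv.Perm Ω) * σ⁻¹) ↔ ∃ ω : Ω, ∀ g ∈ (MulAction.stabilizer G o).map α.toMonoidHom, g • ω = ω := by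
  classical
  haveI := htr
  constructor
  · rintro ⟨σ, -, hσ⟩
    refine ⟨σ o, ?_⟩
    rintro _ ⟨g, hg, rfl⟩
    change ((α g : G) : Equiv.Perm Ω) (σ o) = σ o
    rw [hσ]
    have : (g : Equiv.Perm Ω) o = o := hg
    simp [this]
  · rintro ⟨ω, hω⟩
    have hle : (MulAction.stabilizer G o).map α.toMonoidHom ≤ MulAction.stabilizer G ω := fun g hg => hω g hg
    have heq : (MulAction.stabilizer G o).map α.toMonoidHom = MulAction.stabilizer G ω := by
      refine Subgroup.eq_of_le_of_card_ge hle ?_
      rw [Subgroup.card_map_of_injective α.injective]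
      have h1 := (MulAction.stabilizer G o).card_mul_index
      have h2 := (MulAction.stabilizer G ω).card_mul_index
      rw [MulAction.index_stabilizer_of_transitive] at h1 h2
      haveI : Nonempty Ω := ⟨o⟩
      exact (Nat.eq_of_mul_eq_mul_right Nat.card_pos (h2.trans h1.symm)).le
    choose s hs using fun z : Ω => MulAction.exists_smul_eq G o z
    have hkey : ∀ g h : G, g • o = h • o → α g • ω = α h • ω := by
      intro g h e
      have hm : h⁻¹ * g ∈ MulAction.stabilizer G o := by
        rw [MulAction.mem_stabilizer_iff, mul_smul, e, inv_smul_smul]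
      have := hω _ ⟨_, hm, rfl⟩
      change α (h⁻¹ * g) • ω = ω at this
      rw [map_mul, map_inv, mul_smul, inv_smul_eq_iff] at this
      exact this
    let f : Ω → Ω := fun z => α (s z) • ω
    have hf : ∀ g : G, f (g • o) = α g • ω := fun g => hkey _ _ (hs _)
    have hinj : Function.Injective f := by
      intro a b e
      have hm : (α (s b))⁻¹ * α (s a) ∈ MulAction.stabilizer G ω := by
        rw [MulAction.mem_stabilizer_iff, mul_smul, show α (s a) • ω = α (s b) • ω from e, inv_smul_smul]
      rw [← heq] at hm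
      obtain ⟨g, hg, hgeq⟩ := hm
      have hg' : g = (s b)⁻¹ * s a := α.injective (by rw [map_mul, map_inv]; exact hgeq)
      subst hg'
      have := MulAction.mem_stabilizer_iff.1 hg
      rw [mul_smul, inv_smul_eq_iff, hs, hs] at this
      exact this
    let σ : Equiv.Perm Ω := Equiv.ofBijective f hinj.bijective_of_finite
    have hσg : ∀ g : G, σ * (g : Equiv.Perm Ω) = ((α g : G) : Equiv.Perm Ω) * σ := by
      intro g
      ext z
      obtain ⟨c, rfl⟩ := MulAction.exists_smul_eq G o z
      change f (g • c • o) = α g • f (c • o)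
      rw [← mul_smul, hf, hf, map_mul, mul_smul]
    have hconj : ∀ g : G, ((α g : G) : Equiv.Perm Ω) = σ * (g : Equiv.Perm Ω) * σ⁻¹ := fun g => by
      rw [hσg, mul_inv_cancel_right]
    refine ⟨σ, Subgroup.mem_normalizer_iff.2 fun g => ⟨fun hg => ?_, fun hg => ?_⟩, hconj⟩
    · rw [← hconj ⟨g, hg⟩]
      exact SetLike.coe_mem _
    · have h1 := hconj (α.symm ⟨_, hg⟩)
      rw [MulEquiv.apply_symm_apply] at h1
      have h2 : g = ((α.symm ⟨_, hg⟩ : G) : Equiv.Perm Ω) := mul_left_cancel (mul_right_cancel h1)
      rw [h2]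
      exact SetLike.coe_mem _
end Cfsg.Agent.S4275
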