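import Cfsg.Statements.S4276

set_option autoImplicit false
open Cfsg

set_option linter.all false

namespace Cfsg.Agent.S4276

open Matrix

/-- Let G be a doubly transitive group of permutations of a finite set Ω of size n, let o ∈ Ω, and let α be an automorphism of G of odd order. Suppose that the image under α of the stabilizer of o has an orbit on Ω whose length k is coprime to n. Then α is induced by conjugation by a permutation of Ω normalizing G, and k = 1 or k = n − 1. -/
theorem result {Ω : Type*} [Fintype Ω] (G : Subgroup (Equiv.Perm Ω)) (h2 : MulAction.IsMultiplyPretransitive G Ω 2) (o : Ω) (α : MulAut G) (hα : Odd (orderOf α)) (ω : Ω) (hk : (Nat.card (MulAction.orbit ((MulAction.stabilizer G o).map α.toMonoidHom) ω)).Coprime (Fintype.card Ω)) : (∃ σ : Equiv.Perm Ω, σ ∈ Subgroup.normalizer (G : Set (Equiv.Perm Ω)) ∧ ∀ g : G, ((α g : G) : Equiv.Perm Ω) = σ * (g : Equiv.Perm Ω) * σ⁻¹) ∧ (Nat.card (MulAction.orbit ((MulAction.stabilizer G o).map α.toMonoidHom) ω) = 1 ∨ Nat.card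 (MulAction.orbit ((MulAction.stabilizer G o).map α.toMonoidHom) ω) = Fintype.card Ω - 1) := by
  classical
  haveI hpre : MulAction.IsPretransitive G Ω := MulAction.isPretransitive_of_is_two_pretransitive
  have htwo : ∀ a b a' b' : Ω, a ≠ b → a' ≠ b' → ∃ g : G, g • a = a' ∧ g • b = b' := by
    intro a b a' b' hab hab'
    exact MulAction.is_two_pretransitive_iff.1 h2 hab hab'
  set H := (MulAction.stabilizer G o).map α.toMonoidHom with hH
  set Δ := MulAction.orbit H ω with hΔ
  set k := Nat.card Δ with hkdef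
  set n := Fintype.card Ω with hn
  have hΔinv : ∀ h ∈ H, ∀ a, h • a ∈ Δ ↔ a ∈ Δ := fun h hh a => by
    have := MulAction.orbit_eq_iff (a := (⟨h, hh⟩ : H) • a) (b := a) (G := H)
    constructor
    · rintro ⟨x, hx⟩
      refine ⟨(⟨h, hh⟩ : H)⁻¹ * x, ?_⟩
      show ((⟨h, hh⟩ : H)⁻¹ * x) • ω = a
      rw [mul_smul]
      exact inv_smul_eq_iff.2 hx
    · rintro ⟨x, hx⟩
      exact ⟨(⟨h, hh⟩ : H) * x, by show ((⟨h, hh⟩ : H) * x) • ω = h • a; rw [mul_smul]; exact congrArg _ hx⟩
  choose t ht using fun b : Ω => MulAction.exists_smul_eq G o b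
  let P : Ω → Ω → Prop := fun b a => (α (t b))⁻¹ • a ∈ Δ
  have hPinv : ∀ (g : G) b a, P (g • b) (α g • a) ↔ P b a := by
    intro g b a
    have hs : (t b)⁻¹ * g⁻¹ * t (g • b) ∈ MulAction.stabilizer G o := by
      rw [MulAction.mem_stabilizer_iff, mul_smul, mul_smul, ht, inv_smul_smul, inv_smul_eq_iff, ht]
    have hmem := Subgroup.mem_map_of_mem α.toMonoidHom hs
    have e : (α (t b))⁻¹ • a = α ((t b)⁻¹ * g⁻¹ * t (g • b)) • ((α (t (g • b)))⁻¹ • (α g • a)) := by
      simp only [map_mul, map_inv, ← mul_smul]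
      congr 1
      group
    show (α (t (g • b)))⁻¹ • (α g • a) ∈ Δ ↔ (α (t b))⁻¹ • a ∈ Δ
    rw [e]
    exact (hΔinv _ hmem _).symm
  have hrow : ∀ b, (Finset.univ.filter (P b)).card = k := by
    intro b
    rw [hkdef, Nat.card_eq_fintype_card, ← Set.toFinset_card]
    refine Finset.card_bij (fun a _ => (α (t b))⁻¹ • a) (fun a ha => ?_) (fun a _ a' _ h => MulAction.injective _ h) fun c hc => ?_
    · exact Set.mem_toFinset.2 (Finset.mem_filter.1 ha).2
    · exact ⟨α (t b) • c, Finset.mem_filter.2 ⟨Finset.mem_univ _, by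
        show (α (t b))⁻¹ • (α (t b) • c) ∈ Δ
        rw [inv_smul_smul]; exact Set.mem_toFinset.1 hc⟩, inv_smul_smul _ _⟩
  let A : Matrix Ω Ω ℤ := Matrix.of fun b a => if P b a then 1 else 0
  let J : Matrix Ω Ω ℤ := Matrix.of fun _ _ => 1
  have hAinv : ∀ (g : G) b a, A (g • b) (α g • a) = A b a := fun g b a => by
    simp only [A, Matrix.of_apply, hPinv]
  have hArow : ∀ b, ∑ a, A b a = (k : ℤ) := fun b => by
    simp only [A, Matrix.of_apply, Finset.sum_boole, hrow]
  have hAcol : ∀ a, ∑ b, A b a = (k : ℤ) := by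
    have hconst : ∀ a a', ∑ b, A b a = ∑ b, A b a' := by
      intro a a'
      obtain ⟨g, hg⟩ := MulAction.exists_smul_eq G a a'
      rw [← hg, ← Equiv.sum_comp (MulAction.toPerm (α.symm g)) fun b => A b (g • a)]
      refine Finset.sum_congr rfl fun b _ => ?_
      show A b a = A (α.symm g • b) (g • a)
      conv_rhs => rw [show g • a = α (α.symm g) • a by rw [MulEquiv.apply_symm_apply]]
      rw [hAinv]
    intro a
    have h1 : ∑ a', ∑ b, A b a' = (n : ℤ) * k := by
      rw [Finset.sum_comm]; simp [hArow, hn]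
    rw [Finset.sum_congr rfl fun a' _ => hconst a' a, Finset.sum_const, Finset.card_univ, nsmul_eq_mul, ← hn] at h1
    have hn0 : (n : ℤ) ≠ 0 := by
      have : 0 < n := Fintype.card_pos_iff.2 ⟨o⟩
      omega
    exact mul_left_cancel₀ hn0 h1
  have hk1 : 1 ≤ k := by
    haveI : Nonempty Δ := ⟨⟨ω, MulAction.mem_orbit_self ω⟩⟩
    exact Nat.card_pos
  have hkn : k ≤ n := by
    rw [hn, ← Nat.card_eq_fintype_card, hkdef]
    exact Nat.card_le_card_of_injective _ Subtype.val_injective
  -- the conclusion from the numerical fact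
  suffices hnum : k = 1 ∨ k = n - 1 by
    refine ⟨?_, hnum⟩
    obtain ⟨p, hp⟩ : ∃ p : Ω, ∀ h ∈ H, h • p = p := by
      rcases hnum with h1 | h1
      · refine ⟨ω, fun h hh => ?_⟩
        obtain ⟨-, hs⟩ := Nat.card_eq_one_iff_unique.1 (hkdef ▸ h1 : Nat.card Δ = 1)
        haveI := (Nat.card_eq_one_iff_unique.1 (hkdef ▸ h1 : Nat.card Δ = 1)).1
        exact congrArg Subtype.val (Subsingleton.elim (⟨h • ω, (hΔinv h hh ω).2 (MulAction.mem_orbit_self ω)⟩ : Δ)
          ⟨ω, MulAction.mem_orbit_self ω⟩)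
      · have hc : (Δ.toFinsetᶜ).card = 1 := by
          rw [Finset.card_compl, Set.toFinset_card]
          have h2 : Fintype.card Δ = k := by rw [hkdef, Nat.card_eq_fintype_card]
          omega
        obtain ⟨p, hp⟩ := Finset.card_eq_one.1 hc
        refine ⟨p, fun h hh => ?_⟩
        have hpn : p ∉ Δ := by
          have : p ∈ Δ.toFinsetᶜ := hp ▸ Finset.mem_singleton_self p
          simpa using this
        have : h • p ∈ Δ.toFinsetᶜ := by
          simp only [Finset.mem_compl, Set.mem_toFinset]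
          exact fun hh' => hpn ((hΔinv h hh p).1 hh')
        rw [hp] at this
        exact Finset.mem_singleton.1 this
    have hHp : H = MulAction.stabilizer G p := by
      refine Subgroup.eq_of_le_of_card_ge (fun h hh => hp h hh) (le_of_eq ?_)
      rw [hH, Subgroup.card_map_of_injective α.injective]
      have e1 := (MulAction.stabilizer G p).index_mul_card
      have e2 := (MulAction.stabilizer G o).index_mul_card
      rw [MulAction.index_stabilizer_of_transitive] at e1 e2
      exact Nat.eq_of_mul_eq_mul_left (by rw [Nat.card_eq_fintype_card]; exact Fintype.card_pos_iff.2 ⟨o⟩) (e1.trans e2.symm)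
    let f : Ω → Ω := fun b => α (t b) • p
    have hfinj : Function.Injective f := by
      intro b b' hbb
      have h1 : α ((t b)⁻¹ * t b') • p = p := by
        rw [map_mul, map_inv, mul_smul, show α (t b') • p = α (t b) • p from hbb.symm, inv_smul_smul]
      have h2 : α ((t b)⁻¹ * t b') ∈ H := hHp ▸ h1
      obtain ⟨s, hs, hse⟩ := h2
      have : s = (t b)⁻¹ * t b' := α.injective hse
      subst this
      rw [SetLike.mem_coe, MulAction.mem_stabilizer_iff, mul_smul, ht, inv_smul_eq_iff, ht] at hs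
      exact hs.symm
    have hfeq : ∀ (g : G) b, f (g • b) = α g • f b := by
      intro g b
      have hs : (g * t b)⁻¹ * t (g • b) ∈ MulAction.stabilizer G o := by
        rw [MulAction.mem_stabilizer_iff, mul_smul, ht, inv_smul_eq_iff, mul_smul, ht]
      have h1 := hp _ (Subgroup.mem_map_of_mem α.toMonoidHom hs)
      show α (t (g • b)) • p = α g • (α (t b) • p)
      rw [← mul_smul, ← map_mul, eq_comm, ← inv_smul_eq_iff, ← mul_smul, ← map_inv, ← map_mul] at *
      exact h1
    let σ : Equiv.Perm Ω := Equiv.ofBijective f (Finite.injective_iff_bijective.1 hfinj)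
    have hσ : ∀ g : G, ((α g : G) : Equiv.Perm Ω) = σ * (g : Equiv.Perm Ω) * σ⁻¹ := by
      intro g
      refine Equiv.ext fun a => ?_
      obtain ⟨b, rfl⟩ := σ.surjective a
      show α g • f b = σ ((g : Equiv.Perm Ω) (σ.symm (σ b)))
      rw [Equiv.symm_apply_apply, ← hfeq]
      rfl
    refine ⟨σ, ?_, hσ⟩
    rw [Subgroup.mem_normalizer_iff]
    intro g
    constructor
    · intro hg
      have := hσ ⟨g, hg⟩
      rw [← this]
      exact (α ⟨g, hg⟩).2
    · intro hg
      have h1 := hσ (α.symm ⟨σ * g * σ⁻¹, hg⟩)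
      rw [MulEquiv.apply_symm_apply] at h1
      change σ * g * σ⁻¹ = σ * _ * σ⁻¹ at h1
      rw [mul_right_cancel_iff, mul_left_cancel_iff] at h1
      rw [h1]
      exact SetLike.coe_mem _
  rcases eq_or_lt_of_le hk1 with h | hk2
  · exact Or.inl h.symm
  have hlt : k < n := by
    refine lt_of_le_of_ne hkn fun e => ?_
    rw [e, Nat.coprime_self] at hk
    omega
  -- 2-transitivity
  obtain ⟨q, hq⟩ : ∃ q : Ω, q ≠ o := Fintype.exists_ne_of_one_lt_card (hn ▸ (by omega : 1 < n)) o
  have hscal : ∀ M : Matrix Ω Ω ℤ, (∀ (g : G) b a, M (g • b) (g • a) = M b a) →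
      M = (M o o - M o q) • (1 : Matrix Ω Ω ℤ) + (M o q) • J := by
    intro M hM
    ext b a
    simp only [Matrix.add_apply, Matrix.smul_apply, J, Matrix.of_apply, smul_eq_mul, mul_one]
    by_cases hba : b = a
    · subst hba
      obtain ⟨g, hg⟩ := MulAction.exists_smul_eq G o b
      rw [Matrix.one_apply_eq, mul_one, ← hg, hM]; ring
    · obtain ⟨g, hg1, hg2⟩ := htwo o q b a (Ne.symm hq) hba
      rw [Matrix.one_apply_ne hba, mul_zero, zero_add, ← hg1, ← hg2, hM]
  have hJA : J * A = (k : ℤ) • J := by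
    ext b a; simp [J, Matrix.mul_apply, hAcol]
  have hAJ : A * J = (k : ℤ) • J := by
    ext b a; simp [J, Matrix.mul_apply, hArow]
  have hJJ : J * J = (n : ℤ) • J := by
    ext b a; simp [J, Matrix.mul_apply, hn]
  have hAtJ : Aᵀ * J = (k : ℤ) • J := by
    ext b a; simp [J, Matrix.mul_apply, hAcol]
  set N := Aᵀ * A with hN
  have hNinv : ∀ (g : G) b a, N (g • b) (g • a) = N b a := by
    intro g b a
    simp only [hN, Matrix.mul_apply, Matrix.transpose_apply]
    rw [← Equiv.sum_comp (MulAction.toPerm (α.symm g))]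
    refine Finset.sum_congr rfl fun c _ => ?_
    show A (α.symm g • c) (g • b) * A (α.symm g • c) (g • a) = A c b * A c a
    have e : ∀ z : Ω, g • z = α (α.symm g) • z := fun z => by rw [MulEquiv.apply_symm_apply]
    rw [e b, e a, hAinv, hAinv]
  set l := N o q with hl
  have hNoo : N o o = k := by
    rw [hN, Matrix.mul_apply, ← hAcol o]
    refine Finset.sum_congr rfl fun c _ => ?_
    simp only [Matrix.transpose_apply, A, Matrix.of_apply]
    split_ifs <;> norm_num
  have hl0 : 0 ≤ l := by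
    rw [hl, hN, Matrix.mul_apply]
    refine Finset.sum_nonneg fun c _ => ?_
    simp only [Matrix.transpose_apply, A, Matrix.of_apply]
    split_ifs <;> norm_num
  have hNeq : N = ((k : ℤ) - l) • (1 : Matrix Ω Ω ℤ) + l • J := by rw [← hNoo]; exact hscal N hNinv
  set d := (k : ℤ) - l with hd
  have hcount : (k : ℤ) * k = d + n * l := by
    have h1 : N * J = ((k : ℤ) * k) • J := by
      rw [hN, Matrix.mul_assoc, hAJ, Matrix.mul_smul, hAtJ, smul_smul]
    rw [hNeq, Matrix.add_mul, Matrix.smul_mul, Matrix.smul_mul, Matrix.one_mul, hJJ, smul_smul, ← add_smul] at h1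
    have h2 := congrFun (congrFun h1 o) o
    simp [J] at h2
    linarith
  -- the period
  set m := orderOf α with hm
  have hMinv : ∀ (i : ℕ) (g : G) b a, (A ^ i) (g • b) ((α ^ i) g • a) = (A ^ i) b a := by
    intro i
    induction i with
    | zero =>
      intro g b a
      simp only [pow_zero, MulAut.one_apply, Matrix.one_apply]
      by_cases hba : b = a <;> simp [hba, MulAction.injective g |>.eq_iff]
    | succ i ih =>
      intro g b a
      rw [pow_succ, pow_succ', Matrix.mul_apply, Matrix.mul_apply,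
        ← Equiv.sum_comp (MulAction.toPerm ((α ^ i) g))]
      refine Finset.sum_congr rfl fun c _ => ?_
      show (A ^ i) (g • b) ((α ^ i) g • c) * A ((α ^ i) g • c) ((α * α ^ i) g • a) = (A ^ i) b c * A c a
      rw [ih, MulAut.mul_apply, hAinv]
  set M := A ^ m with hM
  have hMG : ∀ (g : G) b a, M (g • b) (g • a) = M b a := fun g b a => by
    have := hMinv m g b a
    rwa [hm, pow_orderOf_eq_one, MulAut.one_apply] at this
  set c := M o o - M o q with hc
  set e := M o q with he
  have hMeq : M = c • (1 : Matrix Ω Ω ℤ) + e • J := hscal M hMG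
  have hrowM : (k : ℤ) ^ m = c + n * e := by
    have h1 : ∀ i : ℕ, A ^ i * J = ((k : ℤ) ^ i) • J := by
      intro i
      induction i with
      | zero => simp
      | succ i ih => rw [pow_succ, Matrix.mul_assoc, hAJ, Matrix.mul_smul, ih, smul_smul, pow_succ']
    have h2 := h1 m
    rw [← hM, hMeq, Matrix.add_mul, Matrix.smul_mul, Matrix.smul_mul, Matrix.one_mul, hJJ, smul_smul, ← add_smul] at h2
    have h3 := congrFun (congrFun h2 o) o
    simp [J] at h3
    linarith
  have hc2 : c * c = d ^ m := by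
    have h1 : ∀ i : ℕ, ∃ z : ℤ, (Aᵀ) ^ i * A ^ i = d ^ i • (1 : Matrix Ω Ω ℤ) + z • J := by
      intro i
      induction i with
      | zero => exact ⟨0, by simp⟩
      | succ i ih =>
        obtain ⟨z, hz⟩ := ih
        refine ⟨d ^ i * l + z * ((k : ℤ) * k), ?_⟩
        rw [pow_succ' Aᵀ, pow_succ A, Matrix.mul_assoc, ← Matrix.mul_assoc ((Aᵀ) ^ i), hz, Matrix.add_mul,
          Matrix.smul_mul, Matrix.smul_mul, Matrix.one_mul, hJA, Matrix.mul_add, Matrix.mul_smul, ← hN,
          smul_smul, Matrix.mul_smul, hAtJ, smul_smul, hNeq, smul_add, smul_smul, smul_smul, pow_succ]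
        rw [add_smul, add_assoc, mul_assoc z]
    obtain ⟨z, hz⟩ := h1 m
    have h2 : Mᵀ * M = (c * c) • (1 : Matrix Ω Ω ℤ) + (c * e + e * c + e * e * n) • J := by
      have hJt : Jᵀ = J := by ext; rfl
      rw [hMeq, Matrix.transpose_add, Matrix.transpose_smul, Matrix.transpose_smul, Matrix.transpose_one, hJt,
        Matrix.add_mul, Matrix.mul_add, Matrix.mul_add]
      simp only [Matrix.smul_mul, Matrix.mul_smul, Matrix.one_mul, Matrix.mul_one, hJJ, smul_smul]
      rw [add_smul, add_smul, mul_assoc e e]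
      abel
    have hMt : Mᵀ * M = (Aᵀ) ^ m * A ^ m := by rw [hM, Matrix.transpose_pow]
    rw [hMt, hz] at h2
    have e1 := congrFun (congrFun h2 o) o
    have e2 := congrFun (congrFun h2 o) q
    simp only [J, Matrix.add_apply, Matrix.smul_apply, Matrix.of_apply, smul_eq_mul, Matrix.one_apply_eq, Matrix.one_apply_ne (Ne.symm hq)] at e1 e2
    linarith
  -- arithmetic
  obtain ⟨j, hj⟩ := hα
  have hd0 : d ≠ 0 := by
    intro h0
    rw [h0, show l = (k : ℤ) by omega] at hcount
    have : (k : ℤ) = n := mul_right_cancel₀ (by omega : (k : ℤ) ≠ 0) (by linarith)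
    omega
  have hdvd : d ^ j ∣ c := by
    rw [← Int.pow_dvd_pow_iff (n := 2) two_ne_zero, sq c, hc2, show m = 2 * j + 1 by omega, ← pow_mul, mul_comm j 2, pow_succ]
    exact dvd_mul_right _ _
  obtain ⟨s, hs⟩ := hdvd
  have hs2 : s * s = d := by
    have : d ^ (2 * j) * (s * s) = d ^ (2 * j) * d := by
      rw [← pow_succ, show 2 * j + 1 = m by omega, ← hc2, hs]; ring
    exact mul_left_cancel₀ (pow_ne_zero _ hd0) this
  have hkey : (n : ℤ) ∣ ((k : ℤ) - s) * d ^ j := by
    have h1 : (n : ℤ) ∣ (k : ℤ) ^ m - k * d ^ j := by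
      rw [show m = 2 * j + 1 by omega, pow_succ, pow_mul, sq]
      have : ((k : ℤ) * k) ^ j * k - k * d ^ j = k * (((k : ℤ) * k) ^ j - d ^ j) := by ring
      rw [this]
      exact dvd_mul_of_dvd_right (dvd_trans (⟨l, by linarith⟩ : (n : ℤ) ∣ (k : ℤ) * k - d) (sub_dvd_pow_sub_pow _ _ j)) _
    have h2 : ((k : ℤ) - s) * d ^ j = n * e - ((k : ℤ) ^ m - k * d ^ j) := by
      rw [hrowM, hs]; ring
    rw [h2]
    exact dvd_sub (dvd_mul_right _ _) h1
  have hcop : IsCoprime (n : ℤ) (d ^ j) := by
    refine IsCoprime.pow_right ?_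
    have h1 : IsCoprime (n : ℤ) ((k : ℤ) * k) := by
      have : IsCoprime (n : ℤ) (k : ℤ) := (Nat.isCoprime_iff_coprime).2 hk.symm
      exact this.mul_right this
    have h2 : (k : ℤ) * k = d + (n : ℤ) * l := hcount
    rw [h2] at h1
    exact (IsCoprime.of_add_mul_left_right h1)
  obtain ⟨i, hi⟩ := hcop.dvd_of_dvd_mul_right hkey
  have hdk : d ≤ k := by omega
  have hsk : s < k := by nlinarith
  have hsk' : -(k : ℤ) < s := by nlinarith
  have hi1 : i = 1 := by
    have hA : (n : ℤ) * i < 2 * n := by omega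
    have hB : 0 < (n : ℤ) * i := by omega
    have hn' : (0 : ℤ) < n := by omega
    have hC : i < 2 := lt_of_mul_lt_mul_left (by linarith : (n : ℤ) * i < n * 2) hn'.le
    have hD : 0 < i := (mul_pos_iff_of_pos_left hn').1 hB
    omega
  subst hi1
  have hs3 : s = (k : ℤ) - n := by linarith
  refine Or.inr ?_
  have h4 : ((n : ℤ) - k) * (n - 1) = k := by
    have h5 : ((n : ℤ) - k) * (n - k) = d := by rw [← hs2, hs3]; ring
    have h6 : ((n : ℤ) - 1) * d = k * (n - k) := by linear_combination hcount + (n:ℤ) * hd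
    rw [← h5] at h6
    have h7 : ((n : ℤ) - k) ≠ 0 := by omega
    refine mul_left_cancel₀ h7 ?_
    linarith
  have h8 : ((n : ℤ) - k - 1) * (n - 1) = k - (n - 1) := by linarith
  have : ((n : ℤ) - k - 1) = 0 := by
    by_contra hne
    have h9 : 1 ≤ ((n : ℤ) - k - 1) * (n - 1) := by
      have a1 : 1 ≤ ((n : ℤ) - k - 1) := by omega
      have a2 : 1 ≤ ((n : ℤ) - 1) := by omega
      exact one_le_mul_of_one_le_of_one_le a1 a2
    omega
  omega

end Cfsg.Agent.S4276
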