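import Cfsg.Statements.S4277
import Mathlib

set_option autoImplicit false
open Cfsg

namespace Cfsg.Agent.S4277

open Finset in
theorem commute_of_fix {G : Type*} [Group G] [Finite G] [IsSimpleGroup G] (H : Subgroup G) {p : ℕ} [hp : Fact p.Prime]
    (hidx : H.index = p) (hco : ¬ p ∣ Nat.card H) (x : G) (hx : orderOf x = p) (α β : MulAut G) (hα : α x = x) (hβ : β x = x) :
    α * β = β * α := by
  classical
  have := Fintype.ofFinite G
  have := Fintype.ofFinite (G ⧸ H)
  let Ω := G ⧸ H
  let b : Ω := ((1 : G) : G ⧸ H)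
  have hfaith : ∀ g : G, (∀ ω : Ω, g • ω = ω) → g = 1 := by
    intro g hg
    have hcore : H.normalCore = ⊥ := by
      rcases H.normalCore_normal.eq_bot_or_eq_top with h | h
      · exact h
      · exfalso
        have : H = ⊤ := top_le_iff.mp (h ▸ H.normalCore_le)
        rw [this, Subgroup.index_top] at hidx
        exact hp.out.one_lt.ne hidx
    have : g ∈ (MulAction.toPermHom G (G ⧸ H)).ker := Equiv.ext hg
    rw [← Subgroup.normalCore_eq_ker, hcore] at this
    exact this
  have horb : Function.Bijective (fun i : Fin p => x ^ (i : ℕ) • b) := by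
    have hcard : Fintype.card Ω = p := by rw [← Nat.card_eq_fintype_card]; exact hidx
    refine (Fintype.bijective_iff_injective_and_card _).mpr ⟨?_, by rw [Fintype.card_fin]; exact hcard.symm⟩
    intro i j hij
    have h1 : (x ^ (i : ℕ))⁻¹ * x ^ (j : ℕ) ∈ H := by
      have : ((x ^ (i : ℕ) * 1 : G) : G ⧸ H) = ((x ^ (j : ℕ) * 1 : G) : G ⧸ H) := hij
      rw [mul_one, mul_one] at this
      exact QuotientGroup.eq.mp this
    have h2 : (x ^ (i : ℕ))⁻¹ * x ^ (j : ℕ) = 1 := by
      rw [← orderOf_eq_one_iff]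
      have hd1 : orderOf ((x ^ (i : ℕ))⁻¹ * x ^ (j : ℕ)) ∣ Nat.card H := Subgroup.orderOf_dvd_natCard H h1
      have hd2 : orderOf ((x ^ (i : ℕ))⁻¹ * x ^ (j : ℕ)) ∣ p := by
        have : (x ^ (i : ℕ))⁻¹ * x ^ (j : ℕ) ∈ Subgroup.zpowers x :=
          mul_mem (inv_mem (pow_mem (Subgroup.mem_zpowers x) _)) (pow_mem (Subgroup.mem_zpowers x) _)
        have := Subgroup.orderOf_dvd_natCard _ this
        rwa [Nat.card_zpowers, hx] at this
      rcases (Nat.dvd_prime hp.out).mp hd2 with h | h
      · exact h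
      · exact absurd (h ▸ hd1) hco
    exact Fin.ext (pow_injOn_Iio_orderOf (by simp [hx]) (by simp [hx]) (inv_mul_eq_one.mp h2))
  have hrep : ∀ ω : Ω, ∃ g : G, g • b = ω := fun ω => MulAction.exists_smul_eq G b ω
  let ρ : G → Module.End (ZMod p) (Ω → ZMod p) := fun g => LinearMap.funLeft (ZMod p) (ZMod p) (fun ω : Ω => g⁻¹ • ω)
  have hρ : ∀ g g' : G, ρ (g * g') = ρ g * ρ g' := by
    intro g g'
    ext f ω
    simp [ρ, LinearMap.funLeft_apply, mul_smul]
  have hρ1 : ρ 1 = 1 := by
    ext f ω
    simp [ρ, LinearMap.funLeft_apply]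
  have hρpow : ∀ n : ℕ, ρ (x ^ n) = ρ x ^ n := by
    intro n
    induction n with
    | zero => simpa using hρ1
    | succ n ih => rw [pow_succ, pow_succ, hρ, ih]
  have hρinj : ∀ g g' : G, ρ g = ρ g' → g = g' := by
    intro g g' h
    have h1 : g⁻¹ = g'⁻¹ := by
      have := hfaith (g'⁻¹⁻¹ * g⁻¹) fun ω => by
        by_contra hne
        have := congrFun (LinearMap.congr_fun h (Pi.single (g⁻¹ • ω) (1 : ZMod p))) ω
        simp only [ρ, LinearMap.funLeft_apply, Pi.single_eq_same] at this
        by_cases he : g'⁻¹ • ω = g⁻¹ • ω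
        · apply hne
          rw [mul_smul, ← he, ← mul_smul]
          simp
        · rw [Pi.single_eq_of_ne he] at this
          exact one_ne_zero this
      exact eq_of_inv_mul_eq_one this |>.symm
    exact inv_injective h1
  -- the operator attached to an automorphism
  let c : ZMod p := (Nat.card H : ZMod p)⁻¹
  let T : MulAut G → Module.End (ZMod p) (Ω → ZMod p) := fun γ =>
    { toFun := fun f ω => c * ∑ g : G, if γ g • b = ω then f (g • b) else 0
      map_add' := by
        intro f f'
        ext ω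
        simp only [Pi.add_apply]
        rw [← mul_add, ← Finset.sum_add_distrib]
        congr 1
        refine Finset.sum_congr rfl fun g _ => ?_
        split_ifs <;> simp
      map_smul' := by
        intro a f
        ext ω
        simp only [Pi.smul_apply, smul_eq_mul, RingHom.id_apply, Finset.mul_sum]
        refine Finset.sum_congr rfl fun g _ => ?_
        split_ifs <;> ring }
  have hequiv : ∀ (γ : MulAut G) (g₀ : G), T γ * ρ g₀ = ρ (γ g₀) * T γ := by
    intro γ g₀
    refine LinearMap.ext fun f => funext fun ω => ?_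
    simp only [Module.End.mul_apply, T, ρ, LinearMap.funLeft_apply, LinearMap.coe_mk, AddHom.coe_mk]
    congr 1
    refine Finset.sum_equiv (Equiv.mulLeft g₀⁻¹) (by simp) fun g _ => ?_
    simp [mul_smul]
  have hone : ∀ γ : MulAut G, T γ (fun _ => 1) = fun _ => 1 := by
    intro γ
    funext ω
    simp only [T, LinearMap.coe_mk, AddHom.coe_mk]
    rw [Finset.sum_boole]
    have hcnt : (Finset.univ.filter fun g : G => γ g • b = ω).card = Nat.card H := by
      obtain ⟨g₁, hg₁⟩ := hrep ω
      rw [Nat.card_eq_fintype_card, ← Finset.card_univ]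
      symm
      refine Finset.card_bij (fun (h : H) _ => γ.symm (g₁ * h)) ?_ ?_ ?_
      · intro h _
        rw [Finset.mem_filter]
        refine ⟨Finset.mem_univ _, ?_⟩
        rw [MulEquiv.apply_symm_apply, mul_smul, ← hg₁]
        congr 1
        change ((((h : G) * 1 : G)) : G ⧸ H) = ((1 : G) : G ⧸ H)
        exact QuotientGroup.eq.mpr (by simp)
      · intro h1 _ h2 _ he
        exact Subtype.ext (mul_left_cancel (γ.symm.injective he))
      · intro g hg
        rw [Finset.mem_filter, ← hg₁] at hg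
        refine ⟨⟨g₁⁻¹ * γ g, ?_⟩, Finset.mem_univ _, by simp⟩
        have : ((γ g * 1 : G) : G ⧸ H) = ((g₁ * 1 : G) : G ⧸ H) := hg.2
        rw [mul_one, mul_one] at this
        exact QuotientGroup.eq.mp this.symm
    rw [hcnt]
    apply inv_mul_cancel₀
    rw [Ne, ZMod.natCast_eq_zero_iff]
    exact hco
  let X : Module.End (ZMod p) (Ω → ZMod p) := ρ x
  have hpoly : ∀ U : Module.End (ZMod p) (Ω → ZMod p), U * X = X * U →
      ∃ q : Polynomial (ZMod p), U = Polynomial.aeval X q := by
    intro U hU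
    let v : Ω → ZMod p := Pi.single b 1
    let e := Equiv.ofBijective _ horb
    have hspan : ∀ f : Ω → ZMod p, f = ∑ i : Fin p, f (e i) • (X ^ (i : ℕ)) v := by
      intro f
      funext ω
      rw [Finset.sum_apply, Finset.sum_eq_single (e.symm ω)]
      · have he : x ^ ((e.symm ω : Fin p) : ℕ) • b = ω := e.apply_symm_apply ω
        rw [← hρpow, Pi.smul_apply, e.apply_symm_apply]
        simp only [ρ, v, LinearMap.funLeft_apply]
        rw [show (x ^ ((e.symm ω : Fin p) : ℕ))⁻¹ • ω = b by rw [inv_smul_eq_iff, he]]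
        simp
      · intro i _ hi
        rw [← hρpow, Pi.smul_apply]
        simp only [ρ, v, LinearMap.funLeft_apply]
        rw [Pi.single_eq_of_ne, smul_zero]
        intro h
        apply hi
        rw [Equiv.eq_symm_apply]
        exact (inv_smul_eq_iff.mp h).symm
      · simp
    refine ⟨∑ i : Fin p, Polynomial.C (U v (e i)) * Polynomial.X ^ (i : ℕ), ?_⟩
    have hq : Polynomial.aeval X (∑ i : Fin p, Polynomial.C (U v (e i)) * Polynomial.X ^ (i : ℕ)) v = U v := by
      conv_rhs => rw [hspan (U v)]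
      simp [map_sum, Algebra.algebraMap_eq_smul_one]
    refine LinearMap.ext fun f => ?_
    rw [hspan f, map_sum, map_sum]
    refine Finset.sum_congr rfl fun i _ => ?_
    rw [map_smul, map_smul, ← Module.End.mul_apply, ← Module.End.mul_apply]
    have hc1 : Commute U (X ^ (i : ℕ)) := Commute.pow_right hU _
    have hc2 : Commute (Polynomial.aeval X (∑ i : Fin p, Polynomial.C (U v (e i)) * Polynomial.X ^ (i : ℕ))) (X ^ (i : ℕ)) := by
      rw [← Polynomial.aeval_X_pow (R := ZMod p)]
      exact (Commute.all _ _).map _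
    rw [hc1.eq, hc2.eq, Module.End.mul_apply, Module.End.mul_apply, hq]
  have hxp : x ^ p = 1 := hx ▸ pow_orderOf_eq_one x
  have hXp : X ^ p = 1 := by rw [← hρpow, hxp, hρ1]
  have hunit : ∀ γ : MulAut G, γ x = x → ∃ q : Polynomial (ZMod p), T γ = Polynomial.aeval X q ∧ T γ ^ p = 1 := by
    intro γ hγ
    have hcomm : T γ * X = X * T γ := by
      have := hequiv γ x
      rwa [hγ] at this
    obtain ⟨q, hq⟩ := hpoly _ hcomm
    refine ⟨q, hq, ?_⟩
    have hX1 : X (fun _ => 1) = fun _ => 1 := rfl
    have hev : Polynomial.aeval X q (fun _ => 1) = (q.eval 1) • (fun _ : Ω => (1 : ZMod p)) :=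
      Module.End.aeval_apply_of_hasEigenvector ⟨by simpa [Module.End.mem_eigenspace_iff] using hX1, fun h => one_ne_zero (congrFun h b)⟩
    rw [← hq, hone] at hev
    have hq1 : q.eval 1 = 1 := by simpa using (congrFun hev b).symm
    rw [hq, ← map_pow, ← ZMod.expand_card, Polynomial.expand_aeval, hXp]
    rw [show (1 : Module.End (ZMod p) (Ω → ZMod p)) = algebraMap (ZMod p) _ 1 by simp, Polynomial.aeval_algebraMap_apply,
      Polynomial.coe_aeval_eq_eval, hq1]
  obtain ⟨qa, hqa, hpa⟩ := hunit α hα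
  obtain ⟨qb, hqb, hpb⟩ := hunit β hβ
  have hTT : T α * T β = T β * T α := by
    rw [hqa, hqb, ← map_mul, ← map_mul, mul_comm]
  have hU : IsUnit (T α * T β) :=
    (IsUnit.of_pow_eq_one hpa hp.out.ne_zero).mul (IsUnit.of_pow_eq_one hpb hp.out.ne_zero)
  refine MulEquiv.ext fun g => hρinj _ _ (hU.mul_left_injective ?_)
  change ρ (α (β g)) * (T α * T β) = ρ (β (α g)) * (T α * T β)
  conv_rhs => rw [hTT, ← mul_assoc, ← hequiv, mul_assoc, ← hequiv, ← mul_assoc, ← hTT]
  rw [← mul_assoc, ← hequiv, mul_assoc, ← hequiv, ← mul_assoc]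

theorem out_solvable {G : Type*} [Group G] [Finite G] [IsSimpleGroup G] (H : Subgroup G) (hH : H.index.Prime) :
    Group.IsSolvable (Cfsg.Out G) := by
  classical
  obtain ⟨p, hidx⟩ : ∃ p, H.index = p := ⟨_, rfl⟩
  have : Fact p.Prime := ⟨hidx ▸ hH⟩
  have hp := (Fact.out : p.Prime)
  have hGd : Nat.card G ∣ p.factorial := by
    have hcore : H.normalCore = ⊥ := by
      rcases H.normalCore_normal.eq_bot_or_eq_top with h | h
      · exact h
      · exfalso
        have : H = ⊤ := top_le_iff.mp (h ▸ H.normalCore_le)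
        rw [this, Subgroup.index_top] at hH
        exact Nat.not_prime_one hH
    have hinj : Function.Injective (MulAction.toPermHom G (G ⧸ H)) := by
      rw [← MonoidHom.ker_eq_bot_iff, ← Subgroup.normalCore_eq_ker, hcore]
    have := Subgroup.card_dvd_of_injective _ hinj
    rwa [Nat.card_perm, ← Subgroup.index_eq_card, hidx] at this
  have hmul : Nat.card H * p = Nat.card G := hidx ▸ H.card_mul_index
  have hco : ¬ p ∣ Nat.card H := by
    intro h
    have h2 : p * p ∣ p * (p - 1).factorial := by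
      rw [Nat.mul_factorial_pred hp.ne_zero]
      exact (mul_dvd_mul_right h p).trans (hmul ▸ hGd)
    have := hp.dvd_factorial.mp (Nat.dvd_of_mul_dvd_mul_left hp.pos h2)
    have := hp.one_lt
    omega
  obtain ⟨x, hx⟩ := exists_prime_orderOf_dvd_card' (G := G) p ⟨_, hmul.symm.trans (mul_comm _ _)⟩
  let L : Subgroup (MulAut G) :=
    { carrier := {γ | Subgroup.map (γ : G →* G) (Subgroup.zpowers x) = Subgroup.zpowers x}
      one_mem' := Subgroup.map_id _
      mul_mem' := fun {a c} ha hc => by
        change Subgroup.map ((a : G →* G).comp (c : G →* G)) _ = _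
        rw [← Subgroup.map_map, hc, ha]
      inv_mem' := fun {a} ha => by
        change Subgroup.map ((a⁻¹ : MulAut G) : G →* G) _ = _
        conv_lhs => rw [← ha, Subgroup.map_map]
        convert Subgroup.map_id _ using 2
        ext g
        simp }
  have hmemL : ∀ γ ∈ L, ∀ y ∈ Subgroup.zpowers x, γ y ∈ Subgroup.zpowers x :=
    fun γ hγ y hy => hγ ▸ Subgroup.mem_map_of_mem _ hy
  have hcom : ∀ γ δ : MulAut G, γ ∈ L → δ ∈ L → ∀ y ∈ Subgroup.zpowers x, γ (δ y) = δ (γ y) := by
    intro γ δ hγ hδ y hy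
    obtain ⟨a, ha⟩ := Subgroup.mem_zpowers_iff.mp (hmemL γ hγ x (Subgroup.mem_zpowers x))
    obtain ⟨c, hc⟩ := Subgroup.mem_zpowers_iff.mp (hmemL δ hδ x (Subgroup.mem_zpowers x))
    obtain ⟨k, rfl⟩ := Subgroup.mem_zpowers_iff.mp hy
    simp only [map_zpow, ← hc, ← ha, ← zpow_mul]
    congr 1
    ring
  have hfix : ∀ g ∈ derivedSeries L 1, (g : MulAut G) x = x := by
    rw [derivedSeries_one]
    let K : Subgroup L := (MulAction.stabilizer (MulAut G) x).comap L.subtype
    have : commutator L ≤ K := by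
      rw [commutator_def, Subgroup.commutator_le]
      rintro ⟨γ, hγ⟩ - ⟨δ, hδ⟩ -
      change (γ * δ * γ⁻¹ * δ⁻¹) x = x
      simp only [MulAut.mul_apply]
      have hy : γ⁻¹ (δ⁻¹ x) ∈ Subgroup.zpowers x :=
        hmemL _ (L.inv_mem hγ) _ (hmemL _ (L.inv_mem hδ) _ (Subgroup.mem_zpowers x))
      rw [hcom γ δ hγ hδ _ hy, MulAut.apply_inv_self, MulAut.apply_inv_self]
    exact fun g hg => this hg
  have hLsolv : Group.IsSolvable L := by
    refine ⟨⟨2, ?_⟩⟩
    rw [derivedSeries_succ, Subgroup.commutator_eq_bot_iff_le_centralizer]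
    intro g hg
    rw [Subgroup.mem_centralizer_iff]
    intro h hh
    exact Subtype.ext (commute_of_fix H hidx hco x hx _ _ (hfix h hh) (hfix g hg))
  have hP : ¬ p ∣ (Subgroup.zpowers x).index := by
    have h1 : p * (Subgroup.zpowers x).index = Nat.card H * p := by
      rw [hmul, ← (Subgroup.zpowers x).card_mul_index, Nat.card_zpowers, hx]
    rw [mul_comm (Nat.card H)] at h1
    rwa [Nat.eq_of_mul_eq_mul_left hp.pos h1]
  have hPp : IsPGroup p (Subgroup.zpowers x) := IsPGroup.of_card (n := 1) (by rw [Nat.card_zpowers, hx, pow_one])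
  let P : Sylow p G := hPp.toSylow hP
  have hsurj : Function.Surjective ((QuotientGroup.mk' (Cfsg.Inn G)).comp L.subtype) := by
    intro q
    induction q using QuotientGroup.induction_on with
    | _ γ =>
    let Q : Sylow p G := (hPp.map (γ : G →* G)).toSylow
      (by rw [Subgroup.index_map_equiv]; exact hP)
    obtain ⟨g, hg⟩ := MulAction.exists_smul_eq G Q P
    refine ⟨⟨MulAut.conj g * γ, ?_⟩, ?_⟩
    · change Subgroup.map ((MulAut.conj g : G →* G).comp (γ : G →* G)) _ = _
      rw [← Subgroup.map_map]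
      exact congrArg Sylow.toSubgroup hg
    · rw [MonoidHom.comp_apply, QuotientGroup.mk'_apply]
      apply QuotientGroup.eq.mpr
      change (MulAut.conj g * γ)⁻¹ * γ ∈ Cfsg.Inn G
      rw [mul_inv_rev, mul_assoc]
      refine ⟨γ⁻¹ g⁻¹, ?_⟩
      ext z
      simp [MulAut.mul_apply]
  exact Group.isSolvable_of_surjective hsurj

/-- A case of the Schreier conjecture: if a finite simple group G has a subgroup of prime index, then the outer automorphism group of G is solvable. -/
theorem result {G : Type*} [Group G] [Finite G] [IsSimpleGroup G] (H : Subgroup G) (hH : H.index.Prime) : Group.IsSolvable (Cfsg.Out G) := by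
  exact out_solvable H hH

end Cfsg.Agent.S4277
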