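import Cfsg.Statements.S4283
import Cfsg.Agent.Lib.Core.FrobeniusConj
import Cfsg.Agent.Lib.Core.FPF

set_option autoImplicit false
open Cfsg

set_option linter.all false

namespace Cfsg.Agent.S4283

open Subgroup
open scoped Pointwise

/-- Let G be a finite group with centre Z and let K, H be abelian subgroups of G containing Z such that G/Z is a Frobenius group with complement H/Z and kernel K/Z. Then the conjugacy class sizes of G are exactly 1, [G : K] and [G : H], and these two indices are coprime. (This is the converse half of the characterization of finite groups whose conjugacy class sizes are exactly 1, m and n with m and n coprime.) -/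
theorem result {G : Type*} [Group G] [Finite G] (K H : Subgroup G) (hZK : Subgroup.center G ≤ K) (hZH : Subgroup.center G ≤ H) (hK : IsMulCommutative K) (hH : IsMulCommutative H) (hFrob : Cfsg.IsFrobeniusComplement (H.map (QuotientGroup.mk' (Subgroup.center G)))) (hker : Cfsg.frobeniusKernel (H.map (QuotientGroup.mk' (Subgroup.center G))) = (K.map (QuotientGroup.mk' (Subgroup.center G)) : Set (G ⧸ Subgroup.center G))) : Set.range (fun x : G => (Subgroup.centralizer ({x} : Set G)).index) = ({1, K.index, H.index} : Set ℕ) ∧ K.index.Coprime H.index := by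
  classical
  set π := QuotientGroup.mk' (center G) with hπ
  have hs : Function.Surjective π := QuotientGroup.mk'_surjective _
  have hkK : π.ker ≤ K := by rw [hπ, QuotientGroup.ker_mk']; exact hZK
  have hkH : π.ker ≤ H := by rw [hπ, QuotientGroup.ker_mk']; exact hZH
  obtain ⟨N, hN, hNn, hc, hN1, hfpf⟩ := CfsgLib.Core.FrobeniusConj.exists_kernel hFrob
  have hNK : N = K.map π := SetLike.coe_injective (hN.trans hker)
  have hmemK : ∀ {g : G}, π g ∈ K.map π → g ∈ K := fun {g} h => by
    have := mem_comap.2 h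
    rwa [comap_map_eq_self hkK] at this
  have hmemH : ∀ {g : G}, π g ∈ H.map π → g ∈ H := fun {g} h => by
    have := mem_comap.2 h
    rwa [comap_map_eq_self hkH] at this
  have hKi : K.index = Nat.card ↥(H.map π) := by
    rw [← index_map_eq (f := π) K hs hkK, ← hNK]
    exact hc.symm.index_eq_card
  have hHi : H.index = Nat.card ↥N := by
    rw [← index_map_eq (f := π) H hs hkH]
    exact hc.index_eq_card
  have hconj : ∀ g : G, g ∉ K → ∃ t : G, t⁻¹ * g * t ∈ H := by
    intro g hg
    have h1 : π g ∉ (K.map π : Set (G ⧸ center G)) := fun h => hg (hmemK h)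
    rw [← hker] at h1
    simp only [Cfsg.frobeniusKernel, Set.mem_setOf_eq, not_or, not_forall, not_not] at h1
    obtain ⟨-, q, hq⟩ := h1
    obtain ⟨t, rfl⟩ := hs q
    rw [mem_pointwise_smul_iff_inv_smul_mem, ← map_inv, MulAut.smul_def, MulAut.conj_apply, inv_inv] at hq
    exact ⟨t, hmemH (by rwa [map_mul, map_mul, map_inv])⟩
  -- centralisers of the two kinds of elements
  have hcH : ∀ x ∈ H, x ∉ center G → centralizer ({x} : Set G) = H := by
    intro x hx hxZ
    refine le_antisymm (fun g hg => hmemH ?_) fun g hg => mem_centralizer_singleton_iff.2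
      (congrArg Subtype.val (hH.is_comm.comm ⟨g, hg⟩ ⟨x, hx⟩))
    by_contra hgH
    have hx1 : π x ≠ 1 := fun h => hxZ ((QuotientGroup.eq_one_iff x).1 h)
    have h2 : π x ∈ H.map π ⊓ MulAut.conj (π g) • H.map π := by
      refine Subgroup.mem_inf.2 ⟨mem_map_of_mem π hx, ?_⟩
      rw [mem_pointwise_smul_iff_inv_smul_mem, ← map_inv, MulAut.smul_def, MulAut.conj_apply, inv_inv]
      have e : (π g)⁻¹ * π x * π g = π x := by
        rw [mul_assoc, ← map_mul, ← mem_centralizer_singleton_iff.1 hg, map_mul, inv_mul_cancel_left]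
      rw [e]
      exact mem_map_of_mem π hx
    rw [hFrob.2.2 _ hgH, mem_bot] at h2
    exact hx1 h2
  have hcK : ∀ x ∈ K, x ∉ center G → centralizer ({x} : Set G) = K := by
    intro x hx hxZ
    refine le_antisymm (fun g hg => ?_) fun g hg => mem_centralizer_singleton_iff.2
      (congrArg Subtype.val (hK.is_comm.comm ⟨g, hg⟩ ⟨x, hx⟩))
    by_contra hgK
    obtain ⟨t, ht⟩ := hconj g hgK
    have hg1 : t⁻¹ * g * t ∉ center G := fun h => hgK (by
      have hgz := (inferInstance : (center G).Normal).conj_mem _ h t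
      rw [show t * (t⁻¹ * g * t) * t⁻¹ = g by group] at hgz
      exact hZK hgz)
    have hxH : t⁻¹ * x * t ∈ H := by
      rw [← hcH _ ht hg1, mem_centralizer_singleton_iff]
      calc t⁻¹ * x * t * (t⁻¹ * g * t) = t⁻¹ * (x * g) * t := by group
        _ = t⁻¹ * (g * x) * t := by rw [mem_centralizer_singleton_iff.1 hg]
        _ = t⁻¹ * g * t * (t⁻¹ * x * t) := by group
    have h3 : π (t⁻¹ * x * t) ∈ N := by
      rw [map_mul, map_mul, map_inv]
      exact hNn.conj_mem' _ (hNK.ge (mem_map_of_mem π hx)) (π t)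
    have h4 : π (t⁻¹ * x * t) = 1 := mem_bot.1 (hc.disjoint.le_bot ⟨h3, mem_map_of_mem π hxH⟩)
    have h5 := (inferInstance : (center G).Normal).conj_mem _ ((QuotientGroup.eq_one_iff _).1 h4) t
    rw [show t * (t⁻¹ * x * t) * t⁻¹ = x by group] at h5
    exact hxZ h5
  have hidx : ∀ (x t : G), (centralizer ({t * x * t⁻¹} : Set G)).index = (centralizer ({x} : Set G)).index := by
    intro x t
    rw [show centralizer ({t * x * t⁻¹} : Set G) = (centralizer ({x} : Set G)).map (MulAut.conj t).toMonoidHom
      from ?_, Subgroup.index_map_of_bijective (MulAut.conj t).bijective]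
    ext g
    rw [mem_map_equiv, mem_centralizer_singleton_iff, mem_centralizer_singleton_iff, MulAut.conj_symm_apply]
    constructor
    · intro h
      calc t⁻¹ * g * t * x = t⁻¹ * (g * (t * x * t⁻¹)) * t := by group
        _ = t⁻¹ * (t * x * t⁻¹ * g) * t := by rw [h]
        _ = x * (t⁻¹ * g * t) := by group
    · intro h
      calc g * (t * x * t⁻¹) = t * (t⁻¹ * g * t * x) * t⁻¹ := by group
        _ = t * (x * (t⁻¹ * g * t)) * t⁻¹ := by rw [h]
        _ = t * x * t⁻¹ * g := by group
  refine ⟨Set.Subset.antisymm ?_ ?_, ?_⟩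
  · rintro _ ⟨x, rfl⟩
    simp only [Set.mem_insert_iff, Set.mem_singleton_iff]
    by_cases hxZ : x ∈ center G
    · left
      rw [index_eq_one, eq_top_iff]
      exact fun g _ => mem_centralizer_singleton_iff.2 (mem_center_iff.1 hxZ g)
    by_cases hxK : x ∈ K
    · exact Or.inr (Or.inl (by rw [hcK x hxK hxZ]))
    · right; right
      obtain ⟨t, ht⟩ := hconj x hxK
      have hz : t⁻¹ * x * t ∉ center G := fun h => hxZ (by
        have := (inferInstance : (center G).Normal).conj_mem _ h t
        rwa [show t * (t⁻¹ * x * t) * t⁻¹ = x by group] at this)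
      rw [← hcH _ ht hz, ← hidx (t⁻¹ * x * t) t, show t * (t⁻¹ * x * t) * t⁻¹ = x by group]
  · simp only [Set.insert_subset_iff, Set.singleton_subset_iff, Set.mem_range]
    refine ⟨⟨1, ?_⟩, ?_, ?_⟩
    · rw [index_eq_one, eq_top_iff]
      exact fun g _ => mem_centralizer_singleton_iff.2 (by rw [mul_one, one_mul])
    · obtain ⟨⟨q, hq⟩, hq1⟩ := ne_bot_iff_exists_ne_one.1 hN1
      obtain ⟨x, hx, rfl⟩ := hNK.le hq
      exact ⟨x, by rw [hcK x hx fun h => hq1 (Subtype.ext ((QuotientGroup.eq_one_iff x).2 h))]⟩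
    · obtain ⟨⟨q, hq⟩, hq1⟩ := ne_bot_iff_exists_ne_one.1 hFrob.1
      obtain ⟨x, hx, rfl⟩ := hq
      exact ⟨x, by rw [hcH x hx fun h => hq1 (Subtype.ext ((QuotientGroup.eq_one_iff x).2 h))]⟩
  · rw [hKi, hHi]
    exact CfsgLib.Core.FPF.coprime_card (by rw [normalizer_eq_top_iff.2 hNn]; exact le_top) hfpf

end Cfsg.Agent.S4283
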