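import Cfsg.Statements.S4284
import Cfsg.Agent.Lib.ClassSizes.CoprimeRank.Conclusion

set_option autoImplicit false
open Cfsg

namespace Cfsg.Agent.S4284

/-- Let G be a finite group with no nontrivial abelian direct factor whose conjugacy class sizes are exactly 1, m and m·n with m, n > 1 coprime. Then m is a prime p dividing n − 1; the elements whose class has size 1 or p form an abelian normal subgroup of index p; G has a normal p-complement; and the commutator subgroup of a Sylow p-subgroup of G has order p. -/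
theorem result {G : Type*} [Group G] [Finite G] (hnodf : ∀ A B : Subgroup G, A.Normal → B.Normal → A ⊓ B = ⊥ → A ⊔ B = ⊤ → IsMulCommutative A → A = ⊥) (m n : ℕ) (hm : 1 < m) (hn : 1 < n) (hcop : m.Coprime n) (h : Set.range (fun x : G => (Subgroup.centralizer ({x} : Set G)).index) = ({1, m, m * n} : Set ℕ)) : m.Prime ∧ m ∣ n - 1 ∧ (∃ M : Subgroup G, M.Normal ∧ (M : Set G) = {x : G | (Subgroup.centralizer ({x} : Set G)).index = 1 ∨ (Subgroup.centralizer ({x} : Set G)).index = m} ∧ M.index = m ∧ IsMulCommutative M) ∧ (∃ N : Subgroup G, N.Normal ∧ (Nat.card N).Coprime m ∧ ∃ a : ℕ, N.index = m ^ a) ∧ ∀ P : Sylow m G, Nat.card (commutator (P : Subgroup G)) = m := by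
  open CfsgLib.ClassSizes in
  have hh : CoprimeRank.Hyp G m n := by
    have hsize : ∀ z : G, (Subgroup.centralizer ({z} : Set G)).index ∈ ({1, m, m * n} : Set ℕ) :=
      fun z => h ▸ Set.mem_range_self z
    refine ⟨hm, hn, hcop, fun z hz => ?_, ?_, ?_⟩
    · rcases hsize z with h1 | h1
      · exact absurd (TwoSizes.index_one_iff.1 h1) hz
      · exact h1
    · exact (h ▸ (Or.inr (Or.inl rfl)) : m ∈ Set.range fun x : G => (Subgroup.centralizer ({x} : Set G)).index)
    · exact (h ▸ (Or.inr (Or.inr rfl)) : m * n ∈ Set.range fun x : G => (Subgroup.centralizer ({x} : Set G)).index)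
  obtain ⟨p, a, C, hc⟩ := hh.single
  obtain rfl : m = p := hc.m_prime
  obtain ⟨K, hKn, hKco, hKi, hdvd⟩ := hc.complement
  haveI := Fact.mk hc.prime
  refine ⟨hc.prime, hdvd, ⟨C, hc.normal, ?_, hc.index_eq,
    ⟨⟨fun x y => Subtype.ext (hc.comm x x.2 y y.2).eq⟩⟩⟩, ⟨K, hKn, hKco, hKi⟩,
    fun P => hc.card_commutator P⟩
  ext z
  exact (hc.mem_iff z).trans (or_congr_left CfsgLib.ClassSizes.TwoSizes.index_one_iff.symm)

end Cfsg.Agent.S4284
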