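import Cfsg.Statements.S4291
import Cfsg.Agent.Lib.Recog.Zassenhaus.SixUnique
-- import your own Cfsg.Agent.* helpers here

set_option autoImplicit false
open Cfsg

namespace Cfsg.Agent.S4291

/-- Let G be a finite group that occurs as a Frobenius complement. Then G has exactly one normal subgroup N such that every Sylow subgroup of N is cyclic and the quotient of G by N is trivial or isomorphic to one of the following five groups: the Klein four-group, the alternating group of degree 4, the symmetric group of degree 4, the alternating group of degree 5, the symmetric group of degree 5. (The quotient is described by a surjective homomorphism with kernel N; the Klein four-group is written as the dihedral group of order 4.) -/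
theorem result {G : Type*} [Group G] [Finite G]
    (hFC : (∃ (L : Type) (_ : Group L) (_ : Finite L) (H : Subgroup L), Cfsg.IsFrobeniusComplement H ∧ Nonempty (G ≃* H))) :
    ∃! N : Subgroup G, N.Normal ∧ (∀ (p : ℕ) [Fact p.Prime] (P : Sylow p N), IsCyclic P) ∧
      (N = ⊤ ∨
        (∃ f : G →* DihedralGroup 2, Function.Surjective f ∧ f.ker = N) ∨
        (∃ f : G →* alternatingGroup (Fin 4), Function.Surjective f ∧ f.ker = N) ∨
        (∃ f : G →* Equiv.Perm (Fin 4), Function.Surjective f ∧ f.ker = N) ∨
        (∃ f : G →* alternatingGroup (Fin 5), Function.Surjective f ∧ f.ker = N) ∨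
        (∃ f : G →* Equiv.Perm (Fin 5), Function.Surjective f ∧ f.ker = N)) := by
  obtain ⟨L, _, _, H, hH, ⟨e⟩⟩ := hFC
  obtain ⟨q, hq, n, hn, ⟨P⟩⟩ := CfsgLib.Recog.Zassenhaus.exists_rep_of_complement hH e
  haveI := hn
  obtain ⟨N, hN, hc, hQ⟩ : ∃ N : Subgroup G, N.Normal ∧ CfsgLib.Recog.Zassenhaus.CycSylow N ∧
      CfsgLib.Recog.Zassenhaus.Quot6 N := by
    by_cases hs : Group.IsSolvable G
    · exact P.exists_six_solvable
    · exact P.exists_six_nonsolvable q hs
  refine ⟨N, ⟨hN, fun p hp R => hc p hp.out (R : Subgroup N) R.2, hQ⟩, fun N' h => ?_⟩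
  refine P.six_unique N' N h.1 hN (fun p hp R hR => ?_) hc h.2.2 hQ
  haveI := Fact.mk hp
  obtain ⟨S, hS⟩ := hR.exists_le_sylow
  haveI := h.2.1 p S
  exact isCyclic_of_injective (Subgroup.inclusion hS) (Subgroup.inclusion_injective hS)

end Cfsg.Agent.S4291
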