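import Cfsg.Statements.S4292
import Cfsg.Agent.Lib.Recog.Zassenhaus.Lift
-- import your own Cfsg.Agent.* helpers here

set_option autoImplicit false
open Cfsg

namespace Cfsg.Agent.S4292

open CfsgLib.Recog.Zassenhaus

open scoped TensorProduct

/-- Restriction along an injection. -/
theorem complement_of_injective {A G : Type*} [Group A] [Finite A] [Nontrivial A] [Group G] [Finite G] {L V : Type*}
    [Field L] [AddCommGroup V] [Module L V] [Nontrivial V] [FiniteDimensional L V] (p : ℕ) [Fact p.Prime] [CharP L p]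
    (P : Rep G L V) (f : A →* G) (hf : Function.Injective f) :
    ∃ (L : Type) (_ : Group L) (_ : Finite L) (H : Subgroup L), Cfsg.IsFrobeniusComplement H ∧ Nonempty (A ≃* H) := by
  let PA : Rep A L V := ⟨P.ρ.comp f, fun a ha v hv => P.fpf (f a) (fun e => ha (hf (by rw [e, map_one]))) v hv⟩
  obtain ⟨r, hr1, hr⟩ := Nat.exists_infinite_primes (Nat.card A + 1)
  haveI := Fact.mk hr
  obtain ⟨W, i1, i2, i3, i4, ρ, hρ⟩ := exists_module PA p r fun h => by
    have := Nat.le_of_dvd Nat.card_pos h; omega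
  exact exists_complement_of_module ρ hρ

theorem unit_sub_one {r : ℕ} [Fact r.Prime] {W : Type*} [AddCommGroup W] [Module (ZMod r) W] [Finite W]
    (T : Module.End (ZMod r) W) (hT : ∀ w, T w = w → w = 0) : IsUnit (T - 1) := by
  have hinj : Function.Injective (T - 1 : Module.End (ZMod r) W) :=
    (injective_iff_map_eq_zero _).2 fun w hw => hT w (sub_eq_zero.1 hw)
  exact (Module.End.isUnit_iff _).2 ⟨hinj, Finite.injective_iff_surjective.1 hinj⟩

/-- Let A and B be nontrivial finite groups. Then the direct product A × B occurs as a Frobenius complement if and only if A and B both occur as Frobenius complements and the orders of A and B are coprime. -/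
theorem result {A B : Type*} [Group A] [Finite A] [Nontrivial A] [Group B] [Finite B] [Nontrivial B] :
    (∃ (L : Type) (_ : Group L) (_ : Finite L) (H : Subgroup L), Cfsg.IsFrobeniusComplement H ∧ Nonempty ((A × B) ≃* H)) ↔
    ((∃ (L : Type) (_ : Group L) (_ : Finite L) (H : Subgroup L), Cfsg.IsFrobeniusComplement H ∧ Nonempty (A ≃* H)) ∧
     (∃ (L : Type) (_ : Group L) (_ : Finite L) (H : Subgroup L), Cfsg.IsFrobeniusComplement H ∧ Nonempty (B ≃* H)) ∧
     (Nat.card A).Coprime (Nat.card B)) := by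
  constructor
  · rintro ⟨L, _, _, H, hH, ⟨e⟩⟩
    obtain ⟨p, hp, n, hn, ⟨P⟩⟩ := exists_rep_of_complement hH e
    haveI := hn
    refine ⟨complement_of_injective p P (MonoidHom.inl A B) (fun a b h => (Prod.ext_iff.1 h).1),
      complement_of_injective p P (MonoidHom.inr A B) (fun a b h => (Prod.ext_iff.1 h).2), ?_⟩
    refine Nat.coprime_of_dvd fun q hq hA hB => ?_
    haveI := Fact.mk hq
    obtain ⟨a, ha⟩ := exists_prime_orderOf_dvd_card' q hA
    obtain ⟨b, hb⟩ := exists_prime_orderOf_dvd_card' q hB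
    have hab : Commute ((a, 1) : A × B) (1, b) := Prod.ext (by simp) (by simp)
    obtain ⟨i, hi⟩ := P.mem_zpowers_of_commute hab (by
      rw [show orderOf ((a, 1) : A × B) = q by rw [Prod.orderOf, orderOf_one, Nat.lcm_one_right, ha]]
      exact Prod.ext (one_pow _) (by rw [← hb]; exact pow_orderOf_eq_one b))
    have h2 := congrArg Prod.snd hi
    simp only [Prod.pow_snd, one_zpow] at h2
    exact hq.ne_one (by rw [← hb, ← h2, orderOf_one])
  · rintro ⟨⟨L₁, _, _, H₁, hH₁, ⟨e₁⟩⟩, ⟨L₂, _, _, H₂, hH₂, ⟨e₂⟩⟩, hcop⟩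
    obtain ⟨p₁, hp₁, n₁, hn₁, ⟨P₁⟩⟩ := exists_rep_of_complement hH₁ e₁
    obtain ⟨p₂, hp₂, n₂, hn₂, ⟨P₂⟩⟩ := exists_rep_of_complement hH₂ e₂
    haveI := hn₁
    haveI := hn₂
    obtain ⟨r, hr1, hr⟩ := Nat.exists_infinite_primes (Nat.card A + Nat.card B + 1)
    haveI := Fact.mk hr
    obtain ⟨W₁, i1, i2, i3, i4, ρ₁, h₁⟩ := exists_module P₁ p₁ r fun h => by
      have := Nat.le_of_dvd Nat.card_pos h; omega
    obtain ⟨W₂, j1, j2, j3, j4, ρ₂, h₂⟩ := exists_module P₂ p₂ r fun h => by
      have := Nat.le_of_dvd Nat.card_pos h; omega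
    haveI : Module.Finite (ZMod r) W₁ := Module.Finite.of_finite
    haveI : Module.Finite (ZMod r) W₂ := Module.Finite.of_finite
    haveI : Finite (W₁ ⊗[ZMod r] W₂) := Module.finite_of_finite (ZMod r)
    haveI : Nontrivial (W₁ ⊗[ZMod r] W₂) := Module.nontrivial_of_finrank_pos (R := ZMod r) (by
      rw [Module.finrank_tensorProduct]; exact Nat.mul_pos Module.finrank_pos Module.finrank_pos)
    let Φ₁ := Module.End.rTensorAlgHom (ZMod r) W₁ W₂
    let Φ₂ := Module.End.lTensorAlgHom (ZMod r) W₂ W₁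
    have hc : ∀ f g, Φ₁ f * Φ₂ g = Φ₂ g * Φ₁ f := fun f g => TensorProduct.ext' fun x y => rfl
    let ρ : A × B →* Module.End (ZMod r) (W₁ ⊗[ZMod r] W₂) :=
      { toFun := fun x => Φ₁ (ρ₁ x.1) * Φ₂ (ρ₂ x.2)
        map_one' := by simp
        map_mul' := fun x y => by
          simp only [Prod.fst_mul, Prod.snd_mul, map_mul, mul_assoc]
          congr 1
          rw [← mul_assoc, hc, mul_assoc] }
    refine exists_complement_of_module ρ fun x hx v hv => ?_
    have hfix : ∀ k : ℕ, ρ (x ^ k) v = v := by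
      intro k
      induction k with
      | zero => rw [pow_zero, map_one, Module.End.one_apply]
      | succ k ih => rw [pow_succ, map_mul, Module.End.mul_apply, hv, ih]
    obtain ⟨a, b⟩ := x
    by_cases ha : a = 1
    · subst ha
      have hb : b ≠ 1 := fun h => hx (by rw [h]; rfl)
      have hu := (unit_sub_one (ρ₂ b) (h₂ b hb)).map Φ₂
      apply ((Module.End.isUnit_iff _).1 hu).1
      rw [map_zero, map_sub, map_one, LinearMap.sub_apply, Module.End.one_apply, sub_eq_zero]
      simpa [ρ] using hv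
    · have hb : a ^ Nat.card B ≠ 1 := fun h => ha (orderOf_eq_one_iff.1 (Nat.eq_one_of_dvd_coprimes hcop
        (orderOf_dvd_natCard a) (orderOf_dvd_of_pow_eq_one h)))
      have hu := (unit_sub_one (ρ₁ (a ^ Nat.card B)) (h₁ _ hb)).map Φ₁
      apply ((Module.End.isUnit_iff _).1 hu).1
      rw [map_zero, map_sub, map_one, LinearMap.sub_apply, Module.End.one_apply, sub_eq_zero]
      have h := hfix (Nat.card B)
      simpa [ρ, pow_card_eq_one'] using h

end Cfsg.Agent.S4292
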