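import Cfsg.Statements.S4295
import Cfsg.Agent.Lib.HallGen.QuaternionKernel

set_option autoImplicit false
open Cfsg

namespace Cfsg.Agent.S4295

/-- the map `Q₈ → M` given by two elements satisfying the relations. -/
def qmap {M : Type*} [Monoid M] (I J : M) : QuaternionGroup 2 → M
  | .a i => I ^ i.val
  | .xa i => J * I ^ i.val

theorem qmap_mul {M : Type*} [Monoid M] {I J : M} (h4 : I ^ 4 = 1) (hJ : J * J = I ^ 2)
    (hIJ : I * J = J * I ^ 3) (x y : QuaternionGroup 2) :
    qmap I J (x * y) = qmap I J x * qmap I J y := by
  have hIn : ∀ n : ℕ, I ^ n * J = J * I ^ (3 * n) := by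
    intro n
    induction n with
    | zero => simp
    | succ n ih =>
      rw [pow_succ, mul_assoc, hIJ, ← mul_assoc, ih, mul_assoc, ← pow_add]
      congr 2
  have hmod : ∀ a b : ℕ, a % 4 = b % 4 → I ^ a = I ^ b := by
    intro a b h
    rw [← Nat.mod_add_div a 4, ← Nat.mod_add_div b 4, h, pow_add, pow_add, pow_mul, pow_mul, h4,
      one_pow, one_pow]
  rcases x with i | i <;> rcases y with j | j
  · rw [QuaternionGroup.a_mul_a]; simp only [qmap]
    rw [← pow_add]; exact hmod _ _ (by revert i j; decide)
  · rw [QuaternionGroup.a_mul_xa]; simp only [qmap]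
    rw [← mul_assoc, hIn, mul_assoc, ← pow_add]; congr 1; exact hmod _ _ (by revert i j; decide)
  · rw [QuaternionGroup.xa_mul_a]; simp only [qmap]
    rw [mul_assoc, ← pow_add]; congr 1; exact hmod _ _ (by revert i j; decide)
  · rw [QuaternionGroup.xa_mul_xa]; simp only [qmap]
    rw [mul_assoc J, ← mul_assoc (I ^ i.val), hIn, mul_assoc J, ← mul_assoc J J, hJ, ← pow_add,
      ← pow_add]
    exact hmod _ _ (by revert i j; decide)


/-- For a natural number m the following are equivalent: (a) some finite group has a Frobenius complement isomorphic to the quaternion group of order 8 whose Frobenius kernel (the identity together with the elements lying in no conjugate of the complement) has exactly m elements; (b) m is an odd perfect square greater than 1. -/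
theorem result (m : ℕ) :
    (∃ (L : Type) (_ : Group L) (_ : Finite L) (H : Subgroup L), Cfsg.IsFrobeniusComplement H ∧
        Nonempty (H ≃* QuaternionGroup 2) ∧ Nat.card (Cfsg.frobeniusKernel H) = m) ↔
    (Odd m ∧ IsSquare m ∧ 1 < m) := by
  constructor
  · rintro ⟨L, i1, i2, H, hF, ⟨e⟩, hm⟩
    obtain ⟨N, hNk, -, -, hN, -⟩ := CfsgLib.Core.FrobeniusConj.exists_kernel hF
    haveI : Fact (Nat.Prime 2) := ⟨Nat.prime_two⟩
    have hH2 : IsPGroup 2 H := IsPGroup.of_card (n := 3)
      (by rw [Nat.card_congr e.toEquiv, Nat.card_eq_fintype_card, QuaternionGroup.card]; rfl)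
    let P : Sylow 2 H := default
    have hPt : (P : Subgroup H) = ⊤ :=
      (P.is_maximal' (Q := ⊤) (hH2.of_equiv Subgroup.topEquiv.symm) le_top).symm
    have hP : ¬ IsCyclic P := by
      intro hc
      have hne : QuaternionGroup.a (1 : ZMod (2 * 2)) * (QuaternionGroup.xa 0 : QuaternionGroup 2) ≠
          QuaternionGroup.xa 0 * QuaternionGroup.a 1 := by decide
      haveI : IsCyclic H :=
        (((MulEquiv.subgroupCongr hPt).trans Subgroup.topEquiv).isCyclic).1 hc
      haveI : IsCyclic (QuaternionGroup 2) := e.isCyclic.1 inferInstance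
      let := IsCyclic.commGroup (α := QuaternionGroup 2)
      exact hne (mul_comm _ _)
    obtain ⟨h1, h2⟩ := CfsgLib.HallGen.odd_isSquare_card_kernel H hF 2 P hP
    refine ⟨hm ▸ h1, hm ▸ h2, ?_⟩
    rw [← hm, ← hNk]
    exact N.one_lt_card_iff_ne_bot.2 hN
  · rintro ⟨hodd, ⟨s, rfl⟩, h1⟩
    classical
    have hs0 : s ≠ 0 := by rintro rfl; simp at h1
    set l := s.primeFactorsList with hl
    have hprod : l.prod = s := Nat.prod_primeFactorsList hs0
    let P : Fin l.length → ℕ := fun i => l[(i : ℕ)]
    haveI : ∀ i, Fact (P i).Prime := fun i =>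
      ⟨Nat.prime_of_mem_primeFactorsList (List.getElem_mem i.2)⟩
    haveI : ∀ i, NeZero (P i) := fun i => ⟨(Fact.out : (P i).Prime).ne_zero⟩
    choose a b hab using fun i => ZMod.sq_add_sq (P i) (-1)
    let I : AddMonoid.End (∀ i : Fin l.length, ZMod (P i) × ZMod (P i)) :=
      { toFun := fun v i => (-(v i).2, (v i).1)
        map_zero' := by funext i; simp
        map_add' := fun v w => by funext i; simp [add_comm] }
    let J : AddMonoid.End (∀ i : Fin l.length, ZMod (P i) × ZMod (P i)) :=
      { toFun := fun v i => (a i * (v i).1 + b i * (v i).2, b i * (v i).1 - a i * (v i).2)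
        map_zero' := by funext i; simp
        map_add' := fun v w => by
          funext i
          simp only [Pi.add_apply, Prod.fst_add, Prod.snd_add, Prod.mk_add_mk, Prod.ext_iff]
          constructor <;> ring }
    have hI2 : ∀ v i, (I (I v)) i = (-(v i).1, -(v i).2) := fun v i => rfl
    have h4 : I ^ 4 = 1 := by
      refine DFunLike.ext _ _ fun v => funext fun i => ?_
      show (I (I (I (I v)))) i = v i
      rw [hI2, hI2]; simp
    have hJ : J * J = I ^ 2 := by
      refine DFunLike.ext _ _ fun v => funext fun i => ?_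
      show (J (J v)) i = (I (I v)) i
      rw [hI2]
      show (a i * _ + b i * _, b i * _ - a i * _) = _
      refine Prod.ext ?_ ?_
      · change a i * (a i * (v i).1 + b i * (v i).2) + b i * (b i * (v i).1 - a i * (v i).2) = -(v i).1
        linear_combination (v i).1 * hab i
      · change b i * (a i * (v i).1 + b i * (v i).2) - a i * (b i * (v i).1 - a i * (v i).2) = -(v i).2
        linear_combination (v i).2 * hab i
    have hIJ : I * J = J * I ^ 3 := by
      refine DFunLike.ext _ _ fun v => funext fun i => ?_
      show (I (J v)) i = (J (I (I (I v)))) i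
      change (-(b i * (v i).1 - a i * (v i).2), a i * (v i).1 + b i * (v i).2) =
        (a i * - -(v i).2 + b i * -(v i).1, b i * - -(v i).2 - a i * -(v i).1)
      refine Prod.ext ?_ ?_ <;> simp <;> ring
    letI act : DistribMulAction (QuaternionGroup 2) (∀ i : Fin l.length, ZMod (P i) × ZMod (P i)) :=
      { smul := fun x v => qmap I J x v
        one_smul := fun v => by change (I ^ 0) v = v; rw [pow_zero]; rfl
        mul_smul := fun x y v => by change qmap I J (x * y) v = _; rw [qmap_mul h4 hJ hIJ]; rfl
        smul_zero := fun x => map_zero _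
        smul_add := fun x v w => map_add _ v w }
    have hp2 : ∀ i, P i ≠ 2 := by
      intro i h
      have hd : P i ∣ s := Nat.dvd_of_mem_primeFactorsList (List.getElem_mem i.2)
      rw [h] at hd
      exact Nat.not_even_iff_odd.2 hodd (even_iff_two_dvd.2 (hd.mul_left s))
    have hz : ∀ v : (∀ i : Fin l.length, ZMod (P i) × ZMod (P i)), (QuaternionGroup.a 2 : QuaternionGroup 2) • v = v → v = 0 := by
      intro v hv
      funext i
      have h := congrFun hv i
      change (I (I v)) i = v i at h
      rw [hI2, Prod.ext_iff] at h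
      have key : ∀ c : ZMod (P i), -c = c → c = 0 := fun c hc => by
        rcases (ZMod.neg_eq_self_iff c).1 hc with h0 | h0
        · exact h0
        · exfalso
          have := (Fact.out : (P i).Prime).eq_two_or_odd
          have := hp2 i
          omega
      exact Prod.ext (key _ h.1) (key _ h.2)
    haveI : Nontrivial (∀ i : Fin l.length, ZMod (P i) × ZMod (P i)) := by
      have hlen : 0 < l.length := by
        rcases Nat.eq_zero_or_pos l.length with h0 | h0
        · rw [List.length_eq_zero_iff] at h0
          rw [h0, List.prod_nil] at hprod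
          subst hprod
          simp at h1
        · exact h0
      refine ⟨⟨0, fun i => (1, 0), fun h => ?_⟩⟩
      exact zero_ne_one (congrArg Prod.fst (congrFun h ⟨0, hlen⟩))
    obtain ⟨L, i1, i2, H, hF, ⟨e⟩, hc⟩ :=
      CfsgLib.HallGen.exists_frobeniusComplement_of_fpf (QuaternionGroup 2) (∀ i : Fin l.length, ZMod (P i) × ZMod (P i)) (fun x hx v hv => by
        have hd : ∀ y : QuaternionGroup 2, y ≠ 1 → y = .a 2 ∨ y * y = .a 2 := by decide
        rcases hd x hx with h | h
        · exact hz v (h ▸ hv)
        · exact hz v (by rw [← h, mul_smul, hv, hv]))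
    refine ⟨L, i1, i2, H, hF, ⟨e.symm⟩, hc.trans ?_⟩
    simp only [Nat.card_pi, Nat.card_prod, Nat.card_zmod]
    rw [Finset.prod_mul_distrib]
    have hP : ∏ i : Fin l.length, P i = s := by
      refine (Eq.trans ?_ hprod)
      rw [← List.prod_ofFn]
      exact congrArg List.prod List.ofFn_getElem
    rw [hP]
end Cfsg.Agent.S4295
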