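import Cfsg.Statements.S4297
import Cfsg.Agent.Lib.HallGen.FrobeniusComplement

set_option autoImplicit false
open Cfsg

namespace Cfsg.Agent.S4297

/-- The `z`-power attached to a residue. -/
def zp {q : ℕ} (m : ℕ) (z : (ZMod q)ˣ) (i : ZMod m) : (ZMod q)ˣ := z ^ i.val

theorem zp_add {q m : ℕ} [NeZero m] {z : (ZMod q)ˣ} (hz : orderOf z = m) (i j : ZMod m) :
    zp m z (i + j) = zp m z i * zp m z j := by
  rw [zp, zp, zp, ← pow_add, pow_eq_pow_iff_modEq, hz, ZMod.val_add]
  exact Nat.mod_modEq _ _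

theorem zp_neg {q m : ℕ} [NeZero m] {z : (ZMod q)ˣ} (hz : orderOf z = m) (i : ZMod m) :
    zp m z (-i) = (zp m z i)⁻¹ := by
  rw [eq_inv_iff_mul_eq_one, ← zp_add hz, neg_add_cancel, zp, ZMod.val_zero, pow_zero]

theorem zp_sub {q m : ℕ} [NeZero m] {z : (ZMod q)ˣ} (hz : orderOf z = m) (i j : ZMod m) :
    zp m z (i - j) = zp m z i * (zp m z j)⁻¹ := by
  rw [sub_eq_add_neg, zp_add hz, zp_neg hz]

theorem zp_eq_one {q m : ℕ} [NeZero m] {z : (ZMod q)ˣ} (hz : orderOf z = m) {i : ZMod m}
    (h : zp m z i = 1) : i = 0 := by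
  rw [zp, ← orderOf_dvd_iff_pow_eq_one, hz] at h
  exact (ZMod.val_eq_zero i).1 (Nat.eq_zero_of_dvd_of_lt h (ZMod.val_lt i))

/-- For every n ≥ 2 the dicyclic group of order 4n (generated by an element a of order 2n and an element x with x² = aⁿ and x a x⁻¹ = a⁻¹) occurs as a Frobenius complement of some finite Frobenius group. -/
theorem result (n : ℕ) (hn : 2 ≤ n) :
    ∃ (L : Type) (_ : Group L) (_ : Finite L) (H : Subgroup L), Cfsg.IsFrobeniusComplement H ∧ Nonempty (H ≃* QuaternionGroup n) := by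
  classical
  haveI : NeZero n := ⟨by omega⟩
  haveI : NeZero (2 * n) := ⟨by omega⟩
  obtain ⟨q, hq, hlt, hmod⟩ := Nat.exists_prime_gt_modEq_one (k := 2 * n) 2 (by omega)
  haveI := Fact.mk hq
  have hdvd : 2 * n ∣ q - 1 := (Nat.modEq_iff_dvd' hq.one_lt.le).1 hmod.symm
  obtain ⟨g, hg⟩ := IsCyclic.exists_generator (α := (ZMod q)ˣ)
  have hcard : orderOf g = q - 1 := by
    rw [orderOf_eq_card_of_forall_mem_zpowers hg, Nat.card_eq_fintype_card, ZMod.card_units]
  obtain ⟨z, hz⟩ : ∃ z : (ZMod q)ˣ, orderOf z = 2 * n :=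
    ⟨g ^ ((q - 1) / (2 * n)), by
      have hne : q - 1 ≠ 0 := by omega
      rw [← hcard, orderOf_pow_orderOf_div (hcard ▸ hne) (hcard ▸ hdvd)]⟩
  have hh : (zp (2 * n) z (n : ZMod (2 * n)) : ZMod q) = -1 := by
    have hv : (n : ZMod (2 * n)).val = n := ZMod.val_natCast_of_lt (by omega)
    have h1 : ((z ^ n : (ZMod q)ˣ) : ZMod q) * ((z ^ n : (ZMod q)ˣ) : ZMod q) = 1 := by
      rw [← Units.val_mul, ← pow_add, ← two_mul, ← hz, pow_orderOf_eq_one, Units.val_one]
    rw [zp, hv]
    refine (mul_self_eq_one_iff.1 h1).resolve_left fun h => ?_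
    have h2 : z ^ n = 1 := Units.ext h
    rw [← orderOf_dvd_iff_pow_eq_one, hz] at h2
    have := Nat.le_of_dvd (by omega) h2
    omega
  let f : QuaternionGroup n → ZMod q × ZMod q → ZMod q × ZMod q
    | .a i, v => (zp (2 * n) z i * v.1, ((zp (2 * n) z i)⁻¹ : (ZMod q)ˣ) * v.2)
    | .xa i, v => (-(((zp (2 * n) z i)⁻¹ : (ZMod q)ˣ) * v.2), zp (2 * n) z i * v.1)
  letI : DistribMulAction (QuaternionGroup n) (ZMod q × ZMod q) :=
    { smul := f
      one_smul := fun v => by
        change f (QuaternionGroup.a 0) v = v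
        simp only [f, zp, ZMod.val_zero, pow_zero, inv_one, Units.val_one, one_mul, Prod.mk.eta]
      mul_smul := fun x y v => by
        change f (x * y) v = f x (f y v)
        have hzn : ((zp (2 * n) z (n : ZMod (2 * n)))⁻¹ : (ZMod q)ˣ) = zp (2 * n) z (n : ZMod (2 * n)) := by
          apply Units.ext
          rw [Units.val_inv_eq_inv_val, hh, inv_neg_one]
        rcases x with i | i <;> rcases y with j | j <;>
          simp only [QuaternionGroup.a_mul_a, QuaternionGroup.a_mul_xa, QuaternionGroup.xa_mul_a,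
            QuaternionGroup.xa_mul_xa, f, zp_add hz, zp_sub hz, mul_inv_rev, inv_inv, hzn,
            Units.val_mul, hh, Prod.ext_iff] <;>
          constructor <;> ring
      smul_zero := fun x => by change f x 0 = 0; rcases x with i | i <;> simp only [f, Prod.fst_zero, Prod.snd_zero, mul_zero, neg_zero, Prod.mk_zero_zero]
      smul_add := fun x v w => by
        change f x (v + w) = f x v + f x w
        rcases x with i | i <;> simp only [f, Prod.fst_add, Prod.snd_add, mul_add, neg_add, Prod.mk_add_mk] }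
  obtain ⟨L, i1, i2, H, h1, ⟨h2⟩, -⟩ :=
    CfsgLib.HallGen.exists_frobeniusComplement_of_fpf (QuaternionGroup n) (ZMod q × ZMod q)
      (fun x hx v hv => by
        change f x v = v at hv
        rcases x with i | i
        · simp only [f, Prod.ext_iff, mul_left_eq_self₀] at hv
          have hi : zp (2 * n) z i ≠ 1 := fun h => hx (by rw [zp_eq_one hz h]; rfl)
          refine Prod.ext ?_ ?_
          · exact hv.1.resolve_left fun h => hi (Units.ext h)
          · exact hv.2.resolve_left fun h => hi (inv_eq_one.1 (Units.ext h))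
        · simp only [f, Prod.ext_iff] at hv
          obtain ⟨e1, e2⟩ := hv
          rw [← e2, Units.inv_mul_cancel_left] at e1
          have h20 : (2 : ZMod q) * v.1 = 0 := by rw [two_mul]; nth_rewrite 1 [← e1]; exact neg_add_cancel v.1
          have h2ne : (2 : ZMod q) ≠ 0 := by
            intro h
            have h' : ((2 : ℕ) : ZMod q) = 0 := by exact_mod_cast h
            rw [ZMod.natCast_eq_zero_iff] at h'
            have := Nat.le_of_dvd two_pos h'
            omega
          have hv1 : v.1 = 0 := (mul_eq_zero.1 h20).resolve_left h2ne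
          exact Prod.ext hv1 (by rw [← e2, hv1, mul_zero]; rfl))
  exact ⟨L, i1, i2, H, h1, ⟨h2.symm⟩⟩
end Cfsg.Agent.S4297
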