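import Cfsg.Statements.S4298
import Cfsg.Agent.Lib.HallGen.FrobeniusComplement

set_option autoImplicit false
open Cfsg

namespace Cfsg.Agent.S4298

/-- An embedding of `SL(2,3)` in `SL(2,5)`, entrywise. -/
def table : List ((ℕ × ℕ × ℕ × ℕ) × (ℕ × ℕ × ℕ × ℕ)) :=
  [((0, 1, 2, 0), (3, 0, 1, 2)),
   ((0, 1, 2, 1), (2, 2, 1, 4)),
   ((0, 1, 2, 2), (0, 3, 3, 4)),
   ((0, 2, 1, 0), (2, 0, 4, 3)),
   ((0, 2, 1, 1), (0, 2, 2, 1)),
   ((0, 2, 1, 2), (3, 3, 4, 1)),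
   ((1, 0, 0, 1), (1, 0, 0, 1)),
   ((1, 0, 1, 1), (2, 1, 3, 2)),
   ((1, 0, 2, 1), (2, 4, 2, 2)),
   ((1, 1, 0, 1), (0, 1, 4, 4)),
   ((1, 1, 1, 2), (4, 1, 3, 1)),
   ((1, 1, 2, 0), (1, 3, 3, 0)),
   ((1, 2, 0, 1), (4, 4, 1, 0)),
   ((1, 2, 1, 0), (4, 3, 4, 2)),
   ((1, 2, 2, 2), (2, 3, 0, 3)),
   ((2, 0, 0, 2), (4, 0, 0, 4)),
   ((2, 0, 1, 2), (3, 1, 3, 3)),
   ((2, 0, 2, 2), (3, 4, 2, 3)),
   ((2, 1, 0, 2), (1, 1, 4, 0)),
   ((2, 1, 1, 1), (3, 2, 0, 2)),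
   ((2, 1, 2, 0), (1, 2, 1, 3)),
   ((2, 2, 0, 2), (0, 4, 1, 1)),
   ((2, 2, 1, 0), (4, 2, 2, 0)),
   ((2, 2, 2, 1), (1, 4, 2, 4))]

/-- The product of two matrices given by their entries. -/
def mulT (m : ℕ) (a b : ℕ × ℕ × ℕ × ℕ) : ℕ × ℕ × ℕ × ℕ :=
  ((a.1 * b.1 + a.2.1 * b.2.2.1) % m, (a.1 * b.2.1 + a.2.1 * b.2.2.2) % m,
   (a.2.2.1 * b.1 + a.2.2.2 * b.2.2.1) % m, (a.2.2.1 * b.2.1 + a.2.2.2 * b.2.2.2) % m)

/-- The embedding. -/
def emb (a : ℕ × ℕ × ℕ × ℕ) : ℕ × ℕ × ℕ × ℕ := (table.lookup a).getD (0, 0, 0, 0)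

theorem emb_mul : ∀ a ∈ table.map Prod.fst, ∀ b ∈ table.map Prod.fst,
    emb (mulT 3 a b) = mulT 5 (emb a) (emb b) := by decide +kernel

theorem mem_table : ∀ a b c d : Fin 3, (a.val * d.val) % 3 = (1 + b.val * c.val) % 3 →
    (a.val, b.val, c.val, d.val) ∈ table.map Prod.fst := by decide +kernel

theorem emb_fpf : ∀ a ∈ table.map Prod.fst, a ≠ (1, 0, 0, 1) → ∀ u w : Fin 5,
    ((emb a).1 * u.val + (emb a).2.1 * w.val) % 5 = u.val →
    ((emb a).2.2.1 * u.val + (emb a).2.2.2 * w.val) % 5 = w.val → u = 0 ∧ w = 0 := by decide +kernel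

/-- The entries of a matrix. -/
def tup (g : Matrix.SpecialLinearGroup (Fin 2) (ZMod 3)) : ℕ × ℕ × ℕ × ℕ :=
  ((g 0 0).val, (g 0 1).val, (g 1 0).val, (g 1 1).val)

theorem tup_mul (g h : Matrix.SpecialLinearGroup (Fin 2) (ZMod 3)) : tup (g * h) = mulT 3 (tup g) (tup h) := by
  simp [tup, mulT, Matrix.mul_apply, Fin.sum_univ_two, ZMod.val_add, ZMod.val_mul]

theorem tup_mem (g : Matrix.SpecialLinearGroup (Fin 2) (ZMod 3)) : tup g ∈ table.map Prod.fst := by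
  refine mem_table _ _ _ _ ?_
  have h := g.det_coe
  rw [Matrix.det_fin_two, sub_eq_iff_eq_add] at h
  have h' := congrArg ZMod.val h
  rw [ZMod.val_mul, ZMod.val_add, ZMod.val_mul, ZMod.val_one, Nat.add_mod_mod] at h'
  exact h'

/-- The matrix action on a pair. -/
def app (t : ℕ × ℕ × ℕ × ℕ) (v : ZMod 5 × ZMod 5) : ZMod 5 × ZMod 5 :=
  ((t.1 : ZMod 5) * v.1 + (t.2.1 : ZMod 5) * v.2, (t.2.2.1 : ZMod 5) * v.1 + (t.2.2.2 : ZMod 5) * v.2)

/-- The group SL(2,3) of order 24 (the binary tetrahedral group) occurs as a Frobenius complement of some finite Frobenius group. -/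
theorem result :
    ∃ (L : Type) (_ : Group L) (_ : Finite L) (H : Subgroup L), Cfsg.IsFrobeniusComplement H ∧ Nonempty (H ≃* Matrix.SpecialLinearGroup (Fin 2) (ZMod 3)) := by
  letI : DistribMulAction (Matrix.SpecialLinearGroup (Fin 2) (ZMod 3)) (ZMod 5 × ZMod 5) :=
    { smul := fun g v => app (emb (tup g)) v
      one_smul := fun v => by
        change app (emb (tup 1)) v = v
        rw [show emb (tup 1) = (1, 0, 0, 1) by decide +kernel]
        simp [app]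
      mul_smul := fun g h v => by
        change app (emb (tup (g * h))) v = app (emb (tup g)) (app (emb (tup h)) v)
        rw [tup_mul, emb_mul _ (tup_mem g) _ (tup_mem h)]
        simp only [app, mulT, ZMod.natCast_mod, Nat.cast_add, Nat.cast_mul, Prod.ext_iff]
        constructor <;> ring
      smul_zero := fun g => by change app _ 0 = 0; simp [app]
      smul_add := fun g v w => by
        change app _ (v + w) = app _ v + app _ w
        simp only [app, Prod.fst_add, Prod.snd_add, Prod.mk_add_mk, Prod.ext_iff]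
        constructor <;> ring }
  haveI : Fact (Nat.Prime 5) := ⟨by norm_num⟩
  haveI : Nontrivial (Matrix.SpecialLinearGroup (Fin 2) (ZMod 3)) :=
    ⟨⟨1, -1, fun h => absurd (congrArg (fun g => g 0 0) h) (by decide)⟩⟩
  obtain ⟨L, i1, i2, H, h1, ⟨h2⟩, -⟩ :=
    CfsgLib.HallGen.exists_frobeniusComplement_of_fpf (Matrix.SpecialLinearGroup (Fin 2) (ZMod 3))
      (ZMod 5 × ZMod 5) (fun g hg v hv => by
        change app (emb (tup g)) v = v at hv
        have hne : tup g ≠ (1, 0, 0, 1) := by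
          intro h
          simp only [tup, Prod.ext_iff] at h
          obtain ⟨e1, e2, e3, e4⟩ := h
          apply hg
          ext i j
          fin_cases i <;> fin_cases j <;> apply ZMod.val_injective 3 <;> simp [e1, e2, e3, e4, ZMod.val_one]
        simp only [app, Prod.ext_iff] at hv
        have ha := congrArg ZMod.val hv.1
        have hb := congrArg ZMod.val hv.2
        simp only [ZMod.val_add, ZMod.val_mul, ZMod.val_natCast, Nat.mod_mul_mod, ← Nat.add_mod] at ha hb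
        have h0 := emb_fpf _ (tup_mem g) hne v.1 v.2 ha hb
        exact Prod.ext h0.1 h0.2)
  exact ⟨L, i1, i2, H, h1, ⟨h2.symm⟩⟩
end Cfsg.Agent.S4298
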