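import Cfsg.Statements.S4299
import Cfsg.Agent.Lib.HallGen.FrobeniusComplement

set_option autoImplicit false
open Cfsg

namespace Cfsg.Agent.S4299

/-- Every nontrivial finite cyclic group occurs as a Frobenius complement of some finite Frobenius group. -/
theorem result {C : Type*} [Group C] [Finite C] [IsCyclic C] [Nontrivial C] :
    ∃ (L : Type) (_ : Group L) (_ : Finite L) (H : Subgroup L), Cfsg.IsFrobeniusComplement H ∧ Nonempty (C ≃* H) := by
  classical
  obtain ⟨q, hq, hlt, hmod⟩ := Nat.exists_prime_gt_modEq_one (k := Nat.card C) 2 Nat.card_pos.ne'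
  haveI := Fact.mk hq
  have hdvd : Nat.card C ∣ q - 1 := (Nat.modEq_iff_dvd' hq.one_lt.le).1 hmod.symm
  obtain ⟨g, hg⟩ := IsCyclic.exists_generator (α := (ZMod q)ˣ)
  have hcard : orderOf g = q - 1 := by
    rw [orderOf_eq_card_of_forall_mem_zpowers hg, Nat.card_eq_fintype_card, ZMod.card_units]
  set ζ := g ^ ((q - 1) / Nat.card C) with hζ
  have hoζ : orderOf ζ = Nat.card C := by
    have hne : q - 1 ≠ 0 := by omega
    rw [hζ, ← hcard, orderOf_pow_orderOf_div (hcard ▸ hne) (hcard ▸ hdvd)]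
  obtain ⟨c, hc⟩ := IsCyclic.exists_generator (α := C)
  have hoc : orderOf c = Nat.card C := orderOf_eq_card_of_forall_mem_zpowers hc
  let φ : C →* (ZMod q)ˣ := monoidHomOfForallMemZpowers hc (g' := ζ) (by rw [hoζ, hoc])
  have hφ : Function.Injective φ := by
    rw [← MonoidHom.ker_eq_bot_iff, Subgroup.eq_bot_iff_forall]
    intro x hx
    obtain ⟨i, rfl⟩ := Subgroup.mem_zpowers_iff.1 (hc x)
    rw [MonoidHom.mem_ker, map_zpow, monoidHomOfForallMemZpowers_apply_gen,
      ← orderOf_dvd_iff_zpow_eq_one, hoζ, ← hoc, orderOf_dvd_iff_zpow_eq_one] at hx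
    exact hx
  letI : DistribMulAction C (ZMod q) :=
    DistribMulAction.compHom _ ((Units.coeHom (ZMod q)).comp φ)
  obtain ⟨L, i1, i2, H, h1, h2, -⟩ := CfsgLib.HallGen.exists_frobeniusComplement_of_fpf C (ZMod q)
    (fun a ha v hv => by
      change ((φ a : (ZMod q)ˣ) : ZMod q) * v = v at hv
      by_contra hv0
      rw [mul_left_eq_self₀] at hv
      exact ha (hφ (by rw [map_one]; exact Units.ext (hv.resolve_right hv0))))
  exact ⟨L, i1, i2, H, h1, h2⟩
end Cfsg.Agent.S4299
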