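import Cfsg.Statements.S4300
import Cfsg.Agent.Lib.HallGen.Counting

set_option autoImplicit false
open Cfsg
open scoped Pointwise

namespace Cfsg.Agent.S4300

/-- Let G act faithfully and primitively on a set X, and suppose the stabilizer of some point is a simple group. Then either G is simple, or G has a normal subgroup, neither trivial nor the whole group, that acts regularly on X (transitively with trivial point stabilizers). -/
theorem result {G : Type*} [Group G] {X : Type*} [MulAction G X] [FaithfulSMul G X]
    (hprim : MulAction.IsPreprimitive G X) (x : X) (hsimple : IsSimpleGroup (MulAction.stabilizer G x)) :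
    IsSimpleGroup G ∨ ∃ N : Subgroup G, N.Normal ∧ N ≠ ⊥ ∧ N ≠ ⊤ ∧
      MulAction.IsPretransitive N X ∧ ∀ y : X, MulAction.stabilizer N y = ⊥ := by
  haveI := hprim
  by_cases hG : IsSimpleGroup G
  · exact Or.inl hG
  right
  haveI : Nontrivial G := by
    haveI := hsimple
    exact Function.Injective.nontrivial (Subgroup.subtype_injective (MulAction.stabilizer G x))
  have hex : ∃ N : Subgroup G, N.Normal ∧ N ≠ ⊥ ∧ N ≠ ⊤ := by
    by_contra hno
    push Not at hno
    exact hG ⟨fun N hN => (em (N = ⊥)).imp_right (hno N hN)⟩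
  obtain ⟨N, hN, hbot, htop⟩ := hex
  haveI := hN
  have htr : MulAction.IsPretransitive N X := by
    refine MulAction.IsQuasiPreprimitive.isPretransitive_of_normal fun h => hbot ?_
    rw [Subgroup.eq_bot_iff_forall]
    intro n hn
    refine FaithfulSMul.eq_of_smul_eq_smul fun y : X => ?_
    rw [one_smul]
    exact MulAction.mem_fixedPoints.1 (h.symm ▸ Set.mem_univ y) ⟨n, hn⟩
  have hreg : ∀ n ∈ N, n • x = x → n = 1 := by
    haveI : (N.subgroupOf (MulAction.stabilizer G x)).Normal := inferInstance
    rcases hsimple.eq_bot_or_eq_top_of_normal _ this with h | h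
    · intro n hn hx
      have h1 : (⟨n, hx⟩ : MulAction.stabilizer G x) ∈ N.subgroupOf (MulAction.stabilizer G x) := hn
      rw [h, Subgroup.mem_bot] at h1
      exact congrArg Subtype.val h1
    · refine absurd (Subgroup.eq_top_iff' N |>.2 fun g => ?_) htop
      obtain ⟨n, hn⟩ := MulAction.exists_smul_eq N x (g • x)
      have h2 : (n : G)⁻¹ * g ∈ N := Subgroup.subgroupOf_eq_top.1 h
        (by rw [MulAction.mem_stabilizer_iff, mul_smul, ← hn]; exact inv_smul_smul (n : G) x)
      simpa using N.mul_mem n.2 h2
  refine ⟨N, hN, hbot, htop, htr, fun y => ?_⟩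
  rw [Subgroup.eq_bot_iff_forall]
  intro n hn
  obtain ⟨g, rfl⟩ := MulAction.exists_smul_eq G x y
  have h1 : g⁻¹ * (n : G) * g ∈ N := by simpa using hN.conj_mem _ n.2 g⁻¹
  have h2 : (g⁻¹ * (n : G) * g) • x = x := by
    rw [mul_smul, mul_smul, show (n : G) • g • x = g • x from hn, inv_smul_smul]
  have h3 := hreg _ h1 h2
  refine Subtype.ext ?_
  have : (n : G) = g * (g⁻¹ * (n : G) * g) * g⁻¹ := by group
  rw [this, h3]; simp
end Cfsg.Agent.S4300
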