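import Cfsg.Statements.S4301

set_option autoImplicit false
open Cfsg

set_option linter.all false

namespace Cfsg.Agent.S4301

/-- One-point extension of a multiply transitive group. Let X be a set and G a group of permutations of Option X (the set X with one extra point ∗ = none) all of whose elements fix ∗, such that G is k-transitive on the points of X for some k ≥ 2, X having at least k points. Suppose a permutation h of Option X and an element g of G satisfy: h interchanges ∗ with a point x of X and fixes a point y of X; g interchanges x and y; (g h)³ and h² lie in G; and for every f in G fixing x, the product h f h lies in G and fixes x. Then an element of the group generated by G and h fixes ∗ exactly when it lies in G, and that group acts (k+1)-transitively on Option X. -/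
theorem result {X : Type*} (G : Subgroup (Equiv.Perm (Option X))) (hfix : ∀ f ∈ G, f none = none)
    (k : ℕ) (hk : 2 ≤ k) (hkX : Nonempty (Fin k ↪ X))
    (htrans : ∀ a b : Fin k ↪ X, ∃ f ∈ G, ∀ i, f (some (a i)) = some (b i))
    (h g : Equiv.Perm (Option X)) (hg : g ∈ G) (x y : X)
    (h1 : h none = some x) (h2 : h (some x) = none) (h3 : h (some y) = some y)
    (h4 : g (some x) = some y) (h5 : g (some y) = some x)
    (h6 : (g * h) ^ 3 ∈ G) (h7 : h ^ 2 ∈ G)
    (h8 : ∀ f ∈ G, f (some x) = some x → h * f * h ∈ G ∧ (h * f * h) (some x) = some x) :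
    (∀ f ∈ Subgroup.closure ((G : Set (Equiv.Perm (Option X))) ∪ {h}), f none = none ↔ f ∈ G) ∧
      MulAction.IsMultiplyPretransitive (Subgroup.closure ((G : Set (Equiv.Perm (Option X))) ∪ {h})) (Option X) (k + 1) := by
  classical
  obtain ⟨e⟩ := hkX
  set i0 : Fin k := ⟨0, by omega⟩
  set i1 : Fin k := ⟨1, by omega⟩
  have hi : i0 ≠ i1 := by simp [i0, i1, Fin.ext_iff]
  have hsome : ∀ f ∈ G, ∀ u : X, ∃ v : X, f (some u) = some v := by
    intro f hf u
    cases hc : f (some u) with
    | none => exact absurd (f.injective (hc.trans (hfix f hf).symm)) (by simp)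
    | some v => exact ⟨v, rfl⟩
  have hemb : ∀ u v : X, u ≠ v → ∃ a : Fin k ↪ X, a i0 = u ∧ a i1 = v := by
    intro u v huv
    let σ1 := Equiv.swap (e i0) u
    let σ := Equiv.swap (σ1 (e i1)) v
    have hne : σ1 (e i1) ≠ u := by
      intro hh
      have := σ1.injective (hh.trans (Equiv.swap_apply_left (e i0) u).symm)
      exact hi (e.injective this.symm)
    refine ⟨e.trans (σ1.trans σ).toEmbedding, ?_, ?_⟩
    · show σ (σ1 (e i0)) = u
      rw [show σ1 (e i0) = u from Equiv.swap_apply_left _ _]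
      exact Equiv.swap_apply_of_ne_of_ne (Ne.symm hne) huv
    · show σ (σ1 (e i1)) = v
      exact Equiv.swap_apply_left _ _
  have htwo : ∀ u v u' v' : X, u ≠ v → u' ≠ v' → ∃ f ∈ G, f (some u) = some u' ∧ f (some v) = some v' := by
    intro u v u' v' huv huv'
    obtain ⟨a, ha0, ha1⟩ := hemb u v huv
    obtain ⟨b, hb0, hb1⟩ := hemb u' v' huv'
    obtain ⟨f, hf, hfab⟩ := htrans a b
    exact ⟨f, hf, by rw [← ha0, ← hb0, hfab], by rw [← ha1, ← hb1, hfab]⟩
  have hxy : x ≠ y := by
    rintro rfl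
    rw [h2] at h3
    exact absurd h3 (by simp)
  set U : Set (Equiv.Perm (Option X)) := {f | f ∈ G ∨ ∃ a ∈ G, ∃ b ∈ G, f = a * h * b} with hU
  have hmulU : ∀ a ∈ G, ∀ b ∈ G, ∀ f ∈ U, a * f * b ∈ U := by
    rintro a ha b hb f (hf | ⟨c, hc, d, hd, rfl⟩)
    · exact Or.inl (G.mul_mem (G.mul_mem ha hf) hb)
    · exact Or.inr ⟨a * c, G.mul_mem ha hc, d * b, G.mul_mem hd hb, by simp [mul_assoc]⟩
  have hh2 : (h ^ 2)⁻¹ ∈ G := G.inv_mem h7
  have hmid : ∀ f ∈ G, h * f * h ∈ U := by
    intro f hf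
    by_cases hfx : f (some x) = some x
    · exact Or.inl (h8 f hf hfx).1
    obtain ⟨v, hv⟩ := hsome f hf x
    have hvx : v ≠ x := fun hh => hfx (hh ▸ hv)
    obtain ⟨a, ha, hax, hay⟩ := htwo x y x v hxy (Ne.symm hvx)
    set b := g⁻¹ * a⁻¹ * f with hbdef
    have hb : b ∈ G := G.mul_mem (G.mul_mem (G.inv_mem hg) (G.inv_mem ha)) hf
    have hbx : b (some x) = some x := by
      show g⁻¹ (a⁻¹ (f (some x))) = some x
      simp only [Equiv.Perm.inv_def, hv, ← hay, Equiv.symm_apply_apply, ← h4]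
    have e1 : h * g * h ∈ U := by
      refine Or.inr ⟨g⁻¹ * (g * h) ^ 3 * (h ^ 2)⁻¹, G.mul_mem (G.mul_mem (G.inv_mem hg) h6) hh2, g⁻¹, G.inv_mem hg, ?_⟩
      rw [pow_succ, pow_succ, pow_one, sq]
      group
    have e2 : h * f * h = (h * a * h) * ((h ^ 2)⁻¹ * (h * g * h) * (h ^ 2)⁻¹) * (h * b * h) := by
      rw [hbdef, sq]; group
    rw [e2]
    exact hmulU _ (h8 a ha hax).1 _ (h8 b hb hbx).1 _ (hmulU _ hh2 _ hh2 _ e1)
  let K : Subgroup (Equiv.Perm (Option X)) :=
    { carrier := U
      one_mem' := Or.inl G.one_mem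
      mul_mem' := by
        rintro f f' hf (hf' | ⟨c, hc, d, hd, rfl⟩)
        · simpa using hmulU 1 G.one_mem f' hf' f hf
        · rcases hf with hf | ⟨a, ha, b, hb, rfl⟩
          · exact Or.inr ⟨f * c, G.mul_mem hf hc, d, hd, by simp [mul_assoc]⟩
          · have := hmulU a ha d hd _ (hmid (b * c) (G.mul_mem hb hc))
            simpa [mul_assoc] using this
      inv_mem' := by
        rintro f (hf | ⟨a, ha, b, hb, rfl⟩)
        · exact Or.inl (G.inv_mem hf)
        · refine Or.inr ⟨b⁻¹ * (h ^ 2)⁻¹, G.mul_mem (G.inv_mem hb) hh2, a⁻¹, G.inv_mem ha, ?_⟩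
          rw [sq]; group }
  set L := Subgroup.closure ((G : Set (Equiv.Perm (Option X))) ∪ {h}) with hL
  have hLK : L ≤ K := by
    rw [hL, Subgroup.closure_le]
    rintro f (hf | hf)
    · exact Or.inl hf
    · exact Or.inr ⟨1, G.one_mem, 1, G.one_mem, by simpa using hf⟩
  have hGL : ∀ f ∈ G, f ∈ L := fun f hf => Subgroup.subset_closure (Or.inl hf)
  have hhL : h ∈ L := Subgroup.subset_closure (Or.inr rfl)
  refine ⟨fun f hf => ⟨fun h0 => ?_, fun hfG => hfix f hfG⟩, ?_⟩
  · rcases hLK hf with hf' | ⟨a, ha, b, hb, rfl⟩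
    · exact hf'
    · exfalso
      obtain ⟨v, hv⟩ := hsome a ha x
      have : (a * h * b) none = some v := by
        show a (h (b none)) = some v
        rw [hfix b hb, h1, hv]
      rw [h0] at this
      exact absurd this (by simp)
  -- transitivity
  let t : Fin (k + 1) → Option X := Fin.cons none fun i => some (e i)
  have key : ∀ a : Fin (k + 1) ↪ Option X, ∃ f ∈ L, ∀ i, f (a i) = t i := by
    intro a
    obtain ⟨f0, hf0, h00⟩ : ∃ f ∈ L, f (a 0) = none := by
      cases hc : a 0 with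
      | none => exact ⟨1, L.one_mem, rfl⟩
      | some u =>
        rcases eq_or_ne u x with rfl | hux
        · exact ⟨h, hhL, h2⟩
        obtain ⟨f, hf, hfu, -⟩ := htwo u x x u hux (Ne.symm hux)
        exact ⟨h * f, L.mul_mem hhL (hGL f hf), by show h (f (some u)) = none; rw [hfu, h2]⟩
    have hs : ∀ i : Fin k, ∃ v, f0 (a i.succ) = some v := by
      intro i
      cases hc : f0 (a i.succ) with
      | none => exact absurd (a.injective (f0.injective (hc.trans h00.symm))) (Fin.succ_ne_zero i)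
      | some v => exact ⟨v, rfl⟩
    choose c hc using hs
    have hcinj : Function.Injective c := fun i j hij =>
      Fin.succ_injective _ (a.injective (f0.injective (by rw [hc, hc, hij])))
    obtain ⟨f1, hf1, hf1c⟩ := htrans ⟨c, hcinj⟩ e
    refine ⟨f1 * f0, L.mul_mem (hGL f1 hf1) hf0, fun i => ?_⟩
    show f1 (f0 (a i)) = t i
    refine Fin.cases ?_ (fun j => ?_) i
    · rw [h00, hfix f1 hf1]; rfl
    · rw [hc j]
      exact hf1c j
  refine ⟨fun a b => ?_⟩
  obtain ⟨fa, hfa, ha⟩ := key a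
  obtain ⟨fb, hfb, hb⟩ := key b
  refine ⟨⟨fb⁻¹ * fa, L.mul_mem (L.inv_mem hfb) hfa⟩, ?_⟩
  refine Function.Embedding.ext fun i => ?_
  show fb⁻¹ (fa (a i)) = b i
  rw [ha i, ← hb i, Equiv.Perm.inv_def, Equiv.symm_apply_apply]

end Cfsg.Agent.S4301
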