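import Cfsg.Statements.S4314
import Cfsg.Agent.Lib.ClassSizes.ClassGraphSplit
import Cfsg.Agent.S4134

set_option autoImplicit false
open Cfsg

set_option linter.all false

namespace Cfsg.Agent.S4314

open Subgroup CfsgLib.ClassSizes.GraphSplit

/-- Let `G` be a finite group every conjugacy class of which has size 1 or a prime. Then either `G` is nilpotent of class at most 2, or `G/Z(G)` is a non-abelian group of order `pq` for distinct primes `p, q` (a Frobenius group of order `pq`). -/
theorem result {G : Type*} [Group G] [Finite G]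
    (h : ∀ x : G, (Subgroup.centralizer ({x} : Set G)).index = 1 ∨ ((Subgroup.centralizer ({x} : Set G)).index).Prime) :
    Subgroup.upperCentralSeries G 2 = ⊤ ∨
      ∃ p q : ℕ, p.Prime ∧ q.Prime ∧ p ≠ q ∧ Nat.card (G ⧸ Subgroup.center G) = p * q ∧ ¬ IsMulCommutative (G ⧸ Subgroup.center G) := by
  classical
  have hnorm : (∀ x : G, (centralizer ({x} : Set G)).Normal) → Subgroup.upperCentralSeries G 2 = ⊤ := by
    intro hN
    have hcz : ∀ a b : G, a * b * a⁻¹ * b⁻¹ ∈ center G := by
      intro a b
      refine mem_center_iff.2 fun x => ?_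
      haveI := hN x
      refine (mem_centralizer_singleton_iff.1 ?_).symm
      rcases h x with h1 | h1
      · rw [index_eq_one.1 h1]; trivial
      · haveI : IsCyclic (G ⧸ centralizer ({x} : Set G)) := by
          haveI := Fact.mk h1
          exact isCyclic_of_prime_card (p := (centralizer ({x} : Set G)).index) (index_eq_card _).symm
        letI := IsCyclic.commGroup (α := G ⧸ centralizer ({x} : Set G))
        refine (QuotientGroup.eq_one_iff _).1 ?_
        show QuotientGroup.mk' (centralizer ({x} : Set G)) (a * b * a⁻¹ * b⁻¹) = 1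
        rw [map_mul, map_mul, map_mul, map_inv, map_inv, mul_comm (QuotientGroup.mk' _ a),
          mul_inv_cancel_right, mul_inv_cancel]
    rw [eq_top_iff]
    intro a _
    rw [Subgroup.mem_upperCentralSeries_succ_iff]
    intro b
    rw [Subgroup.upperCentralSeries_one]
    exact hcz a b
  by_cases htwo : ∃ x y : G, (centralizer ({x} : Set G)).index ≠ 1 ∧ (centralizer ({y} : Set G)).index ≠ 1 ∧
      (centralizer ({x} : Set G)).index ≠ (centralizer ({y} : Set G)).index
  · right
    obtain ⟨x, y, hx, hy, hxy⟩ := htwo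
    set p := (centralizer ({x} : Set G)).index with hpdef
    have hp : p.Prime := (h x).resolve_left hx
    have hd : ∀ z : G, PN ({p} : Set ℕ) (sz z) ∨ PN ({p} : Set ℕ)ᶜ (sz z) := by
      intro z
      rcases h z with hz | hz
      · exact Or.inl fun r hr hrd => absurd (Nat.dvd_one.1 (hrd.trans hz.dvd)) hr.ne_one
      · by_cases e : sz z = p
        · exact Or.inl fun r hr hrd => ((Nat.prime_dvd_prime_iff_eq hr hz).1 hrd).trans e
        · exact Or.inr fun r hr hrd hm => e (((Nat.prime_dvd_prime_iff_eq hr hz).1 hrd).symm.trans hm)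
    have hyn : PN ({p} : Set ℕ)ᶜ (sz y) := fun r hr hrd hm =>
      hxy ((Set.mem_singleton_iff.1 hm).symm.trans ((Nat.prime_dvd_prime_iff_eq hr ((h y).resolve_left hy)).1 hrd))
    obtain ⟨S, V, H, hsp⟩ := exists_split ({p} : Set ℕ) hd
      ⟨x, fun hz => hx (mem_center_of_sz.2 hz), fun r hr hrd => (Nat.prime_dvd_prime_iff_eq hr hp).1 hrd⟩
      ⟨y, fun hz => hy (mem_center_of_sz.2 hz), hyn⟩
    obtain ⟨hF, hK⟩ := frobenius hsp
    obtain ⟨hVn, -, -, hZH, hdis, hG, hV1, hHZ, -⟩ := id hsp
    obtain ⟨⟨v, hv⟩, hv1'⟩ := ne_bot_iff_exists_ne_one.1 hV1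
    have hv1 : v ≠ 1 := fun e => hv1' (Subtype.ext e)
    obtain ⟨b, hb, hbz⟩ : ∃ b ∈ H, b ∉ center G := by
      by_contra hc
      push Not at hc
      exact hHZ (le_antisymm hc hZH)
    have hvz : v ∉ center G := fun hz => hv1 (Subgroup.mem_bot.1 (hdis.le ⟨hv, hZH hz⟩))
    have ha : (Nat.card V).Prime := by
      rw [← index_right hsp, ← sz_right hsp hb hbz]
      exact (h b).resolve_left fun e => hbz (mem_center_of_sz.1 e)
    have hc : ((center G).relIndex H).Prime := by
      rw [← sz_left hsp hv hv1]
      exact (h v).resolve_left fun e => hvz (mem_center_of_sz.1 e)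
    refine ⟨Nat.card V, (center G).relIndex H, ha, hc, fun e => ?_, ?_, fun hcomm => ?_⟩
    · have := coprime_left_right hsp
      rw [← e, Nat.coprime_self] at this
      exact ha.ne_one this
    · rw [← index_eq_card, ← relIndex_mul_index hZH, index_right hsp, mul_comm]
    · refine hvz (mem_center_iff.2 fun g => ?_)
      have hbc : b * v * b⁻¹ * v⁻¹ ∈ center G := by
        refine (QuotientGroup.eq_one_iff _).1 ?_
        show QuotientGroup.mk' (center G) (b * v * b⁻¹ * v⁻¹) = 1
        rw [map_mul, map_mul, map_mul, map_inv, map_inv,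
          hcomm.is_comm.comm (QuotientGroup.mk' (center G) b), mul_inv_cancel_right, mul_inv_cancel]
      have h1 : b * v * b⁻¹ * v⁻¹ = 1 := Subgroup.mem_bot.1 (hdis.le (Subgroup.mem_inf.2
        ⟨V.mul_mem (hVn.conj_mem v hv b) (V.inv_mem hv), hZH hbc⟩))
      rw [mul_inv_eq_one, mul_inv_eq_iff_eq_mul] at h1
      exact absurd (split_commute hsp hv hb hbz h1.symm) hv1
  · left
    push Not at htwo
    by_cases hall : ∀ x : G, (centralizer ({x} : Set G)).index = 1
    · exact hnorm fun x => by rw [index_eq_one.1 (hall x)]; infer_instance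
    push Not at hall
    obtain ⟨x0, hx0⟩ := hall
    set n := (centralizer ({x0} : Set G)).index with hn
    have hnp : n.Prime := (h x0).resolve_left hx0
    obtain ⟨p, hpF, a, hna, hP⟩ := Cfsg.Agent.S4134.result n hnp.one_lt
      (fun x => or_iff_not_imp_left.2 fun hx => (htwo x x0 hx hx0)) ⟨x0, rfl⟩
    haveI := hpF
    obtain ⟨P⟩ : Nonempty (Sylow p G) := inferInstance
    obtain ⟨hPn, ⟨A, hAn, hAc, hAab, hAP⟩, -⟩ := hP P
    have hAz : A ≤ center G := by
      intro a ha
      refine mem_center_iff.2 fun g => ?_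
      obtain ⟨⟨c, u⟩, rfl⟩ := hAc.2 g
      show (c : G) * u * a = a * ((c : G) * u)
      rw [mul_assoc, ← hAP a ha u u.2, ← mul_assoc, show (c : G) * a = a * c from congrArg Subtype.val (hAab.is_comm.comm c ⟨a, ha⟩), mul_assoc]
    haveI := hAn
    refine hnorm fun x => ?_
    rcases h x with hx | hx
    · rw [index_eq_one.1 hx]; infer_instance
    have hAC : A ≤ centralizer ({x} : Set G) := fun a ha =>
      mem_centralizer_singleton_iff.2 (mem_center_iff.1 (hAz ha) x).symm
    have hle : (QuotientGroup.mk' A).ker ≤ centralizer ({x} : Set G) := by rw [QuotientGroup.ker_mk']; exact hAC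
    have hidx := Subgroup.index_map_eq (f := QuotientGroup.mk' A) _ (QuotientGroup.mk'_surjective A) hle
    rw [← comap_map_eq_self hle]
    have hN : ((centralizer ({x} : Set G)).map (QuotientGroup.mk' A)).Normal := by
      refine normal_of_index_eq_minFac_card ?_
      rw [hidx]
      obtain ⟨k, hk⟩ := IsPGroup.iff_card.1 P.2
      have hcard : Nat.card (G ⧸ A) = p ^ k := by
        rw [← index_eq_card, hAc.symm.index_eq_card, hk]
      rw [hcard]
      have hd : (centralizer ({x} : Set G)).index ∣ p ^ k := hcard ▸ (hidx ▸ index_dvd_card _)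
      have he : (centralizer ({x} : Set G)).index = p :=
        (Nat.prime_dvd_prime_iff_eq hx hpF.out).1 (hx.dvd_of_dvd_pow hd)
      have hk0 : k ≠ 0 := by
        rintro rfl
        rw [pow_zero, Nat.dvd_one] at hd
        exact hx.ne_one hd
      rw [he, hpF.out.pow_minFac hk0]
    exact hN.comap _

end Cfsg.Agent.S4314
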