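import Cfsg.Statements.S4316
import Cfsg.Agent.Lib.HallGen.CoprimeDerived.RankThree

set_option autoImplicit false
universe u
open Cfsg

namespace Cfsg.Agent.S4316

theorem transfer {A G : Type u} [Group A] [Finite A] [Group G] [Finite G] [MulDistribMulAction A G] {q m : ℕ}
    (hq : q.Prime) (hA : Nat.card A = q ^ 3) (hab : ∀ a b : A, a * b = b * a) (hexp : ∀ a : A, a ^ q = 1)
    (hG : ¬ q ∣ Nat.card G)
    (h : ∀ a : A, a ≠ 1 → Nat.card ↥(commutator ↥(FixedPoints.subgroup (Subgroup.zpowers a) G)) ≤ m) :
    Nat.card ↥(commutator G) ≤ (CfsgLib.HallGen.CoprimeDerived.bound q m + 1) ^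
      (m.factorial * CfsgLib.HallGen.CoprimeDerived.bound q m) := by
  let φ : A →* MulAut G := MulDistribMulAction.toMulAut A G
  haveI : Finite (G ⋊[φ] A) := Finite.of_equiv _ (SemidirectProduct.equivProd (φ := φ)).symm
  let il : G →* G ⋊[φ] A := SemidirectProduct.inl
  let ir : A →* G ⋊[φ] A := SemidirectProduct.inr
  have hil : Function.Injective il := SemidirectProduct.inl_injective
  have hir : Function.Injective ir := SemidirectProduct.inr_injective
  haveI : IsMulCommutative ir.range := IsMulCommutative.of_comm fun x y => by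
    obtain ⟨_, a, rfl⟩ := x
    obtain ⟨_, b, rfl⟩ := y
    exact Subtype.ext (show ir a * ir b = ir b * ir a by rw [← map_mul, ← map_mul, hab])
  have hconj : ∀ (a : A) (g : G), ir a * il g * (ir a)⁻¹ = il (a • g) := fun a g =>
    by
      rw [← map_inv]
      exact (SemidirectProduct.inl_aut (φ := φ) a g).symm
  have hnorm : ir.range ≤ Subgroup.normalizer (il.range : Set (G ⋊[φ] A)) := by
    rintro _ ⟨a, rfl⟩
    rw [Subgroup.mem_normalizer_iff]
    refine fun y => ⟨?_, ?_⟩
    · rintro ⟨g, rfl⟩
      exact ⟨a • g, (hconj a g).symm⟩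
    · rintro ⟨g, hg⟩
      refine ⟨a⁻¹ • g, ?_⟩
      rw [← hconj, hg, map_inv]
      group
  have h1 : Nat.card ↥(⁅il.range, il.range⁆) = Nat.card ↥(commutator G) := by
    rw [MonoidHom.range_eq_map, ← Subgroup.map_commutator, Subgroup.card_map_of_injective hil, commutator_def]
  rw [← h1]
  refine CfsgLib.HallGen.CoprimeDerived.card_commutator_le hq ir.range il.range ?_ ?_ hnorm ?_ ?_
  · rw [MonoidHom.range_eq_map, Subgroup.card_map_of_injective hir, Subgroup.card_top, hA]
  · rintro _ ⟨a, rfl⟩
    rw [← map_pow, hexp, map_one]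
  · rw [MonoidHom.range_eq_map, Subgroup.card_map_of_injective hil, Subgroup.card_top]
    exact hG
  · rintro _ ⟨a, rfl⟩ ha
    have hfix : il.range ⊓ Subgroup.centralizer {ir a} = (FixedPoints.subgroup (Subgroup.zpowers a) G).map il := by
      ext y
      constructor
      · rintro ⟨⟨g, rfl⟩, hy⟩
        refine ⟨g, ?_, rfl⟩
        have h2 : a • g = g := hil (by
          rw [← hconj, ← (Subgroup.mem_centralizer_singleton_iff.1 hy), mul_inv_cancel_right])
        intro z
        obtain ⟨z, hz⟩ := z
        have h3 : a ∈ MulAction.stabilizer A g := h2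
        exact (Subgroup.zpowers_le.2 h3 hz : z • g = g)
      · rintro ⟨g, hg, rfl⟩
        refine ⟨⟨g, rfl⟩, Subgroup.mem_centralizer_singleton_iff.2 ?_⟩
        have h2 : a • g = g := hg ⟨a, Subgroup.mem_zpowers a⟩
        have h3 := hconj a g
        rw [h2, mul_inv_eq_iff_eq_mul] at h3
        exact h3.symm
    rw [hfix, ← Subgroup.map_commutator, Subgroup.card_map_of_injective hil]
    refine le_of_eq_of_le ?_ (h a fun e => ha (by rw [e, map_one]))
    rw [← Subgroup.map_subtype_commutator, Subgroup.card_map_of_injective (Subgroup.subtype_injective _)]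


/-- There is a function `f` of two natural-number arguments with the following property. Let `q` be a prime and `A` an elementary abelian group of order `q³` acting by automorphisms on a finite group `G` of order prime to `q`, and suppose that for every non-identity `a ∈ A` the derived subgroup of the fixed-point subgroup `C_G(a)` has order at most `m`. Then the derived subgroup of `G` has order at most `f(q, m)`. -/
theorem result :
    ∃ f : ℕ → ℕ → ℕ, ∀ (q m : ℕ) (A G : Type u) [Group A] [Finite A] [Group G] [Finite G] [MulDistribMulAction A G],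
      q.Prime → Nat.card A = q ^ 3 → (∀ a b : A, a * b = b * a) → (∀ a : A, a ^ q = 1) → ¬ q ∣ Nat.card G →
      (∀ a : A, a ≠ 1 → Nat.card ↥(commutator ↥(FixedPoints.subgroup (Subgroup.zpowers a) G)) ≤ m) →
      Nat.card ↥(commutator G) ≤ f q m := by
  exact ⟨fun q m => (CfsgLib.HallGen.CoprimeDerived.bound q m + 1) ^
    (m.factorial * CfsgLib.HallGen.CoprimeDerived.bound q m), fun q m A G _ _ _ _ _ hq hA hab hexp hG h =>
    transfer hq hA hab hexp hG h⟩
end Cfsg.Agent.S4316
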