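import Cfsg.Statements.S4321
import Cfsg.Agent.Lib.ClassSizes.ClassGraphSplit
import Cfsg.Agent.Lib.Core.SchurZassenhaus
import Cfsg.Agent.S4035

set_option autoImplicit false
open Cfsg

set_option linter.all false

namespace Cfsg.Agent.S4321

open Subgroup CfsgLib.ClassSizes.GraphSplit
open scoped commutatorElement Pointwise

universe u

variable {G : Type u} [Group G] [Finite G]

/-- Two primes divide the class size of a common `p`-singular element. -/
def AdjP (G : Type u) [Group G] (p t v : ℕ) : Prop := ∃ x : G, p ∣ orderOf x ∧ t * v ∣ sz x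

/-- Two numbers have equal or adjacent prime divisors. -/
def Close (G : Type u) [Group G] (p a b : ℕ) : Prop :=
  ∃ t v : ℕ, t.Prime ∧ v.Prime ∧ t ∣ a ∧ v ∣ b ∧ (t = v ∨ AdjP G p t v)

theorem close_symm {p a b : ℕ} (h : Close G p a b) : Close G p b a := by
  obtain ⟨t, v, ht, hv, h1, h2, h3⟩ := h
  exact ⟨v, t, hv, ht, h2, h1, h3.imp Eq.symm fun ⟨x, hx, hd⟩ => ⟨x, hx, by rwa [mul_comm]⟩⟩

theorem stab {x x' : G} (hcop : (sz x).Coprime (sz x')) (hsz : sz (x * x') = sz x') :
    ∃ N : Subgroup G, Nat.card N ∣ sz x' ∧ N ≤ centralizer ({x} : Set G) ∧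
      (∀ g : G, x⁻¹ * (g * x * g⁻¹) ∈ N) ∧
      ∀ n ∈ N, ∀ k : G, ∃ k' : G, n * (k * x' * k⁻¹) = k' * x' * k'⁻¹ := by
  classical
  set Y := (ConjClasses.mk x').carrier with hYdef
  have hYmem : ∀ w : G, w ∈ Y ↔ ∃ k : G, k * x' * k⁻¹ = w := by
    intro w
    rw [hYdef, ConjClasses.mem_carrier_iff_mk_eq, ConjClasses.mk_eq_mk_iff_isConj]
    exact ⟨fun h => isConj_iff.1 h.symm, fun h => (isConj_iff.2 h).symm⟩
  set C := (ConjClasses.mk (x * x')).carrier with hC
  have hC' : C.ncard ≤ Y.ncard := by rw [hC, hYdef, card_carrier, card_carrier, hsz]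
  have himg : ∀ g : G, (fun w => g * x * g⁻¹ * w) '' Y = C := by
    intro g
    refine Set.eq_of_subset_of_ncard_le ?_
      (by rw [Set.ncard_image_of_injective _ (mul_right_injective _)]; exact hC') (Set.toFinite _)
    rintro _ ⟨w, hw, rfl⟩
    obtain ⟨k, rfl⟩ := (hYmem w).1 hw
    obtain ⟨e, e1, e2⟩ := exists_conj_mul hcop g k
    rw [hC, ConjClasses.mem_carrier_iff_mk_eq, ConjClasses.mk_eq_mk_iff_isConj]
    show IsConj (g * x * g⁻¹ * (k * x' * k⁻¹)) (x * x')
    rw [← e1, ← e2]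
    exact isConj_iff.2 ⟨e⁻¹, by group⟩
  let gen : Set G := {n | ∃ g k : G, n = (k * x * k⁻¹)⁻¹ * (g * x * g⁻¹)}
  set N := closure gen with hNdef
  haveI hNn : N.Normal := by
    refine ⟨fun n hn c => ?_⟩
    induction hn using closure_induction with
    | mem n hn => obtain ⟨g, k, rfl⟩ := hn; exact subset_closure ⟨c * g, c * k, by group⟩
    | one => simpa using one_mem N
    | mul a b _ _ ha hb => rw [show c * (a * b) * c⁻¹ = c * a * c⁻¹ * (c * b * c⁻¹) by group]; exact mul_mem ha hb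
    | inv a _ ha => rw [show c * a⁻¹ * c⁻¹ = (c * a * c⁻¹)⁻¹ by group]; exact inv_mem ha
  have hNY : ∀ n ∈ N, ∀ w ∈ Y, n * w ∈ Y := by
    intro n hn
    induction hn using closure_induction with
    | mem n hn =>
      obtain ⟨g, k, rfl⟩ := hn
      intro w hw
      have h1 : g * x * g⁻¹ * w ∈ (fun w => k * x * k⁻¹ * w) '' Y := by
        rw [himg k, ← himg g]; exact ⟨w, hw, rfl⟩
      obtain ⟨w', hw', he⟩ := h1
      rw [mul_assoc, ← he, inv_mul_cancel_left]
      exact hw'
    | one => intro w hw; rwa [one_mul]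
    | mul a b _ _ ha hb => intro w hw; rw [mul_assoc]; exact ha _ (hb w hw)
    | inv a _ ha =>
      intro w hw
      have he : (fun v => a * v) '' Y = Y := Set.eq_of_subset_of_ncard_le
        (by rintro _ ⟨v, hv, rfl⟩; exact ha v hv)
        (Set.ncard_image_of_injective _ (mul_right_injective a)).ge (Set.toFinite _)
      obtain ⟨v, hv, hva⟩ := he.ge hw
      rw [← hva, inv_mul_cancel_left]
      exact hv
  have hcard : Nat.card N ∣ sz x' := by
    rw [← card_carrier x', ← hYdef, ← Nat.card_coe_set_eq]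
    have he : (QuotientGroup.mk (s := N)) ⁻¹' ((QuotientGroup.mk (s := N)) '' Y) = Y := by
      refine Set.Subset.antisymm ?_ (Set.subset_preimage_image _ _)
      rintro w ⟨v, hv, hvw⟩
      have hn : v⁻¹ * w ∈ N := QuotientGroup.eq.1 hvw
      have := hNY _ (hNn.conj_mem _ hn v) v hv
      simpa [mul_assoc] using this
    rw [← he, Nat.card_congr (QuotientGroup.preimageMkEquivSubgroupProdSet N _), Nat.card_prod]
    exact dvd_mul_right _ _
  refine ⟨N, hcard, ?_, fun g => subset_closure ⟨g, 1, by group⟩, fun n hn k => ?_⟩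
  · rw [← relIndex_eq_one]
    exact Nat.dvd_one.1 (hcop ▸ Nat.dvd_gcd
      (CfsgLib.ClassSizes.relIndex_dvd_index_of_normal_right N (centralizer ({x} : Set G)))
      ((relIndex_dvd_card _ _).trans hcard))
  · obtain ⟨k', hk'⟩ := (hYmem _).1 (hNY n hn _ ((hYmem _).2 ⟨k, rfl⟩))
    exact ⟨k', hk'.symm⟩

theorem core_close {p : ℕ} [hp : Fact p.Prime] (hZ : ¬ p ∣ Nat.card ↥(center G)) {y z : G}
    (hy : orderOf y = p) (hz : orderOf z = p) (hzp : ¬ p ∣ sz z) : Close G p (sz y) (sz z) := by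
  classical
  by_contra hcl
  have hcz : ∀ n : G, n ∈ center G → n ^ p = 1 → n = 1 := fun n hn hnp => by
    by_contra h1
    exact hZ ((orderOf_eq_prime hnp h1) ▸ Subgroup.orderOf_dvd_natCard _ hn)
  have hnc : ∀ x : G, orderOf x = p → sz x ≠ 1 := fun x hx h1 => hZ (hx ▸
    Subgroup.orderOf_dvd_natCard _ (mem_center_of_sz.1 h1))
  have hcop : (sz y).Coprime (sz z) := Nat.coprime_of_dvd fun t ht h1 h2 =>
    hcl ⟨t, t, ht, ht, h1, h2, Or.inl rfl⟩
  have mix : ∀ x : G, p ∣ orderOf x → ∀ t v : ℕ, t.Prime → v.Prime → t ∣ sz y → v ∣ sz z →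
      t ∣ sz x → v ∣ sz x → False := by
    intro x hx t v ht hv hty hvz htx hvx
    by_cases e : t = v
    · exact hcl ⟨t, v, ht, hv, hty, hvz, Or.inl e⟩
    · exact hcl ⟨t, v, ht, hv, hty, hvz, Or.inr ⟨x, hx,
        ((Nat.coprime_primes ht hv).2 e).mul_dvd_of_dvd_of_dvd htx hvx⟩⟩
  obtain ⟨q, hq, hqz⟩ := Nat.exists_prime_and_dvd (hnc z hz)
  have hsyl : ∀ x : G, ¬ p ∣ sz x → ∃ P : Sylow p G, (P : Subgroup G) ≤ centralizer ({x} : Set G) := by
    intro x hx
    obtain ⟨R⟩ : Nonempty (Sylow p G) := inferInstance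
    obtain ⟨t, c, hc, hxc⟩ := Cfsg.Agent.S4160.cover_of_coprime R hx
    refine ⟨t.out • R, ?_⟩
    rintro _ ⟨a, ha, rfl⟩
    refine mem_centralizer_singleton_iff.2 ?_
    show t.out * a * t.out⁻¹ * x = x * (t.out * a * t.out⁻¹)
    rw [hxc]
    calc t.out * a * t.out⁻¹ * (t.out * c * t.out⁻¹) = t.out * (a * c) * t.out⁻¹ := by group
      _ = t.out * (c * a) * t.out⁻¹ := by rw [mem_centralizer_iff.1 hc a ha]
      _ = _ := by group
  have hmemP : ∀ (x : G) (P : Sylow p G), (∃ k, x ^ p ^ k = 1) → (P : Subgroup G) ≤ centralizer ({x} : Set G) →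
      x ∈ (P : Subgroup G) := by
    intro x P ⟨k, hk⟩ hle
    obtain ⟨i, -, hi⟩ := (Nat.dvd_prime_pow hp.out).1 (orderOf_dvd_of_pow_eq_one hk)
    have hx : IsPGroup p (zpowers x) := IsPGroup.of_card (n := i) (by rw [Nat.card_zpowers, hi])
    have hn : zpowers x ≤ normalizer ((P : Subgroup G) : Set G) := by
      rw [zpowers_le]
      refine centralizer_le_normalizer _ (mem_centralizer_iff.2 fun a ha => ?_)
      exact mem_centralizer_singleton_iff.1 (hle ha)
    exact (P.is_maximal' (P.isPGroup'.to_sup_of_normal_left' hx hn) le_sup_left).le (mem_sup_right (mem_zpowers _))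
  have hcommute : ∀ x z' : G, (∃ k, x ^ p ^ k = 1) → orderOf z' = p → ¬ p ∣ sz z' →
      (sz x).Coprime (sz z') → Commute x z' := by
    intro x z' ⟨k, hk⟩ hz' hz'p hco
    obtain ⟨P, hP⟩ := hsyl z' hz'p
    obtain ⟨i, -, hi⟩ := (Nat.dvd_prime_pow hp.out).1 (orderOf_dvd_of_pow_eq_one hk)
    obtain ⟨P', hP'⟩ := (IsPGroup.of_card (n := i) (by rw [Nat.card_zpowers, hi]) : IsPGroup p (zpowers x)).exists_le_sylow
    obtain ⟨g, hg⟩ := MulAction.exists_smul_eq G P' P
    have hx : g * x * g⁻¹ ∈ (P : Subgroup G) := by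
      rw [← hg, Sylow.coe_subgroup_smul]; exact ⟨x, hP' (mem_zpowers x), rfl⟩
    have hc : Commute (g * x * g⁻¹) z' := mem_centralizer_singleton_iff.1 (hP hx)
    obtain ⟨e, e1, e2⟩ := exists_conj_mul hco g 1
    rw [one_mul, inv_one, mul_one] at e2
    rw [← e1, ← e2] at hc
    exact (Commute.conj_iff e).1 hc
  have hyz : Commute y z := hcommute y z ⟨1, by rw [pow_one, ← hy, pow_orderOf_eq_one]⟩ hz hzp hcop
  have hzp1 : z ^ p = 1 := hz ▸ pow_orderOf_eq_one z
  have hyp1 : y ^ p = 1 := hy ▸ pow_orderOf_eq_one y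
  set w := y * z with hwdef
  have hwne : w ≠ 1 := by
    intro e
    have he : z = y⁻¹ := eq_inv_of_mul_eq_one_right e
    have : sz z = sz y := by
      rw [he, sz, sz]; congr 1; ext c
      rw [mem_centralizer_singleton_iff, mem_centralizer_singleton_iff]
      exact (Commute.inv_right_iff : Commute c y⁻¹ ↔ Commute c y)
    rw [this, Nat.coprime_self] at hcop
    exact hnc y hy hcop
  have hwo : orderOf w = p := orderOf_eq_prime (by rw [hwdef, hyz.mul_pow, hyp1, hzp1, one_mul]) hwne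
  have hwab : sz w ∣ sz y * sz z := by
    have h1 : (centralizer ({y} : Set G) ⊓ centralizer ({z} : Set G)).index = sz y * sz z :=
      le_antisymm index_inf_le (Nat.le_of_dvd (Nat.pos_of_ne_zero index_ne_zero_of_finite)
        (hcop.mul_dvd_of_dvd_of_dvd (index_dvd_of_le inf_le_left) (index_dvd_of_le inf_le_right)))
    rw [← h1]
    refine index_dvd_of_le fun c hc => mem_centralizer_singleton_iff.2 ?_
    exact (Commute.mul_right (mem_centralizer_singleton_iff.1 hc.1 : Commute c y)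
      (mem_centralizer_singleton_iff.1 hc.2 : Commute c z)).eq
  have hge : sz y ≤ sz w ∧ sz z ≤ sz w := by
    have hmem : ∀ g k : G, g * y * g⁻¹ * (k * z * k⁻¹) ∈ (ConjClasses.mk w).carrier := by
      intro g k
      obtain ⟨e, e1, e2⟩ := exists_conj_mul hcop g k
      rw [ConjClasses.mem_carrier_iff_mk_eq, ConjClasses.mk_eq_mk_iff_isConj, ← e1, ← e2]
      exact isConj_iff.2 ⟨e⁻¹, by rw [hwdef]; group⟩
    constructor
    · rw [← card_carrier y, ← card_carrier w]
      refine Set.ncard_le_ncard_of_injOn (fun a => a * z) (fun a ha => ?_) ((mul_left_injective z).injOn) (Set.toFinite _)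
      rw [ConjClasses.mem_carrier_iff_mk_eq, ConjClasses.mk_eq_mk_iff_isConj] at ha
      obtain ⟨g, rfl⟩ := isConj_iff.1 ha.symm
      simpa using hmem g 1
    · rw [← card_carrier z, ← card_carrier w]
      refine Set.ncard_le_ncard_of_injOn (fun a => y * a) (fun a ha => ?_) ((mul_right_injective y).injOn) (Set.toFinite _)
      rw [ConjClasses.mem_carrier_iff_mk_eq, ConjClasses.mk_eq_mk_iff_isConj] at ha
      obtain ⟨g, rfl⟩ := isConj_iff.1 ha.symm
      simpa using hmem 1 g
  have hwa : sz w = sz y ∨ sz w = sz z := by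
    by_cases h1 : (sz w).Coprime (sz z)
    · exact Or.inl (le_antisymm (Nat.le_of_dvd (Nat.pos_of_ne_zero index_ne_zero_of_finite)
        (h1.dvd_of_dvd_mul_right hwab)) hge.1)
    · obtain ⟨v, hv, hvw, hvz⟩ := Nat.Prime.not_coprime_iff_dvd.1 h1
      refine Or.inr (le_antisymm (Nat.le_of_dvd (Nat.pos_of_ne_zero index_ne_zero_of_finite)
        (Nat.Coprime.dvd_of_dvd_mul_left ?_ hwab)) hge.2)
      exact Nat.coprime_of_dvd fun t ht htw hty => mix w (hwo ▸ dvd_rfl) t v ht hv hty hvz htw hvw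
  rcases hwa with hwy | hwz
  swap
  · -- `y` would be central
    obtain ⟨N, hNc, hNC, hNg, -⟩ := stab hcop hwz
    refine hnc y hy (mem_center_of_sz.2 (mem_center_iff.2 fun g => ?_))
    set n := y⁻¹ * (g * y * g⁻¹) with hn
    have hyn : Commute y n := (mem_centralizer_singleton_iff.1 (hNC (hNg g))).symm
    have hnp : n ^ p = 1 := by
      have h1 : (y * n) ^ p = 1 := by rw [hn, mul_inv_cancel_left, conj_pow, hyp1, mul_one, mul_inv_cancel]
      rwa [hyn.mul_pow, hyp1, one_mul] at h1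
    by_cases h1 : n = 1
    · rw [hn, inv_mul_eq_one, eq_mul_inv_iff_mul_eq] at h1; exact h1.symm
    · exact absurd ((orderOf_eq_prime hnp h1) ▸ (Subgroup.orderOf_dvd_natCard N (hNg g)).trans hNc) hzp
  -- the main case
  obtain ⟨N, hNc, hNC, hNg, hNy⟩ := stab (x := z) (x' := y) hcop.symm (by rw [← hyz.eq, ← hwdef]; exact hwy)
  have hnexp : ∀ g : G, (z⁻¹ * (g * z * g⁻¹)) ^ p = 1 := by
    intro g
    set n := z⁻¹ * (g * z * g⁻¹) with hn
    have hzn : Commute z n := (mem_centralizer_singleton_iff.1 (hNC (hNg g))).symm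
    have h1 : (z * n) ^ p = 1 := by rw [hn, mul_inv_cancel_left, conj_pow, hzp1, mul_one, mul_inv_cancel]
    rwa [hzn.mul_pow, hzp1, one_mul] at h1
  obtain ⟨g₀, hg₀⟩ : ∃ g : G, z⁻¹ * (g * z * g⁻¹) ≠ 1 := by
    by_contra hcon
    push Not at hcon
    refine hnc z hz (mem_center_of_sz.2 (mem_center_iff.2 fun g => ?_))
    have := hcon g
    rw [inv_mul_eq_one, eq_mul_inv_iff_mul_eq] at this
    exact this.symm
  have hpy : p ∣ sz y := (orderOf_eq_prime (hnexp g₀) hg₀) ▸ (Subgroup.orderOf_dvd_natCard N (hNg g₀)).trans hNc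
  -- the abelian normal subgroup generated by the conjugates of `z`
  set Z : Set G := {a | ∃ g : G, g * z * g⁻¹ = a} with hZdef
  have hZz : ∀ g : G, Commute z (g * z * g⁻¹) := fun g => by
    have h1 : Commute z (z⁻¹ * (g * z * g⁻¹)) := (mem_centralizer_singleton_iff.1 (hNC (hNg g))).symm
    have := (Commute.refl z).mul_right h1
    rwa [mul_inv_cancel_left] at this
  have hZc : ∀ g k : G, Commute (g * z * g⁻¹) (k * z * k⁻¹) := fun g k => by
    have := (Commute.conj_iff g).2 (hZz (g⁻¹ * k))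
    rwa [show g * ((g⁻¹ * k) * z * (g⁻¹ * k)⁻¹) * g⁻¹ = k * z * k⁻¹ by group] at this
  set V := closure Z with hVdef
  have hZV : ∀ g : G, g * z * g⁻¹ ∈ V := fun g => subset_closure ⟨g, rfl⟩
  have hzV : z ∈ V := by simpa using hZV 1
  haveI hVn : V.Normal := by
    refine ⟨fun n hn c => ?_⟩
    induction hn using closure_induction with
    | mem n hn => obtain ⟨g, rfl⟩ := hn; exact subset_closure ⟨c * g, by group⟩
    | one => simpa using one_mem V
    | mul a b _ _ ha hb => rw [show c * (a * b) * c⁻¹ = c * a * c⁻¹ * (c * b * c⁻¹) by group]; exact mul_mem ha hb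
    | inv a _ ha => rw [show c * a⁻¹ * c⁻¹ = (c * a * c⁻¹)⁻¹ by group]; exact inv_mem ha
  have hVc : ∀ a ∈ V, ∀ b ∈ V, a * b = b * a := by
    have h1 : ∀ g : G, ∀ b ∈ V, Commute (g * z * g⁻¹) b := by
      intro g b hb
      induction hb using closure_induction with
      | mem b hb => obtain ⟨k, rfl⟩ := hb; exact hZc g k
      | one => exact Commute.one_right _
      | mul b c _ _ hb hc => exact hb.mul_right hc
      | inv b _ hb => exact hb.inv_right
    intro a ha b hb
    induction ha using closure_induction with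
    | mem a ha => obtain ⟨g, rfl⟩ := ha; exact h1 g b hb
    | one => rw [one_mul, mul_one]
    | mul a c _ _ ha hc => exact (Commute.mul_left ha hc : Commute (a * c) b)
    | inv a _ ha => exact (Commute.inv_left (ha : Commute a b) : Commute a⁻¹ b)
  have hVexp : ∀ a ∈ V, a ^ p = 1 := by
    intro a ha
    induction ha using closure_induction with
    | mem a ha => obtain ⟨g, rfl⟩ := ha; rw [conj_pow, hzp1, mul_one, mul_inv_cancel]
    | one => exact one_pow p
    | mul a c haV hcV ha hc => rw [Commute.mul_pow (hVc a haV c hcV), ha, hc, one_mul]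
    | inv a _ ha => rw [inv_pow, ha, inv_one]
  have hVp : IsPGroup p V := fun a => ⟨1, by rw [pow_one]; exact Subtype.ext (hVexp a a.2)⟩
  have hVS : ∀ P : Sylow p G, V ≤ (P : Subgroup G) := fun P =>
    le_sup_right.trans (P.is_maximal' (P.isPGroup'.to_sup_of_normal_right hVp) le_sup_left).le
  set R := centralizer (V : Set G) with hRdef
  haveI hRn : R.Normal := Subgroup.normal_centralizer
  have hRz : R ≤ centralizer ({z} : Set G) := fun c hc =>
    mem_centralizer_singleton_iff.2 (mem_centralizer_iff.1 hc z hzV).symm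
  -- elements of `p`-power order centralise `V`
  have hpR : ∀ x : G, (∃ k, x ^ p ^ k = 1) → x ∈ R := by
    intro x hx
    by_cases hpx : p ∣ sz x
    · have hco : (sz x).Coprime (sz z) := Nat.coprime_of_dvd fun t ht h1 h2 => by
        have hx1 : x ≠ 1 := fun e => hp.out.ne_one (Nat.dvd_one.1 (mem_center_of_sz.2 (e ▸ one_mem (center G)) ▸ hpx))
        obtain ⟨k, hk⟩ := hx
        obtain ⟨i, -, hi⟩ := (Nat.dvd_prime_pow hp.out).1 (orderOf_dvd_of_pow_eq_one hk)
        refine mix x (hi ▸ dvd_pow_self p ?_) p t hp.out ht hpy h2 hpx h1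
        rintro rfl
        rw [pow_zero] at hi
        exact hx1 (orderOf_eq_one_iff.1 hi)
      have hgen : ∀ g : G, Commute x (g * z * g⁻¹) := fun g => hcommute x _ hx
        (by rw [← hz, ← MulAut.conj_apply, MulEquiv.orderOf_eq]) (by rw [sz_conj]; exact hzp) (by rw [sz_conj]; exact hco)
      refine mem_centralizer_iff.2 fun a ha => ?_
      induction ha using closure_induction with
      | mem a ha => obtain ⟨g, rfl⟩ := ha; exact (hgen g).symm.eq
      | one => rw [one_mul, mul_one]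
      | mul a c _ _ ha hc => exact (Commute.mul_left ha hc : Commute (a * c) x)
      | inv a _ ha => exact (Commute.inv_left (ha : Commute a x) : Commute a⁻¹ x)
    · obtain ⟨P, hP⟩ := hsyl x hpx
      exact mem_centralizer_iff.2 fun a ha => mem_centralizer_singleton_iff.1 (hP (hVS P ha))
  -- `p`-regular elements commuting with `z`
  have hreg : ∀ v : G, (orderOf v).Coprime p → Commute v z → ¬ p ∣ sz v ∧ v ∈ R := by
    intro v hv hvz
    have hnd : ¬ p ∣ sz v := fun hpv => by
      have hco : (orderOf z).Coprime (orderOf v) := by rw [hz]; exact hv.symm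
      have h1 : centralizer ({z * v} : Set G) ≤ centralizer ({z} : Set G) ⊓ centralizer ({v} : Set G) := by
        intro c hc
        have hc' : Commute c (z * v) := mem_centralizer_singleton_iff.1 hc
        have key : ∀ a b : G, Commute a b → (orderOf a).Coprime (orderOf b) → Commute c (a * b) → Commute c a := by
          intro a b hab hco hcab
          obtain ⟨i, hi⟩ := exists_pow_eq_self_of_coprime (x := a) (n := orderOf b) hco.symm
          have e : a = ((a * b) ^ orderOf b) ^ i := by rw [hab.mul_pow, pow_orderOf_eq_one, mul_one, hi]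
          rw [e]
          exact (hcab.pow_right _).pow_right i
        exact Subgroup.mem_inf.2 ⟨mem_centralizer_singleton_iff.2 (key z v hvz.symm hco hc').eq,
          mem_centralizer_singleton_iff.2 (key v z hvz hco.symm (by rwa [hvz.eq])).eq⟩
      refine mix (z * v) ?_ p q hp.out hq hpy hqz (hpv.trans (index_dvd_of_le (h1.trans inf_le_right)))
        (hqz.trans (index_dvd_of_le (h1.trans inf_le_left)))
      rw [hvz.symm.orderOf_mul_eq_mul_orderOf_of_coprime hco, hz]
      exact dvd_mul_right p _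
    obtain ⟨P, hP⟩ := hsyl v hnd
    exact ⟨hnd, mem_centralizer_iff.2 fun a ha => mem_centralizer_singleton_iff.1 (hP (hVS P ha))⟩
  have hCzR : centralizer ({z} : Set G) = R := by
    refine le_antisymm (fun g hg => ?_) hRz
    have hgz : Commute g z := mem_centralizer_singleton_iff.1 hg
    set m := orderOf g / p ^ (orderOf g).factorization p with hm
    have hmp : ¬ p ∣ m := Nat.not_dvd_ordCompl hp.out (orderOf_pos g).ne'
    have hmo : p ^ (orderOf g).factorization p * m = orderOf g := Nat.ordProj_mul_ordCompl_eq_self _ p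
    have hu : g ^ m ∈ R := hpR _ ⟨(orderOf g).factorization p, by rw [← pow_mul, mul_comm, hmo, pow_orderOf_eq_one]⟩
    have hv : g ^ p ^ (orderOf g).factorization p ∈ R := by
      refine (hreg _ ?_ (hgz.pow_left _)).2
      refine (((hp.out.coprime_iff_not_dvd).2 hmp).symm).coprime_dvd_left (orderOf_dvd_of_pow_eq_one ?_)
      rw [← pow_mul, hmo, pow_orderOf_eq_one]
    have hb := Int.gcd_eq_gcd_ab (p ^ (orderOf g).factorization p : ℕ) m
    rw [show Int.gcd (p ^ (orderOf g).factorization p : ℕ) m = 1 by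
      rw [Int.gcd_natCast_natCast]; exact Nat.Coprime.pow_left _ ((hp.out.coprime_iff_not_dvd).2 hmp), Nat.cast_one] at hb
    rw [← zpow_one g, hb, zpow_add, zpow_mul, zpow_mul, zpow_natCast, zpow_natCast]
    exact mul_mem (zpow_mem hv _) (zpow_mem hu _)
  -- structure of `R`
  obtain ⟨S⟩ : Nonempty (Sylow p G) := inferInstance
  have hSR : (S : Subgroup G) ≤ R := fun x hx => by
    obtain ⟨k, hk⟩ := S.isPGroup' ⟨x, hx⟩
    exact hpR x ⟨k, congrArg Subtype.val hk⟩
  obtain ⟨hSRn, T, hTn, hTp, hST, hSTtop⟩ := Cfsg.Agent.S4035.result (G := R) (p := p) (fun x hx hd => by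
    rw [card_carrier] at hd
    refine (hreg (x : G) (by rwa [Subgroup.orderOf_coe])
      (mem_centralizer_singleton_iff.1 (hRz x.2))).1 (hd.trans ?_)
    have he : centralizer ({x} : Set R) = (centralizer ({(x : G)} : Set G)).subgroupOf R := by
      ext c
      rw [mem_subgroupOf, mem_centralizer_singleton_iff, mem_centralizer_singleton_iff, Subtype.ext_iff, coe_mul, coe_mul]
    rw [sz, he]
    exact CfsgLib.ClassSizes.relIndex_dvd_index_of_normal_right R _) (S.subtype hSR)
  haveI hSn : (S : Subgroup G).Normal := by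
    haveI := hSRn
    haveI : ((S.subtype hSR : Sylow p R) : Subgroup R).Characteristic := Sylow.characteristic_of_normal _ inferInstance
    have e : ((S.subtype hSR : Sylow p R) : Subgroup R).map R.subtype = (S : Subgroup G) :=
      map_subgroupOf_eq_of_le hSR
    exact e ▸ ConjAct.normal_of_characteristic_of_normal
  have hTS : ∀ t ∈ T, ∀ s ∈ (S : Subgroup G), (t : G) * s = s * t := by
    intro t ht s hs
    haveI := hSRn
    exact congrArg Subtype.val (Subgroup.commute_of_normal_of_disjoint T ((S.subtype hSR : Sylow p R) : Subgroup R)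
      hTn hSRn (disjoint_iff.2 (by rw [inf_comm]; exact hST)) t ⟨s, hSR hs⟩ ht hs).eq
  have hRdec : ∀ r ∈ R, ∃ s ∈ (S : Subgroup G), ∃ t ∈ T, r = s * (t : G) := by
    intro r hr
    haveI := hTn
    obtain ⟨s, hs, t, ht, e⟩ := Subgroup.mem_sup_of_normal_right.1 (hSTtop.ge (mem_top (⟨r, hr⟩ : R)))
    exact ⟨s, hs, t, ht, (congrArg Subtype.val e).symm⟩
  -- a complement
  obtain ⟨H, hH⟩ := Subgroup.exists_right_complement'_of_coprime (N := (S : Subgroup G)) S.card_coprime_index
  have hcover : ∀ x ∈ (S : Subgroup G), (∀ s ∈ (S : Subgroup G), Commute s x) ∨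
      ∃ m ∈ (S : Subgroup G), m * x * m⁻¹ ∈ centralizer (H : Set G) := by
    intro x hx
    obtain ⟨k, hk⟩ := S.isPGroup' ⟨x, hx⟩
    by_cases hpx : p ∣ sz x
    swap
    · obtain ⟨P, hP⟩ := hsyl x hpx
      haveI := Sylow.unique_of_normal S hSn
      left
      intro s hs
      have hsP : s ∈ (P : Subgroup G) := by rwa [Subsingleton.elim P S]
      exact mem_centralizer_singleton_iff.1 (hP hsP)
    right
    have hx1 : x ≠ 1 := fun e => hp.out.ne_one (Nat.dvd_one.1 (mem_center_of_sz.2 (e ▸ one_mem (center G)) ▸ hpx))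
    have hco : (sz x).Coprime (sz z) := Nat.coprime_of_dvd fun t ht h1 h2 => by
      obtain ⟨i, -, hi⟩ := (Nat.dvd_prime_pow hp.out).1 (orderOf_dvd_of_pow_eq_one (congrArg Subtype.val hk : x ^ p ^ k = 1))
      refine mix x (hi ▸ dvd_pow_self p ?_) p t hp.out ht hpy h2 hpx h1
      rintro rfl
      rw [pow_zero] at hi
      exact hx1 (orderOf_eq_one_iff.1 hi)
    set C := centralizer ({x} : Set G) with hC
    have hCS : C.map (QuotientGroup.mk' (S : Subgroup G)) = ⊤ := by
      rw [eq_top_iff]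
      intro g _
      obtain ⟨g, rfl⟩ := QuotientGroup.mk'_surjective _ g
      obtain ⟨c, hc, r, hr, rfl⟩ := exists_mul_of_coprime hco g
      obtain ⟨s, hs, t, ht, rfl⟩ := hRdec r (hCzR.le hr)
      refine ⟨c * t, mul_mem hc (mem_centralizer_singleton_iff.2 (hTS t ht x hx)), ?_⟩
      rw [map_mul, map_mul, map_mul, show QuotientGroup.mk' (S : Subgroup G) s = 1 from (QuotientGroup.eq_one_iff s).2 hs,
        one_mul]
    have hidx : ((S : Subgroup G).subgroupOf C).index = (S : Subgroup G).index := by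
      have h1 := relIndex_ker (f := QuotientGroup.mk' (S : Subgroup G)) (K := C)
      rw [QuotientGroup.ker_mk'] at h1
      rw [← relIndex, h1, hCS, Nat.card_congr Subgroup.topEquiv.toEquiv, index_eq_card]
    obtain ⟨H1, hH1⟩ := Subgroup.exists_right_complement'_of_coprime (N := (S : Subgroup G).subgroupOf C) (by
      rw [hidx, Nat.card_congr (equivMapOfInjective ((S : Subgroup G).subgroupOf C) _ C.subtype_injective).toEquiv]
      exact S.card_coprime_index.coprime_dvd_left (card_dvd_of_le (by rw [subgroupOf_map_subtype]; exact inf_le_left)))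
    have hH1c : Nat.card (H1.map C.subtype) = Nat.card H := by
      rw [card_map_of_injective C.subtype_injective, ← hH1.symm.index_eq_card, hidx, hH.symm.index_eq_card]
    have hSH1 : H1.map C.subtype ⊔ (S : Subgroup G) = ⊤ := by
      rw [eq_top_iff]
      intro g _
      obtain ⟨c, hc, he⟩ := hCS.ge (mem_top (QuotientGroup.mk' (S : Subgroup G) g))
      obtain ⟨⟨a, b⟩, hab⟩ := hH1.2 ⟨c, hc⟩
      have hcs : c⁻¹ * g ∈ (S : Subgroup G) := QuotientGroup.eq.1 he
      have hcmem : c ∈ H1.map C.subtype ⊔ (S : Subgroup G) := by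
        rw [show c = ((a : C) : G) * ((b : C) : G) from (congrArg Subtype.val hab).symm]
        exact mul_mem (mem_sup_right a.2) (mem_sup_left ⟨b, b.2, rfl⟩)
      rw [show g = c * (c⁻¹ * g) by group]
      exact mul_mem hcmem (mem_sup_right hcs)
    obtain ⟨m, hm, hconj⟩ := CfsgLib.Core.exists_conj_eq_of_coprime (N := (S : Subgroup G)) (H := H1.map C.subtype) (K := H)
      (by rw [normalizer_eq_top_iff.2 hSn]; exact le_top) (by rw [hSH1]; exact le_top) hH1c.symm
      (by rw [hH1c, ← hH.symm.index_eq_card]; exact S.card_coprime_index.symm)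
      (Or.inl (haveI := S.isPGroup'.isNilpotent; inferInstance))
    refine ⟨m, hm, mem_centralizer_iff.2 fun h hh => ?_⟩
    rw [← hconj] at hh
    obtain ⟨_, ⟨⟨c, hc⟩, hcH, rfl⟩, rfl⟩ := hh
    show m * c * m⁻¹ * (m * x * m⁻¹) = m * x * m⁻¹ * (m * c * m⁻¹)
    calc m * c * m⁻¹ * (m * x * m⁻¹) = m * (c * x) * m⁻¹ := by group
      _ = m * (x * c) * m⁻¹ := by rw [mem_centralizer_singleton_iff.1 hc]
      _ = _ := by group
  set X : Subgroup ↥(S : Subgroup G) :=
    (centralizer (H : Set G)).subgroupOf (S : Subgroup G) ⊔ center ↥(S : Subgroup G) with hX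
  have hXtop : X = ⊤ := by
    refine eq_top_of_conj_cover X fun x => ?_
    rcases hcover x x.2 with hc | ⟨m, hm, hmc⟩
    · exact ⟨1, by simpa using mem_sup_right (mem_center_iff.2 fun s => Subtype.ext (hc s s.2).eq)⟩
    · refine ⟨⟨m, hm⟩⁻¹, mem_sup_left ?_⟩
      rw [mem_subgroupOf]
      simpa using hmc
  have hdecS : ∀ s ∈ (S : Subgroup G), ∃ c ∈ centralizer (H : Set G), c ∈ (S : Subgroup G) ∧ ∃ e : G, s = c * e ∧
      ∀ a ∈ (S : Subgroup G), Commute a e := by
    intro s hs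
    obtain ⟨c, hc, e, he, hce⟩ := Subgroup.mem_sup_of_normal_right.1 (hXtop.ge (mem_top (⟨s, hs⟩ : ↥(S : Subgroup G))))
    exact ⟨c, hc, c.2, e, (congrArg Subtype.val hce).symm, fun a ha =>
      (congrArg Subtype.val (mem_center_iff.1 he ⟨a, ha⟩) :)⟩
  -- the contradiction
  set n := z⁻¹ * (g₀ * z * g₀⁻¹) with hn
  have hnV : n ∈ V := mul_mem (inv_mem hzV) (hZV g₀)
  obtain ⟨k, hk⟩ := hNy n (hNg g₀) 1
  rw [one_mul, inv_one, mul_one] at hk
  obtain ⟨r, hr, e, he, rfl⟩ := exists_mul_of_coprime hcop.symm k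
  obtain ⟨s, hs, t, ht, rfl⟩ := hRdec r (hCzR.le hr)
  have hyS : y ∈ (S : Subgroup G) := by
    obtain ⟨P, hP⟩ := (IsPGroup.of_card (n := 1) (by rw [Nat.card_zpowers, hy, pow_one]) : IsPGroup p (zpowers y)).exists_le_sylow
    haveI := Sylow.unique_of_normal S hSn
    rw [Subsingleton.elim P S] at hP
    exact hP (mem_zpowers y)
  have hn1 : n = s * y * s⁻¹ * y⁻¹ := by
    rw [eq_mul_inv_iff_mul_eq, hk]
    calc s * (t : G) * e * y * (s * (t : G) * e)⁻¹ = s * (t : G) * (e * y) * e⁻¹ * (t : G)⁻¹ * s⁻¹ := by group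
      _ = s * (t : G) * (y * e) * e⁻¹ * (t : G)⁻¹ * s⁻¹ := by rw [mem_centralizer_singleton_iff.1 he]
      _ = s * ((t : G) * y) * (t : G)⁻¹ * s⁻¹ := by group
      _ = s * (y * t) * (t : G)⁻¹ * s⁻¹ := by rw [hTS t ht y hyS]
      _ = _ := by group
  obtain ⟨c1, hc1, hc1S, e1, rfl, he1⟩ := hdecS s hs
  obtain ⟨c2, hc2, hc2S, e2, he2', he2⟩ := hdecS y hyS
  have hn2 : n = c1 * c2 * c1⁻¹ * c2⁻¹ := by
    rw [hn1]
    calc c1 * e1 * y * (c1 * e1)⁻¹ * y⁻¹ = c1 * (e1 * y) * e1⁻¹ * c1⁻¹ * y⁻¹ := by group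
      _ = c1 * (y * e1) * e1⁻¹ * c1⁻¹ * y⁻¹ := by rw [(he1 y hyS).symm.eq]
      _ = c1 * y * c1⁻¹ * y⁻¹ := by group
      _ = c1 * c2 * (e2 * c1⁻¹) * e2⁻¹ * c2⁻¹ := by rw [he2']; group
      _ = c1 * c2 * (c1⁻¹ * e2) * e2⁻¹ * c2⁻¹ := by rw [(he2 _ (inv_mem hc1S)).symm.eq]
      _ = _ := by group
  refine hg₀ (hcz n (mem_center_iff.2 fun g => ?_) (hnexp g₀))
  obtain ⟨⟨a, b⟩, rfl⟩ := hH.2 g
  have ha : Commute (a : G) n := (mem_centralizer_iff.1 (hSR a.2) n hnV).symm
  have hb : Commute (b : G) n := by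
    have h1 : n ∈ centralizer (H : Set G) := hn2 ▸ mul_mem (mul_mem (mul_mem hc1 hc2) (inv_mem hc1)) (inv_mem hc2)
    exact mem_centralizer_iff.1 h1 b b.2
  exact (ha.mul_left hb).eq

/-- Let `G` be a finite group and `p` a prime not dividing the order of the centre of `G`. Consider the primes dividing the size of some conjugacy class of a `p`-singular element (an element of order divisible by `p`), two of them adjacent when their product divides such a class size. Then any two distinct such primes are joined by a path with at most 3 edges (the graph is connected of diameter at most 3). -/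
theorem result {G : Type*} [Group G] [Finite G] (p : ℕ) [Fact p.Prime]
    (hZ : ¬ p ∣ Nat.card ↥(Subgroup.center G)) (r s : ℕ) (hr : (r.Prime ∧ ∃ x : G, p ∣ orderOf x ∧ r ∣ (Subgroup.centralizer ({x} : Set G)).index)) (hs : (s.Prime ∧ ∃ x : G, p ∣ orderOf x ∧ s ∣ (Subgroup.centralizer ({x} : Set G)).index)) (hrs : r ≠ s) :
    (∃ x : G, p ∣ orderOf x ∧ r * s ∣ (Subgroup.centralizer ({x} : Set G)).index) ∨ (∃ t : ℕ, (t.Prime ∧ ∃ x : G, p ∣ orderOf x ∧ t ∣ (Subgroup.centralizer ({x} : Set G)).index) ∧ t ≠ r ∧ t ≠ s ∧ (∃ x : G, p ∣ orderOf x ∧ r * t ∣ (Subgroup.centralizer ({x} : Set G)).index) ∧ (∃ x : G, p ∣ orderOf x ∧ t * s ∣ (Subgroup.centralizer ({x} : Set G)).index)) ∨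
      (∃ t u : ℕ, (t.Prime ∧ ∃ x : G, p ∣ orderOf x ∧ t ∣ (Subgroup.centralizer ({x} : Set G)).index) ∧ (u.Prime ∧ ∃ x : G, p ∣ orderOf x ∧ u ∣ (Subgroup.centralizer ({x} : Set G)).index) ∧ t ≠ r ∧ u ≠ s ∧ t ≠ u ∧ (∃ x : G, p ∣ orderOf x ∧ r * t ∣ (Subgroup.centralizer ({x} : Set G)).index) ∧ (∃ x : G, p ∣ orderOf x ∧ t * u ∣ (Subgroup.centralizer ({x} : Set G)).index) ∧ (∃ x : G, p ∣ orderOf x ∧ u * s ∣ (Subgroup.centralizer ({x} : Set G)).index)) := by
  classical
  have hp := (Fact.out : p.Prime)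
  have hpow : ∀ x : G, p ∣ orderOf x → ∃ z : G, orderOf z = p ∧ sz z ∣ sz x := by
    intro x hx
    refine ⟨x ^ (orderOf x / p), ?_, ?_⟩
    · rw [orderOf_pow_of_dvd (Nat.div_pos (Nat.le_of_dvd (orderOf_pos x) hx) hp.pos).ne' (Nat.div_dvd_of_dvd hx),
        Nat.div_div_self hx (orderOf_pos x).ne']
    · exact sz_dvd_of_centralizer_le fun c hc => mem_centralizer_singleton_iff.2
        ((Commute.pow_right (mem_centralizer_singleton_iff.1 hc : Commute c x) _).eq)
  have hclose : ∀ z1 z2 : G, orderOf z1 = p → orderOf z2 = p → Close G p (sz z1) (sz z2) := by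
    intro z1 z2 h1 h2
    by_cases e2 : p ∣ sz z2
    · by_cases e1 : p ∣ sz z1
      · exact ⟨p, p, hp, hp, e1, e2, Or.inl rfl⟩
      · exact close_symm (core_close hZ h2 h1 e1)
    · exact core_close hZ h1 h2 e2
  obtain ⟨x1, hx1, hrx⟩ := hr.2
  obtain ⟨x2, hx2, hsx⟩ := hs.2
  obtain ⟨z1, hz1, hd1⟩ := hpow x1 hx1
  obtain ⟨z2, hz2, hd2⟩ := hpow x2 hx2
  obtain ⟨t, u, ht, hu, ht1, hu2, htu⟩ := hclose z1 z2 hz1 hz2
  have h1 : t = r ∨ AdjP G p r t := by
    by_cases e : t = r
    · exact Or.inl e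
    · exact Or.inr ⟨x1, hx1, ((Nat.coprime_primes hr.1 ht).2 (Ne.symm e)).mul_dvd_of_dvd_of_dvd hrx (ht1.trans hd1)⟩
  have h3 : s = u ∨ AdjP G p u s := by
    by_cases e : s = u
    · exact Or.inl e
    · exact Or.inr ⟨x2, hx2, ((Nat.coprime_primes hu hs.1).2 (Ne.symm e)).mul_dvd_of_dvd_of_dvd (hu2.trans hd2) hsx⟩
  have h2 : u = t ∨ AdjP G p t u := htu.imp_left Eq.symm
  by_cases hrs' : AdjP G p r s
  · exact Or.inl hrs'
  by_cases hone : ∃ t : ℕ, t.Prime ∧ t ≠ r ∧ t ≠ s ∧ AdjP G p r t ∧ AdjP G p t s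
  · obtain ⟨t, ht, htr, hts, ⟨x, hx, hd⟩, h⟩ := hone
    exact Or.inr (Or.inl ⟨t, ⟨ht, x, hx, (dvd_mul_left t r).trans hd⟩, htr, hts, ⟨x, hx, hd⟩, h⟩)
  push Not at hone
  have hshort : ∀ t : ℕ, t.Prime → (t = r ∨ AdjP G p r t) → (s = t ∨ AdjP G p t s) → False := by
    intro t ht a b
    rcases eq_or_ne t r with rfl | hne
    · exact b.elim (fun e => hrs e.symm) hrs'
    rcases eq_or_ne t s with rfl | hne'
    · exact a.elim hne hrs'
    exact hone t ht hne hne' (a.resolve_left hne) (b.resolve_left (Ne.symm hne'))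
  have hut : u ≠ t := fun e => hshort t ht h1 (e ▸ h3)
  have htr : t ≠ r := fun e => hshort u hu (e ▸ h2) h3
  have hus : u ≠ s := fun e => hshort t ht h1 (h2.imp (fun e' => (e'.symm.trans e).symm) fun h => e ▸ h)
  obtain ⟨x, hx, hd⟩ := h1.resolve_left htr
  obtain ⟨x', hx', hd'⟩ := h2.resolve_left hut
  exact Or.inr (Or.inr ⟨t, u, ⟨ht, x, hx, (dvd_mul_left t r).trans hd⟩, ⟨hu, x', hx', (dvd_mul_left u t).trans hd'⟩,
    htr, hus, Ne.symm hut, ⟨x, hx, hd⟩, ⟨x', hx', hd'⟩, h3.resolve_left (Ne.symm hus)⟩)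

end Cfsg.Agent.S4321
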