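import Cfsg.Statements.S4323
import Cfsg.Agent.Lib.AbelianCent.Solvable
import Mathlib.GroupTheory.SemidirectProduct

set_option autoImplicit false
open Cfsg

namespace Cfsg.Agent.S4323

/-- Let `q` be a prime and `A` a non-cyclic group of order `q²` acting by automorphisms on a finite group `G` of order prime to `q`, such that the fixed-point subgroup `C_G(a)` is abelian for every non-identity `a ∈ A`. Then `G` is solvable. -/
theorem result {A G : Type*} [Group A] [Finite A]
    [Group G] [Finite G] [MulDistribMulAction A G] (q : ℕ) (hq : q.Prime) (hA : Nat.card A = q ^ 2) (hnc : ¬ IsCyclic A)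
    (hcop : ¬ q ∣ Nat.card G) (h : ∀ a : A, a ≠ 1 → IsMulCommutative ↥(FixedPoints.subgroup (Subgroup.zpowers a) G)) :
    Group.IsSolvable G := by
  haveI := Fact.mk hq
  have hexp : ∀ a : A, a ^ q = 1 := by
    intro a
    obtain ⟨i, hi, hc⟩ := (Nat.dvd_prime_pow hq).mp (hA ▸ orderOf_dvd_natCard a)
    rcases Nat.lt_or_ge i 2 with h1 | h2
    · exact orderOf_dvd_iff_pow_eq_one.mp (hc ▸ (pow_dvd_pow q (show i ≤ 1 by omega)).trans (pow_one q).dvd)
    · exact absurd (isCyclic_of_orderOf_eq_card a (by rw [hc, hA, le_antisymm hi h2])) hnc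
  have hcomm : ∀ a b : A, a * b = b * a := (IsPGroup.isMulCommutative_of_card_eq_prime_sq hA).is_comm.comm
  let φ : A →* MulAut G := MulDistribMulAction.toMulAut A G
  haveI : Finite (G ⋊[φ] A) := Finite.of_equiv _ SemidirectProduct.equivProd.symm
  let Gs : Subgroup (G ⋊[φ] A) := (SemidirectProduct.inl : G →* G ⋊[φ] A).range
  let As : Subgroup (G ⋊[φ] A) := (SemidirectProduct.inr : A →* G ⋊[φ] A).range
  have hGs : Nat.card Gs = Nat.card G :=
    (Nat.card_congr (MonoidHom.ofInjective (f := (SemidirectProduct.inl : G →* G ⋊[φ] A))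
      SemidirectProduct.inl_injective).toEquiv).symm
  have hAs : Nat.card As = q ^ 2 :=
    (Nat.card_congr (MonoidHom.ofInjective (f := (SemidirectProduct.inr : A →* G ⋊[φ] A))
      SemidirectProduct.inr_injective).toEquiv).symm.trans hA
  have hconj : ∀ (a : A) (g : G), (SemidirectProduct.inr a : G ⋊[φ] A) * SemidirectProduct.inl g *
      (SemidirectProduct.inr a)⁻¹ = SemidirectProduct.inl (a • g) := fun a g => by
    rw [← map_inv]
    exact (SemidirectProduct.inl_aut a g).symm
  have hsol : Group.IsSolvable Gs := by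
    refine CfsgLib.AbelianCent.isSolvable_of_abelian_centralizers (A := As) hq hAs ?_ ⟨⟨?_⟩⟩ ?_ (hGs ▸ hcop) ?_
    · rintro _ ⟨a, rfl⟩
      rw [← map_pow, hexp a, map_one]
    · rintro ⟨_, a, rfl⟩ ⟨_, b, rfl⟩
      apply Subtype.ext
      show (SemidirectProduct.inr a : G ⋊[φ] A) * SemidirectProduct.inr b = SemidirectProduct.inr b * SemidirectProduct.inr a
      rw [← map_mul, ← map_mul, hcomm]
    · rw [Subgroup.le_normalizer_iff]
      rintro _ ⟨a, rfl⟩ _ ⟨g, rfl⟩
      exact ⟨a • g, (hconj a g).symm⟩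
    · rintro _ ⟨a, rfl⟩ ha _ ⟨x, rfl⟩ _ ⟨y, rfl⟩ hx hy
      have ha1 : a ≠ 1 := fun e => ha (by rw [e, map_one])
      have hfix : ∀ g : G, (SemidirectProduct.inl g : G ⋊[φ] A) * SemidirectProduct.inr a =
          SemidirectProduct.inr a * SemidirectProduct.inl g → g ∈ FixedPoints.subgroup (Subgroup.zpowers a) G := by
        intro g hg m
        have h1 : a • g = g := by
          refine SemidirectProduct.inl_injective (φ := φ) ?_
          rw [← hconj, ← hg, mul_inv_cancel_right]
        have h2 : Subgroup.zpowers a ≤ MulAction.stabilizer A g := Subgroup.zpowers_le.mpr h1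
        exact h2 m.2
      rw [← map_mul, ← map_mul]
      exact congrArg _ (congrArg Subtype.val ((h a ha1).is_comm.comm ⟨x, hfix x hx⟩ ⟨y, hfix y hy⟩))
  haveI := hsol
  exact Group.isSolvable_of_isSolvable_injective
    (f := (MonoidHom.ofInjective (f := (SemidirectProduct.inl : G →* G ⋊[φ] A))
      SemidirectProduct.inl_injective).toMonoidHom) (MulEquiv.injective _)

end Cfsg.Agent.S4323
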