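import Cfsg.Statements.S4325
import Cfsg.Agent.Lib.Char.Burnside

set_option autoImplicit false
open Cfsg
open scoped Pointwise

namespace Cfsg.Agent.S4325

/-- Merging the values of an invariant function along transpositions. -/
theorem exists_invariant {r : ℕ} : ∀ (m : ℕ) (t : Fin m → Equiv.Perm (Fin r)), (∀ i, (t i).IsSwap) →
    ∃ f : Fin r → Fin r, (∀ i x, f (t i x) = f x) ∧ r ≤ (Finset.univ.image f).card + m := by
  intro m
  induction m with
  | zero => exact fun t _ => ⟨id, fun i => i.elim0, by simp⟩
  | succ m ih =>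
    intro t ht
    obtain ⟨f, hf, hc⟩ := ih (fun i => t i.castSucc) (fun i => ht _)
    obtain ⟨a, b, -, hab⟩ := ht (Fin.last m)
    let g : Fin r → Fin r := fun x => if f x = f b then f a else f x
    refine ⟨g, fun i x => ?_, ?_⟩
    · refine i.lastCases ?_ (fun j => ?_)
      · rw [hab]
        rcases eq_or_ne x a with rfl | hxa
        · simp [g]
        rcases eq_or_ne x b with rfl | hxb
        · simp [g]
        rw [Equiv.swap_apply_of_ne_of_ne hxa hxb]
      · simp only [g, hf j x]
    · have hsub : (Finset.univ.image f).erase (f b) ⊆ Finset.univ.image g := by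
        intro y hy
        obtain ⟨hy1, hy2⟩ := Finset.mem_erase.1 hy
        obtain ⟨x, -, rfl⟩ := Finset.mem_image.1 hy2
        exact Finset.mem_image.2 ⟨x, Finset.mem_univ _, by simp [g, hy1]⟩
      have h1 := Finset.card_le_card hsub
      have h2 := Finset.pred_card_le_card_erase (s := Finset.univ.image f) (a := f b)
      omega

/-- A nontrivial normal subgroup of the symmetric group is transitive. -/
theorem normal_transitive {α : Type*} [DecidableEq α] (N : Subgroup (Equiv.Perm α)) [N.Normal] (hN : N ≠ ⊥)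
    (x y : α) : ∃ g ∈ N, g x = y := by
  rcases eq_or_ne x y with rfl | hxy
  · exact ⟨1, N.one_mem, rfl⟩
  obtain ⟨⟨g, hg⟩, hg1⟩ := N.ne_bot_iff_exists_ne_one.1 hN
  obtain ⟨a, ha⟩ : ∃ a, g a ≠ a := by
    by_contra h
    push Not at h
    exact hg1 (Subtype.ext (Equiv.ext h))
  let s1 := Equiv.swap a x
  have hb : s1 (g a) ≠ x := by
    intro h
    exact ha (s1.injective (h.trans (Equiv.swap_apply_left a x).symm))
  let s2 := Equiv.swap (s1 (g a)) y
  refine ⟨(s2 * s1) * g * (s2 * s1)⁻¹, Subgroup.Normal.conj_mem inferInstance g hg _, ?_⟩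
  have hc : (s2 * s1) a = x := by
    simp only [Equiv.Perm.mul_apply, s1, Equiv.swap_apply_left]
    exact Equiv.swap_apply_of_ne_of_ne hb.symm hxy
  rw [← hc]
  simp [s2]

/-- Let r be a prime and m a natural number with m + 1 < r, and let π be a set of primes containing every prime below r but not r itself. Then in the symmetric group of degree r any m transpositions generate a π-subgroup, while O_π of the symmetric group is trivial. (So no bound on the number of conjugates that works for all π exists in the π-radical analogue of the Baer–Suzuki Theorem.) -/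
theorem result (r m : ℕ) (hr : r.Prime)
    (hm : m + 1 < r) (π : Set ℕ) (hπ : ∀ q : ℕ, q.Prime → q < r → q ∈ π) (hrπ : r ∉ π)
    (t : Fin m → Equiv.Perm (Fin r)) (ht : ∀ i, (t i).IsSwap) :
    Cfsg.IsPiSubgroup π (Subgroup.closure (Set.range t)) ∧ Cfsg.piCore π (Equiv.Perm (Fin r)) = ⊥ := by
  haveI := Fact.mk hr
  have hnd : ¬ r ∣ Nat.card (Subgroup.closure (Set.range t)) := by
    intro hd
    obtain ⟨⟨g, hg⟩, hog⟩ := exists_prime_orderOf_dvd_card' r hd
    rw [Subgroup.orderOf_mk] at hog
    obtain ⟨f, hf, hc⟩ := exists_invariant m t ht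
    have hinv : ∀ w ∈ Subgroup.closure (Set.range t), ∀ x, f (w x) = f x := by
      intro w hw
      induction hw using Subgroup.closure_induction with
      | mem w hw => obtain ⟨i, rfl⟩ := hw; exact hf i
      | one => simp
      | mul u v _ _ hu hv => intro x; rw [Equiv.Perm.mul_apply, hu, hv]
      | inv u _ hu => intro x; rw [← hu (u⁻¹ x)]; simp
    have hcyc : g.IsCycle := Equiv.Perm.isCycle_of_prime_order' (by rw [hog]; exact hr)
      (by rw [Fintype.card_fin, hog]; have := hr.pos; omega)
    have hsupp : g.support = Finset.univ := Finset.eq_univ_of_card _ (by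
      rw [← hcyc.orderOf, hog, Fintype.card_fin])
    have hconst : ∀ x y, f x = f y := by
      intro x y
      obtain ⟨i, hi⟩ := hcyc.sameCycle (x := y) (y := x)
        (Equiv.Perm.mem_support.1 (hsupp ▸ Finset.mem_univ y)) (Equiv.Perm.mem_support.1 (hsupp ▸ Finset.mem_univ x))
      rw [← hi, hinv _ (Subgroup.zpow_mem _ hg i)]
    have : (Finset.univ.image f).card ≤ 1 := Finset.card_le_one.2 (by
      intro a ha b hb
      obtain ⟨x, -, rfl⟩ := Finset.mem_image.1 ha
      obtain ⟨y, -, rfl⟩ := Finset.mem_image.1 hb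
      exact hconst x y)
    omega
  have hfac : ∀ q : ℕ, q.Prime → q ∣ Nat.card (Equiv.Perm (Fin r)) → q ≤ r := by
    intro q hq hd
    rw [Nat.card_perm, Nat.card_fin] at hd
    exact hq.dvd_factorial.1 hd
  refine ⟨fun q hq hd => ?_, ?_⟩
  · refine hπ q hq (lt_of_le_of_ne (hfac q hq (hd.trans (Subgroup.card_subgroup_dvd_card _))) ?_)
    rintro rfl
    exact hnd hd
  · rw [Cfsg.piCore, sSup_eq_bot]
    rintro N ⟨hN, hNπ⟩
    haveI := hN
    by_contra hne
    refine hrπ (hNπ r hr ?_)
    haveI : MulAction.IsPretransitive N (Fin r) := ⟨fun a b => by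
      obtain ⟨g, hg, hgab⟩ := normal_transitive N hne a b
      exact ⟨⟨g, hg⟩, hgab⟩⟩
    have h := MulAction.index_stabilizer_of_transitive (G := N) (⟨0, hr.pos⟩ : Fin r)
    rw [Nat.card_fin] at h
    rw [← (MulAction.stabilizer N (⟨0, hr.pos⟩ : Fin r)).card_mul_index, h]
    exact dvd_mul_left _ _
end Cfsg.Agent.S4325
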