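import Cfsg.Statements.S4326
import Cfsg.Agent.Lib.Char.Burnside

set_option autoImplicit false
open Pointwise
open Cfsg
open scoped Pointwise

namespace Cfsg.Agent.S4326

/-- Let G be a finite group, p a prime, x an automorphism of G of p-power order and M the subgroup of fixed points of x. Suppose that p divides the index of M and that either M is self-normalizing or M has trivial center. Then some conjugate of M is mapped onto itself by x but is not fixed elementwise by x. -/
theorem result {G : Type*} [Group G] [Finite G]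
    (p : ℕ) [Fact p.Prime] (x : MulAut G) (hx : ∃ k : ℕ, orderOf x = p ^ k) (M : Subgroup G)
    (hM : ∀ g : G, g ∈ M ↔ x g = g) (hp : p ∣ M.index)
    (hself : Subgroup.normalizer (M : Set G) = M ∨ Subgroup.center M = ⊥) :
    ∃ g : G, (∀ y ∈ MulAut.conj g • M, x y ∈ MulAut.conj g • M) ∧ ∃ y ∈ MulAut.conj g • M, x y ≠ y := by
  classical
  obtain ⟨k, hk⟩ := hx
  have hfun : ∀ a b : G, (a : G ⧸ M) = b → (x a : G ⧸ M) = x b := by
    intro a b h
    rw [QuotientGroup.eq] at h ⊢
    rw [← map_inv, ← map_mul, (hM _).1 h]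
    exact h
  let Φ : Equiv.Perm (G ⧸ M) :=
    { toFun := Quotient.map' x (fun a b h => by
        have := hfun a b (Quotient.sound' h); exact Quotient.exact' this)
      invFun := Quotient.map' x.symm (fun a b h => by
        have h' : a⁻¹ * b ∈ M := QuotientGroup.leftRel_apply.1 h
        rw [QuotientGroup.leftRel_apply, ← map_inv, ← map_mul]
        have h2 := congrArg x.symm ((hM _).1 h')
        rw [MulEquiv.symm_apply_apply] at h2
        rwa [← h2])
      left_inv := fun a => by induction a using QuotientGroup.induction_on; simp [QuotientGroup.mk]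
      right_inv := fun a => by induction a using QuotientGroup.induction_on; simp [QuotientGroup.mk] }
  have hΦ : ∀ a : G, Φ (a : G ⧸ M) = ((x a : G) : G ⧸ M) := fun a => rfl
  have hpow : ∀ (j : ℕ) (a : G), (Φ ^ j) (a : G ⧸ M) = (((x ^ j) a : G) : G ⧸ M) := by
    intro j
    induction j with
    | zero => intro a; simp
    | succ j ih => intro a; rw [pow_succ', pow_succ', Equiv.Perm.mul_apply, ih, hΦ]; rfl
  have hΦk : Φ ^ p ^ k = 1 := by
    ext a
    induction a using QuotientGroup.induction_on with
    | _ a => rw [hpow, ← hk, pow_orderOf_eq_one]; simp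
  haveI := Fintype.ofFinite (G ⧸ M)
  obtain ⟨b, hb, hne⟩ := Equiv.Perm.exists_fixed_point_of_prime' (p := p)
    (by rwa [← Nat.card_eq_fintype_card, ← Subgroup.index_eq_card]) hΦk (a := ((1 : G) : G ⧸ M))
    (by rw [hΦ, map_one])
  induction b using QuotientGroup.induction_on with
  | _ g =>
  rw [hΦ, QuotientGroup.eq] at hb
  have hgM : g ∉ M := fun h => hne ((QuotientGroup.eq).2 (by simpa using h))
  have hm : g⁻¹ * x g ∈ M := by
    have := M.inv_mem hb; rwa [show ((x g)⁻¹ * g)⁻¹ = g⁻¹ * x g by group] at this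
  refine ⟨g, ?_, ?_⟩
  · rintro _ ⟨z, hz, rfl⟩
    refine ⟨(g⁻¹ * x g) * z * (g⁻¹ * x g)⁻¹, M.mul_mem (M.mul_mem hm hz) (M.inv_mem hm), ?_⟩
    change g * (g⁻¹ * x g * z * (g⁻¹ * x g)⁻¹) * g⁻¹ = x (g * z * g⁻¹)
    rw [map_mul, map_mul, map_inv, (hM z).1 hz]
    group
  · by_contra hall
    push Not at hall
    have hle : ∀ z ∈ M, g * z * g⁻¹ ∈ M := fun z hz =>
      (hM _).2 (hall _ ⟨z, hz, rfl⟩)
    have hgN : g ∈ Subgroup.normalizer (M : Set G) := by
      rw [Subgroup.mem_normalizer_iff_map_conj_eq]
      refine Subgroup.eq_of_le_of_card_ge ?_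
        (by rw [Subgroup.card_map_of_injective (MulAut.conj g).injective])
      rintro _ ⟨z, hz, rfl⟩
      exact hle z hz
    rcases hself with h | h
    · exact hgM (h ▸ hgN)
    · refine hgM ((hM g).2 ?_)
      have hc : (⟨g⁻¹ * x g, hm⟩ : M) ∈ Subgroup.center M := by
        rw [Subgroup.mem_center_iff]
        rintro ⟨z, hz⟩
        apply Subtype.ext
        change z * (g⁻¹ * x g) = g⁻¹ * x g * z
        have h1 : x (g * z * g⁻¹) = g * z * g⁻¹ := hall _ ⟨z, hz, rfl⟩
        rw [map_mul, map_mul, map_inv, (hM z).1 hz] at h1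
        have h2 := congrArg (fun u => g⁻¹ * u * (x g)) h1
        simpa [mul_assoc] using h2.symm
      rw [h, Subgroup.mem_bot] at hc
      exact (inv_mul_eq_one.1 (congrArg Subtype.val hc)).symm
end Cfsg.Agent.S4326
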