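import Cfsg.Statements.S4330
import Cfsg.Agent.Lib.Char.Exceptional.ClassCover
import Cfsg.Agent.Lib.Components.Radicals
import Cfsg.Agent.Lib.Core.MinNormal
import Cfsg.Agent.Lib.Core.Cores
import Cfsg.Agent.Lib.Components.PComponentOf

set_option autoImplicit false
open Pointwise
open Cfsg

namespace Cfsg.Agent.S4330

open Subgroup
open scoped Pointwise IsMulCommutative

universe u

theorem aux (p : ℕ) [hp : Fact p.Prime] (hp2 : p ≠ 2) :
    ∀ (n : ℕ) (G : Type u) [Group G] [Finite G], Group.IsSolvable G → Nat.card G = n →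
      ∀ A : Subgroup G, IsPGroup p A →
      (∀ c : G, ∃ g : G, IsConj c g ∧ (A.subgroupOf (A ⊔ MulAut.conj g • A)).IsSubnormal) →
      A ≤ Cfsg.pCore p G := by
  intro n
  induction n using Nat.strong_induction_on with
  | _ n ih =>
  intro G _ _ hG hn A hA h
  haveI := hG
  -- descent to a proper quotient
  have hquot : ∀ N : Subgroup G, ∀ _ : N.Normal, N ≠ ⊥ →
      A.map (QuotientGroup.mk' N) ≤ Cfsg.pCore p (G ⧸ N) := by
    intro N hN hN0
    have hlt : Nat.card (G ⧸ N) < n := by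
      rw [← hn, N.card_eq_card_quotient_mul_card_subgroup]
      exact lt_mul_of_one_lt_right Nat.card_pos (N.one_lt_card_iff_ne_bot.2 hN0)
    refine ih _ hlt (G ⧸ N) inferInstance rfl _ (hA.map _) fun c => ?_
    obtain ⟨c, rfl⟩ := QuotientGroup.mk'_surjective N c
    obtain ⟨g, hg, hsub⟩ := h c
    refine ⟨QuotientGroup.mk' N g, (QuotientGroup.mk' N).map_isConj hg, ?_⟩
    have e : (A ⊔ MulAut.conj g • A).map (QuotientGroup.mk' N) =
        A.map (QuotientGroup.mk' N) ⊔ MulAut.conj (QuotientGroup.mk' N g) • A.map (QuotientGroup.mk' N) := by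
      rw [Subgroup.map_sup]
      congr 1
      ext x
      constructor
      · rintro ⟨_, ⟨a, ha, rfl⟩, rfl⟩
        exact ⟨_, mem_map_of_mem _ ha, by simp⟩
      · rintro ⟨_, ⟨a, ha, rfl⟩, rfl⟩
        exact ⟨_, ⟨a, ha, rfl⟩, by simp⟩
    rw [← e]
    exact CfsgLib.Components.subnormal_map_subgroupOf (QuotientGroup.mk' N) le_sup_left hsub
  have hOn : (Cfsg.pCore p G).Normal := CfsgLib.Components.pCore_normal p
  have hOp : IsPGroup p (Cfsg.pCore p G) := CfsgLib.Components.pCore_isPGroup p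
  by_cases hO : Cfsg.pCore p G ≠ ⊥
  · have h1 := hquot _ hOn hO
    have hpre : IsPGroup p ((Cfsg.pCore p (G ⧸ Cfsg.pCore p G)).comap (QuotientGroup.mk' _)) :=
      (CfsgLib.Components.pCore_isPGroup p).comap_of_ker_isPGroup _ (by rwa [QuotientGroup.ker_mk'])
    exact (map_le_iff_le_comap.1 h1).trans (CfsgLib.Components.le_pCore
      ((CfsgLib.Components.pCore_normal p).comap _) hpre)
  push Not at hO
  by_cases hA0 : A = ⊥
  · rw [hA0]; exact bot_le
  exfalso
  haveI : Nontrivial G := by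
    obtain ⟨a, -, ha⟩ := (Subgroup.ne_bot_iff_exists_ne_one.1 hA0) |>.elim fun a ha => (⟨(a : G), a.2, fun h => ha (Subtype.ext h)⟩ : ∃ a : G, a ∈ A ∧ a ≠ 1)
    exact ⟨⟨a, 1, ha⟩⟩
  obtain ⟨V, hVn, hV0, hVmin⟩ := CfsgLib.Components.exists_minimal_normal (G := G)
  haveI := hVn
  obtain ⟨r, hr, hVr, hVc, -⟩ := CfsgLib.Core.isPGroup_of_minimal_normal V inferInstance hV0 hVmin
  have hrp : r ≠ p := by
    rintro rfl
    exact hV0 (le_bot_iff.1 (hO ▸ CfsgLib.Components.le_pCore hVn hVr))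
  have hcop : ¬ p ∣ Nat.card V := by
    haveI := Fact.mk hr
    obtain ⟨k, hk⟩ := IsPGroup.iff_card.1 hVr
    rw [hk]
    exact fun hd => hrp ((Nat.prime_dvd_prime_iff_eq hp.out hr).1 (hp.out.dvd_of_dvd_pow hd)).symm
  have h1 := hquot V hVn hV0
  set K := (Cfsg.pCore p (G ⧸ V)).comap (QuotientGroup.mk' V) with hK
  haveI hKn : K.Normal := (CfsgLib.Components.pCore_normal p).comap _
  have hAK : A ≤ K := map_le_iff_le_comap.1 h1
  have hVK : V ≤ K := fun v hv => by
    rw [hK, mem_comap, show QuotientGroup.mk' V v = 1 from (QuotientGroup.eq_one_iff v).2 hv]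
    exact one_mem _
  obtain ⟨PK⟩ : Nonempty (Sylow p K) := inferInstance
  set P : Subgroup G := (PK : Subgroup K).map K.subtype with hP
  have hPK : P ≤ K := map_subtype_le _
  have hPp : IsPGroup p P := PK.2.map _
  have hfr : normalizer (P : Set G) ⊔ K = ⊤ := Sylow.normalizer_sup_eq_top PK
  have hKVP : K = V ⊔ P := by
    refine le_antisymm (fun x hx => ?_) (sup_le hVK hPK)
    -- the image of `P` is a Sylow subgroup of the `p`-group `K / V`
    let f : K →* Cfsg.pCore p (G ⧸ V) := ((QuotientGroup.mk' V).comp K.subtype).codRestrict _ fun y => y.2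
    have hf : Function.Surjective f := by
      rintro ⟨y, hy⟩
      obtain ⟨y, rfl⟩ := QuotientGroup.mk'_surjective V y
      exact ⟨⟨y, hy⟩, rfl⟩
    have htop : (PK.mapSurjective hf : Subgroup (Cfsg.pCore p (G ⧸ V))) = ⊤ :=
      ((PK.mapSurjective hf).is_maximal'
        (IsPGroup.of_equiv (CfsgLib.Components.pCore_isPGroup p) topEquiv.symm) le_top).symm
    obtain ⟨y, hy, he⟩ : (f ⟨x, hx⟩) ∈ (PK : Subgroup K).map f := by
      rw [← Sylow.coe_mapSurjective hf, htop]; exact mem_top _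
    have he' : QuotientGroup.mk' V (y : G) = QuotientGroup.mk' V x := congrArg Subtype.val he
    obtain ⟨v, hv, hxe⟩ := (QuotientGroup.mk'_eq_mk' V).1 he'
    have hx' : x = (y * v * (y : G)⁻¹) * y := by rw [← hxe]; group
    rw [hx']
    exact mul_mem (mem_sup_left (hVn.conj_mem v hv _)) (mem_sup_right (mem_map_of_mem _ hy))
  have hGVP : ∀ g : G, ∃ v ∈ V, ∃ h ∈ normalizer (P : Set G), g = v * h := by
    intro g
    have htop : V ⊔ normalizer (P : Set G) = ⊤ := by
      refine top_le_iff.1 (hfr ▸ sup_le le_sup_right ?_)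
      rw [hKVP]
      exact sup_le le_sup_left ((le_normalizer (H := P)).trans le_sup_right)
    obtain ⟨v, hv, h, hh, he⟩ := mem_sup_of_normal_left.1 (htop.symm ▸ mem_top g : g ∈ V ⊔ normalizer (P : Set G))
    exact ⟨v, hv, h, hh, he.symm⟩
  have hcomm : ∀ v ∈ V, ∀ w ∈ V, v * w = w * v := fun v hv w hw =>
    congrArg Subtype.val (hVc.is_comm.comm (⟨v, hv⟩ : V) ⟨w, hw⟩)
  have hfaith : ∀ x ∈ P, (∀ v ∈ V, Commute x v) → x = 1 := by
    intro x hxP hx
    have hn : (P ⊓ centralizer (V : Set G)).Normal := ⟨fun y hy g => by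
      obtain ⟨v, hv, k, hk, rfl⟩ := hGVP g
      have hz : k * y * k⁻¹ ∈ P ⊓ centralizer (V : Set G) := by
        refine ⟨((mem_normalizer_iff).1 hk y).1 hy.1, fun w hw => ?_⟩
        have h1 := hy.2 (k⁻¹ * w * k) (by simpa using hVn.conj_mem w hw k⁻¹)
        calc w * (k * y * k⁻¹) = k * ((k⁻¹ * w * k) * y) * k⁻¹ := by group
          _ = k * (y * (k⁻¹ * w * k)) * k⁻¹ := by rw [h1]
          _ = k * y * k⁻¹ * w := by group
      rw [show v * k * y * (v * k)⁻¹ = v * (k * y * k⁻¹) * v⁻¹ by group, hz.2 v hv, mul_inv_cancel_right]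
      exact hz⟩
    have := CfsgLib.Components.le_pCore hn (hPp.to_le inf_le_left)
    rw [hO] at this
    exact mem_bot.1 (this ⟨hxP, fun v hv => (hx v hv).symm⟩)
  -- an element of order `p` of `A`, moved into `P`
  obtain ⟨a, haA, hap, ha1⟩ : ∃ a ∈ A, a ^ p = 1 ∧ a ≠ 1 := by
    have hd : p ∣ Nat.card A := by
      obtain ⟨k, hk⟩ := IsPGroup.iff_card.1 hA
      rw [hk]
      refine dvd_pow_self p fun h0 => hA0 (Subgroup.card_eq_one.1 (by rw [hk, h0, pow_zero]))
    obtain ⟨a, ha⟩ := exists_prime_orderOf_dvd_card' p hd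
    refine ⟨a, a.2, ?_, fun h => hp.out.ne_one ?_⟩
    · have := pow_orderOf_eq_one a
      rw [ha] at this
      exact_mod_cast congrArg Subtype.val this
    · rw [← ha, show a = 1 from Subtype.ext h, orderOf_one]
  obtain ⟨k, hk⟩ : ∃ k : G, k * a * k⁻¹ ∈ P := by
    have hAK' : IsPGroup p (A.subgroupOf K) :=
      hA.comap_of_injective K.subtype K.subtype_injective
    obtain ⟨Q, hQ⟩ := hAK'.exists_le_sylow
    obtain ⟨k, hk⟩ := MulAction.exists_smul_eq K Q PK
    refine ⟨k, ?_⟩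
    have hmem : MulAut.conj k • (⟨a, hAK haA⟩ : K) ∈ ((k • Q : Sylow p K) : Subgroup K) := by
      rw [Sylow.coe_subgroup_smul]
      exact Subgroup.smul_mem_pointwise_smul _ _ _ (hQ haA)
    rw [hk] at hmem
    exact ⟨_, hmem, rfl⟩
  obtain ⟨v, hv⟩ := CfsgLib.ClassCover.exists_not_commute (V := V) hp2 hcop P hPp hfaith hk
    (by rw [conj_pow, hap, mul_one, mul_inv_cancel]) (fun h => ha1 (conj_eq_one_iff.1 h))
  obtain ⟨g, hg, hsub⟩ := h (v : G)
  obtain ⟨x, hx⟩ := isConj_iff.1 hg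
  have hgV : g ∈ V := hx ▸ hVn.conj_mem _ v.2 x
  set J := A ⊔ MulAut.conj g • A with hJ
  have hAJ : A ≤ (Cfsg.pCore p J).map J.subtype := by
    intro y hy
    exact ⟨⟨y, mem_sup_left hy⟩, CfsgLib.Components.subnormal_pGroup_le_pCore hsub
      (hA.comap_of_injective J.subtype J.subtype_injective) hy, rfl⟩
  have hJp : IsPGroup p J := by
    set O := (Cfsg.pCore p J).map J.subtype with hO'
    have hOJ : IsPGroup p O := (CfsgLib.Components.pCore_isPGroup p).map _
    have hB : IsPGroup p (MulAut.conj g • A : Subgroup G) := hA.of_equiv (Subgroup.equivSMul _ A)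
    have hn : MulAut.conj g • A ≤ normalizer (O : Set G) := by
      intro z hz
      rw [mem_normalizer_iff]
      haveI := CfsgLib.Components.pCore_normal (G := J) p
      intro y
      have key : ∀ z' ∈ J, ∀ y, y ∈ O → z' * y * z'⁻¹ ∈ O := by
        rintro z' hz' _ ⟨y, hy, rfl⟩
        exact ⟨⟨z', hz'⟩ * y * (⟨z', hz'⟩ : J)⁻¹, Subgroup.Normal.conj_mem inferInstance y hy _, rfl⟩
      have hzJ : z ∈ J := mem_sup_right hz
      refine ⟨key z hzJ y, fun hy => ?_⟩
      have := key z⁻¹ (J.inv_mem hzJ) _ hy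
      rwa [inv_inv, show z⁻¹ * (z * y * z⁻¹) * z = y by group] at this
    exact (hOJ.to_sup_of_normal_left' hB hn).to_le (sup_le (hAJ.trans le_sup_left) le_sup_right)
  have hu : a * g * a⁻¹ * g⁻¹ = 1 := by
    have huV : a * g * a⁻¹ * g⁻¹ ∈ V := V.mul_mem (hVn.conj_mem g hgV a) (V.inv_mem hgV)
    have huJ : a * g * a⁻¹ * g⁻¹ ∈ J := by
      rw [mul_assoc, mul_assoc]
      refine J.mul_mem (mem_sup_left haA) (mem_sup_right ⟨a⁻¹, A.inv_mem haA, ?_⟩)
      show g * a⁻¹ * g⁻¹ = g * (a⁻¹ * g⁻¹)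
      rw [mul_assoc]
    obtain ⟨m, hm⟩ := hJp ⟨_, huJ⟩
    have hm' : (a * g * a⁻¹ * g⁻¹) ^ p ^ m = 1 := congrArg Subtype.val hm
    have hc : (Nat.card V).Coprime (p ^ m) :=
      ((hp.out.coprime_iff_not_dvd.2 hcop).pow_left m).symm
    have : (⟨_, huV⟩ : V) = 1 := (powCoprime hc).injective (Subtype.ext (by simpa using hm'))
    exact congrArg Subtype.val this
  have hag : Commute a g := mul_inv_eq_iff_eq_mul.1 (mul_inv_eq_one.1 hu)
  obtain ⟨w, hw, h', hh', he⟩ := hGVP (x⁻¹ * k⁻¹)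
  refine hv h' hh' ?_
  have e1 : x⁻¹ * a * x = w * (h' * (k * a * k⁻¹) * h'⁻¹) * w⁻¹ := by
    rw [show w * (h' * (k * a * k⁻¹) * h'⁻¹) * w⁻¹ = (w * h') * (k * a * k⁻¹) * (w * h')⁻¹ by group,
      ← he]
    group
  have e2 : Commute (x⁻¹ * a * x) (v : G) := by
    rw [← hx] at hag
    show x⁻¹ * a * x * v = v * (x⁻¹ * a * x)
    calc x⁻¹ * a * x * v = x⁻¹ * (a * (x * v * x⁻¹)) * x := by group
      _ = x⁻¹ * (x * v * x⁻¹ * a) * x := by rw [hag.eq]
      _ = _ := by group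
  rw [e1] at e2
  have e3 : w⁻¹ * (v : G) * w = v := by rw [mul_assoc, hcomm v v.2 w hw, inv_mul_cancel_left]
  show h' * (k * a * k⁻¹) * h'⁻¹ * v = v * (h' * (k * a * k⁻¹) * h'⁻¹)
  calc h' * (k * a * k⁻¹) * h'⁻¹ * v = h' * (k * a * k⁻¹) * h'⁻¹ * (w⁻¹ * (v : G) * w) := by rw [e3]
    _ = w⁻¹ * ((w * (h' * (k * a * k⁻¹) * h'⁻¹) * w⁻¹) * v) * w := by group
    _ = w⁻¹ * (v * (w * (h' * (k * a * k⁻¹) * h'⁻¹) * w⁻¹)) * w := by rw [e2.eq]
    _ = (w⁻¹ * (v : G) * w) * (h' * (k * a * k⁻¹) * h'⁻¹) := by group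
    _ = _ := by rw [e3]


/-- Let G be a finite solvable group, p an odd prime and A a p-subgroup of G such that every conjugacy class of G contains an element g for which A is subnormal in the subgroup generated by A and its conjugate by g. Then A is contained in O_p(G). (The hypothesis that p is odd is needed.) -/
theorem result {G : Type*} [Group G] [Finite G]
    (hG : Group.IsSolvable G) (p : ℕ) [Fact p.Prime] (hp : p ≠ 2) (A : Subgroup G) (hA : IsPGroup p A)
    (h : ∀ c : G, ∃ g : G, IsConj c g ∧ (A.subgroupOf (A ⊔ MulAut.conj g • A)).IsSubnormal) :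
    A ≤ Cfsg.pCore p G := by
  exact aux p hp _ G hG rfl A hA h

end Cfsg.Agent.S4330
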