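import Cfsg.Statements.S4331
import Cfsg.Agent.Lib.Core.Nilpotent
import Cfsg.Agent.Lib.HallGen.Basic

set_option autoImplicit false
open Cfsg

namespace Cfsg.Agent.S4331

open Matrix in
/-- Membership in the semidihedral group of order 16. -/
def Pred (M : Matrix (Fin 2) (Fin 2) (ZMod 3)) : Prop :=
  M * !![0, -1; 1, 0] = !![0, -1; 1, 0] * M ∨ M * !![0, -1; 1, 0] = -(!![0, -1; 1, 0] * M)

instance : DecidablePred Pred := fun M => by unfold Pred; infer_instance

/-- The semidihedral group of order 16 inside the linear group of the plane over three elements. -/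
def sd : Subgroup (Matrix (Fin 2) (Fin 2) (ZMod 3))ˣ where
  carrier := {u | Pred (u : Matrix (Fin 2) (Fin 2) (ZMod 3))}
  one_mem' := Or.inl (by simp)
  mul_mem' := fun {a b} ha hb => by
    show Pred _
    unfold Pred
    rw [Units.val_mul, mul_assoc]
    rcases hb with hb | hb <;> rcases ha with ha | ha <;> rw [hb]
    · left; rw [← mul_assoc, ha, mul_assoc]
    · right; rw [← mul_assoc, ha, neg_mul, mul_assoc]
    · right; rw [mul_neg, ← mul_assoc, ha, mul_assoc]
    · left; rw [mul_neg, ← mul_assoc, ha, neg_mul, neg_neg, mul_assoc]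
  inv_mem' := fun {a} ha => by
    show Pred _
    unfold Pred
    rcases ha with ha | ha
    · left
      rw [Units.inv_mul_eq_iff_eq_mul, ← mul_assoc, Units.eq_mul_inv_iff_mul_eq]
      exact ha.symm
    · right
      rw [Units.inv_mul_eq_iff_eq_mul, mul_neg, ← mul_assoc, ← neg_mul, Units.eq_mul_inv_iff_mul_eq]
      rw [ha, neg_neg]

/-- The action on the plane. -/
def act : sd →* MulAut (Multiplicative (Fin 2 → ZMod 3)) where
  toFun h :=
    { toFun := fun v => Multiplicative.ofAdd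
        (((h : (Matrix (Fin 2) (Fin 2) (ZMod 3))ˣ) : Matrix (Fin 2) (Fin 2) (ZMod 3)).mulVec v.toAdd)
      invFun := fun v => Multiplicative.ofAdd
        ((((h : (Matrix (Fin 2) (Fin 2) (ZMod 3))ˣ)⁻¹ : (Matrix (Fin 2) (Fin 2) (ZMod 3))ˣ) :
          Matrix (Fin 2) (Fin 2) (ZMod 3)).mulVec v.toAdd)
      left_inv := fun v => by
        show Multiplicative.ofAdd (Matrix.mulVec _ (Matrix.mulVec _ v.toAdd)) = v
        erw [Matrix.mulVec_mulVec, Units.inv_mul, Matrix.one_mulVec]
        rfl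
      right_inv := fun v => by
        show Multiplicative.ofAdd (Matrix.mulVec _ (Matrix.mulVec _ v.toAdd)) = v
        erw [Matrix.mulVec_mulVec, Units.mul_inv, Matrix.one_mulVec]
        rfl
      map_mul' := fun v w => by
        show Multiplicative.ofAdd (Matrix.mulVec _ (v.toAdd + w.toAdd)) = _
        rw [Matrix.mulVec_add]
        rfl }
  map_one' := MulEquiv.ext fun v => by
    show Multiplicative.ofAdd (Matrix.mulVec _ v.toAdd) = v
    rw [OneMemClass.coe_one, Units.val_one, Matrix.one_mulVec]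
    rfl
  map_mul' a b := MulEquiv.ext fun v => congrArg Multiplicative.ofAdd
    (Matrix.mulVec_mulVec v.toAdd _ _).symm

theorem act_apply (h : sd) (v : Multiplicative (Fin 2 → ZMod 3)) :
    act h v = Multiplicative.ofAdd
      (((h : (Matrix (Fin 2) (Fin 2) (ZMod 3))ˣ) : Matrix (Fin 2) (Fin 2) (ZMod 3)).mulVec v.toAdd) :=
  rfl

/-- The group of order 144. -/
abbrev Gp : Type := Multiplicative (Fin 2 → ZMod 3) ⋊[act] sd

theorem cases_of_pred {M : Matrix (Fin 2) (Fin 2) (ZMod 3)} (h : Pred M) :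
    ∃ a c s : ZMod 3, (s = 1 ∨ s = -1) ∧ M = !![a, -(s * c); c, s * a] := by
  have key : ∀ a b c d : ZMod 3, (!![a, b; c, d] : Matrix (Fin 2) (Fin 2) (ZMod 3)) * !![0, -1; 1, 0] =
      !![b, -a; d, -c] ∧ (!![0, -1; 1, 0] : Matrix (Fin 2) (Fin 2) (ZMod 3)) * !![a, b; c, d] =
      !![-c, -d; a, b] := by
    intro a b c d
    constructor <;> ext i j <;> fin_cases i <;> fin_cases j <;>
      simp [Matrix.mul_apply, Fin.sum_univ_two]
  unfold Pred at h
  rw [M.eta_fin_two, (key _ _ _ _).1, (key _ _ _ _).2] at h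
  rcases h with h | h
  · refine ⟨M 0 0, M 1 0, 1, Or.inl rfl, ?_⟩
    conv_lhs => rw [M.eta_fin_two]
    have h1 : M 0 1 = -M 1 0 := by simpa using congrFun (congrFun h 0) 0
    have h2 : M 1 1 = M 0 0 := by simpa using congrFun (congrFun h 1) 0
    rw [h1, h2, one_mul, one_mul]
  · refine ⟨M 0 0, M 1 0, -1, Or.inr rfl, ?_⟩
    conv_lhs => rw [M.eta_fin_two]
    have h1 : M 0 1 = M 1 0 := by simpa using congrFun (congrFun h 0) 0
    have h2 : M 1 1 = -M 0 0 := by simpa using congrFun (congrFun h 1) 0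
    rw [h1, h2, neg_one_mul, neg_one_mul, neg_neg]

theorem table_pow : ∀ a c : ZMod 3, ∀ s ∈ [(1 : ZMod 3), -1], ¬ (a = 0 ∧ c = 0) →
    (!![a, -(s * c); c, s * a] : Matrix (Fin 2) (Fin 2) (ZMod 3)) ^ 8 = 1 := by
  decide +kernel

theorem table_pred : ∀ a c : ZMod 3, ∀ s ∈ [(1 : ZMod 3), -1], ¬ (a = 0 ∧ c = 0) →
    Pred !![a, -(s * c); c, s * a] ∧
      a * (s * a) - -(s * c) * c ≠ 0 := by
  decide +kernel

theorem table_line : ∀ v : Fin 2 → ZMod 3, ∃ a c : ZMod 3, ∃ s ∈ [(1 : ZMod 3), -1],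
    ¬ (a = 0 ∧ c = 0) ∧ (!![a, -(s * c); c, s * a] : Matrix (Fin 2) (Fin 2) (ZMod 3)).mulVec v 1 = 0 := by
  decide +kernel

theorem table_conj : ∀ a c : ZMod 3, ∀ s ∈ [(1 : ZMod 3), -1], ¬ (a = 0 ∧ c = 0) →
    (∀ v : Fin 2 → ZMod 3, ∃ w,
      (!![a, -(s * c); c, s * a] : Matrix (Fin 2) (Fin 2) (ZMod 3)).mulVec w - w = v) ∨
      !![a, -(s * c); c, s * a] = (1 : Matrix (Fin 2) (Fin 2) (ZMod 3)) ∨
      ∃ a' c' : ZMod 3, ∃ s' ∈ [(1 : ZMod 3), -1], ¬ (a' = 0 ∧ c' = 0) ∧
        (!![a', -(s' * c'); c', s' * a'] : Matrix (Fin 2) (Fin 2) (ZMod 3)) * !![a, -(s * c); c, s * a] =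
          !![1, 0; 0, -1] * !![a', -(s' * c'); c', s' * a'] := by
  decide +kernel

theorem table_pred' {a c s : ZMod 3} (hs : s ∈ [(1 : ZMod 3), -1]) (h : ¬ (a = 0 ∧ c = 0)) :
    Pred !![a, -(s * c); c, s * a] ∧
      (!![a, -(s * c); c, s * a] : Matrix (Fin 2) (Fin 2) (ZMod 3)).det ≠ 0 := by
  rw [Matrix.det_fin_two_of]
  exact table_pred a c s hs h

theorem pred_unit (h : sd) : ∃ a c s : ZMod 3, s ∈ [(1 : ZMod 3), -1] ∧ ¬ (a = 0 ∧ c = 0) ∧
    ((h : (Matrix (Fin 2) (Fin 2) (ZMod 3))ˣ) : Matrix (Fin 2) (Fin 2) (ZMod 3)) =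
      !![a, -(s * c); c, s * a] := by
  obtain ⟨a, c, s, hs, he⟩ := cases_of_pred h.2
  refine ⟨a, c, s, by simpa using hs, ?_, he⟩
  rintro ⟨rfl, rfl⟩
  refine ((Matrix.isUnit_iff_isUnit_det _).1 (h : (Matrix (Fin 2) (Fin 2) (ZMod 3))ˣ).isUnit).ne_zero ?_
  rw [he, Matrix.det_fin_two_of]
  simp

theorem exists_mem {M : Matrix (Fin 2) (Fin 2) (ZMod 3)} (h1 : Pred M) (h2 : M.det ≠ 0) :
    ∃ h : sd, ((h : (Matrix (Fin 2) (Fin 2) (ZMod 3))ˣ) : Matrix (Fin 2) (Fin 2) (ZMod 3)) = M :=
  ⟨⟨Matrix.GeneralLinearGroup.mkOfDetNeZero M h2, h1⟩, rfl⟩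


/-- There is a finite solvable group G with a subgroup A of order 2 such that every conjugacy class of G contains an element g for which A is subnormal in the subgroup generated by A and g, and yet A is not contained in O_2(G). (So the corresponding criteria for odd primes fail at the prime 2, even for solvable groups.) -/
theorem result :
    ∃ (G : Type) (_ : Group G) (_ : Finite G) (A : Subgroup G), Group.IsSolvable G ∧ Nat.card A = 2 ∧
      (∀ c : G, ∃ g : G, IsConj c g ∧ (A.subgroupOf (A ⊔ Subgroup.zpowers g)).IsSubnormal) ∧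
      ¬ A ≤ Cfsg.pCore 2 G := by
  classical
  haveI : Finite Gp := Finite.of_equiv _ SemidirectProduct.equivProd.symm
  obtain ⟨t, ht⟩ := exists_mem (M := !![1, 0; 0, -1]) (by decide +kernel)
    (by rw [Matrix.det_fin_two_of]; decide)
  have htt : t * t = 1 := Subtype.ext (Units.ext (by
    simp only [Subgroup.coe_mul, Units.val_mul, ht]; decide +kernel))
  have ht1 : t ≠ 1 := fun h => by
    rw [h] at ht
    simp only [OneMemClass.coe_one, Units.val_one] at ht
    revert ht; decide +kernel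
  let a : Gp := SemidirectProduct.inr t
  have hsdP : IsPGroup 2 sd := fun h => ⟨3, Subtype.ext (Units.ext (by
    obtain ⟨a, c, s, hs, hn, he⟩ := pred_unit h
    simpa [he] using table_pow a c s hs hn))⟩
  haveI : Group.IsNilpotent sd := hsdP.isNilpotent
  have hR : IsPGroup 2 (SemidirectProduct.inr : sd →* Gp).range := by
    rintro ⟨_, x, rfl⟩
    obtain ⟨k, hk⟩ := hsdP x
    exact ⟨k, Subtype.ext (by rw [SubmonoidClass.coe_pow, ← map_pow, hk, map_one]; rfl)⟩
  refine ⟨Gp, inferInstance, inferInstance, Subgroup.zpowers a, ?_, ?_, fun c => ?_, fun hle => ?_⟩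
  · exact Group.isSolvable_of_ker_le_range (SemidirectProduct.inl (φ := act)) SemidirectProduct.rightHom
      (le_of_eq SemidirectProduct.range_inl_eq_ker_rightHom.symm)
  · rw [Nat.card_zpowers]
    refine orderOf_eq_prime ?_ (fun h => ht1 ?_)
    · rw [pow_two, ← map_mul, htt, map_one]
    · exact (map_eq_one_iff _ SemidirectProduct.inr_injective).1 h
  · -- the two kinds of good representatives
    have good1 : ∀ g : Gp, g * a = a * g →
        ((Subgroup.zpowers a).subgroupOf (Subgroup.zpowers a ⊔ Subgroup.zpowers g)).IsSubnormal := by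
      intro g hg
      refine Subgroup.Normal.isSubnormal ⟨fun x hx y => ?_⟩
      have hy : (y : Gp) ∈ Subgroup.centralizer (Subgroup.zpowers a : Set Gp) := by
        refine (sup_le ?_ ?_ : Subgroup.zpowers a ⊔ Subgroup.zpowers g ≤ _) y.2
        · rintro _ ⟨i, rfl⟩ _ ⟨j, rfl⟩
          exact zpow_mul_comm a j i
        · refine Subgroup.zpowers_le.2 ?_
          rintro _ ⟨j, rfl⟩
          exact ((show Commute a g from hg.symm).zpow_left j).eq
      rw [Subgroup.mem_subgroupOf] at hx ⊢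
      rw [Subgroup.coe_mul, Subgroup.coe_mul, ← hy _ hx, Subgroup.coe_inv, mul_assoc, mul_inv_cancel,
        mul_one]
      exact hx
    have good2 : ∀ g : Gp, g.left = 1 →
        ((Subgroup.zpowers a).subgroupOf (Subgroup.zpowers a ⊔ Subgroup.zpowers g)).IsSubnormal := by
      intro g hg
      have hle : Subgroup.zpowers a ⊔ Subgroup.zpowers g ≤ (SemidirectProduct.inr : sd →* Gp).range :=
        sup_le (Subgroup.zpowers_le.2 ⟨t, rfl⟩) (Subgroup.zpowers_le.2
          ⟨g.right, SemidirectProduct.ext (by simp [hg]) rfl⟩)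
      have hP : IsPGroup 2 (Subgroup.zpowers a ⊔ Subgroup.zpowers g : Subgroup Gp) := hR.to_le hle
      haveI := hP.isNilpotent
      exact CfsgLib.Core.isSubnormal_of_isNilpotent _
    obtain ⟨v, h⟩ := c
    have hconj : ∀ (w : Fin 2 → ZMod 3) (k : sd),
        IsConj (⟨v, h⟩ : Gp) (⟨Multiplicative.ofAdd w, k⟩ * ⟨v, h⟩ * ⟨Multiplicative.ofAdd w, k⟩⁻¹) :=
      fun w k => isConj_iff.2 ⟨_, rfl⟩
    obtain ⟨a', c', s', hs', hn', he'⟩ := pred_unit h
    rcases table_conj a' c' s' hs' hn' with hA | hA | ⟨a'', c'', s'', hs'', hn'', hN3⟩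
    · obtain ⟨w, hw⟩ := hA v.toAdd
      rw [← he'] at hw
      refine ⟨_, hconj w 1, good2 _ ?_⟩
      have key : w + v.toAdd + (((h : (Matrix (Fin 2) (Fin 2) (ZMod 3))ˣ) :
          Matrix (Fin 2) (Fin 2) (ZMod 3)).mulVec (-w)) = 0 := by
        rw [Matrix.mulVec_neg, ← hw]; abel
      apply Multiplicative.toAdd.injective
      simpa [act_apply, add_assoc] using key
    · obtain ⟨a'', c'', s'', hs'', hn'', hM3⟩ := table_line v.toAdd
      obtain ⟨k, hk⟩ := exists_mem (table_pred' hs'' hn'').1 (table_pred' hs'' hn'').2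
      rw [← he'] at hA
      refine ⟨_, hconj 0 k, good1 _ ?_⟩
      have hh : h = 1 := Subtype.ext (Units.ext hA)
      subst hh
      refine SemidirectProduct.ext ?_ (by simp [a])
      apply Multiplicative.toAdd.injective
      funext i
      fin_cases i <;> simp [a, act_apply, ht, hk, Matrix.mulVec, dotProduct, Fin.sum_univ_two] <;>
        simp [Matrix.mulVec, dotProduct, Fin.sum_univ_two] at hM3 <;>
        first
          | linear_combination hM3
          | linear_combination 2 * hM3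
          | linear_combination (-1 : ZMod 3) * hM3
    · obtain ⟨k, hk⟩ := exists_mem (table_pred' hs'' hn'').1 (table_pred' hs'' hn'').2
      rw [← he'] at hN3
      have hkh : k * h * k⁻¹ = t := by
        rw [mul_inv_eq_iff_eq_mul]
        exact Subtype.ext (Units.ext (by simp only [Subgroup.coe_mul, Units.val_mul, hk, ht, hN3]))
      refine ⟨_, hconj ![0, (Matrix.mulVec !![a'', -(s'' * c''); c'', s'' * a''] v.toAdd) 1] k, good1 _ ?_⟩
      have hg : (⟨Multiplicative.ofAdd ![0, (Matrix.mulVec !![a'', -(s'' * c''); c'', s'' * a''] v.toAdd) 1], k⟩ * ⟨v, h⟩ *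
          ⟨Multiplicative.ofAdd ![0, (Matrix.mulVec !![a'', -(s'' * c''); c'', s'' * a''] v.toAdd) 1], k⟩⁻¹ : Gp) =
          ⟨Multiplicative.ofAdd ![(Matrix.mulVec !![a'', -(s'' * c''); c'', s'' * a''] v.toAdd) 0, 0], t⟩ := by
        refine SemidirectProduct.ext ?_ (by simp [hkh])
        simp only [SemidirectProduct.mul_left, SemidirectProduct.inv_left, SemidirectProduct.mul_right]
        rw [← MulAut.mul_apply, ← map_mul, hkh]
        apply Multiplicative.toAdd.injective
        funext i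
        fin_cases i <;>
          simp [act_apply, ht, hk, Matrix.mulVec, dotProduct, Fin.sum_univ_two]
        generalize c'' * v.toAdd 0 + s'' * a'' * v.toAdd 1 = z
        revert z; decide
      rw [hg]
      refine SemidirectProduct.ext ?_ (by simp [a])
      apply Multiplicative.toAdd.injective
      funext i
      fin_cases i <;> simp [a, act_apply, ht, Matrix.mulVec, dotProduct, Fin.sum_univ_two]
  · have ha : a ∈ Cfsg.pCore 2 Gp := hle (Subgroup.mem_zpowers a)
    let x : Gp := SemidirectProduct.inl (Multiplicative.ofAdd ![0, 1])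
    have hn : (Cfsg.pCore 2 Gp).Normal := by
      first
        | exact CfsgLib.HallGen.pCore_normal 2
        | infer_instance
    have hc : a * x * a⁻¹ * x⁻¹ ∈ Cfsg.pCore 2 Gp := by
      rw [mul_assoc, mul_assoc]
      exact (Cfsg.pCore 2 Gp).mul_mem ha (by
        rw [← mul_assoc]; exact hn.conj_mem _ ((Cfsg.pCore 2 Gp).inv_mem ha) x)
    have he : a * x * a⁻¹ * x⁻¹ = SemidirectProduct.inl (Multiplicative.ofAdd ![0, 1]) := by
      rw [show a * x * a⁻¹ = SemidirectProduct.inl (act t (Multiplicative.ofAdd ![0, 1])) by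
        rw [SemidirectProduct.inl_aut, map_inv], ← map_inv, ← map_mul]
      congr 1
      apply Multiplicative.toAdd.injective
      funext i
      fin_cases i <;> simp [act_apply, ht, Matrix.mulVec, dotProduct, Fin.sum_univ_two] <;> decide
    rw [he] at hc
    obtain ⟨j, hj⟩ := CfsgLib.HallGen.isPGroup_pCore 2 ⟨_, hc⟩
    have h3 : (SemidirectProduct.inl (Multiplicative.ofAdd ![0, 1]) : Gp) ^ 2 ^ j = 1 :=
      congrArg Subtype.val hj
    rw [← map_pow, map_eq_one_iff _ SemidirectProduct.inl_injective] at h3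
    have h4 := congrFun (congrArg Multiplicative.toAdd h3) 1
    simp at h4
    have h5 : (3 : ℕ) ∣ 2 ^ j := (ZMod.natCast_eq_zero_iff (2 ^ j) 3).1 (by simpa using h4)
    exact absurd ((Nat.prime_three.dvd_of_dvd_pow h5)) (by norm_num)

end Cfsg.Agent.S4331
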