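import Cfsg.Statements.S4332
import Cfsg.Agent.Lib.HallGen.Basic

set_option autoImplicit false
open Pointwise
open Cfsg

namespace Cfsg.Agent.S4332

/-- A permutation given by its table and that of its inverse. -/
def tab (f g : List (Fin 8))
    (h : (∀ i : Fin 8, g.getD (f.getD i.val 0).val 0 = i) ∧ ∀ i : Fin 8, f.getD (g.getD i.val 0).val 0 = i) :
    Equiv.Perm (Fin 8) :=
  ⟨fun i => f.getD i.val 0, fun i => g.getD i.val 0, h.1, h.2⟩

/-- The basic three-cycle. -/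
def c0 : Equiv.Perm (Fin 8) := tab [1, 2, 0, 3, 4, 5, 6, 7] [2, 0, 1, 3, 4, 5, 6, 7] (by decide)

/-- Class representatives moving the first three points into themselves or away from themselves. -/
def reps : List (Equiv.Perm (Fin 8)) :=
  [tab [0, 1, 2, 3, 4, 5, 6, 7] [0, 1, 2, 3, 4, 5, 6, 7] (by decide),
    tab [0, 1, 2, 4, 3, 5, 6, 7] [0, 1, 2, 4, 3, 5, 6, 7] (by decide),
    tab [0, 1, 2, 4, 3, 6, 5, 7] [0, 1, 2, 4, 3, 6, 5, 7] (by decide),
    tab [3, 4, 5, 0, 1, 2, 6, 7] [3, 4, 5, 0, 1, 2, 6, 7] (by decide),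
    tab [3, 4, 5, 0, 1, 2, 7, 6] [3, 4, 5, 0, 1, 2, 7, 6] (by decide),
    tab [1, 2, 0, 3, 4, 5, 6, 7] [2, 0, 1, 3, 4, 5, 6, 7] (by decide),
    tab [1, 2, 0, 4, 3, 5, 6, 7] [2, 0, 1, 4, 3, 5, 6, 7] (by decide),
    tab [1, 2, 0, 4, 3, 6, 5, 7] [2, 0, 1, 4, 3, 6, 5, 7] (by decide),
    tab [1, 2, 0, 4, 5, 3, 6, 7] [2, 0, 1, 5, 3, 4, 6, 7] (by decide),
    tab [1, 2, 0, 4, 5, 3, 7, 6] [2, 0, 1, 5, 3, 4, 7, 6] (by decide),
    tab [0, 1, 2, 4, 5, 6, 3, 7] [0, 1, 2, 6, 3, 4, 5, 7] (by decide),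
    tab [1, 0, 2, 4, 5, 6, 3, 7] [1, 0, 2, 6, 3, 4, 5, 7] (by decide),
    tab [1, 2, 0, 4, 5, 6, 3, 7] [2, 0, 1, 6, 3, 4, 5, 7] (by decide),
    tab [3, 4, 5, 1, 0, 6, 7, 2] [4, 3, 7, 0, 1, 2, 5, 6] (by decide),
    tab [3, 4, 5, 1, 0, 2, 7, 6] [4, 3, 5, 0, 1, 2, 7, 6] (by decide),
    tab [0, 1, 2, 4, 5, 6, 7, 3] [0, 1, 2, 7, 3, 4, 5, 6] (by decide),
    tab [1, 0, 2, 4, 5, 6, 7, 3] [1, 0, 2, 7, 3, 4, 5, 6] (by decide),
    tab [1, 2, 0, 4, 5, 6, 7, 3] [2, 0, 1, 7, 3, 4, 5, 6] (by decide),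
    tab [3, 4, 5, 1, 2, 0, 6, 7] [5, 3, 4, 0, 1, 2, 6, 7] (by decide),
    tab [3, 4, 5, 1, 2, 0, 7, 6] [5, 3, 4, 0, 1, 2, 7, 6] (by decide),
    tab [3, 4, 5, 1, 2, 6, 0, 7] [6, 3, 4, 0, 1, 2, 5, 7] (by decide),
    tab [3, 4, 5, 1, 2, 6, 7, 0] [7, 3, 4, 0, 1, 2, 5, 6] (by decide)]

/-- Their cycle types. -/
def types : List (Multiset ℕ) :=
  [0, {2}, {2,2}, {2,2,2}, {2,2,2,2}, {3}, {3,2}, {3,2,2}, {3,3}, {3,3,2}, {4}, {4,2}, {4,3}, {4,4}, {4,2,2}, {5}, {5,2}, {5,3}, {6}, {6,2}, {7}, {8}]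

/-- A double transposition. -/
def tw : Equiv.Perm (Fin 8) := tab [1, 0, 3, 2, 4, 5, 6, 7] [1, 0, 3, 2, 4, 5, 6, 7] (by decide)

theorem reps_types : reps.map Equiv.Perm.cycleType = types := by decide +kernel

theorem reps_good_apply : reps.all (fun g => decide
    ((∀ y : Fin 8, c0 (g y) = g y ∨ c0 y = y) ∨ (∀ y : Fin 8, g (c0 y) = c0 (g y)) ∨
      ∀ y : Fin 8, g (c0 y) = c0 (c0 (g y)))) = true := by
  decide +kernel

theorem reps_good (g : Equiv.Perm (Fin 8)) (hg : g ∈ reps) :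
    Commute (g * c0 * g⁻¹) c0 := by
  rcases of_decide_eq_true (List.all_eq_true.1 reps_good_apply g hg) with h | h | h
  · refine Equiv.Perm.Disjoint.commute fun x => ?_
    obtain ⟨y, rfl⟩ := g.surjective x
    rcases h y with h' | h'
    · exact Or.inr h'
    · left; simp [h']
  · have : g * c0 = c0 * g := Equiv.ext fun y => h y
    rw [this, mul_inv_cancel_right]
  · have : g * c0 = c0 * c0 * g := Equiv.ext fun y => h y
    rw [this, mul_inv_cancel_right]
    exact (Commute.refl c0).mul_left (Commute.refl c0)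

/-- Multisets with at most `k` parts between 2 and 8. -/
def enum : ℕ → List (Multiset ℕ)
  | 0 => [0]
  | k + 1 => 0 :: [2, 3, 4, 5, 6, 7, 8].flatMap fun a => (enum k).map (Multiset.cons a)

theorem mem_enum : ∀ (k : ℕ) (s : Multiset ℕ), Multiset.card s ≤ k → (∀ x ∈ s, 2 ≤ x ∧ x ≤ 8) → s ∈ enum k := by
  intro k
  induction k with
  | zero =>
    intro s hs _
    obtain rfl := Multiset.card_eq_zero.1 (Nat.le_zero.1 hs)
    simp [enum]
  | succ k ih =>
    intro s hs hx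
    rcases Multiset.empty_or_exists_mem s with rfl | ⟨a, ha⟩
    · simp [enum]
    obtain ⟨t, rfl⟩ := Multiset.exists_cons_of_mem ha
    rw [Multiset.card_cons] at hs
    have hat := hx a (Multiset.mem_cons_self _ _)
    refine List.mem_cons_of_mem _ (List.mem_flatMap.2 ⟨a, ?_, List.mem_map.2
      ⟨t, ih t (by omega) (fun x h => hx x (Multiset.mem_cons_of_mem h)), rfl⟩⟩)
    simp only [List.mem_cons, List.not_mem_nil, or_false]
    omega

theorem enum_types_all : (enum 4).all (fun s => decide (s.sum ≤ 8 → s ∈ types)) = true := by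
  decide +kernel

theorem enum_types (s : Multiset ℕ) (hs : s ∈ enum 4) : s.sum ≤ 8 → s ∈ types :=
  of_decide_eq_true (List.all_eq_true.1 enum_types_all s hs)

theorem exists_good (c : Equiv.Perm (Fin 8)) :
    ∃ g, IsConj c g ∧ Commute (g * c0 * g⁻¹) c0 := by
  have hsum : c.cycleType.sum ≤ 8 := by simpa using c.sum_cycleType_le
  have hge : ∀ x ∈ c.cycleType, 2 ≤ x := fun x hx => Equiv.Perm.two_le_of_mem_cycleType hx
  have hcard : Multiset.card c.cycleType ≤ 4 := by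
    have := Multiset.card_nsmul_le_sum hge
    simp only [smul_eq_mul] at this
    omega
  have hmem : c.cycleType ∈ reps.map Equiv.Perm.cycleType := reps_types.symm ▸
    enum_types _ (mem_enum 4 _ hcard fun x hx =>
      ⟨hge x hx, (Multiset.le_sum_of_mem hx).trans hsum⟩) hsum
  obtain ⟨g, hg, he⟩ := List.mem_map.1 hmem
  exact ⟨g, Equiv.Perm.isConj_iff_cycleType_eq.2 he.symm, reps_good g hg⟩


/-- In the symmetric group of degree 8, let A be the subgroup generated by a 3-cycle. Then every conjugacy class contains an element g for which A is subnormal in the subgroup generated by A and its conjugate by g, although O_3 of the symmetric group of degree 8 is trivial. -/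
theorem result
    (σ : Equiv.Perm (Fin 8)) (hσ : σ.IsThreeCycle) :
    (∀ c : Equiv.Perm (Fin 8), ∃ g : Equiv.Perm (Fin 8), IsConj c g ∧
      ((Subgroup.zpowers σ).subgroupOf (Subgroup.zpowers σ ⊔ MulAut.conj g • Subgroup.zpowers σ)).IsSubnormal) ∧
    Cfsg.pCore 3 (Equiv.Perm (Fin 8)) = ⊥ := by
  classical
  have hc3 : c0.IsThreeCycle := by
    rw [Equiv.Perm.IsThreeCycle]; decide +kernel
  obtain ⟨h, hh⟩ := isConj_iff.1
    (Equiv.Perm.isConj_iff_cycleType_eq.2 (hc3.trans hσ.symm))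
  refine ⟨fun c => ?_, ?_⟩
  · obtain ⟨g, hg, hgc⟩ := exists_good c
    refine ⟨h * g * h⁻¹, hg.trans (isConj_iff.2 ⟨h, rfl⟩), ?_⟩
    have hcomm : Commute ((h * g * h⁻¹) * σ * (h * g * h⁻¹)⁻¹) σ := by
      have e1 : (h * g * h⁻¹) * σ * (h * g * h⁻¹)⁻¹ = MulAut.conj h (g * c0 * g⁻¹) := by
        rw [← hh, MulAut.conj_apply]; group
      rw [e1, ← hh]
      exact hgc.map (MulAut.conj h).toMonoidHom
    set A := Subgroup.zpowers σ with hA
    refine Subgroup.Normal.isSubnormal ⟨fun x hx y => ?_⟩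
    have hle : A ⊔ MulAut.conj (h * g * h⁻¹) • A ≤ Subgroup.centralizer (A : Set (Equiv.Perm (Fin 8))) := by
      refine sup_le ?_ ?_
      · rintro _ ⟨i, rfl⟩ _ ⟨j, rfl⟩
        exact zpow_mul_comm σ j i
      · intro z hz
        rw [Subgroup.mem_pointwise_smul_iff_inv_smul_mem, ← map_inv, MulAut.smul_def] at hz
        obtain ⟨i, hi⟩ := hz
        have hz' : z = ((h * g * h⁻¹) * σ * (h * g * h⁻¹)⁻¹) ^ i := by
          have := congrArg (MulAut.conj (h * g * h⁻¹)) hi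
          simp only [map_zpow, MulAut.conj_apply] at this
          rw [this]; group
        subst hz'
        rintro _ ⟨j, rfl⟩
        exact ((hcomm.zpow_left i).zpow_right j).symm.eq
    rw [Subgroup.mem_subgroupOf] at hx ⊢
    rw [Subgroup.coe_mul, Subgroup.coe_mul, ← hle y.2 _ hx, Subgroup.coe_inv, mul_assoc,
      mul_inv_cancel, mul_one]
    exact hx
  · by_contra hne
    have hn : (Cfsg.pCore 3 (Equiv.Perm (Fin 8))).Normal := by
      exact CfsgLib.HallGen.pCore_normal' 3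
    have h3 := CfsgLib.HallGen.isPGroup_pCore (G := Equiv.Perm (Fin 8)) 3
    haveI := hn
    have hodd : ∀ x ∈ Cfsg.pCore 3 (Equiv.Perm (Fin 8)), x ∈ alternatingGroup (Fin 8) := by
      intro x hx
      obtain ⟨k, hk⟩ := h3 ⟨x, hx⟩
      have hk' : x ^ 3 ^ k = 1 := congrArg Subtype.val hk
      rw [Equiv.Perm.mem_alternatingGroup]
      have := congrArg Equiv.Perm.sign hk'
      rcases Int.units_eq_one_or (Equiv.Perm.sign x) with h | h
      · exact h
      · rw [map_pow, map_one, h, (Odd.pow (by decide : Odd 3)).neg_one_pow] at this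
        exact absurd this (by decide)
    haveI := alternatingGroup.isSimpleGroup (α := Fin 8) (by simp)
    haveI := hn.comap (alternatingGroup (Fin 8)).subtype
    rcases IsSimpleGroup.eq_bot_or_eq_top_of_normal
      ((Cfsg.pCore 3 (Equiv.Perm (Fin 8))).comap (alternatingGroup (Fin 8)).subtype) inferInstance with
      h | h
    · refine hne ((Subgroup.eq_bot_iff_forall _).2 fun x hx => ?_)
      exact congrArg Subtype.val ((Subgroup.eq_bot_iff_forall _).1 h ⟨x, hodd x hx⟩ hx)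
    · have hmem : tw ∈ Cfsg.pCore 3 (Equiv.Perm (Fin 8)) := by
        have ha : tw ∈ alternatingGroup (Fin 8) := by
          rw [Equiv.Perm.mem_alternatingGroup]; decide +kernel
        exact Subgroup.mem_comap.1 (h.symm ▸ Subgroup.mem_top (⟨_, ha⟩ : alternatingGroup (Fin 8)))
      obtain ⟨k, hk⟩ := h3 ⟨_, hmem⟩
      have hk' : (tw) ^ 3 ^ k = 1 := congrArg Subtype.val hk
      obtain ⟨m, hm⟩ : Odd (3 ^ k) := Odd.pow (by decide)
      rw [hm, pow_succ, pow_mul, show (tw) ^ 2 = 1 by decide +kernel, one_pow,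
        one_mul] at hk'
      exact absurd (congrArg (fun π : Equiv.Perm (Fin 8) => π 0) hk') (by decide +kernel)

end Cfsg.Agent.S4332
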