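import Cfsg.Statements.S4333
import Cfsg.Agent.Lib.Core.Zipper

set_option autoImplicit false
open Pointwise
open Cfsg

namespace Cfsg.Agent.S4333

open scoped Pointwise
open Subgroup CfsgLib.Core


/-- Let A be a subgroup of a finite group G. If A is subnormal in the subgroup generated by A and its conjugate by g⁻¹ a g, for every a ∈ A and every g ∈ G, then A is subnormal in G. (A sharpening of Wielandt's subnormality criterion: only conjugates of A by conjugates of elements of A are needed.) -/
theorem result {G : Type*} [Group G] [Finite G]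
    (A : Subgroup G)
    (h : ∀ a ∈ A, ∀ g : G, (A.subgroupOf (A ⊔ MulAut.conj (g⁻¹ * a * g) • A)).IsSubnormal) :
    A.IsSubnormal := by
  induction hn : Nat.card G using Nat.strong_induction_on generalizing G with
  | _ n ih =>
    subst hn
    by_contra hA
    have hsub : ∀ H : Subgroup G, A ≤ H → H ≠ ⊤ → (A.subgroupOf H).IsSubnormal := by
      intro H hAH hH
      refine ih _ (card_subgroup_lt H hH) (G := H) (A.subgroupOf H) (fun a ha g => ?_) rfl
      generalize hgd : g⁻¹ * a * g = d
      have hd : (d : G) = (g : G)⁻¹ * (a : G) * (g : G) := by rw [← hgd]; simp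
      have hdA := h (a : G) (mem_subgroupOf.mp ha) (g : G)
      rw [← hd] at hdA
      have hcj : MulAut.conj (d : G) • A ≤ H := conj_smul_le_of_le hAH d
      have e : A.subgroupOf H ⊔ MulAut.conj d • A.subgroupOf H =
          (A ⊔ MulAut.conj (d : G) • A).subgroupOf H := by
        rw [conj_smul_subgroupOf hAH d, subgroupOf_sup hAH hcj]
      rw [e]
      generalize hK : A ⊔ MulAut.conj (d : G) • A = K
      have hKH : K ≤ H := hK ▸ sup_le hAH hcj
      have h1 := CfsgLib.Components.isSubnormal_map_equiv (subgroupOfEquivOfLe hKH).symm (hK ▸ hdA)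
      convert h1 using 1
      ext ⟨⟨y, hy⟩, hyK⟩
      simp only [mem_subgroupOf, mem_map]
      constructor
      · intro hyA
        exact ⟨⟨y, mem_subgroupOf.mp hyK⟩, hyA, rfl⟩
      · rintro ⟨z, hz, hzy⟩
        have h3 := congrArg Subtype.val (congrArg Subtype.val hzy)
        simp only at h3
        subst h3
        exact hz
    obtain ⟨M, hM, huniq⟩ := zipper hsub hA
    have key : ∀ a ∈ A, ∀ g : G, g⁻¹ * a * g ∈ normalizer (M : Set G) := by
      intro a ha g
      have hs := h a ha g
      set d := g⁻¹ * a * g
      have hle : MulAut.conj d • A ≤ M := by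
        by_cases ht : A ⊔ MulAut.conj d • A = ⊤
        · refine absurd (IsSubnormal.trans le_sup_left hs ?_) hA
          rw [ht]
          exact IsSubnormal.top
        · obtain h0 | ⟨X, hX, hle⟩ := eq_top_or_exists_le_coatom (A ⊔ MulAut.conj d • A)
          · exact absurd h0 ht
          · exact huniq X hX (le_sup_left.trans hle) ▸ le_sup_right.trans hle
      have h2 : A ≤ MulAut.conj d⁻¹ • M := by
        rw [map_inv, ← pointwise_smul_subset_iff]; exact hle
      have hne : MulAut.conj d⁻¹ • M ≠ ⊤ := fun hc => hM.1 ((card_eq_iff_eq_top M).mp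
        (by rw [← card_conj_smul d⁻¹ M, hc, Subgroup.card_top]))
      obtain h0 | ⟨X, hX, hXle⟩ := eq_top_or_exists_le_coatom (MulAut.conj d⁻¹ • M)
      · exact absurd h0 hne
      · rw [huniq X hX (h2.trans hXle)] at hXle
        rw [← inv_mem_iff, mem_normalizer_iff_conj_smul_eq]
        exact eq_of_le_of_card_ge hXle (card_conj_smul _ M).ge
    have hNM : ¬ M.Normal := fun hn => hA (by
      obtain h0 | ⟨X, hX, hle⟩ := eq_top_or_exists_le_coatom A
      · rw [h0]; exact IsSubnormal.top
      · have hAM : A ≤ M := huniq X hX hle ▸ hle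
        exact IsSubnormal.trans hAM (hsub M hAM hM.1) hn.isSubnormal)
    have hNeq : normalizer (M : Set G) = M :=
      (hM.le_iff.1 le_normalizer).resolve_left fun hc => hNM (normalizer_eq_top_iff.1 hc)
    have hS : normalClosure (A : Set G) ≤ M := by
      rw [normalClosure, closure_le]
      intro c hc
      obtain ⟨a, ha, hac⟩ := Group.mem_conjugatesOfSet_iff.1 hc
      obtain ⟨k, rfl⟩ := isConj_iff.1 hac
      have h3 := key a ha k⁻¹
      rw [inv_inv, hNeq] at h3
      exact h3
    exact hA (IsSubnormal.trans le_normalClosure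
      (hsub _ le_normalClosure fun hc => hM.1 (top_unique (hc ▸ hS)))
      (normalClosure_normal : (normalClosure (A : Set G)).Normal).isSubnormal)
end Cfsg.Agent.S4333
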