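import Cfsg.Statements.S4334
import Cfsg.Agent.Lib.Transfer.Fusion
import Cfsg.Agent.Lib.OddLocal.CosetFibres
-- import your own Cfsg.Agent.* helpers here

set_option autoImplicit false
open Cfsg

namespace Cfsg.Agent.S4334

/-- Let σ and τ be disjoint sets of primes with union π. Suppose a finite group G has a Hall π-subgroup H which is the direct product of a nilpotent σ-subgroup and a τ-subgroup (two elementwise-commuting subgroups generating H), and that the maximal τ-subgroups of G are pairwise conjugate. Then the maximal π-subgroups of G are pairwise conjugate. -/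
theorem result {G : Type*} [Group G] [Finite G]
    (σ τ π : Set ℕ) (hπ : π = σ ∪ τ) (hd : Disjoint σ τ) (H Hs Ht : Subgroup G) (hH : Cfsg.IsPiHall π H)
    (hs : Cfsg.IsPiSubgroup σ Hs) (ht : Cfsg.IsPiSubgroup τ Ht) (hsn : Group.IsNilpotent Hs)
    (hjoin : Hs ⊔ Ht = H) (hcomm : ∀ a ∈ Hs, ∀ b ∈ Ht, a * b = b * a) (hD : Cfsg.IsDPiGroup τ G) :
    Cfsg.IsDPiGroup π G := by
  subst hπ
  have hsH : Hs ≤ H := hjoin ▸ le_sup_left
  have htH : Ht ≤ H := hjoin ▸ le_sup_right
  have hcen : Hs ≤ Subgroup.centralizer (Ht : Set G) := fun a ha =>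
    Subgroup.mem_centralizer_iff.mpr fun b hb => (hcomm a ha b hb).symm
  have hnorm : Hs ≤ Subgroup.normalizer (Ht : Set G) := hcen.trans (Subgroup.centralizer_le_normalizer _)
  -- orders of the two factors
  have hdvd : Nat.card H ∣ Nat.card Hs * Nat.card Ht := by
    rw [← hjoin]
    exact CfsgLib.Core.card_sup_dvd Hs Ht hnorm
  have hidx : ∀ r : ℕ, r.Prime → r ∈ σ ∪ τ → (r ∣ Nat.card Hs → ¬ r ∣ Hs.index) ∧
      (r ∈ τ → ¬ r ∣ Ht.index) := by
    intro r hr hrπ
    have key : ∀ {A B : Subgroup G}, A ≤ H → Nat.card H ∣ Nat.card A * Nat.card B → ¬ r ∣ Nat.card B →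
        ¬ r ∣ A.index := by
      intro A B hA hAB hB hd
      rw [← Subgroup.relIndex_mul_index hA] at hd
      rcases hr.dvd_mul.mp hd with h | h
      · have h1 : Nat.card A * A.relIndex H = Nat.card H := by
          rw [← Subgroup.relIndex_bot_left A, Subgroup.relIndex_mul_relIndex ⊥ A H bot_le hA,
            Subgroup.relIndex_bot_left]
        exact hB (h.trans (Nat.dvd_of_mul_dvd_mul_left Nat.card_pos (h1 ▸ hAB)))
      · exact hH.2 r hr hrπ h
    exact ⟨fun h1 => key hsH hdvd fun h2 => Set.disjoint_left.mp hd (hs r hr h1) (ht r hr h2),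
      fun h1 => key htH (by rwa [mul_comm]) fun h2 => Set.disjoint_left.mp hd (hs r hr h2) h1⟩
  have hHπ : Cfsg.IsPiSubgroup (σ ∪ τ) H := hH.1
  suffices main : ∀ n : ℕ, ∀ L : Subgroup G, Nat.card L = n → Cfsg.IsPiSubgroup (σ ∪ τ) L →
      ∃ g : G, L ≤ H.map (MulAut.conj g).toMonoidHom by
    intro A B hA hB
    have hmax : ∀ C : Subgroup G, Maximal (Cfsg.IsPiSubgroup (σ ∪ τ)) C →
        ∃ g : G, C = H.map (MulAut.conj g).toMonoidHom := by
      intro C hC
      obtain ⟨g, hg⟩ := main _ C rfl hC.1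
      refine ⟨g, le_antisymm hg (hC.2 (fun r hr hd => hHπ r hr ?_) hg)⟩
      rwa [CfsgLib.Transfer.card_map_conj] at hd
    obtain ⟨a, rfl⟩ := hmax A hA
    obtain ⟨b, rfl⟩ := hmax B hB
    exact ⟨b * a⁻¹, by rw [CfsgLib.OddLocal.Support.map_conj_mul, inv_mul_cancel_right]⟩
  intro n
  induction n using Nat.strongRecOn with
  | ind n ih =>
  intro L hn hL
  by_cases hτ : Cfsg.IsPiSubgroup τ L
  · have hHt : Maximal (Cfsg.IsPiSubgroup τ) Ht := by
      refine ⟨ht, fun T hT hle => ?_⟩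
      refine Subgroup.relIndex_eq_one.mp (by_contra fun hne => ?_)
      obtain ⟨r, hr, hrd⟩ := Nat.exists_prime_and_dvd hne
      have hrT : r ∈ τ := hT r hr (hrd.trans (Subgroup.relIndex_dvd_card Ht T))
      exact (hidx r hr (Or.inr hrT)).2 hrT (hrd.trans (Subgroup.relIndex_dvd_index_of_le hle))
    obtain ⟨T, hLT, hT⟩ := (Set.toFinite {X : Subgroup G | Cfsg.IsPiSubgroup τ X}).exists_le_maximal hτ
    obtain ⟨g, rfl⟩ := hD Ht T hHt hT
    exact ⟨g, hLT.trans (Subgroup.map_mono htH)⟩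
  obtain ⟨q, hq, hqL, hqτ⟩ : ∃ q : ℕ, q.Prime ∧ q ∣ Nat.card L ∧ q ∉ τ := by
    simpa [Cfsg.IsPiSubgroup] using hτ
  have := Fact.mk hq
  have hqσ : q ∈ σ := (hL q hq hqL).resolve_right hqτ
  -- a Sylow subgroup of `G` inside `Hs`
  obtain ⟨Q₀⟩ : Nonempty (Sylow q Hs) := inferInstance
  set Q := (Q₀ : Subgroup Hs).map Hs.subtype with hQdef
  have hQp : IsPGroup q Q := Q₀.2.map _
  have hQidx : ¬ q ∣ Q.index := by
    rw [← Subgroup.relIndex_mul_index (Subgroup.map_subtype_le (Q₀ : Subgroup Hs))]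
    intro h
    rcases hq.dvd_mul.mp h with h1 | h1
    · rw [Subgroup.relIndex, Subgroup.subgroupOf, Subgroup.comap_map_eq_self_of_injective Hs.subtype_injective] at h1
      exact Q₀.not_dvd_index h1
    · have h2 : q ∣ Nat.card Hs := by
        by_contra h2
        have h3 : q ∣ Nat.card H := by
          by_contra h3
          have h4 : q ∣ Nat.card G := hqL.trans (Subgroup.card_subgroup_dvd_card L)
          rw [← H.card_mul_index] at h4
          exact hH.2 q hq (Or.inl hqσ) ((hq.dvd_mul.mp h4).resolve_left h3)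
        rcases hq.dvd_mul.mp (h3.trans hdvd) with h4 | h4
        · exact h2 h4
        · exact hqτ (ht q hq h4)
      exact (hidx q hq (Or.inl hqσ)).1 h2 h1
  -- elements of `H` of order prime to `q` centralize `Q`
  have hQcent : ∀ h ∈ H, ¬ q ∣ orderOf h → h ∈ Subgroup.centralizer (Q : Set G) := by
    intro h hh hnd
    rw [← hjoin] at hh
    obtain ⟨a, ha, b, hb, rfl⟩ := (CfsgLib.OddLocal.mem_sup_of_le_normalizer hnorm).mp (sup_comm Hs Ht ▸ hh)
    have hab : Commute a b := (hcomm b hb a ha).symm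
    have hcop : (orderOf a).Coprime (orderOf b) := Nat.coprime_of_dvd fun r hr h1 h2 =>
      Set.disjoint_left.mp hd (hs r hr (h2.trans (Hs.orderOf_dvd_natCard hb)))
        (ht r hr (h1.trans (Ht.orderOf_dvd_natCard ha)))
    rw [hab.orderOf_mul_eq_mul_orderOf_of_coprime hcop] at hnd
    refine mul_mem (Subgroup.mem_centralizer_iff.mpr fun y hy => ?_) (Subgroup.mem_centralizer_iff.mpr fun y hy => ?_)
    · exact hcomm y (Subgroup.map_subtype_le _ hy) a ha
    · refine CfsgLib.OddLocal.commute_of_mem_nilpotent hsn (Subgroup.map_subtype_le _ hy) hb ?_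
      obtain ⟨j, hj⟩ := IsPGroup.iff_orderOf.mp hQp ⟨y, hy⟩
      rw [Subgroup.orderOf_mk] at hj
      rw [hj]
      exact Nat.Coprime.pow_left j (hq.coprime_iff_not_dvd.mpr fun h => hnd (h.mul_left _))
  have hCQ : ∀ r : ℕ, r.Prime → r ∈ σ ∪ τ → r ≠ q → ¬ r ∣ (Subgroup.centralizer (Q : Set G)).index := by
    intro r hr hrπ hrq hd'
    have := Fact.mk hr
    obtain ⟨R₀⟩ : Nonempty (Sylow r H) := inferInstance
    have hle : (R₀ : Subgroup H).map H.subtype ≤ Subgroup.centralizer (Q : Set G) := by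
      rintro _ ⟨x, hx, rfl⟩
      refine hQcent _ x.2 fun h => ?_
      obtain ⟨j, hj⟩ := IsPGroup.iff_orderOf.mp R₀.2 ⟨x, hx⟩
      rw [Subgroup.orderOf_mk] at hj
      rw [Subgroup.coe_subtype, Subgroup.orderOf_coe, hj] at h
      exact hrq ((Nat.prime_dvd_prime_iff_eq hq hr).mp (hq.dvd_of_dvd_pow h)).symm
    have h1 := hd'.trans (Subgroup.index_dvd_of_le hle)
    rw [← Subgroup.relIndex_mul_index (Subgroup.map_subtype_le (R₀ : Subgroup H))] at h1
    rcases hr.dvd_mul.mp h1 with h2 | h2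
    · rw [Subgroup.relIndex, Subgroup.subgroupOf, Subgroup.comap_map_eq_self_of_injective H.subtype_injective] at h2
      exact R₀.not_dvd_index h2
    · exact hH.2 r hr hrπ h2
  -- an element normalizing `X` centralizes it when the index of `C(X)` avoids its primes
  have hfix : ∀ (X : Subgroup G) (x : G), x ∈ Subgroup.normalizer (X : Set G) →
      (∀ r : ℕ, r.Prime → r ∣ orderOf x → ¬ r ∣ (Subgroup.centralizer (X : Set G)).index) →
      x ∈ Subgroup.centralizer (X : Set G) := by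
    intro X x hx hr
    set C := Subgroup.centralizer (X : Set G) with hC
    set N := Subgroup.normalizer (X : Set G) with hN
    have hCN : C ≤ N := Subgroup.centralizer_le_normalizer _
    have : (C.subgroupOf N).Normal := (Subgroup.normal_subgroupOf_iff_le_normalizer hCN).mpr
      (CfsgLib.Transfer.normalizer_le_normalizer_centralizer X)
    have h1 : x ^ (C.subgroupOf N).index ∈ C := Subgroup.mem_subgroupOf.mp (Subgroup.pow_index_mem _ (⟨x, hx⟩ : N))
    have hcop : ((C.subgroupOf N).index).Coprime (orderOf x) := Nat.coprime_of_dvd fun r hr' h2 h3 =>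
      hr r hr' h3 (h2.trans (Dvd.intro _ (Subgroup.relIndex_mul_index hCN)))
    obtain ⟨m, hm⟩ := exists_pow_eq_self_of_coprime hcop
    exact hm ▸ pow_mem h1 m
  -- a normal `q`-complement
  obtain ⟨P⟩ : Nonempty (Sylow q L) := inferInstance
  obtain ⟨S, hS⟩ := (P.2.map L.subtype).exists_le_sylow
  obtain ⟨Qs, hQs⟩ : ∃ Qs : Sylow q G, (Qs : Subgroup G) = Q := ⟨hQp.toSylow hQidx, rfl⟩
  obtain ⟨P', K, hKn, hKc⟩ : Cfsg.HasNormalPComplement q L := by
    refine CfsgLib.Transfer.hasNormalPComplement_of_centralizes P fun R hR x hx hcop => ?_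
    obtain ⟨c, hc⟩ := MulAction.exists_smul_eq G Qs S
    set R' := R.map L.subtype with hR'
    have hRc : R'.map (MulAut.conj c⁻¹).toMonoidHom ≤ Q := fun y hy => by
      obtain ⟨z, hz, rfl⟩ := hy
      have hzS : z ∈ (S : Subgroup G) := hS (Subgroup.map_mono hR hz)
      rw [← hc, CfsgLib.Transfer.mem_sylow_smul] at hzS
      rw [← hQs]
      simpa using hzS
    have hx' : (x : G) ∈ Subgroup.normalizer (R' : Set G) :=
      Subgroup.le_normalizer_map L.subtype ⟨x, hx, rfl⟩
    refine Subgroup.mem_centralizer_iff.mpr fun y hy => Subtype.ext ?_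
    refine Subgroup.mem_centralizer_iff.mp (hfix R' x hx' fun r hr hrd hd' => ?_) y ⟨y, hy, rfl⟩
    have hrq : r ≠ q := fun e => by
      rw [Subgroup.orderOf_coe] at hrd
      exact hq.ne_one (Nat.eq_one_of_dvd_coprimes hcop (e ▸ hrd) dvd_rfl)
    refine hCQ r hr (hL r hr (hrd.trans (L.orderOf_dvd_natCard x.2))) hrq ?_
    have hle : (Subgroup.centralizer (Q : Set G)).map (MulAut.conj c).toMonoidHom ≤
        Subgroup.centralizer (R' : Set G) := by
      rintro _ ⟨z, hz, rfl⟩
      refine Subgroup.mem_centralizer_iff.mpr fun w hw => ?_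
      have h2 := Subgroup.mem_centralizer_iff.mp hz _ (hRc ⟨w, hw, rfl⟩)
      simp only [MulEquiv.coe_toMonoidHom, MulAut.conj_apply, inv_inv] at h2 ⊢
      calc w * (c * z * c⁻¹) = c * ((c⁻¹ * w * c) * z) * c⁻¹ := by group
        _ = c * (z * (c⁻¹ * w * c)) * c⁻¹ := by rw [h2]
        _ = c * z * c⁻¹ * w := by group
    have h3 := hd'.trans (Subgroup.index_dvd_of_le hle)
    exact (h3.trans (dvd_of_eq (Subgroup.index_map_equiv _ (MulAut.conj c))))
  -- the complement lies in a conjugate of `H`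
  set K' := K.map L.subtype with hK'
  have hqK : ¬ q ∣ Nat.card K' := by
    rw [Subgroup.card_map_of_injective L.subtype_injective, ← hKc.index_eq_card]
    exact P'.not_dvd_index
  have hK'L : K' ≤ L := Subgroup.map_subtype_le _
  obtain ⟨g, hg⟩ := ih (Nat.card K') (hn ▸ lt_of_le_of_ne (Subgroup.card_le_of_le hK'L)
    fun e => hqK (e ▸ hqL)) K' rfl fun r hr hd' => hL r hr (hd'.trans (Subgroup.card_dvd_of_le hK'L))
  have hQg : Q.map (MulAut.conj g).toMonoidHom ≤ Subgroup.centralizer (K' : Set G) := by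
    rintro _ ⟨y, hy, rfl⟩
    refine Subgroup.mem_centralizer_iff.mpr fun w hw => ?_
    have h1 : g⁻¹ * w * g ∈ H := CfsgLib.Transfer.mem_map_conj.mp (hg hw)
    have h2 := hQcent _ h1 fun h => hqK (h.trans (by
      have : orderOf (g⁻¹ * w * g) = orderOf w := by
        simpa using orderOf_injective (MulAut.conj g⁻¹).toMonoidHom (MulAut.conj g⁻¹).injective w
      rw [this]
      exact K'.orderOf_dvd_natCard hw))
    have h3 := Subgroup.mem_centralizer_iff.mp h2 y hy
    simp only [MulEquiv.coe_toMonoidHom, MulAut.conj_apply]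
    calc w * (g * y * g⁻¹) = g * ((g⁻¹ * w * g) * y) * g⁻¹ := by group
      _ = g * (y * (g⁻¹ * w * g)) * g⁻¹ := by rw [h3]
      _ = g * y * g⁻¹ * w := by group
  set C := Subgroup.centralizer (K' : Set G) with hC
  have hQgi : ¬ q ∣ (Q.map (MulAut.conj g).toMonoidHom).relIndex C := fun h => by
    refine hQidx ?_
    rw [← Subgroup.index_map_equiv Q (MulAut.conj g)]
    exact h.trans (Dvd.intro _ (Subgroup.relIndex_mul_index hQg))
  set P₁ := (P' : Subgroup L).map L.subtype with hP₁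
  have hPC : P₁ ≤ C := by
    intro x hx
    refine hfix K' x ?_ fun r hr hrd hd' => ?_
    · obtain ⟨z, -, rfl⟩ := hx
      exact Subgroup.le_normalizer_map L.subtype
        ⟨z, CfsgLib.Core.le_normalizer_of_normal ⊤ K (Subgroup.mem_top _), rfl⟩
    · obtain ⟨j, hj⟩ := IsPGroup.iff_orderOf.mp (P'.2.map L.subtype) ⟨x, hx⟩
      rw [Subgroup.orderOf_mk] at hj
      rw [hj] at hrd
      rw [(Nat.prime_dvd_prime_iff_eq hr hq).mp (hr.dvd_of_dvd_pow hrd)] at hd'
      have h4 := hd'.trans (Subgroup.index_dvd_of_le hQg)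
      exact hQidx (h4.trans (dvd_of_eq (Subgroup.index_map_equiv _ (MulAut.conj g))))
  obtain ⟨U, hU⟩ := ((P'.2.map L.subtype).comap_subtype (K := C)).exists_le_sylow
  set V : Sylow q C := ((hQp.map (MulAut.conj g).toMonoidHom).comap_subtype (K := C)).toSylow hQgi
  obtain ⟨c, hc⟩ := MulAction.exists_smul_eq C V U
  refine ⟨(c : G) * g, ?_⟩
  rw [← CfsgLib.OddLocal.Support.map_conj_mul]
  have hLsup : L ≤ K' ⊔ P₁ := by
    rw [hK', hP₁, ← Subgroup.map_sup, hKc.sup_eq_top, ← MonoidHom.range_eq_map, Subgroup.range_subtype]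
  refine hLsup.trans (sup_le (fun x hx => CfsgLib.Transfer.mem_map_conj.mpr ?_) fun x hx => ?_)
  · have h1 := Subgroup.mem_centralizer_iff.mp c.2 x hx
    have h2 : (c : G)⁻¹ * x * (c : G) = x := by
      rw [mul_assoc, h1, ← mul_assoc, inv_mul_cancel, one_mul]
    rw [h2]
    exact hg hx
  · have hxU : (⟨x, hPC hx⟩ : C) ∈ (U : Subgroup C) := hU (show x ∈ P₁ from hx)
    rw [← hc, CfsgLib.Transfer.mem_sylow_smul] at hxU
    refine CfsgLib.Transfer.mem_map_conj.mpr (Subgroup.map_mono (show Q ≤ H from (Subgroup.map_subtype_le _).trans hsH) ?_)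
    have h5 : ((c⁻¹ * ⟨x, hPC hx⟩ * c : C) : G) ∈ Q.map (MulAut.conj g).toMonoidHom := by
      exact hxU
    simpa using h5

end Cfsg.Agent.S4334
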