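import Cfsg.Statements.S4337
import Cfsg.Agent.Lib.Char.Burnside

set_option autoImplicit false
open Cfsg
open scoped Pointwise

namespace Cfsg.Agent.S4337

open Equiv.Perm in
/-- A group of permutations moving at most four points is solvable. -/
theorem solvable_of_support {n : ℕ} (S : Set (Equiv.Perm (Fin n))) (T : Finset (Fin n)) (hT : T.card ≤ 4)
    (h : ∀ s ∈ S, (Equiv.Perm.support s) ⊆ T) : Group.IsSolvable (Subgroup.closure S) := by
  have hle : Subgroup.closure S ≤ (Equiv.Perm.ofSubtype : Equiv.Perm {x // x ∈ T} →* Equiv.Perm (Fin n)).range := by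
    rw [Subgroup.closure_le]
    intro s hs
    refine ⟨s.subtypePerm (fun x => ?_), Equiv.Perm.ofSubtype_subtypePerm _ (fun x hx => h s hs (Equiv.Perm.mem_support.2 hx))⟩
    constructor
    · intro hx
      by_cases hsx : s x = x
      · rwa [hsx] at hx
      · exact h s hs (Equiv.Perm.mem_support.2 hsx)
    · intro hx
      by_cases hsx : s x = x
      · rwa [hsx]
      · exact h s hs (Equiv.Perm.apply_mem_support.2 (Equiv.Perm.mem_support.2 hsx))
  have hd : Nat.card (Subgroup.closure S) ∣ 2 ^ 3 * 3 ^ 1 := by
    refine (Subgroup.card_dvd_of_le hle).trans ?_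
    refine (Subgroup.card_range_dvd _).trans ?_
    rw [Nat.card_perm, Nat.card_eq_fintype_card, Fintype.card_coe]
    exact (Nat.factorial_dvd_factorial hT).trans (by norm_num [Nat.factorial])
  obtain ⟨d₁, d₂, h₁, h₂, he⟩ := exists_dvd_and_dvd_of_dvd_mul hd
  obtain ⟨a, -, rfl⟩ := (Nat.dvd_prime_pow Nat.prime_two).1 h₁
  obtain ⟨b, -, rfl⟩ := (Nat.dvd_prime_pow Nat.prime_three).1 h₂
  exact CfsgLib.Burnside.isSolvable_of_card_eq Nat.prime_two Nat.prime_three he

/-- Adjoining an element commuting with a solvable group. -/
theorem solvable_insert {G : Type*} [Group G] (S : Set G) (z : G) (hS : Group.IsSolvable (Subgroup.closure S))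
    (hz : ∀ s ∈ S, Commute s z) : Group.IsSolvable (Subgroup.closure (insert z S)) := by
  have hle : Subgroup.closure S ≤ Subgroup.centralizer ({z} : Set G) := by
    rw [Subgroup.closure_le]
    intro s hs
    exact Subgroup.mem_centralizer_singleton_iff.2 (hz s hs)
  have hcomm : ∀ (s : Subgroup.closure S) (w : Subgroup.zpowers z),
      Commute ((Subgroup.closure S).subtype s) ((Subgroup.zpowers z).subtype w) := by
    rintro ⟨s, hs⟩ ⟨w, i, rfl⟩
    exact ((show Commute s z from Subgroup.mem_centralizer_singleton_iff.1 (hle hs))).zpow_right i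
  haveI := hS
  haveI : Group.IsSolvable (Subgroup.zpowers z) :=
    Group.isSolvable_of_comm fun a b => Subtype.ext (by
      obtain ⟨i, hi⟩ := a.2; obtain ⟨j, hj⟩ := b.2
      simp only [Subgroup.coe_mul, ← hi, ← hj, ← zpow_add, add_comm])
  let F := ((Subgroup.closure S).subtype).noncommCoprod (Subgroup.zpowers z).subtype hcomm
  haveI : Group.IsSolvable F.range := Group.isSolvable_of_surjective F.rangeRestrict_surjective
  have hle2 : Subgroup.closure (insert z S) ≤ F.range := by
    rw [MonoidHom.noncommCoprod_range, Subgroup.range_subtype, Subgroup.range_subtype, Subgroup.closure_le]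
    rintro s (rfl | hs)
    · exact Subgroup.mem_sup_right (Subgroup.mem_zpowers _)
    · exact Subgroup.mem_sup_left (Subgroup.subset_closure hs)
  exact Group.isSolvable_of_isSolvable_injective (Subgroup.inclusion_injective hle2)

/-- Two of three transpositions. -/
theorem solvable_pair {n : ℕ} {u v : Equiv.Perm (Fin n)} (hu : u.IsSwap) (hv : v.IsSwap) :
    Group.IsSolvable (Subgroup.closure ({u, v} : Set (Equiv.Perm (Fin n)))) := by
  refine solvable_of_support _ (u.support ∪ v.support) ?_ ?_
  · refine (Finset.card_union_le _ _).trans ?_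
    rw [Equiv.Perm.card_support_eq_two.2 hu, Equiv.Perm.card_support_eq_two.2 hv]
  · rintro s (rfl | rfl)
    · exact Finset.subset_union_left
    · exact Finset.subset_union_right

/-- If `w` is disjoint from `u` and `v`. -/
theorem solvable_disjoint {n : ℕ} {u v w : Equiv.Perm (Fin n)} (hu : u.IsSwap) (hv : v.IsSwap)
    (h1 : Disjoint u.support w.support) (h2 : Disjoint v.support w.support) :
    Group.IsSolvable (Subgroup.closure ({w, u, v} : Set (Equiv.Perm (Fin n)))) := by
  refine solvable_insert _ w (solvable_pair hu hv) ?_
  rintro s (rfl | rfl)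
  · exact (Equiv.Perm.disjoint_iff_disjoint_support.2 h1).commute
  · exact (Equiv.Perm.disjoint_iff_disjoint_support.2 h2).commute

/-- In a finite symmetric group, any three transpositions generate a solvable subgroup. -/
theorem result (n : ℕ) (a b c : Equiv.Perm (Fin n))
    (ha : a.IsSwap) (hb : b.IsSwap) (hc : c.IsSwap) :
    Group.IsSolvable (Subgroup.closure ({a, b, c} : Set (Equiv.Perm (Fin n)))) := by
  by_cases h1 : Disjoint a.support b.support ∧ Disjoint a.support c.support
  · exact solvable_disjoint hb hc h1.1.symm h1.2.symm
  by_cases h2 : Disjoint b.support a.support ∧ Disjoint b.support c.support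
  · have := solvable_disjoint ha hc h2.1.symm h2.2.symm
    rwa [show ({b, a, c} : Set (Equiv.Perm (Fin n))) = {a, b, c} from Set.insert_comm _ _ _] at this
  by_cases h3 : Disjoint c.support a.support ∧ Disjoint c.support b.support
  · have := solvable_disjoint ha hb h3.1.symm h3.2.symm
    rwa [show ({c, a, b} : Set (Equiv.Perm (Fin n))) = {a, b, c} by ext; simp; tauto] at this
  have e : ∀ {u : Equiv.Perm (Fin n)}, u.IsSwap → u.support.card = 2 :=
    fun hu => Equiv.Perm.card_support_eq_two.2 hu
  have meet : ∀ {U V : Finset (Fin n)}, ¬ Disjoint U V → 1 ≤ (U ∩ V).card := fun h =>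
    Finset.card_pos.2 (Finset.not_disjoint_iff_nonempty_inter.1 h)
  have hA := e ha
  have hB := e hb
  have hC := e hc
  refine solvable_of_support _ (a.support ∪ b.support ∪ c.support) ?_ ?_
  · have k1 := Finset.card_union_add_card_inter a.support b.support
    have k2 := Finset.card_union_add_card_inter (a.support ∪ b.support) c.support
    have hab : ¬ Disjoint a.support b.support ∨ (¬ Disjoint a.support c.support ∧ ¬ Disjoint b.support c.support) := by
      rw [disjoint_comm (a := b.support) (b := a.support)] at h2
      tauto
    rcases hab with hab | ⟨hac, hbc⟩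
    · have := meet hab
      have hc2 : 1 ≤ ((a.support ∪ b.support) ∩ c.support).card := by
        apply meet
        rw [Finset.disjoint_union_left]
        rw [disjoint_comm (a := c.support), disjoint_comm (a := c.support)] at h3
        exact h3
      omega
    · by_cases hab : Disjoint a.support b.support
      · have h5 : 2 ≤ ((a.support ∪ b.support) ∩ c.support).card := by
          rw [Finset.union_inter_distrib_right, Finset.card_union_of_disjoint
            (hab.mono Finset.inter_subset_left Finset.inter_subset_left)]
          have := meet hac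
          have := meet hbc
          omega
        omega
      · have := meet hab
        have hc2 : 1 ≤ ((a.support ∪ b.support) ∩ c.support).card :=
          meet (fun h => hac (Finset.disjoint_union_left.1 h).1)
        omega
  · rintro s (rfl | rfl | rfl) x hx <;> simp [hx]
end Cfsg.Agent.S4337
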