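import Cfsg.Statements.S4343
import Cfsg.Agent.Lib.Core.Basic
import Cfsg.Agent.Lib.Core.Cores

set_option autoImplicit false
open Cfsg

namespace Cfsg.Agent.S4343

open scoped Pointwise


/-- Let S be a finite non-abelian simple group and p a prime dividing its order. If S has fewer than p² Sylow p-subgroups, then its Sylow p-subgroups have order p. -/
theorem result {S : Type*} [Group S] [Finite S]
    [IsSimpleGroup S] (hS : ¬ IsMulCommutative S) (p : ℕ) [Fact p.Prime] (hp : p ∣ Nat.card S)
    (hn : Nat.card (Sylow p S) < p ^ 2) (P : Sylow p S) : Nat.card P = p := by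
  classical
  have hpp : p.Prime := Fact.out
  have hcardeq : ∀ Q : Sylow p S, Nat.card Q = Nat.card P := fun Q => by
    rw [Q.card_eq_multiplicity, P.card_eq_multiplicity]
  have hPne : (P : Subgroup S) ≠ ⊥ := P.ne_bot_of_dvd_card hp
  have hcore : pCore p S = ⊥ := by
    refine ((inferInstance : (pCore p S).Normal).eq_bot_or_eq_top).resolve_right fun h => hS ?_
    have hS' : IsPGroup p S := by
      have h1 := CfsgLib.Core.isPGroup_pCore p S
      rw [h] at h1
      exact h1.of_equiv Subgroup.topEquiv
    haveI := hS'.isNilpotent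
    exact isMulCommutative_iff.2 (IsSimpleGroup.comm_iff_isSolvable.2 inferInstance)
  -- index at most `p`
  have hidx : ∀ A Q : Sylow p S, ((A : Subgroup S) ⊓ Q).relIndex A ∣ p := by
    intro A Q
    by_cases hAQ : A = Q
    · subst hAQ; simp
    have hst : MulAction.stabilizer (A : Subgroup S) Q = ((A : Subgroup S) ⊓ Q).subgroupOf A := by
      ext ⟨a, ha⟩
      have hAN : (A : Subgroup S) ⊓ Subgroup.normalizer ((Q : Subgroup S) : Set S) =
          (A : Subgroup S) ⊓ Q := A.isPGroup'.inf_normalizer_sylow Q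
      rw [MulAction.mem_stabilizer_iff, Subgroup.mem_subgroupOf]
      show a • Q = Q ↔ a ∈ (A : Subgroup S) ⊓ Q
      rw [Sylow.smul_eq_iff_mem_normalizer, ← hAN]
      exact ⟨fun h => ⟨ha, h⟩, fun h => h.2⟩
    have hlt : Nat.card (MulAction.orbit (A : Subgroup S) Q) < p ^ 2 := by
      refine lt_of_le_of_lt ?_ hn
      exact Nat.card_le_card_of_injective Subtype.val Subtype.val_injective
    have hi : (MulAction.stabilizer (A : Subgroup S) Q).index < p ^ 2 := by
      rw [MulAction.index_stabilizer, ← Nat.card_coe_set_eq]; exact hlt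
    obtain ⟨k, hk⟩ := A.isPGroup'.index (MulAction.stabilizer (A : Subgroup S) Q)
    rw [Subgroup.relIndex, ← hst]
    rw [hk] at hi ⊢
    have : k < 2 := (Nat.pow_lt_pow_iff_right hpp.one_lt).1 hi
    interval_cases k <;> simp
  -- commutativity
  have hab : ∀ A : Sylow p S, ∀ a ∈ (A : Subgroup S), ∀ b ∈ (A : Subgroup S), a * b = b * a := by
    intro A a ha b hb
    have key : ∀ Q : Sylow p S, a * b * a⁻¹ * b⁻¹ ∈ (Q : Subgroup S) := by
      intro Q
      set D := ((A : Subgroup S) ⊓ Q).subgroupOf A
      suffices h : (⟨a, ha⟩ * ⟨b, hb⟩ * (⟨a, ha⟩ : (A : Subgroup S))⁻¹ * (⟨b, hb⟩)⁻¹) ∈ D from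
        (Subgroup.mem_subgroupOf.1 h).2
      rcases (Nat.dvd_prime hpp).1 (hidx A Q) with h1 | h1
      · rw [Subgroup.relIndex, Subgroup.index_eq_one] at h1
        rw [show D = ⊤ from h1]; trivial
      · have hcardA : ∃ d, Nat.card (A : Subgroup S) = p ^ d := IsPGroup.iff_card.1 A.isPGroup'
        obtain ⟨d, hd⟩ := hcardA
        have hd0 : d ≠ 0 := by
          rintro rfl
          exact A.ne_bot_of_dvd_card hp (Subgroup.card_eq_one.1 (by rw [hd, pow_zero]))
        haveI : D.Normal := Subgroup.normal_of_index_eq_minFac_card (by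
          rw [hd, hpp.pow_minFac hd0]; exact h1)
        rw [← QuotientGroup.eq_one_iff]
        haveI : IsCyclic ((A : Subgroup S) ⧸ D) := isCyclic_of_prime_card (p := p) h1
        let := IsCyclic.commGroup (α := (A : Subgroup S) ⧸ D)
        simp only [QuotientGroup.mk_mul, QuotientGroup.mk_inv]
        rw [mul_comm (QuotientGroup.mk (⟨a, ha⟩ : (A : Subgroup S)) : (A : Subgroup S) ⧸ D)]
        group
    have h2 : a * b * a⁻¹ * b⁻¹ ∈ pCore p S := by
      rw [CfsgLib.Core.pCore_eq_iInf_sylow, Subgroup.mem_iInf]; exact key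
    rw [hcore, Subgroup.mem_bot, mul_inv_eq_one, mul_inv_eq_iff_eq_mul] at h2
    exact h2
  -- a pair with trivial intersection
  obtain ⟨⟨A, B⟩, hmin⟩ := Finite.exists_min
    fun c : Sylow p S × Sylow p S => Nat.card ((c.1 : Subgroup S) ⊓ c.2 : Subgroup S)
  have hD : (A : Subgroup S) ⊓ B = ⊥ := by
    set D := (A : Subgroup S) ⊓ B with hDdef
    set N := Subgroup.normalizer (D : Set S) with hN
    have hle : ∀ C : Sylow p S, D ≤ C → (C : Subgroup S) ≤ N := by
      intro C hC c hc
      refine Subgroup.mem_normalizer_iff.2 fun d => ?_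
      constructor
      · intro hd; rwa [hab C c hc d (hC hd), mul_inv_cancel_right]
      · intro hd
        have := hab C c hc _ (hC hd)
        have e : c * d * c⁻¹ = d := mul_left_cancel (show c * (c * d * c⁻¹) = c * d by rw [this]; group)
        rwa [e] at hd
    have hAN := hle A inf_le_left
    have hBN := hle B inf_le_right
    have hDR : ∀ R : Sylow p S, D ≤ R := by
      intro R
      obtain ⟨T, hT⟩ := ((R.isPGroup'.to_le (inf_le_left : (R : Subgroup S) ⊓ N ≤ R)).comap_of_injective
        N.subtype N.subtype_injective).exists_le_sylow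
      obtain ⟨x, hx⟩ := MulAction.exists_smul_eq N (A.subtype hAN) T
      have hA' : (R : Subgroup S) ⊓ N ≤ MulAut.conj (x : S) • (A : Subgroup S) := by
        intro r hr
        have h1 : (⟨r, hr.2⟩ : N) ∈ (T : Subgroup N) := hT hr
        rw [← hx, Sylow.coe_subgroup_smul, CfsgLib.Core.mem_conj_smul_iff] at h1
        rw [CfsgLib.Core.mem_conj_smul_iff]
        exact h1
      have hxD : MulAut.conj (x : S) • D = D :=
        CfsgLib.Core.mem_normalizer_iff_conj_smul_eq.1 x.2
      let B' : Sylow p S := (x : S) • B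
      have hB' : (B' : Subgroup S) = MulAut.conj (x : S) • (B : Subgroup S) := Sylow.coe_subgroup_smul ..
      have hsub : (R : Subgroup S) ⊓ B' ≤ D := by
        have hB'N : (B' : Subgroup S) ≤ N := hle B' (by
          rw [hB', ← hxD]; exact Subgroup.pointwise_smul_le_pointwise_smul_iff.2 inf_le_right)
        calc (R : Subgroup S) ⊓ B' ≤ (MulAut.conj (x : S) • (A : Subgroup S)) ⊓ B' :=
              le_inf ((inf_le_inf_left _ hB'N).trans hA') inf_le_right
          _ = MulAut.conj (x : S) • D := by rw [hB', hDdef, Subgroup.smul_inf]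
          _ = D := hxD
      have := Subgroup.eq_of_le_of_card_ge hsub (hmin (R, B'))
      exact this.ge.trans inf_le_left
    refine le_bot_iff.1 ?_
    rw [← hcore, CfsgLib.Core.pCore_eq_iInf_sylow]
    exact le_iInf hDR
  have h := hidx A B
  rw [hD, Subgroup.relIndex_bot_left] at h
  rcases (Nat.dvd_prime hpp).1 h with h1 | h1
  · exact absurd (Subgroup.card_eq_one.1 h1) (A.ne_bot_of_dvd_card hp)
  · rw [← hcardeq A]; exact h1
end Cfsg.Agent.S4343
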