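import Cfsg.Statements.S4344
import Cfsg.Agent.Lib.HallGen.Counting

set_option autoImplicit false
open Cfsg
open scoped Pointwise

namespace Cfsg.Agent.S4344

/-- Let S be a finite non-abelian simple group, M a maximal subgroup of S and C a cyclic normal subgroup of M. If a Sylow p-subgroup P of S (for a prime p dividing the order of S) is contained in C, then the number of Sylow p-subgroups of S equals the index of M. -/
theorem result {S : Type*} [Group S] [Finite S]
    [IsSimpleGroup S] (hS : ¬ IsMulCommutative S) (p : ℕ) [Fact p.Prime] (hp : p ∣ Nat.card S)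
    (M : Subgroup S) (hM : IsCoatom M) (C : Subgroup S) (hCM : C ≤ M) (hCn : (C.subgroupOf M).Normal)
    (hC : IsCyclic C) (P : Sylow p S) (hP : (P : Subgroup S) ≤ C) :
    Nat.card (Sylow p S) = M.index := by
  have hPne : (P : Subgroup S) ≠ ⊥ := P.ne_bot_of_dvd_card hp
  rw [P.card_eq_index_normalizer]
  suffices Subgroup.normalizer ((P : Subgroup S) : Set S) = M by rw [← this]; rfl
  have hMN : M ≤ Subgroup.normalizer ((P : Subgroup S) : Set S) := by
    intro m hm
    have hCN : C ≤ Subgroup.normalizer ((P : Subgroup S) : Set S) := by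
      intro c hc
      haveI := hC
      have hcomm : ∀ y ∈ (P : Subgroup S), c * y = y * c := fun y hy =>
        congrArg Subtype.val (mul_comm' (⟨c, hc⟩ : C) ⟨y, hP hy⟩)
      exact Subgroup.centralizer_le_normalizer _
        (Subgroup.mem_centralizer_iff.2 fun y hy => (hcomm y hy).symm)
    have h1 : MulAut.conj m • (P : Subgroup S) ≤ C := by
      rintro _ ⟨y, hy, rfl⟩
      have := hCn.conj_mem ⟨y, hCM (hP hy)⟩ (Subgroup.mem_subgroupOf.2 (hP hy)) ⟨m, hm⟩
      simpa [Subgroup.mem_subgroupOf] using this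
    have hpg : IsPGroup p (MulAut.conj m • (P : Subgroup S) : Subgroup S) := P.isPGroup'.map _
    have h2 : (MulAut.conj m • (P : Subgroup S)) ⊓ Subgroup.normalizer ((P : Subgroup S) : Set S) =
        (MulAut.conj m • (P : Subgroup S)) ⊓ P := hpg.inf_normalizer_sylow P
    rw [inf_eq_left.2 (h1.trans hCN)] at h2
    have heq : MulAut.conj m • (P : Subgroup S) = P :=
      Subgroup.eq_of_le_of_card_ge (inf_eq_left.1 h2.symm)
        (by rw [Nat.card_congr (Subgroup.equivSMul (MulAut.conj m) (P : Subgroup S)).toEquiv])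
    have : m • P = P := Sylow.ext heq
    exact Sylow.smul_eq_iff_mem_normalizer.1 this
  refine ((hM.le_iff).1 hMN).resolve_left fun htop => ?_
  have hnorm : (P : Subgroup S).Normal := Subgroup.normalizer_eq_top_iff.1 htop
  rcases hnorm.eq_bot_or_eq_top with h | h
  · exact hPne h
  · refine hS ⟨⟨fun x y => ?_⟩⟩
    haveI := hC
    have hx : x ∈ C := hP (h ▸ Subgroup.mem_top x)
    have hy : y ∈ C := hP (h ▸ Subgroup.mem_top y)
    exact congrArg Subtype.val (mul_comm' (⟨x, hx⟩ : C) ⟨y, hy⟩)
where
  mul_comm' {K : Type _} [Group K] [IsCyclic K] (a b : K) : a * b = b * a := by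
    obtain ⟨g, hg⟩ := IsCyclic.exists_generator (α := K)
    obtain ⟨i, rfl⟩ := Subgroup.mem_zpowers_iff.1 (hg a)
    obtain ⟨j, rfl⟩ := Subgroup.mem_zpowers_iff.1 (hg b)
    rw [← zpow_add, ← zpow_add, add_comm]
end Cfsg.Agent.S4344
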