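import Cfsg.Statements.S4346
import Cfsg.Agent.Lib.HallGen.HallList
import Cfsg.Agent.Lib.HallGen.SimpleTwentyTwoFinal

set_option autoImplicit false
open Cfsg

namespace Cfsg.Agent.S4346

/-- No finite group has exactly 22 Sylow 3-subgroups. -/
theorem result {G : Type*} [Group G] [Finite G] : Nat.card (Sylow 3 G) ≠ 22 := by
  haveI : Fact (Nat.Prime 3) := ⟨Nat.prime_three⟩
  obtain ⟨l, hl, h⟩ := CfsgLib.HallGen.exists_hall_list 3 _ G rfl
  intro hn
  have key : ∀ m ∈ l, m = 1 := by
    intro m hm
    have hd : m ∣ 22 := by rw [← hn, ← hl]; exact List.dvd_prod hm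
    have hmem : m ∈ Nat.divisors 22 := Nat.mem_divisors.2 ⟨hd, by norm_num⟩
    rw [show Nat.divisors 22 = {1, 2, 11, 22} by decide] at hmem
    simp only [Finset.mem_insert, Finset.mem_singleton] at hmem
    rcases h m hm with ⟨hpp, h1⟩ | ⟨S, i1, i2, hS, rfl⟩
    · rcases hmem with rfl | rfl | rfl | rfl
      · rfl
      · norm_num at h1
      · norm_num at h1
      · exfalso
        have h2 : ¬ IsPrimePow 22 := by
          rw [isPrimePow_iff_unique_prime_dvd]
          rintro ⟨q, -, hu⟩
          have ha := hu 2 ⟨Nat.prime_two, by norm_num⟩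
          have hb := hu 11 ⟨by norm_num, by norm_num⟩
          omega
        exact h2 hpp
    · have h1 := card_sylow_modEq_one 3 S
      rcases hmem with e | e | e | e
      · exact e
      · rw [e] at h1; exact absurd h1 (by decide)
      · rw [e] at h1; exact absurd h1 (by decide)
      · exact absurd e CfsgLib.HallGen.card_sylow_three_ne_twentyTwo
  rw [List.prod_eq_one key, hn] at hl
  norm_num at hl
end Cfsg.Agent.S4346
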