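import Cfsg.Statements.S4347
import Cfsg.Agent.Lib.HallGen.Counting

set_option autoImplicit false
open Cfsg
open scoped Pointwise

namespace Cfsg.Agent.S4347

/-- Let G be a finite group and p a prime. Say a Sylow p-subgroup Q is redundant when every element of p-power order lies in some Sylow p-subgroup other than Q. Then G has no redundant Sylow p-subgroup if and only if some element of p-power order lies in exactly one Sylow p-subgroup. -/
theorem result {G : Type*} [Group G] [Finite G]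
    (p : ℕ) [Fact p.Prime] :
    (¬ ∃ Q : Sylow p G, ∀ x : G, (∃ k : ℕ, orderOf x = p ^ k) → ∃ P : Sylow p G, P ≠ Q ∧ x ∈ P) ↔
      ∃ x : G, (∃ k : ℕ, orderOf x = p ^ k) ∧ ∃! P : Sylow p G, x ∈ P := by
  constructor
  · intro h
    push Not at h
    obtain ⟨x, hx, hQ⟩ := h (default : Sylow p G)
    obtain ⟨k, hk⟩ := hx
    obtain ⟨P, hP⟩ := (CfsgLib.HallGen.isPGroup_zpowers hk).exists_le_sylow
    refine ⟨x, ⟨k, hk⟩, P, hP (Subgroup.mem_zpowers x), fun R hR => ?_⟩
    by_contra hne
    rcases eq_or_ne R default with h1 | h1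
    · exact hQ P (fun h2 => hne (h1.trans h2.symm)) (hP (Subgroup.mem_zpowers x))
    · exact hQ R h1 hR
  · rintro ⟨x, ⟨k, hk⟩, P, hxP, huniq⟩ ⟨Q, hQ⟩
    obtain ⟨g, hg⟩ := MulAction.exists_smul_eq G P Q
    have hx' : MulAut.conj g x ∈ Q := by
      rw [← hg]
      exact ⟨x, hxP, rfl⟩
    obtain ⟨R, hRne, hR⟩ := hQ (MulAut.conj g x) ⟨k, by rw [MulEquiv.orderOf_eq, hk]⟩
    refine hRne ?_
    have h1 : g⁻¹ • R = P := by
      refine huniq _ ?_
      change x ∈ MulAut.conj g⁻¹ • (R : Subgroup G)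
      rw [Subgroup.mem_pointwise_smul_iff_inv_smul_mem]
      simp only [MulAut.smul_def, map_inv, inv_inv, MulAut.conj_apply]
      exact hR
    rw [← hg, ← h1, smul_inv_smul]
end Cfsg.Agent.S4347
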