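import Cfsg.Statements.S4348
import Cfsg.Agent.Lib.HallGen.Counting

set_option autoImplicit false
open Cfsg
open scoped Pointwise

namespace Cfsg.Agent.S4348

/-- Let G be a finite group, p a prime and P a Sylow p-subgroup of G, and let O_p(G) be the largest normal p-subgroup of G. If P/O_p(G) is cyclic, then some element of p-power order of G lies in exactly one Sylow p-subgroup. -/
theorem result {G : Type*} [Group G] [Finite G]
    (p : ℕ) [Fact p.Prime] (P : Sylow p G)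
    [hn : ((Cfsg.pCore p G).subgroupOf (P : Subgroup G)).Normal]
    (hc : IsCyclic ((P : Subgroup G) ⧸ (Cfsg.pCore p G).subgroupOf (P : Subgroup G))) :
    ∃ x : G, (∃ k : ℕ, orderOf x = p ^ k) ∧ ∃! Q : Sylow p G, x ∈ Q := by
  obtain ⟨⟨x, hx⟩, hgen⟩ : ∃ x : (P : Subgroup G), ∀ y : ((P : Subgroup G) ⧸ (Cfsg.pCore p G).subgroupOf (P : Subgroup G)),
      y ∈ Subgroup.zpowers (QuotientGroup.mk x) := by
    obtain ⟨g, hg⟩ := hc.exists_generator
    obtain ⟨x, rfl⟩ := QuotientGroup.mk_surjective g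
    exact ⟨x, hg⟩
  obtain ⟨k, hk⟩ := (IsPGroup.iff_orderOf.1 P.isPGroup') ⟨x, hx⟩
  rw [Subgroup.orderOf_mk] at hk
  refine ⟨x, ⟨k, hk⟩, P, hx, fun Q hQ => ?_⟩
  refine (Sylow.ext ?_).symm
  refine (Subgroup.eq_of_le_of_card_ge ?_ ?_)
  · intro y hy
    obtain ⟨i, hi⟩ := Subgroup.mem_zpowers_iff.1 (hgen (QuotientGroup.mk ⟨y, hy⟩))
    rw [← QuotientGroup.mk_zpow, QuotientGroup.eq, Subgroup.mem_subgroupOf] at hi
    have h1 : (x ^ i)⁻¹ * y ∈ (Q : Subgroup G) := CfsgLib.HallGen.pCore_le_sylow Q (by simpa using hi)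
    simpa using (Q : Subgroup G).mul_mem ((Q : Subgroup G).zpow_mem hQ i) h1
  · rw [Sylow.card_eq_multiplicity, Sylow.card_eq_multiplicity]
end Cfsg.Agent.S4348
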