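import Cfsg.Statements.S4351
import Cfsg.Agent.Lib.CIT.CNExtension
-- import your own Cfsg.Agent.* helpers here

set_option autoImplicit false
open Cfsg

namespace Cfsg.Agent.S4351

/-- Let G be a finite non-solvable group in which the centralizer of every non-identity element is nilpotent. Then G is a non-abelian simple group; or G has a normal subgroup of index 2 isomorphic to PSL(2, 9); or G has a nontrivial normal elementary abelian 2-subgroup N such that G/N is isomorphic to PSL(2, q) for some q = 2ⁿ ≥ 4 or is a simple group of Suzuki type (simple, of the order of a Suzuki group). -/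
theorem result {G : Type*} [Group G] [Finite G] (hG : ¬ Group.IsSolvable G)
    (hCN : ∀ x : G, x ≠ 1 → Group.IsNilpotent (Subgroup.centralizer ({x} : Set G))) :
    (IsSimpleGroup G ∧ ¬ IsMulCommutative G) ∨
    (∃ (N : Subgroup G), N.Normal ∧ N.index = 2 ∧ ∃ (F : Type) (_ : Field F) (_ : Fintype F), Fintype.card F = 9 ∧
        Nonempty (N ≃* Matrix.ProjectiveSpecialLinearGroup (Fin 2) F)) ∨
    (∃ (N : Subgroup G) (_ : N.Normal), N ≠ ⊥ ∧ IsPGroup 2 N ∧ IsMulCommutative N ∧ (∀ x ∈ N, x * x = 1) ∧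
        ((∃ (F : Type) (_ : Field F) (_ : Fintype F), CharP F 2 ∧ 4 ≤ Fintype.card F ∧
            Nonempty (G ⧸ N ≃* Matrix.ProjectiveSpecialLinearGroup (Fin 2) F)) ∨ Cfsg.IsSuzuki (G ⧸ N))) := by
  classical
  have hCN' : Cfsg.IsCNGroup G := hCN
  obtain ⟨R, hR⟩ : ∃ R, R = Cfsg.pCore 2 G := ⟨_, rfl⟩
  haveI : R.Normal := hR ▸ CfsgLib.Core.normal_pCore 2 G
  by_cases hRb : R = ⊥
  · obtain ⟨L, hLn, hLs, hna, -, hcase, -⟩ := CfsgLib.CIT.core_free_structure hCN' hG (hR ▸ hRb)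
    rcases hcase with hLt | ⟨hi, hF⟩
    · subst hLt
      refine Or.inl ⟨(Subgroup.topEquiv (G := G)).isSimpleGroup_congr.1 hLs, fun h => hna ⟨⟨fun a b => Subtype.ext (h.is_comm.comm a.1 b.1)⟩⟩⟩
    · exact Or.inr (Or.inl ⟨L, hLn, hi, hF⟩)
  · obtain ⟨hexp, hquot⟩ := CfsgLib.CIT.core_structure hCN' hG R hR hRb
    refine Or.inr (Or.inr ⟨R, inferInstance, hRb, hR ▸ CfsgLib.Core.isPGroup_pCore 2 G, ⟨⟨fun a b => Subtype.ext ?_⟩⟩, hexp, hquot⟩)
    have h1 := inv_eq_of_mul_eq_one_right (hexp _ (mul_mem a.2 b.2))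
    rw [mul_inv_rev, inv_eq_of_mul_eq_one_right (hexp _ a.2), inv_eq_of_mul_eq_one_right (hexp _ b.2)] at h1
    exact h1.symm


end Cfsg.Agent.S4351
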