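import Cfsg.Statements.S4354
import Cfsg.Agent.Lib.ClassSizes.Basic

set_option autoImplicit false
open Cfsg

namespace Cfsg.Agent.S4354

theorem abelian_of_ext {G : Type*} [Group G] [Finite G] {p : ℕ} [Fact p.Prime]
    (h : ∀ x : G, (∃ k : ℕ, orderOf x = p ^ k) → ¬ p ∣ (Subgroup.centralizer ({x} : Set G)).index)
    (N : Subgroup G) [N.Normal] (hN : ∀ Q : Sylow p N, IsMulCommutative (Q : Subgroup N))
    (hQ : ∀ Q : Sylow p (G ⧸ N), IsMulCommutative (Q : Subgroup (G ⧸ N)))
    (P : Sylow p G) : IsMulCommutative (P : Subgroup G) := by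
  classical
  set π := QuotientGroup.mk' N with hπ
  have hsurj : Function.Surjective π := QuotientGroup.mk'_surjective N
  have key : ∀ x ∈ P, ∃ z : G, z ∈ P ∧ (∀ y ∈ P, z * y = y * z) ∧ x⁻¹ * z ∈ N := by
    intro x hx
    obtain ⟨k, hk⟩ := P.2 ⟨x, hx⟩
    have hxp : ∃ k : ℕ, orderOf x = p ^ k := by
      obtain ⟨j, -, hj⟩ := (Nat.dvd_prime_pow (Fact.out : p.Prime)).1
        (orderOf_dvd_of_pow_eq_one (show x ^ p ^ k = 1 from congrArg Subtype.val hk))
      exact ⟨j, hj⟩
    obtain ⟨R₀⟩ : Nonempty (Sylow p (Subgroup.centralizer ({x} : Set G))) := inferInstance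
    set C := Subgroup.centralizer ({x} : Set G) with hC
    have hRp : IsPGroup p ((R₀ : Subgroup C).map C.subtype) := R₀.2.map _
    have hRi : ¬ p ∣ ((R₀ : Subgroup C).map C.subtype).index := by
      rw [Subgroup.index_map_subtype]
      exact fun hd => ((Fact.out : p.Prime).dvd_mul.1 hd).elim R₀.not_dvd_index (h x hxp)
    set R : Sylow p G := hRp.toSylow hRi with hR
    have hRC : (R : Subgroup G) ≤ C := by
      rw [hR, IsPGroup.toSylow_coe]
      exact Subgroup.map_subtype_le _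
    set P' := P.mapSurjective hsurj with hP'
    set R' := R.mapSurjective hsurj with hR'
    set C' := Subgroup.centralizer ({π x} : Set (G ⧸ N)) with hC'
    have hP'C : (P' : Subgroup (G ⧸ N)) ≤ C' := by
      intro y hy
      rw [hC', Subgroup.mem_centralizer_singleton_iff]
      have hx' : π x ∈ (P' : Subgroup (G ⧸ N)) := by
        rw [hP', Sylow.coe_mapSurjective]
        exact Subgroup.mem_map_of_mem π hx
      haveI := hQ P'
      exact congrArg Subtype.val (mul_comm' (⟨y, hy⟩ : (P' : Subgroup (G ⧸ N))) ⟨π x, hx'⟩)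
    have hR'C : (R' : Subgroup (G ⧸ N)) ≤ C' := by
      rw [hR', Sylow.coe_mapSurjective, Subgroup.map_le_iff_le_comap]
      intro y hy
      rw [Subgroup.mem_comap, hC', Subgroup.mem_centralizer_singleton_iff, ← map_mul, ← map_mul,
        Subgroup.mem_centralizer_singleton_iff.1 (hRC hy)]
    obtain ⟨⟨c, hc⟩, hcR⟩ := MulAction.exists_smul_eq C' (R'.subtype hR'C) (P'.subtype hP'C)
    obtain ⟨g, rfl⟩ := hsurj c
    set H := (P' : Subgroup (G ⧸ N)).comap π with hH
    have hPH : (P : Subgroup G) ≤ H := by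
      rw [hH, hP', Sylow.coe_mapSurjective]
      exact Subgroup.le_comap_map π _
    have hRH : ((g • R : Sylow p G) : Subgroup G) ≤ H := by
      intro y hy
      rw [Sylow.coe_subgroup_smul, Subgroup.mem_pointwise_smul_iff_inv_smul_mem] at hy
      have h1 : π (MulAut.conj g⁻¹ y) ∈ (R' : Subgroup (G ⧸ N)) := by
        rw [hR', Sylow.coe_mapSurjective]
        refine Subgroup.mem_map_of_mem π ?_
        simpa [MulAut.smul_def] using hy
      rw [Sylow.smul_subtype hR'C] at hcR
      have h2 := Sylow.subtype_injective hcR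
      rw [hH, Subgroup.mem_comap, ← h2]
      change π y ∈ ((π g) • R' : Sylow p (G ⧸ N)).toSubgroup
      rw [Sylow.coe_subgroup_smul, Subgroup.mem_pointwise_smul_iff_inv_smul_mem]
      simpa [MulAut.smul_def] using h1
    obtain ⟨⟨m, hmH⟩, hm⟩ := MulAction.exists_smul_eq H ((g • R).subtype hRH) (P.subtype hPH)
    rw [Sylow.smul_subtype hRH] at hm
    have hm' := Sylow.subtype_injective hm
    change m • g • R = P at hm'
    rw [smul_smul] at hm'
    have hmem : ∀ y : G, y ∈ P ↔ (m * g)⁻¹ * y * (m * g) ∈ R := by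
      intro y
      rw [← hm']
      change y ∈ ((m * g) • R : Sylow p G).toSubgroup ↔ _
      rw [Sylow.coe_subgroup_smul, Subgroup.mem_pointwise_smul_iff_inv_smul_mem]
      simp [MulAut.smul_def, mul_assoc]
      rfl
    have hxR : x ∈ R := by
      have h0 : IsPGroup p (Subgroup.zpowers x) := P.2.to_le (Subgroup.zpowers_le.2 hx)
      have h1 : x ∈ Subgroup.zpowers x ⊓ Subgroup.normalizer ((R : Subgroup G) : Set G) := by
        refine ⟨Subgroup.mem_zpowers x, Subgroup.mem_normalizer_iff.2 fun y => ⟨fun hy => ?_, fun hy => ?_⟩⟩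
        · have := Subgroup.mem_centralizer_singleton_iff.1 (hRC hy)
          rwa [← this, mul_inv_cancel_right]
        · have := Subgroup.mem_centralizer_singleton_iff.1 (hRC hy)
          have h : y = x * y * x⁻¹ := mul_left_cancel (a := x) (by rw [← this, inv_mul_cancel_right])
          rwa [h]
      exact ((h0.inf_normalizer_sylow R).le h1).2
    refine ⟨(m * g) * x * (m * g)⁻¹, (hmem _).2 (by simpa [mul_assoc] using hxR), fun y hy => ?_, ?_⟩
    · have h1 := Subgroup.mem_centralizer_singleton_iff.1 (hRC ((hmem y).1 hy))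
      calc m * g * x * (m * g)⁻¹ * y
          = (m * g) * (x * ((m * g)⁻¹ * y * (m * g))) * (m * g)⁻¹ := by group
        _ = (m * g) * ((m * g)⁻¹ * y * (m * g) * x) * (m * g)⁻¹ := by rw [h1]
        _ = y * (m * g * x * (m * g)⁻¹) := by group
    · rw [← QuotientGroup.eq]
      change π x = π ((m * g) * x * (m * g)⁻¹)
      have h1 := Subgroup.mem_centralizer_singleton_iff.1 hc
      have h2 := Subgroup.mem_centralizer_singleton_iff.1 (hP'C (Subgroup.mem_comap.1 hmH))
      rw [map_mul, map_mul, map_inv, map_mul]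
      calc π x = π m * π x * (π m)⁻¹ := by rw [h2, mul_inv_cancel_right]
        _ = π m * (π g * π x * (π g)⁻¹) * (π m)⁻¹ := by rw [h1, mul_inv_cancel_right]
        _ = _ := by group
  refine IsMulCommutative.of_comm fun a b => Subtype.ext ?_
  obtain ⟨z, hzP, hz, hza⟩ := key a a.2
  obtain ⟨w, hwP, hw, hwb⟩ := key b b.2
  have hle : (P : Subgroup G).subgroupOf N ≤ ⊤ := le_top
  obtain ⟨Q, hQ'⟩ := (P.2.comap_of_injective N.subtype N.subtype_injective).exists_le_sylow
  haveI := hN Q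
  have hcN : ∀ u v : G, u ∈ N → u ∈ P → v ∈ N → v ∈ P → u * v = v * u := fun u v hu hu' hv hv' =>
    congrArg (fun t : (Q : Subgroup N) => ((t : N) : G))
      (mul_comm' (⟨⟨u, hu⟩, hQ' hu'⟩ : (Q : Subgroup N)) ⟨⟨v, hv⟩, hQ' hv'⟩)
  set u := (a : G)⁻¹ * z with hu
  set v := (b : G)⁻¹ * w with hv
  have huP : u ∈ P := mul_mem (inv_mem a.2) hzP
  have hvP : v ∈ P := mul_mem (inv_mem b.2) hwP
  have ha : (a : G) = z * u⁻¹ := by rw [hu]; group
  have hb : (b : G) = w * v⁻¹ := by rw [hv]; group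
  show (a : G) * b = b * a
  rw [ha, hb]
  exact (Commute.mul_right (Commute.mul_left (hz _ hwP) ((Commute.inv_left (hw _ huP).symm))) 
    (Commute.mul_left (hz _ (inv_mem hvP)) ((show Commute u v from hcN u v hza huP hwb hvP).inv_inv)))


/-- Let G be a finite group and p a prime such that the Sylow p-subgroups of G are non-abelian while every element of p-power order has conjugacy class size prime to p, and suppose no nontrivial proper normal subgroup N of G has this property and no quotient G/N by such an N has it. Then G is simple. -/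
theorem result {G : Type*} [Group G] [Finite G]
    (p : ℕ) [Fact p.Prime] (h : ((∃ P : Sylow p G, ¬ IsMulCommutative P) ∧ ∀ x : G, (∃ k : ℕ, orderOf x = p ^ k) → ¬ p ∣ (Subgroup.centralizer ({x} : Set G)).index))
    (hmin : ∀ (N : Subgroup G) [N.Normal], N ≠ ⊥ → N ≠ ⊤ →
      ¬ ((∃ P : Sylow p N, ¬ IsMulCommutative P) ∧ ∀ x : N, (∃ k : ℕ, orderOf x = p ^ k) → ¬ p ∣ (Subgroup.centralizer ({x} : Set N)).index) ∧
      ¬ ((∃ P : Sylow p (G ⧸ N), ¬ IsMulCommutative P) ∧ ∀ x : (G ⧸ N), (∃ k : ℕ, orderOf x = p ^ k) → ¬ p ∣ (Subgroup.centralizer ({x} : Set (G ⧸ N))).index)) :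
    IsSimpleGroup G := by
  classical
  obtain ⟨⟨P, hP⟩, hx⟩ := h
  haveI : Nontrivial G := by
    by_contra hn
    rw [not_nontrivial_iff_subsingleton] at hn
    exact hP (IsMulCommutative.of_comm fun a b => Subsingleton.elim _ _)
  refine ⟨fun N hN => ?_⟩
  by_contra hc
  push_neg at hc
  haveI := hN
  obtain ⟨h1, h2⟩ := hmin N hc.1 hc.2
  refine hP (abelian_of_ext hx N (fun Q => ?_) (fun Q => ?_) P)
  · by_contra hQ
    refine h1 ⟨⟨Q, hQ⟩, fun y ⟨k, hk⟩ hd => hx y ⟨k, (Subgroup.orderOf_coe y).trans hk⟩ (hd.trans ?_)⟩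
    have : Subgroup.centralizer ({y} : Set N) = (Subgroup.centralizer ({(y : G)} : Set G)).subgroupOf N := by
      ext z
      simp only [Subgroup.mem_subgroupOf, Subgroup.mem_centralizer_singleton_iff, Subtype.ext_iff, Subgroup.coe_mul]
    rw [this]
    exact CfsgLib.ClassSizes.relIndex_dvd_index_of_normal_right N _
  · by_contra hQ
    refine h2 ⟨⟨Q, hQ⟩, fun y ⟨k, hk⟩ hd => ?_⟩
    have hsurj : Function.Surjective (QuotientGroup.mk' N) := QuotientGroup.mk'_surjective N
    obtain ⟨Q₁, hQ₁⟩ := (IsPGroup.of_card (p := p) (n := k)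
      ((Nat.card_zpowers y).trans hk) : IsPGroup p (Subgroup.zpowers y)).exists_le_sylow
    obtain ⟨c, hc'⟩ := MulAction.exists_smul_eq (G ⧸ N) (P.mapSurjective hsurj) Q₁
    obtain ⟨g, rfl⟩ := hsurj c
    have hy := hQ₁ (Subgroup.mem_zpowers y)
    rw [← hc', Sylow.coe_subgroup_smul, Subgroup.mem_pointwise_smul_iff_inv_smul_mem,
      Sylow.coe_mapSurjective] at hy
    obtain ⟨x, hxP, hxy⟩ := hy
    obtain ⟨j, hj⟩ : ∃ j : ℕ, orderOf x = p ^ j := by
      obtain ⟨j, hj⟩ := (IsPGroup.iff_orderOf.1 P.2) ⟨x, hxP⟩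
      exact ⟨j, (Subgroup.orderOf_coe (⟨x, hxP⟩ : (P : Subgroup G))).trans hj⟩
    have hy' : QuotientGroup.mk' N (g * x * g⁻¹) = y := by
      rw [map_mul, map_mul, map_inv, hxy]
      simp [MulAut.smul_def, mul_assoc]
    refine hx (g * x * g⁻¹) ⟨j, ?_⟩ (hd.trans ?_)
    · rw [← hj]
      exact MulEquiv.orderOf_eq (MulAut.conj g) x
    · refine dvd_trans (Subgroup.index_dvd_of_le ?_) (Subgroup.index_map_dvd _ hsurj)
      rintro _ ⟨z, hz, rfl⟩
      rw [Subgroup.mem_centralizer_singleton_iff, ← hy', ← map_mul, ← map_mul,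
        Subgroup.mem_centralizer_singleton_iff.1 hz]
end Cfsg.Agent.S4354
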