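import Cfsg.Statements.S4359
import Cfsg.Agent.Lib.PLocal.Comm
import Cfsg.Agent.Lib.Core.Cores

set_option autoImplicit false
open Pointwise
open Cfsg

namespace Cfsg.Agent.S4359

open Subgroup
open scoped commutatorElement

variable {G : Type*} [Group G]

/-- conjugates of `x` by powers of `g` -/
def pt (g x : G) (l : ℤ) : G := g ^ l * x * (g ^ l)⁻¹

/-- the subgroup generated by a window of conjugates -/
def win (g x : G) (a b : ℤ) : Subgroup G := closure (pt g x '' Set.Icc a b)

/-- `P ∩ g⁻¹ P g ∩ ... ∩ g⁻ᵏ P gᵏ` -/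
def chain (P : Subgroup G) (g : G) : ℕ → Subgroup G
  | 0 => P
  | k + 1 => P ⊓ MulAut.conj g⁻¹ • chain P g k

theorem pt_mem {g x : G} {a b l : ℤ} (h1 : a ≤ l) (h2 : l ≤ b) : pt g x l ∈ win g x a b :=
  subset_closure ⟨l, ⟨h1, h2⟩, rfl⟩

theorem win_le {g x : G} {a b : ℤ} {N : Subgroup G} (h : ∀ l, a ≤ l → l ≤ b → pt g x l ∈ N) :
    win g x a b ≤ N := (closure_le N).2 (by rintro _ ⟨l, ⟨h1, h2⟩, rfl⟩; exact h l h1 h2)

theorem win_mono {g x : G} {a b a' b' : ℤ} (h1 : a' ≤ a) (h2 : b ≤ b') :
    win g x a b ≤ win g x a' b' :=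
  win_le fun _ hl hl' => pt_mem (h1.trans hl) (hl'.trans h2)

theorem conj_smul_win (g x : G) (s a b : ℤ) :
    MulAut.conj (g ^ s) • win g x a b = win g x (a + s) (b + s) := by
  rw [win, win]
  refine (MonoidHom.map_closure (MulAut.conj (g ^ s)).toMonoidHom _).trans ?_
  rw [← Set.image_comp]
  congr 1
  rw [← Set.image_add_const_Icc, ← Set.image_comp]
  refine Set.image_congr fun l _ => ?_
  show g ^ s * (g ^ l * x * (g ^ l)⁻¹) * (g ^ s)⁻¹ = g ^ (l + s) * x * (g ^ (l + s))⁻¹
  rw [add_comm l s, zpow_add]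
  group

theorem card_conj_smul (a : G) (M : Subgroup G) : Nat.card ↥(MulAut.conj a • M) = Nat.card M :=
  Subgroup.card_map_of_injective (MulAut.conj a).injective

theorem normalizer_of_index_prime [Finite G] {p : ℕ} [Fact p.Prime] {M N : Subgroup G}
    (hN : IsPGroup p N) (h : M ≤ N) (hc : Nat.card M * p = Nat.card N) :
    N ≤ normalizer (M : Set G) := by
  haveI := hN.isNilpotent
  set L := normalizer (M : Set G) ⊓ N with hL
  have hML : M ≤ L := le_inf le_normalizer h
  have hLc : Nat.card N ≤ Nat.card L := by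
    obtain ⟨i, hi⟩ := IsPGroup.iff_card.1 (hN.to_le (inf_le_right : L ≤ N))
    obtain ⟨j, hj⟩ := IsPGroup.iff_card.1 (hN.to_le h)
    have hlt : M < L := by
      refine lt_of_le_of_ne hML fun he => ?_
      have hlt' : M.subgroupOf N < ⊤ := lt_top_iff_ne_top.2 fun ht => by
        have := card_le_of_le (subgroupOf_eq_top.1 ht)
        rw [← hc] at this
        have h2 := (Fact.out : p.Prime).two_le
        have := Nat.card_pos (α := M)
        nlinarith
      obtain ⟨n, hn, hnM⟩ := SetLike.exists_of_lt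
        (Group.normalizerCondition_of_isNilpotent (M.subgroupOf N) hlt')
      refine hnM ?_
      show (n : G) ∈ M
      rw [he]
      refine mem_inf.2 ⟨mem_normalizer_iff.2 fun m => ⟨fun hm => ?_, fun hm => ?_⟩, n.2⟩
      · exact (mem_normalizer_iff.1 hn ⟨m, h hm⟩).1 hm
      · have hmN : m ∈ N := by
          have := N.mul_mem (N.mul_mem (N.inv_mem n.2) (h hm)) n.2
          simpa [mul_assoc] using this
        exact (mem_normalizer_iff.1 hn ⟨m, hmN⟩).2 hm
    have hlt2 : Nat.card M < Nat.card L := Nat.lt_of_le_of_ne (card_le_of_le hML) fun he =>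
      hlt.ne (eq_of_le_of_card_ge hML he.ge)
    rw [hi, hj] at hlt2
    rw [← hc, hi, hj, ← pow_succ]
    exact Nat.pow_le_pow_right (Fact.out : p.Prime).pos
      ((Nat.pow_lt_pow_iff_right (Fact.out : p.Prime).one_lt).1 hlt2)
  exact (eq_of_le_of_card_ge inf_le_right hLc).ge.trans inf_le_left

/-- two distinct subgroups of index `p` of a `p`-group -/
theorem two_maximal [Finite G] {p : ℕ} [Fact p.Prime] {A B N : Subgroup G} (hN : IsPGroup p N)
    (hA : A ≤ N) (hB : B ≤ N) (hAc : Nat.card A * p = Nat.card N) (hBc : Nat.card B = Nat.card A)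
    (hne : A ≠ B) : A ⊔ B = N ∧ Nat.card (A ⊓ B : Subgroup G) * p = Nat.card A := by
  have hp := (Fact.out : p.Prime)
  have hlt : A < A ⊔ B := lt_of_le_of_ne le_sup_left fun he =>
    hne (eq_of_le_of_card_ge (he ▸ le_sup_right) hBc.ge).symm
  have hlt2 : Nat.card A < Nat.card ↥(A ⊔ B : Subgroup G) := Nat.lt_of_le_of_ne
    (card_le_of_le hlt.le) fun he => hlt.ne (eq_of_le_of_card_ge hlt.le he.ge)
  have hsup : A ⊔ B = N := by
    refine eq_of_le_of_card_ge (sup_le hA hB) ?_
    obtain ⟨i, hi⟩ := IsPGroup.iff_card.1 (hN.to_le (sup_le hA hB))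
    obtain ⟨j, hj⟩ := IsPGroup.iff_card.1 (hN.to_le hA)
    rw [hi, hj] at hlt2
    rw [hi, ← hAc, hj, ← pow_succ]
    exact Nat.pow_le_pow_right hp.pos ((Nat.pow_lt_pow_iff_right hp.one_lt).1 hlt2)
  refine ⟨hsup, ?_⟩
  have h1 := CfsgLib.PLocal.card_sup_mul_card_inf A B
    (hA.trans (normalizer_of_index_prime hN hB (by rw [hBc, hAc])))
  rw [hsup, hBc, ← hAc] at h1
  have := Nat.card_pos (α := A)
  nlinarith

variable [Finite G] {p : ℕ} [Fact p.Prime]

/-- If a normal subgroup of index `p` of `P` is carried by `g⁻¹` into `P` and `g` normalises no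
nontrivial normal subgroup of `P`, then `P` is a `p`-group. -/
theorem isPGroup_of_conj {P : Subgroup G} {g : G}
    (hn : ((MulAut.conj g • P ⊓ P : Subgroup G).subgroupOf P).Normal)
    (hi : (MulAut.conj g • P ⊓ P : Subgroup G).relIndex P = p)
    (h1 : ∀ Q : Subgroup G, Q ≤ P → (Q.subgroupOf P).Normal → MulAut.conj g • Q = Q → Q = ⊥) :
    IsPGroup p P := by
  set R := MulAut.conj g • P ⊓ P
  set O := closure {y : G | y ∈ P ∧ (orderOf y).Coprime p} with hO
  have hOP : O ≤ P := (closure_le P).2 fun y hy => hy.1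
  have hR : ∀ y : G, y ∈ P → (orderOf y).Coprime p → y ∈ R := by
    intro y hy hyc
    haveI := hn
    have h2 := (R.subgroupOf P).pow_index_mem ⟨y, hy⟩
    rw [show (R.subgroupOf P).index = p from hi] at h2
    have h2' : y ^ p ∈ R := h2
    obtain ⟨m, hm⟩ := exists_pow_eq_self_of_coprime (x := y) (n := p) hyc.symm
    rw [← hm]
    exact R.pow_mem h2' m
  have hinv : MulAut.conj g • O = O := by
    have hle : O ≤ MulAut.conj g • O := by
      rw [hO, closure_le]
      intro y hy
      obtain ⟨z, hz, hzy⟩ := (mem_inf.1 (hR y hy.1 hy.2)).1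
      refine ⟨z, subset_closure ⟨hz, ?_⟩, hzy⟩
      have hzy' : MulAut.conj g z = y := hzy
      have h4 := hy.2
      rwa [← hzy', ← MulEquiv.coe_toMonoidHom, orderOf_injective (MulAut.conj g).toMonoidHom (MulAut.conj g).injective] at h4
    exact (eq_of_le_of_card_ge hle (card_conj_smul g O).le).symm
  have hOb : O = ⊥ := by
    refine h1 O hOP ?_ hinv
    refine normal_subgroupOf_of_le_normalizer ?_
    intro y hy
    rw [mem_normalizer_iff_map_conj_eq]
    refine eq_of_le_of_card_ge ?_ (Subgroup.card_map_of_injective (MulAut.conj y).injective).ge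
    rw [hO, MonoidHom.map_closure, closure_le]
    rintro _ ⟨z, hz, rfl⟩
    refine subset_closure ⟨P.mul_mem (P.mul_mem hy hz.1) (P.inv_mem hy), ?_⟩
    show (orderOf ((MulAut.conj y).toMonoidHom z)).Coprime p
    rw [orderOf_injective (MulAut.conj y).toMonoidHom (MulAut.conj y).injective]
    exact hz.2
  intro y
  obtain ⟨i, m, hm, hym⟩ := Nat.exists_eq_pow_mul_and_not_dvd (orderOf_pos (y : G)).ne' p
    (Fact.out : p.Prime).ne_one
  refine ⟨i, Subtype.ext ?_⟩
  show (y : G) ^ p ^ i = 1
  have : (y : G) ^ p ^ i ∈ O := subset_closure ⟨P.pow_mem y.2 _, by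
    rw [orderOf_pow_of_dvd (pow_ne_zero _ (Fact.out : p.Prime).ne_zero) (hym ▸ dvd_mul_right _ _),
      hym, Nat.mul_div_cancel_left _ (pow_pos (Fact.out : p.Prime).pos _)]
    exact ((Fact.out : p.Prime).coprime_iff_not_dvd.2 hm).symm⟩
  rwa [hOb, mem_bot] at this

/-- The windows generated by the conjugates of a generator of the last chain term. -/
theorem exists_windows {P : Subgroup G} {g : G} {t : ℕ} (ht : 1 ≤ t) (hP : IsPGroup p P)
    (hPc : Nat.card P = p ^ t) (hD1 : Nat.card (chain P g 1) * p = Nat.card P)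
    (h1 : ∀ Q : Subgroup G, Q ≤ P → (Q.subgroupOf P).Normal → MulAut.conj g • Q = Q → Q = ⊥) :
    ∃ x : G, win g x 0 (t - 1) = P ∧
      ∀ (a : ℤ) (m : ℕ), m ≤ t → Nat.card (win g x a (a + m - 1)) = p ^ m := by
  have hp := (Fact.out : p.Prime)
  set c := MulAut.conj g with hc
  have hcinv : ∀ M : Subgroup G, c • (MulAut.conj g⁻¹ • M) = M := by
    intro M
    rw [smul_smul, hc, ← map_mul, mul_inv_cancel, map_one, one_smul]
  have hle0 : ∀ k, chain P g k ≤ P := by
    intro k
    cases k with
    | zero => exact le_rfl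
    | succ k => exact inf_le_left
  have hanti : ∀ k, chain P g (k + 1) ≤ chain P g k := by
    intro k
    induction k with
    | zero => exact inf_le_left
    | succ k ih => exact inf_le_inf_left P (Subgroup.map_mono ih)
  have hcle : ∀ k, c • chain P g (k + 1) ≤ chain P g k := fun k =>
    (Subgroup.map_mono (inf_le_right : chain P g (k + 1) ≤ _)).trans (hcinv _).le
  have hnext : ∀ k, c • chain P g (k + 2) = c • chain P g (k + 1) ⊓ chain P g (k + 1) := by
    intro k
    refine le_antisymm (le_inf (Subgroup.map_mono (hanti (k + 1))) (hcle (k + 1))) ?_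
    conv_rhs => rw [show chain P g (k + 2) = P ⊓ MulAut.conj g⁻¹ • chain P g (k + 1) from rfl,
      smul_inf, hcinv]
    exact inf_le_inf_right _ (Subgroup.map_mono (hle0 _))
  have hS : ∀ k, k + 1 ≤ t → Nat.card (chain P g k) = p ^ (t - k) ∧
      Nat.card (chain P g (k + 1)) = p ^ (t - (k + 1)) ∧
      ∀ j < k, chain P g (j + 1) ⊔ c • chain P g (j + 1) = chain P g j := by
    intro k
    induction k with
    | zero =>
      intro _
      refine ⟨hPc, ?_, fun j hj => absurd hj (Nat.not_lt_zero j)⟩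
      rw [hPc, show p ^ t = p ^ (t - 1) * p by rw [← pow_succ, Nat.sub_add_cancel ht]] at hD1
      exact Nat.eq_of_mul_eq_mul_right hp.pos hD1
    | succ k ih =>
      intro hk
      obtain ⟨hA, hB, hgen⟩ := ih (by omega)
      have hBc : Nat.card (chain P g (k + 1)) * p = Nat.card (chain P g k) := by
        rw [hA, hB, ← pow_succ]
        congr 1
        omega
      have hne : chain P g (k + 1) ≠ c • chain P g (k + 1) := by
        intro he
        set M := chain P g (k + 1) with hM
        have hN : ∀ i, i ≤ k → chain P g (k - i) ≤ normalizer (M : Set G) := by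
          intro i
          induction i with
          | zero => exact fun _ => normalizer_of_index_prime (hP.to_le (hle0 k)) (hanti k) hBc
          | succ i ihi =>
            intro hi
            rw [← hgen (k - (i + 1)) (by omega), show k - (i + 1) + 1 = k - i by omega]
            refine sup_le (ihi (by omega)) ?_
            rintro _ ⟨y, hy, rfl⟩
            have hyn := mem_normalizer_iff_map_conj_eq.1 (ihi (by omega) hy)
            rw [mem_normalizer_iff_map_conj_eq]
            show MulAut.conj (g * y * g⁻¹) • M = M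
            have hginv : MulAut.conj g⁻¹ • M = M := by
              conv_lhs => rw [he, smul_smul, hc, ← map_mul, inv_mul_cancel, map_one, one_smul]
            rw [map_mul, map_mul, mul_smul, mul_smul, hginv,
              show MulAut.conj y • M = M from hyn]
            exact he.symm
        have hM0 := h1 M (hle0 _) (normal_subgroupOf_of_le_normalizer
          (by simpa [chain] using hN k le_rfl)) he.symm
        rw [hM0, Subgroup.card_bot] at hB
        have : p ^ 0 = p ^ (t - (k + 1)) := by rw [pow_zero]; exact hB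
        have := Nat.pow_right_injective hp.two_le this
        omega
      obtain ⟨hsup, hinf⟩ := two_maximal (hP.to_le (hle0 k)) (hanti k) (hcle k) hBc
        (card_conj_smul g _) hne
      refine ⟨hB, ?_, fun j hj => ?_⟩
      · rw [← card_conj_smul g (chain P g (k + 1 + 1)), hnext, inf_comm]
        rw [hB, show p ^ (t - (k + 1)) = p ^ (t - (k + 1 + 1)) * p by
          rw [← pow_succ]; congr 1; omega] at hinf
        exact Nat.eq_of_mul_eq_mul_right hp.pos hinf
      · rcases Nat.lt_succ_iff_lt_or_eq.1 hj with hj | rfl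
        · exact hgen j hj
        · exact hsup
  obtain ⟨hlast, -, hgen⟩ := hS (t - 1) (by omega)
  rw [show t - (t - 1) = 1 by omega, pow_one] at hlast
  haveI := isCyclic_of_prime_card hlast
  obtain ⟨x, hx⟩ := Subgroup.isCyclic_iff_exists_zpowers_eq_top (chain P g (t - 1)) |>.1 inferInstance
  have hW : ∀ m : ℕ, m + 1 ≤ t → win g x 0 m = chain P g (t - 1 - m) := by
    intro m
    induction m with
    | zero =>
      intro _
      rw [Nat.sub_zero, ← hx, win, Nat.cast_zero, Set.Icc_self, Set.image_singleton,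
        zpowers_eq_closure]
      simp [pt]
    | succ m ih =>
      intro hm
      have ih' := ih (by omega)
      rw [← hgen (t - 1 - (m + 1)) (by omega), show t - 1 - (m + 1) + 1 = t - 1 - m by omega, ← ih',
        hc, show MulAut.conj g • win g x 0 m = win g x 1 (m + 1) by
          have := conj_smul_win g x 1 0 m
          rwa [zpow_one, zero_add] at this,
        win, win, win, ← Subgroup.closure_union, ← Set.image_union]
      congr 2
      ext l
      simp only [Set.mem_Icc, Set.mem_union, Nat.cast_succ]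
      omega
  refine ⟨x, ?_, fun a m hm => ?_⟩
  · have := hW (t - 1) (by omega)
    rw [Nat.sub_self] at this
    rw [show ((t : ℤ) - 1) = ((t - 1 : ℕ) : ℤ) by omega]
    exact this
  · cases m with
    | zero => rw [win, Set.Icc_eq_empty (by simp), Set.image_empty, Subgroup.closure_empty, pow_zero, Subgroup.card_bot]
    | succ m =>
      have h2 : win g x a (a + (m + 1 : ℕ) - 1) = MulAut.conj (g ^ a) • win g x 0 m := by
        rw [conj_smul_win]
        congr 1
        · omega
        · push_cast; omega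
      rw [h2, card_conj_smul, hW m hm, (hS (t - 1 - m) (by omega)).1]
      congr 1
      omega

/-- Let P be a subgroup of a finite group G and g an element such that P ∩ g⁻¹Pg is a normal subgroup of prime index p in g⁻¹Pg. Let n ≥ 1 and let K be the subgroup generated by P and its conjugates g⁻ⁱPgⁱ for i ≤ n. Suppose that g normalizes no non-identity normal subgroup of P and that P meets the center of K trivially. Then the order of P is pᵗ for some t with 1 ≤ t ≤ 3n and t ≠ 3n - 1. -/
theorem result {G : Type*} [Group G] [Finite G]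
    (P : Subgroup G) (g : G) (p : ℕ) (hp : p.Prime)
    (hN : ((P ⊓ MulAut.conj g⁻¹ • P).subgroupOf (MulAut.conj g⁻¹ • P)).Normal)
    (hidx : (P ⊓ MulAut.conj g⁻¹ • P).relIndex (MulAut.conj g⁻¹ • P) = p)
    (n : ℕ) (hn : 1 ≤ n) (K : Subgroup G) (hK : K = ⨆ i ∈ Finset.range (n + 1), MulAut.conj (g ^ i)⁻¹ • P)
    (h1 : ∀ Q : Subgroup G, Q ≤ P → (Q.subgroupOf P).Normal → MulAut.conj g • Q = Q → Q = ⊥)
    (h2 : P ⊓ (Subgroup.center K).map K.subtype = ⊥) :
    ∃ t : ℕ, Nat.card P = p ^ t ∧ 1 ≤ t ∧ t ≤ 3 * n ∧ t ≠ 3 * n - 1 := by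
  classical
  haveI := Fact.mk hp
  set P1 := MulAut.conj g⁻¹ • P with hP1
  set Q := P ⊓ P1 with hQ
  have hc1 : MulAut.conj g • P1 = P := by
    rw [hP1, smul_smul, ← map_mul, mul_inv_cancel, map_one, one_smul]
  have hcQ : MulAut.conj g • Q = MulAut.conj g • P ⊓ P := by rw [hQ, smul_inf, hc1]
  have hcard1 : Nat.card Q * p = Nat.card P := by
    have h3 := (Q.subgroupOf P1).card_mul_index
    rw [Nat.card_congr (subgroupOfEquivOfLe (inf_le_right : Q ≤ P1)).toEquiv,
      show (Q.subgroupOf P1).index = p from hidx] at h3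
    rw [h3, hP1, card_conj_smul]
  have hP : IsPGroup p P := by
    refine isPGroup_of_conj ?_ ?_ h1
    · refine normal_subgroupOf_of_le_normalizer ?_
      intro y hy
      rw [← hc1] at hy
      obtain ⟨z, hz, rfl⟩ := hy
      have hzn : z ∈ normalizer (Q : Set G) :=
        (normal_subgroupOf_iff_le_normalizer (inf_le_right : Q ≤ P1)).1 hN hz
      rw [mem_normalizer_iff_map_conj_eq, ← hcQ]
      show MulAut.conj (g * z * g⁻¹) • (MulAut.conj g • Q) = _
      rw [smul_smul, ← map_mul, inv_mul_cancel_right, map_mul, mul_smul,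
        show MulAut.conj z • Q = Q from mem_normalizer_iff_map_conj_eq.1 hzn]
    · rw [← hcQ]
      have h3 := ((MulAut.conj g • Q).subgroupOf P).card_mul_index
      rw [Nat.card_congr (subgroupOfEquivOfLe (hcQ ▸ inf_le_right : MulAut.conj g • Q ≤ P)).toEquiv,
        card_conj_smul, ← hcard1] at h3
      exact Nat.eq_of_mul_eq_mul_left Nat.card_pos h3
  obtain ⟨t, hPc⟩ := IsPGroup.iff_card.1 hP
  have ht : 1 ≤ t := by
    by_contra h
    rw [show t = 0 by omega, pow_zero] at hPc
    rw [hPc] at hcard1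
    have := hp.two_le
    have := Nat.card_pos (α := Q)
    nlinarith
  refine ⟨t, hPc, ht, ?_⟩
  obtain ⟨x, hW, hcardW⟩ := exists_windows ht hP hPc (show Nat.card (chain P g 1) * p = _ from hcard1) h1
  have hPle : ∀ a b : ℤ, b - a ≤ t - 1 → IsPGroup p (win g x a b) := by
    intro a b hab
    have hsub : win g x a b ≤ MulAut.conj (g ^ a) • win g x 0 (t - 1) := by
      rw [conj_smul_win]; exact win_mono (by omega) (by omega)
    rw [hW] at hsub
    exact (hP.map (MulAut.conj (g ^ a)).toMonoidHom).to_le hsub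
  have hshift : ∀ i d : ℤ, Commute (pt g x i) (pt g x (i + d)) ↔ Commute (pt g x 0) (pt g x d) := by
    intro i d
    have h0 : pt g x i = MulAut.conj (g ^ i) (pt g x 0) := by simp [pt, MulAut.conj_apply, -map_zpow]
    have hd : pt g x (i + d) = MulAut.conj (g ^ i) (pt g x d) := by
      simp only [pt, MulAut.conj_apply, zpow_add]
      group
    rw [h0, hd]
    exact ⟨fun h => (MulAut.conj (g ^ i)).injective (by rw [map_mul, map_mul]; exact h),
      fun h => h.map (MulAut.conj (g ^ i))⟩
  have hKW : K ≤ win g x (-(n : ℤ)) (t - 1) := by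
    rw [hK]
    refine iSup₂_le fun i hi => ?_
    rw [Finset.mem_range] at hi
    rw [← hW, show (g ^ i)⁻¹ = g ^ (-(i : ℤ)) by rw [zpow_neg, zpow_natCast], conj_smul_win]
    exact win_mono (by omega) (by omega)
  by_cases hex : ∃ d : ℕ, ¬ Commute (pt g x 0) (pt g x d)
  swap
  · push Not at hex
    exfalso
    refine absurd (card_eq_one.2 (?_ : P = ⊥)) ?_
    · rw [eq_bot_iff, ← h2]
      intro y hy
      have hyK : y ∈ K := by
        rw [hK]
        exact (le_iSup₂_of_le 0 (Finset.mem_range.2 (by omega)) (by simp) :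
          P ≤ ⨆ i ∈ Finset.range (n + 1), MulAut.conj (g ^ i)⁻¹ • P) hy
      refine mem_inf.2 ⟨hy, ⟨y, hyK⟩, mem_center_iff.2 fun k => Subtype.ext ?_, rfl⟩
      have hall : ∀ i l : ℤ, Commute (pt g x i) (pt g x l) := by
        intro i l
        rcases le_total i l with h | h
        · obtain ⟨d, hd⟩ := Int.le.dest h
          rw [← hd, hshift]; exact hex d
        · obtain ⟨d, hd⟩ := Int.le.dest h
          rw [← hd]; exact ((hshift l d).2 (hex d)).symm
      have hle : win g x (-(n : ℤ)) (t - 1) ≤ centralizer (P : Set G) := by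
        refine win_le fun i _ _ => ?_
        rw [← hW]
        have : win g x 0 (t - 1) ≤ centralizer {pt g x i} :=
          win_le fun l _ _ => mem_centralizer_singleton_iff.2 (hall l i).eq
        exact mem_centralizer_iff.2 fun w hw => mem_centralizer_singleton_iff.1 (this hw)
      exact (mem_centralizer_iff.1 (hle (hKW k.2)) y hy).symm
    · rw [hPc]
      exact (Nat.one_lt_pow (by omega) hp.one_lt).ne'
  set a := Nat.find hex with ha
  have hanc : ¬ Commute (pt g x 0) (pt g x a) := Nat.find_spec hex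
  have hlt : ∀ i l : ℤ, i - l < a → l - i < a → Commute (pt g x i) (pt g x l) := by
    intro i l h3 h4
    rcases le_total i l with h | h
    · obtain ⟨d, hd⟩ := Int.le.dest h
      rw [← hd, hshift]
      exact not_not.1 (Nat.find_min hex (show d < a by omega))
    · obtain ⟨d, hd⟩ := Int.le.dest h
      rw [← hd]
      exact ((hshift l d).2 (not_not.1 (Nat.find_min hex (show d < a by omega)))).symm
  have hwcomm : ∀ {a₁ b₁ a₂ b₂ : ℤ}, b₁ - a₂ < a → b₂ - a₁ < a →
      ∀ y ∈ win g x a₁ b₁, ∀ z ∈ win g x a₂ b₂, Commute y z := by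
    intro a₁ b₁ a₂ b₂ h3 h4 y hy z hz
    have h5 : win g x a₂ b₂ ≤ centralizer (win g x a₁ b₁ : Set G) := win_le fun l hl hl' => by
      have : win g x a₁ b₁ ≤ centralizer {pt g x l} := win_le fun i hi hi' =>
        mem_centralizer_singleton_iff.2 (hlt i l (by omega) (by omega)).eq
      exact mem_centralizer_iff.2 fun w hw => mem_centralizer_singleton_iff.1 (this hw)
    exact mem_centralizer_iff.1 (h5 hz) y hy
  -- central conjugates are excluded
  have hcentral : ∀ k : ℤ, 0 ≤ k → k ≤ t - 1 → k + n < a → (t : ℤ) - 1 - k < a → False := by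
    intro k h3 h4 h5 h6
    have hkP : pt g x k ∈ P := hW ▸ pt_mem h3 h4
    have hkK : pt g x k ∈ K := by
      rw [hK]
      exact (le_iSup₂_of_le 0 (Finset.mem_range.2 (by omega)) (by simp) :
        P ≤ ⨆ i ∈ Finset.range (n + 1), MulAut.conj (g ^ i)⁻¹ • P) hkP
    have : pt g x k ∈ (⊥ : Subgroup G) := h2 ▸ mem_inf.2 ⟨hkP, ⟨_, hkK⟩,
      mem_center_iff.2 fun y => Subtype.ext (hwcomm (a₁ := -(n : ℤ)) (b₁ := t - 1) (a₂ := k) (b₂ := k)
        (by omega) (by omega) y (hKW y.2) _ (pt_mem le_rfl le_rfl)).eq, rfl⟩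
    have hx1 : x = 1 := by
      rw [mem_bot, pt, conj_eq_one_iff] at this
      exact this
    refine hanc ?_
    simp [pt, hx1]
  by_cases hat : t ≤ a
  · have hna : a ≤ n := by
      by_contra h
      exact hcentral 0 le_rfl (by omega) (by omega) (by omega)
    omega
  have h2a : 2 * a ≤ n + t := by
    by_contra h
    exact hcentral (t - a) (by omega) (by omega) (by omega) (by omega)
  -- the commutator of `x₀` and `x_a`
  have ha1 : 1 ≤ a := by
    by_contra h
    exact hanc (by rw [show a = 0 by omega]; exact Commute.refl _)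
  have hidxw : ∀ (a₁ : ℤ) (m : ℕ), m + 1 ≤ t →
      Nat.card (win g x a₁ (a₁ + m - 1)) * p = Nat.card (win g x a₁ (a₁ + m)) ∧
      Nat.card (win g x (a₁ + 1) (a₁ + m)) * p = Nat.card (win g x a₁ (a₁ + m)) := by
    intro a₁ m hm
    have e1 := hcardW a₁ m (by omega)
    have e2 := hcardW a₁ (m + 1) hm
    have e3 := hcardW (a₁ + 1) m (by omega)
    rw [show a₁ + ((m + 1 : ℕ) : ℤ) - 1 = a₁ + m by omega] at e2
    rw [show a₁ + 1 + (m : ℤ) - 1 = a₁ + m by omega] at e3
    rw [e1, e2, e3, pow_succ]
    exact ⟨rfl, rfl⟩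
  have hcm : ∀ (i : ℤ) (d : ℕ), 1 ≤ d → d + 1 ≤ t →
      ⁅pt g x i, pt g x (i + d)⁆ ∈ win g x (i + 1) (i + d - 1) := by
    intro i d hd hdt
    obtain ⟨hA, hB⟩ := hidxw i d hdt
    have hN' : IsPGroup p (win g x i (i + d)) := hPle _ _ (by omega)
    have nA := normalizer_of_index_prime hN' (win_mono le_rfl (by omega)) hA
    have nB := normalizer_of_index_prime hN' (win_mono (by omega) le_rfl) hB
    have hmemA : ⁅pt g x i, pt g x (i + d)⁆ ∈ win g x i (i + d - 1) := by
      rw [commutatorElement_def, mul_assoc, mul_assoc, ← mul_assoc (pt g x (i + d))]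
      exact mul_mem (pt_mem le_rfl (by omega))
        ((mem_normalizer_iff.1 (nA (pt_mem (by omega) le_rfl)) _).1 (inv_mem (pt_mem le_rfl (by omega))))
    have hmemB : ⁅pt g x i, pt g x (i + d)⁆ ∈ win g x (i + 1) (i + d) := by
      rw [commutatorElement_def]
      exact mul_mem ((mem_normalizer_iff.1 (nB (pt_mem le_rfl (by omega))) _).1
        (pt_mem (by omega) le_rfl)) (inv_mem (pt_mem (by omega) le_rfl))
    have heq : win g x i (i + d - 1) ⊓ win g x (i + 1) (i + d) = win g x (i + 1) (i + d - 1) := by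
      refine (eq_of_le_of_card_ge (le_inf (win_mono (by omega) le_rfl) (win_mono le_rfl (by omega))) ?_).symm
      have hs : win g x i (i + d - 1) ⊔ win g x (i + 1) (i + d) = win g x i (i + d) := by
        refine le_antisymm (sup_le (win_mono le_rfl (by omega)) (win_mono (by omega) le_rfl))
          (win_le fun l h3 h4 => ?_)
        rcases lt_or_ge l (i + d) with h | h
        · exact mem_sup_left (pt_mem h3 (by omega))
        · exact mem_sup_right (pt_mem (by omega) h4)
      have h7 := CfsgLib.PLocal.card_sup_mul_card_inf (win g x i (i + d - 1)) (win g x (i + 1) (i + d))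
        ((win_mono le_rfl (by omega)).trans nB)
      rw [hs] at h7
      have e1 := hcardW i d (by omega)
      have e2 := hcardW i (d + 1) hdt
      have e3 := hcardW (i + 1) d (by omega)
      have e4 := hcardW (i + 1) (d - 1) (by omega)
      rw [show i + ((d + 1 : ℕ) : ℤ) - 1 = i + d by omega] at e2
      rw [show i + 1 + (d : ℤ) - 1 = i + d by omega] at e3
      rw [show i + 1 + ((d - 1 : ℕ) : ℤ) - 1 = i + d - 1 by omega] at e4
      rw [e1, e2, e3] at h7
      rw [e4]
      refine le_of_eq (Nat.eq_of_mul_eq_mul_left (pow_pos hp.pos (d + 1)) ?_)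
      rw [← h7, ← pow_add, ← pow_add]
      congr 1
      omega
    exact heq ▸ mem_inf.2 ⟨hmemA, hmemB⟩
  set c := ⁅pt g x 0, pt g x a⁆ with hc
  have hc1' : c ≠ 1 := fun h => hanc (commutatorElement_eq_one_iff_commute.1 h)
  have hcW : c ∈ win g x 1 (a - 1) := by
    have := hcm 0 a ha1 (by omega)
    simpa using this
  have hbot : ∀ i : ℤ, c ∉ win g x (i + 1) i := fun i h => hc1' (by
    rwa [win, Set.Icc_eq_empty (by omega), Set.image_empty, Subgroup.closure_empty, mem_bot] at h)
  obtain ⟨u, hu1, hu2, huc, hunot⟩ : ∃ u : ℤ, 1 ≤ u ∧ u ≤ a - 1 ∧ c ∈ win g x u (a - 1) ∧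
      c ∉ win g x (u + 1) (a - 1) := by
    by_contra hcon
    push Not at hcon
    have hall : ∀ j : ℕ, j + 1 ≤ a → c ∈ win g x ((1 : ℤ) + j) (a - 1) := by
      intro j
      induction j with
      | zero => intro _; simpa using hcW
      | succ j ih =>
        intro hj
        have := hcon (1 + j) (by omega) (by omega) (ih (by omega))
        rwa [show (1 : ℤ) + (j + 1 : ℕ) = 1 + j + 1 by omega]
    have := hall (a - 1) (by omega)
    rw [show (1 : ℤ) + ((a - 1 : ℕ) : ℤ) = (a - 1 : ℤ) + 1 by omega] at this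
    exact hbot _ this
  obtain ⟨v, hv1, hv2, hvc, hvnot⟩ : ∃ v : ℤ, 1 ≤ v ∧ v ≤ a - 1 ∧ c ∈ win g x 1 v ∧
      c ∉ win g x 1 (v - 1) := by
    by_contra hcon
    push Not at hcon
    have hall : ∀ j : ℕ, j + 1 ≤ a → c ∈ win g x 1 ((a : ℤ) - 1 - j) := by
      intro j
      induction j with
      | zero => intro _; simpa using hcW
      | succ j ih =>
        intro hj
        have := hcon ((a : ℤ) - 1 - j) (by omega) (by omega) (ih (by omega))
        rwa [show (a : ℤ) - 1 - (j + 1 : ℕ) = a - 1 - j - 1 by omega]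
    have := hall (a - 1) (by omega)
    rw [show (a : ℤ) - 1 - ((a - 1 : ℕ) : ℤ) = 0 by omega] at this
    exact hbot 0 this
  have hkey : ∀ (a₁ : ℤ) (m : ℕ), m + 1 ≤ t → ∀ (N : Subgroup G),
      N ≤ win g x a₁ (a₁ + m) → ∀ M : Subgroup G, M ≤ win g x a₁ (a₁ + m) →
      Nat.card M * p = Nat.card (win g x a₁ (a₁ + m)) → M ≤ N → c ∈ N → c ∉ M →
      N = win g x a₁ (a₁ + m) := by
    intro a₁ m hm N hN' M hM hMc hMN hcN hcM
    have hpg : IsPGroup p (win g x a₁ (a₁ + m)) := hPle _ _ (by omega)
    refine eq_of_le_of_card_ge hN' ?_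
    obtain ⟨i, hi⟩ := IsPGroup.iff_card.1 (hpg.to_le hN')
    obtain ⟨j, hj⟩ := IsPGroup.iff_card.1 (hpg.to_le hM)
    have hlt' : Nat.card M < Nat.card N := Nat.lt_of_le_of_ne (card_le_of_le hMN) fun he =>
      hcM (eq_of_le_of_card_ge hMN he.ge ▸ hcN)
    rw [hi, hj] at hlt'
    rw [hi, ← hMc, hj, ← pow_succ]
    exact Nat.pow_le_pow_right hp.pos ((Nat.pow_lt_pow_iff_right hp.one_lt).1 hlt')
  -- lower end
  have hlow : (t : ℤ) - a ≤ u := by
    by_contra hcon
    set y := pt g x (u + a) with hy
    set d := ⁅y, pt g x 0⁆ with hd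
    have hdW : d ∈ win g x 1 (u + a - 1) := by
      obtain ⟨e, he⟩ := Int.eq_ofNat_of_zero_le (show 0 ≤ u + a by omega)
      have := hcm 0 e (by omega) (by omega)
      rw [zero_add, zero_add] at this
      rw [hd, ← commutatorElement_inv, hy, he]
      exact inv_mem this
    have hda : Commute d (pt g x a) := hwcomm (a₂ := a) (b₂ := a) (by omega) (by omega) d hdW _
      (pt_mem le_rfl le_rfl)
    have hya : Commute y (pt g x a) := hlt _ _ (by omega) (by omega)
    have hdc : Commute d c := hwcomm (a₂ := u) (b₂ := a - 1) (by omega) (by omega) d hdW c huc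
    have hyc : Commute y c := by
      have e1 : y * c * y⁻¹ = ⁅d * pt g x 0, pt g x a⁆ := by
        rw [hc, conjugate_commutatorElement]
        congr 1
        · rw [hd, commutatorElement_def]; group
        · rw [hya.eq, mul_inv_cancel_right]
      have e2 : ⁅d * pt g x 0, pt g x a⁆ = d * c * d⁻¹ * ⁅d, pt g x a⁆ := by
        simp only [hc, commutatorElement_def]; group
      rw [e2, commutatorElement_eq_one_iff_commute.2 hda, mul_one, hdc.eq, mul_inv_cancel_right,
        mul_inv_eq_iff_eq_mul] at e1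
      exact e1
    obtain ⟨m, hm⟩ := Int.eq_ofNat_of_zero_le (show 0 ≤ (a : ℤ) - 1 - u by omega)
    set Wu := win g x u (a - 1)
    have hWu : Wu = win g x u (u + m) := by rw [show u + (m : ℤ) = a - 1 by omega]
    have hsub : win g x (u + 1) (a - 1) ≤ Wu ⊓ centralizer {y} :=
      le_inf (win_mono (by omega) le_rfl) (win_le fun l h3 h4 =>
        mem_centralizer_singleton_iff.2 (hlt _ _ (by omega) (by omega)).eq)
    have hfull := hkey u m (by omega) (Wu ⊓ centralizer {y}) (hWu ▸ inf_le_left)
      (win g x (u + 1) (a - 1)) (hWu ▸ win_mono (by omega) le_rfl)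
      (by rw [show (a : ℤ) - 1 = u + m by omega]; exact (hidxw u m (by omega)).2)
      hsub (mem_inf.2 ⟨huc, mem_centralizer_singleton_iff.2 hyc.symm.eq⟩) hunot
    have hu' : pt g x u ∈ Wu ⊓ centralizer {y} := hfull ▸ pt_mem le_rfl (by omega)
    refine hanc ((hshift u a).1 ?_)
    exact mem_centralizer_singleton_iff.1 (mem_inf.1 hu').2
  -- upper end
  have hhigh : v ≤ 2 * a - t := by
    by_contra hcon
    set z := pt g x (v - a) with hz
    set d := ⁅z, pt g x a⁆ with hd
    have hdW : d ∈ win g x (v - a + 1) (a - 1) := by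
      obtain ⟨e, he⟩ := Int.eq_ofNat_of_zero_le (show 0 ≤ 2 * (a : ℤ) - v by omega)
      have := hcm (v - a) e (by omega) (by omega)
      rw [show v - a + (e : ℤ) = a by omega] at this
      rwa [hd, hz]
    have hd0 : Commute d (pt g x 0) := hwcomm (a₂ := 0) (b₂ := 0) (by omega) (by omega) d hdW _
      (pt_mem le_rfl le_rfl)
    have hz0 : Commute z (pt g x 0) := hlt _ _ (by omega) (by omega)
    have hdc : Commute d c := hwcomm (a₂ := 1) (b₂ := v) (by omega) (by omega) d hdW c hvc
    have hzc : Commute z c := by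
      have e1 : z * c * z⁻¹ = ⁅pt g x 0, d * pt g x a⁆ := by
        rw [hc, conjugate_commutatorElement]
        congr 1
        · rw [hz0.eq, mul_inv_cancel_right]
        · rw [hd, commutatorElement_def]; group
      have e2 : ⁅pt g x 0, d * pt g x a⁆ = ⁅pt g x 0, d⁆ * (d * c * d⁻¹) := by
        simp only [hc, commutatorElement_def]; group
      rw [e2, commutatorElement_eq_one_iff_commute.2 hd0.symm, one_mul, hdc.eq, mul_inv_cancel_right,
        mul_inv_eq_iff_eq_mul] at e1
      exact e1
    obtain ⟨m, hm⟩ := Int.eq_ofNat_of_zero_le (show 0 ≤ v - 1 by omega)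
    have hWv : win g x 1 v = win g x 1 (1 + m) := by rw [show (1 : ℤ) + m = v by omega]
    have hsub : win g x 1 (v - 1) ≤ win g x 1 v ⊓ centralizer {z} :=
      le_inf (win_mono le_rfl (by omega)) (win_le fun l h3 h4 =>
        mem_centralizer_singleton_iff.2 (hlt _ _ (by omega) (by omega)).eq)
    have hfull := hkey 1 m (by omega) (win g x 1 v ⊓ centralizer {z}) (hWv ▸ inf_le_left)
      (win g x 1 (v - 1)) (hWv ▸ win_mono le_rfl (by omega))
      (by rw [show v - 1 = (1 : ℤ) + m - 1 by omega]; exact (hidxw 1 m (by omega)).1)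
      hsub (mem_inf.2 ⟨hvc, mem_centralizer_singleton_iff.2 hzc.symm.eq⟩) hvnot
    have hv' : pt g x v ∈ win g x 1 v ⊓ centralizer {z} := hfull ▸ pt_mem (by omega) (by omega)
    refine hanc ((hshift (v - a) a).1 ?_)
    rw [sub_add_cancel]
    exact (mem_centralizer_singleton_iff.1 (mem_inf.1 hv').2 : Commute (pt g x v) z).symm
  have huv : u ≤ v := by
    by_contra hcon
    refine hc1' ?_
    have hin : c ∈ win g x 1 v ⊓ win g x (v + 1) (a - 1) :=
      mem_inf.2 ⟨hvc, win_mono (by omega) le_rfl huc⟩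
    have hb : win g x 1 v ⊓ win g x (v + 1) (a - 1) = ⊥ := by
      have hcent : win g x 1 v ≤ normalizer (win g x (v + 1) (a - 1) : Set G) := by
        refine le_trans ?_ (centralizer_le_normalizer _)
        exact fun y hy => mem_centralizer_iff.2 fun w hw =>
          ((hwcomm (a₁ := 1) (b₁ := v) (a₂ := v + 1) (b₂ := a - 1) (by omega) (by omega) y hy w hw).symm).eq
      have h7 := CfsgLib.PLocal.card_sup_mul_card_inf _ _ hcent
      have hs : win g x 1 v ⊔ win g x (v + 1) (a - 1) = win g x 1 (a - 1) := by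
        refine le_antisymm (sup_le (win_mono le_rfl (by omega)) (win_mono (by omega) le_rfl))
          (win_le fun l h3 h4 => ?_)
        rcases le_or_gt l v with h | h
        · exact mem_sup_left (pt_mem h3 h)
        · exact mem_sup_right (pt_mem (by omega) h4)
      rw [hs] at h7
      obtain ⟨i, hi⟩ := Int.eq_ofNat_of_zero_le (show 0 ≤ v by omega)
      obtain ⟨j, hj⟩ := Int.eq_ofNat_of_zero_le (show 0 ≤ (a : ℤ) - 1 - v by omega)
      have e1 := hcardW 1 i (by omega)
      have e2 := hcardW (v + 1) j (by omega)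
      have e3 := hcardW 1 (a - 1) (by omega)
      rw [show (1 : ℤ) + i - 1 = v by omega] at e1
      rw [show v + 1 + (j : ℤ) - 1 = a - 1 by omega] at e2
      rw [show (1 : ℤ) + ((a - 1 : ℕ) : ℤ) - 1 = a - 1 by omega] at e3
      rw [e1, e2, e3, ← pow_add, show i + j = a - 1 by omega] at h7
      exact card_eq_one.1 ((Nat.mul_eq_left (pow_ne_zero _ hp.ne_zero)).1 h7.symm)
    rwa [hb, mem_bot] at hin
  omega

end Cfsg.Agent.S4359
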