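import Cfsg.Statements.S4364
import Cfsg.Agent.Lib.Blocks.PrimePowerClass
import Cfsg.Agent.Lib.Components.FStar
import Cfsg.Agent.Lib.Core.Cores
import Cfsg.Agent.Lib.ClassSizes.Basic

set_option autoImplicit false
open Cfsg

namespace Cfsg.Agent.S4364

theorem commute_conjugates {Q : Type*} [Group Q] [Finite Q] {p : ℕ} [Fact p.Prime] (hO : Cfsg.pCore p Q = ⊥)
    (x : Q) {b : ℕ} (hx : (Subgroup.centralizer ({x} : Set Q)).index = p ^ b) (u v : Q) :
    Commute (u * x * u⁻¹) (v * x * v⁻¹) := by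
  set N := Subgroup.normalClosure ({x} : Set Q) with hN
  haveI hsolv : Group.IsSolvable N := CfsgLib.PrimePowerClass.isSolvable_normalClosure _ rfl (Fact.out : p.Prime) hx
  set X := (Cfsg.fittingSubgroup N).map N.subtype with hX
  haveI hXn : X.Normal := ConjAct.normal_of_characteristic_of_normal
  have hXnil : Group.IsNilpotent X := by
    haveI := CfsgLib.Core.isNilpotent_fittingSubgroup N
    exact CfsgLib.Core.isNilpotent_map N.subtype _
  have hXp : ¬ p ∣ Nat.card X := by
    intro hd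
    obtain ⟨P⟩ : Nonempty (Sylow p X) := inferInstance
    haveI : (P : Subgroup X).Normal := by
      haveI := hXnil
      exact Sylow.normal_of_normalizerCondition Group.normalizerCondition_of_isNilpotent P
    haveI : (P : Subgroup X).Characteristic := Sylow.characteristic_of_normal P inferInstance
    haveI : ((P : Subgroup X).map X.subtype).Normal := ConjAct.normal_of_characteristic_of_normal
    have h1 := CfsgLib.Core.le_pCore (N := (P : Subgroup X).map X.subtype) (P.2.map _)
    rw [hO, le_bot_iff, Subgroup.map_eq_bot_iff_of_injective _ X.subtype_injective] at h1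
    exact P.ne_bot_of_dvd_card hd h1
  have hXC : X ≤ Subgroup.centralizer ({x} : Set Q) := by
    refine Subgroup.relIndex_eq_one.1 (Nat.eq_one_of_dvd_coprimes
      ((((Fact.out : p.Prime).coprime_iff_not_dvd.2 hXp)).pow_left b)
      (hx ▸ CfsgLib.ClassSizes.relIndex_dvd_index_of_normal_right X _) (Subgroup.relIndex_dvd_card _ _))
  have hxN : x ∈ N := Subgroup.subset_normalClosure rfl
  have hxX : x ∈ X := by
    refine ⟨⟨x, hxN⟩, CfsgLib.Components.centralizer_fitting_le_of_isSolvable ?_, rfl⟩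
    refine Subgroup.mem_centralizer_iff.2 fun y hy => Subtype.ext ?_
    exact Subgroup.mem_centralizer_singleton_iff.1 (hXC ⟨y, hy, rfl⟩)
  have hu : u * x * u⁻¹ ∈ X := hXn.conj_mem x hxX u
  have hv : v⁻¹ * (u * x * u⁻¹) * v⁻¹⁻¹ ∈ X := hXn.conj_mem _ hu v⁻¹
  have h1 := Subgroup.mem_centralizer_singleton_iff.1 (hXC hv)
  rw [inv_inv] at h1
  calc u * x * u⁻¹ * (v * x * v⁻¹) = v * (v⁻¹ * (u * x * u⁻¹) * v * x) * v⁻¹ := by group
    _ = v * (x * (v⁻¹ * (u * x * u⁻¹) * v)) * v⁻¹ := by rw [h1]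
    _ = v * x * v⁻¹ * (u * x * u⁻¹) := by group


/-- Let G be a finite group, p a prime and x an element whose conjugacy class has p-power size. Then for any two conjugates y and z of x, the commutator y z y⁻¹ z⁻¹ lies in O_p(G), the largest normal p-subgroup of G. -/
theorem result {G : Type*} [Group G] [Finite G] (p : ℕ) [Fact p.Prime]
    (x : G) (hx : ∃ a : ℕ, (Subgroup.centralizer ({x} : Set G)).index = p ^ a) (g h : G) :
    (g * x * g⁻¹) * (h * x * h⁻¹) * (g * x * g⁻¹)⁻¹ * (h * x * h⁻¹)⁻¹ ∈ Cfsg.pCore p G := by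
  obtain ⟨a, ha⟩ := hx
  set π := QuotientGroup.mk' (Cfsg.pCore p G) with hπ
  have hd : (Subgroup.centralizer ({π x} : Set (G ⧸ Cfsg.pCore p G))).index ∣ p ^ a := by
    rw [← ha]
    refine dvd_trans (Subgroup.index_dvd_of_le ?_) (Subgroup.index_map_dvd _ (QuotientGroup.mk'_surjective _))
    rintro _ ⟨z, hz, rfl⟩
    rw [Subgroup.mem_centralizer_singleton_iff, ← map_mul, ← map_mul, Subgroup.mem_centralizer_singleton_iff.1 hz]
  obtain ⟨b, -, hb⟩ := (Nat.dvd_prime_pow (Fact.out : p.Prime)).1 hd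
  have h1 := commute_conjugates (CfsgLib.Core.pCore_quotient_pCore p G) (π x) hb (π g) (π h)
  rw [← QuotientGroup.eq_one_iff]
  show π _ = 1
  simp only [map_mul, map_inv]
  rw [h1.eq]
  group
end Cfsg.Agent.S4364
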