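import Cfsg.Statements.S4365


set_option autoImplicit false
open Cfsg

namespace Cfsg.Agent.S4365

/-- Let P be a finite p-group whose conjugacy class sizes are exactly 1 and pᵃ for some a ≥ 1. Then every element of P has its p-th power in the center of P (P/Z(P) has exponent p). -/
theorem result {P : Type*} [Group P] [Finite P] (p : ℕ) [Fact p.Prime]
    (hP : IsPGroup p P) (a : ℕ) (ha : 1 ≤ a)
    (hcs : {k : ℕ | ∃ x : P, (Subgroup.centralizer ({x} : Set P)).index = k} = {1, p ^ a}) (x : P) :
    x ^ p ∈ Subgroup.center P := by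
  classical
  have hp : p.Prime := Fact.out
  by_contra hx
  set Z := Subgroup.center P with hZ
  have hind : ∀ g : P, g ∉ Z → (Subgroup.centralizer ({g} : Set P)).index = p ^ a := by
    intro g hg
    have : (Subgroup.centralizer ({g} : Set P)).index ∈ ({1, p ^ a} : Set ℕ) := by
      rw [← hcs]; exact ⟨g, rfl⟩
    refine this.resolve_left fun h1 => hg ?_
    rw [Subgroup.index_eq_one] at h1
    refine Subgroup.mem_center_iff.2 fun c => ?_
    exact (Subgroup.mem_centralizer_iff.1 (show c ∈ Subgroup.centralizer ({g} : Set P) by rw [h1]; trivial) g rfl).symm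
  have heq : ∀ g h : P, g ∉ Z → h ∉ Z →
      Subgroup.centralizer ({g} : Set P) ≤ Subgroup.centralizer ({h} : Set P) →
      Subgroup.centralizer ({g} : Set P) = Subgroup.centralizer ({h} : Set P) := by
    intro g h hg hh hle
    refine Subgroup.eq_of_le_of_card_ge hle ?_
    have e1 := (Subgroup.centralizer ({g} : Set P)).index_mul_card
    have e2 := (Subgroup.centralizer ({h} : Set P)).index_mul_card
    rw [hind g hg] at e1
    rw [hind h hh] at e2
    exact (Nat.eq_of_mul_eq_mul_left (pow_pos hp.pos a) (e1.trans e2.symm)).ge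
  have hmem : ∀ g c : P, c ∈ Subgroup.centralizer ({g} : Set P) ↔ Commute g c := by
    intro g c
    rw [Subgroup.mem_centralizer_singleton_iff]
    exact ⟨fun h => h.symm, fun h => h.symm⟩
  have hZle : ∀ g : P, Z ≤ Subgroup.centralizer ({g} : Set P) := fun g =>
    Subgroup.center_le_centralizer _
  have hnZ : ∀ g : P, g ^ p ∉ Z → g ∉ Z := fun g hg h => hg (pow_mem h p)
  have hpow : ∀ g : P, g ^ p ∉ Z →
      Subgroup.centralizer ({g ^ p} : Set P) = Subgroup.centralizer ({g} : Set P) := by
    intro g hg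
    refine (heq g (g ^ p) (hnZ g hg) hg fun c hc => ?_).symm
    rw [hmem] at hc ⊢
    exact hc.pow_left p
  -- elements fixing `g` modulo the centre centralise it
  have L : ∀ g e : P, g ^ p ∉ Z → e * g * e⁻¹ * g⁻¹ ∈ Z →
      e ∈ Subgroup.centralizer ({g} : Set P) := by
    intro g e hg hc
    obtain ⟨k, hk⟩ := hP e
    induction k generalizing e with
    | zero => simp only [pow_zero, pow_one] at hk; rw [hk]; exact one_mem _
    | succ k ih =>
      set c := e * g * e⁻¹ * g⁻¹ with hcdef
      have hcc : ∀ d, Commute c d := fun d => (Subgroup.mem_center_iff.1 hc d).symm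
      have he : ∀ n : ℕ, e ^ n * g * (e ^ n)⁻¹ = c ^ n * g := by
        intro n
        induction n with
        | zero => simp
        | succ n ihn =>
          calc e ^ (n + 1) * g * (e ^ (n + 1))⁻¹ = e * (e ^ n * g * (e ^ n)⁻¹) * e⁻¹ := by
                rw [pow_succ']; group
            _ = e * (c ^ n * g) * e⁻¹ := by rw [ihn]
            _ = c ^ n * (c * g) := by
                rw [← mul_assoc e, ((hcc e).pow_left n).symm.eq,
                  show c * g = e * g * e⁻¹ by rw [hcdef]; group]
                simp only [mul_assoc]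
            _ = c ^ (n + 1) * g := by rw [pow_succ]; exact (mul_assoc _ _ _).symm
      have hep : e ^ p ∈ Subgroup.centralizer ({g} : Set P) := by
        refine ih (e ^ p) ?_ ?_
        · rw [he, mul_inv_cancel_right]; exact pow_mem hc p
        · rw [← pow_mul, ← pow_succ', hk]
      rw [hmem] at hep
      have hcp : c ^ p = 1 := by
        have h1 := he p
        rw [← hep.eq, mul_inv_cancel_right] at h1
        exact mul_right_cancel (b := g) (by rw [one_mul]; exact h1.symm)
      rw [← hpow g hg, hmem]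
      have h2 : e * g ^ p * e⁻¹ = g ^ p := by
        rw [← conj_pow, show e * g * e⁻¹ = c * g by rw [hcdef]; group, (hcc g).mul_pow, hcp, one_mul]
      exact (mul_inv_eq_iff_eq_mul.1 h2).symm
  set A := Subgroup.centralizer ({x} : Set P) with hA
  -- a noncentral element of the second centre
  obtain ⟨z, hzn, hzc, hzp⟩ : ∃ z : P, z ∉ Z ∧ (∀ e, e * z * e⁻¹ * z⁻¹ ∈ Z) ∧ z ^ p ∈ Z := by
    haveI : Nontrivial (P ⧸ Z) := by
      refine ⟨⟨(x : P ⧸ Z), 1, fun h => hnZ x hx ?_⟩⟩
      exact (QuotientGroup.eq_one_iff x).1 h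
    have hQ := hP.to_quotient Z
    haveI := hQ.center_nontrivial
    obtain ⟨d, hd⟩ := exists_prime_orderOf_dvd_card' (G := Subgroup.center (P ⧸ Z)) p (by
      obtain ⟨n, hn⟩ := IsPGroup.iff_card.1 (hQ.to_subgroup (Subgroup.center (P ⧸ Z)))
      rw [hn]
      refine dvd_pow_self p fun h0 => ?_
      rw [h0, pow_zero] at hn
      exact (Finite.one_lt_card (α := Subgroup.center (P ⧸ Z))).ne' hn)
    obtain ⟨z, hz⟩ := QuotientGroup.mk_surjective (d : P ⧸ Z)
    refine ⟨z, fun h => ?_, fun e => ?_, ?_⟩
    · have : d = 1 := Subtype.ext (hz.symm.trans ((QuotientGroup.eq_one_iff z).2 h))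
      rw [this, orderOf_one] at hd
      exact hp.ne_one hd.symm
    · rw [← QuotientGroup.eq_one_iff, QuotientGroup.mk_mul, QuotientGroup.mk_mul,
        QuotientGroup.mk_mul, hz, Subgroup.mem_center_iff.1 d.2, QuotientGroup.mk_inv,
        QuotientGroup.mk_inv, hz]
      group
    · rw [← QuotientGroup.eq_one_iff, QuotientGroup.mk_pow, hz, ← Subgroup.coe_pow, ← hd,
        pow_orderOf_eq_one, Subgroup.coe_one]
  have hzA : ∀ g : P, g ^ p ∉ Z →
      Subgroup.centralizer ({g} : Set P) = Subgroup.centralizer ({z} : Set P) := by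
    intro g hg
    have hgz : Commute g z := by
      refine (hmem g z).1 (L g z hg ?_)
      have h1 := inv_mem (hzc g)
      rw [show (g * z * g⁻¹ * z⁻¹)⁻¹ = z * g * z⁻¹ * g⁻¹ by group] at h1
      exact h1
    have hgzp : (g * z) ^ p ∉ Z := by
      rw [hgz.mul_pow]
      exact fun h => hg ((Subgroup.mul_mem_cancel_right _ hzp).1 h)
    have e : Subgroup.centralizer ({g * z} : Set P) ≤ Subgroup.centralizer ({g} : Set P) := by
      intro c hc
      rw [hmem] at hc
      rw [← hpow g hg, hmem]
      have h1 := hc.pow_left p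
      rw [hgz.mul_pow] at h1
      have h2 : Commute (z ^ p)⁻¹ c := Commute.inv_left (Subgroup.mem_center_iff.1 hzp c).symm
      simpa using h1.mul_left h2
    have e' := heq _ _ (hnZ _ hgzp) (hnZ _ hg) e
    refine heq _ _ (hnZ _ hg) hzn fun c hc => ?_
    have h1 : c ∈ Subgroup.centralizer ({g * z} : Set P) := e'.symm ▸ hc
    rw [hmem] at hc h1 ⊢
    simpa using (hc.inv_left).mul_left h1
  have hAz : A = Subgroup.centralizer ({z} : Set P) := hzA x hx
  have hAn : A.Normal := by
    rw [hAz]
    refine ⟨fun c hc e => ?_⟩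
    rw [hmem] at hc ⊢
    have h1 := hzc e⁻¹
    set w := e⁻¹ * z * e⁻¹⁻¹ * z⁻¹ with hw
    have h2 : e⁻¹ * z * e = w * z := by rw [hw]; group
    have h3 : Commute (e⁻¹ * z * e) c := by
      rw [h2]; exact Commute.mul_left (Subgroup.mem_center_iff.1 h1 c).symm hc
    calc z * (e * c * e⁻¹) = e * ((e⁻¹ * z * e) * c) * e⁻¹ := by group
      _ = e * (c * (e⁻¹ * z * e)) * e⁻¹ := by rw [h3.eq]
      _ = e * c * e⁻¹ * z := by group
  haveI := hAn
  have hAab : ∀ w ∈ A, ∀ v ∈ A, Commute w v := by
    intro w hw v hv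
    by_cases hwp : w ^ p ∈ Z
    · have hwx : Commute x w := (hmem x w).1 hw
      have hxw : (x * w) ^ p ∉ Z := by
        rw [hwx.mul_pow]
        exact fun h => hx ((Subgroup.mul_mem_cancel_right _ hwp).1 h)
      have h1 : v ∈ Subgroup.centralizer ({x * w} : Set P) := by rw [hzA _ hxw, ← hAz]; exact hv
      have h2 : Commute x v := (hmem x v).1 hv
      rw [hmem] at h1
      simpa using h2.inv_left.mul_left h1
    · refine (hmem w v).1 ?_
      rw [hzA w hwp, ← hAz]; exact hv
  have hAtop : A ≠ ⊤ := by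
    intro h
    refine hnZ x hx (Subgroup.mem_center_iff.2 fun c => ?_)
    exact ((hmem x c).1 (show c ∈ A by rw [h]; trivial)).symm
  obtain ⟨y, hyA⟩ : ∃ y, y ∉ A := by
    by_contra! h
    exact hAtop ((Subgroup.eq_top_iff' A).2 h)
  have hyZ : y ∉ Z := fun h => hyA (hZle x h)
  set C := Subgroup.centralizer ({y} : Set P) with hC
  have hCA : A ⊓ C = Z := by
    refine le_antisymm (fun w hw => ?_) (le_inf (hZle x) (hZle y))
    by_contra hwZ
    have e : A = Subgroup.centralizer ({w} : Set P) :=
      heq x w (hnZ x hx) hwZ fun v hv => (hmem w v).2 (hAab w hw.1 v hv)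
    exact hyA (e.symm ▸ (hmem w y).2 ((hmem y w).1 hw.2).symm)
  have h1 : Z.relIndex C ≤ A.index := by
    rw [← hCA, Subgroup.inf_relIndex_right]
    exact Nat.le_of_dvd (Nat.pos_of_ne_zero Subgroup.index_ne_zero_of_finite)
      (Subgroup.relIndex_dvd_index_of_normal A C)
  have h2 : Z.relIndex C = Z.relIndex A := by
    have e1 := Subgroup.relIndex_mul_index (hZle y)
    have e2 := Subgroup.relIndex_mul_index (hZle x)
    rw [← hC, hind y hyZ] at e1
    rw [← hA, show A.index = p ^ a from hind x (hnZ x hx)] at e2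
    exact Nat.eq_of_mul_eq_mul_right (pow_pos hp.pos a) (e1.trans e2.symm)
  let Z' := Z.subgroupOf A
  let f : P ⧸ A → A ⧸ Z' := fun q =>
    QuotientGroup.mk ⟨q.out * x * q.out⁻¹, hAn.conj_mem x ((hmem x x).2 (Commute.refl x)) _⟩
  have hf : Function.Injective f := by
    intro q r hqr
    have h := QuotientGroup.eq.1 hqr
    rw [Subgroup.mem_subgroupOf] at h
    simp only [Subgroup.coe_mul, InvMemClass.coe_inv] at h
    rw [← QuotientGroup.out_eq' q, ← QuotientGroup.out_eq' r, QuotientGroup.eq]
    refine L x _ hx ?_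
    have h' := (inferInstance : Z.Normal).conj_mem _ h (q.out⁻¹)
    have h'' := (inferInstance : Z.Normal).conj_mem _ h' x
    rw [inv_inv] at h'
    have := h''
    convert this using 1
    group
  have hne : ∀ q, f q ≠ 1 := by
    intro q h
    rw [QuotientGroup.eq_one_iff, Subgroup.mem_subgroupOf] at h
    refine hnZ x hx ?_
    have := (inferInstance : Z.Normal).conj_mem _ h q.out⁻¹
    simpa [mul_assoc] using this
  have h3 : A.index < Z.relIndex A := by
    rw [Subgroup.relIndex, Subgroup.index, Subgroup.index]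
    haveI := Fintype.ofFinite (P ⧸ A)
    haveI := Fintype.ofFinite (A ⧸ Z')
    rw [Nat.card_eq_fintype_card, Nat.card_eq_fintype_card]
    exact Fintype.card_lt_of_injective_of_notMem f hf (b := (1 : A ⧸ Z'))
      (by rintro ⟨q, hq⟩; exact hne q hq)
  omega
end Cfsg.Agent.S4365
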