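import Cfsg.Statements.S4377
import Cfsg.Agent.Lib.HallGen.Counting

set_option autoImplicit false
open Cfsg
open scoped Pointwise

namespace Cfsg.Agent.S4377

theorem key (K : Type*) [Group K] [Fintype K] (n : ℕ) (hn : n ≠ 0) :
    Nat.card {g : K // g ^ n = 1} = ∑ d ∈ n.divisors, Nat.card {g : K // orderOf g = d} := by
  classical
  simp only [Nat.card_eq_fintype_card, Fintype.card_subtype]
  rw [Finset.card_eq_sum_card_fiberwise (f := orderOf) (t := n.divisors)
    (fun g hg => Nat.mem_divisors.2 ⟨orderOf_dvd_of_pow_eq_one (Finset.mem_filter.1 hg).2, hn⟩)]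
  refine Finset.sum_congr rfl fun d hd => congrArg Finset.card (Finset.ext fun g => ?_)
  simp only [Finset.mem_filter, Finset.mem_univ, true_and]
  exact ⟨fun h => h.2, fun h => ⟨orderOf_dvd_iff_pow_eq_one.1 (h ▸ (Nat.mem_divisors.1 hd).1), h⟩⟩


/-- Two finite groups have the same number of elements of each order if and only if, for every n, they have the same number of elements g with gⁿ = 1. -/
theorem result {G H : Type*} [Group G] [Finite G] [Group H] [Finite H] :
    (∀ n : ℕ, Nat.card {g : G // orderOf g = n} = Nat.card {h : H // orderOf h = n}) ↔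
      ∀ n : ℕ, Nat.card {g : G // g ^ n = 1} = Nat.card {h : H // h ^ n = 1} := by
  classical
  haveI := Fintype.ofFinite G
  haveI := Fintype.ofFinite H
  constructor
  · intro h n
    rcases eq_or_ne n 0 with rfl | hn
    · have hN : Nat.card G * Nat.card H ≠ 0 := mul_ne_zero Nat.card_pos.ne' Nat.card_pos.ne'
      have e1 : Nat.card {g : G // g ^ (Nat.card G * Nat.card H) = 1} = Nat.card {g : G // g ^ 0 = 1} :=
        Nat.card_congr (Equiv.subtypeEquivRight fun g => by simp [pow_mul])
      have e2 : Nat.card {g : H // g ^ (Nat.card G * Nat.card H) = 1} = Nat.card {g : H // g ^ 0 = 1} :=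
        Nat.card_congr (Equiv.subtypeEquivRight fun g => by simp [pow_mul'])
      rw [← e1, ← e2, key G _ hN, key H _ hN]
      exact Finset.sum_congr rfl fun d _ => h d
    · rw [key G n hn, key H n hn]
      exact Finset.sum_congr rfl fun d _ => h d
  · intro h n
    induction n using Nat.strong_induction_on with
    | _ n ih =>
      rcases eq_or_ne n 0 with rfl | hn
      · have e1 : IsEmpty {g : G // orderOf g = 0} := ⟨fun g => (orderOf_pos g.1).ne' g.2⟩
        have e2 : IsEmpty {g : H // orderOf g = 0} := ⟨fun g => (orderOf_pos g.1).ne' g.2⟩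
        rw [Nat.card_of_isEmpty, Nat.card_of_isEmpty]
      · have h1 := h n
        rw [key G n hn, key H n hn, ← Finset.sum_erase_add _ _ (Nat.mem_divisors_self n hn),
          ← Finset.sum_erase_add _ _ (Nat.mem_divisors_self n hn)] at h1
        rw [Finset.sum_congr rfl (g := fun d => Nat.card {g : H // orderOf g = d}) (fun d hd => ih d ?_)] at h1
        · exact Nat.add_left_cancel h1
        · obtain ⟨hne, hd⟩ := Finset.mem_erase.1 hd
          exact lt_of_le_of_ne (Nat.divisor_le hd) hne
end Cfsg.Agent.S4377
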