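import Cfsg.Statements.S4381
import Cfsg.Agent.Lib.Core.Coprime
import Cfsg.Agent.Lib.PLocal.Misc
import Cfsg.Agent.Lib.PGroups.Basic

set_option linter.all false

set_option autoImplicit false
open Pointwise
open Cfsg

namespace Cfsg.Agent.S4381

open Subgroup
open scoped commutatorElement

/-- A complement in a group of exponent `p`. -/
theorem exists_compl {E : Type*} [Group E] [Finite E] {p : ℕ} [Fact p.Prime] {U V : Subgroup E}
    (hUV : U ≤ V) (hV : IsMulCommutative V) (he : ∀ x ∈ V, x ^ p = 1) :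
    ∃ W, W ≤ V ∧ U ⊓ W = ⊥ ∧ U ⊔ W = V := by
  obtain ⟨W, ⟨hW, hd⟩, hmax⟩ := WellFounded.has_min (wellFounded_gt (α := Subgroup E))
    {W | W ≤ V ∧ U ⊓ W = ⊥} ⟨⊥, bot_le, inf_bot_eq _⟩
  refine ⟨W, hW, hd, le_antisymm (sup_le hUV hW) fun x hx => ?_⟩
  by_contra hxn
  have hlt : W < W ⊔ zpowers x := lt_of_le_of_ne le_sup_left fun e =>
    hxn (le_sup_right (a := U) (by rw [e]; exact le_sup_right (a := W) (mem_zpowers x)))
  have hne : U ⊓ (W ⊔ zpowers x) ≠ ⊥ := fun e => hmax _ ⟨sup_le hW (zpowers_le.2 hx), e⟩ hlt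
  obtain ⟨u, hu, hu1⟩ := (Subgroup.bot_or_exists_ne_one _).resolve_left hne
  have hn : zpowers x ≤ normalizer (W : Set E) := zpowers_le.2 <| mem_normalizer_iff.2 fun w => by
    constructor
    · intro hw
      rw [CfsgLib.PLocal.comm_of_mem hV hx (hW hw), mul_inv_cancel_right]; exact hw
    · intro hw
      have hwV : w ∈ V := by
        have := V.mul_mem (V.mul_mem (V.inv_mem hx) (hW hw)) hx
        simpa [mul_assoc] using this
      rw [CfsgLib.PLocal.comm_of_mem hV hx hwV, mul_inv_cancel_right] at hw; exact hw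
  have h2 : u ∈ ((W ⊔ zpowers x : Subgroup E) : Set E) := hu.2
  rw [coe_mul_of_right_le_normalizer_left W (zpowers x) hn] at h2
  obtain ⟨w, hw, y, ⟨i, rfl⟩, hy⟩ := h2
  have hxi : x ^ i ∈ U ⊔ W := by
    have : x ^ i = w⁻¹ * u := by rw [← hy]; simp
    rw [this]
    exact mul_mem (inv_mem (le_sup_right (a := U) hw)) (le_sup_left (b := W) hu.1)
  by_cases hi : (p : ℤ) ∣ i
  · obtain ⟨j, rfl⟩ := hi
    have hy' : w = u := by
      rw [← hy]
      simp only [zpow_mul, zpow_natCast, he x hx, one_zpow, mul_one]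
    exact hu1 (Subgroup.mem_bot.1 (hd ▸ ⟨hu.1, hy' ▸ hw⟩))
  · obtain ⟨a, b, hab⟩ := ((Nat.prime_iff_prime_int.1 Fact.out).coprime_iff_not_dvd.2 hi)
    apply hxn
    have : x = (x ^ i) ^ b := by
      conv_lhs => rw [← zpow_one x, ← hab, zpow_add, mul_comm a, zpow_mul, zpow_natCast, he x hx,
        one_zpow, one_mul, mul_comm b, zpow_mul]
    rw [this]
    exact zpow_mem hxi b


/-- Let the finite group A act by automorphisms on the finite group G with the orders of A and G coprime, and assume that A or G is solvable. Call a proper A-invariant subgroup of G maximal A-invariant when no A-invariant subgroup lies strictly between it and G. Then all maximal A-invariant subgroups of G are conjugate under elements of the fixed-point subgroup C_G(A) if and only if G is a p-group for some prime p and A leaves invariant no subgroup strictly between the Frattini subgroup of G and G. In that case, if G is nontrivial, the Frattini subgroup is the only maximal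 A-invariant subgroup (a trivial G has none). -/
theorem result {A G : Type*} [Group A] [Finite A]
    [Group G] [Finite G] [MulDistribMulAction A G] (hcop : (Nat.card A).Coprime (Nat.card G)) (hsol : Group.IsSolvable A ∨ Group.IsSolvable G) :
    ((∀ M N : Subgroup G, (M ≠ ⊤ ∧ (∀ a : A, ∀ x ∈ M, a • x ∈ M) ∧ ∀ L : Subgroup G, M < L → (∀ a : A, ∀ x ∈ L, a • x ∈ L) → L = ⊤) → (N ≠ ⊤ ∧ (∀ a : A, ∀ x ∈ N, a • x ∈ N) ∧ ∀ L : Subgroup G, N < L → (∀ a : A, ∀ x ∈ L, a • x ∈ L) → L = ⊤) →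
        ∃ c : G, (∀ a : A, a • c = c) ∧ N = MulAut.conj c • M) ↔
      ((∃ p : ℕ, p.Prime ∧ IsPGroup p G) ∧ ∀ L : Subgroup G, frattini G < L → (∀ a : A, ∀ x ∈ L, a • x ∈ L) → L = ⊤)) ∧
    (((∃ p : ℕ, p.Prime ∧ IsPGroup p G) ∧ ∀ L : Subgroup G, frattini G < L → (∀ a : A, ∀ x ∈ L, a • x ∈ L) → L = ⊤) →
      ∀ M : Subgroup G, (M ≠ ⊤ ∧ (∀ a : A, ∀ x ∈ M, a • x ∈ M) ∧ ∀ L : Subgroup G, M < L → (∀ a : A, ∀ x ∈ L, a • x ∈ L) → L = ⊤) ↔ (M = frattini G ∧ M ≠ ⊤)) := by
  classical
  let φ : A →* MulAut G := MulDistribMulAction.toMulAut A G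
  let Γ := G ⋊[φ] A
  haveI : Finite Γ := Finite.of_equiv _ SemidirectProduct.equivProd.symm
  let ι : G →* Γ := SemidirectProduct.inl
  have hι : Function.Injective ι := SemidirectProduct.inl_injective
  let K : Subgroup Γ := ι.range
  let B : Subgroup Γ := (SemidirectProduct.inr : A →* Γ).range
  have hKn : K.Normal := by
    show (SemidirectProduct.inl : G →* Γ).range.Normal
    rw [SemidirectProduct.range_inl_eq_ker_rightHom]
    infer_instance
  have hconj : ∀ (a : A) (x : G), (SemidirectProduct.inr a : Γ) * ι x * (SemidirectProduct.inr a : Γ)⁻¹ = ι (a • x) := fun a x => by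
    rw [← map_inv]; exact (SemidirectProduct.inl_aut a x).symm
  have hBK : B ≤ normalizer (K : Set Γ) := by rw [normalizer_eq_top_iff.2 hKn]; exact le_top
  have hKc : Nat.card K = Nat.card G := (Nat.card_congr (MonoidHom.ofInjective hι).toEquiv).symm
  have hBc : Nat.card B = Nat.card A := (Nat.card_congr (MonoidHom.ofInjective SemidirectProduct.inr_injective).toEquiv).symm
  have hcopB : (Nat.card B).Coprime (Nat.card K) := by rw [hBc, hKc]; exact hcop
  have hsolB : Group.IsSolvable B ∨ Group.IsSolvable K := hsol.imp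
    (fun h => @Group.isSolvable_of_surjective _ _ _ _ (SemidirectProduct.inr : A →* Γ).rangeRestrict (MonoidHom.rangeRestrict_surjective _) h)
    (fun h => @Group.isSolvable_of_surjective _ _ _ _ ι.rangeRestrict (MonoidHom.rangeRestrict_surjective _) h)
  set Inv : Subgroup G → Prop := fun L => ∀ a : A, ∀ x ∈ L, a • x ∈ L with hInv
  have hinvΦ : Inv (frattini G) := fun a x hx => by
    have h := Subgroup.characteristic_iff_le_comap.1 (inferInstance : (frattini G).Characteristic) (φ a) hx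
    exact h
  have hsup : ∀ L L' : Subgroup G, Inv L → Inv L' → Inv (L ⊔ L') := fun L L' hL hL' a x hx => by
    have : L ⊔ L' ≤ (L ⊔ L').comap (φ a).toMonoidHom := sup_le
      (fun y hy => le_sup_left (b := L') (hL a y hy)) (fun y hy => le_sup_right (a := L) (hL' a y hy))
    exact this hx
  have hmaxabove : ∀ L : Subgroup G, L ≠ ⊤ → Inv L → ∃ M, L ≤ M ∧ (M ≠ ⊤ ∧ Inv M ∧ ∀ L' : Subgroup G, M < L' → Inv L' → L' = ⊤) := by
    intro L hL hLi
    obtain ⟨M, ⟨hLM, hM, hMi⟩, hmax⟩ := WellFounded.has_min (wellFounded_gt (α := Subgroup G))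
      {M | L ≤ M ∧ M ≠ ⊤ ∧ Inv M} ⟨L, le_rfl, hL, hLi⟩
    exact ⟨M, hLM, hM, hMi, fun L' hlt hLi' => by_contra fun hne => hmax L' ⟨hLM.trans hlt.le, hne, hLi'⟩ hlt⟩
  have hsyl : ∀ (p : ℕ) [Fact p.Prime], ∃ L : Subgroup G, Inv L ∧ Nat.card L = p ^ (Nat.card G).factorization p := by
    intro p _
    obtain ⟨P, hP⟩ := CfsgLib.Core.exists_invariant_sylow hBK hcopB hsolB p
    refine ⟨((P : Subgroup K).map K.subtype).comap ι, fun a x hx => ?_, ?_⟩
    · rw [mem_comap] at hx ⊢
      rw [← hconj]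
      exact ((mem_normalizer_iff).1 (hP ⟨a, rfl⟩) _).1 hx
    · rw [Nat.card_congr ((((P : Subgroup K).map K.subtype).comap ι).equivMapOfInjective ι hι).toEquiv,
        map_comap_eq_self (show _ ≤ ι.range from map_subtype_le _),
        Subgroup.card_map_of_injective K.subtype_injective, P.card_eq_multiplicity, hKc]
  -- the converse direction and the second assertion
  have hback : ((∃ p : ℕ, p.Prime ∧ IsPGroup p G) ∧ ∀ L : Subgroup G, frattini G < L → Inv L → L = ⊤) →
      ∀ M : Subgroup G, (M ≠ ⊤ ∧ Inv M ∧ ∀ L : Subgroup G, M < L → Inv L → L = ⊤) ↔ (M = frattini G ∧ M ≠ ⊤) := by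
    rintro ⟨-, hirr⟩ M
    constructor
    · rintro ⟨hM, hMi, hmax⟩
      have h1 : M ⊔ frattini G ≠ ⊤ := fun e => hM (frattini_nongenerating e)
      have h2 : M ⊔ frattini G = frattini G := by
        by_contra hne
        exact h1 (hirr _ (lt_of_le_of_ne le_sup_right (Ne.symm hne)) (hsup _ _ hMi hinvΦ))
      have h3 : M ≤ frattini G := h2 ▸ le_sup_left
      refine ⟨?_, hM⟩
      by_contra hne
      have := hmax _ (lt_of_le_of_ne h3 hne) hinvΦ
      exact h1 (by rw [h2, this])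
    · rintro ⟨rfl, hM⟩
      exact ⟨hM, hinvΦ, hirr⟩
  refine ⟨⟨fun hall => ?_, fun h M N hM hN => ⟨1, fun a => smul_one a, ?_⟩⟩, hback⟩
  swap
  · rw [((hback h M).1 hM).1, ((hback h N).1 hN).1, map_one, one_smul]
  rcases subsingleton_or_nontrivial G with hs | hnt
  · exact ⟨⟨2, Nat.prime_two, fun g => ⟨0, Subsingleton.elim _ _⟩⟩, fun L hL _ => absurd hL (by rw [Subsingleton.elim L (frattini G)]; exact lt_irrefl _)⟩
  obtain ⟨M₀, -, hM₀⟩ := hmaxabove ⊥ bot_ne_top (fun a x hx => by rw [Subgroup.mem_bot] at hx ⊢; rw [hx, smul_one])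
  have hcase : ∃ p : ℕ, p.Prime ∧ IsPGroup p G := by
    by_contra hno
    apply hM₀.1
    refine Subgroup.eq_top_of_card_eq _ (Nat.dvd_antisymm M₀.card_subgroup_dvd_card ?_)
    refine (Nat.dvd_iff_prime_pow_dvd_dvd _ _).2 fun p k hp hpk => ?_
    haveI := Fact.mk hp
    obtain ⟨L, hLi, hLc⟩ := hsyl p
    have hLne : L ≠ ⊤ := fun e => hno ⟨p, hp, IsPGroup.of_card (n := (Nat.card G).factorization p) (by
      rw [← hLc, e, Subgroup.card_top])⟩
    obtain ⟨M, hLM, hM⟩ := hmaxabove L hLne hLi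
    obtain ⟨c, -, hc⟩ := hall M M₀ hM hM₀
    have hcard : Nat.card M₀ = Nat.card M := by
      rw [hc]; exact (Nat.card_congr (Subgroup.equivSMul (MulAut.conj c) M).toEquiv).symm
    rw [hcard]
    refine dvd_trans ?_ (Subgroup.card_dvd_of_le hLM)
    rw [hLc]
    exact Nat.pow_dvd_pow p ((hp.pow_dvd_iff_le_factorization Nat.card_pos.ne').1 hpk)
  refine ⟨hcase, fun L hL hLi => by_contra fun hne => ?_⟩
  obtain ⟨p, hp, hG⟩ := hcase
  haveI := Fact.mk hp
  obtain ⟨M, hLM, hM⟩ := hmaxabove L hne hLi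
  have hMn : M.Normal := ⟨fun x hx g => by
    have h1 : ⁅g, x⁆ ∈ M := hLM (hL.le (CfsgLib.PGroups.commutator_le_frattini' hG (by
      rw [_root_.commutator_def]; exact Subgroup.commutator_mem_commutator trivial trivial)))
    have h2 := M.mul_mem h1 hx
    rwa [commutatorElement_def, inv_mul_cancel_right] at h2⟩
  -- pass to the quotient by the Frattini subgroup
  set Φ : Subgroup Γ := (frattini G).map ι with hΦ
  have hΦn : Φ.Normal := by
    constructor
    rintro _ ⟨x, hx, rfl⟩ γ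
    rw [← SemidirectProduct.inl_left_mul_inr_right γ]
    refine ⟨γ.left * (γ.right • x) * γ.left⁻¹, (inferInstance : (frattini G).Normal).conj_mem _ (hinvΦ _ _ hx) _, ?_⟩
    rw [map_mul, map_mul, map_inv, ← hconj]
    group
    rfl
  let π : Γ →* Γ ⧸ Φ := QuotientGroup.mk' Φ
  let ψ : G →* Γ ⧸ Φ := π.comp ι
  have hψ : ψ.ker = frattini G := by
    ext x
    show ((ι x : Γ) : Γ ⧸ Φ) = 1 ↔ _
    rw [QuotientGroup.eq_one_iff, hΦ, Subgroup.mem_map_iff_mem hι]
  set V := (⊤ : Subgroup G).map ψ with hV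
  set B' := B.map π with hB'
  have hVcomm : IsMulCommutative V := by
    refine ⟨⟨?_⟩⟩
    rintro ⟨_, x, -, rfl⟩ ⟨_, y, -, rfl⟩
    refine Subtype.ext ?_
    show ψ x * ψ y = ψ y * ψ x
    rw [← map_mul, ← map_mul, MonoidHom.eq_iff, hψ]
    refine (CfsgLib.PGroups.commutator_le_frattini' hG) ?_
    rw [_root_.commutator_def]
    have : (y * x)⁻¹ * (x * y) = ⁅x⁻¹, y⁻¹⁆ := by rw [commutatorElement_def]; group
    rw [this]
    exact Subgroup.commutator_mem_commutator trivial trivial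
  have hexp : ∀ v ∈ V, v ^ p = 1 := by
    rintro _ ⟨x, -, rfl⟩
    rw [← map_pow, ← MonoidHom.mem_ker, hψ]
    exact CfsgLib.PGroups.pow_mem_frattini hG x
  have hBnorm : ∀ S : Subgroup G, Inv S → B' ≤ normalizer (S.map ψ : Set (Γ ⧸ Φ)) := by
    rintro S hS _ ⟨_, ⟨a, rfl⟩, rfl⟩
    have key : ∀ (a : A), ∀ v ∈ S.map ψ, π (SemidirectProduct.inr a) * v * (π (SemidirectProduct.inr a))⁻¹ ∈ S.map ψ := by
      rintro a _ ⟨x, hx, rfl⟩
      refine ⟨a • x, hS a x hx, ?_⟩
      show π (ι (a • x)) = _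
      rw [← hconj, map_mul, map_mul, map_inv]
      rfl
    rw [mem_normalizer_iff]
    intro v
    refine ⟨key a v, fun h => ?_⟩
    have := key a⁻¹ _ h
    simpa [map_inv, mul_assoc] using this
  obtain ⟨W, hWV, hMW, hMWV⟩ := exists_compl (p := p) (U := M.map ψ) (V := V) (map_mono le_top) hVcomm hexp
  have hVcard : (Nat.card B').Coprime (Nat.card V) :=
    (hcop.coprime_dvd_left (by rw [← hBc]; exact B.card_map_dvd π)).coprime_dvd_right
      (by rw [← Subgroup.card_top (G := G)]; exact (⊤ : Subgroup G).card_map_dvd ψ)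
  obtain ⟨W', hW'V, hW'B, hMW', hMW'V⟩ := CfsgLib.PLocal.exists_invariant_complement hVcomm
    (hBnorm ⊤ fun a x _ => trivial) hVcard (map_mono le_top) (hBnorm M hM.2.1) hWV hMW hMWV
  set N := W'.comap ψ with hN
  have hNi : Inv N := fun a x hx => by
    rw [hN, mem_comap] at hx ⊢
    show π (ι (a • x)) ∈ W'
    rw [← hconj, map_mul, map_mul, ← map_inv SemidirectProduct.inr, map_inv SemidirectProduct.inr, MonoidHom.map_inv π]
    exact ((mem_normalizer_iff).1 (hW'B ⟨_, ⟨a, rfl⟩, rfl⟩) _).1 hx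
  have hΦN : frattini G ≤ N := fun x hx => by
    rw [hN, mem_comap, show ψ x = 1 from MonoidHom.mem_ker.1 (hψ.symm ▸ hx)]; exact one_mem _
  have hW'map : N.map ψ = W' := map_comap_eq_self (by rw [MonoidHom.range_eq_map]; exact hW'V)
  have hNM : M ⊔ N = ⊤ := by
    have h1 : (M ⊔ N).map ψ = V := by rw [Subgroup.map_sup, hW'map, hMW'V]
    have h2 : (M ⊔ N) = ((M ⊔ N).map ψ).comap ψ := by
      rw [comap_map_eq, hψ, sup_eq_left.2 (hΦN.trans le_sup_right)]
    rw [h2, h1, eq_top_iff]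
    exact fun x _ => ⟨x, trivial, rfl⟩
  by_cases hNtop : N = ⊤
  · have : M.map ψ = ⊥ := by
      rw [← hMW', ← hW'map, hNtop]
      exact (inf_eq_left.2 (map_mono le_top)).symm
    rw [Subgroup.map_eq_bot_iff, hψ] at this
    exact absurd (hLM.trans this) (not_le_of_gt hL)
  obtain ⟨M', hNM', hM'⟩ := hmaxabove N hNtop hNi
  obtain ⟨c, -, hc⟩ := hall M M' hM hM'
  have : M' = M := by
    rw [hc]
    ext x
    rw [Subgroup.mem_pointwise_smul_iff_inv_smul_mem, MulAut.smul_def, ← map_inv, MulAut.conj_apply, inv_inv]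
    exact ⟨fun h => by simpa [mul_assoc] using hMn.conj_mem _ h c, fun h => by simpa [mul_assoc] using hMn.conj_mem _ h c⁻¹⟩
  exact hM.1 ((sup_eq_left.2 (this ▸ hNM')).symm.trans hNM)

end Cfsg.Agent.S4381
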