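import Cfsg.Statements.S4387
import Cfsg.Agent.Lib.HallGen.Counting

set_option autoImplicit false
open Pointwise
open Cfsg
open scoped Pointwise

namespace Cfsg.Agent.S4387

/-- Let G be a non-trivial finite group in which any two maximal subgroups are conjugate. Then G is cyclic of prime-power order. -/
theorem result {G : Type*} [Group G] [Finite G] [Nontrivial G]
    (h : ∀ M N : Subgroup G, IsCoatom M → IsCoatom N → ∃ g : G, N = MulAut.conj g • M) :
    IsCyclic G ∧ IsPrimePow (Nat.card G) := by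
  obtain ⟨M, hM, -⟩ := (IsCoatomic.eq_top_or_exists_le_coatom (⊥ : Subgroup G)).resolve_left bot_ne_top
  obtain ⟨x, hx⟩ := CfsgLib.HallGen.exists_not_mem_conj M hM.1
  have hgen : Subgroup.zpowers x = ⊤ := by
    refine (IsCoatomic.eq_top_or_exists_le_coatom (Subgroup.zpowers x)).resolve_right ?_
    rintro ⟨N, hN, hle⟩
    obtain ⟨g, rfl⟩ := h M N hM hN
    exact hx g (hle (Subgroup.mem_zpowers x))
  haveI hcyc : IsCyclic G := ⟨⟨x, fun y => Subgroup.mem_zpowers_iff.1 (hgen ▸ Subgroup.mem_top y)⟩⟩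
  refine ⟨hcyc, ?_⟩
  obtain ⟨p, hp, hpn⟩ := Nat.exists_prime_and_dvd (n := Nat.card G) Finite.one_lt_card.ne'
  rw [isPrimePow_iff_card_primeFactors_eq_one]
  refine Finset.card_eq_one.2 ⟨p, Finset.eq_singleton_iff_unique_mem.2
    ⟨Nat.mem_primeFactors.2 ⟨hp, hpn, Nat.card_pos.ne'⟩, fun q hq => ?_⟩⟩
  obtain ⟨hq, hqn, -⟩ := Nat.mem_primeFactors.1 hq
  have hidx : ∀ r : ℕ, r.Prime → r ∣ Nat.card G → ∃ L : Subgroup G, IsCoatom L ∧ L.index = r := by
    intro r hr hrn
    refine ⟨Subgroup.zpowers (x ^ r), ?_⟩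
    have hi : (Subgroup.zpowers (x ^ r)).index = r := by
      have h1 := (Subgroup.zpowers (x ^ r)).card_mul_index
      have h2 : orderOf x = Nat.card G := by rw [← Nat.card_zpowers, hgen, Subgroup.card_top]
      rw [Nat.card_zpowers, orderOf_pow' x hr.ne_zero, h2, Nat.gcd_eq_right hrn] at h1
      have h3 : Nat.card G / r ≠ 0 := by
        rw [Nat.div_ne_zero_iff]; exact ⟨hr.ne_zero, Nat.le_of_dvd Nat.card_pos hrn⟩
      exact Nat.eq_of_mul_eq_mul_left (Nat.pos_of_ne_zero h3) (h1.trans (Nat.div_mul_cancel hrn).symm)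
    refine ⟨⟨fun ht => hr.one_lt.ne' ?_, fun L hL => ?_⟩, hi⟩
    · rw [← hi, ht, Subgroup.index_top]
    · have h1 := Subgroup.relIndex_mul_index hL.le
      rw [hi] at h1
      rcases hr.eq_one_or_self_of_dvd _ (Dvd.intro_left _ h1) with h2 | h2
      · exact Subgroup.index_eq_one.1 h2
      · rw [h2] at h1
        exact absurd (Subgroup.relIndex_eq_one.1 (mul_eq_right₀ hr.ne_zero |>.1 h1)) hL.not_ge
  obtain ⟨L, hL, hLi⟩ := hidx p hp hpn
  obtain ⟨L', hL', hLi'⟩ := hidx q hq hqn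
  obtain ⟨g, hg⟩ := h L L' hL hL'
  rw [← hLi, ← hLi', hg]
  exact Subgroup.index_map_equiv L (MulAut.conj g)
end Cfsg.Agent.S4387
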