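import Cfsg.Statements.S4394
import Cfsg.Agent.Lib.Core.SchmidtLength.Main

set_option autoImplicit false
open Cfsg

namespace Cfsg.Agent.S4394

open Subgroup
open scoped commutatorElement

theorem facts_congr {A B : Type*} [Group A] [Group B] [Finite A] [Finite B] (p : ℕ) (e : A ≃* B)
    (h : (∀ a b : B, a * b = b * a) ∨ CfsgLib.Core.SchmidtLength.Facts p B) :
    (∀ a b : A, a * b = b * a) ∨ CfsgLib.Core.SchmidtLength.Facts p A := by
  rcases h with h | h
  · exact Or.inl fun a b => e.injective (by rw [map_mul, map_mul, h])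
  right
  have hc : ∀ a : A, a ∈ center A ↔ e a ∈ center B := by
    intro a
    rw [mem_center_iff, mem_center_iff]
    refine ⟨fun h g => ?_, fun h g => e.injective (by rw [map_mul, map_mul, h])⟩
    obtain ⟨g, rfl⟩ := e.surjective g
    rw [← map_mul, ← map_mul, h]
  have hcard : Nat.card (center B) = Nat.card (center A) := by
    have : center B = (center A).map e.toMonoidHom := by
      ext b
      obtain ⟨a, rfl⟩ := e.surjective b
      rw [← hc]
      exact ⟨fun ha => ⟨a, ha, rfl⟩, fun ⟨a', ha', he⟩ => e.injective he ▸ ha'⟩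
    rw [this, card_map_of_injective e.injective]
  refine ⟨fun x y => (hc _).2 (by rw [map_commutatorElement]; exact h.comm_mem _ _),
    fun x => (hc _).2 (by rw [map_pow]; exact h.pow_mem _), ?_, ?_⟩
  · intro x hx z hz
    obtain ⟨y, hy⟩ := h.surj (e x) (fun he => hx ((hc x).2 he)) (e z) ((hc z).1 hz)
    refine ⟨e.symm y, e.injective ?_⟩
    rw [map_commutatorElement, e.apply_symm_apply, hy]
  · intro hp V h1 h2 h3 h4 h5
    refine h.excl hp (V.map e.toMonoidHom) (hcard.trans h1)
      (by rw [card_map_of_injective e.injective, h2]) (by rw [← Nat.card_congr e.toEquiv, h3]) ?_ ?_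
    · intro b hb
      obtain ⟨a, rfl⟩ := e.surjective b
      exact mem_map_of_mem _ (h4 ((hc a).2 hb))
    · rintro _ ⟨a, ha, rfl⟩
      rw [← map_pow, h5 a ha, map_one]

/-- Let X be a finite minimal non-nilpotent group (not nilpotent, every proper subgroup nilpotent) with a nontrivial normal Sylow p-subgroup P. If G is a finite p-solvable group whose Sylow p-subgroups are isomorphic to P, then G has p-length at most 1. -/
theorem result {G X : Type*} [Group G] [Finite G] [Group X] [Finite X] (p : ℕ) [Fact p.Prime]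
    (hX : Cfsg.IsMinimalNonNilpotent X) (P : Sylow p X) (hPn : (P : Subgroup X).Normal) (hP1 : (P : Subgroup X) ≠ ⊥)
    (hG : Cfsg.IsPSolvable p G) (Q : Sylow p G) (hQ : Nonempty (↥(Q : Subgroup G) ≃* ↥(P : Subgroup X))) : Cfsg.PLengthLE p 1 G := by
  obtain ⟨e⟩ := hQ
  have hPf := CfsgLib.Core.SchmidtLength.facts_of_minimalNonNilpotent hX P hP1
  haveI := CfsgLib.Core.normal_pPrimeCore p G
  set π := QuotientGroup.mk' (Cfsg.pPrimeCore p G) with hπ
  have hsurj : Function.Surjective π := QuotientGroup.mk'_surjective _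
  have hker : π.ker = Cfsg.pPrimeCore p G := QuotientGroup.ker_mk' _
  refine CfsgLib.OddLocal.PLengthOne.of_pPrime_kernel π hsurj
    (by rw [hker]; exact CfsgLib.Core.coprime_card_pPrimeCore p G) ?_
  set Qb := Q.mapSurjective hsurj with hQb
  have hdis : Disjoint (Q : Subgroup G) π.ker := by
    rw [hker, disjoint_iff]
    obtain ⟨n, hn⟩ := IsPGroup.iff_card.1 Q.2
    exact inf_eq_bot_of_coprime (by
      rw [hn]; exact ((CfsgLib.Core.coprime_card_pPrimeCore p G).pow_right n).symm)
  have hinj : Function.Injective (π.subgroupMap (Q : Subgroup G)) := by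
    rw [injective_iff_map_eq_one]
    intro x hx
    refine Subtype.ext (mem_bot.1 (hdis.eq_bot ▸ mem_inf.2 ⟨x.2, ?_⟩))
    exact congrArg Subtype.val hx
  let e' : ↥(Qb : Subgroup (G ⧸ Cfsg.pPrimeCore p G)) ≃* ↥(P : Subgroup X) :=
    ((MulEquiv.subgroupCongr (Sylow.coe_mapSurjective hsurj Q)).trans
      (MulEquiv.ofBijective _ ⟨hinj, π.subgroupMap_surjective _⟩).symm).trans e
  have hn := CfsgLib.Core.SchmidtLength.sylow_normal
    (CfsgLib.PLocal.isPSolvable_quotient hG _) (CfsgLib.Core.pPrimeCore_quotient_pPrimeCore p G) Qb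
    (facts_congr p e' hPf)
  exact CfsgLib.OddLocal.PLengthOne.pLengthLE_one_of_normal Qb hn

end Cfsg.Agent.S4394
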