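import Cfsg.Statements.S4396
import Cfsg.Agent.Lib.Core.FrobeniusRegular

set_option linter.all false

set_option autoImplicit false
open Cfsg

namespace Cfsg.Agent.S4396

/-- Let the finite group A act faithfully and linearly on a finite-dimensional vector space V over a field k, and suppose A is a Frobenius group with nilpotent kernel F (every Frobenius kernel is nilpotent) and complement H such that F fixes no nonzero vector. Then V is free as a module for H: there is a subspace W with V the direct sum of the translates hW, h ∈ H. (No assumption on the characteristic of k.) -/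
theorem result {k V A : Type*} [Field k] [AddCommGroup V] [Module k V] [FiniteDimensional k V] [Group A] [Finite A] [DecidableEq A]
    (ρ : Representation k A V) (hρ : Function.Injective ρ)
    (Fk Hc : Subgroup A) [Fk.Normal] (hHc : Cfsg.IsFrobeniusComplement Hc) (hker : Cfsg.frobeniusKernel Hc = (Fk : Set A)) (hnil : Group.IsNilpotent ↥Fk)
    (hCF : ∀ v : V, (∀ f ∈ Fk, ρ f v = v) → v = 0) :
    ∃ W : Submodule k V, DirectSum.IsInternal (fun h : ↥Hc => W.map (ρ (h : A))) := by
  classical
  haveI : Group.IsNilpotent Fk := hnil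
  have hnorm : ∀ (h : Hc) (x : A), x ∈ Fk → (h : A) * x * (h : A)⁻¹ ∈ Fk := fun h x hx => (‹Fk.Normal›).conj_mem x hx _
  let θ : ↥Hc →* MulAut Fk :=
    { toFun := fun h =>
        { toFun := fun x => ⟨(h : A) * x * (h : A)⁻¹, hnorm h x x.2⟩
          invFun := fun x => ⟨(h : A)⁻¹ * x * (h : A), by simpa using hnorm h⁻¹ x x.2⟩
          left_inv := fun x => Subtype.ext (show (h : A)⁻¹ * ((h : A) * x * (h : A)⁻¹) * h = x by group)
          right_inv := fun x => Subtype.ext (show (h : A) * ((h : A)⁻¹ * x * h) * (h : A)⁻¹ = x by group)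
          map_mul' := fun x y => Subtype.ext (show (h : A) * ((x : A) * y) * (h : A)⁻¹ =
            (h : A) * x * (h : A)⁻¹ * ((h : A) * y * (h : A)⁻¹) by group) }
      map_one' := MulEquiv.ext fun x => Subtype.ext (show ((1 : ↥Hc) : A) * x * ((1 : ↥Hc) : A)⁻¹ = x by simp)
      map_mul' := fun g h => MulEquiv.ext fun x => Subtype.ext
        (show ((g * h : ↥Hc) : A) * x * ((g * h : ↥Hc) : A)⁻¹ = (g : A) * ((h : A) * x * (h : A)⁻¹) * (g : A)⁻¹ by
          simp [mul_assoc]) }
  have hfpf : ∀ h : ↥Hc, h ≠ 1 → ∀ x : Fk, θ h x = x → x = 1 := fun h hh x hx => by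
    have hc : (h : A) * x * (h : A)⁻¹ = x := congrArg Subtype.val hx
    have hxk : (x : A) ∈ Cfsg.frobeniusKernel Hc := by rw [hker]; exact x.2
    rcases hxk with hx1 | hxall
    · exact Subtype.ext hx1
    · exfalso
      have hxH : (x : A) ∉ Hc := fun e => hxall 1 (by simpa using e)
      have h2 := hHc.2.2 _ hxH
      apply hh
      refine Subtype.ext ((Subgroup.mem_bot).1 (h2 ▸ Subgroup.mem_inf.2 ⟨h.2, ?_⟩))
      rw [Subgroup.mem_pointwise_smul_iff_inv_smul_mem, MulAut.smul_def, ← map_inv, MulAut.conj_apply, inv_inv]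
      have : (x : A)⁻¹ * h * x = h := by
        rw [mul_inv_eq_iff_eq_mul] at hc
        rw [mul_assoc, hc, inv_mul_cancel_left]
      rw [this]; exact h.2
  exact CfsgLib.Core.FrobReg.exists_free (H := ↥Hc) θ hfpf (ρ.comp Fk.subtype) (ρ.comp Hc.subtype)
    (fun h x => by
      show ρ (h : A) * ρ (x : A) = ρ ((h : A) * x * (h : A)⁻¹) * ρ (h : A)
      rw [← map_mul, ← map_mul, inv_mul_cancel_right])
    (fun v hv => hCF v fun f hf => hv ⟨f, hf⟩)

end Cfsg.Agent.S4396
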