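import Cfsg.Statements.S4398
import Cfsg.Agent.Lib.Transfer.MaximalClass
import Cfsg.Agent.Lib.TwoGroups.Recognition
import Cfsg.Agent.Lib.PGroups.Basic

set_option autoImplicit false
open Cfsg

namespace Cfsg.Agent.S4398

open Subgroup

variable {S : Type*} [Group S] [Finite S]

/-- No section of shape `2^3`: three generators modulo a central involution. -/
private theorem no_three (hr : Cfsg.SectionalPRankLE 2 2 S) {z x y c : S}
    (hz1 : z ≠ 1) (hz2 : z * z = 1) (hzx : Commute z x) (hzy : Commute z y) (hzc : Commute z c)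
    (hx : x * x ∈ zpowers z) (hy : y * y ∈ zpowers z) (hc : c * c ∈ zpowers z)
    (hxy : x * y * x⁻¹ * y⁻¹ ∈ zpowers z) (hxc : x * c * x⁻¹ * c⁻¹ ∈ zpowers z)
    (hyc : y * c * y⁻¹ * c⁻¹ ∈ zpowers z)
    (h8 : 8 ≤ Nat.card (closure ({z, x, y} : Set S))) (hcn : c ∉ closure ({z, x, y} : Set S)) :
    False := by
  haveI : Fact (Nat.Prime 2) := ⟨Nat.prime_two⟩
  set T : Set S := {z, x, y, c} with hT
  set K := closure T with hK
  have hzK : z ∈ K := subset_closure (by simp [hT])
  have hzcen : ∀ k ∈ K, k * z = z * k := by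
    intro k hk
    have : K ≤ centralizer ({z} : Set S) := (closure_le _).mpr (by
      rintro w (rfl | rfl | rfl | rfl)
      · exact mem_centralizer_singleton_iff.mpr rfl
      · exact mem_centralizer_singleton_iff.mpr hzx.symm.eq
      · exact mem_centralizer_singleton_iff.mpr hzy.symm.eq
      · exact mem_centralizer_singleton_iff.mpr hzc.symm.eq)
    exact mem_centralizer_singleton_iff.mp (this hk)
  set zK : K := ⟨z, hzK⟩ with hzKd
  set N := zpowers zK with hN
  have hNiff : ∀ w : K, w ∈ N ↔ (w : S) ∈ zpowers z := by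
    intro w
    simp only [hN, mem_zpowers_iff, Subtype.ext_iff, SubgroupClass.coe_zpow, hzKd]
  haveI : N.Normal := ⟨fun w hw g => by
    obtain ⟨k, rfl⟩ := mem_zpowers_iff.mp hw
    have h1 : g * zK * g⁻¹ = zK := Subtype.ext (mul_inv_eq_iff_eq_mul.mpr (hzcen g.1 g.2))
    rw [← conj_zpow, h1]; exact zpow_mem (mem_zpowers zK) k⟩
  let π := QuotientGroup.mk' N
  have hpair : ∀ u v : K, (u : S) * v * (u : S)⁻¹ * (v : S)⁻¹ ∈ zpowers z → Commute (π u) (π v) := by
    intro u v h
    have h1 : π (u * v * u⁻¹ * v⁻¹) = 1 := (QuotientGroup.eq_one_iff _).mpr ((hNiff _).mpr (by simpa using h))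
    rw [map_mul, map_mul, map_mul, map_inv, map_inv, mul_inv_eq_one, mul_inv_eq_iff_eq_mul] at h1
    exact h1
  have hgen : closure ((fun w : K => π w) '' ((↑) ⁻¹' T)) = (⊤ : Subgroup (K ⧸ N)) := by
    rw [← MonoidHom.map_closure, Subgroup.closure_closure_coe_preimage,
      Subgroup.map_top_of_surjective π (QuotientGroup.mk'_surjective N)]
  have hTz : ∀ u ∈ T, u * u ∈ zpowers z := by
    rintro u (rfl | rfl | rfl | rfl)
    · exact hz2 ▸ one_mem _
    exacts [hx, hy, hc]
  have hswap : ∀ {u v : S}, u * v * u⁻¹ * v⁻¹ ∈ zpowers z → v * u * v⁻¹ * u⁻¹ ∈ zpowers z := by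
    intro u v h
    have := inv_mem h
    simpa [mul_assoc] using this
  have hz0 : ∀ {u : S}, Commute z u → z * u * z⁻¹ * u⁻¹ ∈ zpowers z := fun h => by
    rw [h.eq]; simp
  have hTT : ∀ u ∈ T, ∀ v ∈ T, u * v * u⁻¹ * v⁻¹ ∈ zpowers z := by
    rintro u (rfl | rfl | rfl | rfl) v (rfl | rfl | rfl | rfl) <;>
      first
        | (simp; done)
        | exact hxy | exact hxc | exact hyc | exact hswap hxy | exact hswap hxc | exact hswap hyc
        | exact hz0 hzx | exact hz0 hzy | exact hz0 hzc | exact hswap (hz0 hzx)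
        | exact hswap (hz0 hzy) | exact hswap (hz0 hzc)
  have hcommset : ∀ a ∈ ((fun w : K => π w) '' ((↑) ⁻¹' T)), ∀ b ∈ ((fun w : K => π w) '' ((↑) ⁻¹' T)),
      a * b = b * a := by
    rintro _ ⟨u, hu, rfl⟩ _ ⟨v, hv, rfl⟩
    exact (hpair u v (hTT _ hu _ hv)).eq
  haveI hcl : IsMulCommutative (closure ((fun w : K => π w) '' ((↑) ⁻¹' T))) :=
    isMulCommutative_closure hcommset
  have hQc : ∀ a b : K ⧸ N, a * b = b * a := fun a b =>
    setLike_mul_comm (s := closure ((fun w : K => π w) '' ((↑) ⁻¹' T)))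
      (hgen ▸ mem_top a) (hgen ▸ mem_top b)
  have hexp : ∀ a : K ⧸ N, a ^ 2 = 1 := by
    intro a
    have ha : a ∈ closure ((fun w : K => π w) '' ((↑) ⁻¹' T)) := hgen ▸ mem_top a
    induction ha using Subgroup.closure_induction with
    | mem a ha =>
      obtain ⟨u, hu, rfl⟩ := ha
      change π u ^ 2 = 1
      rw [← map_pow]
      exact (QuotientGroup.eq_one_iff _).mpr ((hNiff _).mpr (by simpa [pow_two] using hTz _ hu))
    | one => exact one_pow 2
    | mul a b _ _ iha ihb => rw [Commute.mul_pow (hQc a b), iha, ihb, one_mul]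
    | inv a _ iha => rw [inv_pow, iha, inv_one]
  have hrk := hr K N ⊤ ⟨⟨fun a b => Subtype.ext (hQc a b)⟩⟩ (fun a _ => hexp a)
  rw [Subgroup.card_top] at hrk
  have hNc : Nat.card N = 2 := by
    rw [hN, Nat.card_zpowers]
    exact orderOf_eq_prime (Subtype.ext (by simpa [pow_two] using hz2))
      (fun h => hz1 (congrArg Subtype.val h))
  have hK16 : 16 ≤ Nat.card K := by
    have hle : closure ({z, x, y} : Set S) ≤ K :=
      closure_mono (by intro w hw; simp [hT] at hw ⊢; tauto)
    obtain ⟨d, hd⟩ := Subgroup.card_dvd_of_le hle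
    have hne : Nat.card K ≠ Nat.card (closure ({z, x, y} : Set S)) := fun h => by
      rw [Subgroup.eq_of_le_of_card_ge hle h.le] at hcn
      exact hcn (subset_closure (by simp [hT]))
    have hpos := Nat.card_pos (α := K)
    rcases d with _ | _ | d
    · omega
    · omega
    · rw [hd]
      calc 16 ≤ Nat.card (closure ({z, x, y} : Set S)) * 2 := by omega
        _ ≤ _ := Nat.mul_le_mul_left _ (by omega)
  have := N.card_eq_card_quotient_mul_card_subgroup
  rw [hNc] at this
  norm_num at hrk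
  omega

/-- A point fixed by `s` modulo `A` in a larger centralizer of `A`. -/
private theorem exists_fixed (h2 : IsPGroup 2 S) {A : Subgroup S} (hA : IsMulCommutative A) {s : S}
    (hs : s ∈ Subgroup.normalizer (A : Set S)) (hne : centralizer (A : Set S) ≠ A) :
    ∃ c ∈ centralizer (A : Set S), c ∉ A ∧ c * c ∈ A ∧ c⁻¹ * (s * c * s⁻¹) ∈ A := by
  haveI : Fact (Nat.Prime 2) := ⟨Nat.prime_two⟩
  set M := centralizer (A : Set S) with hM
  have hAM : A ≤ M := by haveI := hA; exact le_centralizer A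
  have hMN : M ≤ Subgroup.normalizer (A : Set S) := centralizer_le_normalizer _
  set P := Subgroup.normalizer (A : Set S) with hP
  haveI : (A.subgroupOf P).Normal := Subgroup.normal_in_normalizer
  haveI : (M.subgroupOf P).Normal := ⟨fun m hm g => by
    rw [mem_subgroupOf, hM, mem_centralizer_iff] at hm ⊢
    intro a ha
    have h1 : (g : S)⁻¹ * a * g ∈ A := by
      have h0 := (mem_normalizer_iff.mp (inv_mem g.2) a).mp ha
      rwa [inv_inv] at h0
    have h3 := hm _ h1
    push_cast
    calc a * ((g : S) * m * (g : S)⁻¹) = (g : S) * (((g : S)⁻¹ * a * g) * m) * (g : S)⁻¹ := by group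
      _ = (g : S) * ((m : S) * ((g : S)⁻¹ * a * g)) * (g : S)⁻¹ := by rw [h3]
      _ = _ := by group⟩
  set π := QuotientGroup.mk' (A.subgroupOf P) with hπ
  set Mb := (M.subgroupOf P).map π with hMb
  haveI : Mb.Normal := Subgroup.Normal.map inferInstance π (QuotientGroup.mk'_surjective _)
  haveI hMn : Nontrivial Mb := by
    rw [Subgroup.nontrivial_iff_ne_bot, Ne, hMb, Subgroup.map_eq_bot_iff, hπ, QuotientGroup.ker_mk']
    intro hle
    refine hne (le_antisymm (fun m hm => ?_) hAM)
    exact mem_subgroupOf.mp (hle (x := ⟨m, hMN hm⟩) (mem_subgroupOf.mpr hm))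
  have hQ : IsPGroup 2 (P ⧸ A.subgroupOf P) := (h2.to_subgroup P).to_quotient _
  haveI : Nontrivial (Mb ⊓ center (P ⧸ A.subgroupOf P) : Subgroup _) := by
    rw [Subgroup.nontrivial_iff_ne_bot]
    exact CfsgLib.PGroups.inf_center_ne_bot hQ ((Subgroup.nontrivial_iff_ne_bot Mb).mp hMn)
  obtain ⟨k, hk0, hk⟩ :=
    ((hQ.to_subgroup (Mb ⊓ center (P ⧸ A.subgroupOf P))).nontrivial_iff_card).mp inferInstance
  obtain ⟨⟨q, hqM, hqZ⟩, hqo⟩ := exists_prime_orderOf_dvd_card' 2
    (hk ▸ dvd_pow_self 2 hk0.ne' : 2 ∣ Nat.card (Mb ⊓ center (P ⧸ A.subgroupOf P) : Subgroup _))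
  replace hqo : orderOf q = 2 := (Subgroup.orderOf_coe _).trans hqo
  obtain ⟨⟨c, hcP⟩, hcM, rfl⟩ := hqM
  have hker : ∀ w : P, π w = 1 ↔ (w : S) ∈ A := fun w => by
    rw [hπ, QuotientGroup.mk'_apply, QuotientGroup.eq_one_iff, mem_subgroupOf]
  refine ⟨c, mem_subgroupOf.mp hcM, fun h => ?_, ?_, ?_⟩
  · rw [(hker ⟨c, hcP⟩).mpr h, orderOf_one] at hqo; omega
  · refine (hker (⟨c, hcP⟩ * ⟨c, hcP⟩)).mp ?_
    rw [map_mul, ← pow_two, ← hqo, pow_orderOf_eq_one]
  · refine (hker (⟨c, hcP⟩⁻¹ * (⟨s, hs⟩ * ⟨c, hcP⟩ * ⟨s, hs⟩⁻¹))).mp ?_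
    rw [map_mul, map_mul, map_mul, map_inv, map_inv, Subgroup.mem_center_iff.mp hqZ,
      mul_inv_cancel_right, inv_mul_cancel]

private theorem class_of_dihedral (h2 : IsPGroup 2 S) (hr : Cfsg.SectionalPRankLE 2 2 S)
    {n : ℕ} (hn : Nat.card S = 2 ^ n) {z t s : S} (hz1 : z ≠ 1) (hz : z * z = 1) (ht : t * t = 1)
    (hs : s * s = 1) (hzt : z * t = t * z) (hzs : z * s = s * z) (hst : s * t * s⁻¹ = t * z)
    (htz : t ∉ zpowers z) :
    Group.nilpotencyClass S = n - 1 := by
  haveI : Fact (Nat.Prime 2) := ⟨Nat.prime_two⟩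
  classical
  have hzt' : ∀ w, w ∈ zpowers z ↔ w = 1 ∨ w = z := by
    intro w
    constructor
    · intro hw
      obtain ⟨k, rfl⟩ := mem_zpowers_iff.mp hw
      rcases Int.even_or_odd' k with ⟨j, rfl | rfl⟩
      · exact Or.inl (by rw [zpow_mul, zpow_two, hz, one_zpow])
      · exact Or.inr (by rw [zpow_add_one, zpow_mul, zpow_two, hz, one_zpow, one_mul])
    · rintro (rfl | rfl)
      exacts [one_mem _, mem_zpowers w]
  have ht1 : t ≠ 1 := fun h => htz (h ▸ one_mem _)
  have htz' : t ≠ z := fun h => htz (h ▸ mem_zpowers z)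
  have a1 : z * z = 1 := hz
  have a2 : ∀ w, z * (z * w) = w := fun w => by rw [← mul_assoc, hz, one_mul]
  have a3 : ∀ w, t * (t * w) = w := fun w => by rw [← mul_assoc, ht, one_mul]
  have a4 : ∀ w, t * (z * w) = z * (t * w) := fun w => by rw [← mul_assoc, ← hzt, mul_assoc]
  let A : Subgroup S :=
    { carrier := {1, z, t, z * t}
      one_mem' := by simp
      mul_mem' := by
        rintro a b (rfl | rfl | rfl | rfl) (rfl | rfl | rfl | rfl) <;>
          simp [mul_assoc, hz, ht, a2, a3, a4, ← hzt]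
      inv_mem' := by
        rintro a (rfl | rfl | rfl | rfl)
        · simp
        · simp [inv_eq_of_mul_eq_one_left hz]
        · simp [inv_eq_of_mul_eq_one_left ht]
        · have : (z * t) * (z * t) = 1 := by simp [mul_assoc, a2, a4, ht, hz]
          simp [inv_eq_of_mul_eq_one_left this] }
  have hAm : ∀ a, a ∈ A ↔ a = 1 ∨ a = z ∨ a = t ∨ a = z * t := fun a => Iff.rfl
  have hcard : Nat.card A = 4 := by
    change Nat.card ({1, z, t, z * t} : Set S) = 4
    rw [Nat.card_coe_set_eq]
    have h1 : z * t ≠ 1 := fun h => htz' (mul_left_cancel (h.trans hz.symm))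
    have h2 : z * t ≠ z := fun h => ht1 (mul_eq_left.mp h)
    have h3 : z * t ≠ t := fun h => hz1 (mul_eq_right.mp h)
    rw [Set.ncard_insert_of_notMem, Set.ncard_insert_of_notMem, Set.ncard_pair] <;>
      simp [hz1.symm, ht1.symm, h1.symm, htz'.symm, h2.symm, h3.symm]
  have hA : IsMulCommutative A := ⟨⟨fun a b => Subtype.ext (by
    rcases (hAm _).mp a.2 with h | h | h | h <;> rcases (hAm _).mp b.2 with h' | h' | h' | h' <;>
      simp [h, h', mul_assoc, ← hzt, a4, hz, ht, a2, a3])⟩⟩
  have hsinv : s⁻¹ = s := inv_eq_of_mul_eq_one_left hs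
  have hsA : ∀ a ∈ A, s * a * s⁻¹ ∈ A := by
    intro a ha
    rcases (hAm a).mp ha with rfl | rfl | rfl | rfl
    · simp
    · rw [← hzs, mul_inv_cancel_right]; exact ha
    · rw [hst]; exact (hAm _).mpr (Or.inr (Or.inr (Or.inr hzt.symm)))
    · rw [show s * (z * t) * s⁻¹ = (s * z * s⁻¹) * (s * t * s⁻¹) by group, hst, ← hzs,
        mul_inv_cancel_right, ← hzt, a2]
      exact (hAm _).mpr (Or.inr (Or.inr (Or.inl rfl)))
  have hsN : s ∈ Subgroup.normalizer (A : Set S) := by
    refine mem_normalizer_iff.mpr fun a => ⟨hsA a, fun h => ?_⟩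
    have := hsA _ h
    rw [hsinv, show s * (s * a * s) * s = (s * s) * a * (s * s) by group, hs, one_mul, mul_one] at this
    exact this
  refine CfsgLib.Transfer.class_eq_of_self_centralizing n S hn A (by rw [hcard]; rfl) ?_
  by_contra hne
  obtain ⟨c, hcC, hcA, hc2, hcs⟩ := exists_fixed h2 hA hsN hne
  have hcz : Commute z c := mem_centralizer_iff.mp hcC z ((hAm z).mpr (Or.inr (Or.inl rfl)))
  have hct : Commute t c := mem_centralizer_iff.mp hcC t ((hAm t).mpr (Or.inr (Or.inr (Or.inl rfl))))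
  set v := c⁻¹ * (s * c * s⁻¹) with hv
  have hcv : s * c * s⁻¹ = c * v := by rw [hv, mul_inv_cancel_left]
  have hA2 : ∀ a ∈ A, a * a = 1 := fun a ha => by
    rcases (hAm a).mp ha with rfl | rfl | rfl | rfl <;> simp [mul_assoc, hz, ht, a2, a4]
  have hfix : ∀ a ∈ A, s * a * s⁻¹ = a → a ∈ zpowers z := by
    intro a ha h
    rcases (hAm a).mp ha with rfl | rfl | rfl | rfl
    · exact one_mem _
    · exact mem_zpowers _
    · exact absurd (mul_eq_left.mp (hst.symm.trans h)) hz1
    · exfalso
      rw [show s * (z * t) * s⁻¹ = (s * z * s⁻¹) * (s * t * s⁻¹) by group, hst, ← hzs,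
        mul_inv_cancel_right] at h
      exact hz1 (mul_eq_left.mp (mul_left_cancel h))
  have hcs' : Commute c v := (mem_centralizer_iff.mp hcC v hcs).symm
  have hsq : c * c ∈ zpowers z := by
    refine hfix _ hc2 ?_
    calc s * (c * c) * s⁻¹ = (s * c * s⁻¹) * (s * c * s⁻¹) := by group
      _ = c * c * (v * v) := by rw [hcv, hcs'.mul_mul_mul_comm]
      _ = c * c := by rw [hA2 v hcs, mul_one]
  have hvfix : s * v * s⁻¹ = v := by
    have h1 : c = c * v * (s * v * s⁻¹) := by
      calc c = s * (s * c * s⁻¹) * s⁻¹ := by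
            rw [hsinv, show s * (s * c * s) * s = (s * s) * c * (s * s) by group, hs, one_mul, mul_one]
        _ = s * (c * v) * s⁻¹ := by rw [hcv]
        _ = (s * c * s⁻¹) * (s * v * s⁻¹) := by group
        _ = _ := by rw [hcv]
    rw [mul_assoc] at h1
    have h2 := mul_eq_left.mp h1.symm
    rw [← inv_eq_of_mul_eq_one_right h2, inv_eq_of_mul_eq_one_left (hA2 v hcs)]
  have hvz : v ∈ zpowers z := hfix v hcs hvfix
  have hmem : ∀ w ∈ closure ({z, s, t} : Set S), w * c * w⁻¹ * c⁻¹ ∈ A := by
    intro w hw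
    induction hw using Subgroup.closure_induction with
    | mem w hw =>
      rcases hw with rfl | rfl | rfl
      · rw [hcz.eq]; simp
      · rw [hcv, hcs'.eq, mul_inv_cancel_right]; exact hcs
      · rw [hct.eq]; simp
    | one => simp
    | mul a b _ _ iha ihb =>
      have : a * b * c * (a * b)⁻¹ * c⁻¹ = a * (b * c * b⁻¹ * c⁻¹) * a⁻¹ * (a * c * a⁻¹ * c⁻¹) := by
        group
      rw [this]
      refine A.mul_mem ?_ iha
      rename_i ha hb
      have hN : closure ({z, s, t} : Set S) ≤ Subgroup.normalizer (A : Set S) :=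
        (closure_le _).mpr (by
          rintro u (rfl | rfl | rfl)
          · exact le_normalizer ((hAm _).mpr (Or.inr (Or.inl rfl)))
          · exact hsN
          · exact le_normalizer ((hAm _).mpr (Or.inr (Or.inr (Or.inl rfl)))))
      exact (mem_normalizer_iff.mp (hN ha) _).mp ihb
    | inv a ha iha =>
      have hN : closure ({z, s, t} : Set S) ≤ Subgroup.normalizer (A : Set S) :=
        (closure_le _).mpr (by
          rintro u (rfl | rfl | rfl)
          · exact le_normalizer ((hAm _).mpr (Or.inr (Or.inl rfl)))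
          · exact hsN
          · exact le_normalizer ((hAm _).mpr (Or.inr (Or.inr (Or.inl rfl)))))
      have : a⁻¹ * c * a⁻¹⁻¹ * c⁻¹ = a⁻¹ * (a * c * a⁻¹ * c⁻¹)⁻¹ * a⁻¹⁻¹ := by group
      rw [this]
      exact (mem_normalizer_iff.mp (inv_mem (hN ha)) _).mp (inv_mem iha)
  refine no_three hr hz1 hz hzs hzt hcz (by rw [hs]; exact one_mem _) (by rw [ht]; exact one_mem _)
    hsq ?_ ?_ ?_ ?_ ?_
  · rw [show s * t * s⁻¹ * t⁻¹ = (t * z) * t⁻¹ by rw [hst], ← hzt, mul_inv_cancel_right]
    exact mem_zpowers z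
  · rw [hcv, hcs'.eq, mul_inv_cancel_right]; exact hvz
  · rw [hct.eq]; simp
  · have hAle : A ≤ closure ({z, s, t} : Set S) := by
      intro a ha
      have hzm : z ∈ closure ({z, s, t} : Set S) := subset_closure (by simp)
      have htm : t ∈ closure ({z, s, t} : Set S) := subset_closure (by simp)
      rcases (hAm a).mp ha with rfl | rfl | rfl | rfl
      exacts [one_mem _, hzm, htm, mul_mem hzm htm]
    obtain ⟨d, hd⟩ := Subgroup.card_dvd_of_le hAle
    have hne : Nat.card (closure ({z, s, t} : Set S)) ≠ Nat.card A := fun h => by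
      have hsA' : s ∈ A := by
        rw [Subgroup.eq_of_le_of_card_ge hAle h.le]; exact subset_closure (by simp)
      have := hfix s hsA' (mul_inv_cancel_right s s)
      have hc : Commute s t := by
        rcases (hzt' s).mp this with h | h <;> rw [h]
        · exact Commute.one_left t
        · exact hzt
      rw [hc.eq, mul_inv_cancel_right] at hst
      exact hz1 (mul_eq_left.mp hst.symm)
    have := Nat.card_pos (α := closure ({z, s, t} : Set S))
    rw [hd, hcard] at *
    rcases d with _ | _ | d <;> omega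
  · intro hc
    -- `c` centralises `A`, hence lies outside the dihedral group
    have hsub : closure ({z, s, t} : Set S) ≤ A ⊔ zpowers s := (closure_le _).mpr (by
      rintro u (rfl | rfl | rfl)
      · exact mem_sup_left ((hAm _).mpr (Or.inr (Or.inl rfl)))
      · exact mem_sup_right (mem_zpowers u)
      · exact mem_sup_left ((hAm _).mpr (Or.inr (Or.inr (Or.inl rfl)))))
    have hc' := hsub hc
    rw [← SetLike.mem_coe, Subgroup.coe_mul_of_right_le_normalizer_left A (zpowers s)
      (zpowers_le.mpr hsN)] at hc'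
    obtain ⟨a, ha, w, hw, rfl⟩ := hc'
    obtain ⟨k, rfl⟩ := mem_zpowers_iff.mp hw
    rcases Int.even_or_odd' k with ⟨j, rfl | rfl⟩
    · exact hcA (by
        show a * s ^ (2 * j) ∈ A
        rw [zpow_mul, zpow_two, hs, one_zpow, mul_one]; exact ha)
    · have e : s ^ (2 * j + 1) = s := by
        rw [zpow_add_one, zpow_mul, zpow_two, hs, one_zpow, one_mul]
      have hcc : Commute t (a * s) := by simpa [e] using hct
      have hat : Commute t a := setLike_mul_comm ((hAm t).mpr (Or.inr (Or.inr (Or.inl rfl)))) ha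
      have hts : Commute t s := by simpa using hat.inv_right.mul_right hcc
      rw [← hts.eq, mul_inv_cancel_right] at hst
      exact hz1 (mul_eq_left.mp hst.symm)

/-- An element of 2-power order cannot permute three classes cyclically. -/
private theorem not_triangle (h2 : IsPGroup 2 S) (g : S) {Ω : Type*} (f : S → Ω → Ω)
    (hf1 : ∀ w, f 1 w = w) (hfm : ∀ a b w, f (a * b) w = f a (f b w)) (w : Ω)
    (h1 : f g w ≠ w) (h3 : f g (f g (f g w)) = w) : False := by
  obtain ⟨k, hk⟩ := h2 g
  have h3' : ∀ j : ℕ, f (g ^ (3 * j)) w = w := by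
    intro j
    induction j with
    | zero => simpa using hf1 w
    | succ j ih =>
      rw [show 3 * (j + 1) = 3 * j + 1 + 1 + 1 by ring, pow_succ, pow_succ, pow_succ, hfm, hfm, hfm,
        h3, ih]
  have hmod : 2 ^ k % 3 = 1 ∨ 2 ^ k % 3 = 2 := by
    have : ¬ (3 ∣ 2 ^ k) := fun h => by
      have := Nat.Prime.dvd_of_dvd_pow Nat.prime_three h; omega
    omega
  have key : f (g ^ (2 ^ k % 3)) w = w := by
    have h := congrArg (fun x => f x w) hk
    rw [← Nat.mod_add_div (2 ^ k) 3, pow_add] at h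
    simpa [hfm, h3', hf1] using h
  rcases hmod with h | h <;> rw [h] at key
  · exact h1 (by simpa using key)
  · rw [pow_two, hfm] at key
    have := h3
    rw [key] at this
    exact h1 this

private theorem class_of_quaternion (h2 : IsPGroup 2 S) (hr : Cfsg.SectionalPRankLE 2 2 S)
    {n : ℕ} (hn : Nat.card S = 2 ^ n) {z i j : S} (hz1 : z ≠ 1) (hz : z * z = 1)
    (hi : i * i = z) (hj : j * j = z) (hji : j * i * j⁻¹ = i⁻¹) :
    Group.nilpotencyClass S = n - 1 := by
  haveI : Fact (Nat.Prime 2) := ⟨Nat.prime_two⟩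
  have hzpow : ∀ w, w ∈ zpowers z ↔ w = 1 ∨ w = z := by
    intro w
    constructor
    · intro hw
      obtain ⟨k, rfl⟩ := mem_zpowers_iff.mp hw
      rcases Int.even_or_odd' k with ⟨m, rfl | rfl⟩
      · exact Or.inl (by rw [zpow_mul, zpow_two, hz, one_zpow])
      · exact Or.inr (by rw [zpow_add_one, zpow_mul, zpow_two, hz, one_zpow, one_mul])
    · rintro (rfl | rfl)
      exacts [one_mem _, mem_zpowers w]
  have hi4 : i ^ 4 = 1 := by rw [show i ^ 4 = (i * i) * (i * i) by simp only [pow_succ, pow_zero]; group, hi, hz]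
  have hio : orderOf i = 4 := by
    refine orderOf_eq_prime_pow (p := 2) (n := 1) ?_ (by simpa using hi4)
    rw [pow_one, pow_two, hi]; exact hz1
  have hij : i * j * i⁻¹ = j⁻¹ := by
    have h1 : j * i = i⁻¹ * j := by rw [← hji]; group
    calc i * j * i⁻¹ = i * (j * i) * (i * i)⁻¹ := by group
      _ = i * (i⁻¹ * j) * (i * i)⁻¹ := by rw [h1]
      _ = j * (j * j)⁻¹ := by rw [hi, hj]; group
      _ = j⁻¹ := by group
  -- one generator
  have step : ∀ a b : S, a * a = z → b * b = z → b * a * b⁻¹ = a⁻¹ → orderOf a = 4 →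
      centralizer (zpowers a : Set S) = zpowers a ∨ ∃ c, c * a * c⁻¹ = a ∧
        ∃ v, (v = a ∨ v = a⁻¹) ∧ c * b * c⁻¹ = v * b := by
    intro a b ha hb hba hao
    refine or_iff_not_imp_left.mpr fun hne => ?_
    have haz : Commute z a := ha ▸ ((Commute.refl a).mul_left (Commute.refl a))
    have hbz : Commute z b := hb ▸ ((Commute.refl b).mul_left (Commute.refl b))
    have hcomm : IsMulCommutative (zpowers a) :=
      ⟨⟨fun x y => Subtype.ext (by
        obtain ⟨p, hp⟩ := mem_zpowers_iff.mp x.2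
        obtain ⟨q, hq⟩ := mem_zpowers_iff.mp y.2
        push_cast
        rw [← hp, ← hq]; exact (zpow_mul_comm a p q))⟩⟩
    have hbN : b ∈ Subgroup.normalizer (zpowers a : Set S) := by
      have hsub : ∀ x ∈ zpowers a, b * x * b⁻¹ ∈ zpowers a := by
        intro x hx
        obtain ⟨k, rfl⟩ := mem_zpowers_iff.mp hx
        rw [← conj_zpow, hba]; exact zpow_mem (inv_mem (mem_zpowers a)) k
      refine mem_normalizer_iff.mpr fun x => ⟨hsub x, fun h => ?_⟩
      have h' := hsub _ h
      have hbb : b * (b * x * b⁻¹) * b⁻¹ = (b * b) * x * (b * b)⁻¹ := by group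
      rw [hbb, hb] at h'
      have hzA : z ∈ zpowers a := ha ▸ mul_mem (mem_zpowers a) (mem_zpowers a)
      exact ((zpowers a).mul_mem_cancel_left hzA).mp (((zpowers a).mul_mem_cancel_right (inv_mem hzA)).mp h')
    obtain ⟨c, hcC, hcA, hc2, hcb⟩ := exists_fixed h2 hcomm hbN hne
    have hca : Commute a c := mem_centralizer_iff.mp hcC a (mem_zpowers a)
    have hAcases : ∀ x ∈ zpowers a, x ∈ zpowers z ∨ x = a ∨ x = a⁻¹ := by
      intro x hx
      obtain ⟨k, rfl⟩ := mem_zpowers_iff.mp hx
      rcases Int.even_or_odd' k with ⟨m, rfl | rfl⟩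
      · exact Or.inl (by rw [zpow_mul, zpow_two, ha]; exact zpow_mem (mem_zpowers z) m)
      · right
        rcases Int.even_or_odd' m with ⟨q, rfl | rfl⟩
        · left
          rw [zpow_add_one, zpow_mul, zpow_two, ha, zpow_mul, zpow_two, hz, one_zpow, one_mul]
        · right
          rw [zpow_add_one, zpow_mul, zpow_two, ha, zpow_add_one, zpow_mul, zpow_two, hz, one_zpow,
            one_mul, ← ha]
          have : a * a * (a * a) = 1 := by rw [ha, hz]
          exact eq_inv_of_mul_eq_one_left (by simpa [mul_assoc] using this)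
    set v := c⁻¹ * (b * c * b⁻¹) with hv
    have hcv : b * c * b⁻¹ = c * v := by rw [hv, mul_inv_cancel_left]
    have hvc : Commute c v := (mem_centralizer_iff.mp hcC v hcb).symm
    have hsq : b * (c * c) * b⁻¹ = c * c * (v * v) := by
      calc b * (c * c) * b⁻¹ = (b * c * b⁻¹) * (b * c * b⁻¹) := by group
        _ = _ := by rw [hcv, hvc.mul_mul_mul_comm]
    by_cases hcz : c * c ∈ zpowers z
    · exfalso
      have hfix : b * (c * c) * b⁻¹ = c * c := by
        rcases (hzpow _).mp hcz with h | h <;> rw [h]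
        · simp
        · rw [← hbz.eq, mul_inv_cancel_right]
      rw [hfix, eq_comm, mul_eq_left] at hsq
      have hvz : v ∈ zpowers z := by
        rcases hAcases v hcb with h | h | h
        · exact h
        · rw [h, ha] at hsq; exact absurd hsq hz1
        · rw [h, ← mul_inv_rev, inv_eq_one, ha] at hsq; exact absurd hsq hz1
      have hcz' : Commute z c := ha ▸ hca.mul_left hca
      refine no_three hr hz1 hz haz hbz hcz' (ha ▸ mem_zpowers z) (hb ▸ mem_zpowers z) hcz ?_ ?_ ?_ ?_ ?_
      · have : a * b * a⁻¹ * b⁻¹ = a * (b * a * b⁻¹)⁻¹ := by group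
        rw [this, hba, inv_inv, ha]; exact mem_zpowers z
      · rw [hca.eq]; simp
      · rw [hcv, hvc.eq, mul_inv_cancel_right]; exact hvz
      · have hle : zpowers a ≤ closure ({z, a, b} : Set S) := zpowers_le.mpr (subset_closure (by simp))
        obtain ⟨d, hd⟩ := Subgroup.card_dvd_of_le hle
        have hne' : Nat.card (closure ({z, a, b} : Set S)) ≠ Nat.card (zpowers a) := fun h => by
          have hbA : b ∈ zpowers a := by
            rw [Subgroup.eq_of_le_of_card_ge hle h.le]; exact subset_closure (by simp)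
          obtain ⟨k, rfl⟩ := mem_zpowers_iff.mp hbA
          rw [((Commute.refl a).zpow_left k).eq, mul_inv_cancel_right] at hba
          have := mul_eq_one_iff_eq_inv.mpr hba
          exact hz1 (ha ▸ this)
        rw [Nat.card_zpowers, hao] at hne' hd
        have := Nat.card_pos (α := closure ({z, a, b} : Set S))
        rcases d with _ | _ | d <;> omega
      · intro hc
        have hsub : closure ({z, a, b} : Set S) ≤ zpowers a ⊔ zpowers b := (closure_le _).mpr (by
          rintro u (rfl | rfl | rfl)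
          · exact mem_sup_left (ha ▸ mul_mem (mem_zpowers a) (mem_zpowers a))
          · exact mem_sup_left (mem_zpowers u)
          · exact mem_sup_right (mem_zpowers u))
        have hc' := hsub hc
        rw [← SetLike.mem_coe, Subgroup.coe_mul_of_right_le_normalizer_left (zpowers a) (zpowers b)
          (zpowers_le.mpr hbN)] at hc'
        obtain ⟨x, hx, w, hw, rfl⟩ := hc'
        obtain ⟨k, rfl⟩ := mem_zpowers_iff.mp hw
        rcases Int.even_or_odd' k with ⟨m, rfl | rfl⟩
        · exact hcA (mul_mem hx (by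
            rw [zpow_mul, zpow_two, hb, ← ha]
            exact zpow_mem (mul_mem (mem_zpowers a) (mem_zpowers a)) m))
        · obtain ⟨p, rfl⟩ := mem_zpowers_iff.mp hx
          have e : b ^ (2 * m + 1) = z ^ m * b := by rw [zpow_add_one, zpow_mul, zpow_two, hb]
          have h' : Commute a (a ^ p * (z ^ m * b)) := by simpa [e] using hca
          have hab : Commute a b := by
            have := ((haz.symm.zpow_right m).inv_right).mul_right
              ((((Commute.refl a).zpow_right p).inv_right).mul_right h')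
            simpa using this
          rw [← hab.eq, mul_inv_cancel_right] at hba
          have := mul_eq_one_iff_eq_inv.mpr hba
          exact hz1 (ha ▸ this)
    · refine ⟨c, by rw [← hca.eq, mul_inv_cancel_right], v⁻¹, ?_, ?_⟩
      · rcases hAcases v hcb with h | h | h
        · exfalso
          rcases hAcases _ hc2 with h' | h' | h'
          · exact hcz h'
          all_goals
            rw [h'] at hsq
            have hvv : v * v = 1 := by rcases (hzpow v).mp h with e | e <;> simp [e, hz]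
            rw [hvv, mul_one] at hsq
          · rw [hba] at hsq
            exact hz1 (ha ▸ mul_eq_one_iff_eq_inv.mpr hsq.symm)
          · rw [show b * a⁻¹ * b⁻¹ = (b * a * b⁻¹)⁻¹ by group, hba, inv_inv] at hsq
            exact hz1 (ha ▸ mul_eq_one_iff_eq_inv.mpr hsq)
        · exact Or.inr (by rw [h])
        · exact Or.inl (by rw [h, inv_inv])
      · have hcv' : Commute c v⁻¹ := hvc.inv_right
        calc c * b * c⁻¹ = c * (b * c * b⁻¹)⁻¹ * b := by group
          _ = c * (c * v)⁻¹ * b := by rw [hcv]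
          _ = c * v⁻¹ * c⁻¹ * b := by group
          _ = v⁻¹ * b := by rw [hcv'.eq, mul_inv_cancel_right]
  have hjo : orderOf j = 4 := by
    refine orderOf_eq_prime_pow (p := 2) (n := 1) ?_ ?_
    · rw [pow_one, pow_two, hj]; exact hz1
    · rw [show 2 ^ (1 + 1) = 2 + 2 by norm_num, pow_add, pow_two, hj, hz]
  rcases step i j hi hj hji hio with h | ⟨c, hci, v, hv, hcj⟩
  · exact CfsgLib.Transfer.class_eq_of_self_centralizing n S hn (zpowers i)
      (by rw [Nat.card_zpowers, hio]; rfl) h
  rcases step j i hj hi hij hjo with h | ⟨d, hdj, w, hw, hdi⟩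
  · exact CfsgLib.Transfer.class_eq_of_self_centralizing n S hn (zpowers j)
      (by rw [Nat.card_zpowers, hjo]; rfl) h
  exfalso
  -- act on pairs `{a, a⁻¹}`
  let cl : S → Set S := fun a => {a, a⁻¹}
  have hcl : ∀ g a, (fun x => g * x * g⁻¹) '' cl a = cl (g * a * g⁻¹) := by
    intro g a; simp [cl, Set.image_pair, mul_assoc]
  have hclinv : ∀ a, cl a⁻¹ = cl a := fun a => by simp [cl, Set.pair_comm]
  have hclv : ∀ a b, (v = a ∨ v = a⁻¹) → (v * b = a * b ∨ v * b = a⁻¹ * b) := fun a b h => by
    rcases h with rfl | rfl <;> simp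
  have hzinv : z⁻¹ = z := inv_eq_of_mul_eq_one_left hz
  have hiinv : i⁻¹ = i * z := by rw [← hzinv, ← hi]; group
  have hjinv : j⁻¹ = j * z := by rw [← hzinv, ← hj]; group
  have hzi : Commute z i := hi ▸ ((Commute.refl i).mul_left (Commute.refl i))
  have hzj : Commute z j := hj ▸ ((Commute.refl j).mul_left (Commute.refl j))
  have hprod : cl (i * j) = cl (j * i) ∧ cl (i⁻¹ * j) = cl (i * j) ∧ cl (j⁻¹ * i) = cl (j * i) := by
    have e0 : j * i = i⁻¹ * j := by rw [← hji]; group
    have e1 : (i * j)⁻¹ = i⁻¹ * j := by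
      refine inv_eq_of_mul_eq_one_left ?_
      calc i⁻¹ * j * (i * j) = i⁻¹ * (j * i * j⁻¹) * (j * j) := by group
        _ = (i * i)⁻¹ * (j * j) := by rw [hji]; group
        _ = 1 := by rw [hi, hj, inv_mul_cancel]
    have e2 : j⁻¹ * i = i * j := by
      calc j⁻¹ * i = z * (j * i) := by rw [hjinv, ← hzj.eq, mul_assoc]
        _ = z * i⁻¹ * j := by rw [e0, mul_assoc]
        _ = i * j := by
          rw [hiinv, ← mul_assoc z i, hzi.eq, mul_assoc i z z, hz, mul_one]
    refine ⟨?_, ?_, ?_⟩
    · rw [e0, ← e1, hclinv]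
    · rw [← e1, hclinv]
    · rw [e2, e0, ← e1, hclinv]
  obtain ⟨p1, p2, p3⟩ := hprod
  have c1 : cl (c * i * c⁻¹) = cl i := by rw [hci]
  have c2 : cl (c * j * c⁻¹) = cl (i * j) := by
    rw [hcj]; rcases hv with rfl | rfl
    · rfl
    · exact p2
  have d1 : cl (d * j * d⁻¹) = cl j := by rw [hdj]
  have d2 : cl (d * i * d⁻¹) = cl (i * j) := by
    rw [hdi]; rcases hw with rfl | rfl
    · exact p1.symm
    · exact p3.trans p1.symm
  have c3 : cl (c * (i * j) * c⁻¹) = cl j := by
    rw [show c * (i * j) * c⁻¹ = (c * i * c⁻¹) * (c * j * c⁻¹) by group, hci, hcj]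
    rcases hv with rfl | rfl
    · rw [← mul_assoc, hi]
      change ({z * j, (z * j)⁻¹} : Set S) = {j, j⁻¹}
      rw [hzj.eq, ← hjinv, inv_inv, Set.pair_comm]
    · rw [mul_inv_cancel_left]
  let f : S → Set S → Set S := fun g T => (fun x => g * x * g⁻¹) '' T
  have fcl : ∀ g a, f g (cl a) = cl (g * a * g⁻¹) := hcl
  have fm : ∀ a b T, f (a * b) T = f a (f b T) := fun a b T => by
    simp only [f, Set.image_image]
    refine Set.image_congr fun x _ => ?_
    group
  have f1 : ∀ T, f 1 T = T := fun T => by simp [f]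
  have g1 : f (c * d) (cl i) = cl j := by rw [fm, fcl d, d2, fcl c, c3]
  have g2 : f (c * d) (cl j) = cl (i * j) := by rw [fm, fcl d, d1, fcl c, c2]
  have g3 : f (c * d) (cl (i * j)) = cl i := by
    have hdij : cl (d * (i * j) * d⁻¹) = cl i := by
      rw [show d * (i * j) * d⁻¹ = (d * i * d⁻¹) * (d * j * d⁻¹) by group, hdi, hdj]
      rcases hw with e | e <;> rw [e]
      · rw [mul_assoc]
        have : j * (i * j) = i := by
          calc j * (i * j) = (j * i * j⁻¹) * (j * j) := by group
            _ = i⁻¹ * (i * i) := by rw [hji, hi, hj]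
            _ = i := by group
        rw [this]
      · have : j⁻¹ * i * j = i⁻¹ := by
          calc j⁻¹ * i * j = (j * j)⁻¹ * (j * i * j⁻¹) * (j * j) := by group
            _ = z⁻¹ * i⁻¹ * z := by rw [hji, hj]
            _ = i⁻¹ := by rw [mul_assoc, ← (hzi.inv_right).eq, inv_mul_cancel_left]
        rw [this, hclinv]
    rw [fm, fcl d, hdij, fcl c, c1]
  refine not_triangle h2 (c * d) f f1 fm (cl i) ?_ (by rw [g1, g2, g3])
  rw [g1]
  intro h
  have hji' : j ∈ cl i := h ▸ (Set.mem_insert j _)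
  rcases hji' with h' | h'
  · rw [h', mul_inv_cancel_right] at hji
    exact hz1 (hi ▸ mul_eq_one_iff_eq_inv.mpr hji)
  · rw [Set.mem_singleton_iff] at h'
    rw [h', inv_inv, inv_mul_cancel, one_mul] at hji
    exact hz1 (hi ▸ mul_eq_one_iff_eq_inv.mpr hji)


/-- Let S be a finite 2-group of sectional 2-rank at most 2 that contains a subgroup isomorphic to the dihedral group of order 8 or to the quaternion group of order 8. Then S is dihedral of order at least 8, semidihedral of order at least 16 (order 2^(k+4) with an element a of order 2^(k+3) and an involution b with b a b⁻¹ = a^(2^(k+2)−1)), or generalized quaternion of order at least 8. -/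
theorem result {S : Type*} [Group S] [Finite S] (h2 : IsPGroup 2 S) (hr : Cfsg.SectionalPRankLE 2 2 S)
    (hsub : ∃ H : Subgroup S, Nonempty (↥H ≃* DihedralGroup 4) ∨ Nonempty (↥H ≃* QuaternionGroup 2)) :
    ((∃ k : ℕ, Nonempty (S ≃* DihedralGroup (2 ^ (k + 2)))) ∨
      (∃ k : ℕ, Nat.card S = 2 ^ (k + 4) ∧ ∃ a b : S, orderOf a = 2 ^ (k + 3) ∧ orderOf b = 2 ∧ b * a * b⁻¹ = a ^ (2 ^ (k + 2) - 1)) ∨
      (∃ k : ℕ, Nonempty (S ≃* QuaternionGroup (2 ^ (k + 1))))) := by
  haveI : Fact (Nat.Prime 2) := ⟨Nat.prime_two⟩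
  obtain ⟨n, hn⟩ := IsPGroup.iff_card.mp h2
  obtain ⟨H, hH⟩ := hsub
  have hn3 : 3 ≤ n := by
    have h8 : Nat.card H = 2 ^ 3 := by
      rcases hH with ⟨⟨e⟩⟩ | ⟨⟨e⟩⟩ <;>
        simp [Nat.card_congr e.toEquiv, Nat.card_eq_fintype_card, DihedralGroup.card,
          QuaternionGroup.card]
    have h := H.card_subgroup_dvd_card
    rw [h8, hn] at h
    exact (Nat.pow_dvd_pow_iff_le_right one_lt_two).mp h
  have hcl : Group.nilpotencyClass S = n - 1 := by
    rcases hH with ⟨⟨e⟩⟩ | ⟨⟨e⟩⟩
    · let f : DihedralGroup 4 →* S := H.subtype.comp e.symm.toMonoidHom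
      have hf : Function.Injective f := H.subtype_injective.comp e.symm.injective
      refine class_of_dihedral h2 hr hn (z := f (DihedralGroup.r 2)) (t := f (DihedralGroup.sr 0))
        (s := f (DihedralGroup.sr 1)) ?_ ?_ ?_ ?_ ?_ ?_ ?_ ?_
      · rw [← map_one f]; exact hf.ne (by decide)
      · rw [← map_mul, ← map_one f]; congr 1
      · rw [← map_mul, ← map_one f]; congr 1
      · rw [← map_mul, ← map_one f]; congr 1
      · rw [← map_mul, ← map_mul]; congr 1
      · rw [← map_mul, ← map_mul]; congr 1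
      · rw [← map_inv, ← map_mul, ← map_mul, ← map_mul]; congr 1
      · intro h
        obtain ⟨k, hk⟩ := mem_zpowers_iff.mp h
        rw [← map_zpow] at hk
        have := hf hk
        rcases Int.even_or_odd' k with ⟨m, rfl | rfl⟩
        · rw [zpow_mul, show (DihedralGroup.r 2 : DihedralGroup 4) ^ (2 : ℤ) = 1 by decide,
            one_zpow] at this
          exact absurd this (by decide)
        · rw [zpow_add_one, zpow_mul, show (DihedralGroup.r 2 : DihedralGroup 4) ^ (2 : ℤ) = 1 by
            decide, one_zpow, one_mul] at this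
          exact absurd this (by decide)
    · let f : QuaternionGroup 2 →* S := H.subtype.comp e.symm.toMonoidHom
      have hf : Function.Injective f := H.subtype_injective.comp e.symm.injective
      refine class_of_quaternion h2 hr hn (z := f (QuaternionGroup.a 2)) (i := f (QuaternionGroup.a 1))
        (j := f (QuaternionGroup.xa 0)) ?_ ?_ ?_ ?_ ?_
      · rw [← map_one f]; exact hf.ne (by decide)
      · rw [← map_mul, ← map_one f]; congr 1
      · rw [← map_mul]; congr 1
      · rw [← map_mul]; congr 1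
      · rw [← map_inv, ← map_inv, ← map_mul, ← map_mul]; congr 1
  obtain ⟨a, b, ha, hb, hact, hsq⟩ := CfsgLib.Transfer.shape_of_class hn3 hn hcl
  rcases hact with hact | ⟨hn4, hact⟩
  · rcases hsq with hsq | hsq
    · left
      refine ⟨n - 3, ?_⟩
      rw [show n - 3 + 2 = n - 1 by omega]
      exact CfsgLib.TwoGroups.nonempty_mulEquiv_dihedralGroup ha (by rwa [← pow_two]) hb hact
        (by rw [hn, ← pow_succ', show n - 1 + 1 = n by omega])
    · right; right
      refine ⟨n - 3, ?_⟩
      rw [show n - 3 + 1 = n - 2 by omega]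
      refine CfsgLib.TwoGroups.nonempty_mulEquiv_quaternionGroup ?_ (by rwa [← pow_two]) hb hact ?_
      · rw [ha, ← pow_succ', show n - 2 + 1 = n - 1 by omega]
      · rw [hn, show (4 : ℕ) = 2 ^ 2 by rfl, ← pow_add, show 2 + (n - 2) = n by omega]
  · right; left
    set w := a ^ 2 ^ (n - 2) with hw
    have hw2 : w * w = 1 := by rw [← pow_two, hw]; exact CfsgLib.Transfer.w_sq (by omega) ha
    have hwa : Commute w a := (Commute.refl a).pow_left _
    have hconj : ∀ c : S, c * a * c⁻¹ = w * a⁻¹ → c ∉ zpowers a → c ^ 2 = 1 →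
        ∃ k : ℕ, Nat.card S = 2 ^ (k + 4) ∧ ∃ a b : S, orderOf a = 2 ^ (k + 3) ∧ orderOf b = 2 ∧
          b * a * b⁻¹ = a ^ (2 ^ (k + 2) - 1) := by
      intro c hc hcm hc2
      refine ⟨n - 4, by rw [hn, show n - 4 + 4 = n by omega], a, c,
        by rw [ha, show n - 4 + 3 = n - 1 by omega], orderOf_eq_prime hc2 ?_, ?_⟩
      · intro h; exact hcm (h ▸ one_mem _)
      · rw [hc, hw, show n - 4 + 2 = n - 2 by omega, pow_sub a (Nat.one_le_two_pow), pow_one]
    rcases hsq with hsq | hsq
    · exact hconj b hact hb hsq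
    · refine hconj (a * b) ?_ (fun h => hb ((Subgroup.mul_mem_cancel_left _ (mem_zpowers a)).mp h)) ?_
      · calc a * b * a * (a * b)⁻¹ = a * (b * a * b⁻¹) * a⁻¹ := by group
          _ = a * (w * a⁻¹) * a⁻¹ := by rw [hact]
          _ = w * a⁻¹ := by rw [← mul_assoc, ← hwa.eq]; group
      · calc (a * b) ^ 2 = a * (b * a * b⁻¹) * b ^ 2 := by simp only [pow_two]; group
          _ = a * (w * a⁻¹) * w := by rw [hact, hsq]
          _ = w * w := by rw [← mul_assoc a w, ← hwa.eq]; group
          _ = 1 := hw2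

end Cfsg.Agent.S4398
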