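import Cfsg.Statements.S4400
import Cfsg.Agent.Lib.PGroups.Basic

set_option autoImplicit false
open Cfsg

namespace Cfsg.Agent.S4400

open Subgroup
open scoped commutatorElement Pointwise

variable {S : Type*} [Group S] [Finite S]

/-- An element of `P` which is central in the group lies in the centre of `P`. -/
private theorem mem_center_map {P : Subgroup S} {x : S} (hx : x ∈ P) (hc : x ∈ center S) :
    x ∈ (center P).map P.subtype :=
  ⟨⟨x, hx⟩, mem_center_iff.mpr fun y => Subtype.ext (mem_center_iff.mp hc y.1), rfl⟩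

private theorem map_center_eq {P : Subgroup S} (hZP : Nat.card (center P) = 2) {x : S}
    (hx : x ∈ P) (hc : x ∈ center S) (hx1 : x ≠ 1) :
    (center P).map P.subtype = zpowers x := by
  haveI : Fact (Nat.Prime 2) := ⟨Nat.prime_two⟩
  have hm := mem_center_map hx hc
  refine (eq_of_le_of_card_ge (zpowers_le.mpr hm) ?_).symm
  rw [Subgroup.card_map_of_injective P.subtype_injective, hZP]
  exact Finite.one_lt_card_iff_nontrivial.mpr
    ((Subgroup.nontrivial_iff_ne_bot _).mpr (zpowers_ne_bot.mpr hx1))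

private theorem four_le {P : Subgroup S} (h2 : IsPGroup 2 S) (hP : ¬ IsMulCommutative P) :
    4 * Nat.card ((frattini P).map P.subtype : Subgroup S) ≤ Nat.card P := by
  haveI : Fact (Nat.Prime 2) := ⟨Nat.prime_two⟩
  have h4 : 4 ≤ (frattini P).index := by
    by_contra h
    have hi : (frattini P).index ≤ 2 := by
      obtain ⟨k, hk⟩ := (h2.to_subgroup P).index (frattini P)
      rw [hk] at h ⊢
      rcases k with _ | _ | k
      · norm_num
      · norm_num
      · have : 2 ^ 2 ≤ 2 ^ (k + 1 + 1) := Nat.pow_le_pow_right two_pos (by omega)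
        omega
    haveI := CfsgLib.PGroups.isCyclic_of_index_frattini_le (h2.to_subgroup P) hi
    exact hP inferInstance
  rw [Subgroup.card_map_of_injective P.subtype_injective, ← (frattini P).index_mul_card]
  exact Nat.mul_le_mul_right _ h4


/-- Let S be a finite 2-group of sectional 2-rank at most 4, and let P and Q be normal non-abelian subgroups of S whose centres have order 2 and are different. Then P and Q commute elementwise and intersect trivially, and PQ contains its own centralizer in S. -/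
theorem result {S : Type*} [Group S] [Finite S] (h2 : IsPGroup 2 S) (hr : Cfsg.SectionalPRankLE 2 4 S)
    (P Q : Subgroup S) [P.Normal] [Q.Normal] (hP : ¬ IsMulCommutative ↥P) (hQ : ¬ IsMulCommutative ↥Q)
    (hZP : Nat.card ↥(Subgroup.center ↥P) = 2) (hZQ : Nat.card ↥(Subgroup.center ↥Q) = 2)
    (hne : (Subgroup.center ↥P).map P.subtype ≠ (Subgroup.center ↥Q).map Q.subtype) :
    ⁅P, Q⁆ = ⊥ ∧ P ⊓ Q = ⊥ ∧ Subgroup.centralizer ((P ⊔ Q : Subgroup S) : Set S) ≤ P ⊔ Q := by
  haveI : Fact (Nat.Prime 2) := ⟨Nat.prime_two⟩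
  have hmeet : P ⊓ Q = ⊥ := by
    by_contra h
    obtain ⟨x, hx, hx1⟩ := ((P ⊓ Q ⊓ center S).bot_or_exists_ne_one).resolve_left
      (CfsgLib.PGroups.inf_center_ne_bot h2 h)
    exact hne ((map_center_eq hZP hx.1.1 hx.2 hx1).trans (map_center_eq hZQ hx.1.2 hx.2 hx1).symm)
  have hcomm : ⁅P, Q⁆ = ⊥ := eq_bot_iff.mpr ((Subgroup.commutator_le_inf P Q).trans hmeet.le)
  refine ⟨hcomm, hmeet, fun c hc => ?_⟩
  by_contra hcn
  have hPQ : ∀ a ∈ P, ∀ b ∈ Q, a * b = b * a := fun a ha b hb =>
    (mem_centralizer_iff.mp (Subgroup.commutator_eq_bot_iff_le_centralizer.mp hcomm ha) b hb).symm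
  -- an element outside with square inside
  obtain ⟨d, hd, hdn, hd2⟩ : ∃ d ∈ centralizer ((P ⊔ Q : Subgroup S) : Set S),
      d ∉ P ⊔ Q ∧ d * d ∈ P ⊔ Q := by
    obtain ⟨k, hk⟩ := h2 c
    classical
    have hex : ∃ j, c ^ 2 ^ j ∈ P ⊔ Q := ⟨k, hk ▸ one_mem _⟩
    have hj0 : Nat.find hex ≠ 0 := fun h => hcn (by simpa [h] using Nat.find_spec hex)
    refine ⟨c ^ 2 ^ (Nat.find hex - 1), pow_mem hc _, Nat.find_min hex (by omega), ?_⟩
    rw [← pow_two, ← pow_mul, ← pow_succ, Nat.sub_add_cancel (Nat.pos_of_ne_zero hj0)]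
    exact Nat.find_spec hex
  set F : Subgroup S := (frattini P).map P.subtype ⊔ (frattini Q).map Q.subtype with hF
  set R : Subgroup S := P ⊔ Q ⊔ zpowers d with hR
  have hFPQ : F ≤ P ⊔ Q := sup_le ((map_subtype_le _).trans le_sup_left)
    ((map_subtype_le _).trans le_sup_right)
  have hdP : ∀ a ∈ P, a * d = d * a := fun a ha => mem_centralizer_iff.mp hd a (mem_sup_left ha)
  have hdQ : ∀ a ∈ Q, a * d = d * a := fun a ha => mem_centralizer_iff.mp hd a (mem_sup_right ha)
  have hPfr : ∀ a ∈ P, a * a ∈ F := fun a ha => mem_sup_left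
    ⟨⟨a, ha⟩ ^ 2, CfsgLib.PGroups.pow_mem_frattini (h2.to_subgroup P) _, by simp [pow_two]⟩
  have hQfr : ∀ a ∈ Q, a * a ∈ F := fun a ha => mem_sup_right
    ⟨⟨a, ha⟩ ^ 2, CfsgLib.PGroups.pow_mem_frattini (h2.to_subgroup Q) _, by simp [pow_two]⟩
  -- the square of `d` lies in `F`
  have hzero : ∀ (A : Subgroup S), ¬ IsMulCommutative A → Nat.card (center A) = 2 →
      (center A).map A.subtype ≤ (frattini A).map A.subtype := by
    intro A hA hZA
    apply Subgroup.map_mono
    have hne : commutator A ≠ ⊥ := fun h => hA ⟨⟨fun a b => by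
      rw [← commutatorElement_eq_one_iff_mul_comm, ← Subgroup.mem_bot, ← h, _root_.commutator_def]
      exact Subgroup.commutator_mem_commutator (mem_top a) (mem_top b)⟩⟩
    have hge := CfsgLib.PGroups.inf_center_ne_bot (h2.to_subgroup A) hne
    have h1 : commutator A ⊓ center A = center A := by
      refine eq_of_le_of_card_ge inf_le_right ?_
      rw [hZA]
      exact Finite.one_lt_card_iff_nontrivial.mpr ((Subgroup.nontrivial_iff_ne_bot _).mpr hge)
    exact h1 ▸ inf_le_left.trans (CfsgLib.PGroups.commutator_le_frattini' (h2.to_subgroup A))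
  have hd2F : d * d ∈ F := by
    rw [← SetLike.mem_coe, Subgroup.normal_mul] at hd2
    obtain ⟨a, ha, b, hb, hab⟩ := hd2
    change a * b = d * d at hab
    have hcen : ∀ (A : Subgroup S), A ≤ P ⊔ Q → ∀ x ∈ A, ∀ y, (∀ w ∈ A, w * y = y * w) →
        (∀ w ∈ A, w * (x * y) = (x * y) * w) → ∀ hx' : x ∈ A, (⟨x, hx'⟩ : A) ∈ center A := by
      intro A _ x hx y hy hxy hx'
      refine mem_center_iff.mpr fun w => Subtype.ext ?_
      have := hxy w.1 w.2
      rw [← mul_assoc, mul_assoc x y, ← hy w.1 w.2, ← mul_assoc] at this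
      exact mul_right_cancel this
    have hdd : ∀ w ∈ P ⊔ Q, w * (d * d) = (d * d) * w := fun w hw =>
      (Commute.mul_right (mem_centralizer_iff.mp hd w hw) (mem_centralizer_iff.mp hd w hw) :
        Commute w (d * d)).eq
    have ha' : a ∈ (center P).map P.subtype :=
      ⟨⟨a, ha⟩, hcen P le_sup_left a ha b (fun w hw => hPQ w hw b hb)
        (fun w hw => hab ▸ hdd w (mem_sup_left hw)) ha, rfl⟩
    have hb' : b ∈ (center Q).map Q.subtype :=
      ⟨⟨b, hb⟩, hcen Q le_sup_right b hb a (fun w hw => (hPQ a ha w hw).symm)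
        (fun w hw => by
          rw [← hPQ a ha b hb, hab]; exact hdd w (mem_sup_right hw)) hb, rfl⟩
    rw [← hab]
    exact mul_mem (mem_sup_left (hzero P hP hZP ha')) (mem_sup_right (hzero Q hQ hZQ hb'))
  have hRF : F ≤ R := hFPQ.trans le_sup_left
  -- `F` is normal in `R`
  haveI hFn : (F.subgroupOf R).Normal := by
    refine Subgroup.normal_subgroupOf_of_le_normalizer ?_
    have key : ∀ (A : Subgroup S), A.Normal → R ≤ Subgroup.normalizer (((frattini A).map A.subtype : Subgroup S) : Set S) := by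
      intro A hA
      haveI := hA
      haveI : ((frattini A).map A.subtype).Normal := ConjAct.normal_of_characteristic_of_normal
      intro g _
      rw [Subgroup.mem_normalizer_iff]
      exact fun x => ⟨fun h => Subgroup.Normal.conj_mem inferInstance x h g, fun h => by
        have := Subgroup.Normal.conj_mem (inferInstance : ((frattini A).map A.subtype).Normal) _ h g⁻¹
        simpa [mul_assoc] using this⟩
    rw [hF]
    intro g hg
    have h1 := Subgroup.mem_normalizer_iff_map_conj_eq.mp (key P inferInstance hg)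
    have h2' := Subgroup.mem_normalizer_iff_map_conj_eq.mp (key Q inferInstance hg)
    refine Subgroup.mem_normalizer_iff_map_conj_eq.mpr ?_
    rw [Subgroup.map_sup, h1, h2']
  set N := F.subgroupOf R with hN
  let π := QuotientGroup.mk' N
  have hπ1 : ∀ w : R, π w = 1 ↔ (w : S) ∈ F := fun w => by
    rw [QuotientGroup.mk'_apply, QuotientGroup.eq_one_iff, hN, mem_subgroupOf]
  set T : Set S := (P : Set S) ∪ (Q : Set S) ∪ {d} with hT
  have hRT : R = closure T := by
    refine le_antisymm (sup_le (sup_le ?_ ?_) (zpowers_le.mpr ?_)) ((closure_le _).mpr ?_)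
    · exact fun x hx => subset_closure (Or.inl (Or.inl hx))
    · exact fun x hx => subset_closure (Or.inl (Or.inr hx))
    · exact subset_closure (Or.inr rfl)
    · rintro x ((hx | hx) | rfl)
      exacts [mem_sup_left (mem_sup_left hx), mem_sup_left (mem_sup_right hx), mem_sup_right (mem_zpowers x)]
  have hcF : ∀ (A : Subgroup S), ∀ a ∈ A, ∀ b ∈ A,
      a * b * a⁻¹ * b⁻¹ ∈ (frattini A).map A.subtype := fun A a ha b hb =>
    ⟨⁅(⟨a, ha⟩ : A), ⟨b, hb⟩⁆, CfsgLib.PGroups.commutator_le_frattini' (h2.to_subgroup A)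
      (by rw [_root_.commutator_def]; exact commutator_mem_commutator (mem_top _) (mem_top _)),
      by simp [commutatorElement_def]⟩
  have hTT : ∀ u ∈ T, ∀ v ∈ T, u * v * u⁻¹ * v⁻¹ ∈ F := by
    have h1 : ∀ u v : S, u * v = v * u → u * v * u⁻¹ * v⁻¹ ∈ F := fun u v h => by
      rw [h]; simp [one_mem]
    rintro u ((hu | hu) | rfl) v ((hv | hv) | rfl)
    · exact mem_sup_left (hcF P u hu v hv)
    · exact h1 u v (hPQ u hu v hv)
    · exact h1 u _ (hdP u hu)
    · exact h1 u v (hPQ v hv u hu).symm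
    · exact mem_sup_right (hcF Q u hu v hv)
    · exact h1 u _ (hdQ u hu)
    · exact h1 _ v (hdP v hv).symm
    · exact h1 _ v (hdQ v hv).symm
    · exact h1 _ _ rfl
  have hTsq : ∀ u ∈ T, u * u ∈ F := by
    rintro u ((hu | hu) | rfl)
    exacts [hPfr u hu, hQfr u hu, hd2F]
  have hgen : closure (π '' ((↑) ⁻¹' T)) = (⊤ : Subgroup (R ⧸ N)) := by
    have hpre : closure (((↑) : R → S) ⁻¹' T) = (⊤ : Subgroup R) := by
      apply Subgroup.map_injective R.subtype_injective
      rw [MonoidHom.map_closure, ← MonoidHom.range_eq_map, Subgroup.range_subtype, Subgroup.coe_subtype,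
        Set.image_preimage_eq_inter_range, Subtype.range_coe]
      rw [Set.inter_eq_self_of_subset_left (fun x hx => hRT.symm.le (subset_closure hx))]
      exact hRT.symm
    rw [← MonoidHom.map_closure, hpre, Subgroup.map_top_of_surjective π (QuotientGroup.mk'_surjective N)]
  have hcommset : ∀ a ∈ π '' ((↑) ⁻¹' T), ∀ b ∈ π '' ((↑) ⁻¹' T), a * b = b * a := by
    rintro _ ⟨u, hu, rfl⟩ _ ⟨v, hv, rfl⟩
    have h1 : π (u * v * u⁻¹ * v⁻¹) = 1 := (hπ1 _).mpr (by simpa using hTT _ hu _ hv)
    rw [map_mul, map_mul, map_mul, map_inv, map_inv, mul_inv_eq_one, mul_inv_eq_iff_eq_mul] at h1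
    exact h1
  haveI : IsMulCommutative (closure (π '' ((↑) ⁻¹' T))) := isMulCommutative_closure hcommset
  have hQc : ∀ a b : R ⧸ N, a * b = b * a := fun a b =>
    setLike_mul_comm (s := closure (π '' ((↑) ⁻¹' T))) (hgen ▸ mem_top a) (hgen ▸ mem_top b)
  have hexp : ∀ a : R ⧸ N, a ^ 2 = 1 := by
    intro a
    have ha : a ∈ closure (π '' ((↑) ⁻¹' T)) := hgen ▸ mem_top a
    induction ha using Subgroup.closure_induction with
    | mem a ha =>
      obtain ⟨u, hu, rfl⟩ := ha
      rw [← map_pow]; exact (hπ1 _).mpr (by simpa [pow_two] using hTsq _ hu)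
    | one => exact one_pow 2
    | mul a b _ _ iha ihb => rw [Commute.mul_pow (hQc a b), iha, ihb, one_mul]
    | inv a _ iha => rw [inv_pow, iha, inv_one]
  have hle := hr R N ⊤ ⟨⟨fun a b => Subtype.ext (hQc a b)⟩⟩ (fun a _ => hexp a)
  rw [Subgroup.card_top] at hle
  have hNc : Nat.card N = Nat.card F := by
    rw [hN]; exact Nat.card_congr (subgroupOfEquivOfLe hRF).toEquiv
  have hFc : Nat.card F ≤ Nat.card ((frattini P).map P.subtype : Subgroup S) *
      Nat.card ((frattini Q).map Q.subtype : Subgroup S) := by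
    haveI : ((frattini P).map P.subtype).Normal := ConjAct.normal_of_characteristic_of_normal
    have : (F : Set S) = ((frattini P).map P.subtype : Set S) * ((frattini Q).map Q.subtype : Set S) :=
      Subgroup.normal_mul _ _
    rw [← SetLike.coe_sort_coe F, this]
    exact Set.natCard_mul_le
  have hPQc : Nat.card (P ⊔ Q : Subgroup S) = Nat.card P * Nat.card Q := by
    let φ : P × Q → (P ⊔ Q : Subgroup S) := fun p =>
      ⟨p.1 * p.2, mul_mem (mem_sup_left p.1.2) (mem_sup_right p.2.2)⟩
    have hφ : Function.Bijective φ := by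
      constructor
      · intro p p' h
        exact Prod.ext_iff.mpr (by
          have := Subgroup.mul_injective_of_disjoint (disjoint_iff.mpr hmeet) (congrArg Subtype.val h)
          exact Prod.ext_iff.mp this)
      · rintro ⟨y, hy⟩
        rw [← SetLike.mem_coe, Subgroup.normal_mul] at hy
        obtain ⟨a, ha, b, hb, rfl⟩ := hy
        exact ⟨(⟨a, ha⟩, ⟨b, hb⟩), rfl⟩
    rw [← Nat.card_prod]; exact (Nat.card_congr (Equiv.ofBijective φ hφ)).symm
  have hR2 : 2 * Nat.card (P ⊔ Q : Subgroup S) ≤ Nat.card R := by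
    have hlt : P ⊔ Q ≤ R := le_sup_left
    obtain ⟨e, he⟩ := Subgroup.card_dvd_of_le hlt
    have hne' : Nat.card R ≠ Nat.card (P ⊔ Q : Subgroup S) := fun h =>
      hdn (Subgroup.eq_of_le_of_card_ge hlt h.le ▸ mem_sup_right (mem_zpowers d))
    have := Nat.card_pos (α := R)
    rcases e with _ | _ | e
    · omega
    · omega
    · rw [he, mul_comm]; exact Nat.mul_le_mul_left _ (by omega)
  have hsplit := N.card_eq_card_quotient_mul_card_subgroup
  have hp := Nat.mul_le_mul (four_le h2 hP) (four_le h2 hQ)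
  have hposF : 0 < Nat.card F := Nat.card_pos
  rw [hPQc] at hR2
  rw [hNc] at hsplit
  have : 32 * Nat.card F ≤ 16 * Nat.card F := by
    calc 32 * Nat.card F ≤ 2 * (4 * Nat.card ((frattini P).map P.subtype : Subgroup S) *
          (4 * Nat.card ((frattini Q).map Q.subtype : Subgroup S))) := by nlinarith
      _ ≤ 2 * (Nat.card P * Nat.card Q) := Nat.mul_le_mul_left _ hp
      _ ≤ Nat.card R := hR2
      _ ≤ 16 * Nat.card F := hsplit.le.trans (Nat.mul_le_mul_right _ (by norm_num at hle; omega))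
  omega

end Cfsg.Agent.S4400
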