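import Cfsg.Statements.S4401
import Cfsg.Agent.S4400

set_option autoImplicit false
open Cfsg

namespace Cfsg.Agent.S4401

open Subgroup
open scoped commutatorElement Pointwise

variable {S : Type*} [Group S] [Finite S]

/-- `z` is the involution spanning the centre of the non-abelian subgroup `P`. -/
private structure Ctr (P : Subgroup S) (z : S) : Prop where
  na : ¬ IsMulCommutative P
  card : Nat.card (center P) = 2
  mem : z ∈ P
  ne : z ≠ 1
  comm : ∀ x ∈ P, x * z = z * x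

private theorem Ctr.eq_or {P : Subgroup S} {z : S} (h : Ctr P z) {x : S} (hx : x ∈ P)
    (hc : ∀ y ∈ P, y * x = x * y) : x = 1 ∨ x = z := by
  by_contra hne
  push Not at hne
  classical
  haveI := Fintype.ofFinite (center P)
  have hzc : (⟨z, h.mem⟩ : P) ∈ center P :=
    mem_center_iff.mpr fun y => Subtype.ext (h.comm y.1 y.2)
  have hxc : (⟨x, hx⟩ : P) ∈ center P := mem_center_iff.mpr fun y => Subtype.ext (hc y.1 y.2)
  have h3 : 2 < Fintype.card (center P) :=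
    Fintype.two_lt_card_iff.mpr ⟨1, ⟨_, hzc⟩, ⟨_, hxc⟩,
      fun e => h.ne (congrArg (fun a : center P => ((a : P) : S)) e).symm,
      fun e => hne.1 (congrArg (fun a : center P => ((a : P) : S)) e).symm,
      fun e => hne.2 (congrArg (fun a : center P => ((a : P) : S)) e).symm⟩
  rw [← Nat.card_eq_fintype_card, h.card] at h3
  omega

private theorem Ctr.conj {P : Subgroup S} {z : S} (h : Ctr P z) (g : S) :
    Ctr (P.map (MulAut.conj g).toMonoidHom) (g * z * g⁻¹) := by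
  set P' := P.map (MulAut.conj g).toMonoidHom with hP'
  have e : P ≃* P' := Subgroup.equivMapOfInjective P _ (MulAut.conj g).injective
  refine ⟨fun hc => h.na ⟨⟨fun a b => e.injective (by rw [map_mul, map_mul]; exact hc.is_comm.comm _ _)⟩⟩,
    ?_, ⟨z, h.mem, rfl⟩, fun hh => h.ne (by simpa using hh), ?_⟩
  · rw [← h.card]
    exact (Nat.card_congr (Subgroup.centerCongr e).toEquiv).symm
  · rintro _ ⟨x, hx, rfl⟩
    change g * x * g⁻¹ * (g * z * g⁻¹) = g * z * g⁻¹ * (g * x * g⁻¹)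
    calc g * x * g⁻¹ * (g * z * g⁻¹) = g * (x * z) * g⁻¹ := by group
      _ = g * (z * x) * g⁻¹ := by rw [h.comm x hx]
      _ = _ := by group

private theorem conj_normal {P : Subgroup S} {S₀ : Subgroup S} (g : S)
    (hP : ∀ s ∈ S₀, ∀ x ∈ P, s * x * s⁻¹ ∈ P) :
    ∀ s, g⁻¹ * s * g ∈ S₀ → ∀ x ∈ P.map (MulAut.conj g).toMonoidHom,
      s * x * s⁻¹ ∈ P.map (MulAut.conj g).toMonoidHom := by
  rintro s hs _ ⟨x, hx, rfl⟩
  exact ⟨_, hP _ hs x hx, by simp [mul_assoc]⟩

/-- The result of `S4400` inside a subgroup. -/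
private theorem inside (h2 : IsPGroup 2 S) (hr : Cfsg.SectionalPRankLE 2 4 S) {H P Q : Subgroup S}
    {zP zQ : S} (hPH : P ≤ H) (hQH : Q ≤ H) (hPn : ∀ s ∈ H, ∀ x ∈ P, s * x * s⁻¹ ∈ P)
    (hQn : ∀ s ∈ H, ∀ x ∈ Q, s * x * s⁻¹ ∈ Q) (hP : Ctr P zP) (hQ : Ctr Q zQ) (hne : zP ≠ zQ) :
    (∀ a ∈ P, ∀ b ∈ Q, a * b = b * a) ∧ (∀ a ∈ P, a ∈ Q → a = 1) ∧
      ∀ c ∈ H, (∀ a ∈ P, a * c = c * a) → (∀ b ∈ Q, b * c = c * b) →
        ∃ a ∈ P, ∃ b ∈ Q, c = a * b := by
  have hr' : Cfsg.SectionalPRankLE 2 4 H := by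
    intro K N _ A hA hA2
    set K' := K.map H.subtype
    let e : K ≃* K' := K.equivMapOfInjective H.subtype H.subtype_injective
    haveI : (N.map e.toMonoidHom).Normal := Subgroup.Normal.map inferInstance _ e.surjective
    let q : K ⧸ N ≃* K' ⧸ N.map e.toMonoidHom := QuotientGroup.congr N _ e rfl
    haveI := hA
    have := hr K' (N.map e.toMonoidHom) (A.map q.toMonoidHom)
      (Subgroup.map_isMulCommutative A q.toMonoidHom) (by
        rintro _ ⟨a, ha, rfl⟩
        rw [← map_pow, hA2 a ha, map_one])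
    exact (Subgroup.card_map_of_injective (K := A) (f := q.toMonoidHom) q.injective).ge.trans this
  have hsub : ∀ {A : Subgroup S}, A ≤ H → (∀ s ∈ H, ∀ x ∈ A, s * x * s⁻¹ ∈ A) →
      (A.subgroupOf H).Normal := fun hA h => ⟨fun x hx s => by
    rw [mem_subgroupOf] at hx ⊢; exact h s.1 s.2 _ hx⟩
  haveI := hsub hPH hPn
  haveI := hsub hQH hQn
  have hna : ∀ {A : Subgroup S}, A ≤ H → ¬ IsMulCommutative A → ¬ IsMulCommutative (A.subgroupOf H) :=
    fun hA h hc => h ⟨⟨fun a b => (subgroupOfEquivOfLe hA).symm.injective (by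
      rw [map_mul, map_mul]; exact hc.is_comm.comm _ _)⟩⟩
  have hcc : ∀ {A : Subgroup S}, A ≤ H → Nat.card (center A) = 2 →
      Nat.card (center (A.subgroupOf H)) = 2 := fun hA h => by
    rw [← h]; exact Nat.card_congr (Subgroup.centerCongr (subgroupOfEquivOfLe hA)).toEquiv
  obtain ⟨h1, h2', h3⟩ := Cfsg.Agent.S4400.result (h2.to_subgroup H) hr' (P.subgroupOf H)
    (Q.subgroupOf H) (hna hPH hP.na) (hna hQH hQ.na) (hcc hPH hP.card) (hcc hQH hQ.card) (by
      intro heq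
      have hz : (⟨zP, hPH hP.mem⟩ : H) ∈ (center (P.subgroupOf H)).map (P.subgroupOf H).subtype :=
        ⟨⟨⟨zP, hPH hP.mem⟩, hP.mem⟩, mem_center_iff.mpr fun y => Subtype.ext (Subtype.ext
          (hP.comm _ y.2)), rfl⟩
      rw [heq] at hz
      obtain ⟨⟨⟨w, hwH⟩, hwQ⟩, hwc, hw⟩ := hz
      have hwz : w = zP := congrArg Subtype.val hw
      subst hwz
      rcases hQ.eq_or hwQ (fun y hy => congrArg (fun a : Q.subgroupOf H => ((a : H) : S))
        (mem_center_iff.mp hwc ⟨⟨y, hQH hy⟩, hy⟩)) with e | e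
      · exact hP.ne e
      · exact hne e)
  have hcomm : ∀ a ∈ P, ∀ b ∈ Q, a * b = b * a := fun a ha b hb =>
    congrArg Subtype.val (mem_centralizer_iff.mp
      (Subgroup.commutator_eq_bot_iff_le_centralizer.mp h1 (show (⟨a, hPH ha⟩ : H) ∈ P.subgroupOf H from ha))
      ⟨b, hQH hb⟩ hb).symm
  refine ⟨hcomm, fun a ha hb => ?_, fun c hc hcP hcQ => ?_⟩
  · have hmem : (⟨a, hPH ha⟩ : H) ∈ P.subgroupOf H ⊓ Q.subgroupOf H := ⟨ha, hb⟩
    rw [h2'] at hmem
    exact congrArg Subtype.val (Subgroup.mem_bot.mp hmem)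
  · have hcm : (⟨c, hc⟩ : H) ∈ P.subgroupOf H ⊔ Q.subgroupOf H := by
      refine h3 (mem_centralizer_iff.mpr fun x hx => ?_)
      rw [SetLike.mem_coe, ← SetLike.mem_coe, Subgroup.normal_mul] at hx
      obtain ⟨a, ha, b, hb, rfl⟩ := hx
      exact Subtype.ext (Commute.mul_left (hcP _ ha) (hcQ _ hb) : Commute ((a : S) * b) c).eq
    rw [← SetLike.mem_coe, Subgroup.normal_mul] at hcm
    obtain ⟨a, ha, b, hb, hab⟩ := hcm
    exact ⟨a, ha, b, hb, (congrArg Subtype.val hab).symm⟩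

/-- Two commuting disjoint subgroups cannot carry sections of total rank five. -/
private theorem no_five (hr : Cfsg.SectionalPRankLE 2 4 S) {H₁ H₂ : Subgroup S}
    (hc : ∀ a ∈ H₁, ∀ b ∈ H₂, a * b = b * a) (hd : ∀ a ∈ H₁, a ∈ H₂ → a = 1)
    {Q₁ Q₂ : Type*} [Group Q₁] [Group Q₂] (f₁ : H₁ →* Q₁) (f₂ : H₂ →* Q₂)
    (s₁ : Function.Surjective f₁) (s₂ : Function.Surjective f₂)
    (c₁ : ∀ a b : Q₁, a * b = b * a) (c₂ : ∀ a b : Q₂, a * b = b * a)
    (e₁ : ∀ a : Q₁, a ^ 2 = 1) (e₂ : ∀ a : Q₂, a ^ 2 = 1) :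
    Nat.card Q₁ * Nat.card Q₂ ≤ 16 := by
  let ψ : H₁ × H₂ →* S := MonoidHom.noncommCoprod H₁.subtype H₂.subtype fun a b => hc a a.2 b b.2
  have hψ : Function.Injective ψ := by
    rw [injective_iff_map_eq_one]
    rintro ⟨a, b⟩ h
    change (a : S) * b = 1 at h
    have ha : (a : S) ∈ H₂ := by rw [eq_inv_of_mul_eq_one_left h]; exact inv_mem b.2
    have ha1 := hd a a.2 ha
    rw [ha1, one_mul] at h
    exact Prod.ext (Subtype.ext ha1) (Subtype.ext h)
  let e := MonoidHom.ofInjective hψ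
  let g : ψ.range →* Q₁ × Q₂ := (f₁.prodMap f₂).comp e.symm.toMonoidHom
  have hg : Function.Surjective g := by
    rintro ⟨p, q⟩
    obtain ⟨a, rfl⟩ := s₁ p
    obtain ⟨b, rfl⟩ := s₂ q
    exact ⟨e (a, b), by simp [g]⟩
  let q := QuotientGroup.quotientKerEquivOfSurjective g hg
  have hcomm : ∀ a b : Q₁ × Q₂, a * b = b * a := fun a b => Prod.ext (c₁ _ _) (c₂ _ _)
  have := hr ψ.range g.ker ⊤ ⟨⟨fun a b => Subtype.ext (q.injective (by
      rw [Subgroup.coe_mul, Subgroup.coe_mul, map_mul, map_mul]; exact hcomm _ _))⟩⟩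
    (fun a _ => q.injective (by rw [map_pow, map_one]; exact Prod.ext (e₁ _) (e₂ _)))
  rw [Subgroup.card_top, Nat.card_congr q.toEquiv, Nat.card_prod] at this
  exact this.trans (by norm_num)

private theorem frattini_quotient (h2 : IsPGroup 2 S) {P : Subgroup S} (hP : ¬ IsMulCommutative P) :
    (∀ a b : P ⧸ frattini P, a * b = b * a) ∧ (∀ a : P ⧸ frattini P, a ^ 2 = 1) ∧
      4 ≤ Nat.card (P ⧸ frattini P) := by
  haveI : Fact (Nat.Prime 2) := ⟨Nat.prime_two⟩
  refine ⟨fun a b => ?_, fun a => ?_, ?_⟩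
  · exact (Subgroup.Normal.quotient_commutative_iff_commutator_le.mpr
      (CfsgLib.PGroups.commutator_le_frattini' (h2.to_subgroup P))).is_comm.comm a b
  · obtain ⟨x, rfl⟩ := QuotientGroup.mk_surjective a
    rw [← QuotientGroup.mk_pow, QuotientGroup.eq_one_iff]
    exact CfsgLib.PGroups.pow_mem_frattini (h2.to_subgroup P) x
  · by_contra h
    have hi : (frattini P).index ≤ 2 := by
      obtain ⟨k, hk⟩ := (h2.to_subgroup P).index (frattini P)
      rw [Subgroup.index_eq_card] at hk ⊢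
      rw [hk] at h ⊢
      rcases k with _ | _ | k
      · norm_num
      · norm_num
      · have : 2 ^ 2 ≤ 2 ^ (k + 1 + 1) := Nat.pow_le_pow_right two_pos (by omega)
        omega
    haveI := CfsgLib.PGroups.isCyclic_of_index_frattini_le (h2.to_subgroup P) hi
    exact hP inferInstance


/-- Let S be a finite 2-group of sectional 2-rank at most 4 and P a proper non-abelian subgroup whose centre has order 2. Let S₀ be the centralizer in S of Z(P) and suppose P is normal in S₀. Then either S₀ = S, or P has sectional 2-rank at most 2 and S₀ has index 2 in S. -/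
theorem result {S : Type*} [Group S] [Finite S] (h2 : IsPGroup 2 S) (hr : Cfsg.SectionalPRankLE 2 4 S)
    (P : Subgroup S) (hPlt : P ≠ ⊤) (hP : ¬ IsMulCommutative ↥P) (hZP : Nat.card ↥(Subgroup.center ↥P) = 2)
    (S₀ : Subgroup S) (hS₀ : S₀ = Subgroup.centralizer (((Subgroup.center ↥P).map P.subtype : Subgroup S) : Set S))
    (hPn : ∀ s ∈ S₀, ∀ x ∈ P, s * x * s⁻¹ ∈ P) :
    S₀ = ⊤ ∨ (Cfsg.SectionalPRankLE 2 2 ↥P ∧ S₀.index = 2) := by
  haveI : Fact (Nat.Prime 2) := ⟨Nat.prime_two⟩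
  obtain ⟨⟨⟨z, hzP⟩, hzc⟩, hz1⟩ : ∃ w : center P, w ≠ 1 := by
    haveI : Nontrivial (center P) := Finite.one_lt_card_iff_nontrivial.mp (by rw [hZP]; norm_num)
    exact exists_ne 1
  have hC : Ctr P z := ⟨hP, hZP, hzP, fun h => hz1 (Subtype.ext (Subtype.ext h)),
    fun x hx => congrArg Subtype.val (mem_center_iff.mp hzc ⟨x, hx⟩)⟩
  have hS0 : ∀ g, g ∈ S₀ ↔ g * z * g⁻¹ = z := by
    intro g
    rw [hS₀, mem_centralizer_iff, mul_inv_eq_iff_eq_mul]
    refine ⟨fun h => (h z ⟨⟨z, hzP⟩, hzc, rfl⟩).symm, fun h w hw => ?_⟩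
    obtain ⟨⟨w, hwP⟩, hwc, rfl⟩ := hw
    change w * g = g * w
    rcases hC.eq_or hwP (fun y hy => congrArg Subtype.val (mem_center_iff.mp hwc ⟨y, hy⟩)) with e | e <;>
      rw [e]
    · simp
    · exact h.symm
  have hPS0 : P ≤ S₀ := fun x hx => (hS0 x).mpr (mul_inv_eq_iff_eq_mul.mpr (hC.comm x hx))
  refine or_iff_not_imp_left.mpr fun hne => ?_
  set N := Subgroup.normalizer (S₀ : Set S) with hN
  haveI := h2.isNilpotent
  obtain ⟨w₀, hw₀N, hw₀⟩ := SetLike.exists_of_lt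
    (Group.normalizerCondition_of_isNilpotent (G := S) S₀ (lt_top_iff_ne_top.mpr hne))
  -- properties of the conjugate by an element of `N \ S₀`
  have hprop : ∀ w ∈ N, w ∉ S₀ → P.map (MulAut.conj w).toMonoidHom ≤ S₀ ∧
      (∀ s ∈ S₀, ∀ x ∈ P.map (MulAut.conj w).toMonoidHom, s * x * s⁻¹ ∈ P.map (MulAut.conj w).toMonoidHom) ∧
      z ≠ w * z * w⁻¹ := by
    intro w hwN hw
    refine ⟨?_, fun s hs => conj_normal w hPn s ?_, fun h => hw ((hS0 w).mpr h.symm)⟩
    · rintro _ ⟨x, hx, rfl⟩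
      exact (mem_normalizer_iff.mp hwN x).mp (hPS0 hx)
    · have := (mem_normalizer_iff.mp (inv_mem hwN) s).mp hs
      simpa [mul_assoc] using this
  have hpair : ∀ w ∈ N, w ∉ S₀ → _ := fun w hwN hw =>
    inside h2 hr hPS0 (hprop w hwN hw).1 hPn (hprop w hwN hw).2.1 hC (hC.conj w) (hprop w hwN hw).2.2
  refine ⟨?_, ?_⟩
  · intro K M _ A hA hA2
    by_contra hbig
    obtain ⟨hc, hd, -⟩ := hpair w₀ hw₀N hw₀
    set P' := P.map (MulAut.conj w₀).toMonoidHom with hP'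
    obtain ⟨fc, fe, f4⟩ := frattini_quotient h2 (hC.conj w₀).na
    let KA : Subgroup K := A.comap (QuotientGroup.mk' M)
    let H₁ : Subgroup S := (KA.map K.subtype).map P.subtype
    have hH₁ : H₁ ≤ P := map_subtype_le _
    let i₁ : KA ≃* H₁ := (KA.equivMapOfInjective K.subtype K.subtype_injective).trans
      ((KA.map K.subtype).equivMapOfInjective P.subtype P.subtype_injective)
    let f₁ : H₁ →* A := (((QuotientGroup.mk' M).comp KA.subtype).codRestrict A fun a => a.2).comp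
      i₁.symm.toMonoidHom
    have hf₁ : Function.Surjective f₁ := by
      rintro ⟨a, ha⟩
      obtain ⟨x, rfl⟩ := QuotientGroup.mk'_surjective M a
      refine ⟨i₁ ⟨x, ha⟩, Subtype.ext ?_⟩
      simp [f₁]
      rfl
    have h16 := no_five hr (H₁ := H₁) (H₂ := P') (fun a ha b hb => hc a (hH₁ ha) b hb)
      (fun a ha hb => hd a (hH₁ ha) hb) f₁ (QuotientGroup.mk' (frattini P')) hf₁
      (QuotientGroup.mk'_surjective _) (fun a b => hA.is_comm.comm a b) fc
      (fun a => Subtype.ext (by rw [SubmonoidClass.coe_pow]; exact hA2 a.1 a.2)) fe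
    have h5 : 5 ≤ Nat.card A := by rw [show (2 : ℕ) ^ 2 = 4 from rfl] at hbig; omega
    have : 5 * 4 ≤ Nat.card A * Nat.card (↥P' ⧸ frattini ↥P') := Nat.mul_le_mul h5 f4
    omega
  -- any two elements of `N \ S₀` agree modulo `S₀`
  have hsame : ∀ v ∈ N, v ∉ S₀ → ∀ w ∈ N, w ∉ S₀ → w⁻¹ * v ∈ S₀ := by
    intro v hvN hv w hwN hw
    by_contra hvw
    obtain ⟨hcv, -, -⟩ := hpair v hvN hv
    obtain ⟨hcw, -, hsat⟩ := hpair w hwN hw
    have hne' : v * z * v⁻¹ ≠ w * z * w⁻¹ := fun h => hvw ((hS0 _).mpr (by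
      calc w⁻¹ * v * z * (w⁻¹ * v)⁻¹ = w⁻¹ * (v * z * v⁻¹) * w := by group
        _ = z := by rw [h]; group))
    obtain ⟨hvw', -, -⟩ := inside h2 hr (hprop v hvN hv).1 (hprop w hwN hw).1 (hprop v hvN hv).2.1
      (hprop w hwN hw).2.1 (hC.conj v) (hC.conj w) hne'
    refine (hC.conj v).na ⟨⟨fun x y => Subtype.ext ?_⟩⟩
    obtain ⟨a, ha, b, hb, hab⟩ := hsat x.1 ((hprop v hvN hv).1 x.2) (fun a ha => hcv a ha x.1 x.2)
      (fun b hb => (hvw' x.1 x.2 b hb).symm)
    change (x : S) * y = y * x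
    rw [hab]
    exact (Commute.mul_left (hcv a ha y.1 y.2) (hvw' y.1 y.2 b hb).symm : Commute (a * b) (y : S)).eq
  have hidxN : (S₀.subgroupOf N).index = 2 := by
    refine Subgroup.index_eq_two_iff.mpr ⟨⟨w₀, hw₀N⟩, fun v => ?_⟩
    simp only [mem_subgroupOf, Subgroup.coe_mul]
    by_cases hv : (v : S) ∈ S₀
    · exact Or.inr ⟨hv, fun h => hw₀ ((S₀.mul_mem_cancel_left hv).mp h)⟩
    · refine Or.inl ⟨?_, hv⟩
      have := hsame w₀ hw₀N hw₀ (v : S)⁻¹ (inv_mem v.2) (fun h => hv (inv_mem_iff.mp h))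
      rwa [inv_inv] at this
  suffices hNtop : N = ⊤ by
    have h := Subgroup.relIndex_mul_index (le_normalizer (H := S₀))
    change (S₀.subgroupOf N).index * N.index = S₀.index at h
    rw [hidxN, hNtop, Subgroup.index_top] at h
    omega
  by_contra hNne
  obtain ⟨t, htN, htn⟩ := SetLike.exists_of_lt
    (Group.normalizerCondition_of_isNilpotent (G := S) N (lt_top_iff_ne_top.mpr hNne))
  set S₁ := S₀.map (MulAut.conj t).toMonoidHom with hS₁
  set z2 := t * z * t⁻¹ with hz2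
  have hS1 : ∀ g, g ∈ S₁ ↔ g * z2 * g⁻¹ = z2 := by
    intro g
    have e : g ∈ S₁ ↔ t⁻¹ * g * t ∈ S₀ := by
      constructor
      · rintro ⟨x, hx, rfl⟩; simpa [mul_assoc] using hx
      · intro h; exact ⟨_, h, by simp [mul_assoc]⟩
    rw [e, hS0, hz2]
    constructor <;> intro h
    · calc g * (t * z * t⁻¹) * g⁻¹ = t * ((t⁻¹ * g * t) * z * (t⁻¹ * g * t)⁻¹) * t⁻¹ := by group
        _ = _ := by rw [h]
    · calc t⁻¹ * g * t * z * (t⁻¹ * g * t)⁻¹ = t⁻¹ * (g * (t * z * t⁻¹) * g⁻¹) * t := by group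
        _ = _ := by rw [h]; group
  have hS1N : S₁ ≤ N := by
    rintro _ ⟨x, hx, rfl⟩
    exact (mem_normalizer_iff.mp htN x).mp (le_normalizer hx)
  -- an element of `S₁ \ S₀`
  obtain ⟨w, hwS1, hw⟩ : ∃ w ∈ S₁, w ∉ S₀ := by
    by_contra h
    push Not at h
    refine htn (Subgroup.mem_normalizer_iff_map_conj_eq.mpr ?_)
    exact eq_of_le_of_card_ge h (Subgroup.card_map_of_injective (K := S₀) (f := (MulAut.conj t).toMonoidHom) (MulAut.conj t).injective).ge
  have hwN := hS1N hwS1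
  obtain ⟨hc, hd, -⟩ := hpair w hwN hw
  set P' := P.map (MulAut.conj w).toMonoidHom with hP'
  obtain ⟨hP'le, hP'n, hzne⟩ := hprop w hwN hw
  have hw2 : w * w ∈ S₀ := by
    have := hsame w hwN hw w⁻¹ (inv_mem hwN) (fun h => hw (inv_mem_iff.mp h))
    rwa [inv_inv] at this
  have hswap : ∀ x ∈ P', w * x * w⁻¹ ∈ P := by
    rintro _ ⟨x, hx, rfl⟩
    change w * (w * x * w⁻¹) * w⁻¹ ∈ P
    rw [show w * (w * x * w⁻¹) * w⁻¹ = (w * w) * x * (w * w)⁻¹ by group]
    exact hPn _ hw2 x hx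
  have hswap' : ∀ x ∈ P, w * x * w⁻¹ ∈ P' := fun x hx => ⟨x, hx, rfl⟩
  have hPN : P ≤ N := hPS0.trans le_normalizer
  have hP'N : P' ≤ N := hP'le.trans le_normalizer
  -- `N ∩ C(z2)` has index at most two in `N`
  have hidx1 : ∀ a ∈ N, ∀ b ∈ N, a ∉ S₁ → b ∉ S₁ → a * b ∈ S₁ := by
    have hrel : (S₁.subgroupOf N).index = 2 := by
      have h0 := (S₀.subgroupOf N).card_mul_index
      have h1 := (S₁.subgroupOf N).card_mul_index
      rw [Nat.card_congr (subgroupOfEquivOfLe (le_normalizer : S₀ ≤ N)).toEquiv, hidxN] at h0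
      rw [Nat.card_congr (subgroupOfEquivOfLe hS1N).toEquiv,
        show Nat.card S₁ = Nat.card S₀ from Subgroup.card_map_of_injective (MulAut.conj t).injective,
        ← h0] at h1
      exact Nat.eq_of_mul_eq_mul_left Nat.card_pos h1
    intro a ha b hb hna hnb
    exact (Subgroup.mul_mem_iff_of_index_two (H := S₁.subgroupOf N) hrel (a := ⟨a, ha⟩) (b := ⟨b, hb⟩)).mpr
      (iff_of_false hna hnb)
  have hz2N : z2 ∈ N := (mem_normalizer_iff.mp htN z).mp (hPN hzP)
  have hz2S0 : z2 ∈ S₀ := by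
    by_contra hz2n
    obtain ⟨-, hd', -⟩ := hpair z2 hz2N hz2n
    have hmove : ∀ a ∈ P, a ≠ 1 → a ∉ S₁ := by
      intro a ha ha1 hS
      refine ha1 (hd' a ha ⟨a, ha, ?_⟩)
      change z2 * a * z2⁻¹ = a
      rw [mul_inv_eq_iff_eq_mul]
      exact (mul_inv_eq_iff_eq_mul.mp ((hS1 a).mp hS)).symm
    obtain ⟨a, ha, ha1, haz⟩ : ∃ a ∈ P, a ≠ 1 ∧ a ≠ z⁻¹ := by
      by_contra h
      push Not at h
      refine hP ⟨⟨fun x y => Subtype.ext ?_⟩⟩
      by_cases hx : (x : S) = 1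
      · simp [hx]
      by_cases hy : (y : S) = 1
      · simp [hy]
      simp [h x.1 x.2 hx, h y.1 y.2 hy]
    have hprod := hidx1 a (hPN ha) z (hPN hzP) (hmove a ha ha1) (hmove z hzP hC.ne)
    exact hmove _ (mul_mem ha hzP) (fun h => haz (eq_inv_of_mul_eq_one_left h)) hprod
  set P2 := P.map (MulAut.conj t).toMonoidHom with hP2
  set w' := t⁻¹ * w₀ * t with hw'
  have hC2 : Ctr P2 z2 := hC.conj t
  have hP2S1 : P2 ≤ S₁ := Subgroup.map_mono hPS0
  have hP2n : ∀ s ∈ S₁, ∀ x ∈ P2, s * x * s⁻¹ ∈ P2 := by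
    intro s hs
    refine conj_normal t hPn s ?_
    obtain ⟨x, hx, rfl⟩ := hs
    simpa [mul_assoc] using hx
  -- normalisation of `P` and `P'` by `z2`
  have hz2P : ∀ x ∈ P, z2 * x * z2⁻¹ ∈ P := hPn z2 hz2S0
  have hz2P' : ∀ x ∈ P', z2 * x * z2⁻¹ ∈ P' := hP'n z2 hz2S0
  have hwz2 : w * z2 * w⁻¹ = z2 := (hS1 w).mp hwS1
  let A := P ⊓ S₁
  let A' := P' ⊓ S₁
  have hmk : ∀ x, x ∈ P → x ∈ S₁ → x ∈ A := fun x a b => Subgroup.mem_inf.mpr ⟨a, b⟩
  have hmk' : ∀ x, x ∈ P' → x ∈ S₁ → x ∈ A' := fun x a b => Subgroup.mem_inf.mpr ⟨a, b⟩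
  have hAA' : ∀ a ∈ A, w * a * w⁻¹ ∈ A' := fun a ha =>
    hmk' _ (hswap' a ha.1) (mul_mem (mul_mem hwS1 ha.2) (inv_mem hwS1))
  have hAA'' : ∀ a ∈ A', w * a * w⁻¹ ∈ A := fun a ha =>
    hmk _ (hswap a ha.1) (mul_mem (mul_mem hwS1 ha.2) (inv_mem hwS1))
  -- `z2` is not of the form `u * u'`
  have hnot : ∀ u ∈ P, ∀ u' ∈ P', z2 ≠ u * u' := by
    intro u hu u' hu' he
    have hu'eq : w * u' * w⁻¹ = u ∧ w * u * w⁻¹ = u' := by
      have h1 : (w * u' * w⁻¹) * (w * u * w⁻¹) = u * u' := by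
        calc (w * u' * w⁻¹) * (w * u * w⁻¹) = w * (u' * u) * w⁻¹ := by group
          _ = w * (u * u') * w⁻¹ := by rw [hc u hu u' hu']
          _ = u * u' := by rw [← he, hwz2]
      have h2' : u⁻¹ * (w * u' * w⁻¹) = u' * (w * u * w⁻¹)⁻¹ := by
        rw [eq_mul_inv_iff_mul_eq, mul_assoc, h1, inv_mul_cancel_left]
      have h3 := hd _ (mul_mem (inv_mem hu) (hswap u' hu'))
        (h2'.symm ▸ mul_mem hu' (inv_mem (hswap' u hu)))
      have h4 : w * u' * w⁻¹ = u := (inv_mul_eq_one.mp h3).symm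
      rw [h4] at h1
      exact ⟨h4, mul_left_cancel h1⟩
    have hucent : ∀ a ∈ P, a * u = u * a := by
      intro a ha
      by_contra hau
      have hau' : a ∉ S₁ := fun h => hau (by
        have := mul_inv_eq_iff_eq_mul.mp ((hS1 a).mp h)
        rw [he, ← mul_assoc, mul_assoc u u' a, ← hc a ha u' hu', ← mul_assoc] at this
        exact mul_right_cancel this)
      set a' := w * a * w⁻¹
      have ha' : a' ∈ P' := hswap' a ha
      have hau'' : a' * u' ≠ u' * a' := fun h => hau (by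
        rw [← hu'eq.2] at h
        have h' : w * (a * u) * w⁻¹ = w * (u * a) * w⁻¹ := by
          calc w * (a * u) * w⁻¹ = (w * a * w⁻¹) * (w * u * w⁻¹) := by group
            _ = (w * u * w⁻¹) * (w * a * w⁻¹) := h
            _ = _ := by group
        exact mul_left_cancel (mul_right_cancel h'))
      have ha'S : a' ∉ S₁ := fun h => hau'' (by
        have := mul_inv_eq_iff_eq_mul.mp ((hS1 a').mp h)
        rw [he, ← mul_assoc, ← hc u hu a' ha', mul_assoc, mul_assoc u u' a'] at this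
        exact mul_left_cancel this)
      have hm := hidx1 a (hPN ha) a' (hP'N ha') hau' ha'S
      have h5 := mul_inv_eq_iff_eq_mul.mp ((hS1 _).mp hm)
      rw [he] at h5
      have e1 : a * a' * (u * u') = (a * u) * (a' * u') := by
        rw [mul_assoc a a', ← mul_assoc a' u u', ← hc u hu a' ha', mul_assoc u a' u', ← mul_assoc a u]
      have e2 : u * u' * (a * a') = (u * a) * (u' * a') := by
        rw [mul_assoc u u', ← mul_assoc u' a a', ← hc a ha u' hu', mul_assoc a u' a', ← mul_assoc u a]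
      rw [e1, e2] at h5
      have h6 : (u * a)⁻¹ * (a * u) = (u' * a') * (a' * u')⁻¹ := by
        rw [eq_mul_inv_iff_mul_eq, mul_assoc, h5, inv_mul_cancel_left]
      have h7 := hd _ (mul_mem (inv_mem (mul_mem hu ha)) (mul_mem ha hu))
        (h6.symm ▸ mul_mem (mul_mem hu' ha') (inv_mem (mul_mem ha' hu')))
      exact hau (inv_mul_eq_one.mp h7).symm
    rcases hC.eq_or hu hucent with h | h
    · rw [h] at hu'eq he
      rw [← hu'eq.2] at he
      exact hC2.ne (by rw [he]; group)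
    · -- then `z2` is central in `N`
      rw [h] at hu'eq he
      have hall : ∀ v ∈ N, v * z2 * v⁻¹ = z2 := by
        intro v hv
        have e0 : v * z2 * v⁻¹ = (v * z * v⁻¹) * (v * u' * v⁻¹) := by rw [he]; group
        rw [e0]
        by_cases hv0 : v ∈ S₀
        · have h1 : v * z * v⁻¹ = z := (hS0 v).mp hv0
          have hv' : w⁻¹ * v * w ∈ S₀ := by
            have := (mem_normalizer_iff.mp (inv_mem hwN) v).mp hv0
            simpa [mul_assoc] using this
          have h2' : v * u' * v⁻¹ = u' := by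
            rw [← hu'eq.2]
            calc v * (w * z * w⁻¹) * v⁻¹ = w * ((w⁻¹ * v * w) * z * (w⁻¹ * v * w)⁻¹) * w⁻¹ := by group
              _ = _ := by rw [(hS0 _).mp hv']
          rw [h1, h2', he]
        · have hvw := hsame v hv hv0 w hwN hw
          have h1 : v * z * v⁻¹ = u' := by
            calc v * z * v⁻¹ = w * ((w⁻¹ * v) * z * (w⁻¹ * v)⁻¹) * w⁻¹ := by group
              _ = u' := by rw [(hS0 _).mp hvw, hu'eq.2]
          have hvw' : v * w ∈ S₀ := by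
            have := hsame w hwN hw v⁻¹ (inv_mem hv) (fun h => hv0 (inv_mem_iff.mp h))
            rwa [inv_inv] at this
          have h2' : v * u' * v⁻¹ = z := by
            rw [← hu'eq.2]
            calc v * (w * z * w⁻¹) * v⁻¹ = (v * w) * z * (v * w)⁻¹ := by group
              _ = z := (hS0 _).mp hvw'
          rw [h1, h2', he, hc z hzP u' hu']
      have hSN : ∀ v ∈ N, v ∈ S₁ := fun v hv => (hS1 v).mpr (hall v hv)
      have hcard : Nat.card N ≤ Nat.card S₀ := by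
        rw [← Subgroup.card_map_of_injective (K := S₀) (f := (MulAut.conj t).toMonoidHom) (MulAut.conj t).injective]
        exact Subgroup.card_le_of_le hSN
      exact hw ((eq_of_le_of_card_ge (le_normalizer : S₀ ≤ N) hcard).symm ▸ hwN)
  set P3 := P'.map (MulAut.conj t).toMonoidHom with hP3
  have hP3S1 : P3 ≤ S₁ := Subgroup.map_mono hP'le
  have hP3n : ∀ s ∈ S₁, ∀ x ∈ P3, s * x * s⁻¹ ∈ P3 := by
    intro s hs
    refine conj_normal t hP'n s ?_
    obtain ⟨x, hx, rfl⟩ := hs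
    simpa [mul_assoc] using hx
  have hC3 : Ctr P3 (t * (w * z * w⁻¹) * t⁻¹) := (hC.conj w).conj t
  obtain ⟨hc23, hd23, hsat23⟩ := inside h2 hr hP2S1 hP3S1 hP2n hP3n hC2 hC3 (fun h => hzne (by
    rw [hz2] at h; exact mul_left_cancel (mul_right_cancel h)))
  -- `P2` and `P3` centralize `A` and `A'`
  let X : Subgroup S := A ⊔ A'
  have hXS1 : X ≤ S₁ := sup_le inf_le_right inf_le_right
  have hXeq : X = Subgroup.closure ((A : Set S) ∪ A') := by
    rw [Subgroup.closure_union, Subgroup.closure_eq, Subgroup.closure_eq]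
  have hXind : ∀ (p : S → Prop), (∀ x ∈ A, p x) → (∀ x ∈ A', p x) →
      (∀ x y, p x → p y → p (x * y)) → ∀ x ∈ X, p x := by
    intro p h1 h1' hmul x hx
    rw [hXeq] at hx
    induction hx using Subgroup.closure_induction'' with
    | mem x hx => exact hx.elim (h1 x) (h1' x)
    | inv_mem x hx => exact hx.elim (fun h => h1 _ (inv_mem h)) (fun h => h1' _ (inv_mem h))
    | one => exact h1 1 (one_mem _)
    | mul x y _ _ ihx ihy => exact hmul x y ihx ihy
  have hXform : ∀ x ∈ X, ∃ u ∈ P, ∃ u' ∈ P', x = u * u' := by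
    refine hXind _ (fun x hx => ⟨x, hx.1, 1, one_mem _, (mul_one x).symm⟩)
      (fun x hx => ⟨1, one_mem _, x, hx.1, (one_mul x).symm⟩) ?_
    rintro x y ⟨a, ha, a', ha', rfl⟩ ⟨b, hb, b', hb', rfl⟩
    refine ⟨a * b, mul_mem ha hb, a' * b', mul_mem ha' hb', ?_⟩
    rw [mul_assoc a a', ← mul_assoc a' b b', ← hc b hb a' ha', mul_assoc b a' b', ← mul_assoc a b]
  have hXnorm : ∀ s ∈ S₁, ∀ x ∈ X, s * x * s⁻¹ ∈ X := by
    intro s hs
    have key : ∀ x ∈ A, s * x * s⁻¹ ∈ X := by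
      intro x hx
      by_cases h0 : s ∈ S₀
      · exact mem_sup_left (hmk _ (hPn s h0 x hx.1) (mul_mem (mul_mem hs hx.2) (inv_mem hs)))
      · have hm : w⁻¹ * s ∈ S₀ := hsame s (hS1N hs) h0 w hwN hw
        have h1 : (w⁻¹ * s) * x * (w⁻¹ * s)⁻¹ ∈ A :=
          hmk _ (hPn _ hm x hx.1) (mul_mem (mul_mem (mul_mem (inv_mem hwS1) hs) hx.2)
            (inv_mem (mul_mem (inv_mem hwS1) hs)))
        refine mem_sup_right ?_
        have h2' := hAA' _ h1
        have e : s * x * s⁻¹ = w * ((w⁻¹ * s) * x * (w⁻¹ * s)⁻¹) * w⁻¹ := by group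
        rw [e]; exact h2'
    have key' : ∀ x ∈ A', s * x * s⁻¹ ∈ X := by
      intro x hx
      by_cases h0 : s ∈ S₀
      · exact mem_sup_right (hmk' _ (hP'n s h0 x hx.1) (mul_mem (mul_mem hs hx.2) (inv_mem hs)))
      · have hm : s * w ∈ S₀ := by
          have := hsame w hwN hw s⁻¹ (inv_mem (hS1N hs)) (fun h => h0 (inv_mem_iff.mp h))
          rwa [inv_inv] at this
        have h1 : w⁻¹ * x * w ∈ A := by
          obtain ⟨⟨y, hy, rfl⟩, hxS⟩ := hx
          have e : w⁻¹ * ((MulAut.conj w).toMonoidHom y) * w = y := by simp [mul_assoc]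
          exact hmk _ (by rw [e]; exact hy) (mul_mem (mul_mem (inv_mem hwS1) hxS) hwS1)
        refine mem_sup_left ?_
        have h2' : (s * w) * (w⁻¹ * x * w) * (s * w)⁻¹ ∈ A :=
          hmk _ (hPn _ hm _ h1.1) (mul_mem (mul_mem (mul_mem hs hwS1) h1.2) (inv_mem (mul_mem hs hwS1)))
        rwa [show s * x * s⁻¹ = (s * w) * (w⁻¹ * x * w) * (s * w)⁻¹ by group]
    exact hXind _ key key' fun x y ihx ihy => by rw [← conj_mul]; exact mul_mem ihx ihy
  have hmeetX : ∀ (Q : Subgroup S) (c : S), Ctr Q c → Q ≤ S₁ →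
      (∀ s ∈ S₁, ∀ x ∈ Q, s * x * s⁻¹ ∈ Q) → c ∉ X → ∀ q ∈ Q, ∀ x ∈ X, q * x = x * q := by
    intro Q c hQ hQS hQn hcX q hq x hx
    have hcom : q * x * q⁻¹ * x⁻¹ ∈ Q ⊓ X := by
      refine Subgroup.mem_inf.mpr ⟨?_, mul_mem (hXnorm q (hQS hq) x hx) (inv_mem hx)⟩
      rw [show q * x * q⁻¹ * x⁻¹ = q * (x * q⁻¹ * x⁻¹) by group]
      exact mul_mem hq (hQn x (hXS1 hx) _ (inv_mem hq))
    have hbot : Q ⊓ X = ⊥ := by
      by_contra hQX
      set D := (Q ⊓ X).subgroupOf S₁ with hD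
      haveI : D.Normal := ⟨fun d hd s => by
        rw [hD, mem_subgroupOf] at hd ⊢
        exact ⟨hQn s.1 s.2 _ hd.1, hXnorm s.1 s.2 _ hd.2⟩⟩
      have hDne : D ≠ ⊥ := fun h => hQX (eq_bot_iff.mpr fun d hd => by
        have : (⟨d, hQS hd.1⟩ : S₁) ∈ D := hd
        rw [h] at this
        exact Subgroup.mem_bot.mpr (congrArg Subtype.val (Subgroup.mem_bot.mp this)))
      obtain ⟨d, ⟨hdD, hdc⟩, hd1⟩ := ((D ⊓ center S₁).bot_or_exists_ne_one).resolve_left
        (CfsgLib.PGroups.inf_center_ne_bot (h2.to_subgroup S₁) hDne)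
      rcases hQ.eq_or hdD.1 (fun y hy => congrArg Subtype.val (mem_center_iff.mp hdc ⟨y, hQS hy⟩)) with h | h
      · exact hd1 (Subtype.ext h)
      · exact hcX (h ▸ hdD.2)
    rw [hbot, Subgroup.mem_bot, mul_inv_eq_one, mul_inv_eq_iff_eq_mul] at hcom
    exact hcom
  set z3 := t * (w * z * w⁻¹) * t⁻¹ with hz3
  have hz2X : z2 ∉ X := fun h => by
    obtain ⟨u, hu, u', hu', he⟩ := hXform _ h
    exact hnot u hu u' hu' he
  have hz3S : z3 ∈ S₁ := hP3S1 hC3.mem
  have hz3X : z3 ∉ X := fun h => by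
    -- transport along an element swapping the two centres
    set s := t * w * t⁻¹ with hs
    have hsN : s ∈ N := (mem_normalizer_iff.mp htN w).mp hwN
    have hsz : s * z2 * s⁻¹ = z3 := by rw [hs, hz2, hz3]; group
    obtain ⟨u, hu, u', hu', he⟩ := hXform _ h
    have hrev : z2 = s⁻¹ * (u * u') * s := by rw [← he, ← hsz]; group
    have hcnj : s⁻¹ * (u * u') * s = (s⁻¹ * u * s) * (s⁻¹ * u' * s) := by group
    rw [hcnj] at hrev
    have hsinvN : s⁻¹ ∈ N := inv_mem hsN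
    by_cases h0 : s⁻¹ ∈ S₀
    · refine hnot _ ?_ _ ?_ hrev
      · simpa using hPn _ h0 u hu
      · have := hP'n _ h0 u' hu'
        rwa [inv_inv] at this
    · have hm : s⁻¹ * w ∈ S₀ := by
        have := hsame w hwN hw s (inv_inv s ▸ inv_mem hsinvN) (fun h => h0 (inv_mem h))
        exact this
      have hm' : w⁻¹ * s⁻¹ ∈ S₀ := hsame s⁻¹ hsinvN h0 w hwN hw
      have p1 : s⁻¹ * u * s ∈ P' := by
        have := hswap' _ (hPn _ hm' u hu)
        rwa [show w * (w⁻¹ * s⁻¹ * u * (w⁻¹ * s⁻¹)⁻¹) * w⁻¹ = s⁻¹ * u * s by group] at this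
      have p2 : s⁻¹ * u' * s ∈ P := by
        obtain ⟨y, hy, rfl⟩ := hu'
        have := hPn _ hm y hy
        rwa [show s⁻¹ * w * y * (s⁻¹ * w)⁻¹ = s⁻¹ * (w * y * w⁻¹) * s by group] at this
      rw [← hc _ p2 _ p1] at hrev
      exact hnot _ p2 _ p1 hrev
  have hXcent : ∀ x ∈ X, (∀ q ∈ P2, q * x = x * q) ∧ (∀ q ∈ P3, q * x = x * q) := fun x hx =>
    ⟨fun q hq => hmeetX P2 z2 hC2 hP2S1 hP2n hz2X q hq x hx,
      fun q hq => hmeetX P3 z3 hC3 hP3S1 hP3n hz3X q hq x hx⟩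
  have hXz : ∀ x ∈ X, ∃ i j : Bool, x = (if i then z2 else 1) * (if j then z3 else 1) := by
    intro x hx
    obtain ⟨h2x, h3x⟩ := hXcent x hx
    obtain ⟨a, ha, b, hb, rfl⟩ := hsat23 x (hXS1 hx) h2x h3x
    have hac : a = 1 ∨ a = z2 := hC2.eq_or ha fun y hy => by
      have := h2x y hy
      rw [← mul_assoc, mul_assoc a b y, ← hc23 y hy b hb, ← mul_assoc] at this
      exact mul_right_cancel this
    have hbc : b = 1 ∨ b = z3 := hC3.eq_or hb fun y hy => by
      have := h3x y hy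
      rw [← mul_assoc, ← hc23 a ha y hy, mul_assoc a y b, mul_assoc a b y] at this
      exact mul_left_cancel this
    rcases hac with rfl | rfl <;> rcases hbc with rfl | rfl
    exacts [⟨false, false, by simp⟩, ⟨false, true, by simp⟩, ⟨true, false, by simp⟩, ⟨true, true, by simp⟩]
  -- count
  have hA4 : 4 ≤ Nat.card A := by
    have hP8 : 8 ≤ Nat.card P := by
      obtain ⟨k, hk⟩ := IsPGroup.iff_card.mp (h2.to_subgroup P)
      by_contra h
      refine hP ?_
      rcases k with _ | _ | _ | k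
      · haveI : Subsingleton P := (Nat.card_eq_one_iff_unique.mp (by simpa using hk)).1
        infer_instance
      · haveI : IsCyclic P := isCyclic_of_prime_card (p := 2) (by simpa using hk)
        infer_instance
      · exact IsPGroup.isMulCommutative_of_card_eq_prime_sq (p := 2) (by simpa using hk)
      · have : 2 ^ 3 ≤ 2 ^ (k + 1 + 1 + 1) := Nat.pow_le_pow_right two_pos (by omega)
        omega
    have hindex : (A.subgroupOf P).index ≤ 2 := by
      by_cases hle : P ≤ S₁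
      · have : A.subgroupOf P = ⊤ := Subgroup.subgroupOf_eq_top.mpr (le_inf le_rfl hle)
        rw [this, Subgroup.index_top]; norm_num
      · obtain ⟨g, hg, hgn⟩ := SetLike.not_le_iff_exists.mp hle
        refine le_of_eq (Subgroup.index_eq_two_iff.mpr ⟨⟨g, hg⟩, fun v => ?_⟩)
        simp only [mem_subgroupOf, Subgroup.coe_mul, A, Subgroup.mem_inf]
        by_cases hv : (v : S) ∈ S₁
        · exact Or.inr ⟨⟨v.2, hv⟩, fun h => hgn ((S₁.mul_mem_cancel_left hv).mp h.2)⟩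
        · exact Or.inl ⟨⟨mul_mem v.2 hg, hidx1 _ (hPN v.2) g (hPN hg) hv hgn⟩, fun h => hv h.2⟩
    have h1 := (A.subgroupOf P).card_mul_index
    rw [Nat.card_congr (subgroupOfEquivOfLe (inf_le_left : A ≤ P)).toEquiv] at h1
    have h2m := Nat.mul_le_mul_left (Nat.card (P ⊓ S₁ : Subgroup S)) hindex
    change 4 ≤ Nat.card (P ⊓ S₁ : Subgroup S)
    simp only [A] at h1 hindex h2m ⊢
    omega
  have hX4 : Nat.card X ≤ 4 := by
    choose gi gj hgij using hXz
    let g : X → Bool × Bool := fun x => (gi x.1 x.2, gj x.1 x.2)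
    have hg : Function.Injective g := by
      intro x y h
      apply Subtype.ext
      simp only [g, Prod.mk.injEq] at h
      rw [hgij x.1 x.2, hgij y.1 y.2, h.1, h.2]
    have := Nat.card_le_card_of_injective g hg
    simpa using this
  let ι : A × A' → X := fun p => ⟨p.1 * p.2, mul_mem (mem_sup_left p.1.2) (mem_sup_right p.2.2)⟩
  have hι : Function.Injective ι := by
    rintro ⟨a, b⟩ ⟨a', b'⟩ h
    have h' : (a : S) * b = a' * b' := congrArg Subtype.val h
    have h1 : (a' : S)⁻¹ * a = b' * (b : S)⁻¹ := by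
      rw [eq_mul_inv_iff_mul_eq, mul_assoc, h', inv_mul_cancel_left]
    have h2' := hd _ (mul_mem (inv_mem a'.2.1) a.2.1) (h1.symm ▸ mul_mem b'.2.1 (inv_mem b.2.1))
    have h3 : (a : S) = a' := (inv_mul_eq_one.mp h2').symm
    exact Prod.ext (Subtype.ext h3) (Subtype.ext (by rw [h3] at h'; exact mul_left_cancel h'))
  have h16 := Nat.card_le_card_of_injective ι hι
  rw [Nat.card_prod] at h16
  haveI : Nontrivial A' := by
    haveI : Nontrivial A := Finite.one_lt_card_iff_nontrivial.mp (by omega)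
    obtain ⟨a, ha⟩ := exists_ne (1 : A)
    exact ⟨⟨_, hAA' a.1 a.2⟩, 1, fun h => ha (Subtype.ext (by simpa using congrArg Subtype.val h))⟩
  have h2A' : 2 ≤ Nat.card A' := Finite.one_lt_card
  have := Nat.mul_le_mul hA4 h2A'
  omega

end Cfsg.Agent.S4401
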