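import Cfsg.Statements.S4402
import Cfsg.Agent.Lib.Pairs.WreathMain

set_option autoImplicit false
open Cfsg

namespace Cfsg.Agent.S4402

/-- Let S be a finite 2-group of sectional 2-rank at most 4 and P a proper subgroup isomorphic to the wreath product of the dihedral group of order 8 by a group of order 2 (equivalently, to a Sylow 2-subgroup of the symmetric group of degree 8; order 128). Then Z(S) = Z(P) has order 2, P has index 2 in its normalizer N_S(P), N_S(P)/Z(S) is again isomorphic to that wreath product, and every elementary abelian subgroup V of order 16 that is normal in P satisfies N_S(V) = P. -/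
theorem result {S : Type*} [Group S] [Finite S] (h2 : IsPGroup 2 S) (hr : Cfsg.SectionalPRankLE 2 4 S)
    (P : Subgroup S) (hPlt : P ≠ ⊤) (hP : ∃ T : Sylow 2 (Equiv.Perm (Fin 8)), Nonempty (↥P ≃* ↥(T : Subgroup (Equiv.Perm (Fin 8))))) :
    Subgroup.center S = (Subgroup.center ↥P).map P.subtype ∧ Nat.card ↥(Subgroup.center S) = 2 ∧
    P.relIndex (Subgroup.normalizer (P : Set S)) = 2 ∧
    (∃ (_ : ((Subgroup.center S).subgroupOf (Subgroup.normalizer (P : Set S))).Normal) (T : Sylow 2 (Equiv.Perm (Fin 8))),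
      Nonempty (↥(Subgroup.normalizer (P : Set S)) ⧸ (Subgroup.center S).subgroupOf (Subgroup.normalizer (P : Set S)) ≃*
        ↥(T : Subgroup (Equiv.Perm (Fin 8))))) ∧
    ∀ V : Subgroup S, V ≤ P → (∀ g ∈ P, ∀ v ∈ V, g * v * g⁻¹ ∈ V) → Cfsg.IsElementaryAbelian 2 V → Nat.card ↥V = 16 →
      Subgroup.normalizer (V : Set S) = P := by
  obtain ⟨T, ⟨e⟩⟩ := hP
  obtain ⟨g, h⟩ := CfsgLib.Pairs.Wreath.exists_setup e
  refine ⟨?_, ?_, h.relIndex_eq h2 hr hPlt, h.normalizer_quotient h2 hr hPlt, fun V hV hn hVe hc => ?_⟩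
  · ext x
    rw [h.mem_center_iff' h2 hr, Subgroup.mem_map]
    constructor
    · rintro (rfl | rfl)
      · exact ⟨1, one_mem _, rfl⟩
      · exact ⟨⟨_, mul_mem h.c₁_mem h.c₂_mem⟩,
          Subgroup.mem_center_iff.2 fun y => Subtype.ext (h.z_central y.2), rfl⟩
    · rintro ⟨⟨y, hy⟩, hyc, rfl⟩
      exact h.central_eq hy fun u hu =>
        (congrArg Subtype.val (Subgroup.mem_center_iff.1 hyc ⟨u, hu⟩)).symm
  · have : (Subgroup.center S : Set S) = {1, g.c₁ * g.c₂} := by
      ext y
      simp [SetLike.mem_coe, h.mem_center_iff' h2 hr]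
    show Nat.card (Subgroup.center S : Set S) = 2
    rw [this, Nat.card_coe_set_eq, Set.ncard_pair (Ne.symm h.c_facts.2.2.2)]
  · obtain ⟨hcomm, hexp⟩ := hVe
    exact h.normalizer_eq_of_normal h2 hr hV hn
      (fun u hu v hv => congrArg Subtype.val (hcomm.1.1 ⟨u, hu⟩ ⟨v, hv⟩))
      (fun u hu => (pow_two u).symm.trans (hexp u hu)) hc

end Cfsg.Agent.S4402
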