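import Cfsg.Statements.S4405
import Cfsg.Agent.Lib.PGroups.Extraspecial
import Cfsg.Agent.Lib.Core.Cores
import Cfsg.Agent.Lib.Char.Burnside
import Cfsg.Agent.Lib.Components.FStar

set_option autoImplicit false
open Cfsg

namespace Cfsg.Agent.S4405

/-- Let G be a finite group of order 320 = 64·5 whose largest normal 2-subgroup H = O₂(G) equals the Fitting subgroup F(G) and is extraspecial of order 32 containing no elementary abelian subgroup of order 8 (so H is the central product of a quaternion group and a dihedral group of order 8). If T is an involution of G outside H whose centralizer in H contains an elementary abelian subgroup of order 4, then C_H(T) itself is elementary abelian of order 4. -/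
theorem result {G : Type*} [Group G] [Finite G]
    (hG : Nat.card G = 320) (hHF : Cfsg.pCore 2 G = Cfsg.fittingSubgroup G)
    (hex : Cfsg.IsExtraspecial 2 ↥(Cfsg.pCore 2 G)) (h32 : Nat.card ↥(Cfsg.pCore 2 G) = 32)
    (hminus : ∀ A : Subgroup G, A ≤ Cfsg.pCore 2 G → Cfsg.IsElementaryAbelian 2 A → Nat.card ↥A ≤ 4)
    (T : G) (hT : orderOf T = 2) (hTH : T ∉ Cfsg.pCore 2 G)
    (V : Subgroup G) (hV : V ≤ Cfsg.pCore 2 G ⊓ Subgroup.centralizer ({T} : Set G)) (hV4 : Nat.card ↥V = 4) (hVe : Cfsg.IsElementaryAbelian 2 V) :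
    Nat.card ↥(Cfsg.pCore 2 G ⊓ Subgroup.centralizer ({T} : Set G)) = 4 ∧
      Cfsg.IsElementaryAbelian 2 (Cfsg.pCore 2 G ⊓ Subgroup.centralizer ({T} : Set G)) := by
  classical
  have h2 : Fact (Nat.Prime 2) := ⟨Nat.prime_two⟩
  have h5 : Fact (Nat.Prime 5) := ⟨by norm_num⟩
  set H := Cfsg.pCore 2 G with hHdef
  have hsolv : Group.IsSolvable G := CfsgLib.Burnside.isSolvable_of_card_eq (p := 2) (q := 5) (a := 6)
    (b := 1) Nat.prime_two (by norm_num) (by norm_num [hG])
  have hCH : Subgroup.centralizer (H : Set G) ≤ H := by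
    rw [hHF]
    exact CfsgLib.Components.centralizer_fitting_le_of_isSolvable
  have hHn : H.Normal := CfsgLib.Core.normal_pCore 2 G
  have hTT : T * T = 1 := by rw [← pow_two, ← hT, pow_orderOf_eq_one]
  -- the centre of the radical
  set Z : Subgroup G := (Subgroup.center H).map H.subtype with hZdef
  have hZc : Nat.card Z = 2 :=
    (Subgroup.card_map_of_injective H.subtype_injective).trans hex.2
  have hZH : Z ≤ H := Subgroup.map_subtype_le _
  have hZn : ∀ g : G, ∀ u ∈ Z, g * u * g⁻¹ ∈ Z := by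
    rintro g _ ⟨u, hu, rfl⟩
    refine ⟨⟨g * u * g⁻¹, hHn.conj_mem _ u.2 g⟩, ?_, rfl⟩
    rw [SetLike.mem_coe, Subgroup.mem_center_iff] at hu ⊢
    intro v
    apply Subtype.ext
    have h' := congrArg Subtype.val (hu ⟨g⁻¹ * v * g,
      by simpa using hHn.conj_mem _ v.2 g⁻¹⟩)
    simp only [Subgroup.coe_mul] at h'
    calc (v : G) * (g * u * g⁻¹) = g * ((g⁻¹ * v * g) * u) * g⁻¹ := by group
      _ = g * (u * (g⁻¹ * v * g)) * g⁻¹ := by rw [h']
      _ = g * u * g⁻¹ * v := by group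
  have hZcomm : ∀ u ∈ Z, ∀ x ∈ H, x * u = u * x := by
    rintro _ ⟨u, hu, rfl⟩ x hx
    exact congrArg Subtype.val (Subgroup.mem_center_iff.1 hu ⟨x, hx⟩)
  have hcommZ : ∀ a ∈ H, ∀ b ∈ H, a * b * a⁻¹ * b⁻¹ ∈ Z := fun a ha b hb =>
    ⟨_, CfsgLib.PGroups.IsExtraspecial.comm_mem hex ⟨a, ha⟩ ⟨b, hb⟩, rfl⟩
  have hsqZ : ∀ a ∈ H, a * a ∈ Z := fun a ha =>
    ⟨_, CfsgLib.PGroups.IsExtraspecial.pow_mem_center hex (⟨a, ha⟩ : H), by
      show (((⟨a, ha⟩ : H) ^ 2 : H) : G) = a * a
      rw [pow_two]; rfl⟩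
  have hZz : ∀ u ∈ Z, ∀ g : G, g * u * g⁻¹ = u := by
    intro u hu g
    by_cases h1 : u = 1
    · rw [h1]; group
    · obtain ⟨a, b, -, huniv⟩ := (Nat.card_eq_two_iff (α := Z)).1 hZc
      have key : ∀ w : Z, w = a ∨ w = b := fun w => by
        have : w ∈ ({a, b} : Set _) := huniv ▸ Set.mem_univ w
        simpa using this
      have h3 : g * u * g⁻¹ ≠ 1 := fun hh => h1 (conj_eq_one_iff.1 hh)
      rcases key 1 with h0 | h0 <;> rcases key ⟨u, hu⟩ with e1 | e1 <;>
        rcases key ⟨_, hZn g u hu⟩ with e2 | e2 <;>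
        first
        | exact congrArg Subtype.val (e2.trans e1.symm)
        | exact absurd (congrArg Subtype.val (e1.trans h0.symm)) h1
        | exact absurd (congrArg Subtype.val (e2.trans h0.symm)) h3
  have hHp : IsPGroup 2 H := hex.1.1
  -- an element of order five in the product of two conjugates of `T`
  have hQ : IsPGroup 2 ↥(Subgroup.zpowers T ⊔ H) := by
    refine IsPGroup.to_sup_of_normal_right ?_ hHp
    exact IsPGroup.of_card (n := 1) (by rw [Nat.card_zpowers, hT, pow_one])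
  obtain ⟨g, hg⟩ : ∃ g : G, g * T * g⁻¹ ∉ Subgroup.zpowers T ⊔ H := by
    by_contra hcon
    simp only [not_exists, not_not] at hcon
    have hn : (Subgroup.zpowers T ⊔ H).Normal := by
      constructor
      intro x hx g
      have hle : (Subgroup.zpowers T ⊔ H).map (MulAut.conj g).toMonoidHom ≤
          Subgroup.zpowers T ⊔ H := by
        rw [Subgroup.map_sup, sup_le_iff, MonoidHom.map_zpowers]
        refine ⟨Subgroup.zpowers_le.2 (hcon g), ?_⟩
        rintro _ ⟨y, hy, rfl⟩
        exact Subgroup.mem_sup_right (hHn.conj_mem y hy g)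
      exact hle ⟨x, hx, rfl⟩
    have hle : Subgroup.zpowers T ⊔ H ≤ H := le_sSup ⟨hn, hQ⟩
    exact hTH (hle (Subgroup.mem_sup_left (Subgroup.mem_zpowers T)))
  set T' := g * T * g⁻¹ with hT'
  have hT'T' : T' * T' = 1 := by rw [hT', conj_mul, hTT, mul_one, mul_inv_cancel]
  have hHcard : H.index = 10 := by
    have := H.card_mul_index
    rw [hG, h32] at this
    omega
  have hQcard : Nat.card ↥(Subgroup.zpowers T ⊔ H) = 64 := by
    obtain ⟨k, hk⟩ := IsPGroup.iff_card.1 hQ
    have hd := Subgroup.card_subgroup_dvd_card (Subgroup.zpowers T ⊔ H)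
    have hlt : H < Subgroup.zpowers T ⊔ H :=
      lt_of_le_of_ne le_sup_right fun e => hTH (e ▸ Subgroup.mem_sup_left (Subgroup.mem_zpowers T))
    have hl : Nat.card H < Nat.card ↥(Subgroup.zpowers T ⊔ H) :=
      lt_of_le_of_ne (Subgroup.card_le_of_le hlt.le) fun e =>
        hlt.ne (Subgroup.eq_of_le_of_card_ge hlt.le e.ge)
    rw [hG, hk] at hd
    rw [h32, hk] at hl
    rw [hk]
    have : k ≤ 6 := by
      by_contra hc
      have h128 : 2 ^ 7 ∣ 320 := (pow_dvd_pow 2 (by omega : 7 ≤ k)).trans hd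
      norm_num at h128
    interval_cases k <;> omega
  set y := T * T' with hy
  set s := y ^ 64 with hs
  have hs5 : s ^ 5 = 1 := by
    rw [hs, ← pow_mul, show 64 * 5 = Nat.card G by rw [hG], pow_card_eq_one']
  have hyinv : T * y * T⁻¹ = y⁻¹ := by
    rw [hy, mul_inv_rev, inv_eq_of_mul_eq_one_left hTT, inv_eq_of_mul_eq_one_left hT'T',
      ← mul_assoc T T T', hTT, one_mul]
  have hs1 : s ≠ 1 := by
    intro hs1
    have hY : IsPGroup 2 (Subgroup.zpowers y) :=
      IsPGroup.iff_card.2 (by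
        rw [Nat.card_zpowers]
        exact ((Nat.dvd_prime_pow Nat.prime_two).1
          (orderOf_dvd_of_pow_eq_one (show y ^ 2 ^ 6 = 1 by norm_num; exact hs1))).imp fun k hk => hk.2)
    have hYT : IsPGroup 2 ↥(Subgroup.zpowers T ⊔ Subgroup.zpowers y) := by
      refine IsPGroup.to_sup_of_normal_right' ?_ hY ?_
      · exact IsPGroup.of_card (n := 1) (by rw [Nat.card_zpowers, hT, pow_one])
      · rw [Subgroup.zpowers_le, Subgroup.mem_normalizer_iff]
        have key : ∀ x ∈ Subgroup.zpowers y, T * x * T⁻¹ ∈ Subgroup.zpowers y := by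
          rintro _ ⟨j, rfl⟩
          show T * y ^ j * T⁻¹ ∈ _
          rw [← conj_zpow, hyinv]
          exact zpow_mem (inv_mem (Subgroup.mem_zpowers y)) j
        refine fun x => ⟨key x, fun hx => ?_⟩
        have := key _ hx
        rwa [inv_eq_of_mul_eq_one_left hTT, show T * (T * x * T) * T = (T * T) * x * (T * T) by group,
          hTT, one_mul, mul_one] at this
    have hbig : IsPGroup 2 ↥((Subgroup.zpowers T ⊔ Subgroup.zpowers y) ⊔ H) :=
      IsPGroup.to_sup_of_normal_right hYT hHp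
    obtain ⟨k, hk⟩ := IsPGroup.iff_card.1 hbig
    have hd := Subgroup.card_subgroup_dvd_card ((Subgroup.zpowers T ⊔ Subgroup.zpowers y) ⊔ H)
    have hle : Subgroup.zpowers T ⊔ H ≤ (Subgroup.zpowers T ⊔ Subgroup.zpowers y) ⊔ H :=
      sup_le_sup_right le_sup_left _
    have hk6 : k ≤ 6 := by
      rw [hG, hk] at hd
      by_contra hc
      have h128 : 2 ^ 7 ∣ 320 := (pow_dvd_pow 2 (by omega : 7 ≤ k)).trans hd
      norm_num at h128
    have heq := Subgroup.eq_of_le_of_card_ge hle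
      (by rw [hk, hQcard]; exact Nat.pow_le_pow_right (by norm_num) hk6)
    apply hg
    rw [heq]
    have hT'mem : T⁻¹ * y ∈ Subgroup.zpowers T ⊔ Subgroup.zpowers y :=
      mul_mem (inv_mem (Subgroup.mem_sup_left (Subgroup.mem_zpowers T)))
        (Subgroup.mem_sup_right (Subgroup.mem_zpowers y))
    rw [hy, inv_mul_cancel_left] at hT'mem
    exact Subgroup.mem_sup_left hT'mem
  have hsH : s ∉ H := fun hsH => by
    obtain ⟨k, hk⟩ := IsPGroup.iff_card.1 hHp
    have h1 : orderOf s ∣ 2 ^ k := hk ▸ Subgroup.orderOf_dvd_natCard H hsH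
    have h2 : orderOf s = 5 := orderOf_eq_prime hs5 hs1
    rw [h2] at h1
    exact absurd ((by norm_num : Nat.Prime 5).dvd_of_dvd_pow h1) (by norm_num)
  -- the element of order five fixes only the centre
  have hfix : ∀ h ∈ H, s * h * s⁻¹ = h → h ∈ Z := by
    let φ : Subgroup.zpowers s →* MulAut H :=
      (MulAut.conjNormal (H := H)).comp (Subgroup.zpowers s).subtype
    letI : MulAction (Subgroup.zpowers s) H := MulAction.compHom H φ
    have hP : IsPGroup 5 (Subgroup.zpowers s) :=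
      IsPGroup.of_card (n := 1) (by rw [Nat.card_zpowers, orderOf_eq_prime hs5 hs1, pow_one])
    have hmod := hP.card_modEq_card_fixedPoints H
    let C : Subgroup H := (Subgroup.centralizer ({s} : Set G)).subgroupOf H
    have hCc : Nat.card C = Nat.card (MulAction.fixedPoints (Subgroup.zpowers s) H) := by
      refine Nat.card_congr (Equiv.subtypeEquivRight fun h => ?_)
      rw [Subgroup.mem_subgroupOf, Subgroup.mem_centralizer_singleton_iff, MulAction.mem_fixedPoints]
      constructor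
      · intro hc u
        obtain ⟨j, hj⟩ := Subgroup.mem_zpowers_iff.1 u.2
        apply Subtype.ext
        show ((MulAut.conjNormal (u : G) h : H) : G) = h
        rw [MulAut.conjNormal_apply, ← hj, ((show Commute s (h : G) from hc.symm).zpow_left j).eq,
          mul_inv_cancel_right]
      · intro hc
        have := congrArg Subtype.val (hc ⟨s, Subgroup.mem_zpowers s⟩)
        change ((MulAut.conjNormal s h : H) : G) = h at this
        rw [MulAut.conjNormal_apply, mul_inv_eq_iff_eq_mul] at this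
        exact this.symm
    rw [← hCc, h32] at hmod
    have hd := Subgroup.card_subgroup_dvd_card C
    rw [h32, show 32 = 2 ^ 5 by norm_num, Nat.dvd_prime_pow Nat.prime_two] at hd
    obtain ⟨j, hj, hCj⟩ := hd
    have hZC : (Z.subgroupOf H) ≤ C := fun u hu => by
      rw [Subgroup.mem_subgroupOf, Subgroup.mem_centralizer_singleton_iff]
      exact (mul_inv_eq_iff_eq_mul.1 (hZz (u : G) hu s)).symm
    have hne : C ≠ ⊤ := by
      intro htop
      refine hsH (hCH ?_)
      rw [Subgroup.mem_centralizer_iff]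
      intro x hx
      have : (⟨x, hx⟩ : H) ∈ C := htop ▸ Subgroup.mem_top _
      exact Subgroup.mem_centralizer_singleton_iff.1 (Subgroup.mem_subgroupOf.1 this)
    have hj1 : j = 1 := by
      have hj5 : j ≠ 5 := fun e =>
        hne (Subgroup.eq_top_of_card_eq C (by rw [hCj, e, h32]; norm_num))
      unfold Nat.ModEq at hmod
      rw [hCj] at hmod
      interval_cases j <;> omega
    have heq : Z.subgroupOf H = C := Subgroup.eq_of_le_of_card_ge hZC (by
      rw [hCj, hj1, Nat.card_congr (Subgroup.subgroupOfEquivOfLe hZH).toEquiv, hZc]; norm_num)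
    intro h hh hfh
    have : (⟨h, hh⟩ : H) ∈ C := by
      rw [Subgroup.mem_subgroupOf, Subgroup.mem_centralizer_singleton_iff]
      exact (mul_inv_eq_iff_eq_mul.1 hfh).symm
    rw [← heq] at this
    exact this
  -- the preimage of the fixed points of `T`
  let δ : H → G := fun h => T * h * T⁻¹ * (h : G)⁻¹
  let X : Subgroup H :=
    { carrier := {h | δ h ∈ Z}
      one_mem' := by
        show T * ((1 : H) : G) * T⁻¹ * ((1 : H) : G)⁻¹ ∈ Z
        simp
      mul_mem' := fun {a b} ha hb => by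
        show T * ((a : G) * b) * T⁻¹ * ((a : G) * b)⁻¹ ∈ Z
        rw [show T * ((a : G) * b) * T⁻¹ * ((a : G) * b)⁻¹ =
          δ a * ((a : G) * δ b * (a : G)⁻¹) by simp only [δ]; group]
        exact mul_mem ha (hZn _ _ hb)
      inv_mem' := fun {a} ha => by
        show T * (a : G)⁻¹ * T⁻¹ * (a : G)⁻¹⁻¹ ∈ Z
        rw [show T * (a : G)⁻¹ * T⁻¹ * (a : G)⁻¹⁻¹ = (a : G)⁻¹ * (δ a)⁻¹ * (a : G)⁻¹⁻¹ by
          simp only [δ]; group]
        exact hZn _ _ (inv_mem ha) }
  have hX : ∀ h : H, h ∈ X ↔ δ h ∈ Z := fun h => Iff.rfl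
  have hTconj : ∀ h : H, T * h * T⁻¹ ∈ H := fun h => hHn.conj_mem _ h.2 T
  have hTi : T⁻¹ = T := inv_eq_of_mul_eq_one_left hTT
  have hδH : ∀ h : H, δ h ∈ H := fun h => mul_mem (hTconj h) (inv_mem h.2)
  have hTδ : ∀ h : H, T * δ h * T⁻¹ = (δ h)⁻¹ := by
    intro h
    simp only [δ, hTi, mul_inv_rev, inv_inv]
    rw [show T * (T * h * T * (h : G)⁻¹) * T = (T * T) * ((h : G) * (T * ((h : G)⁻¹ * T))) by group,
      hTT, one_mul]
  have hδX : ∀ h : H, (⟨δ h, hδH h⟩ : H) ∈ X := by
    intro h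
    rw [hX]
    show T * δ h * T⁻¹ * (δ h)⁻¹ ∈ Z
    rw [hTδ, ← mul_inv_rev]
    exact inv_mem (hsqZ _ (hδH h))
  -- counting
  let Zc : Subgroup H := Subgroup.center H
  have hZmem : ∀ h : H, (h : G) ∈ Z ↔ h ∈ Zc := fun h =>
    ⟨fun ⟨w, hw, e⟩ => (Subtype.ext e : w = h) ▸ hw, fun hh => ⟨h, hh, rfl⟩⟩
  let ψ : H →* H ⧸ Zc := MonoidHom.mk' (fun h => QuotientGroup.mk ⟨δ h, hδH h⟩) fun a b => by
    rw [← QuotientGroup.mk_mul, QuotientGroup.eq, ← hZmem]
    show (δ (a * b))⁻¹ * (δ a * δ b) ∈ Z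
    have e : δ (a * b) = δ a * ((a : G) * δ b * (a : G)⁻¹) := by
      simp only [δ, Subgroup.coe_mul]; group
    rw [e, show (δ a * ((a : G) * δ b * (a : G)⁻¹))⁻¹ * (δ a * δ b) =
      (a : G) * (δ b)⁻¹ * (a : G)⁻¹ * (δ b)⁻¹⁻¹ by group]
    exact hcommZ _ a.2 _ (inv_mem (hδH b))
  have hψker : ψ.ker = X := by
    ext h
    rw [MonoidHom.mem_ker, hX, hZmem ⟨δ h, hδH h⟩]
    exact QuotientGroup.eq_one_iff _
  have hψrange : ψ.range ≤ X.map (QuotientGroup.mk' Zc) := by
    rintro _ ⟨h, rfl⟩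
    exact ⟨_, hδX h, rfl⟩
  have hZX : Zc ≤ X := fun u hu => by
    have := (hZmem u).2 hu
    rw [hX]
    show T * (u : G) * T⁻¹ * (u : G)⁻¹ ∈ Z
    rw [hZz _ this T, mul_inv_cancel]
    exact one_mem Z
  have hXmap : Nat.card (X.map (QuotientGroup.mk' Zc)) * 2 = Nat.card X := by
    rw [← hex.2]
    let f : X →* H ⧸ Zc := (QuotientGroup.mk' Zc).comp X.subtype
    have hr : f.range = X.map (QuotientGroup.mk' Zc) := by
      rw [MonoidHom.range_comp, Subgroup.range_subtype]
    have hk : f.ker = Zc.subgroupOf X := by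
      ext u
      rw [MonoidHom.mem_ker, Subgroup.mem_subgroupOf]
      exact QuotientGroup.eq_one_iff _
    have := f.ker.index_mul_card
    rw [Subgroup.index_ker, hr, hk, Nat.card_congr (Subgroup.subgroupOfEquivOfLe hZX).toEquiv] at this
    exact this
  have hXi : X.index ≤ Nat.card (X.map (QuotientGroup.mk' Zc)) := by
    rw [← hψker, Subgroup.index_ker, hψker]
    exact Subgroup.card_le_of_le hψrange
  have hXmul := X.card_mul_index
  rw [h32] at hXmul
  -- the two conjugate fixed point preimages meet in the centre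
  let cg : H ≃* H := MulAut.conjNormal g
  let X' : Subgroup H := X.map cg.toMonoidHom
  have hX'c : Nat.card X' = Nat.card X := Subgroup.card_map_of_injective cg.injective
  have hinf : X ⊓ X' ≤ Zc := by
    rintro h ⟨h1, h2⟩
    obtain ⟨k, hk, hkh⟩ := h2
    have hk' : (h : G) = g * k * g⁻¹ := by
      rw [← hkh]; exact MulAut.conjNormal_apply g k
    have e1 : T * h * T⁻¹ * (h : G)⁻¹ ∈ Z := h1
    have e2 : T' * h * T'⁻¹ * (h : G)⁻¹ ∈ Z := by
      rw [hk', hT', show g * T * g⁻¹ * (g * (k : G) * g⁻¹) * (g * T * g⁻¹)⁻¹ *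
        (g * (k : G) * g⁻¹)⁻¹ = g * δ k * g⁻¹ by simp only [δ]; group]
      exact hZn g _ hk
    set u := y * h * y⁻¹ * (h : G)⁻¹ with hu
    have hu' : u ∈ Z := by
      rw [hu, hy, show T * T' * h * (T * T')⁻¹ * (h : G)⁻¹ =
        T * (T' * h * T'⁻¹ * (h : G)⁻¹) * T⁻¹ * (T * h * T⁻¹ * (h : G)⁻¹) by group]
      exact mul_mem (hZn T _ e2) e1
    have hpow : ∀ m : ℕ, y ^ m * h * (y ^ m)⁻¹ = u ^ m * h := by
      intro m
      induction m with
      | zero => simp
      | succ m ih =>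
        rw [pow_succ', show y * y ^ m * h * (y * y ^ m)⁻¹ = y * (y ^ m * h * (y ^ m)⁻¹) * y⁻¹ by
          group, ih, show y * (u ^ m * h) * y⁻¹ = y * u ^ m * y⁻¹ * (y * h * y⁻¹) by group,
          hZz _ (pow_mem hu' m) y, show y * h * y⁻¹ = u * h by rw [hu]; group, ← mul_assoc,
          ← pow_succ]
    have hu2 : u ^ 64 = 1 := by
      rw [show (64 : ℕ) = 2 * 32 by norm_num, pow_mul]
      have h2' : (⟨u, hu'⟩ : Z) ^ 2 = 1 := hZc ▸ pow_card_eq_one'
      rw [show u ^ 2 = 1 from congrArg Subtype.val h2', one_pow]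
    have hs' := hpow 64
    rw [← hs, hu2, one_mul] at hs'
    exact (hZmem h).1 (hfix _ h.2 hs')
  have hX8 : Nat.card X = 8 := by
    have h1 := CfsgLib.PGroups.card_mul_relIndex (H := X ⊓ X') (K := X) inf_le_left
    have h3 : (X ⊓ X').relIndex X ≤ X'.index := by
      rw [Subgroup.inf_relIndex_left]
      refine (Subgroup.relIndex_le_of_le_right le_top ?_).trans (le_of_eq X'.relIndex_top_right)
      rw [Subgroup.relIndex_top_right]; exact Subgroup.index_ne_zero_of_finite
    have h4 : Nat.card ↥(X ⊓ X') ≤ 2 := (Subgroup.card_le_of_le hinf).trans hex.2.le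
    have h5 := X'.card_mul_index
    rw [h32, hX'c] at h5
    have h6 : Nat.card X ≤ 2 * X'.index := h1 ▸ Nat.mul_le_mul h4 h3
    have hd := Subgroup.card_subgroup_dvd_card X
    rw [h32, show 32 = 2 ^ 5 by norm_num, Nat.dvd_prime_pow Nat.prime_two] at hd
    obtain ⟨j, hj, hjX⟩ := hd
    rw [hjX] at h5 h6 hXmul hXmap ⊢
    interval_cases j <;> omega
  have hrange : ψ.range = X.map (QuotientGroup.mk' Zc) := by
    refine Subgroup.eq_of_le_of_card_ge hψrange ?_
    rw [← Subgroup.index_ker, hψker]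
    rw [hX8] at hXmul hXmap
    omega
  -- the centralizer of `T`
  set C : Subgroup G := H ⊓ Subgroup.centralizer ({T} : Set G) with hCdef
  have hCH' : C ≤ H := inf_le_left
  have hCX : C.subgroupOf H ≤ X := fun h hh => by
    rw [hX]
    show T * (h : G) * T⁻¹ * (h : G)⁻¹ ∈ Z
    have hc : (h : G) * T = T * h := Subgroup.mem_centralizer_singleton_iff.1 hh.2
    rw [← hc, mul_inv_cancel_right, mul_inv_cancel]
    exact one_mem Z
  have hCc : Nat.card (C.subgroupOf H) = Nat.card C :=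
    Nat.card_congr (Subgroup.subgroupOfEquivOfLe hCH').toEquiv
  have hC4 : Nat.card C = 4 := by
    have hge : 4 ≤ Nat.card C := hV4 ▸ Subgroup.card_le_of_le hV
    have hle : Nat.card C ≤ 8 := hCc ▸ hX8 ▸ Subgroup.card_le_of_le hCX
    have hd := Subgroup.card_subgroup_dvd_card (C.subgroupOf H)
    rw [h32, hCc, show 32 = 2 ^ 5 by norm_num, Nat.dvd_prime_pow Nat.prime_two] at hd
    obtain ⟨j, hj, hjC⟩ := hd
    by_contra hne
    have hC8 : Nat.card C = 8 := by
      rw [hjC] at hge hle hne ⊢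
      interval_cases j <;> omega
    have hCX' : C.subgroupOf H = X := Subgroup.eq_of_le_of_card_ge hCX (by rw [hCc, hC8, hX8])
    have hsq : ∀ x ∈ C, x * x = 1 := by
      intro x hx
      have hxX : (⟨x, hCH' hx⟩ : H) ∈ X := hCX hx
      have hm : QuotientGroup.mk' Zc (⟨x, hCH' hx⟩ : H) ∈ ψ.range := hrange ▸ ⟨_, hxX, rfl⟩
      obtain ⟨h, hh⟩ := hm
      have hh' : ((⟨δ h, hδH h⟩ : H) : H ⧸ Zc) = ((⟨x, hCH' hx⟩ : H) : H ⧸ Zc) := hh
      have hu : (δ h)⁻¹ * x ∈ Z := (hZmem (⟨δ h, hδH h⟩⁻¹ * ⟨x, hCH' hx⟩)).2 (QuotientGroup.eq.1 hh')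
      have hδC : δ h ∈ C := by
        have := hδX h
        rw [← hCX'] at this
        exact this
      have hc : δ h * T = T * δ h := Subgroup.mem_centralizer_singleton_iff.1 hδC.2
      have hd2 : δ h * δ h = 1 := by
        have := hTδ h
        rw [← hc, mul_inv_cancel_right] at this
        exact eq_inv_iff_mul_eq_one.1 this
      have hxe : x = δ h * ((δ h)⁻¹ * x) := (mul_inv_cancel_left _ _).symm
      have huu : (δ h)⁻¹ * x * ((δ h)⁻¹ * x) = 1 := by
        have h2' : (⟨_, hu⟩ : Z) ^ 2 = 1 := hZc ▸ pow_card_eq_one'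
        rw [pow_two] at h2'
        exact congrArg Subtype.val h2'
      calc x * x = δ h * (((δ h)⁻¹ * x) * δ h) * ((δ h)⁻¹ * x) := by group
        _ = δ h * (δ h * ((δ h)⁻¹ * x)) * ((δ h)⁻¹ * x) := by rw [← hZcomm _ hu _ (hδH h)]
        _ = δ h * δ h * (((δ h)⁻¹ * x) * ((δ h)⁻¹ * x)) := by group
        _ = 1 := by rw [hd2, huu, one_mul]
    have hel : Cfsg.IsElementaryAbelian 2 C := by
      refine ⟨⟨⟨fun a b => Subtype.ext ?_⟩⟩, fun a ha => by rw [pow_two]; exact hsq a ha⟩
      show (a : G) * b = b * a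
      rw [← inv_eq_of_mul_eq_one_left (hsq _ (mul_mem a.2 b.2)), mul_inv_rev,
        inv_eq_of_mul_eq_one_left (hsq _ a.2), inv_eq_of_mul_eq_one_left (hsq _ b.2)]
    have := hminus C hCH' hel
    omega
  refine ⟨hC4, ?_⟩
  rw [show C = V from
    (Subgroup.eq_of_le_of_card_ge hV (by rw [hV4]; exact hC4.le)).symm]
  exact hVe

end Cfsg.Agent.S4405
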