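import Cfsg.Statements.S4406
import Mathlib.GroupTheory.SpecificGroups.Alternating

set_option autoImplicit false
set_option maxHeartbeats 400000
set_option synthInstance.maxSize 2000
open Cfsg

namespace Cfsg.Agent.S4406

open Subgroup

abbrev A4 : Type := ↥(alternatingGroup (Fin 4))

set_option maxRecDepth 100000 in
theorem facts : ∀ v s : A4, v * v = 1 → v ≠ 1 → s ^ 3 = 1 → s ≠ 1 →
    s * v * s⁻¹ ≠ v ∧ s * (s * v * s⁻¹) * s⁻¹ = v * (s * v * s⁻¹) ∧
      ∀ w : A4, w * w = 1 → w ≠ 1 → w = v ∨ w = s * v * s⁻¹ ∨ w = s⁻¹ * v * s := by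
  decide +kernel

set_option maxRecDepth 100000 in
theorem shift : ∀ v s : A4, s ^ 3 = 1 → s⁻¹ * v * s = s * (s * v * s⁻¹) * s⁻¹ := by decide +kernel

theorem sylow_elem : ∀ x : A4, x ^ 4 = 1 → x * x = 1 := by decide +kernel

theorem exists_factor_elem (φ : A4 × A4 →* A4) (Q : Sylow 3 (A4 × A4)) :
    ∃ q ∈ (Q : Subgroup (A4 × A4)), q ≠ 1 ∧ q ^ 3 = 1 ∧ φ q = 1 := by
  have : Fact (Nat.Prime 3) := ⟨Nat.prime_three⟩
  have h12 : Nat.card A4 = 12 := by
    rw [Nat.card_eq_fintype_card]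
    decide +kernel
  have hQ : Nat.card (Q : Subgroup (A4 × A4)) = 9 := by
    rw [Q.card_eq_multiplicity, Nat.card_prod, h12,
      
      show (12 * 12 : ℕ) = 3 ^ 2 * 16 by norm_num,
      Nat.factorization_mul (by norm_num) (by norm_num), Finsupp.add_apply,
      Nat.Prime.factorization_pow Nat.prime_three, Finsupp.single_eq_same,
      Nat.factorization_eq_zero_of_not_dvd (by norm_num : ¬ 3 ∣ 16)]
    norm_num
  set ψ := φ.comp (Q : Subgroup (A4 × A4)).subtype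
  have hk : ψ.ker ≠ ⊥ := by
    intro hb
    have hinj : Function.Injective ψ := (MonoidHom.ker_eq_bot_iff ψ).mp hb
    have hd := Subgroup.card_dvd_of_injective ψ hinj
    rw [hQ, h12] at hd
    norm_num at hd
  have h3 : 3 ∣ Nat.card ψ.ker := by
    obtain ⟨k, hk'⟩ := ((IsPGroup.iff_card.mpr ⟨2, hQ⟩ : IsPGroup 3 (Q : Subgroup (A4 × A4))).to_subgroup
      ψ.ker).exists_card_eq
    rw [hk']
    refine dvd_pow_self 3 fun hk0 => hk ?_
    rw [hk0, pow_zero, card_eq_one] at hk'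
    exact hk'
  obtain ⟨z, hz⟩ := exists_prime_orderOf_dvd_card' 3 h3
  have hzo : orderOf ((z : Q) : A4 × A4) = 3 := by rw [orderOf_coe, orderOf_coe, hz]
  refine ⟨((z : Q) : A4 × A4), (z : Q).2, ?_, (by have h := pow_orderOf_eq_one ((z : Q) : A4 × A4); rwa [hzo] at h), z.2⟩
  intro h1
  rw [h1, orderOf_one] at hzo
  norm_num at hzo

/-- A four-subgroup meeting both factors trivially is the diagonal of a compatible pair. -/
theorem normalized (B : Subgroup (A4 × A4)) (hB4 : Nat.card ↥B = 4)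
    (hinv : ∀ b ∈ B, b.1 * b.1 = 1 ∧ b.2 * b.2 = 1) (h1 : ∀ b ∈ B, b.2 = 1 → b = 1)
    (h2 : ∀ b ∈ B, b.1 = 1 → b = 1) {s t : A4} (hs : s ^ 3 = 1) (hs1 : s ≠ 1) (ht : t ^ 3 = 1)
    (ht1 : t ≠ 1) :
    zpowers (s, t) ≤ normalizer (B : Set (A4 × A4)) ∨
      zpowers (s, t⁻¹) ≤ normalizer (B : Set (A4 × A4)) := by
  obtain ⟨⟨b, hb⟩, hb0⟩ := (B.ne_bot_iff_exists_ne_one).mp (fun e => by
    rw [e, card_bot] at hB4; norm_num at hB4)
  have hb1 : b ≠ 1 := fun e => hb0 (Subtype.ext e)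
  -- the first projection is a bijection onto the involutions
  have hfst : ∀ w : A4, w * w = 1 → ∃ c ∈ B, c.1 = w := by
    intro w hw
    by_contra hcon
    push Not at hcon
    let g : B → {x : A4 // x * x = 1 ∧ x ≠ w} := fun c => ⟨(c : A4 × A4).1, (hinv c c.2).1, hcon c c.2⟩
    have hg : Function.Injective g := fun c d hcd => by
      have he : (c : A4 × A4).1 = (d : A4 × A4).1 := congrArg Subtype.val hcd
      have := h2 _ (B.mul_mem (B.inv_mem c.2) d.2) (by simp [he])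
      exact Subtype.ext (inv_mul_eq_one.mp this)
    have hc := Nat.card_le_card_of_injective g hg
    rw [hB4, Nat.card_eq_fintype_card] at hc
    have h3 : ∀ w : A4, w * w = 1 → Fintype.card {x : A4 // x * x = 1 ∧ x ≠ w} = 3 := by decide +kernel
    rw [h3 w hw] at hc
    omega
  have hv : b.1 ≠ 1 := fun e => hb1 (h2 b hb e)
  have hw : b.2 ≠ 1 := fun e => hb1 (h1 b hb e)
  obtain ⟨hv1, hv2, -⟩ := facts b.1 s (hinv b hb).1 hv hs hs1
  obtain ⟨c, hc, hcs⟩ := hfst (s * b.1 * s⁻¹) (by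
    have := (hinv b hb).1
    calc s * b.1 * s⁻¹ * (s * b.1 * s⁻¹) = s * (b.1 * b.1) * s⁻¹ := by group
      _ = 1 := by rw [this]; group)
  have hc1 : c.2 ≠ 1 := fun e => by
    have := h1 c hc e
    rw [this] at hcs
    exact hv (conj_eq_one_iff.mp hcs.symm)
  have hcb : c.2 ≠ b.2 := fun e => by
    have := h1 _ (B.mul_mem (B.inv_mem hc) hb) (by simp [e])
    rw [inv_mul_eq_one] at this
    exact hv1 (this ▸ hcs).symm
  have key : ∀ u : A4, u ^ 3 = 1 → u ≠ 1 → c.2 = u * b.2 * u⁻¹ →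
      zpowers (s, u) ≤ normalizer (B : Set (A4 × A4)) := by
    intro u hu hu1 huc
    obtain ⟨-, hw2, -⟩ := facts b.2 u (hinv b hb).2 hw hu hu1
    set r : A4 × A4 := (s, u)
    have hrb : r * b * r⁻¹ = c := Prod.ext hcs.symm huc.symm
    have hrc : r * c * r⁻¹ = b * c := by
      refine Prod.ext ?_ ?_
      · show s * c.1 * s⁻¹ = b.1 * c.1
        rw [hcs]; exact hv2
      · show u * c.2 * u⁻¹ = b.2 * c.2
        rw [huc]; exact hw2
    obtain ⟨-, -, hv3⟩ := facts b.1 s (hinv b hb).1 hv hs hs1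
    have huniq : ∀ d e : A4 × A4, d ∈ B → e ∈ B → d.1 = e.1 → d = e := fun d e hd he hde => by
      have hq : (d⁻¹ * e).1 = 1 := by
        show d.1⁻¹ * e.1 = 1
        rw [hde, inv_mul_cancel]
      exact inv_mul_eq_one.mp (h2 _ (B.mul_mem (B.inv_mem hd) he) hq)
    have hconj : ∀ d ∈ B, r * d * r⁻¹ ∈ B := by
      intro d hd
      by_cases hd1 : d = 1
      · rw [hd1, mul_one, mul_inv_cancel]; exact one_mem _
      rcases hv3 d.1 (hinv d hd).1 (fun e => hd1 (h2 d hd e)) with h | h | h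
      · rw [huniq d b hd hb h, hrb]; exact hc
      · rw [huniq d c hd hc (h.trans hcs.symm), hrc]; exact B.mul_mem hb hc
      · have hd' : d = b * c := huniq d _ hd (B.mul_mem hb hc) (by
          show d.1 = b.1 * c.1
          rw [h, hcs, ← hv2]
          exact shift b.1 s hs)
        rw [hd', show r * (b * c) * r⁻¹ = (r * b * r⁻¹) * (r * c * r⁻¹) by group, hrb, hrc]
        exact B.mul_mem hc (B.mul_mem hb hc)
    rw [zpowers_le, mem_normalizer_iff_map_conj_eq]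
    refine eq_of_le_of_card_ge ?_ (card_map_of_injective (MulAut.conj r).injective).ge
    rintro _ ⟨x, hx, rfl⟩
    exact hconj x hx
  obtain ⟨-, -, h3⟩ := facts b.2 t (hinv b hb).2 hw ht ht1
  rcases h3 c.2 (hinv c hc).2 hc1 with h | h | h
  · exact absurd h hcb
  · exact Or.inl (key t ht ht1 h)
  · exact Or.inr (key t⁻¹ (by rw [inv_pow, ht, inv_one]) (inv_ne_one.mpr ht1) (by rw [inv_inv]; exact h))

/-- In the direct product P = A₄ × A₄, let X be the Sylow 2-subgroup, X₁ and X₂ its intersections with the two direct factors, Q a Sylow 3-subgroup and Q₁, Q₂ its intersections with the two factors. Then every subgroup B of X of order 4 either meets X₁ or X₂ nontrivially, or is normalized by one of the two subgroups of Q of order 3 other than Q₁ and Q₂. -/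
theorem result
    (X : Sylow 2 (↥(alternatingGroup (Fin 4)) × ↥(alternatingGroup (Fin 4))))
    (Q : Sylow 3 (↥(alternatingGroup (Fin 4)) × ↥(alternatingGroup (Fin 4))))
    (B : Subgroup (↥(alternatingGroup (Fin 4)) × ↥(alternatingGroup (Fin 4)))) (hBX : B ≤ (X : Subgroup _)) (hB4 : Nat.card ↥B = 4) :
    B ⊓ ((X : Subgroup _) ⊓ Subgroup.prod ⊤ ⊥) ≠ ⊥ ∨ B ⊓ ((X : Subgroup _) ⊓ Subgroup.prod ⊥ ⊤) ≠ ⊥ ∨
      ∃ R : Subgroup (↥(alternatingGroup (Fin 4)) × ↥(alternatingGroup (Fin 4))), R ≤ (Q : Subgroup _) ∧ Nat.card ↥R = 3 ∧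
        R ≠ (Q : Subgroup _) ⊓ Subgroup.prod ⊤ ⊥ ∧ R ≠ (Q : Subgroup _) ⊓ Subgroup.prod ⊥ ⊤ ∧ R ≤ Subgroup.normalizer (B : Set _) := by
  by_contra hcon
  push Not at hcon
  obtain ⟨hA, hC, hR⟩ := hcon
  have hinv : ∀ b ∈ B, b.1 * b.1 = 1 ∧ b.2 * b.2 = 1 := fun b hb => by
    have h4 : b ^ 4 = 1 := by
      have := congrArg Subtype.val (pow_card_eq_one' (G := B) (x := ⟨b, hb⟩))
      rwa [hB4] at this
    exact ⟨sylow_elem _ (congrArg Prod.fst h4), sylow_elem _ (congrArg Prod.snd h4)⟩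
  have h1 : ∀ b ∈ B, b.2 = 1 → b = 1 := fun b hb e =>
    mem_bot.mp (hA ▸ ⟨hb, hBX hb, mem_top _, mem_bot.mpr e⟩)
  have h2 : ∀ b ∈ B, b.1 = 1 → b = 1 := fun b hb e =>
    mem_bot.mp (hC ▸ ⟨hb, hBX hb, mem_bot.mpr e, mem_top _⟩)
  obtain ⟨x, hx, hx1, hx3, hx0⟩ := exists_factor_elem (MonoidHom.snd A4 A4) Q
  obtain ⟨y, hy, hy1, hy3, hy0⟩ := exists_factor_elem (MonoidHom.fst A4 A4) Q
  have hs1 : x.1 ≠ 1 := fun e => hx1 (Prod.ext e hx0)
  have ht1 : y.2 ≠ 1 := fun e => hy1 (Prod.ext hy0 e)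
  have hs : x.1 ^ 3 = 1 := congrArg Prod.fst hx3
  have ht : y.2 ^ 3 = 1 := congrArg Prod.snd hy3
  have fin : ∀ r : A4 × A4, r ∈ (Q : Subgroup _) → r ^ 3 = 1 → r.1 ≠ 1 → r.2 ≠ 1 →
      zpowers r ≤ normalizer (B : Set (A4 × A4)) → False := by
    intro r hrQ hr3 hr1 hr2 hle
    have : Fact (Nat.Prime 3) := ⟨Nat.prime_three⟩
    refine hR (zpowers r) (zpowers_le.mpr hrQ) ?_ ?_ ?_ hle
    · rw [Nat.card_zpowers]
      exact orderOf_eq_prime hr3 fun e => hr1 (by rw [e]; rfl)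
    · intro e
      exact hr2 (mem_bot.mp (e.le (mem_zpowers r)).2.2)
    · intro e
      exact hr1 (mem_bot.mp (e.le (mem_zpowers r)).2.1)
  have hxy : x * y = (x.1, y.2) := by
    refine Prod.ext ?_ ?_
    · show x.1 * y.1 = x.1
      rw [show y.1 = 1 from hy0, mul_one]
    · show x.2 * y.2 = y.2
      rw [show x.2 = 1 from hx0, one_mul]
  have hxy' : x * y⁻¹ = (x.1, y.2⁻¹) := by
    refine Prod.ext ?_ ?_
    · show x.1 * y.1⁻¹ = x.1
      rw [show y.1 = 1 from hy0, inv_one, mul_one]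
    · show x.2 * y.2⁻¹ = y.2⁻¹
      rw [show x.2 = 1 from hx0, one_mul]
  rcases normalized B hB4 hinv h1 h2 hs hs1 ht ht1 with h | h
  · have hm : (x.1, y.2) ∈ (Q : Subgroup _) := hxy ▸ mul_mem hx hy
    exact fin (x.1, y.2) hm (Prod.ext hs ht) hs1 ht1 h
  · have hm : (x.1, y.2⁻¹) ∈ (Q : Subgroup _) := hxy' ▸ mul_mem hx (inv_mem hy)
    exact fin (x.1, y.2⁻¹) hm (Prod.ext hs (by show y.2⁻¹ ^ 3 = 1; rw [inv_pow, ht, inv_one]))
      hs1 (inv_ne_one.mpr ht1) h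

end Cfsg.Agent.S4406
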