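import Cfsg.Statements.S4408
import Cfsg.Agent.Lib.Components.FStar
import Cfsg.Agent.Lib.Core.Cores

set_option autoImplicit false
open Cfsg

namespace Cfsg.Agent.S4408

open Subgroup

set_option maxHeartbeats 400000

variable {S : Type*} [Group S] [Finite S]

private theorem eq_one_of_inv_eq {C : Subgroup S} (hodd : Odd (Nat.card C)) {u : S} (hu : u ∈ C)
    (h : u⁻¹ = u) : u = 1 := by
  have h2 : u ^ 2 = 1 := by rw [pow_two]; nth_rewrite 1 [← h]; exact inv_mul_cancel u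
  rw [← orderOf_eq_one_iff]
  exact Nat.eq_one_of_dvd_coprimes hodd.coprime_two_right (orderOf_dvd_natCard C hu)
    (orderOf_dvd_of_pow_eq_one h2)

/-- Splitting along a square root, for an involutory map. -/
private theorem exists_fix_mul_inverted {C : Subgroup S} (hodd : Odd (Nat.card C)) {t : S}
    (ht : t * t = 1) (htC : ∀ c ∈ C, t * c * t⁻¹ ∈ C) {c : S} (hc : c ∈ C) :
    ∃ a ∈ C, ∃ b ∈ C, t * a * t⁻¹ = a ∧ t * b * t⁻¹ = b⁻¹ ∧ c = a * b := by
  set u := c⁻¹ * (t * c * t⁻¹) with hu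
  have huC : u ∈ C := mul_mem (inv_mem hc) (htC c hc)
  obtain ⟨k, hk⟩ := hodd
  set v := u ^ (k + 1) with hv
  have hv2 : v * v = u := by
    rw [hv, ← pow_add, show k + 1 + (k + 1) = 2 * k + 1 + 1 by ring, ← hk, pow_succ]
    have h1 : u ^ Nat.card C = 1 := congrArg Subtype.val (pow_card_eq_one' (x := (⟨u, huC⟩ : C)))
    rw [h1, one_mul]
  have htu : t * u * t⁻¹ = u⁻¹ := by
    have htt : t⁻¹ = t := inv_eq_of_mul_eq_one_left ht
    rw [hu, htt, mul_inv_rev, inv_inv, mul_inv_rev, mul_inv_rev, htt]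
    calc t * (c⁻¹ * (t * c * t)) * t = t * c⁻¹ * t * c * (t * t) := by group
      _ = t * c⁻¹ * t * c := by rw [ht, mul_one]
      _ = t * (c⁻¹ * t) * c := by group
  have htv : t * v * t⁻¹ = v⁻¹ := by rw [hv, ← conj_pow, htu, inv_pow]
  refine ⟨c * v, mul_mem hc (pow_mem huC _), v⁻¹, inv_mem (pow_mem huC _), ?_, ?_, by group⟩
  · calc t * (c * v) * t⁻¹ = (t * c * t⁻¹) * (t * v * t⁻¹) := by group
      _ = c * u * v⁻¹ := by rw [htv, hu]; group
      _ = c * v := by rw [← hv2]; group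
  · calc t * v⁻¹ * t⁻¹ = (t * v * t⁻¹)⁻¹ := by group
      _ = v⁻¹⁻¹ := by rw [htv]

/-- Uniqueness of the fixed/inverted splitting. -/
private theorem split_unique {C : Subgroup S} (hodd : Odd (Nat.card C)) {t a b a' b' : S}
    (ha : t * a * t⁻¹ = a) (hb : t * b * t⁻¹ = b⁻¹) (ha' : t * a' * t⁻¹ = a')
    (hb' : t * b' * t⁻¹ = b'⁻¹) (hbC : b ∈ C) (hbC' : b' ∈ C) (h : a * b = a' * b') :
    a = a' ∧ b = b' := by
  have e : a⁻¹ * a' = b * b'⁻¹ := by rw [eq_mul_inv_iff_mul_eq, mul_assoc, ← h, inv_mul_cancel_left]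
  have e1 : t * (a⁻¹ * a') * t⁻¹ = a⁻¹ * a' := by
    calc t * (a⁻¹ * a') * t⁻¹ = (t * a * t⁻¹)⁻¹ * (t * a' * t⁻¹) := by group
      _ = _ := by rw [ha, ha']
  have e2 : t * (b * b'⁻¹) * t⁻¹ = b⁻¹ * b' := by
    calc t * (b * b'⁻¹) * t⁻¹ = (t * b * t⁻¹) * (t * b' * t⁻¹)⁻¹ := by group
      _ = _ := by rw [hb, hb', inv_inv]
  have e3 : b * b'⁻¹ = b⁻¹ * b' := by rw [← e2, ← e, e1]
  have e4 : b ^ 2 = b' ^ 2 := by
    have h' := congrArg (fun z => b * z * b') e3
    simp only [mul_assoc, inv_mul_cancel, mul_one, mul_inv_cancel_left] at h'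
    rw [pow_two, pow_two]; exact h'
  have e5 : b = b' := by
    have hinj := (powCoprime (G := C) (n := 2) hodd.coprime_two_right).injective
    exact congrArg Subtype.val (hinj (a₁ := ⟨b, hbC⟩) (a₂ := ⟨b', hbC'⟩) (Subtype.ext e4))
  refine ⟨?_, e5⟩
  rw [e5] at h; exact mul_right_cancel h

private theorem exists_signed (I : Subgroup S) (hI2 : ∀ t ∈ I, t * t = 1)
    (hIc : ∀ s ∈ I, ∀ t ∈ I, s * t = t * s) {j : S} (hj : j ∈ I) :
    ∀ m, ∀ C : Subgroup S, Nat.card C ≤ m → Odd (Nat.card C) →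
      (∀ t ∈ I, ∀ c ∈ C, t * c * t⁻¹ ∈ C) → (∃ c ∈ C, j * c * j⁻¹ ≠ c) →
      ∃ x ∈ C, (orderOf x).Prime ∧ (∀ t ∈ I, t * x * t⁻¹ = x ∨ t * x * t⁻¹ = x⁻¹) ∧
        j * x * j⁻¹ ≠ x := by
  intro m
  induction m with
  | zero => intro C hC; exact absurd hC (by have := Nat.card_pos (α := C); omega)
  | succ m ih =>
    intro C hcard hodd hinv ⟨c, hc, hcj⟩
    by_cases hrec : ∃ t ∈ I, (∃ y ∈ C, t * y * t⁻¹ ≠ y) ∧
        ∃ y ∈ C, t * y * t⁻¹ = y ∧ j * y * j⁻¹ ≠ y
    · obtain ⟨t, ht, ⟨y, hy, hyt⟩, z, hz, hzt, hzj⟩ := hrec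
      set D := C ⊓ centralizer ({t} : Set S) with hD
      have hmem : ∀ w, w ∈ centralizer ({t} : Set S) ↔ t * w * t⁻¹ = w := fun w => by
        rw [mem_centralizer_singleton_iff, mul_inv_eq_iff_eq_mul]; exact eq_comm
      have hlt : D < C := lt_of_le_of_ne inf_le_left fun h => hyt ((hmem y).mp (h ▸ hy : y ∈ D).2)
      have hlt' : Nat.card D < Nat.card C := by
        by_contra hge
        exact hlt.ne (Subgroup.eq_of_le_of_card_ge hlt.le (le_of_not_gt hge))
      obtain ⟨x, hx, hx'⟩ := ih D (by omega)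
        (hodd.of_dvd_nat (Subgroup.card_dvd_of_le hlt.le))
        (fun s hs w hw => ⟨hinv s hs w hw.1, (hmem _).mpr (by
          calc t * (s * w * s⁻¹) * t⁻¹ = (t * s) * w * (t * s)⁻¹ := by group
            _ = (s * t) * w * (s * t)⁻¹ := by rw [hIc t ht s hs]
            _ = s * (t * w * t⁻¹) * s⁻¹ := by group
            _ = _ := by rw [(hmem w).mp hw.2])⟩)
        ⟨z, ⟨hz, (hmem z).mpr hzt⟩, hzj⟩
      exact ⟨x, hx.1, hx'⟩
    · push Not at hrec
      obtain ⟨a, ha, b, hb, hja, hjb, hcab⟩ :=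
        exists_fix_mul_inverted hodd (hI2 j hj) (hinv j hj) hc
      have hb1 : b ≠ 1 := by
        intro h
        rw [h, mul_one] at hcab
        exact hcj (by rw [hcab]; exact hja)
      have hsign : ∀ t ∈ I, t * b * t⁻¹ = b ∨ t * b * t⁻¹ = b⁻¹ := by
        intro t ht
        by_cases hc1 : ∀ y ∈ C, t * y * t⁻¹ = y
        · exact Or.inl (hc1 b hb)
        push Not at hc1
        have hfix : ∀ y ∈ C, t * y * t⁻¹ = y → j * y * j⁻¹ = y := hrec t ht hc1
        obtain ⟨p, hp, q, hq, htp, htq, hpq⟩ :=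
          exists_fix_mul_inverted hodd (hI2 t ht) (hinv t ht) hb
        have hjp := hfix p hp htp
        have htjq : t * (j * q * j⁻¹) * t⁻¹ = (j * q * j⁻¹)⁻¹ := by
          calc t * (j * q * j⁻¹) * t⁻¹ = (t * j) * q * (t * j)⁻¹ := by group
            _ = (j * t) * q * (j * t)⁻¹ := by rw [hIc t ht j hj]
            _ = j * (t * q * t⁻¹) * j⁻¹ := by group
            _ = _ := by rw [htq]; group
        have hbi : p⁻¹ * (p * q⁻¹ * p⁻¹) = p * (j * q * j⁻¹) := by
          calc p⁻¹ * (p * q⁻¹ * p⁻¹) = (p * q)⁻¹ := by group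
            _ = j * (p * q) * j⁻¹ := by rw [← hpq, hjb]
            _ = (j * p * j⁻¹) * (j * q * j⁻¹) := by group
            _ = _ := by rw [hjp]
        have htp' : t * p⁻¹ * t⁻¹ = p⁻¹ := by
          calc t * p⁻¹ * t⁻¹ = (t * p * t⁻¹)⁻¹ := by group
            _ = _ := by rw [htp]
        have htpq : t * (p * q⁻¹ * p⁻¹) * t⁻¹ = (p * q⁻¹ * p⁻¹)⁻¹ := by
          calc t * (p * q⁻¹ * p⁻¹) * t⁻¹ = (t * p * t⁻¹) * (t * q * t⁻¹)⁻¹ * (t * p * t⁻¹)⁻¹ := by
                group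
            _ = _ := by rw [htp, htq]; group
        have hp1 := (split_unique hodd htp' htpq htp htjq
          (mul_mem (mul_mem hp (inv_mem hq)) (inv_mem hp)) (hinv j hj q hq) hbi).1
        have hp1' : p = 1 := eq_one_of_inv_eq hodd hp hp1
        rw [hp1', one_mul] at hpq
        exact Or.inr (hpq ▸ htq)
      obtain ⟨r, hr, hrdvd⟩ := Nat.exists_prime_and_dvd (mt orderOf_eq_one_iff.mp hb1)
      obtain ⟨e, he⟩ := hrdvd
      have hord : orderOf (b ^ e) = r := by
        rw [orderOf_pow' b (by intro h; rw [h, mul_zero] at he; exact (orderOf_pos b).ne' he),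
          he, Nat.gcd_mul_left_left, Nat.mul_div_cancel _ (Nat.pos_of_ne_zero
            (by intro h; rw [h, mul_zero] at he; exact (orderOf_pos b).ne' he))]
      have hxC : b ^ e ∈ C := pow_mem hb e
      refine ⟨b ^ e, hxC, hord ▸ hr, fun t ht => ?_, fun h => ?_⟩
      · rcases hsign t ht with h | h
        · exact Or.inl (by rw [← conj_pow, h])
        · exact Or.inr (by rw [← conj_pow, h, inv_pow])
      · rw [← conj_pow, hjb, inv_pow] at h
        have := eq_one_of_inv_eq hodd hxC h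
        rw [this, orderOf_one] at hord
        exact hr.ne_one hord.symm

/-- Thompson's `A × B` step for an involutory `t`. -/
private theorem centralizes_of_centralizes_centralizer {C : Subgroup S}
    (hodd : Odd (Nat.card C)) (hnil : Group.IsNilpotent C) {t x : S}
    (htC : ∀ c ∈ C, t * c * t⁻¹ ∈ C) (ht : t * t = 1) (hx : x ∈ C)
    (htx : ∀ c ∈ C, c * x = x * c → t * c * t⁻¹ = c) : ∀ c ∈ C, t * c * t⁻¹ = c := by
  have hmem : ∀ w : C, w ∈ (centralizer ({t} : Set S)).subgroupOf C ↔ t * (w : S) * t⁻¹ = w :=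
    fun w => by rw [mem_subgroupOf, mem_centralizer_singleton_iff, mul_inv_eq_iff_eq_mul]; exact eq_comm
  set D := (centralizer ({t} : Set S)).subgroupOf C with hD
  suffices h : D = ⊤ by
    exact fun c hc => (hmem ⟨c, hc⟩).mp (h ▸ mem_top (⟨c, hc⟩ : C) : (⟨c, hc⟩ : C) ∈ D)
  by_contra hne
  obtain ⟨c, hcn, hcD⟩ := SetLike.exists_of_lt
    (Group.normalizerCondition_of_isNilpotent (G := C) D (lt_top_iff_ne_top.mpr hne))
  obtain ⟨a, ha, b, hb, hta, htb, hcab⟩ := exists_fix_mul_inverted hodd ht htC c.2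
  have hxD : (⟨x, hx⟩ : C) ∈ D := (hmem _).mpr (htx x hx rfl)
  have haD : (⟨a, ha⟩ : C) ∈ D := (hmem _).mpr hta
  have hbN : (⟨b, hb⟩ : C) ∈ Subgroup.normalizer (D : Set C) := by
    have : (⟨b, hb⟩ : C) = (⟨a, ha⟩ : C)⁻¹ * c :=
      Subtype.ext (by push_cast; rw [hcab, inv_mul_cancel_left])
    rw [this]
    exact mul_mem (inv_mem (le_normalizer haD)) hcn
  have hbx : t * (b * x * b⁻¹) * t⁻¹ = b * x * b⁻¹ :=
    (hmem _).mp ((mem_normalizer_iff.mp hbN ⟨x, hx⟩).mp hxD)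
  have hbx2 : b⁻¹ * x * b = b * x * b⁻¹ := by
    calc b⁻¹ * x * b = (t * b * t⁻¹) * (t * x * t⁻¹) * (t * b * t⁻¹)⁻¹ := by
          rw [htb, htx x hx rfl, inv_inv]
      _ = t * (b * x * b⁻¹) * t⁻¹ := by group
      _ = _ := hbx
  have hcomm : b ^ 2 * x = x * b ^ 2 := by
    have := congrArg (fun z => b * z * b) hbx2
    simp only [mul_assoc, inv_mul_cancel, mul_one, mul_inv_cancel_left] at this
    rw [pow_two, mul_assoc, ← this]
  have hfix := htx (b ^ 2) (pow_mem hb 2) hcomm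
  rw [← conj_pow, htb, inv_pow] at hfix
  have hb2 := eq_one_of_inv_eq hodd (pow_mem hb 2) hfix
  have hb1 : b = 1 := by
    rw [← orderOf_eq_one_iff]
    exact Nat.eq_one_of_dvd_coprimes hodd.coprime_two_right (orderOf_dvd_natCard C hb)
      (orderOf_dvd_of_pow_eq_one hb2)
  rw [hb1, mul_one] at hcab
  exact hcD ((hmem c).mpr (by rw [hcab]; exact hta))

private theorem family (I : Subgroup S) (hI2 : ∀ t ∈ I, t * t = 1)
    (hIc : ∀ s ∈ I, ∀ t ∈ I, s * t = t * s) :
    ∀ k, ∀ J : Subgroup S, J ≤ I → Nat.card J = 2 ^ k → ∀ C : Subgroup S,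
      Odd (Nat.card C) → Group.IsNilpotent C → (∀ t ∈ I, ∀ c ∈ C, t * c * t⁻¹ ∈ C) →
      (∀ t ∈ J, (∀ c ∈ C, t * c * t⁻¹ = c) → t = 1) →
      ∃ f : Fin k → Subgroup S, (∀ i, (Nat.card (f i)).Prime) ∧ (∀ i, f i ≤ C) ∧
        (∀ i, ∀ t ∈ I, ∀ a ∈ f i, t * a * t⁻¹ ∈ f i) ∧
        (∀ i l, ∀ a ∈ f i, ∀ b ∈ f l, a * b = b * a) ∧
        Nat.card (⨆ i, f i : Subgroup S) = ∏ i, Nat.card (f i) ∧
        (∀ t ∈ J, (∀ i, ∀ a ∈ f i, t * a * t⁻¹ = a) → t = 1) ∧
        (∀ b ∈ (⨆ i, f i : Subgroup S), (∀ t ∈ J, t * b * t⁻¹ = b) → b = 1) := by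
  intro k
  induction k with
  | zero =>
    intro J hJI hJ C _ _ _ _
    have hJ1 : J = ⊥ := Subgroup.card_eq_one.mp (by simpa using hJ)
    refine ⟨fun i => i.elim0, fun i => i.elim0, fun i => i.elim0, fun i => i.elim0,
      fun i => i.elim0, by simp, fun t ht _ => by rw [hJ1] at ht; exact ht, fun b hb _ => ?_⟩
    exact Subgroup.mem_bot.mp ((iSup_le (fun i => i.elim0) : _ ≤ (⊥ : Subgroup S)) hb)
  | succ k ih =>
    intro J hJI hJ C hodd hnil hinv hfaith
    obtain ⟨⟨j, hjJ⟩, hj1⟩ : ∃ j : J, j ≠ 1 := by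
      haveI : Nontrivial J := Finite.one_lt_card_iff_nontrivial.mp
        (by rw [hJ]; exact Nat.one_lt_two_pow (by omega))
      exact exists_ne 1
    obtain ⟨x, hxC, hxp, hxs, hxj⟩ := exists_signed I hI2 hIc (hJI hjJ) _ C le_rfl hodd hinv (by
      by_contra h; push Not at h
      exact hj1 (Subtype.ext (hfaith j hjJ h)))
    set J1 := J ⊓ centralizer ({x} : Set S) with hJ1
    have hmem : ∀ (y t : S), t ∈ centralizer ({y} : Set S) ↔ t * y * t⁻¹ = y := fun y t => by
      rw [mem_centralizer_singleton_iff, mul_inv_eq_iff_eq_mul]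
    have hJ1card : Nat.card J1 = 2 ^ k := by
      have hidx : (J1.subgroupOf J).index = 2 := by
        refine Subgroup.index_eq_two_iff.mpr ⟨⟨j, hjJ⟩, fun t => ?_⟩
        have e : ∀ s : J, s ∈ J1.subgroupOf J ↔ (s : S) * x * (s : S)⁻¹ = x := fun s => by
          rw [mem_subgroupOf, hJ1, Subgroup.mem_inf, hmem]; exact and_iff_right s.2
        simp only [e, Subgroup.coe_mul]
        have hjx : j * x * j⁻¹ = x⁻¹ := (hxs j (hJI hjJ)).resolve_left hxj
        have hx' : x⁻¹ ≠ x := fun h => hxj (by rw [hjx, h])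
        have h2 : (t : S) * j * x * ((t : S) * j)⁻¹ = ((t : S) * x * (t : S)⁻¹)⁻¹ := by
          calc (t : S) * j * x * ((t : S) * j)⁻¹ = (t : S) * (j * x * j⁻¹) * (t : S)⁻¹ := by group
            _ = _ := by rw [hjx]; group
        rw [h2]
        rcases hxs t (hJI t.2) with h | h <;> rw [h]
        · exact Or.inr ⟨rfl, hx'⟩
        · exact Or.inl ⟨inv_inv x, hx'⟩
      have h := (J1.subgroupOf J).card_mul_index
      rw [hidx, hJ, Nat.card_congr (subgroupOfEquivOfLe (inf_le_left : J1 ≤ J)).toEquiv,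
        pow_succ] at h
      exact mul_right_cancel₀ (by norm_num) h
    set C1 := C ⊓ centralizer ({x} : Set S) with hC1
    have hinv1 : ∀ t ∈ I, ∀ c ∈ C1, t * c * t⁻¹ ∈ C1 := fun t ht c hc =>
      ⟨hinv t ht c hc.1, mem_centralizer_singleton_iff.mpr (by
        have hcx : Commute c x := mem_centralizer_singleton_iff.mp hc.2
        have h : Commute (t * c * t⁻¹) (t * x * t⁻¹) := (Commute.map hcx (MulAut.conj t))
        rcases hxs t ht with e | e <;> rw [e] at h
        · exact h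
        · have h' := h.inv_right
          rw [inv_inv] at h'
          exact h')⟩
    have hnil1 : Group.IsNilpotent C1 := by
      haveI := hnil
      exact Group.nilpotent_of_mulEquiv (subgroupOfEquivOfLe (inf_le_left : C1 ≤ C))
    obtain ⟨g, hgp, hgC, hgI, hgc, hgcard, hgf, hgfix⟩ := ih J1 (inf_le_left.trans hJI) hJ1card C1
      (hodd.of_dvd_nat (Subgroup.card_dvd_of_le inf_le_left)) hnil1 hinv1 (fun t ht h =>
        hfaith t ht.1 (centralizes_of_centralizes_centralizer hodd hnil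
          (hinv t (hJI ht.1)) (hI2 t (hJI ht.1)) hxC
          (fun c hc hcx => h c ⟨hc, mem_centralizer_singleton_iff.mpr hcx⟩)))
    set B : Subgroup S := ⨆ i, g i with hB
    obtain ⟨f, hf0, hfs⟩ : ∃ f : Fin (k + 1) → Subgroup S, f 0 = zpowers x ∧ ∀ i, f (Fin.succ i) = g i :=
      ⟨Fin.cons (zpowers x) g, rfl, fun _ => rfl⟩
    have hBC1 : B ≤ C1 := iSup_le hgC
    have hsup : (⨆ i, f i) = zpowers x ⊔ B := by
      apply le_antisymm
      · refine iSup_le (Fin.cases ?_ fun i => ?_)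
        · rw [hf0]; exact le_sup_left
        · rw [hfs]; exact (le_iSup g i).trans le_sup_right
      · refine sup_le ?_ (iSup_le fun i => ?_)
        · exact hf0 ▸ le_iSup f 0
        · exact hfs i ▸ le_iSup f i.succ
    have hAB : ∀ a ∈ zpowers x, ∀ b ∈ B, Commute a b := by
      intro a ha b hb
      obtain ⟨i, rfl⟩ := mem_zpowers_iff.mp ha
      have h : Commute b x := mem_centralizer_singleton_iff.mp (hBC1 hb).2
      exact h.symm.zpow_left i
    have hJ1x : ∀ t ∈ J1, ∀ a ∈ zpowers x, t * a * t⁻¹ = a := fun t ht a ha => by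
      obtain ⟨i, rfl⟩ := mem_zpowers_iff.mp ha
      rw [← conj_zpow, (hmem x t).mp ht.2]
    have hnorm : zpowers x ≤ Subgroup.normalizer (B : Set S) := by
      intro a ha
      refine mem_normalizer_iff.mpr fun b => ⟨fun hb => ?_, fun hb => ?_⟩
      · rw [(hAB a ha b hb).eq, mul_inv_cancel_right]; exact hb
      · have := hAB a ha _ hb
        rw [Commute, SemiconjBy, ← mul_assoc, ← mul_assoc] at this
        rw [show b = a⁻¹ * (a * b * a⁻¹ * a) from by group, ← this]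
        simpa [mul_assoc] using hb
    have hdisj : zpowers x ⊓ B = ⊥ := eq_bot_iff.mpr fun a ha =>
      mem_bot.mpr (hgfix a ha.2 fun t ht => hJ1x t ht a ha.1)
    have hcard : Nat.card (zpowers x ⊔ B : Subgroup S) = Nat.card (zpowers x) * Nat.card B := by
      let φ : zpowers x × B → (zpowers x ⊔ B : Subgroup S) := fun p =>
        ⟨p.1 * p.2, mul_mem (mem_sup_left p.1.2) (mem_sup_right p.2.2)⟩
      have hφ : Function.Bijective φ := by
        constructor
        · rintro ⟨a, b⟩ ⟨a', b'⟩ h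
          have h' : (a : S) * b = a' * b' := congrArg Subtype.val h
          have h1 : (a' : S)⁻¹ * a = b' * (b : S)⁻¹ := by
            rw [eq_mul_inv_iff_mul_eq, mul_assoc, h', inv_mul_cancel_left]
          have h2 : (a' : S)⁻¹ * a = 1 := by
            rw [← mem_bot, ← hdisj]
            exact Subgroup.mem_inf.mpr ⟨mul_mem (inv_mem a'.2) a.2, h1.symm ▸ mul_mem b'.2 (inv_mem b.2)⟩
          have h3 : (a : S) = a' := (inv_mul_eq_one.mp h2).symm
          exact Prod.ext (Subtype.ext h3) (Subtype.ext (by rw [h3] at h'; exact mul_left_cancel h'))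
        · rintro ⟨y, hy⟩
          rw [← SetLike.mem_coe, Subgroup.coe_mul_of_left_le_normalizer_right _ _ hnorm] at hy
          obtain ⟨a, ha, b, hb, rfl⟩ := hy
          exact ⟨(⟨a, ha⟩, ⟨b, hb⟩), rfl⟩
      rw [← Nat.card_prod]; exact (Nat.card_congr (Equiv.ofBijective φ hφ)).symm
    have e1 : ∀ i, (Nat.card (f i)).Prime := by
      refine Fin.cases ?_ fun i => ?_
      · rw [hf0, Nat.card_zpowers]; exact hxp
      · rw [hfs]; exact hgp i
    have e2 : ∀ i, f i ≤ C := by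
      refine Fin.cases ?_ fun i => ?_
      · rw [hf0, zpowers_le]; exact hxC
      · rw [hfs]; exact (hgC i).trans inf_le_left
    have e3 : ∀ i, ∀ t ∈ I, ∀ a ∈ f i, t * a * t⁻¹ ∈ f i := by
      refine Fin.cases ?_ fun i => ?_
      · intro t ht a ha
        rw [hf0] at ha ⊢
        obtain ⟨i, rfl⟩ := mem_zpowers_iff.mp ha
        rcases hxs t ht with e | e <;> rw [← conj_zpow, e]
        · exact zpow_mem (mem_zpowers x) i
        · exact zpow_mem (inv_mem (mem_zpowers x)) i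
      · rw [hfs]; exact hgI i
    have e4 : ∀ i l, ∀ a ∈ f i, ∀ b ∈ f l, a * b = b * a := by
      refine Fin.cases (Fin.cases ?_ fun l => ?_) (fun i => Fin.cases ?_ fun l => ?_)
      · intro a ha b hb
        rw [hf0] at ha hb
        obtain ⟨i, rfl⟩ := mem_zpowers_iff.mp ha
        obtain ⟨i', rfl⟩ := mem_zpowers_iff.mp hb
        exact (Commute.refl x).zpow_zpow i i'
      · intro a ha b hb
        rw [hf0] at ha; rw [hfs] at hb
        exact hAB a ha b (le_iSup g l hb)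
      · intro a ha b hb
        rw [hfs] at ha; rw [hf0] at hb
        exact (hAB b hb a (le_iSup g i ha)).symm
      · rw [hfs, hfs]; exact hgc i l
    refine ⟨f, e1, e2, e3, e4, ?_, fun t ht h => ?_, fun b hb h => ?_⟩
    · rw [hsup, hcard, Fin.prod_univ_succ, hgcard, hf0]
      simp only [hfs]
    · have hx0 : t * x * t⁻¹ = x := h 0 x (by rw [hf0]; exact mem_zpowers x)
      exact hgf t ⟨ht, (hmem x t).mpr hx0⟩ fun i a ha => h i.succ a (by rw [hfs]; exact ha)
    · rw [hsup, ← SetLike.mem_coe, Subgroup.coe_mul_of_left_le_normalizer_right _ _ hnorm] at hb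
      obtain ⟨a, ha, c, hc, rfl⟩ := hb
      dsimp only at h ⊢
      have hc1 : c = 1 := by
        refine hgfix c hc fun t ht => ?_
        have h1 := h t ht.1
        rw [← conj_mul, hJ1x t ht a ha] at h1
        exact mul_left_cancel h1
      rw [hc1, mul_one] at h ⊢
      obtain ⟨i, rfl⟩ := mem_zpowers_iff.mp ha
      have h1 := h j hjJ
      rw [← conj_zpow, (hxs j (hJI hjJ)).resolve_left hxj, inv_zpow] at h1
      exact eq_one_of_inv_eq hodd (zpow_mem hxC i) h1


/-- Let S be a finite solvable group whose Fitting subgroup F(S) has odd order, and let I be an elementary abelian 2-subgroup of S of order 2ⁿ with n ≥ 1. Then F(S) contains subgroups A₁, …, Aₙ of prime order, each normalized by I, pairwise commuting and generating a subgroup A of order |A₁|⋯|Aₙ| (their internal direct product), such that no non-identity element of I centralizes A. -/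
theorem result {S : Type*} [Group S] [Finite S]
    [Group.IsSolvable S] (hF : Odd (Nat.card ↥(Cfsg.fittingSubgroup S)))
    (I : Subgroup S) (hI : Cfsg.IsElementaryAbelian 2 I) (n : ℕ) (hn : 1 ≤ n) (hIn : Nat.card ↥I = 2 ^ n) :
    ∃ f : Fin n → Subgroup S, (∀ i, (Nat.card ↥(f i)).Prime) ∧ (∀ i, f i ≤ Cfsg.fittingSubgroup S) ∧
      (∀ i, I ≤ Subgroup.normalizer ((f i) : Set S)) ∧ (∀ i j, i ≠ j → ∀ a ∈ f i, ∀ b ∈ f j, a * b = b * a) ∧
      Nat.card ↥(⨆ i, f i) = ∏ i, Nat.card ↥(f i) ∧ I ⊓ Subgroup.centralizer ((⨆ i, f i : Subgroup S) : Set S) = ⊥ := by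
  have hI2 : ∀ t ∈ I, t * t = 1 := fun t ht => by rw [← pow_two]; exact hI.2 t ht
  have hIc : ∀ s ∈ I, ∀ t ∈ I, s * t = t * s := fun s hs t ht =>
    congrArg Subtype.val (hI.1.is_comm.comm (⟨s, hs⟩ : I) ⟨t, ht⟩)
  have hconj : ∀ t ∈ I, ∀ c ∈ Cfsg.fittingSubgroup S, t * c * t⁻¹ ∈ Cfsg.fittingSubgroup S := by
    haveI := CfsgLib.Core.normal_fittingSubgroup S
    exact fun t _ c hc => Subgroup.Normal.conj_mem inferInstance c hc t
  have hfaith : ∀ t ∈ I, (∀ c ∈ Cfsg.fittingSubgroup S, t * c * t⁻¹ = c) → t = 1 := by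
    intro t ht h
    have htF : t ∈ Cfsg.fittingSubgroup S :=
      CfsgLib.Components.centralizer_fitting_le_of_isSolvable
        (mem_centralizer_iff.mpr fun c hc => (mul_inv_eq_iff_eq_mul.mp (h c hc)).symm)
    rw [← orderOf_eq_one_iff]
    exact Nat.eq_one_of_dvd_coprimes hF.coprime_two_right (Subgroup.orderOf_dvd_natCard _ htF)
      (orderOf_dvd_of_pow_eq_one (hI.2 t ht))
  obtain ⟨f, h1, h2, h3, h4, h5, h6, -⟩ := family I hI2 hIc n I le_rfl hIn (Cfsg.fittingSubgroup S)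
    hF (CfsgLib.Core.isNilpotent_fittingSubgroup S) hconj hfaith
  refine ⟨f, h1, h2, fun i t ht => ?_, fun i l _ => h4 i l, h5, ?_⟩
  · refine Subgroup.mem_normalizer_iff.mpr fun a => ⟨fun ha => h3 i t ht a ha, fun ha => ?_⟩
    have := h3 i t⁻¹ (inv_mem ht) _ ha
    simpa [mul_assoc] using this
  · rw [eq_bot_iff]
    rintro t ⟨ht, htc⟩
    exact Subgroup.mem_bot.mpr (h6 t ht fun i a ha => mul_inv_eq_iff_eq_mul.mpr
      ((Subgroup.mem_centralizer_iff.mp htc a (le_iSup f i ha)).symm))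

end Cfsg.Agent.S4408
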