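import Cfsg.Statements.S4410
import Cfsg.Agent.Lib.Modules.TransvectionSquare

set_option autoImplicit false
open Cfsg

namespace Cfsg.Agent.S4410

/-- Let V be a finite-dimensional vector space over the field with two elements and S a solvable group of linear automorphisms of V with O₂(S) = 1. If P ∈ S has order 4 and (P − 1)³ = 0 on V, then the image of (P − 1)² has at least 4 elements; equivalently, in the decomposition of V into indecomposable modules for the cyclic group generated by P, at least two summands have dimension 3. -/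
theorem result
    {V : Type*} [AddCommGroup V] [Module (ZMod 2) V] [Finite V]
    (S : Subgroup (V ≃ₗ[ZMod 2] V)) (hS : Group.IsSolvable ↥S) (hO2 : Cfsg.pCore 2 ↥S = ⊥)
    (P : V ≃ₗ[ZMod 2] V) (hPS : P ∈ S) (hP4 : orderOf P = 4)
    (hcub : ((P : V →ₗ[ZMod 2] V) - LinearMap.id) ^ 3 = 0) :
    4 ≤ Nat.card ↥(LinearMap.range (((P : V →ₗ[ZMod 2] V) - LinearMap.id) ^ 2)) := by
  classical
  have h2 : Fact (Nat.Prime 2) := ⟨Nat.prime_two⟩
  by_contra hlt
  rw [not_le] at hlt
  set f : V →ₗ[ZMod 2] V := (P : V →ₗ[ZMod 2] V) - LinearMap.id with hf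
  have hchar : ∀ a : V, a + a = 0 := fun a => by
    rw [← two_nsmul, ← Nat.cast_smul_eq_nsmul (ZMod 2), show ((2 : ℕ) : ZMod 2) = 0 from rfl, zero_smul]
  have hsq : ∀ v, (f ^ 2) v = (P ^ 2) v - v := fun v => by
    rw [pow_two, pow_two, Module.End.mul_apply, LinearEquiv.mul_apply]
    show P (P v - v) - (P v - v) = P (P v) - v
    rw [map_sub]
    calc P (P v) - P v - (P v - v) = P (P v) - (P v + P v) + (v + v) - v := by abel
      _ = P (P v) - v := by rw [hchar, hchar, sub_zero, add_zero]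
  have hc : ∃ c : V, ∀ v, (P ^ 2) v - v = 0 ∨ (P ^ 2) v - v = c := by
    have hpow := Module.natCard_eq_pow_finrank (K := ZMod 2) (V := LinearMap.range (f ^ 2))
    rw [Nat.card_zmod] at hpow
    have hk : Module.finrank (ZMod 2) (LinearMap.range (f ^ 2)) ≤ 1 := by
      by_contra hk
      have := Nat.pow_le_pow_right (show 0 < 2 by norm_num)
        (show 2 ≤ Module.finrank (ZMod 2) (LinearMap.range (f ^ 2)) by omega)
      omega
    obtain ⟨⟨c, hcm⟩, hc⟩ : ∃ c : LinearMap.range (f ^ 2), ∀ w : LinearMap.range (f ^ 2),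
        w = 0 ∨ w = c := by
      interval_cases h : Module.finrank (ZMod 2) (LinearMap.range (f ^ 2))
      · exact ⟨0, fun w => Or.inl (by
          rw [pow_zero, Nat.card_eq_one_iff_unique] at hpow
          exact hpow.1.elim _ _)⟩
      · rw [pow_one, Nat.card_eq_two_iff' (0 : LinearMap.range (f ^ 2))] at hpow
        obtain ⟨c, -, hu⟩ := hpow
        exact ⟨c, fun w => or_iff_not_imp_left.2 (hu w)⟩
    refine ⟨c, fun v => ?_⟩
    rw [← hsq v]
    rcases hc ⟨(f ^ 2) v, v, rfl⟩ with h | h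
    · exact Or.inl (congrArg Subtype.val h)
    · exact Or.inr (congrArg Subtype.val h)
  obtain ⟨c, hc⟩ := hc
  -- the Fitting subgroup has odd order
  have hP4' : P ^ 4 = 1 := hP4 ▸ pow_orderOf_eq_one P
  have hN := CfsgLib.Core.isNilpotent_fittingSubgroup ↥S
  have hodd : Odd (Nat.card (Cfsg.fittingSubgroup ↥S)) := by
    rw [← Nat.not_even_iff_odd, even_iff_two_dvd]
    intro hdvd
    let Q : Sylow 2 (Cfsg.fittingSubgroup ↥S) := default
    have hQn : (Q : Subgroup (Cfsg.fittingSubgroup ↥S)).Normal :=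
      Group.isNilpotent_of_finite_tfae.out 0 3 rfl rfl |>.mp hN 2 inferInstance Q
    refine Q.ne_bot_of_dvd_card hdvd ?_
    have hle : (Q : Subgroup (Cfsg.fittingSubgroup ↥S)).map (Cfsg.fittingSubgroup ↥S).subtype ≤
        (⊥ : Subgroup ↥S) :=
      hO2 ▸ (Subgroup.map_mono (CfsgLib.Core.le_pCore Q.2)).trans
        (CfsgLib.Core.map_subtype_pCore_le _)
    rwa [le_bot_iff, Subgroup.map_eq_bot_iff_of_injective _ (Subgroup.subtype_injective _)] at hle
  set F := (Cfsg.fittingSubgroup ↥S).map S.subtype with hFdef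
  have hFc : Nat.card F = Nat.card (Cfsg.fittingSubgroup ↥S) :=
    Subgroup.card_map_of_injective S.subtype_injective
  have : Group.IsNilpotent F := CfsgLib.Core.isNilpotent_map S.subtype _
  have hPF : ∀ r ∈ F, P * r * P⁻¹ ∈ F := by
    rintro _ ⟨r, hr, rfl⟩
    exact Subgroup.mem_map.2 ⟨(⟨P, hPS⟩ : S) * r * (⟨P, hPS⟩ : S)⁻¹,
      (CfsgLib.Core.normal_fittingSubgroup ↥S).conj_mem r hr _,
      by rw [map_mul, map_mul, map_inv, Subgroup.subtype_apply, Subgroup.subtype_apply]⟩
  have hcomm := CfsgLib.TransvectionSquare.no_transvection_square (F := F) (hFc ▸ hodd) P hP4' hPF c hc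
  have htC : (⟨P, hPS⟩ : S) ^ 2 ∈ Cfsg.fittingSubgroup ↥S := by
    refine CfsgLib.Components.centralizer_fitting_le_of_isSolvable (G := ↥S) ?_
    rw [Subgroup.mem_centralizer_iff]
    intro r hr
    exact Subtype.ext (hcomm r ⟨r, hr, rfl⟩).symm
  have hord : orderOf ((⟨P, hPS⟩ : S) ^ 2) = 2 := by
    rw [orderOf_pow, Subgroup.orderOf_mk, hP4]; rfl
  have hdvd := Subgroup.orderOf_dvd_natCard _ htC
  rw [hord] at hdvd
  exact (Nat.not_even_iff_odd.2 hodd) (even_iff_two_dvd.2 hdvd)

end Cfsg.Agent.S4410
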