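import Cfsg.Statements.S4413
import Cfsg.Agent.Lib.PGroups.ExtraspecialOut
import Cfsg.Agent.Lib.Classical.OrthogonalTwoSmall

set_option autoImplicit false
open Cfsg

namespace Cfsg.Agent.S4413

/-- Let P be an extraspecial 2-group of order 32 with no elementary abelian subgroup of order 8 (the central product of a dihedral and a quaternion group of order 8). Then the inner automorphism group of P has order 16 and the outer automorphism group Aut(P)/Inn(P) is isomorphic to the symmetric group of degree 5; in particular Aut(P) has order 1920. -/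
theorem result {P : Type*} [Group P] [Finite P]
    (hex : Cfsg.IsExtraspecial 2 P) (h32 : Nat.card P = 32)
    (hminus : ∀ A : Subgroup P, Cfsg.IsElementaryAbelian 2 A → Nat.card ↥A ≤ 4)
    [(MulAut.conj : P →* MulAut P).range.Normal] :
    Nat.card ↥(MulAut.conj : P →* MulAut P).range = 16 ∧ Nat.card (MulAut P) = 1920 ∧
      Nonempty ((MulAut P ⧸ (MulAut.conj : P →* MulAut P).range) ≃* Equiv.Perm (Fin 5)) := by
  rcases CfsgLib.PGroups.ExtraspecialOut.exists_coords hex 2 (h32.trans (by norm_num)) with
    ⟨⟨C⟩⟩ | ⟨-, ⟨C⟩⟩
  · obtain ⟨A, hA, hAc⟩ := C.exists_elementary hex (h32.trans (by norm_num))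
    have := hminus A hA
    omega
  obtain ⟨e⟩ := CfsgLib.PGroups.ExtraspecialOut.Coords.out_equiv hex C
  obtain ⟨f⟩ := CfsgLib.Classical.isometryGroup_minus_four_two (F := ZMod 2) (ZMod.card 2)
  have h16 : Nat.card ↥(MulAut.conj : P →* MulAut P).range = 16 := by
    have hk : (MulAut.conj : P →* MulAut P).ker = Subgroup.center P := by
      ext g
      rw [MonoidHom.mem_ker, Subgroup.mem_center_iff]
      constructor
      · intro h x
        have := MulEquiv.congr_fun h x
        rw [MulAut.conj_apply, MulAut.one_apply, mul_inv_eq_iff_eq_mul] at this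
        exact this.symm
      · intro h
        ext x
        rw [MulAut.conj_apply, ← h x, mul_inv_cancel_right, MulAut.one_apply]
    have := (MulAut.conj : P →* MulAut P).ker.index_mul_card
    rw [Subgroup.index_ker, hk, hex.2, h32] at this
    omega
  refine ⟨h16, ?_, ⟨e.trans f⟩⟩
  rw [Subgroup.card_eq_card_quotient_mul_card_subgroup (MulAut.conj : P →* MulAut P).range, h16,
    Nat.card_congr (e.trans f).toEquiv, Nat.card_perm, Nat.card_fin]
  rfl

end Cfsg.Agent.S4413
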