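import Cfsg.Statements.S4415
import Cfsg.Agent.Lib.Pairs.CubicReduction

set_option autoImplicit false
open Cfsg

namespace Cfsg.Agent.S4415

/-- Let S be a finite solvable group acting faithfully on a finite-dimensional space E over the field with three elements, with O₃(S) = 1. Let B ≤ S have order 3 and suppose: E = E₀ ⊕ E₁ with B fixing E₁ pointwise, E₀ B-invariant of order 27 and indecomposable under B (a generator of B has a single Jordan block on E₀); B normalizes but does not centralize some subgroup Q of S that is elementary abelian of order 4; and B is the centre of a Sylow 3-subgroup of S. Put R = [O_{3'}(S), B]. Then R is elementary abelian of order 4 or extraspecial of order 32 containing an elementary abelian subgroup of order 8 (a central product of two quaternion groups), and E is the direct sum of a subspace fixed pointwise by R and an RB-invariant subspace on which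 the subgroup RB acts faithfully and irreducibly. -/
theorem result {S : Type*} [Group S] [Finite S]
    [Group.IsSolvable S] {E : Type*} [AddCommGroup E] [Module (ZMod 3) E] [Finite E] (ρ : Representation (ZMod 3) S E)
    (hfaith : Function.Injective ρ) (hO3 : Cfsg.pCore 3 S = ⊥)
    (B : Subgroup S) (hB : Nat.card ↥B = 3) (b : S) (hb : Subgroup.zpowers b = B)
    (E₀ E₁ : Submodule (ZMod 3) E) (hE01 : E₀ ⊓ E₁ = ⊥) (hE01' : E₀ ⊔ E₁ = ⊤)
    (hE1 : ∀ v ∈ E₁, ρ b v = v) (hE0inv : ∀ v ∈ E₀, ρ b v ∈ E₀) (hE0 : Nat.card ↥E₀ = 27)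
    (hind : ∃ v ∈ E₀, ρ b (ρ b v - v) - (ρ b v - v) ≠ 0)
    (Q : Subgroup S) (hQ : Cfsg.IsElementaryAbelian 2 Q) (hQ4 : Nat.card ↥Q = 4)
    (hBQ : B ≤ Subgroup.normalizer (Q : Set S)) (hBQ' : ¬ B ≤ Subgroup.centralizer (Q : Set S))
    (P : Sylow 3 S) (hBZ : (Subgroup.center ↥(P : Subgroup S)).map (P : Subgroup S).subtype = B) :
    ((Cfsg.IsElementaryAbelian 2 ⁅Cfsg.pPrimeCore 3 S, B⁆ ∧ Nat.card ↥⁅Cfsg.pPrimeCore 3 S, B⁆ = 4) ∨
      (Cfsg.IsExtraspecial 2 ↥⁅Cfsg.pPrimeCore 3 S, B⁆ ∧ Nat.card ↥⁅Cfsg.pPrimeCore 3 S, B⁆ = 32 ∧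
        ∃ A : Subgroup S, A ≤ ⁅Cfsg.pPrimeCore 3 S, B⁆ ∧ Cfsg.IsElementaryAbelian 2 A ∧ Nat.card ↥A = 8)) ∧
    ∃ F₀ F₁ : Submodule (ZMod 3) E, F₀ ⊓ F₁ = ⊥ ∧ F₀ ⊔ F₁ = ⊤ ∧
      (∀ r ∈ ⁅Cfsg.pPrimeCore 3 S, B⁆, ∀ v ∈ F₁, ρ r v = v) ∧ (∀ r ∈ ⁅Cfsg.pPrimeCore 3 S, B⁆ ⊔ B, ∀ v ∈ F₀, ρ r v ∈ F₀) ∧
      (∀ r ∈ ⁅Cfsg.pPrimeCore 3 S, B⁆ ⊔ B, (∀ v ∈ F₀, ρ r v = v) → r = 1) ∧
      (∀ N : Submodule (ZMod 3) E, N ≤ F₀ → (∀ r ∈ ⁅Cfsg.pPrimeCore 3 S, B⁆ ⊔ B, ∀ v ∈ N, ρ r v ∈ N) → N = ⊥ ∨ N = F₀) := by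
  have hb3 : b ^ 3 = 1 := orderOf_dvd_iff_pow_eq_one.1
    (dvd_of_eq (show orderOf b = 3 by rw [← Nat.card_zpowers, hb, hB]))
  have hbB : b ∈ B := hb ▸ Subgroup.mem_zpowers b
  have hrank := CfsgLib.Pairs.Cubic.rank_le ρ hb3 E₀ E₁ hE01' hE1 hE0inv hE0
  have hQ2 : ∀ q ∈ Q, q * q = 1 := fun q hq => by rw [← pow_two]; exact hQ.2 q hq
  have hnc : ∃ q ∈ Q, b * q * b⁻¹ ≠ q := by
    by_contra! hall
    refine hBQ' ?_
    rw [← hb, Subgroup.zpowers_le, Subgroup.mem_centralizer_iff]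
    exact fun q hq => (mul_inv_eq_iff_eq_mul.1 (hall q hq)).symm
  have hBK : B ≤ Subgroup.normalizer (Cfsg.pPrimeCore 3 S : Set S) := Subgroup.le_normalizer_of_normal
  have hKcop := CfsgLib.Core.coprime_card_pPrimeCore 3 S
  have hcop : (Nat.card B).Coprime (Nat.card (Cfsg.pPrimeCore 3 S)) := hB.symm ▸ hKcop.symm
  exact CfsgLib.Pairs.Cubic.main ρ hfaith hb hB hrank hQ4 hQ2 hBQ hnc
    (hKcop.coprime_dvd_left (Subgroup.card_dvd_of_le (CfsgLib.Core.commutator_le_of_normalizes hBK)))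
    (le_sup_right.trans (CfsgLib.Core.le_normalizer_commutator_self B (Cfsg.pPrimeCore 3 S)))
    (CfsgLib.Core.commutator_commutator_eq hBK hcop (Or.inr inferInstance))
    (CfsgLib.Pairs.Cubic.four_le_commutator hb hB hQ4 hQ2 hBQ hBQ' P hBZ)

end Cfsg.Agent.S4415
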