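import Cfsg.Statements.S4416
import Cfsg.Agent.Lib.Transfer.ExtraspecialUnique

set_option autoImplicit false
open Cfsg

namespace Cfsg.Agent.S4416

open Subgroup CfsgLib.Transfer
open scoped commutatorElement

universe u v

private noncomputable def sqc (E : Type*) [Group E] : ℕ := Nat.card {e : E // e ^ 2 = 1}

/-- Counting square roots of one along a pair. -/
private theorem sqc_pair {E : Type*} [Group E] [Finite E] {z x y : E} (h : CentralPrime 2 E z)
    (hxy : ⁅x, y⁆ = z) :
    (x ^ 2 = 1 ∧ y ^ 2 = 1 →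
      sqc E = 2 * sqc (CentralPrime.pairCent x y) + Nat.card (CentralPrime.pairCent x y)) ∧
    (x ^ 2 = z ∧ y ^ 2 = z →
      sqc E + 2 * sqc (CentralPrime.pairCent x y) = 3 * Nat.card (CentralPrime.pairCent x y)) := by
  classical
  haveI : Fact (Nat.Prime 2) := ⟨Nat.prime_two⟩
  set C := CentralPrime.pairCent x y with hC
  have hz2 : z ^ 2 = 1 := by rw [← h.order]; exact pow_orderOf_eq_one z
  have hz1 : z ≠ 1 := fun e => by have := h.order; rw [e, orderOf_one] at this; omega
  have hcx : ∀ c : C, Commute (c : E) x ∧ Commute (c : E) y := fun c =>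
    ⟨commutatorElement_eq_one_iff_mul_comm.mp (CentralPrime.mem_pairCent.mp c.2).1,
      commutatorElement_eq_one_iff_mul_comm.mp (CentralPrime.mem_pairCent.mp c.2).2⟩
  let φ : C × Bool × Bool → E := fun p =>
    p.1.1 * ((if p.2.2 then y else 1) * (if p.2.1 then x else 1))
  have hgen : ∀ (w : E), w ^ 2 ∈ C → ∀ a : ℤ, ∃ i : Bool, ∃ d ∈ C,
      w ^ a = d * (if i then w else 1) := by
    intro w hw a
    rcases Int.even_or_odd' a with ⟨j, rfl | rfl⟩
    · exact ⟨false, (w ^ 2) ^ j, zpow_mem hw j, by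
        rw [if_neg (by simp), mul_one, zpow_mul]; norm_cast⟩
    · exact ⟨true, (w ^ 2) ^ j, zpow_mem hw j, by
        rw [if_pos rfl, zpow_add_one, zpow_mul]; norm_cast⟩
  have hsurj : Function.Surjective φ := by
    intro e
    obtain ⟨a, b, c, hc, rfl⟩ := h.decomp hxy e
    obtain ⟨i, d, hd, hxa⟩ := hgen x (h.pow_mem_pairCent x) a
    obtain ⟨j, d', hd', hyb⟩ := hgen y (h.pow_mem_pairCent y) b
    -- move everything into the normal form, at the price of a central factor
    obtain ⟨k, hk⟩ : ∃ k : ℤ, (if i then x else 1) * (if j then y else 1) =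
        z ^ k * ((if j then y else 1) * (if i then x else 1)) := by
      cases i <;> cases j <;> simp only [if_true, if_false, Bool.false_eq_true, one_mul, mul_one]
      · exact ⟨0, by simp⟩
      · exact ⟨0, by simp⟩
      · exact ⟨0, by simp⟩
      · exact ⟨1, by rw [zpow_one, ← hxy, commutatorElement_def]; group⟩
    have hcomm : ∀ (f : C) (i : Bool), Commute (f : E) (if i then x else 1) ∧
        Commute (f : E) (if i then y else 1) := fun f i => by
      cases i <;> simp [hcx f]
    refine ⟨(⟨d * d' * c * z ^ k, mul_mem (mul_mem (mul_mem hd hd') hc)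
      (zpow_mem h.z_mem_pairCent k)⟩, i, j), ?_⟩
    change d * d' * c * z ^ k * ((if j then y else 1) * (if i then x else 1)) = _
    rw [hxa, hyb, mul_assoc (d * d' * c), ← hk]
    have e1 := (hcomm ⟨d', hd'⟩ i).1.eq
    have e2 := (hcomm ⟨c, hc⟩ i).1.eq
    have e3 := (hcomm ⟨c, hc⟩ j).2.eq
    dsimp only at e1 e2 e3
    simp only [mul_assoc]
    rw [← e3, ← mul_assoc c, e2]
    simp only [mul_assoc]
    rw [← mul_assoc d', e1]
    simp only [mul_assoc]
  have hφ : Function.Bijective φ := by
    refine (Nat.bijective_iff_surjective_and_card φ).mpr ⟨hsurj, ?_⟩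
    rw [h.card_pair hxy, Nat.card_prod, Nat.card_prod]
    simp [hC]; ring
  have hsq : ∀ (c : C) (i j : Bool), φ (c, i, j) ^ 2 =
      c.1 ^ 2 * ((if j then y else 1) * (if i then x else 1)) ^ 2 := by
    intro c i j
    refine Commute.mul_pow ?_ 2
    cases i <;> cases j <;> simp [hcx c, Commute.mul_right]
  set zC : C := ⟨z, h.z_mem_pairCent⟩ with hzC
  have hzz : ∀ c : C, c.1 ^ 2 * z = 1 ↔ ¬ c ^ 2 = 1 := by
    intro c
    rw [← Subtype.coe_inj, SubmonoidClass.coe_pow, Subgroup.coe_one]
    rcases sq_cases h (c : E) with e | e <;> rw [e]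
    · rw [one_mul]; exact iff_of_false hz1 (not_not.mpr rfl)
    · rw [← pow_two, hz2]; exact iff_of_true rfl hz1
  have hn : Nat.card {c : C // c ^ 2 = 1} + Nat.card {c : C // ¬ c ^ 2 = 1} = Nat.card C := by
    rw [← Nat.card_sum]
    exact Nat.card_congr (Equiv.sumCompl _)
  have hcount : ∀ (sa sb sab : Bool),
      (x ^ 2 = if sa then z else 1) → (y ^ 2 = if sb then z else 1) →
      ((y * x) ^ 2 = if sab then z else 1) →
      sqc E = Nat.card {c : C // c ^ 2 = 1} +
        (if sa then Nat.card {c : C // ¬ c ^ 2 = 1} else Nat.card {c : C // c ^ 2 = 1}) +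
        (if sb then Nat.card {c : C // ¬ c ^ 2 = 1} else Nat.card {c : C // c ^ 2 = 1}) +
        (if sab then Nat.card {c : C // ¬ c ^ 2 = 1} else Nat.card {c : C // c ^ 2 = 1}) := by
    intro sa sb sab ha hb hab
    have e1 : {e : E // e ^ 2 = 1} ≃ {p : C × Bool × Bool // φ p ^ 2 = 1} :=
      ((Equiv.ofBijective φ hφ).subtypeEquiv fun p => Iff.rfl).symm
    have e2 : {p : C × Bool × Bool // φ p ^ 2 = 1} ≃
        Σ q : Bool × Bool, {c : C // φ (c, q.1, q.2) ^ 2 = 1} :=
      { toFun := fun p => ⟨(p.1.2.1, p.1.2.2), ⟨p.1.1, p.2⟩⟩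
        invFun := fun s => ⟨(s.2.1, s.1.1, s.1.2), s.2.2⟩
        left_inv := fun p => rfl
        right_inv := fun s => rfl }
    have hf : ∀ (q : Bool × Bool) (s : Bool),
        ((if q.2 then y else 1) * (if q.1 then x else 1)) ^ 2 = (if s then z else 1) →
        Nat.card {c : C // φ (c, q.1, q.2) ^ 2 = 1} =
          if s then Nat.card {c : C // ¬ c ^ 2 = 1} else Nat.card {c : C // c ^ 2 = 1} := by
      intro q s hs
      cases s <;> simp only [if_true, if_false, Bool.false_eq_true] at hs ⊢ <;>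
        refine Nat.card_congr (Equiv.subtypeEquivRight fun c => ?_) <;> rw [hsq, hs]
      · rw [mul_one, ← Subtype.coe_inj, SubmonoidClass.coe_pow, Subgroup.coe_one]
      · exact hzz c
    rw [sqc, Nat.card_congr (e1.trans e2), Nat.card_sigma, Fintype.sum_prod_type,
      Fintype.sum_bool, Fintype.sum_bool, Fintype.sum_bool,
      hf (false, false) false (by simp), hf (true, false) sa (by simpa using ha),
      hf (false, true) sb (by simpa using hb), hf (true, true) sab (by simpa using hab)]
    simp only [Bool.false_eq_true, if_false]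
    ring
  have hprod := mul_sq_two h hxy
  refine ⟨fun ⟨hx, hy⟩ => ?_, fun ⟨hx, hy⟩ => ?_⟩
  · have := hcount false false true (by simpa using hx) (by simpa using hy)
      (by rw [hprod, hx, hy]; simp)
    simp only [Bool.false_eq_true, if_false, if_true] at this
    simp only [sqc] at *
    omega
  · have := hcount true true true (by simpa using hx) (by simpa using hy)
      (by rw [hprod, hx, hy, mul_assoc, ← pow_two, hz2, mul_one]; simp)
    simp only [if_true] at this
    simp only [sqc] at *
    omega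

private theorem sqc_two {E : Type*} [Group E] [Finite E] (h2 : Nat.card E = 2) : sqc E = 2 := by
  exact (Nat.card_congr (Equiv.subtypeUnivEquiv fun e : E =>
    orderOf_dvd_iff_pow_eq_one.mp ((_root_.orderOf_dvd_natCard e).trans h2.dvd))).trans h2

private theorem shape : ∀ (n : ℕ) (E : Type u) [Group E] [Finite E] (z : E), Nat.card E = n →
    CentralPrime 2 E z → ∃ m : ℕ, n = 2 ^ (2 * m + 1) ∧
      (sqc E = 2 ^ (2 * m) + 2 ^ m ∨ (1 ≤ m ∧ sqc E + 2 ^ m = 2 ^ (2 * m))) := by
  intro n
  induction n using Nat.strong_induction_on with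
  | _ n ih =>
    intro E _ _ z hn h
    have hpos : 0 < Nat.card E := Nat.card_pos
    by_cases h2 : n = 2
    · exact ⟨0, by simpa using h2, Or.inl (by simpa using sqc_two (hn.trans h2))⟩
    by_cases h8 : n = 8
    · obtain ⟨x, y, hxy, ht⟩ := exists_pair_eight h (hn.trans h8)
      have hc := h.card_pair hxy
      have hC : Nat.card (CentralPrime.pairCent x y) = 2 := by omega
      obtain ⟨hD, hQ⟩ := sqc_pair h hxy
      have hC2 := sqc_two hC
      refine ⟨1, by simpa using h8, ?_⟩
      rcases ht with ht | ht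
      · left; have := hD ht; norm_num; omega
      · right; have := hQ ht; norm_num; omega
    obtain ⟨x, hx1, hx2⟩ := exists_involution h (by omega) (by omega)
    obtain ⟨y, hxy, hy⟩ := exists_dihedral_pair h hx1 hx2
    have hc := h.card_pair hxy
    obtain ⟨m, hm, hs⟩ := ih (Nat.card (CentralPrime.pairCent x y)) (by omega) _ _ rfl (h.pair hxy)
    have hD := (sqc_pair h hxy).1 ⟨hx2, hy⟩
    have e1 : 2 ^ (2 * m + 1) = 2 * 2 ^ (2 * m) := pow_succ' 2 (2 * m)
    have e2 : 2 ^ (2 * (m + 1)) = 4 * 2 ^ (2 * m) := by rw [Nat.mul_succ, pow_add]; ring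
    have e3 : 2 ^ (m + 1) = 2 * 2 ^ m := pow_succ' 2 m
    refine ⟨m + 1, ?_, ?_⟩
    · rw [pow_succ' 2 (2 * (m + 1)), e2]; omega
    · rcases hs with hs | ⟨hm1, hs⟩
      · left; omega
      · right; exact ⟨by omega, by omega⟩

private theorem unique : ∀ (n : ℕ) (A : Type u) (B : Type v) [Group A] [Group B] [Finite A]
    [Finite B] (za : A) (zb : B), Nat.card A = n → Nat.card B = n → CentralPrime 2 A za →
    CentralPrime 2 B zb → sqc A = sqc B → ∃ φ : A ≃* B, φ za = zb := by
  intro n
  induction n using Nat.strong_induction_on with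
  | _ n ih =>
    intro A B _ _ _ _ za zb hA hB ha hb hs
    haveI : Fact (Nat.Prime 2) := ⟨Nat.prime_two⟩
    have hpos : 0 < Nat.card A := Nat.card_pos
    by_cases h2 : n = 2
    · exact center_cyclic_case ha hb (hA.trans h2) (hA.trans hB.symm)
    by_cases h8 : n = 8
    · obtain ⟨xa, ya, hxa, ta⟩ := exists_pair_eight ha (hA.trans h8)
      obtain ⟨xb, yb, hxb, tb⟩ := exists_pair_eight hb (hB.trans h8)
      have ca := ha.card_pair hxa
      have cb := hb.card_pair hxb
      have ea : Nat.card (CentralPrime.pairCent xa ya) = 2 := by omega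
      have eb : Nat.card (CentralPrime.pairCent xb yb) = 2 := by omega
      obtain ⟨ψ, hψ⟩ := center_cyclic_case (ha.pair hxa) (hb.pair hxb) ea (ea.trans eb.symm)
      refine glue_two ha hb hxa hxb ψ hψ ?_
      have sa := sqc_two ea
      have sb := sqc_two eb
      rcases ta with ta | ta <;> rcases tb with tb | tb
      · exact Or.inl ⟨ta, tb⟩
      · have := (sqc_pair ha hxa).1 ta; have := (sqc_pair hb hxb).2 tb; omega
      · have := (sqc_pair ha hxa).2 ta; have := (sqc_pair hb hxb).1 tb; omega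
      · exact Or.inr ⟨ta, tb⟩
    obtain ⟨xa, hxa1, hxa2⟩ := exists_involution ha (by omega) (by omega)
    obtain ⟨xb, hxb1, hxb2⟩ := exists_involution hb (by omega) (by omega)
    obtain ⟨ya, hxa, hya⟩ := exists_dihedral_pair ha hxa1 hxa2
    obtain ⟨yb, hxb, hyb⟩ := exists_dihedral_pair hb hxb1 hxb2
    have ca := ha.card_pair hxa
    have cb := hb.card_pair hxb
    have da := (sqc_pair ha hxa).1 ⟨hxa2, hya⟩
    have db := (sqc_pair hb hxb).1 ⟨hxb2, hyb⟩
    obtain ⟨φ, hφ⟩ := ih (Nat.card (CentralPrime.pairCent xa ya)) (by omega) _ _ _ _ rfl (by omega)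
      (ha.pair hxa) (hb.pair hxb) (by omega)
    exact glue_two ha hb hxa hxb φ hφ (Or.inl ⟨⟨hxa2, hya⟩, hxb2, hyb⟩)


/-- Classification of extraspecial 2-groups in intrinsic form. An extraspecial 2-group has order 2^(2m+1) for some m ≥ 1, and the number of its elements squaring to the identity is either 2^(2m) + 2^m or 2^(2m) − 2^m; two extraspecial 2-groups of the same order with the same number of such elements are isomorphic. (The two cases are the central products of m dihedral groups of order 8, and of m − 1 dihedral groups with one quaternion group.) -/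
theorem result (E : Type*) [Group E] [Finite E] (hE : Cfsg.IsExtraspecial 2 E) :
    (∃ m : ℕ, 1 ≤ m ∧ Nat.card E = 2 ^ (2 * m + 1) ∧
      (Nat.card {x : E // x ^ 2 = 1} = 2 ^ (2 * m) + 2 ^ m ∨ Nat.card {x : E // x ^ 2 = 1} = 2 ^ (2 * m) - 2 ^ m)) ∧
    ∀ (E' : Type*) [Group E'] [Finite E'], Cfsg.IsExtraspecial 2 E' → Nat.card E' = Nat.card E →
      Nat.card {x : E' // x ^ 2 = 1} = Nat.card {x : E // x ^ 2 = 1} → Nonempty (E ≃* E') := by
  haveI : Fact (Nat.Prime 2) := ⟨Nat.prime_two⟩
  obtain ⟨z, hz⟩ := exists_centralPrime hE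
  refine ⟨?_, ?_⟩
  · obtain ⟨m, hm, hs⟩ := shape _ E z rfl hz
    have hm1 : 1 ≤ m := by
      rcases Nat.eq_zero_or_pos m with rfl | h
      · exfalso
        have hcz : Nat.card (center E) = 2 := CfsgLib.PGroups.IsExtraspecial.card_center hE
        have htop : center E = ⊤ := eq_top_of_card_eq _ (by rw [hcz, hm]; rfl)
        obtain ⟨n, hn1, hn, -⟩ := CfsgLib.PGroups.IsExtraspecial.exists_card hE
        have := Nat.pow_right_injective le_rfl (hn.symm.trans hm)
        omega
      · exact h
    refine ⟨m, hm1, hm, ?_⟩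
    rcases hs with hs | ⟨-, hs⟩
    · exact Or.inl hs
    · exact Or.inr (Nat.eq_sub_of_add_eq hs)
  · intro E' _ _ hE' hcard hs
    obtain ⟨z', hz'⟩ := exists_centralPrime hE'
    obtain ⟨φ, -⟩ := unique _ E E' z z' rfl hcard hz hz' hs.symm
    exact ⟨φ⟩

end Cfsg.Agent.S4416
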