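import Cfsg.Statements.S4419
import Cfsg.Agent.Lib.Transfer.Fusion
import Cfsg.Agent.Lib.Transfer.PResidual
import Cfsg.Agent.Lib.Core.Cores
import Cfsg.Agent.Lib.Core.Coprime
import Cfsg.Agent.Lib.OddLocal.MetacyclicAction
import Cfsg.Agent.Lib.PGroups.Basic

set_option autoImplicit false
open Cfsg

namespace Cfsg.Agent.S4419

open Subgroup CfsgLib.Core

/-- An automorphism of prime order `r ≠ p` of a `p`-group with Frattini index at most `p²` and
nontrivial on the Frattini quotient forces `r ∣ p² - 1`. -/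
theorem dvd_sq_sub_one {p r : ℕ} [hp : Fact p.Prime] [hr : Fact r.Prime] (hrp : r ≠ p) {V : Type*} [Group V] [Finite V]
    (hV : IsPGroup p V) (hcard : Nat.card V ≤ p ^ 2) (τ : MulAut V) (hτ : τ ^ r = 1) (hne : τ ≠ 1) :
    r ∣ p ^ 2 - 1 := by
  have hR : IsPGroup r (zpowers τ) := IsPGroup.of_card (n := 1) (by
    rw [Nat.card_zpowers, pow_one, orderOf_eq_prime hτ hne])
  let F : Subgroup V := τ.toMonoidHom.eqLocus (MonoidHom.id V)
  have hfix : MulAction.fixedPoints (zpowers τ) V = (F : Set V) := by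
    ext v
    constructor
    · intro h; exact h ⟨τ, mem_zpowers τ⟩
    · rintro h ⟨s, hs⟩
      obtain ⟨j, rfl⟩ := mem_zpowers_iff.1 hs
      have : τ ∈ MulAction.stabilizer (MulAut V) v := MulAction.mem_stabilizer_iff.2 h
      exact zpow_mem this j
  have hmod := hR.card_modEq_card_fixedPoints V
  rw [hfix] at hmod
  obtain ⟨i, hi⟩ := IsPGroup.iff_card.1 hV
  obtain ⟨j, hj, hFj⟩ := (Nat.dvd_prime_pow hp.out).1 (hi ▸ F.card_subgroup_dvd_card)
  have hji : j < i := by
    refine lt_of_le_of_ne hj fun e => hne (MulEquiv.ext fun v => ?_)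
    have hF : F = ⊤ := Subgroup.eq_top_of_card_eq F (by rw [hFj, hi, e])
    exact (hF ▸ mem_top v : v ∈ F)
  have hi2 : i ≤ 2 := (Nat.pow_le_pow_iff_right hp.out.one_lt).1 (hi ▸ hcard)
  have hd : r ∣ p ^ i - p ^ j := by
    refine (Nat.modEq_iff_dvd' (Nat.pow_le_pow_right hp.out.pos hji.le)).1 ?_
    rw [SetLike.coe_sort_coe] at hmod
    rw [← hFj, ← hi]
    exact hmod.symm
  rw [show p ^ i - p ^ j = p ^ j * (p ^ (i - j) - 1) by
    rw [Nat.mul_sub, mul_one, ← pow_add, Nat.add_sub_cancel' hji.le]] at hd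
  have hd' : r ∣ p ^ (i - j) - 1 := (hr.out.coprime_iff_not_dvd.2 fun h =>
    hrp ((Nat.prime_dvd_prime_iff_eq hr.out hp.out).1 (hr.out.dvd_of_dvd_pow h))).dvd_of_dvd_mul_left hd
  refine hd'.trans ?_
  rcases (by omega : i - j = 1 ∨ i - j = 2) with h | h <;> rw [h]
  rw [show p ^ 2 - 1 = (p + 1) * (p - 1) by rw [← Nat.sq_sub_sq, one_pow], pow_one]
  exact dvd_mul_left _ _

/-- Let p be a prime and G a finite group whose Sylow p-subgroups are metacyclic (a cyclic normal subgroup with cyclic quotient). Then G has a normal p-complement if and only if the order of G/O_{p′,p}(G) is coprime to p² − 1. -/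
theorem result {G : Type*} [Group G] [Finite G] (p : ℕ) [Fact p.Prime] (S : Sylow p G) (hS : Cfsg.IsMetacyclic ↥(S : Subgroup G)) : Cfsg.HasNormalPComplement p G ↔ Nat.Coprime (Nat.card (G ⧸ Cfsg.pPrimePCore p G)) (p ^ 2 - 1) := by
  classical
  have hp : p.Prime := Fact.out
  constructor
  · intro h
    obtain ⟨N, hN, hcop, hq⟩ := CfsgLib.Transfer.hasNormalPComplement_iff_exists.1 h
    have htop : Cfsg.pCore p (G ⧸ Cfsg.pPrimeCore p G) = ⊤ := by
      haveI := hN
      refine top_le_iff.1 (le_pCore ?_)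
      refine IsPGroup.of_equiv (H := (⊤ : Subgroup (G ⧸ Cfsg.pPrimeCore p G))) ?_ (MulEquiv.refl _)
      exact (hq.of_surjective (QuotientGroup.map N (Cfsg.pPrimeCore p G) (MonoidHom.id G) (le_pPrimeCore hcop))
        (QuotientGroup.map_surjective_of_surjective _ _ _ (QuotientGroup.mk_surjective) _)).to_subgroup ⊤
    rw [← Subgroup.index_eq_card, Cfsg.pPrimePCore, htop, comap_top, index_top]
    exact Nat.coprime_one_left _
  intro hcop
  refine CfsgLib.Transfer.hasNormalPComplement_of_centralizes S fun Q hQS g hg hgc => ?_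
  by_contra hgn
  set f := Q.normalizerMonoidHom with hf
  have hfg : f ⟨g, hg⟩ ≠ 1 := fun e => by
    have : (⟨g, hg⟩ : normalizer (Q : Set G)) ∈ f.ker := e
    rw [hf, normalizerMonoidHom_ker, mem_subgroupOf] at this
    exact hgn this
  obtain ⟨r, hr, hrd⟩ := Nat.exists_prime_and_dvd (fun e => hfg (orderOf_eq_one_iff.1 e))
  haveI := Fact.mk hr
  set o := orderOf (f ⟨g, hg⟩)
  set h : normalizer (Q : Set G) := ⟨g, hg⟩ ^ (o / r) with hh
  have hσ : orderOf (f h) = r := by
    rw [hh, map_pow, orderOf_pow_orderOf_div (orderOf_pos _).ne' hrd]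
  have hog : orderOf (h : G) ∣ orderOf g := by
    rw [hh, SubgroupClass.coe_pow]
    exact orderOf_pow_dvd _
  have hhp : (orderOf (h : G)).Coprime p := hgc.coprime_dvd_left hog
  have hrh : r ∣ orderOf (h : G) := by
    rw [Subgroup.orderOf_coe, ← hσ]
    exact orderOf_map_dvd f h
  have hrp : r ≠ p := fun e => hr.not_dvd_one (hhp.gcd_eq_one ▸ Nat.dvd_gcd hrh (e ▸ dvd_rfl))
  have hQp : IsPGroup p Q := S.2.to_le hQS
  -- nontrivial on the Frattini quotient
  have hΦ : ∀ q : Q, q ∈ frattini Q → f h q ∈ frattini Q := fun q hq =>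
    (frattini_characteristic (G := Q)).fixed (f h) |>.ge hq
  let τ : MulAut (Q ⧸ frattini Q) := QuotientGroup.congr _ _ (f h)
    (Subgroup.characteristic_iff_map_eq.1 inferInstance (f h))
  have hτr : τ ^ r = 1 := by
    refine MulEquiv.ext fun v => ?_
    obtain ⟨q, rfl⟩ := QuotientGroup.mk_surjective v
    have key : ∀ j : ℕ, (τ ^ j) (q : Q ⧸ frattini Q) = ((((f h) ^ j) q : Q) : Q ⧸ frattini Q) := by
      intro j
      induction j with
      | zero => rfl
      | succ j ih => rw [pow_succ', pow_succ', MulAut.mul_apply, MulAut.mul_apply, ih]; rfl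
    rw [key, ← hσ, pow_orderOf_eq_one]
    rfl
  have hτne : τ ≠ 1 := by
    intro e
    have hA : zpowers (h : G) ≤ normalizer (Q : Set G) := zpowers_le.2 h.2
    obtain ⟨a, ha⟩ := IsPGroup.iff_card.1 (hQp.to_subgroup (frattini Q))
    have hc := CfsgLib.Core.centralizes_of_centralizes_frattini_quotient hA
      (by rw [Nat.card_zpowers, ha]; exact hhp.pow_right a) (fun z hz k hk => by
        obtain ⟨j, rfl⟩ := mem_powers_iff_mem_zpowers.2 hz
        have key : ∀ i : ℕ, ∀ k : Q, (((f (h ^ i)) k : Q) : Q ⧸ frattini Q) = k := by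
          intro i
          induction i with
          | zero => intro k; simp
          | succ i ih =>
            intro k
            rw [pow_succ, map_mul, MulAut.mul_apply, ih]
            exact congrArg (fun t : MulAut (Q ⧸ frattini Q) => t (k : Q ⧸ frattini Q)) e
        have h1 := (QuotientGroup.eq.1 (key j ⟨k, hk⟩).symm)
        refine ⟨(f (h ^ j)) ⟨k, hk⟩ * ⟨k, hk⟩⁻¹, ?_, ?_⟩
        · exact (inferInstance : (frattini Q).Normal).mem_comm h1
        · rw [coe_subtype, coe_mul, coe_inv]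
          show ((h ^ j : normalizer (Q : Set G)) : G) * k * ((h ^ j : normalizer (Q : Set G)) : G)⁻¹ * k⁻¹ = _
          rw [SubgroupClass.coe_pow])
    have h1 : h ∈ f.ker := by
      rw [hf, normalizerMonoidHom_ker, mem_subgroupOf]
      exact hc (mem_zpowers _)
    rw [MonoidHom.mem_ker] at h1
    rw [h1, orderOf_one] at hσ
    exact hr.ne_one hσ.symm
  have hidx : Nat.card (Q ⧸ frattini Q) ≤ p ^ 2 := by
    obtain ⟨hm⟩ : Nonempty (Cfsg.IsMetacyclic Q → (closure (Set.range fun x : Q => x ^ p)).index ≤ p ^ 2) :=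
      ⟨CfsgLib.OddLocal.MetacyclicAction.index_powers_le⟩
    have hQm : Cfsg.IsMetacyclic (Q.subgroupOf (S : Subgroup G)) :=
      CfsgLib.OddLocal.MetacyclicAction.isMetacyclic_subgroup hS _
    obtain ⟨N, hN, hN1, hN2⟩ := hQm
    haveI := hN
    have hQm' : Cfsg.IsMetacyclic Q := by
      refine ⟨N.map (subgroupOfEquivOfLe hQS).toMonoidHom, hN.map _ (subgroupOfEquivOfLe hQS).surjective, ?_, ?_⟩
      · haveI := hN1
        exact isCyclic_of_surjective _ (MonoidHom.subgroupMap_surjective (subgroupOfEquivOfLe hQS).toMonoidHom N)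
      · haveI := hN2
        haveI := hN.map (subgroupOfEquivOfLe hQS).toMonoidHom (subgroupOfEquivOfLe hQS).surjective
        exact isCyclic_of_surjective _ (QuotientGroup.map_surjective_of_surjective N _
          (subgroupOfEquivOfLe hQS).toMonoidHom ((QuotientGroup.mk_surjective).comp (subgroupOfEquivOfLe hQS).surjective)
          (le_comap_map _ _))
    rw [← index_eq_card]
    exact (Nat.le_of_dvd (Nat.pos_of_ne_zero index_ne_zero_of_finite) (index_dvd_of_le ((closure_le _).2
      (Set.range_subset_iff.2 (CfsgLib.PGroups.pow_mem_frattini hQp))))).trans (hm hQm')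
  have hrsq := dvd_sq_sub_one hrp (hQp.to_quotient _) hidx τ hτr hτne
  -- `r` divides the index
  have hhN : (h : G) ∉ Cfsg.pPrimeCore p G → r ∣ (Cfsg.pPrimePCore p G).index := by
    intro _
    set π := QuotientGroup.mk' (Cfsg.pPrimeCore p G)
    have hrbar : r ∣ orderOf (π h) := by
      by_contra hn
      set k := orderOf (π h)
      have hk : ((h ^ k : normalizer (Q : Set G)) : G) ∈ Cfsg.pPrimeCore p G := by
        rw [SubgroupClass.coe_pow]
        exact (QuotientGroup.eq_one_iff _).1 (by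
          show π ((h : G) ^ k) = 1
          rw [map_pow, pow_orderOf_eq_one])
      have h1 : f (h ^ k) = 1 := by
        have hmem : h ^ k ∈ f.ker := by
          rw [hf, normalizerMonoidHom_ker, mem_subgroupOf]
          refine mem_centralizer_iff.2 fun q hq => ?_
          set t := ((h ^ k : normalizer (Q : Set G)) : G)
          obtain ⟨a, ha⟩ := IsPGroup.iff_card.1 hQp
          have h2 : q * t * q⁻¹ * t⁻¹ ∈ Q ⊓ Cfsg.pPrimeCore p G := by
            refine Subgroup.mem_inf.2 ⟨?_, mul_mem (Subgroup.Normal.conj_mem inferInstance _ hk q) (inv_mem hk)⟩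
            rw [mul_assoc q t, mul_assoc]
            exact mul_mem hq ((mem_normalizer_iff.1 (h ^ k).2 _).1 (inv_mem hq))
          rw [inf_eq_bot_of_coprime (by rw [ha]; exact ((coprime_card_pPrimeCore p G).pow_right a).symm),
            Subgroup.mem_bot, mul_inv_eq_one, mul_inv_eq_iff_eq_mul] at h2
          exact h2
        exact hmem
      rw [map_pow, ← orderOf_dvd_iff_pow_eq_one, hσ] at h1
      exact hn h1
    have hc := (Cfsg.pCore p (G ⧸ Cfsg.pPrimeCore p G)).index_mul_card
    obtain ⟨a, ha⟩ := IsPGroup.iff_card.1 (isPGroup_pCore p (G ⧸ Cfsg.pPrimeCore p G))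
    rw [Cfsg.pPrimePCore, index_comap_of_surjective _ (QuotientGroup.mk'_surjective _)]
    refine Nat.Coprime.dvd_of_dvd_mul_right (k := r) (n := Nat.card (Cfsg.pCore p (G ⧸ Cfsg.pPrimeCore p G))) ?_ ?_
    · rw [ha]
      exact ((Nat.coprime_primes hr hp).2 hrp).pow_right a
    rw [hc]
    exact hrbar.trans (orderOf_dvd_natCard _)
  by_cases hin : (h : G) ∈ Cfsg.pPrimeCore p G
  · have hmem : h ∈ f.ker := by
      rw [hf, normalizerMonoidHom_ker, mem_subgroupOf]
      refine mem_centralizer_iff.2 fun q hq => ?_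
      obtain ⟨a, ha⟩ := IsPGroup.iff_card.1 hQp
      have h2 : q * h * q⁻¹ * (h : G)⁻¹ ∈ Q ⊓ Cfsg.pPrimeCore p G := by
        refine Subgroup.mem_inf.2 ⟨?_, mul_mem (Subgroup.Normal.conj_mem inferInstance _ hin q) (inv_mem hin)⟩
        rw [mul_assoc q, mul_assoc]
        exact mul_mem hq ((mem_normalizer_iff.1 h.2 _).1 (inv_mem hq))
      rw [inf_eq_bot_of_coprime (by rw [ha]; exact ((coprime_card_pPrimeCore p G).pow_right a).symm),
        Subgroup.mem_bot, mul_inv_eq_one, mul_inv_eq_iff_eq_mul] at h2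
      exact h2
    rw [MonoidHom.mem_ker] at hmem
    rw [hmem, orderOf_one] at hσ
    exact hr.ne_one hσ.symm
  · exact hr.not_dvd_one ((Nat.Coprime.gcd_eq_one hcop) ▸ Nat.dvd_gcd
      (Subgroup.index_eq_card (Cfsg.pPrimePCore p G) ▸ hhN hin) hrsq)

end Cfsg.Agent.S4419
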