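import Cfsg.Statements.S4420
import Cfsg.Agent.Lib.Char.Burnside

set_option autoImplicit false
open Cfsg
open scoped Pointwise

namespace Cfsg.Agent.S4420

/-- Every element outside inverts `A`. -/
theorem inverts {H : Type*} [Group H] (A : Subgroup H) (hD : ∀ x : H, x ∉ A → x ^ 2 = 1) {x a : H}
    (hx : x ∉ A) (ha : a ∈ A) : x * a * x⁻¹ = a⁻¹ := by
  have hxx : x * x = 1 := by rw [← sq]; exact hD x hx
  have hxa : x * a ∉ A := fun h => hx (by simpa using A.mul_mem h (A.inv_mem ha))
  have h2 : (x * a) * (x * a) = 1 := by rw [← sq]; exact hD _ hxa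
  rw [inv_eq_of_mul_eq_one_right hxx]
  exact eq_inv_of_mul_eq_one_left (by simpa [mul_assoc] using h2)

/-- `A` is commutative. -/
theorem comm_of {H : Type*} [Group H] (A : Subgroup H) (hA : A ≠ ⊤) (hD : ∀ x : H, x ∉ A → x ^ 2 = 1)
    {a b : H} (ha : a ∈ A) (hb : b ∈ A) : a * b = b * a := by
  obtain ⟨x, -, hx⟩ := SetLike.exists_of_lt (lt_top_iff_ne_top.2 hA)
  have h := inverts A hD hx (A.mul_mem ha hb)
  have h2 : x * (a * b) * x⁻¹ = a⁻¹ * b⁻¹ := by
    rw [← inverts A hD hx ha, ← inverts A hD hx hb]; group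
  rw [h2, ← mul_inv_rev] at h
  exact (inv_injective h).symm

/-- Unless `H` is elementary abelian, `A` has index two. -/
theorem index_two {H : Type*} [Group H] (A : Subgroup H) (hA : A ≠ ⊤) (hD : ∀ x : H, x ∉ A → x ^ 2 = 1)
    (hne : ¬ (IsMulCommutative H ∧ ∀ x : H, x ^ 2 = 1)) : A.index = 2 := by
  by_contra hidx
  apply hne
  have hex : ∃ x y : H, x ∉ A ∧ y ∉ A ∧ x * y ∉ A := by
    by_contra hno
    push Not at hno
    refine hidx (Subgroup.index_eq_two_iff.2 ?_)
    obtain ⟨x, -, hx⟩ := SetLike.exists_of_lt (lt_top_iff_ne_top.2 hA)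
    refine ⟨x, fun b => ?_⟩
    by_cases hb : b ∈ A
    · exact Or.inr ⟨hb, fun h => hx (by simpa using A.mul_mem (A.inv_mem hb) h)⟩
    · exact Or.inl ⟨hno b x hb hx, hb⟩
  obtain ⟨x, y, hx, hy, hxy⟩ := hex
  have hsq : ∀ h : H, h ^ 2 = 1 := by
    intro h
    by_cases hh : h ∈ A
    · have e1 := inverts A hD hxy hh
      have e2 : x * y * h * (x * y)⁻¹ = h := by
        rw [show x * y * h * (x * y)⁻¹ = x * (y * h * y⁻¹) * x⁻¹ by group, inverts A hD hy hh,
          inverts A hD hx (A.inv_mem hh), inv_inv]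
      rw [e2] at e1
      rw [sq]
      nth_rewrite 2 [e1]
      exact mul_inv_cancel h
    · exact hD h hh
  refine ⟨⟨⟨fun a b => ?_⟩⟩, hsq⟩
  have key : ∀ g : H, g⁻¹ = g := fun g => inv_eq_of_mul_eq_one_right (by rw [← sq]; exact hsq g)
  calc a * b = (a * b)⁻¹ := (key _).symm
    _ = b * a := by rw [mul_inv_rev, key, key]

/-- Structure of groups in which every element outside some proper subgroup has square 1. Let H be a finite group with a proper subgroup A such that every element outside A has square 1. Then H has an abelian normal subgroup B of index 2 such that every element outside B is an involution inverting every element of B; and if H is not an elementary abelian 2-group, B is the only abelian normal subgroup of index 2 with this property. -/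
theorem result {H : Type*} [Group H] [Finite H] (A : Subgroup H) (hA : A ≠ ⊤) (hD : ∀ x : H, x ∉ A → x ^ 2 = 1) :
    ∃ B : Subgroup H, B.Normal ∧ IsMulCommutative ↥B ∧ B.index = 2 ∧
      (∀ x : H, x ∉ B → x ^ 2 = 1 ∧ ∀ b ∈ B, x * b * x⁻¹ = b⁻¹) ∧
      (¬ (IsMulCommutative H ∧ ∀ x : H, x ^ 2 = 1) →
        ∀ B' : Subgroup H, B'.Normal → IsMulCommutative ↥B' → B'.index = 2 →
          (∀ x : H, x ∉ B' → x ^ 2 = 1 ∧ ∀ b ∈ B', x * b * x⁻¹ = b⁻¹) → B' = B) := by
  by_cases hne : IsMulCommutative H ∧ ∀ x : H, x ^ 2 = 1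
  · obtain ⟨hc, hsq⟩ := hne
    haveI : Nontrivial H := by
      by_contra hn
      rw [not_nontrivial_iff_subsingleton] at hn
      exact hA (Subsingleton.elim _ _)
    obtain ⟨B, hB, -⟩ := (IsCoatomic.eq_top_or_exists_le_coatom (⊥ : Subgroup H)).resolve_left bot_ne_top
    have hcomm : ∀ a b : H, a * b = b * a := fun a b => hc.is_comm.comm a b
    have hBn : B.Normal := ⟨fun b hb g => by rwa [hcomm g b, mul_inv_cancel_right]⟩
    refine ⟨B, hBn, ⟨⟨fun a b => Subtype.ext (hcomm _ _)⟩⟩, ?_, fun x _ => ⟨hsq x, fun b _ => ?_⟩,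
      fun h => absurd ⟨hc, hsq⟩ h⟩
    · obtain ⟨x, -, hx⟩ := SetLike.exists_of_lt (lt_top_iff_ne_top.2 hB.1)
      refine Subgroup.index_eq_two_iff.2 ⟨x, fun b => ?_⟩
      by_cases hb : b ∈ B
      · exact Or.inr ⟨hb, fun h => hx (by simpa using B.mul_mem (B.inv_mem hb) h)⟩
      · refine Or.inl ⟨?_, hb⟩
        have htop : B ⊔ Subgroup.zpowers x = ⊤ := hB.2 _ (lt_of_le_of_ne le_sup_left fun h =>
          hx (h ▸ Subgroup.mem_sup_right (Subgroup.mem_zpowers x)))
        haveI := hBn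
        obtain ⟨c, hcB, w, ⟨i, rfl⟩, hcw⟩ := Subgroup.mem_sup_of_normal_left.1 (htop ▸ Subgroup.mem_top b)
        have hx2 : x ^ (2 : ℤ) = 1 := by exact_mod_cast hsq x
        rcases Int.emod_two_eq_zero_or_one i with hi | hi
        · exfalso
          apply hb
          rw [← hcw]
          change c * x ^ i ∈ B
          rw [← Int.mul_ediv_add_emod i 2, hi, add_zero, zpow_mul, hx2, one_zpow, mul_one]
          exact hcB
        · rw [← hcw]
          change c * x ^ i * x ∈ B
          rw [← Int.mul_ediv_add_emod i 2, hi, zpow_add, zpow_mul, hx2, one_zpow, one_mul, zpow_one, mul_assoc, ← sq, hsq, mul_one]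
          exact hcB
    · rw [hcomm x b, mul_inv_cancel_right]
      exact (inv_eq_of_mul_eq_one_right (by rw [← sq]; exact hsq b)).symm
  · have hidx := index_two A hA hD hne
    refine ⟨A, Subgroup.normal_of_index_eq_two hidx, ⟨⟨fun a b => Subtype.ext (comm_of A hA hD a.2 b.2)⟩⟩,
      hidx, fun x hx => ⟨hD x hx, fun b hb => inverts A hD hx hb⟩, fun _ B' _ _ hB'i hB' => ?_⟩
    by_contra hne'
    have hA' : A ⊓ B' ≠ ⊤ := fun h => hA (top_le_iff.1 (h ▸ inf_le_left))
    have hD' : ∀ x : H, x ∉ A ⊓ B' → x ^ 2 = 1 := by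
      intro x hx
      by_cases hxA : x ∈ A
      · exact (hB' x fun h => hx ⟨hxA, h⟩).1
      · exact hD x hxA
    have hi := index_two (A ⊓ B') hA' hD' hne
    have h1 := Subgroup.relIndex_mul_index (inf_le_left : A ⊓ B' ≤ A)
    rw [hidx, hi] at h1
    have h2 := Subgroup.relIndex_mul_index (inf_le_right : A ⊓ B' ≤ B')
    rw [hB'i, hi] at h2
    have hAB : A ≤ A ⊓ B' := Subgroup.relIndex_eq_one.1 (by omega)
    have hBA : B' ≤ A ⊓ B' := Subgroup.relIndex_eq_one.1 (by omega)
    exact hne' (le_antisymm (hBA.trans inf_le_left) (hAB.trans inf_le_right))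
end Cfsg.Agent.S4420
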