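import Cfsg.Statements.S4422
import Cfsg.Agent.Lib.HallGen.Counting

set_option autoImplicit false
open Cfsg
open scoped Pointwise

namespace Cfsg.Agent.S4422

/-- Primitive divisors of `q^e - 1` are congruent to 1 modulo `e`. Let `q ≥ 2` and `e ≥ 1` be natural numbers and let `m` be a divisor of `q^e - 1` that is coprime to `q^i - 1` for every `1 ≤ i < e` (so `m` divides the primitive part of `q^e - 1`, the largest such divisor). Then `m ≡ 1 (mod e)`. -/
theorem result (q e m : ℕ) (hq : 2 ≤ q) (he : 1 ≤ e)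
    (hm : m ∣ q ^ e - 1) (hcop : ∀ i : ℕ, 1 ≤ i → i < e → Nat.Coprime m (q ^ i - 1)) :
    m % e = 1 % e := by
  have hne : q ^ e - 1 ≠ 0 := Nat.sub_ne_zero_of_lt (Nat.one_lt_pow (by omega) (by omega))
  have hm0 : m ≠ 0 := fun h => hne (zero_dvd_iff.1 (h ▸ hm))
  have hr : ∀ r : ℕ, r.Prime → r ∣ m → r % e = 1 % e := by
    intro r hr hrm
    haveI := Fact.mk hr
    have h1 : ((q : ZMod r)) ^ e = 1 := by
      have h2 : ((q ^ e - 1 : ℕ) : ZMod r) = 0 := (ZMod.natCast_eq_zero_iff _ _).2 (hrm.trans hm)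
      rw [Nat.cast_sub (Nat.one_le_pow _ _ (by omega)), sub_eq_zero] at h2
      simpa using h2
    have hord : orderOf (q : ZMod r) = e := by
      rw [orderOf_eq_iff (by omega)]
      refine ⟨h1, fun i hi hi0 h => ?_⟩
      have hd : r ∣ q ^ i - 1 := by
        rw [← ZMod.natCast_eq_zero_iff, Nat.cast_sub (Nat.one_le_pow _ _ (by omega))]
        simp [h]
      exact hr.one_lt.ne' (Nat.eq_one_of_dvd_coprimes (hcop i hi0 hi) hrm hd)
    have hq0 : (q : ZMod r) ≠ 0 := fun h => by
      rw [h, zero_pow (by omega)] at h1; exact zero_ne_one h1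
    have hdvd : e ∣ r - 1 := hord ▸ ZMod.orderOf_dvd_card_sub_one hq0
    exact ((Nat.modEq_iff_dvd' hr.one_lt.le).2 hdvd).symm
  clear hm hcop hne
  induction m using Nat.recOnMul with
  | zero => exact absurd rfl hm0
  | one => rfl
  | prime p hp => exact hr p hp dvd_rfl
  | mul a b iha ihb =>
    have ha := iha (left_ne_zero_of_mul hm0) fun r h h' => hr r h (h'.mul_right b)
    have hb := ihb (right_ne_zero_of_mul hm0) fun r h h' => hr r h (h'.mul_left a)
    rw [Nat.mul_mod, ha, hb, ← Nat.mul_mod]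
end Cfsg.Agent.S4422
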