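import Cfsg.Statements.S4423
import Cfsg.Agent.Lib.LocalEven.PrimitivePart

set_option autoImplicit false
open Cfsg

namespace Cfsg.Agent.S4423

/-- The primitive part divides `P` when `q ^ e - 1` divides `P` times a power of the earlier values. -/
theorem table_excl : ∀ t ∈ [((2, 6), 1), ((2, 4), 5), ((2, 10), 11), ((2, 12), 13), ((2, 18), 19), ((3, 4), 5),
    ((3, 6), 7), ((5, 6), 7), ((2, 3), 7), ((2, 8), 17), ((2, 20), 41), ((4, 3), 7), ((4, 6), 13)],
    t.2 ≤ 2 * t.1.2 + 1 ∧ 0 < t.2 ∧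
      t.1.1 ^ t.1.2 - 1 ∣ t.2 * ((List.range' 1 (t.1.2 - 1)).map fun i => (t.1.1 ^ i - 1) ^ 20).prod := by
  decide +kernel

/-- Size of the primitive part of `q^e - 1`. For a prime power `q` and `e ≥ 3`, call a divisor of `q^e - 1` primitive when it is coprime to `q^i - 1` for every `1 ≤ i < e`; the primitive part is the largest primitive divisor. Apart from thirteen exceptional pairs, the primitive part is at least `3e + 1`: there is a primitive divisor `m ≥ 3e + 1` unless `(q, e)` is `(2, 6)` (where every primitive divisor is 1), one of `(2,4), (2,10), (2,12), (2,18), (3,4), (3,6), (5,6)` (where the primitive part is exactly `e + 1`), or one of `(2,3), (2,8), (2,20), (4,3), (4,6)` (where it is exactly `2e + 1`). The statement asserts the existence of a primitive divisor `m ≥ 3e + 1` outside the thirteen pairs, and that every primitive divisor is at most `2e + 1` for the thirteen pairs. -/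
theorem result (q e : ℕ) (hq : IsPrimePow q) (he : 3 ≤ e) :
    ((q, e) ∉ [(2, 6), (2, 4), (2, 10), (2, 12), (2, 18), (3, 4), (3, 6), (5, 6), (2, 3), (2, 8), (2, 20), (4, 3), (4, 6)] →
      ∃ m : ℕ, m ∣ q ^ e - 1 ∧ (∀ i : ℕ, 1 ≤ i → i < e → Nat.Coprime m (q ^ i - 1)) ∧ 3 * e + 1 ≤ m) ∧
    ((q, e) ∈ [(2, 6), (2, 4), (2, 10), (2, 12), (2, 18), (3, 4), (3, 6), (5, 6), (2, 3), (2, 8), (2, 20), (4, 3), (4, 6)] →
      ∀ m : ℕ, m ∣ q ^ e - 1 → (∀ i : ℕ, 1 ≤ i → i < e → Nat.Coprime m (q ^ i - 1)) → m ≤ 2 * e + 1) := by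
  refine ⟨fun h => ((CfsgLib.PrimitivePart.big_or_excl hq.two_le he).resolve_left h), fun h m hm hcop => ?_⟩
  obtain ⟨t, ht, hte⟩ : ∃ t ∈ [((2, 6), 1), ((2, 4), 5), ((2, 10), 11), ((2, 12), 13), ((2, 18), 19), ((3, 4), 5),
      ((3, 6), 7), ((5, 6), 7), ((2, 3), 7), ((2, 8), 17), ((2, 20), 41), ((4, 3), 7), ((4, 6), 13)],
      t.1 = (q, e) := by
    simp only [List.mem_cons, Prod.mk.injEq, List.not_mem_nil, or_false] at h
    rcases h with h | h | h | h | h | h | h | h | h | h | h | h | h <;> (obtain ⟨rfl, rfl⟩ := h; decide)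
  obtain ⟨h1, h0, h2⟩ := table_excl t ht
  rw [hte] at h1 h2
  have hc : Nat.Coprime m (((List.range' 1 (e - 1)).map fun i => (q ^ i - 1) ^ 20).prod) := by
    refine Nat.coprime_list_prod_right_iff.2 fun n hn => ?_
    obtain ⟨i, hi, rfl⟩ := List.mem_map.1 hn
    rw [List.mem_range'_1] at hi
    exact (hcop i (by omega) (by omega)).pow_right 20
  exact (Nat.le_of_dvd h0 (hc.dvd_of_dvd_mul_right (hm.trans h2))).trans h1

end Cfsg.Agent.S4423
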