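import Cfsg.Statements.S4425
import Cfsg.Agent.Lib.CharAction.RegBlock

set_option autoImplicit false
open Cfsg CfsgLib.CharAction CfsgLib.Char CfsgLib.Blocks

namespace Cfsg.Agent.S4425

/-- Let χ be an irreducible character of the finite group G, p a prime, p^a the p-part of the order of G and p^b the p-part of the degree χ(1). Let χ̃ be the class function equal to p^a · χ on p-regular elements and zero on p-singular elements. Then p^(−b) · χ̃ is a generalized character of G, while p^(−(b+1)) · χ̃ is not. -/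
theorem result {G : Type*} [Group G] [Finite G] (p : ℕ) [Fact p.Prime] (χ : Cfsg.IrrCharacter G) : Cfsg.IsGeneralizedCharacter G (fun x : G => if p ∣ orderOf x then (0 : ℂ) else ((p ^ ((Nat.card G).factorization p - (Cfsg.charDegree (χ : G → ℂ)).factorization p) : ℕ) : ℂ) * (χ : G → ℂ) x) ∧ ¬ Cfsg.IsGeneralizedCharacter G (fun x : G => if p ∣ orderOf x then (0 : ℂ) else ((p ^ (Nat.card G).factorization p : ℕ) : ℂ) / ((p ^ ((Cfsg.charDegree (χ : G → ℂ)).factorization p + 1) : ℕ) : ℂ) * (χ : G → ℂ) x) := by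
  classical
  have := Fintype.ofFinite G
  set a := (Nat.card G).factorization p
  set b := (Cfsg.charDegree (χ : G → ℂ)).factorization p
  refine ⟨?_, fun h => ?_⟩
  · refine (congrArg (Cfsg.IsGeneralizedCharacter G) (funext fun x => ?_)).mp
      (isGen_pow_regCut (p := p) Fact.out χ (c := a - b) (by omega))
    rw [regCut]
    split <;> simp [*]
  · obtain ⟨m, hm⟩ := pow_dvd_apply_one_of_vanish (p := p) h fun g hg => if_pos hg
    rw [if_neg (by simpa using (Fact.out : p.Prime).ne_one),
      apply_one_eq_charDegree χ] at hm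
    have hp0 : (p : ℂ) ≠ 0 := Nat.cast_ne_zero.2 (Fact.out : p.Prime).ne_zero
    have h3 : ((Cfsg.charDegree (χ : G → ℂ) : ℕ) : ℂ) = (p : ℂ) ^ (b + 1) * m := by
      push_cast at hm
      rw [div_mul_eq_mul_div, div_eq_iff (pow_ne_zero _ hp0)] at hm
      refine mul_left_cancel₀ (pow_ne_zero a hp0) ?_
      linear_combination hm
    have h4 : ((p ^ (b + 1) : ℕ) : ℤ) ∣ (Cfsg.charDegree (χ : G → ℂ) : ℤ) :=
      ⟨m, by push_cast; exact_mod_cast h3⟩
    exact Nat.pow_succ_factorization_not_dvd (charDegree_pos χ).ne' Fact.out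
      (Int.natCast_dvd_natCast.1 h4)

end Cfsg.Agent.S4425
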