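import Cfsg.Statements.S4430
import Cfsg.Agent.Lib.Blocks.DefectNumber
import Cfsg.Agent.Lib.Blocks.Induced
import Cfsg.Agent.Lib.Char.Induced
import Mathlib.Tactic.LinearCombination
-- import your own Cfsg.Agent.* helpers here

set_option autoImplicit false
open Cfsg CfsgLib.Blocks

namespace Cfsg.Agent.S4430

/-- Let H be a subgroup of the finite group G, b a block of H whose induced block B₀ in G is defined (relative to a maximal ideal M of the algebraic integers containing p), and ξ ∈ b. For a block B of G let n_B be the value at 1 of the B-part of the induced character ξ^G (a natural number: the sum over χ ∈ B of the multiplicity of χ in ξ^G times χ(1)). Then for B = B₀ the exact power of p dividing n_B equals the exact power of p dividing ξ^G(1), while for every other block B either n_B = 0 or n_B is divisible by a strictly higher power of p than ξ^G(1). -/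
theorem result {G : Type*} [Group G] [Fintype G] (p : ℕ) [Fact p.Prime] (M : Ideal Cfsg.AlgInt) (hM : Cfsg.IsPModular p M) (H : Subgroup G) [Fintype H] (b : Set (Cfsg.IrrCharacter H)) (B₀ : Set (Cfsg.IrrCharacter G)) (hind : Cfsg.IsInducedBlock M H b B₀) (ξ : Cfsg.IrrCharacter H) (hξ : ξ ∈ b) : (∃ n : ℕ, Cfsg.blockPart B₀ (Cfsg.indFun H (ξ : H → ℂ)) 1 = (n : ℂ) ∧ n ≠ 0 ∧ n.factorization p = (Cfsg.charDegree (Cfsg.indFun H (ξ : H → ℂ))).factorization p) ∧ ∀ B : Set (Cfsg.IrrCharacter G), Cfsg.IsPBlock M B → B ≠ B₀ → ∃ n : ℕ, Cfsg.blockPart B (Cfsg.indFun H (ξ : H → ℂ)) 1 = (n : ℂ) ∧ (n = 0 ∨ (Cfsg.charDegree (Cfsg.indFun H (ξ : H → ℂ))).factorization p < n.factorization p) := by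
  classical
  have := hM.2.1.isPrime
  have hp : p.Prime := Fact.out
  have := charP_residueField hM
  obtain ⟨hb, hB₀, hω⟩ := isInducedBlock_iff.1 hind
  set D : ℕ := H.index * charDegree (ξ : H → ℂ) with hD
  have hD0 : D ≠ 0 := mul_ne_zero Subgroup.index_ne_zero_of_finite (charDegree_pos ξ).ne'
  have hind1 : indFun H (ξ : H → ℂ) 1 = (D : ℂ) := by
    rw [CfsgLib.Char.indFun_apply_one, apply_one_eq_charDegree ξ, hD, Nat.cast_mul]
  have hdeg : charDegree (indFun H (ξ : H → ℂ)) = D := by
    simp [charDegree, hind1]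
  rw [hdeg]
  have key : ∀ B : Set (IrrCharacter G), IsPBlock M B → ∃ (n : ℕ) (z : localRing M),
      blockPart B (indFun H (ξ : H → ℂ)) 1 = (n : ℂ) ∧ (n : ℂ) = (D : ℂ) * (z : ℂ) ∧
        resHom M z = omegaBar ξ (resElt H (blockIdemBar M B)) := by
    intro B hB
    have hch := CfsgLib.Char.isCharacter_indFun (G := G) (H := H)
      (CfsgLib.Char.IsIrr.isCharacter ξ.2)
    have hm : ∀ χ : IrrCharacter G, ∃ m : ℕ,
        classInner (indFun H (ξ : H → ℂ)) (χ : G → ℂ) = (m : ℂ) := fun χ =>
      CfsgLib.Char.IsChar.classInner_eq_natCast hch (CfsgLib.Char.IsIrr.isCharacter χ.2)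
    choose m hm using hm
    have hc := isCentralElt_resElt H (isCentralElt_blockIdemO (M := M) hB)
    have hval : blockPart B (indFun H (ξ : H → ℂ)) 1 =
        ((∑ χ ∈ (Set.toFinite B).toFinset, m χ * charDegree (χ : G → ℂ) : ℕ) : ℂ) := by
      rw [blockPart_eq, Nat.cast_sum, finsum_mem_eq_finite_toFinset_sum _ (Set.toFinite B)]
      exact Finset.sum_congr rfl fun χ _ => by
        rw [hm, apply_one_eq_charDegree χ, Nat.cast_mul]
    refine ⟨_, ⟨_, omega_inc_mem ξ hc⟩, hval, ?_, ?_⟩
    · rw [← hval, blockPart_eq, finsum_mem_eq_finite_toFinset_sum _ (Set.toFinite B)]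
      have h1 : ∀ χ ∈ (Set.toFinite B).toFinset,
          classInner (indFun H (ξ : H → ℂ)) (χ : G → ℂ) * (χ : G → ℂ) 1 =
            (Nat.card H : ℂ)⁻¹ * ∑ h : H,
              (ξ : H → ℂ) h * ((χ : G → ℂ) 1 * starRingEnd ℂ ((χ : G → ℂ) h)) := fun χ _ => by
        rw [CfsgLib.Char.frobenius_reciprocity H _ (CfsgLib.Char.IsIrr.isClassFunction χ.2),
          classInner, mul_assoc, Finset.sum_mul]
        exact congrArg _ (Finset.sum_congr rfl fun h _ => by ring)
      rw [Finset.sum_congr rfl h1, ← Finset.mul_sum, Finset.sum_comm]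
      simp only [← Finset.mul_sum, omega_apply]
      have h2 : ∀ h : H, (inc M (resElt H (blockIdemO M B))).coeff h =
          (Nat.card G : ℂ)⁻¹ * ∑ χ ∈ (Set.toFinite B).toFinset,
            (χ : G → ℂ) 1 * starRingEnd ℂ ((χ : G → ℂ) h) := fun h => by
        rw [coeff_inc, coeff_resElt, ← coeff_inc, inc_blockIdemO hB, coeff_blockIdem, blockCoeff,
          finsum_mem_eq_finite_toFinset_sum _ (Set.toFinite B)]
      simp only [h2, mul_assoc, ← Finset.mul_sum]
      have hξ1 := CfsgLib.Char.IsIrr.apply_one_ne_zero ξ.2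
      have hG0 : (Nat.card G : ℂ) ≠ 0 := Nat.cast_ne_zero.2 Nat.card_pos.ne'
      have hH0 : (Nat.card H : ℂ) ≠ 0 := Nat.cast_ne_zero.2 Nat.card_pos.ne'
      rw [hD, Nat.cast_mul, ← apply_one_eq_charDegree ξ,
        ← H.index_mul_card, Nat.cast_mul]
      have hi0 : (H.index : ℂ) ≠ 0 := Nat.cast_ne_zero.2 Subgroup.index_ne_zero_of_finite
      rw [Finset.sum_congr rfl fun h _ => mul_comm ((ξ : H → ℂ) h) _]
      field_simp
    · rw [← omegaBar_red ξ hc]
      congr 1
      refine MonoidAlgebra.ext (Finsupp.ext fun h => ?_)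
      rw [coeff_red, coeff_resElt, coeff_resElt, blockIdemBar, coeff_red]
  have hval : ∀ (n : ℕ) (z : localRing M), (n : ℂ) = (D : ℂ) * (z : ℂ) → n ≠ 0 →
      (resHom M z = 0 ∧ D.factorization p < n.factorization p) ∨
      (resHom M z ≠ 0 ∧ n.factorization p = D.factorization p) := by
    intro n z hz hn
    obtain ⟨r, hr, hrp⟩ := exists_factorization (p := p) hD0
    obtain ⟨s, hs, hsp⟩ := exists_factorization (p := p) hn
    set i := D.factorization p
    set j := n.factorization p
    rw [hr, hs] at hz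
    push_cast at hz
    have hp0 : (p : ℂ) ≠ 0 := Nat.cast_ne_zero.2 hp.ne_zero
    have hr' : resHom M ((r : ℕ) : localRing M) ≠ 0 :=
      (((isUnit_natCast_iff hM).2 hrp).map (resHom M)).ne_zero
    have hs' : resHom M ((s : ℕ) : localRing M) ≠ 0 :=
      (((isUnit_natCast_iff hM).2 hsp).map (resHom M)).ne_zero
    have hpres : resHom M ((p : ℕ) : localRing M) = 0 := residue_natCast_self hM
    rcases Nat.lt_trichotomy j i with h | h | h
    · obtain ⟨k, hk⟩ := Nat.exists_eq_add_of_lt h
      have : ((s : ℕ) : localRing M) = (p : localRing M) ^ (k + 1) * (r : localRing M) * z := by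
        refine Subtype.ext (mul_left_cancel₀ (pow_ne_zero j hp0) ?_)
        rw [hk] at hz
        push_cast
        rw [hz, show j + k + 1 = j + (k + 1) from by omega, pow_add]
        ring
      exact absurd (by rw [this, map_mul, map_mul, map_pow, hpres, zero_pow (by omega), zero_mul,
        zero_mul]) hs'
    · refine .inr ⟨fun hz0 => hs' ?_, h⟩
      have : ((s : ℕ) : localRing M) = (r : localRing M) * z := by
        refine Subtype.ext (mul_left_cancel₀ (pow_ne_zero j hp0) ?_)
        push_cast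
        rw [hz, h, mul_assoc]
      rw [this, map_mul, hz0, mul_zero]
    · refine .inl ⟨?_, h⟩
      obtain ⟨k, hk⟩ := Nat.exists_eq_add_of_lt h
      have : (p : localRing M) ^ (k + 1) * (s : localRing M) = (r : localRing M) * z := by
        refine Subtype.ext (mul_left_cancel₀ (pow_ne_zero i hp0) ?_)
        rw [hk] at hz
        push_cast
        rw [← mul_assoc, ← pow_add, show i + (k + 1) = i + k + 1 from by omega, hz, mul_assoc]
      have h2 := congrArg (resHom M) this
      rw [map_mul, map_mul, map_pow, hpres, zero_pow (by omega), zero_mul] at h2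
      exact (mul_eq_zero.1 h2.symm).resolve_left hr'
  refine ⟨?_, fun B hB hne => ?_⟩
  · obtain ⟨n, z, hn, hz, hres⟩ := key B₀ hB₀
    obtain ⟨χ, hχ⟩ := IsPBlock.nonempty hB₀
    rw [hω ξ hξ χ hχ _ (isCentralElt_blockIdemBar hB₀), omegaBar_blockIdemBar hB₀ χ, if_pos hχ]
      at hres
    have hn0 : n ≠ 0 := by
      rintro rfl
      rw [Nat.cast_zero] at hz
      have hz0 : z = 0 := Subtype.ext
        ((mul_eq_zero.1 hz.symm).resolve_left (Nat.cast_ne_zero.2 hD0))
      rw [hz0, map_zero] at hres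
      exact zero_ne_one hres
    rcases hval n z hz hn0 with ⟨h, -⟩ | ⟨-, h⟩
    · rw [h] at hres
      exact absurd hres zero_ne_one
    · exact ⟨n, hn, hn0, h⟩
  · obtain ⟨n, z, hn, hz, hres⟩ := key B hB
    refine ⟨n, hn, or_iff_not_imp_left.2 fun hn0 => ?_⟩
    obtain ⟨χ, hχ⟩ := IsPBlock.nonempty hB₀
    rw [hω ξ hξ χ hχ _ (isCentralElt_blockIdemBar hB), omegaBar_blockIdemBar hB χ,
      if_neg (fun h => hne (IsPBlock.eq_of_mem hB hB₀ h hχ))] at hres
    rcases hval n z hz hn0 with ⟨-, h⟩ | ⟨h, -⟩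
    · exact h
    · exact absurd hres h

end Cfsg.Agent.S4430
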