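import Cfsg.Statements.S4431
import Cfsg.Agent.Lib.Blocks.HeightZero
import Mathlib.Tactic.LinearCombination
-- import your own Cfsg.Agent.* helpers here

set_option autoImplicit false
open Cfsg CfsgLib.Blocks

namespace Cfsg.Agent.S4431

/-- Let H be a subgroup of the finite group G and b a block of H whose induced block B₀ in G is defined (relative to a maximal ideal M of the algebraic integers containing p). Let χ be an irreducible character of G, ψ ∈ b, and let η be the class function on H equal to p^a · χ on the p-regular elements of H and zero elsewhere, p^a being the p-part of the order of H. Then (a) if χ ∉ B₀, the number [η, ψ]/ψ(1) lies in the local ideal at M; (b) if χ ∈ B₀ has height zero, it does not. -/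
theorem result {G : Type*} [Group G] [Fintype G] (p : ℕ) [Fact p.Prime] (M : Ideal Cfsg.AlgInt) (hM : Cfsg.IsPModular p M) (H : Subgroup G) [Fintype H] (b : Set (Cfsg.IrrCharacter H)) (B₀ : Set (Cfsg.IrrCharacter G)) (hind : Cfsg.IsInducedBlock M H b B₀) (χ : Cfsg.IrrCharacter G) (ψ : Cfsg.IrrCharacter H) (hψ : ψ ∈ b) : (χ ∉ B₀ → Cfsg.MemLocalIdeal M (Cfsg.classInner (fun h : H => if p ∣ orderOf h then (0 : ℂ) else ((p ^ (Nat.card H).factorization p : ℕ) : ℂ) * (χ : G → ℂ) h) (ψ : H → ℂ) / (ψ : H → ℂ) 1)) ∧ (χ ∈ B₀ → Cfsg.blockHeight p B₀ (χ : G → ℂ) = 0 → ¬ Cfsg.MemLocalIdeal M (Cfsg.classInner (fun h : H => if p ∣ orderOf h then (0 : ℂ) else ((p ^ (Nat.card H).factorization p : ℕ) : ℂ) * (χ : G → ℂ) h) (ψ : H → ℂ) / (ψ : H → ℂ) 1)) := by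
  classical
  have := hM.2.1.isPrime
  have hp : p.Prime := Fact.out
  obtain ⟨hb, hB₀, hω⟩ := isInducedBlock_iff.1 hind
  obtain ⟨r, hr, hrp⟩ := exists_factorization (p := p) (Nat.card_pos (α := H)).ne'
  have hint := CfsgLib.Char.IsChar.isIntegral (CfsgLib.Char.IsIrr.isCharacter χ.2)
  have hcl : IsClassFunction H (fun h : H => (χ : G → ℂ) h) := fun g x => by
    exact CfsgLib.Char.IsIrr.isClassFunction χ.2 (g : G) (x : G)
  have hc := isCentralElt_regElt (p := p) (M := M) hcl (fun h => hint h)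
  let u : localRing M := ⟨(r : ℂ)⁻¹, inv_natCast_mem hM hrp⟩
  let w : localRing M := ⟨_, omega_inc_mem ψ hc⟩
  have hval : classInner (fun h : H => if p ∣ orderOf h then (0 : ℂ) else
      ((p ^ (Nat.card H).factorization p : ℕ) : ℂ) * (χ : G → ℂ) h) (ψ : H → ℂ) / (ψ : H → ℂ) 1 =
      ((u * w : localRing M) : ℂ) := by
    simp only [u, w, Subring.coe_mul, omega_apply]
    have hq : ((p ^ (Nat.card H).factorization p : ℕ) : ℂ) ≠ 0 :=
      Nat.cast_ne_zero.2 (pow_ne_zero _ hp.ne_zero)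
    have hH : (Nat.card H : ℂ)⁻¹ = ((p ^ (Nat.card H).factorization p : ℕ) : ℂ)⁻¹ * (r : ℂ)⁻¹ := by
      rw [← mul_inv, ← Nat.cast_mul, ← hr]
    rw [classInner, ← mul_div_assoc, hH]
    congr 1
    rw [Finset.mul_sum, Finset.mul_sum]
    refine Fintype.sum_equiv (Equiv.inv H) _ _ fun x => ?_
    simp only [Equiv.inv_apply, coeff_inc, coeff_regElt, orderOf_inv, inv_inv]
    rw [CfsgLib.Char.IsIrr.map_inv ψ.2]
    split_ifs
    · simp
    · field_simp
  have hres : ∀ η ∈ B₀, resHom M w = omegaBar η (red M (regElt (p := p) (χ : G → ℂ) hint)) :=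
    fun η hη => by
      rw [← omegaBar_red ψ hc, ← resElt_red_regElt (χ : G → ℂ) hint,
        hω ψ hψ η hη _ (isCentralElt_red
          (isCentralElt_regElt (CfsgLib.Char.IsIrr.isClassFunction χ.2) hint))]
  have hu : resHom M u ≠ 0 := by
    intro h0
    have h1 : u * (r : localRing M) = 1 := Subtype.ext (by
      simp only [u, Subring.coe_mul, Subring.coe_one, SubringClass.coe_natCast]
      exact inv_mul_cancel₀ (Nat.cast_ne_zero.2 fun e => hrp (e ▸ dvd_zero p)))
    have h2 := congrArg (resHom M) h1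
    rw [map_mul, h0, zero_mul, map_one] at h2
    exact zero_ne_one h2
  rw [hval]
  refine ⟨fun hχ => ?_, fun hχ h0 => ?_⟩
  · obtain ⟨η, hη⟩ := IsPBlock.nonempty hB₀
    rw [← residue_eq_zero_iff]
    show resHom M (u * w) = 0
    rw [map_mul, hres η hη, omegaBar_regElt_eq_zero hM fun h => hχ ?_, mul_zero]
    rw [IsPBlock.eq_blockOf hB₀ hη]
    exact h
  · rw [← residue_eq_zero_iff]
    show ¬ resHom M (u * w) = 0
    rw [map_mul, hres χ hχ, mul_eq_zero]
    exact not_or.2 ⟨hu, omegaBar_regElt_ne_zero hM hB₀ hχ h0⟩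

end Cfsg.Agent.S4431
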