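import Cfsg.Statements.S4434
import Cfsg.Agent.Lib.Blocks.QuotientDefect

set_option autoImplicit false
open Cfsg

namespace Cfsg.Agent.S4434

/-- Let N be a normal p-subgroup of the finite group G and write Ḡ = G/N; fix a maximal ideal M of the algebraic integers containing p. Then every block B of G contains a block B̄ of Ḡ (the inflation of every member of B̄ lies in B) whose defect groups are exactly the images in Ḡ of the defect groups of B. -/
theorem result {G : Type*} [Group G] [Finite G] (p : ℕ) [Fact p.Prime] (M : Ideal Cfsg.AlgInt) (hM : Cfsg.IsPModular p M) (N : Subgroup G) [N.Normal] (hN : IsPGroup p N) (B : Set (Cfsg.IrrCharacter G)) (hB : Cfsg.IsPBlock M B) : ∃ Bbar : Set (Cfsg.IrrCharacter (G ⧸ N)), Cfsg.IsPBlock M Bbar ∧ (∀ χ ∈ Bbar, ∀ ψ : Cfsg.IrrCharacter G, (ψ : G → ℂ) = (χ : G ⧸ N → ℂ) ∘ QuotientGroup.mk → ψ ∈ B) ∧ ∀ Dbar : Subgroup (G ⧸ N), Cfsg.IsDefectGroup p M Bbar Dbar ↔ ∃ P : Subgroup G,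 Cfsg.IsDefectGroup p M B P ∧ Dbar = P.map (QuotientGroup.mk' N) := by
  classical
  have := Fintype.ofFinite G
  have := Fintype.ofFinite (G ⧸ N)
  have : M.IsPrime := hM.2.1.isPrime
  have : Fact p.Prime := ⟨hM.1⟩
  obtain ⟨P, hP⟩ := CfsgLib.Blocks.exists_isDefectGroup (p := p) hB
  obtain ⟨Bq, χ, D, hBq, hχ, hχB, hD, hPD⟩ :=
    CfsgLib.Blocks.exists_quotient_block N hM hN hB hP
  refine ⟨Bq, hBq, fun η hη ψ hψ => ?_, fun D' => ⟨fun hD' => ?_, ?_⟩⟩
  · have h := CfsgLib.Blocks.sameBlock_inflate (M := M) N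
      (CfsgLib.Blocks.IsPBlock.sameBlock hBq hχ hη)
    have hψ' : ψ = CfsgLib.Blocks.inflate N η := Subtype.ext hψ
    rw [CfsgLib.Blocks.IsPBlock.eq_blockOf hB hχB, hψ']
    exact h
  · have h1 := CfsgLib.Blocks.subConj_defectGroup_quotient N hM hBq hB hχ hχB hD' hP
    obtain ⟨q, hq⟩ := CfsgLib.Blocks.SubConj.exists_map_eq
      (hPD.trans (CfsgLib.Blocks.IsDefectGroup.subConj hM hBq hD hD')) h1
    obtain ⟨x, rfl⟩ := QuotientGroup.mk_surjective q
    refine ⟨P.map (MulAut.conj x).toMonoidHom, CfsgLib.Blocks.IsDefectGroup.map_conj hP _, ?_⟩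
    rw [← hq, Subgroup.map_map, Subgroup.map_map]
    congr 1
  · rintro ⟨P', hP', rfl⟩
    have h1 := CfsgLib.Blocks.subConj_defectGroup_quotient N hM hBq hB hχ hχB hD hP'
    obtain ⟨y, hy⟩ := CfsgLib.Blocks.IsDefectGroup.subConj hM hB hP' hP
    have h2 : CfsgLib.Blocks.SubConj (P'.map (QuotientGroup.mk' N)) (P.map (QuotientGroup.mk' N)) := by
      refine ⟨(y : G ⧸ N), ?_⟩
      rintro _ ⟨u, hu, rfl⟩
      exact ⟨_, hy u hu, by simp⟩
    obtain ⟨z, hz⟩ := CfsgLib.Blocks.SubConj.exists_map_eq h1 (h2.trans hPD)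
    exact hz ▸ CfsgLib.Blocks.IsDefectGroup.map_conj hD z

end Cfsg.Agent.S4434
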