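import Cfsg.Statements.S4435
import Cfsg.Agent.Lib.Blocks.FongReynolds
-- import your own Cfsg.Agent.* helpers here

set_option autoImplicit false
open Cfsg

namespace Cfsg.Agent.S4435

open CfsgLib.Blocks

/-- Let N be a normal subgroup of the finite group G, b a block of N (relative to a maximal ideal M of the algebraic integers containing p), and T the stabilizer of b in G (the elements g such that conjugating any member of b by g gives a member of b); N ≤ T. Say that a block of T (or of G) covers b when some member has a constituent in b on restriction to N. Then: (i) every block B′ of T covering b induces a block B of G, B covers b, every ψ ∈ B′ induces to an irreducible character of G, and B consists exactly of the characters induced from members of B′; (ii) distinct blocks of T covering b induce distinct blocks of G; (iii) every block of G covering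 b is induced by some block of T covering b. -/
theorem result {G : Type*} [Group G] [Fintype G] (p : ℕ) [Fact p.Prime] (M : Ideal Cfsg.AlgInt) (hM : Cfsg.IsPModular p M) (N : Subgroup G) [hN : N.Normal] [Fintype N] (b : Set (Cfsg.IrrCharacter N)) (hb : Cfsg.IsPBlock M b) (T : Subgroup G) [Fintype T] (hT : ∀ g : G, g ∈ T ↔ ∀ θ ∈ b, ∀ θ' : Cfsg.IrrCharacter N, (∀ n : N, (θ' : N → ℂ) n = (θ : N → ℂ) ⟨g * n * g⁻¹, hN.conj_mem n n.2 g⟩) → θ' ∈ b) (hNT : N ≤ T) : (∀ B' : Set (Cfsg.IrrCharacter T), Cfsg.IsPBlock M B' → (∃ ψ ∈ B', ∃ θ ∈ b, Cfsg.classInner (fun n : N => (ψ : T → ℂ) ⟨(n : G), hNT n.2⟩) (θ : N → ℂ) ≠ 0) → ∃ B : Set (Cfsg.IrrCharacter G), Cfsg.IsInducedBlock M T B' B ∧ (∃ χ ∈ B, ∃ θ ∈ b, Cfsg.classInner (fun n : N => (χ : G → ℂ) n) (θ : N → ℂ) ≠ 0) ∧ (∀ ψ ∈ B', Cfsg.IsIrrCharacter G (Cfsg.indFun T (ψ : T → ℂ))) ∧ ∀ χ : Cfsg.IrrCharacter G, χ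 ∈ B ↔ ∃ ψ ∈ B', (χ : G → ℂ) = Cfsg.indFun T (ψ : T → ℂ)) ∧ (∀ B'₁ B'₂ : Set (Cfsg.IrrCharacter T), Cfsg.IsPBlock M B'₁ → Cfsg.IsPBlock M B'₂ → (∃ ψ ∈ B'₁, ∃ θ ∈ b, Cfsg.classInner (fun n : N => (ψ : T → ℂ) ⟨(n : G), hNT n.2⟩) (θ : N → ℂ) ≠ 0) → (∃ ψ ∈ B'₂, ∃ θ ∈ b, Cfsg.classInner (fun n : N => (ψ : T → ℂ) ⟨(n : G), hNT n.2⟩) (θ : N → ℂ) ≠ 0) → ∀ B : Set (Cfsg.IrrCharacter G), Cfsg.IsInducedBlock M T B'₁ B → Cfsg.IsInducedBlock M T B'₂ B → B'₁ = B'₂) ∧ (∀ B : Set (Cfsg.IrrCharacter G), Cfsg.IsPBlock M B → (∃ χ ∈ B, ∃ θ ∈ b, Cfsg.classInner (fun n : N => (χ : G → ℂ) n) (θ : N → ℂ) ≠ 0) → ∃ B' : Set (Cfsg.IrrCharacter T), Cfsg.IsPBlock M B' ∧ (∃ ψ ∈ B', ∃ θ ∈ b, Cfsg.classInner (fun n : N => (ψ : T → ℂ) ⟨(n : G), hNT n.2⟩) (θ : N → ℂ) ≠ 0) ∧ Cfsg.IsInducedBlock M T B' B) := by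
  classical
  have := hM.2.1.isPrime
  have hT' : ∀ g : G, g ∈ T ↔ ∀ θ ∈ b, conjIrr N g θ ∈ b := fun g =>
    (hT g).trans ⟨fun h θ hθ => h θ hθ _ fun n => conjIrr_apply N g θ n,
      fun h θ hθ θ' he => by
        rw [show θ' = conjIrr N g θ from Subtype.ext (funext fun n => by rw [he n, conjIrr_apply])]
        exact h θ hθ⟩
  have key : ∀ B' : Set (Cfsg.IrrCharacter T), Cfsg.IsPBlock M B' →
      ∀ ψ ∈ B', LiesOver N b hNT ψ → ∀ ψ' ∈ B', LiesOver N b hNT ψ' := fun B' hB' ψ hψ h ψ' hψ' =>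
    liesOver_of_mem N hNT hb hT' hB' hψ h hψ'
  refine ⟨fun B' hB' hcov => ?_, fun B₁ B₂ hB₁ hB₂ hc₁ hc₂ B hi₁ hi₂ => ?_, fun B hB hcov => ?_⟩
  · obtain ⟨ψ₀, hψ₀, hl⟩ := hcov
    obtain ⟨χ₀, hχ₀, -, hover⟩ := indFun_of_liesOver N hNT hb hT' (ψ := ψ₀) hl
    have hind : Cfsg.IsInducedBlock M T B' (Cfsg.blockOf M (χ₀ : G → ℂ)) := by
      rw [IsPBlock.eq_blockOf hB' hψ₀]
      exact isInducedBlock_of_liesOver hχ₀
    refine ⟨_, hind, ⟨χ₀, mem_blockOf_self χ₀, hover⟩, fun ψ hψ => ?_, fun χ => ⟨fun hχ => ?_, ?_⟩⟩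
    · obtain ⟨χ, hχ, -⟩ := indFun_of_liesOver N hNT hb hT' (key B' hB' ψ₀ hψ₀ hl ψ hψ)
      rw [hχ]
      exact χ.2
    · obtain ⟨θ₀, hθ₀, h₀⟩ := hover
      obtain ⟨ψ, hψ, hψχ, hi⟩ := exists_liesOver_of_mem N hNT hb hT' (isPBlock_blockOf χ₀)
        (mem_blockOf_self χ₀) hθ₀ h₀ hχ
      refine ⟨ψ, ?_, hψχ.symm⟩
      rw [eq_of_isInducedBlock N hNT hb hT' hψ₀ (mem_blockOf_self ψ) hl hψ hind hi]
      exact mem_blockOf_self ψ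
    · rintro ⟨ψ, hψ, hχ⟩
      have h := isInducedBlock_of_liesOver (M := M) hχ.symm
      rw [← IsPBlock.eq_blockOf hB' hψ] at h
      rw [IsInducedBlock.eq hind h]
      exact mem_blockOf_self χ
  · obtain ⟨ψ₁, hψ₁, h₁⟩ := hc₁
    obtain ⟨ψ₂, hψ₂, h₂⟩ := hc₂
    exact eq_of_isInducedBlock N hNT hb hT' hψ₁ hψ₂ h₁ h₂ hi₁ hi₂
  · obtain ⟨χ₀, hχ₀, θ₀, hθ₀, h₀⟩ := hcov
    obtain ⟨ψ, hψ, -, hi⟩ := exists_liesOver_of_mem N hNT hb hT' hB hχ₀ hθ₀ h₀ hχ₀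
    exact ⟨_, isPBlock_blockOf ψ, ⟨ψ, mem_blockOf_self ψ, hψ⟩, hi⟩

end Cfsg.Agent.S4435
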