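import Cfsg.Statements.S4442
import Cfsg.Agent.Lib.Blocks.PrimeSylow.Induced

set_option autoImplicit false
open Cfsg

namespace Cfsg.Agent.S4442

/-- Blocks of defect one. Let p be an odd prime and G a finite group whose Sylow p-subgroup P has order p; let C = C_G(P) and N = N_G(P), and fix a maximal ideal M of the algebraic integers containing p. Let B be a block of G with defect group P, b a block of C inducing B, and θ the member of b having P in its kernel (there is exactly one). Let T be the stabilizer of θ in N (the elements g ∈ N with θ(g c g⁻¹) = θ(c) for all c ∈ C) and e the index of C in T. Then e divides p − 1 and B contains exactly e + (p − 1)/e irreducible characters. Moreover B is the disjoint union of a set X of e characters and a set Y of (p − 1)/e characters such that, with f the index of C in N: every χ ∈ X has χ(1) ≡ ±(f/e)·θ(1) (mod p), there is one sign ε with ψ(1) ≡ ε f θ(1) (mod p) for all ψ ∈ Y, and all members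 of Y agree on the p-regular elements of G. -/
theorem result {G : Type*} [Group G] [Finite G] (p : ℕ) [Fact p.Prime] (M : Ideal Cfsg.AlgInt) (hM : Cfsg.IsPModular p M) (hodd : p ≠ 2) (P : Sylow p G) (hP : Nat.card P = p) (B : Set (Cfsg.IrrCharacter G)) (hB : Cfsg.IsPBlock M B) (hBP : Cfsg.IsDefectGroup p M B P) (b : Set (Cfsg.IrrCharacter (Subgroup.centralizer ((P : Subgroup G) : Set G)))) (hind : Cfsg.IsInducedBlock M (Subgroup.centralizer ((P : Subgroup G) : Set G)) b B) (θ : Cfsg.IrrCharacter (Subgroup.centralizer ((P : Subgroup G) : Set G))) (hθ : θ ∈ b) (hθP : ∀ x : Subgroup.centralizer ((P : Subgroup G) : Set G), (x : G) ∈ (P : Subgroup G) → (θ : Subgroup.centralizer ((P : Subgroup G) : Set G) → ℂ) x = (θ : Subgroup.centralizer ((P : Subgroup G) : Set G) → ℂ) 1) (T : Subgroup G) (hT : ∀ g : G, g ∈ T ↔ (g ∈ Subgroup.normalizer ((P : Subgroup G) : Set G) ∧ ∀ c c' : Subgroup.centralizer ((P : Subgroup G) : Set G), (c' : G) = g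 * c * g⁻¹ → (θ : Subgroup.centralizer ((P : Subgroup G) : Set G) → ℂ) c' = (θ : Subgroup.centralizer ((P : Subgroup G) : Set G) → ℂ) c)) (e f : ℕ) (he : (Subgroup.centralizer ((P : Subgroup G) : Set G)).relIndex T = e) (hf : (Subgroup.centralizer ((P : Subgroup G) : Set G)).relIndex (Subgroup.normalizer ((P : Subgroup G) : Set G)) = f) : e ∣ p - 1 ∧ Nat.card B = e + (p - 1) / e ∧ ∃ X Y : Set (Cfsg.IrrCharacter G), B = X ∪ Y ∧ Disjoint X Y ∧ Nat.card X = e ∧ Nat.card Y = (p - 1) / e ∧ (∀ χ ∈ X, (Cfsg.charDegree (χ : G → ℂ) : ℤ) ≡ ((f / e * Cfsg.charDegree (θ : Subgroup.centralizer ((P : Subgroup G) : Set G) → ℂ) : ℕ) : ℤ) [ZMOD p] ∨ (Cfsg.charDegree (χ : G → ℂ) : ℤ) ≡ -((f / e * Cfsg.charDegree (θ : Subgroup.centralizer ((P : Subgroup G) : Set G) → ℂ) : ℕ) : ℤ) [ZMOD p]) ∧ (∃ ε : ℤ, (ε = 1 ∨ ε = -1) ∧ ∀ ψ ∈ Y, (Cfsg.charDegree (ψ : G → ℂ) : ℤ) ≡ ε * ((f * Cfsg.charDegree (θ : Subgroup.centralizer ((P : Subgroup G) : Set G) → ℂ) :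 ℕ) : ℤ) [ZMOD p]) ∧ ∀ ψ ∈ Y, ∀ ψ' ∈ Y, ∀ g : G, ¬ p ∣ orderOf g → (ψ : G → ℂ) g = (ψ' : G → ℂ) g := by
  classical
  haveI := Fintype.ofFinite G
  obtain ⟨V, hV⟩ := CfsgLib.Blocks.PrimeSylow.exists_setup hP P.not_dvd_index
  haveI : M.IsPrime := hM.2.1.isPrime
  haveI := Fintype.ofFinite V
  haveI := Fintype.ofFinite (P : Subgroup G)
  haveI := Fintype.ofFinite (Cfsg.IrrCharacter G)
  haveI := Fintype.ofFinite (Cfsg.IrrCharacter (P : Subgroup G))
  obtain ⟨η, hη⟩ := hV.exists_restrict θ hθP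
  have hT' : T = hV.inertiaT (η : V → ℂ) := by
    ext g
    rw [hT, hV.mem_inertiaT]
    refine and_congr_right fun hg => ⟨fun h1 => funext fun v => ?_, fun h1 c c' hc => ?_⟩
    · have h2 := h1 (hV.centEquiv (1, v)) (hV.centEquiv (1, ⟨g * v * g⁻¹, hV.conj_mem hg v.2⟩))
        (by simp [hV.coe_centEquiv])
      rw [hη, hη] at h2
      rw [hV.cjFun_apply _ hg]
      exact h2
    · obtain ⟨⟨x, v⟩, rfl⟩ := hV.centEquiv.surjective c
      have e : c' = hV.centEquiv (⟨g * x * g⁻¹, (Subgroup.mem_normalizer_iff.1 hg x).1 x.2⟩,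
          ⟨g * v * g⁻¹, hV.conj_mem hg v.2⟩) := Subtype.ext (by
        rw [hc, hV.coe_centEquiv, hV.coe_centEquiv]
        group)
      rw [e, hη, hη]
      exact (hV.cjFun_apply _ hg v).symm.trans (congrFun h1 v)
  have hidx : hV.inertialIndex (η : V → ℂ) = e := by
    rw [← he, hT']; rfl
  obtain ⟨χ, hχ⟩ := CfsgLib.Blocks.IsPBlock.nonempty hB
  have hmem : χ ∈ CfsgLib.Blocks.PrimeSylow.blockSet M (P : Subgroup G) (η : V → ℂ) := fun g => by
    rw [← hV.inducedCentralChar_eq _ _ hη g]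
    exact hind.2.2 θ hθ χ hχ g
  obtain ⟨hdvd, Y, ε, w, θ', hε, hYB, -, hYθ, hYcard, hXcard, hBcard, hX, hY, -, hrel⟩ :=
    hV.exists_structure hM η hB hχ hmem
  have hBeq := CfsgLib.Blocks.PrimeSylow.blockSet_eq hB hχ hmem
  rw [hidx] at hdvd hYcard hXcard hBcard
  have horb := hV.card_orbit_mul η
  rw [hidx, hf] at horb
  have he0 : 0 < e := hidx ▸ hV.inertialIndex_pos η
  have hfe : f / e = Nat.card (CfsgLib.Blocks.PrimeSylow.orbitV (P : Subgroup G) η) := by
    rw [← horb, Nat.mul_div_cancel _ he0]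
  have hdeg : Cfsg.charDegree (η : V → ℂ) = Cfsg.charDegree
      (θ : Subgroup.centralizer ((P : Subgroup G) : Set G) → ℂ) := by
    have h1 := CfsgLib.Blocks.apply_one_eq_charDegree η
    have h2 := CfsgLib.Blocks.apply_one_eq_charDegree θ
    rw [← hη 1 1, show hV.centEquiv (1, 1) = 1 from Subtype.ext (by simp [hV.coe_centEquiv]), h2] at h1
    exact_mod_cast h1.symm
  refine ⟨hdvd, hBcard, B \ Y, Y, (Set.sdiff_union_of_subset hYB).symm,
    disjoint_sdiff_self_left, hXcard, hYcard, ?_, ⟨ε, hε, ?_⟩, ?_⟩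
  · intro ψ hψ
    obtain ⟨hw, hwc⟩ := hX ψ hψ
    have h1 := (hV.charDegree_modEq hM (hBeq ▸ hψ.1)).trans
      (Int.ModEq.mul_left _ (hV.sum_coef_const η ψ hwc))
    rw [hdeg, ← hfe] at h1
    rcases hw with e' | e' <;> rw [e'] at h1
    · right; simpa using h1
    · left; simpa using h1
  · intro ψ hψ
    obtain ⟨μ, hμ, rfl⟩ := hYθ ψ hψ
    have h1 := hV.charDegree_modEq hM (hBeq ▸ hYB hψ : θ' μ ∈ _)
    rw [hV.sum_coef_rel _ _ hμ (fun l hl => (hY l μ hl hμ).2.1) (fun l hl => (hY l μ hl hμ).2.2),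
      hidx, hdeg] at h1
    refine h1.trans ?_
    rw [← horb]
    push_cast
    ring_nf
    rfl
  · intro ψ hψ ψ' hψ' g hg
    obtain ⟨μ, hμ, rfl⟩ := hYθ ψ hψ
    obtain ⟨μ', hμ', rfl⟩ := hYθ ψ' hψ'
    have hε0 : (ε : ℂ) ≠ 0 := by rcases hε with rfl | rfl <;> simp
    exact mul_left_cancel₀ hε0 (add_right_cancel ((hrel μ hμ g hg).trans (hrel μ' hμ' g hg).symm))

end Cfsg.Agent.S4442
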