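import Cfsg.Statements.S4443
import Cfsg.Agent.Lib.Blocks.NormalDefectRank

set_option autoImplicit false
open Cfsg CfsgLib.Blocks

namespace Cfsg.Agent.S4443

/-- Let D be a normal p-subgroup of the finite group G, of order p^d, let p^a be the p-part of the order of G, and fix a Sylow p-subgroup S and a maximal ideal M of the algebraic integers containing p. Index by a finite type ι (via an injective map K) exactly the conjugacy classes of p-regular elements x of G for which D is a Sylow p-subgroup of C_G(x). For classes K_i, K_j let ω(i, j) be the number of pairs (y, z) ∈ K_i × K_j with z y⁻¹ ∈ S; this number is divisible by p^(a−d). Then the number of p-blocks of G having D as a defect group equals the rank over ℤ/pℤ of the matrix with (i, j) entry ω(i, j)/p^(a−d) reduced modulo p. -/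
theorem result {G : Type*} [Group G] [Finite G] (p : ℕ) [Fact p.Prime] (M : Ideal Cfsg.AlgInt) (hM : Cfsg.IsPModular p M) (D : Subgroup G) [D.Normal] (hD : IsPGroup p D) (S : Sylow p G) {ι : Type*} [Fintype ι] [DecidableEq ι] (K : ι → ConjClasses G) (hKinj : Function.Injective K) (hK : ∀ C : ConjClasses G, (∃ i, K i = C) ↔ ∃ x ∈ C.carrier, ¬ p ∣ orderOf x ∧ ∃ Q : Sylow p (Subgroup.centralizer ({x} : Set G)), (Q : Subgroup (Subgroup.centralizer ({x} : Set G))).map (Subgroup.centralizer ({x} : Set G)).subtype = D) : Nat.card {B : Set (Cfsg.IrrCharacter G) // Cfsg.IsPBlock M B ∧ Cfsg.IsDefectGroup p M B D} = (Matrix.of fun i j : ι => ((Nat.card {yz : G × G // yz.1 ∈ (K i).carrier ∧ yz.2 ∈ (K j).carrier ∧ yz.2 * yz.1⁻¹ ∈ (S : Subgroup G)} / p ^ ((Nat.card G).factorization p - (Nat.card D).factorization p) : ℕ) : ZMod p)).rank := by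
  classical
  have : M.IsPrime := hM.2.1.isPrime
  have := Fintype.ofFinite G
  choose x hxC hxreg hxQ using fun i => (hK (K i)).1 ⟨i, rfl⟩
  have hmk : ∀ i, ConjClasses.mk (x i) = K i := fun i =>
    ConjClasses.mem_carrier_iff_mk_eq.1 (hxC i)
  have hx : ∀ i, IsRegDefect p D (x i) := fun i => by
    obtain ⟨Q, hQ⟩ := hxQ i
    refine ⟨hxreg i, hQ ▸ Subgroup.map_subtype_le _, Q, ?_⟩
    rw [← hQ, Subgroup.subgroupOf, Subgroup.comap_map_eq_self_of_injective
      (Subgroup.centralizer ({x i} : Set G)).subtype_injective]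
  have hinj : ∀ i j, IsConj (x i) (x j) → i = j := fun i j h => hKinj <| by
    rw [← hmk i, ← hmk j]
    exact ConjClasses.mk_eq_mk_iff_isConj.2 h
  have hsurj : ∀ g, IsRegDefect p D g → ∃ i, IsConj (x i) g := by
    rintro g ⟨hg, hle, Q, hQ⟩
    obtain ⟨i, hi⟩ := (hK (ConjClasses.mk g)).2 ⟨g, ConjClasses.mem_carrier_mk, hg, Q, by
      rw [hQ, Subgroup.map_subgroupOf_eq_of_le hle]⟩
    exact ⟨i, ConjClasses.mk_eq_mk_iff_isConj.1 ((hmk i).trans hi)⟩
  rw [card_blocks_eq_rank hM D hD hx hinj hsurj S]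
  have hcard : ∀ i j, Nat.card {yz : G × G // IsConj (x i) yz.1 ∧ IsConj (x j) yz.2 ∧
      yz.2 * yz.1⁻¹ ∈ (S : Subgroup G)} = Nat.card {yz : G × G // yz.1 ∈ (K i).carrier ∧
      yz.2 ∈ (K j).carrier ∧ yz.2 * yz.1⁻¹ ∈ (S : Subgroup G)} := fun i j =>
    Nat.card_congr (Equiv.subtypeEquivRight fun yz => by
      simp only [← hmk, ConjClasses.mem_carrier_iff_mk_eq, ConjClasses.mk_eq_mk_iff_isConj,
        isConj_comm])
  simp only [hcard]

end Cfsg.Agent.S4443
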