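import Cfsg.Statements.S4446
import Cfsg.Agent.Lib.Char.CyclicGlauberman
import Cfsg.Agent.Lib.CharAction.Solvable
import Cfsg.Agent.Lib.CharAction.Conj

set_option autoImplicit false
open Cfsg

namespace Cfsg.Agent.S4446

/-- Let the finite group Γ be generated by a normal subgroup G and a cyclic subgroup S of coprime orders, C = G ⊓ C(S), and let χ be an S-invariant irreducible character of G with canonical extension χ̂ to Γ (the extension whose determinantal order is coprime to the order of S). Then there are exactly one irreducible character β of C and one sign ε such that χ̂(c s) = ε β(c) for every c ∈ C and every generator s of S; this β is a constituent of the restriction of χ to C; distinct S-invariant χ give distinct β; and every irreducible character of C arises in this way. -/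
theorem result {Γ : Type*} [Group Γ] [Fintype Γ] (G S : Subgroup Γ) [Fintype G] (hnorm : ∀ s ∈ S, ∀ g ∈ G, s * g * s⁻¹ ∈ G) (hcop : (Nat.card G).Coprime (Nat.card S)) (htop : G ⊔ S = ⊤) (hcyc : IsCyclic S) (C : Subgroup Γ) [Fintype C] (hC : C = G ⊓ Subgroup.centralizer (S : Set Γ)) (hCG : C ≤ G) : (∀ (χ : Cfsg.IrrCharacter G) (χh : Cfsg.IrrCharacter Γ), (∀ s ∈ S, ∀ g g' : G, (g' : Γ) = s * g * s⁻¹ → (χ : G → ℂ) g' = (χ : G → ℂ) g) → (∀ g : G, (χh : Γ → ℂ) g = (χ : G → ℂ) g) → (Cfsg.detOrder (χh : Γ → ℂ)).Coprime (Nat.card S) → (∃! βε : Cfsg.IrrCharacter C × ℤ, (βε.2 = 1 ∨ βε.2 = -1) ∧ ∀ c : C, ∀ s : Γ, Subgroup.zpowers s = S → (χh : Γ → ℂ) ((c : Γ) * s) = (βε.2 : ℂ) * (βε.1 : C → ℂ) c) ∧ ∀ β : Cfsg.IrrCharacter C, ∀ ε : ℤ, (ε = 1 ∨ ε = -1) → (∀ c : C, ∀ s : Γ, Subgroup.zpowers s = S → (χh : Γ → ℂ) ((c : Γ) * s) = (ε : ℂ) * (β : C → ℂ) c) → Cfsg.classInner (fun c : C => (χ : G → ℂ) ⟨c, hCG c.2⟩) (β : C → ℂ) ≠ 0)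 ∧ (∀ (χ χ' : Cfsg.IrrCharacter G) (χh χh' : Cfsg.IrrCharacter Γ), (∀ s ∈ S, ∀ g g' : G, (g' : Γ) = s * g * s⁻¹ → (χ : G → ℂ) g' = (χ : G → ℂ) g) → (∀ s ∈ S, ∀ g g' : G, (g' : Γ) = s * g * s⁻¹ → (χ' : G → ℂ) g' = (χ' : G → ℂ) g) → (∀ g : G, (χh : Γ → ℂ) g = (χ : G → ℂ) g) → (∀ g : G, (χh' : Γ → ℂ) g = (χ' : G → ℂ) g) → (Cfsg.detOrder (χh : Γ → ℂ)).Coprime (Nat.card S) → (Cfsg.detOrder (χh' : Γ → ℂ)).Coprime (Nat.card S) → ∀ β : Cfsg.IrrCharacter C, ∀ ε ε' : ℤ, (ε = 1 ∨ ε = -1) → (ε' = 1 ∨ ε' = -1) → (∀ c : C, ∀ s : Γ, Subgroup.zpowers s = S → (χh : Γ → ℂ) ((c : Γ) * s) = (ε : ℂ) * (β : C → ℂ) c) → (∀ c : C, ∀ s : Γ, Subgroup.zpowers s = S → (χh' : Γ → ℂ) ((c : Γ) * s) = (ε' : ℂ) * (β : C → ℂ) c) → χ = χ') ∧ (∀ β : Cfsg.IrrCharacter C, ∃ (χ : Cfsg.IrrCharacter G) (χh : Cfsg.IrrCharacter Γ) (ε : ℤ), (∀ s ∈ S, ∀ g g' : G, (g' : Γ) = s * g * s⁻¹ → (χ : G → ℂ) g' = (χ : G → ℂ) g) ∧ (∀ g : G, (χh : Γ → ℂ) g = (χ : G →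 ℂ) g) ∧ (Cfsg.detOrder (χh : Γ → ℂ)).Coprime (Nat.card S) ∧ (ε = 1 ∨ ε = -1) ∧ ∀ c : C, ∀ s : Γ, Subgroup.zpowers s = S → (χh : Γ → ℂ) ((c : Γ) * s) = (ε : ℂ) * (β : C → ℂ) c) := by
  classical
  have hnormal : G.Normal := by
    refine Subgroup.normalizer_eq_top_iff.mp (eq_top_iff.mpr ?_)
    rw [← htop]
    refine sup_le Subgroup.le_normalizer fun a ha => ?_
    refine Subgroup.mem_normalizer_iff.mpr fun x => ⟨fun hx => hnorm a ha x hx, fun hx => ?_⟩
    have h := hnorm a⁻¹ (inv_mem ha) _ hx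
    have e : a⁻¹ * (a * x * a⁻¹) * a⁻¹⁻¹ = x := by group
    rwa [e] at h
  obtain ⟨s₀, hs₀⟩ := (Subgroup.isCyclic_iff_exists_zpowers_eq_top S).mp hcyc
  have D : CfsgLib.CyclicGlauberman.Setting G S C s₀ := ⟨hnormal, hs₀, htop, hcop, hC⟩
  have hcanon : ∀ (χ : Cfsg.IrrCharacter G) (χh : Cfsg.IrrCharacter Γ),
      (∀ g : G, (χh : Γ → ℂ) g = (χ : G → ℂ) g) →
      (Cfsg.detOrder (χh : Γ → ℂ)).Coprime (Nat.card S) →
      CfsgLib.CyclicGlauberman.IsCanon G S (χh : Γ → ℂ) := fun χ χh hres hdet =>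
    ⟨χh.2, by rw [show (fun g : G => (χh : Γ → ℂ) g) = (χ : G → ℂ) from funext hres]; exact χ.2,
      hdet⟩
  have hinner : ∀ (χh : Γ → ℂ) (β : Cfsg.IrrCharacter C) (ε : ℤ),
      (∀ c : C, ∀ s : Γ, Subgroup.zpowers s = S → χh ((c : Γ) * s) = (ε : ℂ) * (β : C → ℂ) c) →
      CfsgLib.CyclicGlauberman.Setting.value χh C s₀ = (ε : ℂ) • (β : C → ℂ) :=
    fun χh β ε h => funext fun c => h c s₀ hs₀
  refine ⟨fun χ χh hinv hres hdet => ⟨?_, ?_⟩,
    fun χ χ' χh χh' hi hi' hres hres' hdet hdet' β ε ε' hε hε' hv hv' => ?_, ?_⟩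
  · have hc := hcanon χ χh hres hdet
    obtain ⟨β, ε, hε, hv⟩ := D.exists_sign hc
    refine ⟨(β, ε), ⟨hε, fun c s hs => (D.apply_mul_gen hc c hs).trans (hv c)⟩, ?_⟩
    rintro ⟨β', ε'⟩ ⟨hε', hv'⟩
    have h : ∀ c : C, (ε' : ℂ) * (β' : C → ℂ) c = (ε : ℂ) * (β : C → ℂ) c := fun c =>
      (hv' c s₀ hs₀).symm.trans (hv c)
    obtain ⟨d, hd, hd1⟩ := CfsgLib.Char.IsIrr.exists_degree β.2
    obtain ⟨d', hd', hd1'⟩ := CfsgLib.Char.IsIrr.exists_degree β'.2
    have h1 := h 1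
    rw [hd1, hd1'] at h1
    have h2 : ε' * (d' : ℤ) = ε * (d : ℤ) := by exact_mod_cast h1
    have hee : ε' = ε := by
      rcases hε with rfl | rfl <;> rcases hε' with h3 | h3 <;> simp only at h3 <;> subst h3 <;>
        first | rfl | omega
    subst hee
    refine Prod.ext (Subtype.ext (funext fun c => ?_)) rfl
    refine mul_left_cancel₀ ?_ (h c)
    rcases hε with rfl | rfl <;> simp
  · intro β ε hε hv
    have hc := hcanon χ χh hres hdet
    have hne : Cfsg.classInner (CfsgLib.CyclicGlauberman.Setting.value (χh : Γ → ℂ) C s₀)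
        (β : C → ℂ) ≠ 0 := by
      rw [hinner _ β ε hv, CfsgLib.Char.classInner_smul_left, CfsgLib.Char.classInner_irr_self]
      rcases hε with rfl | rfl <;> simp
    have h := D.classInner_restrict_ne_zero hc β hne
    rwa [show (fun c : C => (χh : Γ → ℂ) c) = fun c : C => (χ : G → ℂ) ⟨c, hCG c.2⟩ from
      funext fun c => hres ⟨c, hCG c.2⟩] at h
  · have h := D.classInner_value (hcanon χ χh hres hdet) (hcanon χ' χh' hres' hdet')
    rw [hinner _ β ε hv, hinner _ β ε' hv', CfsgLib.Char.classInner_smul_left,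
      CfsgLib.Char.classInner_smul_right, CfsgLib.Char.classInner_irr_self] at h
    by_cases he : (χh : Γ → ℂ) = (χh' : Γ → ℂ)
    · exact Subtype.ext (funext fun g => (hres g).symm.trans ((congrFun he g).trans (hres' g)))
    · rw [if_neg he] at h
      rcases hε with rfl | rfl <;> rcases hε' with rfl | rfl <;> simp at h
  -- every character of `C` arises
  letI act := CfsgLib.CharAction.conjAction G S hnorm
  have hsolv : Group.IsSolvable S := by
    refine Group.isSolvable_of_comm fun a b => ?_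
    obtain ⟨i, hi⟩ := D.exists_zpow a.2
    obtain ⟨j, hj⟩ := D.exists_zpow b.2
    refine Subtype.ext ?_
    show (a : Γ) * b = b * a
    rw [← hi, ← hj, ← zpow_add, ← zpow_add, add_comm]
  have hext : ∀ χ : {χ : Cfsg.IrrCharacter G // CfsgLib.CharAction.IsInv S (χ : G → ℂ)},
      ∃ χh : Cfsg.IrrCharacter Γ, (∀ g : G, (χh : Γ → ℂ) g = (χ.1 : G → ℂ) g) ∧
        (Cfsg.detOrder (χh : Γ → ℂ)).Coprime (Nat.card S) := by
    rintro ⟨χ, hinv⟩
    obtain ⟨m, σ, hσ, hσc⟩ := χ.2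
    have := hσ
    have hinvΓ : ∀ y : Γ, CfsgLib.Clifford.conjFn hnormal (χ : G → ℂ) y = χ := fun y => by
      have hle : G ⊔ S ≤ CfsgLib.Clifford.inertia hnormal (χ : G → ℂ) :=
        sup_le (CfsgLib.Clifford.le_inertia hnormal (CfsgLib.Char.IsIrr.isClassFunction χ.2))
          fun a ha => funext fun g => hinv ⟨a, ha⟩ g
      exact CfsgLib.Clifford.mem_inertia.mp (hle (by rw [htop]; trivial))
    have hcopd : (orderOf (CfsgLib.CharExt.detHom σ) * Module.finrank ℂ (Fin m → ℂ)).Coprime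
        G.index := by
      rw [D.index_eq]
      exact Nat.Coprime.mul_left
        (hcop.coprime_dvd_left (orderOf_dvd_of_pow_eq_one (CfsgLib.CharExt.hom_pow_card _)))
        (hcop.coprime_dvd_left (CfsgLib.CharIntegral.finrank_dvd_card σ))
    obtain ⟨ρ, hρ, hρo⟩ := CfsgLib.CharExt.exists_canonical_extension σ (fun y x => by
      rw [hσc]; exact congrFun (hinvΓ y) x) hcopd
    have := CfsgLib.CharExt.isIrreducible_of_restrict ρ G.subtype σ hρ
    refine ⟨CfsgLib.Char.irrOfRep ρ, fun g => ?_, ?_⟩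
    · show LinearMap.trace ℂ _ (ρ g) = _
      rw [hρ]
      exact congrFun hσc g
    · show (Cfsg.detOrder ρ.character).Coprime _
      rw [CfsgLib.CharExt.detOrder_eq, hρo]
      exact hcop.coprime_dvd_left (orderOf_dvd_of_pow_eq_one (CfsgLib.CharExt.hom_pow_card _))
  choose ext hextres hextdet using hext
  choose F ε hε hF using fun χ => D.exists_sign (hcanon _ (ext χ) (hextres χ) (hextdet χ))
  have hinj : Function.Injective F := by
    intro χ χ' h
    have h1 := D.classInner_value (hcanon _ (ext χ) (hextres χ) (hextdet χ))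
      (hcanon _ (ext χ') (hextres χ') (hextdet χ'))
    rw [show CfsgLib.CyclicGlauberman.Setting.value (ext χ : Γ → ℂ) C s₀ =
        (ε χ : ℂ) • (F χ : C → ℂ) from funext (hF χ),
      show CfsgLib.CyclicGlauberman.Setting.value (ext χ' : Γ → ℂ) C s₀ =
        (ε χ' : ℂ) • (F χ : C → ℂ) from funext (h ▸ hF χ'), CfsgLib.Char.classInner_smul_left,
      CfsgLib.Char.classInner_smul_right, CfsgLib.Char.classInner_irr_self] at h1
    by_cases he : (ext χ : Γ → ℂ) = (ext χ' : Γ → ℂ)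
    · exact Subtype.ext (Subtype.ext (funext fun g =>
        (hextres χ g).symm.trans ((congrFun he g).trans (hextres χ' g))))
    · rw [if_neg he] at h1
      rcases hε χ with e1 | e1 <;> rcases hε χ' with e2 | e2 <;> simp [e1, e2] at h1
  let ψ : FixedPoints.subgroup S G ≃* C :=
    { toFun := fun x => ⟨((x : G) : Γ), D.mem_C x.1.2 (by
        have h := congrArg Subtype.val (x.2 ⟨s₀, D.mem_s⟩)
        exact (mul_inv_eq_iff_eq_mul.mp h).symm)⟩
      invFun := fun c => ⟨⟨c, hCG c.2⟩, fun a => Subtype.ext (by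
        show (a : Γ) * (c : Γ) * (a : Γ)⁻¹ = c
        rw [← (D.commute c.2 a.2).eq, mul_inv_cancel_right])⟩
      left_inv := fun x => rfl
      right_inv := fun x => rfl
      map_mul' := fun x y => rfl }
  have hcard : Nat.card {χ : Cfsg.IrrCharacter G // CfsgLib.CharAction.IsInv S (χ : G → ℂ)} =
      Nat.card (Cfsg.IrrCharacter C) := by
    rw [(CfsgLib.CharAction.card_inv_eq_aux _ S le_rfl hsolv G hcop).1,
      CfsgLib.CharAction.card_conjClasses_congr ψ, ← CfsgLib.Char.card_irrCharacter]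
  have hbij := (Nat.bijective_iff_injective_and_card F).mpr ⟨hinj, hcard⟩
  intro β
  obtain ⟨χ, rfl⟩ := hbij.2 β
  refine ⟨χ.1, ext χ, ε χ, fun a ha g g' hgg' => ?_, hextres χ, hextdet χ, hε χ, fun c s hs =>
    (D.apply_mul_gen (hcanon _ (ext χ) (hextres χ) (hextdet χ)) c hs).trans (hF χ c)⟩
  rw [show g' = (⟨a, ha⟩ : S) • g from Subtype.ext hgg']
  exact χ.2 ⟨a, ha⟩ g

end Cfsg.Agent.S4446
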