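import Cfsg.Statements.S4447
import Cfsg.Agent.Lib.CharAction.InvariantOverSub
import Cfsg.Agent.Lib.Core.Coprime
-- import your own Cfsg.Agent.* helpers here

set_option autoImplicit false
open Cfsg

namespace Cfsg.Agent.S4447

/-- Inside a finite group Γ let S normalise G and also normalise a normal subgroup N of G, with the order of S coprime to the index of N in G and S or G/N solvable. Then for every S-invariant irreducible character χ of G, the restriction of χ to N has an S-invariant irreducible constituent. -/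
theorem result {Γ : Type*} [Group Γ] [Fintype Γ] (G S N : Subgroup Γ) [Fintype G] [Fintype N] (hnorm : ∀ s ∈ S, ∀ g ∈ G, s * g * s⁻¹ ∈ G) (hNG : N ≤ G) [hNn : (N.subgroupOf G).Normal] (hNS : ∀ s ∈ S, ∀ n ∈ N, s * n * s⁻¹ ∈ N) (hcop : (N.relIndex G).Coprime (Nat.card S)) (hsolv : Group.IsSolvable S ∨ Group.IsSolvable (G ⧸ N.subgroupOf G)) (χ : Cfsg.IrrCharacter G) (hinv : (∀ s ∈ S, ∀ g g' : G, (g' : Γ) = s * g * s⁻¹ → (χ : G → ℂ) g' = (χ : G → ℂ) g)) : ∃ θ : Cfsg.IrrCharacter N, Cfsg.classInner (fun n : N => (χ : G → ℂ) ⟨n, hNG n.2⟩) (θ : N → ℂ) ≠ 0 ∧ (∀ s ∈ S, ∀ g g' : N, (g' : Γ) = s * g * s⁻¹ → (θ : N → ℂ) g' = (θ : N → ℂ) g) := by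
  classical
  let X : Subgroup Γ := Subgroup.normalizer (N : Set Γ)
  have hGX : G ≤ X := fun g hg => Subgroup.mem_normalizer_iff.mpr fun n => ⟨fun hn => by
      have := hNn.conj_mem ⟨n, hNG hn⟩ hn ⟨g, hg⟩
      exact this, fun hn => by
      have := hNn.conj_mem ⟨g * n * g⁻¹, hNG hn⟩ hn ⟨g⁻¹, inv_mem hg⟩
      change g⁻¹ * (g * n * g⁻¹) * g⁻¹⁻¹ ∈ N at this
      simpa [mul_assoc] using this⟩
  have hSX : S ≤ X := fun s hs => Subgroup.mem_normalizer_iff.mpr fun n => ⟨hNS s hs n, fun hn => by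
      simpa [mul_assoc] using hNS s⁻¹ (inv_mem hs) _ hn⟩
  let N' : Subgroup X := N.subgroupOf X
  have hN' : N'.Normal := Subgroup.normal_in_normalizer
  let : MulDistribMulAction X N := CfsgLib.CharAction.conjAction N X
    fun x hx n hn => (Subgroup.mem_normalizer_iff.mp hx n).1 hn
  let : MulAction X (Cfsg.IrrCharacter N) := CfsgLib.CharAction.charAction
  have hker : N' ≤ (MulAction.toPermHom X (Cfsg.IrrCharacter N)).ker := fun x hx =>
    Equiv.ext fun θ => CfsgLib.Char.irr_ext fun n => by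
      show (θ : N → ℂ) (x⁻¹ • n) = (θ : N → ℂ) n
      rw [show x⁻¹ • n = (⟨x, hx⟩ : N)⁻¹ * n * (⟨x, hx⟩ : N)⁻¹⁻¹ from Subtype.ext rfl]
      exact CfsgLib.Char.IsIrr.isClassFunction θ.2 n _
  let : MulAction (X ⧸ N') (Cfsg.IrrCharacter N) :=
    MulAction.compHom _ (QuotientGroup.lift N' (MulAction.toPermHom X (Cfsg.IrrCharacter N)) hker)
  have hact : ∀ (x : X) (θ : Cfsg.IrrCharacter N), (x : X ⧸ N') • θ = x • θ := fun x θ => rfl
  let A : Subgroup (X ⧸ N') := (S.subgroupOf X).map (QuotientGroup.mk' N')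
  let K : Subgroup (X ⧸ N') := (G.subgroupOf X).map (QuotientGroup.mk' N')
  have hK : Nat.card K = N.relIndex G := by
    show Nat.card ((G.subgroupOf X).map (QuotientGroup.mk' N')) = _
    rw [← Subgroup.relIndex_bot_left, ← Subgroup.relIndex_comap, MonoidHom.comap_bot,
      QuotientGroup.ker_mk', Subgroup.relIndex_subgroupOf hGX]
  have hAK : A ≤ Subgroup.normalizer (K : Set (X ⧸ N')) := by
    refine le_trans (Subgroup.map_mono ?_) (Subgroup.le_normalizer_map _)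
    intro s hs
    refine Subgroup.mem_normalizer_iff.mpr fun g => ⟨fun hg => hnorm s hs g hg, fun hg => ?_⟩
    have := hnorm (s : Γ)⁻¹ (inv_mem hs) _ hg
    simpa [Subgroup.mem_subgroupOf, mul_assoc] using this
  have hcop' : (Nat.card A).Coprime (Nat.card K) := by
    rw [hK]
    refine (hcop.symm).coprime_dvd_left ?_
    refine (Subgroup.card_map_dvd _ _).trans ?_
    rw [Nat.card_congr (Subgroup.subgroupOfEquivOfLe hSX).toEquiv]
  have hsolv' : Group.IsSolvable A ∨ Group.IsSolvable K := by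
    rcases hsolv with h | h
    · left
      let f : S →* A := ((QuotientGroup.mk' N').subgroupMap (S.subgroupOf X)).comp
        (Subgroup.subgroupOfEquivOfLe hSX).symm.toMonoidHom
      have hf : Function.Surjective f := (MonoidHom.subgroupMap_surjective _ _).comp
        (Subgroup.subgroupOfEquivOfLe hSX).symm.surjective
      exact solvable_of_surjective hf
    · right
      let f₀ : G →* K := ((QuotientGroup.mk' N').subgroupMap (G.subgroupOf X)).comp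
        (Subgroup.subgroupOfEquivOfLe hGX).symm.toMonoidHom
      have hf₀ : Function.Surjective f₀ := (MonoidHom.subgroupMap_surjective _ _).comp
        (Subgroup.subgroupOfEquivOfLe hGX).symm.surjective
      have hle : N.subgroupOf G ≤ f₀.ker := fun g hg => Subtype.ext
        ((QuotientGroup.eq_one_iff _).mpr hg)
      exact solvable_of_surjective (f := QuotientGroup.lift _ f₀ hle) fun k => by
        obtain ⟨g, rfl⟩ := hf₀ k
        exact ⟨(g : G ⧸ N.subgroupOf G), rfl⟩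
  have hι : Function.Injective (Subgroup.inclusion hNG) := Subgroup.inclusion_injective hNG
  let N₁ : Subgroup G := N.subgroupOf G
  let e : N₁ ≃* N := Subgroup.subgroupOfEquivOfLe hNG
  let tr : (N → ℂ) → (N₁ → ℂ) := fun f x => f (e x)
  have htr : ∀ θ : Cfsg.IrrCharacter N, Cfsg.IsIrrCharacter N₁ (tr θ) := fun θ =>
    CfsgLib.Char.IsIrr.comp_surjective e.toMonoidHom e.surjective θ.2
  have hinner : ∀ θ : Cfsg.IrrCharacter N,
      Cfsg.classInner (fun n : N₁ => (χ : G → ℂ) n) (tr θ) =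
        Cfsg.classInner (fun n : N => (χ : G → ℂ) ⟨n, hNG n.2⟩) (θ : N → ℂ) := fun θ =>
    CfsgLib.Clifford.classInner_comp_equiv e (fun x : N => (χ : G → ℂ) ⟨x, hNG x.2⟩) (θ : N → ℂ)
  obtain ⟨θ₀', hθ₀⟩ := CfsgLib.Clifford.exists_constituent
    (CfsgLib.Char.IsChar.isClassFunction
      (CfsgLib.Char.IsChar.restrict N₁ (CfsgLib.Char.IsIrr.isCharacter χ.2)))
    (fun h => CfsgLib.Char.IsIrr.apply_one_ne_zero χ.2 (by simpa using congrFun h 1))
  let θ₀ : Cfsg.IrrCharacter N := ⟨fun n => (θ₀' : N₁ → ℂ) (e.symm n),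
    CfsgLib.Char.IsIrr.comp_surjective e.symm.toMonoidHom e.symm.surjective θ₀'.2⟩
  have hθ₀e : tr θ₀ = (θ₀' : N₁ → ℂ) :=
    funext fun x => congrArg (θ₀' : N₁ → ℂ) (e.symm_apply_apply x)
  have hmem : ∀ θ : Cfsg.IrrCharacter N,
      Cfsg.classInner (fun n : N => (χ : G → ℂ) ⟨n, hNG n.2⟩) (θ : N → ℂ) ≠ 0 →
      ∃ g : X, (g : Γ) ∈ G ∧ g • θ₀ = θ := by
    intro θ hθ
    obtain ⟨g, hg⟩ := (CfsgLib.RelGlauberman.constituent_iff hNn χ.2 θ₀'.2 hθ₀ (htr θ)).1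
      (by rw [hinner]; exact hθ)
    refine ⟨⟨(g : Γ)⁻¹, inv_mem (hGX g.2)⟩, inv_mem g.2, CfsgLib.Char.irr_ext fun n => ?_⟩
    obtain ⟨x, rfl⟩ := e.surjective n
    have h := congrFun hg x
    rw [← hθ₀e, CfsgLib.Clifford.conjFn_apply] at h
    refine Eq.trans ?_ h.symm
    show (θ₀ : N → ℂ) (_ • e x) = (θ₀ : N → ℂ) (e _)
    refine congrArg _ (Subtype.ext ?_)
    show ((g : Γ)⁻¹)⁻¹ * (e x : Γ) * ((g : Γ)⁻¹)⁻¹⁻¹ = _
    rw [inv_inv]
    rfl
  have hG : ∀ g : X, (g : Γ) ∈ G → ∀ θ : Cfsg.IrrCharacter N,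
      Cfsg.classInner (fun n : N => (χ : G → ℂ) ⟨n, hNG n.2⟩) ((g • θ : Cfsg.IrrCharacter N) : N → ℂ)
        = Cfsg.classInner (fun n : N => (χ : G → ℂ) ⟨n, hNG n.2⟩) (θ : N → ℂ) := by
    intro g hg θ
    simp only [Cfsg.classInner]
    congr 1
    refine Fintype.sum_equiv (MulAction.toPerm g⁻¹) _ _ fun n => ?_
    congr 1
    exact ((CfsgLib.Char.IsIrr.isClassFunction χ.2 ⟨n, hNG n.2⟩ ⟨(g : Γ)⁻¹, inv_mem hg⟩)).symm
  have hS : ∀ (s : X), (s : Γ) ∈ S → ∀ θ : Cfsg.IrrCharacter N,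
      Cfsg.classInner (fun n : N => (χ : G → ℂ) ⟨n, hNG n.2⟩) ((s • θ : Cfsg.IrrCharacter N) : N → ℂ)
        = Cfsg.classInner (fun n : N => (χ : G → ℂ) ⟨n, hNG n.2⟩) (θ : N → ℂ) := by
    intro s hs θ
    simp only [Cfsg.classInner]
    congr 1
    refine Fintype.sum_equiv (MulAction.toPerm s⁻¹) _ _ fun n => ?_
    congr 1
    exact (hinv (s : Γ)⁻¹ (inv_mem hs) ⟨n, hNG n.2⟩ ⟨_, hNG (s⁻¹ • n).2⟩ rfl).symm
  have hθ₀c : Cfsg.classInner (fun n : N => (χ : G → ℂ) ⟨n, hNG n.2⟩) (θ₀ : N → ℂ) ≠ 0 := by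
    rw [← hinner, hθ₀e]; exact hθ₀
  obtain ⟨k, hk, hfix⟩ := CfsgLib.Core.exists_fixed_point hAK hcop' hsolv' (x := θ₀) fun a ha => by
    obtain ⟨s, hs, rfl⟩ := ha
    obtain ⟨g, hg, hgθ⟩ := hmem (s • θ₀) (by rw [hS s hs]; exact hθ₀c)
    exact ⟨(g : X ⧸ N'), ⟨g, hg, rfl⟩, hgθ.symm⟩
  obtain ⟨g, hg, rfl⟩ := hk
  refine ⟨g • θ₀, by rw [hG g hg]; exact hθ₀c, fun s hs n n' hn' => ?_⟩
  have h := congrArg (fun f : Cfsg.IrrCharacter N => (f : N → ℂ) n)
    (hfix ((⟨s⁻¹, inv_mem (hSX hs)⟩ : X) : X ⧸ N') ⟨⟨s⁻¹, inv_mem (hSX hs)⟩, inv_mem hs, rfl⟩)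
  refine Eq.trans ?_ h
  show ((g • θ₀ : Cfsg.IrrCharacter N) : N → ℂ) n' =
    ((g • θ₀ : Cfsg.IrrCharacter N) : N → ℂ) ((⟨s⁻¹, inv_mem (hSX hs)⟩ : X)⁻¹ • n)
  refine congrArg _ (Subtype.ext ?_)
  rw [hn']
  show _ = s⁻¹⁻¹ * (n : Γ) * s⁻¹⁻¹⁻¹
  rw [inv_inv]

end Cfsg.Agent.S4447
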