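import Cfsg.Statements.S4450
import Cfsg.Agent.Lib.CharAction.InvariantOverSub
import Cfsg.Agent.Lib.CharAction.InvariantOverTriple
import Mathlib.GroupTheory.SchurZassenhaus
-- import your own Cfsg.Agent.* helpers here

set_option autoImplicit false
open Cfsg

namespace Cfsg.Agent.S4450

/-- Let N ≤ G be normal subgroups of the finite group Γ with the index of G in Γ coprime to the index of N in G, and Γ/G or G/N solvable. Then for every irreducible character ϑ of N invariant under conjugation by Γ, the induced character ϑ^G has an irreducible constituent invariant under conjugation by Γ. -/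
theorem result {Γ : Type*} [Group Γ] [Fintype Γ] (G N : Subgroup Γ) [hG : G.Normal] [hN : N.Normal] [Fintype G] [Fintype N] (hNG : N ≤ G) (hcop : (G.index).Coprime (N.relIndex G)) (hsolv : Group.IsSolvable (Γ ⧸ G) ∨ Group.IsSolvable (G ⧸ N.subgroupOf G)) (θ : Cfsg.IrrCharacter N) (hinv : ∀ (x : Γ) (n : N), (θ : N → ℂ) ⟨x * n * x⁻¹, hN.conj_mem n n.2 x⟩ = (θ : N → ℂ) n) : ∃ χ : Cfsg.IrrCharacter G, Cfsg.classInner (fun n : N => (χ : G → ℂ) ⟨n, hNG n.2⟩) (θ : N → ℂ) ≠ 0 ∧ ∀ (x : Γ) (g : G), (χ : G → ℂ) ⟨x * g * x⁻¹, hG.conj_mem g g.2 x⟩ = (χ : G → ℂ) g := by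
  classical
  have key : ∀ χ : Cfsg.IrrCharacter G,
      (∀ (x : Γ) (g g' : G), (g' : Γ) = x * g * x⁻¹ → (χ : G → ℂ) g' = (χ : G → ℂ) g) →
      ∀ (x : Γ) (g : G), (χ : G → ℂ) ⟨x * g * x⁻¹, hG.conj_mem g g.2 x⟩ = (χ : G → ℂ) g :=
    fun χ h x g => h x g _ rfl
  rcases hsolv with hs | hs
  · obtain ⟨χ, h1, h2⟩ := CfsgLib.CharAction.exists_inv_over_solvable_top G N hNG hcop hs θ hinv
    exact ⟨χ, h1, key χ h2⟩
  · -- a complement of `G ⧸ N` in `Γ ⧸ N`
    let K : Subgroup (Γ ⧸ N) := G.map (QuotientGroup.mk' N)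
    have : K.Normal := Subgroup.Normal.map hG _ (QuotientGroup.mk'_surjective N)
    have hKidx : K.index = G.index := Subgroup.index_map_eq _ (QuotientGroup.mk'_surjective N)
      (by rw [QuotientGroup.ker_mk']; exact hNG)
    have hKcard : Nat.card K = N.relIndex G := by
      rw [← Subgroup.relIndex_bot_left, ← Subgroup.relIndex_comap, MonoidHom.comap_bot,
        QuotientGroup.ker_mk']
    obtain ⟨B, hB⟩ := Subgroup.exists_right_complement'_of_coprime (N := K)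
      (by rw [hKidx, hKcard]; exact hcop.symm)
    let T : Subgroup Γ := B.comap (QuotientGroup.mk' N)
    have hNT : N ≤ T := fun n hn => by
      show (n : Γ ⧸ N) ∈ B
      rw [(QuotientGroup.eq_one_iff n).2 hn]; exact one_mem B
    have hidx : (N.subgroupOf T).index = G.index := by
      show N.relIndex T = _
      have h : (⊥ : Subgroup (Γ ⧸ N)).relIndex B = N.relIndex T := by
        conv_lhs => rw [← Subgroup.map_comap_eq_self_of_surjective (QuotientGroup.mk'_surjective N) B]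
        rw [← Subgroup.relIndex_comap, MonoidHom.comap_bot, QuotientGroup.ker_mk']
      rw [← h, Subgroup.relIndex_bot_left, ← hB.symm.index_eq_card, hKidx]
    obtain ⟨χ, h1, h2⟩ := CfsgLib.CharAction.exists_inv_over_sub G T N
      (fun t _ g hg => hG.conj_mem g hg t) hNG inferInstance (fun t _ n hn => hN.conj_mem n hn t) hs
      (N.subgroupOf T) (fun t ht => ht) (by rw [hidx]; exact hcop) θ
      (fun t _ g g' hg => by
        rw [show g' = ⟨t * g * t⁻¹, hN.conj_mem g g.2 t⟩ from Subtype.ext hg]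
        exact hinv t g)
    refine ⟨χ, h1, key χ fun x g g' hg => ?_⟩
    obtain ⟨⟨⟨k, hk⟩, b⟩, hkb⟩ := hB.2 (x : Γ ⧸ N)
    obtain ⟨g₀, hg₀, rfl⟩ := hk
    have ht : g₀⁻¹ * x ∈ T := by
      show ((g₀⁻¹ * x : Γ) : Γ ⧸ N) ∈ B
      rw [QuotientGroup.mk_mul, QuotientGroup.mk_inv, ← hkb]
      show (g₀ : Γ ⧸ N)⁻¹ * ((g₀ : Γ ⧸ N) * b) ∈ B
      rw [inv_mul_cancel_left]
      exact b.2
    let g₁ : G := ⟨(g₀⁻¹ * x) * g * (g₀⁻¹ * x)⁻¹, hG.conj_mem g g.2 _⟩
    have e1 : g' = ⟨g₀, hg₀⟩ * g₁ * ⟨g₀, hg₀⟩⁻¹ := Subtype.ext (by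
      rw [hg]
      show x * (g : Γ) * x⁻¹ = g₀ * ((g₀⁻¹ * x) * g * (g₀⁻¹ * x)⁻¹) * g₀⁻¹
      group)
    rw [e1, CfsgLib.Char.IsIrr.isClassFunction χ.2 g₁ _]
    exact h2 _ ht g g₁ rfl

end Cfsg.Agent.S4450
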