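import Cfsg.Statements.S4452
import Cfsg.Agent.Lib.Char.CoprimeDegree
import Cfsg.Agent.Lib.CharAction.Solvable
import Cfsg.Agent.Lib.CharAction.Conj

set_option autoImplicit false
open Cfsg

namespace Cfsg.Agent.S4452

/-- Let the finite group G be the product of a normal subgroup K and a solvable subgroup H of coprime orders, and let N = N_G(H). Then the number of irreducible characters of G of degree coprime to the order of H equals the number of irreducible characters of N of degree coprime to the order of H. (The two sets are in fact in a canonical bijection; only the equality of their sizes is stated here.) -/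
theorem result {G : Type*} [Group G] [Finite G] (K H : Subgroup G) [K.Normal] (hKH : K ⊔ H = ⊤) (hcop : (Nat.card K).Coprime (Nat.card H)) (hsolv : Group.IsSolvable H) : Nat.card {χ : Cfsg.IrrCharacter G // (Cfsg.charDegree (χ : G → ℂ)).Coprime (Nat.card H)} = Nat.card {η : Cfsg.IrrCharacter (Subgroup.normalizer (H : Set G)) // (Cfsg.charDegree (η : Subgroup.normalizer (H : Set G) → ℂ)).Coprime (Nat.card H)} := by
  classical
  have := Fintype.ofFinite G
  have hKn : K.Normal := inferInstance
  have hinf : K ⊓ H = ⊥ := by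
    rw [← Subgroup.card_eq_one]
    exact Nat.eq_one_of_dvd_coprimes hcop (Subgroup.card_dvd_of_le inf_le_left)
      (Subgroup.card_dvd_of_le inf_le_right)
  obtain ⟨e⟩ := CfsgLib.CharExt.nonempty_equiv_quotient K H hinf hKH
  have hidx : K.index = Nat.card H := by rw [Subgroup.index_eq_card, Nat.card_congr e.toEquiv]
  -- the normalizer
  set N := Subgroup.normalizer (H : Set G) with hN
  have hHN : H ≤ N := Subgroup.le_normalizer
  let K' : Subgroup N := K.subgroupOf N
  let H' : Subgroup N := H.subgroupOf N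
  have hK'n : K'.Normal := hKn.subgroupOf N
  have hinf' : K' ⊓ H' = ⊥ := by
    rw [Subgroup.eq_bot_iff_forall]
    rintro x ⟨h1, h2⟩
    have h3 : (x : G) ∈ K ⊓ H := ⟨h1, h2⟩
    rw [hinf, Subgroup.mem_bot] at h3
    exact Subtype.ext h3
  have hsup' : K' ⊔ H' = ⊤ := by
    rw [eq_top_iff]
    intro n _
    obtain ⟨k, hk, h, hh, hkh⟩ := Subgroup.mem_sup_of_normal_left.mp
      (hKH ▸ Subgroup.mem_top (n : G) : (n : G) ∈ K ⊔ H)
    have hkN : k ∈ N := by
      rw [show k = (n : G) * h⁻¹ by rw [← hkh]; group]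
      exact mul_mem n.2 (inv_mem (hHN hh))
    have : n = ⟨k, hkN⟩ * ⟨h, hHN hh⟩ := Subtype.ext hkh.symm
    rw [this]
    exact Subgroup.mul_mem_sup (Subgroup.mem_subgroupOf.mpr hk) (Subgroup.mem_subgroupOf.mpr hh)
  obtain ⟨e'⟩ := CfsgLib.CharExt.nonempty_equiv_quotient K' H' hinf' hsup'
  let f : H' ≃* H := Subgroup.subgroupOfEquivOfLe hHN
  have hidx' : K'.index = Nat.card H := by
    rw [Subgroup.index_eq_card, ← Nat.card_congr e'.toEquiv, Nat.card_congr f.toEquiv]
  have hcop' : (Nat.card K').Coprime K'.index := by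
    rw [hidx']
    refine hcop.coprime_dvd_left ?_
    exact Subgroup.card_dvd_of_injective
      ({ toFun := fun x => ⟨((x : N) : G), x.2⟩, map_one' := rfl, map_mul' := fun _ _ => rfl } :
        K' →* K) (fun a b hab => Subtype.ext (Subtype.ext (congrArg Subtype.val hab :)))
  have h1 := CfsgLib.CharExt.card_coprime_degree K (hidx ▸ hcop)
  have h2 := CfsgLib.CharExt.card_coprime_degree K' hcop'
  rw [hidx] at h1
  rw [hidx'] at h2
  rw [h1, h2]
  congr 1
  · let q : G ⧸ K ≃* N ⧸ K' := e.symm.trans (f.symm.trans e')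
    exact Nat.card_congr
      { toFun := fun l => l.comp q.symm.toMonoidHom
        invFun := fun l => l.comp q.toMonoidHom
        left_inv := fun l => MonoidHom.ext fun x => congrArg l (q.symm_apply_apply x)
        right_inv := fun l => MonoidHom.ext fun x => congrArg l (q.apply_symm_apply x) }
  -- the action of `H` on `K`
  letI act := CfsgLib.CharAction.conjAction K H fun s _ g hg => hKn.conj_mem g hg s
  have hfix : ∀ θ : Cfsg.IrrCharacter K, (∀ g : G, CfsgLib.Clifford.conjFn hKn (θ : K → ℂ) g = θ) ↔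
      CfsgLib.CharAction.IsInv H (θ : K → ℂ) := by
    intro θ
    refine ⟨fun h a x => congrFun (h a) x, fun h g => ?_⟩
    have hle : K ⊔ H ≤ CfsgLib.Clifford.inertia hKn (θ : K → ℂ) :=
      sup_le (CfsgLib.Clifford.le_inertia hKn (CfsgLib.Char.IsIrr.isClassFunction θ.2))
        fun a ha => funext fun x => h ⟨a, ha⟩ x
    exact CfsgLib.Clifford.mem_inertia.mp (hle (hKH ▸ Subgroup.mem_top g))
  have hcomm : ∀ (x : K'), ∀ a ∈ H, a * ((x : N) : G) * a⁻¹ = ((x : N) : G) := by
    intro x a ha
    have hx : ((x : N) : G) ∈ K := x.2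
    have h3 : a * ((x : N) : G) * a⁻¹ * ((x : N) : G)⁻¹ ∈ K ⊓ H := by
      refine ⟨K.mul_mem (hKn.conj_mem _ hx a) (K.inv_mem hx), ?_⟩
      show _ ∈ H
      have h4 := (Subgroup.mem_normalizer_iff.mp (x : N).2 a⁻¹).mp (inv_mem ha)
      have h5 := mul_mem ha h4
      rwa [← mul_assoc, ← mul_assoc] at h5
    rw [hinf, Subgroup.mem_bot] at h3
    exact mul_inv_eq_one.mp h3
  let ψ : FixedPoints.subgroup H K ≃* K' :=
    { toFun := fun x => ⟨⟨((x : K) : G), by
        rw [hN, Subgroup.mem_normalizer_iff]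
        have hc : ∀ a ∈ H, ((x : K) : G) * a = a * ((x : K) : G) := fun a ha =>
          (mul_inv_eq_iff_eq_mul.mp (congrArg Subtype.val (x.2 ⟨a, ha⟩))).symm
        refine fun a => ⟨fun ha => ?_, fun ha => ?_⟩
        · show ((x : K) : G) * a * ((x : K) : G)⁻¹ ∈ H
          rw [hc a ha, mul_inv_cancel_right]
          exact ha
        · have h6 := hc _ ha
          rw [inv_mul_cancel_right, mul_assoc] at h6
          have h7 : a = ((x : K) : G) * a * ((x : K) : G)⁻¹ := by rw [mul_assoc]; exact (mul_left_cancel h6).symm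
          rw [h7]; exact ha⟩, x.1.2⟩
      invFun := fun x => ⟨⟨((x : N) : G), x.2⟩, fun a => Subtype.ext (hcomm x a a.2)⟩
      left_inv := fun x => rfl
      right_inv := fun x => rfl
      map_mul' := fun x y => rfl }
  rw [Nat.card_congr (Equiv.subtypeEquivRight hfix),
    (CfsgLib.CharAction.card_inv_eq_aux _ H le_rfl hsolv K hcop).1,
    CfsgLib.CharAction.card_conjClasses_congr ψ, ← CfsgLib.Char.card_irrCharacter]
  refine (Nat.card_congr (Equiv.subtypeUnivEquiv fun θ n => funext fun y => ?_)).symm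
  have : n ∈ CfsgLib.Clifford.inertia hK'n (θ : K' → ℂ) := by
    have hle : K' ⊔ H' ≤ CfsgLib.Clifford.inertia hK'n (θ : K' → ℂ) :=
      sup_le (CfsgLib.Clifford.le_inertia hK'n (CfsgLib.Char.IsIrr.isClassFunction θ.2))
        fun a ha => funext fun z => congrArg (θ : K' → ℂ)
          (Subtype.ext (Subtype.ext (hcomm z _ ha)))
    exact hle (hsup' ▸ Subgroup.mem_top n)
  exact congrFun (CfsgLib.Clifford.mem_inertia.mp this) y

end Cfsg.Agent.S4452
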