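import Cfsg.Statements.S4453
import Cfsg.Agent.Lib.Char.OddSection.Reduce

set_option linter.all false
set_option maxHeartbeats 800000

set_option autoImplicit false
open Cfsg

namespace Cfsg.Agent.S4453

/-- Inside a finite group Γ let S normalise the solvable subgroup G of odd order with the orders of G and S coprime, let C = G ⊓ C(S), and let L ≤ K be S-invariant normal subgroups of G with K/L abelian, G = KC and H = LC (so C ≤ H ≤ G). Then for each S-invariant irreducible character χ of G there is exactly one S-invariant irreducible character ψ of H whose multiplicity in the restriction of χ to H is odd, and χ ↦ ψ is a bijection from the S-invariant irreducible characters of G onto those of H (distinct χ give distinct ψ, and every S-invariant ψ arises). -/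
theorem result {Γ : Type*} [Group Γ] [Fintype Γ] (G S : Subgroup Γ) [Fintype G] (hnorm : ∀ s ∈ S, ∀ g ∈ G, s * g * s⁻¹ ∈ G) (hcop : (Nat.card G).Coprime (Nat.card S)) (hGsolv : Group.IsSolvable G) (hodd : Odd (Nat.card G)) (C : Subgroup Γ) [Fintype C] (hC : C = G ⊓ Subgroup.centralizer (S : Set Γ)) (hCG : C ≤ G) (K L H : Subgroup Γ) [Fintype H] (hLK : L ≤ K) (hKG : K ≤ G) (hKn : ∀ g ∈ G, ∀ k ∈ K, g * k * g⁻¹ ∈ K) (hLn : ∀ g ∈ G, ∀ l ∈ L, g * l * g⁻¹ ∈ L) (hKS : ∀ s ∈ S, ∀ k ∈ K, s * k * s⁻¹ ∈ K) (hLS : ∀ s ∈ S, ∀ l ∈ L, s * l * s⁻¹ ∈ L) (hab : ∀ a ∈ K, ∀ b ∈ K, a * b * a⁻¹ * b⁻¹ ∈ L) (hGKC : K ⊔ C = G) (hH : H = L ⊔ C) (hHG : H ≤ G) : (∀ χ : Cfsg.IrrCharacter G, (∀ s ∈ S, ∀ g g' : G, (g' : Γ) = s * g * s⁻¹ → (χ : G → ℂ) g' = (χ : G → ℂ) g) → ∃! ψ : Cfsg.IrrCharacter H, (∀ s ∈ S, ∀ g g' : H, (g' : Γ) = s * g * s⁻¹ → (ψ : H → ℂ) g' = (ψ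 : H → ℂ) g) ∧ ∃ m : ℕ, Cfsg.classInner (fun h : H => (χ : G → ℂ) ⟨h, hHG h.2⟩) (ψ : H → ℂ) = (m : ℂ) ∧ Odd m) ∧ (∀ χ χ' : Cfsg.IrrCharacter G, (∀ s ∈ S, ∀ g g' : G, (g' : Γ) = s * g * s⁻¹ → (χ : G → ℂ) g' = (χ : G → ℂ) g) → (∀ s ∈ S, ∀ g g' : G, (g' : Γ) = s * g * s⁻¹ → (χ' : G → ℂ) g' = (χ' : G → ℂ) g) → ∀ ψ : Cfsg.IrrCharacter H, (∀ s ∈ S, ∀ g g' : H, (g' : Γ) = s * g * s⁻¹ → (ψ : H → ℂ) g' = (ψ : H → ℂ) g) → ∀ m m' : ℕ, Cfsg.classInner (fun h : H => (χ : G → ℂ) ⟨h, hHG h.2⟩) (ψ : H → ℂ) = (m : ℂ) → Odd m → Cfsg.classInner (fun h : H => (χ' : G → ℂ) ⟨h, hHG h.2⟩) (ψ : H → ℂ) = (m' : ℂ) → Odd m' → χ = χ') ∧ (∀ ψ : Cfsg.IrrCharacter H, (∀ s ∈ S, ∀ g g' : H, (g' : Γ) = s * g * s⁻¹ → (ψ : H → ℂ) g' = (ψ : H → ℂ) g) → ∃ χ : Cfsg.IrrCharacter G, (∀ s ∈ S, ∀ g g' : G, (g' : Γ) = s * g * s⁻¹ → (χ : G → ℂ) g' = (χ : G → ℂ) g) ∧ ∃ m : ℕ, Cfsg.classInner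 (fun h : H => (χ : G → ℂ) ⟨h, hHG h.2⟩) (ψ : H → ℂ) = (m : ℂ) ∧ Odd m) := by
  classical
  subst hC
  subst hH
  let a : S →* MulAut G := CfsgLib.Char.OddSection.restrAut ((MulAut.conj : Γ →* MulAut Γ).comp S.subtype) G
    (fun s g hg => hnorm s s.2 g hg)
  have ha : ∀ (s : S) (g : G), ((a s g : G) : Γ) = (s : Γ) * g * (s : Γ)⁻¹ := fun s g => rfl
  haveI : Finite S := inferInstance
  set C' : Subgroup G := (G ⊓ Subgroup.centralizer (S : Set Γ)).subgroupOf G with hC'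
  set K' : Subgroup G := K.subgroupOf G with hK'
  set L' : Subgroup G := L.subgroupOf G with hL'
  set H' : Subgroup G := (L ⊔ (G ⊓ Subgroup.centralizer (S : Set Γ))).subgroupOf G with hH'
  have hLG : L ≤ G := hLK.trans hKG
  let eH : H' ≃* ↥(L ⊔ (G ⊓ Subgroup.centralizer (S : Set Γ))) := Subgroup.subgroupOfEquivOfLe hHG
  haveI : Fintype H' := Fintype.ofFinite _
  haveI : Fintype L' := Fintype.ofFinite _
  have hC : ∀ c : G, c ∈ C' ↔ ∀ s : S, a s c = c := by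
    intro c
    rw [hC', Subgroup.mem_subgroupOf, Subgroup.mem_inf, Subgroup.mem_centralizer_iff]
    constructor
    · exact fun h s => Subtype.ext (by rw [ha, h.2 _ s.2]; group)
    · refine fun h => ⟨c.2, fun s hs => ?_⟩
      have h1 := congrArg Subtype.val (h ⟨s, hs⟩)
      rw [ha] at h1
      exact mul_inv_eq_iff_eq_mul.mp h1
  obtain ⟨hA, hB, hC2⟩ := CfsgLib.Char.OddSection.section_correspondence a K' L' H' hodd hcop hGsolv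
    C' hC ⟨fun k hk g => hKn g g.2 k hk⟩ ⟨fun l hl g => hLn g g.2 l hl⟩ (fun x hx => hLK hx)
    (fun s k hk => hKS s s.2 k hk) (fun s l hl => hLS s s.2 l hl) (fun x hx y hy => hab x hx y hy)
    (by rw [hC', hK', ← Subgroup.subgroupOf_sup hKG hCG, hGKC, Subgroup.subgroupOf_self])
    (by rw [hH', hL', hC', ← Subgroup.subgroupOf_sup hLG hCG])
  have hinv : ∀ χ : Cfsg.IrrCharacter G,
      (∀ s ∈ S, ∀ g g' : G, (g' : Γ) = s * g * s⁻¹ → (χ : G → ℂ) g' = (χ : G → ℂ) g) ↔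
        ∀ s g, (χ : G → ℂ) (a s g) = (χ : G → ℂ) g := fun χ =>
    ⟨fun h s g => h s s.2 g (a s g) (ha s g), fun h s hs g g' hg => by
      rw [show g' = a ⟨s, hs⟩ g from Subtype.ext hg]; exact h _ _⟩
  let toH' : Cfsg.IrrCharacter ↥(L ⊔ (G ⊓ Subgroup.centralizer (S : Set Γ))) → Cfsg.IrrCharacter H' :=
    fun ψ => ⟨_, CfsgLib.Char.IsIrr.comp_surjective eH.toMonoidHom eH.surjective ψ.2⟩
  let ofH' : Cfsg.IrrCharacter H' → Cfsg.IrrCharacter ↥(L ⊔ (G ⊓ Subgroup.centralizer (S : Set Γ))) :=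
    fun ψ => ⟨_, CfsgLib.Char.IsIrr.comp_surjective eH.symm.toMonoidHom eH.symm.surjective ψ.2⟩
  have hto : ∀ ψ, toH' (ofH' ψ) = ψ := fun ψ => CfsgLib.Char.irr_ext fun h =>
    congrArg (ψ : H' → ℂ) (eH.symm_apply_apply h)
  have hof : ∀ ψ, ofH' (toH' ψ) = ψ := fun ψ => CfsgLib.Char.irr_ext fun h =>
    congrArg (ψ : ↥(L ⊔ (G ⊓ Subgroup.centralizer (S : Set Γ))) → ℂ) (eH.apply_symm_apply h)
  have hinvH : ∀ ψ : Cfsg.IrrCharacter ↥(L ⊔ (G ⊓ Subgroup.centralizer (S : Set Γ))),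
      (∀ s ∈ S, ∀ g g' : ↥(L ⊔ (G ⊓ Subgroup.centralizer (S : Set Γ))), (g' : Γ) = s * g * s⁻¹ →
        (ψ : _ → ℂ) g' = (ψ : _ → ℂ) g) ↔
        CfsgLib.Char.OddSection.InvOn a H' (toH' ψ : H' → ℂ) := fun ψ =>
    ⟨fun h s x x' hx => h s s.2 (eH x) (eH x') (congrArg Subtype.val hx), fun h s hs g g' hg => by
      obtain ⟨x, rfl⟩ := eH.surjective g
      obtain ⟨x', rfl⟩ := eH.surjective g'
      exact h ⟨s, hs⟩ x x' (Subtype.ext hg)⟩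
  have hodd' : ∀ (χ : Cfsg.IrrCharacter G)
      (ψ : Cfsg.IrrCharacter ↥(L ⊔ (G ⊓ Subgroup.centralizer (S : Set Γ)))),
      (∃ m : ℕ, Cfsg.classInner (fun h : ↥(L ⊔ (G ⊓ Subgroup.centralizer (S : Set Γ))) =>
        (χ : G → ℂ) ⟨h, hHG h.2⟩) (ψ : _ → ℂ) = (m : ℂ) ∧ Odd m) ↔
        CfsgLib.Char.OddSection.OddMult H' (χ : G → ℂ) (toH' ψ : H' → ℂ) := by
    intro χ ψ
    unfold CfsgLib.Char.OddSection.OddMult
    rw [← CfsgLib.Clifford.classInner_comp_equiv eH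
      (fun h : ↥(L ⊔ (G ⊓ Subgroup.centralizer (S : Set Γ))) => (χ : G → ℂ) ⟨h, hHG h.2⟩) (ψ : _ → ℂ)]
    rfl
  refine ⟨fun χ hχ => ?_, fun χ χ' hχ hχ' ψ hψ m m' h1 h1' h2 h2' => ?_, fun ψ hψ => ?_⟩
  · obtain ⟨ψ, ⟨hψ1, hψ2⟩, hu⟩ := hA χ ((hinv χ).mp hχ)
    refine ⟨ofH' ψ, ⟨(hinvH _).mpr (by rw [hto]; exact hψ1), (hodd' χ _).mpr (by rw [hto]; exact hψ2)⟩,
      fun ψ' hψ' => ?_⟩
    rw [← hof ψ', hu (toH' ψ') ⟨(hinvH ψ').mp hψ'.1, (hodd' χ ψ').mp hψ'.2⟩]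
  · exact hB χ χ' ((hinv χ).mp hχ) ((hinv χ').mp hχ') (toH' ψ) ((hinvH ψ).mp hψ)
      ((hodd' χ ψ).mp ⟨m, h1, h1'⟩) ((hodd' χ' ψ).mp ⟨m', h2, h2'⟩)
  · obtain ⟨χ, hχ1, hχ2⟩ := hC2 (toH' ψ) ((hinvH ψ).mp hψ)
    exact ⟨χ, (hinv χ).mpr hχ1, (hodd' χ ψ).mpr hχ2⟩

end Cfsg.Agent.S4453
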