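import Cfsg.Statements.S4460
import Cfsg.Agent.Lib.CharDegree.ThreeDegrees.Main

set_option autoImplicit false
open Cfsg

namespace Cfsg.Agent.S4460

/-- A finite group with exactly three distinct irreducible character degrees is solvable of derived length at most 3: its third derived subgroup is trivial. -/
theorem result {G : Type*} [Group G] [Finite G] (hcd : Nat.card {n : ℕ // ∃ χ : Cfsg.IrrCharacter G, Cfsg.charDegree (χ : G → ℂ) = n} = 3) : derivedSeries G 3 = ⊥ := by
  obtain ⟨x, y, z, hxy, hxz, hyz, hS⟩ := Set.ncard_eq_three.mp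
    (show {n : ℕ | ∃ χ : Cfsg.IrrCharacter G, Cfsg.charDegree (χ : G → ℂ) = n}.ncard = 3 from hcd)
  have hone : (1 : ℕ) ∈ ({x, y, z} : Set ℕ) :=
    hS ▸ (⟨CfsgLib.Char.trivChar G, CfsgLib.CharDegree.charDegree_one⟩ :
      ∃ χ : Cfsg.IrrCharacter G, Cfsg.charDegree (χ : G → ℂ) = 1)
  have hmem : ∀ χ : Cfsg.IrrCharacter G, Cfsg.charDegree (χ : G → ℂ) = x ∨
      Cfsg.charDegree (χ : G → ℂ) = y ∨ Cfsg.charDegree (χ : G → ℂ) = z := fun χ => by
    have h : Cfsg.charDegree (χ : G → ℂ) ∈ ({x, y, z} : Set ℕ) := hS ▸ ⟨χ, rfl⟩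
    simpa using h
  simp only [Set.mem_insert_iff, Set.mem_singleton_iff] at hone
  rcases hone with h | h | h
  · exact CfsgLib.ThreeDegrees.derived_three (a := y) (b := z) fun χ =>
      (hmem χ).imp_left fun e => e.trans h.symm
  · exact CfsgLib.ThreeDegrees.derived_three (a := x) (b := z) fun χ => by
      rcases hmem χ with e | e | e <;> simp [e, ← h]
  · exact CfsgLib.ThreeDegrees.derived_three (a := x) (b := y) fun χ => by
      rcases hmem χ with e | e | e <;> simp [e, ← h]

end Cfsg.Agent.S4460
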