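import Cfsg.Statements.S4466
import Cfsg.Agent.Lib.Blocks.PrimeSylow.Main
import Cfsg.Agent.Lib.Blocks.PrimeSylow.Principal
import Cfsg.Agent.Lib.ZStar.PrincipalBlock
import Cfsg.Agent.Lib.Char.Burnside
import Cfsg.Agent.Lib.CharDegree.Basic
import Cfsg.Agent.Lib.CharDegree.Restriction
import Cfsg.Agent.Lib.CharDegree.ThreeDegrees.Basic

set_option autoImplicit false
open Cfsg

namespace Cfsg.Agent.S4466

open CfsgLib CfsgLib.Char

/-- A simple nonabelian group: a character of prime degree `p` forces `|G|_p = p`. -/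
theorem sylow_prime {G : Type*} [Group G] [Finite G] [IsSimpleGroup G]
    (hnp : ¬ (Nat.card G).Prime) (χ : IrrCharacter G) (hne : (χ : G → ℂ) ≠ fun _ => 1)
    {p : ℕ} [Fact p.Prime] (hdeg : charDegree (χ : G → ℂ) = p) (P : Sylow p G) :
    Nat.card P = p := by
  classical
  have hp : p.Prime := Fact.out
  have : Fintype G := Fintype.ofFinite G
  have : Fintype (P : Subgroup G) := Fintype.ofFinite _
  set Q : Subgroup G := (P : Subgroup G) with hQ
  have hfaith : CharDegree.kerSubgroup χ = ⊥ := by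
    have := CharDegree.kerSubgroup_normal χ
    refine (IsSimpleGroup.eq_bot_or_eq_top_of_normal _ this).resolve_right fun htop => ?_
    have h1 : ∀ g : G, (χ : G → ℂ) g = (χ : G → ℂ) 1 := fun g =>
      CharDegree.mem_kerSubgroup.mp (htop ▸ Subgroup.mem_top g)
    have h2 : charDegree (χ : G → ℂ) = 1 :=
      (CharDegree.charDegree_eq_one_iff_commutator χ).mpr fun g _ => h1 g
    exact hp.ne_one (hdeg.symm.trans h2)
  have hcen : Subgroup.center G = ⊥ := by
    by_contra h
    exact hnp (Burnside.prime_card_of_center_ne_bot h)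
  have hpG : p ∣ Nat.card G := hdeg ▸ CharDegree.charDegree_dvd_card χ
  -- vanishing on the nontrivial central elements of the Sylow subgroup
  have hvan : ∀ z : Q, z ∈ Subgroup.center Q → z ≠ 1 → (χ : G → ℂ) z = 0 := by
    intro z hz hz1
    have hle : Q ≤ Subgroup.centralizer ({(z : G)} : Set G) := fun y hy =>
      Subgroup.mem_centralizer_singleton_iff.mpr
        (congrArg Subtype.val (Subgroup.mem_center_iff.mp hz ⟨y, hy⟩))
    have hcop : Nat.Coprime (charDegree (χ : G → ℂ))
        (Subgroup.centralizer ({(z : G)} : Set G)).index := by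
      rw [hdeg, hp.coprime_iff_not_dvd]
      exact fun hd => P.not_dvd_index (hd.trans (Subgroup.index_dvd_of_le hle))
    refine (CharDegree.eq_zero_or_norm_eq χ _ hcop).resolve_right fun h => hz1 ?_
    exact Subtype.ext (Subgroup.mem_bot.mp (hcen ▸ CharDegree.mem_center_of_norm_eq χ hfaith h))
  have hQpg : IsPGroup p Q := P.isPGroup'
  have : Nontrivial Q := (Sylow.ne_bot_of_dvd_card P hpG |> (Subgroup.nontrivial_iff_ne_bot _).mpr)
  obtain ⟨z₀, hz₀⟩ : ∃ z : Subgroup.center Q, z ≠ 1 := by
    have := IsPGroup.center_nontrivial hQpg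
    exact exists_ne 1
  -- all constituents of the restriction are linear
  have := Fintype.ofFinite (IrrCharacter Q)
  obtain ⟨m, hm⟩ := IsChar.exists_sum (χ := fun h : Q => (χ : G → ℂ) h)
    (IsChar.restrict Q (IsIrr.isCharacter χ.2))
  have hsumdeg : ∑ θ, m θ * charDegree (θ : Q → ℂ) = p := by
    rw [← hdeg, ← Nat.cast_inj (R := ℂ), Nat.cast_sum]
    simp only [Nat.cast_mul, CharDegree.cast_irrDegree]
    have := congrFun hm 1
    simp only [OneMemClass.coe_one, Finset.sum_apply, Pi.smul_apply, smul_eq_mul] at this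
    exact this.symm
  have hlin : ∀ θ, m θ ≠ 0 → charDegree (θ : Q → ℂ) = 1 := by
    intro θ hθ
    by_contra hθ1
    obtain ⟨k, hk⟩ := hQpg.exists_card_eq
    obtain ⟨j, -, hj⟩ := (Nat.dvd_prime_pow hp).mp (hk ▸ CharDegree.charDegree_dvd_card θ)
    have hj0 : 1 ≤ j := by
      by_contra h
      exact hθ1 (by rw [hj, show j = 0 by omega, pow_zero])
    have hge : p ≤ charDegree (θ : Q → ℂ) := hj ▸ Nat.le_self_pow (by omega) p
    rw [← Finset.add_sum_erase _ _ (Finset.mem_univ θ)] at hsumdeg
    have hmul : p ≤ m θ * charDegree (θ : Q → ℂ) :=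
      hge.trans (Nat.le_mul_of_pos_left _ (Nat.pos_of_ne_zero hθ))
    have hrest : ∀ φ, φ ≠ θ → m φ = 0 := by
      intro φ hφ
      have h0 : ∑ x ∈ Finset.univ.erase θ, m x * charDegree (x : Q → ℂ) = 0 := by omega
      have h1 := (Finset.sum_eq_zero_iff.mp h0) φ (Finset.mem_erase.mpr ⟨hφ, Finset.mem_univ _⟩)
      exact (Nat.mul_eq_zero.mp h1).resolve_right (CharDegree.charDegree_pos φ).ne'
    have hz := hvan z₀ z₀.2 (fun e => hz₀ (Subtype.ext e))
    have hval := congrFun hm (z₀ : Q)
    simp only [Finset.sum_apply, Pi.smul_apply, smul_eq_mul] at hval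
    rw [Finset.sum_eq_single θ (fun φ _ hφ => by simp [hrest φ hφ])
      (fun h => absurd (Finset.mem_univ _) h), hz] at hval
    have hθz : (θ : Q → ℂ) (z₀ : Q) = 0 :=
      (mul_eq_zero.mp hval.symm).resolve_left (Nat.cast_ne_zero.mpr hθ)
    obtain ⟨n, ρ, hρ, hχ', hn⟩ := CharDegree.exists_rep θ
    obtain ⟨c, hc⟩ := CharIntegral.exists_scalar_of_mem_center ρ z₀.2
    have hn' := CharIntegral.norm_character_eq_of_scalar ρ _ hc
    rw [hχ', hθz, norm_zero, Module.finrank_fin_fun, hn] at hn'
    exact (CharDegree.charDegree_pos θ).ne' (by exact_mod_cast hn'.symm)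
  have hab : ∀ c ∈ commutator Q, c = 1 := by
    intro c hc
    have h1 : (χ : G → ℂ) c = (χ : G → ℂ) 1 := by
      have e1 := congrFun hm c
      have e2 := congrFun hm 1
      simp only [OneMemClass.coe_one, Finset.sum_apply, Pi.smul_apply, smul_eq_mul] at e1 e2
      rw [e1, e2]
      refine Finset.sum_congr rfl fun θ _ => ?_
      by_cases hθ : m θ = 0
      · simp [hθ]
      · rw [CharDegree.le_ker_of_degree_one θ (hlin θ hθ) hc]
    exact Subtype.ext (Subgroup.mem_bot.mp (hfaith ▸ CharDegree.mem_kerSubgroup.mpr h1))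
  have hcomm : ∀ a b : Q, a * b = b * a := fun a b =>
    commutatorElement_eq_one_iff_mul_comm.mp
      (hab _ (Subgroup.commutator_mem_commutator (Subgroup.mem_top _) (Subgroup.mem_top _)))
  -- the restriction is a multiple of the regular character
  have hreg : ∀ z : Q, z ≠ 1 → (χ : G → ℂ) z = 0 := fun z hz =>
    hvan z (Subgroup.mem_center_iff.mpr fun y => hcomm y z) hz
  obtain ⟨k, hk⟩ : ∃ k : ℕ, ∑ z : Q, (χ : G → ℂ) z = (Nat.card Q : ℂ) * k := by
    refine ⟨m (trivChar Q), ?_⟩
    have h1 : classInner (fun h : Q => (χ : G → ℂ) h) (trivChar Q : Q → ℂ) = (m (trivChar Q) : ℂ) := by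
      rw [hm, classInner_sum_irr]
    simp only [classInner, trivChar_apply, map_one, mul_one] at h1
    rw [inv_mul_eq_iff_eq_mul₀ (Nat.cast_ne_zero.mpr Nat.card_pos.ne')] at h1
    exact h1
  rw [Finset.sum_eq_single 1 (fun z _ hz => hreg z hz) (fun h => absurd (Finset.mem_univ _) h),
    OneMemClass.coe_one, ← CharDegree.cast_irrDegree, hdeg] at hk
  have hk' : p = Nat.card Q * k := by exact_mod_cast hk
  exact ((Nat.dvd_prime hp).mp ⟨k, hk'⟩).resolve_left Finite.one_lt_card.ne'

/-- For a Sylow subgroup of prime order in a nonabelian simple group, `[N : C] ≠ 1`. -/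
theorem relIndex_ne_one {G : Type*} [Group G] [Finite G] [IsSimpleGroup G]
    (hnp : ¬ (Nat.card G).Prime) {p : ℕ} [Fact p.Prime] (P : Sylow p G) (hP : Nat.card P = p) :
    (Subgroup.centralizer ((P : Subgroup G) : Set G)).relIndex
      (Subgroup.normalizer ((P : Subgroup G) : Set G)) ≠ 1 := by
  intro h
  have hc := MonoidHom.ker_transferSylow_isComplement' P (Subgroup.relIndex_eq_one.mp h)
  rcases IsSimpleGroup.eq_bot_or_eq_top_of_normal _
    (MonoidHom.normal_ker (MonoidHom.transferSylow P (Subgroup.relIndex_eq_one.mp h))) with hk | hk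
  · rw [hk, Subgroup.isComplement'_bot_left] at hc
    refine hnp ?_
    rw [← Subgroup.card_top, ← hc, hP]
    exact Fact.out
  · rw [hk, Subgroup.isComplement'_top_left] at hc
    rw [hc, Subgroup.card_bot] at hP
    exact (Fact.out : p.Prime).ne_one hP.symm

/-- No nonabelian simple group has only nonlinear degrees which are prime. -/
theorem not_simple {G : Type*} [Group G] [Finite G] [IsSimpleGroup G] (hnp : ¬ (Nat.card G).Prime)
    (hns : ¬ Group.IsSolvable G)
    (h : ∀ χ : IrrCharacter G, charDegree (χ : G → ℂ) ≠ 1 → (charDegree (χ : G → ℂ)).Prime) :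
    False := by
  classical
  have : Fintype G := Fintype.ofFinite G
  have := Fintype.ofFinite (IrrCharacter G)
  have hperf : commutator G = ⊤ := by
    refine (IsSimpleGroup.eq_bot_or_eq_top_of_normal (commutator G)
      (inferInstance)).resolve_left fun hbot => hns ?_
    refine Group.isSolvable_of_comm fun a b => commutatorElement_eq_one_iff_mul_comm.mp
      (Subgroup.mem_bot.mp (hbot ▸ Subgroup.commutator_mem_commutator (Subgroup.mem_top a)
        (Subgroup.mem_top b)))
  have hone : ∀ χ : IrrCharacter G, charDegree (χ : G → ℂ) = 1 → χ = trivChar G := by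
    intro χ hχ
    refine irr_ext fun g => ?_
    rw [trivChar_apply, CharDegree.le_ker_of_degree_one χ hχ (hperf ▸ Subgroup.mem_top g),
      ← CharDegree.cast_irrDegree, hχ, Nat.cast_one]
  have hnet : ∀ χ : IrrCharacter G, χ ≠ trivChar G → (χ : G → ℂ) ≠ fun _ => 1 := fun χ hχ e =>
    hχ (irr_ext fun g => by rw [trivChar_apply, e])
  obtain ⟨χ₀, hχ₀⟩ : ∃ χ : IrrCharacter G, χ ≠ trivChar G := by
    by_contra hall
    push Not at hall
    have hsub : Subsingleton (IrrCharacter G) := ⟨fun a b => (hall a).trans (hall b).symm⟩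
    have h1 := card_irrCharacter (G := G)
    have h2 : Nat.card (ConjClasses G) ≤ 1 := h1 ▸ Finite.card_le_one_iff_subsingleton.mpr hsub
    obtain ⟨g, hg⟩ := exists_ne (1 : G)
    have := Finite.card_le_one_iff_subsingleton.mp h2
    exact hg (isConj_one_right.mp (ConjClasses.mk_eq_mk_iff_isConj.mp (Subsingleton.elim _ _)))
  obtain ⟨χ, hχmem, hmax⟩ := (Finset.univ.erase (trivChar G)).exists_max_image
    (fun χ : IrrCharacter G => charDegree (χ : G → ℂ)) ⟨χ₀, Finset.mem_erase.mpr ⟨hχ₀, Finset.mem_univ _⟩⟩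
  have hχne := (Finset.mem_erase.mp hχmem).1
  set p := charDegree (χ : G → ℂ) with hpdef
  have hp : p.Prime := h χ fun e => hχne (hone χ e)
  have hpf : Fact p.Prime := ⟨hp⟩
  let P : Sylow p G := default
  have hPcard := sylow_prime hnp χ (hnet χ hχne) rfl P
  have : Fintype (P : Subgroup G) := Fintype.ofFinite _
  obtain ⟨V, hV⟩ := Blocks.PrimeSylow.exists_setup hPcard P.not_dvd_index
  have : Fintype V := Fintype.ofFinite V
  obtain ⟨M, hM⟩ := ZStar.exists_isPModular hp
  have := hM.2.1.isPrime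
  set e := (Subgroup.centralizer ((P : Subgroup G) : Set G)).relIndex
      (Subgroup.normalizer ((P : Subgroup G) : Set G)) with hedef
  have he1 : e ≠ 1 := relIndex_ne_one hnp P hPcard
  have hedvd : e ∣ p - 1 := by
    have : Fintype (Blocks.PrimeSylow.NBar (P : Subgroup G)) := Fintype.ofFinite _
    exact hedef ▸ hV.inertialIndex_trivChar ▸ (hV.exists_over (trivChar V)).1
  obtain ⟨-, X, Y, hB, hdisj, hXc, hYc, εX, ε, hX, -, -, -, -⟩ := hV.exists_principal hM (e := e) rfl
  -- `2` is not a degree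
  have htwo : ∀ ψ : IrrCharacter G, charDegree (ψ : G → ℂ) ≠ 2 := by
    intro ψ hψ
    have h2 : Fact (Nat.Prime 2) := ⟨Nat.prime_two⟩
    let T : Sylow 2 G := default
    have hψne : ψ ≠ trivChar G := fun e => by
      rw [e] at hψ
      simp [charDegree, trivChar_apply] at hψ
    have hT := sylow_prime hnp ψ (hnet ψ hψne) hψ T
    obtain ⟨W, hW⟩ := Blocks.PrimeSylow.exists_setup hT T.not_dvd_index
    have : Fintype W := Fintype.ofFinite W
    have : Fintype (T : Subgroup G) := Fintype.ofFinite _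
    have : Fintype (Blocks.PrimeSylow.NBar (T : Subgroup G)) := Fintype.ofFinite _
    exact relIndex_ne_one hnp T hT
      (Nat.dvd_one.mp (hW.inertialIndex_trivChar ▸ (hW.exists_over (trivChar W)).1))
  have he2 : 2 ≤ e := by
    rcases Nat.lt_or_ge e 2 with hlt | hge
    · have he0 : e = 0 := by omega
      rw [he0, zero_dvd_iff] at hedvd
      have := hp.two_le
      omega
    · exact hge
  obtain ⟨ψ, hψX, hψne⟩ : ∃ ψ ∈ X, ψ ≠ trivChar G := by
    by_contra hall
    push Not at hall
    have : Nat.card X ≤ 1 := Finite.card_le_one_iff_subsingleton.mpr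
      ⟨fun a b => Subtype.ext ((hall _ a.2).trans (hall _ b.2).symm)⟩
    omega
  obtain ⟨hε, hcongr, -⟩ := hX ψ hψX
  have hq : (charDegree (ψ : G → ℂ)).Prime := h ψ fun e => hψne (hone ψ e)
  have hle : charDegree (ψ : G → ℂ) ≤ p :=
    hmax ψ (Finset.mem_erase.mpr ⟨hψne, Finset.mem_univ _⟩)
  have hq2 := hq.two_le
  have hp2 : p ≠ 2 := htwo χ
  have hqne2 := htwo ψ
  have hpodd := hp.eq_two_or_odd.resolve_left hp2
  have hqodd := hq.eq_two_or_odd.resolve_left hqne2
  rcases hε with h1 | h1 <;> rw [h1, Int.modEq_comm, Int.modEq_iff_dvd] at hcongr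
  · obtain ⟨c, hc⟩ := hcongr
    rcases lt_trichotomy c 0 with hc0 | hc0 | hc0
    · nlinarith
    · subst hc0; omega
    · nlinarith
  · obtain ⟨c, hc⟩ := hcongr
    rcases lt_trichotomy c 1 with hc0 | hc0 | hc0
    · nlinarith
    · subst hc0; omega
    · nlinarith

/-- The induction. -/
theorem solvable_aux : ∀ (n : ℕ) {G : Type*} [Group G] [Finite G], Nat.card G = n →
    (∀ χ : IrrCharacter G, charDegree (χ : G → ℂ) ≠ 1 → (charDegree (χ : G → ℂ)).Prime) →
    Group.IsSolvable G := by
  intro n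
  induction n using Nat.strong_induction_on with
  | _ n ih =>
  intro G _ _ hn h
  classical
  have : Fintype G := Fintype.ofFinite G
  by_contra hns
  by_cases hN : ∃ N : Subgroup G, N.Normal ∧ N ≠ ⊥ ∧ N ≠ ⊤
  · obtain ⟨N, hNn, hbot, htop⟩ := hN
    have : Fintype N := Fintype.ofFinite N
    have hcard := N.card_mul_index
    have hN2 : 1 < Nat.card N := Finite.one_lt_card_iff_nontrivial.mpr
      ((Subgroup.nontrivial_iff_ne_bot N).mpr hbot)
    have hI2 : 1 < N.index := Subgroup.one_lt_index_of_ne_top htop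
    have h1 : Group.IsSolvable N := by
      refine ih (Nat.card N) (by rw [← hn, ← hcard]; nlinarith) rfl fun θ hθ => ?_
      obtain ⟨χ, hχ⟩ := ThreeDegrees.exists_over N θ
      have hd := (ThreeDegrees.degree_dvd_of_over N χ θ hχ).1
      by_cases hχ1 : charDegree (χ : G → ℂ) = 1
      · exact absurd (Nat.eq_one_of_dvd_one (hχ1 ▸ hd)) hθ
      · exact ((Nat.dvd_prime (h χ hχ1)).mp hd).resolve_left hθ ▸ h χ hχ1
    have h2 : Group.IsSolvable (G ⧸ N) := by
      refine ih (Nat.card (G ⧸ N)) (by rw [← hn, ← hcard, ← Subgroup.index_eq_card]; nlinarith)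
        rfl fun θ hθ => ?_
      rw [← CharDegree.charDegree_infl] at hθ ⊢
      exact h _ hθ
    exact hns (Group.isSolvable_of_ker_le_range N.subtype (QuotientGroup.mk' N) (by simp))
  · push Not at hN
    have : Nontrivial G := by
      by_contra hnt
      rw [not_nontrivial_iff_subsingleton] at hnt
      exact hns inferInstance
    have : IsSimpleGroup G := { eq_bot_or_eq_top_of_normal := fun H hH => or_iff_not_imp_left.mpr (hN H hH) }
    refine not_simple (fun hpr => hns ?_) hns h
    have := Fact.mk hpr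
    have : IsCyclic G := isCyclic_of_prime_card rfl
    exact inferInstance

/-- If every irreducible character of the finite group G of degree greater than one has prime degree, then G is solvable. -/
theorem result {G : Type*} [Group G] [Finite G] (h : ∀ χ : Cfsg.IrrCharacter G, Cfsg.charDegree (χ : G → ℂ) ≠ 1 → (Cfsg.charDegree (χ : G → ℂ)).Prime) : Group.IsSolvable G := by
  exact solvable_aux (Nat.card G) rfl h

end Cfsg.Agent.S4466
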