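import Cfsg.Statements.S4469
import Mathlib
import Cfsg.Agent.Lib.Char.MonomialBound
import Cfsg.Agent.Lib.Char.Blichfeldt
import Cfsg.Agent.Lib.Char.Jordan
import Cfsg.Agent.Lib.CharDegree.Basic

set_option autoImplicit false
open Cfsg

namespace Cfsg.Agent.S4469

/-- The classical bound for finite linear groups, in explicit form. Let the finite group G have a faithful character of degree n. Then G has an abelian normal subgroup whose index is at most n! · 12^(n·(π(n+1)+1)), π(k) denoting the number of primes not exceeding k. -/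
theorem result {G : Type*} [Group G] [Finite G] (χ : G → ℂ) (hχ : Cfsg.IsCharacter G χ) (hfaith : ∀ g : G, χ g = χ 1 → g = 1) (n : ℕ) (hn : Cfsg.charDegree χ = n) : ∃ A : Subgroup G, A.Normal ∧ (∀ x ∈ A, ∀ y ∈ A, x * y = y * x) ∧ A.index ≤ Nat.factorial n * 12 ^ (n * (Nat.primeCounting (n + 1) + 1)) := by
  classical
  have := Fintype.ofFinite G
  obtain ⟨m, ρ, rfl⟩ := hχ
  have hm : m = n := by
    rw [← hn]
    exact (CfsgLib.CharDegree.charDegree_eq_of_apply_one (by simp [Representation.char_one])).symm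
  subst hm
  have hρ : Function.Injective ρ := by
    intro a b h
    refine inv_mul_eq_one.1 (hfaith _ ?_)
    have h1 : ρ (a⁻¹ * b) = 1 := by rw [map_mul, ← h, ← map_mul, inv_mul_cancel, map_one]
    show LinearMap.trace ℂ _ (ρ (a⁻¹ * b)) = LinearMap.trace ℂ _ (ρ 1)
    rw [h1, map_one ρ]
  have hχ : Cfsg.IsCharacter G ρ.character := ⟨m, ρ, rfl⟩
  have h1 : ρ.character 1 = (m : ℂ) := by rw [Representation.char_one]; simp
  set N := Subgroup.closure (CfsgLib.Jordan.nearSet ρ) with hN
  haveI hNn : N.Normal := CfsgLib.Jordan.normal_closure_nearSet ρ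
  refine ⟨N, hNn, CfsgLib.Jordan.commutative_closure_nearSet ρ hρ, ?_⟩
  have hidx : ∀ K : Subgroup G, N.index ∣ N.relIndex K * K.index := fun K => by
    rw [← Subgroup.inf_relIndex_right, Subgroup.relIndex_mul_index inf_le_right]
    exact Subgroup.index_dvd_of_le inf_le_left
  have hab : ∀ K : Subgroup G, (∀ a ∈ K, ∀ b ∈ K, a * b = b * a) → N.relIndex K ≤ 12 ^ m := fun K hK =>
    CfsgLib.Jordan.index_le ρ K hK
  set S := (m + 2).primesBelow with hS
  set e : ℕ → ℕ := fun p => N.index.factorization p with he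
  -- a small prime
  have hsmall : ∀ p ∈ S, p ^ e p ≤ p ^ (m.factorial.factorization p) * 12 ^ m := by
    intro p hp
    haveI := Fact.mk (Nat.prime_of_mem_primesBelow hp)
    have hpp : p.Prime := Fact.out
    obtain ⟨P⟩ : Nonempty (Sylow p G) := inferInstance
    obtain ⟨A, hA, hAi⟩ := CfsgLib.MonomialBound.exists_abelian P.2 (CfsgLib.Char.IsChar.restrict (P : Subgroup G) hχ)
      (fun g h => Subtype.ext (hfaith g (by simpa using h))) (n := m) (by simpa using h1)
    obtain ⟨i, hi⟩ := P.2.index A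
    have hi' : i ≤ m.factorial.factorization p :=
      (hpp.pow_dvd_iff_le_factorization (Nat.factorial_pos m).ne').1 (hi ▸ hAi)
    have hdvd : p ^ e p ∣ N.relIndex P := by
      refine Nat.Coprime.dvd_of_dvd_mul_right ?_ ((Nat.ordProj_dvd N.index p).trans (hidx P))
      exact Nat.Coprime.pow_left _ (hpp.coprime_iff_not_dvd.2 P.not_dvd_index)
    refine (Nat.le_of_dvd (Nat.pos_of_ne_zero Subgroup.index_ne_zero_of_finite) hdvd).trans ?_
    set B := A.map (P : Subgroup G).subtype with hB
    have hBP : B ≤ P := Subgroup.map_subtype_le A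
    have hB1 : B.relIndex P = p ^ i := by
      rw [Subgroup.relIndex, Subgroup.subgroupOf, Subgroup.comap_map_eq_self_of_injective (Subgroup.subtype_injective _), hi]
    calc N.relIndex P = (N ⊓ P).relIndex P := (Subgroup.inf_relIndex_right _ _).symm
      _ ≤ (N ⊓ B).relIndex P := Nat.le_of_dvd (Nat.pos_of_ne_zero Subgroup.index_ne_zero_of_finite)
          (Subgroup.relIndex_dvd_of_le_left _ (le_inf inf_le_left (inf_le_right.trans hBP)))
      _ = (N ⊓ B).relIndex B * B.relIndex P := (Subgroup.relIndex_mul_relIndex _ _ _ inf_le_right hBP).symm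
      _ ≤ 12 ^ m * p ^ (m.factorial.factorization p) := by
          rw [Subgroup.inf_relIndex_right, hB1]
          refine Nat.mul_le_mul (hab B ?_) (Nat.pow_le_pow_right hpp.pos hi')
          rintro _ ⟨a, ha, rfl⟩ _ ⟨b, hb, rfl⟩
          exact congrArg Subtype.val (hA a ha b hb)
      _ = _ := mul_comm _ _
  -- the large primes
  obtain ⟨A, hA1, hA2, hA3⟩ := CfsgLib.Blichfeldt.exists_hall hχ hfaith h1
  have hlarge : ∏ p ∈ N.index.primeFactors \ S, p ^ e p ≤ 12 ^ m := by
    refine le_trans (Nat.le_of_dvd (Nat.pos_of_ne_zero Subgroup.index_ne_zero_of_finite) ?_) (hab A hA1)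
    refine Nat.Coprime.dvd_of_dvd_mul_right ?_ (((?_ : _ ∣ N.index)).trans (hidx A))
    · refine Nat.Coprime.prod_left fun p hp => Nat.Coprime.pow_left _ ?_
      obtain ⟨hpF, hpS⟩ := Finset.mem_sdiff.1 hp
      have hpp := Nat.prime_of_mem_primeFactors hpF
      refine hpp.coprime_iff_not_dvd.2 fun hd => hpS (Nat.mem_primesBelow.2 ⟨?_, hpp⟩)
      have := hA3 p hpp hd
      omega
    · conv_rhs => rw [← Nat.prod_factorization_pow_eq_self (Subgroup.index_ne_zero_of_finite (H := N))]
      exact Finset.prod_dvd_prod_of_subset _ _ _ Finset.sdiff_subset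
  have hprodS : ∏ p ∈ N.index.primeFactors ∩ S, p ^ e p ≤ m.factorial * 12 ^ (m * (m + 1).primeCounting) := by
    refine (Finset.prod_le_prod' fun p hp => hsmall p (Finset.mem_inter.1 hp).2).trans ?_
    rw [Finset.prod_mul_distrib, Finset.prod_const, ← pow_mul]
    refine Nat.mul_le_mul (Nat.le_of_dvd (Nat.factorial_pos m) ?_) (Nat.pow_le_pow_right (by norm_num) ?_)
    · refine Finset.prod_dvd_of_isRelPrime (fun p hp q hq hne => ?_) fun p _ => Nat.ordProj_dvd _ p
      have hpp := Nat.prime_of_mem_primesBelow (Finset.mem_inter.1 hp).2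
      have hqq := Nat.prime_of_mem_primesBelow (Finset.mem_inter.1 hq).2
      exact Nat.coprime_iff_isRelPrime.1 ((((Nat.coprime_primes hpp hqq).2 hne).pow_left _).pow_right _)
    · refine Nat.mul_le_mul_left m (le_trans (Finset.card_le_card Finset.inter_subset_right) ?_)
      rw [Nat.primesBelow_card_eq_primeCounting']
      exact le_rfl
  calc N.index = ∏ p ∈ N.index.primeFactors, p ^ e p :=
        (Nat.prod_factorization_pow_eq_self Subgroup.index_ne_zero_of_finite).symm
    _ = (∏ p ∈ N.index.primeFactors ∩ S, p ^ e p) * ∏ p ∈ N.index.primeFactors \ S, p ^ e p :=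
        (Finset.prod_inter_mul_prod_sdiff _ _ _).symm
    _ ≤ (m.factorial * 12 ^ (m * (m + 1).primeCounting)) * 12 ^ m := Nat.mul_le_mul hprodS hlarge
    _ = _ := by rw [mul_assoc, ← pow_add, Nat.mul_succ]

end Cfsg.Agent.S4469
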