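import Cfsg.Statements.S4471
import Cfsg.Agent.Lib.Char.BlichfeldtArc
import Cfsg.Agent.Lib.Char.CyclotomicCoeff
import Cfsg.Agent.Lib.Char.PrimeEigen
import Cfsg.Agent.Lib.Char.Weights
import Cfsg.Agent.Lib.CharDegree.Basic
import Cfsg.Agent.Lib.Transfer.Tate
import Cfsg.Agent.Lib.Core.Cores
import Mathlib.Algebra.DirectSum.LinearMap

set_option autoImplicit false
open Cfsg

namespace Cfsg.Agent.S4471

open CfsgLib.Jordan CfsgLib.Char CfsgLib.CharWeights CfsgLib.CharDegree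
open scoped commutatorElement

theorem norm_zeta_sub_one_lt {p : ℕ} (h7 : 7 ≤ p) : ‖Complex.exp (2 * Real.pi * Complex.I / p) - 1‖ < 1 := by
  rw [show (2 * Real.pi * Complex.I / p : ℂ) = ((2 * Real.pi / p : ℝ) : ℂ) * Complex.I by push_cast; ring]
  set θ : ℝ := 2 * Real.pi / p
  have h0 : 0 ≤ θ := by positivity
  have hlt : θ < Real.pi / 3 := by
    have : (7 : ℝ) ≤ p := by exact_mod_cast h7
    rw [show θ = 2 * Real.pi / p from rfl, div_lt_div_iff₀ (by linarith) (by norm_num)]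
    nlinarith [Real.pi_pos]
  have hc : Real.cos (Real.pi / 3) < Real.cos θ :=
    Real.strictAntiOn_cos ⟨h0, by linarith [Real.pi_pos]⟩
      ⟨by linarith [Real.pi_pos], by linarith [Real.pi_pos]⟩ hlt
  rw [Real.cos_pi_div_three] at hc
  refine lt_of_pow_lt_pow_left₀ 2 (by positivity) ?_
  rw [one_pow, Complex.sq_norm, Complex.normSq_apply, Complex.exp_mul_I]
  simp [Complex.cos_ofReal_re, Complex.sin_ofReal_re, Complex.cos_ofReal_im, Complex.sin_ofReal_im]
  nlinarith [Real.sin_sq_add_cos_sq θ]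

theorem not_sq_dvd_factorial {p : ℕ} (hp : p.Prime) : ∀ m, m < 2 * p → ¬ p ^ 2 ∣ m.factorial := by
  intro m
  induction m with
  | zero =>
    intro _ h
    exact hp.not_dvd_one ((dvd_pow_self p two_ne_zero).trans (by simpa using h))
  | succ m ih =>
    intro hm h
    rw [Nat.factorial_succ] at h
    by_cases hd : p ∣ m + 1
    · obtain ⟨c, hc⟩ := hd
      have hc1 : c = 1 := by
        rcases c with _ | _ | c
        · omega
        · rfl
        · nlinarith
      rw [hc, hc1, mul_one, pow_two] at h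
      have h1 := hp.dvd_factorial.1 ((Nat.mul_dvd_mul_iff_left hp.pos).1 h)
      rw [hc1, mul_one] at hc
      omega
    · exact ih (by omega) ((Nat.Coprime.pow_left 2 (hp.coprime_iff_not_dvd.2 hd)).dvd_of_dvd_mul_left h)

variable {G : Type*} [Group G] [Finite G]

/-- An element of order `p` in a nonabelian Sylow subgroup with character `(n - p) + p ζ`. -/
theorem exists_two_eigen (χ : IrrCharacter G) (hfaith : ∀ g : G, (χ : G → ℂ) g = (χ : G → ℂ) 1 → g = 1)
    {n p : ℕ} (hn : charDegree (χ : G → ℂ) = n) (hp : p.Prime) (hn2 : n < 2 * p) (P : Sylow p G)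
    (hP : ∃ x ∈ (P : Subgroup G), ∃ y ∈ (P : Subgroup G), x * y ≠ y * x) {ζ : ℂ} (hζ : IsPrimitiveRoot ζ p) :
    p ≤ n ∧ ∃ z : G, z ≠ 1 ∧ z ^ p = 1 ∧ ∀ j : ℕ, (χ : G → ℂ) (z ^ j) = ((n - p : ℕ) : ℂ) + p * ζ ^ j := by
  classical
  haveI := Fact.mk hp
  set K : Subgroup G := (P : Subgroup G) with hK
  have hKp : IsPGroup p K := P.2
  haveI := Fintype.ofFinite (IrrCharacter K)
  have hcne : commutator K ≠ ⊥ := by
    intro h
    obtain ⟨x, hx, y, hy, hxy⟩ := hP
    have hmem : ⁅(⟨x, hx⟩ : K), ⟨y, hy⟩⁆ ∈ commutator K :=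
      Subgroup.commutator_mem_commutator (Subgroup.mem_top _) (Subgroup.mem_top _)
    rw [h, Subgroup.mem_bot, commutatorElement_eq_one_iff_mul_comm] at hmem
    exact hxy (congrArg Subtype.val hmem)
  obtain ⟨z, hzc, hzZ, hzord⟩ := CfsgLib.Transfer.exists_mem_center_orderOf_eq hKp hcne
  have hres : IsCharacter K fun k : K => (χ : G → ℂ) k := IsChar.restrict K (IsIrr.isCharacter χ.2)
  obtain ⟨m, hm⟩ := IsChar.exists_sum hres
  have hdeg : n = ∑ ψ : IrrCharacter K, m ψ * charDegree (ψ : K → ℂ) := by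
    have h1 := congrFun hm 1
    simp only [OneMemClass.coe_one, Finset.sum_apply, Pi.smul_apply, smul_eq_mul, ← cast_irrDegree, hn] at h1
    exact_mod_cast h1
  -- degrees of constituents
  have hdeg1p : ∀ ψ : IrrCharacter K, m ψ ≠ 0 → charDegree (ψ : K → ℂ) = 1 ∨ charDegree (ψ : K → ℂ) = p := by
    intro ψ hψ
    obtain ⟨a, ha⟩ := hKp.exists_card_eq
    obtain ⟨k, -, hk⟩ := (Nat.dvd_prime_pow hp).1 (ha ▸ CfsgLib.CharDegree.charDegree_dvd_card ψ)
    have hle : charDegree (ψ : K → ℂ) ≤ n := by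
      rw [hdeg]
      exact le_trans (Nat.le_mul_of_pos_left _ (Nat.pos_of_ne_zero hψ))
        (Finset.single_le_sum (f := fun φ : IrrCharacter K => m φ * charDegree (φ : K → ℂ))
          (fun _ _ => Nat.zero_le _) (Finset.mem_univ ψ))
    rcases k with _ | _ | k
    · exact Or.inl (by simpa using hk)
    · exact Or.inr (by simpa using hk)
    · exfalso
      have : p ^ 2 ≤ p ^ (k + 1 + 1) := Nat.pow_le_pow_right hp.pos (by omega)
      have := hp.two_le
      nlinarith
  have hlin : ∀ ψ : IrrCharacter K, charDegree (ψ : K → ℂ) = 1 → ∀ j : ℕ, (ψ : K → ℂ) (z ^ j) = 1 := by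
    intro ψ hψ j
    rw [CfsgLib.CharDegree.le_ker_of_degree_one ψ hψ (pow_mem hzc j), ← cast_irrDegree, hψ, Nat.cast_one]
  obtain ⟨ψ₀, hm0, hψ₀⟩ : ∃ ψ : IrrCharacter K, m ψ ≠ 0 ∧ charDegree (ψ : K → ℂ) = p := by
    by_contra! hno
    have hz1 : (z : G) = 1 := by
      refine hfaith _ ?_
      have e1 := congrFun hm z
      have e2 := congrFun hm 1
      simp only [OneMemClass.coe_one] at e2
      rw [e1, e2]
      simp only [Finset.sum_apply, Pi.smul_apply, smul_eq_mul]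
      refine Finset.sum_congr rfl fun ψ _ => ?_
      by_cases h0 : m ψ = 0
      · simp [h0]
      have hd := (hdeg1p ψ h0).resolve_right (hno ψ h0)
      have := hlin ψ hd 1
      rw [pow_one] at this
      rw [this, ← cast_irrDegree, hd, Nat.cast_one]
    rw [(Subtype.ext hz1 : z = 1), orderOf_one] at hzord
    exact hp.ne_one hzord.symm
  have hrest : ∀ ψ : IrrCharacter K, ψ ≠ ψ₀ → m ψ ≠ 0 → charDegree (ψ : K → ℂ) = 1 := by
    intro ψ hne h0
    refine (hdeg1p ψ h0).resolve_right fun hd => ?_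
    have := Finset.sum_le_sum_of_subset (f := fun φ : IrrCharacter K => m φ * charDegree (φ : K → ℂ))
      (Finset.subset_univ ({ψ, ψ₀} : Finset (IrrCharacter K)))
    rw [Finset.sum_pair hne, ← hdeg, hd, hψ₀] at this
    have h1 := Nat.le_mul_of_pos_left p (Nat.pos_of_ne_zero h0)
    have h2 := Nat.le_mul_of_pos_left p (Nat.pos_of_ne_zero hm0)
    omega
  have hm1 : m ψ₀ = 1 := by
    have := Finset.single_le_sum (f := fun φ : IrrCharacter K => m φ * charDegree (φ : K → ℂ))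
          (fun _ _ => Nat.zero_le _) (Finset.mem_univ ψ₀)
    rw [← hdeg, hψ₀] at this
    rcases Nat.lt_or_ge (m ψ₀) 2 with h | h
    · omega
    · nlinarith
  have hrsum : ∑ ψ ∈ Finset.univ.erase ψ₀, m ψ + p = n := by
    rw [hdeg, ← Finset.sum_erase_add _ _ (Finset.mem_univ ψ₀), hm1, one_mul, hψ₀]
    congr 1
    refine Finset.sum_congr rfl fun ψ hψ => ?_
    by_cases h0 : m ψ = 0
    · simp [h0]
    · rw [hrest ψ (Finset.mem_erase.1 hψ).1 h0, mul_one]
  refine ⟨hrsum ▸ Nat.le_add_left _ _, ?_⟩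
  -- the scalar of `z` in the constituent of degree `p`
  obtain ⟨d, σ, hσ, hσχ, hd⟩ := CfsgLib.CharDegree.exists_rep ψ₀
  haveI := hσ
  obtain ⟨c, hc⟩ := CfsgLib.CharIntegral.exists_scalar_of_commute σ (σ z) fun k => by
    rw [← map_mul, ← map_mul, Subgroup.mem_center_iff.1 hzZ k]
  have hψpow : ∀ j : ℕ, (ψ₀ : K → ℂ) (z ^ j) = p * c ^ j := by
    intro j
    have hid : σ (z ^ j) = (c ^ j) • LinearMap.id := by
      rw [map_pow, hc, smul_pow]
      congr 1
      exact one_pow j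
    rw [← hσχ, Representation.character, hid, map_smul, smul_eq_mul, LinearMap.trace_id, Module.finrank_fin_fun,
      hd, hψ₀, mul_comm]
  have hχpow : ∀ j : ℕ, (χ : G → ℂ) ((z : G) ^ j) = ((n - p : ℕ) : ℂ) + p * c ^ j := by
    intro j
    have e := congrFun hm (z ^ j)
    rw [SubgroupClass.coe_pow] at e
    rw [e, Finset.sum_apply, ← Finset.sum_erase_add _ _ (Finset.mem_univ ψ₀), Pi.smul_apply, smul_eq_mul, hm1,
      Nat.cast_one, one_mul, hψpow, show n - p = ∑ ψ ∈ Finset.univ.erase ψ₀, m ψ by omega, Nat.cast_sum]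
    congr 1
    refine Finset.sum_congr rfl fun ψ hψ => ?_
    rw [Pi.smul_apply, smul_eq_mul]
    by_cases h0 : m ψ = 0
    · simp [h0]
    · rw [hlin ψ (hrest ψ (Finset.mem_erase.1 hψ).1 h0) j, mul_one]
  have hzp : (z : G) ^ p = 1 := by
    rw [← SubgroupClass.coe_pow, ← hzord, pow_orderOf_eq_one, OneMemClass.coe_one]
  have hpC : (p : ℂ) ≠ 0 := Nat.cast_ne_zero.2 hp.ne_zero
  have hcp : c ^ p = 1 := by
    have h1 := hψpow p
    rw [← hzord, pow_orderOf_eq_one, hzord, ← cast_irrDegree, hψ₀] at h1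
    exact (mul_right_eq_self₀.1 h1.symm).resolve_right hpC
  have hc1 : c ≠ 1 := by
    intro hc1
    have hz1 : (z : G) = 1 := hfaith _ (by
      have h1 := hχpow 1
      have h0 := hχpow 0
      rw [pow_one, hc1] at h1
      rw [pow_zero, hc1] at h0
      rw [h1, h0]
      simp)
    rw [(Subtype.ext hz1 : z = 1), orderOf_one] at hzord
    exact hp.ne_one hzord.symm
  haveI : NeZero p := ⟨hp.ne_zero⟩
  have hcprim : IsPrimitiveRoot c p := (orderOf_eq_prime hcp hc1) ▸ IsPrimitiveRoot.orderOf c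
  obtain ⟨i, hip, hi⟩ := hcprim.eq_pow_of_pow_eq_one hζ.pow_eq_one
  refine ⟨(z : G) ^ i, ?_, ?_, fun j => ?_⟩
  · intro h
    have h1 := hχpow i
    have h0 := hχpow 0
    rw [h, ← pow_zero (z : G), h0, hi, pow_zero, mul_one, add_right_inj] at h1
    exact hζ.ne_one hp.one_lt (mul_eq_left₀ hpC |>.1 h1.symm)
  · rw [← pow_mul, mul_comm, pow_mul, hzp, one_pow]
  · rw [← pow_mul, hχpow, pow_mul, hi]

theorem index_bound (χ : IrrCharacter G) (hfaith : ∀ g : G, (χ : G → ℂ) g = (χ : G → ℂ) 1 → g = 1) (n : ℕ)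
    (hn : charDegree (χ : G → ℂ) = n) (p : ℕ) (hp : p.Prime) (h7 : 7 ≤ p) (hn2 : n < 2 * p) (hnp : n ≠ p)
    (P : Sylow p G) (hP : ∃ x ∈ (P : Subgroup G), ∃ y ∈ (P : Subgroup G), x * y ≠ y * x) :
    ¬ p ^ 2 ∣ (pCore p G).index := by
  classical
  haveI := Fact.mk hp
  haveI := Fintype.ofFinite G
  set ζ : ℂ := Complex.exp (2 * Real.pi * Complex.I / p) with hζdef
  have hζ : IsPrimitiveRoot ζ p := Complex.isPrimitiveRoot_exp p hp.ne_zero
  have hζn : ‖ζ - 1‖ < 1 := norm_zeta_sub_one_lt h7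
  have hζn' : ‖(1 : ℂ) - ζ‖ < 1 := by rwa [norm_sub_rev]
  have hζ1 : ζ ≠ 1 := hζ.ne_one hp.one_lt
  obtain ⟨hpn, z, hz1, hzp, hχz⟩ := exists_two_eigen χ hfaith hn hp hn2 P hP hζ
  obtain ⟨m, ρ, hρ, hρχ, hm⟩ := CfsgLib.CharDegree.exists_rep χ
  haveI := hρ
  have hmn : m = n := hm.trans hn
  subst hmn
  have hχ1 : (χ : G → ℂ) 1 = m := by rw [← cast_irrDegree, hn]
  have hinj : Function.Injective ρ := by
    refine (injective_iff_map_eq_one ρ).2 fun g hg => hfaith g ?_
    rw [← hρχ]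
    simp [Representation.character, hg]
  -- two eigenspaces
  have hkill : ∀ k ∈ Finset.range p, k ∉ ({0, 1} : Finset ℕ) → ∀ v, CfsgLib.PrimeEigen.proj ρ p ζ z k v = 0 := by
    intro k hk hk01
    rw [Finset.mem_range] at hk
    simp only [Finset.mem_insert, Finset.mem_singleton, not_or] at hk01
    refine CfsgLib.PrimeEigen.proj_eq_zero ρ hp.ne_zero hζ hzp k ?_
    simp only [hρχ, hχz, mul_add, Finset.sum_add_distrib, ← Finset.sum_mul]
    have hgeo : ∀ l : ℂ, l ≠ 1 → l ^ p = 1 → ∑ j ∈ Finset.range p, l ^ j = 0 := fun l hl hlp => by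
      rw [geom_sum_eq hl, hlp, sub_self, zero_div]
    have h1 : ∑ j ∈ Finset.range p, (ζ⁻¹) ^ (k * j) = 0 := by
      simp only [pow_mul]
      refine hgeo _ ?_ ?_
      · rw [inv_pow, inv_ne_one]; exact hζ.pow_ne_one_of_pos_of_lt hk01.1 hk
      · rw [← pow_mul, mul_comm, pow_mul, inv_pow, hζ.pow_eq_one, inv_one, one_pow]
    have h2 : ∑ j ∈ Finset.range p, (ζ⁻¹) ^ (k * j) * ((p : ℂ) * ζ ^ j) = 0 := by
      simp only [pow_mul, mul_left_comm _ (p : ℂ), ← mul_pow, ← Finset.mul_sum]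
      refine mul_eq_zero_of_right _ (hgeo _ ?_ ?_)
      · intro h
        rw [inv_pow, inv_mul_eq_one₀ (pow_ne_zero _ (hζ.ne_zero hp.ne_zero))] at h
        exact hk01.2 (hζ.pow_inj hk hp.one_lt (by rw [pow_one]; exact h))
      · rw [mul_pow, ← pow_mul, mul_comm k, pow_mul, inv_pow, hζ.pow_eq_one, inv_one, one_pow, one_mul]
    rw [h1, h2, zero_mul, add_zero]
  have hsplit : ∀ v, CfsgLib.PrimeEigen.proj ρ p ζ z 0 v + CfsgLib.PrimeEigen.proj ρ p ζ z 1 v = v := by
    intro v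
    conv_rhs => rw [← CfsgLib.PrimeEigen.sum_proj ρ hp.ne_zero hζ hzp v]
    rw [← Finset.sum_pair (f := fun k => CfsgLib.PrimeEigen.proj ρ p ζ z k v) zero_ne_one]
    refine Finset.sum_subset ?_ fun k hk hk01 => hkill k hk hk01 v
    simp [Finset.insert_subset_iff, hp.pos, hp.one_lt]
  have he0 : ∀ v, ρ z (CfsgLib.PrimeEigen.proj ρ p ζ z 0 v) = (1 : ℂ) • CfsgLib.PrimeEigen.proj ρ p ζ z 0 v := by
    intro v
    rw [CfsgLib.PrimeEigen.apply_proj ρ hp.ne_zero hζ hzp, pow_zero]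
  have he1 : ∀ v, ρ z (CfsgLib.PrimeEigen.proj ρ p ζ z 1 v) = ζ • CfsgLib.PrimeEigen.proj ρ p ζ z 1 v := by
    intro v
    rw [CfsgLib.PrimeEigen.apply_proj ρ hp.ne_zero hζ hzp, pow_one]
  have hscalar : ∀ c : ℂ, (∀ v, ρ z v = c • v) → c = 1 ∨ c = ζ → False := by
    intro c hc hcc
    have h1 : (χ : G → ℂ) z = c * m := by
      rw [← hρχ, Representation.character, show ρ z = c • LinearMap.id from LinearMap.ext fun v => by simp [hc]]
      simp
    have h2 := hχz 1
    rw [pow_one, h1, pow_one, Nat.cast_sub hpn] at h2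
    rcases hcc with rfl | rfl
    · exact hζ1 (mul_left_cancel₀ (Nat.cast_ne_zero.2 hp.ne_zero : (p : ℂ) ≠ 0) (by linear_combination -h2))
    · have : (m : ℂ) - p = 0 := by
        by_contra hne
        exact hζ1 (mul_left_cancel₀ hne (by linear_combination h2))
      exact hnp (by exact_mod_cast sub_eq_zero.1 this)
  obtain ⟨v0, hv0⟩ : ∃ v, CfsgLib.PrimeEigen.proj ρ p ζ z 0 v ≠ 0 := by
    by_contra! h
    exact hscalar ζ (fun v => by
      have := he1 v
      rw [show CfsgLib.PrimeEigen.proj ρ p ζ z 1 v = v by simpa [h v] using hsplit v] at this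
      exact this) (Or.inr rfl)
  obtain ⟨v1, hv1⟩ : ∃ v, CfsgLib.PrimeEigen.proj ρ p ζ z 1 v ≠ 0 := by
    by_contra! h
    exact hscalar 1 (fun v => by
      have := he0 v
      rw [show CfsgLib.PrimeEigen.proj ρ p ζ z 0 v = v by simpa [h v] using hsplit v] at this
      exact this) (Or.inl rfl)
  have hnear : ∀ ε : ℂ, ‖1 - ε‖ < 1 → ‖ζ - ε‖ < 1 → ∀ v : Fin m → ℂ, v ≠ 0 →
      ‖emb ρ (ρ z v) - ε • emb ρ v‖ < ‖emb ρ v‖ := by
    intro ε h0 h1 v hv
    let w : Fin 2 → Fin m → ℂ := ![CfsgLib.PrimeEigen.proj ρ p ζ z 0 v, CfsgLib.PrimeEigen.proj ρ p ζ z 1 v]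
    have hsum : ∑ i, w i = v := by rw [Fin.sum_univ_two]; exact hsplit v
    have := CfsgLib.BlichfeldtArc.near_of_eigen ρ z ε ![1, ζ] w
      (by intro i; fin_cases i; exacts [he0 v, he1 v])
      (by intro i j hij _ _; fin_cases i <;> fin_cases j <;> first | exact absurd rfl hij | simp [hζ1, hζ1.symm])
      (by intro i _; fin_cases i; exacts [h0, h1]) (by rwa [hsum])
    rwa [hsum] at this
  have hE0 := CfsgLib.BlichfeldtArc.conj_preserves_eigenspace ρ z (ε := 1) ⟨_, hv0, he0 v0⟩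
    (hnear 1 (by simp) hζn)
  have hE1 := CfsgLib.BlichfeldtArc.conj_preserves_eigenspace ρ z (ε := ζ) ⟨_, hv1, he1 v1⟩
    (hnear ζ hζn' (by simp))
  have hcomm : ∀ g, g * z * g⁻¹ * z = z * (g * z * g⁻¹) := by
    intro g
    refine hinj (LinearMap.ext fun v => ?_)
    have a0 := Module.End.mem_eigenspace_iff.1 (hE0 g _ (Module.End.mem_eigenspace_iff.2 (he0 v)))
    have a1 := Module.End.mem_eigenspace_iff.1 (hE1 g _ (Module.End.mem_eigenspace_iff.2 (he1 v)))
    simp only [map_mul, Module.End.mul_apply] at a0 a1 ⊢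
    rw [← hsplit v]
    simp only [map_add, he0, he1, a0, a1, map_smul]
  set N := Subgroup.normalClosure ({z} : Set G) with hN
  have hconjset : ∀ a ∈ Group.conjugatesOfSet ({z} : Set G), ∃ g, g * z * g⁻¹ = a := by
    intro a ha
    obtain ⟨x', rfl, hx'⟩ := Group.mem_conjugatesOfSet_iff.1 ha
    exact isConj_iff.1 hx'
  have hNab' := Subgroup.isMulCommutative_closure (k := Group.conjugatesOfSet ({z} : Set G)) (by
    intro a ha b hb
    obtain ⟨g, rfl⟩ := hconjset a ha
    obtain ⟨h, rfl⟩ := hconjset b hb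
    have e := congrArg (fun x => g * x * g⁻¹) (hcomm (g⁻¹ * h)).symm
    calc g * z * g⁻¹ * (h * z * h⁻¹) = g * (z * (g⁻¹ * h * z * (g⁻¹ * h)⁻¹)) * g⁻¹ := by group
      _ = g * (g⁻¹ * h * z * (g⁻¹ * h)⁻¹ * z) * g⁻¹ := e
      _ = h * z * h⁻¹ * (g * z * g⁻¹) := by group)
  have hNab : ∀ a ∈ N, ∀ b ∈ N, a * b = b * a := fun a ha b hb =>
    congrArg Subtype.val (hNab'.is_comm.comm (⟨a, ha⟩ : Subgroup.closure (Group.conjugatesOfSet ({z} : Set G))) ⟨b, hb⟩)
  have hNexp : ∀ a ∈ N, a ^ p = 1 := by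
    intro a ha
    induction ha using Subgroup.closure_induction with
    | mem x hx =>
      obtain ⟨g, rfl⟩ := hconjset x hx
      rw [conj_pow, hzp, mul_one, mul_inv_cancel]
    | one => exact one_pow p
    | mul x y hxc hyc hx hy =>
      rw [(show Commute x y from hNab x hxc y hyc).mul_pow, hx, hy, one_mul]
    | inv x _ hx => rw [inv_pow, hx, inv_one]
  have hzN : z ∈ N := Subgroup.subset_normalClosure (Set.mem_singleton z)
  have hNn : N.Normal := Subgroup.normalClosure_normal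
  -- weight spaces
  have hind := iSupIndep_wspace ρ N hNab
  have htop := iSup_wspace ρ N hNab
  let Λ := {l : N → ℂ // wspace ρ N l ≠ ⊥}
  haveI : Finite Λ := Set.finite_coe_iff.2 (Submodule.finite_ne_bot_of_iSupIndep hind)
  haveI := Fintype.ofFinite Λ
  let cj : G → N → N := fun g a => ⟨g⁻¹ * (a : G) * g, by
    have h := hNn.conj_mem a a.2 g⁻¹
    rwa [inv_inv] at h⟩
  have hcj1 : ∀ a, cj 1 a = a := fun a => Subtype.ext (by simp [cj])
  have hcjm : ∀ g h a, cj h (cj g a) = cj (g * h) a := fun g h a =>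
    Subtype.ext (by simp only [cj]; group)
  let mv : G → (N → ℂ) → (N → ℂ) := fun g l a => l (cj g a)
  have hmv1 : ∀ l, mv 1 l = l := fun l => funext fun a => by simp only [mv, hcj1]
  have hmvm : ∀ g h l, mv g (mv h l) = mv (g * h) l := fun g h l => funext fun a => by simp only [mv, hcjm]
  have hmap : ∀ g l, (wspace ρ N l).map (ρ g) ≤ wspace ρ N (mv g l) := by
    rintro g l _ ⟨v, hv, rfl⟩
    exact apply_mem_wspace ρ N g (fun a => ⟨cj g a, rfl, rfl⟩) hv
  have hfr : ∀ g l, Module.finrank ℂ (wspace ρ N (mv g l)) = Module.finrank ℂ (wspace ρ N l) := by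
    have hle : ∀ g l, Module.finrank ℂ (wspace ρ N l) ≤ Module.finrank ℂ (wspace ρ N (mv g l)) := fun g l =>
      (Submodule.equivMapOfInjective (ρ g) (ρ.apply_bijective g).1 _).finrank_eq.le.trans
        (Submodule.finrank_mono (hmap g l))
    intro g l
    refine le_antisymm ?_ (hle g l)
    have := hle g⁻¹ (mv g l)
    rwa [hmvm, inv_mul_cancel, hmv1] at this
  have hne : ∀ g l, wspace ρ N l ≠ ⊥ → wspace ρ N (mv g l) ≠ ⊥ := fun g l h e => h
    (Submodule.finrank_eq_zero.1 (by rw [← hfr g l]; exact Submodule.finrank_eq_zero.2 e))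
  obtain ⟨l₀⟩ : Nonempty Λ := by
    by_contra h
    rw [not_nonempty_iff] at h
    have hall : ∀ l, wspace ρ N l = ⊥ := fun l => by_contra fun hl => h.false ⟨l, hl⟩
    have := CfsgLib.CharIntegral.nontrivial_of_irreducible ρ
    simp [hall] at htop
  -- the orbit spans
  have horb : ∀ l : Λ, ∃ g, mv g l₀.1 = l.1 := by
    intro l
    by_contra! hl
    have hS : (⨆ g, wspace ρ N (mv g l₀.1)) = ⊤ := by
      refine eq_top_of_invariant ρ _ (fun g v hv => ?_) fun e => l₀.2 (le_bot_iff.1 ?_)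
      · induction hv using Submodule.iSup_induction' with
        | mem h x hx =>
          refine Submodule.mem_iSup_of_mem (g * h) ?_
          rw [← hmvm]
          exact hmap g _ ⟨x, hx, rfl⟩
        | zero => simp
        | add x y _ _ hx hy => rw [map_add]; exact add_mem hx hy
      · exact le_trans (le_iSup_of_le 1 (by rw [hmv1])) e.le
    have hdis := hind l.1
    have hle : (⨆ g, wspace ρ N (mv g l₀.1)) ≤ ⨆ (j) (_ : j ≠ l.1), wspace ρ N j :=
      iSup_le fun g => le_iSup₂_of_le (mv g l₀.1) (hl g) le_rfl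
    rw [hS, top_le_iff] at hle
    rw [hle, disjoint_top] at hdis
    exact l.2 hdis
  set d := Module.finrank ℂ (wspace ρ N l₀.1) with hd
  have hdl : ∀ l : Λ, Module.finrank ℂ (wspace ρ N l.1) = d := fun l => by
    obtain ⟨g, hg⟩ := horb l
    rw [← hg, hfr]
  have hd0 : d ≠ 0 := fun e => l₀.2 (Submodule.finrank_eq_zero.1 e)
  have hint : DirectSum.IsInternal fun l : Λ => wspace ρ N l.1 :=
    DirectSum.isInternal_submodule_of_iSupIndep_of_iSup_eq_top (hind.comp Subtype.val_injective) (by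
      rw [← htop]
      exact iSup_ne_bot_subtype _)
  have htrace : ∀ a : N, ρ.character (a : G) = (d : ℂ) * ∑ l : Λ, l.1 a := by
    intro a
    have hf : ∀ l : Λ, Set.MapsTo (ρ (a : G)) (wspace ρ N l.1) (wspace ρ N l.1) := fun l v hv => by
      rw [(mem_wspace ρ N).1 hv a]
      exact Submodule.smul_mem _ _ hv
    rw [Representation.character, LinearMap.trace_eq_sum_trace_restrict hint hf, Finset.mul_sum]
    refine Finset.sum_congr rfl fun l _ => ?_
    have hid : (ρ (a : G)).restrict (hf l) = (l.1 a) • LinearMap.id :=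
      LinearMap.ext fun v => Subtype.ext ((mem_wspace ρ N).1 v.2 a)
    rw [hid, map_smul, smul_eq_mul, LinearMap.trace_id, hdl, mul_comm]
  have hcard : m = d * Nat.card Λ := by
    have h1 := htrace 1
    have hl1 : ∀ l : Λ, l.1 1 = 1 := by
      intro l
      obtain ⟨v, hv, hv0⟩ := (Submodule.ne_bot_iff _).1 l.2
      have := (mem_wspace ρ N).1 hv 1
      rw [OneMemClass.coe_one, map_one, Module.End.one_apply] at this
      exact (smul_left_injective ℂ hv0 (by simpa using this.symm))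
    rw [OneMemClass.coe_one, Representation.char_one, Module.finrank_fin_fun] at h1
    simp only [hl1, Finset.sum_const, Finset.card_univ, nsmul_eq_mul, mul_one] at h1
    rw [Nat.card_eq_fintype_card]
    exact_mod_cast h1
  have hd1 : d = 1 := by
    have hlint : ∀ l : Λ, IsIntegral ℤ (l.1 ⟨z, hzN⟩) := by
      intro l
      obtain ⟨v, hv, hv0⟩ := (Submodule.ne_bot_iff _).1 l.2
      have hv' : ∀ j : ℕ, ρ (z ^ j) v = (l.1 ⟨z, hzN⟩) ^ j • v := by
        intro j
        induction j with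
        | zero => simp
        | succ j ih =>
          rw [pow_succ' z, map_mul, Module.End.mul_apply, ih, map_smul, (mem_wspace ρ N).1 hv ⟨z, hzN⟩, smul_smul, pow_succ]
      refine IsIntegral.of_pow hp.pos ?_
      have := hv' p
      rw [hzp, map_one, Module.End.one_apply] at this
      have h2 : (l.1 ⟨z, hzN⟩) ^ p = 1 := smul_left_injective ℂ hv0 (by simpa using this.symm)
      rw [h2]
      exact isIntegral_one
    let c : ℕ → ℚ := fun i => if i = 0 then ((m - p : ℕ) : ℚ) / d else if i = 1 then (p : ℚ) / d else 0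
    have hdC : (d : ℂ) ≠ 0 := Nat.cast_ne_zero.2 hd0
    have hsum : ∑ i ∈ Finset.range p, (c i : ℂ) * ζ ^ i = ∑ l : Λ, l.1 ⟨z, hzN⟩ := by
      have h1 : ρ.character z = (d : ℂ) * ∑ l : Λ, l.1 ⟨z, hzN⟩ := htrace ⟨z, hzN⟩
      have h2 := hχz 1
      rw [pow_one, ← hρχ, h1, pow_one] at h2
      rw [← Finset.sum_subset (s₁ := ({0, 1} : Finset ℕ)) (by simp [Finset.insert_subset_iff, hp.pos, hp.one_lt])
        (fun i _ hi => by
          simp only [Finset.mem_insert, Finset.mem_singleton, not_or] at hi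
          simp [c, hi.1, hi.2]), Finset.sum_pair zero_ne_one]
      refine mul_left_cancel₀ hdC ?_
      rw [h2]
      simp [c]
      field_simp
    obtain ⟨t, b, hb⟩ := CfsgLib.CyclotomicCoeff.exists_add_int hζ c
      (hsum ▸ IsIntegral.sum _ fun l _ => hlint l)
    have e2 := hb 2 (by omega)
    have e1 := hb 1 hp.one_lt
    simp [c] at e1 e2
    have hdvd : d ∣ p := by
      have hq : (p : ℚ) = (d : ℚ) * ((b 1 - b 2 : ℤ) : ℚ) := by
        push_cast
        have : (p : ℚ) / d = (b 1 : ℚ) - b 2 := by linarith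
        rw [← this, mul_div_cancel₀ _ (Nat.cast_ne_zero.2 hd0)]
      have hq' : (p : ℤ) = (d : ℤ) * (b 1 - b 2) := by exact_mod_cast hq
      exact Int.natCast_dvd_natCast.1 (Dvd.intro _ hq'.symm)
    rcases hp.eq_one_or_self_of_dvd d hdvd with h | h
    · exact h
    · exfalso
      rw [h] at hcard
      rcases Nat.lt_or_ge (Nat.card Λ) 2 with hc | hc
      · rcases Nat.eq_zero_or_pos (Nat.card Λ) with h0 | h0
        · rw [h0] at hcard; omega
        · rw [show Nat.card Λ = 1 by omega, mul_one] at hcard; exact hnp hcard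
      · nlinarith
  have hmcard : Nat.card Λ = m := by rw [hcard, hd1, one_mul]
  -- the action on the weights
  let act : G →* Equiv.Perm Λ :=
    { toFun := fun g =>
        { toFun := fun l => ⟨mv g l.1, hne g _ l.2⟩
          invFun := fun l => ⟨mv g⁻¹ l.1, hne g⁻¹ _ l.2⟩
          left_inv := fun l => Subtype.ext (by simp [hmvm, hmv1])
          right_inv := fun l => Subtype.ext (by simp [hmvm, hmv1]) }
      map_one' := Equiv.ext fun l => Subtype.ext (hmv1 _)
      map_mul' := fun g h => Equiv.ext fun l => Subtype.ext (hmvm g h _).symm }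
  set D := act.ker with hD
  have hDab : ∀ a ∈ D, ∀ b ∈ D, a * b = b * a := by
    have hsc : ∀ a ∈ D, ∀ l : Λ, ∃ c : ℂ, ∀ v ∈ wspace ρ N l.1, ρ a v = c • v := by
      intro a ha l
      have hfix : mv a l.1 = l.1 := congrArg Subtype.val (Equiv.congr_fun (MonoidHom.mem_ker.1 ha) l)
      obtain ⟨v₀, hv₀, hspan⟩ := finrank_eq_one_iff'.1 ((hdl l).trans hd1)
      have hmem : ρ a (v₀ : Fin m → ℂ) ∈ wspace ρ N l.1 := by
        have := hmap a l.1 ⟨_, v₀.2, rfl⟩
        rwa [hfix] at this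
      obtain ⟨c, hc⟩ := hspan ⟨_, hmem⟩
      refine ⟨c, fun v hv => ?_⟩
      obtain ⟨e, he⟩ := hspan ⟨v, hv⟩
      have he' : e • (v₀ : Fin m → ℂ) = v := congrArg Subtype.val he
      have hc' : c • (v₀ : Fin m → ℂ) = ρ a v₀ := congrArg Subtype.val hc
      rw [← he', map_smul, ← hc', smul_comm]
    intro a ha b hb
    refine hinj (LinearMap.ext fun v => ?_)
    have hv : v ∈ ⨆ l : Λ, wspace ρ N l.1 := by rw [hint.submodule_iSup_eq_top]; trivial
    refine Submodule.iSup_induction (motive := fun v => ρ (a * b) v = ρ (b * a) v) _ hv ?_ (by simp) ?_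
    · intro l u hu
      obtain ⟨c, hc⟩ := hsc a ha l
      obtain ⟨e, he⟩ := hsc b hb l
      simp only [map_mul, Module.End.mul_apply]
      rw [he u hu, map_smul, hc u hu, map_smul, he u hu, smul_comm]
    · intro u w hu hw
      rw [map_add, map_add, hu, hw]
  obtain ⟨a, ha⟩ := P.2.exists_card_eq
  let T : Subgroup G :=
    { carrier := {x | x ∈ D ∧ x ^ (p ^ a) = 1}
      mul_mem' := fun {x y} hx hy => ⟨D.mul_mem hx.1 hy.1, by
        rw [(show Commute x y from hDab x hx.1 y hy.1).mul_pow, hx.2, hy.2, one_mul]⟩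
      one_mem' := ⟨D.one_mem, one_pow _⟩
      inv_mem' := fun {x} hx => ⟨D.inv_mem hx.1, by rw [inv_pow, hx.2, inv_one]⟩ }
  haveI hTn : T.Normal := ⟨fun x hx g => show g * x * g⁻¹ ∈ D ∧ _ from ⟨(MonoidHom.normal_ker act).conj_mem x hx.1 g, by
    rw [conj_pow, hx.2, mul_one, mul_inv_cancel]⟩⟩
  have hTp : IsPGroup p T := fun x => ⟨a, Subtype.ext (by simpa using x.2.2)⟩
  have hle : D ⊓ (P : Subgroup G) ≤ pCore p G := le_trans (b := T) (fun x hx => ⟨hx.1, by
    rw [← ha]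
    exact (SubgroupClass.coe_pow (⟨x, hx.2⟩ : (P : Subgroup G)) _).symm.trans (congrArg Subtype.val (pow_card_eq_one' (x := (⟨x, hx.2⟩ : (P : Subgroup G)))))⟩)
    (CfsgLib.Core.le_pCore (N := T) hTp)
  intro hdvd
  have h1 : p ^ 2 ∣ (D ⊓ (P : Subgroup G)).index := hdvd.trans (Subgroup.index_dvd_of_le hle)
  rw [← Subgroup.relIndex_mul_index (inf_le_right : D ⊓ (P : Subgroup G) ≤ P), Subgroup.inf_relIndex_right] at h1
  have h2 : p ^ 2 ∣ D.relIndex (P : Subgroup G) :=
    (Nat.Coprime.pow_left 2 (hp.coprime_iff_not_dvd.2 P.not_dvd_index)).dvd_of_dvd_mul_right h1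
  have h3 : D.index ∣ m.factorial := by
    rw [hD, Subgroup.index_ker]
    refine (Subgroup.card_subgroup_dvd_card _).trans ?_
    rw [Nat.card_perm, hmcard]
  exact not_sq_dvd_factorial hp m hn2 (h2.trans ((Subgroup.relIndex_dvd_index_of_normal D _).trans h3))

theorem result {G : Type*} [Group G] [Finite G] (χ : Cfsg.IrrCharacter G) (hfaith : ∀ g : G, (χ : G → ℂ) g = (χ : G → ℂ) 1 → g = 1) (n : ℕ) (hn : Cfsg.charDegree (χ : G → ℂ) = n) (p : ℕ) (hp : p.Prime) (h7 : 7 ≤ p) (hn2 : n < 2 * p) (hnp : n ≠ p) : ((∃ P : Sylow p G, ∃ x ∈ (P : Subgroup G), ∃ y ∈ (P : Subgroup G), x * y ≠ y * x) → ¬ p ^ 2 ∣ (Cfsg.pCore p G).index) ∧ ∀ Q : Sylow p (G ⧸ Cfsg.pCore p G), ∀ x ∈ (Q : Subgroup (G ⧸ Cfsg.pCore p G)), ∀ y ∈ (Q : Subgroup (G ⧸ Cfsg.pCore p G)), x * y = y * x := by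
  haveI := Fact.mk hp
  refine ⟨fun ⟨P, hP⟩ => index_bound χ hfaith n hn p hp h7 hn2 hnp P hP, fun Q x hx y hy => ?_⟩
  by_cases hna : ∃ P : Sylow p G, ∃ x ∈ (P : Subgroup G), ∃ y ∈ (P : Subgroup G), x * y ≠ y * x
  · obtain ⟨P, hP⟩ := hna
    have hb := index_bound χ hfaith n hn p hp h7 hn2 hnp P hP
    obtain ⟨k, hk⟩ := Q.2.exists_card_eq
    have hk1 : k ≤ 1 := by
      by_contra hk1
      refine hb ((pow_dvd_pow p (by omega : 2 ≤ k)).trans ?_)
      rw [← hk, Subgroup.index_eq_card]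
      exact Subgroup.card_subgroup_dvd_card _
    have hcyc : IsCyclic (Q : Subgroup (G ⧸ Cfsg.pCore p G)) := by
      rcases Nat.le_one_iff_eq_zero_or_eq_one.1 hk1 with h | h
      · rw [h, pow_zero] at hk
        have := (Nat.card_eq_one_iff_unique.1 hk).1
        infer_instance
      · rw [h, pow_one] at hk
        exact isCyclic_of_prime_card hk
    letI := hcyc.commGroup
    exact congrArg Subtype.val (mul_comm (⟨x, hx⟩ : (Q : Subgroup (G ⧸ Cfsg.pCore p G))) ⟨y, hy⟩)
  · push Not at hna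
    obtain ⟨P, rfl⟩ := Sylow.mapSurjective_surjective (QuotientGroup.mk'_surjective (Cfsg.pCore p G)) p Q
    rw [Sylow.coe_mapSurjective] at hx hy
    obtain ⟨u, hu, rfl⟩ := hx
    obtain ⟨v, hv, rfl⟩ := hy
    rw [← map_mul, ← map_mul, hna P u hu v hv]

end Cfsg.Agent.S4471
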