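import Cfsg.Statements.S4474
import Cfsg.Agent.Lib.Char.RealForm

set_option autoImplicit false
open Cfsg

namespace Cfsg.Agent.S4474

/-- Let χ be an irreducible character of the finite group G. Then the Frobenius–Schur indicator of χ (the average over s ∈ G of χ(s²)) equals 1 if and only if χ is afforded by a real representation: there is a representation of G on a real coordinate space whose trace function, viewed in ℂ, is χ. -/
theorem result {G : Type*} [Group G] [Fintype G] (χ : Cfsg.IrrCharacter G) : ((Nat.card G : ℂ)⁻¹ * ∑ s : G, (χ : G → ℂ) (s * s)) = 1 ↔ ∃ (n : ℕ) (ρ : Representation ℝ G (Fin n → ℝ)), ∀ g : G, ((LinearMap.trace ℝ (Fin n → ℝ) (ρ g) : ℝ) : ℂ) = (χ : G → ℂ) g := by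
  classical
  obtain ⟨n, ρ, hρ, hχ⟩ := χ.2
  constructor
  · intro h
    obtain ⟨σ, hσ⟩ := CfsgLib.Char.exists_real_form ρ (by rw [CfsgLib.Char.fsInd, hχ]; exact h)
    exact ⟨n, σ, fun g => by rw [hσ g, hχ]⟩
  · rintro ⟨m, σ, hσ⟩
    let C : G →* Matrix (Fin m) (Fin m) ℂ :=
      (Complex.ofRealHom.mapMatrix : Matrix (Fin m) (Fin m) ℝ →+* _).toMonoidHom.comp
        (CfsgLib.Char.matHom σ)
    have hchar : (CfsgLib.Char.repOfMat C).character = (χ : G → ℂ) := by
      funext g
      rw [CfsgLib.Char.character_repOfMat, ← hσ g, ← Matrix.toLin'_toMatrix' (σ g),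
        Matrix.trace_toLin'_eq]
      simp [C, CfsgLib.Char.matHom, Matrix.trace]
    haveI : (CfsgLib.Char.repOfMat C).IsIrreducible := by
      rw [CfsgLib.Char.isIrreducible_iff_classInner_eq_one, hchar]
      exact CfsgLib.Char.classInner_irr_self χ
    have hCrep : ∀ g, CfsgLib.Char.matHom (CfsgLib.Char.repOfMat C) g = C g := fun g =>
      LinearMap.toMatrix'_toLin' _
    set M : Matrix (Fin m) (Fin m) ℂ := ∑ g, (C g).transpose * C g with hM
    have hinv : ∀ g, (CfsgLib.Char.matHom (CfsgLib.Char.repOfMat C) g).transpose * M *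
        CfsgLib.Char.matHom (CfsgLib.Char.repOfMat C) g = M := fun h => by
      simp only [hCrep, hM, Finset.mul_sum, Finset.sum_mul]
      exact Fintype.sum_equiv (Equiv.mulRight h) _ _ fun g => by
        simp [map_mul, Matrix.transpose_mul, mul_assoc]
    have hsym : M.transpose = M := by simp [hM, Matrix.transpose_sum, Matrix.transpose_mul]
    have hne : M ≠ 0 := by
      intro h0
      obtain ⟨i⟩ : Nonempty (Fin m) := by
        have h1 := CfsgLib.Char.finrank_pos_of_irreducible (CfsgLib.Char.repOfMat C)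
        rw [Module.finrank_fin_fun] at h1
        exact ⟨⟨0, h1⟩⟩
      have h2 : (0 : ℝ) < ∑ g, ∑ k, (CfsgLib.Char.matHom σ g k i) ^ 2 := by
        refine Finset.sum_pos' (fun g _ => Finset.sum_nonneg fun k _ => sq_nonneg _)
          ⟨1, Finset.mem_univ _, Finset.sum_pos' (fun k _ => sq_nonneg _)
            ⟨i, Finset.mem_univ _, ?_⟩⟩
        simp
      have h3 := congrFun (congrFun h0 i) i
      have h4 : ((∑ g, ∑ k, (CfsgLib.Char.matHom σ g k i) ^ 2 : ℝ) : ℂ) = 0 := by
        rw [← Matrix.zero_apply (α := ℂ) i i, ← h3]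
        simp [hM, C, Matrix.sum_apply, Matrix.mul_apply, sq]
      exact h2.ne' (Complex.ofReal_eq_zero.mp h4)
    have h := CfsgLib.Char.invariant_form_transpose (CfsgLib.Char.repOfMat C)
      (fun g => by rw [hchar, ← hσ g]; exact Complex.ofReal_im _) M hinv
    rw [hsym, CfsgLib.Char.fsInd, hchar] at h
    have h5 : (((Nat.card G : ℂ)⁻¹ * ∑ s : G, (χ : G → ℂ) (s * s)) - 1) • M = 0 := by
      rw [sub_smul, ← h, one_smul, sub_self]
    exact sub_eq_zero.mp ((smul_eq_zero.mp h5).resolve_right hne)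

end Cfsg.Agent.S4474
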