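import Cfsg.Statements.S4476
import Cfsg.Agent.Lib.Char.Indicator
import Cfsg.Agent.Lib.CharAction.Galois
import Mathlib.Algebra.Order.Chebyshev
import Mathlib.GroupTheory.ClassEquation

set_option autoImplicit false
open Cfsg

namespace Cfsg.Agent.S4476

/-- Let G be a finite group of even order g with exactly t involutions, and put α = (g − 1)/t (a rational number). Then (a) some non-identity element x of G has at most α² conjugates; and (b) some non-principal real-valued irreducible character of G has degree at most α. -/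
theorem result {G : Type*} [Group G] [Fintype G] (heven : Even (Nat.card G)) (t : ℕ) (ht : Nat.card {x : G // orderOf x = 2} = t) : (∃ x : G, x ≠ 1 ∧ ((Subgroup.centralizer ({x} : Set G)).index : ℚ) ≤ (((Nat.card G : ℚ) - 1) / t) ^ 2) ∧ ∃ χ : Cfsg.IrrCharacter G, (χ : G → ℂ) ≠ (fun _ => 1) ∧ (∀ g : G, ((χ : G → ℂ) g).im = 0) ∧ (Cfsg.charDegree (χ : G → ℂ) : ℚ) ≤ ((Nat.card G : ℚ) - 1) / t := by
  classical
  haveI := Fintype.ofFinite (Cfsg.IrrCharacter G)
  haveI : Finite (ConjClasses G) := Finite.of_surjective _ ConjClasses.mk_surjective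
  haveI := Fintype.ofFinite (ConjClasses G)
  set N : ℕ := Nat.card G with hN
  choose d hd using fun χ : Cfsg.IrrCharacter G => CfsgLib.Char.IsIrr.exists_degree χ.2
  have hdeg : ∀ χ : Cfsg.IrrCharacter G, Cfsg.charDegree (χ : G → ℂ) = d χ := fun χ =>
    CfsgLib.CharAction.charDegree_eq_of_apply_one (hd χ).2
  set T := CfsgLib.Char.trivChar G with hT
  have hdT : d T = 1 := by
    apply Nat.cast_injective (R := ℂ)
    rw [← (hd T).2, hT]; simp
  have ht0 : 0 < t := by
    rw [← ht]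
    obtain ⟨x, hx⟩ := exists_prime_orderOf_dvd_card' 2 (G := G) (even_iff_two_dvd.mp heven)
    exact Nat.card_pos_iff.mpr ⟨⟨⟨x, hx⟩⟩, inferInstance⟩
  set S := (Finset.univ : Finset (Cfsg.IrrCharacter G)).filter
    fun χ => χ ≠ T ∧ ∀ g, ((χ : G → ℂ) g).im = 0 with hS
  have hnu : ∀ χ : Cfsg.IrrCharacter G, ‖CfsgLib.Char.fsInd (χ : G → ℂ)‖ ≤ 1 ∧
      (CfsgLib.Char.fsInd (χ : G → ℂ) ≠ 0 → ∀ g, ((χ : G → ℂ) g).im = 0) := fun χ => by
    obtain ⟨n, ρ, hρ, hχ⟩ := χ.2
    have h := CfsgLib.Char.fsInd_trichotomy ρ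
    rw [← hχ]
    refine ⟨?_, fun h0 => ?_⟩
    · rcases h.1 with h1 | h1 | h1 <;> simp [h1]
    · by_contra hno
      push Not at hno
      exact h0 (h.2.mpr hno)
  have hsum : (t : ℂ) = ∑ χ ∈ S, CfsgLib.Char.fsInd (χ : G → ℂ) * (d χ : ℂ) := by
    have h1 := CfsgLib.Char.card_sqrt_eq_sum (1 : G)
    have h2 : Nat.card {s : G // s * s = 1} = t + 1 := by
      rw [← ht]
      simp only [Nat.card_eq_fintype_card, Fintype.card_subtype]
      rw [← Finset.card_insert_of_notMem (s := Finset.univ.filter fun x : G => orderOf x = 2)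
        (a := 1) (by simp)]
      congr 1
      ext x
      simp only [Finset.mem_filter, Finset.mem_univ, true_and, Finset.mem_insert]
      constructor
      · intro hx
        by_cases h : x = 1
        · exact Or.inl h
        · exact Or.inr (orderOf_eq_prime (by rw [sq]; exact hx) h)
      · rintro (rfl | hx)
        · simp
        · rw [← sq, ← hx, pow_orderOf_eq_one]
    rw [h2, ← Finset.add_sum_erase _ _ (Finset.mem_univ T)] at h1
    have hTv : CfsgLib.Char.fsInd (T : G → ℂ) * (T : G → ℂ) 1 = 1 := by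
      simp [hT, CfsgLib.Char.fsInd, Nat.card_eq_fintype_card]
    rw [hTv, Nat.cast_add, Nat.cast_one, add_comm, add_left_cancel_iff] at h1
    rw [h1]
    symm
    refine Finset.sum_subset_zero_on_sdiff (fun χ hχ => ?_) (fun χ hχ => ?_) (fun χ _ => ?_)
    · simp only [hS, Finset.mem_filter] at hχ
      exact Finset.mem_erase.mpr ⟨hχ.2.1, Finset.mem_univ _⟩
    · simp only [Finset.mem_sdiff, Finset.mem_erase, hS, Finset.mem_filter, Finset.mem_univ,
        true_and, and_true] at hχ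
      have : CfsgLib.Char.fsInd (χ : G → ℂ) = 0 := by
        by_contra h0
        exact hχ.2 ⟨hχ.1, (hnu χ).2 h0⟩
      rw [this, zero_mul]
    · rw [(hd χ).2]
  have hle : (t : ℝ) ≤ ∑ χ ∈ S, (d χ : ℝ) := by
    calc (t : ℝ) = ‖(t : ℂ)‖ := (Complex.norm_natCast t).symm
      _ ≤ ∑ χ ∈ S, ‖CfsgLib.Char.fsInd (χ : G → ℂ) * (d χ : ℂ)‖ := hsum ▸ norm_sum_le _ _
      _ ≤ ∑ χ ∈ S, (d χ : ℝ) := Finset.sum_le_sum fun χ _ => by
          rw [norm_mul, Complex.norm_natCast]
          exact mul_le_of_le_one_left (Nat.cast_nonneg _) (hnu χ).1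
  have hle' : (t : ℚ) ≤ ∑ χ ∈ S, (d χ : ℚ) := by
    have : t ≤ ∑ χ ∈ S, d χ := by exact_mod_cast hle
    exact_mod_cast this
  have hsq : (∑ χ ∈ S, (d χ : ℚ) ^ 2) ≤ (N : ℚ) - 1 := by
    have h1 := CfsgLib.Char.sum_sq_degree (G := G)
    rw [Finset.sum_congr rfl fun χ _ => by rw [(hd χ).2]] at h1
    have h2 : ∑ χ, d χ ^ 2 = N := by exact_mod_cast h1
    rw [← Finset.add_sum_erase _ _ (Finset.mem_univ T), hdT, one_pow] at h2
    have h3 : ∑ χ ∈ S, d χ ^ 2 ≤ ∑ χ ∈ Finset.univ.erase T, d χ ^ 2 :=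
      Finset.sum_le_sum_of_subset fun χ hχ => by
        simp only [hS, Finset.mem_filter] at hχ
        exact Finset.mem_erase.mpr ⟨hχ.2.1, Finset.mem_univ _⟩
    have h4 : 1 + ∑ χ ∈ S, d χ ^ 2 ≤ N := by omega
    have h5 : (1 : ℚ) + ∑ χ ∈ S, (d χ : ℚ) ^ 2 ≤ (N : ℚ) := by exact_mod_cast h4
    linarith
  have htq : (0 : ℚ) < t := Nat.cast_pos.mpr ht0
  set a : ℚ := ((N : ℚ) - 1) / t with ha
  have hat : a * t = (N : ℚ) - 1 := div_mul_cancel₀ _ htq.ne'
  have hSne : S.Nonempty := by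
    by_contra h
    rw [Finset.not_nonempty_iff_eq_empty] at h
    rw [h] at hle'
    simp at hle'
    omega
  have hN1 : (0 : ℚ) < (N : ℚ) - 1 := by
    refine lt_of_lt_of_le ?_ hsq
    exact Finset.sum_pos (fun χ _ => pow_pos (Nat.cast_pos.mpr (hd χ).1) 2) hSne
  constructor
  · by_contra hno
    push Not at hno
    set k := (Finset.univ.erase (ConjClasses.mk (1 : G))).card with hk
    have h1 : (∑ C ∈ Finset.univ.erase (ConjClasses.mk (1 : G)), (C.carrier.ncard : ℚ)) =
        (N : ℚ) - 1 := by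
      have h := sum_conjClasses_card_eq_card G
      rw [← Finset.add_sum_erase _ _ (Finset.mem_univ (ConjClasses.mk (1 : G)))] at h
      simp only [Set.toFinset_card, ← Nat.card_eq_fintype_card, Nat.card_coe_set_eq, ← hN] at h
      have h' : (ConjClasses.mk (1 : G)).carrier.ncard = 1 := by
        rw [Set.ncard_eq_one]
        exact ⟨1, by ext x; simp [ConjClasses.mem_carrier_iff_mk_eq, ConjClasses.mk_eq_mk_iff_isConj]⟩
      rw [h'] at h
      rw [← h]
      push_cast
      ring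
    have h2 : (k : ℚ) * a ^ 2 < (N : ℚ) - 1 := by
      rw [← h1, hk, ← nsmul_eq_mul, ← Finset.sum_const]
      refine Finset.sum_lt_sum_of_nonempty ?_ fun C hC => ?_
      · obtain ⟨x, hx⟩ := exists_prime_orderOf_dvd_card' 2 (G := G) (even_iff_two_dvd.mp heven)
        refine ⟨ConjClasses.mk x, Finset.mem_erase.mpr ⟨fun h => ?_, Finset.mem_univ _⟩⟩
        rw [ConjClasses.mk_eq_mk_iff_isConj, isConj_one_left] at h
        simp [h] at hx
      · obtain ⟨x, rfl⟩ := ConjClasses.mk_surjective C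
        rw [← Nat.card_coe_set_eq, CfsgLib.Char.card_carrier_eq_index]
        exact hno x fun h => (Finset.mem_erase.mp hC).1 (by rw [h])
    have h3 : S.card ≤ k := by
      have hc := CfsgLib.Char.card_irrCharacter (G := G)
      rw [Nat.card_eq_fintype_card, Nat.card_eq_fintype_card] at hc
      rw [hk, Finset.card_erase_of_mem (Finset.mem_univ _), Finset.card_univ, ← hc,
        ← Finset.card_univ, ← Finset.card_erase_of_mem (Finset.mem_univ T)]
      exact Finset.card_le_card fun χ hχ => by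
        simp only [hS, Finset.mem_filter] at hχ
        exact Finset.mem_erase.mpr ⟨hχ.2.1, Finset.mem_univ _⟩
    have h4 : (t : ℚ) ^ 2 ≤ (k : ℚ) * ((N : ℚ) - 1) := by
      calc (t : ℚ) ^ 2 ≤ (∑ χ ∈ S, (d χ : ℚ)) ^ 2 := pow_le_pow_left₀ htq.le hle' 2
        _ ≤ (S.card : ℚ) * ∑ χ ∈ S, (d χ : ℚ) ^ 2 := sq_sum_le_card_mul_sum_sq
        _ ≤ (k : ℚ) * ((N : ℚ) - 1) := mul_le_mul (Nat.cast_le.mpr h3) hsq
            (Finset.sum_nonneg fun χ _ => sq_nonneg _) (Nat.cast_nonneg _)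
    have h5 : (t : ℚ) ^ 2 * a ^ 2 = ((N : ℚ) - 1) ^ 2 := by rw [← hat]; ring
    nlinarith [mul_le_mul_of_nonneg_right h4 (sq_nonneg a), mul_lt_mul_of_pos_left h2 hN1]
  · by_contra hno
    push Not at hno
    have h1 : ∀ χ ∈ S, a < (d χ : ℚ) := fun χ hχ => by
      simp only [hS, Finset.mem_filter] at hχ
      rw [← hdeg]
      exact hno χ (fun h => hχ.2.1 (Subtype.ext h)) hχ.2.2
    have h2 : a * ∑ χ ∈ S, (d χ : ℚ) < ∑ χ ∈ S, (d χ : ℚ) ^ 2 := by
      rw [Finset.mul_sum]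
      exact Finset.sum_lt_sum_of_nonempty hSne fun χ hχ => by
        rw [sq]
        exact mul_lt_mul_of_pos_right (h1 χ hχ) (Nat.cast_pos.mpr (hd χ).1)
    have h3 : (N : ℚ) - 1 ≤ a * ∑ χ ∈ S, (d χ : ℚ) := by
      rw [← hat]
      exact mul_le_mul_of_nonneg_left hle' (div_nonneg hN1.le htq.le)
    linarith

end Cfsg.Agent.S4476
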