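import Cfsg.Statements.S4477
import Cfsg.Agent.Lib.ClassSizes.KulakoffCyclic
import Cfsg.Agent.Lib.PGroups.MaxClassRank

set_option autoImplicit false
open Cfsg

namespace Cfsg.Agent.S4477

open Subgroup

variable {G : Type*} [Group G] [Finite G]

private theorem sq_inv {x : G} (h : x ^ 2 = 1) : x⁻¹ = x :=
  inv_eq_of_mul_eq_one_right (by rwa [← pow_two])

/-- In a group of even order the number of square roots of one is even. -/
private theorem even_sqrt_one (h : 2 ∣ Nat.card G) : 2 ∣ Nat.card {x : G // x ^ 2 = 1} := by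
  haveI : Fact (Nat.Prime 2) := ⟨Nat.prime_two⟩
  have hsplit : Nat.card G =
      Nat.card {x : G // x ^ 2 = 1} + Nat.card {x : G // ¬ x ^ 2 = 1} := by
    classical
    rw [← Nat.card_sum]
    exact (Nat.card_congr (Equiv.sumCompl fun x : G => x ^ 2 = 1)).symm
  have hσ : 2 ∣ Nat.card {x : G // ¬ x ^ 2 = 1} := by
    classical
    haveI := Fintype.ofFinite {x : G // ¬ x ^ 2 = 1}
    let τ : Function.End {x : G // ¬ x ^ 2 = 1} :=
      fun x => ⟨x.1⁻¹, fun h => x.2 (by rwa [inv_pow, inv_eq_one] at h)⟩
    have hτ : τ ^ 2 ^ 1 = 1 := by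
      rw [pow_one, pow_two]
      funext x
      exact Subtype.ext (inv_inv (x : G))
    have h0 : IsEmpty (Function.fixedPoints τ) :=
      ⟨fun x => x.1.2 (by
        have := congrArg Subtype.val x.2
        change (x.1.1)⁻¹ = x.1.1 at this
        rw [pow_two]; nth_rewrite 1 [← this]; exact inv_mul_cancel _)⟩
    have := Equiv.Perm.card_fixedPoints_modEq (p := 2) hτ
    rw [Fintype.card_eq_zero (α := Function.fixedPoints τ)] at this
    rw [Nat.card_eq_fintype_card]
    exact (Nat.modEq_zero_iff_dvd).mp this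
  omega

/-- The count of square roots of one, given a normal four-group. -/
private theorem count_of_square (hG : IsPGroup 2 G) {E : Subgroup G} (hEn : E.Normal)
    (hE : ∀ e ∈ E, e ^ 2 = 1) (hEc : Nat.card E = 4) :
    4 ∣ Nat.card {x : G // x ^ 2 = 1} ∨ (commutator G).index = 4 := by
  classical
  haveI : Fact (Nat.Prime 2) := ⟨Nat.prime_two⟩
  set C := centralizer (E : Set G) with hC
  have hEE : E ≤ C := fun e he => mem_centralizer_iff.mpr fun f hf => by
    have h := sq_inv (hE _ (mul_mem (show f ∈ E from hf) he))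
    rw [mul_inv_rev, sq_inv (hE _ he), sq_inv (hE _ hf)] at h
    exact h.symm
  set W : Set G := {x | x ∉ C ∧ x ^ 2 = 1} with hW
  have hCpart : 4 ∣ Nat.card {x : G // x ∈ C ∧ x ^ 2 = 1} := by
    have := CfsgLib.ClassSizes.Kulakoff.dvd_card_of_invariant (H := E)
      (T := {x | x ∈ C ∧ x ^ 2 = 1}) (fun t ht u hu => ⟨mul_mem ht.1 (hEE hu), by
        have : Commute t u := (mem_centralizer_iff.mp ht.1 u hu).symm
        rw [this.mul_pow, ht.2, hE u hu, one_mul]⟩)
    rwa [hEc] at this
  have hsum : Nat.card {x : G // x ^ 2 = 1} =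
      Nat.card {x : G // x ∈ C ∧ x ^ 2 = 1} + Nat.card W := by
    rw [← Nat.card_sum]
    refine (Nat.card_congr (Equiv.sumCompl fun x : {x : G // x ^ 2 = 1} => x.1 ∈ C)).symm.trans
      (Nat.card_congr (Equiv.sumCongr ?_ ?_))
    · exact (Equiv.subtypeSubtypeEquivSubtypeInter _ _).trans
        (Equiv.subtypeEquivRight fun x => And.comm)
    · exact (Equiv.subtypeSubtypeEquivSubtypeInter _ (fun x => x ∉ C)).trans
        (Equiv.subtypeEquivRight fun x => And.comm)
  -- case: every involution outside has class of size divisible by four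
  by_cases hbig : ∀ t ∈ W, (centralizer ({t} : Set G)).index ≠ 2
  · left
    rw [hsum]
    refine Nat.dvd_add hCpart ?_
    haveI : C.Normal := by
      haveI := hEn
      exact Subgroup.normal_centralizer
    letI : MulAction (ConjAct G) W :=
      { smul := fun g x => ⟨g • x.1, fun h => x.2.1 (by
          have := (inferInstance : C.Normal).conj_mem _ h (ConjAct.ofConjAct g)⁻¹
          rw [ConjAct.smul_def] at this
          simpa [mul_assoc] using this), by
          rw [← smul_pow', x.2.2, smul_one]⟩
        one_smul := fun x => Subtype.ext (one_smul _ x.1)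
        mul_smul := fun g h x => Subtype.ext (mul_smul g h x.1) }
    haveI := Fintype.ofFinite W
    rw [Nat.card_congr (MulAction.selfEquivSigmaOrbits (ConjAct G) W), Nat.card_sigma]
    refine Finset.dvd_sum fun ω _ => ?_
    set w := ω.out
    have he : Nat.card (MulAction.orbit (ConjAct G) w) = (centralizer ({w.1} : Set G)).index := by
      have hst : (MulAction.stabilizer (ConjAct G) w).map (ConjAct.ofConjAct (G := G)).toMonoidHom =
          centralizer ({w.1} : Set G) := by
        ext g
        simp only [Subgroup.mem_map, MulAction.mem_stabilizer_iff, mem_centralizer_singleton_iff]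
        constructor
        · rintro ⟨a, ha, rfl⟩
          have := congrArg Subtype.val ha
          change a • w.1 = w.1 at this
          rw [ConjAct.smul_def, mul_inv_eq_iff_eq_mul] at this
          exact this
        · intro h
          refine ⟨ConjAct.toConjAct g, Subtype.ext ?_, rfl⟩
          change ConjAct.toConjAct g • w.1 = w.1
          rw [ConjAct.smul_def, ConjAct.ofConjAct_toConjAct, mul_inv_eq_iff_eq_mul, h]
      rw [← hst, Subgroup.index_map_of_bijective (ConjAct.ofConjAct (G := G)).bijective,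
        MulAction.index_stabilizer, Nat.card_coe_set_eq]
    rw [he]
    obtain ⟨k, hk⟩ := hG.index (centralizer ({w.1} : Set G))
    rw [hk]
    rcases k with _ | _ | k
    · exfalso
      have h1 : centralizer ({w.1} : Set G) = ⊤ := index_eq_one.mp (by simpa using hk)
      exact w.2.1 (mem_centralizer_iff.mpr fun e he =>
        mem_centralizer_singleton_iff.mp (h1 ▸ mem_top e))
    · exact absurd (by simpa using hk) (hbig w.1 w.2)
    · exact Dvd.intro _ (by ring : 4 * 2 ^ k = 2 ^ (k + 2))
  push Not at hbig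
  obtain ⟨t, ⟨htC, ht2⟩, htidx⟩ := hbig
  set Ct := centralizer ({t} : Set G) with hCt
  haveI hCtn : Ct.Normal := Subgroup.normal_of_index_eq_two htidx
  obtain ⟨e, he, het⟩ : ∃ e ∈ E, ¬ e * t = t * e := by
    by_contra h; push Not at h
    exact htC (mem_centralizer_iff.mpr h)
  have heCt : e ∉ Ct := fun h => het (mem_centralizer_singleton_iff.mp h)
  have he1 : e ≠ 1 := fun h => het (by rw [h, one_mul, mul_one])
  have hte : t * e * t⁻¹ ∈ E := hEn.conj_mem e he t
  set z := t * e * t⁻¹ * e with hz
  have hzE : z ∈ E := mul_mem hte he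
  have hz1 : z ≠ 1 := fun h => het (by
    have := eq_inv_of_mul_eq_one_left h
    rw [sq_inv (hE e he), mul_inv_eq_iff_eq_mul] at this
    exact this.symm)
  have hze : z ≠ e := fun h => he1 (by
    have h' : t * e * t⁻¹ = 1 := mul_eq_right.mp h
    simpa using h')
  -- `E = {1, e, z, z e}`
  have hEcases : ∀ f ∈ E, f = 1 ∨ f = e ∨ f = z ∨ f = z * e := by
    intro f hf
    by_contra hcon
    push Not at hcon
    haveI := Fintype.ofFinite E
    have h5 : ({⟨1, one_mem E⟩, ⟨e, he⟩, ⟨z, hzE⟩, ⟨z * e, mul_mem hzE he⟩, ⟨f, hf⟩} : Finset E).card = 5 := by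
      have hze1 : z * e ≠ 1 := fun h => hze (by rw [eq_inv_of_mul_eq_one_left h, sq_inv (hE e he)])
      have a1 : z * e ≠ e := fun h => hz1 (mul_eq_right.mp h)
      have a2 : z * e ≠ z := fun h => he1 (mul_eq_left.mp h)
      obtain ⟨b1, b2, b3, b4⟩ := hcon
      rw [Finset.card_insert_of_notMem, Finset.card_insert_of_notMem, Finset.card_insert_of_notMem,
        Finset.card_insert_of_notMem, Finset.card_singleton] <;>
        simp [Subtype.ext_iff, he1.symm, hz1.symm, hze1.symm, hze.symm, a1.symm, a2.symm, b1.symm,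
          b2.symm, b3.symm, b4.symm]
    have := Finset.card_le_univ ({⟨1, one_mem E⟩, ⟨e, he⟩, ⟨z, hzE⟩, ⟨z * e, mul_mem hzE he⟩, ⟨f, hf⟩} : Finset E)
    rw [← Nat.card_eq_fintype_card, hEc, h5] at this
    omega
  have hec : ∀ f ∈ E, Commute f e := fun f hf => (mem_centralizer_iff.mp (hEE he) f hf)
  -- `z` is central
  have hzt : t * z = z * t := by
    have h1 : t * z * t⁻¹ = z := by
      calc t * z * t⁻¹ = (t * (t * e * t⁻¹) * t⁻¹) * (t * e * t⁻¹) := by rw [hz]; group
        _ = e * (t * e * t⁻¹) := by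
            have : t * (t * e * t⁻¹) * t⁻¹ = (t * t) * e * (t * t)⁻¹ := by group
            rw [this, ← pow_two, ht2]; group
        _ = z := ((hec _ hte).eq).symm
    exact mul_inv_eq_iff_eq_mul.mp h1
  have hzCt : z ∈ Ct := mem_centralizer_singleton_iff.mpr hzt.symm
  have hzc : ∀ g : G, g * z = z * g := by
    intro g
    have h1 : g * z * g⁻¹ ∈ E := hEn.conj_mem z hzE g
    have h2 : g * z * g⁻¹ ∈ Ct := hCtn.conj_mem z hzCt g
    rcases hEcases _ h1 with h | h | h | h
    · exact absurd (by simpa using h) hz1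
    · exact absurd (h ▸ h2) heCt
    · exact mul_inv_eq_iff_eq_mul.mp h
    · exact absurd ((Subgroup.mul_mem_cancel_left Ct hzCt).mp (h ▸ h2)) heCt
  haveI : (centralizer (E : Set G)).Normal := by
    haveI := hEn
    exact Subgroup.normal_centralizer
  have hCiff : ∀ g, g ∈ C ↔ g * e = e * g := by
    intro g
    refine ⟨fun h => (mem_centralizer_iff.mp h e he).symm, fun h => mem_centralizer_iff.mpr ?_⟩
    intro f hf
    rcases hEcases f hf with rfl | rfl | rfl | rfl
    · rw [one_mul, mul_one]
    · exact h.symm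
    · exact (hzc g).symm
    · exact ((Commute.mul_right (hzc g) h) : Commute g (z * e)).eq.symm
  have hCidx : C.index = 2 := by
    refine Subgroup.index_eq_two_iff.mpr ⟨t, fun g => ?_⟩
    have hkey : ∀ g, g ∉ C → g * e * g⁻¹ = z * e := by
      intro g hg
      rcases hEcases _ (hEn.conj_mem e he g) with h | h | h | h
      · exact absurd (by simpa using h) he1
      · exact absurd ((hCiff g).mpr (mul_inv_eq_iff_eq_mul.mp h)) hg
      · exfalso
        have h' : g⁻¹ * z * g = e := by rw [← h]; group
        rw [mul_assoc, ← hzc, inv_mul_cancel_left] at h'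
        exact hze h'
      · exact h
    by_cases hg : g ∈ C
    · exact Or.inr ⟨hg, fun h => htC ((Subgroup.mul_mem_cancel_left C hg).mp h)⟩
    · refine Or.inl ⟨(hCiff _).mpr ?_, hg⟩
      rw [← mul_inv_eq_iff_eq_mul]
      calc g * t * e * (g * t)⁻¹ = g * (t * e * t⁻¹) * g⁻¹ := by group
        _ = g * (z * e) * g⁻¹ := by rw [hkey t htC]
        _ = (g * z) * e * g⁻¹ := by group
        _ = z * (g * e * g⁻¹) := by rw [hzc g]; group
        _ = z * (z * e) := by rw [hkey g hg]
        _ = e := by rw [← mul_assoc, ← pow_two, hE z hzE, one_mul]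
  set C0 := C ⊓ Ct with hC0
  have hcomm0 : commutator G ≤ C0 := by
    have hle : ∀ N : Subgroup G, N.Normal → N.index = 2 → commutator G ≤ N := by
      intro N _ hN2
      rw [_root_.commutator_def, Subgroup.commutator_le]
      intro a _ b _
      have h1 : ∀ x y : G, (x * y ∈ N ↔ (x ∈ N ↔ y ∈ N)) := fun x y =>
        Subgroup.mul_mem_iff_of_index_two hN2
      simp only [commutatorElement_def, h1, inv_mem_iff]
      tauto
    exact le_inf (hle C inferInstance hCidx) (hle Ct hCtn htidx)
  by_cases hsmall : ∀ c ∈ C0, c = 1 ∨ c = z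
  · right
    have hz' : z ∈ commutator G := by
      have : z = t * e * t⁻¹ * e⁻¹ := by rw [sq_inv (hE e he), hz]
      rw [this, _root_.commutator_def]; exact Subgroup.commutator_mem_commutator (mem_top _) (mem_top _)
    have heq : commutator G = C0 := le_antisymm hcomm0 fun c hc => by
      rcases hsmall c hc with rfl | rfl
      · exact one_mem _
      · exact hz'
    rw [heq]
    have hrel : C0.relIndex C = 2 := by
      rw [hC0, Subgroup.inf_relIndex_left]
      have hdvd : Ct.relIndex C ∣ 2 := htidx ▸ Subgroup.relIndex_dvd_index_of_normal Ct C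
      rcases (Nat.dvd_prime Nat.prime_two).mp hdvd with h | h
      · exact absurd (Subgroup.relIndex_eq_one.mp h (hEE he)) heCt
      · exact h
    rw [← Subgroup.relIndex_mul_index (inf_le_left : C0 ≤ C), hrel, hCidx]
  left
  push Not at hsmall
  obtain ⟨c₀, hc₀, hc₀1, hc₀z⟩ := hsmall
  have htC' : t * e = z * e * t := by
    rw [hz]
    calc t * e = (t * e * t⁻¹) * (e * e) * t := by rw [← pow_two, hE e he]; group
      _ = _ := by group
  have hC0e : ∀ c ∈ C0, Commute c e ∧ Commute c t := fun c hc =>
    ⟨(hCiff c).mp hc.1, mem_centralizer_singleton_iff.mp hc.2⟩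
  have htCt : t ∈ Ct := mem_centralizer_singleton_iff.mpr rfl
  -- the four cosets
  let φ : C0 × Bool × Bool → G := fun p =>
    p.1.1 * ((if p.2.1 then t else 1) * (if p.2.2 then e else 1))
  have hC0iff : ∀ (c : G) (i j : Bool), c ∈ C0 →
      ((c * ((if i then t else 1) * (if j then e else 1)) ∈ C ↔ i = false) ∧
       (c * ((if i then t else 1) * (if j then e else 1)) ∈ Ct ↔ j = false)) := by
    intro c i j hc
    rw [Subgroup.mul_mem_cancel_left C hc.1, Subgroup.mul_mem_cancel_left Ct hc.2]
    cases i <;> cases j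
    · simp [one_mem]
    · simp [hEE he, heCt]
    · simp [htC, htCt]
    · simp [Subgroup.mul_mem_cancel_right C (hEE he), htC, Subgroup.mul_mem_cancel_left Ct htCt, heCt]
  have hφ : Function.Bijective φ := by
    constructor
    · rintro ⟨c, i, j⟩ ⟨c', i', j'⟩ h
      obtain ⟨h1, h2⟩ := hC0iff c i j c.2
      obtain ⟨h1', h2'⟩ := hC0iff c' i' j' c'.2
      change c.1 * _ = c'.1 * _ at h
      rw [h, h1'] at h1
      rw [h, h2'] at h2
      have hi : i = i' := by revert h1; clear * -; cases i <;> cases i' <;> simp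
      have hj : j = j' := by revert h2; clear * -; cases j <;> cases j' <;> simp
      subst hi hj
      exact Prod.ext (Subtype.ext (mul_right_cancel h)) rfl
    · intro g
      have key : ∀ i j : Bool, (g ∈ C ↔ i = false) → (g ∈ Ct ↔ j = false) → ∃ p, φ p = g := by
        intro i j h1 h2
        refine ⟨(⟨g * ((if i then t else 1) * (if j then e else 1))⁻¹, ?_, ?_⟩, i, j),
          inv_mul_cancel_right g _⟩
        · change _ ∈ C
          rw [Subgroup.mul_mem_iff_of_index_two hCidx, inv_mem_iff, h1]
          have := (hC0iff 1 i j (one_mem _)).1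
          rw [one_mul] at this
          exact this.symm
        · change _ ∈ Ct
          rw [Subgroup.mul_mem_iff_of_index_two htidx, inv_mem_iff, h2]
          have := (hC0iff 1 i j (one_mem _)).2
          rw [one_mul] at this
          exact this.symm
      exact key (decide (g ∉ C)) (decide (g ∉ Ct)) (by simp) (by simp)
  have hsq : ∀ (c : C0) (i j : Bool), φ (c, i, j) ^ 2 = c.1 ^ 2 * (if i ∧ j then z else 1) := by
    intro c i j
    obtain ⟨h1, h2⟩ := hC0e c.1 c.2
    have hs : Commute c.1 ((if i then t else 1) * (if j then e else 1)) := by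
      cases i <;> cases j <;> simp [h1, h2, Commute.mul_right]
    change (c.1 * _) ^ 2 = _
    rw [hs.mul_pow]
    congr 1
    cases i <;> cases j <;> simp only [Bool.false_eq_true, if_false, if_true, one_mul, mul_one, and_false, and_true]
    · exact one_pow 2
    · exact hE e he
    · exact ht2
    · calc (t * e) ^ 2 = (t * e) * (t * e) := pow_two _
        _ = (z * e * t) * (t * e) := by nth_rewrite 1 [htC']; rfl
        _ = z * e * (t * t) * e := by group
        _ = z * (e * e) := by rw [← pow_two, ht2]; group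
        _ = z := by rw [← pow_two, hE e he, mul_one]
  set zC : C0 := ⟨z, ⟨hEE hzE, hzCt⟩⟩ with hzC
  set a := Nat.card {c : C0 // c ^ 2 = 1} with ha
  set b := Nat.card {c : C0 // c ^ 2 = zC} with hb
  have hcount : Nat.card {x : G // x ^ 2 = 1} = a + a + a + b := by
    have e1 : {x : G // x ^ 2 = 1} ≃ {p : C0 × Bool × Bool // φ p ^ 2 = 1} :=
      ((Equiv.ofBijective φ hφ).subtypeEquiv fun p => Iff.rfl).symm
    have e2 : {p : C0 × Bool × Bool // φ p ^ 2 = 1} ≃
        Σ q : Bool × Bool, {c : C0 // φ (c, q.1, q.2) ^ 2 = 1} :=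
      { toFun := fun p => ⟨(p.1.2.1, p.1.2.2), ⟨p.1.1, p.2⟩⟩
        invFun := fun s => ⟨(s.2.1, s.1.1, s.1.2), s.2.2⟩
        left_inv := fun p => rfl
        right_inv := fun s => rfl }
    have hf : ∀ q : Bool × Bool, Nat.card {c : C0 // φ (c, q.1, q.2) ^ 2 = 1} =
        if q.1 ∧ q.2 then b else a := by
      rintro ⟨i, j⟩
      by_cases hij : i = true ∧ j = true
      · rw [if_pos hij]
        refine Nat.card_congr (Equiv.subtypeEquivRight fun c => ?_)
        rw [hsq, if_pos hij, ← Subtype.coe_inj, SubmonoidClass.coe_pow]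
        constructor
        · intro h; rw [eq_inv_of_mul_eq_one_left h, sq_inv (hE z hzE)]
        · intro h; rw [h, ← pow_two, hE z hzE]
      · rw [if_neg hij]
        refine Nat.card_congr (Equiv.subtypeEquivRight fun c => ?_)
        rw [hsq, if_neg hij, mul_one, ← Subtype.coe_inj, SubmonoidClass.coe_pow, Subgroup.coe_one]
    rw [Nat.card_congr (e1.trans e2), Nat.card_sigma]
    simp only [hf, Fintype.sum_prod_type, Fintype.sum_bool]
    simp
    omega
  haveI hCnz : Nontrivial C0 := ⟨⟨c₀, hc₀⟩, 1, fun h => hc₀1 (congrArg Subtype.val h)⟩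
  have h2C0 : 2 ∣ Nat.card C0 := by
    obtain ⟨k, hk0, hk⟩ := (hG.to_subgroup C0).nontrivial_iff_card.mp hCnz
    rw [hk]; exact dvd_pow_self 2 hk0.ne'
  have haeven : 2 ∣ a := even_sqrt_one h2C0
  set Z := Subgroup.zpowers zC with hZ
  have hzC2 : zC ^ 2 = 1 := Subtype.ext (hE z hzE)
  have hzC1 : zC ≠ 1 := fun h => hz1 (congrArg Subtype.val h)
  have hZmem : ∀ c : C0, c ∈ Z ↔ c = 1 ∨ c = zC := by
    intro c
    constructor
    · intro hc
      obtain ⟨i, rfl⟩ := Subgroup.mem_zpowers_iff.mp hc
      rcases Int.even_or_odd' i with ⟨j, rfl | rfl⟩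
      · exact Or.inl (by rw [zpow_mul, zpow_two, ← pow_two, hzC2, one_zpow])
      · exact Or.inr (by rw [zpow_add_one, zpow_mul, zpow_two, ← pow_two, hzC2, one_zpow, one_mul])
    · rintro (rfl | rfl)
      · exact one_mem _
      · exact Subgroup.mem_zpowers zC
  haveI : Z.Normal := ⟨fun c hc g => by
    rcases (hZmem c).mp hc with h | h <;> rw [h]
    · simp
    · rw [show g * zC * g⁻¹ = zC from Subtype.ext (mul_inv_eq_iff_eq_mul.mpr (hzc g.1))]
      exact Subgroup.mem_zpowers zC⟩
  have h4ab : 4 ∣ a + b := by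
    have hq : 2 ∣ Nat.card {q : C0 ⧸ Z // q ^ 2 = 1} := by
      refine even_sqrt_one ?_
      have hne : Nontrivial (C0 ⧸ Z) := ⟨((⟨c₀, hc₀⟩ : C0) : C0 ⧸ Z), 1, fun h => by
        rcases (hZmem _).mp ((QuotientGroup.eq_one_iff _).mp h) with h' | h'
        · exact hc₀1 (congrArg Subtype.val h')
        · exact hc₀z (congrArg Subtype.val h')⟩
      obtain ⟨k, hk0, hk⟩ := ((hG.to_subgroup C0).to_quotient Z).nontrivial_iff_card.mp hne
      rw [hk]; exact dvd_pow_self 2 hk0.ne'
    have hU : a + b = Nat.card {c : C0 // ((c : C0 ⧸ Z)) ^ 2 = 1} := by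
      rw [ha, hb, ← Nat.card_sum]
      have hdec : ∀ c : C0, ((c : C0 ⧸ Z)) ^ 2 = 1 ↔ c ^ 2 = 1 ∨ c ^ 2 = zC := fun c => by
        rw [← QuotientGroup.mk_pow, QuotientGroup.eq_one_iff, hZmem]
      refine Nat.card_congr ?_
      refine (Equiv.trans ?_ (Equiv.subtypeEquivRight fun c => (hdec c).symm))
      exact (subtypeOrEquiv _ _ (Pi.disjoint_iff.mpr fun c => Prop.disjoint_iff.mpr
        (Classical.not_and_iff_not_or_not.mpr (by
          by_cases h : c ^ 2 = 1
          · exact Or.inr (by rw [h]; exact hzC1.symm)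
          · exact Or.inl h)))).symm
    have hpre : Nat.card {c : C0 // ((c : C0 ⧸ Z)) ^ 2 = 1} =
        Nat.card Z * Nat.card {q : C0 ⧸ Z // q ^ 2 = 1} := by
      rw [← Nat.card_prod]
      exact Nat.card_congr (QuotientGroup.preimageMkEquivSubgroupProdSet Z {q | q ^ 2 = 1})
    have hZc : Nat.card Z = 2 := (Nat.card_zpowers zC).trans (orderOf_eq_prime hzC2 hzC1)
    rw [hU, hpre, hZc]
    obtain ⟨d, hd⟩ := hq
    exact ⟨d, by rw [hd]; ring⟩
  rw [hcount]
  omega


/-- Let G be a finite 2-group whose number of involutions is congruent to 1 modulo 4. Then G is cyclic or its commutator subgroup has index 4. -/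
theorem result {G : Type*} [Group G] [Finite G] (hG : IsPGroup 2 G) (ht : Nat.card {x : G // orderOf x = 2} % 4 = 1) : IsCyclic G ∨ (commutator G).index = 4 := by
  haveI : Fact (Nat.Prime 2) := ⟨Nat.prime_two⟩
  refine or_iff_not_imp_left.mpr fun hnc => ?_
  obtain ⟨n, hn⟩ := IsPGroup.iff_card.mp hG
  by_cases hE : ∃ E : Subgroup G, E.Normal ∧ (∀ e ∈ E, e ^ 2 = 1) ∧ Nat.card E = 2 ^ 2
  · obtain ⟨E, hEn, hE2, hEc⟩ := hE
    refine (count_of_square hG hEn hE2 (by rw [hEc]; rfl)).resolve_left fun h4 => ?_
    classical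
    have hsplit : Nat.card {x : G // x ^ 2 = 1} = Nat.card {x : G // orderOf x = 2} + 1 := by
      have e : {x : G // x ^ 2 = 1} ≃ Option {x : G // orderOf x = 2} :=
        { toFun := fun x => if h : x.1 = 1 then none else some ⟨x.1, orderOf_eq_prime x.2 h⟩
          invFun := fun o => o.elim ⟨1, one_pow 2⟩ fun y =>
            ⟨y.1, orderOf_dvd_iff_pow_eq_one.mp y.2.dvd⟩
          left_inv := fun x => by
            by_cases h : x.1 = 1
            · simp [h, Subtype.ext_iff]
            · simp [h]
          right_inv := fun o => by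
            rcases o with _ | y
            · simp
            · have hy : y.1 ≠ 1 := fun h => by
                have := y.2; rw [h, orderOf_one] at this; omega
              simp [hy] }
      rw [Nat.card_congr e, Finite.card_option]
    omega
  · have hcl := CfsgLib.ClassSizes.Kulakoff.class_of_no_square hn hnc hE
    rcases lt_or_ge n 3 with hn3 | hn3
    · interval_cases n
      · haveI : Subsingleton G := (Nat.card_eq_one_iff_unique.mp (by simpa using hn)).1
        exact absurd isCyclic_of_subsingleton hnc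
      · exact absurd (isCyclic_of_prime_card (p := 2) (by simpa using hn)) hnc
      · have hab := IsPGroup.commutative_of_card_eq_prime_sq (p := 2) hn
        have hbot : commutator G = ⊥ := by
          rw [_root_.commutator_def, eq_bot_iff, Subgroup.commutator_le]
          intro a _ b _
          rw [Subgroup.mem_bot, commutatorElement_eq_one_iff_mul_comm]
          exact hab a b
        rw [hbot, Subgroup.index_bot, hn]; rfl
    · haveI : Group.IsNilpotent G := hG.isNilpotent
      have h := (CfsgLib.PGroups.MaxClassRank.card_series hG hn3 hn hcl).1.2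
      rw [Subgroup.top_lowerCentralSeries_one] at h
      simpa using h

end Cfsg.Agent.S4477
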