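import Cfsg.Statements.S4478
import Cfsg.Agent.Lib.Char.Indicator
import Cfsg.Agent.Lib.Char.DefectZero
import Cfsg.Agent.Lib.Char.Brauer
import Cfsg.Agent.Lib.CharAction.Galois
import Cfsg.Agent.Lib.Blocks.GroupAlg

set_option autoImplicit false
open Cfsg

namespace Cfsg.Agent.S4478

/-- Let G be a finite group of even order and χ an irreducible character of G whose degree x is divisible by the full power of 2 dividing the order of G and, for every odd prime p such that G has an element of order 2p, by the full power of p dividing the order of G. Then all involutions of G are conjugate, the centralizer of every involution has order exactly x with x coprime to its index, and the Frobenius–Schur indicator of χ equals 1. -/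
theorem result {G : Type*} [Group G] [Fintype G] (heven : Even (Nat.card G)) (χ : Cfsg.IrrCharacter G) (h2 : 2 ^ (Nat.card G).factorization 2 ∣ Cfsg.charDegree (χ : G → ℂ)) (hp : ∀ p : ℕ, p.Prime → p ≠ 2 → (∃ g : G, orderOf g = 2 * p) → p ^ (Nat.card G).factorization p ∣ Cfsg.charDegree (χ : G → ℂ)) : (∀ s t : G, orderOf s = 2 → orderOf t = 2 → IsConj s t) ∧ (∀ s : G, orderOf s = 2 → Nat.card (Subgroup.centralizer ({s} : Set G)) = Cfsg.charDegree (χ : G → ℂ) ∧ (Nat.card (Subgroup.centralizer ({s} : Set G))).Coprime (Subgroup.centralizer ({s} : Set G)).index) ∧ (Nat.card G : ℂ)⁻¹ * ∑ g : G, (χ : G → ℂ) (g * g) = 1 := by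
  classical
  obtain ⟨d, hd, hd0, -⟩ := CfsgLib.CharAction.degree_dvd_card χ
  rw [CfsgLib.CharAction.charDegree_eq_of_apply_one hd] at h2 hp
  rw [CfsgLib.CharAction.charDegree_eq_of_apply_one hd]
  haveI := Fact.mk Nat.prime_two
  have h2G : 2 ∣ Nat.card G := even_iff_two_dvd.1 heven
  have hd2 : 2 ∣ d := (dvd_pow_self 2
    (Nat.Prime.factorization_pos_of_dvd Nat.prime_two Nat.card_pos.ne' h2G).ne').trans h2
  -- full primes
  have hfull : ∀ (q : ℕ), q.Prime → ∀ s c : G, orderOf s = 2 → c * s = s * c → q ∣ orderOf c →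
      q ^ (Nat.card G).factorization q ∣ d := by
    intro q hq s c hs hcs hqc
    by_cases hq2 : q = 2
    · subst hq2; exact h2
    refine hp q hq hq2 ⟨s * c ^ (orderOf c / q), ?_⟩
    have ho : orderOf (c ^ (orderOf c / q)) = q := orderOf_pow_orderOf_div (orderOf_pos c).ne' hqc
    have hcop : Nat.Coprime 2 q := (Nat.coprime_primes Nat.prime_two hq).2 (Ne.symm hq2)
    rw [((show Commute c s from hcs).pow_left _).symm.orderOf_mul_eq_mul_orderOf_of_coprime
      (by rw [hs, ho]; exact hcop), hs, ho]
  obtain ⟨n, ρ, hρ, hχ⟩ := χ.2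
  have hn : Module.finrank ℂ (Fin n → ℂ) = d := by
    have e := congrFun hχ 1
    rw [Representation.char_one] at e
    exact_mod_cast e.trans hd
  have hvan : ∀ (g : G) (q : ℕ), q.Prime → q ^ (Nat.card G).factorization q ∣ d → q ∣ orderOf g →
      (χ : G → ℂ) g = 0 := fun g q hq hqd hqg => by
    rw [← hχ]
    exact CfsgLib.Char.character_eq_zero_of_defect_zero
      (fun θ hθ hE => CfsgLib.Brauer.isGeneralizedCharacter_of_elementary hθ hE) ρ hq
      (Nat.ordProj_dvd _ _) (Nat.pow_succ_factorization_not_dvd Nat.card_pos.ne' hq)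
      (by rw [hn]; exact hqd) hqg
  have heven' : ∀ g : G, 2 ∣ orderOf g → (χ : G → ℂ) g = 0 := fun g hg => hvan g 2 Nat.prime_two h2 hg
  have hodd0 : ∀ g : G, ¬ 2 ∣ orderOf g → ¬ 2 ∣ orderOf (g * g) := fun g hg h =>
    hg (h.trans (by rw [← pow_two]; exact orderOf_pow_dvd 2))
  have hterm : ∀ g : G, 2 ∣ orderOf g → (χ : G → ℂ) (g * g) = if orderOf g = 2 then (d : ℂ) else 0 := by
    intro g hg
    split_ifs with h
    · rw [show g * g = 1 by rw [← pow_two, ← h]; exact pow_orderOf_eq_one g]; exact hd
    have hne : orderOf (g * g) ≠ 1 := fun e => by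
      rw [orderOf_eq_one_iff, ← pow_two] at e
      have := Nat.le_of_dvd two_pos (orderOf_dvd_of_pow_eq_one e)
      have := Nat.le_of_dvd (orderOf_pos g) hg
      omega
    obtain ⟨q, hq, hqg⟩ := Nat.exists_prime_and_dvd hne
    have hdvd : orderOf (g * g) ∣ orderOf g := by rw [← pow_two]; exact orderOf_pow_dvd 2
    refine hvan _ q hq (hfull q hq (g ^ (orderOf g / 2)) g
      (orderOf_pow_orderOf_div (orderOf_pos g).ne' hg) ((Commute.refl g).pow_right _).eq
      (hqg.trans hdvd)) hqg
  set I := Finset.univ.filter (fun g : G => orderOf g = 2) with hI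
  have hsum : ∑ g : G, (χ : G → ℂ) (g * g) = (I.card : ℂ) * d := by
    rw [← Finset.sum_filter_add_sum_filter_not Finset.univ (fun g : G => 2 ∣ orderOf g),
      Finset.sum_congr rfl fun g hg => hterm g (Finset.mem_filter.1 hg).2, ← Finset.sum_filter,
      Finset.filter_filter, Finset.sum_const, nsmul_eq_mul,
      show Finset.univ.filter (fun g : G => 2 ∣ orderOf g ∧ orderOf g = 2) = I from
        Finset.filter_congr fun g _ => ⟨And.right, fun h => ⟨h ▸ dvd_rfl, h⟩⟩]
    have hall : ∑ g : G, (χ : G → ℂ) g = 0 := by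
      have hne : χ ≠ CfsgLib.Char.trivChar G := fun e => by
        subst e
        rw [CfsgLib.Char.trivChar_apply] at hd
        have : d = 1 := by exact_mod_cast hd.symm
        omega
      have h := CfsgLib.Char.classInner_irr_of_ne hne
      simp only [Cfsg.classInner, CfsgLib.Char.trivChar_apply, map_one, mul_one] at h
      exact (mul_eq_zero.1 h).resolve_left (inv_ne_zero (Nat.cast_ne_zero.2 Nat.card_pos.ne'))
    set O := Finset.univ.filter (fun g : G => ¬ 2 ∣ orderOf g) with hO
    have hinj : Set.InjOn (fun g : G => g * g) ↑O := by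
      intro a ha b hb h
      have ha' := (Finset.mem_filter.1 ha).2
      have hb' := (Finset.mem_filter.1 hb).2
      have h' : a ^ 2 = b ^ 2 := by simpa [pow_two] using h
      set k := orderOf a * orderOf b with hk
      have hkodd : ¬ 2 ∣ k := fun hh => (Nat.prime_two.dvd_mul.1 hh).elim ha' hb'
      have e : ∀ c : G, orderOf c ∣ k → c = (c ^ 2) ^ ((k + 1) / 2) := fun c hc => by
        rw [← pow_mul, show 2 * ((k + 1) / 2) = k + 1 by omega, pow_succ,
          orderOf_dvd_iff_pow_eq_one.1 hc, one_mul]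
      rw [e a (dvd_mul_right _ _), e b (dvd_mul_left _ _), h']
    have himg : O.image (fun g : G => g * g) = O := Finset.eq_of_subset_of_card_le
      (fun y hy => by
        obtain ⟨g, hg, rfl⟩ := Finset.mem_image.1 hy
        exact Finset.mem_filter.2 ⟨Finset.mem_univ _, hodd0 g (Finset.mem_filter.1 hg).2⟩)
      (by rw [Finset.card_image_of_injOn hinj])
    have hO0 : ∑ g ∈ O, (χ : G → ℂ) g = 0 := by
      rw [← hall]
      exact Finset.sum_subset (Finset.subset_univ _) fun g _ hg =>
        heven' g (by_contra fun h => hg (Finset.mem_filter.2 ⟨Finset.mem_univ _, h⟩))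
    have hsq : ∑ g ∈ O, (χ : G → ℂ) (g * g) = ∑ g ∈ O, (χ : G → ℂ) g := by
      conv_rhs => rw [← himg, Finset.sum_image hinj]
    rw [hsq, hO0, add_zero]
  have hIpos : 0 < I.card := Finset.card_pos.2 (by
    obtain ⟨g, hg⟩ := exists_prime_orderOf_dvd_card' 2 h2G
    exact ⟨g, Finset.mem_filter.2 ⟨Finset.mem_univ _, hg⟩⟩)
  have hG0 : (Nat.card G : ℂ) ≠ 0 := Nat.cast_ne_zero.2 Nat.card_pos.ne'
  have hν : (Nat.card G : ℂ)⁻¹ * ∑ g : G, (χ : G → ℂ) (g * g) = 1 := by
    have htri := (CfsgLib.Char.fsInd_trichotomy ρ).1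
    rw [show CfsgLib.Char.fsInd ρ.character =
      (Nat.card G : ℂ)⁻¹ * ∑ g : G, (χ : G → ℂ) (g * g) by rw [hχ]; rfl, hsum] at htri
    rw [hsum]
    rcases htri with h | h | h
    · exfalso
      rcases mul_eq_zero.1 h with h | h
      · exact inv_ne_zero hG0 h
      · rcases mul_eq_zero.1 h with h | h
        · exact hIpos.ne' (Nat.cast_eq_zero.1 h)
        · exact hd0.ne' (Nat.cast_eq_zero.1 h)
    · exact h
    · exfalso
      rw [inv_mul_eq_iff_eq_mul₀ hG0] at h
      have h' : ((I.card * d + Nat.card G : ℕ) : ℂ) = ((0 : ℕ) : ℂ) := by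
        push_cast; linear_combination h
      have := Nat.cast_injective h'
      have := Nat.card_pos (α := G)
      omega
  have hId : I.card * d = Nat.card G := by
    have h := hν
    rw [hsum, inv_mul_eq_iff_eq_mul₀ hG0, mul_one] at h
    exact_mod_cast h
  have hCdvd : ∀ s : G, orderOf s = 2 → Nat.card (Subgroup.centralizer ({s} : Set G)) ∣ d := by
    intro s hs
    refine (Nat.dvd_iff_prime_pow_dvd_dvd _ _).2 fun q k hq hk => ?_
    rcases Nat.eq_zero_or_pos k with rfl | hk0
    · rw [pow_zero]; exact one_dvd _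
    haveI := Fact.mk hq
    obtain ⟨c, hc⟩ := exists_prime_orderOf_dvd_card' q ((dvd_pow_self q hk0.ne').trans hk)
    refine (pow_dvd_pow q ((hq.pow_dvd_iff_le_factorization Nat.card_pos.ne').1
      (hk.trans (Subgroup.card_subgroup_dvd_card _)))).trans
        (hfull q hq s c hs (Subgroup.mem_centralizer_singleton_iff.1 c.2) ?_)
    rw [Subgroup.orderOf_coe, hc]
  have hclass : ∀ s : G, orderOf s = 2 → ∀ t, orderOf t = 2 → IsConj s t ∧
      Nat.card (Subgroup.centralizer ({s} : Set G)) = d := by
    intro s hs t ht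
    let C := Subgroup.centralizer ({s} : Set G)
    let f : G ⧸ C → G := fun c => c.out * s * c.out⁻¹
    have hf : Function.Injective f := fun a b h => by
      have h' : a.out * s * a.out⁻¹ = b.out * s * b.out⁻¹ := h
      rw [← Quotient.out_eq a, ← Quotient.out_eq b]
      refine QuotientGroup.eq.2 (Subgroup.mem_centralizer_singleton_iff.2 ?_)
      calc a.out⁻¹ * b.out * s = a.out⁻¹ * (b.out * s * b.out⁻¹) * b.out := by group
        _ = s * (a.out⁻¹ * b.out) := by rw [← h']; group
    have hsub : Finset.univ.image f ⊆ I := fun y hy => by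
      obtain ⟨c, -, rfl⟩ := Finset.mem_image.1 hy
      exact Finset.mem_filter.2 ⟨Finset.mem_univ _,
        (MulEquiv.orderOf_eq (MulAut.conj c.out) s).trans hs⟩
    have hidx : C.index ≤ I.card := by
      have := Finset.card_le_card hsub
      rwa [Finset.card_image_of_injective _ hf, Finset.card_univ, ← Nat.card_eq_fintype_card] at this
    have hmul := C.index_mul_card
    have hCle : Nat.card C ≤ d := Nat.le_of_dvd hd0 (hCdvd s hs)
    have hCd : Nat.card C = d := by
      have : I.card * d ≤ I.card * Nat.card C := by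
        rw [hId, ← hmul]; exact Nat.mul_le_mul_right _ hidx
      exact le_antisymm hCle (Nat.le_of_mul_le_mul_left this hIpos)
    refine ⟨?_, hCd⟩
    have heq : Finset.univ.image f = I := Finset.eq_of_subset_of_card_le hsub (by
      rw [Finset.card_image_of_injective _ hf, Finset.card_univ, ← Nat.card_eq_fintype_card]
      have hie : C.index * d = I.card * d := by rw [hId, ← hmul, hCd]
      exact (Nat.eq_of_mul_eq_mul_right hd0 hie).ge)
    have htI : t ∈ Finset.univ.image f := by
      rw [heq]; exact Finset.mem_filter.2 ⟨Finset.mem_univ _, ht⟩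
    obtain ⟨c, -, hc⟩ := Finset.mem_image.1 htI
    exact isConj_iff.2 ⟨c.out, hc⟩
  refine ⟨fun s t hs ht => (hclass s hs t ht).1, fun s hs => ?_, hν⟩
  have hC := (hclass s hs s hs).2
  refine ⟨hC, Nat.coprime_of_dvd fun q hq hqC hqi => ?_⟩
  haveI := Fact.mk hq
  obtain ⟨c, hc⟩ := exists_prime_orderOf_dvd_card' q hqC
  have hqd := hfull q hq s c hs (Subgroup.mem_centralizer_singleton_iff.1 c.2)
    (by rw [Subgroup.orderOf_coe, hc])
  refine Nat.pow_succ_factorization_not_dvd (Nat.card_pos (α := G)).ne' hq ?_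
  rw [pow_succ']
  exact (Nat.mul_dvd_mul hqi (hqd.trans (dvd_of_eq hC.symm))).trans
    (dvd_of_eq (Subgroup.centralizer ({s} : Set G)).index_mul_card)

end Cfsg.Agent.S4478
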