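import Cfsg.Statements.S4483
import Cfsg.Agent.Lib.CharAction.DefectCount
import Cfsg.Agent.Lib.CharAction.BrauerFeit
-- import your own Cfsg.Agent.* helpers here

set_option autoImplicit false
open Cfsg

namespace Cfsg.Agent.S4483

/-- Let G be a finite group of order 2^n·g₀ with g₀ odd, and M a maximal ideal of the algebraic integers containing 2. Every real-valued irreducible character of G of odd degree lies in the principal 2-block; consequently G has at most 2^(2n) real-valued irreducible characters of odd degree. -/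
theorem result {G : Type*} [Group G] [Finite G] (M : Ideal Cfsg.AlgInt) (hM : Cfsg.IsPModular 2 M) : (∀ χ : Cfsg.IrrCharacter G, (∀ g : G, ((χ : G → ℂ) g).im = 0) → Odd (Cfsg.charDegree (χ : G → ℂ)) → χ ∈ Cfsg.principalBlock M G) ∧ Nat.card {χ : Cfsg.IrrCharacter G // (∀ g : G, ((χ : G → ℂ) g).im = 0) ∧ Odd (Cfsg.charDegree (χ : G → ℂ))} ≤ 2 ^ (2 * (Nat.card G).factorization 2) := by
  classical
  have : Fintype G := Fintype.ofFinite G
  have : M.IsPrime := hM.2.1.isPrime
  have : Fact (Nat.Prime 2) := ⟨Nat.prime_two⟩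
  have key : ∀ χ : Cfsg.IrrCharacter G, (∀ g : G, ((χ : G → ℂ) g).im = 0) →
      Odd (Cfsg.charDegree (χ : G → ℂ)) → χ ∈ Cfsg.principalBlock M G := by
    intro χ hreal hodd
    have hfix : CfsgLib.Char.conjIrr χ = χ := (CfsgLib.Char.conjIrr_eq_iff χ).2 hreal
    have hb := CfsgLib.Blocks.isPBlock_blockOf (M := M) χ
    rw [← CfsgLib.CharAction.eq_principalBlock_of_conj hM hb
      (CfsgLib.Blocks.mem_blockOf_self χ) (by rw [Nat.two_dvd_ne_zero]; exact Nat.odd_iff.1 hodd) ?_]
    · exact CfsgLib.Blocks.mem_blockOf_self χ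
    · intro ψ hψ
      have hidx : ∀ g : G, Subgroup.centralizer ({g⁻¹} : Set G) = Subgroup.centralizer ({g} : Set G) :=
        fun g => by
          ext x
          rw [CfsgLib.Blocks.mem_centralizer_singleton, CfsgLib.Blocks.mem_centralizer_singleton,
            Commute.inv_right_iff]
      have hcc : ∀ (θ : Cfsg.IrrCharacter G) (g : G),
          CfsgLib.Blocks.centralCharBar M (CfsgLib.Char.conjIrr θ) g =
            CfsgLib.Blocks.centralCharBar M θ g⁻¹ := by
        intro θ g
        unfold CfsgLib.Blocks.centralCharBar CfsgLib.Blocks.centralCharO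
        congr 2
        rw [Cfsg.centralChar, Cfsg.centralChar, hidx]
        simp only [CfsgLib.Char.conjIrr_apply, ← CfsgLib.Char.IsIrr.map_inv θ.2, inv_one]
      refine CfsgLib.Blocks.sameBlock_iff.2 fun g => ?_
      conv_lhs => rw [← hfix, hcc]
      rw [hcc]
      exact CfsgLib.Blocks.sameBlock_iff.1 hψ g⁻¹
  refine ⟨key, ?_⟩
  have hle : Nat.card {χ : Cfsg.IrrCharacter G //
      (∀ g : G, ((χ : G → ℂ) g).im = 0) ∧ Odd (Cfsg.charDegree (χ : G → ℂ))} ≤
      Nat.card (Cfsg.principalBlock M G) :=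
    Nat.card_le_card_of_injective (fun χ => ⟨χ.1, key χ.1 χ.2.1 χ.2.2⟩)
      fun a b h => Subtype.ext (congrArg (fun c : Cfsg.principalBlock M G => c.1) h)
  have h1 := CfsgLib.CharAction.four_mul_card_le (p := 2) hM
    (B := Cfsg.principalBlock M G) CfsgLib.Blocks.isPBlock_principalBlock
  have hd : Cfsg.blockDefect 2 (Cfsg.principalBlock M G) ≤ (Nat.card G).factorization 2 := Nat.sub_le _ _
  have h2 : (2 : ℕ) ^ (2 * Cfsg.blockDefect 2 (Cfsg.principalBlock M G)) ≤
      2 ^ (2 * (Nat.card G).factorization 2) := Nat.pow_le_pow_right (by norm_num) (by omega)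
  have h3 : 1 ≤ (2 : ℕ) ^ (2 * (Nat.card G).factorization 2) := Nat.one_le_pow _ _ (by norm_num)
  omega

end Cfsg.Agent.S4483
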