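import Cfsg.Statements.S4484
import Cfsg.Agent.Lib.Blocks.SimplePrincipal
import Cfsg.Agent.Lib.Blocks.Orthogonality
import Cfsg.Agent.Lib.Char.BlichfeldtArc
import Cfsg.Agent.Lib.Char.CyclotomicCoeff
import Cfsg.Agent.Lib.Char.Burnside

set_option autoImplicit false
open Cfsg

namespace Cfsg.Agent.S4484

open CfsgLib.Jordan

theorem norm_cexp_sub_one_lt (θ : ℝ) (h : |θ| < Real.pi / 3) :
    ‖Complex.exp (θ * Complex.I) - 1‖ < 1 := by
  have hc : Real.cos (Real.pi / 3) < Real.cos |θ| :=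
    Real.strictAntiOn_cos ⟨abs_nonneg θ, by linarith [Real.pi_pos]⟩
      ⟨by linarith [Real.pi_pos], by linarith [Real.pi_pos]⟩ h
  rw [Real.cos_pi_div_three, Real.cos_abs] at hc
  rw [← one_pow 2] at *
  refine lt_of_pow_lt_pow_left₀ 2 (by positivity) ?_
  rw [Complex.sq_norm, Complex.normSq_apply, Complex.exp_mul_I]
  simp [Complex.cos_ofReal_re, Complex.sin_ofReal_re, Complex.cos_ofReal_im, Complex.sin_ofReal_im]
  nlinarith [Real.sin_sq_add_cos_sq θ]

/-- Simultaneous approximation: a power moving all chosen exponents within a sixth of the circle of one. -/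
theorem exists_power {p : ℕ} [hp : Fact p.Prime] {ζ : ℂ}
    (hζ : ζ = Complex.exp (2 * Real.pi * Complex.I / p)) (S : Finset ℕ) {e : ℕ} (he : e ∈ S)
    (hS : ∀ s ∈ S, s < p) (hcard : 6 ^ (S.card - 1) < p) :
    ∃ J, 0 < J ∧ J < p ∧ ∀ s ∈ S, ‖(ζ ^ J) ^ s - (ζ ^ J) ^ e‖ < 1 := by
  classical
  have hp0 : p ≠ 0 := hp.out.ne_zero
  have hpr := Complex.isPrimitiveRoot_exp p hp0
  rw [← hζ] at hpr
  have hbox : ∀ A : ℕ, A % p * 6 / p < 6 := fun A => by
    rw [Nat.div_lt_iff_lt_mul hp.out.pos]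
    have := Nat.mod_lt A hp.out.pos
    omega
  let f : Fin p → (↥(S.erase e) → Fin 6) := fun j s =>
    ⟨(j : ℕ) * ((s : ℕ) + p - e) % p * 6 / p, hbox _⟩
  obtain ⟨j₁, j₂, hne, heq⟩ := Fintype.exists_ne_map_eq_of_card_lt f (by
    rw [Fintype.card_fun, Fintype.card_fin, Fintype.card_fin, Fintype.card_coe,
      Finset.card_erase_of_mem he]
    exact hcard)
  wlog hlt : (j₁ : ℕ) < j₂ generalizing j₁ j₂
  · exact this j₂ j₁ hne.symm heq.symm (lt_of_le_of_ne (not_lt.1 hlt) (fun h => hne (Fin.ext h.symm)))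
  refine ⟨j₂ - j₁, Nat.sub_pos_of_lt hlt, lt_of_le_of_lt (Nat.sub_le _ _) j₂.2, fun s hs => ?_⟩
  set J := (j₂ : ℕ) - j₁
  by_cases hse : s = e
  · simp [hse]
  have hbx := congrFun heq ⟨s, Finset.mem_erase.2 ⟨hse, hs⟩⟩
  simp only [f, Fin.mk.injEq] at hbx
  set D := s + p - e with hD
  set A₁ := (j₁ : ℕ) * D % p with hA₁
  set A₂ := (j₂ : ℕ) * D % p with hA₂
  have hep : e < p := hS e he
  have hpow : (ζ ^ J) ^ D * ζ ^ A₁ = ζ ^ A₂ := by
    rw [hA₁, hA₂, ← pow_eq_pow_mod _ hpr.pow_eq_one, ← pow_eq_pow_mod _ hpr.pow_eq_one, ← pow_mul, ← pow_add,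
      ← add_mul, Nat.sub_add_cancel hlt.le]
  have hfac : (ζ ^ J) ^ s - (ζ ^ J) ^ e = (ζ ^ J) ^ e * ((ζ ^ J) ^ D - 1) := by
    rw [mul_sub, mul_one, ← pow_add, show e + D = p + s by omega, pow_add, ← pow_mul ζ J p,
      mul_comm J p, pow_mul, hpr.pow_eq_one, one_pow, one_mul]
  have hz1 : ‖ζ‖ = 1 := hpr.norm'_eq_one hp0
  rw [hfac, norm_mul, norm_pow, norm_pow, hz1, one_pow, one_pow, one_mul]
  have hval : (ζ ^ J) ^ D = Complex.exp (((2 * Real.pi * ((A₂ : ℝ) - A₁) / p : ℝ)) * Complex.I) := by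
    have hne0 : ζ ^ A₁ ≠ 0 := pow_ne_zero _ (hpr.ne_zero hp0)
    refine mul_right_cancel₀ hne0 (hpow.trans ?_)
    rw [hζ, ← Complex.exp_nat_mul, ← Complex.exp_nat_mul, ← Complex.exp_add]
    push_cast
    congr 1
    ring
  rw [hval]
  refine norm_cexp_sub_one_lt _ ?_
  have hd : |((A₂ : ℝ) - A₁)| * 6 < p := by
    have h1 := Nat.div_add_mod (A₁ * 6) p
    have h2 := Nat.div_add_mod (A₂ * 6) p
    have h1' := Nat.mod_lt (A₁ * 6) hp.out.pos
    have h2' := Nat.mod_lt (A₂ * 6) hp.out.pos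
    rw [← hbx] at h2
    have a : A₁ * 6 < A₂ * 6 + p := by omega
    have b : A₂ * 6 < A₁ * 6 + p := by omega
    have a' : (A₁ : ℝ) * 6 < A₂ * 6 + p := by exact_mod_cast a
    have b' : (A₂ : ℝ) * 6 < A₁ * 6 + p := by exact_mod_cast b
    rw [← lt_div_iff₀ (by norm_num : (0:ℝ) < 6), abs_lt]
    constructor <;> linarith
  have hpR : (0 : ℝ) < p := by exact_mod_cast hp.out.pos
  rw [abs_div, abs_mul, abs_of_pos hpR, abs_of_pos (by positivity : (0:ℝ) < 2 * Real.pi), div_lt_iff₀ hpR]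
  nlinarith [Real.pi_pos]

theorem result {G : Type*} [Group G] [Finite G] [IsSimpleGroup G] (p q a b g₀ : ℕ) (hp : p.Prime) (hq : q.Prime) (hpq : p ≠ q) (ha : 0 < a) (hg : Nat.card G = p ^ a * q ^ b * g₀) (hcop : ¬ p ∣ g₀) (hcoq : ¬ q ∣ g₀) (hne : Nat.card G ≠ p) : p < 6 ^ (g₀ - 1) := by
  classical
  haveI := Fact.mk hp
  haveI := Fintype.ofFinite G
  by_contra hbig
  push Not at hbig
  have hpG : p ∣ Nat.card G := hg ▸ dvd_mul_of_dvd_left (dvd_mul_of_dvd_left (dvd_pow_self p ha.ne') _) _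
  -- the group is not abelian
  have hna : ∃ x y : G, x * y ≠ y * x := by
    by_contra! hcom
    letI : CommGroup G := { (inferInstance : Group G) with mul_comm := hcom }
    exact hne ((Nat.prime_dvd_prime_iff_eq hp IsSimpleGroup.prime_card).1 hpG).symm
  have hg2 : 2 ≤ g₀ := by
    rcases Nat.lt_or_ge g₀ 2 with h | h
    · exfalso
      have h1 : g₀ = 1 := by
        have : g₀ ≠ 0 := fun e => hcop (e ▸ dvd_zero p)
        omega
      have hsol := CfsgLib.Burnside.isSolvable_of_card_eq (G := G) (a := a) (b := b) hp hq (by rw [hg, h1, mul_one])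
      obtain ⟨x, y, hxy⟩ := hna
      exact hxy (IsSimpleGroup.comm_iff_isSolvable.2 hsol x y)
    · exact h
  have hgp : g₀ < p := by
    refine lt_of_lt_of_le ?_ hbig
    calc g₀ = (g₀ - 1) + 1 := by omega
      _ < 6 ^ (g₀ - 1) := by
        have h := Nat.lt_pow_self (n := g₀ - 1) (by norm_num : 1 < 2)
        have h' : 2 ^ (g₀ - 1) * 2 ≤ 6 ^ (g₀ - 1) := by
          obtain ⟨m, hm⟩ : ∃ m, g₀ - 1 = m + 1 := ⟨g₀ - 2, by omega⟩
          rw [hm, pow_succ, pow_succ]
          have := Nat.pow_le_pow_left (by norm_num : 2 ≤ 6) m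
          nlinarith [Nat.one_le_two_pow (n := m)]
        omega
  -- a central element of order `p` of a Sylow subgroup
  obtain ⟨z, hzord, hidx⟩ : ∃ z : G, orderOf z = p ∧ ¬ p ∣ (Subgroup.centralizer ({z} : Set G)).index := by
    obtain ⟨P⟩ := (inferInstance : Nonempty (Sylow p G))
    have hP : p ∣ Nat.card (Subgroup.center (P : Subgroup G)) := by
      have : Nontrivial (P : Subgroup G) := Finite.one_lt_card_iff_nontrivial.1
        (lt_of_lt_of_le hp.one_lt (Nat.le_of_dvd Nat.card_pos (P.dvd_card_of_dvd_card hpG)))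
      have := P.2.center_nontrivial
      obtain ⟨n, hn⟩ := (P.2.to_subgroup (Subgroup.center (P : Subgroup G))).exists_card_eq
      rw [hn]
      refine dvd_pow_self p fun h0 => ?_
      rw [h0, pow_zero] at hn
      exact (Finite.one_lt_card_iff_nontrivial.2 this).ne' hn
    obtain ⟨z, hz⟩ := exists_prime_orderOf_dvd_card' p hP
    refine ⟨((z : (P : Subgroup G)) : G), by rw [orderOf_submonoid, orderOf_submonoid, hz], fun h =>
      P.not_dvd_index (h.trans (Subgroup.index_dvd_of_le fun u hu => ?_))⟩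
    exact Subgroup.mem_centralizer_singleton_iff.2
      (congrArg Subtype.val (Subgroup.mem_center_iff.1 z.2 ⟨u, hu⟩))
  have hz1 : z ≠ 1 := fun e => hp.ne_one (by rw [← hzord, e, orderOf_one])
  obtain ⟨M, hM⟩ := CfsgLib.ZStar.exists_isPModular hp
  haveI := hM.2.1.isPrime
  -- a principal block character of degree prime to `q` not vanishing at `z`
  obtain ⟨χ, hχ, hχ1, hnq, hχz⟩ : ∃ χ : IrrCharacter G, χ ∈ principalBlock M G ∧
      χ ≠ CfsgLib.Char.trivChar G ∧ ¬ q ∣ charDegree (χ : G → ℂ) ∧ (χ : G → ℂ) z ≠ 0 := by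
    by_contra! hno
    have hzero := CfsgLib.Blocks.sum_block_regular_singular hM (CfsgLib.Blocks.isPBlock_principalBlock (M := M) (G := G))
      (x := 1) (y := z) (by simp [hp.ne_one]) (by rw [hzord])
    rw [finsum_mem_eq_finite_toFinset_sum _ (Set.toFinite _), ← Finset.add_sum_erase _ _
      ((Set.Finite.mem_toFinset _).2 (CfsgLib.Blocks.trivChar_mem_principalBlock (M := M) (G := G)))] at hzero
    simp only [CfsgLib.Char.trivChar_apply, mul_one] at hzero
    have key : ∀ χ ∈ (Set.toFinite (principalBlock M G)).toFinset.erase (CfsgLib.Char.trivChar G),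
        IsIntegral ℤ ((χ : G → ℂ) 1 * (χ : G → ℂ) z / (q : ℂ)) := by
      intro χ hχ
      obtain ⟨hne1, hmem⟩ := Finset.mem_erase.1 hχ
      rw [Set.Finite.mem_toFinset] at hmem
      by_cases hdq : q ∣ charDegree (χ : G → ℂ)
      · obtain ⟨m, hm⟩ := hdq
        rw [CfsgLib.Blocks.apply_one_eq_charDegree, hm, Nat.cast_mul, mul_assoc,
          mul_div_cancel_left₀ _ (Nat.cast_ne_zero.2 hq.ne_zero)]
        exact (isIntegral_algebraMap (R := ℤ) (x := (m : ℤ))).mul
          (CfsgLib.Char.IsChar.isIntegral (CfsgLib.Char.IsIrr.isCharacter χ.2) _)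
      · rw [hno χ hmem hne1 hdq, mul_zero, zero_div]
        exact isIntegral_zero
    have hint := (IsIntegral.sum _ key).neg
    rw [← Finset.sum_div, ← neg_div, neg_eq_of_add_eq_zero_left (by linear_combination hzero :
      (1 : ℂ) + ∑ χ ∈ (Set.toFinite (principalBlock M G)).toFinset.erase (CfsgLib.Char.trivChar G),
        (χ : G → ℂ) 1 * (χ : G → ℂ) z = 0)] at hint
    exact hq.not_dvd_one (CfsgLib.CharIntegral.dvd_of_isIntegral_div hq.ne_zero
      (show IsIntegral ℤ (((1 : ℕ) : ℂ) / (q : ℂ)) by rwa [Nat.cast_one]))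
  -- the class size
  set h := (Subgroup.centralizer ({z} : Set G)).index with hh
  have hh0 : h ≠ 0 := Subgroup.index_ne_zero_of_finite
  set i := h.factorization q with hi
  set g' := h / q ^ i with hg'
  have hhqg : q ^ i * g' = h := Nat.ordProj_mul_ordCompl_eq_self h q
  have hg'dvd : g' ∣ g₀ := by
    have h1 : g' ∣ p ^ a * q ^ b * g₀ := hg ▸ (Nat.ordCompl_dvd h q).trans (Subgroup.index_dvd_card _)
    have hpn : p.Coprime g' := hp.coprime_iff_not_dvd.2 fun h2 => hidx (h2.trans (Nat.ordCompl_dvd h q))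
    have hqn : q.Coprime g' := Nat.coprime_ordCompl hq hh0
    exact ((hpn.symm.pow_right a).mul_right (hqn.symm.pow_right b)).dvd_of_dvd_mul_left h1
  have hg'0 : g' ≠ 0 := fun e => by rw [e, zero_dvd_iff] at hg'dvd; omega
  have hg'p : g' < p := lt_of_le_of_lt (Nat.le_of_dvd (by omega) hg'dvd) hgp
  obtain ⟨n, hndeg⟩ : ∃ n, charDegree (χ : G → ℂ) = n := ⟨_, rfl⟩
  obtain ⟨χ, m, ρ, hρ, rfl⟩ := χ
  haveI := hρ
  have hm : m = n := by
    rw [← hndeg]
    exact (CfsgLib.CharDegree.charDegree_eq_of_apply_one (G := G) (χ := ρ.character)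
      (by simp [Representation.char_one])).symm
  subst hm
  have hfr : Module.finrank ℂ (Fin m → ℂ) = m := by simp
  have hm0 : m ≠ 0 := by
    have := CfsgLib.CharIntegral.finrank_pos_of_irreducible ρ
    omega
  have hmC : (m : ℂ) ≠ 0 := Nat.cast_ne_zero.2 hm0
  change ρ.character z ≠ 0 at hχz
  have hzint : IsIntegral ℤ (ρ.character z) := CfsgLib.CharIntegral.isIntegral_character ρ z
  -- `g' * χ z / m` is integral
  set α : ℂ := (g' : ℂ) * ρ.character z / m with hα
  have hαint : IsIntegral ℤ α := by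
    have hcop' : Int.gcd ((q ^ i : ℕ) : ℤ) m = 1 := by
      rw [Int.gcd_natCast_natCast]
      exact (hq.coprime_iff_not_dvd.2 (hndeg ▸ hnq)).pow_left i
    have hω : IsIntegral ℤ ((h : ℂ) * ρ.character z / m) := by
      have := CfsgLib.CharIntegral.isIntegral_central ρ z
      rwa [hfr] at this
    obtain ⟨u, v, huv⟩ := (Int.isCoprime_iff_gcd_eq_one.2 hcop' : IsCoprime ((q ^ i : ℕ) : ℤ) (m : ℤ))
    have hsplit : α = (u : ℂ) * ((h : ℂ) * ρ.character z / m) + (v : ℂ) * ((g' : ℂ) * ρ.character z) := by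
      have huv' : (u : ℂ) * ((q : ℂ) ^ i) + (v : ℂ) * m = 1 := by exact_mod_cast huv
      rw [hα, ← hhqg]
      push_cast
      rw [show (u : ℂ) * ((q : ℂ) ^ i * g' * ρ.character z / m) + (v : ℂ) * ((g' : ℂ) * ρ.character z)
          = (g' : ℂ) * ρ.character z / m * ((u : ℂ) * (q : ℂ) ^ i + (v : ℂ) * m) by field_simp, huv', mul_one]
    rw [hsplit]
    exact ((isIntegral_algebraMap (R := ℤ) (x := u)).mul hω).add ((isIntegral_algebraMap (R := ℤ) (x := v)).mul
      ((isIntegral_algebraMap (R := ℤ) (x := (g' : ℤ))).mul hzint))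
  -- the eigenspace projections of `z`
  set ζ : ℂ := Complex.exp (2 * Real.pi * Complex.I / p) with hζdef
  have hζ : IsPrimitiveRoot ζ p := Complex.isPrimitiveRoot_exp p hp.ne_zero
  have hζ0 : ζ ≠ 0 := hζ.ne_zero hp.ne_zero
  let Q : ℕ → Module.End ℂ (Fin m → ℂ) := fun k =>
    (p : ℂ)⁻¹ • ∑ j ∈ Finset.range p, (ζ⁻¹) ^ (k * j) • ρ (z ^ j)
  have hQz : ∀ k v, ρ z (Q k v) = ζ ^ k • Q k v := by
    intro k v
    simp only [Q, LinearMap.smul_apply, LinearMap.sum_apply, map_smul, map_sum]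
    rw [smul_comm (ζ ^ k), Finset.smul_sum (r := ζ ^ k)]
    congr 1
    let T : ℕ → (Fin m → ℂ) := fun j => (ζ⁻¹) ^ (k * j) • ρ (z ^ j) v
    have hT : ∀ j, ζ⁻¹ ^ (k * j) • ρ z (ρ (z ^ j) v) = ζ ^ k • T (j + 1) := fun j => by
      simp only [T]
      rw [smul_smul, pow_succ' z j, map_mul, Module.End.mul_apply, mul_add, mul_one, pow_add, inv_pow ζ k,
        mul_comm (ζ⁻¹ ^ (k * j)), ← mul_assoc, mul_inv_cancel₀ (pow_ne_zero _ hζ0), one_mul]
    rw [Finset.sum_congr rfl fun j _ => hT j, ← Finset.smul_sum, ← Finset.smul_sum]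
    congr 1
    have h1 := Finset.sum_range_succ T p
    have h2 := Finset.sum_range_succ' T p
    have hTp : T p = T 0 := by
      simp only [T, mul_zero, pow_zero]
      rw [mul_comm k p, pow_mul, inv_pow, hζ.pow_eq_one, inv_one, one_pow, show z ^ p = 1 from hzord ▸ pow_orderOf_eq_one z]
    rw [h1, hTp] at h2
    exact (add_right_cancel h2).symm
  have hgeo : ∀ j, j < p → j ≠ 0 → ∑ k ∈ Finset.range p, (ζ⁻¹) ^ (k * j) = 0 := by
    intro j hj hj0
    have hne1 : (ζ⁻¹) ^ j ≠ 1 := by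
      rw [inv_pow, inv_ne_one]
      exact hζ.pow_ne_one_of_pos_of_lt hj0 hj
    simp only [mul_comm _ j, pow_mul]
    rw [geom_sum_eq hne1, ← pow_mul, mul_comm j p, pow_mul, inv_pow, hζ.pow_eq_one, inv_one, one_pow,
      sub_self, zero_div]
  have hQsum : ∀ v, ∑ k ∈ Finset.range p, Q k v = v := by
    intro v
    simp only [Q, LinearMap.smul_apply, LinearMap.sum_apply, ← Finset.smul_sum]
    rw [Finset.sum_comm]
    simp only [← Finset.sum_smul]
    rw [Finset.sum_eq_single 0 (fun j hj hj0 => by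
      rw [hgeo j (Finset.mem_range.1 hj) hj0, zero_smul]) (fun h => absurd (Finset.mem_range.2 hp.pos) h)]
    simp [smul_smul, hp.ne_zero]
  have hzpow : ∀ j k v, ρ (z ^ j) (Q k v) = (ζ ^ k) ^ j • Q k v := by
    intro j k v
    induction j with
    | zero => simp
    | succ j ih => rw [pow_succ' z, map_mul, Module.End.mul_apply, ih, map_smul, hQz, smul_smul, pow_succ]
  have hQidem : ∀ k v, Q k (Q k v) = Q k v := by
    intro k v
    have hdef : ∀ w, Q k w = (p : ℂ)⁻¹ • ∑ j ∈ Finset.range p, (ζ⁻¹) ^ (k * j) • ρ (z ^ j) w := fun w => by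
      simp [Q]
    conv_lhs => rw [hdef]
    have hone : ∀ j, (ζ⁻¹) ^ (k * j) • ρ (z ^ j) (Q k v) = Q k v := fun j => by
      rw [hzpow, smul_smul, ← pow_mul, ← mul_pow, inv_mul_cancel₀ hζ0, one_pow, one_smul]
    rw [Finset.sum_congr rfl fun j _ => hone j, Finset.sum_const, Finset.card_range,
      ← Nat.cast_smul_eq_nsmul ℂ, smul_smul, inv_mul_cancel₀ (Nat.cast_ne_zero.2 hp.ne_zero), one_smul]
  let A : ℕ → ℕ := fun k => Module.finrank ℂ (LinearMap.range (Q k))
  have htr : ∀ k, LinearMap.trace ℂ _ (Q k) = (A k : ℂ) := fun k =>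
    (show LinearMap.IsProj (LinearMap.range (Q k)) (Q k) from
      ⟨fun v => LinearMap.mem_range_self _ v, by rintro _ ⟨v, rfl⟩; exact hQidem k v⟩).trace
  have hAsum : ∑ k ∈ Finset.range p, (A k : ℂ) = m := by
    simp only [← htr, ← map_sum]
    rw [show ∑ k ∈ Finset.range p, Q k = 1 from LinearMap.ext fun v => by
      rw [LinearMap.sum_apply]; exact hQsum v]
    simp
  have hAz : ∑ k ∈ Finset.range p, (A k : ℂ) * ζ ^ k = ρ.character z := by
    have heq : ρ z = ∑ k ∈ Finset.range p, ζ ^ k • Q k := LinearMap.ext fun v => by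
      rw [LinearMap.sum_apply]
      conv_lhs => rw [← hQsum v, map_sum]
      exact Finset.sum_congr rfl fun k _ => hQz k v
    show _ = LinearMap.trace ℂ _ (ρ z)
    rw [heq, map_sum]
    exact Finset.sum_congr rfl fun k _ => by rw [map_smul, htr, smul_eq_mul, mul_comm]
  -- integral shape of the multiplicities
  let c : ℕ → ℚ := fun k => (g' : ℚ) * A k / m
  have hαc : α = ∑ k ∈ Finset.range p, (c k : ℂ) * ζ ^ k := by
    rw [hα, ← hAz, Finset.mul_sum, Finset.sum_div]
    refine Finset.sum_congr rfl fun k _ => ?_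
    simp only [c]
    push_cast
    ring
  obtain ⟨t, B, hB⟩ := CfsgLib.CyclotomicCoeff.exists_add_int hζ c (hαc ▸ hαint)
  obtain ⟨k₀, hk₀, hk₀min⟩ := (Finset.range p).exists_min_image B ⟨0, Finset.mem_range.2 hp.pos⟩
  let r : ℕ → ℕ := fun k => (B k - B k₀).toNat
  have hr : ∀ k < p, c k = c k₀ + r k := by
    intro k hk
    have h1 : ((r k : ℕ) : ℤ) = B k - B k₀ :=
      Int.toNat_of_nonneg (sub_nonneg.2 (hk₀min k (Finset.mem_range.2 hk)))
    have h2 : ((r k : ℕ) : ℚ) = (B k : ℚ) - B k₀ := by exact_mod_cast h1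
    rw [hB k hk, hB k₀ (Finset.mem_range.1 hk₀), h2]
    ring
  have hcnn : 0 ≤ c k₀ := by positivity
  set K := ∑ k ∈ Finset.range p, r k with hK
  have hcsum : (p : ℚ) * c k₀ + K = g' := by
    have h1 : ∑ k ∈ Finset.range p, c k = g' := by
      simp only [c, ← Finset.sum_div, ← Finset.mul_sum]
      have h2 : ∑ k ∈ Finset.range p, ((A k : ℕ) : ℚ) = m := by
        have : (∑ k ∈ Finset.range p, A k : ℕ) = m := by exact_mod_cast hAsum
        exact_mod_cast this
      rw [h2, mul_div_assoc, div_self (Nat.cast_ne_zero.2 hm0), mul_one]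
    rw [← h1, Finset.sum_congr rfl fun k hk => hr k (Finset.mem_range.1 hk), Finset.sum_add_distrib,
      Finset.sum_const, Finset.card_range, nsmul_eq_mul, hK, Nat.cast_sum]
  have hαr : α = ∑ k ∈ Finset.range p, (r k : ℂ) * ζ ^ k := by
    rw [hαc, Finset.sum_congr rfl fun k hk => by rw [hr k (Finset.mem_range.1 hk)]]
    push_cast
    simp only [add_mul, Finset.sum_add_distrib, ← Finset.mul_sum]
    rw [hζ.geom_sum_eq_zero hp.one_lt, mul_zero, zero_add]
  -- reduction modulo `M`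
  have hKg : K = g' := by
    let R := CfsgLib.Blocks.Res M
    haveI : CharP R p := CfsgLib.Blocks.charP_residueField hM
    have hbar : CfsgLib.Blocks.centralCharBar M (CfsgLib.Char.trivChar G) z =
        CfsgLib.Blocks.centralCharBar M (⟨_, m, ρ, hρ, rfl⟩ : IrrCharacter G) z :=
      CfsgLib.Blocks.sameBlock_iff.1 (show SameBlock M ((CfsgLib.Char.trivChar G : IrrCharacter G) : G → ℂ)
        ((⟨_, m, ρ, hρ, rfl⟩ : IrrCharacter G) : G → ℂ) from hχ) z
    rw [CfsgLib.Blocks.centralCharBar_eq_iff] at hbar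
    have e1 : centralChar ((CfsgLib.Char.trivChar G : IrrCharacter G) : G → ℂ) z = (h : ℂ) := by
      simp [centralChar, CfsgLib.Char.trivChar_apply, hh]
    have e2 : centralChar ρ.character z = ((q : ℂ) ^ i) * α := by
      rw [centralChar, Representation.char_one, hfr, hα, ← hh, ← hhqg]
      push_cast
      ring
    change MemLocalIdeal M (centralChar _ z - centralChar ρ.character z) at hbar
    rw [e1, e2, ← hhqg, Nat.cast_mul, Nat.cast_pow, ← mul_sub] at hbar
    let ζ' : AlgInt := ⟨ζ, hζ.isIntegral hp.pos⟩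
    have hζ' : (Ideal.Quotient.mk M ζ') = 1 := by
      haveI := hM.2.1
      haveI : CharP (AlgInt ⧸ M) p := (CharP.charP_iff_prime_eq_zero hp).2 (by
        rw [← map_natCast (Ideal.Quotient.mk M)]
        exact Ideal.Quotient.eq_zero_iff_mem.2 hM.2.2)
      refine sub_eq_zero.1 (pow_eq_zero_iff hp.ne_zero |>.1 ?_)
      rw [sub_pow_char, one_pow, ← map_pow, show ζ' ^ p = 1 from Subtype.ext (by simpa [ζ'] using hζ.pow_eq_one),
        map_one, sub_self]
    let α' : AlgInt := ∑ k ∈ Finset.range p, (r k : AlgInt) * ζ' ^ k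
    have hα' : (α' : ℂ) = α := by
      rw [hαr]
      simp [α', ζ']
    let y : AlgInt := (q : AlgInt) ^ i * ((g' : AlgInt) - α')
    have hy : y ∈ M := by
      obtain ⟨u, v, hu, hv, huv⟩ := hbar
      have hv0 : (v : ℂ) ≠ 0 := fun e => hv ((show v = 0 from Subtype.ext (by simpa using e)) ▸ M.zero_mem)
      have : v * y = u := Subtype.ext (by
        rw [div_eq_iff hv0] at huv
        simp [y, hα', huv]
        ring)
      exact (Ideal.IsPrime.mem_or_mem inferInstance (this ▸ hu)).resolve_left hv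
    haveI := hM.2.1
    haveI : CharP (AlgInt ⧸ M) p := (CharP.charP_iff_prime_eq_zero hp).2 (by
      rw [← map_natCast (Ideal.Quotient.mk M)]
      exact Ideal.Quotient.eq_zero_iff_mem.2 hM.2.2)
    have h0 := Ideal.Quotient.eq_zero_iff_mem.2 hy
    simp only [y, α', map_mul, map_pow, map_sub, map_sum, map_natCast, hζ', one_pow, mul_one] at h0
    rw [mul_eq_zero, ← Nat.cast_pow, CharP.cast_eq_zero_iff (AlgInt ⧸ M) p, sub_eq_zero,
      ← Nat.cast_sum, ← hK] at h0
    have hKle : K ≤ g' := by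
      have : ((K : ℕ) : ℚ) ≤ (g' : ℚ) := by nlinarith [mul_nonneg (Nat.cast_nonneg (α := ℚ) p) hcnn]
      exact_mod_cast this
    rcases h0 with h0 | h0
    · exact absurd ((Nat.prime_dvd_prime_iff_eq hp hq).1 (hp.dvd_of_dvd_pow h0)) hpq
    · rw [CharP.natCast_eq_natCast (AlgInt ⧸ M) p, Nat.ModEq, Nat.mod_eq_of_lt hg'p,
        Nat.mod_eq_of_lt (lt_of_le_of_lt hKle hg'p)] at h0
      exact h0.symm
  have hc0 : c k₀ = 0 := by
    rw [hKg] at hcsum
    have : (p : ℚ) * c k₀ = 0 := by linarith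
    exact (mul_eq_zero.1 this).resolve_left (Nat.cast_ne_zero.2 hp.ne_zero)
  set S := (Finset.range p).filter fun k => r k ≠ 0 with hS
  have hA0 : ∀ k < p, k ∉ S → ∀ v, Q k v = 0 := by
    intro k hk hkS v
    have hrk : r k = 0 := by
      by_contra h0
      exact hkS (Finset.mem_filter.2 ⟨Finset.mem_range.2 hk, h0⟩)
    have hc := hr k hk
    rw [hc0, hrk, Nat.cast_zero, add_zero, div_eq_zero_iff, mul_eq_zero] at hc
    have hAk : A k = 0 := by
      simpa [hm0, hg'0] using hc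
    have h1 := Submodule.finrank_eq_zero.1 hAk
    exact (Submodule.mem_bot ℂ).1 (h1 ▸ LinearMap.mem_range_self (Q k) v)
  have hScard : S.card ≤ g' := by
    rw [← hKg, hK, Finset.card_eq_sum_ones]
    refine le_trans (Finset.sum_le_sum fun k hk => ?_) (Finset.sum_le_sum_of_subset (Finset.filter_subset _ _))
    exact Nat.one_le_iff_ne_zero.2 (Finset.mem_filter.1 hk).2
  obtain ⟨v₀, hv₀⟩ : ∃ v : Fin m → ℂ, v ≠ 0 :=
    ⟨fun _ => 1, fun e => one_ne_zero (congrFun e ⟨0, Nat.pos_of_ne_zero hm0⟩)⟩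
  obtain ⟨e, heS, he⟩ : ∃ e ∈ S, Q e v₀ ≠ 0 := by
    by_contra! hall
    refine hv₀ ((hQsum v₀).symm.trans (Finset.sum_eq_zero fun k hk => ?_))
    by_cases hkS : k ∈ S
    · exact hall k hkS
    · exact hA0 k (Finset.mem_range.1 hk) hkS v₀
  have hpow : 6 ^ (S.card - 1) < p := by
    refine lt_of_le_of_lt (Nat.pow_le_pow_right (by norm_num) (Nat.sub_le_sub_right
      (hScard.trans (Nat.le_of_dvd (by omega) hg'dvd)) 1)) (lt_of_le_of_ne hbig fun heq => ?_)
    have h6 : 6 ∣ p := heq ▸ dvd_pow_self 6 (by omega : g₀ - 1 ≠ 0)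
    rcases hp.eq_one_or_self_of_dvd 6 h6 with h' | h'
    · norm_num at h'
    · rw [← h'] at hp; norm_num at hp
  obtain ⟨J, hJ0, hJp, hJ⟩ := exists_power hζdef S heS
    (fun s hs => Finset.mem_range.1 (Finset.mem_filter.1 hs).1) hpow
  have hcommJ : ∀ k, (ζ ^ J) ^ k = (ζ ^ k) ^ J := fun k => pow_right_comm ζ J k
  -- all eigenvalues of `z ^ J` are near that of `e`
  have hnear : ∀ v : Fin m → ℂ, v ≠ 0 →
      ‖emb ρ (ρ (z ^ J) v) - (ζ ^ J) ^ e • emb ρ v‖ < ‖emb ρ v‖ := by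
    intro v hv
    have hvsum : ∑ k : Fin p, Q k v = v := by
      rw [Fin.sum_univ_eq_sum_range (fun k => Q k v)]; exact hQsum v
    have := CfsgLib.BlichfeldtArc.near_of_eigen ρ (z ^ J) ((ζ ^ J) ^ e) (fun k : Fin p => (ζ ^ J) ^ (k : ℕ))
      (fun k => Q k v) (fun k => by rw [hzpow, hcommJ]) (fun k l hkl hk hl heq => hkl (Fin.ext ?_))
      (fun k hk => hJ k (by_contra fun hkS => hk (hA0 k k.2 hkS v))) (by rwa [hvsum])
    · rwa [hvsum] at this
    · have hprim : IsPrimitiveRoot (ζ ^ J) p := hζ.pow_of_coprime J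
        ((hp.coprime_iff_not_dvd.2 (Nat.not_dvd_of_pos_of_lt hJ0 hJp)).symm)
      exact hprim.pow_inj k.2 l.2 heq
  have hscal := CfsgLib.BlichfeldtArc.scalar_of_near ρ (z ^ J) ⟨_, he, by rw [hzpow, hcommJ]⟩ hnear
  -- contradiction with faithfulness
  have hinj : Function.Injective ρ := by
    refine (injective_iff_map_eq_one ρ).2 fun y hy => ?_
    rcases IsSimpleGroup.eq_bot_or_eq_top_of_normal
      (CfsgLib.Blocks.charKer (⟨_, m, ρ, hρ, rfl⟩ : IrrCharacter G)) inferInstance with hk | hk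
    · have : y ∈ CfsgLib.Blocks.charKer (⟨_, m, ρ, hρ, rfl⟩ : IrrCharacter G) := by
        show ρ.character y = ρ.character 1
        simp [Representation.character, hy]
      rwa [hk, Subgroup.mem_bot] at this
    · exact absurd (CfsgLib.Blocks.eq_trivChar_of_charKer_eq_top hk) hχ1
  have hzJ : z ^ J ∈ Subgroup.center G := Subgroup.mem_center_iff.2 fun y => hinj (LinearMap.ext fun v => by
    rw [map_mul, map_mul, Module.End.mul_apply, Module.End.mul_apply, hscal, hscal, map_smul])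
  rw [CfsgLib.Blocks.center_eq_bot_of_not_comm hna, Subgroup.mem_bot, ← orderOf_dvd_iff_pow_eq_one, hzord] at hzJ
  exact absurd (Nat.le_of_dvd hJ0 hzJ) (not_le.2 hJp)

end Cfsg.Agent.S4484
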