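import Cfsg.Statements.S4486
import Cfsg.Agent.Lib.Char.TIExceptional.Main
-- import your own Cfsg.Agent.* helpers here

set_option autoImplicit false
open Cfsg
open scoped commutatorElement

namespace Cfsg.Agent.S4486

/-- Let G be a finite group and p a prime dividing its order such that every non-identity element of a Sylow p-subgroup P has the same centralizer as P; let p^n be the order of P. If G has a non-principal irreducible character χ of degree x with x² < p^n − 1, then either G has a proper normal subgroup containing P, or G has a normal subgroup of index p^n and x = 1. -/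
theorem result {G : Type*} [Group G] [Finite G] (p : ℕ) (hp : p.Prime) (hpG : p ∣ Nat.card G) (P : Sylow p G) (hstar : ∀ x ∈ (P : Subgroup G), x ≠ 1 → Subgroup.centralizer ({x} : Set G) = Subgroup.centralizer ((P : Subgroup G) : Set G)) (n : ℕ) (hn : Nat.card P = p ^ n) (χ : Cfsg.IrrCharacter G) (h1 : (χ : G → ℂ) ≠ fun _ => 1) (hdeg : Cfsg.charDegree (χ : G → ℂ) ^ 2 + 1 < p ^ n) : (∃ K : Subgroup G, K.Normal ∧ K ≠ ⊤ ∧ (P : Subgroup G) ≤ K) ∨ ((∃ N : Subgroup G, N.Normal ∧ N.index = p ^ n) ∧ Cfsg.charDegree (χ : G → ℂ) = 1) := by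
  classical
  haveI : Fact p.Prime := ⟨hp⟩
  haveI := Fintype.ofFinite G
  by_cases hK : Subgroup.normalClosure ((P : Subgroup G) : Set G) = ⊤
  swap
  · exact Or.inl ⟨_, Subgroup.normalClosure_normal, hK, Subgroup.le_normalClosure⟩
  have hgen : ∀ H : Subgroup G, H.Normal → (P : Subgroup G) ≤ H → H = ⊤ := fun H hH hPH =>
    top_le_iff.1 (hK ▸ Subgroup.normalClosure_le_normal hPH)
  have hcomm : ∀ x ∈ (P : Subgroup G), ∀ k, (χ : G → ℂ) (k * x * k⁻¹ * x⁻¹) = (χ : G → ℂ) 1 :=
    fun x hx k => CfsgLib.TIExceptional.apply_commutator_eq hp P.isPGroup' P.not_dvd_index hstar hgen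
      (CfsgLib.Char.IsIrr.isCharacter χ.2) (by rw [hn]; exact hdeg) hx k
  set N := CfsgLib.CharDegree.kerSubgroup χ with hN
  haveI : N.Normal := CfsgLib.CharDegree.kerSubgroup_normal χ
  set H := (Subgroup.center (G ⧸ N)).comap (QuotientGroup.mk' N) with hH
  have hPH : (P : Subgroup G) ≤ H := by
    intro x hx
    rw [hH, Subgroup.mem_comap, Subgroup.mem_center_iff]
    intro a
    induction a using QuotientGroup.induction_on with
    | H k =>
      have h1 : QuotientGroup.mk' N (k * x * k⁻¹ * x⁻¹) = 1 :=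
        (QuotientGroup.eq_one_iff _).2 (CfsgLib.CharDegree.mem_kerSubgroup.2 (hcomm x hx k))
      rw [map_mul, map_mul, map_mul, map_inv, map_inv, mul_inv_eq_one, mul_inv_eq_iff_eq_mul] at h1
      exact h1
  have htop := hgen H inferInstance hPH
  have hab : ∀ a b : G ⧸ N, a * b = b * a := by
    intro a b
    obtain ⟨g, rfl⟩ := QuotientGroup.mk'_surjective N a
    have : QuotientGroup.mk' N g ∈ Subgroup.center (G ⧸ N) := by
      rw [← Subgroup.mem_comap, ← hH, htop]; trivial
    exact (Subgroup.mem_center_iff.1 this b).symm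
  have hx1 : charDegree (χ : G → ℂ) = 1 := by
    refine (CfsgLib.CharDegree.charDegree_eq_one_iff_commutator χ).2 fun g hg => ?_
    refine CfsgLib.CharDegree.mem_kerSubgroup.1 ((?_ : commutator G ≤ N) hg)
    rw [commutator_def, Subgroup.commutator_le]
    intro a _ b _
    refine (QuotientGroup.eq_one_iff _).1 ?_
    show QuotientGroup.mk' N ⁅a, b⁆ = 1
    rw [map_commutatorElement, commutatorElement_eq_one_iff_mul_comm, hab]
  obtain ⟨l, hl⟩ := CfsgLib.CharDegree.exists_hom_of_degree_one χ hx1
  obtain ⟨x₀, hx₀, hlx⟩ : ∃ x ∈ (P : Subgroup G), l x ≠ 1 := by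
    by_contra hcon
    push Not at hcon
    have := hgen l.ker inferInstance hcon
    refine h1 (funext fun g => ?_)
    rw [hl]
    have hg : g ∈ l.ker := this ▸ Subgroup.mem_top g
    simp [MonoidHom.mem_ker.1 hg]
  have hNC := CfsgLib.TIExceptional.normalizer_le_centralizer hp P.isPGroup' P.not_dvd_index hstar l
    hx₀ hlx
  refine Or.inr ⟨⟨_, inferInstance,
    (MonoidHom.ker_transferSylow_isComplement' P hNC).symm.index_eq_card.trans hn⟩, hx1⟩

end Cfsg.Agent.S4486
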