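import Cfsg.Statements.S4487
import Cfsg.Agent.Lib.Pairs.Support
import Cfsg.Agent.Lib.Core.Cores
-- import your own Cfsg.Agent.* helpers here

set_option autoImplicit false
open Cfsg

namespace Cfsg.Agent.S4487

/-- Let G be a finite group and p a prime such that G has no non-trivial normal subgroup of order prime to p and C_G(O_p(G)) ≤ O_p(G). Then G has a single p-block: any two irreducible characters lie in the same block relative to every maximal ideal M of the algebraic integers containing p. -/
theorem result {G : Type*} [Group G] [Finite G] (p : ℕ) [Fact p.Prime] (M : Ideal Cfsg.AlgInt) (hM : Cfsg.IsPModular p M) (hcore : Cfsg.pPrimeCore p G = ⊥) (hconstr : Subgroup.centralizer ((Cfsg.pCore p G) : Set G) ≤ Cfsg.pCore p G) (χ ψ : Cfsg.IrrCharacter G) : Cfsg.SameBlock M (χ : G → ℂ) (ψ : G → ℂ) := by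
  classical
  have : Fintype G := Fintype.ofFinite G
  have := hM.2.1.isPrime
  have hP : IsPGroup p (Cfsg.pCore p G) := CfsgLib.Core.isPGroup_pCore p G
  have hPn : (Cfsg.pCore p G).Normal := inferInstance
  have key : ∀ B : Set (Cfsg.IrrCharacter G), Cfsg.IsPBlock M B → ψ ∈ B := by
    intro B hB
    set a := CfsgLib.Blocks.blockIdemBar M B with ha
    have hsupp : ∀ g : G, g ≠ 1 → a.coeff g = 0 := by
      intro g hg
      by_contra hne
      have hreg := CfsgLib.CharAction.isPRegular_of_coeff_ne_zero hM hB hne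
      refine hne ((CfsgLib.Blocks.coeff_blockIdemBar_eq_zero_iff hB).2 ?_)
      rw [CfsgLib.Pairs.blockCoeff_eq_zero_of_notMem hM hP hB fun hc => hg ?_]
      · exact CfsgLib.Blocks.memLocalIdeal_iff_not_isUnit
          (z := (0 : CfsgLib.Blocks.localRing M)) |>.2 not_isUnit_zero
      · obtain ⟨k, hk⟩ := (IsPGroup.iff_orderOf.1 hP) ⟨g, hconstr hc⟩
        rw [Subgroup.orderOf_mk] at hk
        have h0 : k = 0 := by
          by_contra h0
          exact hreg (hk ▸ dvd_pow_self p h0)
        rw [h0, pow_zero] at hk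
        exact orderOf_eq_one_iff.1 hk
    have heq : a = a.coeff 1 • (1 : MonoidAlgebra _ G) := by
      refine MonoidAlgebra.ext (Finsupp.ext fun g => ?_)
      rw [MonoidAlgebra.coeff_smul, MonoidAlgebra.one_def, MonoidAlgebra.coeff_single,
        Finsupp.smul_apply, Finsupp.single_apply, smul_eq_mul]
      split_ifs with h
      · rw [← h, mul_one]
      · rw [mul_zero, hsupp g (Ne.symm h)]
    obtain ⟨θ, hθ⟩ := CfsgLib.Blocks.IsPBlock.nonempty hB
    have h1 := CfsgLib.Blocks.omegaBar_blockIdemBar (M := M) hB θ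
    rw [← ha, heq, CfsgLib.Blocks.omegaBar_smul, CfsgLib.Blocks.omegaBar_one, mul_one,
      if_pos hθ] at h1
    have h2 := CfsgLib.Blocks.omegaBar_blockIdemBar (M := M) hB ψ
    rw [← ha, heq, CfsgLib.Blocks.omegaBar_smul, CfsgLib.Blocks.omegaBar_one, mul_one, h1] at h2
    by_contra hn
    rw [if_neg hn] at h2
    exact one_ne_zero h2
  exact CfsgLib.Blocks.mem_blockOf.1 (key _ (CfsgLib.Blocks.isPBlock_blockOf χ))

end Cfsg.Agent.S4487
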