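import Cfsg.Statements.S4490
import Cfsg.Agent.Lib.CharAction.DefectCount
-- import your own Cfsg.Agent.* helpers here

set_option autoImplicit false
open Cfsg

namespace Cfsg.Agent.S4490

/-- Let G be a finite group and M a maximal ideal of the algebraic integers containing 2. Every 2-block B of G whose defect groups are the Sylow 2-subgroups of G (a block of full defect) and which is not the principal block is different from its complex-conjugate block, the block formed by the complex conjugates of the members of B. -/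
theorem result {G : Type*} [Group G] [Finite G] (M : Ideal Cfsg.AlgInt) (hM : Cfsg.IsPModular 2 M) (B : Set (Cfsg.IrrCharacter G)) (hB : Cfsg.IsPBlock M B) (P : Sylow 2 G) (hfull : Cfsg.IsDefectGroup 2 M B (P : Subgroup G)) (hnp : B ≠ Cfsg.principalBlock M G) : {ψ : Cfsg.IrrCharacter G | ∃ χ ∈ B, (ψ : G → ℂ) = fun g => (starRingEnd ℂ) ((χ : G → ℂ) g)} ≠ B := by
  classical
  have : Fintype G := Fintype.ofFinite G
  have : M.IsPrime := hM.2.1.isPrime
  have : Fact (Nat.Prime 2) := ⟨Nat.prime_two⟩
  intro heq
  obtain ⟨g, hg, hle, hs⟩ := CfsgLib.Blocks.isDefectGroup_iff.1 hfull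
  obtain ⟨χ, hχ, hdeg⟩ := CfsgLib.Blocks.IsDefectClass.exists_index_eq hM hB hg
  have hodd : ¬ 2 ∣ Cfsg.charDegree (χ : G → ℂ) := by
    intro h2
    have h1 := Nat.prime_two.factorization_pos_of_dvd (CfsgLib.Blocks.charDegree_pos χ).ne' h2
    rw [hdeg, Nat.factorization_eq_zero_of_not_dvd] at h1
    · omega
    · intro hd
      exact Sylow.not_dvd_index P (hd.trans (Subgroup.index_dvd_of_le hle))
  refine hnp (CfsgLib.CharAction.eq_principalBlock_of_conj hM hB hχ hodd fun ψ hψ => ?_)
  rw [← heq]
  exact ⟨ψ, hψ, funext fun g => CfsgLib.Char.conjIrr_apply ψ g⟩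

end Cfsg.Agent.S4490
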