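import Cfsg.Statements.S4493
import Cfsg.Agent.Lib.CharDegree.ItoMichler
-- import your own Cfsg.Agent.* helpers here

set_option autoImplicit false
open Cfsg

namespace Cfsg.Agent.S4493

/-- Let G be a finite solvable group and p a prime. Then G has a normal abelian Sylow p-subgroup if and only if no irreducible character degree of G is divisible by p. -/
theorem result {G : Type*} [Group G] [Finite G] (hsolv : Group.IsSolvable G) (p : ℕ) (hp : p.Prime) : (∃ P : Subgroup G, P.Normal ∧ (∀ x ∈ P, ∀ y ∈ P, x * y = y * x) ∧ IsPGroup p P ∧ ¬ p ∣ P.index) ↔ ∀ χ : Cfsg.IrrCharacter G, ¬ p ∣ Cfsg.charDegree (χ : G → ℂ) := by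
  have : Fact p.Prime := ⟨hp⟩
  obtain ⟨P⟩ : Nonempty (Sylow p G) := inferInstance
  have h := CfsgLib.CharDegree.itoMichler (Or.inr hsolv) P
  refine ⟨fun ⟨Q, hQn, hQc, hQp, hQi⟩ => h.1 ?_, fun hd => ?_⟩
  · have hPQ : (P : Subgroup G) ≤ Q := Subgroup.relIndex_eq_one.1 (by
      obtain ⟨k, hk⟩ := IsPGroup.iff_card.1 P.2
      obtain ⟨j, -, hj⟩ := (Nat.dvd_prime_pow hp).1 (hk ▸ Subgroup.relIndex_dvd_card Q P)
      rcases j with _ | j
      · simpa using hj
      · exact absurd ((dvd_pow_self p (Nat.succ_ne_zero j)).trans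
          (hj ▸ Subgroup.relIndex_dvd_index_of_normal Q P)) hQi)
    have hgP : Q = P := le_antisymm (hQp.le_sylow_of_normal P) hPQ
    subst hgP
    exact ⟨hQn, ⟨⟨fun a b => Subtype.ext (hQc a a.2 b b.2)⟩⟩⟩
  · obtain ⟨hn, hc⟩ := h.2 hd
    exact ⟨P, hn, fun x hx y hy => congrArg Subtype.val (hc.1.comm (⟨x, hx⟩ : P) ⟨y, hy⟩),
      P.2, Sylow.not_dvd_index P⟩

end Cfsg.Agent.S4493
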