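import Cfsg.Statements.S4495
import Cfsg.Agent.Lib.CharDegree.SelfCentralPrimeClasses
-- import your own Cfsg.Agent.* helpers here

set_option autoImplicit false
open Cfsg

namespace Cfsg.Agent.S4495

/-- Let the finite group G contain an element x of prime order p with C_G(x) = ⟨x⟩, and let t be the number of conjugacy classes of elements of order p. If t ≠ p − 1 then the commutator subgroup has index at most (p − 1)/t; if t = p − 1 it has index exactly p. -/
theorem result {G : Type*} [Group G] [Finite G] (p : ℕ) (hp : p.Prime) (x : G) (hx : orderOf x = p) (hC : Subgroup.centralizer ({x} : Set G) = Subgroup.zpowers x) (t : ℕ) (ht : Nat.card {C : ConjClasses G // ∃ g ∈ C.carrier, orderOf g = p} = t) : (t ≠ p - 1 → (commutator G).index * t ≤ p - 1) ∧ (t = p - 1 → (commutator G).index = p) := by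
  have := Fact.mk hp
  have hc := CfsgLib.SelfCentralPrime.count_classes hx hC
  rw [ht] at hc
  have hp2 := hp.two_le
  set e := (Subgroup.zpowers x).relIndex (Subgroup.normalizer (Subgroup.zpowers x : Set G)) with he
  have ht0 : t ≠ 0 := fun h => by rw [h, zero_mul] at hc; omega
  have he1 : e = 1 ↔ Subgroup.normalizer (Subgroup.zpowers x : Set G) = Subgroup.zpowers x := by
    rw [he, Subgroup.relIndex_eq_one]
    exact ⟨fun h => le_antisymm h Subgroup.le_normalizer, fun h => h.le⟩
  have hiff : t = p - 1 ↔ e = 1 := ⟨fun h => by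
      rw [h] at hc; exact mul_left_cancel₀ (by omega) (hc.trans (mul_one _).symm),
    fun h => by rw [h, mul_one] at hc; exact hc⟩
  have hcases := CfsgLib.SelfCentralPrime.commutator_cases hx hC
  refine ⟨fun h => ?_, fun h => ?_⟩
  · rcases hcases with ⟨-, -, hn⟩ | ⟨-, hdvd, -⟩
    · exact absurd (hiff.2 (he1.2 hn)) h
    · have hpos : 0 < e := Nat.pos_of_ne_zero fun h0 => by rw [h0, mul_zero] at hc; omega
      calc (commutator G).index * t ≤ e * t := Nat.mul_le_mul_right t (Nat.le_of_dvd hpos hdvd)
        _ = p - 1 := by rw [mul_comm]; exact hc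
  · rcases hcases with ⟨-, hidx, -⟩ | ⟨-, -, hn⟩
    · exact hidx
    · exact absurd (he1.1 (hiff.1 h)) hn

end Cfsg.Agent.S4495
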