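import Cfsg.Statements.S4497
import Cfsg.Agent.Lib.CharDegree.SelfCentralPrimeClasses
import Cfsg.Agent.Lib.Core.Cores
-- import your own Cfsg.Agent.* helpers here

set_option autoImplicit false
open Cfsg
open scoped commutatorElement

namespace Cfsg.Agent.S4497

/-- Let the finite group G contain an element x of prime order p with C_G(x) = ⟨x⟩, let t be the number of conjugacy classes of elements of order p, and let S* = O_{p′}(G) be the largest normal subgroup of order prime to p. Then S* ≤ G′; if t ≠ p − 1 the quotient G′/S* is simple (in particular non-trivial); if t = p − 1 then G′ = S*. -/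
theorem result {G : Type*} [Group G] [Finite G] (p : ℕ) (hp : p.Prime) (x : G) (hx : orderOf x = p) (hC : Subgroup.centralizer ({x} : Set G) = Subgroup.zpowers x) (t : ℕ) (ht : Nat.card {C : ConjClasses G // ∃ g ∈ C.carrier, orderOf g = p} = t) : Cfsg.pPrimeCore p G ≤ commutator G ∧ (t ≠ p - 1 → ∀ h : ((Cfsg.pPrimeCore p G).subgroupOf (commutator G)).Normal, IsSimpleGroup (↥(commutator G) ⧸ (Cfsg.pPrimeCore p G).subgroupOf (commutator G))) ∧ (t = p - 1 → commutator G = Cfsg.pPrimeCore p G) := by
  have := Fact.mk hp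
  have hc := CfsgLib.SelfCentralPrime.count_classes hx hC
  rw [ht] at hc
  have hp2 := hp.two_le
  set e := (Subgroup.zpowers x).relIndex (Subgroup.normalizer (Subgroup.zpowers x : Set G)) with he
  have ht0 : t ≠ 0 := fun h => by rw [h, zero_mul] at hc; omega
  have he1 : e = 1 ↔ Subgroup.normalizer (Subgroup.zpowers x : Set G) = Subgroup.zpowers x := by
    rw [he, Subgroup.relIndex_eq_one]
    exact ⟨fun h => le_antisymm h Subgroup.le_normalizer, fun h => h.le⟩
  have hiff : t = p - 1 ↔ e = 1 := ⟨fun h => by
      rw [h] at hc; exact mul_left_cancel₀ (by omega) (hc.trans (mul_one _).symm),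
    fun h => by rw [h, mul_one] at hc; exact hc⟩
  have hcases := CfsgLib.SelfCentralPrime.commutator_cases hx hC
  set S := Cfsg.pPrimeCore p G with hSdef
  have : S.Normal := by
    rw [hSdef]
    infer_instance
  have hSd : ¬ p ∣ Nat.card S := by
    have := CfsgLib.Core.coprime_card_pPrimeCore p G
    exact fun hd => hp.ne_one (Nat.dvd_one.1 (this ▸ Nat.dvd_gcd hd dvd_rfl))
  have hle : S ≤ commutator G := by
    have hinj : Function.Injective (fun s : S => (⟨(s : G) * (x * (s : G)⁻¹ * x⁻¹),
        mul_mem s.2 (Subgroup.Normal.conj_mem ‹_› _ (inv_mem s.2) x)⟩ : S)) := by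
      intro s t h
      have h' : (s : G) * (x * (s : G)⁻¹ * x⁻¹) = t * (x * (t : G)⁻¹ * x⁻¹) :=
        congrArg Subtype.val h
      have := CfsgLib.SelfCentralPrime.eq_one_of_mem hx hC S hSd (mul_mem (inv_mem t.2) s.2) (by
        calc (t : G)⁻¹ * s * x = (t : G)⁻¹ * ((s : G) * (x * (s : G)⁻¹ * x⁻¹)) * x * s := by group
          _ = x * ((t : G)⁻¹ * s) := by rw [h']; group)
      exact Subtype.ext (inv_mul_eq_one.1 this).symm
    intro y hy
    obtain ⟨s, hs⟩ := Finite.injective_iff_surjective.1 hinj ⟨y, hy⟩
    have hs' : (s : G) * (x * (s : G)⁻¹ * x⁻¹) = y := congrArg Subtype.val hs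
    rw [← hs', show (s : G) * (x * (s : G)⁻¹ * x⁻¹) = ⁅(s : G), x⁆ by
      simp [commutatorElement_def, mul_assoc], commutator_def]
    exact Subgroup.commutator_mem_commutator (Subgroup.mem_top _) (Subgroup.mem_top _)
  refine ⟨hle, fun h hSn => ?_, fun h => ?_⟩
  · rcases hcases with ⟨-, -, hn⟩ | ⟨hxG, -, -⟩
    · exact absurd (hiff.2 (he1.2 hn)) h
    set D := commutator G with hD
    let x' : D := ⟨x, hxG⟩
    have hx' : orderOf x' = p := by rw [← Subgroup.orderOf_coe]; exact hx
    have hC' : Subgroup.centralizer ({x'} : Set D) = Subgroup.zpowers x' := by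
      ext y
      rw [Subgroup.mem_centralizer_iff]
      constructor
      · intro hy
        have hy' : (y : G) ∈ Subgroup.centralizer ({x} : Set G) := by
          rw [Subgroup.mem_centralizer_iff]
          rintro z rfl
          exact congrArg Subtype.val (hy x' rfl)
        rw [hC] at hy'
        obtain ⟨k, hk⟩ := hy'
        exact ⟨k, Subtype.ext hk⟩
      · rintro ⟨k, rfl⟩ z rfl
        exact ((Commute.refl x').zpow_right k).eq
    have hSD : ¬ p ∣ Nat.card (S.subgroupOf D) := by
      rwa [Nat.card_congr (Subgroup.subgroupOfEquivOfLe hle).toEquiv]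
    have hnt : Nontrivial (↥D ⧸ S.subgroupOf D) :=
      nontrivial_iff.2 ⟨(x' : ↥D ⧸ S.subgroupOf D), 1, fun h1 => hp.ne_one (by
        have hh := (CfsgLib.SelfCentralPrime.centralizer_mk hx' hC' _ hSD).1
        rw [h1, orderOf_one] at hh
        exact hh.symm)⟩
    refine ⟨fun T hT => ?_⟩
    let T' : Subgroup D := T.comap (QuotientGroup.mk' (S.subgroupOf D))
    have hT' : T'.Normal := hT.comap _
    have hTeq : T'.map (QuotientGroup.mk' (S.subgroupOf D)) = T :=
      Subgroup.map_comap_eq_self_of_surjective (QuotientGroup.mk'_surjective _) T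
    by_cases hpT : p ∣ Nat.card T'
    · obtain ⟨hxT, hcomm⟩ := CfsgLib.SelfCentralPrime.commutator_le hx' hC' T' hpT
      right
      rw [← hTeq]
      have hD2n : ((commutator D).map D.subtype).Normal := inferInstance
      have hcard : Nat.card ((commutator D).map D.subtype) = Nat.card (commutator D) :=
        (Nat.card_congr ((commutator D).equivMapOfInjective D.subtype D.subtype_injective).toEquiv).symm
      by_cases hpD : p ∣ Nat.card (commutator D)
      · have h1 := (CfsgLib.SelfCentralPrime.commutator_le hx hC _ (hcard ▸ hpD)).2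
        have htop : T' = ⊤ := by
          rw [eq_top_iff]
          intro y _
          obtain ⟨z, hz, hzy⟩ := h1 y.2
          exact hcomm ((Subtype.ext hzy : z = y) ▸ hz)
        rw [htop, ← MonoidHom.range_eq_map,
          MonoidHom.range_eq_top.2 (QuotientGroup.mk'_surjective _)]
      · have h1 : (commutator D).map D.subtype ≤ S :=
          CfsgLib.Core.le_pPrimeCore (((Nat.Prime.coprime_iff_not_dvd hp).2 (hcard.symm ▸ hpD)).symm)
        obtain ⟨-, hcent⟩ := CfsgLib.SelfCentralPrime.centralizer_mk hx' hC' _ hSD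
        rw [eq_top_iff]
        intro q _
        obtain ⟨y, rfl⟩ := QuotientGroup.mk_surjective q
        have hy : (y : ↥D ⧸ S.subgroupOf D) ∈
            Subgroup.centralizer ({(x' : ↥D ⧸ S.subgroupOf D)} : Set _) := by
          rw [Subgroup.mem_centralizer_iff]
          rintro z rfl
          rw [← QuotientGroup.mk_mul, ← QuotientGroup.mk_mul, QuotientGroup.eq,
            Subgroup.mem_subgroupOf]
          refine h1 ⟨(x' * y)⁻¹ * (y * x'), ?_, rfl⟩
          rw [commutator_def]
          have := Subgroup.commutator_mem_commutator (Subgroup.mem_top y⁻¹) (Subgroup.mem_top x'⁻¹)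
            (H₁ := (⊤ : Subgroup D)) (H₂ := (⊤ : Subgroup D))
          simpa [commutatorElement_def, mul_assoc] using this
        rw [hcent] at hy
        exact Subgroup.zpowers_le.2 (Subgroup.mem_map_of_mem _ hxT) hy
    · left
      rw [← hTeq, ← le_bot_iff, Subgroup.map_le_iff_le_comap, MonoidHom.comap_bot,
        QuotientGroup.ker_mk']
      have hcop : (Nat.card T').Coprime p := ((Nat.Prime.coprime_iff_not_dvd hp).2 hpT).symm
      intro y hy
      rw [Subgroup.mem_subgroupOf]
      exact CfsgLib.Core.map_subtype_pPrimeCore_le D ⟨y, CfsgLib.Core.le_pPrimeCore hcop hy, rfl⟩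
  · rcases hcases with ⟨hd, -, -⟩ | ⟨-, -, hn⟩
    · exact le_antisymm (CfsgLib.Core.le_pPrimeCore ((Nat.Prime.coprime_iff_not_dvd hp).2 hd).symm) hle
    · exact absurd (he1.1 (hiff.1 h)) hn

end Cfsg.Agent.S4497
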